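import Mathlib
import Cfsg.Prelude.Def_ClassificationK
import Cfsg.Agent.Lib_helper7_FStar
import Cfsg.Agent.Lib_helper19_S1774a

set_option autoImplicit false
open Cfsg

namespace Cfsg.Agent.helper19.S1774b

variable {G : Type*} [Group G]

/-- The bridge for S1774: the structure facts of `Q = F*(C_G(z))` (as a subgroup of `G`). -/
theorem bridge [Finite G] (z : G) (hz : orderOf z = 2)
    (hQ : Cfsg.IsOfSymplecticType
      ↥(Cfsg.generalizedFittingSubgroup ↥(Subgroup.centralizer ({z} : Set G))))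
    (h4 : ∀ q ∈ (Cfsg.generalizedFittingSubgroup ↥(Subgroup.centralizer ({z} : Set G))).map
      (Subgroup.centralizer ({z} : Set G)).subtype, q ^ 4 = 1) :
    (∀ q ∈ (Cfsg.generalizedFittingSubgroup ↥(Subgroup.centralizer ({z} : Set G))).map
      (Subgroup.centralizer ({z} : Set G)).subtype, q * z = z * q) ∧
    (∀ h : G, h * z = z * h →
      ∀ q ∈ (Cfsg.generalizedFittingSubgroup ↥(Subgroup.centralizer ({z} : Set G))).map
        (Subgroup.centralizer ({z} : Set G)).subtype,
      h * q * h⁻¹ ∈ (Cfsg.generalizedFittingSubgroup ↥(Subgroup.centralizer ({z} : Set G))).map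
        (Subgroup.centralizer ({z} : Set G)).subtype) ∧
    (∀ h : G, h * z = z * h →
      (∀ q ∈ (Cfsg.generalizedFittingSubgroup ↥(Subgroup.centralizer ({z} : Set G))).map
        (Subgroup.centralizer ({z} : Set G)).subtype, h * q = q * h) →
      h ∈ (Cfsg.generalizedFittingSubgroup ↥(Subgroup.centralizer ({z} : Set G))).map
        (Subgroup.centralizer ({z} : Set G)).subtype) ∧
    (∀ a ∈ (Cfsg.generalizedFittingSubgroup ↥(Subgroup.centralizer ({z} : Set G))).map
        (Subgroup.centralizer ({z} : Set G)).subtype,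
      ∀ b ∈ (Cfsg.generalizedFittingSubgroup ↥(Subgroup.centralizer ({z} : Set G))).map
        (Subgroup.centralizer ({z} : Set G)).subtype,
      a * b * a⁻¹ * b⁻¹ = 1 ∨ a * b * a⁻¹ * b⁻¹ = z) ∧
    (∀ c ∈ (Cfsg.generalizedFittingSubgroup ↥(Subgroup.centralizer ({z} : Set G))).map
        (Subgroup.centralizer ({z} : Set G)).subtype,
      (∀ q ∈ (Cfsg.generalizedFittingSubgroup ↥(Subgroup.centralizer ({z} : Set G))).map
        (Subgroup.centralizer ({z} : Set G)).subtype, c * q = q * c) → c * c = 1 →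
      c = 1 ∨ c = z) := by
  classical
  set H : Subgroup G := Subgroup.centralizer ({z} : Set G) with hH
  set F : Subgroup ↥H := Cfsg.generalizedFittingSubgroup ↥H with hF
  set Q : Subgroup G := F.map H.subtype with hQdef
  have hQeq : Q = Cfsg.Agent.helper7.fstarOf H :=
    Cfsg.Agent.helper7.map_generalizedFittingSubgroup_eq H
  have hmemH : ∀ h : G, h ∈ H ↔ h * z = z * h := by
    intro h
    rw [hH, Subgroup.mem_centralizer_iff]
    constructor
    · intro hh; exact (hh z rfl).symm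
    · intro hh m hm
      rw [Set.mem_singleton_iff] at hm
      subst hm; exact hh.symm
  have hQleH : Q ≤ H := by
    rw [hQeq]; exact Cfsg.Agent.helper7.fstarOf_le H
  -- 1
  have hQH : ∀ q ∈ Q, q * z = z * q := fun q hq => (hmemH q).mp (hQleH hq)
  -- 2
  have hnorm : ∀ h : G, h * z = z * h → ∀ q ∈ Q, h * q * h⁻¹ ∈ Q := by
    intro h hh q hq
    have h1 : h ∈ Subgroup.normalizer ((Q : Subgroup G) : Set G) := by
      rw [hQeq]; exact Cfsg.Agent.helper7.fstarOf_normal H ((hmemH h).mpr hh)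
    exact (Subgroup.mem_normalizer_iff.mp h1 q).mp hq
  -- 3
  have hself : ∀ h : G, h * z = z * h → (∀ q ∈ Q, h * q = q * h) → h ∈ Q := by
    intro h hh hc
    rw [hQeq]
    apply Cfsg.Agent.helper7.centralizer_fstarOf_le H
    refine ⟨(hmemH h).mpr hh, ?_⟩
    show h ∈ Subgroup.centralizer ((Cfsg.Agent.helper7.fstarOf H : Subgroup G) : Set G)
    rw [Subgroup.mem_centralizer_iff]
    intro q hq
    rw [SetLike.mem_coe, ← hQeq] at hq
    exact (hc q hq).symm
  have hzQ : z ∈ Q := hself z rfl (fun q hq => (hQH q hq).symm)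
  -- the element of T = ↥F corresponding to z
  obtain ⟨zH, hzHF, hzH⟩ := Subgroup.mem_map.mp hzQ
  have hzHval : (zH : G) = z := hzH
  -- transport
  have hval : ∀ q ∈ Q, ∃ q' : ↥F, ((q' : ↥H) : G) = q := by
    intro q hq
    obtain ⟨qH, hqHF, hqH⟩ := Subgroup.mem_map.mp hq
    exact ⟨⟨qH, hqHF⟩, hqH⟩
  have hmemQ : ∀ q' : ↥F, ((q' : ↥H) : G) ∈ Q := by
    intro q'
    exact Subgroup.mem_map.mpr ⟨(q' : ↥H), q'.2, rfl⟩
  have hinj : ∀ a b : ↥F, ((a : ↥H) : G) = ((b : ↥H) : G) → a = b := by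
    intro a b hab
    exact Subtype.ext (Subtype.ext hab)
  have hzT : orderOf (⟨zH, hzHF⟩ : ↥F) = 2 := by
    rw [← hz, ← hzHval, ← Subgroup.orderOf_coe, ← Subgroup.orderOf_coe]
  have hzcT : ∀ q : ↥F, q * (⟨zH, hzHF⟩ : ↥F) = (⟨zH, hzHF⟩ : ↥F) * q := by
    intro q
    apply hinj
    simp only [Subgroup.coe_mul]
    rw [hzHval]
    exact hQH _ (hmemQ q)
  have h4T : ∀ q : ↥F, q ^ 4 = 1 := by
    intro q
    apply hinj
    simp only [Subgroup.coe_pow, Subgroup.coe_one]
    exact h4 _ (hmemQ q)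
  refine ⟨hQH, hnorm, hself, ?_, ?_⟩
  · -- 4
    intro a ha b hb
    obtain ⟨a', rfl⟩ := hval a ha
    obtain ⟨b', rfl⟩ := hval b hb
    rcases Cfsg.Agent.helper19.S1774a.comm_mem hQ h4T ⟨zH, hzHF⟩ hzT hzcT a' b' with h | h
    · left
      have := congrArg (fun w : ↥F => ((w : ↥H) : G)) h
      simpa using this
    · right
      have := congrArg (fun w : ↥F => ((w : ↥H) : G)) h
      simp only [Subgroup.coe_mul, Subgroup.coe_inv] at this
      rw [this]; exact hzHval
  · -- 5
    intro c hc hcc hc2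
    obtain ⟨c', rfl⟩ := hval c hc
    have hccT : ∀ q : ↥F, c' * q = q * c' := by
      intro q
      apply hinj
      simp only [Subgroup.coe_mul]
      exact hcc _ (hmemQ q)
    have hc2T : c' * c' = 1 := by
      apply hinj
      simp only [Subgroup.coe_mul, Subgroup.coe_one]
      exact hc2
    rcases Cfsg.Agent.helper19.S1774a.central_inv hQ.2 ⟨zH, hzHF⟩ hzT hzcT c' hccT hc2T with h | h
    · left
      rw [h]; rfl
    · right
      rw [h]; exact hzHval

end Cfsg.Agent.helper19.S1774b
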