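import Mathlib

set_option autoImplicit false

namespace Cfsg.Agent.helper19.S1774c

variable {G : Type*} [Group G]

/-- Step (c) of S1774: an involution `x` of `C_G(z)` centralizing `R0 = C_Q(t)` lies in `{z,t,zt}`. -/
theorem inv_mem_V (z t q0 x : G) (Q : Subgroup G)
    (hz2 : z * z = 1) (ht2 : t * t = 1)
    (hQH : ∀ q ∈ Q, q * z = z * q)
    (hnorm : ∀ h : G, h * z = z * h → ∀ q ∈ Q, h * q * h⁻¹ ∈ Q)
    (hself : ∀ h : G, h * z = z * h → (∀ q ∈ Q, h * q = q * h) → h ∈ Q)
    (hcomm : ∀ a ∈ Q, ∀ b ∈ Q, a * b * a⁻¹ * b⁻¹ = 1 ∨ a * b * a⁻¹ * b⁻¹ = z)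
    (hinv : ∀ c ∈ Q, (∀ q ∈ Q, c * q = q * c) → c * c = 1 → c = 1 ∨ c = z)
    (htQ : t ∈ Q) (hq0 : q0 ∈ Q) (hq0t : q0 * t * q0⁻¹ ≠ t)
    (hxz : x * z = z * x) (hx2 : x * x = 1) (hx1 : x ≠ 1)
    (hxR : ∀ r ∈ Q, r * t = t * r → x * r = r * x) :
    x = z ∨ x = t ∨ x = z * t := by
  have hzinv : z⁻¹ = z := inv_eq_of_mul_eq_one_left hz2
  have htinv : t⁻¹ = t := inv_eq_of_mul_eq_one_left ht2
  have hxinv : x⁻¹ = x := inv_eq_of_mul_eq_one_left hx2
  have htz : t * z = z * t := hQH t htQ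
  have hq0z : q0 * z = z * q0 := hQH q0 hq0
  -- q0 t q0⁻¹ = z t
  have h1 : q0 * t * q0⁻¹ * t⁻¹ = z := by
    rcases hcomm q0 hq0 t htQ with h | h
    · exfalso
      apply hq0t
      have := congrArg (· * t) h
      simpa using this
    · exact h
  have hq0t' : q0 * t * q0⁻¹ = z * t := by
    rw [← h1]; group
  have hq0t'' : q0 * t = z * t * q0 := by
    rw [← hq0t']; group
  have hxt : x * t = t * x := hxR t htQ rfl
  -- decomposition of Q
  have hdec : ∀ q ∈ Q, q * t = t * q ∨ (q0⁻¹ * q) * t = t * (q0⁻¹ * q) := by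
    intro q hq
    rcases hcomm q hq t htQ with h | h
    · left
      have := congrArg (· * t * q) h
      simpa [mul_assoc] using this
    · right
      have hq' : q * t * q⁻¹ = z * t := by
        rw [← h]; group
      have hq'' : q * t = z * t * q := by
        rw [← hq']; group
      -- q0⁻¹ q t = q0⁻¹ z t q = z q0⁻¹ t q ; and q0⁻¹ z t = t q0⁻¹
      have h2 : q0⁻¹ * (z * t) = t * q0⁻¹ := by
        have : q0⁻¹ * (q0 * t) * q0⁻¹ = q0⁻¹ * (z * t * q0) * q0⁻¹ := by rw [hq0t'']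
        rw [show q0⁻¹ * (q0 * t) * q0⁻¹ = t * q0⁻¹ by group,
          show q0⁻¹ * (z * t * q0) * q0⁻¹ = q0⁻¹ * (z * t) by group] at this
        exact this.symm
      calc q0⁻¹ * q * t = q0⁻¹ * (q * t) := by group
        _ = q0⁻¹ * (z * t * q) := by rw [hq'']
        _ = (q0⁻¹ * (z * t)) * q := by group
        _ = (t * q0⁻¹) * q := by rw [h2]
        _ = t * (q0⁻¹ * q) := by group
  -- anything commuting with R0 and q0 commutes with Q
  have hcen : ∀ w : G, (∀ r ∈ Q, r * t = t * r → w * r = r * w) → w * q0 = q0 * w →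
      ∀ q ∈ Q, w * q = q * w := by
    intro w hwR hwq q hq
    rcases hdec q hq with h | h
    · exact hwR q hq h
    · have h3 := hwR (q0⁻¹ * q) (Q.mul_mem (Q.inv_mem hq0) hq) h
      calc w * q = w * (q0 * (q0⁻¹ * q)) := by group
        _ = (w * q0) * (q0⁻¹ * q) := by group
        _ = (q0 * w) * (q0⁻¹ * q) := by rw [hwq]
        _ = q0 * (w * (q0⁻¹ * q)) := by group
        _ = q0 * ((q0⁻¹ * q) * w) := by rw [h3]
        _ = q * w := by group
  -- the element c
  set B := x * q0 * x⁻¹ with hB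
  have hBQ : B ∈ Q := hnorm x hxz q0 hq0
  set c := q0⁻¹ * B with hc
  have hcQ : c ∈ Q := Q.mul_mem (Q.inv_mem hq0) hBQ
  have hBc : B = q0 * c := by rw [hc]; group
  -- c centralizes R0
  have hcR : ∀ r ∈ Q, r * t = t * r → c * r = r * c := by
    intro r hr hrt
    have hxr : x * r = r * x := hxR r hr hrt
    have hxr' : x⁻¹ * r = r * x⁻¹ := by
      rw [hxinv]; exact hxr
    -- x commutes with q0 r q0⁻¹
    have hA : x * (q0 * r * q0⁻¹) = (q0 * r * q0⁻¹) * x := by
      rcases hcomm q0 hq0 r hr with h | h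
      · have : q0 * r * q0⁻¹ = r := by
          have := congrArg (· * r) h
          simpa using this
        rw [this]; exact hxr
      · have : q0 * r * q0⁻¹ = z * r := by
          rw [← h]; group
        rw [this]
        calc x * (z * r) = (x * z) * r := by group
          _ = (z * x) * r := by rw [hxz]
          _ = z * (x * r) := by group
          _ = z * (r * x) := by rw [hxr]
          _ = z * r * x := by group
    -- B r B⁻¹ = q0 r q0⁻¹
    have hBr : B * r * B⁻¹ = q0 * r * q0⁻¹ := by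
      calc B * r * B⁻¹ = x * (q0 * (x⁻¹ * r) * x * q0⁻¹) * x⁻¹ := by rw [hB]; group
        _ = x * (q0 * (r * x⁻¹) * x * q0⁻¹) * x⁻¹ := by rw [hxr']
        _ = (x * (q0 * r * q0⁻¹)) * x⁻¹ := by group
        _ = ((q0 * r * q0⁻¹) * x) * x⁻¹ := by rw [hA]
        _ = q0 * r * q0⁻¹ := by group
    -- so c r c⁻¹ = r
    have : c * r * c⁻¹ = r := by
      calc c * r * c⁻¹ = q0⁻¹ * (B * r * B⁻¹) * q0 := by rw [hc]; group
        _ = q0⁻¹ * (q0 * r * q0⁻¹) * q0 := by rw [hBr]
        _ = r := by group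
    calc c * r = (c * r * c⁻¹) * c := by group
      _ = r * c := by rw [this]
  have hct : c * t = t * c := hcR t htQ rfl
  have hxc : x * c = c * x := hxR c hcQ hct
  -- c * c = 1
  have hcc : c * c = 1 := by
    have h2 : x * B * x⁻¹ = q0 := by
      calc x * B * x⁻¹ = (x * x) * q0 * (x⁻¹ * x⁻¹) := by rw [hB]; group
        _ = q0 := by rw [hxinv, hx2]; group
    have h3 : x * B * x⁻¹ = q0 * c * c := by
      calc x * B * x⁻¹ = (x * q0 * x⁻¹) * (x * c) * x⁻¹ := by rw [hBc]; group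
        _ = B * (c * x) * x⁻¹ := by rw [hxc]
        _ = B * c := by group
        _ = q0 * c * c := by rw [hBc]
    have h4 : q0 * (c * c) = q0 * 1 := by
      rw [mul_one, ← mul_assoc, ← h3, h2]
    exact mul_left_cancel h4
  have hcinv : c⁻¹ = c := inv_eq_of_mul_eq_one_left hcc
  -- q0 * q0 ∈ R0
  have hqq : (q0 * q0) * t = t * (q0 * q0) := by
    calc (q0 * q0) * t = q0 * (q0 * t) := by group
      _ = q0 * (z * t * q0) := by rw [hq0t'']
      _ = (q0 * z) * t * q0 := by group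
      _ = (z * q0) * t * q0 := by rw [hq0z]
      _ = z * (q0 * t) * q0 := by group
      _ = z * (z * t * q0) * q0 := by rw [hq0t'']
      _ = (z * z) * t * (q0 * q0) := by group
      _ = t * (q0 * q0) := by rw [hz2, one_mul]
  have hxqq : x * (q0 * q0) = (q0 * q0) * x := hxR (q0 * q0) (Q.mul_mem hq0 hq0) hqq
  -- c commutes with q0
  have hcq0 : c * q0 = q0 * c := by
    have h2 : B * B = q0 * q0 := by
      calc B * B = (x * (q0 * q0)) * x⁻¹ := by rw [hB]; group
        _ = ((q0 * q0) * x) * x⁻¹ := by rw [hxqq]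
        _ = q0 * q0 := by group
    rw [hBc] at h2
    -- q0 c q0 c = q0 q0  ⇒ c q0 c = q0 ⇒ c q0 = q0 c⁻¹ = q0 c
    have h3 : c * q0 * c = q0 := by
      have : q0 * (c * q0 * c) = q0 * q0 := by
        rw [← h2]; group
      exact mul_left_cancel this
    calc c * q0 = (c * q0 * c) * c⁻¹ := by group
      _ = q0 * c⁻¹ := by rw [h3]
      _ = q0 * c := by rw [hcinv]
  have hccen : ∀ q ∈ Q, c * q = q * c := hcen c hcR hcq0
  rcases hinv c hcQ hccen hcc with hc1 | hcz
  · -- c = 1 : x commutes with q0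
    have hxq0 : x * q0 = q0 * x := by
      have : B = q0 := by rw [hBc, hc1, mul_one]
      calc x * q0 = (x * q0 * x⁻¹) * x := by group
        _ = q0 * x := by rw [← hB, this]
    have hxcen : ∀ q ∈ Q, x * q = q * x := hcen x hxR hxq0
    have hxQ : x ∈ Q := hself x hxz hxcen
    rcases hinv x hxQ hxcen hx2 with h | h
    · exact absurd h hx1
    · exact Or.inl h
  · -- c = z
    have hBz : B = q0 * z := by rw [hBc, hcz]
    -- t q0 t⁻¹ = q0 z
    have htq0 : t * q0 = q0 * z * t := by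
      -- q0 t = z t q0 ⇒ t q0 = z q0 t = q0 z t
      have h2 : z * (q0 * t) = t * q0 := by
        rw [hq0t'']
        calc z * (z * t * q0) = (z * z) * t * q0 := by group
          _ = t * q0 := by rw [hz2, one_mul]
      rw [← h2, ← mul_assoc, ← hq0z]
    obtain ⟨x', hx'⟩ : ∃ x' : G, x' = x * t := ⟨_, rfl⟩
    have hx'z : x' * z = z * x' := by
      calc x' * z = x * (t * z) := by rw [hx']; group
        _ = x * (z * t) := by rw [htz]
        _ = (x * z) * t := by group
        _ = (z * x) * t := by rw [hxz]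
        _ = z * x' := by rw [hx']; group
    have hx'R : ∀ r ∈ Q, r * t = t * r → x' * r = r * x' := by
      intro r hr hrt
      calc x' * r = x * (t * r) := by rw [hx']; group
        _ = x * (r * t) := by rw [hrt]
        _ = (x * r) * t := by group
        _ = (r * x) * t := by rw [hxR r hr hrt]
        _ = r * x' := by rw [hx']; group
    have hx'q0 : x' * q0 = q0 * x' := by
      calc x' * q0 = x * (t * q0) := by rw [hx']; group
        _ = x * (q0 * z * t) := by rw [htq0]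
        _ = (x * q0 * x⁻¹) * (x * z) * t := by group
        _ = B * (z * x) * t := by rw [hxz]
        _ = (q0 * z) * (z * x) * t := by rw [hBz]
        _ = q0 * (z * z) * x * t := by group
        _ = q0 * x' := by rw [hz2, hx']; group
    have hx'cen : ∀ q ∈ Q, x' * q = q * x' := hcen x' hx'R hx'q0
    have hx'Q : x' ∈ Q := hself x' hx'z hx'cen
    have hx'2 : x' * x' = 1 := by
      calc x' * x' = x * (t * x) * t := by rw [hx']; group
        _ = x * (x * t) * t := by rw [hxt]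
        _ = (x * x) * (t * t) := by group
        _ = 1 := by rw [hx2, ht2, one_mul]
    rcases hinv x' hx'Q hx'cen hx'2 with h | h
    · right; left
      -- x t = 1 ⇒ x = t⁻¹ = t
      have : x = t⁻¹ := eq_inv_of_mul_eq_one_left (hx' ▸ h)
      rw [this, htinv]
    · right; right
      -- x t = z ⇒ x = z t⁻¹ = z t
      have : x = z * t⁻¹ := by
        rw [← h, hx']; group
      rw [this, htinv]

/-- Step (c'), consequence: the element `y` of step (b) maps `z` to `z t`. -/
theorem conj_eq_zt (z t q0 : G) (Q : Subgroup G)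
    (hz2 : z * z = 1) (ht2 : t * t = 1)
    (hQH : ∀ q ∈ Q, q * z = z * q)
    (hnorm : ∀ h : G, h * z = z * h → ∀ q ∈ Q, h * q * h⁻¹ ∈ Q)
    (hself : ∀ h : G, h * z = z * h → (∀ q ∈ Q, h * q = q * h) → h ∈ Q)
    (hcomm : ∀ a ∈ Q, ∀ b ∈ Q, a * b * a⁻¹ * b⁻¹ = 1 ∨ a * b * a⁻¹ * b⁻¹ = z)
    (hinv : ∀ c ∈ Q, (∀ q ∈ Q, c * q = q * c) → c * c = 1 → c = 1 ∨ c = z)
    (htQ : t ∈ Q) (hq0 : q0 ∈ Q) (hq0t : q0 * t * q0⁻¹ ≠ t)
    (S : Subgroup G) (hRS : ∀ r ∈ Q, r * t = t * r → r ∈ S)
    (hSz : ∀ s ∈ S, s * z = z * s)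
    (y : G) (hyS : y ∈ Subgroup.normalizer (S : Set G))
    (hyt : y * t * y⁻¹ = t) (hyz : y * z * y⁻¹ ≠ z) :
    y * z * y⁻¹ = z * t := by
  have hzQ : z ∈ Q := hself z rfl (fun q hq => (hQH q hq).symm)
  have hzS : z ∈ S := hRS z hzQ (hQH t htQ).symm
  have hxS : y * z * y⁻¹ ∈ S := (Subgroup.mem_normalizer_iff.mp hyS z).mp hzS
  -- x commutes with every element of S
  have hxcen : ∀ s ∈ S, (y * z * y⁻¹) * s = s * (y * z * y⁻¹) := by
    intro s hs
    have hs' : y⁻¹ * s * y ∈ S := by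
      have := (Subgroup.mem_normalizer_iff.mp hyS (y⁻¹ * s * y)).mpr
      apply this
      have : y * (y⁻¹ * s * y) * y⁻¹ = s := by group
      rw [this]; exact hs
    have h2 := hSz _ hs'
    calc (y * z * y⁻¹) * s = y * (z * (y⁻¹ * s * y)) * y⁻¹ := by group
      _ = y * ((y⁻¹ * s * y) * z) * y⁻¹ := by rw [h2]
      _ = s * (y * z * y⁻¹) := by group
  have hx2 : (y * z * y⁻¹) * (y * z * y⁻¹) = 1 := by
    calc (y * z * y⁻¹) * (y * z * y⁻¹) = y * (z * z) * y⁻¹ := by group
      _ = 1 := by rw [hz2]; group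
  have hz1 : z ≠ 1 := by
    intro h
    apply hyz
    rw [h]; group
  have hx1 : y * z * y⁻¹ ≠ 1 := by
    intro h
    apply hz1
    have : z = y⁻¹ * (y * z * y⁻¹) * y := by group
    rw [this, h]; group
  have hzt : z ≠ t := by
    intro h
    apply hq0t
    rw [← h]
    have := hQH q0 hq0
    calc q0 * z * q0⁻¹ = (q0 * z) * q0⁻¹ := by group
      _ = (z * q0) * q0⁻¹ := by rw [this]
      _ = z := by group
  rcases inv_mem_V z t q0 (y * z * y⁻¹) Q hz2 ht2 hQH hnorm hself hcomm hinv htQ hq0 hq0t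
    (hSz _ hxS) hx2 hx1 (fun r hr hrt => hxcen r (hRS r hr hrt)) with h | h | h
  · exact absurd h hyz
  · exfalso
    apply hzt
    have h3 : y * z * y⁻¹ = y * t * y⁻¹ := by rw [h, hyt]
    have h4 : y * z = y * t := by
      have := congrArg (· * y) h3
      simpa using this
    exact mul_left_cancel h4
  · exact h

end Cfsg.Agent.helper19.S1774c
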