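import Mathlib
import Cfsg.Agent.Lib_helper6_S2670x

set_option autoImplicit false
open Polynomial

namespace Cfsg.Agent.helper19.S2670t

/-- PIECE T4 of the S2670 swarm: the fibre over a non-`r`-th power. -/
theorem pieceT4 {F : Type*} [Field F] (n r : ℕ) (hn : 1 ≤ n) (hr : r.Prime) (c : F)
    (hc0 : c ≠ 0) (hc : ∀ b : F, b ^ r ≠ c) :
    Nat.card {f : F[X] // f.Monic ∧ f.natDegree = n ∧ f ∣ (X ^ r - C c) ^ n ∧
        ¬ ∃ a : F, f = (X - C a) ^ n} = if r ∣ n then 1 else 0 := by
  classical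
  have hS4 := fun (f : F[X]) (hf : f.Monic) (hd : f.natDegree = n)
      (h : f ∣ (X ^ r - C c) ^ n) =>
    Cfsg.Agent.helper6.S2670x.pieceS4 n r hr c hc f hf hd h
  split_ifs with hrn
  · -- exactly one element
    have hmon : (X ^ r - C c : F[X]).Monic := monic_X_pow_sub_C c hr.pos.ne'
    have hdeg : (X ^ r - C c : F[X]).natDegree = r := natDegree_X_pow_sub_C
    obtain ⟨k, hk⟩ := hrn
    have hk1 : 1 ≤ k := by
      rcases Nat.eq_zero_or_pos k with h | h
      · rw [h, mul_zero] at hk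
        omega
      · exact h
    have hnr : n / r = k := by
      rw [hk]
      exact Nat.mul_div_cancel_left k hr.pos
    have hmem : ((X ^ r - C c : F[X]) ^ k).Monic ∧ ((X ^ r - C c : F[X]) ^ k).natDegree = n ∧
        ((X ^ r - C c : F[X]) ^ k) ∣ (X ^ r - C c) ^ n ∧
        ¬ ∃ a : F, ((X ^ r - C c : F[X]) ^ k) = (X - C a) ^ n := by
      refine ⟨hmon.pow k, ?_, ?_, ?_⟩
      · rw [hmon.natDegree_pow, hdeg, hk, mul_comm]
      · apply pow_dvd_pow
        rw [hk]
        exact Nat.le_mul_of_pos_left k hr.pos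
      · rintro ⟨a, ha⟩
        have h1 := congrArg (Polynomial.eval a) ha
        simp only [eval_pow, eval_sub, eval_X, eval_C, sub_self] at h1
        rw [zero_pow (by omega)] at h1
        have h2 := pow_eq_zero_iff (by omega : k ≠ 0) |>.mp h1
        exact hc a (sub_eq_zero.mp h2)
    rw [Nat.card_eq_one_iff_unique]
    refine ⟨⟨fun f g => ?_⟩, ⟨⟨(X ^ r - C c : F[X]) ^ k, hmem⟩⟩⟩
    apply Subtype.ext
    have hf := (hS4 f.1 f.2.1 f.2.2.1 f.2.2.2.1).2
    have hg := (hS4 g.1 g.2.1 g.2.2.1 g.2.2.2.1).2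
    rw [hf, hg]
  · -- empty
    rw [Nat.card_eq_zero]
    left
    refine ⟨fun f => ?_⟩
    exact hrn (hS4 f.1 f.2.1 f.2.2.1 f.2.2.2.1).1

/-- PIECE T6 of the S2670 swarm: the final arithmetic. -/
theorem pieceT6 (orb X q1 R N1 C r e : ℕ) (hr : 2 ≤ r) (hR : R * r = q1) (hq1 : 0 < q1)
    (he : e ≤ 1) (hB : orb * q1 = X + (r - 1) * q1 * e) (hX : X = R * N1 + (q1 - R) * e)
    (hN : N1 + r = C) (hfix : q1 * e ≤ X) : orb = (C - r - e) / r + r * e := by
  subst hN
  have hRpos : 0 < R := by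
    rcases Nat.eq_zero_or_pos R with h | h
    · rw [h, zero_mul] at hR
      omega
    · exact h
  have hCr : N1 + r - r - e = N1 - e := by omega
  rw [hCr]
  subst hR
  -- q1 = R * r
  have hRle : R ≤ R * r := Nat.le_mul_of_pos_right R (by omega)
  rcases Nat.eq_zero_or_pos e with h0 | h1
  · subst h0
    simp only [mul_zero, add_zero, Nat.sub_zero] at hB hX ⊢
    -- orb * (R * r) = R * N1
    rw [hX] at hB
    have h2 : orb * r = N1 := by
      have : R * (orb * r) = R * N1 := by rw [← hB]; ring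
      exact Nat.eq_of_mul_eq_mul_left hRpos this
    rw [← h2]
    exact (Nat.mul_div_cancel orb (by omega)).symm
  · have he1 : e = 1 := by omega
    subst he1
    simp only [mul_one] at hB hX hfix ⊢
    -- from hfix : R * r ≤ X = R * N1 + (R * r - R)
    have hN1 : 1 ≤ N1 := by
      by_contra hlt
      have : N1 = 0 := by omega
      subst this
      rw [mul_zero, zero_add] at hX
      omega
    -- orb * (R*r) = R*N1 + (R*r - R) + (r-1)*(R*r)
    obtain ⟨r', rfl⟩ : ∃ r', r = r' + 1 := ⟨r - 1, by omega⟩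
    obtain ⟨m, rfl⟩ : ∃ m, N1 = m + 1 := ⟨N1 - 1, by omega⟩
    have hsub : R * (r' + 1) - R = R * r' := by
      rw [Nat.mul_succ]
      omega
    rw [hsub] at hX
    rw [hX] at hB
    simp only [Nat.add_sub_cancel] at hB ⊢
    -- hB : orb * (R * (r'+1)) = R * (m+1) + R * r' + r' * (R * (r'+1))
    have h2 : orb * (r' + 1) = m + (r' + 1) + r' * (r' + 1) := by
      have : R * (orb * (r' + 1)) = R * (m + (r' + 1) + r' * (r' + 1)) := by
        have e1 : R * (orb * (r' + 1)) = orb * (R * (r' + 1)) := by ring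
        rw [e1, hB]
        ring
      exact Nat.eq_of_mul_eq_mul_left hRpos this
    -- so (r'+1) | m, orb = m/(r'+1) + 1 + r'
    have hdvd : (r' + 1) ∣ m := by
      have h3 : (r' + 1) ∣ orb * (r' + 1) := Dvd.intro_left orb rfl
      rw [h2] at h3
      have h4 : (r' + 1) ∣ (r' + 1) + r' * (r' + 1) := ⟨1 + r', by ring⟩
      have h5 : m + (r' + 1) + r' * (r' + 1) = m + ((r' + 1) + r' * (r' + 1)) := by ring
      rw [h5] at h3
      exact (Nat.dvd_add_left h4).mp h3
    obtain ⟨t, rfl⟩ := hdvd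
    have h6 : orb = t + 1 + r' := by
      have : orb * (r' + 1) = (t + 1 + r') * (r' + 1) := by rw [h2]; ring
      exact Nat.eq_of_mul_eq_mul_right (by omega) this
    rw [h6, Nat.mul_div_cancel_left t (by omega)]
    ring

end Cfsg.Agent.helper19.S2670t
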