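import Mathlib

/-!
# Pieces S3 and S6 of the S2670 swarm (polynomial side)
-/

set_option autoImplicit false
open Polynomial

namespace Cfsg.Agent.helper24.S2670x

/-- PIECE S3: the scalar `c` is determined by `f` -/
theorem pieceS3 {F : Type*} [Field F] (n r : ℕ) (hn : 1 ≤ n) (hr : 1 ≤ r) (f : F[X]) (hf : f.Monic)
    (hd : f.natDegree = n) (c c' : F) (h : f ∣ (X ^ r - C c) ^ n) (h' : f ∣ (X ^ r - C c') ^ n) :
    c = c' := by
  by_contra hne
  have hne' : c' - c ≠ 0 := sub_ne_zero.mpr (Ne.symm hne)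
  have hcop : IsCoprime (X ^ r - C c : F[X]) (X ^ r - C c') := by
    refine ⟨C (c' - c)⁻¹, - C (c' - c)⁻¹, ?_⟩
    have h1 : C (c' - c)⁻¹ * (X ^ r - C c) + -C (c' - c)⁻¹ * (X ^ r - C c') =
        C ((c' - c)⁻¹ * (c' - c)) := by
      simp only [map_mul, map_sub]
      ring
    rw [h1, inv_mul_cancel₀ hne', map_one]
  have hcop' : IsCoprime ((X ^ r - C c : F[X]) ^ n) ((X ^ r - C c') ^ n) := hcop.pow
  have hu : IsUnit f := hcop'.isUnit_of_dvd' h h'
  have h0 := natDegree_eq_zero_of_isUnit hu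
  omega

/-- PIECE S6: fixed points of the rotation for `c = 1` -/
theorem pieceS6 {F : Type*} [Field F] (n r : ℕ) (hr : r.Prime) (ω : F) (hω : ω ^ r = 1)
    (hω1 : ω ≠ 1) (f : F[X]) (hf : f.Monic) (hd : f.natDegree = n)
    (h : f ∣ (X ^ r - C 1) ^ n) (hfix : C (ω ^ n) * f.comp (C ω⁻¹ * X) = f) :
    r ∣ n ∧ f = (X ^ r - C 1) ^ (n / r) := by
  classical
  haveI : Fact r.Prime := ⟨hr⟩
  haveI : NeZero r := ⟨hr.ne_zero⟩
  have hω0 : ω ≠ 0 := by
    rintro rfl
    rw [zero_pow hr.ne_zero] at hω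
    exact zero_ne_one hω
  have hprim : IsPrimitiveRoot ω r := by
    have h1 : orderOf ω = r := orderOf_eq_prime hω hω1
    rw [← h1]
    exact IsPrimitiveRoot.orderOf ω
  have hg : (X ^ r - C 1 : F[X]) = ∏ ζ ∈ nthRootsFinset r (1 : F), (X - C ζ) := by
    rw [map_one]
    exact X_pow_sub_one_eq_prod hr.pos hprim
  have hgs : (X ^ r - C 1 : F[X]).Splits := by
    rw [hg]
    exact Splits.prod (fun ζ _ => Splits.X_sub_C ζ)
  have hgm : (X ^ r - C 1 : F[X]).Monic := monic_X_pow_sub_C 1 hr.ne_zero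
  have hg0 : (X ^ r - C 1 : F[X]) ≠ 0 := hgm.ne_zero
  have hfs : f.Splits := (hgs.pow n).of_dvd (pow_ne_zero n hg0) h
  have hf0 : f ≠ 0 := hf.ne_zero
  -- key monotonicity
  have hstep : ∀ (y : F) (k : ℕ), (X - C y) ^ k ∣ f → (X - C (ω * y)) ^ k ∣ f := by
    rintro y k ⟨q, hq⟩
    rw [← hfix]
    have h1 : f.comp (C ω⁻¹ * X) = (C ω⁻¹ * (X - C (ω * y))) ^ k * q.comp (C ω⁻¹ * X) := by
      conv_lhs => rw [hq]
      rw [mul_comp, pow_comp, sub_comp, X_comp, C_comp]
      congr 2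
      rw [mul_sub, ← C_mul, ← mul_assoc, inv_mul_cancel₀ hω0, one_mul]
    rw [h1, mul_pow]
    exact ⟨C (ω ^ n) * C ω⁻¹ ^ k * q.comp (C ω⁻¹ * X), by ring⟩
  have hmono : ∀ y : F, rootMultiplicity y f ≤ rootMultiplicity (ω * y) f := by
    intro y
    exact (le_rootMultiplicity_iff hf0).mpr (hstep y _ (pow_rootMultiplicity_dvd f y))
  have hiter : ∀ (i : ℕ) (y : F), rootMultiplicity y f ≤ rootMultiplicity (ω ^ i * y) f := by
    intro i
    induction i with
    | zero => intro y; simp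
    | succ i ih =>
      intro y
      have h1 := hmono (ω ^ i * y)
      rw [← mul_assoc, ← pow_succ'] at h1
      exact (ih y).trans h1
  have heq : ∀ ξ : F, ξ ^ r = 1 → rootMultiplicity ξ f = rootMultiplicity 1 f := by
    intro ξ hξ
    have hξ0 : ξ ≠ 0 := by
      rintro rfl
      rw [zero_pow hr.ne_zero] at hξ
      exact zero_ne_one hξ
    apply le_antisymm
    · have hξi : ξ⁻¹ ^ r = 1 := by rw [inv_pow, hξ, inv_one]
      obtain ⟨i, -, hi⟩ := hprim.eq_pow_of_pow_eq_one hξi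
      have h1 := hiter i ξ
      rwa [hi, inv_mul_cancel₀ hξ0] at h1
    · obtain ⟨j, -, hj⟩ := hprim.eq_pow_of_pow_eq_one hξ
      have h1 := hiter j 1
      rwa [hj, mul_one] at h1
  set a := rootMultiplicity 1 f with ha
  -- roots of `g`
  have hgroots : ∀ x : F, Multiset.count x (X ^ r - C 1 : F[X]).roots = if x ^ r = 1 then 1 else 0 := by
    intro x
    have hnd : (nthRoots r (1 : F)).Nodup := hprim.nthRoots_one_nodup
    have hdef : (X ^ r - C 1 : F[X]).roots = nthRoots r (1 : F) := rfl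
    rw [hdef]
    by_cases hx : x ^ r = 1
    · rw [if_pos hx]
      exact Multiset.count_eq_one_of_mem hnd ((mem_nthRoots hr.pos).mpr hx)
    · rw [if_neg hx]
      exact Multiset.count_eq_zero_of_notMem (fun hmem => hx ((mem_nthRoots hr.pos).mp hmem))
  have hroots : f.roots = ((X ^ r - C 1 : F[X]) ^ a).roots := by
    ext x
    rw [roots_pow, Multiset.count_nsmul, hgroots x, count_roots]
    by_cases hx : x ^ r = 1
    · rw [if_pos hx, mul_one, heq x hx]
    · rw [if_neg hx, mul_zero]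
      apply rootMultiplicity_eq_zero
      intro hroot
      apply hx
      have h2 : ((X ^ r - C 1 : F[X]) ^ n).IsRoot x := hroot.dvd h
      rw [IsRoot.def, eval_pow] at h2
      have h4 : eval x (X ^ r - C 1 : F[X]) = 0 := pow_eq_zero_iff (M₀ := F) (by
        rintro rfl
        rw [pow_zero] at h2
        exact one_ne_zero h2) |>.mp h2
      simpa [sub_eq_zero] using h4
  have hfeq : f = (X ^ r - C 1 : F[X]) ^ a := by
    rw [hfs.eq_prod_roots_of_monic hf, hroots,
      ← ((hgs.pow a).eq_prod_roots_of_monic (hgm.pow a))]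
  have hdeg : n = a * r := by
    rw [← hd]
    conv_lhs => rw [hfeq]
    rw [natDegree_pow, natDegree_X_pow_sub_C]
  constructor
  · exact ⟨a, by rw [hdeg, mul_comm]⟩
  · have : n / r = a := Nat.div_eq_of_eq_mul_left hr.pos hdeg
    rw [this]
    exact hfeq

end Cfsg.Agent.helper24.S2670x
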