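import Mathlib
import Cfsg.Agent.Lib_helper3_S2670x
import Cfsg.Agent.Lib_helper9_S2670x
import Cfsg.Agent.Lib_helper6_S2670x
import Cfsg.Agent.Lib_helper24_S2670x

set_option autoImplicit false
open Polynomial

namespace Cfsg.Agent.helper19.S2670u

/-- PIECE T1 of the S2670 swarm: fixed points of a nontrivial `r`-th root of unity. -/
theorem pieceT1 {F : Type*} [Field F] [Fintype F] (n r : ℕ) (hn : 1 ≤ n) (hr : r.Prime)
    (hrq : r ∣ Fintype.card F - 1) (μ : F) (hμ : μ ^ r = 1) (hμ1 : μ ≠ 1) :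
    Nat.card {f : F[X] // (f.Monic ∧ f.natDegree = n ∧
        (∃ c : F, c ≠ 0 ∧ f ∣ (X ^ r - C c) ^ n) ∧ ¬ ∃ a : F, f = (X - C a) ^ n) ∧
        C (μ ^ n) * f.comp (C μ⁻¹ * X) = f} =
      (Fintype.card F - 1) * (if r ∣ n then 1 else 0) := by
  classical
  have hμ0 : μ ≠ 0 := by
    rintro rfl
    rw [zero_pow hr.pos.ne'] at hμ
    exact zero_ne_one hμ
  have key : ∀ f : F[X], f.Monic → f.natDegree = n → ∀ c : F, c ≠ 0 →
      f ∣ (X ^ r - C c) ^ n → C (μ ^ n) * f.comp (C μ⁻¹ * X) = f →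
      r ∣ n ∧ f = (X ^ r - C c) ^ (n / r) := by
    intro f hf hd c hc0 hdvd hfix
    by_cases hpow : ∃ ν : F, ν ^ r = c
    · obtain ⟨ν, rfl⟩ := hpow
      have hν : ν ≠ 0 := by
        rintro rfl
        rw [zero_pow hr.pos.ne'] at hc0
        exact hc0 rfl
      have hνi : ν⁻¹ ≠ 0 := inv_ne_zero hν
      obtain ⟨gm, gd, gdvd, -, -⟩ := Cfsg.Agent.helper3.S2670x.pieceS2 n r ν⁻¹ hνi f hf hd
      have gdvd1 := gdvd (ν ^ r) hdvd
      have hone : ν⁻¹ ^ r * ν ^ r = 1 := by rw [← mul_pow, inv_mul_cancel₀ hν, one_pow]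
      rw [hone] at gdvd1
      have hb := (Cfsg.Agent.helper9.S2670x.pieceS2b n f)
      have gfix : C (μ ^ n) * (C (ν⁻¹ ^ n) * f.comp (C ν⁻¹⁻¹ * X)).comp (C μ⁻¹ * X) =
          C (ν⁻¹ ^ n) * f.comp (C ν⁻¹⁻¹ * X) := by
        have h1 := hb.2 μ ν⁻¹ hμ0 hνi
        have h2 := hb.2 ν⁻¹ μ hνi hμ0
        rw [← h1, mul_comm μ ν⁻¹, h2, hfix]
      obtain ⟨hrn, hgeq⟩ := Cfsg.Agent.helper24.S2670x.pieceS6 n r hr μ hμ hμ1 _ gm gd gdvd1 gfix
      refine ⟨hrn, ?_⟩
      have hfg : f = C (ν ^ n) * (C (ν⁻¹ ^ n) * f.comp (C ν⁻¹⁻¹ * X)).comp (C ν⁻¹ * X) := by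
        have h1 := hb.2 ν ν⁻¹ hν hνi
        rw [mul_inv_cancel₀ hν, hb.1] at h1
        exact h1
      obtain ⟨-, -, -, -, hpw⟩ := Cfsg.Agent.helper3.S2670x.pieceS2 n r ν hν _ gm gd
      have h3 := hpw 1 (n / r) hgeq (Nat.mul_div_cancel' hrn)
      rw [mul_one] at h3
      rw [hfg, h3]
    · push Not at hpow
      exact Cfsg.Agent.helper6.S2670x.pieceS4 n r hr c hpow f hf hd hdvd
  split_ifs with hrn
  · rw [mul_one]
    have hcard : Nat.card {c : F // c ≠ 0} = Fintype.card F - 1 := by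
      rw [Nat.card_eq_fintype_card, Fintype.card_subtype_compl, Fintype.card_subtype_eq]
    rw [← hcard]
    symm
    obtain ⟨k, hk⟩ := hrn
    have hk1 : 1 ≤ k := by
      rcases Nat.eq_zero_or_pos k with h | h
      · rw [h, mul_zero] at hk
        omega
      · exact h
    have hnr : n / r = k := by
      rw [hk]
      exact Nat.mul_div_cancel_left k hr.pos
    have hrk : r * k = n := hk.symm
    have hmonc : ∀ c : F, ((X ^ r - C c : F[X]) ^ k).Monic :=
      fun c => (monic_X_pow_sub_C c hr.pos.ne').pow k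
    have hdegc : ∀ c : F, ((X ^ r - C c : F[X]) ^ k).natDegree = n := by
      intro c
      rw [(monic_X_pow_sub_C c hr.pos.ne').natDegree_pow, natDegree_X_pow_sub_C, hk, mul_comm]
    have hdvdc : ∀ c : F, ((X ^ r - C c : F[X]) ^ k) ∣ (X ^ r - C c) ^ n := by
      intro c
      apply pow_dvd_pow
      rw [hk]
      exact Nat.le_mul_of_pos_left k hr.pos
    refine Nat.card_eq_of_bijective
      (fun c => ⟨(X ^ r - C c.1 : F[X]) ^ k, ⟨hmonc c.1, hdegc c.1, ⟨c.1, c.2, hdvdc c.1⟩, ?_⟩, ?_⟩)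
      ⟨?_, ?_⟩
    · rintro ⟨a, ha⟩
      have h1 := congrArg (Polynomial.eval a) ha
      simp only [eval_pow, eval_sub, eval_X, eval_C, sub_self] at h1
      rw [zero_pow (by omega)] at h1
      have h2 : a ^ r = c.1 := sub_eq_zero.mp ((pow_eq_zero_iff (by omega : k ≠ 0)).mp h1)
      have ha0 : a ≠ 0 := by
        rintro rfl
        rw [zero_pow hr.pos.ne'] at h2
        exact c.2 h2.symm
      have h3 := congrArg (Polynomial.eval (a * μ)) ha
      simp only [eval_pow, eval_sub, eval_X, eval_C] at h3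
      rw [mul_pow, hμ, mul_one, h2, sub_self, zero_pow (by omega)] at h3
      have h4 : a * μ - a = 0 := (pow_eq_zero_iff (by omega : n ≠ 0)).mp h3.symm
      have h5 : a * (μ - 1) = 0 := by rw [mul_sub, mul_one]; exact h4
      rcases mul_eq_zero.mp h5 with h | h
      · exact ha0 h
      · exact hμ1 (sub_eq_zero.mp h)
    · obtain ⟨-, -, -, -, hpw⟩ := Cfsg.Agent.helper3.S2670x.pieceS2 n r μ hμ0 _ (hmonc c.1) (hdegc c.1)
      have h3 := hpw c.1 k rfl hrk
      rw [hμ, one_mul] at h3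
      exact h3
    · intro c c' h
      have h1 := congrArg Subtype.val h
      simp only at h1
      apply Subtype.ext
      apply Cfsg.Agent.helper9.S2670x.pieceS3 n r hn hr.one_le _ (hmonc c.1) (hdegc c.1) c.1 c'.1
        (hdvdc c.1)
      rw [h1]
      exact hdvdc c'.1
    · intro f
      obtain ⟨⟨hf, hd, ⟨c, hc0, hdvd⟩, -⟩, hfix⟩ := f.2
      obtain ⟨-, hfeq⟩ := key f.1 hf hd c hc0 hdvd hfix
      refine ⟨⟨c, hc0⟩, ?_⟩
      apply Subtype.ext
      simp only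
      rw [hfeq, hnr]
  · rw [mul_zero, Nat.card_eq_zero]
    left
    refine ⟨fun f => ?_⟩
    obtain ⟨⟨hf, hd, ⟨c, hc0, hdvd⟩, -⟩, hfix⟩ := f.2
    exact hrn (key f.1 hf hd c hc0 hdvd hfix).1

end Cfsg.Agent.helper19.S2670u
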