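import Mathlib

/-! S2645 piece A (helper1): factorisation of `X^r - 1` over a finite field whose
characteristic is not `r` into `X - 1` times distinct monic irreducibles, all of degree the
multiplicative order of `|F|` modulo `r`. -/

namespace Cfsg.Agent.helper1.S2645x

open Polynomial

theorem pieceA {F : Type*} [Field F] [Fintype F] (r : ℕ) (hr : r.Prime) (hrF : (r : F) ≠ 0) :
    ∃ S : Finset F[X],
      (∀ g ∈ S, g.Monic ∧ Irreducible g ∧ g.natDegree = orderOf (Fintype.card F : ZMod r)) ∧
      (X - 1 : F[X]) ∉ S ∧ (X ^ r - 1 : F[X]) = (X - 1) * ∏ g ∈ S, g ∧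
      S.card * orderOf (Fintype.card F : ZMod r) = r - 1 := by
  classical
  have : Fact r.Prime := ⟨hr⟩
  have : NeZero (r : F) := ⟨hrF⟩
  -- characteristic data
  obtain ⟨p, hpchar⟩ := CharP.exists F
  have := hpchar
  obtain ⟨f, hp, hcard⟩ := FiniteField.card F p
  have : Fact p.Prime := ⟨hp⟩
  have hpr : p ≠ r := by
    rintro rfl
    exact hrF (CharP.cast_eq_zero F p)
  have hcop : p.Coprime r := (Nat.coprime_primes hp hr).2 hpr
  -- the cyclotomic polynomial
  set c : F[X] := cyclotomic r F with hc
  have hc0 : c ≠ 0 := cyclotomic_ne_zero r F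
  have hcm : c.Monic := cyclotomic.monic r F
  have hsq : Squarefree c := (separable_cyclotomic r F).squarefree
  have hnd : (UniqueFactorizationMonoid.normalizedFactors c).Nodup :=
    (UniqueFactorizationMonoid.squarefree_iff_nodup_normalizedFactors hc0).1 hsq
  set M := UniqueFactorizationMonoid.normalizedFactors c with hM
  have hmon : ∀ g ∈ M, g.Monic := by
    intro g hg
    have h1 := UniqueFactorizationMonoid.normalize_normalized_factor g hg
    have h2 : g ≠ 0 := (UniqueFactorizationMonoid.irreducible_of_normalized_factor g hg).ne_zero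
    rw [← h1]
    exact monic_normalize h2
  have hirr : ∀ g ∈ M, Irreducible g := fun g hg =>
    UniqueFactorizationMonoid.irreducible_of_normalized_factor g hg
  have hdvd : ∀ g ∈ M, g ∣ c := fun g hg =>
    UniqueFactorizationMonoid.dvd_of_mem_normalizedFactors hg
  -- order conversion
  have hord : orderOf (ZMod.unitOfCoprime (p ^ (f : ℕ)) (hcop.pow_left _) : (ZMod r)ˣ)
      = orderOf (Fintype.card F : ZMod r) := by
    rw [← orderOf_units, ZMod.coe_unitOfCoprime, hcard]
  have hdeg : ∀ g ∈ M, g.natDegree = orderOf (Fintype.card F : ZMod r) := by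
    intro g hg
    rw [← hord]
    exact natDegree_of_dvd_cyclotomic_of_irreducible hcard hcop (hdvd g hg) (hirr g hg)
  have hprodM : M.prod = c := by
    have hassoc : Associated M.prod c := UniqueFactorizationMonoid.prod_normalizedFactors hc0
    have hMm : M.prod.Monic := by
      have := monic_multiset_prod_of_monic M (fun g => g) (by simpa using hmon)
      simpa using this
    exact eq_of_monic_of_associated hMm hcm hassoc
  have hprodS : ∏ g ∈ M.toFinset, g = c := by
    rw [Finset.prod_eq_multiset_prod, Multiset.toFinset_val, Multiset.dedup_eq_self.2 hnd,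
      Multiset.map_id']
    exact hprodM
  refine ⟨M.toFinset, ?_, ?_, ?_, ?_⟩
  · intro g hg
    have hg' : g ∈ M := Multiset.mem_toFinset.1 hg
    exact ⟨hmon g hg', hirr g hg', hdeg g hg'⟩
  · intro hX
    have hX' : (X - 1 : F[X]) ∈ M := Multiset.mem_toFinset.1 hX
    have h1 : (X - 1 : F[X]) ∣ c := hdvd _ hX'
    have h2 : (X - C (1 : F)) ∣ c := by simpa using h1
    rw [dvd_iff_isRoot] at h2
    have h3 : eval 1 c = (r : F) := eval_one_cyclotomic_prime
    rw [IsRoot.def, h3] at h2
    exact hrF h2
  · rw [hprodS, mul_comm]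
    exact (cyclotomic_prime_mul_X_sub_one F r).symm
  · have h1 : c.natDegree = r - 1 := by
      rw [hc, natDegree_cyclotomic, Nat.totient_prime hr]
    have h2 : M.prod.natDegree = (Multiset.map natDegree M).sum :=
      natDegree_multiset_prod_of_monic M hmon
    have h3 : (Multiset.map natDegree M) =
        Multiset.replicate (Multiset.card M) (orderOf (Fintype.card F : ZMod r)) := by
      rw [Multiset.eq_replicate]
      refine ⟨by simp, ?_⟩
      intro b hb
      obtain ⟨g, hg, rfl⟩ := Multiset.mem_map.1 hb
      exact hdeg g hg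
    have h4 : M.toFinset.card = Multiset.card M := by
      rw [Finset.card_def, Multiset.toFinset_val, Multiset.dedup_eq_self.2 hnd]
    rw [h4, ← h1, ← hprodM, h2, h3, Multiset.sum_replicate, smul_eq_mul]


end Cfsg.Agent.helper1.S2645x
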