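import Mathlib
import Cfsg.Agent.Lib_helper1_S2645x
import Cfsg.Agent.Lib_helper20_S2671x
import Cfsg.Agent.Lib_helper26_S2645x

set_option autoImplicit false
open Polynomial

namespace Cfsg.Agent.helper19.S2670x

/-- PIECE S5 of the S2670 swarm: the count for `c = 1`. -/
theorem pieceS5 {F : Type*} [Field F] [Fintype F] (n r : ℕ) (hr : r.Prime)
    (hrq : r ∣ Fintype.card F - 1) :
    Nat.card {f : F[X] // f.Monic ∧ f.natDegree = n ∧ f ∣ (X ^ r - C 1) ^ n} =
      Nat.choose (n + r - 1) (r - 1) := by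
  classical
  have hq2 : 1 < Fintype.card F := Fintype.one_lt_card
  obtain ⟨k, hk⟩ := hrq
  have hcard : Fintype.card F = r * k + 1 := by omega
  have hqcast : ((Fintype.card F : ℕ) : ZMod r) = 1 := by
    rw [hcard]
    push_cast
    simp
  have hrF : (r : F) ≠ 0 := by
    intro h0
    have hc : ((Fintype.card F : ℕ) : F) = 0 := FiniteField.cast_card_eq_zero F
    rw [hcard] at hc
    push_cast at hc
    rw [h0, zero_mul, zero_add] at hc
    exact one_ne_zero hc
  obtain ⟨S, hS, hX, hprod, hcardS⟩ := Cfsg.Agent.helper1.S2645x.pieceA (F := F) r hr hrF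
  have hi : orderOf ((Fintype.card F : ℕ) : ZMod r) = 1 := by
    rw [hqcast]
    exact orderOf_one
  rw [hi] at hS hcardS
  rw [mul_one] at hcardS
  obtain ⟨h1, h2, h3⟩ :=
    Cfsg.Agent.helper20.S2671x.pieceC1n r n 1 Nat.one_pos S hS hX hprod
  have hD := Cfsg.Agent.helper26.S2645x.pieceD1 S n
  have hrr : n + r - 1 = n + S.card := by
    have := hr.pos
    omega
  rw [hrr, ← hcardS, ← hD]
  have hC : (C (1 : F) : F[X]) = 1 := C_1
  rw [hC]
  symm
  refine Nat.card_eq_of_bijective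
    (fun M => ⟨(X - 1) ^ (n - 1 * Multiset.card M.1) * M.1.prod, ?_⟩) ⟨?_, ?_⟩
  · have hM := M.2
    have hle : 1 * Multiset.card M.1 ≤ n := by rw [one_mul]; exact hM.2
    exact h1 M.1 hM.1 hle
  · intro M M' h
    have hM := M.2
    have hM' := M'.2
    have hle : 1 * Multiset.card M.1 ≤ n := by rw [one_mul]; exact hM.2
    have hle' : 1 * Multiset.card M'.1 ≤ n := by rw [one_mul]; exact hM'.2
    have := congrArg Subtype.val h
    exact Subtype.ext (h2 M.1 M'.1 hM.1 hM'.1 hle hle' this)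
  · intro f
    obtain ⟨M, hMS, hMle, hf⟩ := h3 f.1 f.2.1 f.2.2.1 f.2.2.2
    refine ⟨⟨M, hMS, by rw [one_mul] at hMle; exact hMle⟩, ?_⟩
    exact Subtype.ext hf.symm

end Cfsg.Agent.helper19.S2670x
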