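import Mathlib
import Cfsg.Agent.Lib_helper18_ClassGraph

/-!
# S4138 from the `split` hypothesis (helper19, for helper10)

If the two largest class sizes `m > n > 1` are coprime and every class size is either `m` or
coprime to `m`, then `C(x)`, `C(y)` are abelian and `G/Z(G)` is Frobenius with kernel
`C(x)/Z` and complement `C(y)/Z`.
-/

set_option autoImplicit false
set_option linter.unusedVariables false
set_option linter.unusedSectionVars false
set_option linter.style.longLine false
set_option linter.unnecessarySimpa false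

namespace Cfsg.Agent.helper19.S4138fin

open Subgroup
open Cfsg.Agent.helper18.PG (SNum)
open Cfsg.Agent.helper18.CG

/-- the explicit version of helper18's `main_aux`: complement `C(a)/Z`, kernel `DD/Z`, plus the
fixed-point-freeness and the decomposition used later. -/
theorem main_aux_explicit {G : Type*} [Group G] [Finite G] {S : Set ℕ} (cx : Ctx S G) {x : G}
    (hx : InX S x) :
    Cfsg.IsFrobeniusComplement ((Cn cx.a).map (QuotientGroup.mk' (center G))) ∧
    Cfsg.frobeniusKernel ((Cn cx.a).map (QuotientGroup.mk' (center G))) =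
      (((DD S G).map (QuotientGroup.mk' (center G)) : Subgroup (G ⧸ center G)) : Set (G ⧸ center G)) ∧
    (∀ c ∈ (Cn cx.a).map (QuotientGroup.mk' (center G)), c ≠ 1 →
      (DD S G).map (QuotientGroup.mk' (center G)) ⊓ Subgroup.centralizer {c} = ⊥) ∧
    (∀ h1 ∈ Cn cx.a, ∀ h2 ∈ Cn cx.a, h1 * h2 * h1⁻¹ * h2⁻¹ ∈ center G) := by
  obtain ⟨a, ha⟩ : ∃ a, a = cx.a := ⟨_, rfl⟩
  rw [← ha]
  have haY : InY S a := ha ▸ cx.haY
  obtain ⟨π, hπ⟩ : ∃ π : G →* G ⧸ center G, π = QuotientGroup.mk' (center G) := ⟨_, rfl⟩
  rw [← hπ]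
  have hπs : Function.Surjective π := hπ ▸ QuotientGroup.mk'_surjective _
  have hker : ∀ g, π g = 1 ↔ g ∈ center G := fun g => by
    rw [hπ]; exact QuotientGroup.eq_one_iff g
  have hDn := normal_DD (G := G) S
  haveI hNn : ((DD S G).map π).Normal := hDn.map π hπs
  have hxZ : x ∉ center G := fun h => hx.1 ((idx_eq_one_iff x).mpr h)
  have haZ : a ∉ center G := fun h => haY.1 ((idx_eq_one_iff a).mpr h)
  have hdisj : ∀ d ∈ DD S G, ∀ h ∈ Cn a, π d = π h → h ∈ center G := by
    intro d hd h hh he
    have h1 : d⁻¹ * h ∈ center G := by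
      rw [← hker, map_mul, map_inv, he, inv_mul_cancel]
    have h2 : h ∈ DD S G := by
      have := mul_mem hd (center_le_DD S h1)
      rwa [mul_inv_cancel_left] at this
    exact DD_inf_Cn cx hx haY h h2 hh
  have hcompl : ((DD S G).map π).IsComplement' ((Cn a).map π) := by
    apply Subgroup.isComplement'_of_disjoint_and_mul_eq_univ
    · rw [Subgroup.disjoint_def]
      rintro t ⟨d, hd, rfl⟩ ⟨h, hh, he⟩
      rw [← he, hker]
      exact hdisj d hd h hh he.symm
    · rw [← Subgroup.normal_mul, ← Subgroup.map_sup, DD_sup_Cn cx hx haY,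
        Subgroup.map_top_of_surjective π hπs]
      rfl
  have hNb : (DD S G).map π ≠ ⊥ := by
    intro h
    have : π x ∈ (DD S G).map π := ⟨x, X_mem_DD hx, rfl⟩
    rw [h, Subgroup.mem_bot, hker] at this
    exact hxZ this
  have hCb : (Cn a).map π ≠ ⊥ := by
    intro h
    have : π a ∈ (Cn a).map π := ⟨a, mem_Cn.mpr rfl, rfl⟩
    rw [h, Subgroup.mem_bot, hker] at this
    exact haZ this
  have hfpf : ∀ c ∈ (Cn a).map π, c ≠ 1 →
      (DD S G).map π ⊓ Subgroup.centralizer {c} = ⊥ := by
    rintro c ⟨h, hh, rfl⟩ hc1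
    have hhZ : h ∉ center G := fun hz => hc1 ((hker h).mpr hz)
    rw [eq_bot_iff]
    rintro t ⟨⟨d, hd, rfl⟩, ht2⟩
    rw [Subgroup.mem_bot, hker]
    by_contra hdZ
    have hdX : InX S d := by
      rcases (mem_DD_iff cx hx d).mp hd with h | h
      · exact h
      · exact absurd h hdZ
    have ht2' : π d ∈ centralizer {π h} := ht2
    rw [mem_centralizer_iff] at ht2'
    have hcomm : π h * π d = π d * π h := ht2' (π h) rfl
    obtain ⟨z, hz⟩ : ∃ z, z = h * d * h⁻¹ * d⁻¹ := ⟨_, rfl⟩
    have hzZ : z ∈ center G := by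
      rw [← hker, hz, map_mul, map_mul, map_mul, map_inv, map_inv, hcomm]
      group
    have hzK : z ∈ KK S G := by
      have h1 : d⁻¹ * (h * d * h⁻¹) ∈ KK S G := Subgroup.subset_closure ⟨d, h, hdX, rfl⟩
      have h2 := (normal_KK (G := G) S).conj_mem _ h1 d
      have e : d * (d⁻¹ * (h * d * h⁻¹)) * d⁻¹ = z := by rw [hz]; group
      rwa [e] at h2
    have he : h * d = z * d * h := by rw [hz]; group
    have hzn : z ^ Nat.card (KK S G) = 1 := by
      rw [← orderOf_dvd_iff_pow_eq_one]
      exact Subgroup.orderOf_dvd_natCard _ hzK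
    have h1 : h ^ Nat.card (KK S G) ∈ DD S G := by
      rw [← Cn_eq_DD cx hdX, mem_Cn]
      have := pow_comm_central hzZ he (Nat.card (KK S G))
      rw [hzn, one_mul] at this
      exact this
    have h2 : h ^ (DD S G).index ∈ DD S G := by
      haveI := hDn
      exact Subgroup.pow_index_mem _ h
    have hcop : (Nat.card (KK S G)).Coprime (DD S G).index := by
      apply (sNum_card_KK cx).coprime
      rw [← Cn_eq_DD cx hx]
      exact hx.2
    have h3 : h ∈ DD S G := mem_of_coprime_pow_mem _ hcop h1 h2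
    exact hhZ (DD_inf_Cn cx hx haY h h3 hh)
  obtain ⟨hF, hK⟩ := frobenius_of_fpf _ _ hcompl hNb hCb hfpf
  refine ⟨hF, hK, hfpf, ?_⟩
  intro h1 hh1 h2 hh2
  apply DD_inf_Cn cx hx haY _ (comm_mem_DD cx hx h1 h2)
  exact mul_mem (mul_mem (mul_mem hh1 hh2) (inv_mem hh1)) (inv_mem hh2)

/-- S4138 with the `split` property as a hypothesis. -/
theorem s4138_of_split {G : Type*} [Group G] [Finite G] (m n : ℕ) (hmn : n < m) (hn : 1 < n)
    (hcop : m.Coprime n)
    (htop : ∀ z : G, (Subgroup.centralizer ({z} : Set G)).index ≤ m)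
    (hsecond : ∀ z : G, (Subgroup.centralizer ({z} : Set G)).index < m →
      (Subgroup.centralizer ({z} : Set G)).index ≤ n)
    (x y : G) (hx : (Subgroup.centralizer ({x} : Set G)).index = n)
    (hy : (Subgroup.centralizer ({y} : Set G)).index = m)
    (hsplit : ∀ g : G, (Subgroup.centralizer ({g} : Set G)).index = m ∨
      ((Subgroup.centralizer ({g} : Set G)).index).Coprime m) :
    IsMulCommutative (Subgroup.centralizer ({x} : Set G)) ∧
    IsMulCommutative (Subgroup.centralizer ({y} : Set G)) ∧
    Cfsg.IsFrobeniusComplement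
      ((Subgroup.centralizer ({y} : Set G)).map (QuotientGroup.mk' (Subgroup.center G))) ∧
    Cfsg.frobeniusKernel
      ((Subgroup.centralizer ({y} : Set G)).map (QuotientGroup.mk' (Subgroup.center G))) =
      ((Subgroup.centralizer ({x} : Set G)).map (QuotientGroup.mk' (Subgroup.center G)) :
        Set (G ⧸ Subgroup.center G)) := by
  obtain ⟨S, hS⟩ : ∃ S : Set ℕ, S = {p | p.Prime ∧ p ∣ m} := ⟨_, rfl⟩
  have hSm : SNum S m := fun p hp hd => by rw [hS]; exact ⟨hp, hd⟩
  have hScop : ∀ k : ℕ, k.Coprime m → SNum Sᶜ k := by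
    intro k hk p hp hd hpS
    rw [hS] at hpS
    have h1 : p ∣ Nat.gcd k m := Nat.dvd_gcd hd hpS.2
    rw [Nat.Coprime] at hk
    rw [hk] at h1
    exact hp.one_lt.ne' (Nat.dvd_one.mp h1)
  have split' : ∀ g : G, SNum S (idx g) ∨ SNum Sᶜ (idx g) := by
    intro g
    rcases hsplit g with h | h
    · left
      show SNum S (Subgroup.centralizer ({g} : Set G)).index
      rw [h]; exact hSm
    · right; exact hScop _ h
  have hm1 : m ≠ 1 := by omega
  have hn1 : n ≠ 1 := by omega
  have hyY : InY S y := by
    refine ⟨?_, ?_⟩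
    · show (Subgroup.centralizer ({y} : Set G)).index ≠ 1
      rw [hy]; exact hm1
    · show SNum S (Subgroup.centralizer ({y} : Set G)).index
      rw [hy]; exact hSm
  have hymax : ∀ g : G, idx g ≤ idx y := by
    intro g
    show (Subgroup.centralizer ({g} : Set G)).index ≤ (Subgroup.centralizer ({y} : Set G)).index
    rw [hy]; exact htop g
  obtain ⟨cx, hcxa⟩ : ∃ cx : Ctx S G, cx.a = y := ⟨⟨y, split', hyY, hymax⟩, rfl⟩
  have hxX : InX S x := by
    refine ⟨?_, ?_⟩
    · show (Subgroup.centralizer ({x} : Set G)).index ≠ 1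
      rw [hx]; exact hn1
    · show SNum Sᶜ (Subgroup.centralizer ({x} : Set G)).index
      rw [hx]; exact hScop n hcop.symm
  have hCx : Cn x = DD S G := Cn_eq_DD cx hxX
  obtain ⟨hF, hK, hfpf, hcomm⟩ := main_aux_explicit cx hxX
  rw [hcxa] at hF hK hfpf hcomm
  obtain ⟨π, hπ⟩ : ∃ π : G →* G ⧸ center G, π = QuotientGroup.mk' (center G) := ⟨_, rfl⟩
  rw [← hπ] at hF hK hfpf
  have hker : ∀ g, π g = 1 ↔ g ∈ center G := fun g => by
    rw [hπ]; exact QuotientGroup.eq_one_iff g
  have hDn := normal_DD (G := G) S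
  refine ⟨⟨⟨?_⟩⟩, ⟨⟨?_⟩⟩, ?_, ?_⟩
  · -- C(x) abelian
    rintro ⟨a, ha⟩ ⟨b, hb⟩
    apply Subtype.ext
    show a * b = b * a
    have ha' : a ∈ DD S G := by rw [← hCx]; exact ha
    have hb' : b ∈ DD S G := by rw [← hCx]; exact hb
    exact DD_comm cx a ha' b hb'
  · -- C(y) abelian
    rintro ⟨u, hu⟩ ⟨v, hv⟩
    apply Subtype.ext
    show u * v = v * u
    have hu' : u ∈ Cn y := hu
    have hv' : v ∈ Cn y := hv
    by_cases huZ : u ∈ center G
    · exact ((mem_center_iff.mp huZ) v).symm
    · have huD : u ∉ DD S G := fun h => huZ (DD_inf_Cn cx hxX hyY u h hu')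
      have huY : InY S u := by
        rcases trichotomy cx u with h | h | h
        · exact absurd h huZ
        · exact absurd (X_mem_DD h) huD
        · exact h
      have hum : (Subgroup.centralizer ({u} : Set G)).index = m := by
        rcases hsplit u with h | h
        · exact h
        · exact absurd huY (fun hY => not_X_and_Y ⟨hY.1, hScop _ h⟩ hY)
      have hπu : π u ≠ 1 := fun h => huZ ((hker u).mp h)
      have hπuC : π u ∈ (Subgroup.centralizer ({y} : Set G)).map π := ⟨u, hu, rfl⟩
      have hle : Cn u ≤ Cn y := by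
        intro g hg
        have hgu : g * u = u * g := mem_Cn.mp hg
        have hh : g ∈ DD S G ⊔ Cn y := by rw [DD_sup_Cn cx hxX hyY]; exact mem_top g
        haveI := hDn
        rw [← SetLike.mem_coe, Subgroup.normal_mul, Set.mem_mul] at hh
        obtain ⟨d, hd, c, hc, rfl⟩ := hh
        have hcu : π c * π u = π u * π c := by
          have h1 : c * u * c⁻¹ * u⁻¹ ∈ center G := hcomm c hc u hu'
          rw [← hker] at h1
          have e : π c * π u * (π c)⁻¹ * (π u)⁻¹ = 1 := by
            rw [← h1]; simp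
          calc π c * π u = (π c * π u * (π c)⁻¹ * (π u)⁻¹) * (π u * π c) := by group
            _ = π u * π c := by rw [e, one_mul]
        have hdu : π u * π d = π d * π u := by
          have h1 : π (d * c) * π u = π u * π (d * c) := by
            rw [← map_mul, ← map_mul, hgu]
          rw [map_mul] at h1
          calc π u * π d = (π u * (π d * π c)) * (π c)⁻¹ := by group
            _ = (π d * π c * π u) * (π c)⁻¹ := by rw [h1]
            _ = π d * (π c * π u) * (π c)⁻¹ := by group
            _ = π d * (π u * π c) * (π c)⁻¹ := by rw [hcu]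
            _ = π d * π u := by group
        have hdbot : π d ∈ (DD S G).map π ⊓ Subgroup.centralizer {π u} := by
          refine ⟨⟨d, hd, rfl⟩, ?_⟩
          show π d ∈ Subgroup.centralizer {π u}
          rw [mem_centralizer_iff]
          intro h hh
          rw [Set.mem_singleton_iff] at hh
          rw [hh]; exact hdu
        rw [hfpf (π u) hπuC hπu, Subgroup.mem_bot, hker] at hdbot
        rw [mem_Cn]
        have hcy : c * y = y * c := mem_Cn.mp hc
        have hdy := mem_center_iff.mp hdbot y
        calc d * c * y = d * (c * y) := by group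
          _ = d * (y * c) := by rw [hcy]
          _ = (d * y) * c := by group
          _ = (y * d) * c := by rw [← hdy]
          _ = y * (d * c) := by group
      have hge : Cn y ≤ Cn u := by
        have h1 := Subgroup.relIndex_mul_index hle
        have h2 : (Cn u).index = m := hum
        have h3 : (Cn y).index = m := hy
        rw [h2, h3] at h1
        have hmpos : 0 < m := by omega
        have h4 : (Cn u).relIndex (Cn y) = 1 := by
          have : (Cn u).relIndex (Cn y) * m = 1 * m := by rw [h1, one_mul]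
          exact Nat.eq_of_mul_eq_mul_right hmpos this
        exact Subgroup.relIndex_eq_one.mp h4
      have hvu : v * u = u * v := mem_Cn.mp (hge hv')
      exact hvu.symm
  · rw [hπ] at hF; exact hF
  · rw [hπ] at hK
    rw [hK, ← hCx]

end Cfsg.Agent.helper19.S4138fin
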