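import Mathlib
import Cfsg.Agent.S0034
import Cfsg.Agent.S0035
import Cfsg.Agent.Lib_lead_Coprime2
import Cfsg.Agent.Lib_helper7_Signalizer

set_option autoImplicit false
set_option linter.unusedVariables false
set_option linter.unusedSectionVars false
set_option linter.style.longLine false
set_option linter.style.haveILetI false
set_option linter.deprecated false

open scoped Pointwise

universe u

namespace Cfsg.Agent.helper19.SC

/-- `A` is central in every solvable subgroup containing it. -/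
def Hyp {G : Type u} [Group G] (A : Subgroup G) : Prop :=
  ∀ S : Subgroup G, A ≤ S → Group.IsSolvable S → ∀ a ∈ A, ∀ s ∈ S, a * s = s * a

/-- the induction hypothesis below `n`. -/
def IH (n : ℕ) : Prop :=
  ∀ (G : Type u) [Group G] [Finite G], Nat.card G < n → ∀ A : Subgroup G,
    Group.IsSolvable A → Hyp A → A ≤ Subgroup.center G

section basic
variable {G : Type u} [Group G]

/-- comap of a solvable subgroup under the quotient by a solvable normal subgroup is solvable -/
theorem solvable_comap_mk (R : Subgroup G) [R.Normal] (hR : Group.IsSolvable R)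
    (S : Subgroup (G ⧸ R)) (hS : Group.IsSolvable S) :
    Group.IsSolvable (S.comap (QuotientGroup.mk' R)) := by
  haveI := hR
  haveI := hS
  let g : ↥(S.comap (QuotientGroup.mk' R)) →* ↥S :=
    ((QuotientGroup.mk' R).comp (Subgroup.subtype _)).codRestrict S (fun x => x.2)
  have hRle : R ≤ S.comap (QuotientGroup.mk' R) := by
    intro r hr
    rw [Subgroup.mem_comap]
    have : (QuotientGroup.mk' R) r = 1 := (QuotientGroup.eq_one_iff r).mpr hr
    rw [this]; exact S.one_mem
  let f : ↥R →* ↥(S.comap (QuotientGroup.mk' R)) := Subgroup.inclusion hRle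
  refine solvable_of_ker_le_range f g ?_
  intro x hx
  rw [MonoidHom.mem_ker] at hx
  have h1 : (QuotientGroup.mk' R) (x : G) = 1 := by
    have := congrArg Subtype.val hx
    exact this
  have h2 : (x : G) ∈ R := (QuotientGroup.eq_one_iff _).mp h1
  exact ⟨⟨x, h2⟩, Subtype.ext rfl⟩

theorem Hyp.subgroupOf {A : Subgroup G} (h : Hyp A) (H : Subgroup G) (hAH : A ≤ H) :
    Hyp (A.subgroupOf H) := by
  intro S hAS hS a ha s hs
  have hS' : Group.IsSolvable (S.map H.subtype) := by
    haveI := hS
    exact solvable_of_surjective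
      (f := (S.equivMapOfInjective H.subtype H.subtype_injective).toMonoidHom)
      (MulEquiv.surjective _)
  have hA' : A ≤ S.map H.subtype := by
    intro x hx
    exact ⟨⟨x, hAH hx⟩, hAS (Subgroup.mem_subgroupOf.mpr hx), rfl⟩
  have := h (S.map H.subtype) hA' hS' (a : G) (Subgroup.mem_subgroupOf.mp ha) (s : G) ⟨s, hs, rfl⟩
  exact Subtype.ext this

theorem Hyp.quotient {A : Subgroup G} (h : Hyp A) (R : Subgroup G) [R.Normal]
    (hR : Group.IsSolvable R) : Hyp (A.map (QuotientGroup.mk' R)) := by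
  intro S hAS hS a ha s hs
  obtain ⟨a0, ha0, rfl⟩ := ha
  obtain ⟨s0, rfl⟩ := QuotientGroup.mk'_surjective R s
  have hS' := solvable_comap_mk R hR S hS
  have hA' : A ≤ S.comap (QuotientGroup.mk' R) := fun x hx => hAS ⟨x, hx, rfl⟩
  have := h _ hA' hS' a0 ha0 s0 hs
  rw [← map_mul, ← map_mul, this]

theorem comm_of_proper [Finite G] (ih : IH.{u} (Nat.card G)) {A : Subgroup G}
    (hA : Group.IsSolvable A) (h : Hyp A)
    (H : Subgroup G) (hH : H ≠ ⊤) (hAH : A ≤ H) : ∀ a ∈ A, ∀ x ∈ H, a * x = x * a := by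
  have hcard : Nat.card H < Nat.card G := by
    by_contra hge
    push Not at hge
    exact hH (Subgroup.eq_top_of_card_eq H (le_antisymm (Subgroup.card_le_card_group H) hge))
  have hA' : Group.IsSolvable (A.subgroupOf H) := by
    haveI := hA
    exact solvable_of_solvable_injective
      (f := (Subgroup.subgroupOfEquivOfLe hAH).toMonoidHom) (MulEquiv.injective _)
  have hcen := ih H hcard (A.subgroupOf H) hA' (h.subgroupOf H hAH)
  intro a ha x hx
  have h1 := hcen (Subgroup.mem_subgroupOf.mpr (show ((⟨a, hAH ha⟩ : H) : G) ∈ A from ha))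
  rw [Subgroup.mem_center_iff] at h1
  have h2 := h1 ⟨x, hx⟩
  exact (congrArg Subtype.val h2).symm

theorem central_of_normal_solvable [Finite G] (ih : IH.{u} (Nat.card G)) {A : Subgroup G}
    (hA : Group.IsSolvable A) (h : Hyp A)
    (R : Subgroup G) [R.Normal] (hR : Group.IsSolvable R) (hR1 : R ≠ ⊥) :
    A ≤ Subgroup.center G := by
  have hcard : Nat.card (G ⧸ R) < Nat.card G := by
    have h1 := Subgroup.card_eq_card_quotient_mul_card_subgroup R
    have h2 : 1 < Nat.card R := (Subgroup.one_lt_card_iff_ne_bot R).mpr hR1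
    have h3 : 0 < Nat.card (G ⧸ R) := Nat.card_pos
    nlinarith
  have hAbar : Group.IsSolvable (A.map (QuotientGroup.mk' R)) := by
    haveI := hA
    exact solvable_of_surjective (f := ((QuotientGroup.mk' R).subgroupMap A))
      ((QuotientGroup.mk' R).subgroupMap_surjective A)
  have hcen := ih (G ⧸ R) hcard _ hAbar (h.quotient R hR)
  obtain ⟨W, hW⟩ : ∃ W : Subgroup G, W = (A.map (QuotientGroup.mk' R)).comap (QuotientGroup.mk' R) :=
    ⟨_, rfl⟩
  have hWsol : Group.IsSolvable W := by rw [hW]; exact solvable_comap_mk R hR _ hAbar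
  haveI hWn : W.Normal := by
    haveI : (A.map (QuotientGroup.mk' R)).Normal := by
      constructor
      intro n hn g
      have := hcen hn
      rw [Subgroup.mem_center_iff] at this
      have e : g * n * g⁻¹ = n := by rw [this g]; group
      rw [e]; exact hn
    rw [hW]
    exact Subgroup.Normal.comap this _
  have hAW : A ≤ W := by
    intro x hx
    rw [hW]
    exact ⟨x, hx, rfl⟩
  intro a ha
  rw [Subgroup.mem_center_iff]
  intro g
  obtain ⟨Hg, hHg⟩ : ∃ Hg : Subgroup G,
      Hg = (Subgroup.zpowers ((QuotientGroup.mk' W) g)).comap (QuotientGroup.mk' W) := ⟨_, rfl⟩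
  have hHgsol : Group.IsSolvable Hg := by
    rw [hHg]
    apply solvable_comap_mk W hWsol
    infer_instance
  have hAHg : A ≤ Hg := by
    intro x hx
    rw [hHg, Subgroup.mem_comap]
    have : (QuotientGroup.mk' W) x = 1 := (QuotientGroup.eq_one_iff x).mpr (hAW hx)
    rw [this]; exact Subgroup.one_mem _
  have hgHg : g ∈ Hg := by
    rw [hHg, Subgroup.mem_comap]
    exact Subgroup.mem_zpowers _
  exact (h Hg hAHg hHgsol a ha g hgHg).symm

/-- A subgroup containing the normalizers of all its nontrivial `q`-subgroups is TI. -/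
theorem ti_of_local [Finite G] (C : Subgroup G)
    (hloc : ∀ (q : ℕ) [Fact q.Prime] (X : Subgroup G), IsPGroup q X → X ≠ ⊥ → X ≤ C →
      Subgroup.normalizer (X : Set G) ≤ C) :
    ∀ g : G, g ∉ C → ∀ x ∈ C, g⁻¹ * x * g ∈ C → x = 1 := by
  intro g hg x hxC hxg
  by_contra hx1
  obtain ⟨D, hD⟩ : ∃ D : Subgroup G, D = C ⊓ C.comap (MulAut.conj g⁻¹).toMonoidHom := ⟨_, rfl⟩
  have memD : ∀ y, y ∈ D ↔ y ∈ C ∧ g⁻¹ * y * g ∈ C := by
    intro y
    rw [hD, Subgroup.mem_inf, Subgroup.mem_comap]
    simp [MulAut.conj_apply]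
  have hxD : x ∈ D := (memD x).2 ⟨hxC, hxg⟩
  have hDbot : D ≠ ⊥ := by
    intro h; rw [h, Subgroup.mem_bot] at hxD; exact hx1 hxD
  have hDcard : Nat.card D ≠ 1 := by
    intro h; exact hDbot (Subgroup.card_eq_one.mp h)
  obtain ⟨q, hq, hqD⟩ := Nat.exists_prime_and_dvd hDcard
  haveI : Fact q.Prime := ⟨hq⟩
  obtain ⟨T0⟩ : Nonempty (Sylow q D) := inferInstance
  obtain ⟨T, hT⟩ : ∃ T : Subgroup G, T = (T0 : Subgroup D).map D.subtype := ⟨_, rfl⟩
  have hTD : T ≤ D := by rw [hT]; exact Subgroup.map_subtype_le _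
  have hTq : IsPGroup q T := by rw [hT]; exact T0.isPGroup'.map _
  have hTcard : Nat.card T = q ^ (Nat.card D).factorization q := by
    rw [hT, Subgroup.card_map_of_injective D.subtype_injective]
    exact T0.card_eq_multiplicity
  have hTbot : T ≠ ⊥ := by
    intro h
    have h1 : Nat.card T = 1 := by rw [h]; exact Subgroup.card_bot
    rw [hTcard] at h1
    have h2 : 0 < (Nat.card D).factorization q :=
      hq.factorization_pos_of_dvd (Nat.card_pos.ne') hqD
    have h3 : q ^ 1 ≤ q ^ (Nat.card D).factorization q := Nat.pow_le_pow_right hq.pos h2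
    rw [pow_one] at h3
    have := hq.two_le
    omega
  have hTC : T ≤ C := fun y hy => ((memD y).1 (hTD hy)).1
  have hN1 : Subgroup.normalizer (T : Set G) ≤ C := hloc q T hTq hTbot hTC
  obtain ⟨T', hT'⟩ : ∃ T' : Subgroup G, T' = T.map (MulAut.conj g⁻¹).toMonoidHom := ⟨_, rfl⟩
  have key : ∀ z, z ∈ T' ↔ g * z * g⁻¹ ∈ T := by
    intro z
    rw [hT']
    constructor
    · rintro ⟨w, hw, rfl⟩
      simp only [MulEquiv.coe_toMonoidHom, MulAut.conj_apply, inv_inv]
      have : g * (g⁻¹ * w * g) * g⁻¹ = w := by group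
      rw [this]; exact hw
    · intro hz
      refine ⟨g * z * g⁻¹, hz, ?_⟩
      simp only [MulEquiv.coe_toMonoidHom, MulAut.conj_apply, inv_inv]
      group
  have hT'q : IsPGroup q T' := by rw [hT']; exact hTq.map _
  have hT'C : T' ≤ C := by
    intro z hz
    have h1 := (key z).1 hz
    have h2 := ((memD _).1 (hTD h1)).2
    have e : g⁻¹ * (g * z * g⁻¹) * g = z := by group
    rwa [e] at h2
  have hT'bot : T' ≠ ⊥ := by
    intro h
    apply hTbot
    rw [eq_bot_iff]
    intro y hy
    have : g⁻¹ * y * g ∈ T' := by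
      rw [key]
      have e : g * (g⁻¹ * y * g) * g⁻¹ = y := by group
      rw [e]; exact hy
    rw [h, Subgroup.mem_bot] at this
    rw [Subgroup.mem_bot]
    have e : y = g * (g⁻¹ * y * g) * g⁻¹ := by group
    rw [e, this]; group
  have hN2 : Subgroup.normalizer (T' : Set G) ≤ C := hloc q T' hT'q hT'bot hT'C
  have hND : Subgroup.normalizer (T : Set G) ≤ D := by
    intro n hn
    rw [memD]
    refine ⟨hN1 hn, hN2 ?_⟩
    rw [Subgroup.mem_normalizer_iff] at hn ⊢
    intro y
    rw [key, key]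
    have e : g * (g⁻¹ * n * g * y * (g⁻¹ * n * g)⁻¹) * g⁻¹ = n * (g * y * g⁻¹) * n⁻¹ := by group
    rw [e]
    exact hn (g * y * g⁻¹)
  -- T is Sylow in G
  have hmax : ∀ Q : Subgroup G, IsPGroup q Q → T ≤ Q → Q = T := by
    intro Q hQ hTQ
    by_contra hne
    have hlt : T.subgroupOf Q < ⊤ := by
      rw [lt_top_iff_ne_top]
      intro h
      apply hne
      apply le_antisymm _ hTQ
      intro y hy
      have : (⟨y, hy⟩ : Q) ∈ T.subgroupOf Q := by rw [h]; exact Subgroup.mem_top _
      exact Subgroup.mem_subgroupOf.mp this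
    haveI : Group.IsNilpotent Q := hQ.isNilpotent
    have hnc := normalizerCondition_of_isNilpotent (G := Q) (T.subgroupOf Q) hlt
    obtain ⟨z, hzN, hzT⟩ := SetLike.exists_of_lt hnc
    have hzNG : (z : G) ∈ Subgroup.normalizer (T : Set G) := by
      rw [Subgroup.mem_normalizer_iff] at hzN ⊢
      intro y
      constructor
      · intro hy
        have := (hzN ⟨y, hTQ hy⟩).1 (Subgroup.mem_subgroupOf.mpr hy)
        exact Subgroup.mem_subgroupOf.mp this
      · intro hy
        have hyQ : y ∈ Q := by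
          have e : y = (z : G)⁻¹ * ((z : G) * y * (z : G)⁻¹) * (z : G) := by group
          rw [e]
          exact Q.mul_mem (Q.mul_mem (Q.inv_mem z.2) (hTQ hy)) z.2
        have := (hzN ⟨y, hyQ⟩).2 (Subgroup.mem_subgroupOf.mpr hy)
        exact Subgroup.mem_subgroupOf.mp this
    have hzD : (z : G) ∈ D := hND hzNG
    have hEq : IsPGroup q ((Q ⊓ D).subgroupOf D) := (hQ.to_le inf_le_left).comap_subtype
    have hT0E : (T0 : Subgroup D) ≤ (Q ⊓ D).subgroupOf D := by
      intro y hy
      rw [Subgroup.mem_subgroupOf]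
      have : (y : G) ∈ T := by rw [hT]; exact ⟨y, hy, rfl⟩
      exact Subgroup.mem_inf.2 ⟨hTQ this, y.2⟩
    have hE := T0.is_maximal' hEq hT0E
    have hz0 : (⟨(z : G), hzD⟩ : D) ∈ (T0 : Subgroup D) := by
      rw [← hE, Subgroup.mem_subgroupOf]
      exact Subgroup.mem_inf.2 ⟨z.2, hzD⟩
    apply hzT
    rw [Subgroup.mem_subgroupOf, hT]
    exact ⟨⟨(z : G), hzD⟩, hz0, rfl⟩
  let P : Sylow q G :=
    { toSubgroup := T, isPGroup' := hTq, is_maximal' := fun {Q} hQ hTQ => hmax Q hQ hTQ }
  have hP1 : (P : Subgroup G) ≤ C := hTC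
  have hP2 : ((g⁻¹ • P : Sylow q G) : Subgroup G) ≤ C := by
    intro y hy
    have hy' : y ∈ MulAut.conj g⁻¹ • T := hy
    rw [Subgroup.mem_pointwise_smul_iff_inv_smul_mem] at hy'
    have hy2 : g * y * g⁻¹ ∈ T := by
      simpa [MulAut.smul_def, MulAut.conj_inv_apply] using hy'
    exact hT'C ((key y).2 hy2)
  obtain ⟨c, hc⟩ := MulAction.exists_smul_eq (↥C) (P.subtype hP1) ((g⁻¹ • P).subtype hP2)
  rw [Sylow.smul_subtype] at hc
  have hc' : c • P = g⁻¹ • P := Sylow.subtype_injective hc
  have hfix : (g * (c : G)) • P = P := by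
    rw [mul_smul]
    have : (c : G) • P = g⁻¹ • P := hc'
    rw [this, smul_inv_smul]
  have hgc : g * (c : G) ∈ Subgroup.normalizer ((P : Subgroup G) : Set G) :=
    Sylow.smul_eq_iff_mem_normalizer.mp hfix
  have hgcC : g * (c : G) ∈ C := hN1 hgc
  apply hg
  have e : g = g * (c : G) * (c : G)⁻¹ := by group
  rw [e]; exact C.mul_mem hgcC (C.inv_mem c.2)

theorem main_step [Finite G] (ih : IH.{u} (Nat.card G)) (A : Subgroup G)
    (hA : Group.IsSolvable A) (h : Hyp A) : A ≤ Subgroup.center G := by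
  by_contra hnc
  have hAab : ∀ a ∈ A, ∀ b ∈ A, a * b = b * a := h A le_rfl hA
  obtain ⟨C, hC⟩ : ∃ C : Subgroup G, C = Subgroup.centralizer (A : Set G) := ⟨_, rfl⟩
  have memC : ∀ x, x ∈ C ↔ ∀ a ∈ A, a * x = x * a := by
    intro x
    rw [hC, Subgroup.mem_centralizer_iff]
    rfl
  have hAC : A ≤ C := by
    intro a ha
    rw [memC]
    intro b hb
    exact hAab b hb a ha
  have hCtop : C ≠ ⊤ := by
    intro htop
    apply hnc
    intro a ha
    rw [Subgroup.mem_center_iff]
    intro g
    have hg : g ∈ C := htop ▸ Subgroup.mem_top g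
    rw [memC] at hg
    exact (hg a ha).symm
  have hCbot : C ≠ ⊥ := by
    intro hbot
    apply hnc
    have : A = ⊥ := by rw [eq_bot_iff, ← hbot]; exact hAC
    rw [this]; exact bot_le
  have hprop : ∀ H : Subgroup G, H ≠ ⊤ → A ≤ H → H ≤ C := by
    intro H hH hAH x hx
    rw [memC]
    intro a ha
    exact comm_of_proper ih hA h H hH hAH a ha x hx
  have hnosol : ∀ R : Subgroup G, R.Normal → Group.IsSolvable R → R = ⊥ := by
    intro R hRn hRs
    by_contra hR1
    exact hnc (central_of_normal_solvable ih hA h R hRs hR1)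
  have hloc : ∀ (q : ℕ) [Fact q.Prime] (X : Subgroup G), IsPGroup q X → X ≠ ⊥ → X ≤ C →
      Subgroup.normalizer (X : Set G) ≤ C := by
    intro q _ X hXq hX1 hXC
    apply hprop
    · intro htop
      apply hX1
      haveI : X.Normal := Subgroup.normalizer_eq_top_iff.mp htop
      haveI : Group.IsNilpotent X := hXq.isNilpotent
      exact hnosol X inferInstance inferInstance
    · intro a ha
      rw [Subgroup.mem_normalizer_iff]
      intro y
      have hcomm : ∀ b ∈ A, ∀ z ∈ X, b * z * b⁻¹ = z := by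
        intro b hb z hz
        have := (memC z).1 (hXC hz) b hb
        rw [this]; group
      constructor
      · intro hy; rw [hcomm a ha y hy]; exact hy
      · intro hy
        have h1 := hcomm a⁻¹ (A.inv_mem ha) _ hy
        have e : a⁻¹ * (a * y * a⁻¹) * a⁻¹⁻¹ = y := by group
        rw [e] at h1
        rw [h1]; exact hy
  have hTI := ti_of_local C hloc
  have hFC : Cfsg.IsFrobeniusComplement C := by
    refine ⟨hCbot, hCtop, fun g hg => ?_⟩
    rw [eq_bot_iff]
    intro x hx
    rw [Subgroup.mem_inf] at hx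
    rw [Subgroup.mem_bot]
    apply hTI g hg x hx.1
    have := hx.2
    rw [Subgroup.mem_pointwise_smul_iff_inv_smul_mem] at this
    simpa [MulAut.smul_def, MulAut.conj_inv_apply] using this
  obtain ⟨N, hNcar, hNn, hNC⟩ := Cfsg.Agent.S0035.result C hFC
  obtain ⟨hk1, hk2⟩ := Cfsg.Agent.S0034.result C hFC
  have hNcard : Nat.card N = C.index := by
    rw [← hk1]
    exact Nat.card_congr (Equiv.setCongr hNcar)
  have hcopCN : (Nat.card C).Coprime (Nat.card N) := by
    rw [hNcard]
    unfold Nat.Coprime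
    rw [Nat.gcd_rec, hk2, ← Nat.gcd_rec]
    exact Nat.gcd_one_right _
  have hcopAN : (Nat.card A).Coprime (Nat.card N) :=
    Nat.Coprime.coprime_dvd_left (Subgroup.card_dvd_of_le hAC) hcopCN
  have hN1 : Nat.card N ≠ 1 := by
    rw [hNcard]; intro h1; exact hCtop (Subgroup.index_eq_one.mp h1)
  obtain ⟨q, hq, hqN⟩ := Nat.exists_prime_and_dvd hN1
  haveI : Fact q.Prime := ⟨hq⟩
  have hAN : A ≤ Subgroup.normalizer (N : Set G) := by
    rw [Subgroup.normalizer_eq_top_iff.mpr hNn]; exact le_top
  obtain ⟨P, hPN, hPcard, hAP⟩ :=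
    Cfsg.Agent.lead.exists_invariant_sylow A N hAN hcopAN (Or.inl hA) q
  have hPq : IsPGroup q P := IsPGroup.of_card hPcard
  haveI : Group.IsNilpotent P := hPq.isNilpotent
  have hPsol : Group.IsSolvable P := inferInstance
  have hS := Cfsg.Agent.helper7.solvable_sup hPsol hA hAP
  have hcomm := h (P ⊔ A) le_sup_right hS
  have hPC : P ≤ C := by
    intro s hs
    rw [memC]
    intro a ha
    exact hcomm a ha s ((le_sup_left : P ≤ P ⊔ A) hs)
  have hPbot : P = ⊥ := by
    have hdis := hNC.disjoint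
    rw [Subgroup.disjoint_def] at hdis
    rw [eq_bot_iff]
    intro s hs
    rw [Subgroup.mem_bot]
    exact hdis (hPN hs) (hPC hs)
  have h1 : Nat.card P = 1 := by rw [hPbot]; exact Subgroup.card_bot
  rw [hPcard] at h1
  have h2 : 0 < (Nat.card N).factorization q :=
    hq.factorization_pos_of_dvd (Nat.card_pos.ne') hqN
  have h3 : q ^ 1 ≤ q ^ (Nat.card N).factorization q := Nat.pow_le_pow_right hq.pos h2
  rw [pow_one] at h3
  have := hq.two_le
  omega

end basic

theorem main : ∀ (n : ℕ) (G : Type u) [Group G] [Finite G], Nat.card G = n →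
    ∀ A : Subgroup G, Group.IsSolvable A → Hyp A → A ≤ Subgroup.center G := by
  intro n
  induction n using Nat.strong_induction_on with
  | _ n ih =>
    intro G _ _ hn A hA h
    apply main_step _ A hA h
    intro G' _ _ hlt A' hA' h'
    exact ih (Nat.card G') (hn ▸ hlt) G' rfl A' hA' h'

end Cfsg.Agent.helper19.SC
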