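import Mathlib
import Cfsg.Agent.S0625
import Cfsg.Agent.Lib_helper1_Core
import Cfsg.Agent.Lib_helper23_Solv
import Cfsg.Agent.Lib_helper23_PSolv3
import Cfsg.Agent.Lib_helper23_BG5f
import Cfsg.Agent.Lib_helper21_PGroupAut
import Cfsg.Agent.Lib_helper7_Fitting

set_option autoImplicit false
set_option linter.style.haveILetI false
set_option linter.deprecated false
set_option linter.unusedVariables false
set_option linter.unusedSectionVars false
open Cfsg

universe u

namespace Cfsg.Agent.helper19.SCNCent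

/-- A `q'`-element whose `q^k`-th power lies in a subgroup lies in that subgroup. -/
theorem mem_of_pow_mem_coprime {G : Type*} [Group G] [Finite G] (K : Subgroup G) (y : G) (n : ℕ)
    (hn : (orderOf y).Coprime n) (h : y ^ n ∈ K) : y ∈ K := by
  obtain ⟨m, hm⟩ := exists_pow_eq_self_of_coprime hn.symm
  rw [← hm]
  exact K.pow_mem h m

/-- Elements of the section kernel move elements of `P` inside `N`. -/
theorem sectionKernel_comm_mem {G : Type*} [Group G] (P N : Subgroup G) [N.Normal] (g : G)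
    (hg : g ∈ sectionKernel P N) (z : G) (hz : z ∈ P) : g * z * g⁻¹ * z⁻¹ ∈ N := by
  unfold sectionKernel at hg
  rw [Subgroup.mem_comap, Subgroup.mem_centralizer_iff] at hg
  have h1 := hg (QuotientGroup.mk' N z) (Subgroup.mem_map_of_mem _ hz)
  rw [← QuotientGroup.ker_mk' N, MonoidHom.mem_ker]
  simp only [map_mul, map_inv]
  rw [← h1]
  group

/-- Burnside: a `q'`-element acting trivially on `P/Φ(P)` centralizes the normal `q`-subgroup `P`. -/
theorem centralizes_of_mem_sectionKernel {G : Type*} [Group G] [Finite G] {q : ℕ} [hq : Fact q.Prime]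
    (P : Subgroup G) [P.Normal] (hP : IsPGroup q P) (N : Subgroup G) [N.Normal]
    (hN : N = (frattini ↥P).map P.subtype)
    (y : G) (hy : y ∈ sectionKernel P N) (hcop : (orderOf y).Coprime q) :
    y ∈ Subgroup.centralizer (P : Set G) := by
  obtain ⟨α, hα⟩ : ∃ α : MulAut ↥P, α = MulAut.conjNormal y := ⟨_, rfl⟩
  obtain ⟨n, hn⟩ := IsPGroup.iff_card.1 hP
  have hidx : ∃ r, (frattini ↥P).index = q ^ r := by
    have hdvd : (frattini ↥P).index ∣ q ^ n := hn ▸ Subgroup.index_dvd_card _
    obtain ⟨r, _, hr⟩ := (Nat.dvd_prime_pow hq.out).1 hdvd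
    exact ⟨r, hr⟩
  obtain ⟨r, hr⟩ := hidx
  have hA : ∀ β ∈ Subgroup.zpowers α, ∀ x : ↥P, β x * x⁻¹ ∈ frattini ↥P := by
    rintro β ⟨k, rfl⟩ x
    have e : α ^ k = MulAut.conjNormal (y ^ k) := by rw [hα, map_zpow]
    have hyk : y ^ k ∈ sectionKernel P N := (sectionKernel P N).zpow_mem hy k
    have h1 := sectionKernel_comm_mem P N (y ^ k) hyk (x : G) x.2
    rw [hN] at h1
    obtain ⟨w, hw, hw2⟩ := h1
    have : (α ^ k) x * x⁻¹ = w := by
      apply Subtype.ext
      rw [e]
      simp only [Subgroup.coe_mul, MulAut.conjNormal_apply, Subgroup.coe_inv]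
      exact hw2.symm
    change (α ^ k) x * x⁻¹ ∈ frattini ↥P
    rw [this]; exact hw
  have hdvd := Cfsg.Agent.helper21.card_dvd_of_fix_frattini hn hr (Subgroup.zpowers α) hA
  rw [Nat.card_zpowers] at hdvd
  have hdvd2 : orderOf α ∣ orderOf y := by
    rw [hα]; exact orderOf_map_dvd _ y
  have hone : orderOf α = 1 := by
    have h1 : (orderOf α).Coprime (q ^ (r * (n - r))) :=
      Nat.Coprime.pow_right _ (Nat.Coprime.coprime_dvd_left hdvd2 hcop)
    exact Nat.Coprime.eq_one_of_dvd h1 hdvd
  rw [orderOf_eq_one_iff] at hone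
  rw [Subgroup.mem_centralizer_iff]
  intro z hz
  have h2 : α ⟨z, hz⟩ = ⟨z, hz⟩ := by rw [hone]; rfl
  rw [hα] at h2
  have h3 := congrArg Subtype.val h2
  simp only [MulAut.conjNormal_apply] at h3
  calc z * y = (y * z * y⁻¹) * y := by rw [h3]
    _ = y * z := by group

/-- A subgroup all of whose `q'`-elements are central is nilpotent. -/
theorem nilpotent_of_pprime_central {G : Type*} [Group G] [Finite G] {q : ℕ} [hq : Fact q.Prime]
    (h : ∀ y : G, (orderOf y).Coprime q → y ∈ Subgroup.center G) : Group.IsNilpotent G := by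
  have hquot : IsPGroup q (G ⧸ Subgroup.center G) := by
    intro g
    obtain ⟨w, rfl⟩ := QuotientGroup.mk_surjective g
    obtain ⟨k, m, hm, hkm⟩ := Nat.exists_eq_pow_mul_and_not_dvd (orderOf_pos w).ne' q hq.out.ne_one
    refine ⟨k, ?_⟩
    rw [← QuotientGroup.mk_pow, QuotientGroup.eq_one_iff]
    apply h
    have : orderOf (w ^ q ^ k) = m := by
      rw [orderOf_pow' w (pow_ne_zero k hq.out.ne_zero), hkm, Nat.gcd_eq_right (Dvd.intro _ rfl)]
      exact Nat.mul_div_cancel_left m (pow_pos hq.out.pos k)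
    rw [this]
    exact (Nat.Coprime.symm ((Nat.Prime.coprime_iff_not_dvd hq.out).2 hm))
  haveI : Group.IsNilpotent (G ⧸ Subgroup.center G) := hquot.isNilpotent
  exact Group.of_quotient_center_nilpotent inferInstance

/-- A `q'`-element of the Fitting subgroup commutes with everything centralizing the `O_r`, `r ≠ q`. -/
theorem comm_of_mem_fitting_pprime {G : Type*} [Group G] [Finite G] {q : ℕ} [hq : Fact q.Prime]
    (y : G) (hyF : y ∈ fittingSubgroup G) (hcop : (orderOf y).Coprime q) (w : G)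
    (hw : ∀ r : ℕ, r.Prime → r ≠ q → w ∈ Subgroup.centralizer (pCore r G : Set G)) :
    w * y = y * w := by
  have h1 : (⊤ : Subgroup ↥(Subgroup.zpowers y)).map (Subgroup.zpowers y).subtype ≤
      Subgroup.centralizer {w} := by
    rw [← Cfsg.Agent.helper7.iSup_sylow_eq_top, Subgroup.map_iSup]
    apply iSup_le
    rintro ⟨r, hr⟩
    rw [Subgroup.map_iSup]
    apply iSup_le
    intro R
    haveI : Fact r.Prime := ⟨hr⟩
    by_cases hrq : r = q
    · have hbot : (R : Subgroup ↥(Subgroup.zpowers y)) = ⊥ := by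
        obtain ⟨k', hk'⟩ := IsPGroup.iff_card.1 R.2
        have hd : Nat.card (R : Subgroup ↥(Subgroup.zpowers y)) ∣ orderOf y := by
          rw [← Nat.card_zpowers]
          exact Subgroup.card_subgroup_dvd_card _
        have hc : (Nat.card (R : Subgroup ↥(Subgroup.zpowers y))).Coprime (orderOf y) := by
          rw [hk']
          change (r ^ k').Coprime (orderOf y)
          rw [hrq]
          exact Nat.Coprime.pow_left _ hcop.symm
        exact Subgroup.card_eq_one.1 (Nat.Coprime.eq_one_of_dvd hc hd)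
      simp only [] at hbot ⊢
      rw [hbot, Subgroup.map_bot]
      exact bot_le
    · have hle : (R : Subgroup ↥(Subgroup.zpowers y)).map (Subgroup.zpowers y).subtype ≤
          pCore r G := by
        apply Cfsg.Agent.helper23.le_pCore_of_le_fitting
        · rintro _ ⟨z, _, rfl⟩
          exact (Subgroup.zpowers_le.2 hyF) z.2
        · exact R.2.map _
      intro z hz
      have h2 := hw r hr hrq
      rw [Subgroup.mem_centralizer_iff] at h2 ⊢
      intro t ht
      rw [Set.mem_singleton_iff] at ht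
      subst ht
      exact (h2 z (hle hz)).symm
  have hy : y ∈ (⊤ : Subgroup ↥(Subgroup.zpowers y)).map (Subgroup.zpowers y).subtype :=
    ⟨⟨y, Subgroup.mem_zpowers y⟩, Subgroup.mem_top _, rfl⟩
  have h3 := h1 hy
  rw [Subgroup.mem_centralizer_iff] at h3
  exact h3 w (Set.mem_singleton w)

theorem sectionKernel_normal {G : Type*} [Group G] (P N : Subgroup G) [P.Normal] [N.Normal] :
    (sectionKernel P N).Normal := by
  unfold sectionKernel
  haveI : (P.map (QuotientGroup.mk' N)).Normal :=
    Subgroup.Normal.map inferInstance _ (QuotientGroup.mk'_surjective N)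
  haveI : (Subgroup.centralizer ((P.map (QuotientGroup.mk' N) : Subgroup (G ⧸ N)) : Set (G ⧸ N))).Normal :=
    Subgroup.normal_centralizer
  exact Subgroup.Normal.comap inferInstance _

/-- Lemma K: a `q`-element (`q ≥ 5`) of a solvable group acting quadratically on `O_q` and trivially
on the other `O_r` lies in `O_q`. -/
theorem mem_pCore_of_quadratic {Q : Type u} [Group Q] [Finite Q] [Group.IsSolvable Q] {q : ℕ}
    [hq : Fact q.Prime] (hq5 : 5 ≤ q) (x : Q) (hxq : ∃ k : ℕ, x ^ (q ^ k) = 1)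
    (hcent : ∀ r : ℕ, r.Prime → r ≠ q → x ∈ Subgroup.centralizer (pCore r Q : Set Q))
    (hquad : ⁅⁅pCore q Q, Subgroup.zpowers x⁆, Subgroup.zpowers x⁆ = ⊥) :
    x ∈ pCore q Q := by
  haveI hPn : (pCore q Q).Normal := Cfsg.Agent.helper1.pCore_normal q
  have hPq : IsPGroup q (pCore q Q) := Cfsg.Agent.helper1.pCore_isPGroup q
  have hst := (Cfsg.Agent.S0625.result hq5 (Cfsg.Agent.helper23.isPSolvable_of_solvable q Q)).2.1
  obtain ⟨D, hDn, hKD, ⟨k, hk⟩, hxD⟩ := hst x (by rw [hquad]; exact bot_le)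
  haveI := hDn
  obtain ⟨K, hK⟩ : ∃ K : Subgroup Q, K = sectionKernel (pCore q Q)
      ((frattini ↥(pCore q Q)).map (pCore q Q).subtype) := ⟨_, rfl⟩
  rw [← hK] at hKD hk
  haveI hKn : K.Normal := by rw [hK]; exact sectionKernel_normal _ _
  obtain ⟨Z, hZ⟩ : ∃ Z : Subgroup Q, Z = ⨅ r : {r : ℕ // r.Prime ∧ r ≠ q},
      Subgroup.centralizer (pCore r.1 Q : Set Q) := ⟨_, rfl⟩
  haveI hZn : Z.Normal := by
    rw [hZ]
    apply Subgroup.normal_iInf_normal
    intro r
    haveI := Cfsg.Agent.helper1.pCore_normal (G := Q) r.1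
    exact Subgroup.normal_centralizer
  have hxZ : x ∈ Z := by
    rw [hZ, Subgroup.mem_iInf]
    intro r
    exact hcent r.1 r.2.1 r.2.2
  obtain ⟨Y, hY⟩ : ∃ Y : Subgroup Q, Y = D ⊓ Z := ⟨_, rfl⟩
  haveI hYn : Y.Normal := by rw [hY]; exact Subgroup.normal_inf_normal D Z
  have hxY : x ∈ Y := by rw [hY]; exact ⟨hxD, hxZ⟩
  have hsc : Subgroup.centralizer ((fittingSubgroup Q : Subgroup Q) : Set Q) ≤ fittingSubgroup Q :=
    Cfsg.Agent.helper23.fitting_self_centralizing
      (Cfsg.Agent.helper23.ppreach_top_of_solvable _ Q rfl)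
  have key : ∀ y ∈ Y, (orderOf y).Coprime q → ∀ w ∈ Y, w * y = y * w := by
    intro y hyY hcop w hwY
    rw [hY] at hyY hwY
    have hyK : y ∈ K := by
      haveI : (K.subgroupOf D).Normal := hKn.subgroupOf D
      have h1 := Subgroup.pow_index_mem (K.subgroupOf D) (⟨y, hyY.1⟩ : ↥D)
      have h2 : (K.subgroupOf D).index = q ^ k := hk
      rw [h2, Subgroup.mem_subgroupOf] at h1
      simp only [Subgroup.coe_pow] at h1
      exact mem_of_pow_mem_coprime K y (q ^ k) (Nat.Coprime.pow_right _ hcop) h1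
    have hyP : y ∈ Subgroup.centralizer (pCore q Q : Set Q) := by
      rw [hK] at hyK
      exact centralizes_of_mem_sectionKernel _ hPq _ rfl y hyK hcop
    have hyZ : ∀ r : ℕ, r.Prime → r ≠ q → y ∈ Subgroup.centralizer (pCore r Q : Set Q) := by
      intro r hr hrq
      have : y ∈ Z := hyY.2
      rw [hZ, Subgroup.mem_iInf] at this
      exact this ⟨r, hr, hrq⟩
    have hyF : y ∈ Subgroup.centralizer ((fittingSubgroup Q : Subgroup Q) : Set Q) := by
      have hle : fittingSubgroup Q ≤ Subgroup.centralizer ({y} : Set Q) := by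
        rw [Cfsg.Agent.helper1.fitting_eq_iSup_pCore]
        apply iSup_le
        intro r h hh
        rw [Subgroup.mem_centralizer_iff]
        intro t ht
        rw [Set.mem_singleton_iff] at ht
        subst ht
        by_cases hrq : (r : ℕ) = q
        · rw [hrq] at hh
          rw [Subgroup.mem_centralizer_iff] at hyP
          exact (hyP h hh).symm
        · have := hyZ r r.2 hrq
          rw [Subgroup.mem_centralizer_iff] at this
          exact (this h hh).symm
      rw [Subgroup.mem_centralizer_iff]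
      intro h hh
      have := hle hh
      rw [Subgroup.mem_centralizer_iff] at this
      exact (this y (Set.mem_singleton y)).symm
    have hyF' : y ∈ fittingSubgroup Q := hsc hyF
    apply comm_of_mem_fitting_pprime y hyF' hcop w
    intro r hr hrq
    have : w ∈ Z := hwY.2
    rw [hZ, Subgroup.mem_iInf] at this
    exact this ⟨r, hr, hrq⟩
  have hnil : Group.IsNilpotent ↥Y := by
    apply nilpotent_of_pprime_central (q := q)
    intro y hy
    rw [Subgroup.mem_center_iff]
    intro w
    apply Subtype.ext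
    have hy' : (orderOf (y : Q)).Coprime q := by rwa [Subgroup.orderOf_coe]
    exact key y y.2 hy' w w.2
  have hYF : Y ≤ fittingSubgroup Q := Cfsg.Agent.helper1.le_fitting hYn hnil
  have hzp : Subgroup.zpowers x ≤ pCore q Q := by
    apply Cfsg.Agent.helper23.le_pCore_of_le_fitting
    · exact Subgroup.zpowers_le.2 (hYF hxY)
    · obtain ⟨j, hj⟩ := hxq
      intro z
      obtain ⟨z, ⟨m, rfl⟩⟩ := z
      refine ⟨j, ?_⟩
      apply Subtype.ext
      simp only [Subgroup.coe_pow, Subgroup.coe_one]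
      rw [← zpow_natCast, ← zpow_mul, mul_comm, zpow_mul, zpow_natCast, hj, one_zpow]
  exact hzp (Subgroup.mem_zpowers x)

theorem conj_pow_of_comm {G : Type*} [Group G] (d y a : G) (h : d * y * d⁻¹ = a * y)
    (hc : d * a = a * d) (n : ℕ) : d ^ n * y * (d ^ n)⁻¹ = a ^ n * y := by
  induction n with
  | zero => simp
  | succ n ih =>
    have hc' : d * a ^ n = a ^ n * d := by
      have : Commute d a := hc
      exact (this.pow_right n).eq
    calc d ^ (n + 1) * y * (d ^ (n + 1))⁻¹ = d * (d ^ n * y * (d ^ n)⁻¹) * d⁻¹ := by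
          rw [pow_succ']; group
      _ = d * (a ^ n * y) * d⁻¹ := by rw [ih]
      _ = (d * a ^ n) * y * d⁻¹ := by group
      _ = a ^ n * (d * y * d⁻¹) := by rw [hc']; group
      _ = a ^ (n + 1) * y := by rw [h, pow_succ]; group

/-- Lemma A', prime-power elements. -/
theorem mem_of_prime_power {Q : Type u} [Group Q] [Finite Q] [Group.IsSolvable Q]
    (hsmall : ∀ r : ℕ, r.Prime → r < 5 → pCore r Q = ⊥)
    (Φ A : Subgroup Q) (hFΦ : fittingSubgroup Q ≤ Φ) (hA : IsSCN Φ A)
    (q : ℕ) [hq : Fact q.Prime] (d : Q) (hd : d ∈ Subgroup.centralizer (A : Set Q))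
    (hdq : ∃ k : ℕ, d ^ (q ^ k) = 1) : d ∈ A := by
  obtain ⟨hAΦ, hΦN, hΦC⟩ := hA
  haveI hFn : (fittingSubgroup Q).Normal := Cfsg.Agent.helper1.fitting_normal
  have ha : ∀ y ∈ fittingSubgroup Q, ∀ z ∈ Subgroup.centralizer (A : Set Q),
      y * z * y⁻¹ * z⁻¹ ∈ A := by
    intro y hy z hz
    rw [← hΦC]
    refine Subgroup.mem_inf.2 ⟨?_, ?_⟩
    · apply hFΦ
      have h1 : z * y⁻¹ * z⁻¹ ∈ fittingSubgroup Q := hFn.conj_mem _ (inv_mem hy) z
      have h2 := mul_mem hy h1
      have e : y * z * y⁻¹ * z⁻¹ = y * (z * y⁻¹ * z⁻¹) := by group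
      rw [e]; exact h2
    · rw [Subgroup.mem_centralizer_iff] at hz ⊢
      intro a haA
      have hyN := hΦN (hFΦ hy)
      rw [Subgroup.mem_normalizer_iff] at hyN
      have h1 : y⁻¹ * a * y ∈ A := by
        apply (hyN (y⁻¹ * a * y)).2
        have e : y * (y⁻¹ * a * y) * y⁻¹ = a := by group
        rw [e]; exact haA
      have h2 := hz _ h1
      have h3 := hz a haA
      have h2' : a * (y * z * y⁻¹) = (y * z * y⁻¹) * a := by
        have e1 : a * (y * z * y⁻¹) = y * ((y⁻¹ * a * y) * z) * y⁻¹ := by group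
        rw [e1, h2]; group
      have h3' : a * z⁻¹ = z⁻¹ * a := by
        have e1 : a * z⁻¹ = z⁻¹ * (z * a) * z⁻¹ := by group
        rw [e1, ← h3]; group
      calc a * (y * z * y⁻¹ * z⁻¹) = (a * (y * z * y⁻¹)) * z⁻¹ := by group
        _ = (y * z * y⁻¹) * (a * z⁻¹) := by rw [h2']; group
        _ = y * z * y⁻¹ * z⁻¹ * a := by rw [h3']; group
  obtain ⟨k, hk⟩ := hdq
  have hb : ∀ r : ℕ, r.Prime → r ≠ q → d ∈ Subgroup.centralizer (pCore r Q : Set Q) := by
    intro r hr hrq
    haveI : Fact r.Prime := ⟨hr⟩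
    haveI hRn : (pCore r Q).Normal := Cfsg.Agent.helper1.pCore_normal r
    have hRp : IsPGroup r (pCore r Q) := Cfsg.Agent.helper1.pCore_isPGroup r
    rw [Subgroup.mem_centralizer_iff]
    intro y hy
    have hyF : y ∈ fittingSubgroup Q := Cfsg.Agent.helper1.pCore_le_fitting r hy
    obtain ⟨a, haeq⟩ : ∃ a : Q, a = d * y * d⁻¹ * y⁻¹ := ⟨_, rfl⟩
    have haA : a ∈ A := by
      have h1 := ha y hyF d hd
      have e : a = (y * d * y⁻¹ * d⁻¹)⁻¹ := by rw [haeq]; group
      rw [e]; exact inv_mem h1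
    have haR : a ∈ pCore r Q := by
      rw [haeq]
      exact mul_mem (hRn.conj_mem y hy d) (inv_mem hy)
    have hcomm : d * a = a * d := by
      rw [Subgroup.mem_centralizer_iff] at hd
      exact (hd a haA).symm
    have hconj : d * y * d⁻¹ = a * y := by rw [haeq]; group
    have h1 := conj_pow_of_comm d y a hconj hcomm (q ^ k)
    rw [hk] at h1
    have h2 : a ^ (q ^ k) = 1 := by
      have h3 : y = a ^ (q ^ k) * y := by simpa using h1
      exact mul_eq_right.1 h3.symm
    obtain ⟨j, hj⟩ := hRp ⟨a, haR⟩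
    have hj' : a ^ (r ^ j) = 1 := by
      have := congrArg Subtype.val hj
      simpa using this
    have hone : orderOf a = 1 := by
      have h3 : orderOf a ∣ q ^ k := orderOf_dvd_of_pow_eq_one h2
      have h4 : orderOf a ∣ r ^ j := orderOf_dvd_of_pow_eq_one hj'
      have hqr : (q ^ k).Coprime (r ^ j) :=
        Nat.Coprime.pow _ _ ((Nat.coprime_primes hq.out hr).2 (Ne.symm hrq))
      exact Nat.Coprime.eq_one_of_dvd (Nat.Coprime.coprime_dvd_left h3 hqr) h4
    rw [orderOf_eq_one_iff] at hone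
    rw [hone, one_mul] at hconj
    calc y * d = (d * y * d⁻¹) * d := by rw [hconj]
      _ = d * y := by group
  -- `d ∈ O_q(Q)`
  have hsc : Subgroup.centralizer ((fittingSubgroup Q : Subgroup Q) : Set Q) ≤ fittingSubgroup Q :=
    Cfsg.Agent.helper23.fitting_self_centralizing
      (Cfsg.Agent.helper23.ppreach_top_of_solvable _ Q rfl)
  have hdP : d ∈ pCore q Q := by
    by_cases hq5 : 5 ≤ q
    · apply mem_pCore_of_quadratic hq5 d ⟨k, hk⟩ hb
      have hzd : Subgroup.zpowers d ≤ Subgroup.centralizer (A : Set Q) := Subgroup.zpowers_le.2 hd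
      have h1 : ⁅pCore q Q, Subgroup.zpowers d⁆ ≤ A := by
        rw [Subgroup.commutator_le]
        intro g₁ hg₁ g₂ hg₂
        rw [commutatorElement_def]
        exact ha g₁ (Cfsg.Agent.helper1.pCore_le_fitting q hg₁) g₂ (hzd hg₂)
      have h2 : ⁅A, Subgroup.zpowers d⁆ = ⊥ := by
        rw [Subgroup.commutator_eq_bot_iff_le_centralizer]
        intro a haA
        rw [Subgroup.mem_centralizer_iff]
        intro z hz
        have := hzd hz
        rw [Subgroup.mem_centralizer_iff] at this
        exact (this a haA).symm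
      exact le_bot_iff.1 ((Subgroup.commutator_mono h1 le_rfl).trans h2.le)
    · have hbot : pCore q Q = ⊥ := hsmall q hq.out (by omega)
      have hdF : d ∈ Subgroup.centralizer ((fittingSubgroup Q : Subgroup Q) : Set Q) := by
        have hle : fittingSubgroup Q ≤ Subgroup.centralizer ({d} : Set Q) := by
          rw [Cfsg.Agent.helper1.fitting_eq_iSup_pCore]
          apply iSup_le
          intro r h hh
          rw [Subgroup.mem_centralizer_iff]
          intro t ht
          rw [Set.mem_singleton_iff] at ht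
          subst ht
          by_cases hrq : (r : ℕ) = q
          · rw [hrq, hbot, Subgroup.mem_bot] at hh
            rw [hh]; simp
          · have := hb r r.2 hrq
            rw [Subgroup.mem_centralizer_iff] at this
            exact (this h hh).symm
        rw [Subgroup.mem_centralizer_iff]
        intro h hh
        have := hle hh
        rw [Subgroup.mem_centralizer_iff] at this
        exact (this d (Set.mem_singleton d)).symm
      have hzp : Subgroup.zpowers d ≤ pCore q Q := by
        apply Cfsg.Agent.helper23.le_pCore_of_le_fitting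
        · exact Subgroup.zpowers_le.2 (hsc hdF)
        · intro z
          obtain ⟨z, ⟨m, rfl⟩⟩ := z
          refine ⟨k, ?_⟩
          apply Subtype.ext
          simp only [Subgroup.coe_pow, Subgroup.coe_one]
          rw [← zpow_natCast, ← zpow_mul, mul_comm, zpow_mul, zpow_natCast, hk, one_zpow]
      exact hzp (Subgroup.mem_zpowers d)
  rw [← hΦC]
  exact Subgroup.mem_inf.2 ⟨hFΦ (Cfsg.Agent.helper1.pCore_le_fitting q hdP), hd⟩

/-- Lemma A'. -/
theorem centralizer_le_of_scn {Q : Type u} [Group Q] [Finite Q] [Group.IsSolvable Q]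
    (hsmall : ∀ r : ℕ, r.Prime → r < 5 → pCore r Q = ⊥)
    (Φ A : Subgroup Q) (hFΦ : fittingSubgroup Q ≤ Φ) (hA : IsSCN Φ A) :
    Subgroup.centralizer (A : Set Q) ≤ A := by
  intro c hc
  have h1 : (⊤ : Subgroup ↥(Subgroup.zpowers c)).map (Subgroup.zpowers c).subtype ≤ A := by
    rw [← Cfsg.Agent.helper7.iSup_sylow_eq_top, Subgroup.map_iSup]
    apply iSup_le
    rintro ⟨r, hr⟩
    rw [Subgroup.map_iSup]
    apply iSup_le
    intro R
    haveI : Fact r.Prime := ⟨hr⟩
    rintro _ ⟨z, hz, rfl⟩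
    apply mem_of_prime_power hsmall Φ A hFΦ hA r
    · exact (Subgroup.zpowers_le.2 hc) z.2
    · obtain ⟨j, hj⟩ := R.2 ⟨z, hz⟩
      refine ⟨j, ?_⟩
      have := congrArg Subtype.val (congrArg Subtype.val hj)
      simpa using this
  exact h1 ⟨⟨c, Subgroup.mem_zpowers c⟩, Subgroup.mem_top _, rfl⟩

open Cfsg.Agent in
theorem s1893_main {S : Type u} [Group S] [Finite S] [Group.IsSolvable S]
    (π : Set ℕ) (h2 : 2 ∉ π) (h3 : 3 ∉ π) (H : Subgroup S) (hH : Cfsg.IsPiHall π H)
    (A : Subgroup S) (hA : Cfsg.IsSCN ((Cfsg.fittingSubgroup H).map H.subtype) A) :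
    ∃ D : Subgroup S, D ≤ Subgroup.centralizer (A : Set S) ∧
      (∀ c ∈ Subgroup.centralizer (A : Set S), ∀ d ∈ D, c * d * c⁻¹ ∈ D) ∧
      A ⊓ D = ⊥ ∧ A ⊔ D = Subgroup.centralizer (A : Set S) ∧
      ∀ q : ℕ, q.Prime → q ∣ Nat.card D → q ∉ π := by
  classical
  obtain ⟨hAF, hFN, hFC⟩ := hA
  obtain ⟨N, hNdef⟩ : ∃ N : Subgroup S, N = helper7.piCoreIn πᶜ ⊤ := ⟨_, rfl⟩
  have hNpi : helper7.PiGrp πᶜ N := hNdef ▸ helper7.piCoreIn_piGrp πᶜ ⊤
  haveI hNn : N.Normal := by
    rw [hNdef]
    exact Subgroup.normalizer_eq_top_iff.1 (top_le_iff.1 (helper7.piCoreIn_normal πᶜ ⊤))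
  have hHpi : helper7.PiGrp π H := helper7.piGrp_iff_card.2 hH.1
  have hHN : H ⊓ N = ⊥ := helper7.piGrp_inf_eq_bot (π := π) (π' := πᶜ) (fun q h1 h2 => h2 h1) hHpi hNpi
  have hFeq : (fittingSubgroup H).map H.subtype = helper7.fitOf H :=
    helper7.map_fittingSubgroup_eq H
  have hFH : (fittingSubgroup H).map H.subtype ≤ H := Subgroup.map_subtype_le _
  have hAH : A ≤ H := hAF.trans hFH
  have hAC : A ≤ Subgroup.centralizer (A : Set S) := by
    intro a ha
    have : a ∈ (fittingSubgroup H).map H.subtype ⊓ Subgroup.centralizer (A : Set S) := by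
      rw [hFC]; exact ha
    exact (Subgroup.mem_inf.1 this).2
  obtain ⟨f, hfdef⟩ : ∃ f : S →* S ⧸ N, f = QuotientGroup.mk' N := ⟨_, rfl⟩
  have hf : Function.Surjective f := hfdef ▸ QuotientGroup.mk'_surjective N
  have hker : ∀ x : S, f x = 1 ↔ x ∈ N := by
    intro x
    rw [hfdef]
    exact QuotientGroup.eq_one_iff x
  have hinj : ∀ x ∈ H, f x = 1 → x = 1 := by
    intro x hx h1
    have h4 : x ∈ H ⊓ N := Subgroup.mem_inf.2 ⟨hx, (hker x).1 h1⟩
    rw [hHN] at h4
    exact Subgroup.mem_bot.1 h4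
  have hcore : ∀ r : ℕ, r.Prime → r ∉ π → pCore r (S ⧸ N) = ⊥ := by
    intro r hr hrπ
    haveI : Fact r.Prime := ⟨hr⟩
    haveI hRn := helper1.pCore_normal (G := S ⧸ N) r
    have hRp := helper1.pCore_isPGroup (G := S ⧸ N) r
    obtain ⟨L, hL⟩ : ∃ L : Subgroup S, L = (pCore r (S ⧸ N)).comap f := ⟨_, rfl⟩
    have hLn : L.Normal := by rw [hL]; exact hRn.comap f
    have hLpi : helper7.PiGrp πᶜ L := by
      intro x hx t ht hdvd
      rw [hL, Subgroup.mem_comap] at hx
      obtain ⟨k, hk⟩ := hRp ⟨f x, hx⟩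
      have hk' : f (x ^ (r ^ k)) = 1 := by
        rw [map_pow]
        exact congrArg Subtype.val hk
      have hxN : x ^ (r ^ k) ∈ N := (hker _).1 hk'
      have hdv : orderOf x ∣ r ^ k * orderOf (x ^ (r ^ k)) := by
        apply orderOf_dvd_of_pow_eq_one
        rw [pow_mul, pow_orderOf_eq_one]
      rcases (Nat.Prime.dvd_mul ht).1 (hdvd.trans hdv) with h | h
      · have := (Nat.prime_dvd_prime_iff_eq ht hr).1 (ht.dvd_of_dvd_pow h)
        rw [this]; exact hrπ
      · exact hNpi _ hxN t ht h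
    have hLN : L ≤ N := by
      rw [hNdef]
      exact helper7.le_radOf le_top (by rw [Subgroup.normalizer_eq_top_iff.2 hLn]) hLpi
    rw [eq_bot_iff]
    intro y hy
    obtain ⟨x, rfl⟩ := hf y
    have hxL : x ∈ L := by rw [hL]; exact hy
    rw [Subgroup.mem_bot]
    exact (hker x).2 (hLN hxL)
  have hsmall : ∀ r : ℕ, r.Prime → r < 5 → pCore r (S ⧸ N) = ⊥ := by
    intro r hr h5
    apply hcore r hr
    interval_cases r
    · exact absurd hr (by norm_num)
    · exact absurd hr (by norm_num)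
    · exact h2
    · exact h3
    · exact absurd hr (by norm_num)
  have hFΦ : fittingSubgroup (S ⧸ N) ≤ ((fittingSubgroup H).map H.subtype).map f := by
    rw [helper1.fitting_eq_iSup_pCore]
    apply iSup_le
    intro r
    by_cases hrπ : (r : ℕ) ∈ π
    · haveI : Fact (r : ℕ).Prime := ⟨r.2⟩
      haveI hRn := helper1.pCore_normal (G := S ⧸ N) r
      have hRp := helper1.pCore_isPGroup (G := S ⧸ N) r
      obtain ⟨T⟩ : Nonempty (Sylow r H) := Sylow.nonempty
      obtain ⟨T', hT'⟩ : ∃ T' : Subgroup S, T' = (T : Subgroup H).map H.subtype := ⟨_, rfl⟩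
      have hT'H : T' ≤ H := by rw [hT']; exact Subgroup.map_subtype_le _
      have hT'p : IsPGroup r T' := by rw [hT']; exact T.2.map _
      have hT'idx : ¬ (r : ℕ) ∣ T'.index := by
        rw [hT', Subgroup.index_map_subtype]
        intro h
        rcases (Nat.Prime.dvd_mul r.2).1 h with h | h
        · exact T.not_dvd_index h
        · exact hH.2 r r.2 hrπ h
      obtain ⟨PS, hPS⟩ : ∃ PS : Sylow r S, (PS : Subgroup S) = T' :=
        ⟨hT'p.toSylow hT'idx, rfl⟩
      have hle : pCore r (S ⧸ N) ≤ (PS.mapSurjective hf : Subgroup (S ⧸ N)) :=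
        helper1.pCore_le_sylow _
      have hPQ : (PS.mapSurjective hf : Subgroup (S ⧸ N)) = T'.map f := by
        rw [Sylow.coe_mapSurjective, hPS]
      rw [hPQ] at hle
      obtain ⟨R, hR⟩ : ∃ R : Subgroup S, R = H ⊓ (pCore r (S ⧸ N)).comap f := ⟨_, rfl⟩
      have hRle : R ≤ helper7.fitOf H := by
        apply helper7.le_radOf (by rw [hR]; exact inf_le_left)
        · intro h hh
          rw [Subgroup.mem_normalizer_iff]
          intro x
          rw [hR]
          constructor
          · intro hx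
            obtain ⟨hx1, hx2⟩ := Subgroup.mem_inf.1 hx
            exact Subgroup.mem_inf.2 ⟨H.mul_mem (H.mul_mem hh hx1) (H.inv_mem hh),
              (hRn.comap f).conj_mem x hx2 h⟩
          · intro hx
            obtain ⟨hx1, hx2⟩ := Subgroup.mem_inf.1 hx
            refine Subgroup.mem_inf.2 ⟨?_, ?_⟩
            · have := H.mul_mem (H.mul_mem (H.inv_mem hh) hx1) hh
              have e : h⁻¹ * (h * x * h⁻¹) * h = x := by group
              rwa [e] at this
            · have := (hRn.comap f).conj_mem _ hx2 h⁻¹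
              have e : h⁻¹ * (h * x * h⁻¹) * h⁻¹⁻¹ = x := by group
              rwa [e] at this
        · have hRp' : IsPGroup r R := by
            intro x
            have hxR : (x : S) ∈ H ⊓ (pCore r (S ⧸ N)).comap f := by rw [← hR]; exact x.2
            obtain ⟨hx1, hx2⟩ := Subgroup.mem_inf.1 hxR
            obtain ⟨k, hk⟩ := hRp ⟨f x, hx2⟩
            refine ⟨k, ?_⟩
            apply Subtype.ext
            simp only [Subgroup.coe_pow, Subgroup.coe_one]
            apply hinj _ (H.pow_mem hx1 _)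
            rw [map_pow]
            exact congrArg Subtype.val hk
          exact hRp'.isNilpotent
      intro yb hyb
      obtain ⟨t, ht, hte⟩ := hle hyb
      have htR : t ∈ R := by
        rw [hR]
        refine Subgroup.mem_inf.2 ⟨hT'H ht, ?_⟩
        rw [Subgroup.mem_comap, hte]; exact hyb
      refine ⟨t, ?_, hte⟩
      rw [hFeq]; exact hRle htR
    · rw [hcore r r.2 hrπ]; exact bot_le
  have hSCN : IsSCN (((fittingSubgroup H).map H.subtype).map f) (A.map f) := by
    refine ⟨Subgroup.map_mono hAF, ?_, ?_⟩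
    · exact (Subgroup.map_mono hFN).trans (Subgroup.le_normalizer_map f)
    · apply le_antisymm
      · intro z hz
        obtain ⟨hz1, hc⟩ := Subgroup.mem_inf.1 hz
        obtain ⟨y, hy, rfl⟩ := hz1
        have hyH : y ∈ H := hFH hy
        have hyC : y ∈ Subgroup.centralizer (A : Set S) := by
          rw [Subgroup.mem_centralizer_iff]
          intro a ha
          rw [Subgroup.mem_centralizer_iff] at hc
          have h1 := hc (f a) (Subgroup.mem_map_of_mem f ha)
          have h4 : f (a * y * (y * a)⁻¹) = 1 := by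
            rw [map_mul, map_inv, map_mul, map_mul, h1]; group
          have h5 := hinj _ (H.mul_mem (H.mul_mem (hAH ha) hyH)
            (H.inv_mem (H.mul_mem hyH (hAH ha)))) h4
          exact mul_inv_eq_one.1 h5
        have : y ∈ A := by
          rw [← hFC]; exact Subgroup.mem_inf.2 ⟨hy, hyC⟩
        exact Subgroup.mem_map_of_mem f this
      · apply le_inf (Subgroup.map_mono hAF)
        rintro _ ⟨a, ha, rfl⟩
        rw [Subgroup.mem_centralizer_iff]
        rintro _ ⟨b, hb, rfl⟩
        have h1 := hAC ha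
        rw [Subgroup.mem_centralizer_iff] at h1
        rw [← map_mul, ← map_mul, h1 b hb]
  have hmain := centralizer_le_of_scn hsmall _ _ hFΦ hSCN
  refine ⟨Subgroup.centralizer (A : Set S) ⊓ N, inf_le_left, ?_, ?_, ?_, ?_⟩
  · intro c hc d hd
    obtain ⟨hd1, hd2⟩ := Subgroup.mem_inf.1 hd
    exact Subgroup.mem_inf.2 ⟨mul_mem (mul_mem hc hd1) (inv_mem hc), hNn.conj_mem d hd2 c⟩
  · rw [eq_bot_iff]
    intro x hx
    obtain ⟨hx1, hx2⟩ := Subgroup.mem_inf.1 hx
    have h4 : x ∈ H ⊓ N := Subgroup.mem_inf.2 ⟨hAH hx1, (Subgroup.mem_inf.1 hx2).2⟩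
    rwa [hHN] at h4
  · apply le_antisymm
    · exact sup_le hAC inf_le_left
    · intro c hc
      have hfc : f c ∈ Subgroup.centralizer ((A.map f : Subgroup (S ⧸ N)) : Set (S ⧸ N)) := by
        rw [Subgroup.mem_centralizer_iff]
        rintro _ ⟨a, ha, rfl⟩
        rw [Subgroup.mem_centralizer_iff] at hc
        rw [← map_mul, ← map_mul, hc a ha]
      obtain ⟨a, ha, hae⟩ := hmain hfc
      have hN' : a⁻¹ * c ∈ N := by
        rw [← hker, map_mul, map_inv, hae]; group
      have hC' : a⁻¹ * c ∈ Subgroup.centralizer (A : Set S) := mul_mem (inv_mem (hAC ha)) hc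
      have e : c = a * (a⁻¹ * c) := by group
      rw [e]
      exact Subgroup.mul_mem_sup ha (Subgroup.mem_inf.2 ⟨hC', hN'⟩)
  · intro q hq hdvd hqπ
    haveI : Fact q.Prime := ⟨hq⟩
    obtain ⟨x, hx⟩ := exists_prime_orderOf_dvd_card' q hdvd
    have hxN : (x : S) ∈ N := (Subgroup.mem_inf.1 x.2).2
    have := hNpi (x : S) hxN q hq (by rw [Subgroup.orderOf_coe, hx])
    exact this hqπ

end Cfsg.Agent.helper19.SCNCent
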