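import Mathlib

set_option autoImplicit false

namespace Cfsg.Agent.helper19

/-- The `n`-torsion subgroup of a commutative group. -/
def torsionSub (G : Type*) [CommGroup G] (n : ℕ) : Subgroup G := (powMonoidHom n : G →* G).ker

theorem mem_torsionSub {G : Type*} [CommGroup G] {n : ℕ} {a : G} :
    a ∈ torsionSub G n ↔ a ^ n = 1 := by
  unfold torsionSub
  rw [MonoidHom.mem_ker, powMonoidHom_apply]

/-- A cyclic group of exponent dividing `n` has order at most `n`. -/
theorem card_le_of_isCyclic_of_pow_eq_one {H : Type*} [Group H] [Finite H] [IsCyclic H] {n : ℕ}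
    (hn : 0 < n) (h : ∀ a : H, a ^ n = 1) : Nat.card H ≤ n := by
  classical
  have := Fintype.ofFinite H
  have h1 := IsCyclic.card_pow_eq_one_le (α := H) hn
  have h2 : (Finset.univ.filter fun a : H => a ^ n = 1) = Finset.univ := by
    ext a; simp [h a]
  rw [h2, Finset.card_univ] at h1
  rwa [Nat.card_eq_fintype_card]

/-- A finite non-cyclic group has, for some `n > 0`, more than `n` solutions of `a ^ n = 1`;
for commutative groups: some torsion subgroup `T_n` has more than `n` elements. -/
theorem exists_lt_card_torsionSub {G : Type*} [CommGroup G] [Finite G] (h : ¬ IsCyclic G) :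
    ∃ n : ℕ, 0 < n ∧ n < Nat.card (torsionSub G n) := by
  classical
  have := Fintype.ofFinite G
  by_contra hcon
  push Not at hcon
  apply h
  apply isCyclic_of_card_pow_eq_one_le
  intro n hn
  have h1 := hcon n hn
  have h2 : Nat.card (torsionSub G n) = (Finset.univ.filter fun a : G => a ^ n = 1).card := by
    rw [Nat.card_eq_fintype_card, ← Fintype.card_subtype]
    apply Fintype.card_congr
    exact Equiv.subtypeEquivRight (fun a => mem_torsionSub)
  rw [← h2]; exact h1

/-- A finite abelian group all of whose proper subgroups are cyclic is cyclic or elementary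
abelian of order `p²`. -/
theorem cyclic_or_sq_of_proper_cyclic {G : Type*} [CommGroup G] [Finite G]
    (hall : ∀ H : Subgroup G, ¬ IsCyclic ↥H → H = ⊤) :
    IsCyclic G ∨ ∃ p : ℕ, p.Prime ∧ Nat.card G = p ^ 2 ∧ Monoid.exponent G = p := by
  classical
  by_cases hcyc : IsCyclic G
  · left; exact hcyc
  right
  -- non-cyclic torsion subgroups are everything
  have hT : ∀ n : ℕ, 0 < n → n < Nat.card (torsionSub G n) → torsionSub G n = ⊤ := by
    intro n hn hlt
    apply hall
    intro hc
    have := card_le_of_isCyclic_of_pow_eq_one (H := torsionSub G n) hn (by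
      intro a
      apply Subtype.ext
      rw [Subgroup.coe_pow, Subgroup.coe_one]
      exact mem_torsionSub.1 a.2)
    omega
  have hex := exists_lt_card_torsionSub hcyc
  obtain ⟨n, ⟨hn0, hnlt⟩, hnmin⟩ : ∃ n : ℕ, (0 < n ∧ n < Nat.card (torsionSub G n)) ∧
      ∀ m < n, ¬ (0 < m ∧ m < Nat.card (torsionSub G m)) :=
    ⟨Nat.find hex, Nat.find_spec hex, fun m hm => Nat.find_min hex hm⟩
  have hTn : torsionSub G n = ⊤ := hT n hn0 hnlt
  have hcardG : n < Nat.card G := by
    rw [hTn, Subgroup.card_top] at hnlt; exact hnlt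
  have hn1 : n ≠ 1 := by
    intro h1
    have : torsionSub G 1 = ⊥ := by
      ext a; rw [mem_torsionSub, pow_one, Subgroup.mem_bot]
    rw [h1, this, Subgroup.card_bot] at hnlt
    omega
  obtain ⟨p, hp, hpn⟩ := Nat.exists_prime_and_dvd hn1
  obtain ⟨m, hm⟩ := hpn
  have hm0 : 0 < m := by
    rcases Nat.eq_zero_or_pos m with h | h
    · rw [h, mul_zero] at hm; omega
    · exact h
  have hmn : m < n := by
    rw [hm]
    have := hp.one_lt
    nlinarith
  have hTm : Nat.card (torsionSub G m) ≤ m := by
    by_contra hlt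
    push Not at hlt
    exact hnmin m hmn ⟨hm0, hlt⟩
  -- the `p`-th power map
  set φ : G →* G := powMonoidHom p with hφ
  have hrange : φ.range ≤ torsionSub G m := by
    rintro _ ⟨a, rfl⟩
    rw [mem_torsionSub, hφ, powMonoidHom_apply, ← pow_mul, ← hm]
    have : a ∈ torsionSub G n := hTn ▸ Subgroup.mem_top a
    exact mem_torsionSub.1 this
  have hcard : Nat.card G = Nat.card (torsionSub G p) * Nat.card φ.range := by
    have h1 := Subgroup.card_mul_index φ.ker
    rw [Subgroup.index_ker] at h1
    exact h1.symm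
  have hrange_le : Nat.card φ.range ≤ m :=
    (Subgroup.card_le_of_le hrange).trans hTm
  have hTp_lt : p < Nat.card (torsionSub G p) := by
    by_contra hle
    push Not at hle
    have : Nat.card G ≤ p * m := by
      rw [hcard]; exact Nat.mul_le_mul hle hrange_le
    omega
  have hTp : torsionSub G p = ⊤ := hT p hp.pos hTp_lt
  have hpow : ∀ a : G, a ^ p = 1 := fun a => mem_torsionSub.1 (hTp ▸ Subgroup.mem_top a)
  have hpG : p < Nat.card G := by
    rw [hTp, Subgroup.card_top] at hTp_lt; exact hTp_lt
  have hexp : Monoid.exponent G = p := by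
    have h1 : Monoid.exponent G ∣ p := Monoid.exponent_dvd_of_forall_pow_eq_one hpow
    rcases (Nat.dvd_prime hp).1 h1 with h | h
    · exfalso
      have : Subsingleton G := Monoid.exp_eq_one_iff.1 h
      have : Nat.card G = 1 := Nat.card_eq_one_iff_unique.2 ⟨this, ⟨1⟩⟩
      have := hp.one_lt
      omega
    · exact h
  refine ⟨p, hp, ?_, hexp⟩
  have : Fact p.Prime := ⟨hp⟩
  have hpg : IsPGroup p G := fun a => ⟨1, by rw [pow_one]; exact hpow a⟩
  obtain ⟨k, hk⟩ := IsPGroup.iff_card.1 hpg
  -- upper bound
  have hnt : Nontrivial G := by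
    rw [← Finite.one_lt_card_iff_nontrivial]
    have := hp.one_lt; omega
  obtain ⟨a, ha⟩ := exists_ne (1 : G)
  have hoa : orderOf a = p := by
    have h1 : orderOf a ∣ p := orderOf_dvd_of_pow_eq_one (hpow a)
    rcases (Nat.dvd_prime hp).1 h1 with h | h
    · exact absurd (orderOf_eq_one_iff.1 h) ha
    · exact h
  have hza : Nat.card (Subgroup.zpowers a) = p := by rw [Nat.card_zpowers, hoa]
  have hzne : Subgroup.zpowers a ≠ ⊤ := by
    intro h
    rw [h, Subgroup.card_top] at hza
    omega
  obtain ⟨b, hb⟩ : ∃ b : G, b ∉ Subgroup.zpowers a := by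
    by_contra hcon
    push Not at hcon
    exact hzne (eq_top_iff.2 fun x _ => hcon x)
  have hob : orderOf b = p := by
    have h1 : orderOf b ∣ p := orderOf_dvd_of_pow_eq_one (hpow b)
    rcases (Nat.dvd_prime hp).1 h1 with h | h
    · exfalso
      rw [orderOf_eq_one_iff.1 h] at hb
      exact hb (Subgroup.one_mem _)
    · exact h
  have hzb : Nat.card (Subgroup.zpowers b) = p := by rw [Nat.card_zpowers, hob]
  have hK : Subgroup.zpowers a ⊔ Subgroup.zpowers b = ⊤ := by
    apply hall
    intro hc
    have h1 := card_le_of_isCyclic_of_pow_eq_one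
      (H := ↥(Subgroup.zpowers a ⊔ Subgroup.zpowers b)) hp.pos (by
        intro x
        apply Subtype.ext
        rw [Subgroup.coe_pow, Subgroup.coe_one]
        exact hpow x)
    have h2 : Subgroup.zpowers a = Subgroup.zpowers a ⊔ Subgroup.zpowers b :=
      Subgroup.eq_of_le_of_card_ge le_sup_left (by rw [hza]; exact h1)
    apply hb
    rw [h2]
    exact (le_sup_right : Subgroup.zpowers b ≤ _) (Subgroup.mem_zpowers b)
  have hle : Nat.card G ≤ p * p := by
    have hsurj : Function.Surjective
        (fun yz : Subgroup.zpowers a × Subgroup.zpowers b => (yz.1 : G) * (yz.2 : G)) := by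
      intro x
      have hx : x ∈ Subgroup.zpowers a ⊔ Subgroup.zpowers b := hK ▸ Subgroup.mem_top x
      obtain ⟨y, hy, z, hz, rfl⟩ := Subgroup.mem_sup.1 hx
      exact ⟨(⟨y, hy⟩, ⟨z, hz⟩), rfl⟩
    have := Nat.card_le_card_of_surjective _ hsurj
    rwa [Nat.card_prod, hza, hzb] at this
  rw [hk] at hle hpG ⊢
  have h1 : 2 ≤ k := by
    by_contra h
    push Not at h
    have : p ^ k ≤ p ^ 1 := Nat.pow_le_pow_right hp.pos (by omega)
    rw [pow_one] at this
    omega
  have h2 : k ≤ 2 := by
    rw [← pow_two] at hle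
    exact (Nat.pow_le_pow_iff_right hp.one_lt).1 hle
  have : k = 2 := le_antisymm h2 h1
  rw [this]

end Cfsg.Agent.helper19
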