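import Mathlib
import Cfsg.Prelude.Def_Local
import Cfsg.Agent.Lib_helper19_Sylow
import Cfsg.Agent.Lib_helper19_Pairing
import Cfsg.Agent.Lib_helper21_SylowNum
import Cfsg.Agent.Lib_helper23_PSolv
import Cfsg.Agent.Lib_lead_Coprime4

set_option autoImplicit false

/-! A Sylow `p`-subgroup normalizing a Sylow `q`-subgroup, from class sizes of `q`-elements. -/

namespace Cfsg.Agent.helper19

open Cfsg.Agent.helper7 Cfsg.Agent.lead
open scoped Pointwise

universe u

/-- The first nontrivial step of a `p`-solvable series. -/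
theorem exists_normal_of_psreach_sn {G : Type*} [Group G] {r : ℕ} {L : Subgroup G}
    (h : Cfsg.Agent.helper23.PSReach r L) : L ≠ ⊥ →
    ∃ N : Subgroup G, N.Normal ∧ N ≠ ⊥ ∧
      ((∃ m : ℕ, Nat.card N = r ^ m) ∨ (Nat.card N).Coprime r) := by
  induction h with
  | bot => intro h; exact absurd rfl h
  | step K L _ _ hn hfac ih =>
    intro hL
    by_cases hK0 : K = ⊥
    · subst hK0
      rw [Subgroup.relIndex_bot_left] at hfac
      exact ⟨L, hn, hL, hfac⟩
    · exact ih hK0

/-- A `q`-element of a quotient lifts to a `q`-element. -/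
theorem qelt_lift {G : Type*} [Group G] [Finite G] {q : ℕ} [hq : Fact q.Prime]
    (N : Subgroup G) [N.Normal] (y : G ⧸ N) (hy : ∃ k : ℕ, orderOf y = q ^ k) :
    ∃ y₀ : G, (∃ k : ℕ, orderOf y₀ = q ^ k) ∧ (QuotientGroup.mk y₀ : G ⧸ N) = y := by
  obtain ⟨x, rfl⟩ := QuotientGroup.mk_surjective y
  obtain ⟨k, hk⟩ := hy
  have ho : orderOf x ≠ 0 := (orderOf_pos x).ne'
  obtain ⟨a, m, hm, hom⟩ := Nat.exists_eq_pow_mul_and_not_dvd ho q hq.out.ne_one
  have hcop : m.Coprime (orderOf (QuotientGroup.mk x : G ⧸ N)) := by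
    rw [hk]
    exact Nat.Coprime.pow_right k ((Nat.Prime.coprime_iff_not_dvd hq.out).2 hm).symm
  obtain ⟨c, hc⟩ := exists_pow_eq_self_of_coprime hcop
  refine ⟨(x ^ m) ^ c, ?_, ?_⟩
  · have h1 : ((x ^ m) ^ c) ^ (q ^ a) = 1 := by
      rw [← pow_mul, ← pow_mul]
      have e : m * (c * q ^ a) = orderOf x * c := by rw [hom]; ring
      rw [e, pow_mul, pow_orderOf_eq_one, one_pow]
    obtain ⟨j, -, hj⟩ := (Nat.dvd_prime_pow hq.out).1 (orderOf_dvd_of_pow_eq_one h1)
    exact ⟨j, hj⟩
  · rw [QuotientGroup.mk_pow, QuotientGroup.mk_pow]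
    exact hc

/-- The class size hypothesis passes to quotients. -/
theorem hyp_quotient {G : Type*} [Group G] [Finite G] {p q : ℕ} [hq : Fact q.Prime]
    (N : Subgroup G) [N.Normal]
    (h : ∀ y : G, (∃ k : ℕ, orderOf y = q ^ k) →
      ¬ p ∣ (Subgroup.centralizer ({y} : Set G)).index) :
    ∀ y : G ⧸ N, (∃ k : ℕ, orderOf y = q ^ k) →
      ¬ p ∣ (Subgroup.centralizer ({y} : Set (G ⧸ N))).index := by
  intro y hy hdvd
  obtain ⟨y₀, hy₀, rfl⟩ := qelt_lift N y hy
  apply h y₀ hy₀
  have h1 : (Subgroup.centralizer ({y₀} : Set G)).map (QuotientGroup.mk' N) ≤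
      Subgroup.centralizer ({(QuotientGroup.mk y₀ : G ⧸ N)} : Set (G ⧸ N)) := by
    rintro _ ⟨g, hg, rfl⟩
    rw [Subgroup.mem_centralizer_iff]
    intro z hz
    rw [Set.mem_singleton_iff] at hz
    subst hz
    have := Subgroup.mem_centralizer_iff.1 hg y₀ (Set.mem_singleton _)
    show (QuotientGroup.mk y₀ : G ⧸ N) * QuotientGroup.mk' N g =
      QuotientGroup.mk' N g * QuotientGroup.mk y₀
    rw [QuotientGroup.mk'_apply, ← QuotientGroup.mk_mul, ← QuotientGroup.mk_mul, this]
  exact (hdvd.trans (Subgroup.index_dvd_of_le h1)).trans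
    (Subgroup.index_map_dvd _ (QuotientGroup.mk'_surjective N))

/-- A subgroup of index prime to `s` contains a Sylow `s`-subgroup. -/
theorem exists_sylow_le_of_not_dvd_index' {X : Type*} [Group X] [Finite X] {s : ℕ}
    [hs : Fact s.Prime] (D : Subgroup X) (h : ¬ s ∣ D.index) :
    ∃ S : Sylow s X, (S : Subgroup X) ≤ D := by
  obtain ⟨S0⟩ : Nonempty (Sylow s D) := Sylow.nonempty
  have h1 : Nat.card (S0 : Subgroup D) = s ^ (Nat.card D).factorization s :=
    S0.card_eq_multiplicity
  have h2 : (Nat.card X).factorization s = (Nat.card D).factorization s := by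
    rw [← Subgroup.index_mul_card D, Nat.factorization_mul Subgroup.index_ne_zero_of_finite
      Nat.card_pos.ne', Finsupp.add_apply, Nat.factorization_eq_zero_of_not_dvd h, zero_add]
  have h3 : Nat.card ((S0 : Subgroup D).map D.subtype) = s ^ (Nat.card X).factorization s := by
    rw [Subgroup.card_subtype, h1, h2]
  refine ⟨Sylow.ofCard _ h3, ?_⟩
  rw [Sylow.coe_ofCard]
  exact Subgroup.map_subtype_le _

/-- Two Sylow `p`-subgroups of a subgroup `N` are conjugate by an element of `N`. -/
theorem exists_cj_of_card_eq {G : Type*} [Group G] [Finite G] {p : ℕ} [Fact p.Prime]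
    (N A B : Subgroup G) (hA : A ≤ N) (hB : B ≤ N)
    (hAc : Nat.card A = p ^ (Nat.card N).factorization p)
    (hBc : Nat.card B = p ^ (Nat.card N).factorization p) :
    ∃ n ∈ N, cj n A = B := by
  have hA' : Nat.card (A.subgroupOf N) = p ^ (Nat.card N).factorization p := by
    rw [card_subgroupOf_of_le hA, hAc]
  have hB' : Nat.card (B.subgroupOf N) = p ^ (Nat.card N).factorization p := by
    rw [card_subgroupOf_of_le hB, hBc]
  obtain ⟨n, hn⟩ := MulAction.exists_smul_eq N (Sylow.ofCard (A.subgroupOf N) hA')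
    (Sylow.ofCard (B.subgroupOf N) hB')
  refine ⟨n, n.2, cj_of_cj_subgroupOf N A B hA hB n ?_⟩
  have h1 := congrArg (fun S : Sylow p N => (S : Subgroup N)) hn
  simp only [Sylow.coe_subgroup_smul, Sylow.coe_ofCard] at h1
  rw [← smul_eq_cj]
  exact h1

/-- The cardinality of a `p`-subgroup of `N` of index prime to `p` in `N`. -/
theorem card_eq_of_not_dvd_relIndex {G : Type*} [Group G] [Finite G] {p : ℕ} [hp : Fact p.Prime]
    (N A : Subgroup G) (hA : A ≤ N) (hAp : IsPGroup p A) (hnd : ¬ p ∣ A.relIndex N) :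
    Nat.card A = p ^ (Nat.card N).factorization p := by
  obtain ⟨j, hj⟩ := IsPGroup.exists_card_eq hAp
  have h1 := card_mul_relIndex_of_le hA
  have hr0 : A.relIndex N ≠ 0 := by
    intro h0
    rw [h0, mul_zero] at h1
    exact (Nat.card_pos (α := ↥N)).ne' h1.symm
  have h2 : (Nat.card N).factorization p = j := by
    rw [← h1, hj, Nat.factorization_mul (pow_ne_zero _ hp.out.ne_zero) hr0, Finsupp.add_apply,
      Nat.factorization_eq_zero_of_not_dvd hnd, add_zero, hp.out.factorization_pow]
    simp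
  rw [h2, hj]

/-- Coprime case: if `q ∤ |N|` then `p ∤ |N : N_N(Q)|`. -/
theorem not_dvd_relIndex_normalizer_of_coprime {G : Type u} [Group G] [Finite G] {p q : ℕ}
    [hp : Fact p.Prime] [hq : Fact q.Prime]
    (N : Subgroup G) [hN : N.Normal] (hqN : ¬ q ∣ Nat.card N) (Q : Sylow q G)
    (h : ∀ y : G, (∃ k : ℕ, orderOf y = q ^ k) →
      ¬ p ∣ (Subgroup.centralizer ({y} : Set G)).index) :
    ¬ p ∣ (Subgroup.normalizer ((Q : Subgroup G) : Set G)).relIndex N := by
  have hNtop : Subgroup.normalizer (N : Set G) = ⊤ := Subgroup.normalizer_eq_top N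
  have hQN : (Q : Subgroup G) ≤ Subgroup.normalizer (N : Set G) := by
    rw [hNtop]; exact le_top
  have hcop : (Nat.card (Q : Subgroup G)).Coprime (Nat.card N) := by
    obtain ⟨k, hk⟩ := IsPGroup.exists_card_eq Q.isPGroup'
    rw [hk]
    exact Nat.Coprime.pow_left k ((Nat.Prime.coprime_iff_not_dvd hq.out).2 hqN)
  have hsolv : Group.IsSolvable (Q : Subgroup G) := by
    have := Q.isPGroup'.isNilpotent
    infer_instance
  obtain ⟨P₀, hP₀N, hP₀c, hQP₀⟩ :=
    exists_invariant_sylow (Q : Subgroup G) N hQN hcop (Or.inl hsolv) p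
  -- `P₀` centralizes `Q`
  have hcent : ∀ y ∈ (Q : Subgroup G), ∀ x ∈ P₀, y * x = x * y := by
    intro y hy
    have hyq : ∃ k : ℕ, orderOf y = q ^ k := by
      obtain ⟨k, hk⟩ := (IsPGroup.iff_orderOf.1 Q.isPGroup') ⟨y, hy⟩
      exact ⟨k, by rw [← hk, Subgroup.orderOf_mk]⟩
    obtain ⟨S, hS⟩ := exists_sylow_le_of_not_dvd_index' _ (h y hyq)
    set S₁ : Subgroup G := (S : Subgroup G) ⊓ N with hS₁
    have hS₁N : S₁ ≤ N := inf_le_right
    have hS₁c : Nat.card S₁ = p ^ (Nat.card N).factorization p :=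
      card_eq_of_not_dvd_relIndex N S₁ hS₁N (S.isPGroup'.to_le inf_le_left)
        (sylow_inf_normal_not_dvd S N)
    obtain ⟨n, hn, hnS⟩ := exists_cj_of_card_eq N S₁ P₀ hS₁N hP₀N hS₁c hP₀c
    have hyS : ∀ x ∈ (S : Subgroup G), y * x = x * y := fun x hx =>
      Subgroup.mem_centralizer_iff.1 (hS hx) y (Set.mem_singleton _)
    have hyN : y ∈ Subgroup.normalizer (N : Set G) := by rw [hNtop]; exact Subgroup.mem_top _
    have hyS₁ : y ∈ Subgroup.normalizer (S₁ : Set G) := by
      rw [Subgroup.mem_normalizer_iff]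
      intro x
      constructor
      · intro hx
        have e : y * x * y⁻¹ = x := by rw [hyS x hx.1]; group
        rw [e]; exact hx
      · intro hx
        have e2 := hyS _ hx.1
        have e : x = y * x * y⁻¹ := by
          have h2 : y * x = y * (y * x * y⁻¹) := by rw [e2]; group
          exact mul_left_cancel h2
        rw [e]; exact hx
    have hA1 : Subgroup.zpowers y ≤ Subgroup.normalizer (N : Set G) := by
      rw [hNtop]; exact le_top
    have hA2 : (Nat.card (Subgroup.zpowers y)).Coprime (Nat.card N) := by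
      obtain ⟨k, hk⟩ := hyq
      rw [Nat.card_zpowers, hk]
      exact Nat.Coprime.pow_left k ((Nat.Prime.coprime_iff_not_dvd hq.out).2 hqN)
    have hA3 : Group.IsSolvable (Subgroup.zpowers y) := by
      apply Group.isSolvable_of_comm
      rintro ⟨a, ha⟩ ⟨b, hb⟩
      obtain ⟨i, rfl⟩ := Subgroup.mem_zpowers_iff.1 ha
      obtain ⟨j, rfl⟩ := Subgroup.mem_zpowers_iff.1 hb
      apply Subtype.ext
      show y ^ i * y ^ j = y ^ j * y ^ i
      rw [← zpow_add, ← zpow_add, add_comm]
    obtain ⟨c, hc, hcS⟩ := invariant_sylow_conj (Subgroup.zpowers y) N hA1 hA2 (Or.inl hA3)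
      S₁ P₀ n hn hnS (Subgroup.zpowers_le.2 hyS₁) (Subgroup.zpowers_le.2 (hQP₀ hy))
    have hcy : y * c = c * y :=
      Subgroup.mem_centralizer_iff.1 hc.2 y (Subgroup.mem_zpowers y)
    intro x hx
    rw [← hcS, mem_cj] at hx
    have e1 := hyS _ hx.1
    -- e1 : y * (c⁻¹ * x * c) = c⁻¹ * x * c * y
    have hcy' : y * c⁻¹ = c⁻¹ * y := by
      have : c⁻¹ * (y * c) * c⁻¹ = c⁻¹ * (c * y) * c⁻¹ := by rw [hcy]
      have l : c⁻¹ * (y * c) * c⁻¹ = c⁻¹ * y := by group
      have r : c⁻¹ * (c * y) * c⁻¹ = y * c⁻¹ := by group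
      rw [l, r] at this
      exact this.symm
    calc y * x = c * (y * (c⁻¹ * x * c)) * c⁻¹ := by
            rw [← mul_assoc c y, ← hcy]; group
      _ = c * (c⁻¹ * x * c * y) * c⁻¹ := by rw [e1]
      _ = x * (c * y * c⁻¹) := by group
      _ = x * y := by rw [← hcy]; group
  have hP₀D : P₀ ≤ Subgroup.normalizer ((Q : Subgroup G) : Set G) ⊓ N := by
    refine le_inf (fun x hx => ?_) hP₀N
    rw [Subgroup.mem_normalizer_iff]
    intro z
    constructor
    · intro hz
      have e2 := hcent z hz x hx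
      have e : x * z * x⁻¹ = z := by rw [← e2]; group
      rw [e]; exact hz
    · intro hw
      have e2 := hcent _ hw x hx
      have e : z = x * z * x⁻¹ := by
        have h2 : x * z = x * (x * z * x⁻¹) := by rw [← e2]; group
        exact mul_left_cancel h2
      rw [e]; exact hw
  have h1 := Subgroup.relIndex_mul_relIndex P₀
    (Subgroup.normalizer ((Q : Subgroup G) : Set G) ⊓ N) N hP₀D inf_le_right
  rw [Subgroup.inf_relIndex_right] at h1
  intro hdvd
  have h2 : p ∣ P₀.relIndex N := by rw [← h1]; exact Dvd.dvd.mul_left hdvd _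
  have h3 := card_mul_relIndex_of_le hP₀N
  have h4 : p ^ ((Nat.card N).factorization p + 1) ∣ Nat.card N := by
    obtain ⟨t, ht⟩ := h2
    have h5 : Nat.card N = p ^ ((Nat.card N).factorization p + 1) * t := by
      calc Nat.card N = Nat.card P₀ * P₀.relIndex N := h3.symm
        _ = p ^ (Nat.card N).factorization p * (p * t) := by rw [hP₀c, ht]
        _ = _ := by rw [pow_succ]; ring
    exact ⟨t, h5⟩
  exact Nat.pow_succ_factorization_not_dvd Nat.card_pos.ne' hp.out h4

/-- The main induction: `p` does not divide the number of Sylow `q`-subgroups. -/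
theorem not_dvd_card_sylow_of_class_sizes {p q : ℕ} [hp : Fact p.Prime] [hq : Fact q.Prime]
    (hpq : p ≠ q) :
    ∀ (n : ℕ) (G : Type u) [Group G] [Finite G], Nat.card G = n →
      (Cfsg.IsPSolvable p G ∨ Cfsg.IsPSolvable q G) →
      (∀ y : G, (∃ k : ℕ, orderOf y = q ^ k) →
        ¬ p ∣ (Subgroup.centralizer ({y} : Set G)).index) →
      ¬ p ∣ Nat.card (Sylow q G) := by
  intro n
  induction n using Nat.strong_induction_on with
  | _ n ih =>
    intro G _ _ hn hsolv h
    by_cases hnt : Nontrivial G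
    · -- a nontrivial normal subgroup `N` of one of the four kinds
      have htop : (⊤ : Subgroup G) ≠ ⊥ := by
        intro h0
        exact (Subgroup.nontrivial_iff_ne_bot (⊤ : Subgroup G)).1 inferInstance h0
      have hN : ∃ N : Subgroup G, N.Normal ∧ N ≠ ⊥ ∧
          (¬ p ∣ Nat.card N ∨ (∃ m : ℕ, Nat.card N = q ^ m) ∨ ¬ q ∣ Nat.card N) := by
        rcases hsolv with hs | hs
        · obtain ⟨N, hNn, hN0, hN⟩ :=
            exists_normal_of_psreach_sn (Cfsg.Agent.helper23.psreach_of_isPSolvable hs) htop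
          refine ⟨N, hNn, hN0, ?_⟩
          rcases hN with ⟨m, hm⟩ | hN
          · right; right
            rw [hm]
            intro hd
            exact hpq ((Nat.prime_dvd_prime_iff_eq hq.out hp.out).1
              (hq.out.dvd_of_dvd_pow hd)).symm
          · left
            exact (Nat.Prime.coprime_iff_not_dvd hp.out).1 hN.symm
        · obtain ⟨N, hNn, hN0, hN⟩ :=
            exists_normal_of_psreach_sn (Cfsg.Agent.helper23.psreach_of_isPSolvable hs) htop
          refine ⟨N, hNn, hN0, ?_⟩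
          rcases hN with ⟨m, hm⟩ | hN
          · right; left; exact ⟨m, hm⟩
          · right; right
            exact (Nat.Prime.coprime_iff_not_dvd hq.out).1 hN.symm
      obtain ⟨N, hNn, hN0, hNcase⟩ := hN
      have := hNn
      obtain ⟨Q⟩ : Nonempty (Sylow q G) := Sylow.nonempty
      have hlt : Nat.card (G ⧸ N) < n := by
        rw [← hn, ← Subgroup.index_eq_card, ← Subgroup.card_mul_index N]
        have h1 : 1 < Nat.card N := by
          rw [Subgroup.one_lt_card_iff_ne_bot]; exact hN0
        have h2 : 0 < N.index := Nat.pos_of_ne_zero Subgroup.index_ne_zero_of_finite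
        nlinarith
      have hsolv' : Cfsg.IsPSolvable p (G ⧸ N) ∨ Cfsg.IsPSolvable q (G ⧸ N) :=
        hsolv.imp
          (fun hs => Cfsg.Agent.helper23.isPSolvable_of_surjective hp.out (QuotientGroup.mk' N)
            (QuotientGroup.mk'_surjective N) hs)
          (fun hs => Cfsg.Agent.helper23.isPSolvable_of_surjective hq.out (QuotientGroup.mk' N)
            (QuotientGroup.mk'_surjective N) hs)
      have hquot := ih _ hlt (G ⧸ N) rfl hsolv' (hyp_quotient N h)
      have hrel : ¬ p ∣ (Subgroup.normalizer ((Q : Subgroup G) : Set G)).relIndex N := by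
        rcases hNcase with hc | ⟨m, hm⟩ | hc
        · intro hd
          exact hc (hd.trans (Subgroup.relIndex_dvd_card _ _))
        · have hNQ : N ≤ (Q : Subgroup G) :=
            IsPGroup.le_sylow_of_normal (IsPGroup.of_card hm) Q
          have h1 : (Subgroup.normalizer ((Q : Subgroup G) : Set G)).relIndex N = 1 :=
            Subgroup.relIndex_eq_one.2 (hNQ.trans Subgroup.le_normalizer)
          rw [h1]
          exact hp.out.not_dvd_one
        · exact not_dvd_relIndex_normalizer_of_coprime N hc Q h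
      rw [Cfsg.Agent.helper21.card_sylow_eq_quot_mul Q N,
        Cfsg.Agent.helper21.relIndex_normalizer_sup_eq]
      intro hd
      rcases (Nat.Prime.dvd_mul hp.out).1 hd with h1 | h1
      · exact hquot h1
      · exact hrel h1
    · rw [not_nontrivial_iff_subsingleton] at hnt
      have := hnt
      intro hd
      have h1 : Nat.card (Sylow q G) ∣ Nat.card G := Sylow.card_dvd_index (Sylow.nonempty.some) |>.trans
        (Subgroup.index_dvd_card _)
      have h2 : Nat.card G = 1 := Nat.card_unique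
      rw [h2] at h1
      exact hp.out.not_dvd_one (hd.trans h1)

end Cfsg.Agent.helper19
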