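import Mathlib
import Cfsg.Agent.Lib_helper19_Sylow
import Cfsg.Agent.Lib_helper21_SylowNum

set_option autoImplicit false
set_option linter.style.haveILetI false
set_option linter.unusedSectionVars false

namespace Cfsg.Agent.helper19

open Cfsg.Agent.helper21

variable {G : Type*} [Group G] [Finite G] {p : ℕ} [Fact p.Prime]

theorem sylow_sup_inf_sup (P : Sylow p G) (M N : Subgroup G) [hMn : M.Normal] [hNn : N.Normal]
    (hMN : M ⊓ N = ⊥) :
    ((P : Subgroup G) ⊔ M) ⊓ ((P : Subgroup G) ⊔ N) = (P : Subgroup G) := by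
  have hp : p.Prime := Fact.out
  apply le_antisymm _ (le_inf le_sup_left le_sup_left)
  intro x hx
  obtain ⟨hxM, hxN⟩ := Subgroup.mem_inf.1 hx
  obtain ⟨a, ha, m, hm, rfl⟩ := Subgroup.mem_sup_of_normal_right.1 hxM
  suffices hmP : m ∈ (P : Subgroup G) from Subgroup.mul_mem _ ha hmP
  have hmN : m ∈ (P : Subgroup G) ⊔ N := by
    have : m = a⁻¹ * (a * m) := by group
    rw [this]
    exact Subgroup.mul_mem _ (le_sup_left (a := (P : Subgroup G)) (Subgroup.inv_mem _ ha)) hxN
  obtain ⟨b, hb, n, hn, hbn⟩ := Subgroup.mem_sup_of_normal_right.1 hmN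
  have hdis : Disjoint M N := disjoint_iff.2 hMN
  have hcomm : ∀ u ∈ M, ∀ v ∈ N, Commute u v := fun u hu v hv =>
    Subgroup.commute_of_normal_of_disjoint M N hMn hNn hdis u v hu hv
  -- m normalizes P ⊓ M
  have hnorm : Subgroup.zpowers m ≤ Subgroup.normalizer (((P : Subgroup G) ⊓ M : Subgroup G) : Set G) := by
    rw [Subgroup.zpowers_le]
    rw [Subgroup.mem_normalizer_iff]
    have key : ∀ z, z ∈ (P : Subgroup G) ⊓ M → m * z * m⁻¹ ∈ (P : Subgroup G) ⊓ M := by
      intro z hz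
      obtain ⟨hzP, hzM⟩ := Subgroup.mem_inf.1 hz
      refine Subgroup.mem_inf.2 ⟨?_, hMn.conj_mem z hzM m⟩
      have e : m * z * m⁻¹ = b * z * b⁻¹ := by
        rw [← hbn]
        have h1 := (hcomm z hzM n hn).eq
        calc b * n * z * (b * n)⁻¹ = b * (n * z) * n⁻¹ * b⁻¹ := by group
          _ = b * (z * n) * n⁻¹ * b⁻¹ := by rw [h1]
          _ = b * z * b⁻¹ := by group
      rw [e]
      exact Subgroup.mul_mem _ (Subgroup.mul_mem _ hb hzP) (Subgroup.inv_mem _ hb)
    intro z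
    constructor
    · exact key z
    · intro hz
      -- use finiteness: conjugation by m is injective on the finite set
      have hminv : ∀ k : ℕ, ∀ z, z ∈ (P : Subgroup G) ⊓ M → m ^ k * z * (m ^ k)⁻¹ ∈ (P : Subgroup G) ⊓ M := by
        intro k
        induction k with
        | zero => intro z hz; simpa using hz
        | succ k ih =>
          intro z hz
          have := key _ (ih z hz)
          have e : m ^ (k + 1) * z * (m ^ (k + 1))⁻¹ = m * (m ^ k * z * (m ^ k)⁻¹) * m⁻¹ := by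
            rw [pow_succ']; group
          rw [e]; exact this
      have hord : m ^ (orderOf m - 1) * m = 1 := by
        rw [← pow_succ, Nat.sub_add_cancel (orderOf_pos m), pow_orderOf_eq_one]
      have := hminv (orderOf m - 1) _ hz
      have e : m ^ (orderOf m - 1) * (m * z * m⁻¹) * (m ^ (orderOf m - 1))⁻¹ = z := by
        have h1 : m ^ (orderOf m - 1) = m⁻¹ := eq_inv_of_mul_eq_one_left hord
        rw [h1]; group
      rwa [e] at this
  -- m is a p-element
  obtain ⟨k, hk⟩ := P.isPGroup' ⟨b, hb⟩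
  have hbk : b ^ p ^ k = 1 := by
    have := congrArg Subtype.val hk
    simpa using this
  have hmk : m ^ p ^ k = 1 := by
    have hb' : b = m * n⁻¹ := by rw [← hbn]; group
    have hc : Commute m n⁻¹ := hcomm m hm n⁻¹ (N.inv_mem hn)
    rw [hb', hc.mul_pow] at hbk
    have h1 : m ^ p ^ k = (n⁻¹ ^ p ^ k)⁻¹ := eq_inv_of_mul_eq_one_left hbk
    have h2 : m ^ p ^ k ∈ M ⊓ N := by
      refine Subgroup.mem_inf.2 ⟨M.pow_mem hm _, ?_⟩
      rw [h1]
      exact N.inv_mem (N.pow_mem (N.inv_mem hn) _)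
    rw [hMN, Subgroup.mem_bot] at h2
    exact h2
  have hzp : IsPGroup p (Subgroup.zpowers m) := by
    rintro ⟨g, hg⟩
    obtain ⟨j, rfl⟩ := Subgroup.mem_zpowers_iff.1 hg
    refine ⟨k, Subtype.ext ?_⟩
    show (m ^ j) ^ p ^ k = 1
    rw [← zpow_natCast, ← zpow_mul, mul_comm, zpow_mul, zpow_natCast, hmk, one_zpow]
  have hPM : IsPGroup p (((P : Subgroup G) ⊓ M : Subgroup G)) := P.isPGroup'.to_le inf_le_left
  have hT : IsPGroup p (Subgroup.zpowers m ⊔ ((P : Subgroup G) ⊓ M) : Subgroup G) :=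
    IsPGroup.to_sup_of_normal_right' hzp hPM hnorm
  set T : Subgroup G := Subgroup.zpowers m ⊔ ((P : Subgroup G) ⊓ M) with hTdef
  have hTM : T ≤ M := sup_le ((Subgroup.zpowers_le).2 hm) inf_le_right
  have hPT : (P : Subgroup G) ⊓ M ≤ T := le_sup_right
  have hrel := Subgroup.relIndex_mul_relIndex ((P : Subgroup G) ⊓ M) T M hPT hTM
  have hnd := sylow_inf_normal_not_dvd P M
  have h1 : ((P : Subgroup G) ⊓ M).relIndex T ∣ Nat.card T := Subgroup.relIndex_dvd_card _ _
  obtain ⟨j, hj⟩ := IsPGroup.exists_card_eq hT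
  rw [hj] at h1
  obtain ⟨i, _, hi⟩ := (Nat.dvd_prime_pow hp).1 h1
  have hi0 : i = 0 := by
    by_contra hne
    apply hnd
    rw [← hrel, hi]
    exact dvd_mul_of_dvd_left (dvd_pow_self p hne) _
  rw [hi0, pow_zero] at hi
  have hTle : T ≤ (P : Subgroup G) ⊓ M := Subgroup.relIndex_eq_one.1 hi
  exact (Subgroup.mem_inf.1 (hTle (le_sup_left (a := Subgroup.zpowers m) (Subgroup.mem_zpowers m)))).1

theorem card_inf_sup_of_disjoint (P : Sylow p G) (M N : Subgroup G) [hMn : M.Normal] [hNn : N.Normal]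
    (hMN : M ⊓ N = ⊥) :
    Nat.card ↥(Subgroup.normalizer ((P : Subgroup G) : Set G) ⊓ (M ⊔ N)) =
      Nat.card ↥(Subgroup.normalizer ((P : Subgroup G) : Set G) ⊓ M) *
        Nat.card ↥(Subgroup.normalizer ((P : Subgroup G) : Set G) ⊓ N) := by
  set R := Subgroup.normalizer ((P : Subgroup G) : Set G) with hR
  rw [← Nat.card_prod]
  symm
  have hkey := sylow_sup_inf_sup P M N hMN
  have hmemR : ∀ m ∈ M, ∀ n ∈ N, m * n ∈ R → n ∈ R := by
    intro m hm n hn hx
    have h1 : n ∈ Subgroup.normalizer (((P : Subgroup G) ⊔ M : Subgroup G) : Set G) := by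
      have e : n = m⁻¹ * (m * n) := by group
      rw [e]
      apply Subgroup.mul_mem
      · exact Subgroup.le_normalizer (le_sup_right (a := (P : Subgroup G)) (M.inv_mem hm))
      · exact normalizer_le_normalizer_sup (P : Subgroup G) M hx
    have h2 : n ∈ Subgroup.normalizer (((P : Subgroup G) ⊔ N : Subgroup G) : Set G) :=
      Subgroup.le_normalizer (le_sup_right (a := (P : Subgroup G)) hn)
    have h3 := Subgroup.inf_normalizer_le_normalizer_inf (Subgroup.mem_inf.2 ⟨h1, h2⟩)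
    rw [hkey] at h3
    exact h3
  apply Nat.card_congr
  refine Equiv.ofBijective (fun ab => ⟨ab.1.1 * ab.2.1, Subgroup.mem_inf.2
    ⟨R.mul_mem (Subgroup.mem_inf.1 ab.1.2).1 (Subgroup.mem_inf.1 ab.2.2).1,
      Subgroup.mul_mem _ (le_sup_left (a := M) (Subgroup.mem_inf.1 ab.1.2).2)
        (le_sup_right (a := M) (Subgroup.mem_inf.1 ab.2.2).2)⟩⟩) ⟨?_, ?_⟩
  · rintro ⟨a, b⟩ ⟨a', b'⟩ h
    have h1 : a.1 * b.1 = a'.1 * b'.1 := congrArg Subtype.val h
    have h2 : a'.1⁻¹ * a.1 = b'.1 * b.1⁻¹ := by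
      calc a'.1⁻¹ * a.1 = a'.1⁻¹ * (a.1 * b.1) * b.1⁻¹ := by group
        _ = a'.1⁻¹ * (a'.1 * b'.1) * b.1⁻¹ := by rw [h1]
        _ = b'.1 * b.1⁻¹ := by group
    have h3 : a'.1⁻¹ * a.1 ∈ M ⊓ N := by
      refine Subgroup.mem_inf.2 ⟨M.mul_mem (M.inv_mem (Subgroup.mem_inf.1 a'.2).2)
        (Subgroup.mem_inf.1 a.2).2, ?_⟩
      rw [h2]
      exact N.mul_mem (Subgroup.mem_inf.1 b'.2).2 (N.inv_mem (Subgroup.mem_inf.1 b.2).2)
    rw [hMN, Subgroup.mem_bot] at h3
    have ha : a = a' := by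
      apply Subtype.ext
      have := inv_mul_eq_one.1 h3
      exact this.symm
    have hb : b = b' := by
      apply Subtype.ext
      rw [h3] at h2
      have := mul_inv_eq_one.1 h2.symm
      exact this.symm
    rw [ha, hb]
  · rintro ⟨x, hx⟩
    obtain ⟨hxR, hxMN⟩ := Subgroup.mem_inf.1 hx
    obtain ⟨m, hm, n, hn, rfl⟩ := Subgroup.mem_sup_of_normal_right.1 hxMN
    have hnR : n ∈ R := hmemR m hm n hn hxR
    have hmR : m ∈ R := by
      have e : m = (m * n) * n⁻¹ := by group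
      rw [e]
      exact R.mul_mem hxR (R.inv_mem hnR)
    exact ⟨(⟨m, Subgroup.mem_inf.2 ⟨hmR, hm⟩⟩, ⟨n, Subgroup.mem_inf.2 ⟨hnR, hn⟩⟩), rfl⟩

theorem card_inf_mul_relIndex (R K : Subgroup G) : Nat.card ↥(R ⊓ K) * R.relIndex K = Nat.card K := by
  rw [← Subgroup.inf_relIndex_right R K]
  have := Subgroup.relIndex_mul_relIndex ⊥ (R ⊓ K) K bot_le inf_le_right
  rw [Subgroup.relIndex_bot_left, Subgroup.relIndex_bot_left] at this
  exact this

theorem sylow_number_product (M N : Subgroup G) [hMn : M.Normal] [hNn : N.Normal]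
    (hMN : M ⊓ N = ⊥) :
    Nat.card (Sylow p G) * Nat.card (Sylow p (G ⧸ (M ⊔ N))) =
      Nat.card (Sylow p (G ⧸ M)) * Nat.card (Sylow p (G ⧸ N)) := by
  obtain ⟨P⟩ : Nonempty (Sylow p G) := inferInstance
  set R := Subgroup.normalizer ((P : Subgroup G) : Set G) with hR
  have eM : Nat.card (Sylow p G) = Nat.card (Sylow p (G ⧸ M)) * R.relIndex M := by
    rw [card_sylow_eq_quot_mul P M, relIndex_normalizer_sup_eq]
  have eN : Nat.card (Sylow p G) = Nat.card (Sylow p (G ⧸ N)) * R.relIndex N := by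
    rw [card_sylow_eq_quot_mul P N, relIndex_normalizer_sup_eq]
  have eMN : Nat.card (Sylow p G) = Nat.card (Sylow p (G ⧸ (M ⊔ N))) * R.relIndex (M ⊔ N) := by
    rw [card_sylow_eq_quot_mul P (M ⊔ N), relIndex_normalizer_sup_eq]
  have hc : R.relIndex (M ⊔ N) = R.relIndex M * R.relIndex N := by
    have h1 := card_inf_mul_relIndex R M
    have h2 := card_inf_mul_relIndex R N
    have h3 := card_inf_mul_relIndex R (M ⊔ N)
    have h4 := card_inf_sup_of_disjoint P M N hMN
    have h5 : Nat.card ↥(M ⊔ N) = Nat.card M * Nat.card N := by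
      have := Subgroup.relIndex_sup_right M N
      have h6 := Subgroup.relIndex_mul_relIndex ⊥ N (M ⊔ N) bot_le le_sup_right
      rw [Subgroup.relIndex_bot_left, Subgroup.relIndex_bot_left, this] at h6
      have h7 : N.relIndex M = Nat.card M := by
        rw [← Subgroup.inf_relIndex_right, inf_comm, hMN, Subgroup.relIndex_bot_left]
      rw [h7] at h6
      rw [← h6, mul_comm]
    rw [h4, h5, ← h1, ← h2] at h3
    have hpos : 0 < Nat.card ↥(R ⊓ M) * Nat.card ↥(R ⊓ N) := Nat.mul_pos Nat.card_pos Nat.card_pos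
    apply Nat.eq_of_mul_eq_mul_left hpos
    rw [h3]; ring
  have hpos : 0 < R.relIndex M * R.relIndex N := by
    apply Nat.mul_pos
    · refine Nat.pos_of_ne_zero (fun h => ?_)
      have h1 := card_inf_mul_relIndex R M
      rw [h, mul_zero] at h1
      exact absurd h1.symm (Nat.card_pos (α := ↥M)).ne'
    · refine Nat.pos_of_ne_zero (fun h => ?_)
      have h1 := card_inf_mul_relIndex R N
      rw [h, mul_zero] at h1
      exact absurd h1.symm (Nat.card_pos (α := ↥N)).ne'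
  apply Nat.eq_of_mul_eq_mul_right hpos
  calc Nat.card (Sylow p G) * Nat.card (Sylow p (G ⧸ (M ⊔ N))) * (R.relIndex M * R.relIndex N)
      = Nat.card (Sylow p G) * (Nat.card (Sylow p (G ⧸ (M ⊔ N))) * R.relIndex (M ⊔ N)) := by
        rw [hc]; ring
    _ = Nat.card (Sylow p G) * Nat.card (Sylow p G) := by rw [← eMN]
    _ = (Nat.card (Sylow p (G ⧸ M)) * R.relIndex M) * (Nat.card (Sylow p (G ⧸ N)) * R.relIndex N) := by
        rw [← eM, ← eN]
    _ = Nat.card (Sylow p (G ⧸ M)) * Nat.card (Sylow p (G ⧸ N)) * (R.relIndex M * R.relIndex N) := by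
        ring

end Cfsg.Agent.helper19
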