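import Mathlib
import Cfsg.Prelude.Def_Transfer

set_option autoImplicit false
set_option linter.style.haveILetI false

namespace Cfsg.Agent.helper19

universe u

section Abstract

variable {A : Type u} [CommGroup A]

theorem iterate_period (τ : A → A) (p : ℕ) (hτ : ∀ a, (τ^[p]) a = a) (a : A) :
    ∀ t k : ℕ, (τ^[k + p * t]) a = (τ^[k]) a := by
  intro t
  induction t with
  | zero => intro k; simp
  | succ t ih =>
    intro k
    have : k + p * (t + 1) = (k + p * t) + p := by ring
    rw [this, Function.iterate_add_apply, hτ, ih]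

theorem iterate_mod (τ : A → A) (p : ℕ) (hτ : ∀ a, (τ^[p]) a = a) (a : A) (m : ℕ) :
    (τ^[m % p]) a = (τ^[m]) a := by
  conv_rhs => rw [← Nat.mod_add_div m p]
  rw [iterate_period τ p hτ a]

/-- In a finite abelian group of exponent `p`, a non-identity element is avoided by a subgroup of
index `p`. -/
theorem exists_index_p_avoiding [Finite A] {p : ℕ} [hp : Fact p.Prime] (hAp : ∀ a : A, a ^ p = 1)
    (n : A) (hn1 : n ≠ 1) : ∃ H₀ : Subgroup A, n ∉ H₀ ∧ H₀.index = p := by
  have hpp := hp.out
  obtain ⟨H₀, -, hmax⟩ := Finite.exists_le_maximal (p := fun H : Subgroup A => n ∉ H) (a := ⊥)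
    (by simpa using hn1)
  have hnH : n ∉ H₀ := hmax.1
  refine ⟨H₀, hnH, ?_⟩
  have key : ∀ a : A, ∃ h ∈ H₀, ∃ i : ℕ, a = h * n ^ i := by
    intro a
    by_cases ha : a ∈ H₀
    · exact ⟨a, ha, 0, by simp⟩
    · have hlt : ¬ (H₀ ⊔ Subgroup.zpowers a ≤ H₀) :=
        fun h => ha (h (Subgroup.mem_sup_right (Subgroup.mem_zpowers a)))
      have hn' : n ∈ H₀ ⊔ Subgroup.zpowers a := by
        by_contra h
        exact hlt (hmax.2 h le_sup_left)
      rw [Subgroup.mem_sup] at hn'
      obtain ⟨h, hh, z, hz, hhz⟩ := hn'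
      rw [← mem_powers_iff_mem_zpowers, Submonoid.mem_powers_iff] at hz
      obtain ⟨k, hk⟩ := hz
      have hz1 : z ∉ H₀ := by
        intro hz'
        exact hnH (hhz ▸ H₀.mul_mem hh hz')
      have ha1 : a ≠ 1 := fun h1 => ha (h1 ▸ H₀.one_mem)
      have hoa : orderOf a = p := orderOf_eq_prime (hAp a) ha1
      have hcop : k.Coprime (orderOf a) := by
        rw [hoa, Nat.coprime_comm, Nat.Prime.coprime_iff_not_dvd hpp]
        intro hd
        obtain ⟨c, rfl⟩ := hd
        apply hz1
        rw [← hk, pow_mul, hAp, one_pow]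
        exact H₀.one_mem
      obtain ⟨m, hm⟩ := exists_pow_eq_self_of_coprime hcop
      have hz' : h⁻¹ * n = a ^ k := by rw [hk, ← hhz]; simp
      refine ⟨(h⁻¹) ^ m, H₀.pow_mem (H₀.inv_mem hh) m, m, ?_⟩
      rw [← mul_pow, hz', hm]
  have hsurj : Function.Surjective (fun q : ↥H₀ × Fin p => (q.1 : A) * n ^ (q.2 : ℕ)) := by
    intro a
    obtain ⟨h, hh, i, rfl⟩ := key a
    refine ⟨(⟨h, hh⟩, ⟨i % p, Nat.mod_lt _ hpp.pos⟩), ?_⟩
    show h * n ^ (i % p) = h * n ^ i
    rw [← pow_eq_pow_mod i (hAp n)]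
  have hcard : Nat.card A ≤ Nat.card ↥H₀ * p := by
    have := Nat.card_le_card_of_surjective _ hsurj
    rwa [Nat.card_prod, Nat.card_eq_fintype_card (α := Fin p), Fintype.card_fin] at this
  have hidx_le : H₀.index ≤ p := by
    have h1 := Subgroup.card_mul_index H₀
    have h2 : 0 < Nat.card ↥H₀ := Nat.card_pos
    rw [← h1] at hcard
    exact Nat.le_of_mul_le_mul_left hcard h2
  have hPg : IsPGroup p A := fun a => ⟨1, by rw [pow_one]; exact hAp a⟩
  obtain ⟨k, hk⟩ := hPg.index H₀
  have hne1 : H₀.index ≠ 1 := by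
    rw [Ne, Subgroup.index_eq_one]
    intro h; exact hnH (h ▸ Subgroup.mem_top n)
  rcases k with _ | _ | k
  · rw [pow_zero] at hk; exact absurd hk hne1
  · simpa using hk
  · exfalso
    rw [hk] at hidx_le
    have h2 : p ^ 2 ≤ p ^ (k + 1 + 1) := Nat.pow_le_pow_right hpp.pos (by omega)
    have h3 : p < p ^ 2 := by nlinarith [hpp.two_le]
    omega

/-- If the "norm" `∏ τⁱ x` avoids a `τ`-invariant subgroup `K` of an elementary abelian `p`-group,
where `τ ^ p = 1`, then `K` has index at least `p ^ p`. -/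
theorem shift_index_bound [Finite A] {p : ℕ} [hp : Fact p.Prime] (hAp : ∀ a : A, a ^ p = 1)
    (τ : A →* A) (hτ : ∀ a, (τ^[p]) a = a) (K : Subgroup A) (hK : ∀ a ∈ K, τ a ∈ K) (x : A)
    (hn : ∏ i ∈ Finset.range p, (τ^[i]) x ∉ K) : p ^ p ≤ K.index := by
  classical
  have hpp := hp.out
  haveI : Fact (1 < p) := ⟨hpp.one_lt⟩
  haveI : NeZero p := ⟨hpp.ne_zero⟩
  set xs : ZMod p → A := fun j => (τ^[j.val]) x with hxs
  have hxs_succ : ∀ j, τ (xs j) = xs (j + 1) := by
    intro j
    show τ ((τ^[j.val]) x) = (τ^[(j + 1).val]) x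
    rw [ZMod.val_add, ZMod.val_one, iterate_mod τ p hτ x, Function.iterate_succ_apply']
  let Ψ : Multiplicative (ZMod p → ZMod p) →* A :=
    { toFun := fun e => ∏ j : ZMod p, xs j ^ (Multiplicative.toAdd e j).val
      map_one' := by simp
      map_mul' := by
        intro e e'
        rw [← Finset.prod_mul_distrib]
        refine Finset.prod_congr rfl (fun j _ => ?_)
        rw [toAdd_mul, Pi.add_apply, ZMod.val_add, ← pow_add, ← pow_eq_pow_mod _ (hAp _)] }
  have hΨ : ∀ e, Ψ e = ∏ j : ZMod p, xs j ^ (Multiplicative.toAdd e j).val := fun e => rfl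
  let sh : Multiplicative (ZMod p → ZMod p) → Multiplicative (ZMod p → ZMod p) :=
    fun e => Multiplicative.ofAdd (fun j => Multiplicative.toAdd e (j - 1))
  have hsh : ∀ e, Ψ (sh e) = τ (Ψ e) := by
    intro e
    calc Ψ (sh e) = ∏ j : ZMod p, xs j ^ (Multiplicative.toAdd e (j - 1)).val := rfl
      _ = ∏ j : ZMod p, xs (j + 1) ^ (Multiplicative.toAdd e (j + 1 - 1)).val :=
          (Equiv.prod_comp (Equiv.addRight (1 : ZMod p))
            (fun j => xs j ^ (Multiplicative.toAdd e (j - 1)).val)).symm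
      _ = ∏ j : ZMod p, τ (xs j ^ (Multiplicative.toAdd e j).val) := by
          refine Finset.prod_congr rfl (fun j _ => ?_)
          rw [map_pow, hxs_succ, add_sub_cancel_right]
      _ = τ (Ψ e) := by rw [hΨ, map_prod]
  let Ψq : Multiplicative (ZMod p → ZMod p) →* A ⧸ K := (QuotientGroup.mk' K).comp Ψ
  have hker : ∀ e, e ∈ Ψq.ker ↔ Ψ e ∈ K := by
    intro e
    rw [MonoidHom.mem_ker]
    show ((Ψ e : A) : A ⧸ K) = 1 ↔ _
    rw [QuotientGroup.eq_one_iff]
  have hinj : Function.Injective Ψq := by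
    rw [← MonoidHom.ker_eq_bot_iff]
    by_contra hne
    set R := Ψq.ker with hR
    haveI : Fintype ↥R := Fintype.ofFinite _
    have hshR : ∀ d : ↥R, sh d.1 ∈ R := by
      intro d
      rw [hker, hsh]
      exact hK _ ((hker _).mp d.2)
    let f : Function.End ↥R := fun d => ⟨sh d.1, hshR d⟩
    have hiter : ∀ (k : ℕ) (d : ↥R) (j : ZMod p),
        Multiplicative.toAdd ((f ^ k) d).1 j = Multiplicative.toAdd d.1 (j - k) := by
      intro k
      induction k with
      | zero =>
        intro d j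
        rw [pow_zero]
        show Multiplicative.toAdd d.1 j = _
        simp
      | succ k ih =>
        intro d j
        rw [pow_succ]
        show Multiplicative.toAdd ((f ^ k) (f d)).1 j = _
        rw [ih]
        show Multiplicative.toAdd d.1 (j - k - 1) = _
        rw [show j - (k : ZMod p) - 1 = j - ((k + 1 : ℕ) : ZMod p) by push_cast; ring]
    have hfp : f ^ p ^ 1 = 1 := by
      rw [pow_one]
      funext d
      apply Subtype.ext
      show ((f ^ p) d).1 = d.1
      apply Multiplicative.toAdd.injective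
      funext j
      rw [hiter]; simp
    have hmod := Equiv.Perm.card_fixedPoints_modEq (p := p) (n := 1) hfp
    -- p divides card R
    have hRcard : p ∣ Fintype.card ↥R := by
      have h1 : Nat.card ↥R ∣ Nat.card (Multiplicative (ZMod p → ZMod p)) :=
        Subgroup.card_subgroup_dvd_card R
      have h2 : Nat.card (Multiplicative (ZMod p → ZMod p)) = p ^ p := by
        rw [Nat.card_eq_fintype_card, Fintype.card_multiplicative, Fintype.card_fun, ZMod.card]
      rw [h2] at h1
      obtain ⟨r, -, hr⟩ := (Nat.dvd_prime_pow hpp).mp h1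
      have hr0 : r ≠ 0 := by
        rintro rfl
        rw [pow_zero, Subgroup.card_eq_one] at hr
        exact hne hr
      rw [← Nat.card_eq_fintype_card, hr]
      exact dvd_pow_self p hr0
    have hfix : p ∣ Fintype.card (Function.fixedPoints f) :=
      (Nat.ModEq.dvd_iff hmod (dvd_refl p)).mp hRcard
    have hone : (1 : ↥R) ∈ Function.fixedPoints f := by
      show f 1 = 1
      apply Subtype.ext
      show sh 1 = 1
      rfl
    have hlt : 1 < Fintype.card (Function.fixedPoints f) := by
      have hpos : 0 < Fintype.card (Function.fixedPoints f) := Fintype.card_pos_iff.mpr ⟨⟨1, hone⟩⟩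
      have := Nat.le_of_dvd hpos hfix
      have := hpp.two_le
      omega
    obtain ⟨⟨d, hd⟩, hd1⟩ := Fintype.exists_ne_of_one_lt_card hlt ⟨1, hone⟩
    have hd' : sh d.1 = d.1 := congrArg Subtype.val hd
    -- d is constant
    have hconst : ∀ j : ZMod p, Multiplicative.toAdd d.1 j = Multiplicative.toAdd d.1 0 := by
      have hstep : ∀ j : ZMod p, Multiplicative.toAdd d.1 (j - 1) = Multiplicative.toAdd d.1 j := by
        intro j
        have := congrFun (congrArg Multiplicative.toAdd hd') j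
        exact this
      have hnat : ∀ m : ℕ, Multiplicative.toAdd d.1 (m : ZMod p) = Multiplicative.toAdd d.1 0 := by
        intro m
        induction m with
        | zero => simp
        | succ m ih =>
          rw [← ih, ← hstep ((m + 1 : ℕ) : ZMod p)]
          rw [show ((m + 1 : ℕ) : ZMod p) - 1 = (m : ZMod p) by push_cast; ring]
      intro j
      rw [← ZMod.natCast_zmod_val j]
      exact hnat _
    set c := Multiplicative.toAdd d.1 0 with hc
    have hc0 : c ≠ 0 := by
      intro h0
      apply hd1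
      apply Subtype.ext
      apply Subtype.ext
      show d.1 = 1
      apply Multiplicative.toAdd.injective
      funext j
      rw [hconst j, h0]
      rfl
    have hΨd : Ψ d.1 = (∏ j : ZMod p, xs j) ^ c.val := by
      rw [hΨ, ← Finset.prod_pow]
      refine Finset.prod_congr rfl (fun j _ => ?_)
      rw [hconst j]
    have hprod : ∏ j : ZMod p, xs j = ∏ i ∈ Finset.range p, (τ^[i]) x := by
      refine Finset.prod_bij' (fun j _ => j.val) (fun i _ => (i : ZMod p)) ?_ ?_ ?_ ?_ ?_
      · intro j _; exact Finset.mem_range.mpr (ZMod.val_lt j)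
      · intro i _; exact Finset.mem_univ _
      · intro j _; exact ZMod.natCast_zmod_val j
      · intro i hi; exact ZMod.val_natCast_of_lt (Finset.mem_range.mp hi)
      · intro j _; rfl
    set nn := ∏ i ∈ Finset.range p, (τ^[i]) x with hnn
    have hnK : nn ^ c.val ∈ K := by
      rw [← hprod, ← hΨd]
      exact (hker _).mp d.2
    have hcv : c.val.Coprime (orderOf nn) := by
      have hdvd : orderOf nn ∣ p := orderOf_dvd_of_pow_eq_one (hAp nn)
      apply Nat.Coprime.coprime_dvd_right hdvd
      rw [Nat.coprime_comm, Nat.Prime.coprime_iff_not_dvd hpp]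
      intro hdv
      have h1 : c.val < p := ZMod.val_lt c
      have h2 : 0 < c.val := Nat.pos_of_ne_zero (fun h => hc0 ((ZMod.val_eq_zero c).mp h))
      exact absurd (Nat.le_of_dvd h2 hdv) (by omega)
    obtain ⟨m, hm⟩ := exists_pow_eq_self_of_coprime hcv
    apply hn
    rw [← hm]
    exact K.pow_mem hnK m
  have h1 := Nat.card_le_card_of_injective Ψq hinj
  rw [Nat.card_eq_fintype_card (α := Multiplicative (ZMod p → ZMod p)), Fintype.card_multiplicative,
    Fintype.card_fun, ZMod.card] at h1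
  rw [Subgroup.index_eq_card]
  exact h1

end Abstract

theorem factorization_factorial_sq {p : ℕ} [hp : Fact p.Prime] :
    ((p ^ 2).factorial).factorization p = p + 1 := by
  have hpp := hp.out
  rw [Nat.factorization_def _ hpp,
    padicValNat_factorial (b := 3) (by rw [Nat.log_pow hpp.one_lt]; omega)]
  rw [show Finset.Ico 1 3 = {1, 2} by decide, Finset.sum_pair (by norm_num)]
  have e1 : p ^ 2 / p ^ 1 = p := by rw [pow_one, pow_two, Nat.mul_div_cancel _ hpp.pos]
  have e2 : p ^ 2 / p ^ 2 = 1 := Nat.div_self (pow_pos hpp.pos 2)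
  rw [e1, e2]

/-- A `p`-group with a normal elementary abelian subgroup `A` of index `p` and an element `x ∈ A`
whose `y`-norm is nontrivial maps onto a Sylow `p`-subgroup of the symmetric group of degree
`p ^ 2`. -/
theorem wreath_image {P : Type u} [Group P] [Finite P] {p : ℕ} [hp : Fact p.Prime]
    (hP : IsPGroup p P) (A : Subgroup P) [hAn : A.Normal]
    (hA : Cfsg.IsElementaryAbelian p A) (hidx : A.index = p) (x y : P) (hx : x ∈ A)
    (hprod : ((List.range p).map (fun i => (y ^ i)⁻¹ * x * y ^ i)).prod ≠ 1) :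
    ∃ (Q : Sylow p (Equiv.Perm (Fin (p ^ 2))))
      (f : P →* ↥(Q : Subgroup (Equiv.Perm (Fin (p ^ 2))))), Function.Surjective f := by
  classical
  have hpp := hp.out
  obtain ⟨hAc, hAp⟩ := hA
  haveI := hAc
  letI : CommGroup ↥A := { (inferInstance : Group ↥A) with mul_comm := fun a b => mul_comm' a b }
  have hAp' : ∀ a : ↥A, a ^ p = 1 := fun a => Subtype.ext (by simpa using hAp a a.2)
  let τ : ↥A →* ↥A :=
    { toFun := fun a => ⟨y⁻¹ * a * y, by have := hAn.conj_mem a a.2 y⁻¹; simpa using this⟩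
      map_one' := by ext; simp
      map_mul' := by intro a b; ext; simp [mul_assoc] }
  have hτ1 : ∀ a : ↥A, ((τ a : ↥A) : P) = y⁻¹ * a * y := fun a => rfl
  have hτi : ∀ (i : ℕ) (a : ↥A), (((τ^[i]) a : ↥A) : P) = (y ^ i)⁻¹ * a * y ^ i := by
    intro i
    induction i with
    | zero => intro a; simp
    | succ i ih =>
      intro a
      rw [Function.iterate_succ_apply', hτ1, ih, pow_succ]
      group
  have hyp : y ^ p ∈ A := hidx ▸ Subgroup.pow_index_mem A y
  have hτp : ∀ a : ↥A, (τ^[p]) a = a := by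
    intro a
    apply Subtype.ext
    rw [hτi]
    have h1 : (⟨y ^ p, hyp⟩ : ↥A) * a = a * ⟨y ^ p, hyp⟩ := mul_comm' _ _
    have h2 : y ^ p * (a : P) = a * y ^ p := congrArg Subtype.val h1
    rw [mul_assoc, ← h2, inv_mul_cancel_left]
  have hcoe : ∀ m : ℕ, ((∏ i ∈ Finset.range m, (τ^[i]) ⟨x, hx⟩ : ↥A) : P) =
      ((List.range m).map (fun i => (y ^ i)⁻¹ * x * y ^ i)).prod := by
    intro m
    induction m with
    | zero => simp
    | succ m ih =>
      rw [Finset.prod_range_succ, Subgroup.coe_mul, ih, List.range_succ, List.map_append,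
        List.prod_append, hτi]
      simp
  set nA : ↥A := ∏ i ∈ Finset.range p, (τ^[i]) ⟨x, hx⟩ with hnA
  have hnA1 : nA ≠ 1 := by
    intro h
    apply hprod
    rw [← hcoe p, ← hnA, h]
    rfl
  obtain ⟨H₀', hnH, hH₀idx⟩ := exists_index_p_avoiding hAp' nA hnA1
  set H₀ : Subgroup P := H₀'.map A.subtype with hH₀
  have hH₀A : H₀ ≤ A := Subgroup.map_subtype_le _
  have hH₀index : H₀.index = p ^ 2 := by
    rw [hH₀, Subgroup.index_map_subtype, hH₀idx, hidx, pow_two]
  set K : Subgroup P := H₀.normalCore with hK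
  haveI hKn : K.Normal := Subgroup.normalCore_normal H₀
  have hKH : K ≤ H₀ := Subgroup.normalCore_le H₀
  have hKA : K ≤ A := le_trans hKH hH₀A
  have hlow : p ^ p ≤ (K.subgroupOf A).index := by
    apply shift_index_bound hAp' τ hτp (K.subgroupOf A) _ ⟨x, hx⟩
    · intro hmem
      rw [← hnA, Subgroup.mem_subgroupOf] at hmem
      have h1 : (nA : P) ∈ H₀ := hKH hmem
      rw [hH₀, Subgroup.mem_map] at h1
      obtain ⟨b, hb, hbn⟩ := h1
      have : b = nA := Subtype.ext hbn
      exact hnH (this ▸ hb)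
    · intro a ha
      rw [Subgroup.mem_subgroupOf] at ha ⊢
      rw [hτ1]
      have := hKn.conj_mem a ha y⁻¹
      simpa using this
  have hKidx : p ^ (p + 1) ≤ K.index := by
    rw [← Subgroup.relIndex_mul_index hKA, hidx, pow_succ]
    exact Nat.mul_le_mul_right p hlow
  -- the permutation representation
  have hcardΩ : Nat.card (P ⧸ H₀) = p ^ 2 := by rw [← Subgroup.index_eq_card, hH₀index]
  let ε : (P ⧸ H₀) ≃ Fin (p ^ 2) := Finite.equivFinOfCardEq hcardΩ
  let ρ : P →* Equiv.Perm (P ⧸ H₀) := MulAction.toPermHom P (P ⧸ H₀)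
  let ρ' : P →* Equiv.Perm (Fin (p ^ 2)) := (ε.permCongrHom).toMonoidHom.comp ρ
  have hker : ρ'.ker = K := by
    ext g
    rw [MonoidHom.mem_ker, hK, Subgroup.normalCore_eq_ker, MonoidHom.mem_ker]
    show ε.permCongrHom (ρ g) = 1 ↔ _
    rw [MulEquiv.map_eq_one_iff]
  have hrange : Nat.card ρ'.range = K.index := by rw [← hker, Subgroup.index_ker]
  obtain ⟨m, hm⟩ := IsPGroup.iff_card.mp hP
  have hdvd1 : K.index ∣ p ^ m := hm ▸ Subgroup.index_dvd_card K
  obtain ⟨k, -, hk⟩ := (Nat.dvd_prime_pow hpp).mp hdvd1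
  have hk1 : p + 1 ≤ k := by
    rw [hk] at hKidx
    exact (Nat.pow_le_pow_iff_right hpp.one_lt).mp hKidx
  have hcardPerm : Nat.card (Equiv.Perm (Fin (p ^ 2))) = (p ^ 2).factorial := by
    rw [Nat.card_perm, Nat.card_eq_fintype_card, Fintype.card_fin]
  have hk2 : k ≤ p + 1 := by
    have h1 : Nat.card ρ'.range ∣ Nat.card (Equiv.Perm (Fin (p ^ 2))) :=
      Subgroup.card_subgroup_dvd_card _
    rw [hrange, hk, hcardPerm] at h1
    have := (hpp.pow_dvd_iff_le_factorization (Nat.factorial_ne_zero _)).mp h1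
    rwa [factorization_factorial_sq] at this
  have hkeq : k = p + 1 := le_antisymm hk2 hk1
  have hfinal : Nat.card ρ'.range =
      p ^ (Nat.card (Equiv.Perm (Fin (p ^ 2)))).factorization p := by
    rw [hrange, hk, hkeq, hcardPerm, factorization_factorial_sq]
  exact ⟨Sylow.ofCard ρ'.range hfinal, ρ'.rangeRestrict, ρ'.rangeRestrict_surjective⟩

end Cfsg.Agent.helper19
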