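import Mathlib
import Cfsg.Agent.Lib_helper22_MGroup
import Cfsg.Agent.Lib_helper22_InvConst

set_option autoImplicit false
set_option linter.unusedSectionVars false
set_option linter.unusedVariables false

/-!
Groups with abelian Sylow subgroups inside relative M-groups (Isaacs 6.23), helper22.
-/

namespace Cfsg.Agent.helper22

open Cfsg
open scoped ComplexConjugate
open scoped commutatorElement
open scoped Pointwise

universe u

section PrimePow
variable {G : Type u} [Group G] [Finite G]

/-- a subgroup containing all elements of prime power order of `⟨a⟩` contains `a` -/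
theorem mem_of_primePow_mem (C : Subgroup G) : ∀ (m : ℕ) (a : G), orderOf a = m →
    (∀ x ∈ Subgroup.zpowers a, IsPrimePow (orderOf x) → x ∈ C) → a ∈ C := by
  intro m
  induction m using Nat.strong_induction_on with
  | _ m ih =>
    intro a ham h
    have hm0 : m ≠ 0 := by
      rw [← ham]
      exact (orderOf_pos a).ne'
    by_cases hm1 : m = 1
    · rw [hm1, orderOf_eq_one_iff] at ham
      rw [ham]
      exact C.one_mem
    obtain ⟨p, hp, hpm⟩ := Nat.exists_prime_and_dvd hm1
    obtain ⟨q, hq⟩ : ∃ q, q = ordProj[p] m := ⟨_, rfl⟩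
    obtain ⟨m', hm'⟩ : ∃ m', m' = ordCompl[p] m := ⟨_, rfl⟩
    have hqm' : q * m' = m := by
      rw [hq, hm']
      exact Nat.ordProj_mul_ordCompl_eq_self m p
    have hk : 0 < m.factorization p := hp.factorization_pos_of_dvd hm0 hpm
    have hq1 : 1 < q := by
      rw [hq]
      exact Nat.one_lt_pow hk.ne' hp.one_lt
    have hm'pos : 0 < m' := by
      rw [hm']
      exact Nat.ordCompl_pos p hm0
    have hcop : Nat.Coprime q m' := by
      rw [hq, hm']
      exact Nat.Coprime.pow_left _ (Nat.coprime_ordCompl hp hm0)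
    by_cases hm'1 : m' = 1
    · apply h a (Subgroup.mem_zpowers a)
      rw [ham, ← hqm', hm'1, mul_one, hq]
      exact ⟨p, m.factorization p, hp.prime, hk, rfl⟩
    -- x = a ^ m' has order q, y = a ^ q has order m'
    have hx : orderOf (a ^ m') = q := by
      rw [orderOf_pow_of_dvd hm'pos.ne' (by rw [ham, ← hqm']; exact dvd_mul_left _ _), ham,
        ← hqm', Nat.mul_div_cancel _ hm'pos]
    have hy : orderOf (a ^ q) = m' := by
      rw [orderOf_pow_of_dvd (by omega) (by rw [ham, ← hqm']; exact dvd_mul_right _ _), ham,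
        ← hqm', Nat.mul_div_cancel_left _ (by omega)]
    have hxC : a ^ m' ∈ C := by
      apply h _ (Subgroup.pow_mem _ (Subgroup.mem_zpowers a) _)
      rw [hx, hq]
      exact ⟨p, m.factorization p, hp.prime, hk, rfl⟩
    have hyC : a ^ q ∈ C := by
      apply ih m' (by rw [← hqm']; nlinarith) (a ^ q) hy
      intro x hx' hpp
      apply h x _ hpp
      exact (Subgroup.zpowers_le.mpr (Subgroup.pow_mem _ (Subgroup.mem_zpowers a) _)) hx'
    -- Bezout
    have hbez : (q : ℤ) * Nat.gcdA q m' + (m' : ℤ) * Nat.gcdB q m' = 1 := by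
      have := Nat.gcd_eq_gcd_ab q m'
      rw [hcop.gcd_eq_one] at this
      exact_mod_cast this.symm
    have ha : a = (a ^ q) ^ (Nat.gcdA q m') * (a ^ m') ^ (Nat.gcdB q m') := by
      rw [← zpow_natCast a q, ← zpow_natCast a m', ← zpow_mul, ← zpow_mul, ← zpow_add, hbez,
        zpow_one]
    rw [ha]
    exact C.mul_mem (C.zpow_mem hyC _) (C.zpow_mem hxC _)

end PrimePow

section CommImage
variable {G : Type u} [Group G] [Fintype G] {n : ℕ} (ρ : Representation ℂ G (Fin n → ℂ))

local notation "X" => helper24.repMatrix ρ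

/-- every `p`-subgroup of `N` is abelian, for all primes `p` -/
def AbSylow (N : Subgroup G) : Prop :=
  ∀ (p : ℕ), p.Prime → ∀ Q : Subgroup G, Q ≤ N → IsPGroup p Q → ∀ a ∈ Q, ∀ b ∈ Q, a * b = b * a

theorem AbSylow.mono {N M : Subgroup G} (h : AbSylow N) (hMN : M ≤ N) : AbSylow M :=
  fun p hp Q hQ hQp => h p hp Q (hQ.trans hMN) hQp

/-- elements of `commSubgroup ρ` act by scalars -/
theorem scalar_of_mem_commSubgroup (hρ : ρ.IsIrreducible) {z : G} (hz : z ∈ commSubgroup ρ) :
    ∃ c : ℂ, X z = c • (1 : Matrix (Fin n) (Fin n) ℂ) :=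
  mat_schur ρ hρ (X z) (fun g => (mem_commSubgroup ρ).mp hz g)

/-- if `[a, b]` acts by a scalar then `X a X b = γ X b X a` -/
theorem exists_scalar_comm (hρ : ρ.IsIrreducible) {a b : G} (h : ⁅a, b⁆ ∈ commSubgroup ρ) :
    ∃ γ : ℂ, X a * X b = γ • (X b * X a) := by
  obtain ⟨γ, hγ⟩ := scalar_of_mem_commSubgroup ρ hρ h
  refine ⟨γ, ?_⟩
  rw [commutatorElement_def, map_mul, map_mul, map_mul] at hγ
  calc X a * X b = X a * X b * (X a⁻¹ * X a) * (X b⁻¹ * X b) := by
        rw [X_inv_mul, X_inv_mul, Matrix.mul_one, Matrix.mul_one]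
    _ = X a * X b * X a⁻¹ * (X a * X b⁻¹ * X b) := by simp only [Matrix.mul_assoc]
    _ = X a * X b * X a⁻¹ * X b⁻¹ * (X b * X a) := by
        have h1 : X a * X b⁻¹ * X b = X b⁻¹ * (X b * X a) := by
          rw [Matrix.mul_assoc, X_inv_mul, Matrix.mul_one, ← Matrix.mul_assoc, X_inv_mul,
            Matrix.one_mul]
        rw [h1]
        simp only [Matrix.mul_assoc]
    _ = γ • (X b * X a) := by rw [hγ, Matrix.smul_mul, Matrix.one_mul]

theorem X_ne_zero_mul {M : Matrix (Fin n) (Fin n) ℂ} (g : G) (h : X g * M = 0) : M = 0 := by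
  have : X g⁻¹ * (X g * M) = 0 := by rw [h, Matrix.mul_zero]
  rwa [← Matrix.mul_assoc, X_inv_mul, Matrix.one_mul] at this

/-- if `[u, v]` acts by a scalar and `u`, `v` have coprime orders then `X u`, `X v` commute -/
theorem comm_of_coprime_order (hρ : ρ.IsIrreducible) {u v : G}
    (h : ⁅u, v⁆ ∈ commSubgroup ρ) (hcop : (orderOf u).Coprime (orderOf v)) :
    X u * X v = X v * X u := by
  obtain ⟨γ, hγ⟩ := exists_scalar_comm ρ hρ h
  have hn : 0 < n := helper23.pos_of_irreducible ρ hρ
  have hne : ∀ g : G, X g ≠ 0 := by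
    intro g h0
    have h1 := X_mul_inv ρ g
    rw [h0, Matrix.zero_mul] at h1
    have h2 := congrFun (congrFun h1 ⟨0, hn⟩) ⟨0, hn⟩
    simp at h2
  have hpow1 : ∀ k : ℕ, X u ^ k * X v = γ ^ k • (X v * X u ^ k) := by
    intro k
    induction k with
    | zero => simp
    | succ k ih =>
      rw [pow_succ, Matrix.mul_assoc, hγ, Matrix.mul_smul, ← Matrix.mul_assoc, ih,
        Matrix.smul_mul, smul_smul, pow_succ, Matrix.mul_assoc, mul_comm]
  have hpow2 : ∀ k : ℕ, X u * X v ^ k = γ ^ k • (X v ^ k * X u) := by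
    intro k
    induction k with
    | zero => simp
    | succ k ih =>
      rw [pow_succ, ← Matrix.mul_assoc, ih, Matrix.smul_mul, Matrix.mul_assoc, hγ,
        Matrix.mul_smul, smul_smul, pow_succ, Matrix.mul_assoc]
  have hγu : γ ^ orderOf u = 1 := by
    have h1 := hpow1 (orderOf u)
    rw [← map_pow, pow_orderOf_eq_one, map_one, Matrix.one_mul, Matrix.mul_one] at h1
    by_contra hcon
    have h2 : (1 - γ ^ orderOf u) • X v = 0 := by
      rw [sub_smul, one_smul, ← h1, sub_self]
    rcases smul_eq_zero.mp h2 with h3 | h3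
    · exact hcon (sub_eq_zero.mp h3).symm
    · exact hne v h3
  have hγv : γ ^ orderOf v = 1 := by
    have h1 := hpow2 (orderOf v)
    rw [← map_pow, pow_orderOf_eq_one, map_one, Matrix.one_mul, Matrix.mul_one] at h1
    by_contra hcon
    have h2 : (1 - γ ^ orderOf v) • X u = 0 := by
      rw [sub_smul, one_smul, ← h1, sub_self]
    rcases smul_eq_zero.mp h2 with h3 | h3
    · exact hcon (sub_eq_zero.mp h3).symm
    · exact hne u h3
  have hγ1 : γ = 1 := by
    have := pow_gcd_eq_one.mpr ⟨hγu, hγv⟩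
    rwa [hcop.gcd_eq_one, pow_one] at this
  rw [hγ, hγ1, one_smul]

/-- two `p`-elements of `A` (with abelian `p`-subgroups and `[A, A]` acting by scalars) have
commuting images -/
theorem comm_of_ppow_order (hρ : ρ.IsIrreducible) (A : Subgroup G) (hA : AbSylow A)
    (hAA : ⁅A, A⁆ ≤ commSubgroup ρ) (p : ℕ) (hp : p.Prime) {u v : G} (hu : u ∈ A) (hv : v ∈ A)
    (i j : ℕ) (hou : orderOf u = p ^ i) (hov : orderOf v = p ^ j) :
    X u * X v = X v * X u := by
  classical
  haveI : Fact p.Prime := ⟨hp⟩
  have hpu : IsPGroup p (Subgroup.zpowers (⟨u, hu⟩ : A)) := by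
    apply IsPGroup.of_card (n := i)
    rw [Nat.card_zpowers, ← hou]
    exact Subgroup.orderOf_mk u hu
  have hpv : IsPGroup p (Subgroup.zpowers (⟨v, hv⟩ : A)) := by
    apply IsPGroup.of_card (n := j)
    rw [Nat.card_zpowers, ← hov]
    exact Subgroup.orderOf_mk v hv
  obtain ⟨Q, hQ⟩ := hpu.exists_le_sylow
  obtain ⟨Q', hQ'⟩ := hpv.exists_le_sylow
  obtain ⟨g, hg⟩ := MulAction.exists_smul_eq A Q Q'
  have hvQ' : (⟨v, hv⟩ : A) ∈ (Q' : Subgroup A) := hQ' (Subgroup.mem_zpowers _)
  have huQ : (⟨u, hu⟩ : A) ∈ (Q : Subgroup A) := hQ (Subgroup.mem_zpowers _)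
  rw [← hg, Sylow.smul_def, Sylow.pointwise_smul_def,
    Subgroup.mem_pointwise_smul_iff_inv_smul_mem] at hvQ'
  obtain ⟨w, hw⟩ : ∃ w : A, w = (MulAut.conj g)⁻¹ • (⟨v, hv⟩ : A) := ⟨_, rfl⟩
  rw [← hw] at hvQ'
  have hwv : (w : G) = (g : G)⁻¹ * v * (g : G) := by
    rw [hw]
    simp [MulAut.smul_def, MulAut.conj_inv_apply]
  have hcomm : u * (w : G) = (w : G) * u := by
    have hQp : IsPGroup p ((Q : Subgroup A).map A.subtype) := Q.2.map A.subtype
    apply hA p hp ((Q : Subgroup A).map A.subtype) (Subgroup.map_subtype_le _) hQp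
    · exact Subgroup.mem_map.mpr ⟨⟨u, hu⟩, huQ, rfl⟩
    · exact Subgroup.mem_map.mpr ⟨w, hvQ', rfl⟩
  have hgw : ⁅(g : G), (w : G)⁆ ∈ commSubgroup ρ :=
    hAA (Subgroup.commutator_mem_commutator g.2 w.2)
  obtain ⟨γ, hγ⟩ := exists_scalar_comm ρ hρ hgw
  have hXv : X v = γ • X (w : G) := by
    have h1 : v = (g : G) * (w : G) * (g : G)⁻¹ := by
      rw [hwv]
      group
    conv_lhs => rw [h1]
    rw [map_mul, map_mul, hγ, Matrix.smul_mul, Matrix.mul_assoc, X_mul_inv, Matrix.mul_one]
  have hXuw : X u * X (w : G) = X (w : G) * X u := by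
    rw [← map_mul, ← map_mul, hcomm]
  rw [hXv, Matrix.mul_smul, Matrix.smul_mul, hXuw]

/-- **the image of `A` is commutative** when `p`-subgroups of `A` are abelian and `[A, A]` acts
by scalars -/
theorem comm_of_commutator_le (hρ : ρ.IsIrreducible) (A : Subgroup G) (hA : AbSylow A)
    (hAA : ⁅A, A⁆ ≤ commSubgroup ρ) : ∀ a ∈ A, ∀ b ∈ A, X a * X b = X b * X a := by
  -- prime power order against prime power order
  have h1 : ∀ u ∈ A, ∀ v ∈ A, IsPrimePow (orderOf u) → IsPrimePow (orderOf v) →
      X u * X v = X v * X u := by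
    intro u hu v hv hpu hpv
    obtain ⟨p, i, hp, hi, hpi⟩ := hpu
    obtain ⟨q, j, hq, hj, hqj⟩ := hpv
    by_cases hpq : p = q
    · subst hpq
      exact comm_of_ppow_order ρ hρ A hA hAA p hp.nat_prime hu hv i j hpi.symm hqj.symm
    · apply comm_of_coprime_order ρ hρ (hAA (Subgroup.commutator_mem_commutator hu hv))
      rw [← hpi, ← hqj]
      apply Nat.Coprime.pow
      exact (Nat.coprime_primes hp.nat_prime hq.nat_prime).mpr hpq
  -- arbitrary against prime power order
  have h2 : ∀ a ∈ A, ∀ v ∈ A, IsPrimePow (orderOf v) → X a * X v = X v * X a := by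
    intro a ha v hv hpv
    have h3 : a ∈ commWith ρ {v} := by
      apply mem_of_primePow_mem (commWith ρ {v}) (orderOf a) a rfl
      intro x hx hpx
      rw [mem_commWith]
      intro y hy
      rw [Set.mem_singleton_iff.mp hy]
      exact h1 x ((Subgroup.zpowers_le.mpr ha) hx) v hv hpx hpv
    exact (mem_commWith ρ).mp h3 v rfl
  intro a ha b hb
  have h3 : b ∈ commWith ρ {a} := by
    apply mem_of_primePow_mem (commWith ρ {a}) (orderOf b) b rfl
    intro x hx hpx
    rw [mem_commWith]
    intro y hy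
    rw [Set.mem_singleton_iff.mp hy]
    exact (h2 a ha x ((Subgroup.zpowers_le.mpr hb) hx) hpx).symm
  exact ((mem_commWith ρ).mp h3 a rfl).symm

end CommImage

section Chain
variable {G : Type u} [Group G]

/-- the derived series of a subgroup, inside the ambient group -/
def dser (N : Subgroup G) : ℕ → Subgroup G
  | 0 => N
  | (k + 1) => ⁅dser N k, dser N k⁆

theorem dser_zero (N : Subgroup G) : dser N 0 = N := rfl

theorem dser_succ (N : Subgroup G) (k : ℕ) : dser N (k + 1) = ⁅dser N k, dser N k⁆ := rfl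

theorem dser_normal (N : Subgroup G) [hN : N.Normal] (k : ℕ) : (dser N k).Normal := by
  induction k with
  | zero => exact hN
  | succ k ih =>
    rw [dser_succ]
    haveI := ih
    exact Subgroup.commutator_normal _ _

theorem dser_le (N : Subgroup G) (k : ℕ) : dser N k ≤ N := by
  induction k with
  | zero => exact le_refl N
  | succ k ih =>
    rw [dser_succ, Subgroup.commutator_le]
    intro a ha b hb
    rw [commutatorElement_def]
    exact N.mul_mem (N.mul_mem (N.mul_mem (ih ha) (ih hb)) (N.inv_mem (ih ha))) (N.inv_mem (ih hb))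

theorem dser_eq_map (N : Subgroup G) (k : ℕ) :
    dser N k = (derivedSeries N k).map N.subtype := by
  induction k with
  | zero =>
    rw [dser_zero, derivedSeries_zero, ← MonoidHom.range_eq_map, Subgroup.range_subtype]
  | succ k ih =>
    rw [dser_succ, derivedSeries_succ, Subgroup.map_commutator, ← ih]

theorem exists_dser_eq_bot (N : Subgroup G) (hs : Group.IsSolvable N) : ∃ k, dser N k = ⊥ := by
  obtain ⟨k, hk⟩ := (Group.isSolvable_def N).mp hs
  refine ⟨k, ?_⟩
  rw [dser_eq_map, hk, Subgroup.map_bot]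

end Chain

section FindA
variable {G : Type u} [Group G] [Fintype G] {n : ℕ} (ρ : Representation ℂ G (Fin n → ℂ))

local notation "X" => helper24.repMatrix ρ

/-- for a solvable normal subgroup `N` with abelian Sylow subgroups not acting by scalars there
is a normal subgroup `A ≤ N` with commutative, non-scalar image -/
theorem exists_comm_normal_of_abSylow (hρ : ρ.IsIrreducible) (N : Subgroup G) [hN : N.Normal]
    (hs : Group.IsSolvable N) (hA : AbSylow N) (hNZ : ¬ N ≤ commSubgroup ρ) :
    ∃ A : Subgroup G, A.Normal ∧ A ≤ N ∧ (∀ a ∈ A, ∀ b ∈ A, X a * X b = X b * X a) ∧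
      ∃ x ∈ A, x ∉ commSubgroup ρ := by
  classical
  have hex : ∃ k, dser N k ≤ commSubgroup ρ := by
    obtain ⟨k, hk⟩ := exists_dser_eq_bot N hs
    exact ⟨k, by rw [hk]; exact bot_le⟩
  obtain ⟨k, hk⟩ : ∃ k, k = Nat.find hex := ⟨_, rfl⟩
  have hkspec : dser N k ≤ commSubgroup ρ := by
    rw [hk]
    exact Nat.find_spec hex
  have hk0 : k ≠ 0 := by
    intro h0
    rw [h0, dser_zero] at hkspec
    exact hNZ hkspec
  obtain ⟨k', hk'⟩ := Nat.exists_eq_succ_of_ne_zero hk0
  have hmin : ¬ dser N k' ≤ commSubgroup ρ := by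
    apply Nat.find_min hex
    rw [← hk, hk']
    exact Nat.lt_succ_self k'
  refine ⟨dser N k', dser_normal N k', dser_le N k', ?_, ?_⟩
  · apply comm_of_commutator_le ρ hρ (dser N k') (hA.mono (dser_le N k'))
    rw [← dser_succ, ← Nat.succ_eq_add_one, ← hk']
    exact hkspec
  · by_contra hcon
    push Not at hcon
    exact hmin (fun x hx => hcon x hx)

/-- if `N` acts by scalars and the restriction of the character to `N` is irreducible then the
degree is one -/
theorem degree_one_of_le_commSubgroup (hρ : ρ.IsIrreducible) (N : Subgroup G) [Fintype N]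
    (hNZ : N ≤ commSubgroup ρ) (hirr : IsIrrCharacter N (helper5.res N ρ.character)) : n = 1 := by
  classical
  have hn : 0 < n := helper23.pos_of_irreducible ρ hρ
  have h1 := helper24.irr_classInner_self hirr
  have hval : ∀ x : N, helper5.res N ρ.character x * conj (helper5.res N ρ.character x) =
      ((n : ℂ)) ^ 2 := by
    intro x
    obtain ⟨c, hc⟩ := scalar_of_mem_commSubgroup ρ hρ (hNZ x.2)
    have hck : c ^ orderOf (x : G) = 1 := by
      have h2 : X (x : G) ^ orderOf (x : G) = 1 := by
        rw [← map_pow, pow_orderOf_eq_one, map_one]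
      rw [hc, smul_pow, one_pow] at h2
      have h3 := congrFun (congrFun h2 ⟨0, hn⟩) ⟨0, hn⟩
      simpa using h3
    have hnorm : ‖c‖ = 1 := by
      have h2 : ‖c‖ ^ orderOf (x : G) = 1 := by rw [← norm_pow, hck, norm_one]
      exact (pow_eq_one_iff_of_nonneg (norm_nonneg c) (orderOf_pos (x : G)).ne').mp h2
    have htr : helper5.res N ρ.character x = (n : ℂ) * c := by
      rw [helper5.res_apply, ← helper24.repMatrix_trace, hc, Matrix.trace_smul, Matrix.trace_one,
        Fintype.card_fin, smul_eq_mul, mul_comm]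
    rw [htr, map_mul, Complex.conj_natCast, mul_mul_mul_comm, Complex.mul_conj', hnorm]
    push_cast
    ring
  unfold classInner at h1
  rw [Finset.sum_congr rfl (fun x _ => hval x), Finset.sum_const, Finset.card_univ,
    nsmul_eq_mul, ← Nat.card_eq_fintype_card, ← mul_assoc, inv_mul_cancel₀, one_mul] at h1
  · have h2 : n ^ 2 = 1 := by exact_mod_cast h1
    have h3 : n = 1 := by
      rcases Nat.eq_zero_or_pos n with h | h
      · omega
      · nlinarith
    exact h3
  · have : 0 < Nat.card N := Nat.card_pos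
    exact_mod_cast this.ne'

end FindA

section Degrees
variable {G : Type u} [Group G] [Fintype G]

/-- an irreducible constituent has degree at most that of the character, with equality only if
the character is the constituent -/
theorem char_eq_of_constituent_degree {Ψ χ : G → ℂ} (hΨ : IsCharacter G Ψ)
    (hχ : IsIrrCharacter G χ) (h : classInner Ψ χ ≠ 0) :
    charDegree χ ≤ charDegree Ψ ∧ (charDegree Ψ ≤ charDegree χ → Ψ = χ) := by
  classical
  haveI : Fintype (IrrCharacter G) := Fintype.ofFinite _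
  obtain ⟨c, hexp, hc, -⟩ := helper12.char_decomp hΨ
  have hcχ : c ⟨χ, hχ⟩ ≠ 0 := by
    intro h0
    apply h
    rw [hc ⟨χ, hχ⟩, h0, Nat.cast_zero]
  have hdeg : charDegree Ψ = ∑ Y : IrrCharacter G, c Y * charDegree (Y : G → ℂ) := by
    have h2 : Ψ 1 = ∑ Y : IrrCharacter G, (c Y : ℂ) * (Y : G → ℂ) 1 := by
      have := congrFun hexp 1
      rw [this, Finset.sum_apply]
      rfl
    have h3 : ((charDegree Ψ : ℕ) : ℂ) =
        ((∑ Y : IrrCharacter G, c Y * charDegree (Y : G → ℂ) : ℕ) : ℂ) := by
      push_cast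
      rw [helper24.char_charDegree_cast hΨ, h2]
      refine Finset.sum_congr rfl (fun Y _ => ?_)
      rw [helper24.char_charDegree_cast (helper24.irr_isCharacter Y.2)]
    exact_mod_cast h3
  have hpos : 0 < charDegree χ := helper24.irr_charDegree_pos hχ
  have hsplit : ∑ Y : IrrCharacter G, c Y * charDegree (Y : G → ℂ) =
      c ⟨χ, hχ⟩ * charDegree χ +
        ∑ Y ∈ Finset.univ.erase (⟨χ, hχ⟩ : IrrCharacter G), c Y * charDegree (Y : G → ℂ) :=
    (Finset.add_sum_erase Finset.univ (fun Y : IrrCharacter G => c Y * charDegree (Y : G → ℂ))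
      (Finset.mem_univ _)).symm
  have hge : charDegree χ ≤ c ⟨χ, hχ⟩ * charDegree χ :=
    Nat.le_mul_of_pos_left _ (Nat.pos_of_ne_zero hcχ)
  constructor
  · omega
  · intro hle
    have hrest : ∑ Y ∈ Finset.univ.erase (⟨χ, hχ⟩ : IrrCharacter G),
        c Y * charDegree (Y : G → ℂ) = 0 := by omega
    have hone : c ⟨χ, hχ⟩ = 1 := by
      have h2 : c ⟨χ, hχ⟩ * charDegree χ = 1 * charDegree χ := by omega
      exact Nat.eq_of_mul_eq_mul_right hpos h2
    rw [hexp, Finset.sum_eq_single (⟨χ, hχ⟩ : IrrCharacter G)]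
    · rw [hone, Nat.cast_one, one_smul]
    · intro Y _ hY
      have h2 := (Finset.sum_eq_zero_iff.mp hrest) Y
        (Finset.mem_erase.mpr ⟨hY, Finset.mem_univ _⟩)
      have h3 : c Y = 0 := by
        rcases Nat.mul_eq_zero.mp h2 with h | h
        · exact h
        · exact absurd h (helper24.irr_charDegree_pos Y.2).ne'
      rw [h3, Nat.cast_zero, zero_smul]
    · intro h
      exact absurd (Finset.mem_univ _) h

/-- a constituent of the restriction of a constituent is a constituent of the restriction -/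
theorem classInner_res_ne_zero_of_constituent {Ψ ξ : G → ℂ} (hΨ : IsCharacter G Ψ)
    (hξ : IsIrrCharacter G ξ) (h : classInner Ψ ξ ≠ 0) (M : Subgroup G) [Fintype M]
    {α : M → ℂ} (hα : IsCharacter M α) (h2 : classInner (helper5.res M ξ) α ≠ 0) :
    classInner (helper5.res M Ψ) α ≠ 0 := by
  classical
  haveI : Fintype (IrrCharacter G) := Fintype.ofFinite _
  obtain ⟨c, hexp, hc, -⟩ := helper12.char_decomp hΨ
  have hcξ : c ⟨ξ, hξ⟩ ≠ 0 := by
    intro h0
    apply h
    rw [hc ⟨ξ, hξ⟩, h0, Nat.cast_zero]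
  choose k hk using fun ζ : IrrCharacter G => helper12.classInner_char_nat
    (helper5.isCharacter_res M (helper24.irr_isCharacter ζ.2)) hα
  have hres : helper5.res M Ψ = ∑ ζ : IrrCharacter G, (c ζ : ℂ) • helper5.res M (ζ : G → ℂ) := by
    conv_lhs => rw [hexp]
    funext m
    rw [helper5.res_apply, Finset.sum_apply, Finset.sum_apply]
    rfl
  have hsum : classInner (helper5.res M Ψ) α = ((∑ ζ : IrrCharacter G, c ζ * k ζ : ℕ) : ℂ) := by
    rw [hres, helper24.classInner_sum_left]
    push_cast
    apply Finset.sum_congr rfl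
    intro ζ _
    rw [helper24.classInner_smul_left, hk ζ]
  rw [hsum]
  have hkξ : k ⟨ξ, hξ⟩ ≠ 0 := by
    intro h0
    apply h2
    rw [hk ⟨ξ, hξ⟩, h0, Nat.cast_zero]
  have hpos : 0 < ∑ ζ : IrrCharacter G, c ζ * k ζ := by
    apply Finset.sum_pos'
    · intro ζ _
      exact Nat.zero_le _
    · exact ⟨⟨ξ, hξ⟩, Finset.mem_univ _, Nat.mul_pos (Nat.pos_of_ne_zero hcξ)
        (Nat.pos_of_ne_zero hkξ)⟩
  exact_mod_cast hpos.ne'

/-- the two incarnations of `N ∩ T` -/
def interEquiv (N T : Subgroup G) : T.subgroupOf N ≃* N.subgroupOf T where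
  toFun s := ⟨⟨((s : N) : G), Subgroup.mem_subgroupOf.mp s.2⟩,
    Subgroup.mem_subgroupOf.mpr (s : N).2⟩
  invFun t := ⟨⟨((t : T) : G), Subgroup.mem_subgroupOf.mp t.2⟩,
    Subgroup.mem_subgroupOf.mpr (t : T).2⟩
  left_inv s := rfl
  right_inv t := rfl
  map_mul' x y := rfl

theorem interEquiv_coe (N T : Subgroup G) (s : T.subgroupOf N) :
    (((interEquiv N T s : N.subgroupOf T) : T) : G) = ((s : N) : G) := rfl

/-- if `ψ_N` is irreducible and `ψ` is induced from `ξ ∈ Irr(T)` (degree form) then the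
restriction of `ξ` to `N ∩ T` is irreducible -/
theorem res_subgroupOf_irr (N T : Subgroup G) [hN : N.Normal] [Fintype N] [Fintype T]
    {ψ : G → ℂ} (hψ : IsIrrCharacter G ψ) (hθ : IsIrrCharacter N (helper5.res N ψ))
    {ξ : T → ℂ} (hξ : IsIrrCharacter T ξ) (hc : classInner (helper5.res T ψ) ξ ≠ 0)
    (hdeg : charDegree ψ = T.index * charDegree ξ) :
    IsIrrCharacter (N.subgroupOf T) (helper5.res (N.subgroupOf T) ξ) := by
  classical
  haveI : Fintype (N.subgroupOf T) := Fintype.ofFinite _
  haveI : Fintype (T.subgroupOf N) := Fintype.ofFinite _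
  have hψc := helper24.irr_isCharacter hψ
  have hξc := helper24.irr_isCharacter hξ
  have hresξ : IsCharacter (N.subgroupOf T) (helper5.res (N.subgroupOf T) ξ) :=
    helper5.isCharacter_res _ hξc
  have h1ne : helper5.res (N.subgroupOf T) ξ 1 ≠ 0 := by
    rw [helper5.res_apply]
    exact helper24.irr_apply_one_ne_zero hξ
  obtain ⟨α, hα⟩ := exists_constituent_of_char hresξ h1ne
  have hαc := helper24.irr_isCharacter α.2
  -- `α` is a constituent of the restriction of `ψ`
  have h2 : classInner (helper5.res (N.subgroupOf T) (helper5.res T ψ)) (α : N.subgroupOf T → ℂ)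
      ≠ 0 :=
    classInner_res_ne_zero_of_constituent (helper5.isCharacter_res T hψc) hξ hc
      (N.subgroupOf T) hαc hα
  -- transport to `T.subgroupOf N`
  obtain ⟨α', hα'⟩ : ∃ α' : T.subgroupOf N → ℂ,
      α' = fun s => (α : N.subgroupOf T → ℂ) (interEquiv N T s) := ⟨_, rfl⟩
  have hα'irr : IsIrrCharacter (T.subgroupOf N) α' := by
    rw [hα']
    exact helper8.isIrrCharacter_comp_mulEquiv (interEquiv N T) α.2
  have h3 : classInner (helper5.res (T.subgroupOf N) (helper5.res N ψ)) α' ≠ 0 := by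
    have h4 : helper5.res (T.subgroupOf N) (helper5.res N ψ) =
        fun s => helper5.res (N.subgroupOf T) (helper5.res T ψ) (interEquiv N T s) := by
      funext s
      rfl
    rw [h4, hα', helper12.classInner_comp_mulEquiv (interEquiv N T)
      (helper5.res (N.subgroupOf T) (helper5.res T ψ)) (α : N.subgroupOf T → ℂ)]
    exact h2
  -- Frobenius reciprocity in `N`
  have h5 : classInner (indFun (T.subgroupOf N) α') (helper5.res N ψ) ≠ 0 := by
    rw [helper5.classInner_indFun_irr (T.subgroupOf N) α' (helper24.irr_isCharacter hθ),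
      ← helper24.classInner_conj_symm]
    intro h0
    apply h3
    have := congrArg (starRingEnd ℂ) h0
    rwa [Complex.conj_conj, map_zero] at this
  have hindc : IsCharacter N (indFun (T.subgroupOf N) α') :=
    helper12.isCharacter_indFun (T.subgroupOf N) (helper24.irr_isCharacter hα'irr)
  have h6 := (char_eq_of_constituent_degree hindc hθ h5).1
  -- degrees
  have hdθ : charDegree (helper5.res N ψ) = charDegree ψ := by
    apply helper24.charDegree_natCast
    rw [helper5.res_apply]
    show ψ 1 = _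
    exact (helper24.char_charDegree_cast hψc).symm
  have hdα' : charDegree α' = charDegree (α : N.subgroupOf T → ℂ) := by
    apply helper24.charDegree_natCast
    rw [hα']
    show (α : N.subgroupOf T → ℂ) 1 = _
    exact (helper24.char_charDegree_cast hαc).symm
  have hdind : charDegree (indFun (T.subgroupOf N) α') =
      (T.subgroupOf N).index * charDegree α' := by
    apply helper24.charDegree_natCast
    rw [helper5.indFun_one, ← helper24.char_charDegree_cast (helper24.irr_isCharacter hα'irr)]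
    push_cast
    rfl
  have hdres : charDegree (helper5.res (N.subgroupOf T) ξ) = charDegree ξ := by
    apply helper24.charDegree_natCast
    rw [helper5.res_apply]
    show ξ 1 = _
    exact (helper24.char_charDegree_cast hξc).symm
  obtain ⟨h7, h8⟩ := char_eq_of_constituent_degree hresξ α.2 hα
  have hidx : (T.subgroupOf N).index ≤ T.index := by
    show T.relIndex N ≤ T.index
    rw [← Subgroup.relIndex_top_right]
    apply Subgroup.relIndex_le_of_le_right le_top
    rw [Subgroup.relIndex_top_right]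
    exact Subgroup.index_ne_zero_of_finite
  have hTpos : 0 < T.index := Nat.pos_of_ne_zero Subgroup.index_ne_zero_of_finite
  rw [hdθ, hdind, hdα', hdeg] at h6
  rw [hdres] at h7 h8
  have h9 : T.index * charDegree ξ ≤ T.index * charDegree (α : N.subgroupOf T → ℂ) :=
    h6.trans (Nat.mul_le_mul_right _ hidx)
  have h10 : charDegree ξ ≤ charDegree (α : N.subgroupOf T → ℂ) :=
    Nat.le_of_mul_le_mul_left h9 hTpos
  rw [h8 h10]
  exact α.2

end Degrees

/-- transport of `AbSylow` to a subgroup regarded as a group -/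
theorem AbSylow.subgroupOf {G : Type u} [Group G] {N : Subgroup G} (hA : AbSylow N)
    (T : Subgroup G) : AbSylow (N.subgroupOf T) := by
  intro p hp Q hQ hQp a ha b hb
  apply Subtype.ext
  apply hA p hp (Q.map T.subtype) _ (hQp.map T.subtype) (a : G) _ (b : G) _
  · intro x hx
    obtain ⟨y, hy, rfl⟩ := Subgroup.mem_map.mp hx
    exact Subgroup.mem_subgroupOf.mp (hQ hy)
  · exact Subgroup.mem_map.mpr ⟨a, ha, rfl⟩
  · exact Subgroup.mem_map.mpr ⟨b, hb, rfl⟩

/-- **Key step of Isaacs 6.23**: if `N ⊲ G` is solvable with abelian Sylow subgroups and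
`ψ ∈ Irr(G)` restricts irreducibly to `N`, then `ψ` is monomial. -/
theorem monomial_of_res_irr : ∀ (m : ℕ) (G : Type u) [Group G] [Fintype G] (N : Subgroup G)
    [N.Normal], Nat.card G = m → Group.IsSolvable N → AbSylow N →
    ∀ ψ : G → ℂ, IsIrrCharacter G ψ → IsIrrCharacter N (helper5.res N ψ) →
      ∃ (U : Subgroup G) (lam : U →* ℂˣ), ψ = indFun U (fun h => ((lam h : ℂˣ) : ℂ)) := by
  intro m
  induction m using Nat.strong_induction_on with
  | _ m ih =>
    intro G _ _ N _ hcard hs hA ψ hψ hres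
    classical
    obtain ⟨n, ρ, hρ, hρψ⟩ := hψ
    subst hρψ
    have hχ : IsIrrCharacter G ρ.character := ⟨n, ρ, hρ, rfl⟩
    haveI : Fintype N := Fintype.ofFinite _
    by_cases hNZ : N ≤ commSubgroup ρ
    · have hn1 : n = 1 := degree_one_of_le_commSubgroup ρ hρ N hNZ hres
      have h1 : ρ.character 1 = 1 := by
        rw [Representation.char_one, Module.finrank_fin_fun, hn1, Nat.cast_one]
      obtain ⟨φ, hφ⟩ := helper23.exists_hom_of_linear (helper24.irr_isCharacter hχ) h1
      refine ⟨⊤, φ.comp (⊤ : Subgroup G).subtype, ?_⟩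
      have h2 := indFun_top (helper24.char_isClassFunction (helper24.irr_isCharacter hχ))
      conv_lhs => rw [← h2]
      congr 1
      funext h
      exact hφ h
    · obtain ⟨A, hAn, hAN, hcomm, x, hxA, hx⟩ :=
        exists_comm_normal_of_abSylow ρ hρ N hs hA hNZ
      haveI := hAn
      haveI : Fintype A := Fintype.ofFinite _
      obtain ⟨θ, hθ⟩ := exists_constituent_res ρ hρ A
      have hT := inertia_ne_top_of_comm ρ hρ A hcomm x hxA hx θ hθ
      obtain ⟨T, hTdef⟩ : ∃ T : Subgroup G, T = inertia A θ := ⟨_, rfl⟩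
      haveI : Fintype T := Fintype.ofFinite _
      obtain ⟨ξ, hξ, hξχ, -, hdeg⟩ := clifford_degree A hχ θ hθ T hTdef
      have hind := indFun_eq_of_degree T hχ (helper24.irr_isCharacter hξ) hξχ hdeg
      have hlt : Nat.card T < m := by
        rw [← hcard, ← Subgroup.card_mul_index T]
        have h1 : T.index ≠ 1 := by
          rw [Ne, Subgroup.index_eq_one, hTdef]
          exact hT
        have h2 : T.index ≠ 0 := Subgroup.index_ne_zero_of_finite
        have h3 : 0 < Nat.card T := Nat.card_pos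
        have h4 : 2 ≤ T.index := by omega
        nlinarith
      have hirr' := res_subgroupOf_irr N T hχ hres hξ hξχ hdeg
      have hs' : Group.IsSolvable (N.subgroupOf T) :=
        lead.solvable_subgroupOf_of_solvable N T hs
      obtain ⟨U', lam', hlam'⟩ := ih (Nat.card T) hlt T (N.subgroupOf T) rfl hs'
        (hA.subgroupOf T) ξ hξ hirr'
      obtain ⟨U, lam, hU⟩ := indFun_map_subtype T U' lam'
      exact ⟨U, lam, by rw [← hU, ← hlam', hind]⟩

end Cfsg.Agent.helper22
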