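import Cfsg.Statements.S0174
import Mathlib
import Cfsg.Agent.Lib_helper12_CharOps
import Cfsg.Agent.Lib_helper8_Ind

set_option autoImplicit false
set_option linter.style.haveILetI false
set_option linter.unusedVariables false
open Cfsg

namespace Cfsg.Agent.S0174

/-- The Clifford Theorem for characters: if θ is an irreducible character of a finite group G, N is a normal subgroup and χ is an irreducible character of N occurring in the restriction of θ, then θ restricted to N equals e times the sum of the distinct G-conjugates of χ, where e is the inner product of the restriction with χ. -/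
theorem result {G : Type*} [Group G] [Fintype G] (N : Subgroup G) [Fintype N] (hN : N.Normal) (θ : G → ℂ) (hθ : Cfsg.IsIrrCharacter G θ) (χ : N → ℂ) (hχ : Cfsg.IsIrrCharacter N χ) (hconst : Cfsg.classInner (fun n : N => θ n) χ ≠ 0) : (fun n : N => θ n) = Cfsg.classInner (fun n : N => θ n) χ • ∑ᶠ ψ ∈ {ψ : N → ℂ | ∃ g : G, ψ = fun n : N => χ ⟨g * n * g⁻¹, hN.conj_mem n n.2 g⟩}, ψ := by
  classical
  haveI := hN
  haveI : Fintype (IrrCharacter G) := Fintype.ofFinite _
  haveI : Fintype (IrrCharacter N) := Fintype.ofFinite _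
  have hNne : (Nat.card N : ℂ) ≠ 0 := by
    have : Nat.card N ≠ 0 := Nat.card_pos.ne'
    exact_mod_cast this
  set θN : N → ℂ := fun n : N => θ n with hθN
  set e : ℂ := classInner θN χ with he
  have hθchar : IsCharacter G θ := Cfsg.Agent.helper24.irr_isCharacter hθ
  have hθcf : IsClassFunction G θ := Cfsg.Agent.helper24.char_isClassFunction hθchar
  have hθNchar : IsCharacter N θN := Cfsg.Agent.helper12.isCharacter_restrict N hθchar
  have hθNcf : IsClassFunction N θN := Cfsg.Agent.helper24.char_isClassFunction hθNchar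
  have hχchar : IsCharacter N χ := Cfsg.Agent.helper24.irr_isCharacter hχ
  -- (a) inner products with conjugates
  have hconjinner : ∀ g : G, classInner θN (Cfsg.Agent.helper8.conjFunN N g χ) = e := by
    intro g
    rw [he]
    unfold classInner
    congr 1
    let ε : N ≃ N := (MulAut.conjNormal g : N ≃* N).toEquiv
    rw [← Equiv.sum_comp ε (fun n : N => θN n * (starRingEnd ℂ) (χ n))]
    apply Finset.sum_congr rfl
    intro n _
    have h1 : θN (ε n) = θN n := by
      show θ (g * n * g⁻¹) = θ n
      exact hθcf n g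
    rw [h1]
    rfl
  -- (b) irreducibles outside the orbit do not occur
  have hind : IsCharacter G (indFun N χ) := Cfsg.Agent.helper12.isCharacter_indFun N hχchar
  obtain ⟨m, hexp, hm, -⟩ := Cfsg.Agent.helper12.char_decomp hind
  have hmθ : m ⟨θ, hθ⟩ ≠ 0 := by
    intro h0
    have h1 := hm ⟨θ, hθ⟩
    rw [h0, Nat.cast_zero, Cfsg.Agent.helper8.frobenius N χ θ hθcf] at h1
    apply hconst
    rw [he, ← Cfsg.Agent.helper24.classInner_conj_symm]
    show (starRingEnd ℂ) (classInner χ (fun n : N => θ n)) = 0
    rw [h1, map_zero]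
  have hout : ∀ ψ : IrrCharacter N, (∀ g : G, (ψ : N → ℂ) ≠ Cfsg.Agent.helper8.conjFunN N g χ) →
      classInner θN (ψ : N → ℂ) = 0 := by
    intro ψ hψ
    -- restriction of the induced character
    have hres : (fun n : N => indFun N χ (n : G))
        = ∑ φ : IrrCharacter G, (m φ : ℂ) • (fun n : N => (φ : G → ℂ) n) := by
      funext n
      have := congrFun hexp (n : G)
      rw [this, Finset.sum_apply, Finset.sum_apply]
      rfl
    have h1 : classInner (fun n : N => indFun N χ (n : G)) (ψ : N → ℂ) = 0 := by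
      rw [Cfsg.Agent.helper8.indFun_restrict_normal, Cfsg.Agent.helper24.classInner_smul_left,
        Cfsg.Agent.helper24.classInner_sum_left, Finset.sum_eq_zero, mul_zero]
      intro x _
      exact Cfsg.Agent.helper24.irr_classInner_ne
        (Cfsg.Agent.helper8.isIrrCharacter_conjFunN N x⁻¹ hχ) ψ.2 (fun h => hψ x⁻¹ h.symm)
    rw [hres, Cfsg.Agent.helper24.classInner_sum_left] at h1
    -- each term is a natural number
    choose a ha using fun φ : IrrCharacter G => Cfsg.Agent.helper12.classInner_char_nat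
      (Cfsg.Agent.helper12.isCharacter_restrict N (Cfsg.Agent.helper24.irr_isCharacter φ.2))
      (Cfsg.Agent.helper24.irr_isCharacter ψ.2)
    have h2 : ∑ φ : IrrCharacter G, m φ * a φ = 0 := by
      have : ∑ φ : IrrCharacter G, ((m φ * a φ : ℕ) : ℂ) = 0 := by
        rw [← h1]
        apply Finset.sum_congr rfl
        intro φ _
        rw [Cfsg.Agent.helper24.classInner_smul_left, ha φ]
        push_cast; rfl
      exact_mod_cast this
    have h3 := (Finset.sum_eq_zero_iff.mp h2) ⟨θ, hθ⟩ (Finset.mem_univ _)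
    have h4 : a ⟨θ, hθ⟩ = 0 := by
      rcases Nat.mul_eq_zero.mp h3 with h | h
      · exact absurd h hmθ
      · exact h
    have := ha ⟨θ, hθ⟩
    rw [h4, Nat.cast_zero] at this
    exact this
  -- (c) assemble
  set T : Finset (N → ℂ) := Finset.univ.image (fun g : G => Cfsg.Agent.helper8.conjFunN N g χ) with hT
  have hset : {ψ : N → ℂ | ∃ g : G, ψ = fun n : N => χ ⟨g * n * g⁻¹, hN.conj_mem n n.2 g⟩}
      = (T : Set (N → ℂ)) := by
    ext ψ
    simp only [Set.mem_ofPred_eq, hT, Finset.coe_image, Finset.coe_univ, Set.image_univ, Set.mem_range]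
    constructor
    · rintro ⟨g, rfl⟩; exact ⟨g, rfl⟩
    · rintro ⟨g, rfl⟩; exact ⟨g, rfl⟩
  rw [hset, finsum_mem_coe_finset]
  show θN = e • ∑ ψ ∈ T, ψ
  conv_lhs => rw [Cfsg.Agent.helper24.classFunction_expansion hθNcf]
  -- split the sum
  have hcoef : ∀ ψ : IrrCharacter N, classInner θN (ψ : N → ℂ) • (ψ : N → ℂ)
      = if (ψ : N → ℂ) ∈ T then e • (ψ : N → ℂ) else 0 := by
    intro ψ
    by_cases hψT : (ψ : N → ℂ) ∈ T
    · rw [if_pos hψT]
      obtain ⟨g, _, hg⟩ := Finset.mem_image.mp hψT
      rw [← hg, hconjinner g]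
    · rw [if_neg hψT, hout ψ, zero_smul]
      intro g hg
      apply hψT
      rw [hT, Finset.mem_image]
      exact ⟨g, Finset.mem_univ _, hg.symm⟩
  rw [Finset.sum_congr rfl (fun ψ _ => hcoef ψ), ← Finset.sum_filter, Finset.smul_sum]
  -- reindex along Subtype.val
  have himage : T = (Finset.univ.filter (fun ψ : IrrCharacter N => (ψ : N → ℂ) ∈ T)).image
      Subtype.val := by
    ext f
    simp only [Finset.mem_image, Finset.mem_filter, Finset.mem_univ, true_and]
    constructor
    · intro hf
      obtain ⟨g, _, hg⟩ := Finset.mem_image.mp hf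
      refine ⟨⟨f, ?_⟩, hf, rfl⟩
      rw [← hg]
      exact Cfsg.Agent.helper8.isIrrCharacter_conjFunN N g hχ
    · rintro ⟨ψ, hψ, rfl⟩
      exact hψ
  conv_rhs => rw [himage]
  rw [Finset.sum_image (fun a _ b _ h => Subtype.ext h)]

end Cfsg.Agent.S0174
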