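import Mathlib
import Cfsg.Agent.Lib_helper22_Gallagher
import Cfsg.Agent.Lib_helper22_LinChar
import Cfsg.Agent.Lib_helper22_ExtLin
import Cfsg.Agent.S0187
import Cfsg.Agent.S0174
import Cfsg.Agent.Lib_helper22_Clifford
import Cfsg.Agent.Lib_helper22_MGroup

set_option autoImplicit false
set_option linter.unusedSectionVars false
set_option linter.unusedVariables false

/-!
Restriction of an irreducible character to a normal subgroup with abelian quotient (helper22).

* `sum_indicator_subgroup` : `∑ h, [h ∈ M] F h = ∑ m : M, F m`;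
* `norm_res_eq_card_stab` : `[ϑ_M, ϑ_M] = |{β ∈ Irr(H/M) : βϑ = ϑ}|` for `H/M` abelian;
* `norm_res_of_vanish` : if `ϑ` vanishes off `M` then `[ϑ_M, ϑ_M] = |H : M| [ϑ, ϑ]`.
-/

namespace Cfsg.Agent.helper22

open Cfsg
open scoped ComplexConjugate

universe u

section Ramification
variable {H : Type u} [Group H] [Fintype H] (M : Subgroup H) [hM : M.Normal] [Fintype M]

open scoped Classical in
theorem sum_indicator_subgroup (F : H → ℂ) :
    ∑ h : H, (if h ∈ M then F h else 0) = ∑ m : M, F m := by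
  rw [← Finset.sum_filter, Finset.sum_subtype (Finset.univ.filter (fun y : H => y ∈ M))
    (p := fun y => y ∈ M) (by intro y; simp) F]

theorem card_mul_index_cast : (Nat.card M : ℂ) * (M.index : ℂ) = (Nat.card H : ℂ) := by
  exact_mod_cast M.card_mul_index

/-- inflation of a linear character times an irreducible character is irreducible -/
theorem infl_mul_irr (hab : ∀ a b : H ⧸ M, a * b = b * a) (β : IrrCharacter (H ⧸ M))
    {ϑ : H → ℂ} (hϑ : IsIrrCharacter H ϑ) :
    IsIrrCharacter H (infl M (β : H ⧸ M → ℂ) * ϑ) := by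
  have hβ1 : (β : H ⧸ M → ℂ) 1 = 1 := (S0187.result (G := H ⧸ M)).mp hab β
  have hlin : IsCharacter H (infl M (β : H ⧸ M → ℂ)) ∧ infl M (β : H ⧸ M → ℂ) 1 = 1 :=
    ⟨helper24.char_inflation M (helper24.irr_isCharacter β.2), hβ1⟩
  obtain ⟨lam, hlam⟩ := linear_iff_hom.mp hlin
  have h1 := twist_isIrr lam hϑ
  have h2 : infl M (β : H ⧸ M → ℂ) * ϑ = fun g => ((lam g : ℂˣ) : ℂ) * ϑ g := by
    funext g
    rw [Pi.mul_apply, hlam]
  rw [h2]
  exact h1

theorem norm_res_eq_card_stab [Fintype (IrrCharacter (H ⧸ M))]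
    (hab : ∀ a b : H ⧸ M, a * b = b * a) {ϑ : H → ℂ} (hϑ : IsIrrCharacter H ϑ)
    [DecidablePred (fun β : IrrCharacter (H ⧸ M) => infl M (β : H ⧸ M → ℂ) * ϑ = ϑ)] :
    classInner (helper5.res M ϑ) (helper5.res M ϑ) =
      ((Finset.univ.filter
        (fun β : IrrCharacter (H ⧸ M) => infl M (β : H ⧸ M → ℂ) * ϑ = ϑ)).card : ℂ) := by
  classical
  have hβ1 : ∀ β : IrrCharacter (H ⧸ M), (β : H ⧸ M → ℂ) 1 = 1 :=
    (S0187.result (G := H ⧸ M)).mp hab
  have hinner : ∀ β : IrrCharacter (H ⧸ M), classInner (infl M (β : H ⧸ M → ℂ) * ϑ) ϑ =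
      if infl M (β : H ⧸ M → ℂ) * ϑ = ϑ then 1 else 0 := by
    intro β
    split_ifs with h
    · rw [h, helper24.irr_classInner_self hϑ]
    · exact helper24.irr_classInner_ne (infl_mul_irr M hab β hϑ) hϑ h
  have hsum : ∑ β : IrrCharacter (H ⧸ M), classInner (infl M (β : H ⧸ M → ℂ) * ϑ) ϑ =
      classInner (helper5.res M ϑ) (helper5.res M ϑ) := by
    unfold classInner
    rw [← Finset.mul_sum, Finset.sum_comm]
    have h1 : ∀ h : H, ∑ β : IrrCharacter (H ⧸ M),
        (infl M (β : H ⧸ M → ℂ) * ϑ) h * conj (ϑ h) =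
        if h ∈ M then (M.index : ℂ) * (ϑ h * conj (ϑ h)) else 0 := by
      intro h
      have h2 := sum_degree_mul_infl M h
      rw [Finset.sum_congr rfl (fun β _ => by rw [hβ1 β, one_mul])] at h2
      rw [Finset.sum_congr rfl (fun β _ => by
        rw [Pi.mul_apply, infl_apply, mul_assoc]), ← Finset.sum_mul, h2]
      split_ifs
      · rfl
      · rw [zero_mul]
    rw [Finset.sum_congr rfl (fun h _ => h1 h), sum_indicator_subgroup M
      (fun h => (M.index : ℂ) * (ϑ h * conj (ϑ h))), ← Finset.mul_sum, ← mul_assoc]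
    congr 1
    have hM0 : (Nat.card M : ℂ) ≠ 0 := by exact_mod_cast (Nat.card_pos (α := M)).ne'
    have hH0 : (Nat.card H : ℂ) ≠ 0 := by exact_mod_cast (Nat.card_pos (α := H)).ne'
    have hI0 : (M.index : ℂ) ≠ 0 := by
      exact_mod_cast (Subgroup.index_ne_zero_of_finite (H := M))
    rw [← card_mul_index_cast M]
    field_simp
  rw [← hsum, Finset.sum_congr rfl (fun β _ => hinner β), Finset.sum_boole]

theorem norm_res_of_vanish {ϑ : H → ℂ} (hv : ∀ h : H, h ∉ M → ϑ h = 0) :
    classInner (helper5.res M ϑ) (helper5.res M ϑ) = (M.index : ℂ) * classInner ϑ ϑ := by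
  classical
  unfold classInner
  have h1 : ∑ h : H, ϑ h * conj (ϑ h) = ∑ m : M, ϑ m * conj (ϑ m) := by
    rw [← sum_indicator_subgroup M (fun h => ϑ h * conj (ϑ h))]
    apply Finset.sum_congr rfl
    intro h _
    split_ifs with hh
    · rfl
    · rw [hv h hh, zero_mul]
  rw [h1, ← mul_assoc]
  congr 1
  have hM0 : (Nat.card M : ℂ) ≠ 0 := by exact_mod_cast (Nat.card_pos (α := M)).ne'
  have hH0 : (Nat.card H : ℂ) ≠ 0 := by exact_mod_cast (Nat.card_pos (α := H)).ne'
  have hI0 : (M.index : ℂ) ≠ 0 := by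
    exact_mod_cast (Subgroup.index_ne_zero_of_finite (H := M))
  rw [← card_mul_index_cast M]
  field_simp

end Ramification

section Trichotomy
variable {H : Type u} [Group H] [Fintype H] (M : Subgroup H) [hM : M.Normal] [Fintype M]
  {Γ : Type*} (α : Γ → H ≃* H)

/-- restriction of an automorphism preserving `M` -/
noncomputable def autResM (hαM : ∀ g x, α g x ∈ M ↔ x ∈ M) (g : Γ) : M ≃* M where
  toFun x := ⟨α g x, (hαM g x).mpr x.2⟩
  invFun y := ⟨(α g).symm y, by
    rw [← hαM g]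
    simp⟩
  left_inv x := by
    apply Subtype.ext
    simp
  right_inv y := by
    apply Subtype.ext
    simp
  map_mul' x y := by
    apply Subtype.ext
    simp

theorem autResM_coe (hαM : ∀ g x, α g x ∈ M ↔ x ∈ M) (g : Γ) (x : M) :
    ((autResM M α hαM g x : M) : H) = α g x := rfl

/-- the inertia group of a constituent of an invariant character is invariant -/
theorem inertia_invariant (hab : ∀ a b : H ⧸ M, a * b = b * a)
    (hαM : ∀ g x, α g x ∈ M ↔ x ∈ M) {ϑ : H → ℂ} (hϑ : IsIrrCharacter H ϑ)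
    (hαϑ : ∀ g x, ϑ (α g x) = ϑ x) (φ : IrrCharacter M)
    (hφ : classInner (helper5.res M ϑ) (φ : M → ℂ) ≠ 0) (g : Γ) (t : H)
    (ht : t ∈ inertia M φ) : α g t ∈ inertia M φ := by
  classical
  -- `T` is normal in `H`
  have hTn : ∀ h : H, ∀ t ∈ inertia M φ, h * t * h⁻¹ ∈ inertia M φ := by
    intro h t ht
    have h1 : h * t * h⁻¹ * t⁻¹ ∈ M := by
      rw [← QuotientGroup.eq_one_iff]
      simp only [QuotientGroup.mk_mul, QuotientGroup.mk_inv]
      rw [hab (h : H ⧸ M) (t : H ⧸ M)]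
      group
    have h2 : h * t * h⁻¹ = (h * t * h⁻¹ * t⁻¹) * t := by group
    rw [h2]
    exact (inertia M φ).mul_mem (le_inertia M φ h1) ht
  obtain ⟨φg, hφg⟩ : ∃ φg : M → ℂ, φg = fun x => (φ : M → ℂ) (autResM M α hαM g x) := ⟨_, rfl⟩
  have hφgirr : IsIrrCharacter M φg := by
    rw [hφg]
    exact helper8.isIrrCharacter_comp_mulEquiv (autResM M α hαM g) φ.2
  have hφgc : classInner (helper5.res M ϑ) φg ≠ 0 := by
    have h1 : classInner (helper5.res M ϑ) φg = classInner (helper5.res M ϑ) (φ : M → ℂ) := by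
      unfold classInner
      congr 1
      rw [hφg]
      rw [← Equiv.sum_comp (autResM M α hαM g).toEquiv
        (fun y => helper5.res M ϑ y * conj ((φ : M → ℂ) y))]
      apply Finset.sum_congr rfl
      intro x _
      congr 1
      show ϑ x = ϑ (α g x)
      rw [hαϑ]
    rw [h1]
    exact hφ
  obtain ⟨h, hh⟩ := helper5.clifford_conj M hϑ φ.2 hφgirr hφ hφgc
  rw [mem_inertia] at ht ⊢
  have ht' : h * t * h⁻¹ ∈ inertia M φ := hTn h t ((mem_inertia M).mpr ht)
  rw [mem_inertia] at ht'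
  have h3 : helper8.conjFunN M t φg = φg := by
    rw [hh, conjFunN_conjFunN]
    have : h * t = (h * t * h⁻¹) * h := by group
    rw [this, ← conjFunN_conjFunN, ht']
  funext x
  obtain ⟨x', rfl⟩ := (autResM M α hαM g).surjective x
  rw [helper8.conjFunN_apply]
  have h4 := congrFun h3 x'
  rw [helper8.conjFunN_apply, hφg] at h4
  have h5 : (⟨α g t * ((autResM M α hαM g x' : M) : H) * (α g t)⁻¹,
      hM.conj_mem _ (autResM M α hαM g x').2 (α g t)⟩ : M) =
      autResM M α hαM g ⟨t * x' * t⁻¹, hM.conj_mem _ x'.2 t⟩ := by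
    apply Subtype.ext
    show α g t * α g (x' : H) * (α g t)⁻¹ = α g (t * (x' : H) * t⁻¹)
    simp
  rw [h5]
  exact h4

/-- if the inertia group of a constituent `φ` of `ϑ_M` is `M`, then `ϑ_M` is the sum of the
`|H : M|` distinct conjugates of `φ` -/
theorem res_sum_of_inertia_eq {ϑ : H → ℂ} (hϑ : IsIrrCharacter H ϑ) (φ : IrrCharacter M)
    (hφ : classInner (helper5.res M ϑ) (φ : M → ℂ) ≠ 0) (hT : inertia M φ = M) :
    ∃ F : Finset (M → ℂ), (∀ ψ ∈ F, IsIrrCharacter M ψ) ∧ F.card = M.index ∧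
      helper5.res M ϑ = ∑ ψ ∈ F, ψ := by
  classical
  haveI : Fintype (IrrCharacter H) := Fintype.ofFinite _
  obtain ⟨F, hF⟩ : ∃ F : Finset (M → ℂ),
      F = Finset.univ.image (fun h : H => helper8.conjFunN M h (φ : M → ℂ)) := ⟨_, rfl⟩
  have hFmem : ∀ ψ, ψ ∈ F ↔ ∃ h : H, ψ = helper8.conjFunN M h (φ : M → ℂ) := by
    intro ψ
    rw [hF, Finset.mem_image]
    constructor
    · rintro ⟨h, -, rfl⟩
      exact ⟨h, rfl⟩
    · rintro ⟨h, rfl⟩
      exact ⟨h, Finset.mem_univ _, rfl⟩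
  have hFirr : ∀ ψ ∈ F, IsIrrCharacter M ψ := by
    intro ψ hψ
    obtain ⟨h, rfl⟩ := (hFmem ψ).mp hψ
    exact helper8.isIrrCharacter_conjFunN M h φ.2
  have hFcard : F.card = M.index := by
    have h1 : (F : Set (M → ℂ)) = Subtype.val '' (MulAction.orbit H φ) := by
      ext ψ
      rw [Finset.mem_coe, hFmem]
      constructor
      · rintro ⟨h, rfl⟩
        refine ⟨h⁻¹ • φ, ⟨h⁻¹, rfl⟩, ?_⟩
        rw [conjIrr_smul_coe, inv_inv]
      · rintro ⟨θ, ⟨h, rfl⟩, rfl⟩
        exact ⟨h⁻¹, conjIrr_smul_coe M h φ⟩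
    rw [← Set.ncard_coe_finset, h1, Set.ncard_image_of_injective _ Subtype.val_injective,
      ← MulAction.index_stabilizer]
    show (inertia M φ).index = M.index
    rw [hT]
  obtain ⟨e, he⟩ := helper12.classInner_char_nat
    (helper5.isCharacter_res M (helper24.irr_isCharacter hϑ)) (helper24.irr_isCharacter φ.2)
  have he0 : e ≠ 0 := by
    intro h
    apply hφ
    rw [he, h, Nat.cast_zero]
  have hcliff := S0174.result M hM ϑ hϑ (φ : M → ℂ) φ.2 hφ
  have hset : {ψ : M → ℂ | ∃ g : H, ψ = fun n : M =>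
      (φ : M → ℂ) ⟨g * n * g⁻¹, hM.conj_mem n n.2 g⟩} = (F : Set (M → ℂ)) := by
    ext ψ
    rw [Finset.mem_coe, hFmem]
    rfl
  rw [hset, finsum_mem_coe_finset] at hcliff
  have hcliff' : helper5.res M ϑ = (e : ℂ) • ∑ ψ ∈ F, ψ := by
    rw [← he]
    exact hcliff
  have hF1 : ∀ ψ ∈ F, ψ 1 = (φ : M → ℂ) 1 := by
    intro ψ hψ
    obtain ⟨h, rfl⟩ := (hFmem ψ).mp hψ
    rw [helper8.conjFunN_apply]
    have h1 : (⟨h * ((1 : M) : H) * h⁻¹, hM.conj_mem _ (1 : M).2 h⟩ : M) = 1 :=
      Subtype.ext (by simp)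
    rw [h1]
  obtain ⟨dφ, hdφ⟩ : ∃ d, d = charDegree (φ : M → ℂ) := ⟨_, rfl⟩
  have hφ1 : (φ : M → ℂ) 1 = dφ := by
    rw [hdφ, helper24.char_charDegree_cast (helper24.irr_isCharacter φ.2)]
  have hϑ1 : ϑ 1 = ((e * M.index * dφ : ℕ) : ℂ) := by
    have h1 := congrFun hcliff' 1
    rw [helper5.res_apply, Pi.smul_apply, Finset.sum_apply,
      Finset.sum_congr rfl (fun ψ hψ => hF1 ψ hψ), Finset.sum_const, hFcard, hφ1] at h1
    have h2 : ((1 : M) : H) = 1 := rfl
    rw [h2] at h1
    rw [h1]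
    push_cast
    simp only [smul_eq_mul, nsmul_eq_mul]
    ring
  have hdϑ : charDegree ϑ = e * M.index * dφ := helper24.charDegree_natCast ϑ _ hϑ1
  -- Frobenius reciprocity
  have hind : IsCharacter H (indFun M (φ : M → ℂ)) :=
    helper12.isCharacter_indFun M (helper24.irr_isCharacter φ.2)
  obtain ⟨c, hexp, hc, -⟩ := helper12.char_decomp hind
  have hcϑ : c ⟨ϑ, hϑ⟩ = e := by
    have h1 := hc ⟨ϑ, hϑ⟩
    rw [helper5.classInner_indFun_irr M _ (helper24.irr_isCharacter hϑ),
      ← helper24.classInner_conj_symm, he, Complex.conj_natCast] at h1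
    exact_mod_cast h1.symm
  have hdeg : M.index * dφ = ∑ ψ : IrrCharacter H, c ψ * charDegree (ψ : H → ℂ) := by
    have h1 := congrFun hexp 1
    rw [helper5.indFun_one, hφ1, Finset.sum_apply] at h1
    have h2 : ∀ ψ : IrrCharacter H, ((c ψ : ℂ) • (ψ : H → ℂ)) 1 =
        ((c ψ * charDegree (ψ : H → ℂ) : ℕ) : ℂ) := by
      intro ψ
      rw [Pi.smul_apply, smul_eq_mul, ← helper24.char_charDegree_cast
        (helper24.irr_isCharacter ψ.2)]
      push_cast
      rfl
    rw [Finset.sum_congr rfl (fun ψ _ => h2 ψ)] at h1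
    exact_mod_cast h1
  have hle : e * (e * M.index * dφ) ≤ M.index * dφ := by
    rw [hdeg, ← hcϑ]
    conv_lhs => rw [hcϑ, ← hdϑ, ← hcϑ]
    exact Finset.single_le_sum (f := fun ψ : IrrCharacter H => c ψ * charDegree (ψ : H → ℂ))
      (fun _ _ => Nat.zero_le _) (Finset.mem_univ (⟨ϑ, hϑ⟩ : IrrCharacter H))
  have hpos : 0 < M.index * dφ := by
    apply Nat.mul_pos
    · exact Nat.pos_of_ne_zero (Subgroup.index_ne_zero_of_finite (H := M))
    · rw [hdφ]
      exact helper24.irr_charDegree_pos φ.2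
  have he1 : e = 1 := by
    have h1 : e * e * (M.index * dφ) ≤ 1 * (M.index * dφ) := by
      calc e * e * (M.index * dφ) = e * (e * M.index * dφ) := by ring
        _ ≤ M.index * dφ := hle
        _ = 1 * (M.index * dφ) := (one_mul _).symm
    have h2 : e * e ≤ 1 := Nat.le_of_mul_le_mul_right h1 hpos
    have h3 : 1 ≤ e := Nat.one_le_iff_ne_zero.mpr he0
    nlinarith
  refine ⟨F, hFirr, hFcard, ?_⟩
  rw [hcliff', he1, Nat.cast_one, one_smul]

/-- the subgroup on which all linear characters `lam` of `H/M` with `lam ϑ = ϑ` are trivial -/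
def stabKer (ϑ : H → ℂ) : Subgroup H where
  carrier := {h | ∀ lam : H →* ℂˣ, (∀ m ∈ M, lam m = 1) →
    (∀ x, ((lam x : ℂˣ) : ℂ) * ϑ x = ϑ x) → lam h = 1}
  mul_mem' := by
    intro a b ha hb lam h1 h2
    rw [map_mul, ha lam h1 h2, hb lam h1 h2, one_mul]
  one_mem' := by
    intro lam _ _
    exact map_one lam
  inv_mem' := by
    intro a ha lam h1 h2
    rw [map_inv, ha lam h1 h2, inv_one]

theorem mem_stabKer (ϑ : H → ℂ) (h : H) : h ∈ stabKer M ϑ ↔
    ∀ lam : H →* ℂˣ, (∀ m ∈ M, lam m = 1) →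
      (∀ x, ((lam x : ℂˣ) : ℂ) * ϑ x = ϑ x) → lam h = 1 := Iff.rfl

theorem le_stabKer (ϑ : H → ℂ) : M ≤ stabKer M ϑ := by
  intro m hm lam h1 _
  exact h1 m hm

theorem stabKer_invariant (hαM : ∀ g x, α g x ∈ M ↔ x ∈ M) {ϑ : H → ℂ}
    (hαϑ : ∀ g x, ϑ (α g x) = ϑ x) (g : Γ) (h : H) (hh : h ∈ stabKer M ϑ) :
    α g h ∈ stabKer M ϑ := by
  intro lam h1 h2
  have h3 := hh (lam.comp (α g).toMonoidHom) (by
    intro m hm
    exact h1 _ ((hαM g m).mpr hm)) (by
    intro x
    have h4 := h2 (α g x)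
    rw [hαϑ] at h4
    exact h4)
  exact h3

/-- **Isaacs 6.18** in abstract form: `M ⊲ H` with `H/M` abelian, `Γ` acting on `H` by
automorphisms preserving `M` and the irreducible character `ϑ`, with no invariant subgroup
strictly between `M` and `H`. -/
theorem chief_trichotomy (hab : ∀ a b : H ⧸ M, a * b = b * a)
    (hαM : ∀ g x, α g x ∈ M ↔ x ∈ M) {ϑ : H → ℂ} (hϑ : IsIrrCharacter H ϑ)
    (hαϑ : ∀ g x, ϑ (α g x) = ϑ x)
    (hchief : ∀ U : Subgroup H, M ≤ U → (∀ g, ∀ x ∈ U, α g x ∈ U) → U = M ∨ U = ⊤) :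
    IsIrrCharacter M (helper5.res M ϑ) ∨
    (∃ (φ : M → ℂ) (e : ℕ), IsIrrCharacter M φ ∧ helper5.res M ϑ = (e : ℂ) • φ ∧
      e ^ 2 = M.index) ∨
    (∃ F : Finset (M → ℂ), (∀ ψ ∈ F, IsIrrCharacter M ψ) ∧ F.card = M.index ∧
      helper5.res M ϑ = ∑ ψ ∈ F, ψ) := by
  classical
  haveI : Fintype (IrrCharacter (H ⧸ M)) := Fintype.ofFinite _
  obtain ⟨φ, hφ⟩ : ∃ φ : IrrCharacter M, classInner (helper5.res M ϑ) (φ : M → ℂ) ≠ 0 := by
    obtain ⟨n, ρ, hρ, rfl⟩ := hϑ
    exact exists_constituent_res ρ hρ M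
  rcases hchief (inertia M φ) (le_inertia M φ)
    (fun g t ht => inertia_invariant M α hab hαM hϑ hαϑ φ hφ g t ht) with hT | hT
  · right; right
    exact res_sum_of_inertia_eq M hϑ φ hφ hT
  · have hinv : ∀ g : H, helper8.conjFunN M g (φ : M → ℂ) = φ := by
      intro g
      rw [← mem_inertia, hT]
      exact Subgroup.mem_top g
    obtain ⟨e, hres, hee, he0⟩ := helper5.clifford_invariant M hϑ φ.2 hinv hφ
    have hnorm : classInner (helper5.res M ϑ) (helper5.res M ϑ) = ((e ^ 2 : ℕ) : ℂ) := by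
      conv_lhs => rw [hres]
      rw [helper24.classInner_smul_left, helper8.classInner_smul_right,
        helper24.irr_classInner_self φ.2, Complex.conj_natCast]
      push_cast
      ring
    rcases hchief (stabKer M ϑ) (le_stabKer M ϑ)
      (fun g h hh => stabKer_invariant M α hαM hαϑ g h hh) with hV | hV
    · -- `ϑ` vanishes off `M`
      right; left
      refine ⟨φ, e, φ.2, hres, ?_⟩
      have hv : ∀ h : H, h ∉ M → ϑ h = 0 := by
        intro h hh
        rw [← hV, mem_stabKer] at hh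
        push Not at hh
        obtain ⟨lam, h1, h2, h3⟩ := hh
        have h4 := h2 h
        by_contra h0
        apply h3
        have h5 : ((lam h : ℂˣ) : ℂ) = 1 := by
          have := mul_right_cancel₀ h0 (h4.trans (one_mul _).symm)
          exact this
        exact Units.ext h5
      have h1 := norm_res_of_vanish M hv
      rw [hnorm, helper24.irr_classInner_self hϑ, mul_one] at h1
      exact_mod_cast h1
    · -- every stabilizing linear character is trivial
      left
      have hcard := norm_res_eq_card_stab M hab hϑ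
      rw [hnorm] at hcard
      have hle : (Finset.univ.filter
          (fun β : IrrCharacter (H ⧸ M) => infl M (β : H ⧸ M → ℂ) * ϑ = ϑ)).card ≤ 1 := by
        rw [Finset.card_le_one]
        have hone : ∀ β : IrrCharacter (H ⧸ M), infl M (β : H ⧸ M → ℂ) * ϑ = ϑ →
            ∀ q : H ⧸ M, (β : H ⧸ M → ℂ) q = 1 := by
          intro β hβ q
          have hβ1 : (β : H ⧸ M → ℂ) 1 = 1 := (S0187.result (G := H ⧸ M)).mp hab β
          have hlin : IsCharacter H (infl M (β : H ⧸ M → ℂ)) ∧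
              infl M (β : H ⧸ M → ℂ) 1 = 1 :=
            ⟨helper24.char_inflation M (helper24.irr_isCharacter β.2), hβ1⟩
          obtain ⟨lam, hlam⟩ := linear_iff_hom.mp hlin
          obtain ⟨h, rfl⟩ := QuotientGroup.mk_surjective q
          have hmem : h ∈ stabKer M ϑ := by
            rw [hV]
            exact Subgroup.mem_top h
          have h1 := hmem lam (by
            intro m hm
            apply Units.ext
            rw [← hlam, infl_apply, (QuotientGroup.eq_one_iff m).mpr hm, hβ1]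
            rfl) (by
            intro x
            rw [← hlam]
            exact congrFun hβ x)
          have h2 := hlam h
          rw [infl_apply, h1] at h2
          exact h2
        intro β hβ β' hβ'
        rw [Finset.mem_filter] at hβ hβ'
        apply Subtype.ext
        funext q
        rw [hone β hβ.2 q, hone β' hβ'.2 q]
      have he1 : e = 1 := by
        have h1 : e ^ 2 ≤ 1 := by
          have : ((e ^ 2 : ℕ) : ℂ) = ((Finset.univ.filter
            (fun β : IrrCharacter (H ⧸ M) => infl M (β : H ⧸ M → ℂ) * ϑ = ϑ)).card : ℂ) :=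
            hcard
          have h2 : e ^ 2 = (Finset.univ.filter
            (fun β : IrrCharacter (H ⧸ M) => infl M (β : H ⧸ M → ℂ) * ϑ = ϑ)).card := by
            exact_mod_cast this
          rw [h2]
          exact hle
        have h3 : 1 ≤ e := Nat.one_le_iff_ne_zero.mpr he0
        nlinarith
      rw [hres, he1, Nat.cast_one, one_smul]
      exact φ.2

end Trichotomy

end Cfsg.Agent.helper22
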