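import Mathlib
import Cfsg.Agent.Lib_helper22_DetExt
import Cfsg.Agent.Lib_helper22_CoprimeExt
import Cfsg.Agent.Lib_helper22_Clifford
import Cfsg.Agent.Lib_helper22_MGroup
import Cfsg.Agent.Lib_helper22_Gallagher
import Cfsg.Agent.Lib_helper10_PResidual

set_option autoImplicit false
set_option linter.unusedSectionVars false
set_option linter.unusedVariables false

/-!
Characters of `p'`-degree and `p'`-determinantal order and `O^p(G)` (helper22).
-/

namespace Cfsg.Agent.helper22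

open Cfsg

universe u

section PRes
variable {G : Type u} [Group G] [Finite G] (p : ℕ) [hp : Fact p.Prime]

/-- `O^p(G)` has no nontrivial linear characters of `p`-power order. -/
theorem hom_pResidual_eq_one (lam : Cfsg.pResidual p G →* ℂˣ) (a : ℕ)
    (h : ∀ n, lam n ^ (p ^ a) = 1) : ∀ n, lam n = 1 := by
  have hle : Cfsg.pResidual p G ≤ (MonoidHom.ker lam).map (Cfsg.pResidual p G).subtype := by
    unfold Cfsg.pResidual
    rw [Subgroup.closure_le]
    intro x hx
    have hxN : x ∈ Cfsg.pResidual p G := Subgroup.subset_closure hx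
    refine ⟨⟨x, hxN⟩, ?_, rfl⟩
    show lam ⟨x, hxN⟩ = 1
    have h1 : lam ⟨x, hxN⟩ ^ orderOf x = 1 := by
      rw [← map_pow]
      have : (⟨x, hxN⟩ : Cfsg.pResidual p G) ^ orderOf x = 1 := by
        apply Subtype.ext
        show x ^ orderOf x = 1
        exact pow_orderOf_eq_one x
      rw [this, map_one]
    have h2 := pow_gcd_eq_one.mpr ⟨h1, h ⟨x, hxN⟩⟩
    have hcop : Nat.Coprime (orderOf x) (p ^ a) := Nat.Coprime.pow_right a hx
    rwa [hcop.gcd_eq_one, pow_one] at h2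
  intro n
  obtain ⟨y, hy, hyn⟩ := hle n.2
  have : y = n := Subtype.ext hyn
  rw [← this]
  exact hy

/-- every linear character of `O^p(G)` has order dividing the `p'`-part of `|O^p(G)|` -/
theorem hom_pResidual_pow (lam : Cfsg.pResidual p G →* ℂˣ) (n : Cfsg.pResidual p G) :
    lam n ^ (Nat.card (Cfsg.pResidual p G) / p ^ (Nat.card (Cfsg.pResidual p G)).factorization p)
      = 1 := by
  obtain ⟨m, hm⟩ : ∃ m, m = Nat.card (Cfsg.pResidual p G) /
    p ^ (Nat.card (Cfsg.pResidual p G)).factorization p := ⟨_, rfl⟩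
  rw [← hm]
  obtain ⟨μ, hμ⟩ : ∃ μ : Cfsg.pResidual p G →* ℂˣ, ∀ n, μ n = lam n ^ m :=
    ⟨(powMonoidHom m).comp lam, fun n => rfl⟩
  have h1 := hom_pResidual_eq_one p μ ((Nat.card (Cfsg.pResidual p G)).factorization p) ?_ n
  · rw [← hμ]
    exact h1
  · intro n
    rw [hμ, ← pow_mul, hm, Nat.div_mul_cancel (Nat.ordProj_dvd _ p), ← map_pow,
      pow_card_eq_one', map_one]

/-- a quotient of `p`-power order is solvable -/
theorem solvable_of_index_pow (N : Subgroup G) [hN : N.Normal] (k : ℕ) (hidx : N.index = p ^ k) :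
    Group.IsSolvable (G ⧸ N) := by
  have h1 : IsPGroup p (G ⧸ N) := IsPGroup.of_card (n := k) (by rw [← Subgroup.index_eq_card, hidx])
  haveI := h1.isNilpotent
  infer_instance

/-- An invariant irreducible character of `p'`-degree of a normal subgroup `N` of `p`-power index,
all of whose linear characters have `p'`-order, has an extension of `p'`-determinantal order. -/
theorem exists_ext_p'_det (N : Subgroup G) [hN : N.Normal] (k : ℕ) (hidx : N.index = p ^ k)
    (m : ℕ) (hm : ¬ p ∣ m) (hlin : ∀ (lam : N →* ℂˣ) (n : N), lam n ^ m = 1)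
    (θ : N → ℂ) (hθ : IsIrrCharacter N θ)
    (hinv : ∀ (g : G) (n : N), θ ⟨g * n * g⁻¹, hN.conj_mem (n : G) n.2 g⟩ = θ n)
    (d : ℕ) (hd : θ 1 = d) (hpd : ¬ p ∣ d) :
    ∃ χ : G → ℂ, IsIrrCharacter G χ ∧ (∀ n : N, χ n = θ n) ∧
      ∃ M : ℕ, 0 < M ∧ ¬ p ∣ M ∧ ∀ g, detChar χ g ^ M = 1 := by
  classical
  haveI : Fintype G := Fintype.ofFinite G
  haveI : Fintype N := Fintype.ofFinite N
  obtain ⟨D, hD⟩ := exists_detHom hθ
  have hDinv : ∀ (g : G) (n : N), D ⟨g * n * g⁻¹, hN.conj_mem (n : G) n.2 g⟩ = D n := by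
    intro g n
    apply Units.ext
    rw [← hD, ← hD]
    exact detChar_invariant N θ hθ hinv g n
  have hcopm : Nat.Coprime N.index m := by
    rw [hidx]
    exact Nat.Coprime.pow_left k ((Nat.Prime.coprime_iff_not_dvd hp.out).mpr hm)
  have hcopd : Nat.Coprime N.index d := by
    rw [hidx]
    exact Nat.Coprime.pow_left k ((Nat.Prime.coprime_iff_not_dvd hp.out).mpr hpd)
  obtain ⟨μ₀, hμ₀⟩ := exists_extend_coprime N D hDinv m (hlin D) hcopm
  obtain ⟨b, hb⟩ : ∃ b, b = (Nat.card G).factorization p := ⟨_, rfl⟩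
  obtain ⟨M₀, hM₀⟩ : ∃ M₀, M₀ = Nat.card G / p ^ b := ⟨_, rfl⟩
  have hGpos : Nat.card G ≠ 0 := Nat.card_pos.ne'
  have hcard : p ^ b * M₀ = Nat.card G := by
    rw [hM₀, hb]
    exact Nat.ordProj_mul_ordCompl_eq_self (Nat.card G) p
  have hM₀p : ¬ p ∣ M₀ := by
    rw [hM₀, hb]
    exact Nat.not_dvd_ordCompl hp.out hGpos
  have hM₀pos : 0 < M₀ := by
    rcases Nat.eq_zero_or_pos M₀ with h | h
    · rw [h, mul_zero] at hcard
      exact absurd hcard.symm hGpos
    · exact h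
  have hmpos : 0 < m := by
    rcases Nat.eq_zero_or_pos m with h | h
    · exact absurd (h ▸ dvd_zero p) hm
    · exact h
  obtain ⟨M, hM⟩ : ∃ M, M = M₀ * m := ⟨_, rfl⟩
  have hMp : ¬ p ∣ M := by
    rw [hM]
    intro h
    rcases (Nat.Prime.dvd_mul hp.out).mp h with h | h
    · exact hM₀p h
    · exact hm h
  have hMpos : 0 < M := by rw [hM]; exact Nat.mul_pos hM₀pos hmpos
  have hcop : Nat.Coprime (p ^ b) M :=
    Nat.Coprime.pow_left b ((Nat.Prime.coprime_iff_not_dvd hp.out).mpr hMp)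
  have hbez := Nat.gcd_eq_gcd_ab (p ^ b) M
  rw [hcop.gcd_eq_one] at hbez
  obtain ⟨A, hA⟩ : ∃ A : ℤ, A = Nat.gcdA (p ^ b) M := ⟨_, rfl⟩
  obtain ⟨B, hB⟩ : ∃ B : ℤ, B = Nat.gcdB (p ^ b) M := ⟨_, rfl⟩
  rw [← hA, ← hB] at hbez
  obtain ⟨μ₁, hμ₁⟩ : ∃ μ₁ : G →* ℂˣ, ∀ g, μ₁ g = μ₀ g ^ (((p ^ b : ℕ) : ℤ) * A) :=
    ⟨(zpowGroupHom (((p ^ b : ℕ) : ℤ) * A)).comp μ₀, fun g => rfl⟩
  have hμ₁M : ∀ g, μ₁ g ^ M = 1 := by
    intro g
    rw [hμ₁, ← zpow_natCast, ← zpow_mul]
    have h1 : ((p ^ b : ℕ) : ℤ) * A * (M : ℤ) = ((Nat.card G : ℕ) : ℤ) * (A * m) := by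
      rw [← hcard, hM]
      push_cast
      ring
    rw [h1, zpow_mul, zpow_natCast, ← map_pow, pow_card_eq_one', map_one, one_zpow]
  have hμ₁N : ∀ n : N, μ₁ (n : G) = D n := by
    intro n
    rw [hμ₁, hμ₀]
    have h1 : ((p ^ b : ℕ) : ℤ) * A = 1 - (m : ℤ) * (M₀ * B) := by
      have h2 : ((1 : ℕ) : ℤ) = 1 := Nat.cast_one
      rw [hM] at hbez
      push_cast at hbez ⊢
      linarith
    rw [h1, zpow_sub, zpow_one, zpow_mul, zpow_natCast, hlin D n, one_zpow, inv_one, mul_one]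
  have hlinμ := (linear_iff_hom (χ := fun g => ((μ₁ g : ℂˣ) : ℂ))).mpr ⟨μ₁, fun g => rfl⟩
  obtain ⟨χ, hχ, hχN, hχdet⟩ := extend_solvable N (solvable_of_index_pow p N k hidx) θ hθ hinv d hd
    hcopd (fun g => ((μ₁ g : ℂˣ) : ℂ)) hlinμ.1 hlinμ.2 (fun n => by rw [hD, hμ₁N])
  refine ⟨χ, hχ, hχN, M, hMpos, hMp, fun g => ?_⟩
  rw [hχdet]
  show ((μ₁ g : ℂˣ) : ℂ) ^ M = 1
  rw [← Units.val_pow_eq_pow_val, hμ₁M, Units.val_one]

/-- a divisor of a `p`-power that is not divisible by `p` is `1` -/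
theorem eq_one_of_dvd_pow_of_not_dvd {a k : ℕ} (h1 : a ∣ p ^ k) (h2 : ¬ p ∣ a) : a = 1 := by
  obtain ⟨j, -, rfl⟩ := (Nat.dvd_prime_pow hp.out).mp h1
  cases j with
  | zero => rfl
  | succ j => exact absurd (dvd_pow_self p (Nat.succ_ne_zero j)) h2

/-- An irreducible character of `p'`-degree restricts irreducibly to a normal subgroup of `p`-power
index all of whose linear characters have `p'`-order. -/
theorem res_irr_of_p'_degree (N : Subgroup G) [hN : N.Normal] (k : ℕ) (hidx : N.index = p ^ k)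
    (m : ℕ) (hm : ¬ p ∣ m) (hlin : ∀ (lam : N →* ℂˣ) (n : N), lam n ^ m = 1)
    {χ : G → ℂ} (hχ : IsIrrCharacter G χ) (hpχ : ¬ p ∣ charDegree χ) :
    IsIrrCharacter N (helper5.res N χ) := by
  classical
  haveI : Fintype G := Fintype.ofFinite G
  haveI : Fintype N := Fintype.ofFinite N
  haveI : Fintype (IrrCharacter (G ⧸ N)) := Fintype.ofFinite _
  obtain ⟨θ, hθc⟩ : ∃ θ : IrrCharacter N, classInner (helper5.res N χ) (θ : N → ℂ) ≠ 0 := by
    obtain ⟨n, ρ, hρ, rfl⟩ := id hχ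
    exact exists_constituent_res ρ hρ N
  obtain ⟨T, hT⟩ : ∃ T : Subgroup G, T = inertia N θ := ⟨_, rfl⟩
  haveI : Fintype T := Fintype.ofFinite T
  obtain ⟨ψ, hψ, -, -, hdeg⟩ := clifford_degree N hχ θ hθc T hT
  have hTidx : T.index = 1 := by
    apply eq_one_of_dvd_pow_of_not_dvd p (k := k)
    · rw [← hidx]
      exact Subgroup.index_dvd_of_le (hT ▸ le_inertia N θ)
    · intro h
      exact hpχ (hdeg ▸ Dvd.dvd.mul_right h _)
  have hTtop : T = ⊤ := Subgroup.index_eq_one.mp hTidx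
  have hinvθ : ∀ g : G, helper8.conjFunN N g (θ : N → ℂ) = θ := by
    intro g
    apply (mem_inertia N).mp
    rw [← hT, hTtop]
    trivial
  obtain ⟨e, hres, -, he0⟩ := helper5.clifford_invariant N hχ θ.2 hinvθ hθc
  obtain ⟨d, hd⟩ : ∃ d, d = charDegree (θ : N → ℂ) := ⟨_, rfl⟩
  have hθ1 : (θ : N → ℂ) 1 = d := by
    rw [hd, helper24.char_charDegree_cast (helper24.irr_isCharacter θ.2)]
  have hχdeg : charDegree χ = e * d := by
    have h1 := congrFun hres 1
    rw [helper5.res_apply, Pi.smul_apply, smul_eq_mul, hθ1] at h1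
    apply helper24.charDegree_natCast
    have h2 : ((1 : N) : G) = 1 := rfl
    rw [h2] at h1
    rw [h1]
    push_cast
    rfl
  have hpd : ¬ p ∣ d := fun h => hpχ (hχdeg ▸ Dvd.dvd.mul_left h _)
  have hinvθ' : ∀ (g : G) (n : N),
      (θ : N → ℂ) ⟨g * n * g⁻¹, hN.conj_mem (n : G) n.2 g⟩ = (θ : N → ℂ) n := by
    intro g n
    have := congrFun (hinvθ g) n
    rw [helper8.conjFunN_apply] at this
    exact this
  obtain ⟨χ₀, hχ₀, hχ₀N, -⟩ :=
    exists_ext_p'_det p N k hidx m hm hlin (θ : N → ℂ) θ.2 hinvθ' d hθ1 hpd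
  have hres₀ : helper5.res N χ₀ = (θ : N → ℂ) := funext hχ₀N
  obtain ⟨-, -, hG3⟩ := gallagher N hχ₀ (hres₀ ▸ θ.2)
  obtain ⟨β, hβ⟩ := hG3 χ hχ (by rw [hres₀]; exact hθc)
  obtain ⟨b, hb⟩ : ∃ b, b = charDegree (β : G ⧸ N → ℂ) := ⟨_, rfl⟩
  have hβ1 : (β : G ⧸ N → ℂ) 1 = b := by
    rw [hb, helper24.char_charDegree_cast (helper24.irr_isCharacter β.2)]
  have hχdeg' : charDegree χ = b * d := by
    apply helper24.charDegree_natCast
    rw [hβ, Pi.mul_apply, infl_apply]
    have h2 : ((1 : G) : G ⧸ N) = 1 := rfl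
    have h3 : χ₀ 1 = d := by
      have := hχ₀N 1
      rw [hθ1] at this
      exact this
    rw [h2, hβ1, h3]
    push_cast
    rfl
  have hb1 : b = 1 := by
    apply eq_one_of_dvd_pow_of_not_dvd p (k := k)
    · have := helper24.irr_degree_dvd_card β.2
      rw [← hb, ← Subgroup.index_eq_card, hidx] at this
      exact this
    · intro h
      exact hpχ (hχdeg' ▸ Dvd.dvd.mul_right h _)
  have hfinal : helper5.res N χ = (θ : N → ℂ) := by
    funext n
    rw [helper5.res_apply, hβ, Pi.mul_apply, infl_apply, (QuotientGroup.eq_one_iff _).mpr n.2,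
      hβ1, hb1, Nat.cast_one, one_mul, hχ₀N]
  rw [hfinal]
  exact θ.2

/-- Two irreducible characters of `p'`-determinantal order with the same irreducible restriction to
a normal subgroup of `p`-power index (coprime to the degree) are equal. -/
theorem eq_of_res_eq_of_p'_det (N : Subgroup G) [hN : N.Normal] (k : ℕ) (hidx : N.index = p ^ k)
    {χ χ' : G → ℂ} (hχ : IsIrrCharacter G χ) (hχ' : IsIrrCharacter G χ')
    (hirr : IsIrrCharacter N (helper5.res N χ)) (hres : helper5.res N χ = helper5.res N χ')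
    (hpd : ¬ p ∣ charDegree χ) (M M' : ℕ) (hM : ¬ p ∣ M) (hM' : ¬ p ∣ M')
    (hdet : ∀ g, detChar χ g ^ M = 1) (hdet' : ∀ g, detChar χ' g ^ M' = 1) : χ = χ' := by
  classical
  haveI : Fintype G := Fintype.ofFinite G
  haveI : Fintype N := Fintype.ofFinite N
  obtain ⟨D, hD⟩ := exists_detHom hχ
  obtain ⟨D', hD'⟩ := exists_detHom hχ'
  have hDN : ∀ n : N, D' (n : G) = D (n : G) := by
    intro n
    apply Units.ext
    rw [← hD, ← hD', ← detChar_res N hχ hirr n, ← detChar_res N hχ' (hres ▸ hirr) n, hres]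
  have hDM : ∀ g, D g ^ M = 1 := by
    intro g
    apply Units.ext
    rw [Units.val_pow_eq_pow_val, ← hD, hdet, Units.val_one]
  have hDM' : ∀ g, D' g ^ M' = 1 := by
    intro g
    apply Units.ext
    rw [Units.val_pow_eq_pow_val, ← hD', hdet', Units.val_one]
  have heq : ∀ g, D' g = D g := by
    intro g
    have h1 : D' g / D g = 1 := by
      apply S0862.eq_one_of_coprime_pow (D' g / D g) (p ^ k) (M * M')
      · apply Nat.Coprime.pow_left
        rw [Nat.Prime.coprime_iff_not_dvd hp.out]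
        intro h
        rcases (Nat.Prime.dvd_mul hp.out).mp h with h | h
        · exact hM h
        · exact hM' h
      · have hmem : g ^ (p ^ k) ∈ N := by
          rw [← hidx]
          exact Subgroup.pow_index_mem N g
        rw [div_pow, ← map_pow, ← map_pow]
        have := hDN ⟨_, hmem⟩
        rw [this, div_self']
      · rw [div_pow, mul_comm M M', pow_mul, hDM', one_pow, mul_comm M' M, pow_mul, hDM, one_pow,
          div_one]
    exact div_eq_one.mp h1
  have hdeteq : detChar χ' = detChar χ := by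
    funext g
    rw [hD, hD', heq]
  obtain ⟨d, hd⟩ : ∃ d, d = charDegree χ := ⟨_, rfl⟩
  have hχ1 : χ 1 = d := by
    rw [hd, helper24.char_charDegree_cast (helper24.irr_isCharacter hχ)]
  have hcop : Nat.Coprime N.index d := by
    rw [hidx, hd]
    exact Nat.Coprime.pow_left k ((Nat.Prime.coprime_iff_not_dvd hp.out).mpr hpd)
  have hlinμ := (linear_iff_hom (χ := detChar χ)).mpr ⟨D, hD⟩
  have huniq := S0862.result N (helper5.res N χ) hirr d hχ1 hcop ⟨χ, hχ, fun n => rfl⟩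
    (detChar χ) hlinμ (fun n => (detChar_res N hχ hirr n).symm)
  exact huniq.unique ⟨hχ, fun n => rfl, rfl⟩
    ⟨hχ', fun n => (congrFun hres n).symm, hdeteq⟩

end PRes

end Cfsg.Agent.helper22
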