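import Mathlib
import Cfsg.Agent.Lib_helper22_PRes
import Cfsg.Agent.Lib_helper22_LinChar
import Cfsg.Statements.S4455
-- import your own Cfsg.Agent.* helpers here

set_option autoImplicit false
open Cfsg

namespace Cfsg.Agent.S4455

open Cfsg.Agent

/-- weighted fixed-point congruence for the action of a `p`-group -/
theorem sum_filter_fixed_modEq {Γ α : Type*} [Group Γ] [MulAction Γ α] (p : ℕ) [Fact p.Prime]
    (H : Subgroup Γ) (hH : IsPGroup p H) (S : Finset α) (hS : ∀ h ∈ H, ∀ s ∈ S, h • s ∈ S)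
    (w : α → ℕ) (hw : ∀ h ∈ H, ∀ s, w (h • s) = w s)
    [DecidablePred (fun s : α => ∀ h ∈ H, h • s = s)] :
    ∑ s ∈ S, w s ≡ ∑ s ∈ S.filter (fun s => ∀ h ∈ H, h • s = s), w s [MOD p] := by
  classical
  have h1 : ∀ T : Finset α, T ⊆ S →
      ∑ s ∈ T, w s = ∑ v ∈ S.image w, (T.filter (fun s => w s = v)).card * v := by
    intro T hT
    rw [← Finset.sum_fiberwise_of_maps_to (g := w) (t := S.image w)
      (fun x hx => Finset.mem_image_of_mem w (hT hx))]
    apply Finset.sum_congr rfl
    intro v _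
    rw [Finset.sum_congr rfl (fun s hs => (Finset.mem_filter.mp hs).2), Finset.sum_const,
      smul_eq_mul]
  rw [h1 S subset_rfl, h1 _ (Finset.filter_subset _ _)]
  rw [← ZMod.natCast_eq_natCast_iff]
  push_cast
  apply Finset.sum_congr rfl
  intro v _
  congr 1
  have h2 := helper22.card_filter_fixed_modEq p H hH (S.filter (fun s => w s = v)) (by
    intro h hh s hs
    rw [Finset.mem_filter] at hs ⊢
    exact ⟨hS h hh s hs.1, by rw [hw h hh s, hs.2]⟩)
  rw [Finset.filter_filter]
  rw [Finset.filter_filter] at h2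
  have h3 := (ZMod.natCast_eq_natCast_iff _ _ _).mpr h2
  rw [h3]
  congr 2
  apply Finset.filter_congr
  intro s _
  exact and_comm

/-- Fix a prime p and a finite group G. Let s be the sum of χ(1)² over the irreducible characters χ of G whose degree is not divisible by p and whose determinantal order o(χ) is not divisible by p. Then the order of O^p(G), the subgroup generated by the elements of order prime to p, is congruent to s modulo p. -/
theorem result {G : Type*} [Group G] [Finite G] (p : ℕ) (hp : p.Prime) : (Nat.card (Cfsg.pResidual p G) : ℤ) ≡ (∑ᶠ χ ∈ {χ : Cfsg.IrrCharacter G | ¬ p ∣ Cfsg.charDegree (χ : G → ℂ) ∧ ¬ p ∣ Cfsg.detOrder (χ : G → ℂ)}, (Cfsg.charDegree (χ : G → ℂ) : ℤ) ^ 2) [ZMOD p] := by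
  classical
  haveI : Fact p.Prime := ⟨hp⟩
  haveI : Fintype G := Fintype.ofFinite G
  haveI : Fintype (IrrCharacter G) := Fintype.ofFinite _
  obtain ⟨N, hNdef⟩ : ∃ N : Subgroup G, N = Cfsg.pResidual p G := ⟨_, rfl⟩
  rw [← hNdef]
  haveI hNn : N.Normal := hNdef ▸ helper10.pResidual_normal p G
  haveI : Fintype N := Fintype.ofFinite N
  haveI : Fintype (IrrCharacter N) := Fintype.ofFinite _
  obtain ⟨k, hidx⟩ : ∃ k, N.index = p ^ k := by
    have h1 : IsPGroup p (G ⧸ N) := by
      subst hNdef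
      exact helper10.quotient_pResidual_isPGroup p
    obtain ⟨k, hk⟩ := IsPGroup.iff_card.mp h1
    exact ⟨k, by rw [Subgroup.index_eq_card, hk]⟩
  obtain ⟨m, hmdef⟩ : ∃ m, m = Nat.card N / p ^ (Nat.card N).factorization p := ⟨_, rfl⟩
  have hm : ¬ p ∣ m := by
    rw [hmdef]
    exact Nat.not_dvd_ordCompl hp Nat.card_pos.ne'
  have hlin : ∀ (lam : N →* ℂˣ) (n : N), lam n ^ m = 1 := by
    subst hNdef
    intro lam n
    rw [hmdef]
    exact helper22.hom_pResidual_pow p lam n
  -- the two index sets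
  obtain ⟨A, hA⟩ : ∃ A : Finset (IrrCharacter G), A = Finset.univ.filter
      (fun χ : IrrCharacter G => ¬ p ∣ charDegree (χ : G → ℂ) ∧ ¬ p ∣ detOrder (χ : G → ℂ)) :=
    ⟨_, rfl⟩
  obtain ⟨B, hB⟩ : ∃ B : Finset (IrrCharacter N), B = Finset.univ.filter
      (fun θ : IrrCharacter N => ¬ p ∣ charDegree (θ : N → ℂ) ∧ ∀ g : G, g • θ = θ) :=
    ⟨_, rfl⟩
  have hset : {χ : IrrCharacter G | ¬ p ∣ charDegree (χ : G → ℂ) ∧ ¬ p ∣ detOrder (χ : G → ℂ)} =
      (A : Set (IrrCharacter G)) := by
    ext χ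
    rw [hA]
    simp
  rw [hset, finsum_mem_coe_finset]
  -- the bijection
  have hdegres : ∀ χ : G → ℂ, charDegree (helper5.res N χ) = charDegree χ := fun χ => rfl
  have hdetpow : ∀ χ : G → ℂ, ∀ g, detChar χ g ^ detOrder χ = 1 := by
    intro χ g
    have h1 : detChar χ ^ detOrder χ = 1 := pow_orderOf_eq_one (detChar χ)
    have h2 := congrFun h1 g
    rwa [Pi.pow_apply] at h2
  have hbij : ∑ χ ∈ A, charDegree (χ : G → ℂ) ^ 2 = ∑ θ ∈ B, charDegree (θ : N → ℂ) ^ 2 := by
    refine Finset.sum_bij (fun χ hχ => (⟨helper5.res N (χ : G → ℂ),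
      helper22.res_irr_of_p'_degree p N k hidx m hm hlin χ.2
        (by rw [hA] at hχ; exact (Finset.mem_filter.mp hχ).2.1)⟩ : IrrCharacter N)) ?_ ?_ ?_ ?_
    · intro χ hχ
      rw [hA] at hχ
      rw [hB, Finset.mem_filter]
      refine ⟨Finset.mem_univ _, (Finset.mem_filter.mp hχ).2.1, fun g => ?_⟩
      apply Subtype.ext
      rw [helper22.conjIrr_smul_coe]
      funext n
      rw [helper8.conjFunN_apply]
      exact helper24.char_isClassFunction (helper24.irr_isCharacter χ.2) n g⁻¹
    · intro χ hχ χ' hχ' heq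
      rw [hA] at hχ hχ'
      have h1 := congrArg Subtype.val heq
      apply Subtype.ext
      exact helper22.eq_of_res_eq_of_p'_det p N k hidx χ.2 χ'.2
        (helper22.res_irr_of_p'_degree p N k hidx m hm hlin χ.2 (Finset.mem_filter.mp hχ).2.1)
        h1 (Finset.mem_filter.mp hχ).2.1 _ _ (Finset.mem_filter.mp hχ).2.2
        (Finset.mem_filter.mp hχ').2.2 (hdetpow _) (hdetpow _)
    · intro θ hθ
      rw [hB] at hθ
      obtain ⟨-, hθp, hθinv⟩ := Finset.mem_filter.mp hθ
      have hinv' : ∀ (g : G) (n : N),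
          (θ : N → ℂ) ⟨g * n * g⁻¹, hNn.conj_mem (n : G) n.2 g⟩ = (θ : N → ℂ) n := by
        intro g n
        have h1 := congrArg Subtype.val (hθinv g⁻¹)
        rw [helper22.conjIrr_smul_coe, inv_inv] at h1
        have h2 := congrFun h1 n
        rw [helper8.conjFunN_apply] at h2
        exact h2
      obtain ⟨χ, hχ, hχN, M, hMpos, hMp, hMdet⟩ := helper22.exists_ext_p'_det p N k hidx m hm hlin
        (θ : N → ℂ) θ.2 hinv' (charDegree (θ : N → ℂ))
        (helper24.char_charDegree_cast (helper24.irr_isCharacter θ.2)).symm hθp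
      have hres : helper5.res N χ = (θ : N → ℂ) := funext hχN
      refine ⟨⟨χ, hχ⟩, ?_, Subtype.ext hres⟩
      rw [hA, Finset.mem_filter]
      refine ⟨Finset.mem_univ _, ?_, ?_⟩
      · show ¬ p ∣ charDegree χ
        rw [← hdegres χ, hres]
        exact hθp
      · show ¬ p ∣ orderOf (detChar χ)
        intro h
        apply hMp
        apply dvd_trans h
        apply orderOf_dvd_of_pow_eq_one
        funext g
        rw [Pi.pow_apply, hMdet]
        rfl
    · intro χ hχ
      rfl
  -- the congruence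
  have hsumN : ∑ θ : IrrCharacter N, charDegree (θ : N → ℂ) ^ 2 = Nat.card N :=
    helper24.sum_irr_degree_sq
  obtain ⟨C, hC⟩ : ∃ C : Finset (IrrCharacter N), C = Finset.univ.filter
      (fun θ : IrrCharacter N => ¬ p ∣ charDegree (θ : N → ℂ)) := ⟨_, rfl⟩
  have hstep1 : Nat.card N ≡ ∑ θ ∈ C, charDegree (θ : N → ℂ) ^ 2 [MOD p] := by
    rw [← hsumN, ← Finset.sum_filter_add_sum_filter_not Finset.univ
      (fun θ : IrrCharacter N => ¬ p ∣ charDegree (θ : N → ℂ)), ← hC]
    have h0 : ∑ θ ∈ Finset.univ.filter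
        (fun θ : IrrCharacter N => ¬ ¬ p ∣ charDegree (θ : N → ℂ)), charDegree (θ : N → ℂ) ^ 2
        ≡ 0 [MOD p] := by
      rw [Nat.modEq_zero_iff_dvd]
      apply Finset.dvd_sum
      intro θ hθ
      have := (Finset.mem_filter.mp hθ).2
      rw [not_not] at this
      exact dvd_pow this two_ne_zero
    have := Nat.ModEq.add_left (∑ θ ∈ C, charDegree (θ : N → ℂ) ^ 2) h0
    rwa [add_zero] at this
  obtain ⟨P⟩ : Nonempty (Sylow p G) := inferInstance
  have hstep2 := sum_filter_fixed_modEq p (P : Subgroup G) P.isPGroup' C (by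
    intro h _ θ hθ
    rw [hC, Finset.mem_filter] at hθ ⊢
    refine ⟨Finset.mem_univ _, ?_⟩
    rw [helper22.conjIrr_smul_coe, helper22.charDegree_conjFunN]
    exact hθ.2) (fun θ : IrrCharacter N => charDegree (θ : N → ℂ) ^ 2) (by
    intro h _ θ
    show charDegree ((h • θ : IrrCharacter N) : N → ℂ) ^ 2 = _
    rw [helper22.conjIrr_smul_coe, helper22.charDegree_conjFunN])
  have hCB : C.filter (fun θ => ∀ h ∈ (P : Subgroup G), h • θ = θ) = B := by
    rw [hC, hB, Finset.filter_filter]
    apply Finset.filter_congr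
    intro θ _
    constructor
    · rintro ⟨h1, h2⟩
      refine ⟨h1, fun g => ?_⟩
      have hle : N ⊔ (P : Subgroup G) ≤ MulAction.stabilizer G θ := by
        apply sup_le
        · exact helper22.le_inertia N θ
        · intro h hh
          exact MulAction.mem_stabilizer_iff.mpr (h2 h hh)
      have htop : N ⊔ (P : Subgroup G) = ⊤ := by
        rw [hNdef]
        exact helper10.pResidual_sup_sylow_eq_top p P
      rw [htop] at hle
      exact MulAction.mem_stabilizer_iff.mp (hle (Subgroup.mem_top g))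
    · rintro ⟨h1, h2⟩
      exact ⟨h1, fun h _ => h2 h⟩
  rw [hCB] at hstep2
  have hfinal : Nat.card N ≡ ∑ χ ∈ A, charDegree (χ : G → ℂ) ^ 2 [MOD p] := by
    rw [hbij]
    exact hstep1.trans hstep2
  have := Int.natCast_modEq_iff.mpr hfinal
  push_cast at this
  exact this

end Cfsg.Agent.S4455
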