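import Mathlib
import Cfsg.Agent.Lib_helper22_PRes
import Cfsg.Agent.Lib_helper22_LinChar
import Cfsg.Agent.S4455
import Cfsg.Statements.S4456
-- import your own Cfsg.Agent.* helpers here

set_option autoImplicit false
open Cfsg

namespace Cfsg.Agent.S4456

open Cfsg.Agent

/-- a homomorphism to `ℂˣ` as a complex valued function, as a monoid homomorphism -/
noncomputable def homToFun (G : Type*) [Group G] : (G →* ℂˣ) →* (G → ℂ) where
  toFun lam := fun g => ((lam g : ℂˣ) : ℂ)
  map_one' := by
    funext g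
    simp
  map_mul' a b := by
    funext g
    simp

theorem homToFun_apply {G : Type*} [Group G] (lam : G →* ℂˣ) (g : G) :
    homToFun G lam g = ((lam g : ℂˣ) : ℂ) := rfl

theorem homToFun_injective (G : Type*) [Group G] : Function.Injective (homToFun G) := by
  intro a b h
  ext g
  exact congrFun h g

/-- the determinantal character of a linear character is the character itself -/
theorem detChar_of_linear {G : Type*} [Group G] [Fintype G] (lam : G →* ℂˣ) :
    detChar (homToFun G lam) = homToFun G lam := by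
  have hχ : IsIrrCharacter G (homToFun G lam) := helper22.hom_isIrrCharacter lam
  obtain ⟨n, ρ, hρ, hρχ⟩ := id hχ
  have hn : n = 1 := by
    have h1 := congrFun hρχ 1
    rw [Representation.char_one, Module.finrank_fin_fun, homToFun_apply, map_one,
      Units.val_one] at h1
    exact_mod_cast h1
  subst hn
  funext g
  rw [helper22.detChar_eq_of_irr hχ ρ hρχ, ← hρχ, ← helper24.repMatrix_trace,
    ← LinearMap.det_toMatrix', Matrix.det_fin_one, Matrix.trace_fin_one]
  rfl

/-- Let p be a prime and G a finite group such that p divides the degree of every irreducible character of G of degree greater than one. Then G has a normal p-complement: a normal subgroup of order prime to p whose index is a power of p. -/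
theorem result {G : Type*} [Group G] [Finite G] (p : ℕ) (hp : p.Prime) (hdeg : ∀ χ : Cfsg.IrrCharacter G, Cfsg.charDegree (χ : G → ℂ) ≠ 1 → p ∣ Cfsg.charDegree (χ : G → ℂ)) : ∃ N : Subgroup G, N.Normal ∧ (Nat.card N).Coprime p ∧ ∃ k : ℕ, N.index = p ^ k := by
  classical
  haveI : Fact p.Prime := ⟨hp⟩
  haveI : Fintype G := Fintype.ofFinite G
  haveI : Fintype (IrrCharacter G) := Fintype.ofFinite _
  haveI : Fintype (G →* ℂˣ) := Fintype.ofFinite _
  have hcong := S4455.result (G := G) p hp
  obtain ⟨N, hNdef⟩ : ∃ N : Subgroup G, N = Cfsg.pResidual p G := ⟨_, rfl⟩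
  rw [← hNdef] at hcong
  haveI hNn : N.Normal := hNdef ▸ helper10.pResidual_normal p G
  obtain ⟨k, hidx⟩ : ∃ k, N.index = p ^ k := by
    have h1 : IsPGroup p (G ⧸ N) := by
      subst hNdef
      exact helper10.quotient_pResidual_isPGroup p
    obtain ⟨k, hk⟩ := IsPGroup.iff_card.mp h1
    exact ⟨k, by rw [Subgroup.index_eq_card, hk]⟩
  refine ⟨N, hNn, ?_, k, hidx⟩
  -- the group of linear characters of `p'`-order
  obtain ⟨b, hb⟩ : ∃ b, b = (Nat.card (G →* ℂˣ)).factorization p := ⟨_, rfl⟩
  obtain ⟨M, hM⟩ : ∃ M, M = Nat.card (G →* ℂˣ) / p ^ b := ⟨_, rfl⟩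
  have hΛpos : Nat.card (G →* ℂˣ) ≠ 0 := Nat.card_pos.ne'
  have hMp : ¬ p ∣ M := by
    rw [hM, hb]
    exact Nat.not_dvd_ordCompl hp hΛpos
  have hcardΛ : p ^ b * M = Nat.card (G →* ℂˣ) := by
    rw [hM, hb]
    exact Nat.ordProj_mul_ordCompl_eq_self _ p
  obtain ⟨L, hL⟩ : ∃ L : Subgroup (G →* ℂˣ), L = (powMonoidHom M : (G →* ℂˣ) →* (G →* ℂˣ)).ker :=
    ⟨_, rfl⟩
  have hLpow : ∀ lam : G →* ℂˣ, lam ∈ L → lam ^ M = 1 := by
    intro lam h
    rw [hL, MonoidHom.mem_ker, powMonoidHom_apply] at h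
    exact h
  have hLmem : ∀ lam : G →* ℂˣ, lam ∈ L ↔ ¬ p ∣ orderOf lam := by
    intro lam
    rw [hL, MonoidHom.mem_ker, powMonoidHom_apply]
    constructor
    · intro h hdvd
      exact hMp (dvd_trans hdvd (orderOf_dvd_of_pow_eq_one h))
    · intro h
      apply orderOf_dvd_iff_pow_eq_one.mp
      have h1 : orderOf lam ∣ p ^ b * M := by
        rw [hcardΛ]
        exact orderOf_dvd_natCard lam
      exact Nat.Coprime.dvd_of_dvd_mul_left
        (Nat.Coprime.pow_right b ((Nat.Prime.coprime_iff_not_dvd hp).mpr h).symm) h1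
  -- `p ∤ |L|`
  have hLp : ¬ p ∣ Nat.card L := by
    intro h
    obtain ⟨x, hx⟩ := exists_prime_orderOf_dvd_card' p h
    have h1 : ¬ p ∣ orderOf (x : G →* ℂˣ) := (hLmem x).mp x.2
    rw [Subgroup.orderOf_coe, hx] at h1
    exact h1 dvd_rfl
  -- `|L|` divides `|N|`
  have hLN : Nat.card L ∣ Nat.card N := by
    obtain ⟨R, hR⟩ : ∃ R : L →* (N →* ℂˣ), ∀ (lam : L) (n : N), R lam n = (lam : G →* ℂˣ) n :=
      ⟨{ toFun := fun lam => (lam : G →* ℂˣ).comp N.subtype
         map_one' := rfl
         map_mul' := fun a b => rfl }, fun lam n => rfl⟩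
    have hRinj : Function.Injective R := by
      rw [injective_iff_map_eq_one]
      intro lam hlam
      apply Subtype.ext
      ext g
      have hmem : g ^ (p ^ k) ∈ N := by
        rw [← hidx]
        exact Subgroup.pow_index_mem N g
      have h1 : (lam : G →* ℂˣ) g ^ (p ^ k) = 1 := by
        rw [← map_pow]
        have := hR lam ⟨_, hmem⟩
        rw [hlam] at this
        exact this.symm
      have h2 : (lam : G →* ℂˣ) g ^ M = 1 := by
        have h3 : (lam : G →* ℂˣ) ^ M = 1 := hLpow _ lam.2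
        have := congrArg (fun f : G →* ℂˣ => f g) h3
        simpa using this
      have h4 := S0862.eq_one_of_coprime_pow ((lam : G →* ℂˣ) g) (p ^ k) M
        (Nat.Coprime.pow_left k ((Nat.Prime.coprime_iff_not_dvd hp).mpr hMp)) h1 h2
      simpa using h4
    have h1 := Subgroup.card_dvd_of_injective R hRinj
    have h2 : Nat.card (N →* ℂˣ) ∣ Nat.card N := by
      rw [helper22.card_hom_eq_index]
      exact Subgroup.index_dvd_card _
    exact dvd_trans h1 h2
  -- the sum is `|L|`
  obtain ⟨A, hA⟩ : ∃ A : Finset (IrrCharacter G), A = Finset.univ.filter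
      (fun χ : IrrCharacter G => ¬ p ∣ charDegree (χ : G → ℂ) ∧ ¬ p ∣ detOrder (χ : G → ℂ)) :=
    ⟨_, rfl⟩
  have hset : {χ : IrrCharacter G | ¬ p ∣ charDegree (χ : G → ℂ) ∧ ¬ p ∣ detOrder (χ : G → ℂ)} =
      (A : Set (IrrCharacter G)) := by
    ext χ
    rw [hA]
    simp
  rw [hset, finsum_mem_coe_finset] at hcong
  have hdeg1 : ∀ χ ∈ A, charDegree ((χ : IrrCharacter G) : G → ℂ) = 1 := by
    intro χ hχ
    rw [hA] at hχ
    by_contra h
    exact (Finset.mem_filter.mp hχ).2.1 (hdeg χ h)
  have hsumA : ∑ χ ∈ A, (charDegree ((χ : IrrCharacter G) : G → ℂ) : ℤ) ^ 2 = (A.card : ℤ) := by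
    rw [Finset.sum_congr rfl (fun χ hχ => by rw [hdeg1 χ hχ, Nat.cast_one, one_pow]),
      Finset.sum_const, nsmul_eq_mul, mul_one]
  rw [hsumA] at hcong
  obtain ⟨Lf, hLf⟩ : ∃ Lf : Finset (G →* ℂˣ), Lf = Finset.univ.filter (fun lam => lam ∈ L) :=
    ⟨_, rfl⟩
  have hLfcard : Lf.card = Nat.card L := by
    rw [hLf, Nat.card_eq_fintype_card, Fintype.card_subtype]
  have hAcard : A.card = Lf.card := by
    symm
    refine Finset.card_bij (fun lam _ => (⟨homToFun G lam, helper22.hom_isIrrCharacter lam⟩ :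
      IrrCharacter G)) ?_ ?_ ?_
    · intro lam hlam
      rw [hLf, Finset.mem_filter] at hlam
      rw [hA, Finset.mem_filter]
      refine ⟨Finset.mem_univ _, ?_, ?_⟩
      · have h1 : charDegree (homToFun G lam) = 1 := by
          apply helper24.charDegree_natCast
          rw [homToFun_apply, map_one, Units.val_one, Nat.cast_one]
        show ¬ p ∣ charDegree (homToFun G lam)
        rw [h1]
        exact hp.one_lt.ne' ∘ Nat.dvd_one.mp
      · show ¬ p ∣ orderOf (detChar (homToFun G lam))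
        rw [detChar_of_linear, orderOf_injective (homToFun G) (homToFun_injective G)]
        exact (hLmem lam).mp hlam.2
    · intro a _ b _ h
      exact homToFun_injective G (congrArg Subtype.val h)
    · intro χ hχ
      have h1 := hdeg1 χ hχ
      rw [hA, Finset.mem_filter] at hχ
      have hχ1 : (χ : G → ℂ) 1 = 1 := by
        rw [← helper24.char_charDegree_cast (helper24.irr_isCharacter χ.2), h1, Nat.cast_one]
      obtain ⟨lam, hlam⟩ := helper22.linear_iff_hom.mp ⟨helper24.irr_isCharacter χ.2, hχ1⟩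
      have hχeq : (χ : G → ℂ) = homToFun G lam := funext hlam
      refine ⟨lam, ?_, Subtype.ext hχeq.symm⟩
      rw [hLf, Finset.mem_filter]
      refine ⟨Finset.mem_univ _, (hLmem lam).mpr ?_⟩
      have h2 := hχ.2.2
      unfold detOrder at h2
      rw [hχeq, detChar_of_linear, orderOf_injective (homToFun G) (homToFun_injective G)] at h2
      exact h2
  rw [hAcard, hLfcard] at hcong
  -- arithmetic
  have hcong' : Nat.card N ≡ Nat.card L [MOD p] := Int.natCast_modEq_iff.mp hcong
  obtain ⟨t, ht⟩ := hLN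
  have hcopL : Nat.Coprime p (Nat.card L) := (Nat.Prime.coprime_iff_not_dvd hp).mpr hLp
  have h1 : Nat.card L * t ≡ Nat.card L * 1 [MOD p] := by
    rw [← ht, mul_one]
    exact hcong'
  have h2 : t ≡ 1 [MOD p] := Nat.ModEq.cancel_left_of_coprime hcopL h1
  have h3 : ¬ p ∣ t := by
    intro h
    have h4 : t ≡ 0 [MOD p] := (Nat.modEq_zero_iff_dvd).mpr h
    have h5 : 1 ≡ 0 [MOD p] := h2.symm.trans h4
    have h6 : p ∣ 1 := (Nat.modEq_zero_iff_dvd).mp h5
    exact hp.one_lt.ne' (Nat.dvd_one.mp h6)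
  rw [ht]
  apply Nat.Coprime.symm
  rw [Nat.Prime.coprime_iff_not_dvd hp]
  intro h
  rcases (Nat.Prime.dvd_mul hp).mp h with h | h
  · exact hLp h
  · exact h3 h

end Cfsg.Agent.S4456
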