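import Mathlib
import Cfsg.Agent.Lib_helper22_Clifford
import Cfsg.Agent.Lib_helper12_CharOps
import Cfsg.Agent.S4456
import Cfsg.Agent.S0169
import Cfsg.Agent.S0187
import Cfsg.Statements.S0855
-- import your own Cfsg.Agent.* helpers here

set_option autoImplicit false
open Cfsg

namespace Cfsg.Agent.S0855

open Cfsg.Agent

/-- every irreducible character of a normal subgroup lies under an irreducible character of the
group, and its degree divides the degree of that character -/
theorem exists_over {G : Type*} [Group G] [Fintype G] (N : Subgroup G) [hN : N.Normal] [Fintype N]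
    (θ : IrrCharacter N) :
    ∃ χ : IrrCharacter G, charDegree (θ : N → ℂ) ∣ charDegree (χ : G → ℂ) := by
  classical
  haveI : Fintype (IrrCharacter G) := Fintype.ofFinite _
  have hind : IsCharacter G (indFun N (θ : N → ℂ)) :=
    helper12.isCharacter_indFun N (helper24.irr_isCharacter θ.2)
  obtain ⟨c, hexp, hc, -⟩ := helper12.char_decomp hind
  have hne : indFun N (θ : N → ℂ) ≠ 0 := by
    intro h
    have h1 := congrFun h 1
    rw [helper5.indFun_one, Pi.zero_apply] at h1
    rcases mul_eq_zero.mp h1 with h2 | h2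
    · have : (N.index : ℂ) ≠ 0 := by
        exact_mod_cast (Subgroup.index_ne_zero_of_finite (H := N))
      exact this h2
    · exact helper24.irr_apply_one_ne_zero θ.2 h2
  obtain ⟨χ, hχ⟩ : ∃ χ : IrrCharacter G, c χ ≠ 0 := by
    by_contra hcon
    push Not at hcon
    apply hne
    rw [hexp]
    apply Finset.sum_eq_zero
    intro χ _
    rw [hcon χ, Nat.cast_zero, zero_smul]
  have hχθ : classInner (helper5.res N (χ : G → ℂ)) (θ : N → ℂ) ≠ 0 := by
    have h1 := hc χ
    rw [helper5.classInner_indFun_irr N _ (helper24.irr_isCharacter χ.2)] at h1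
    rw [← helper24.classInner_conj_symm, h1, Complex.conj_natCast]
    exact_mod_cast hχ
  refine ⟨χ, ?_⟩
  obtain ⟨T, hT⟩ : ∃ T : Subgroup G, T = helper22.inertia N θ := ⟨_, rfl⟩
  haveI : Fintype T := Fintype.ofFinite T
  obtain ⟨ψ, hψ, -, ⟨k, -, hk⟩, hdeg⟩ := helper22.clifford_degree N χ.2 θ hχθ T hT
  have hψ1 : charDegree ψ = k * charDegree (θ : N → ℂ) := by
    apply helper24.charDegree_natCast
    have h4 : ψ 1 = (k : ℂ) * (θ : N → ℂ) 1 := hk 1
    rw [h4, ← helper24.char_charDegree_cast (helper24.irr_isCharacter θ.2)]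
    push_cast
    rfl
  rw [hdeg, hψ1]
  exact ⟨T.index * k, by ring⟩

/-- For a finite group G and a prime p: every irreducible character of G has degree a power of p if and only if G has an abelian normal subgroup whose order is prime to p and whose index is a power of p. -/
theorem result {G : Type*} [Group G] [Finite G] (p : ℕ) (hp : p.Prime) : (∀ χ : Cfsg.IrrCharacter G, ∃ k : ℕ, (χ : G → ℂ) 1 = (p : ℂ) ^ k) ↔ ∃ A : Subgroup G, A.Normal ∧ (∀ a ∈ A, ∀ b ∈ A, a * b = b * a) ∧ Nat.Coprime (Nat.card A) p ∧ ∃ k : ℕ, A.index = p ^ k := by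
  classical
  haveI : Fintype G := Fintype.ofFinite G
  constructor
  · intro hall
    have hdegpow : ∀ χ : IrrCharacter G, ∃ k : ℕ, charDegree (χ : G → ℂ) = p ^ k := by
      intro χ
      obtain ⟨k, hk⟩ := hall χ
      refine ⟨k, helper24.charDegree_natCast _ _ ?_⟩
      rw [hk]
      push_cast
      rfl
    have hdeg : ∀ χ : IrrCharacter G, charDegree (χ : G → ℂ) ≠ 1 → p ∣ charDegree (χ : G → ℂ) := by
      intro χ hne
      obtain ⟨k, hk⟩ := hdegpow χ
      rw [hk] at hne ⊢
      cases k with
      | zero => exact absurd (pow_zero p) hne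
      | succ k => exact dvd_pow_self p (Nat.succ_ne_zero k)
    obtain ⟨N, hNn, hNcop, k, hidx⟩ := S4456.result p hp hdeg
    haveI := hNn
    haveI : Fintype N := Fintype.ofFinite N
    refine ⟨N, hNn, ?_, hNcop, k, hidx⟩
    have hlin : ∀ θ : IrrCharacter N, (θ : N → ℂ) 1 = 1 := by
      intro θ
      obtain ⟨χ, hdvd⟩ := exists_over N θ
      obtain ⟨j, hj⟩ := hdegpow χ
      rw [hj] at hdvd
      have h1 : charDegree (θ : N → ℂ) ∣ Nat.card N := helper24.irr_degree_dvd_card θ.2
      have h2 : charDegree (θ : N → ℂ) = 1 := by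
        have h3 : Nat.Coprime (charDegree (θ : N → ℂ)) (p ^ j) :=
          Nat.Coprime.pow_right j (Nat.Coprime.coprime_dvd_left h1 hNcop)
        exact Nat.Coprime.eq_one_of_dvd h3 hdvd
      rw [← helper24.char_charDegree_cast (helper24.irr_isCharacter θ.2), h2, Nat.cast_one]
    have hcomm := (S0187.result (G := N)).mpr hlin
    intro a ha b hb
    have := hcomm ⟨a, ha⟩ ⟨b, hb⟩
    exact congrArg Subtype.val this
  · rintro ⟨A, hAn, hAab, -, k, hidx⟩ χ
    haveI := hAn
    obtain ⟨n, ρ, hρ, hρχ⟩ := χ.2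
    haveI := hρ
    have h1 := S0169.result ρ A hAab
    rw [Module.finrank_fin_fun, hidx] at h1
    obtain ⟨j, -, hj⟩ := (Nat.dvd_prime_pow hp).mp h1
    refine ⟨j, ?_⟩
    rw [← hρχ, Representation.char_one, Module.finrank_fin_fun, hj]
    push_cast
    rfl

end Cfsg.Agent.S0855
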