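import Mathlib
import Cfsg.Agent.Lib_helper22_MGroup
import Cfsg.Agent.Lib_helper22_ExtLin
import Cfsg.Agent.Lib_helper22_LinChar
import Cfsg.Agent.Lib_helper8_AbQuot
import Cfsg.Agent.Lib_helper12_CharOps
import Cfsg.Agent.Lib_helper24_CharKer
import Cfsg.Agent.S0187
import Cfsg.Agent.S0855
import Cfsg.Agent.Lib_helper24_CharCount

set_option autoImplicit false
set_option linter.unusedSectionVars false
set_option linter.unusedVariables false

/-!
Groups with two character degrees (Isaacs 12.5, 12.6), helper22.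
-/

namespace Cfsg.Agent.helper22

open Cfsg
open scoped ComplexConjugate

universe u

section Core
variable {G : Type u} [Group G] [Fintype G]

/-- the trivial character -/
theorem one_isIrrCharacter (K : Type u) [Group K] : IsIrrCharacter K (fun _ => (1 : ℂ)) := by
  have h := hom_isIrrCharacter (1 : K →* ℂˣ)
  have e : (fun g : K => (((1 : K →* ℂˣ) g : ℂˣ) : ℂ)) = fun _ => (1 : ℂ) := by
    funext g
    simp
  rw [e] at h
  exact h

/-- If every irreducible character of `G` is linear or has degree at least `[G : H]`, then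
`G' ≤ H`. -/
theorem commutator_le_of_index_le_degrees (H : Subgroup G)
    (hdeg : ∀ χ : IrrCharacter G, charDegree (χ : G → ℂ) = 1 ∨ H.index ≤ charDegree (χ : G → ℂ)) :
    commutator G ≤ H := by
  classical
  haveI : Fintype (IrrCharacter G) := Fintype.ofFinite _
  haveI : Fintype H := Fintype.ofFinite _
  by_cases hidx : H.index = 1
  · rw [Subgroup.index_eq_one] at hidx
    rw [hidx]
    exact le_top
  have hidx0 : H.index ≠ 0 := Subgroup.index_ne_zero_of_finite
  obtain ⟨one, hone⟩ : ∃ one : H → ℂ, one = fun _ => (1 : ℂ) := ⟨_, rfl⟩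
  have honeirr : IsIrrCharacter H one := hone ▸ one_isIrrCharacter H
  obtain ⟨Ψ, hΨdef⟩ : ∃ Ψ : G → ℂ, Ψ = indFun H one := ⟨_, rfl⟩
  have hΨ : IsCharacter G Ψ := hΨdef ▸ helper12.isCharacter_indFun H (helper24.irr_isCharacter honeirr)
  obtain ⟨c, hexp, hc, -⟩ := helper12.char_decomp hΨ
  obtain ⟨triv, htriv⟩ : ∃ triv : IrrCharacter G, (triv : G → ℂ) = fun _ => (1 : ℂ) :=
    ⟨⟨_, one_isIrrCharacter G⟩, rfl⟩
  have hctriv : c triv = 1 := by
    have h1 := hc triv
    rw [hΨdef, helper5.classInner_indFun_irr H one (helper24.irr_isCharacter triv.2)] at h1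
    have h2 : helper5.res H (triv : G → ℂ) = one := by
      funext h
      rw [helper5.res_apply, htriv, hone]
    rw [h2, helper24.irr_classInner_self honeirr] at h1
    exact_mod_cast h1.symm
  have hΨ1 : Ψ 1 = (H.index : ℂ) := by
    rw [hΨdef, helper5.indFun_one, hone, mul_one]
  have hsum : H.index = ∑ ψ : IrrCharacter G, c ψ * charDegree (ψ : G → ℂ) := by
    have h1 := congrFun hexp 1
    rw [hΨ1, Finset.sum_apply] at h1
    have h2 : ∀ ψ : IrrCharacter G, ((c ψ : ℂ) • (ψ : G → ℂ)) 1 =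
        ((c ψ * charDegree (ψ : G → ℂ) : ℕ) : ℂ) := by
      intro ψ
      rw [Pi.smul_apply, smul_eq_mul, Nat.cast_mul,
        helper24.char_charDegree_cast (helper24.irr_isCharacter ψ.2)]
    rw [Finset.sum_congr rfl (fun ψ _ => h2 ψ), ← Nat.cast_sum] at h1
    exact_mod_cast h1
  have htrivdeg : charDegree (triv : G → ℂ) = 1 := by
    apply helper24.charDegree_natCast
    rw [htriv]
    simp
  have hlin : ∀ ψ : IrrCharacter G, c ψ ≠ 0 → charDegree (ψ : G → ℂ) = 1 := by
    intro ψ hψ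
    rcases hdeg ψ with h | h
    · exact h
    · exfalso
      have hne : ψ ≠ triv := by
        intro h1
        rw [h1, htrivdeg] at h
        have : 1 ≤ H.index := Nat.one_le_iff_ne_zero.mpr hidx0
        omega
      have h3 : ∑ φ ∈ ({ψ, triv} : Finset (IrrCharacter G)), c φ * charDegree (φ : G → ℂ) ≤
          ∑ φ : IrrCharacter G, c φ * charDegree (φ : G → ℂ) :=
        Finset.sum_le_sum_of_subset (Finset.subset_univ _)
      rw [Finset.sum_pair hne, ← hsum, hctriv, htrivdeg] at h3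
      have h4 : 1 ≤ c ψ := Nat.one_le_iff_ne_zero.mpr hψ
      have h5 : H.index ≤ c ψ * charDegree (ψ : G → ℂ) := by
        calc H.index ≤ charDegree (ψ : G → ℂ) := h
          _ = 1 * charDegree (ψ : G → ℂ) := (one_mul _).symm
          _ ≤ c ψ * charDegree (ψ : G → ℂ) := Nat.mul_le_mul_right _ h4
      omega
  intro g hg
  -- `Ψ g = Ψ 1`
  have hΨg : Ψ g = (H.index : ℂ) := by
    rw [← hΨ1]
    have h1 := congrFun hexp g
    have h2 := congrFun hexp 1
    rw [h1, h2, Finset.sum_apply, Finset.sum_apply]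
    apply Finset.sum_congr rfl
    intro ψ _
    rw [Pi.smul_apply, Pi.smul_apply]
    by_cases hψ : c ψ = 0
    · rw [hψ]
      simp
    · have hd := hlin ψ hψ
      have hψ1 : (ψ : G → ℂ) 1 = 1 := by
        rw [← helper24.char_charDegree_cast (helper24.irr_isCharacter ψ.2), hd, Nat.cast_one]
      obtain ⟨φ, hφ⟩ := helper23.exists_hom_of_linear (helper24.irr_isCharacter ψ.2) hψ1
      have hker : g ∈ φ.ker := Abelianization.commutator_subset_ker φ hg
      rw [hφ g, hφ 1, MonoidHom.mem_ker.mp hker, map_one]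
  -- count
  by_contra hgH
  have h1 : Ψ g = (Nat.card H : ℂ)⁻¹ * ∑ x : G, extendByZero H one (x⁻¹ * g * x) := by
    rw [hΨdef]
    rfl
  have h2 : ∀ x : G, extendByZero H one (x⁻¹ * g * x) = if x⁻¹ * g * x ∈ H then 1 else 0 := by
    intro x
    by_cases hx : x⁻¹ * g * x ∈ H
    · rw [if_pos hx, helper5.extendByZero_of_mem H one _ hx, hone]
    · rw [if_neg hx, helper5.extendByZero_of_not_mem H one _ hx]
  rw [Finset.sum_congr rfl (fun x _ => h2 x), Finset.sum_boole, hΨg] at h1
  have hH0 : (Nat.card H : ℂ) ≠ 0 := by exact_mod_cast (Nat.card_pos (α := H)).ne'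
  have h3 : (Nat.card H : ℂ) * (H.index : ℂ) =
      ((Finset.univ.filter (fun x : G => x⁻¹ * g * x ∈ H)).card : ℂ) := by
    rw [h1, ← mul_assoc, mul_inv_cancel₀ hH0, one_mul]
  have h4 : Nat.card H * H.index = (Finset.univ.filter (fun x : G => x⁻¹ * g * x ∈ H)).card := by
    exact_mod_cast h3
  rw [Subgroup.card_mul_index, Nat.card_eq_fintype_card] at h4
  have h5 : Finset.univ.filter (fun x : G => x⁻¹ * g * x ∈ H) = Finset.univ :=
    Finset.eq_univ_of_card _ h4.symm
  have h6 : (1 : G) ∈ Finset.univ.filter (fun x : G => x⁻¹ * g * x ∈ H) := by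
    rw [h5]
    exact Finset.mem_univ _
  rw [Finset.mem_filter] at h6
  apply hgH
  simpa using h6.2

end Core

section HomAction
variable {G : Type u} [Group G] (N : Subgroup G) [hN : N.Normal]

/-- the conjugate `n ↦ ν (g n g⁻¹)` of a homomorphism on a normal subgroup -/
def hconj (g : G) : (N →* ℂˣ) →* (N →* ℂˣ) where
  toFun ν := ν.comp ((MulAut.conjNormal g : MulAut N).toMonoidHom)
  map_one' := rfl
  map_mul' a b := rfl

theorem hconj_apply (g : G) (ν : N →* ℂˣ) (n : N) :
    hconj N g ν n = ν ⟨g * n * g⁻¹, hN.conj_mem n n.2 g⟩ := rfl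

theorem hconj_mul (g h : G) (ν : N →* ℂˣ) : hconj N (g * h) ν = hconj N h (hconj N g ν) := by
  ext n
  rw [hconj_apply, hconj_apply, hconj_apply]
  congr 3
  simp [mul_assoc]

theorem hconj_one (ν : N →* ℂˣ) : hconj N 1 ν = ν := by
  ext n
  rw [hconj_apply]
  congr 3
  simp

/-- the stabilizer of a homomorphism on a normal subgroup -/
def homStab (ν : N →* ℂˣ) : Subgroup G where
  carrier := {g | hconj N g ν = ν}
  one_mem' := hconj_one N ν
  mul_mem' := by
    intro a b ha hb
    show hconj N (a * b) ν = ν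
    rw [hconj_mul, ha, hb]
  inv_mem' := by
    intro a ha
    show hconj N a⁻¹ ν = ν
    have h1 : hconj N a⁻¹ (hconj N a ν) = ν := by
      rw [← hconj_mul, mul_inv_cancel, hconj_one]
    rw [ha] at h1
    exact h1

theorem mem_homStab {ν : N →* ℂˣ} {g : G} : g ∈ homStab N ν ↔ hconj N g ν = ν := Iff.rfl

theorem le_homStab (ν : N →* ℂˣ) : N ≤ homStab N ν := by
  intro g hg
  rw [mem_homStab]
  ext n
  rw [hconj_apply]
  have h1 : (⟨g * n * g⁻¹, hN.conj_mem n n.2 g⟩ : N) = ⟨g, hg⟩ * n * ⟨g, hg⟩⁻¹ := by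
    apply Subtype.ext
    simp
  rw [h1, map_mul, map_mul, map_inv, mul_comm, ← mul_assoc, inv_mul_cancel, one_mul]

theorem mem_homStab_iff_conjFunN {ν : N →* ℂˣ} {g : G} :
    g ∈ homStab N ν ↔
      helper8.conjFunN N g (fun n => ((ν n : ℂˣ) : ℂ)) = fun n => ((ν n : ℂˣ) : ℂ) := by
  rw [mem_homStab]
  constructor
  · intro h
    funext n
    rw [helper8.conjFunN_apply, ← hconj_apply, h]
  · intro h
    ext n
    have := congrFun h n
    rw [helper8.conjFunN_apply] at this
    rw [hconj_apply]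
    exact this

end HomAction

section Degrees
variable {G : Type u} [Group G] [Fintype G] (N : Subgroup G) [hN : N.Normal]

theorem hom_pow_card (ν : N →* ℂˣ) : ν ^ Nat.card N = 1 := by
  ext n
  rw [MonoidHom.pow_apply, ← map_pow, pow_card_eq_one', map_one, MonoidHom.one_apply]

/-- **Degrees above a linear character of a normal Hall subgroup.** If `lam` is a linear
character of the normal subgroup `N` of order coprime to its index, with stabilizer `T`, then for
every `β ∈ Irr(T/N)` the group has an irreducible character of degree `[G : T] β(1)`. -/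
theorem exists_irr_degree_of_hom (hcop : Nat.Coprime (Nat.card N) N.index) (lam : N →* ℂˣ)
    (T : Subgroup G) (hT : T = homStab N lam)
    (β : T ⧸ N.subgroupOf T → ℂ) (hβ : IsIrrCharacter (T ⧸ N.subgroupOf T) β) :
    ∃ χ : IrrCharacter G, charDegree (χ : G → ℂ) = T.index * charDegree β := by
  classical
  haveI : Fintype T := Fintype.ofFinite _
  haveI : Fintype N := Fintype.ofFinite _
  haveI : Fintype (N.subgroupOf T) := Fintype.ofFinite _
  have hNT : N ≤ T := hT ▸ le_homStab N lam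
  obtain ⟨θ, hθdef⟩ : ∃ θ : N → ℂ, θ = fun n => ((lam n : ℂˣ) : ℂ) := ⟨_, rfl⟩
  have hθ : IsIrrCharacter N θ := hθdef ▸ hom_isIrrCharacter lam
  have hTmem : ∀ g : G, g ∈ T ↔ helper8.conjFunN N g θ = θ := by
    intro g
    rw [hT, hθdef]
    exact mem_homStab_iff_conjFunN N
  -- the restriction of `lam` to `N ∩ T`, as a homomorphism
  obtain ⟨lam', hlam'⟩ : ∃ lam' : N.subgroupOf T →* ℂˣ,
      ∀ a : N.subgroupOf T, lam' a = lam ⟨((a : T) : G), Subgroup.mem_subgroupOf.mp a.2⟩ :=
    ⟨lam.comp (Subgroup.subgroupOfEquivOfLe hNT).toMonoidHom, fun a => rfl⟩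
  have hinv : ∀ (t : T) (a : N.subgroupOf T),
      lam' ⟨t * a * t⁻¹, (inferInstance : (N.subgroupOf T).Normal).conj_mem (a : T) a.2 t⟩ =
        lam' a := by
    intro t a
    rw [hlam', hlam']
    have h1 : hconj N (t : G) lam = lam := by
      have h0 : (t : G) ∈ homStab N lam := hT ▸ t.2
      exact h0
    have h2 := congrArg (fun ν : N →* ℂˣ => ν ⟨((a : T) : G), Subgroup.mem_subgroupOf.mp a.2⟩) h1
    simp only [hconj_apply] at h2
    rw [← h2]
    congr 1
  have hr : ∀ a : N.subgroupOf T, lam' a ^ Nat.card N = 1 := by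
    intro a
    rw [hlam']
    have := congrArg (fun ν : N →* ℂˣ => ν ⟨((a : T) : G), Subgroup.mem_subgroupOf.mp a.2⟩)
      (hom_pow_card N lam)
    simpa using this
  have hcop' : Nat.Coprime (N.subgroupOf T).index (Nat.card N) := by
    have h1 : (N.subgroupOf T).index ∣ N.index := by
      have := Subgroup.relIndex_mul_index hNT
      exact Dvd.intro _ this
    exact (Nat.Coprime.coprime_dvd_right h1 hcop).symm
  obtain ⟨μ, hμ⟩ := exists_extend_coprime (G := T) (N.subgroupOf T) lam' hinv (Nat.card N) hr hcop'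
  -- the character `μ β` of `T`
  obtain ⟨ψ, hψdef⟩ : ∃ ψ : T → ℂ, ψ = fun t => ((μ t : ℂˣ) : ℂ) *
      (β ∘ (QuotientGroup.mk : T → T ⧸ N.subgroupOf T)) t := ⟨_, rfl⟩
  have hψ : IsIrrCharacter T ψ := by
    rw [hψdef]
    exact twist_isIrr μ (helper24.irr_inflation (N.subgroupOf T) hβ)
  obtain ⟨θ', hθ'def⟩ : ∃ θ' : N.subgroupOf T → ℂ, θ' = fun x : N.subgroupOf T =>
      θ ⟨((x : T) : G), Subgroup.mem_subgroupOf.mp x.2⟩ := ⟨_, rfl⟩
  have hθ' : IsIrrCharacter (N.subgroupOf T) θ' := by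
    rw [hθ'def]
    exact helper8.isIrrCharacter_comp_mulEquiv (Subgroup.subgroupOfEquivOfLe hNT) hθ
  have hβ1 : β 1 ≠ 0 := helper24.irr_apply_one_ne_zero hβ
  have hres : helper5.res (N.subgroupOf T) ψ = (β 1) • θ' := by
    funext a
    rw [helper5.res_apply, hψdef, Pi.smul_apply, smul_eq_mul, hθ'def, hθdef]
    simp only [Function.comp_apply]
    have h1 : ((a : T) : T ⧸ N.subgroupOf T) = 1 := (QuotientGroup.eq_one_iff _).mpr a.2
    rw [h1, hμ a, hlam', mul_comm]
  have hc : classInner (indFun (N.subgroupOf T) θ') ψ ≠ 0 := by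
    rw [helper5.classInner_indFun_irr (N.subgroupOf T) θ' (helper24.irr_isCharacter hψ), hres,
      helper8.classInner_smul_right, helper24.irr_classInner_self hθ', mul_one]
    intro h
    exact hβ1 ((map_eq_zero (starRingEnd ℂ)).mp h)
  rw [hθ'def] at hc
  have hcorr := helper8.clifford_corr N T θ hθ hTmem hNT ψ ψ hψ hψ hc hc
  rw [if_pos rfl] at hcorr
  have hχ : IsIrrCharacter G (indFun T ψ) :=
    helper12.isIrrCharacter_of_classInner_self
      (helper12.isCharacter_indFun T (helper24.irr_isCharacter hψ)) hcorr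
  refine ⟨⟨_, hχ⟩, ?_⟩
  apply helper24.charDegree_natCast
  show indFun T ψ 1 = _
  rw [helper5.indFun_one, hψdef]
  simp only [Function.comp_apply]
  rw [map_one, Units.val_one, one_mul, Nat.cast_mul, helper24.char_charDegree_cast
    (helper24.irr_isCharacter hβ)]
  rfl

end Degrees

section AbstractAux
variable {V : Type*} [CommGroup V]

theorem exists_ne_one_norm_one (τ f : V →* V) (hτf : ∀ v, τ (f v) = τ v) (v : V)
    (hne : f v ≠ v) : ∃ v' : V, v' ≠ 1 ∧ τ v' = 1 := by
  refine ⟨v⁻¹ * f v, ?_, ?_⟩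
  · intro h
    rw [inv_mul_eq_one] at h
    exact hne h.symm
  · rw [map_mul, map_inv, hτf, inv_mul_cancel]

theorem map_mul_of_eq_one (τ : V →* V) {a b c : V} (h1 : τ a = c) (h2 : τ b = 1) :
    τ (a * b) = c := by
  rw [map_mul, h1, h2, mul_one]

theorem fixed_of_mul_fixed (f : V →* V) {a b : V} (h1 : f (a * b) = a * b) (h2 : f a = a) :
    f b = b := by
  rw [map_mul, h2] at h1
  exact mul_left_cancel h1

theorem prod_const_aux {ι : Type*} [Fintype ι] (g : ι → V) (v : V) (h : ∀ i, g i = v) :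
    ∏ i, g i = v ^ Fintype.card ι := by
  rw [Finset.prod_congr rfl (fun i _ => h i), Finset.prod_const, Finset.card_univ]

end AbstractAux

section Norm
variable {G : Type u} [Group G] [Finite G] (N : Subgroup G) [hN : N.Normal]

/-- the norm map over a subgroup `B` on the linear characters of `N` -/
noncomputable def homNorm (B : Subgroup G) [Fintype B] : (N →* ℂˣ) →* (N →* ℂˣ) :=
  ∏ b : B, hconj N (b : G)

theorem homNorm_apply (B : Subgroup G) [Fintype B] (ν : N →* ℂˣ) :
    homNorm N B ν = ∏ b : B, hconj N (b : G) ν := by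
  unfold homNorm
  rw [MonoidHom.finset_prod_apply]

theorem homNorm_hconj_mem (B : Subgroup G) [Fintype B] (ν : N →* ℂˣ) {b₀ : G} (hb₀ : b₀ ∈ B) :
    homNorm N B (hconj N b₀ ν) = homNorm N B ν := by
  rw [homNorm_apply, homNorm_apply]
  have h1 : ∀ b : B, hconj N (b : G) (hconj N b₀ ν) =
      hconj N ((Equiv.mulLeft (⟨b₀, hb₀⟩ : B) b : B) : G) ν := by
    intro b
    rw [← hconj_mul]
    rfl
  rw [Finset.prod_congr rfl (fun b _ => h1 b)]
  exact Equiv.prod_comp (Equiv.mulLeft (⟨b₀, hb₀⟩ : B)) (fun b : B => hconj N (b : G) ν)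

theorem homNorm_of_fixed (B : Subgroup G) [Fintype B] (ν : N →* ℂˣ)
    (h : ∀ b ∈ B, hconj N b ν = ν) : homNorm N B ν = ν ^ Nat.card B := by
  rw [homNorm_apply, Nat.card_eq_fintype_card]
  exact prod_const_aux (fun b : B => hconj N (b : G) ν) ν (fun b => h (b : G) b.2)

theorem homNorm_hconj_normalizer (B : Subgroup G) [Fintype B] (ν : N →* ℂˣ) {g : G}
    (hg : ∀ b ∈ B, g * b * g⁻¹ ∈ B) (hg' : ∀ b ∈ B, g⁻¹ * b * g ∈ B) :
    homNorm N B (hconj N g ν) = hconj N g (homNorm N B ν) := by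
  rw [homNorm_apply, homNorm_apply, map_prod]
  obtain ⟨e, he⟩ : ∃ e : B ≃ B, ∀ b : B, ((e b : B) : G) = g * b * g⁻¹ :=
    ⟨{ toFun := fun b => ⟨g * b * g⁻¹, hg b b.2⟩
       invFun := fun b => ⟨g⁻¹ * b * g, hg' b b.2⟩
       left_inv := fun b => by
         apply Subtype.ext
         simp [mul_assoc]
       right_inv := fun b => by
         apply Subtype.ext
         simp [mul_assoc] }, fun b => rfl⟩
  have h1 : ∀ b : B, hconj N (b : G) (hconj N g ν) = hconj N g (hconj N ((e b : B) : G) ν) := by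
    intro b
    rw [← hconj_mul, ← hconj_mul, he]
    congr 2
    simp [mul_assoc]
  rw [Finset.prod_congr rfl (fun b _ => h1 b)]
  exact Equiv.prod_comp e (fun b : B => hconj N g (hconj N (b : G) ν))

theorem hom_eq_of_pow_eq (k : ℕ) (hk : Nat.Coprime k (Nat.card N)) {ν ν' : N →* ℂˣ}
    (h : ν ^ k = ν' ^ k) : ν = ν' := by
  ext n
  have h0 := congrArg (fun κ : N →* ℂˣ => κ n) h
  simp only [MonoidHom.pow_apply] at h0
  have h1 : (ν n / ν' n) ^ k = 1 := by
    rw [div_pow, h0, div_self']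
  have h2 : (ν n / ν' n) ^ Nat.card N = 1 := by
    rw [div_pow, ← map_pow, ← map_pow, pow_card_eq_one', map_one, map_one, div_self']
  have h3 := pow_gcd_eq_one.mpr ⟨h1, h2⟩
  rw [hk.gcd_eq_one, pow_one] at h3
  rw [div_eq_one.mp h3]

/-- **The stabilizer acts trivially.** Let `N` be a normal Hall subgroup with complement `L`,
and let `lam` be a linear character of `N` whose stabilizer `T` is normal and minimal among
stabilizers contained in it. Then `T` fixes every linear character of `N`. -/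
theorem homStab_acts_trivially (hcop : Nat.Coprime (Nat.card N) N.index) (L : Subgroup G)
    (hL : Subgroup.IsComplement' N L) (lam : N →* ℂˣ) (hTn : (homStab N lam).Normal)
    (hmin : ∀ κ : N →* ℂˣ, homStab N κ ≤ homStab N lam → homStab N κ = homStab N lam) :
    ∀ t ∈ homStab N lam, ∀ ν : N →* ℂˣ, hconj N t ν = ν := by
  classical
  obtain ⟨T, hTdef⟩ : ∃ T : Subgroup G, T = homStab N lam := ⟨_, rfl⟩
  rw [← hTdef] at hTn hmin ⊢
  obtain ⟨B, hBdef⟩ : ∃ B : Subgroup G, B = L ⊓ T := ⟨_, rfl⟩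
  haveI : Fintype B := Fintype.ofFinite _
  have hBL : B ≤ L := hBdef ▸ inf_le_left
  have hBT : B ≤ T := hBdef ▸ inf_le_right
  have hNL : N ⊔ L = ⊤ := hL.sup_eq_top
  have hdecomp : ∀ g : G, ∃ n ∈ N, ∃ l ∈ L, g = n * l := by
    intro g
    have hg : g ∈ N ⊔ L := hNL ▸ Subgroup.mem_top g
    obtain ⟨n, hn, l, hl, h⟩ := (Subgroup.mem_sup_of_normal_left).mp hg
    exact ⟨n, hn, l, hl, h.symm⟩
  have hBcop : Nat.Coprime (Nat.card B) (Nat.card N) := by
    have h1 : Nat.card B ∣ Nat.card L := Subgroup.card_dvd_of_le hBL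
    have h2 : N.index = Nat.card L := hL.symm.index_eq_card
    rw [h2] at hcop
    exact (Nat.Coprime.coprime_dvd_right h1 hcop).symm
  have hBnorm : ∀ l ∈ L, ∀ b ∈ B, l * b * l⁻¹ ∈ B := by
    intro l hl b hb
    rw [hBdef] at hb ⊢
    exact ⟨L.mul_mem (L.mul_mem hl hb.1) (L.inv_mem hl), hTn.conj_mem b hb.2 l⟩
  have hlamB : ∀ b ∈ B, hconj N b lam = lam := by
    intro b hb
    have : b ∈ homStab N lam := hTdef ▸ hBT hb
    exact this
  -- claim: `B` acts trivially
  have claim : ∀ b ∈ B, ∀ ν : N →* ℂˣ, hconj N b ν = ν := by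
    intro b hb ν
    by_contra hne
    obtain ⟨ν', hν'1, hτν'⟩ := exists_ne_one_norm_one (homNorm N B) (hconj N b)
      (fun v => homNorm_hconj_mem N B v hb) ν hne
    obtain ⟨κ, hκ⟩ : ∃ κ : N →* ℂˣ, κ = lam * ν' := ⟨_, rfl⟩
    have hτκ : homNorm N B κ = lam ^ Nat.card B := by
      rw [hκ]
      exact map_mul_of_eq_one (homNorm N B) (homNorm_of_fixed N B lam hlamB) hτν'
    have hκT : homStab N κ ≤ T := by
      intro g hg
      obtain ⟨n, hn, l, hl, rfl⟩ := hdecomp g
      have hlκ : l ∈ homStab N κ := by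
        have h1 : n⁻¹ ∈ homStab N κ := (homStab N κ).inv_mem (le_homStab N κ hn)
        have h2 := (homStab N κ).mul_mem h1 hg
        rwa [inv_mul_cancel_left] at h2
      have hlκ' : hconj N l κ = κ := hlκ
      have h3 : homNorm N B (hconj N l κ) = hconj N l (homNorm N B κ) := by
        apply homNorm_hconj_normalizer N B κ (hBnorm l hl)
        intro b' hb'
        have := hBnorm l⁻¹ (L.inv_mem hl) b' hb'
        rwa [inv_inv] at this
      rw [hlκ', hτκ] at h3
      have h3' : lam ^ Nat.card B = (hconj N l lam) ^ Nat.card B :=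
        h3.trans (map_pow (hconj N l) lam (Nat.card B))
      have h4 : hconj N l lam = lam := (hom_eq_of_pow_eq N _ hBcop h3').symm
      have h5 : l ∈ T := by
        rw [hTdef]
        exact h4
      exact T.mul_mem (hTdef ▸ le_homStab N lam hn) h5
    have hκeq := hmin κ hκT
    have hν'fix : ∀ b' ∈ B, hconj N b' ν' = ν' := by
      intro b' hb'
      have h1 : hconj N b' κ = κ := by
        have : b' ∈ homStab N κ := hκeq ▸ hBT hb'
        exact this
      rw [hκ] at h1
      exact fixed_of_mul_fixed (hconj N b') h1 (hlamB b' hb')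
    have h6 := homNorm_of_fixed N B ν' hν'fix
    apply hν'1
    apply hom_eq_of_pow_eq N _ hBcop
    exact (h6.symm.trans hτν').trans (one_pow _).symm
  intro t ht ν
  obtain ⟨n, hn, l, hl, rfl⟩ := hdecomp t
  have hlT : l ∈ T := by
    have h1 : n⁻¹ ∈ T := T.inv_mem (hTdef ▸ le_homStab N lam hn)
    have h2 := T.mul_mem h1 ht
    rwa [inv_mul_cancel_left] at h2
  have hlB : l ∈ B := hBdef ▸ ⟨hl, hlT⟩
  rw [hconj_mul]
  have h1 : hconj N n ν = ν := le_homStab N ν hn
  rw [h1]
  exact claim l hlB ν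

end Norm

section Abelian
variable {G : Type u} [Group G] [Finite G]

/-- linear characters separate the points of a finite abelian group -/
theorem eq_one_of_forall_hom {A : Type*} [Group A] [Finite A] (hA : ∀ a b : A, a * b = b * a)
    (a : A) (h : ∀ ν : A →* ℂˣ, ν a = 1) : a = 1 := by
  classical
  haveI : Fintype (Abelianization A →* ℂˣ) := Fintype.ofFinite _
  have hcomm : commutator A = ⊥ := by
    rw [commutator_def, Subgroup.commutator_eq_bot_iff_le_centralizer]
    intro x _ y _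
    exact hA y x
  have h1 := helper8.sum_hom_apply (Abelianization.of a)
  have h2 : ∀ φ : Abelianization A →* ℂˣ, ((φ (Abelianization.of a) : ℂˣ) : ℂ) = 1 := by
    intro φ
    have := h (φ.comp Abelianization.of)
    rw [MonoidHom.comp_apply] at this
    rw [this, Units.val_one]
  rw [Finset.sum_congr rfl (fun φ _ => h2 φ)] at h1
  by_contra hne
  have h3 : Abelianization.of a ≠ 1 := by
    intro h4
    have h5 : a ∈ (Abelianization.of : A →* Abelianization A).ker := h4
    rw [Abelianization.ker_of, hcomm, Subgroup.mem_bot] at h5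
    exact hne h5
  rw [if_neg h3] at h1
  simp at h1

/-- a subgroup acting trivially on the linear characters of an abelian normal subgroup
centralizes it -/
theorem centralizes_of_hconj_trivial (N : Subgroup G) [hN : N.Normal]
    (hNab : ∀ a ∈ N, ∀ b ∈ N, a * b = b * a) {t : G} (ht : ∀ ν : N →* ℂˣ, hconj N t ν = ν)
    {n : G} (hn : n ∈ N) : t * n * t⁻¹ = n := by
  have h1 : (⟨t * n * t⁻¹, hN.conj_mem n hn t⟩ : N) * (⟨n, hn⟩ : N)⁻¹ = 1 := by
    apply eq_one_of_forall_hom (A := N)
    · intro a b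
      apply Subtype.ext
      exact hNab a a.2 b b.2
    · intro ν
      have h2 := congrArg (fun κ : N →* ℂˣ => κ ⟨n, hn⟩) (ht ν)
      simp only [hconj_apply] at h2
      rw [map_mul, map_inv, h2, mul_inv_cancel]
  have h3 := congrArg Subtype.val (mul_inv_eq_one.mp h1)
  exact h3

/-- a subgroup `T ≥ N` with `T' ≤ N`, centralizing the normal Hall subgroup `N`, is abelian -/
theorem abelian_of_central_hall (N T : Subgroup G) [hN : N.Normal]
    (hcop : Nat.Coprime (Nat.card N) N.index)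
    (hcomm : ∀ x ∈ T, ∀ y ∈ T, x * y * x⁻¹ * y⁻¹ ∈ N)
    (hcent : ∀ t ∈ T, ∀ n ∈ N, t * n * t⁻¹ = n) :
    ∀ x ∈ T, ∀ y ∈ T, x * y = y * x := by
  intro x hx y hy
  obtain ⟨c, hc⟩ : ∃ c : G, c = x * y * x⁻¹ * y⁻¹ := ⟨_, rfl⟩
  have hcN : c ∈ N := hc ▸ hcomm x hx y hy
  have hxc : ∀ k : ℕ, x * c ^ k * x⁻¹ = c ^ k := fun k => hcent x hx _ (N.pow_mem hcN k)
  have hpow : ∀ k : ℕ, x ^ k * y * (x ^ k)⁻¹ = c ^ k * y := by
    intro k
    induction k with
    | zero => simp
    | succ k ih =>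
      have h1 : x ^ (k + 1) * y * (x ^ (k + 1))⁻¹ = x * (x ^ k * y * (x ^ k)⁻¹) * x⁻¹ := by
        rw [pow_succ']
        simp [mul_assoc]
      rw [h1, ih]
      have h2 : x * (c ^ k * y) * x⁻¹ = (x * c ^ k * x⁻¹) * (x * y * x⁻¹) := by
        simp [mul_assoc]
      rw [h2, hxc k]
      have h3 : x * y * x⁻¹ = c * y := by
        rw [hc]
        simp [mul_assoc]
      rw [h3, ← mul_assoc, ← pow_succ]
  have hxk : x ^ N.index ∈ N := Subgroup.pow_index_mem N x
  have h1 : c ^ N.index = 1 := by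
    have h2 := hpow N.index
    have h3 : y * x ^ N.index * y⁻¹ = x ^ N.index := hcent y hy _ hxk
    have h4 : x ^ N.index * y * (x ^ N.index)⁻¹ = y := by
      have h5 : x ^ N.index * y = y * x ^ N.index := by
        have := congrArg (· * y) h3
        simp only [inv_mul_cancel_right] at this
        exact this.symm
      rw [h5, mul_inv_cancel_right]
    rw [h4] at h2
    exact (mul_eq_right.mp h2.symm)
  have h2 : c ^ Nat.card N = 1 := by
    have := pow_card_eq_one' (G := N) (x := ⟨c, hcN⟩)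
    exact congrArg Subtype.val this
  have h3 := pow_gcd_eq_one.mpr ⟨h2, h1⟩
  rw [hcop.gcd_eq_one, pow_one] at h3
  rw [hc] at h3
  have h4 : x * y * x⁻¹ * y⁻¹ * y * x = y * x := by rw [h3, one_mul]
  simpa [mul_assoc] using h4

end Abelian

section CaseI
variable {G : Type u} [Group G] [Fintype G]

/-- **Two character degrees, the noninvariant case.** If `cd(G) ⊆ {1, m}`, `N` is an abelian
normal Hall subgroup and some linear character of `N` is not `G`-invariant, then its stabilizer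
is an abelian normal subgroup of index `m` containing `G'`. -/
theorem two_degrees_noninvariant (m : ℕ) (hm1 : m ≠ 1)
    (hcd : ∀ χ : IrrCharacter G, charDegree (χ : G → ℂ) = 1 ∨ charDegree (χ : G → ℂ) = m)
    (N : Subgroup G) [hN : N.Normal] (hNab : ∀ a ∈ N, ∀ b ∈ N, a * b = b * a)
    (hcop : Nat.Coprime (Nat.card N) N.index) (lam : N →* ℂˣ) (hlam : homStab N lam ≠ ⊤) :
    ∃ A : Subgroup G, A.Normal ∧ (∀ a ∈ A, ∀ b ∈ A, a * b = b * a) ∧ A.index = m ∧
      commutator G ≤ A := by
  classical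
  -- stabilizers have index `1` or `m`
  have hstab : ∀ ν : N →* ℂˣ, homStab N ν = ⊤ ∨ (homStab N ν).index = m := by
    intro ν
    obtain ⟨χ, hχ⟩ := exists_irr_degree_of_hom N hcop ν (homStab N ν) rfl (fun _ => (1 : ℂ))
      (one_isIrrCharacter _)
    have h1 : charDegree (fun _ : homStab N ν ⧸ N.subgroupOf (homStab N ν) => (1 : ℂ)) = 1 := by
      apply helper24.charDegree_natCast
      simp
    rw [h1, mul_one] at hχ
    rcases hcd χ with h | h
    · left
      rw [← Subgroup.index_eq_one, ← hχ, h]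
    · right
      rw [← hχ, h]
  obtain ⟨T, hTdef⟩ : ∃ T : Subgroup G, T = homStab N lam := ⟨_, rfl⟩
  rw [← hTdef] at hlam
  have hTidx : T.index = m := by
    rcases hstab lam with h | h
    · exact absurd (hTdef.trans h) hlam
    · rw [hTdef]
      exact h
  have hNT : N ≤ T := hTdef ▸ le_homStab N lam
  have hm0 : m ≠ 0 := hTidx ▸ Subgroup.index_ne_zero_of_finite
  -- `T / N` is abelian
  have hβ : ∀ β : IrrCharacter (T ⧸ N.subgroupOf T), (β : T ⧸ N.subgroupOf T → ℂ) 1 = 1 := by
    intro β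
    obtain ⟨χ, hχ⟩ := exists_irr_degree_of_hom N hcop lam T hTdef β β.2
    rw [hTidx] at hχ
    have h1 : charDegree (β : T ⧸ N.subgroupOf T → ℂ) = 1 := by
      rcases hcd χ with h | h
      · rw [h] at hχ
        exact absurd (Nat.eq_one_of_mul_eq_one_right hχ.symm) hm1
      · rw [h] at hχ
        have h2 : m * 1 = m * charDegree (β : T ⧸ N.subgroupOf T → ℂ) := by
          rw [mul_one]
          exact hχ
        exact (Nat.eq_of_mul_eq_mul_left (Nat.pos_of_ne_zero hm0) h2).symm
    rw [← helper24.char_charDegree_cast (helper24.irr_isCharacter β.2), h1, Nat.cast_one]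
  have hquot := (S0187.result (G := T ⧸ N.subgroupOf T)).mpr hβ
  have hcomm : ∀ x ∈ T, ∀ y ∈ T, x * y * x⁻¹ * y⁻¹ ∈ N := by
    intro x hx y hy
    have h1 : ((⟨x, hx⟩ * ⟨y, hy⟩ * ⟨x, hx⟩⁻¹ * ⟨y, hy⟩⁻¹ : T) : T ⧸ N.subgroupOf T) = 1 := by
      rw [QuotientGroup.mk_mul, QuotientGroup.mk_mul, QuotientGroup.mk_mul,
        hquot (⟨x, hx⟩ : T) (⟨y, hy⟩ : T), QuotientGroup.mk_inv, QuotientGroup.mk_inv]
      simp
    have h2 := (QuotientGroup.eq_one_iff _).mp h1
    exact Subgroup.mem_subgroupOf.mp h2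
  -- `T` contains `G'`
  have hGT : commutator G ≤ T := by
    apply commutator_le_of_index_le_degrees
    intro χ
    rcases hcd χ with h | h
    · exact Or.inl h
    · right
      rw [hTidx, h]
  have hTn : T.Normal := by
    constructor
    intro t ht g
    have h1 : g * t * g⁻¹ * t⁻¹ ∈ commutator G := by
      rw [commutator_def]
      exact Subgroup.commutator_mem_commutator (Subgroup.mem_top g) (Subgroup.mem_top t)
    have h2 := T.mul_mem (hGT h1) ht
    rwa [inv_mul_cancel_right] at h2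
  -- minimality among stabilizers
  have hmin : ∀ κ : N →* ℂˣ, homStab N κ ≤ T → homStab N κ = T := by
    intro κ hκ
    rcases hstab κ with h | h
    · rw [h] at hκ
      exact absurd (top_le_iff.mp hκ) hlam
    · apply Subgroup.eq_of_le_of_card_ge hκ
      have h1 := Subgroup.card_mul_index (homStab N κ)
      have h2 := Subgroup.card_mul_index T
      rw [h] at h1
      rw [hTidx] at h2
      have h3 : Nat.card T * m = Nat.card (homStab N κ) * m := by rw [h1, h2]
      exact le_of_eq (Nat.eq_of_mul_eq_mul_right (Nat.pos_of_ne_zero hm0) h3)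
  obtain ⟨L, hL⟩ := Subgroup.exists_right_complement'_of_coprime hcop
  have htriv : ∀ t ∈ T, ∀ ν : N →* ℂˣ, hconj N t ν = ν := by
    subst hTdef
    exact homStab_acts_trivially N hcop L hL lam hTn hmin
  have hcent : ∀ t ∈ T, ∀ n ∈ N, t * n * t⁻¹ = n := fun t ht n hn =>
    centralizes_of_hconj_trivial N hNab (htriv t ht) hn
  exact ⟨T, hTn, abelian_of_central_hall N T hcop hcomm hcent, hTidx, hGT⟩

end CaseI

section Hall
variable {G : Type u} [Group G] [Fintype G]

/-- **The abelian normal Hall subgroup.** If `cd(G) ⊆ {1, m}` then `G` has an abelian normal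
subgroup `N` of order coprime to `m` and to its index, inside a normal `p`-complement for every
prime `p ∣ m`, and such that `G` is nilpotent as soon as `N` is central. -/
theorem exists_abelian_hall (m : ℕ) (hm0 : m ≠ 0)
    (hcd : ∀ χ : IrrCharacter G, charDegree (χ : G → ℂ) = 1 ∨ charDegree (χ : G → ℂ) = m) :
    ∃ N : Subgroup G, N.Normal ∧ (∀ a ∈ N, ∀ b ∈ N, a * b = b * a) ∧
      Nat.Coprime (Nat.card N) N.index ∧ Nat.Coprime (Nat.card N) m ∧
      (N ≤ Subgroup.center G → Group.IsNilpotent G) := by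
  classical
  -- normal `p`-complements for the primes dividing `m`
  have hthm : ∀ p : {p : ℕ // p ∈ m.primeFactors}, ∃ K : Subgroup G, K.Normal ∧
      (Nat.card K).Coprime p ∧ ∃ k : ℕ, K.index = (p : ℕ) ^ k := by
    intro p
    have hp : (p : ℕ).Prime := Nat.prime_of_mem_primeFactors p.2
    have hpm : (p : ℕ) ∣ m := Nat.dvd_of_mem_primeFactors p.2
    apply S4456.result (p : ℕ) hp
    intro χ hne
    rcases hcd χ with h | h
    · exact absurd h hne
    · rw [h]
      exact hpm
  choose Np hNpn hNpcop hNpidx using hthm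
  haveI : ∀ p, (Np p).Normal := hNpn
  obtain ⟨N, hNdef⟩ : ∃ N : Subgroup G, N = ⨅ p, Np p := ⟨_, rfl⟩
  haveI hNn : N.Normal := hNdef ▸ Subgroup.normal_iInf_normal hNpn
  haveI : Fintype N := Fintype.ofFinite _
  have hNle : ∀ p, N ≤ Np p := fun p => hNdef ▸ iInf_le _ p
  -- `|N|` is coprime to `m`
  have hNm : Nat.Coprime (Nat.card N) m := by
    by_contra hcon
    obtain ⟨q, hq, hqN, hqm⟩ := Nat.Prime.not_coprime_iff_dvd.mp hcon
    have hqmem : q ∈ m.primeFactors := Nat.mem_primeFactors.mpr ⟨hq, hqm, hm0⟩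
    have h1 : Nat.card N ∣ Nat.card (Np ⟨q, hqmem⟩) := Subgroup.card_dvd_of_le (hNle ⟨q, hqmem⟩)
    have h2 := hNpcop ⟨q, hqmem⟩
    have h3 : q ∣ Nat.card (Np ⟨q, hqmem⟩) := dvd_trans hqN h1
    exact hq.one_lt.ne' (Nat.Coprime.eq_one_of_dvd (Nat.Coprime.symm h2) h3)
  -- `N` is abelian
  have hNab : ∀ a ∈ N, ∀ b ∈ N, a * b = b * a := by
    have hlin : ∀ θ : IrrCharacter N, (θ : N → ℂ) 1 = 1 := by
      intro θ
      obtain ⟨χ, hdvd⟩ := S0855.exists_over N θ
      have h1 : charDegree (θ : N → ℂ) ∣ Nat.card N := helper24.irr_degree_dvd_card θ.2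
      have h2 : charDegree (θ : N → ℂ) = 1 := by
        rcases hcd χ with h | h
        · rw [h] at hdvd
          exact Nat.dvd_one.mp hdvd
        · rw [h] at hdvd
          exact Nat.Coprime.eq_one_of_dvd (Nat.Coprime.coprime_dvd_left h1 hNm) hdvd
      rw [← helper24.char_charDegree_cast (helper24.irr_isCharacter θ.2), h2, Nat.cast_one]
    have hcomm := (S0187.result (G := N)).mpr hlin
    intro a ha b hb
    exact congrArg Subtype.val (hcomm ⟨a, ha⟩ ⟨b, hb⟩)
  -- the embedding of `G / N` in a product of `p`-groups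
  obtain ⟨f, hf⟩ : ∃ f : G →* (∀ p : {p : ℕ // p ∈ m.primeFactors}, G ⧸ Np p),
      ∀ g p, f g p = (g : G ⧸ Np p) :=
    ⟨MonoidHom.pi (fun p => QuotientGroup.mk' (Np p)), fun g p => rfl⟩
  have hker : f.ker = N := by
    ext g
    rw [MonoidHom.mem_ker, hNdef, Subgroup.mem_iInf]
    constructor
    · intro h p
      have h1 := congrFun h p
      rw [hf] at h1
      exact (QuotientGroup.eq_one_iff g).mp h1
    · intro h
      funext p
      rw [hf]
      exact (QuotientGroup.eq_one_iff g).mpr (h p)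
  haveI hnilp : ∀ p : {p : ℕ // p ∈ m.primeFactors}, Group.IsNilpotent (G ⧸ Np p) := by
    intro p
    haveI : Fact (p : ℕ).Prime := ⟨Nat.prime_of_mem_primeFactors p.2⟩
    obtain ⟨k, hk⟩ := hNpidx p
    have h1 : IsPGroup (p : ℕ) (G ⧸ Np p) := by
      apply IsPGroup.of_card (n := k)
      rw [← hk, Subgroup.index_eq_card]
    exact h1.isNilpotent
  refine ⟨N, hNn, hNab, ?_, hNm, ?_⟩
  · by_contra hcon
    obtain ⟨q, hq, hqN, hqi⟩ := Nat.Prime.not_coprime_iff_dvd.mp hcon
    have h1 : N.index = Nat.card f.range := by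
      rw [← hker]
      exact Subgroup.index_ker f
    have h2 : Nat.card f.range ∣ Nat.card (∀ p : {p : ℕ // p ∈ m.primeFactors}, G ⧸ Np p) :=
      Subgroup.card_subgroup_dvd_card _
    rw [Nat.card_pi] at h2
    rw [h1] at hqi
    have h3 := dvd_trans hqi h2
    obtain ⟨p, -, hp⟩ := (Prime.dvd_finset_prod_iff hq.prime _).mp h3
    obtain ⟨k, hk⟩ := hNpidx p
    rw [← Subgroup.index_eq_card, hk] at hp
    have hpp : (p : ℕ).Prime := Nat.prime_of_mem_primeFactors p.2
    have h4 : q = p := (Nat.prime_dvd_prime_iff_eq hq hpp).mp (hq.dvd_of_dvd_pow hp)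
    have h5 : q ∣ m := h4 ▸ Nat.dvd_of_mem_primeFactors p.2
    exact hq.one_lt.ne' (Nat.eq_one_of_dvd_coprimes hNm hqN h5)
  · intro hcen
    exact Subgroup.isNilpotent_of_ker_le_center f (hker ▸ hcen)

end Hall

section CaseII
variable {G : Type u} [Group G] [Fintype G]

/-- the irreducible characters of a complement of a normal subgroup inflate to the group -/
theorem irr_degree_of_complement (P A : Subgroup G) [hP : P.Normal] (h1 : P ⊓ A = ⊥)
    (h2 : P ⊔ A = ⊤) (θ : IrrCharacter A) :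
    ∃ χ : IrrCharacter G, charDegree (χ : G → ℂ) = charDegree (θ : A → ℂ) := by
  obtain ⟨f, hf⟩ : ∃ f : A →* G ⧸ P, ∀ a : A, f a = ((a : G) : G ⧸ P) :=
    ⟨(QuotientGroup.mk' P).comp A.subtype, fun a => rfl⟩
  have hinj : Function.Injective f := by
    rw [injective_iff_map_eq_one]
    intro a ha
    rw [hf] at ha
    have h3 : (a : G) ∈ P := (QuotientGroup.eq_one_iff _).mp ha
    have h4 : (a : G) ∈ P ⊓ A := ⟨h3, a.2⟩
    rw [h1, Subgroup.mem_bot] at h4
    exact Subtype.ext h4
  have hsurj : Function.Surjective f := by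
    intro q
    obtain ⟨g, rfl⟩ := QuotientGroup.mk_surjective q
    have hg : g ∈ P ⊔ A := h2 ▸ Subgroup.mem_top g
    obtain ⟨x, hx, a, ha, rfl⟩ := (Subgroup.mem_sup_of_normal_left).mp hg
    refine ⟨⟨a, ha⟩, ?_⟩
    rw [hf, QuotientGroup.mk_mul, (QuotientGroup.eq_one_iff x).mpr hx, one_mul]
  obtain ⟨e, he⟩ : ∃ e : A ≃* G ⧸ P, ∀ a, e a = f a :=
    ⟨MulEquiv.ofBijective f ⟨hinj, hsurj⟩, fun a => rfl⟩
  have hθ' := helper8.isIrrCharacter_comp_mulEquiv e.symm θ.2
  have hχ := helper24.irr_inflation P hθ'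
  refine ⟨⟨_, hχ⟩, ?_⟩
  unfold charDegree
  simp only [Function.comp_apply]
  rw [QuotientGroup.mk_one, map_one]

/-- **Two character degrees, the invariant case.** If `cd(G) = {1, m}`, `m ≠ 1`, and `G` is
nilpotent, then `m` is a power of a prime `p` and `G` is the product of a normal `p`-subgroup and
an abelian normal subgroup. -/
theorem two_degrees_nilpotent [hnil : Group.IsNilpotent G] (m : ℕ) (hm1 : m ≠ 1)
    (hcd : ∀ χ : IrrCharacter G, charDegree (χ : G → ℂ) = 1 ∨ charDegree (χ : G → ℂ) = m)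
    (hm : ∃ χ : IrrCharacter G, charDegree (χ : G → ℂ) = m) :
    ∃ p e : ℕ, p.Prime ∧ m = p ^ e ∧ ∃ P A : Subgroup G, P.Normal ∧ A.Normal ∧ IsPGroup p P ∧
      (∀ a ∈ A, ∀ b ∈ A, a * b = b * a) ∧ P ⊓ A = ⊥ ∧ P ⊔ A = ⊤ := by
  classical
  obtain ⟨p, hp, hpm⟩ := Nat.exists_prime_and_dvd hm1
  haveI : Fact p.Prime := ⟨hp⟩
  have hdeg : ∀ χ : IrrCharacter G, charDegree (χ : G → ℂ) ≠ 1 → p ∣ charDegree (χ : G → ℂ) := by
    intro χ hne
    rcases hcd χ with h | h
    · exact absurd h hne
    · rw [h]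
      exact hpm
  obtain ⟨A, hAn, hAcop, k, hAidx⟩ := S4456.result p hp hdeg
  haveI := hAn
  obtain ⟨P⟩ : Nonempty (Sylow p G) := inferInstance
  have hPn : (P : Subgroup G).Normal := inferInstance
  have hPcard : ∃ j : ℕ, Nat.card (P : Subgroup G) = p ^ j := IsPGroup.iff_card.mp P.2
  obtain ⟨j, hj⟩ := hPcard
  have h1 : (P : Subgroup G) ⊓ A = ⊥ := by
    apply Subgroup.inf_eq_bot_of_coprime
    rw [hj]
    exact (Nat.Coprime.pow_right j hAcop).symm
  have h2 : (P : Subgroup G) ⊔ A = ⊤ := by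
    rw [← Subgroup.index_eq_one]
    have h3 : ((P : Subgroup G) ⊔ A).index ∣ (P : Subgroup G).index :=
      Subgroup.index_dvd_of_le le_sup_left
    have h4 : ((P : Subgroup G) ⊔ A).index ∣ p ^ k := hAidx ▸ Subgroup.index_dvd_of_le le_sup_right
    have h5 : Nat.Coprime (P : Subgroup G).index (p ^ k) :=
      Nat.Coprime.pow_right k ((Nat.Prime.coprime_iff_not_dvd hp).mpr P.not_dvd_index).symm
    exact Nat.eq_one_of_dvd_coprimes h5 h3 h4
  -- `A` is abelian
  have hAab : ∀ a ∈ A, ∀ b ∈ A, a * b = b * a := by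
    have hlin : ∀ θ : IrrCharacter A, (θ : A → ℂ) 1 = 1 := by
      intro θ
      obtain ⟨χ, hχ⟩ := irr_degree_of_complement (P : Subgroup G) A h1 h2 θ
      have h3 : charDegree (θ : A → ℂ) ∣ Nat.card A := helper24.irr_degree_dvd_card θ.2
      have h4 : charDegree (θ : A → ℂ) = 1 := by
        rcases hcd χ with h | h
        · rw [← hχ, h]
        · exfalso
          rw [hχ] at h
          rw [h] at h3
          have h5 : p ∣ Nat.card A := dvd_trans hpm h3
          exact hp.one_lt.ne' (Nat.Coprime.eq_one_of_dvd hAcop.symm h5)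
      rw [← helper24.char_charDegree_cast (helper24.irr_isCharacter θ.2), h4, Nat.cast_one]
    have hcomm := (S0187.result (G := A)).mpr hlin
    intro a ha b hb
    exact congrArg Subtype.val (hcomm ⟨a, ha⟩ ⟨b, hb⟩)
  -- `m` is a power of `p`
  obtain ⟨χ, hχ⟩ := hm
  obtain ⟨n, ρ, hρ, hρχ⟩ := χ.2
  haveI := hρ
  have h3 := S0169.result ρ A hAab
  rw [Module.finrank_fin_fun, hAidx] at h3
  have hnm : n = m := by
    rw [← hχ]
    symm
    apply helper24.charDegree_natCast
    rw [← hρχ, Representation.char_one, Module.finrank_fin_fun]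
  rw [hnm] at h3
  obtain ⟨e, -, he⟩ := (Nat.dvd_prime_pow hp).mp h3
  exact ⟨p, e, hp, he, P, A, hPn, hAn, P.2, hAab, h1, h2⟩

/-- an element on which every irreducible character takes its degree is trivial -/
theorem eq_one_of_forall_irr {g : G} (h : ∀ χ : IrrCharacter G, (χ : G → ℂ) g = (χ : G → ℂ) 1) :
    g = 1 := by
  classical
  haveI : Fintype (IrrCharacter G) := Fintype.ofFinite _
  have h1 := helper24.irr_column_orthogonality (G := G) g 1
  have h2 := helper24.irr_column_orthogonality (G := G) 1 1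
  rw [Finset.sum_congr rfl (fun χ _ => by rw [h χ])] at h1
  rw [h1, if_pos (IsConj.refl 1)] at h2
  by_cases hc : IsConj g 1
  · exact isConj_one_right.mp hc.symm
  · rw [if_neg hc] at h2
    exfalso
    have h3 : (Nat.card (Subgroup.centralizer ({1} : Set G)) : ℂ) ≠ 0 := by
      exact_mod_cast (Nat.card_pos (α := Subgroup.centralizer ({1} : Set G))).ne'
    exact h3 h2.symm

/-- **Monomial characters and the second derived subgroup.** If every irreducible character of
`G` has degree `1` or `m` and `χ` is induced from a linear character, then commutators of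
elements of `G'` lie in the kernel of `χ`. -/
theorem monomial_kernel (m : ℕ)
    (hcd : ∀ χ : IrrCharacter G, charDegree (χ : G → ℂ) = 1 ∨ charDegree (χ : G → ℂ) = m)
    (χ : IrrCharacter G) (U : Subgroup G) (lam : U →* ℂˣ)
    (hχ : (χ : G → ℂ) = indFun U (fun h => ((lam h : ℂˣ) : ℂ)))
    {a b : G} (ha : a ∈ commutator G) (hb : b ∈ commutator G) :
    (χ : G → ℂ) (a * b * a⁻¹ * b⁻¹) = (χ : G → ℂ) 1 := by
  classical
  haveI : Fintype U := Fintype.ofFinite _
  have hχ1 : (χ : G → ℂ) 1 = (U.index : ℂ) := by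
    rw [hχ, helper5.indFun_one, map_one, Units.val_one, mul_one]
  have hdegU : charDegree (χ : G → ℂ) = U.index := helper24.charDegree_natCast _ _ hχ1
  have hGU : commutator G ≤ U := by
    by_cases hU : U.index = 1
    · rw [Subgroup.index_eq_one] at hU
      rw [hU]
      exact le_top
    · have hUm : U.index = m := by
        rcases hcd χ with h | h
        · exact absurd (hdegU ▸ h) hU
        · rw [← hdegU, h]
      apply commutator_le_of_index_le_degrees
      intro ψ
      rcases hcd ψ with h | h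
      · exact Or.inl h
      · right
        rw [hUm, h]
  have hnorm : (commutator G).Normal := inferInstance
  have hterm : ∀ x : G, extendByZero U (fun h => ((lam h : ℂˣ) : ℂ))
      (x⁻¹ * (a * b * a⁻¹ * b⁻¹) * x) = 1 := by
    intro x
    have ha' : x⁻¹ * a * x ∈ U := by
      have := hnorm.conj_mem a ha x⁻¹
      rw [inv_inv] at this
      exact hGU this
    have hb' : x⁻¹ * b * x ∈ U := by
      have := hnorm.conj_mem b hb x⁻¹
      rw [inv_inv] at this
      exact hGU this
    have e : x⁻¹ * (a * b * a⁻¹ * b⁻¹) * x =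
        (x⁻¹ * a * x) * (x⁻¹ * b * x) * (x⁻¹ * a * x)⁻¹ * (x⁻¹ * b * x)⁻¹ := by group
    have hmem : (x⁻¹ * a * x) * (x⁻¹ * b * x) * (x⁻¹ * a * x)⁻¹ * (x⁻¹ * b * x)⁻¹ ∈ U :=
      U.mul_mem (U.mul_mem (U.mul_mem ha' hb') (U.inv_mem ha')) (U.inv_mem hb')
    rw [e, helper5.extendByZero_of_mem U _ _ hmem]
    have h1 : (⟨_, hmem⟩ : U) = ⟨_, ha'⟩ * ⟨_, hb'⟩ * ⟨_, ha'⟩⁻¹ * ⟨_, hb'⟩⁻¹ := rfl
    rw [h1, map_mul, map_mul, map_mul, map_inv, map_inv,
      mul_comm (lam ⟨_, ha'⟩) (lam ⟨_, hb'⟩), mul_inv_cancel_right, mul_inv_cancel,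
      Units.val_one]
  rw [hχ1, hχ]
  show (Nat.card U : ℂ)⁻¹ * ∑ x : G, extendByZero U (fun h => ((lam h : ℂˣ) : ℂ))
      (x⁻¹ * (a * b * a⁻¹ * b⁻¹) * x) = (U.index : ℂ)
  rw [Finset.sum_congr rfl (fun x _ => hterm x), Finset.sum_const, Finset.card_univ,
    nsmul_eq_mul, mul_one, ← Nat.card_eq_fintype_card, ← Subgroup.card_mul_index U]
  have hU0 : (Nat.card U : ℂ) ≠ 0 := by exact_mod_cast (Nat.card_pos (α := U)).ne'
  push_cast
  rw [← mul_assoc, inv_mul_cancel₀ hU0, one_mul]

end CaseII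

section Dichotomy
variable {G : Type u} [Group G] [Fintype G]

/-- **Two character degrees: the dichotomy.** If `cd(G) = {1, m}` with `m ≠ 1`, then either `G`
has an abelian normal subgroup of index `m` containing `G'`, or `G` is nilpotent. -/
theorem two_degrees_dichotomy (m : ℕ) (hm1 : m ≠ 1)
    (hcd : ∀ χ : IrrCharacter G, charDegree (χ : G → ℂ) = 1 ∨ charDegree (χ : G → ℂ) = m)
    (hm : ∃ χ : IrrCharacter G, charDegree (χ : G → ℂ) = m) :
    (∃ A : Subgroup G, A.Normal ∧ (∀ a ∈ A, ∀ b ∈ A, a * b = b * a) ∧ A.index = m ∧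
      commutator G ≤ A) ∨ Group.IsNilpotent G := by
  classical
  have hm0 : m ≠ 0 := by
    obtain ⟨χ, hχ⟩ := hm
    obtain ⟨n, hn0, hn⟩ := helper24.irr_apply_one χ.2
    rw [← hχ, helper24.charDegree_natCast _ n hn]
    exact hn0.ne'
  obtain ⟨N, hNn, hNab, hcop, -, hnil⟩ := exists_abelian_hall m hm0 hcd
  haveI := hNn
  by_cases h : ∃ lam : N →* ℂˣ, homStab N lam ≠ ⊤
  · obtain ⟨lam, hlam⟩ := h
    exact Or.inl (two_degrees_noninvariant m hm1 hcd N hNab hcop lam hlam)
  · right
    push Not at h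
    apply hnil
    intro n hn
    rw [Subgroup.mem_center_iff]
    intro g
    have h1 : g * n * g⁻¹ = n := by
      apply centralizes_of_hconj_trivial N hNab _ hn
      intro ν
      have h2 : g ∈ homStab N ν := (h ν) ▸ Subgroup.mem_top g
      exact h2
    have h3 := congrArg (· * g) h1
    simp only [inv_mul_cancel_right] at h3
    exact h3

end Dichotomy

end Cfsg.Agent.helper22
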