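import Mathlib
import Cfsg.Agent.Lib_helper22_TwoDeg
import Cfsg.Agent.Lib_helper22_Clifford
import Cfsg.Agent.Lib_helper24_CharValues
import Cfsg.Agent.Lib_helper24_CharCount
import Cfsg.Agent.Lib_helper22_Chief
import Cfsg.Agent.Lib_helper24_ItoMichler
import Cfsg.Agent.Lib_helper24_CharCentral
import Cfsg.Agent.Lib_helper1_ProdChar

set_option autoImplicit false
set_option linter.unusedSectionVars false
set_option linter.unusedVariables false
set_option linter.style.haveILetI false

/-!
Groups with character degrees `1` and `p` (Isaacs 12.11), part 1 (helper22):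
norm estimates, the centre modulo the kernel of a character, the easy direction.
-/

namespace Cfsg.Agent.helper22

open Cfsg
open scoped ComplexConjugate

universe u

section Sub

theorem char_eq_zero_of_one_eq_zero {H : Type u} [Group H] [Finite H] {f : H → ℂ}
    (hf : IsCharacter H f) (h1 : f 1 = 0) : f = 0 := by
  funext g
  have := helper24.char_norm_le hf g
  rw [h1, norm_zero] at this
  exact norm_le_zero_iff.mp this

/-- if an irreducible `ϑ` occurs in the character `Ψ`, then `Ψ - ϑ` is a character -/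
theorem isCharacter_sub_constituent {H : Type u} [Group H] [Fintype H] {Ψ ϑ : H → ℂ}
    (hΨ : IsCharacter H Ψ) (hϑ : IsIrrCharacter H ϑ) (hne : classInner Ψ ϑ ≠ 0) :
    IsCharacter H (Ψ - ϑ) := by
  apply helper12.isCharacter_of_classInner_nat
  · exact helper24.isClassFunction_sub (helper24.char_isClassFunction hΨ)
      (helper24.char_isClassFunction (helper24.irr_isCharacter hϑ))
  · intro η
    obtain ⟨a, ha⟩ := helper12.classInner_char_nat hΨ (helper24.irr_isCharacter η.2)
    rw [helper24.classInner_sub_left, ha, helper24.irr_classInner hϑ η.2]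
    by_cases h : ϑ = (η : H → ℂ)
    · rw [if_pos h]
      have ha0 : a ≠ 0 := by
        intro h0
        apply hne
        rw [h, ha, h0, Nat.cast_zero]
      refine ⟨a - 1, ?_⟩
      rw [Nat.cast_sub (Nat.one_le_iff_ne_zero.mpr ha0), Nat.cast_one]
    · rw [if_neg h]
      exact ⟨a, by rw [sub_zero]⟩

end Sub

section Norm
variable {G : Type u} [Group G] [Fintype G]

theorem irr_sum_mul_conj {χ : G → ℂ} (hχ : IsIrrCharacter G χ) :
    ∑ g : G, χ g * conj (χ g) = (Nat.card G : ℂ) := by
  have h1 := helper24.irr_classInner_self hχ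
  unfold classInner at h1
  have h0 : (Nat.card G : ℂ) ≠ 0 := by exact_mod_cast (Nat.card_pos (α := G)).ne'
  rw [inv_mul_eq_iff_eq_mul₀ h0, mul_one] at h1
  exact h1

/-- If `|χ(z)|² = d²` on a subgroup `Z`, then `|Z| d² ≤ |G|`, with equality if `χ` vanishes
off `Z`. -/
theorem card_mul_sq_le {χ : G → ℂ} (hχ : IsIrrCharacter G χ) (Z : Subgroup G) (d : ℕ)
    (hZ : ∀ z ∈ Z, χ z * conj (χ z) = (d : ℂ) ^ 2) :
    Nat.card Z * d ^ 2 ≤ Nat.card G ∧
      ((∀ g : G, g ∉ Z → χ g = 0) → Nat.card Z * d ^ 2 = Nat.card G) := by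
  classical
  haveI : Fintype Z := Fintype.ofFinite _
  have h1 := irr_sum_mul_conj hχ
  have h2 : ∑ g : G, Complex.normSq (χ g) = (Nat.card G : ℝ) := by
    have : ((∑ g : G, Complex.normSq (χ g) : ℝ) : ℂ) = ((Nat.card G : ℝ) : ℂ) := by
      rw [Complex.ofReal_sum]
      have h3 : ∀ g : G, ((Complex.normSq (χ g) : ℝ) : ℂ) = χ g * conj (χ g) := fun g =>
        (Complex.mul_conj (χ g)).symm
      rw [Finset.sum_congr rfl (fun g _ => h3 g), h1]
      simp
    exact_mod_cast this
  have h4 : ∑ g : G, (if g ∈ Z then Complex.normSq (χ g) else 0) =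
      (Nat.card Z : ℝ) * (d : ℝ) ^ 2 := by
    rw [← Finset.sum_filter, Finset.sum_subtype (Finset.univ.filter (fun y : G => y ∈ Z))
      (p := fun y => y ∈ Z) (by intro y; simp) (fun g => Complex.normSq (χ g))]
    have h5 : ∀ z : Z, Complex.normSq (χ z) = (d : ℝ) ^ 2 := by
      intro z
      have h6 := hZ z z.2
      rw [Complex.mul_conj] at h6
      exact_mod_cast h6
    rw [Finset.sum_congr rfl (fun z _ => h5 z), Finset.sum_const, Finset.card_univ,
      nsmul_eq_mul, Nat.card_eq_fintype_card]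
  constructor
  · have h3 : ∑ g : G, (if g ∈ Z then Complex.normSq (χ g) else 0) ≤
        ∑ g : G, Complex.normSq (χ g) := by
      apply Finset.sum_le_sum
      intro g _
      split_ifs
      · exact le_rfl
      · exact Complex.normSq_nonneg _
    rw [h4, h2] at h3
    exact_mod_cast h3
  · intro hv
    have h3 : ∑ g : G, (if g ∈ Z then Complex.normSq (χ g) else 0) =
        ∑ g : G, Complex.normSq (χ g) := by
      apply Finset.sum_congr rfl
      intro g _
      split_ifs with hg
      · rfl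
      · rw [hv g hg, map_zero]
    rw [h4, h2] at h3
    exact_mod_cast h3

end Norm

section Central
variable {G : Type u} [Group G] [Finite G]

/-- the preimage in `G` of the centre of `G / ker χ` -/
noncomputable def charCen {χ : G → ℂ} (hχ : IsCharacter G χ) : Subgroup G :=
  (Subgroup.center (G ⧸ helper24.charKer hχ)).comap (QuotientGroup.mk' (helper24.charKer hχ))

instance charCen_normal {χ : G → ℂ} (hχ : IsCharacter G χ) : (charCen hχ).Normal := by
  unfold charCen
  infer_instance

theorem mem_charCen {χ : G → ℂ} (hχ : IsCharacter G χ) (z : G) :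
    z ∈ charCen hχ ↔ ∀ g : G, z⁻¹ * g⁻¹ * z * g ∈ helper24.charKer hχ := by
  unfold charCen
  rw [Subgroup.mem_comap, Subgroup.mem_center_iff]
  constructor
  · intro h g
    have h1 := h (QuotientGroup.mk' _ g)
    rw [← QuotientGroup.eq_one_iff]
    simp only [QuotientGroup.mk'_apply] at h1
    rw [QuotientGroup.mk_mul, QuotientGroup.mk_mul, QuotientGroup.mk_mul, mul_assoc, ← h1,
      QuotientGroup.mk_inv, QuotientGroup.mk_inv]
    group
  · intro h k
    obtain ⟨g, rfl⟩ := QuotientGroup.mk_surjective k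
    have h1 := (QuotientGroup.eq_one_iff _).mpr (h g)
    simp only [QuotientGroup.mk'_apply]
    rw [QuotientGroup.mk_mul, QuotientGroup.mk_mul, QuotientGroup.mk_mul,
      QuotientGroup.mk_inv, QuotientGroup.mk_inv] at h1
    have h2 : (QuotientGroup.mk z : G ⧸ helper24.charKer hχ) * QuotientGroup.mk g =
        QuotientGroup.mk g * QuotientGroup.mk z *
          ((QuotientGroup.mk z)⁻¹ * (QuotientGroup.mk g)⁻¹ * QuotientGroup.mk z *
            QuotientGroup.mk g) := by group
    rw [h2, h1, mul_one]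

theorem charKer_le_charCen {χ : G → ℂ} (hχ : IsCharacter G χ) :
    helper24.charKer hχ ≤ charCen hχ := by
  intro z hz
  rw [mem_charCen]
  intro g
  have h1 : z⁻¹ * (g⁻¹ * z * g) ∈ helper24.charKer hχ :=
    Subgroup.mul_mem _ (Subgroup.inv_mem _ hz)
      (by
        have := (helper24.charKer_normal hχ).conj_mem z hz g⁻¹
        simpa using this)
  simpa [mul_assoc] using h1

theorem charCen_apply {χ : G → ℂ} (hχ : IsIrrCharacter G χ) {z : G}
    (hz : z ∈ charCen (helper24.irr_isCharacter hχ)) (g : G) :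
    χ (g * z) = χ z / χ 1 * χ g := by
  obtain ⟨ψ, hψ, hχψ⟩ := helper24.irr_deflation
    (helper24.charKer (helper24.irr_isCharacter hχ)) hχ
    (fun n hn => (helper24.mem_charKer _ n).mp hn)
  have hz' : (QuotientGroup.mk z : G ⧸ helper24.charKer (helper24.irr_isCharacter hχ)) ∈
      Subgroup.center _ := hz
  have h1 := helper24.irr_central_apply hψ _ hz' (QuotientGroup.mk g)
  rw [hχψ]
  simp only [Function.comp]
  rw [QuotientGroup.mk_mul]
  exact h1

theorem charCen_norm {χ : G → ℂ} (hχ : IsIrrCharacter G χ) {z : G}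
    (hz : z ∈ charCen (helper24.irr_isCharacter hχ)) :
    χ z * conj (χ z) = χ 1 * χ 1 := by
  have h1 := charCen_apply hχ hz z⁻¹
  rw [inv_mul_cancel, helper24.char_inv (helper24.irr_isCharacter hχ)] at h1
  have h0 := helper24.irr_apply_one_ne_zero hχ
  field_simp at h1
  rw [← h1, sq]

/-- `χ` vanishes off `Z(χ)` as soon as `G' ≤ Z(χ)` -/
theorem charCen_vanish {χ : G → ℂ} (hχ : IsIrrCharacter G χ)
    (hcomm : commutator G ≤ charCen (helper24.irr_isCharacter hχ)) {g : G}
    (hg : g ∉ charCen (helper24.irr_isCharacter hχ)) : χ g = 0 := by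
  rw [mem_charCen] at hg
  push Not at hg
  obtain ⟨h, hh⟩ := hg
  have hc : g⁻¹ * h⁻¹ * g * h ∈ charCen (helper24.irr_isCharacter hχ) := by
    apply hcomm
    rw [commutator_def]
    have := Subgroup.commutator_mem_commutator (Subgroup.mem_top g⁻¹) (Subgroup.mem_top h⁻¹)
    rw [commutatorElement_def] at this
    simpa using this
  have h1 := charCen_apply hχ hc g
  have h2 : g * (g⁻¹ * h⁻¹ * g * h) = h⁻¹ * g * h⁻¹⁻¹ := by group
  rw [h2, helper24.char_isClassFunction (helper24.irr_isCharacter hχ) g h⁻¹] at h1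
  rw [helper24.mem_charKer] at hh
  have h0 := helper24.irr_apply_one_ne_zero hχ
  by_contra hne
  apply hh
  have h3 : χ (g⁻¹ * h⁻¹ * g * h) / χ 1 = 1 := by
    have h4 : (χ (g⁻¹ * h⁻¹ * g * h) / χ 1 - 1) * χ g = 0 := by
      rw [sub_mul, one_mul, ← h1, sub_self]
    rcases mul_eq_zero.mp h4 with h5 | h5
    · exact sub_eq_zero.mp h5
    · exact absurd h5 hne
  field_simp at h3
  exact h3

theorem center_le_charCen {χ : G → ℂ} (hχ : IsCharacter G χ) :
    Subgroup.center G ≤ charCen hχ := by
  intro z hz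
  rw [mem_charCen]
  intro g
  have h1 : z⁻¹ * g⁻¹ * z * g = 1 := by
    have h2 := Subgroup.mem_center_iff.mp hz g⁻¹
    rw [mul_assoc z⁻¹, h2]
    group
  rw [h1]
  exact Subgroup.one_mem _

end Central

section Easy
variable {G : Type u} [Group G] [Finite G]

theorem exists_degree_ne_one (hG : ∃ a b : G, a * b ≠ b * a) :
    ∃ χ : IrrCharacter G, charDegree (χ : G → ℂ) ≠ 1 := by
  by_contra hcon
  push Not at hcon
  obtain ⟨a, b, hab⟩ := hG
  apply hab
  apply (S0187.result (G := G)).mpr
  intro χ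
  rw [← helper24.char_charDegree_cast (helper24.irr_isCharacter χ.2), hcon χ, Nat.cast_one]

/-- degrees `1`, `p` from an abelian normal subgroup of index `p` -/
theorem degP_of_abelian_index (hG : ∃ a b : G, a * b ≠ b * a) (p : ℕ) (hp : p.Prime)
    (A : Subgroup G) [A.Normal] (hA : ∀ a ∈ A, ∀ b ∈ A, a * b = b * a) (hidx : A.index = p) :
    (∀ χ : IrrCharacter G, charDegree (χ : G → ℂ) = 1 ∨ charDegree (χ : G → ℂ) = p) ∧
      ∃ χ : IrrCharacter G, charDegree (χ : G → ℂ) = p := by
  have h1 : ∀ χ : IrrCharacter G, charDegree (χ : G → ℂ) = 1 ∨ charDegree (χ : G → ℂ) = p := by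
    intro χ
    have h2 := helper24.ito_degree_dvd_index A hA χ
    rw [hidx] at h2
    exact (Nat.dvd_prime hp).mp h2
  refine ⟨h1, ?_⟩
  obtain ⟨χ, hχ⟩ := exists_degree_ne_one hG
  exact ⟨χ, (h1 χ).resolve_left hχ⟩

/-- degrees `1`, `p` from a centre of index `p³` -/
theorem degP_of_center_index (hG : ∃ a b : G, a * b ≠ b * a) (p : ℕ) (hp : p.Prime)
    (hidx : (Subgroup.center G).index = p ^ 3) :
    (∀ χ : IrrCharacter G, charDegree (χ : G → ℂ) = 1 ∨ charDegree (χ : G → ℂ) = p) ∧
      ∃ χ : IrrCharacter G, charDegree (χ : G → ℂ) = p := by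
  classical
  haveI := Fintype.ofFinite G
  have h1 : ∀ χ : IrrCharacter G, charDegree (χ : G → ℂ) = 1 ∨ charDegree (χ : G → ℂ) = p := by
    intro χ
    have hd := helper24.ito_degree_dvd_index (Subgroup.center G)
      (fun a ha b hb => Subgroup.mem_center_iff.mp hb a) χ
    rw [hidx] at hd
    obtain ⟨k, hk, hkd⟩ := (Nat.dvd_prime_pow hp).mp hd
    obtain ⟨d, hd0, hd1⟩ := helper24.irr_apply_one χ.2
    have hdeg : charDegree (χ : G → ℂ) = d := helper24.charDegree_natCast _ d hd1
    have hle := (card_mul_sq_le χ.2 (Subgroup.center G) d (fun z hz => by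
      rw [charCen_norm χ.2 (center_le_charCen _ hz), hd1, sq])).1
    have hc := Subgroup.card_mul_index (Subgroup.center G)
    rw [hidx] at hc
    rw [← hc] at hle
    have hpos : 0 < Nat.card (Subgroup.center G) := Nat.card_pos
    have h2 : d ^ 2 ≤ p ^ 3 := Nat.le_of_mul_le_mul_left hle hpos
    rw [← hdeg, hkd, ← pow_mul] at h2
    have h3 : k * 2 ≤ 3 := (Nat.pow_le_pow_iff_right hp.one_lt).mp h2
    have h4 : k = 0 ∨ k = 1 := by omega
    rcases h4 with h4 | h4
    · left
      rw [hkd, h4, pow_zero]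
    · right
      rw [hkd, h4, pow_one]
  refine ⟨h1, ?_⟩
  obtain ⟨χ, hχ⟩ := exists_degree_ne_one hG
  exact ⟨χ, (h1 χ).resolve_left hχ⟩

end Easy

section StepOne
variable {G : Type u} [Group G] [Fintype G]

theorem exists_max_kernel (p : ℕ) (hex : ∃ χ : IrrCharacter G, charDegree (χ : G → ℂ) = p) :
    ∃ χ₀ : IrrCharacter G, charDegree (χ₀ : G → ℂ) = p ∧
      ∀ χ : IrrCharacter G, charDegree (χ : G → ℂ) = p →
        Nat.card (helper24.charKer (helper24.irr_isCharacter χ.2)) ≤
          Nat.card (helper24.charKer (helper24.irr_isCharacter χ₀.2)) := by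
  obtain ⟨S, hS⟩ : ∃ S : Set ℕ, S = {n | ∃ χ : IrrCharacter G, charDegree (χ : G → ℂ) = p ∧
      Nat.card (helper24.charKer (helper24.irr_isCharacter χ.2)) = n} := ⟨_, rfl⟩
  have hiff : ∀ n, n ∈ S ↔ ∃ χ : IrrCharacter G, charDegree (χ : G → ℂ) = p ∧
      Nat.card (helper24.charKer (helper24.irr_isCharacter χ.2)) = n := by
    intro n
    rw [hS]
    rfl
  have hne : S.Nonempty := by
    obtain ⟨χ, hχ⟩ := hex
    exact ⟨_, (hiff _).mpr ⟨χ, hχ, rfl⟩⟩
  have hbdd : BddAbove S := by
    refine ⟨Nat.card G, ?_⟩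
    intro n hn
    obtain ⟨χ, -, rfl⟩ := (hiff n).mp hn
    exact Subgroup.card_le_card_group _
  have hmem := Nat.sSup_mem hne hbdd
  obtain ⟨χ₀, hχ₀, hcard⟩ := (hiff _).mp hmem
  refine ⟨χ₀, hχ₀, ?_⟩
  intro χ hχ
  rw [hcard]
  apply le_csSup hbdd
  exact (hiff _).mpr ⟨χ, hχ, rfl⟩

theorem commutator_le_of_quotient_comm (Z : Subgroup G) [Z.Normal]
    (h : ∀ a b : G ⧸ Z, a * b = b * a) : commutator G ≤ Z := by
  rw [commutator_def, Subgroup.commutator_le]
  intro g _ k _
  rw [← QuotientGroup.eq_one_iff, commutatorElement_def, QuotientGroup.mk_mul,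
    QuotientGroup.mk_mul, QuotientGroup.mk_mul, h (QuotientGroup.mk g) (QuotientGroup.mk k),
    QuotientGroup.mk_inv, QuotientGroup.mk_inv]
  group

/-- **Step 1.** In a nilpotent group with `cd(G) = {1, p}`, a character `χ₀` of degree `p` with
kernel of largest order vanishes off a normal subgroup `Z ≥ G'` of index `p²`, on which it has
absolute value `p`. -/
theorem exists_charCen_index [hnil : Group.IsNilpotent G] (p : ℕ) (hp : p.Prime)
    (hcd : ∀ χ : IrrCharacter G, charDegree (χ : G → ℂ) = 1 ∨ charDegree (χ : G → ℂ) = p)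
    (hex : ∃ χ : IrrCharacter G, charDegree (χ : G → ℂ) = p) :
    ∃ (χ₀ : IrrCharacter G) (Z : Subgroup G), Z.Normal ∧ commutator G ≤ Z ∧ Z.index = p ^ 2 ∧
      charDegree (χ₀ : G → ℂ) = p ∧
      (∀ g : G, g ∉ Z → (χ₀ : G → ℂ) g = 0) ∧
      (∀ z ∈ Z, (χ₀ : G → ℂ) z * conj ((χ₀ : G → ℂ) z) = (p : ℂ) ^ 2) := by
  classical
  obtain ⟨χ₀, hdeg, hmax⟩ := exists_max_kernel p hex
  have hc := helper24.irr_isCharacter χ₀.2
  have h1 : (χ₀ : G → ℂ) 1 = p := by
    rw [← helper24.char_charDegree_cast hc, hdeg]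
  have hnorm : ∀ z ∈ charCen hc, (χ₀ : G → ℂ) z * conj ((χ₀ : G → ℂ) z) = (p : ℂ) ^ 2 := by
    intro z hz
    rw [charCen_norm χ₀.2 hz, h1, sq]
  -- the kernel is a proper subgroup
  have hNtop : helper24.charKer hc ≠ ⊤ := by
    intro htop
    have h2 := (card_mul_sq_le χ₀.2 (helper24.charKer hc) p (fun z hz =>
      hnorm z (charKer_le_charCen hc hz))).1
    rw [htop, Subgroup.card_top] at h2
    have hpos : 0 < Nat.card G := Nat.card_pos
    have h3 : Nat.card G * p ^ 2 ≤ Nat.card G * 1 := by rw [mul_one]; exact h2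
    have h4 : p ^ 2 ≤ 1 := Nat.le_of_mul_le_mul_left h3 hpos
    have h5 : 2 ≤ p := hp.two_le
    nlinarith
  haveI : Nontrivial (G ⧸ helper24.charKer hc) := by
    rw [← not_subsingleton_iff_nontrivial]
    intro hsub
    exact hNtop (QuotientGroup.subgroup_eq_top_of_subsingleton _ hsub)
  -- the kernel is strictly smaller than `Z`
  have hlt : Nat.card (helper24.charKer hc) < Nat.card (charCen hc) := by
    by_contra hge
    push Not at hge
    have heq := Subgroup.eq_of_le_of_card_ge (charKer_le_charCen hc) hge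
    have hcen := Group.IsNilpotent.center_ne_bot (G := G ⧸ helper24.charKer hc)
    apply hcen
    rw [eq_bot_iff]
    intro k hk
    obtain ⟨z, rfl⟩ := QuotientGroup.mk_surjective k
    have hz : z ∈ charCen hc := hk
    rw [← heq] at hz
    rw [Subgroup.mem_bot]
    exact (QuotientGroup.eq_one_iff z).mpr hz
  -- `G / Z` is abelian
  have hcomm : commutator G ≤ charCen hc := by
    by_contra hncomm
    have hG' : ∃ a b : G ⧸ charCen hc, a * b ≠ b * a := by
      by_contra hcon
      push Not at hcon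
      exact hncomm (commutator_le_of_quotient_comm _ hcon)
    obtain ⟨ψ, hψ⟩ := exists_degree_ne_one hG'
    have hχirr := helper24.irr_inflation (charCen hc) ψ.2
    have hdegχ : charDegree ((ψ : G ⧸ charCen hc → ℂ) ∘
        (QuotientGroup.mk : G → G ⧸ charCen hc)) = charDegree (ψ : G ⧸ charCen hc → ℂ) := by
      unfold charDegree
      rfl
    have hp' : charDegree ((ψ : G ⧸ charCen hc → ℂ) ∘
        (QuotientGroup.mk : G → G ⧸ charCen hc)) = p := by
      rcases hcd ⟨_, hχirr⟩ with h | h
      · rw [hdegχ] at h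
        exact absurd h hψ
      · exact h
    have h2 := hmax ⟨_, hχirr⟩ hp'
    have h3 : charCen hc ≤ helper24.charKer (helper24.irr_isCharacter hχirr) := by
      intro z hz
      rw [helper24.mem_charKer]
      simp only [Function.comp]
      rw [(QuotientGroup.eq_one_iff z).mpr hz]
      rfl
    have h4 := Subgroup.card_le_of_le h3
    omega
  refine ⟨χ₀, charCen hc, inferInstance, hcomm, ?_, hdeg, ?_, hnorm⟩
  · have h2 := (card_mul_sq_le χ₀.2 (charCen hc) p hnorm).2
      (fun g hg => charCen_vanish χ₀.2 hcomm hg)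
    have h3 := Subgroup.card_mul_index (charCen hc)
    rw [← h2] at h3
    exact Nat.eq_of_mul_eq_mul_left Nat.card_pos h3
  · intro g hg
    exact charCen_vanish χ₀.2 hcomm hg

end StepOne

end Cfsg.Agent.helper22
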