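import Mathlib
import Cfsg.Agent.Lib_helper22_DegP1

set_option autoImplicit false
set_option linter.unusedSectionVars false
set_option linter.unusedVariables false
set_option linter.style.haveILetI false

/-!
Groups with character degrees `1` and `p` (Isaacs 12.11), part 2 (helper22):
the subgroup `Z` is abelian, stabilizers of its linear characters, the centralizer of `Z`.
-/

namespace Cfsg.Agent.helper22

open Cfsg
open scoped ComplexConjugate

universe u

section StepTwo
variable {G : Type u} [Group G] [Fintype G]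

theorem eq_of_le_of_index_eq {H K : Subgroup G} (h : H ≤ K) (hi : H.index = K.index) : H = K := by
  apply le_antisymm h
  rw [← Subgroup.relIndex_eq_one]
  have h1 := Subgroup.relIndex_mul_index h
  rw [hi] at h1
  have h2 : K.index ≠ 0 := Subgroup.index_ne_zero_of_finite
  have h3 : H.relIndex K * K.index = 1 * K.index := by rw [one_mul]; exact h1
  exact Nat.eq_of_mul_eq_mul_right (Nat.pos_of_ne_zero h2) h3

/-- **Step 2.** The subgroup `Z` off which `χ₀` vanishes is abelian. -/
theorem abelian_of_vanish (p : ℕ) (hp : p.Prime)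
    (hcd : ∀ χ : IrrCharacter G, charDegree (χ : G → ℂ) = 1 ∨ charDegree (χ : G → ℂ) = p)
    (χ₀ : IrrCharacter G) (Z : Subgroup G) [hZ : Z.Normal] (hidx : Z.index = p ^ 2)
    (hdeg : charDegree (χ₀ : G → ℂ) = p)
    (hv : ∀ g : G, g ∉ Z → (χ₀ : G → ℂ) g = 0)
    (hn : ∀ z ∈ Z, (χ₀ : G → ℂ) z * conj ((χ₀ : G → ℂ) z) = (p : ℂ) ^ 2) :
    ∀ a ∈ Z, ∀ b ∈ Z, a * b = b * a := by
  classical
  haveI : Fintype Z := Fintype.ofFinite _
  have hp0 : (p : ℂ) ≠ 0 := by exact_mod_cast hp.ne_zero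
  have hab : ∀ a b : Z, a * b = b * a := by
    apply (S0187.result (G := Z)).mpr
    intro ψ
    by_contra hψ1
    have hψdeg : charDegree (ψ : Z → ℂ) ≠ 1 := by
      intro h
      apply hψ1
      rw [← helper24.char_charDegree_cast (helper24.irr_isCharacter ψ.2), h, Nat.cast_one]
    obtain ⟨X, hX, hXψ⟩ := helper12.exists_irr_over Z ψ.2
    have hXψ' : classInner (helper5.res Z X) (ψ : Z → ℂ) ≠ 0 := hXψ
    obtain ⟨T, hT⟩ : ∃ T : Subgroup G, T = inertia Z ψ := ⟨_, rfl⟩
    haveI : Fintype T := Fintype.ofFinite _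
    obtain ⟨ψ', hψ', -, ⟨k, hk0, hk⟩, hdegX⟩ := clifford_degree Z hX ψ hXψ' T hT
    have h1 : ψ' 1 = (k : ℂ) * (ψ : Z → ℂ) 1 := by
      have h2 := hk 1
      have h3 : (⟨(((1 : Z.subgroupOf T) : T) : G), (1 : Z.subgroupOf T).2⟩ : Z) = 1 := rfl
      rw [h3] at h2
      exact h2
    have h2 : charDegree ψ' = k * charDegree (ψ : Z → ℂ) := by
      have h3 := helper24.char_charDegree_cast (helper24.irr_isCharacter hψ')
      have h4 := helper24.char_charDegree_cast (helper24.irr_isCharacter ψ.2)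
      rw [h1, ← h4] at h3
      exact_mod_cast h3
    have hdvd : charDegree (ψ : Z → ℂ) ∣ charDegree X := by
      rw [hdegX, h2]
      exact Dvd.dvd.mul_left (Dvd.intro_left k rfl) _
    have hXp : charDegree X = p := by
      rcases hcd ⟨X, hX⟩ with h | h
      · rw [h] at hdvd
        exact absurd (Nat.dvd_one.mp hdvd) hψdeg
      · exact h
    have hψp : charDegree (ψ : Z → ℂ) = p := by
      rw [hXp] at hdvd
      exact ((Nat.dvd_prime hp).mp hdvd).resolve_left hψdeg
    -- `X` restricts to `ψ`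
    have hsub := isCharacter_sub_constituent
      (helper5.isCharacter_res Z (helper24.irr_isCharacter hX)) ψ.2 hXψ'
    have hzero : helper5.res Z X - (ψ : Z → ℂ) = 0 := by
      apply char_eq_zero_of_one_eq_zero hsub
      rw [Pi.sub_apply, helper5.res_apply]
      have h3 := helper24.char_charDegree_cast (helper24.irr_isCharacter hX)
      have h4 := helper24.char_charDegree_cast (helper24.irr_isCharacter ψ.2)
      rw [hXp] at h3
      rw [hψp] at h4
      have h5 : X ((1 : Z) : G) = X 1 := rfl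
      rw [h5, ← h3, ← h4, sub_self]
    have hres : ∀ z : Z, X z = (ψ : Z → ℂ) z := by
      intro z
      have h3 := congrFun hzero z
      rw [Pi.sub_apply, helper5.res_apply, Pi.zero_apply] at h3
      exact sub_eq_zero.mp h3
    -- the product character
    have hΦ := helper1.isCharacter_mul (helper24.irr_isCharacter χ₀.2)
      (helper24.irr_isCharacter hX)
    have hΦv : ∀ g : G, g ∉ Z → ((χ₀ : G → ℂ) * X) g = 0 := by
      intro g hg
      rw [Pi.mul_apply, hv g hg, zero_mul]
    have h3 := norm_res_of_vanish Z hΦv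
    have h4 : classInner (helper5.res Z ((χ₀ : G → ℂ) * X)) (helper5.res Z ((χ₀ : G → ℂ) * X)) =
        (p : ℂ) ^ 2 := by
      have h5 := helper24.irr_classInner_self ψ.2
      unfold classInner at h5 ⊢
      have h6 : ∀ z : Z, helper5.res Z ((χ₀ : G → ℂ) * X) z *
          conj (helper5.res Z ((χ₀ : G → ℂ) * X) z) =
          (p : ℂ) ^ 2 * ((ψ : Z → ℂ) z * conj ((ψ : Z → ℂ) z)) := by
        intro z
        rw [helper5.res_apply, Pi.mul_apply, map_mul, hres z, ← hn z z.2]
        ring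
      rw [Finset.sum_congr rfl (fun z _ => h6 z), ← Finset.mul_sum, mul_left_comm, h5, mul_one]
    rw [h4, hidx] at h3
    have h5 : classInner ((χ₀ : G → ℂ) * X) ((χ₀ : G → ℂ) * X) = 1 := by
      have h6 : ((p ^ 2 : ℕ) : ℂ) = (p : ℂ) ^ 2 := by push_cast; rfl
      rw [h6] at h3
      have h7 : (p : ℂ) ^ 2 ≠ 0 := pow_ne_zero 2 hp0
      have h8 : (p : ℂ) ^ 2 * 1 = (p : ℂ) ^ 2 * classInner ((χ₀ : G → ℂ) * X) ((χ₀ : G → ℂ) * X) := by
        rw [mul_one]; exact h3
      exact (mul_left_cancel₀ h7 h8).symm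
    have hΦirr := helper12.isIrrCharacter_of_classInner_self hΦ h5
    have hΦdeg : charDegree ((χ₀ : G → ℂ) * X) = p * p := by
      apply helper24.charDegree_natCast
      rw [Pi.mul_apply, ← helper24.char_charDegree_cast (helper24.irr_isCharacter χ₀.2),
        ← helper24.char_charDegree_cast (helper24.irr_isCharacter hX), hdeg, hXp]
      push_cast
      rfl
    have hp2 : 2 ≤ p := hp.two_le
    rcases hcd ⟨_, hΦirr⟩ with h | h
    · rw [hΦdeg] at h
      nlinarith
    · rw [hΦdeg] at h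
      nlinarith
  intro a ha b hb
  have := hab ⟨a, ha⟩ ⟨b, hb⟩
  exact congrArg Subtype.val this

/-- stabilizers of linear characters of `Z` are strictly bigger than `Z` -/
theorem homStab_ne_of_degrees (p : ℕ) (hp : p.Prime)
    (hcd : ∀ χ : IrrCharacter G, charDegree (χ : G → ℂ) = 1 ∨ charDegree (χ : G → ℂ) = p)
    (Z : Subgroup G) [hZ : Z.Normal] (hidx : Z.index = p ^ 2) (μ : Z →* ℂˣ) :
    homStab Z μ ≠ Z := by
  classical
  haveI : Fintype Z := Fintype.ofFinite _
  intro hstab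
  obtain ⟨θ, hθ⟩ : ∃ θ : IrrCharacter Z, (θ : Z → ℂ) = fun n => ((μ n : ℂˣ) : ℂ) :=
    ⟨⟨_, hom_isIrrCharacter μ⟩, rfl⟩
  have hin : inertia Z θ = Z := by
    have h0 : inertia Z θ = homStab Z μ := by
      ext g
      rw [mem_inertia, mem_homStab_iff_conjFunN, hθ]
    rw [h0, hstab]
  obtain ⟨X, hX, hXθ⟩ := helper12.exists_irr_over Z θ.2
  obtain ⟨e, he⟩ := helper12.classInner_char_nat
    (helper5.isCharacter_res Z (helper24.irr_isCharacter hX)) (helper24.irr_isCharacter θ.2)
  have he0 : e ≠ 0 := by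
    intro h0
    apply hXθ
    have : classInner (helper5.res Z X) (θ : Z → ℂ) = 0 := by rw [he, h0, Nat.cast_zero]
    exact this
  have h1 := degree_ge_orbit Z hX θ e he
  rw [hin, hidx] at h1
  have hθdeg : charDegree (θ : Z → ℂ) = 1 := by
    apply helper24.charDegree_natCast
    rw [hθ]
    simp
  rw [hθdeg, mul_one] at h1
  have hp2 : 2 ≤ p := hp.two_le
  have he1 : 1 ≤ e := Nat.one_le_iff_ne_zero.mpr he0
  rcases hcd ⟨X, hX⟩ with h | h
  · rw [h] at h1
    nlinarith
  · rw [h] at h1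
    nlinarith

end StepTwo

section StepThree
variable {G : Type u} [Group G] [Fintype G]

/-- **Step 3.** If some element outside `Z` centralizes `Z`, there is an abelian normal subgroup
of index `p`. -/
theorem exists_abelian_of_centralizer (p : ℕ) (hp : p.Prime) (hG : ∃ a b : G, a * b ≠ b * a)
    (Z : Subgroup G) [hZ : Z.Normal] (hZab : ∀ a ∈ Z, ∀ b ∈ Z, a * b = b * a)
    (hidx : Z.index = p ^ 2) (hcomm : commutator G ≤ Z) (x : G) (hxZ : x ∉ Z)
    (hx : ∀ z ∈ Z, x * z = z * x) :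
    ∃ A : Subgroup G, A.Normal ∧ (∀ a ∈ A, ∀ b ∈ A, a * b = b * a) ∧ A.index = p := by
  obtain ⟨A, hA⟩ : ∃ A : Subgroup G, A = Z ⊔ Subgroup.zpowers x := ⟨_, rfl⟩
  have hZA : Z ≤ A := hA ▸ le_sup_left
  have hxA : x ∈ A := by
    rw [hA]
    exact (le_sup_right : Subgroup.zpowers x ≤ _) (Subgroup.mem_zpowers x)
  have hdecomp : ∀ a ∈ A, ∃ z ∈ Z, ∃ y ∈ Subgroup.zpowers x, a = z * y := by
    intro a ha
    have ha' : a ∈ ((Z ⊔ Subgroup.zpowers x : Subgroup G) : Set G) := by
      rw [← hA]; exact ha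
    rw [Subgroup.normal_mul] at ha'
    obtain ⟨z, hz, y, hy, rfl⟩ := Set.mem_mul.mp ha'
    exact ⟨z, hz, y, hy, rfl⟩
  have hyz : ∀ y ∈ Subgroup.zpowers x, ∀ z ∈ Z, Commute y z := by
    intro y hy z hz
    obtain ⟨k, rfl⟩ := Subgroup.mem_zpowers_iff.mp hy
    exact Commute.zpow_left (hx z hz) k
  have hyy : ∀ y ∈ Subgroup.zpowers x, ∀ y' ∈ Subgroup.zpowers x, Commute y y' := by
    intro y hy y' hy'
    obtain ⟨k, rfl⟩ := Subgroup.mem_zpowers_iff.mp hy
    obtain ⟨k', rfl⟩ := Subgroup.mem_zpowers_iff.mp hy'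
    exact Commute.zpow_zpow (Commute.refl x) k k'
  have hAab : ∀ a ∈ A, ∀ b ∈ A, a * b = b * a := by
    intro a ha b hb
    obtain ⟨z, hz, y, hy, rfl⟩ := hdecomp a ha
    obtain ⟨z', hz', y', hy', rfl⟩ := hdecomp b hb
    have c1 : Commute z z' := hZab z hz z' hz'
    have c2 : Commute z y' := (hyz y' hy' z hz).symm
    have c3 : Commute y z' := hyz y hy z' hz'
    have c4 : Commute y y' := hyy y hy y' hy'
    exact Commute.mul_left (Commute.mul_right c1 c2) (Commute.mul_right c3 c4)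
  have hAn : A.Normal := by
    constructor
    intro t ht g
    have h1 : g * t * g⁻¹ * t⁻¹ ∈ commutator G := by
      rw [commutator_def]
      exact Subgroup.commutator_mem_commutator (Subgroup.mem_top g) (Subgroup.mem_top t)
    have h2 := A.mul_mem (hZA (hcomm h1)) ht
    rwa [inv_mul_cancel_right] at h2
  refine ⟨A, hAn, hAab, ?_⟩
  have hdvd : A.index ∣ p ^ 2 := hidx ▸ Subgroup.index_dvd_of_le hZA
  obtain ⟨k, hk, hkd⟩ := (Nat.dvd_prime_pow hp).mp hdvd
  have hk0 : k ≠ 0 := by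
    intro h0
    rw [h0, pow_zero, Subgroup.index_eq_one] at hkd
    obtain ⟨a, b, hab⟩ := hG
    apply hab
    exact hAab a (hkd ▸ Subgroup.mem_top a) b (hkd ▸ Subgroup.mem_top b)
  have hk2 : k ≠ 2 := by
    intro h2
    rw [h2, ← hidx] at hkd
    have := eq_of_le_of_index_eq hZA hkd.symm
    rw [this] at hxZ
    exact hxZ hxA
  have hk1 : k = 1 := by omega
  rw [hkd, hk1, pow_one]

end StepThree

end Cfsg.Agent.helper22
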