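import Mathlib
import Cfsg.Agent.Lib_helper22_DegP2

set_option autoImplicit false
set_option linter.unusedSectionVars false
set_option linter.unusedVariables false
set_option linter.style.haveILetI false

/-!
Groups with character degrees `1` and `p` (Isaacs 12.11), part 3 (helper22):
the action on the linear characters of the self-centralizing abelian subgroup `Z` of index `p²`
forces `|Z : Z(G)| = p`.
-/

namespace Cfsg.Agent.helper22

open Cfsg
open scoped ComplexConjugate

universe u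

section Indices
variable {G : Type u} [Group G] [Fintype G]

theorem normal_of_commutator_le {H : Subgroup G} (h : commutator G ≤ H) : H.Normal := by
  constructor
  intro t ht g
  have h1 : g * t * g⁻¹ * t⁻¹ ∈ commutator G := by
    rw [commutator_def]
    exact Subgroup.commutator_mem_commutator (Subgroup.mem_top g) (Subgroup.mem_top t)
  have h2 := H.mul_mem (h h1) ht
  rwa [inv_mul_cancel_right] at h2

theorem index_of_between (p : ℕ) (hp : p.Prime) {Z S : Subgroup G} (hidx : Z.index = p ^ 2)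
    (hZS : Z ≤ S) (h1 : S ≠ Z) (h2 : S ≠ ⊤) : S.index = p := by
  have hdvd : S.index ∣ p ^ 2 := hidx ▸ Subgroup.index_dvd_of_le hZS
  obtain ⟨k, hk, hkd⟩ := (Nat.dvd_prime_pow hp).mp hdvd
  have hk0 : k ≠ 0 := by
    intro h0
    rw [h0, pow_zero, Subgroup.index_eq_one] at hkd
    exact h2 hkd
  have hk2 : k ≠ 2 := by
    intro h
    rw [h, ← hidx] at hkd
    exact h1 (eq_of_le_of_index_eq hZS hkd.symm).symm
  have hk1 : k = 1 := by omega
  rw [hkd, hk1, pow_one]

theorem eq_or_eq_top_of_index_prime (p : ℕ) (hp : p.Prime) {S T : Subgroup G} (hS : S.index = p)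
    (hST : S ≤ T) : T = S ∨ T = ⊤ := by
  have hdvd : T.index ∣ p := hS ▸ Subgroup.index_dvd_of_le hST
  rcases (Nat.dvd_prime hp).mp hdvd with h | h
  · right
    exact Subgroup.index_eq_one.mp h
  · left
    rw [← hS] at h
    exact (eq_of_le_of_index_eq hST h.symm).symm

theorem eq_or_eq_of_between (p : ℕ) (hp : p.Prime) {Z T S : Subgroup G} (hidx : Z.index = p ^ 2)
    (hS : S.index = p) (hZT : Z ≤ T) (hTS : T ≤ S) : T = Z ∨ T = S := by
  have hdvd : T.index ∣ p ^ 2 := hidx ▸ Subgroup.index_dvd_of_le hZT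
  have hdvd' : p ∣ T.index := hS ▸ Subgroup.index_dvd_of_le hTS
  obtain ⟨k, hk, hkd⟩ := (Nat.dvd_prime_pow hp).mp hdvd
  have hk0 : k ≠ 0 := by
    intro h0
    rw [hkd, h0, pow_zero] at hdvd'
    exact hp.one_lt.ne' (Nat.dvd_one.mp hdvd')
  have hk12 : k = 1 ∨ k = 2 := by omega
  rcases hk12 with h | h
  · right
    rw [h, pow_one, ← hS] at hkd
    exact eq_of_le_of_index_eq hTS hkd
  · left
    rw [h, ← hidx] at hkd
    exact (eq_of_le_of_index_eq hZT hkd.symm).symm

end Indices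

section HomAlg
variable {A : Type u} [Group A]

theorem hom_mul_one' (μ : A →* ℂˣ) : μ * 1 = μ := by
  apply MonoidHom.ext
  intro z
  rw [MonoidHom.mul_apply, MonoidHom.one_apply, mul_one]

theorem hom_one_mul' (μ : A →* ℂˣ) : 1 * μ = μ := by
  apply MonoidHom.ext
  intro z
  rw [MonoidHom.mul_apply, MonoidHom.one_apply, one_mul]

theorem hom_pow_zero' (σ : A →* ℂˣ) : σ ^ 0 = 1 := by
  apply MonoidHom.ext
  intro z
  rw [MonoidHom.pow_apply, pow_zero, MonoidHom.one_apply]

theorem hom_pow_succ' (σ : A →* ℂˣ) (n : ℕ) : σ ^ (n + 1) = σ * σ ^ n := by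
  apply MonoidHom.ext
  intro z
  rw [MonoidHom.pow_apply, MonoidHom.mul_apply, MonoidHom.pow_apply, pow_succ']

theorem hom_mul_eq_left' {μ ρ : A →* ℂˣ} (h : μ * ρ = μ) : ρ = 1 := by
  apply MonoidHom.ext
  intro z
  have h1 := DFunLike.congr_fun h z
  rw [MonoidHom.mul_apply] at h1
  rw [MonoidHom.one_apply]
  exact mul_eq_left.mp h1

theorem hom_quot_spec (x μ ρ : A →* ℂˣ) (hρ : ρ = x * μ⁻¹) : x = μ * ρ := by
  rw [hρ]
  apply MonoidHom.ext
  intro z
  simp only [MonoidHom.mul_apply, MonoidHom.inv_apply]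
  rw [mul_comm (x z), ← mul_assoc, mul_inv_cancel, one_mul]

theorem hom_quot_mul (x y μa μb ρ σ : A →* ℂˣ) (hρ : ρ = x * μa⁻¹) (hσ : σ = y * μb⁻¹)
    (h : x * y = μa * μb) : ρ * σ = 1 := by
  rw [hρ, hσ]
  apply MonoidHom.ext
  intro z
  have h1 := DFunLike.congr_fun h z
  simp only [MonoidHom.mul_apply] at h1
  simp only [MonoidHom.mul_apply, MonoidHom.inv_apply, MonoidHom.one_apply]
  rw [mul_mul_mul_comm, h1, ← mul_inv, mul_inv_cancel]

end HomAlg

section HomAct
variable {G : Type u} [Group G] [Fintype G] (Z : Subgroup G) [hZ : Z.Normal]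

theorem hconj_comm (hcomm : commutator G ≤ Z) (g h : G) (ν : Z →* ℂˣ) :
    hconj Z g (hconj Z h ν) = hconj Z h (hconj Z g ν) := by
  have hc : (g * h)⁻¹ * (h * g) ∈ Z := by
    apply hcomm
    rw [commutator_def]
    have := Subgroup.commutator_mem_commutator (Subgroup.mem_top h⁻¹) (Subgroup.mem_top g⁻¹)
    rw [commutatorElement_def] at this
    simpa [mul_assoc] using this
  rw [← hconj_mul, ← hconj_mul]
  have h1 : h * g = g * h * ((g * h)⁻¹ * (h * g)) := by group
  rw [h1, hconj_mul]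
  exact (mem_homStab Z).mp (le_homStab Z _ hc)

theorem hconj_mul' (g : G) (μ ν : Z →* ℂˣ) :
    hconj Z g (μ * ν) = hconj Z g μ * hconj Z g ν := map_mul _ _ _

theorem hconj_pow' (g : G) (σ : Z →* ℂˣ) (n : ℕ) : hconj Z g (σ ^ n) = (hconj Z g σ) ^ n := by
  apply MonoidHom.ext
  intro z
  rw [hconj_apply, MonoidHom.pow_apply, MonoidHom.pow_apply, hconj_apply]

theorem hconj_one' (g : G) : hconj Z g (1 : Z →* ℂˣ) = 1 := by
  apply MonoidHom.ext
  intro z
  rw [hconj_apply, MonoidHom.one_apply, MonoidHom.one_apply]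

theorem hconj_pow_of_step (μ σ : Z →* ℂˣ) (w : G) (hσ : hconj Z w σ = σ)
    (hw : hconj Z w μ = μ * σ) (n : ℕ) : hconj Z (w ^ n) μ = μ * σ ^ n := by
  induction n with
  | zero => rw [pow_zero, hconj_one, hom_pow_zero', hom_mul_one']
  | succ n ih =>
    rw [pow_succ, hconj_mul, ih, hconj_mul', hconj_pow', hσ, hw, hom_pow_succ']
    exact mul_assoc μ σ (σ ^ n)

theorem hconj_all_of_step (p : ℕ) (hp : p.Prime) (hcomm : commutator G ≤ Z) (μ σ : Z →* ℂˣ)
    (w : G) (hσ : hconj Z w σ = σ) (hw : hconj Z w μ = μ * σ)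
    (hidx : (homStab Z μ).index = p) (hwS : w ∉ homStab Z μ) (g : G) :
    ∃ n : ℕ, hconj Z g μ = μ * σ ^ n := by
  haveI hSn : (homStab Z μ).Normal :=
    normal_of_commutator_le (le_trans hcomm (le_homStab Z μ))
  have htop : homStab Z μ ⊔ Subgroup.zpowers w = ⊤ := by
    rcases eq_or_eq_top_of_index_prime p hp hidx
      (le_sup_left : homStab Z μ ≤ homStab Z μ ⊔ Subgroup.zpowers w) with h | h
    · exfalso
      apply hwS
      rw [← h]
      exact (le_sup_right : Subgroup.zpowers w ≤ _) (Subgroup.mem_zpowers w)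
    · exact h
  have hg : g ∈ ((homStab Z μ ⊔ Subgroup.zpowers w : Subgroup G) : Set G) := by
    rw [htop]; trivial
  rw [Subgroup.normal_mul] at hg
  obtain ⟨s, hs, y, hy, rfl⟩ := Set.mem_mul.mp hg
  have hy' : y ∈ Submonoid.powers w := mem_powers_iff_mem_zpowers.mpr hy
  obtain ⟨n, rfl⟩ := (Submonoid.mem_powers_iff _ _).mp hy'
  refine ⟨n, ?_⟩
  rw [hconj_mul, (mem_homStab Z).mp hs]
  exact hconj_pow_of_step Z μ σ w hσ hw n

/-- **The pair lemma.** Two non-invariant linear characters of `Z` with different stabilizers move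
inside cosets of one cyclic group of invariant characters. -/
theorem pair_lemma (p : ℕ) (hp : p.Prime) (hcomm : commutator G ≤ Z) (hidx : Z.index = p ^ 2)
    (hstab : ∀ μ : Z →* ℂˣ, homStab Z μ ≠ Z) (μa μb : Z →* ℂˣ)
    (ha : homStab Z μa ≠ ⊤) (hb : homStab Z μb ≠ ⊤) (hab : homStab Z μa ≠ homStab Z μb) :
    ∃ (w : G) (ρ σ : Z →* ℂˣ), hconj Z w μa = μa * ρ ∧ ρ * σ = 1 ∧ ρ ^ p = 1 ∧
      (∀ g : G, ∃ n : ℕ, hconj Z g μa = μa * ρ ^ n) ∧
      (∀ g : G, ∃ n : ℕ, hconj Z g μb = μb * σ ^ n) := by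
  have hSa : (homStab Z μa).index = p :=
    index_of_between p hp hidx (le_homStab Z μa) (hstab μa) ha
  have hSb : (homStab Z μb).index = p :=
    index_of_between p hp hidx (le_homStab Z μb) (hstab μb) hb
  -- an element stabilizing the product
  obtain ⟨w, hwc, hwZ⟩ : ∃ w : G, w ∈ homStab Z (μa * μb) ∧ w ∉ Z := by
    by_contra hcon
    push Not at hcon
    exact hstab (μa * μb) (le_antisymm (fun w hw => hcon w hw) (le_homStab Z _))
  rw [mem_homStab, hconj_mul'] at hwc
  obtain ⟨ρ, hρ⟩ : ∃ ρ : Z →* ℂˣ, ρ = hconj Z w μa * μa⁻¹ := ⟨_, rfl⟩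
  obtain ⟨σ, hσ⟩ : ∃ σ : Z →* ℂˣ, σ = hconj Z w μb * μb⁻¹ := ⟨_, rfl⟩
  have hwa : hconj Z w μa = μa * ρ := hom_quot_spec _ _ _ hρ
  have hwb : hconj Z w μb = μb * σ := hom_quot_spec _ _ _ hσ
  have hρσ : ρ * σ = 1 := hom_quot_mul _ _ _ _ _ _ hρ hσ hwc
  -- invariance of ρ and σ under the stabilizers
  have hinva : ∀ g ∈ homStab Z μa, hconj Z g ρ = ρ := by
    intro g hg
    have h1 : hconj Z g (hconj Z w μa) = hconj Z g μa * hconj Z g ρ := by
      rw [hwa, hconj_mul']
    rw [hconj_comm Z hcomm, (mem_homStab Z).mp hg, hwa] at h1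
    exact (mul_left_cancel h1).symm
  have hinvb' : ∀ g ∈ homStab Z μb, hconj Z g σ = σ := by
    intro g hg
    have h1 : hconj Z g (hconj Z w μb) = hconj Z g μb * hconj Z g σ := by
      rw [hwb, hconj_mul']
    rw [hconj_comm Z hcomm, (mem_homStab Z).mp hg, hwb] at h1
    exact (mul_left_cancel h1).symm
  have hinvb : ∀ g ∈ homStab Z μb, hconj Z g ρ = ρ := by
    intro g hg
    have h1 : hconj Z g (ρ * σ) = 1 := by rw [hρσ, hconj_one']
    rw [hconj_mul', hinvb' g hg, ← hρσ] at h1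
    exact mul_right_cancel h1
  have hsup : homStab Z μa ⊔ homStab Z μb = ⊤ := by
    rcases eq_or_eq_top_of_index_prime p hp hSa
      (le_sup_left : homStab Z μa ≤ homStab Z μa ⊔ homStab Z μb) with h | h
    · exfalso
      have h1 : homStab Z μb ≤ homStab Z μa := h ▸ le_sup_right
      rcases eq_or_eq_top_of_index_prime p hp hSb h1 with h2 | h2
      · exact hab h2
      · exact ha h2
    · exact h
  have hinv : ∀ g : G, hconj Z g ρ = ρ := by
    intro g
    have h1 : homStab Z μa ⊔ homStab Z μb ≤ homStab Z ρ :=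
      sup_le (fun g hg => hinva g hg) (fun g hg => hinvb g hg)
    rw [hsup] at h1
    exact h1 (Subgroup.mem_top g)
  have hinv' : ∀ g : G, hconj Z g σ = σ := by
    intro g
    have h1 : hconj Z g (ρ * σ) = 1 := by rw [hρσ, hconj_one']
    rw [hconj_mul', hinv g, ← hρσ] at h1
    exact mul_left_cancel h1
  -- `w` is in neither stabilizer
  have hmeet : homStab Z μa ⊓ homStab Z μb = Z := by
    rcases eq_or_eq_of_between p hp hidx hSa
      (le_inf (le_homStab Z μa) (le_homStab Z μb) : Z ≤ homStab Z μa ⊓ homStab Z μb)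
      inf_le_left with h | h
    · exact h
    · exfalso
      have h1 : homStab Z μa ≤ homStab Z μb := h ▸ inf_le_right
      rcases eq_or_eq_top_of_index_prime p hp hSa h1 with h2 | h2
      · exact hab h2.symm
      · exact hb h2
  have hwa' : w ∉ homStab Z μa := by
    intro hw
    have h1 : ρ = 1 := by
      have h2 := (mem_homStab Z).mp hw
      rw [hwa] at h2
      exact hom_mul_eq_left' h2
    have h3 : w ∈ homStab Z μb := by
      have h4 : σ = 1 := by
        rw [h1, hom_one_mul'] at hρσ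
        exact hρσ
      rw [mem_homStab, hwb, h4, hom_mul_one']
    have h4 : w ∈ homStab Z μa ⊓ homStab Z μb := ⟨hw, h3⟩
    rw [hmeet] at h4
    exact hwZ h4
  have hwb' : w ∉ homStab Z μb := by
    intro hw
    have h1 : σ = 1 := by
      have h2 := (mem_homStab Z).mp hw
      rw [hwb] at h2
      exact hom_mul_eq_left' h2
    apply hwa'
    have h4 : ρ = 1 := by
      rw [h1, hom_mul_one'] at hρσ
      exact hρσ
    rw [mem_homStab, hwa, h4, hom_mul_one']
  refine ⟨w, ρ, σ, hwa, hρσ, ?_, ?_, ?_⟩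
  · haveI hSn : (homStab Z μa).Normal :=
      normal_of_commutator_le (le_trans hcomm (le_homStab Z μa))
    have h1 := Subgroup.pow_index_mem (homStab Z μa) w
    rw [hSa, mem_homStab, hconj_pow_of_step Z μa ρ w (hinv w) hwa p] at h1
    exact hom_mul_eq_left' h1
  · intro g
    exact hconj_all_of_step Z p hp hcomm μa ρ w (hinv w) hwa hSa hwa' g
  · intro g
    exact hconj_all_of_step Z p hp hcomm μb σ w (hinv' w) hwb hSb hwb' g

theorem conj_eq_of_hom_eq (hZab : ∀ a ∈ Z, ∀ b ∈ Z, a * b = b * a) {g n : G} (hn : n ∈ Z)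
    (h : ∀ ν : Z →* ℂˣ, hconj Z g ν ⟨n, hn⟩ = ν ⟨n, hn⟩) : g * n * g⁻¹ = n := by
  have h1 : (⟨g * n * g⁻¹, hZ.conj_mem n hn g⟩ : Z) * (⟨n, hn⟩ : Z)⁻¹ = 1 := by
    apply eq_one_of_forall_hom (A := Z)
    · intro a b
      apply Subtype.ext
      exact hZab a a.2 b b.2
    · intro ν
      have h2 := h ν
      rw [hconj_apply] at h2
      rw [map_mul, map_inv, h2, mul_inv_cancel]
  exact congrArg Subtype.val (mul_inv_eq_one.mp h1)

/-- **Step 4.** If the abelian normal subgroup `Z ≥ G'` of index `p²` is self-centralizing and no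
linear character of `Z` has stabilizer `Z`, then `|G : Z(G)| = p³`. -/
theorem index_center_of_self_centralizing (p : ℕ) (hp : p.Prime)
    (hZab : ∀ a ∈ Z, ∀ b ∈ Z, a * b = b * a) (hidx : Z.index = p ^ 2)
    (hcomm : commutator G ≤ Z)
    (hcent : ∀ x : G, (∀ z ∈ Z, x * z = z * x) → x ∈ Z)
    (hstab : ∀ μ : Z →* ℂˣ, homStab Z μ ≠ Z) : (Subgroup.center G).index = p ^ 3 := by
  have hp2 : 2 ≤ p := hp.two_le
  have hZtop : Z ≠ ⊤ := by
    intro h
    rw [h, Subgroup.index_top] at hidx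
    nlinarith
  have hfix : ∀ t : G, (∀ ν : Z →* ℂˣ, hconj Z t ν = ν) → t ∈ Z := by
    intro t ht
    apply hcent
    intro z hz
    have h1 := centralizes_of_hconj_trivial Z hZab ht hz
    have h3 := congrArg (· * t) h1
    simp only [inv_mul_cancel_right] at h3
    exact h3
  obtain ⟨μ₁, hμ₁⟩ : ∃ μ₁ : Z →* ℂˣ, homStab Z μ₁ ≠ ⊤ := by
    by_contra hcon
    push Not at hcon
    apply hZtop
    rw [eq_top_iff]
    intro t _
    apply hfix
    intro ν
    exact (mem_homStab Z).mp (hcon ν ▸ Subgroup.mem_top t)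
  obtain ⟨μ₂, hμ₂, hne⟩ : ∃ μ₂ : Z →* ℂˣ, homStab Z μ₂ ≠ ⊤ ∧ homStab Z μ₁ ≠ homStab Z μ₂ := by
    by_contra hcon
    push Not at hcon
    obtain ⟨w, hw, hwZ⟩ : ∃ w, w ∈ homStab Z μ₁ ∧ w ∉ Z := by
      by_contra hc2
      push Not at hc2
      exact hstab μ₁ (le_antisymm (fun w hw => hc2 w hw) (le_homStab Z _))
    apply hwZ
    apply hfix
    intro ν
    by_cases hν : homStab Z ν = ⊤
    · exact (mem_homStab Z).mp (hν ▸ Subgroup.mem_top w)
    · exact (mem_homStab Z).mp ((hcon ν hν) ▸ hw)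
  obtain ⟨w, ρ, σ, hwa, hρσ, hρp, halla, hallb⟩ :=
    pair_lemma Z p hp hcomm hidx hstab μ₁ μ₂ hμ₁ hμ₂ hne
  -- key claim
  have hkey : ∀ z : Z, ρ z = 1 → ∀ (g : G) (μ : Z →* ℂˣ), hconj Z g μ z = μ z := by
    intro z hz g μ
    have hσz : σ z = 1 := by
      have h1 := DFunLike.congr_fun hρσ z
      rw [MonoidHom.mul_apply, hz, one_mul, MonoidHom.one_apply] at h1
      exact h1
    have hbranch : ∀ (μ₀ τ : Z →* ℂˣ), homStab Z μ₀ ≠ ⊤ → τ z = 1 →
        (∀ g : G, ∃ n : ℕ, hconj Z g μ₀ = μ₀ * τ ^ n) → homStab Z μ ≠ ⊤ →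
        homStab Z μ₀ ≠ homStab Z μ → hconj Z g μ z = μ z := by
      intro μ₀ τ hμ₀ hτz hall₀ hμ hne₀
      obtain ⟨w', ρ', σ', hwa', hρσ', -, -, hallb'⟩ :=
        pair_lemma Z p hp hcomm hidx hstab μ₀ μ hμ₀ hμ hne₀
      obtain ⟨n, hn⟩ := hall₀ w'
      have hρ'z : ρ' z = 1 := by
        have h1 : μ₀ * ρ' = μ₀ * τ ^ n := by rw [← hwa', hn]
        have h2 := DFunLike.congr_fun (mul_left_cancel h1) z
        rw [h2, MonoidHom.pow_apply, hτz, one_pow]
      have hσ'z : σ' z = 1 := by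
        have h1 := DFunLike.congr_fun hρσ' z
        rw [MonoidHom.mul_apply, hρ'z, one_mul, MonoidHom.one_apply] at h1
        exact h1
      obtain ⟨m, hm⟩ := hallb' g
      rw [hm, MonoidHom.mul_apply, MonoidHom.pow_apply, hσ'z, one_pow, mul_one]
    by_cases hμ : homStab Z μ = ⊤
    · rw [(mem_homStab Z).mp (hμ ▸ Subgroup.mem_top g)]
    · by_cases hμ1 : homStab Z μ₁ = homStab Z μ
      · have hμ2 : homStab Z μ₂ ≠ homStab Z μ := by
          intro h
          exact hne (hμ1.trans h.symm)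
        exact hbranch μ₂ σ hμ₂ hσz hallb hμ hμ2
      · exact hbranch μ₁ ρ hμ₁ hz halla hμ hμ1
  have hKcen : ∀ z : Z, ρ z = 1 → (z : G) ∈ Subgroup.center G := by
    intro z hz
    rw [Subgroup.mem_center_iff]
    intro g
    have h1 := conj_eq_of_hom_eq Z hZab z.2 (fun ν => hkey z hz g ν)
    have h3 := congrArg (· * g) h1
    simp only [inv_mul_cancel_right] at h3
    exact h3
  have hCZ : Subgroup.center G ≤ Z := by
    intro c hc
    apply hcent
    intro z _
    exact (Subgroup.mem_center_iff.mp hc z).symm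
  have hKle : (ρ.ker).map Z.subtype ≤ Subgroup.center G := by
    rintro _ ⟨z, hz, rfl⟩
    exact hKcen z (MonoidHom.mem_ker.mp hz)
  have hKidx : (ρ.ker).index ∣ p := by
    rw [Subgroup.index_ker]
    haveI : NeZero p := ⟨hp.ne_zero⟩
    have hle : ρ.range ≤ rootsOfUnity p ℂ := by
      rintro _ ⟨z, rfl⟩
      rw [mem_rootsOfUnity]
      have h1 := DFunLike.congr_fun hρp z
      rw [MonoidHom.pow_apply, MonoidHom.one_apply] at h1
      exact h1
    have h2 := Subgroup.card_dvd_of_le hle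
    rwa [Complex.card_rootsOfUnity] at h2
  have hrel : (Subgroup.center G).relIndex Z ∣ p := by
    have h1 := Subgroup.relIndex_dvd_of_le_left Z hKle
    have h2 : ((ρ.ker).map Z.subtype).relIndex Z = (ρ.ker).index := by
      unfold Subgroup.relIndex Subgroup.subgroupOf
      rw [Subgroup.comap_map_eq_self_of_injective Z.subtype_injective]
    rw [h2] at h1
    exact h1.trans hKidx
  have hrel1 : (Subgroup.center G).relIndex Z ≠ 1 := by
    intro h1
    rw [Subgroup.relIndex_eq_one] at h1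
    apply hZtop
    rw [eq_top_iff]
    intro x _
    apply hcent
    intro z hz
    exact Subgroup.mem_center_iff.mp (h1 hz) x
  have hrelp : (Subgroup.center G).relIndex Z = p :=
    ((Nat.dvd_prime hp).mp hrel).resolve_left hrel1
  have h5 := Subgroup.relIndex_mul_index hCZ
  rw [hrelp, hidx] at h5
  rw [← h5]
  ring

end HomAct

section Main
variable {G : Type u} [Group G] [Finite G]

/-- **Isaacs 12.11.** A nonabelian group has `cd(G) = {1, p}` iff it has an abelian normal
subgroup of index `p` or `|G : Z(G)| = p³`. -/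
theorem degP_iff (hG : ∃ a b : G, a * b ≠ b * a) (p : ℕ) (hp : p.Prime) :
    ((∀ χ : IrrCharacter G, charDegree (χ : G → ℂ) = 1 ∨ charDegree (χ : G → ℂ) = p) ∧
      ∃ χ : IrrCharacter G, charDegree (χ : G → ℂ) = p) ↔
    ((∃ A : Subgroup G, A.Normal ∧ (∀ a ∈ A, ∀ b ∈ A, a * b = b * a) ∧ A.index = p) ∨
      (Subgroup.center G).index = p ^ 3) := by
  classical
  haveI := Fintype.ofFinite G
  constructor
  · rintro ⟨hcd, hex⟩
    rcases two_degrees_dichotomy p hp.one_lt.ne' hcd hex with ⟨A, hAn, hAab, hAidx, -⟩ | hnil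
    · exact Or.inl ⟨A, hAn, hAab, hAidx⟩
    · haveI := hnil
      obtain ⟨χ₀, Z, hZn, hcomm, hidx, hdeg, hv, hn⟩ := exists_charCen_index p hp hcd hex
      haveI := hZn
      have hZab := abelian_of_vanish p hp hcd χ₀ Z hidx hdeg hv hn
      by_cases hc : ∃ x : G, x ∉ Z ∧ ∀ z ∈ Z, x * z = z * x
      · obtain ⟨x, hxZ, hx⟩ := hc
        exact Or.inl (exists_abelian_of_centralizer p hp hG Z hZab hidx hcomm x hxZ hx)
      · right
        push Not at hc
        apply index_center_of_self_centralizing Z p hp hZab hidx hcomm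
        · intro x hx
          by_contra hxZ
          obtain ⟨z, hz, hne⟩ := hc x hxZ
          exact hne (hx z hz)
        · exact homStab_ne_of_degrees p hp hcd Z hidx
  · rintro (⟨A, hAn, hAab, hAidx⟩ | hidx)
    · haveI := hAn
      exact degP_of_abelian_index hG p hp A hAab hAidx
    · exact degP_of_center_index hG p hp hidx

end Main

end Cfsg.Agent.helper22
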