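import Mathlib
import Cfsg.Agent.Lib_helper22_Clifford
import Cfsg.Agent.Lib_helper22_AGroup
import Cfsg.Agent.Lib_helper22_LinChar
import Cfsg.Agent.Lib_helper22_MGroup
import Cfsg.Agent.Lib_helper22_DegP3
import Cfsg.Agent.Lib_helper1_ProdChar
import Cfsg.Agent.Lib_helper23_Schur

set_option autoImplicit false
set_option linter.unusedSectionVars false
set_option linter.unusedVariables false
set_option linter.style.longLine false
set_option linter.style.haveILetI false

/-!
Prime-index Clifford theory (helper1), towards Dade's embedding theorem.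
-/

namespace Cfsg.Agent.helper1

open Cfsg
open scoped ComplexConjugate

universe u

section HomSum

open scoped Classical in
/-- orthogonality for the dual of a group of prime order -/
theorem mg_hom_sum {A : Type*} [Group A] [Finite A] (p : ℕ) (hp : p.Prime) (hA : Nat.card A = p)
    [Fintype (A →* ℂˣ)] (a : A) :
    ∑ lam : A →* ℂˣ, ((lam a : ℂˣ) : ℂ) = if a = 1 then (p : ℂ) else 0 := by
  classical
  haveI : Fact p.Prime := ⟨hp⟩
  haveI : IsCyclic A := isCyclic_of_prime_card hA
  letI : CommGroup A := IsCyclic.commGroup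
  have hne : Monoid.exponent A ≠ 0 := Monoid.exponent_ne_zero_of_finite
  haveI : NeZero ((Monoid.exponent A : ℕ) : ℂ) := ⟨by exact_mod_cast hne⟩
  by_cases ha : a = 1
  · rw [if_pos ha, ha]
    have h1 : ∀ lam ∈ (Finset.univ : Finset (A →* ℂˣ)), ((lam 1 : ℂˣ) : ℂ) = 1 := by
      intro lam _
      rw [map_one]; rfl
    rw [Finset.sum_congr rfl h1, Finset.sum_const, Finset.card_univ, nsmul_eq_mul, mul_one,
      ← Nat.card_eq_fintype_card]
    have h2 : Nat.card (A →* ℂˣ) = Nat.card A :=
      CommGroup.card_monoidHom_of_hasEnoughRootsOfUnity A ℂ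
    rw [h2, hA]
  · rw [if_neg ha]
    obtain ⟨φ, hφ⟩ := CommGroup.exists_apply_ne_one_of_hasEnoughRootsOfUnity A ℂ ha
    apply Cfsg.Agent.helper23.sum_eq_zero_of_mul_of_ne_one
      (fun lam : A →* ℂˣ => ((lam a : ℂˣ) : ℂ)) (fun x y => by simp) φ
    intro h
    apply hφ
    exact Units.ext h

theorem mg_hom_card {A : Type*} [Group A] [Finite A] (p : ℕ) (hp : p.Prime) (hA : Nat.card A = p) :
    Nat.card (A →* ℂˣ) = p := by
  haveI : Fact p.Prime := ⟨hp⟩
  haveI : IsCyclic A := isCyclic_of_prime_card hA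
  letI : CommGroup A := IsCyclic.commGroup
  have hne : Monoid.exponent A ≠ 0 := Monoid.exponent_ne_zero_of_finite
  haveI : NeZero ((Monoid.exponent A : ℕ) : ℂ) := ⟨by exact_mod_cast hne⟩
  have h2 : Nat.card (A →* ℂˣ) = Nat.card A :=
    CommGroup.card_monoidHom_of_hasEnoughRootsOfUnity A ℂ
  rw [h2, hA]

end HomSum

section PrimeIdx
variable {G : Type u} [Group G] [Fintype G] (N : Subgroup G) [hN : N.Normal] [Fintype N]

theorem mg_sum_subgroup (F : G → ℂ) [DecidablePred (· ∈ N)] :
    ∑ g : G, (if g ∈ N then F g else 0) = ∑ n : N, F n := by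
  rw [← Finset.sum_filter]
  symm
  apply Finset.sum_bij (fun (n : N) _ => (n : G))
  · intro n _; simp
  · intro a _ b _ h; exact Subtype.ext h
  · intro g hg
    simp only [Finset.mem_filter, Finset.mem_univ, true_and] at hg
    exact ⟨⟨g, hg⟩, Finset.mem_univ _, rfl⟩
  · intro n _; rfl

/-- an invariant character of a normal subgroup of prime index extends -/
theorem mg_prime_ext (p : ℕ) (hp : p.Prime) (hidx : N.index = p) {χ : G → ℂ}
    (hχ : IsIrrCharacter G χ) {θ : N → ℂ} (hθ : IsIrrCharacter N θ)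
    (hinv : ∀ g : G, helper8.conjFunN N g θ = θ)
    (h1 : classInner (helper5.res N χ) θ ≠ 0) :
    helper5.res N χ = θ := by
  classical
  obtain ⟨e, hres, -, he0⟩ := helper5.clifford_invariant N hχ hθ hinv h1
  have hQ : Nat.card (G ⧸ N) = p := by rw [← Subgroup.index_eq_card, hidx]
  haveI : Fintype ((G ⧸ N) →* ℂˣ) := Fintype.ofFinite _
  obtain ⟨tw, htw⟩ : ∃ tw : ((G ⧸ N) →* ℂˣ) → G → ℂ,
      tw = fun lam g => ((lam (g : G ⧸ N) : ℂˣ) : ℂ) * χ g := ⟨_, rfl⟩
  have htwirr : ∀ lam, IsIrrCharacter G (tw lam) := by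
    intro lam
    rw [htw]
    exact helper22.twist_isIrr (lam.comp (QuotientGroup.mk' N)) hχ
  let S : Subgroup ((G ⧸ N) →* ℂˣ) :=
    { carrier := {lam | tw lam = χ}
      one_mem' := by
        show tw 1 = χ
        rw [htw]; funext g; simp
      mul_mem' := by
        intro a b ha hb
        show tw (a * b) = χ
        have ha' : tw a = χ := ha
        have hb' : tw b = χ := hb
        funext g
        have h2 := congrFun ha' g
        have h3 := congrFun hb' g
        rw [htw] at h2 h3 ⊢
        simp only at h2 h3 ⊢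
        rw [MonoidHom.mul_apply, Units.val_mul, mul_assoc, h3, h2]
      inv_mem' := by
        intro a ha
        show tw a⁻¹ = χ
        have ha' : tw a = χ := ha
        funext g
        have h2 := congrFun ha' g
        rw [htw] at h2 ⊢
        simp only at h2 ⊢
        conv_lhs => rw [← h2]
        rw [MonoidHom.inv_apply, ← mul_assoc, ← Units.val_mul, inv_mul_cancel, Units.val_one,
          one_mul] }
  have hSmem : ∀ lam, lam ∈ S ↔ tw lam = χ := fun lam => Iff.rfl
  -- the sum of inner products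
  have hsum1 : ∑ lam : (G ⧸ N) →* ℂˣ, classInner (tw lam) χ = (Nat.card S : ℂ) := by
    have h2 : ∀ lam : (G ⧸ N) →* ℂˣ, classInner (tw lam) χ = if lam ∈ S then 1 else 0 := by
      intro lam
      rw [helper24.irr_classInner (htwirr lam) hχ]
      simp only [hSmem]
    rw [Finset.sum_congr rfl (fun lam _ => h2 lam), Finset.sum_boole, Nat.card_eq_fintype_card,
      Fintype.card_subtype]
  have hGN : (Nat.card G : ℂ) = (Nat.card N : ℂ) * p := by
    rw [← hidx, ← Nat.cast_mul, Subgroup.card_mul_index]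
  have hN0 : (Nat.card N : ℂ) ≠ 0 := by exact_mod_cast (Nat.card_pos (α := N)).ne'
  have hp0 : (p : ℂ) ≠ 0 := by exact_mod_cast hp.pos.ne'
  have hself : ∑ n : N, χ n * conj (χ n) = (Nat.card N : ℂ) * (e : ℂ) ^ 2 := by
    have h3 : classInner (helper5.res N χ) (helper5.res N χ) = (e : ℂ) ^ 2 := by
      rw [hres, helper24.classInner_smul_left, helper8.classInner_smul_right,
        helper24.irr_classInner_self hθ, Complex.conj_natCast]
      ring
    unfold classInner at h3
    have h4 : ∑ n : N, χ n * conj (χ n) = ∑ g : N, helper5.res N χ g * conj (helper5.res N χ g) :=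
      rfl
    rw [h4]
    field_simp at h3 ⊢
    linear_combination h3
  have hsum2 : ∑ lam : (G ⧸ N) →* ℂˣ, classInner (tw lam) χ = (e : ℂ) ^ 2 := by
    unfold classInner
    rw [← Finset.mul_sum, Finset.sum_comm]
    have h5 : ∀ g : G, ∑ lam : (G ⧸ N) →* ℂˣ, tw lam g * conj (χ g) =
        if g ∈ N then (p : ℂ) * (χ g * conj (χ g)) else 0 := by
      intro g
      rw [htw]
      simp only
      have h6 : ∑ lam : (G ⧸ N) →* ℂˣ, ((lam (g : G ⧸ N) : ℂˣ) : ℂ) * χ g * conj (χ g) =
          (∑ lam : (G ⧸ N) →* ℂˣ, ((lam (g : G ⧸ N) : ℂˣ) : ℂ)) * (χ g * conj (χ g)) := by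
        rw [Finset.sum_mul]
        exact Finset.sum_congr rfl (fun _ _ => by ring)
      rw [h6, mg_hom_sum p hp hQ]
      by_cases hg : g ∈ N
      · rw [if_pos hg, if_pos ((QuotientGroup.eq_one_iff g).mpr hg)]
      · rw [if_neg hg, if_neg (fun h => hg ((QuotientGroup.eq_one_iff g).mp h)), zero_mul]
    rw [Finset.sum_congr rfl (fun g _ => h5 g), mg_sum_subgroup N (fun g => (p : ℂ) * (χ g * conj (χ g))),
      ← Finset.mul_sum, hself, hGN]
    field_simp
  have hcard : Nat.card S = e ^ 2 := by
    have : (Nat.card S : ℂ) = ((e ^ 2 : ℕ) : ℂ) := by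
      rw [← hsum1, hsum2]; push_cast; rfl
    exact_mod_cast this
  have hdvd : e ^ 2 ∣ p := by
    rw [← hcard, ← mg_hom_card p hp hQ]
    exact Subgroup.card_subgroup_dvd_card S
  have he1 : e = 1 := by
    rcases (Nat.dvd_prime hp).1 hdvd with h | h
    · exact (Nat.pow_eq_one.mp h).resolve_right (by norm_num)
    · exfalso
      have h7 : e ∣ p := Dvd.intro (e) (by rw [← sq]; exact h)
      rcases (Nat.dvd_prime hp).1 h7 with h8 | h8
      · rw [h8] at h; simp at h; exact hp.one_lt.ne' h.symm
      · rw [h8] at h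
        have : p * p = p * 1 := by rw [← sq, h, mul_one]
        have := Nat.eq_of_mul_eq_mul_left hp.pos this
        exact hp.one_lt.ne' this
  rw [hres, he1, Nat.cast_one, one_smul]

/-- a non-invariant character of a normal subgroup of prime index induces irreducibly -/
theorem mg_prime_ind (p : ℕ) (hp : p.Prime) (hidx : N.index = p) {χ : G → ℂ}
    (hχ : IsIrrCharacter G χ) {θ : N → ℂ} (hθ : IsIrrCharacter N θ)
    (hninv : ¬ ∀ g : G, helper8.conjFunN N g θ = θ)
    (h1 : classInner (helper5.res N χ) θ ≠ 0) :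
    charDegree χ = p * charDegree θ := by
  classical
  obtain ⟨θ', hθ'⟩ : ∃ θ' : IrrCharacter N, (θ' : N → ℂ) = θ := ⟨⟨θ, hθ⟩, rfl⟩
  have hI : helper22.inertia N θ' ≠ ⊤ := by
    intro h
    apply hninv
    intro g
    have := (helper22.mem_inertia N (θ := θ') (g := g)).mp (h ▸ Subgroup.mem_top g)
    rw [hθ'] at this
    exact this
  have hIN : helper22.inertia N θ' = N := by
    rcases helper22.eq_or_eq_top_of_index_prime p hp hidx (helper22.le_inertia N θ') with h | h
    · exact h
    · exact absurd h hI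
  obtain ⟨e, he⟩ := helper12.classInner_char_nat
    (helper5.isCharacter_res N (helper24.irr_isCharacter hχ)) (helper24.irr_isCharacter hθ)
  have he0 : e ≠ 0 := by
    intro h
    rw [h, Nat.cast_zero] at he
    exact h1 he
  have hge := helper22.degree_ge_orbit N hχ θ' e (by rw [hθ']; exact he)
  rw [hIN, hidx, hθ'] at hge
  have hΨ : IsCharacter G (indFun N θ) :=
    helper12.isCharacter_indFun N (helper24.irr_isCharacter hθ)
  have hne : classInner (indFun N θ) χ ≠ 0 := by
    rw [helper5.classInner_indFun_irr N θ (helper24.irr_isCharacter hχ)]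
    intro h
    apply h1
    rw [← helper24.classInner_conj_symm, h, map_zero]
  obtain ⟨hle, -⟩ := helper22.char_eq_of_constituent_degree hΨ hχ hne
  have hdegΨ : charDegree (indFun N θ) = p * charDegree θ := by
    apply helper24.charDegree_natCast
    rw [helper5.indFun_one, hidx, ← helper24.char_charDegree_cast (helper24.irr_isCharacter hθ)]
    push_cast
    rfl
  rw [hdegΨ] at hle
  have h2 : p * charDegree θ ≤ p * e * charDegree θ := by
    have : 1 ≤ e := Nat.one_le_iff_ne_zero.mpr he0
    calc p * charDegree θ = p * 1 * charDegree θ := by rw [mul_one]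
      _ ≤ p * e * charDegree θ := Nat.mul_le_mul_right _ (Nat.mul_le_mul_left _ this)
  omega

end PrimeIdx

section Trans
variable {G : Type u} [Group G] [Fintype G]

/-- transitivity of "lies under" -/
theorem mg_under_trans (H K : Subgroup G) [Fintype H] [Fintype K] (hHK : H ≤ K)
    {χ : G → ℂ} (hχ : IsCharacter G χ) {ψ : K → ℂ} (hψ : IsIrrCharacter K ψ)
    (h1 : classInner (fun k : K => χ k) ψ ≠ 0)
    {ν : H → ℂ} (hν : IsCharacter H ν)
    (h2 : classInner (fun h : H => ψ (Subgroup.inclusion hHK h)) ν ≠ 0) :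
    classInner (fun h : H => χ h) ν ≠ 0 := by
  classical
  have := Fintype.ofFinite (IrrCharacter K)
  have hψK : IsCharacter K (fun k : K => χ k) := helper12.isCharacter_restrict K hχ
  obtain ⟨n, hexp, hn, _⟩ := helper12.char_decomp hψK
  have hk : ∀ ξ : IrrCharacter K, ∃ k : ℕ,
      classInner (fun m : H => (ξ : K → ℂ) (Subgroup.inclusion hHK m)) ν = k :=
    fun ξ => helper12.classInner_char_nat
      (helper8.isCharacter_comp_monoidHom (Subgroup.inclusion hHK) (helper24.irr_isCharacter ξ.2)) hν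
  choose k hk using hk
  have h3 : (fun m : H => χ m) =
      ∑ ξ : IrrCharacter K, (n ξ : ℂ) • (fun m : H => (ξ : K → ℂ) (Subgroup.inclusion hHK m)) := by
    funext m
    have h4 := congrFun hexp (Subgroup.inclusion hHK m)
    rw [Finset.sum_apply] at h4 ⊢
    simp only [Pi.smul_apply] at h4 ⊢
    rw [← h4]
    rfl
  have h5 : classInner (fun m : H => χ m) ν = ((∑ ξ : IrrCharacter K, n ξ * k ξ : ℕ) : ℂ) := by
    rw [h3, helper24.classInner_sum_left, Nat.cast_sum]
    refine Finset.sum_congr rfl (fun ξ _ => ?_)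
    rw [helper24.classInner_smul_left, hk ξ, Nat.cast_mul]
  rw [h5]
  intro h0
  have h6 : (∑ ξ : IrrCharacter K, n ξ * k ξ) = 0 := by exact_mod_cast h0
  have h7 := (Finset.sum_eq_zero_iff.1 h6) ⟨ψ, hψ⟩ (Finset.mem_univ _)
  rcases Nat.mul_eq_zero.mp h7 with h8 | h8
  · apply h1
    rw [hn ⟨ψ, hψ⟩, h8, Nat.cast_zero]
  · apply h2
    have := hk ⟨ψ, hψ⟩
    rw [h8, Nat.cast_zero] at this
    exact this

end Trans

end Cfsg.Agent.helper1
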