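import Mathlib
import Cfsg.Agent.Lib_helper1_PrincCover
import Cfsg.Agent.Lib_helper8_Ind
import Cfsg.Prelude.Def_BlockLocal

/-!
The principal block is invariant under group isomorphisms (helper1), in particular under
conjugation by elements normalizing a subgroup.
-/

set_option autoImplicit false
set_option linter.unusedVariables false
set_option linter.unusedSectionVars false
set_option linter.style.longLine false

namespace Cfsg.Agent.helper1

open Cfsg Cfsg.Agent.helper24
open scoped ComplexConjugate

universe u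

theorem comp_mulEquiv_mem_principalBlock {H K : Type u} [Group H] [Group K] [Fintype H]
    [Fintype K] (φ : H ≃* K) (p : ℕ) [Fact p.Prime] (M : Ideal AlgInt) (hM : IsPModular p M)
    (ψ : IrrCharacter K) (hψ : ψ ∈ principalBlock M K) :
    (⟨fun h => (ψ : K → ℂ) (φ h), helper8.isIrrCharacter_comp_mulEquiv φ ψ.2⟩ : IrrCharacter H) ∈
      principalBlock M H := by
  classical
  rw [mem_principalBlock_iff_sum_ne_zero p M hM] at hψ ⊢
  intro h0
  apply hψ
  rw [← h0]
  symm
  apply Finset.sum_equiv φ.toEquiv
  · intro x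
    simp only [Finset.mem_filter, Finset.mem_univ, true_and]
    show ¬ p ∣ orderOf x ↔ ¬ p ∣ orderOf (φ x)
    rw [MulEquiv.orderOf_eq]
  · intro x _
    rfl

/-- conjugation by an element normalizing `C`, as an automorphism `c ↦ g⁻¹ c g` of `C` -/
noncomputable def conjNormalizer {G : Type u} [Group G] (C : Subgroup G) (g : G)
    (hg : g ∈ Subgroup.normalizer (C : Set G)) : C ≃* C where
  toFun c := ⟨g⁻¹ * (c : G) * g, (Subgroup.mem_normalizer_iff''.1 hg _).1 c.2⟩
  invFun c := ⟨g * (c : G) * g⁻¹, (Subgroup.mem_normalizer_iff.1 hg _).1 c.2⟩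
  left_inv c := by
    apply Subtype.ext
    show g * (g⁻¹ * (c : G) * g) * g⁻¹ = c
    group
  right_inv c := by
    apply Subtype.ext
    show g⁻¹ * (g * (c : G) * g⁻¹) * g = c
    group
  map_mul' a b := by
    apply Subtype.ext
    show g⁻¹ * ((a : G) * (b : G)) * g = (g⁻¹ * (a : G) * g) * (g⁻¹ * (b : G) * g)
    group

/-- an element normalizing `C` stabilizes the principal block of `C` -/
theorem stabilizesBlock_principal {G : Type u} [Group G] [Fintype G] (C : Subgroup G) [Fintype C]
    (g : G) (hg : g ∈ Subgroup.normalizer (C : Set G)) (p : ℕ) [Fact p.Prime]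
    (M : Ideal AlgInt) (hM : IsPModular p M) :
    StabilizesBlock C (principalBlock M C) g := by
  refine ⟨hg, ?_⟩
  intro χ hχ
  refine ⟨⟨fun h => (χ : C → ℂ) (conjNormalizer C g hg h),
    helper8.isIrrCharacter_comp_mulEquiv (conjNormalizer C g hg) χ.2⟩,
    comp_mulEquiv_mem_principalBlock (conjNormalizer C g hg) p M hM χ hχ, ?_⟩
  intro k k' hk
  show (χ : C → ℂ) (conjNormalizer C g hg k') = (χ : C → ℂ) k
  have h1 : conjNormalizer C g hg k' = k := by
    apply Subtype.ext
    show g⁻¹ * (k' : G) * g = k
    rw [hk]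
    group
  rw [h1]

end Cfsg.Agent.helper1
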