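import Mathlib
import Cfsg.Agent.Lib_helper24_ThirdMain
import Cfsg.Prelude.Def_BrauerPairs

set_option autoImplicit false

namespace Cfsg.Agent.helper24

open Cfsg
open scoped ComplexConjugate

universe u

section BP

variable {G : Type u} [Group G] [Fintype G]

/-- the central character of a block of `H`, `C(P) ≤ H ≤ N(P)`, composed with the Brauer map is a
central character of `G` modulo `J` -/
theorem brauer_central_char_exists (p : ℕ) [Fact p.Prime] (M : Ideal AlgInt) (hM : IsPModular p M)
    {P H : Subgroup G} [Fintype H] (hP : IsPGroup p P)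
    (hCH : Subgroup.centralizer (P : Set G) ≤ H) (hHN : H ≤ Subgroup.normalizer (P : Set G))
    (ξ₀ : IrrCharacter H) :
    ∃ χ : IrrCharacter G,
      ∀ u, IsClassFunction G u → (∀ g, MemLocalRing M (u g)) →
        MemLocalIdeal M (brOmega P H (ξ₀ : H → ℂ) u - omegaFn (χ : G → ℂ) u) := by
  classical
  have hMp : M.IsPrime := hM.2.1.isPrime
  have hMtop : M ≠ ⊤ := hMp.ne_top
  exact exists_irr_of_algHom_mod (M := M) (brOmega P H (ξ₀ : H → ℂ))
    (fun u v => by unfold brOmega; rw [brRes_sub, omegaFn_sub])
    (fun c u => by unfold brOmega; rw [brRes_smul, omegaFn_smul])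
    (fun u hu hR => omegaFn_memLocalRing ξ₀ (brRes_isClassFunction hHN hu)
      (fun h => brRes_memLocalRing hMtop P H hR h))
    (fun u v hu hRu hv hRv => by
      unfold brOmega
      rw [← omegaFn_cconv ξ₀.2 _ (brRes_isClassFunction hHN hv), ← omegaFn_sub]
      apply omegaFn_memLocalIdeal ξ₀
      · exact isClassFunction_sub (brRes_isClassFunction hHN (cconv_isClassFunction hu hv))
          (cconv_isClassFunction (brRes_isClassFunction hHN hu) (brRes_isClassFunction hHN hv))
      · intro h
        exact brRes_cconv_sub hM hP hCH hu hRu hv hRv h)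
    (by
      unfold brOmega
      rw [brRes_deltaOne]
      exact omegaFn_deltaOne (irr_apply_one_ne_zero ξ₀.2))

theorem brauerOmega_eq (Q : Subgroup G) [Fintype (Subgroup.centralizer (Q : Set G))] (β : G → ℂ)
    (ξ : Subgroup.centralizer (Q : Set G) → ℂ) :
    brauerOmega Q β ξ = brOmega Q (Subgroup.centralizer (Q : Set G)) ξ β := by
  classical
  unfold brauerOmega brOmega omegaFn brRes
  rw [finsum_eq_sum_of_fintype, Finset.sum_div]
  refine Finset.sum_congr rfl (fun x _ => ?_)
  rw [if_pos x.2]

/-- **third main theorem for Brauer pairs** -/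
theorem principal_brauer_pair (p : ℕ) [Fact p.Prime] (M : Ideal AlgInt) (hM : IsPModular p M)
    (Q : Subgroup G) (hQ : IsPGroup p Q)
    (e : Set (IrrCharacter (Subgroup.centralizer (Q : Set G)))) (he : IsPBlock M e) :
    IsBrauerPairOf p M (principalBlock M G) Q e ↔
      e = principalBlock M (Subgroup.centralizer (Q : Set G)) := by
  classical
  have hMp : M.IsPrime := hM.2.1.isPrime
  have hMtop := hMp.ne_top
  letI := Fintype.ofFinite (Subgroup.centralizer (Q : Set G))
  obtain ⟨a, ha⟩ : ∃ a : G → ℂ, a = blockCoeff (principalBlock M G) := ⟨_, rfl⟩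
  have hacf : IsClassFunction G a := by rw [ha]; exact blockCoeff_isClassFunction _
  have haR : ∀ g, MemLocalRing M (a g) := by
    rw [ha]
    exact (blockCoeff_props (M := M) (oneIrr G)).2.1
  have hres : brRes Q (Subgroup.centralizer (Q : Set G)) (pregInd G p) =
      pregInd (Subgroup.centralizer (Q : Set G)) p := by
    funext h
    unfold brRes
    rw [if_pos h.2]
    unfold pregInd
    rw [Subgroup.orderOf_coe]
  have key : ∀ ξ : IrrCharacter (Subgroup.centralizer (Q : Set G)),
      (ξ ∈ principalBlock M (Subgroup.centralizer (Q : Set G)) ↔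
        MemLocalIdeal M (brauerOmega Q a
          (ξ : Subgroup.centralizer (Q : Set G) → ℂ) - 1)) := by
    intro ξ
    obtain ⟨χ, hχ⟩ := brauer_central_char_exists p M hM hQ le_rfl
      (Subgroup.centralizer_le_normalizer _) ξ
    have h1 := hχ (pregInd G p) (pregInd_isClassFunction p) (pregInd_memLocalRing hMtop p)
    unfold brOmega at h1
    rw [hres] at h1
    have h2 := hχ a hacf haR
    rw [← brauerOmega_eq, ha, omegaFn_blockCoeff, ← ha] at h2
    have hiff : ξ ∈ principalBlock M (Subgroup.centralizer (Q : Set G)) ↔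
        χ ∈ principalBlock M G := by
      constructor
      · intro hξ
        by_contra hne
        apply omegaFn_pregInd_not_mem p M hM ξ hξ
        rw [omegaFn_pregInd_eq_zero p M hM χ hne, sub_zero] at h1
        exact h1
      · intro hχB
        by_contra hne
        apply omegaFn_pregInd_not_mem p M hM χ hχB
        rw [omegaFn_pregInd_eq_zero p M hM ξ hne, zero_sub] at h1
        have := memLocalIdeal_neg h1
        rwa [neg_neg] at this
    rw [hiff]
    constructor
    · intro hχB
      rw [if_pos hχB] at h2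
      exact h2
    · intro hJ
      by_contra hne
      rw [if_neg hne, sub_zero] at h2
      have h3 := memLocalIdeal_sub h2 hJ
      rw [sub_sub_cancel] at h3
      exact not_memLocalIdeal_one h3
  constructor
  · rintro ⟨-, -, hall⟩
    obtain ⟨ξ₀, hbeq⟩ := he
    have hξ₀ : ξ₀ ∈ e := by rw [hbeq]; exact sameBlock_refl M hMtop _
    have h1 := hall ξ₀ hξ₀
    rw [← ha] at h1
    have h2 := (key ξ₀).2 h1
    rw [hbeq]
    exact blockOf_eq_of_mem ⟨oneIrr _, rfl⟩ h2
  · intro heq
    refine ⟨⟨hQ, he⟩, ⟨oneIrr G, rfl⟩, ?_⟩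
    intro ξ hξ
    rw [heq] at hξ
    rw [← ha]
    exact (key ξ).1 hξ

end BP

end Cfsg.Agent.helper24
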