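import Mathlib
import Cfsg.Agent.Lib_helper1_PrincAut
import Cfsg.Agent.Lib_helper1_PrincBlock
import Cfsg.Agent.Lib_helper24_BrauerPairs
import Cfsg.Prelude.Def_BlockFusion

/-!
Brauer pairs of the principal block (helper1): the pairs `(Q, B₀(C_G(Q)))` form a chain below
`(S, B₀(C_G(S)))` for every `Q ≤ S`, `S` a `p`-subgroup, and are permuted by conjugation.
-/

set_option autoImplicit false
set_option linter.unusedVariables false
set_option linter.unusedSectionVars false
set_option linter.style.longLine false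
set_option linter.style.haveILetI false

namespace Cfsg.Agent.helper1

open Cfsg Cfsg.Agent.helper24
open scoped ComplexConjugate

universe u

section Action

theorem natCast_memLocalIdeal_of_dvd {p : ℕ} {M : Ideal AlgInt} (hM : IsPModular p M) {n : ℕ}
    (hn : p ∣ n) : MemLocalIdeal M (n : ℂ) := by
  have hMp : M.IsPrime := hM.2.1.isPrime
  refine ⟨(n : AlgInt), 1, ?_, ?_, ?_⟩
  · have := helper23.natCast_mul_mem hM n hn 1
    rwa [mul_one] at this
  · intro h
    exact hMp.ne_top ((Ideal.eq_top_iff_one M).2 h)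
  · simp

/-- a `p`-group acting: an invariant function with local values sums over the non-fixed points
to an element of the local ideal -/
theorem sum_nonfixed_memLocalIdeal {p : ℕ} [Fact p.Prime] {M : Ideal AlgInt}
    (hM : IsPModular p M) {P : Type*} [Group P] (hP : IsPGroup p P) {α : Type*} [Fintype α]
    [MulAction P α] (F : α → ℂ) (hF : ∀ (u : P) (a : α), F (u • a) = F a)
    (hl : ∀ a, MemLocalRing M (F a)) [DecidablePred (fun a : α => ∃ u : P, u • a ≠ a)] :
    MemLocalIdeal M (∑ a ∈ Finset.univ.filter (fun a : α => ∃ u : P, u • a ≠ a), F a) := by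
  classical
  have hMp : M.IsPrime := hM.2.1.isPrime
  obtain ⟨s, hs⟩ : ∃ s : Finset α, s = Finset.univ.filter (fun a : α => ∃ u : P, u • a ≠ a) :=
    ⟨_, rfl⟩
  have hsmem : ∀ a, a ∈ s ↔ ∃ u : P, u • a ≠ a := by
    intro a
    rw [hs]
    simp
  have hstab : ∀ (v : P) (a : α), a ∈ s → v • a ∈ s := by
    intro v a ha
    rw [hsmem] at ha ⊢
    obtain ⟨u, hu⟩ := ha
    refine ⟨v * u * v⁻¹, ?_⟩
    intro h
    apply hu
    have h2 : v⁻¹ • ((v * u * v⁻¹) • v • a) = v⁻¹ • v • a := by rw [h]
    simpa [smul_smul, mul_assoc] using h2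
  have hgoal : (∑ a ∈ Finset.univ.filter (fun a : α => ∃ u : P, u • a ≠ a), F a) =
      ∑ a ∈ s, F a := by
    rw [hs]
  rw [hgoal]
  rw [← Finset.sum_fiberwise_of_maps_to (s := s) (t := s.image F) (g := F)
    (fun a ha => Finset.mem_image_of_mem F ha) F]
  apply memLocalIdeal_sum
  intro c hc
  have h1 : ∀ a ∈ s.filter (fun a : α => F a = c), F a = c := by
    intro a ha
    exact (Finset.mem_filter.1 ha).2
  rw [Finset.sum_congr rfl h1, Finset.sum_const, nsmul_eq_mul]
  obtain ⟨a₀, _, ha₀⟩ := Finset.mem_image.1 hc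
  have hcl : MemLocalRing M c := by rw [← ha₀]; exact hl a₀
  letI : MulAction P {a : α // a ∈ s ∧ F a = c} :=
    { smul := fun u a => ⟨u • a.1, hstab u a.1 a.2.1, by rw [hF]; exact a.2.2⟩
      one_smul := fun a => Subtype.ext (one_smul P a.1)
      mul_smul := fun u v a => Subtype.ext (mul_smul u v a.1) }
  have h2 := hP.card_modEq_card_fixedPoints {a : α // a ∈ s ∧ F a = c}
  have h3 : IsEmpty (MulAction.fixedPoints P {a : α // a ∈ s ∧ F a = c}) := by
    constructor
    rintro ⟨a, ha⟩
    obtain ⟨u, hu⟩ := (hsmem a.1).1 a.2.1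
    apply hu
    have := ha u
    exact congrArg Subtype.val this
  have h3' : Nat.card (MulAction.fixedPoints P {a : α // a ∈ s ∧ F a = c}) = 0 :=
    Nat.card_of_isEmpty
  rw [h3', Nat.card_eq_fintype_card, Fintype.card_subtype] at h2
  have h4 : p ∣ (Finset.univ.filter (fun a : α => a ∈ s ∧ F a = c)).card :=
    (Nat.modEq_zero_iff_dvd).1 h2
  have h5 : (Finset.univ.filter (fun a : α => a ∈ s ∧ F a = c)) =
      s.filter (fun a : α => F a = c) := by
    ext a
    simp
  rw [h5] at h4
  rw [mul_comm]
  exact memLocalIdeal_mul_left hcl (natCast_memLocalIdeal_of_dvd hM h4)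

end Action

section Coeff

variable {H : Type u} [Group H] [Fintype H]

/-- the idempotent coefficients of a set of characters stable under an automorphism are
invariant under that automorphism -/
theorem blockCoeff_comp_mulEquiv (φ : H ≃* H) (B : Set (IrrCharacter H))
    (hB : ∀ χ : IrrCharacter H, χ ∈ B →
      (⟨fun h => (χ : H → ℂ) (φ h), helper8.isIrrCharacter_comp_mulEquiv φ χ.2⟩ :
        IrrCharacter H) ∈ B)
    (hB' : ∀ χ : IrrCharacter H, χ ∈ B →
      (⟨fun h => (χ : H → ℂ) (φ.symm h), helper8.isIrrCharacter_comp_mulEquiv φ.symm χ.2⟩ :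
        IrrCharacter H) ∈ B) (h : H) :
    blockCoeff B (φ h) = blockCoeff B h := by
  unfold blockCoeff
  congr 1
  symm
  apply finsum_mem_eq_of_bijOn (fun χ : IrrCharacter H =>
    (⟨fun h => (χ : H → ℂ) (φ.symm h), helper8.isIrrCharacter_comp_mulEquiv φ.symm χ.2⟩ :
        IrrCharacter H))
  · refine ⟨fun χ hχ => hB' χ hχ, ?_, ?_⟩
    · intro a _ b _ hab
      apply Subtype.ext
      funext x
      have := congrFun (congrArg Subtype.val hab) (φ x)
      simpa using this
    · intro χ hχ
      refine ⟨_, hB χ hχ, ?_⟩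
      apply Subtype.ext
      funext x
      show (χ : H → ℂ) (φ (φ.symm x)) = (χ : H → ℂ) x
      rw [MulEquiv.apply_symm_apply]
  · intro χ _
    show (χ : H → ℂ) 1 * conj ((χ : H → ℂ) h) =
      (χ : H → ℂ) (φ.symm 1) * conj ((χ : H → ℂ) (φ.symm (φ h)))
    rw [map_one, MulEquiv.symm_apply_apply]

theorem blockCoeff_principal_comp_mulEquiv (p : ℕ) [Fact p.Prime] (M : Ideal AlgInt)
    (hM : IsPModular p M) (φ : H ≃* H) (h : H) :
    blockCoeff (principalBlock M H) (φ h) = blockCoeff (principalBlock M H) h :=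
  blockCoeff_comp_mulEquiv φ _
    (fun χ hχ => comp_mulEquiv_mem_principalBlock φ p M hM χ hχ)
    (fun χ hχ => comp_mulEquiv_mem_principalBlock φ.symm p M hM χ hχ) h

end Coeff


section Pairs

variable {G : Type u} [Group G] [Fintype G]

omit [Fintype G] in
theorem normalizer_le_normalizer_centralizer (Q : Subgroup G) {g : G}
    (hg : g ∈ Subgroup.normalizer (Q : Set G)) :
    g ∈ Subgroup.normalizer ((Subgroup.centralizer (Q : Set G) : Subgroup G) : Set G) := by
  rw [Subgroup.mem_normalizer_iff]
  intro c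
  constructor
  · intro hc
    exact conj_mem_centralizer_of_mem_normalizer hg hc
  · intro hc
    have hg' : g⁻¹ ∈ Subgroup.normalizer (Q : Set G) := inv_mem hg
    have h := conj_mem_centralizer_of_mem_normalizer hg' hc
    have h4 : g⁻¹ * (g * c * g⁻¹) * g⁻¹⁻¹ = c := by group
    rwa [h4] at h

/-- the key congruence, with abstract subgroups `H ≥ C = C_G(R)`, `R` normalizing `H` -/
theorem principal_brauer_sum (p : ℕ) [Fact p.Prime] (M : Ideal AlgInt) (hM : IsPModular p M)
    (H C R : Subgroup G) [Fintype H] [Fintype C] (hR : IsPGroup p R) (hCH : C ≤ H)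
    (hRNH : ∀ r ∈ R, r ∈ Subgroup.normalizer (H : Set G))
    (hCdef : C = Subgroup.centralizer (R : Set G))
    (ξ : IrrCharacter C) (hξ : ξ ∈ principalBlock M C) :
    MemLocalIdeal M ((∑ x : C, blockCoeff (principalBlock M H) ⟨x, hCH x.2⟩ * (ξ : C → ℂ) x /
      (ξ : C → ℂ) 1) - 1) := by
  classical
  have hMp : M.IsPrime := hM.2.1.isPrime
  have hMtop := hMp.ne_top
  obtain ⟨b, hb⟩ : ∃ b : H → ℂ, b = blockCoeff (principalBlock M H) := ⟨_, rfl⟩
  have hbcf : IsClassFunction H b := by rw [hb]; exact blockCoeff_isClassFunction _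
  have hbR : ∀ h, MemLocalRing M (b h) := by
    rw [hb]
    exact (blockCoeff_props (M := M) (oneIrr H)).2.1
  obtain ⟨u, hu⟩ : ∃ u : C → ℂ, u = fun c : C => b ⟨(c : G), hCH c.2⟩ := ⟨_, rfl⟩
  have hucf : IsClassFunction C u := by
    intro c k
    rw [hu]
    have h := hbcf ⟨c, hCH c.2⟩ ⟨k, hCH k.2⟩
    exact h
  have huR : ∀ c, MemLocalRing M (u c) := by
    intro c
    rw [hu]
    exact hbR _
  have h1 : (∑ x : C, blockCoeff (principalBlock M H) ⟨x, hCH x.2⟩ * (ξ : C → ℂ) x /
      (ξ : C → ℂ) 1) = omegaFn (ξ : C → ℂ) u := by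
    unfold omegaFn
    rw [Finset.sum_div]
    refine Finset.sum_congr rfl (fun c _ => ?_)
    rw [hu, hb]
  rw [h1]
  have h2 := omegaFn_sub_memLocalIdeal (M := M) (χ := ξ) (ψ := oneIrr C) (sameBlock_symm hξ)
    hucf huR
  have h3 : omegaFn ((oneIrr C : IrrCharacter C) : C → ℂ) u = ∑ c : C, u c := by
    unfold omegaFn
    show (∑ c : C, u c * 1) / 1 = _
    simp
  have h4 : ∑ h : H, b h = 1 := by
    have h := omegaFn_blockCoeff (principalBlock M H) (oneIrr H)
    rw [if_pos (oneIrr_mem_principalBlock hMtop)] at h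
    unfold omegaFn at h
    have h' : (∑ h : H, blockCoeff (principalBlock M H) h * 1) / 1 = 1 := h
    rw [div_one] at h'
    simp only [mul_one] at h'
    rw [hb]
    exact h'
  letI act : MulAction R H :=
    { smul := fun r h => ⟨(r : G) * (h : G) * (r : G)⁻¹,
        (Subgroup.mem_normalizer_iff.1 (hRNH r r.2) _).1 h.2⟩
      one_smul := by
        intro h
        apply Subtype.ext
        show ((1 : R) : G) * (h : G) * ((1 : R) : G)⁻¹ = h
        simp
      mul_smul := by
        intro r s h
        apply Subtype.ext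
        show ((r * s : R) : G) * (h : G) * ((r * s : R) : G)⁻¹ =
          (r : G) * ((s : G) * (h : G) * (s : G)⁻¹) * (r : G)⁻¹
        simp [mul_assoc] }
  have hsmul : ∀ (r : R) (h : H), ((r • h : H) : G) = (r : G) * (h : G) * (r : G)⁻¹ :=
    fun _ _ => rfl
  have hinv : ∀ (r : R) (h : H), b (r • h) = b h := by
    intro r h
    have hr' : (r : G)⁻¹ ∈ Subgroup.normalizer (H : Set G) := inv_mem (hRNH r r.2)
    have h5 := blockCoeff_principal_comp_mulEquiv p M hM (conjNormalizer H (r : G)⁻¹ hr') h
    rw [hb, ← h5]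
    congr 1
    apply Subtype.ext
    show (r : G) * (h : G) * (r : G)⁻¹ = ((r : G)⁻¹)⁻¹ * (h : G) * (r : G)⁻¹
    rw [inv_inv]
  have h5 := sum_nonfixed_memLocalIdeal hM hR b hinv hbR
  have h6 := Finset.sum_filter_add_sum_filter_not Finset.univ
    (fun a : H => ∃ u : R, u • a ≠ a) b
  have h7 : ∑ a ∈ Finset.univ.filter (fun a : H => ¬ ∃ u : R, u • a ≠ a), b a = ∑ c : C, u c := by
    symm
    apply Finset.sum_bij (fun (c : C) _ => (⟨c, hCH c.2⟩ : H))
    · intro c _
      rw [Finset.mem_filter]
      refine ⟨Finset.mem_univ _, ?_⟩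
      rintro ⟨r, hr⟩
      apply hr
      apply Subtype.ext
      rw [hsmul]
      show (r : G) * (c : G) * (r : G)⁻¹ = c
      have hc : (c : G) ∈ Subgroup.centralizer (R : Set G) := by
        rw [← hCdef]
        exact c.2
      have := (Subgroup.mem_centralizer_iff.1 hc) (r : G) r.2
      rw [this]
      group
    · intro a _ b' _ hab
      apply Subtype.ext
      exact congrArg (fun x : H => (x : G)) hab
    · intro h hh
      rw [Finset.mem_filter] at hh
      have hfix : ∀ r : R, r • h = h := by
        intro r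
        by_contra hne
        exact hh.2 ⟨r, hne⟩
      have hmem : (h : G) ∈ C := by
        rw [hCdef, Subgroup.mem_centralizer_iff]
        intro r hr
        have h8 := congrArg (fun x : H => (x : G)) (hfix ⟨r, hr⟩)
        have h9 : r * (h : G) * r⁻¹ = h := h8
        calc r * (h : G) = (r * (h : G) * r⁻¹) * r := by group
          _ = (h : G) * r := by rw [h9]
      exact ⟨⟨h, hmem⟩, Finset.mem_univ _, rfl⟩
    · intro c _
      rw [hu]
  rw [h7, h4] at h6
  have h8 : omegaFn (ξ : C → ℂ) u - 1 =
      (omegaFn (ξ : C → ℂ) u - omegaFn ((oneIrr C : IrrCharacter C) : C → ℂ) u) +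
      -(∑ a ∈ Finset.univ.filter (fun a : H => ∃ u : R, u • a ≠ a), b a) := by
    rw [h3, ← h6]
    ring
  rw [h8]
  exact memLocalIdeal_add h2 (memLocalIdeal_neg h5)

/-- the key congruence for a normal step between principal Brauer pairs -/
theorem principal_brauerOmega (p : ℕ) [Fact p.Prime] (M : Ideal AlgInt) (hM : IsPModular p M)
    (Q R : Subgroup G) (hR : IsPGroup p R) (hQR : Q ≤ R)
    (hRN : R ≤ Subgroup.normalizer (Q : Set G))
    (ξ : IrrCharacter (Subgroup.centralizer (R : Set G)))
    (hξ : ξ ∈ principalBlock M (Subgroup.centralizer (R : Set G))) :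
    MemLocalIdeal M (brauerOmega R (subgroupBlockCoeff (Subgroup.centralizer (Q : Set G))
      (principalBlock M (Subgroup.centralizer (Q : Set G))))
        (ξ : Subgroup.centralizer (R : Set G) → ℂ) - 1) := by
  classical
  letI : Fintype (Subgroup.centralizer (Q : Set G)) := Fintype.ofFinite _
  letI : Fintype (Subgroup.centralizer (R : Set G)) := Fintype.ofFinite _
  have hCH : Subgroup.centralizer (R : Set G) ≤ Subgroup.centralizer (Q : Set G) :=
    Subgroup.centralizer_le hQR
  have hmain := principal_brauer_sum p M hM (Subgroup.centralizer (Q : Set G))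
    (Subgroup.centralizer (R : Set G)) R hR hCH
    (fun r hr => normalizer_le_normalizer_centralizer Q (hRN hr)) rfl ξ hξ
  have h0 : brauerOmega R (subgroupBlockCoeff (Subgroup.centralizer (Q : Set G))
      (principalBlock M (Subgroup.centralizer (Q : Set G))))
        (ξ : Subgroup.centralizer (R : Set G) → ℂ) =
      ∑ x : Subgroup.centralizer (R : Set G),
        blockCoeff (principalBlock M (Subgroup.centralizer (Q : Set G))) ⟨x, hCH x.2⟩ *
          (ξ : Subgroup.centralizer (R : Set G) → ℂ) x /
            (ξ : Subgroup.centralizer (R : Set G) → ℂ) 1 := by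
    unfold brauerOmega
    rw [finsum_eq_sum_of_fintype]
    refine Finset.sum_congr rfl (fun c _ => ?_)
    unfold subgroupBlockCoeff
    rw [dif_pos (hCH c.2)]
  rw [h0]
  exact hmain

end Pairs


section Chain

variable {G : Type u} [Group G] [Fintype G]

theorem principal_normalSubpair (p : ℕ) [Fact p.Prime] (M : Ideal AlgInt) (hM : IsPModular p M)
    (Q R : Subgroup G) (hR : IsPGroup p R) (hQR : Q ≤ R)
    (hRN : R ≤ Subgroup.normalizer (Q : Set G)) :
    IsNormalSubpair p M Q (principalBlock M (Subgroup.centralizer (Q : Set G))) R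
      (principalBlock M (Subgroup.centralizer (R : Set G))) := by
  classical
  letI : Fintype (Subgroup.centralizer (Q : Set G)) := Fintype.ofFinite _
  refine ⟨⟨hR.to_le hQR, isPBlock_principalBlock M⟩, ⟨hR, isPBlock_principalBlock M⟩, hQR, hRN,
    ?_, ?_⟩
  · intro x hx
    exact stabilizesBlock_principal _ x (normalizer_le_normalizer_centralizer Q (hRN hx)) p M hM
  · intro ξ hξ
    exact principal_brauerOmega p M hM Q R hR hQR hRN ξ hξ

omit [Fintype G] in
theorem subpairLE_le {p : ℕ} {M : Ideal AlgInt} {Q P : Subgroup G}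
    {f : Set (IrrCharacter (Subgroup.centralizer (Q : Set G)))}
    {e : Set (IrrCharacter (Subgroup.centralizer (P : Set G)))}
    (h : SubpairLE p M Q f P e) : Q ≤ P := by
  have key : ∀ b : BrauerPairIdx G,
      Relation.ReflTransGen (NormalSubpairRel p M) ⟨Q, f⟩ b → Q ≤ b.1 := by
    intro b hb
    induction hb with
    | refl => exact le_refl _
    | tail _ hstep ih => exact le_trans ih hstep.2.2.1
  exact key ⟨P, e⟩ h

/-- in a `p`-group `S`, a proper subgroup is properly contained in its normalizer in `S` -/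
theorem exists_normalizing_not_mem {p : ℕ} [Fact p.Prime] {S Q : Subgroup G} (hS : IsPGroup p S)
    (hQS : Q < S) : ∃ x ∈ S, x ∈ Subgroup.normalizer (Q : Set G) ∧ x ∉ Q := by
  haveI : Group.IsNilpotent S := hS.isNilpotent
  have hnc := Group.normalizerCondition_of_isNilpotent (G := S)
  have hlt : Q.subgroupOf S < ⊤ := by
    rw [lt_top_iff_ne_top]
    intro h
    rw [Subgroup.subgroupOf_eq_top] at h
    exact (not_le_of_gt hQS) h
  have h1 := hnc (Q.subgroupOf S) hlt
  obtain ⟨x, hxN, hxQ⟩ := SetLike.exists_of_lt h1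
  refine ⟨(x : G), x.2, ?_, ?_⟩
  · rw [Subgroup.mem_normalizer_iff]
    intro q
    constructor
    · intro hq
      have hq' : (⟨q, hQS.le hq⟩ : S) ∈ Q.subgroupOf S := by
        rw [Subgroup.mem_subgroupOf]
        exact hq
      have h2 := (Subgroup.mem_normalizer_iff.1 hxN _).1 hq'
      rw [Subgroup.mem_subgroupOf] at h2
      exact h2
    · intro hq
      have hqS : q ∈ S := by
        have h3 : (x : G)⁻¹ * ((x : G) * q * (x : G)⁻¹) * (x : G) ∈ S :=
          S.mul_mem (S.mul_mem (S.inv_mem x.2) (hQS.le hq)) x.2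
        have h4 : (x : G)⁻¹ * ((x : G) * q * (x : G)⁻¹) * (x : G) = q := by group
        rwa [h4] at h3
      have h2 := (Subgroup.mem_normalizer_iff.1 hxN ⟨q, hqS⟩).2 (by
        rw [Subgroup.mem_subgroupOf]
        exact hq)
      rw [Subgroup.mem_subgroupOf] at h2
      exact h2
  · intro h
    apply hxQ
    rw [Subgroup.mem_subgroupOf]
    exact h

/-- all principal pairs on subgroups of a `p`-subgroup `S` lie below the principal pair on `S` -/
theorem principal_subpairLE (p : ℕ) [Fact p.Prime] (M : Ideal AlgInt) (hM : IsPModular p M)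
    (S : Subgroup G) (hS : IsPGroup p S) :
    ∀ (n : ℕ) (Q : Subgroup G), Q ≤ S → Nat.card S - Nat.card Q ≤ n →
      SubpairLE p M Q (principalBlock M (Subgroup.centralizer (Q : Set G))) S
        (principalBlock M (Subgroup.centralizer (S : Set G))) := by
  intro n
  induction n with
  | zero =>
    intro Q hQS hn
    have hle : Nat.card S ≤ Nat.card Q := by omega
    have hQ : Q = S := Subgroup.eq_of_le_of_card_ge hQS hle
    subst hQ
    exact Relation.ReflTransGen.refl
  | succ n ih =>
    intro Q hQS hn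
    rcases eq_or_lt_of_le hQS with hQ | hlt
    · subst hQ
      exact Relation.ReflTransGen.refl
    · obtain ⟨x, hxS, hxN, hxQ⟩ := exists_normalizing_not_mem hS hlt
      obtain ⟨R, hRdef⟩ : ∃ R : Subgroup G, R = S ⊓ Subgroup.normalizer (Q : Set G) := ⟨_, rfl⟩
      have hQR : Q ≤ R := by
        rw [hRdef]
        exact le_inf hQS Subgroup.le_normalizer
      have hRS : R ≤ S := by rw [hRdef]; exact inf_le_left
      have hRN : R ≤ Subgroup.normalizer (Q : Set G) := by rw [hRdef]; exact inf_le_right
      have hxR : x ∈ R := by rw [hRdef]; exact ⟨hxS, hxN⟩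
      have hcard : Nat.card Q < Nat.card R := by
        by_contra hcon
        push Not at hcon
        have := Subgroup.eq_of_le_of_card_ge hQR hcon
        rw [← this] at hxR
        exact hxQ hxR
      have hRle : Nat.card R ≤ Nat.card S := Subgroup.card_le_of_le hRS
      have hstep : NormalSubpairRel p M
          (⟨Q, principalBlock M (Subgroup.centralizer (Q : Set G))⟩ : BrauerPairIdx G)
          ⟨R, principalBlock M (Subgroup.centralizer (R : Set G))⟩ :=
        principal_normalSubpair p M hM Q R (hS.to_le hRS) hQR hRN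
      have hrest := ih R hRS (by omega)
      exact Relation.ReflTransGen.head hstep hrest

end Chain


section ConjB

variable {G : Type u} [Group G]

/-- conjugation by `x⁻¹` as an isomorphism `C_G(x Q x⁻¹) ≃* C_G(Q)` -/
noncomputable def centralizerConjEquiv (Q : Subgroup G) (x : G) :
    Subgroup.centralizer ((Q.map (MulAut.conj x).toMonoidHom : Subgroup G) : Set G) ≃*
      Subgroup.centralizer (Q : Set G) where
  toFun c := ⟨x⁻¹ * (c : G) * x, by
    rw [Subgroup.mem_centralizer_iff]
    intro q hq
    have hmem : x * q * x⁻¹ ∈ ((Q.map (MulAut.conj x).toMonoidHom : Subgroup G) : Set G) :=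
      ⟨q, hq, by simp [MulAut.conj_apply]⟩
    have h := (Subgroup.mem_centralizer_iff.1 c.2) _ hmem
    calc q * (x⁻¹ * (c : G) * x) = x⁻¹ * ((x * q * x⁻¹) * (c : G)) * x := by group
      _ = x⁻¹ * ((c : G) * (x * q * x⁻¹)) * x := by rw [h]
      _ = x⁻¹ * (c : G) * x * q := by group⟩
  invFun c := ⟨x * (c : G) * x⁻¹, by
    rw [Subgroup.mem_centralizer_iff]
    rintro _ ⟨q, hq, rfl⟩
    have h := (Subgroup.mem_centralizer_iff.1 c.2) q hq
    show (MulAut.conj x).toMonoidHom q * (x * (c : G) * x⁻¹) =
      x * (c : G) * x⁻¹ * (MulAut.conj x).toMonoidHom q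
    simp only [MulEquiv.coe_toMonoidHom, MulAut.conj_apply]
    calc x * q * x⁻¹ * (x * (c : G) * x⁻¹) = x * (q * (c : G)) * x⁻¹ := by group
      _ = x * ((c : G) * q) * x⁻¹ := by rw [h]
      _ = x * (c : G) * x⁻¹ * (x * q * x⁻¹) := by group⟩
  left_inv c := Subtype.ext (by
    show x * (x⁻¹ * (c : G) * x) * x⁻¹ = c
    group)
  right_inv c := Subtype.ext (by
    show x⁻¹ * (x * (c : G) * x⁻¹) * x = c
    group)
  map_mul' a b := Subtype.ext (by
    show x⁻¹ * ((a : G) * (b : G)) * x = (x⁻¹ * (a : G) * x) * (x⁻¹ * (b : G) * x)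
    group)

theorem centralizerConjEquiv_coe (Q : Subgroup G) (x : G)
    (c : Subgroup.centralizer ((Q.map (MulAut.conj x).toMonoidHom : Subgroup G) : Set G)) :
    ((centralizerConjEquiv Q x c : Subgroup.centralizer (Q : Set G)) : G) = x⁻¹ * (c : G) * x :=
  rfl

theorem centralizerConjEquiv_symm_coe (Q : Subgroup G) (x : G)
    (c : Subgroup.centralizer (Q : Set G)) :
    (((centralizerConjEquiv Q x).symm c :
      Subgroup.centralizer ((Q.map (MulAut.conj x).toMonoidHom : Subgroup G) : Set G)) : G) =
      x * (c : G) * x⁻¹ :=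
  rfl

theorem conjBlock_principal [Fintype G] (p : ℕ) [Fact p.Prime] (M : Ideal AlgInt)
    (hM : IsPModular p M) (Q : Subgroup G) (x : G) :
    conjBlock Q x (principalBlock M (Subgroup.centralizer (Q : Set G))) =
      principalBlock M
        (Subgroup.centralizer ((Q.map (MulAut.conj x).toMonoidHom : Subgroup G) : Set G)) := by
  classical
  letI : Fintype (Subgroup.centralizer (Q : Set G)) := Fintype.ofFinite _
  letI : Fintype (Subgroup.centralizer ((Q.map (MulAut.conj x).toMonoidHom : Subgroup G) :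
    Set G)) := Fintype.ofFinite _
  ext ξ'
  constructor
  · rintro ⟨ξ, hξ, hconj⟩
    have h1 := comp_mulEquiv_mem_principalBlock (centralizerConjEquiv Q x) p M hM ξ hξ
    have h2 : ξ' = ⟨fun h => (ξ : Subgroup.centralizer (Q : Set G) → ℂ)
        (centralizerConjEquiv Q x h),
        helper8.isIrrCharacter_comp_mulEquiv (centralizerConjEquiv Q x) ξ.2⟩ := by
      apply Subtype.ext
      funext c'
      apply hconj (centralizerConjEquiv Q x c') c'
      rw [centralizerConjEquiv_coe]
      group
    rw [h2]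
    exact h1
  · intro hξ'
    have h1 := comp_mulEquiv_mem_principalBlock (centralizerConjEquiv Q x).symm p M hM ξ' hξ'
    refine ⟨_, h1, ?_⟩
    intro c c' hcc'
    show (ξ' : _ → ℂ) c' = (ξ' : _ → ℂ) ((centralizerConjEquiv Q x).symm c)
    have h3 : c' = (centralizerConjEquiv Q x).symm c := by
      apply Subtype.ext
      rw [centralizerConjEquiv_symm_coe]
      exact hcc'
    rw [h3]

end ConjB

section Final

variable {G : Type u} [Group G] [Fintype G]

/-- S4681 -/
theorem principal_fusion_main (p : ℕ) [Fact p.Prime] (M : Ideal AlgInt) (hM : IsPModular p M)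
    (S : Sylow p G) :
    IsMaximalBrauerPair p M (principalBlock M G) (S : Subgroup G)
      (principalBlock M (Subgroup.centralizer ((S : Subgroup G) : Set G))) ∧
    ∀ F : FusionSystem (S : Subgroup G),
      IsBlockFusionSystemOn p M (principalBlock M G) (S : Subgroup G)
        (principalBlock M (Subgroup.centralizer ((S : Subgroup G) : Set G))) F →
      ∀ Q : Subgroup G, F.Hom Q = (groupFusionSystem (S : Subgroup G)).Hom Q := by
  classical
  have hmax : IsMaximalBrauerPair p M (principalBlock M G) (S : Subgroup G)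
      (principalBlock M (Subgroup.centralizer ((S : Subgroup G) : Set G))) := by
    refine ⟨(principal_brauer_pair p M hM (S : Subgroup G) S.2 _
      (isPBlock_principalBlock M)).2 rfl, ?_⟩
    intro R g hpair hle
    have h1 : (S : Subgroup G) ≤ R := subpairLE_le hle
    have h2 : IsPGroup p R := hpair.1.1
    exact S.is_maximal' h2 h1
  refine ⟨hmax, ?_⟩
  intro F hF Q
  ext φ
  rw [hF.2 Q φ]
  constructor
  · rintro ⟨hQS, g, hg, hmap, _⟩
    refine ⟨hQS, ?_, g, hg⟩
    intro x
    apply hmap
    refine ⟨(x : G), x.2, ?_⟩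
    rw [hg x]
    simp [MulAut.conj_apply]
  · rintro ⟨hQS, hφS, g, hg⟩
    have hmap : Q.map (MulAut.conj g).toMonoidHom ≤ (S : Subgroup G) := by
      rintro _ ⟨q, hq, rfl⟩
      have := hφS ⟨q, hq⟩
      rw [hg ⟨q, hq⟩] at this
      simpa [MulAut.conj_apply] using this
    refine ⟨hQS, g, hg, hmap, principalBlock M (Subgroup.centralizer (Q : Set G)), ?_, ?_⟩
    · exact principal_subpairLE p M hM (S : Subgroup G) S.2 _ Q hQS le_rfl
    · rw [conjBlock_principal p M hM Q g]
      exact principal_subpairLE p M hM (S : Subgroup G) S.2 _ _ hmap le_rfl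

end Final

end Cfsg.Agent.helper1
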