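import Mathlib
import Cfsg.Agent.Lib_helper24_BrauerPairs

set_option autoImplicit false

namespace Cfsg.Agent.helper24

open Cfsg
open scoped ComplexConjugate

universe u

section BP2

variable {G : Type u} [Group G] [Fintype G]

open Classical in
/-- the value of the Brauer-map central character of a block of `C(P)` on the idempotent of a
block of `G` -/
theorem brauerOmega_blockCoeff (p : ℕ) [Fact p.Prime] (M : Ideal AlgInt) (hM : IsPModular p M)
    (P : Subgroup G) (hP : IsPGroup p P)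
    (e : Set (IrrCharacter (Subgroup.centralizer (P : Set G)))) (he : IsPBlock M e) :
    ∃ χ : IrrCharacter G, ∀ B : Set (IrrCharacter G), IsPBlock M B →
      ∀ ξ ∈ e, MemLocalIdeal M (brauerOmega P (blockCoeff B)
        (ξ : Subgroup.centralizer (P : Set G) → ℂ) - if χ ∈ B then 1 else 0) := by
  classical
  have hMp : M.IsPrime := hM.2.1.isPrime
  have hMtop := hMp.ne_top
  letI := Fintype.ofFinite (Subgroup.centralizer (P : Set G))
  obtain ⟨ξ₀, hbeq⟩ := he
  obtain ⟨χ, hχ⟩ := brauer_central_char_exists p M hM hP le_rfl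
    (Subgroup.centralizer_le_normalizer _) ξ₀
  refine ⟨χ, ?_⟩
  intro B hB ξ hξ
  obtain ⟨χ₀, hBeq⟩ := hB
  obtain ⟨hacf, haR, -, -⟩ := blockCoeff_props (M := M) χ₀
  rw [← hBeq] at hacf haR
  have h2 := hχ (blockCoeff B) hacf haR
  rw [omegaFn_blockCoeff] at h2
  rw [brauerOmega_eq]
  unfold brOmega at h2 ⊢
  rw [hbeq] at hξ
  have h3 := omegaFn_sub_memLocalIdeal (M := M) (χ := ξ₀) (ψ := ξ) hξ
    (brRes_isClassFunction (P := P) (Subgroup.centralizer_le_normalizer _) hacf)
    (brRes_memLocalRing hMtop P (Subgroup.centralizer (P : Set G)) haR)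
  have e1 : omegaFn (ξ : Subgroup.centralizer (P : Set G) → ℂ)
      (brRes P (Subgroup.centralizer (P : Set G)) (blockCoeff B)) - (if χ ∈ B then 1 else 0) =
      -(omegaFn (ξ₀ : Subgroup.centralizer (P : Set G) → ℂ)
        (brRes P (Subgroup.centralizer (P : Set G)) (blockCoeff B)) -
        omegaFn (ξ : Subgroup.centralizer (P : Set G) → ℂ)
        (brRes P (Subgroup.centralizer (P : Set G)) (blockCoeff B))) +
      (omegaFn (ξ₀ : Subgroup.centralizer (P : Set G) → ℂ)
        (brRes P (Subgroup.centralizer (P : Set G)) (blockCoeff B)) -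
        (if χ ∈ B then 1 else 0)) := by ring
  rw [e1]
  exact memLocalIdeal_add (memLocalIdeal_neg h3) h2

/-- every Brauer pair belongs to exactly one block -/
theorem brauer_pair_unique_block (p : ℕ) [Fact p.Prime] (M : Ideal AlgInt) (hM : IsPModular p M)
    (P : Subgroup G) (e : Set (IrrCharacter (Subgroup.centralizer (P : Set G))))
    (hPe : IsBrauerPair p M P e) : ∃! B : Set (IrrCharacter G), IsBrauerPairOf p M B P e := by
  classical
  have hMp : M.IsPrime := hM.2.1.isPrime
  have hMtop := hMp.ne_top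
  obtain ⟨χ, hχ⟩ := brauerOmega_blockCoeff p M hM P hPe.1 e hPe.2
  have hχB : χ ∈ blockOf M (χ : G → ℂ) := sameBlock_refl M hMtop _
  refine ⟨blockOf M (χ : G → ℂ), ⟨hPe, ⟨χ, rfl⟩, ?_⟩, ?_⟩
  · intro ξ hξ
    have h := hχ _ ⟨χ, rfl⟩ ξ hξ
    rw [if_pos hχB] at h
    exact h
  · rintro B' ⟨-, hB', hall⟩
    obtain ⟨ξ₀, hbeq⟩ := hPe.2
    have hξ₀ : ξ₀ ∈ e := by rw [hbeq]; exact sameBlock_refl M hMtop _
    have h1 := hall ξ₀ hξ₀
    have h2 := hχ B' hB' ξ₀ hξ₀
    have hmem : χ ∈ B' := by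
      by_contra hne
      rw [if_neg hne, sub_zero] at h2
      have h3 := memLocalIdeal_sub h2 h1
      rw [sub_sub_cancel] at h3
      exact not_memLocalIdeal_one h3
    exact (blockOf_eq_of_mem hB' hmem).symm

end BP2

end Cfsg.Agent.helper24
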