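import Cfsg.Statements.S0964
import Mathlib
import Cfsg.Agent.Lib_helper8_Cover

set_option autoImplicit false
open Cfsg

namespace Cfsg.Agent.S0964

/-- Let N be a normal subgroup of the finite group G, B a block of G and b a block of N relative to a maximal ideal M of the algebraic integers containing the prime p. Suppose some χ ∈ B has a constituent θ ∈ b on restriction to N. Then for every χ' ∈ B and every constituent ψ of the restriction of χ' to N there are g ∈ G and θ' ∈ b with ψ n = θ' (g n g⁻¹) for all n ∈ N. -/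
theorem result {G : Type*} [Group G] [Fintype G] (p : ℕ) [Fact p.Prime] (M : Ideal Cfsg.AlgInt) (hM : Cfsg.IsPModular p M) (N : Subgroup G) [hN : N.Normal] [Fintype N] (B : Set (Cfsg.IrrCharacter G)) (hB : Cfsg.IsPBlock M B) (b : Set (Cfsg.IrrCharacter N)) (hb : Cfsg.IsPBlock M b) (χ : Cfsg.IrrCharacter G) (hχ : χ ∈ B) (θ : Cfsg.IrrCharacter N) (hθ : θ ∈ b) (hcon : Cfsg.classInner (fun n : N => (χ : G → ℂ) n) (θ : N → ℂ) ≠ 0) (χ' : Cfsg.IrrCharacter G) (hχ' : χ' ∈ B) (ψ : Cfsg.IrrCharacter N) (hψ : Cfsg.classInner (fun n : N => (χ' : G → ℂ) n) (ψ : N → ℂ) ≠ 0) : ∃ g : G, ∃ θ' ∈ b, ∀ n : N, (ψ : N → ℂ) n = (θ' : N → ℂ) ⟨g * n * g⁻¹, hN.conj_mem n n.2 g⟩ := by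
  classical
  obtain ⟨_, hmax, _⟩ := hM
  haveI hMp : M.IsPrime := hmax.isPrime
  obtain ⟨χ₀, rfl⟩ := hB
  obtain ⟨θ₀, rfl⟩ := hb
  have hc1 : ∀ (g : G) (φ : N → ℂ), Cfsg.Agent.helper8.conjFunN N g⁻¹
      (Cfsg.Agent.helper8.conjFunN N g φ) = φ := by
    intro g φ
    rw [← Cfsg.Agent.helper24.conjFunN_mul, mul_inv_cancel, Cfsg.Agent.helper24.conjFunN_one]
  have hc2 : ∀ (g : G) (φ : N → ℂ), Cfsg.Agent.helper8.conjFunN N g
      (Cfsg.Agent.helper8.conjFunN N g⁻¹ φ) = φ := by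
    intro g φ
    rw [← Cfsg.Agent.helper24.conjFunN_mul, inv_mul_cancel, Cfsg.Agent.helper24.conjFunN_one]
  set A : Set (Cfsg.IrrCharacter N) := {ψ | ∃ g : G, ∃ θ' ∈ Cfsg.blockOf M (θ₀ : N → ℂ),
    (ψ : N → ℂ) = Cfsg.Agent.helper8.conjFunN N g (θ' : N → ℂ)} with hA
  have hAcl : ∀ φ ∈ A, ∀ φ' : Cfsg.IrrCharacter N,
      Cfsg.SameBlock M (φ : N → ℂ) (φ' : N → ℂ) → φ' ∈ A := by
    rintro φ ⟨g, θ', hθ', hφ⟩ φ' hs
    refine ⟨g, ⟨Cfsg.Agent.helper8.conjFunN N g⁻¹ (φ' : N → ℂ),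
      Cfsg.Agent.helper8.isIrrCharacter_conjFunN N g⁻¹ φ'.2⟩, ?_, ?_⟩
    · have h1 := Cfsg.Agent.helper8.Cover.sameBlock_conj (M := M) N g⁻¹ hs
      rw [hφ, hc1] at h1
      exact Cfsg.Agent.helper24.sameBlock_trans hθ' h1
    · exact (hc2 g _).symm
  obtain ⟨v, hv, hv1, hv0⟩ : ∃ v : Cfsg.IrrCharacter N → ℂ,
      v ∈ Cfsg.Agent.helper24.goodSubring N M ∧ (∀ φ, φ ∈ A → v φ = 1) ∧ (∀ φ, φ ∉ A → v φ = 0) :=
    ⟨_, Cfsg.Agent.helper8.Cover.indicator_mem_goodSubring (M := M) A hAcl,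
      fun φ h => if_pos h, fun φ h => if_neg h⟩
  have hmem : ∀ (g : G) (φ : Cfsg.IrrCharacter N),
      ((⟨Cfsg.Agent.helper8.conjFunN N g (φ : N → ℂ),
        Cfsg.Agent.helper8.isIrrCharacter_conjFunN N g φ.2⟩ : Cfsg.IrrCharacter N) ∈ A ↔ φ ∈ A) := by
    intro g φ
    constructor
    · rintro ⟨k, θ', hθ', h⟩
      refine ⟨k * g⁻¹, θ', hθ', ?_⟩
      rw [Cfsg.Agent.helper24.conjFunN_mul, ← h]
      exact (hc1 g _).symm
    · rintro ⟨k, θ', hθ', h⟩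
      refine ⟨k * g, θ', hθ', ?_⟩
      show Cfsg.Agent.helper8.conjFunN N g (φ : N → ℂ) = _
      rw [Cfsg.Agent.helper24.conjFunN_mul, ← h]
  have hinv : ∀ (g : G) (φ : Cfsg.IrrCharacter N),
      v ⟨Cfsg.Agent.helper8.conjFunN N g (φ : N → ℂ),
          Cfsg.Agent.helper8.isIrrCharacter_conjFunN N g φ.2⟩ = v φ := by
    intro g φ
    by_cases h : φ ∈ A
    · rw [hv1 φ h, hv1 _ ((hmem g φ).mpr h)]
    · rw [hv0 φ h, hv0 _ (fun h' => h ((hmem g φ).mp h'))]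
  have h01 : ∀ φ : Cfsg.IrrCharacter N, v φ = 0 ∨ v φ = 1 := by
    intro φ
    by_cases h : φ ∈ A
    · exact Or.inr (hv1 φ h)
    · exact Or.inl (hv0 φ h)
  have hs : Cfsg.SameBlock M (χ : G → ℂ) (χ' : G → ℂ) :=
    Cfsg.Agent.helper24.sameBlock_trans (Cfsg.Agent.helper24.sameBlock_symm hχ) hχ'
  have hval := Cfsg.Agent.helper8.Cover.value_eq_of_sameBlock N hv hinv h01 hs hcon hψ
  have hθA : θ ∈ A := ⟨1, θ, hθ, by rw [Cfsg.Agent.helper24.conjFunN_one]⟩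
  rw [hv1 θ hθA] at hval
  have hψA : ψ ∈ A := by
    by_contra h
    rw [hv0 ψ h] at hval
    exact one_ne_zero hval
  obtain ⟨g, θ', hθ', h⟩ := hψA
  exact ⟨g, θ', hθ', fun n => by rw [h]; rfl⟩

end Cfsg.Agent.S0964
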