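import Cfsg.Statements.S0932
import Mathlib
import Cfsg.Agent.Lib_helper5_Ind

set_option autoImplicit false
open Cfsg

namespace Cfsg.Agent.S0932

open Cfsg.Agent.helper5

theorem inducedCentralChar_eq {G : Type*} [Group G] (H : Subgroup G) [Fintype H] (ξ : H → ℂ)
    (g : G) [DecidablePred (IsConj g)] :
    inducedCentralChar H ξ g = (∑ h : H, if IsConj g (h : G) then ξ h else 0) / ξ 1 := by
  unfold inducedCentralChar
  have : ∀ h : H, (∑ᶠ (_ : h ∈ {h : H | IsConj g (h : G)}), ξ h / ξ 1) =
      if IsConj g (h : G) then ξ h / ξ 1 else 0 := by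
    intro h
    rw [finsum_eq_if]
    rfl
  simp only [this]
  rw [finsum_eq_sum_of_fintype, Finset.sum_div]
  apply Finset.sum_congr rfl
  intro h _
  split_ifs <;> simp

theorem result {G : Type*} [Group G] [Fintype G] (H : Subgroup G) (ξ : H → ℂ) (hξ : Cfsg.IsCharacter H ξ) (g : G) : Cfsg.inducedCentralChar H ξ g = Cfsg.centralChar (Cfsg.indFun H ξ) g := by
  classical
  have : Fintype H := Fintype.ofFinite H
  rw [inducedCentralChar_eq]
  unfold centralChar
  rw [indFun_apply H ξ g, indFun_apply H ξ 1]
  set S : ℂ := ∑ h : H, if IsConj g (h : G) then ξ h else 0 with hS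
  have h1 : (∑ h : H, if IsConj (1 : G) (h : G) then ξ h else 0) = ξ 1 := by
    rw [Finset.sum_eq_single (1 : H)]
    · simp
    · intro b _ hb
      rw [if_neg]
      intro hcon
      apply hb
      have := isConj_one_right.mp hcon
      exact Subtype.ext this
    · intro h; exact absurd (Finset.mem_univ _) h
  rw [h1]
  have hcent1 : Nat.card (Subgroup.centralizer ({(1 : G)} : Set G)) = Nat.card G := by
    have : Subgroup.centralizer ({(1 : G)} : Set G) = ⊤ := by
      rw [eq_top_iff]
      intro x _
      rw [Subgroup.mem_centralizer_iff]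
      intro z hz
      rw [Set.mem_singleton_iff] at hz
      subst hz; simp
    rw [this, Subgroup.card_top]
  rw [hcent1]
  have hHne : (Nat.card H : ℂ) ≠ 0 := by
    exact_mod_cast Nat.card_pos.ne'
  have hGne : (Nat.card G : ℂ) ≠ 0 := by
    exact_mod_cast Nat.card_pos.ne'
  have hidx : ((Subgroup.centralizer ({g} : Set G)).index : ℂ) *
      (Nat.card (Subgroup.centralizer ({g} : Set G)) : ℂ) = (Nat.card G : ℂ) := by
    rw [mul_comm]
    exact_mod_cast card_centralizer_mul_index g
  by_cases hx1 : ξ 1 = 0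
  · rw [hx1]; simp
  · field_simp
    rw [← hidx]; ring

end Cfsg.Agent.S0932
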