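import Cfsg.Statements.S0933
import Mathlib
import Cfsg.Agent.S0932
import Cfsg.Agent.Lib_helper24_BlockBasic
import Cfsg.Agent.Lib_helper24_LocalIdeal
import Cfsg.Agent.Lib_helper24_LocalRing

set_option autoImplicit false
open Cfsg

namespace Cfsg.Agent.S0933
open Cfsg.Agent.helper24 in
/-- The induced central character as a value of `omegaFn`. -/
theorem icc_eq_omega {G : Type*} [Group G] (H : Subgroup G) [Fintype H] (ζ : H → ℂ) (g : G)
    [DecidablePred (IsConj g)] :
    inducedCentralChar H ζ g = omegaFn ζ (fun h : H => if IsConj g (h : G) then (1 : ℂ) else 0) := by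
  rw [Cfsg.Agent.S0932.inducedCentralChar_eq]
  unfold omegaFn
  congr 1
  apply Finset.sum_congr rfl
  intro h _
  show (if IsConj g (h : G) then ζ h else 0) = (if IsConj g (h : G) then (1 : ℂ) else 0) * ζ h
  by_cases hc : IsConj g (h : G)
  · rw [if_pos hc, if_pos hc, one_mul]
  · rw [if_neg hc, if_neg hc, zero_mul]

theorem ind_isClassFunction {G : Type*} [Group G] (H : Subgroup G) (g : G)
    [DecidablePred (IsConj g)] :
    IsClassFunction H (fun h : H => if IsConj g (h : G) then (1 : ℂ) else 0) := by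
  intro h k
  have : IsConj g ((k * h * k⁻¹ : H) : G) ↔ IsConj g (h : G) := by
    have hc : IsConj ((k * h * k⁻¹ : H) : G) (h : G) := by
      rw [isConj_comm, isConj_iff]
      exact ⟨(k : G), by simp⟩
    constructor
    · intro h1; exact h1.trans hc
    · intro h1; exact h1.trans hc.symm
  simp only [this]

open Cfsg.Agent.helper24 in
theorem ind_local {G : Type*} [Group G] (H : Subgroup G) (g : G) [DecidablePred (IsConj g)]
    (M : Ideal AlgInt) (hM : M ≠ ⊤) (h : H) :
    MemLocalRing M ((fun h : H => if IsConj g (h : G) then (1 : ℂ) else 0) h) := by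
  show MemLocalRing M (if IsConj g (h : G) then (1 : ℂ) else 0)
  split_ifs
  · exact memLocalRing_one hM
  · exact memLocalRing_zero hM


/-- Let H be a subgroup of the finite group G and ξ an irreducible character of H such that the induced function ξ^G is an irreducible character of G. Then, relative to any maximal ideal M of the algebraic integers containing the prime p, the block of ξ induces the block of ξ^G. -/
theorem result {G : Type*} [Group G] [Fintype G] (p : ℕ) [Fact p.Prime] (M : Ideal Cfsg.AlgInt) (hM : Cfsg.IsPModular p M) (H : Subgroup G) (ξ : Cfsg.IrrCharacter H) (hind : Cfsg.IsIrrCharacter G (Cfsg.indFun H (ξ : H → ℂ))) : Cfsg.IsInducedBlock M H (Cfsg.blockOf M (ξ : H → ℂ)) (Cfsg.blockOf M (Cfsg.indFun H (ξ : H → ℂ))) := by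
  classical
  haveI : Fintype H := Fintype.ofFinite H
  obtain ⟨_, hmax, _⟩ := hM
  haveI hMp : M.IsPrime := hmax.isPrime
  refine ⟨⟨ξ, rfl⟩, ⟨⟨_, hind⟩, rfl⟩, ?_⟩
  intro ξ' hξ' χ hχ g
  have h1 : Cfsg.inducedCentralChar H (ξ : H → ℂ) g
      = Cfsg.centralChar (Cfsg.indFun H (ξ : H → ℂ)) g :=
    Cfsg.Agent.S0932.result H (ξ : H → ℂ) (Cfsg.Agent.helper24.irr_isCharacter ξ.2) g
  have h3 := Cfsg.Agent.helper24.omegaFn_sub_memLocalIdeal (M := M) (χ := ξ') (ψ := ξ)
    (Cfsg.Agent.helper24.sameBlock_symm hξ') (ind_isClassFunction H g)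
    (ind_local H g M hMp.ne_top)
  have h4 : Cfsg.MemLocalIdeal M (Cfsg.centralChar (Cfsg.indFun H (ξ : H → ℂ)) g
      - Cfsg.centralChar (χ : G → ℂ) g) := hχ g
  have e : Cfsg.inducedCentralChar H (ξ' : H → ℂ) g - Cfsg.centralChar (χ : G → ℂ) g
      = (Cfsg.Agent.helper24.omegaFn (ξ' : H → ℂ)
            (fun h : H => if IsConj g (h : G) then (1 : ℂ) else 0)
          - Cfsg.Agent.helper24.omegaFn (ξ : H → ℂ)
            (fun h : H => if IsConj g (h : G) then (1 : ℂ) else 0))
        + (Cfsg.centralChar (Cfsg.indFun H (ξ : H → ℂ)) g - Cfsg.centralChar (χ : G → ℂ) g) := by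
    rw [icc_eq_omega H (ξ' : H → ℂ) g, ← h1, icc_eq_omega H (ξ : H → ℂ) g]
    ring
  rw [e]
  exact Cfsg.Agent.helper24.memLocalIdeal_add h3 h4

end Cfsg.Agent.S0933
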