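import Cfsg.Statements.S0963
import Mathlib
import Cfsg.Agent.S0932
import Cfsg.Agent.Lib_helper5_Clifford
import Cfsg.Agent.Lib_helper8_Ind
import Cfsg.Agent.Lib_helper8_Coh
import Cfsg.Agent.Lib_helper24_CharCount

set_option autoImplicit false
open Cfsg

namespace Cfsg.Agent.S0963
open Cfsg.Agent.helper24 Cfsg.Agent.helper8 Cfsg.Agent.helper5 in
/-- If `θ` lies under `χ`, the restrictions of `χ` and of the induced function are
proportional. -/
theorem prop_of_under {G : Type*} [Group G] [Fintype G] (N : Subgroup G) [hN : N.Normal] [Fintype N]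
    {χ : G → ℂ} (hχ : IsIrrCharacter G χ) {θ : N → ℂ} (hθ : IsIrrCharacter N θ)
    (he : classInner (res N χ) θ ≠ 0) :
    classInner (res N (indFun N θ)) θ • res N χ
      = classInner (res N χ) θ • res N (indFun N θ) := by
  classical
  haveI : Fintype (IrrCharacter N) := Fintype.ofFinite _
  have hχcl : IsClassFunction G χ := char_isClassFunction (irr_isCharacter hχ)
  have hIcl : IsClassFunction G (indFun N θ) := Cfsg.Agent.helper8.indFun_isClassFunction N θ
  have hrescl : ∀ F : G → ℂ, IsClassFunction G F → IsClassFunction N (res N F) := by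
    intro F hF g k
    show F ((k * g * k⁻¹ : N) : G) = F (g : G)
    rw [Subgroup.coe_mul, Subgroup.coe_mul, Subgroup.coe_inv]
    exact hF _ _
  set e := classInner (res N χ) θ with he'
  set s := classInner (res N (indFun N θ)) θ with hs'
  have key : ∀ φ : IrrCharacter N, s * classInner (res N χ) (φ : N → ℂ)
      = e * classInner (res N (indFun N θ)) (φ : N → ℂ) := by
    intro φ
    by_cases hconj : ∃ g : G, (φ : N → ℂ) = conjFunN N g θ
    · obtain ⟨g, hg⟩ := hconj
      rw [hg, classInner_res_conjFunN N χ hχcl, classInner_res_conjFunN N _ hIcl]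
      ring
    · have h1 : classInner (res N χ) (φ : N → ℂ) = 0 := by
        by_contra h
        exact hconj (clifford_conj N hχ hθ φ.2 he h)
      have h2 : classInner (res N (indFun N θ)) (φ : N → ℂ) = 0 := by
        rw [classInner_res_indFun, Finset.sum_eq_zero, mul_zero]
        intro x _
        apply irr_classInner_ne (isIrrCharacter_conjFunN N x⁻¹ hθ) φ.2
        intro h
        exact hconj ⟨x⁻¹, h.symm⟩
      rw [h1, h2, mul_zero, mul_zero]
  have e1 := classFunction_expansion (hrescl χ hχcl)
  have e2 := classFunction_expansion (hrescl _ hIcl)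
  calc s • res N χ = s • ∑ φ : IrrCharacter N, classInner (res N χ) (φ : N → ℂ) • (φ : N → ℂ) := by
        rw [← e1]
    _ = e • ∑ φ : IrrCharacter N, classInner (res N (indFun N θ)) (φ : N → ℂ) • (φ : N → ℂ) := by
        rw [Finset.smul_sum, Finset.smul_sum]
        apply Finset.sum_congr rfl
        intro φ _
        rw [smul_smul, smul_smul, key φ]
    _ = e • res N (indFun N θ) := by rw [← e2]


/-- Let N be a normal subgroup of the finite group G, χ an irreducible character of G and θ an irreducible character of N. Then θ occurs in the restriction of χ to N if and only if, for every n ∈ N, the central character of χ at n (class size in G times χ n over χ 1) equals the sum of θ m / θ 1 over the elements m of N conjugate in G to n. -/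
theorem result {G : Type*} [Group G] [Fintype G] (N : Subgroup G) [N.Normal] [Fintype N] (χ : Cfsg.IrrCharacter G) (θ : Cfsg.IrrCharacter N) : Cfsg.classInner (fun n : N => (χ : G → ℂ) n) (θ : N → ℂ) ≠ 0 ↔ ∀ n : N, Cfsg.centralChar (χ : G → ℂ) (n : G) = Cfsg.inducedCentralChar N (θ : N → ℂ) (n : G) := by
  classical
  have hθc : Cfsg.IsCharacter N (θ : N → ℂ) := Cfsg.Agent.helper24.irr_isCharacter θ.2
  have hχ1 : (χ : G → ℂ) 1 ≠ 0 := Cfsg.Agent.helper24.irr_apply_one_ne_zero χ.2
  have hI1 : Cfsg.indFun N (θ : N → ℂ) 1 ≠ 0 := by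
    rw [Cfsg.Agent.helper5.indFun_one]
    apply mul_ne_zero
    · exact_mod_cast (Subgroup.index_ne_zero_of_finite (H := N))
    · exact Cfsg.Agent.helper24.irr_apply_one_ne_zero θ.2
  have hs : Cfsg.classInner (Cfsg.Agent.helper5.res N (Cfsg.indFun N (θ : N → ℂ))) (θ : N → ℂ) ≠ 0 := by
    rw [← Cfsg.Agent.helper24.classInner_conj_symm]
    have h1 : Cfsg.classInner (θ : N → ℂ) (Cfsg.Agent.helper5.res N (Cfsg.indFun N (θ : N → ℂ)))
        = Cfsg.classInner (Cfsg.indFun N (θ : N → ℂ)) (Cfsg.indFun N (θ : N → ℂ)) :=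
      (Cfsg.Agent.helper8.frobenius N (θ : N → ℂ) _
        (Cfsg.Agent.helper8.indFun_isClassFunction N _)).symm
    rw [h1]
    intro h
    have h2 := (map_eq_zero _).mp h
    have h3 := Cfsg.Agent.helper8.Coh.classInner_self_eq_zero h2
    apply hI1
    rw [h3]
    rfl
  have hidx : ∀ g : G, ((Subgroup.centralizer ({g} : Set G)).index : ℂ) ≠ 0 := by
    intro g
    exact_mod_cast (Subgroup.index_ne_zero_of_finite (H := Subgroup.centralizer ({g} : Set G)))
  have hiff : ∀ n : N, (Cfsg.centralChar (χ : G → ℂ) (n : G)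
      = Cfsg.inducedCentralChar N (θ : N → ℂ) (n : G)) ↔
      (χ : G → ℂ) n * Cfsg.indFun N (θ : N → ℂ) 1
        = Cfsg.indFun N (θ : N → ℂ) n * (χ : G → ℂ) 1 := by
    intro n
    rw [Cfsg.Agent.S0932.result N (θ : N → ℂ) hθc (n : G)]
    unfold Cfsg.centralChar
    rw [div_eq_div_iff hχ1 hI1]
    constructor
    · intro h
      apply mul_left_cancel₀ (hidx (n : G))
      linear_combination h
    · intro h
      linear_combination ((Subgroup.centralizer ({(n : G)} : Set G)).index : ℂ) * h
  constructor
  · intro he n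
    rw [hiff n]
    have hp := prop_of_under N χ.2 θ.2 he
    have hpn := congrFun hp n
    have hp1 := congrFun hp 1
    simp only [Pi.smul_apply, smul_eq_mul, Cfsg.Agent.helper5.res_apply] at hpn hp1
    rw [Subgroup.coe_one] at hp1
    have he2 : Cfsg.classInner (Cfsg.Agent.helper5.res N (χ : G → ℂ)) (θ : N → ℂ) ≠ 0 := he
    apply mul_left_cancel₀ hs
    apply mul_left_cancel₀ he2
    linear_combination (Cfsg.classInner (Cfsg.Agent.helper5.res N (χ : G → ℂ)) (θ : N → ℂ)
        * Cfsg.indFun N (θ : N → ℂ) 1) * hpn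
      - (Cfsg.classInner (Cfsg.Agent.helper5.res N (χ : G → ℂ)) (θ : N → ℂ)
        * Cfsg.indFun N (θ : N → ℂ) (n : G)) * hp1
  · intro h
    have hres : Cfsg.Agent.helper5.res N (χ : G → ℂ)
        = ((χ : G → ℂ) 1 / Cfsg.indFun N (θ : N → ℂ) 1) •
          Cfsg.Agent.helper5.res N (Cfsg.indFun N (θ : N → ℂ)) := by
      funext n
      have := (hiff n).mp (h n)
      rw [Pi.smul_apply, smul_eq_mul, Cfsg.Agent.helper5.res_apply, Cfsg.Agent.helper5.res_apply,
        div_mul_eq_mul_div, eq_div_iff hI1]
      linear_combination this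
    show Cfsg.classInner (Cfsg.Agent.helper5.res N (χ : G → ℂ)) (θ : N → ℂ) ≠ 0
    rw [hres, Cfsg.Agent.helper24.classInner_smul_left]
    exact mul_ne_zero (div_ne_zero hχ1 hI1) hs

end Cfsg.Agent.S0963
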