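import Cfsg.Statements.S0965
import Mathlib
import Cfsg.Agent.Lib_helper8_Cover
import Cfsg.Agent.S0963
import Cfsg.Agent.S0933
import Cfsg.Agent.S0932

set_option autoImplicit false
open Cfsg

namespace Cfsg.Agent.S0965

/-- Let N be a normal subgroup of the finite group G and let B, b be blocks of G and of N relative to a maximal ideal M of the algebraic integers containing the prime p. Then some χ ∈ B has a constituent in b on restriction to N if and only if, for all χ ∈ B, θ ∈ b and n ∈ N, the central character of χ at n is congruent modulo the local ideal at M to the sum of θ m / θ 1 over the elements m ∈ N conjugate in G to n. -/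
theorem result {G : Type*} [Group G] [Fintype G] (p : ℕ) [Fact p.Prime] (M : Ideal Cfsg.AlgInt) (hM : Cfsg.IsPModular p M) (N : Subgroup G) [N.Normal] [Fintype N] (B : Set (Cfsg.IrrCharacter G)) (hB : Cfsg.IsPBlock M B) (b : Set (Cfsg.IrrCharacter N)) (hb : Cfsg.IsPBlock M b) : (∃ χ ∈ B, ∃ θ ∈ b, Cfsg.classInner (fun n : N => (χ : G → ℂ) n) (θ : N → ℂ) ≠ 0) ↔ ∀ χ ∈ B, ∀ θ ∈ b, ∀ n : N, Cfsg.MemLocalIdeal M (Cfsg.centralChar (χ : G → ℂ) (n : G) - Cfsg.inducedCentralChar N (θ : N → ℂ) (n : G)) := by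
  classical
  have hM' := hM
  obtain ⟨hp, hmax, _⟩ := hM'
  haveI hMp : M.IsPrime := hmax.isPrime
  obtain ⟨χ₁, rfl⟩ := hB
  obtain ⟨θ₁, rfl⟩ := hb
  constructor
  · rintro ⟨χ₀, hχ₀, θ₀, hθ₀, hunder⟩ χ hχ θ hθ n
    have e1 : Cfsg.MemLocalIdeal M (Cfsg.centralChar (χ : G → ℂ) (n : G)
        - Cfsg.centralChar (χ₀ : G → ℂ) (n : G)) :=
      (Cfsg.Agent.helper24.sameBlock_trans (Cfsg.Agent.helper24.sameBlock_symm hχ) hχ₀) n
    have e2 : Cfsg.centralChar (χ₀ : G → ℂ) (n : G)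
        = Cfsg.inducedCentralChar N (θ₀ : N → ℂ) (n : G) :=
      (Cfsg.Agent.S0963.result N χ₀ θ₀).mp hunder n
    have e3 : Cfsg.MemLocalIdeal M (Cfsg.inducedCentralChar N (θ₀ : N → ℂ) (n : G)
        - Cfsg.inducedCentralChar N (θ : N → ℂ) (n : G)) := by
      rw [Cfsg.Agent.S0933.icc_eq_omega N (θ₀ : N → ℂ) (n : G),
        Cfsg.Agent.S0933.icc_eq_omega N (θ : N → ℂ) (n : G)]
      exact Cfsg.Agent.helper24.omegaFn_sub_memLocalIdeal
        (Cfsg.Agent.helper24.sameBlock_trans (Cfsg.Agent.helper24.sameBlock_symm hθ₀) hθ)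
        (Cfsg.Agent.S0933.ind_isClassFunction N (n : G))
        (Cfsg.Agent.S0933.ind_local N (n : G) M hMp.ne_top)
    have e4 : Cfsg.centralChar (χ : G → ℂ) (n : G) - Cfsg.inducedCentralChar N (θ : N → ℂ) (n : G)
        = (Cfsg.centralChar (χ : G → ℂ) (n : G) - Cfsg.centralChar (χ₀ : G → ℂ) (n : G))
          + (Cfsg.inducedCentralChar N (θ₀ : N → ℂ) (n : G)
            - Cfsg.inducedCentralChar N (θ : N → ℂ) (n : G)) := by
      rw [e2]; ring
    rw [e4]
    exact Cfsg.Agent.helper24.memLocalIdeal_add e1 e3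
  · intro h
    obtain ⟨v, hv, hinv, h01, hv1⟩ := Cfsg.Agent.helper8.Cover.exists_cover_vector (M := M) N θ₁
    obtain ⟨U, hUcl, hUl, hU0, hUo⟩ := Cfsg.Agent.helper8.Cover.exists_lift N hv hinv
    obtain ⟨θ'', hθ''⟩ := Cfsg.Agent.helper8.Cover.exists_under N χ₁.2
    have hχ₁ : χ₁ ∈ Cfsg.blockOf M (χ₁ : G → ℂ) :=
      Cfsg.Agent.helper24.sameBlock_refl M hMp.ne_top _
    have hθ₁ : θ₁ ∈ Cfsg.blockOf M (θ₁ : N → ℂ) :=
      Cfsg.Agent.helper24.sameBlock_refl M hMp.ne_top _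
    have hvθ₁ : v θ₁ = 1 :=
      (hv1 θ₁).mpr ⟨1, θ₁, hθ₁, by rw [Cfsg.Agent.helper24.conjFunN_one]⟩
    have h1 : Cfsg.Agent.helper24.omegaFn (χ₁ : G → ℂ) U = v θ'' := by
      rw [Cfsg.Agent.helper8.Cover.omegaFn_of_under N hUcl hU0 χ₁.2 θ''.2 hθ'', hUo]
    have hIc : Cfsg.IsCharacter G (Cfsg.indFun N (θ₁ : N → ℂ)) :=
      Cfsg.Agent.helper12.isCharacter_indFun N (Cfsg.Agent.helper24.irr_isCharacter θ₁.2)
    have h2 : Cfsg.Agent.helper24.omegaFn (Cfsg.indFun N (θ₁ : N → ℂ)) U = 1 := by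
      have hF : Cfsg.IsClassFunction G (fun g => (starRingEnd ℂ) (U g)) := by
        intro g k
        show (starRingEnd ℂ) (U (k * g * k⁻¹)) = (starRingEnd ℂ) (U g)
        rw [hUcl g k]
      have hfr := Cfsg.Agent.helper8.frobenius N (θ₁ : N → ℂ) _ hF
      unfold Cfsg.classInner at hfr
      simp only [Complex.conj_conj] at hfr
      have hom : Cfsg.Agent.helper24.omegaFn (θ₁ : N → ℂ) (Cfsg.Agent.helper5.res N U) = 1 := by
        rw [hUo, hvθ₁]
      unfold Cfsg.Agent.helper24.omegaFn at hom ⊢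
      have hθ1 : (θ₁ : N → ℂ) 1 ≠ 0 := Cfsg.Agent.helper24.irr_apply_one_ne_zero θ₁.2
      have hsumN : ∑ n : N, (θ₁ : N → ℂ) n * U n = (θ₁ : N → ℂ) 1 := by
        rw [div_eq_one_iff_eq hθ1] at hom
        rw [← hom]
        apply Finset.sum_congr rfl
        intro n _
        rw [Cfsg.Agent.helper5.res_apply, mul_comm]
      rw [hsumN] at hfr
      have hG0 : (Nat.card G : ℂ) ≠ 0 := by exact_mod_cast (Nat.card_pos (α := G)).ne'
      have hN0 : (Nat.card N : ℂ) ≠ 0 := by exact_mod_cast (Nat.card_pos (α := N)).ne'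
      have hidx : (N.index : ℂ) = (Nat.card G : ℂ) / (Nat.card N : ℂ) := by
        rw [eq_div_iff hN0]
        exact_mod_cast (by rw [mul_comm]; exact Subgroup.card_mul_index N)
      have hsumG : ∑ g : G, U g * Cfsg.indFun N (θ₁ : N → ℂ) g
          = (Nat.card G : ℂ) * ((Nat.card N : ℂ)⁻¹ * (θ₁ : N → ℂ) 1) := by
        rw [← hfr, ← mul_assoc, mul_inv_cancel₀ hG0, one_mul]
        apply Finset.sum_congr rfl
        intro g _
        rw [mul_comm]
      rw [hsumG, Cfsg.Agent.helper5.indFun_one, hidx]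
      field_simp
    have h3 : Cfsg.MemLocalIdeal M (Cfsg.Agent.helper24.omegaFn (χ₁ : G → ℂ) U
        - Cfsg.Agent.helper24.omegaFn (Cfsg.indFun N (θ₁ : N → ℂ)) U) := by
      rw [Cfsg.Agent.helper24.omegaFn_eq_sum_classes
          (Cfsg.Agent.helper24.irr_isCharacter χ₁.2) hUcl,
        Cfsg.Agent.helper24.omegaFn_eq_sum_classes hIc hUcl, ← Finset.sum_sub_distrib]
      apply Cfsg.Agent.helper24.memLocalIdeal_sum
      intro C _
      rw [← mul_sub]
      by_cases hC : Quotient.out C ∈ N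
      · apply Cfsg.Agent.helper24.memLocalIdeal_mul_left (hUl _)
        rw [← Cfsg.Agent.S0932.result N (θ₁ : N → ℂ) (Cfsg.Agent.helper24.irr_isCharacter θ₁.2)]
        exact h χ₁ hχ₁ θ₁ hθ₁ ⟨_, hC⟩
      · rw [hU0 _ hC, zero_mul]
        exact Cfsg.Agent.helper24.memLocalIdeal_zero hMp.ne_top
    rw [h1, h2] at h3
    have hvθ'' : v θ'' = 1 := by
      rcases h01 θ'' with h0 | h0
      · rw [h0, zero_sub] at h3
        have h4 := Cfsg.Agent.helper24.memLocalIdeal_neg h3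
        rw [neg_neg] at h4
        exact absurd h4 Cfsg.Agent.helper24.not_memLocalIdeal_one
      · exact h0
    obtain ⟨g, θ', hθ', hg⟩ := (hv1 θ'').mp hvθ''
    refine ⟨χ₁, hχ₁, θ', hθ', ?_⟩
    rw [hg, Cfsg.Agent.helper5.classInner_res_conjFunN N _
      (Cfsg.Agent.helper24.char_isClassFunction (Cfsg.Agent.helper24.irr_isCharacter χ₁.2))] at hθ''
    exact hθ''

end Cfsg.Agent.S0965
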