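import Mathlib
import Cfsg.Agent.Lib_helper24_FirstMain2
import Cfsg.Agent.Lib_helper12_Clifford
import Cfsg.Agent.S0965
import Cfsg.Agent.S0964

set_option autoImplicit false

namespace Cfsg.Agent.helper24

open Cfsg
open scoped ComplexConjugate

universe u

section CoverInd

variable {X : Type u} [Group X] [Fintype X]

/-- if `Y` is a normal subgroup containing the centralizer of a normal `p`-subgroup, a block of
`X` covering a block of `Y` is induced by it -/
theorem induced_of_covering (p : ℕ) [Fact p.Prime] (M : Ideal AlgInt) (hM : IsPModular p M)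
    (Q Y : Subgroup X) [hQn : Q.Normal] [hYn : Y.Normal] [Fintype Y] (hQ : IsPGroup p Q)
    (hCY : Subgroup.centralizer (Q : Set X) ≤ Y)
    (c : Set (IrrCharacter Y)) (hc : IsPBlock M c) (β : Set (IrrCharacter X)) (hβ : IsPBlock M β)
    (hcov : ∃ χ ∈ β, ∃ θ ∈ c, classInner (fun n : Y => (χ : X → ℂ) n) (θ : Y → ℂ) ≠ 0) :
    IsInducedBlock M Y c β := by
  classical
  refine ⟨hc, hβ, ?_⟩
  intro ξ hξ χ hχ g
  by_cases hg : g ∈ Y
  · have h := (Cfsg.Agent.S0965.result p M hM Y β hβ c hc).1 hcov χ hχ ξ hξ ⟨g, hg⟩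
    have h2 := memLocalIdeal_neg h
    rwa [neg_sub] at h2
  · have h0 : inducedCentralChar Y (ξ : Y → ℂ) g = 0 := by
      rw [inducedCentralChar_eq_sum]
      apply Finset.sum_eq_zero
      intro h _
      rw [if_neg]
      intro hconj
      apply hg
      obtain ⟨t, ht⟩ := isConj_iff.1 hconj
      have e : g = t⁻¹ * (h : X) * t⁻¹⁻¹ := by rw [← ht]; group
      rw [e]
      exact hYn.conj_mem (h : X) h.2 t⁻¹
    rw [h0, zero_sub]
    apply memLocalIdeal_neg
    apply centralChar_memLocalIdeal_of_not_centralize p M hM Q hQ χ g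
    intro hgc
    exact hg (hCY hgc)

/-- every block of a normal subgroup is covered by some block -/
theorem exists_covering_block (M : Ideal AlgInt) (hMtop : M ≠ ⊤) (Y : Subgroup X) [Fintype Y]
    (c : Set (IrrCharacter Y)) (hc : IsPBlock M c) :
    ∃ β : Set (IrrCharacter X), IsPBlock M β ∧
      ∃ χ ∈ β, ∃ θ ∈ c, classInner (fun n : Y => (χ : X → ℂ) n) (θ : Y → ℂ) ≠ 0 := by
  obtain ⟨θ₀, hθ₀⟩ := hc
  obtain ⟨χ, hχ, hne⟩ := Cfsg.Agent.helper12.exists_irr_over Y θ₀.2
  refine ⟨blockOf M χ, ⟨⟨χ, hχ⟩, rfl⟩, ⟨χ, hχ⟩, sameBlock_refl M hMtop _, θ₀, ?_, hne⟩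
  rw [hθ₀]
  exact sameBlock_refl M hMtop _

end CoverInd

end Cfsg.Agent.helper24
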