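import Mathlib
import Cfsg.Agent.Lib_helper24_CoverInd
import Cfsg.Agent.Lib_helper8_Ind

set_option autoImplicit false

namespace Cfsg.Agent.helper24

open Cfsg
open scoped ComplexConjugate

universe u

section Transport

variable {H₁ H₂ : Type u} [Group H₁] [Group H₂]

theorem index_centralizer_mulEquiv (e : H₁ ≃* H₂) (h : H₁) :
    (Subgroup.centralizer ({e h} : Set H₂)).index =
      (Subgroup.centralizer ({h} : Set H₁)).index := by
  have e1 : Subgroup.centralizer ({e h} : Set H₂) =
      (Subgroup.centralizer ({h} : Set H₁)).map e.toMonoidHom := by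
    ext x
    rw [Subgroup.mem_map_equiv, Subgroup.mem_centralizer_singleton_iff,
      Subgroup.mem_centralizer_singleton_iff]
    constructor
    · intro hx
      apply e.injective
      rw [map_mul, map_mul, MulEquiv.apply_symm_apply]
      exact hx
    · intro hx
      have := congrArg e hx
      rw [map_mul, map_mul, MulEquiv.apply_symm_apply] at this
      exact this
  rw [e1]
  exact Subgroup.index_map_equiv _ e

theorem centralChar_comp_mulEquiv (e : H₁ ≃* H₂) (θ : H₂ → ℂ) (h : H₁) :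
    centralChar (fun x => θ (e x)) h = centralChar θ (e h) := by
  unfold centralChar
  rw [index_centralizer_mulEquiv e h]
  simp only [map_one]

theorem sameBlock_comp_mulEquiv {M : Ideal AlgInt} (e : H₁ ≃* H₂) {θ ψ : H₂ → ℂ}
    (h : SameBlock M θ ψ) : SameBlock M (fun x => θ (e x)) (fun x => ψ (e x)) := by
  intro x
  rw [centralChar_comp_mulEquiv, centralChar_comp_mulEquiv]
  exact h _

/-- transport of a set of irreducible characters along an isomorphism -/
def transportSet (e : H₁ ≃* H₂) (b : Set (IrrCharacter H₂)) : Set (IrrCharacter H₁) :=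
  {φ | ∃ θ ∈ b, (φ : H₁ → ℂ) = fun x => (θ : H₂ → ℂ) (e x)}

theorem isPBlock_transportSet {M : Ideal AlgInt} (e : H₁ ≃* H₂) (b : Set (IrrCharacter H₂))
    (hb : IsPBlock M b) : IsPBlock M (transportSet e b) := by
  obtain ⟨θ₀, rfl⟩ := hb
  refine ⟨⟨fun x => (θ₀ : H₂ → ℂ) (e x),
    Cfsg.Agent.helper8.isIrrCharacter_comp_mulEquiv e θ₀.2⟩, ?_⟩
  ext φ
  constructor
  · rintro ⟨θ, hθ, hφ⟩
    show SameBlock M _ (φ : H₁ → ℂ)
    rw [hφ]
    exact sameBlock_comp_mulEquiv e hθ
  · intro hφ
    have hφ' : SameBlock M (fun x => (θ₀ : H₂ → ℂ) (e x)) (φ : H₁ → ℂ) := hφ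
    refine ⟨⟨fun y => (φ : H₁ → ℂ) (e.symm y),
      Cfsg.Agent.helper8.isIrrCharacter_comp_mulEquiv e.symm φ.2⟩, ?_, ?_⟩
    · show SameBlock M (θ₀ : H₂ → ℂ) (fun y => (φ : H₁ → ℂ) (e.symm y))
      have h1 := sameBlock_comp_mulEquiv e.symm hφ'
      simp only [MulEquiv.apply_symm_apply] at h1
      exact h1
    · funext x
      simp

end Transport

section ExtFirstMain

variable {G : Type u} [Group G]

theorem sup_centralizer_le_normalizer (P : Subgroup G) :
    P ⊔ Subgroup.centralizer (P : Set G) ≤ Subgroup.normalizer (P : Set G) :=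
  sup_le Subgroup.le_normalizer (Subgroup.centralizer_le_normalizer _)

theorem conj_mem_sup_centralizer {P : Subgroup G} {n x : G}
    (hn : n ∈ Subgroup.normalizer (P : Set G))
    (hx : x ∈ P ⊔ Subgroup.centralizer (P : Set G)) :
    n * x * n⁻¹ ∈ P ⊔ Subgroup.centralizer (P : Set G) := by
  have hle : P ⊔ Subgroup.centralizer (P : Set G) ≤
      (P ⊔ Subgroup.centralizer (P : Set G)).comap (MulAut.conj n).toMonoidHom := by
    apply sup_le
    · intro s hs
      rw [Subgroup.mem_comap]
      apply Subgroup.mem_sup_left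
      show n * s * n⁻¹ ∈ P
      exact (Subgroup.mem_normalizer_iff.1 hn s).1 hs
    · intro s hs
      rw [Subgroup.mem_comap]
      apply Subgroup.mem_sup_right
      exact conj_mem_centralizer_of_mem_normalizer hn hs
  exact hle hx

/-- conjugation by a normalizing element as an automorphism of `P C(P)` -/
def conjSupEquiv (P : Subgroup G) (n : G) (hn : n ∈ Subgroup.normalizer (P : Set G)) :
    ↥(P ⊔ Subgroup.centralizer (P : Set G)) ≃* ↥(P ⊔ Subgroup.centralizer (P : Set G)) where
  toFun x := ⟨n * (x : G) * n⁻¹, conj_mem_sup_centralizer hn x.2⟩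
  invFun x := ⟨n⁻¹ * (x : G) * n⁻¹⁻¹, conj_mem_sup_centralizer (inv_mem hn) x.2⟩
  left_inv x := by
    apply Subtype.ext
    show n⁻¹ * (n * (x : G) * n⁻¹) * n⁻¹⁻¹ = (x : G)
    group
  right_inv x := by
    apply Subtype.ext
    show n * (n⁻¹ * (x : G) * n⁻¹⁻¹) * n⁻¹ = (x : G)
    group
  map_mul' x y := by
    apply Subtype.ext
    show n * ((x : G) * (y : G)) * n⁻¹ = (n * (x : G) * n⁻¹) * (n * (y : G) * n⁻¹)
    group

theorem normal_subgroupOf_sup_centralizer (P : Subgroup G) :
    ((P ⊔ Subgroup.centralizer (P : Set G)).subgroupOf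
      (Subgroup.normalizer (P : Set G))).Normal := by
  constructor
  intro x hx n
  rw [Subgroup.mem_subgroupOf] at hx ⊢
  have := conj_mem_sup_centralizer n.2 hx
  simpa using this

theorem centralizer_subgroupOf_le (P : Subgroup G) :
    Subgroup.centralizer ((P.subgroupOf (Subgroup.normalizer (P : Set G)) :
      Subgroup ↥(Subgroup.normalizer (P : Set G))) : Set ↥(Subgroup.normalizer (P : Set G))) ≤
      (P ⊔ Subgroup.centralizer (P : Set G)).subgroupOf (Subgroup.normalizer (P : Set G)) := by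
  intro x hx
  rw [Subgroup.mem_subgroupOf]
  apply Subgroup.mem_sup_right
  rw [Subgroup.mem_centralizer_iff]
  intro s hs
  have hsN : s ∈ Subgroup.normalizer (P : Set G) := Subgroup.le_normalizer hs
  have h1 := Subgroup.mem_centralizer_iff.1 hx ⟨s, hsN⟩ (Subgroup.mem_subgroupOf.2 hs)
  exact congrArg Subtype.val h1

theorem eq_subgroupOf_of_map_eq {H : Subgroup G} {D : Subgroup H} {P : Subgroup G}
    (h : D.map H.subtype = P) : D = P.subgroupOf H := by
  rw [← h]
  ext x
  rw [Subgroup.mem_subgroupOf]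
  constructor
  · intro hx
    exact ⟨x, hx, rfl⟩
  · rintro ⟨y, hy, hyx⟩
    have : y = x := Subtype.ext hyx
    rw [← this]
    exact hy

variable [Fintype G]

/-- transitivity of block induction, with the intermediate induction transported -/
theorem induced_trans_transport {M : Ideal AlgInt} [hMp : M.IsPrime] {L N : Subgroup G}
    [Fintype L] [Fintype N] [Fintype ↥(L.subgroupOf N)] (hLN : L ≤ N)
    (b : Set (IrrCharacter L)) (β : Set (IrrCharacter N)) (B : Set (IrrCharacter G))
    (h1 : IsInducedBlock M L b B)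
    (h2 : IsInducedBlock M (L.subgroupOf N)
      (transportSet (Subgroup.subgroupOfEquivOfLe hLN) b) β) :
    IsInducedBlock M N β B := by
  classical
  have hMtop := hMp.ne_top
  refine ⟨h2.2.1, h1.2.1, ?_⟩
  intro χ hχ Χ hΧ g
  obtain ⟨θ₀, hθ₀⟩ := h1.1
  have hθ₀b : θ₀ ∈ b := by
    rw [hθ₀]
    exact sameBlock_refl M hMtop _
  obtain ⟨φ, hφdef⟩ : ∃ φ : IrrCharacter ↥(L.subgroupOf N), φ =
      ⟨fun x => (θ₀ : L → ℂ) (Subgroup.subgroupOfEquivOfLe hLN x),
        Cfsg.Agent.helper8.isIrrCharacter_comp_mulEquiv (Subgroup.subgroupOfEquivOfLe hLN) θ₀.2⟩ :=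
    ⟨_, rfl⟩
  have hφfun : (φ : ↥(L.subgroupOf N) → ℂ) =
      fun x => (θ₀ : L → ℂ) (Subgroup.subgroupOfEquivOfLe hLN x) := by
    rw [hφdef]
  have hφ : φ ∈ transportSet (Subgroup.subgroupOfEquivOfLe hLN) b := ⟨θ₀, hθ₀b, hφfun⟩
  have hu_cf : IsClassFunction N (fun n : N => classInd g (n : G)) :=
    restrict_isClassFunction N (classInd_isClassFunction g)
  have hu_loc : ∀ n : N, MemLocalRing M (classInd g (n : G)) :=
    fun n => classInd_memLocalRing hMtop g n
  have k1 := induced_omegaFn_sub (L.subgroupOf N) h2 hφ hχ hu_cf hu_loc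
  have k2 : omegaFn (φ : ↥(L.subgroupOf N) → ℂ)
      (fun h : ↥(L.subgroupOf N) => classInd g ((h : N) : G)) =
      inducedCentralChar L (θ₀ : L → ℂ) g := by
    rw [inducedCentralChar_eq_omegaFn, hφfun]
    unfold omegaFn
    simp only [map_one]
    congr 1
    apply Fintype.sum_equiv (Subgroup.subgroupOfEquivOfLe hLN).toEquiv
    intro x
    rfl
  have k3 := h1.2.2 θ₀ hθ₀b Χ hΧ g
  rw [inducedCentralChar_eq_omegaFn N (χ : N → ℂ) g]
  rw [k2] at k1
  have e : omegaFn (χ : N → ℂ) (fun h : N => classInd g (h : G)) - centralChar (Χ : G → ℂ) g =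
      -(inducedCentralChar L (θ₀ : L → ℂ) g -
        omegaFn (χ : N → ℂ) (fun n : N => classInd g (n : G))) +
      (inducedCentralChar L (θ₀ : L → ℂ) g - centralChar (Χ : G → ℂ) g) := by ring
  rw [e]
  exact memLocalIdeal_add (memLocalIdeal_neg k1) k3

end ExtFirstMain

end Cfsg.Agent.helper24
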