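import Mathlib
import Cfsg.Agent.Lib_helper24_ExtFirstMain

set_option autoImplicit false

namespace Cfsg.Agent.helper24

open Cfsg
open scoped ComplexConjugate

universe u

section ExtFirstMain2

variable {G : Type u} [Group G] [Fintype G]

theorem ext_first_main_exists (p : ℕ) [Fact p.Prime] (M : Ideal AlgInt) (hM : IsPModular p M)
    (B : Set (IrrCharacter G)) (hB : IsPBlock M B) (P : Subgroup G)
    (hP : IsDefectGroup p M B P) :
    ∃ b : Set (IrrCharacter ↥(P ⊔ Subgroup.centralizer (P : Set G))),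
      IsDefectGroup p M b (P.subgroupOf (P ⊔ Subgroup.centralizer (P : Set G))) ∧
      IsInducedBlock M (P ⊔ Subgroup.centralizer (P : Set G)) b B := by
  classical
  have := Fintype.ofFinite ↥(P ⊔ Subgroup.centralizer (P : Set G))
  have hPp := defectGroup_isPGroup p M B P hP
  obtain ⟨b, hind⟩ := (induced_from_local_iff p M hM P (P ⊔ Subgroup.centralizer (P : Set G)) hPp
    le_rfl (sup_centralizer_le_normalizer P) B hB).2 ⟨P, hP, 1, by
      rintro _ ⟨s, hs, rfl⟩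
      simpa using hs⟩
  obtain ⟨Db, hDb⟩ := exists_defectGroup p M hM b hind.1
  have hDbD := defectGroup_of_induced_local p M hM le_sup_left (sup_centralizer_le_normalizer P)
    b B hind hP Db hDb
  rw [eq_subgroupOf_of_map_eq hDbD] at hDb
  exact ⟨b, hDb, hind⟩

theorem ext_first_main_conj (p : ℕ) [Fact p.Prime] (M : Ideal AlgInt) (hM : IsPModular p M)
    (B : Set (IrrCharacter G)) (P : Subgroup G) (hP : IsDefectGroup p M B P)
    (b₁ b₂ : Set (IrrCharacter ↥(P ⊔ Subgroup.centralizer (P : Set G))))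
    (i₁ : IsInducedBlock M (P ⊔ Subgroup.centralizer (P : Set G)) b₁ B)
    (i₂ : IsInducedBlock M (P ⊔ Subgroup.centralizer (P : Set G)) b₂ B) :
    ∃ n ∈ Subgroup.normalizer (P : Set G), ∀ θ ∈ b₁, ∃ θ' ∈ b₂,
      ∀ x : ↥(P ⊔ Subgroup.centralizer (P : Set G)),
      ∀ hx : n * (x : G) * n⁻¹ ∈ P ⊔ Subgroup.centralizer (P : Set G),
      (θ' : ↥(P ⊔ Subgroup.centralizer (P : Set G)) → ℂ) x =
        (θ : ↥(P ⊔ Subgroup.centralizer (P : Set G)) → ℂ) ⟨n * (x : G) * n⁻¹, hx⟩ := by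
  classical
  have hMp : M.IsPrime := hM.2.1.isPrime
  have hMtop := hMp.ne_top
  have hPp := defectGroup_isPGroup p M B P hP
  have hLN := sup_centralizer_le_normalizer P
  have hPN : P ≤ Subgroup.normalizer (P : Set G) := Subgroup.le_normalizer
  have := Fintype.ofFinite ↥(Subgroup.normalizer (P : Set G))
  have := Fintype.ofFinite ↥(P ⊔ Subgroup.centralizer (P : Set G))
  have := Fintype.ofFinite ↥((P ⊔ Subgroup.centralizer (P : Set G)).subgroupOf
    (Subgroup.normalizer (P : Set G)))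
  have hQn : (P.subgroupOf (Subgroup.normalizer (P : Set G))).Normal :=
    Subgroup.normal_subgroupOf_of_le_normalizer le_rfl
  have hYn := normal_subgroupOf_sup_centralizer P
  have hQp : IsPGroup p (P.subgroupOf (Subgroup.normalizer (P : Set G))) := hPp.comap_subtype
  have key : ∀ b : Set (IrrCharacter ↥(P ⊔ Subgroup.centralizer (P : Set G))),
      IsInducedBlock M (P ⊔ Subgroup.centralizer (P : Set G)) b B →
      ∃ β : Set (IrrCharacter ↥(Subgroup.normalizer (P : Set G))), IsPBlock M β ∧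
        IsInducedBlock M (Subgroup.normalizer (P : Set G)) β B ∧
        ∃ χ ∈ β, ∃ φ ∈ transportSet (Subgroup.subgroupOfEquivOfLe hLN) b,
          classInner (fun n : ↥((P ⊔ Subgroup.centralizer (P : Set G)).subgroupOf
            (Subgroup.normalizer (P : Set G))) =>
              (χ : ↥(Subgroup.normalizer (P : Set G)) → ℂ) n)
            (φ : ↥((P ⊔ Subgroup.centralizer (P : Set G)).subgroupOf
              (Subgroup.normalizer (P : Set G))) → ℂ) ≠ 0 := by
    intro b hb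
    have hc := isPBlock_transportSet (M := M) (Subgroup.subgroupOfEquivOfLe hLN) b hb.1
    obtain ⟨β, hβ, hcov⟩ := exists_covering_block M hMtop
      ((P ⊔ Subgroup.centralizer (P : Set G)).subgroupOf (Subgroup.normalizer (P : Set G)))
      (transportSet (Subgroup.subgroupOfEquivOfLe hLN) b) hc
    have hind := induced_of_covering p M hM (P.subgroupOf (Subgroup.normalizer (P : Set G)))
      ((P ⊔ Subgroup.centralizer (P : Set G)).subgroupOf (Subgroup.normalizer (P : Set G)))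
      hQp (centralizer_subgroupOf_le P) _ hc β hβ hcov
    exact ⟨β, hβ, induced_trans_transport hLN b β B hb hind, hcov⟩
  obtain ⟨β₁, hβ₁, j₁, χ₁, hχ₁, φ₁, hφ₁, hne₁⟩ := key b₁ i₁
  obtain ⟨β₂, hβ₂, j₂, χ₂, hχ₂, φ₂, hφ₂, hne₂⟩ := key b₂ i₂
  have hdef : ∀ β : Set (IrrCharacter ↥(Subgroup.normalizer (P : Set G))),
      IsInducedBlock M (Subgroup.normalizer (P : Set G)) β B →
      IsDefectGroup p M β (P.subgroupOf (Subgroup.normalizer (P : Set G))) := by
    intro β j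
    obtain ⟨Db, hDb⟩ := exists_defectGroup p M hM β j.1
    have h := defectGroup_of_induced_local p M hM hPN le_rfl β B j hP Db hDb
    rw [eq_subgroupOf_of_map_eq h] at hDb
    exact hDb
  have hβeq : β₁ = β₂ := first_main_unique p M hM P hPp B β₁ β₂ (hdef β₁ j₁) j₁ j₂
  rw [← hβeq] at hχ₂
  obtain ⟨g, θ', hθ'c, hconj⟩ := Cfsg.Agent.S0964.result p M hM
    ((P ⊔ Subgroup.centralizer (P : Set G)).subgroupOf (Subgroup.normalizer (P : Set G)))
    β₁ hβ₁ (transportSet (Subgroup.subgroupOfEquivOfLe hLN) b₁)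
    (isPBlock_transportSet (Subgroup.subgroupOfEquivOfLe hLN) b₁ i₁.1) χ₁ hχ₁ φ₁ hφ₁ hne₁
    χ₂ hχ₂ φ₂ hne₂
  obtain ⟨θ₁', hθ₁'b, hθ'eq⟩ := hθ'c
  obtain ⟨θ₂, hθ₂b, hφ₂eq⟩ := hφ₂
  refine ⟨(g : G), g.2, ?_⟩
  intro θ hθ
  obtain ⟨α, hα⟩ : ∃ α, α = conjSupEquiv P (g : G) g.2 := ⟨_, rfl⟩
  have hrel : ∀ x : ↥(P ⊔ Subgroup.centralizer (P : Set G)),
      (θ₂ : ↥(P ⊔ Subgroup.centralizer (P : Set G)) → ℂ) x =
        (θ₁' : ↥(P ⊔ Subgroup.centralizer (P : Set G)) → ℂ) (α x) := by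
    intro x
    have h1 := hconj ((Subgroup.subgroupOfEquivOfLe hLN).symm x)
    rw [hφ₂eq, hθ'eq] at h1
    simp only [MulEquiv.apply_symm_apply] at h1
    rw [h1, hα]
    refine congrArg (θ₁' : ↥(P ⊔ Subgroup.centralizer (P : Set G)) → ℂ) (Subtype.ext ?_)
    rfl
  refine ⟨⟨fun x => (θ : ↥(P ⊔ Subgroup.centralizer (P : Set G)) → ℂ) (α x),
    Cfsg.Agent.helper8.isIrrCharacter_comp_mulEquiv α θ.2⟩, ?_, ?_⟩
  · obtain ⟨ξ₀, hξ₀⟩ := i₂.1
    obtain ⟨ζ₀, hζ₀⟩ := i₁.1
    rw [hξ₀] at hθ₂b ⊢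
    rw [hζ₀] at hθ hθ₁'b
    have s1 : SameBlock M (θ₁' : ↥(P ⊔ Subgroup.centralizer (P : Set G)) → ℂ)
        (θ : ↥(P ⊔ Subgroup.centralizer (P : Set G)) → ℂ) :=
      sameBlock_trans (sameBlock_symm hθ₁'b) hθ
    have s2 := sameBlock_comp_mulEquiv α s1
    have e2 : (fun x => (θ₁' : ↥(P ⊔ Subgroup.centralizer (P : Set G)) → ℂ) (α x)) =
        (θ₂ : ↥(P ⊔ Subgroup.centralizer (P : Set G)) → ℂ) := by
      funext x
      exact (hrel x).symm
    rw [e2] at s2
    exact sameBlock_trans hθ₂b s2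
  · intro x hx
    rw [hα]
    rfl

end ExtFirstMain2

end Cfsg.Agent.helper24
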