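import Mathlib
import Cfsg.Agent.Lib_helper24_BrauerMap
import Cfsg.Agent.Lib_helper24_GroupAlg

set_option autoImplicit false

namespace Cfsg.Agent.helper24

open Cfsg
open scoped ComplexConjugate

universe u

section IdemCongr

variable {G : Type u} [Group G] [Fintype G]

theorem toAlg_injective {u v : G → ℂ} (h : toAlg u = toAlg v) : u = v := by
  funext g
  have := congrArg (fun a : MonoidAlgebra ℂ G => a.coeff g) h
  simpa [toAlg_coeff] using this

theorem cconv_assoc (u v w : G → ℂ) : cconv (cconv u v) w = cconv u (cconv v w) := by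
  apply toAlg_injective
  rw [toAlg_cconv, toAlg_cconv, toAlg_cconv, toAlg_cconv, mul_assoc]

theorem cconv_comm_of_classFunction {u : G → ℂ} (hu : IsClassFunction G u) (v : G → ℂ) :
    cconv u v = cconv v u := by
  apply toAlg_injective
  rw [toAlg_cconv, toAlg_cconv, toAlg_central hu]

theorem cconv_memLocalIdeal_right {M : Ideal AlgInt} [hMp : M.IsPrime] {u v : G → ℂ}
    (hu : ∀ g, MemLocalRing M (u g)) (hv : ∀ g, MemLocalIdeal M (v g)) (g : G) :
    MemLocalIdeal M (cconv u v g) := by
  unfold cconv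
  apply memLocalIdeal_sum
  intro x _
  exact memLocalIdeal_mul_left (hu _) (hv _)

theorem deltaOne_memLocalRing {M : Ideal AlgInt} (hMtop : M ≠ ⊤) (g : G) :
    MemLocalRing M (deltaOne G g) := by
  classical
  unfold deltaOne
  split_ifs
  · exact memLocalRing_one hMtop
  · exact memLocalRing_zero hMtop

/-- one half of `idem_congr` -/
theorem idem_congr_aux {M : Ideal AlgInt} [hMp : M.IsPrime] {u v : G → ℂ}
    (hu_cf : IsClassFunction G u) (hu_R : ∀ g, MemLocalRing M (u g))
    (hu_id : ∀ g, MemLocalIdeal M (cconv u u g - u g))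
    (hv_cf : IsClassFunction G v) (hv_R : ∀ g, MemLocalRing M (v g))
    (hv_id : ∀ g, MemLocalIdeal M (cconv v v g - v g))
    (hω : ∀ ξ : IrrCharacter G,
      MemLocalIdeal M (omegaFn (ξ : G → ℂ) u - omegaFn (ξ : G → ℂ) v)) :
    ∀ g, MemLocalIdeal M (u g - cconv u v g) := by
  classical
  have hMtop := hMp.ne_top
  obtain ⟨v', hv'⟩ : ∃ v' : G → ℂ, v' = deltaOne G - v := ⟨_, rfl⟩
  have hv'_cf : IsClassFunction G v' := by
    rw [hv']
    exact isClassFunction_sub deltaOne_isClassFunction hv_cf
  have hv'_R : ∀ g, MemLocalRing M (v' g) := by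
    intro g
    rw [hv']
    exact memLocalRing_sub (deltaOne_memLocalRing hMtop g) (hv_R g)
  have hv'_id : ∀ g, MemLocalIdeal M (cconv v' v' g - v' g) := by
    intro g
    have e : cconv v' v' - v' = cconv v v - v := by
      rw [hv', cconv_sub_left, cconv_sub_right, cconv_sub_right, cconv_deltaOne_left,
        cconv_deltaOne_left, cconv_deltaOne_right]
      abel
    have e' := congrFun e g
    simp only [Pi.sub_apply] at e'
    rw [e']
    exact hv_id g
  obtain ⟨ε, hε⟩ : ∃ ε : G → ℂ, ε = cconv u v' := ⟨_, rfl⟩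
  have hε_cf : IsClassFunction G ε := by
    rw [hε]
    exact cconv_isClassFunction hu_cf hv'_cf
  have hε_R : ∀ g, MemLocalRing M (ε g) := by
    intro g
    rw [hε]
    exact cconv_memLocalRing hu_R hv'_R g
  have hε_id : ∀ g, MemLocalIdeal M (cconv ε ε g - ε g) := by
    intro g
    have e1 : cconv ε ε = cconv (cconv u u) (cconv v' v') := by
      rw [hε, cconv_assoc u v' (cconv u v'), ← cconv_assoc v' u v',
        cconv_comm_of_classFunction hv'_cf u, cconv_assoc u v' v', ← cconv_assoc u u (cconv v' v')]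
    have e2 : cconv ε ε - ε = cconv (cconv u u - u) (cconv v' v') + cconv u (cconv v' v' - v') := by
      rw [e1, hε, cconv_sub_left, cconv_sub_right]
      abel
    have e2' := congrFun e2 g
    simp only [Pi.sub_apply, Pi.add_apply] at e2'
    rw [e2']
    apply memLocalIdeal_add
    · exact cconv_memLocalIdeal_left (u := cconv u u - u) (fun x => hu_id x)
        (fun x => cconv_memLocalRing hv'_R hv'_R x) g
    · exact cconv_memLocalIdeal_right (v := cconv v' v' - v') hu_R (fun x => hv'_id x) g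
  have hε_ω : ∀ ξ : IrrCharacter G, MemLocalIdeal M (omegaFn (ξ : G → ℂ) ε) := by
    intro ξ
    rw [hε, omegaFn_cconv ξ.2 u hv'_cf, hv', omegaFn_sub,
      omegaFn_deltaOne (irr_apply_one_ne_zero ξ.2)]
    have e : omegaFn (ξ : G → ℂ) u * (1 - omegaFn (ξ : G → ℂ) v) =
        (1 - omegaFn (ξ : G → ℂ) v) * (omegaFn (ξ : G → ℂ) u - omegaFn (ξ : G → ℂ) v) -
        omegaFn (ξ : G → ℂ) (cconv v v - v) := by
      rw [omegaFn_sub, omegaFn_cconv ξ.2 v hv_cf]
      ring
    rw [e]
    apply memLocalIdeal_sub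
    · exact memLocalIdeal_mul_left (memLocalRing_sub (memLocalRing_one hMtop)
        (omegaFn_memLocalRing ξ hv_cf hv_R)) (hω ξ)
    · exact omegaFn_memLocalIdeal ξ
        (isClassFunction_sub (cconv_isClassFunction hv_cf hv_cf) hv_cf) (fun g => hv_id g)
  intro g
  have e3 : u g - cconv u v g = ε g := by
    rw [hε, hv', cconv_sub_right, cconv_deltaOne_right]
    rfl
  rw [e3]
  by_contra hc
  obtain ⟨ξ, hξ⟩ := exists_omega_not_mem_of_idem ε hε_cf hε_R hε_id g hc
  exact hξ (hε_ω ξ)

/-- two central elements which are idempotent modulo `J` and have the same central character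
values modulo `J` are congruent modulo `J` -/
theorem idem_congr {M : Ideal AlgInt} [hMp : M.IsPrime] {u v : G → ℂ}
    (hu_cf : IsClassFunction G u) (hu_R : ∀ g, MemLocalRing M (u g))
    (hu_id : ∀ g, MemLocalIdeal M (cconv u u g - u g))
    (hv_cf : IsClassFunction G v) (hv_R : ∀ g, MemLocalRing M (v g))
    (hv_id : ∀ g, MemLocalIdeal M (cconv v v g - v g))
    (hω : ∀ ξ : IrrCharacter G,
      MemLocalIdeal M (omegaFn (ξ : G → ℂ) u - omegaFn (ξ : G → ℂ) v)) :
    ∀ g, MemLocalIdeal M (u g - v g) := by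
  intro g
  have h1 := idem_congr_aux hu_cf hu_R hu_id hv_cf hv_R hv_id hω g
  have hω' : ∀ ξ : IrrCharacter G,
      MemLocalIdeal M (omegaFn (ξ : G → ℂ) v - omegaFn (ξ : G → ℂ) u) := by
    intro ξ
    have := memLocalIdeal_neg (hω ξ)
    rwa [neg_sub] at this
  have h2 := idem_congr_aux hv_cf hv_R hv_id hu_cf hu_R hu_id hω' g
  rw [cconv_comm_of_classFunction hv_cf u] at h2
  have e : u g - v g = (u g - cconv u v g) - (v g - cconv u v g) := by ring
  rw [e]
  exact memLocalIdeal_sub h1 h2

end IdemCongr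

end Cfsg.Agent.helper24
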