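import Mathlib
import Cfsg.Agent.Lib_helper24_IdemCongr
import Cfsg.Agent.Lib_helper24_ExtFirstMain2
import Cfsg.Agent.Lib_helper24_PrincipalLocal

set_option autoImplicit false

namespace Cfsg.Agent.helper24

open Cfsg
open scoped ComplexConjugate

universe u

section Transport2

variable {H₁ H₂ : Type u} [Group H₁] [Group H₂]

/-- transport of irreducible characters along an isomorphism -/
noncomputable def irrTransport (e : H₁ ≃* H₂) : IrrCharacter H₂ ≃ IrrCharacter H₁ where
  toFun θ := ⟨fun x => (θ : H₂ → ℂ) (e x),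
    Cfsg.Agent.helper8.isIrrCharacter_comp_mulEquiv e θ.2⟩
  invFun φ := ⟨fun y => (φ : H₁ → ℂ) (e.symm y),
    Cfsg.Agent.helper8.isIrrCharacter_comp_mulEquiv e.symm φ.2⟩
  left_inv θ := by
    apply Subtype.ext
    funext y
    simp
  right_inv φ := by
    apply Subtype.ext
    funext x
    simp

theorem irrTransport_apply (e : H₁ ≃* H₂) (θ : IrrCharacter H₂) (x : H₁) :
    (irrTransport e θ : H₁ → ℂ) x = (θ : H₂ → ℂ) (e x) := rfl

theorem mem_transportSet_iff (e : H₁ ≃* H₂) (b : Set (IrrCharacter H₂)) (θ : IrrCharacter H₂) :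
    irrTransport e θ ∈ transportSet e b ↔ θ ∈ b := by
  constructor
  · rintro ⟨θ', hθ', heq⟩
    have : θ = θ' := by
      apply Subtype.ext
      funext y
      have h1 := congrFun heq (e.symm y)
      rw [irrTransport_apply] at h1
      simpa using h1
    rw [this]
    exact hθ'
  · intro hθ
    exact ⟨θ, hθ, rfl⟩

theorem blockCoeff_transportSet [Fintype H₁] [Fintype H₂] (e : H₁ ≃* H₂)
    (b : Set (IrrCharacter H₂)) (x : H₁) :
    blockCoeff (transportSet e b) x = blockCoeff b (e x) := by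
  classical
  have := Fintype.ofFinite (IrrCharacter H₁)
  have := Fintype.ofFinite (IrrCharacter H₂)
  rw [blockCoeff_eq_sum, blockCoeff_eq_sum, Nat.card_congr e.toEquiv]
  congr 1
  rw [Finset.sum_filter, Finset.sum_filter]
  refine (Fintype.sum_equiv (irrTransport e) _ _ (fun θ => ?_)).symm
  by_cases hθ : θ ∈ b
  · rw [if_pos hθ, if_pos ((mem_transportSet_iff e b θ).2 hθ), irrTransport_apply,
      irrTransport_apply, map_one]
  · rw [if_neg hθ, if_neg (fun h => hθ ((mem_transportSet_iff e b θ).1 h))]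

theorem blockDefect_transportSet (p : ℕ) (e : H₁ ≃* H₂) (b : Set (IrrCharacter H₂)) :
    blockDefect p (transportSet e b) = blockDefect p b := by
  unfold blockDefect
  rw [Nat.card_congr e.toEquiv]
  congr 2
  ext n
  constructor
  · rintro ⟨φ, ⟨θ, hθ, hφ⟩, rfl⟩
    refine ⟨θ, hθ, ?_⟩
    show (charDegree (θ : H₂ → ℂ)).factorization p = (charDegree (φ : H₁ → ℂ)).factorization p
    unfold charDegree
    rw [hφ]
    simp only [map_one]
  · rintro ⟨θ, hθ, rfl⟩
    refine ⟨irrTransport e θ, (mem_transportSet_iff e b θ).2 hθ, ?_⟩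
    show (charDegree (irrTransport e θ : H₁ → ℂ)).factorization p =
      (charDegree (θ : H₂ → ℂ)).factorization p
    unfold charDegree
    rw [irrTransport_apply, map_one]

theorem transportSet_symm (e : H₁ ≃* H₂) (b₁ : Set (IrrCharacter H₁)) :
    transportSet e (transportSet e.symm b₁) = b₁ := by
  ext φ
  constructor
  · rintro ⟨θ, ⟨φ', hφ', hθ⟩, hφ⟩
    have : φ = φ' := by
      apply Subtype.ext
      rw [hφ, hθ]
      funext x
      simp
    rw [this]
    exact hφ'
  · intro hφ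
    refine ⟨irrTransport e.symm φ, ⟨φ, hφ, rfl⟩, ?_⟩
    funext x
    rw [irrTransport_apply]
    simp

end Transport2

section BrauerCorr

variable {G : Type u} [Group G] [Fintype G]

/-- the Brauer map of the idempotent of `B` is the idempotent of `b`, if `b` is the only block
inducing `B` -/
theorem brRes_blockCoeff_congr (p : ℕ) [Fact p.Prime] (M : Ideal AlgInt) (hM : IsPModular p M)
    {P H : Subgroup G} [Fintype H] (hP : IsPGroup p P) (hPH : P ≤ H)
    (hCH : Subgroup.centralizer (P : Set G) ≤ H) (hHN : H ≤ Subgroup.normalizer (P : Set G))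
    (b : Set (IrrCharacter H)) (B : Set (IrrCharacter G)) (hind : IsInducedBlock M H b B)
    (huniq : ∀ b' : Set (IrrCharacter H), IsInducedBlock M H b' B → b' = b) :
    ∀ h : H, MemLocalIdeal M (brRes P H (blockCoeff B) h - blockCoeff b h) := by
  classical
  have hMp : M.IsPrime := hM.2.1.isPrime
  have hMtop := hMp.ne_top
  obtain ⟨χ₀, hχ₀⟩ := hind.2.1
  obtain ⟨ξ₀, hξ₀⟩ := hind.1
  obtain ⟨hcf, hl, -, hidem⟩ := blockCoeff_props (M := M) χ₀
  rw [← hχ₀] at hcf hl hidem
  obtain ⟨hbcf, hbl, -, hbidem⟩ := blockCoeff_props (M := M) ξ₀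
  rw [← hξ₀] at hbcf hbl hbidem
  apply idem_congr (brRes_isClassFunction hHN hcf) (fun h => brRes_memLocalRing hMtop P H hl h)
    _ hbcf hbl
  · intro h
    rw [hbidem, sub_self]
    exact memLocalIdeal_zero hMtop
  · intro ξ
    obtain ⟨χ, hχ1, hχ2⟩ := brauer_block_exists p M hM hP hPH hCH hHN ξ
    have h1 := hχ1 (blockCoeff B) hcf hl
    unfold brOmega at h1
    rw [omegaFn_blockCoeff]
    rw [omegaFn_blockCoeff] at h1
    have hiff : ξ ∈ b ↔ χ ∈ B := by
      constructor
      · intro hξ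
        have e1 : blockOf M (ξ : H → ℂ) = b := blockOf_eq_of_mem hind.1 hξ
        rw [e1] at hχ2
        have e2 : blockOf M (χ : G → ℂ) = B := induced_block_unique H hχ2 hind
        rw [← e2]
        exact sameBlock_refl M hMtop _
      · intro hχ
        have e1 : blockOf M (χ : G → ℂ) = B := blockOf_eq_of_mem hind.2.1 hχ
        rw [e1] at hχ2
        have e2 := huniq _ hχ2
        rw [← e2]
        exact sameBlock_refl M hMtop _
    by_cases hξ : ξ ∈ b
    · rw [if_pos hξ]
      rw [if_pos (hiff.1 hξ)] at h1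
      exact h1
    · rw [if_neg hξ]
      rw [if_neg (fun h => hξ (hiff.2 h))] at h1
      exact h1
  · intro h
    have h1 := brRes_cconv_sub hM hP hCH hcf hl hcf hl h
    rw [hidem] at h1
    have := memLocalIdeal_neg h1
    rwa [neg_sub] at this

/-- transitivity of block induction, second form -/
theorem induced_trans_transport' {M : Ideal AlgInt} [hMp : M.IsPrime] {L N : Subgroup G}
    [Fintype L] [Fintype N] [Fintype ↥(L.subgroupOf N)] (hLN : L ≤ N)
    (b : Set (IrrCharacter L)) (hb : IsPBlock M b) (β : Set (IrrCharacter N))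
    (B : Set (IrrCharacter G))
    (h2 : IsInducedBlock M (L.subgroupOf N)
      (transportSet (Subgroup.subgroupOfEquivOfLe hLN) b) β)
    (h3 : IsInducedBlock M N β B) :
    IsInducedBlock M L b B := by
  classical
  have hMtop := hMp.ne_top
  refine ⟨hb, h3.2.1, ?_⟩
  intro θ hθ Χ hΧ g
  obtain ⟨χ, hχ⟩ := h3.1
  have hχβ : χ ∈ β := by
    rw [hχ]
    exact sameBlock_refl M hMtop _
  have hφ : irrTransport (Subgroup.subgroupOfEquivOfLe hLN) θ ∈
      transportSet (Subgroup.subgroupOfEquivOfLe hLN) b :=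
    (mem_transportSet_iff _ b θ).2 hθ
  have hu_cf : IsClassFunction N (fun n : N => classInd g (n : G)) :=
    restrict_isClassFunction N (classInd_isClassFunction g)
  have hu_loc : ∀ n : N, MemLocalRing M (classInd g (n : G)) :=
    fun n => classInd_memLocalRing hMtop g n
  have k1 := induced_omegaFn_sub (L.subgroupOf N) h2 hφ hχβ hu_cf hu_loc
  have k2 : omegaFn (irrTransport (Subgroup.subgroupOfEquivOfLe hLN) θ : ↥(L.subgroupOf N) → ℂ)
      (fun h : ↥(L.subgroupOf N) => classInd g ((h : N) : G)) =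
      inducedCentralChar L (θ : L → ℂ) g := by
    rw [inducedCentralChar_eq_omegaFn]
    unfold omegaFn
    simp only [irrTransport_apply, map_one]
    congr 1
    apply Fintype.sum_equiv (Subgroup.subgroupOfEquivOfLe hLN).toEquiv
    intro x
    rfl
  have k3 := h3.2.2 χ hχβ Χ hΧ g
  rw [inducedCentralChar_eq_omegaFn N (χ : N → ℂ) g] at k3
  rw [k2] at k1
  have e : inducedCentralChar L (θ : L → ℂ) g - centralChar (Χ : G → ℂ) g =
      (inducedCentralChar L (θ : L → ℂ) g -
        omegaFn (χ : N → ℂ) (fun n : N => classInd g (n : G))) +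
      (omegaFn (χ : N → ℂ) (fun h : N => classInd g (h : G)) - centralChar (Χ : G → ℂ) g) := by
    ring
  rw [e]
  exact memLocalIdeal_add k1 k3

/-- blocks whose idempotents agree modulo `J` on the centralizer of a defect group coincide -/
theorem block_eq_of_brauer_congr (p : ℕ) [Fact p.Prime] (M : Ideal AlgInt) (hM : IsPModular p M)
    (Q : Subgroup G) (hQ : IsPGroup p Q) (c₁ c₂ : Set (IrrCharacter G)) (h₁ : IsPBlock M c₁)
    (h₂ : IsPBlock M c₂) (hD : IsDefectGroup p M c₁ Q)
    (hcong : ∀ x ∈ Subgroup.centralizer (Q : Set G),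
      MemLocalIdeal M (blockCoeff c₁ x - blockCoeff c₂ x)) : c₁ = c₂ := by
  classical
  have hMp : M.IsPrime := hM.2.1.isPrime
  have hMtop := hMp.ne_top
  have := Fintype.ofFinite (Subgroup.centralizer (Q : Set G))
  by_contra hne
  have hdisj : ∀ ψ : IrrCharacter G, ψ ∈ c₁ → ψ ∉ c₂ := by
    intro ψ h1 h2
    apply hne
    rw [← blockOf_eq_of_mem h₁ h1, ← blockOf_eq_of_mem h₂ h2]
  obtain ⟨χ₁, hχ₁⟩ := h₁
  obtain ⟨χ₂, hχ₂⟩ := h₂
  obtain ⟨hcf₁, hl₁, -, hidem₁⟩ := blockCoeff_props (M := M) χ₁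
  rw [← hχ₁] at hcf₁ hl₁ hidem₁
  obtain ⟨hcf₂, hl₂, -, -⟩ := blockCoeff_props (M := M) χ₂
  rw [← hχ₂] at hcf₂ hl₂
  have hprod : cconv (blockCoeff c₁) (blockCoeff c₂) = 0 := by
    apply classFunction_ext_omega (cconv_isClassFunction hcf₁ hcf₂) (fun g k => rfl)
    intro ψ
    rw [omegaFn_cconv ψ.2 _ hcf₂, omegaFn_blockCoeff, omegaFn_blockCoeff, omegaFn_zero]
    by_cases h1 : ψ ∈ c₁
    · rw [if_neg (hdisj ψ h1), mul_zero]
    · rw [if_neg h1, zero_mul]
  obtain ⟨C, hC⟩ : ∃ C : Subgroup G, C = Subgroup.centralizer (Q : Set G) := ⟨_, rfl⟩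
  obtain ⟨g, hg, S, hS⟩ := hD
  have hgC : g ∈ Subgroup.centralizer (Q : Set G) := by
    rw [Subgroup.mem_centralizer_iff]
    intro s hs
    rw [hS] at hs
    obtain ⟨y, -, rfl⟩ := hs
    have := y.2
    rw [Subgroup.mem_centralizer_iff] at this
    exact (this g (Set.mem_singleton g)).symm
  obtain ⟨u₁, hu₁⟩ : ∃ u₁ : Subgroup.centralizer (Q : Set G) → ℂ,
      u₁ = brRes Q (Subgroup.centralizer (Q : Set G)) (blockCoeff c₁) := ⟨_, rfl⟩
  obtain ⟨u₂, hu₂⟩ : ∃ u₂ : Subgroup.centralizer (Q : Set G) → ℂ,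
      u₂ = brRes Q (Subgroup.centralizer (Q : Set G)) (blockCoeff c₂) := ⟨_, rfl⟩
  have hu₁R : ∀ h, MemLocalRing M (u₁ h) := by
    intro h
    rw [hu₁]
    exact brRes_memLocalRing hMtop Q _ hl₁ h
  have hdiff : ∀ h, MemLocalIdeal M ((u₁ - u₂) h) := by
    intro h
    rw [hu₁, hu₂]
    show MemLocalIdeal M (brRes Q _ (blockCoeff c₁) h - brRes Q _ (blockCoeff c₂) h)
    unfold brRes
    rw [if_pos h.2, if_pos h.2]
    exact hcong h h.2
  have hall : ∀ h, MemLocalIdeal M (u₁ h) := by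
    intro h
    have t1 := brRes_cconv_sub hM hQ le_rfl hcf₁ hl₁ hcf₁ hl₁ h
    rw [hidem₁, ← hu₁] at t1
    have t2 := brRes_cconv_sub hM hQ le_rfl hcf₁ hl₁ hcf₂ hl₂ h
    rw [hprod, ← hu₁, ← hu₂] at t2
    have t2' : brRes Q (Subgroup.centralizer (Q : Set G)) (0 : G → ℂ) h = 0 := by
      unfold brRes
      simp
    rw [t2', zero_sub] at t2
    have t3 := cconv_memLocalIdeal_right hu₁R hdiff h
    rw [cconv_sub_right] at t3
    have e : u₁ h = (u₁ h - cconv u₁ u₁ h) + (cconv u₁ u₁ - cconv u₁ u₂) h -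
        (-cconv u₁ u₂ h) := by
      simp only [Pi.sub_apply]
      ring
    rw [e]
    exact memLocalIdeal_sub (memLocalIdeal_add t1 t3) t2
  apply hg.2.1
  have := hall ⟨g, hgC⟩
  rw [hu₁] at this
  unfold brRes at this
  rw [if_pos hgC] at this
  exact this

end BrauerCorr

end Cfsg.Agent.helper24
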