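import Mathlib
import Cfsg.Agent.Lib_helper24_BrauerCorr
import Cfsg.Agent.Lib_helper8_Clifford
import Cfsg.Agent.Lib_helper12_Clifford
import Cfsg.Agent.Lib_helper12_CharOps

/-!
Fong–Reynolds (helper24), part 1: generic lemmas on cosets, induced functions with local
values, functions supported on a normal subgroup, and the key trace identity.
-/

set_option autoImplicit false

namespace Cfsg.Agent.helper24

open Cfsg Cfsg.Agent.helper5
open scoped ComplexConjugate

universe u

variable {G : Type u} [Group G]

/-- an extension by zero of a class function of `T` is invariant under conjugation by `T` -/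
theorem fr_extendByZero_conj_mem (T : Subgroup G) {f : T → ℂ} (hf : IsClassFunction T f)
    {x : G} (hx : x ∈ T) (y : G) :
    extendByZero T f (x⁻¹ * y * x) = extendByZero T f y := by
  by_cases hy : y ∈ T
  · have hy' : x⁻¹ * y * x ∈ T := T.mul_mem (T.mul_mem (T.inv_mem hx) hy) hx
    rw [extendByZero_of_mem T f _ hy', extendByZero_of_mem T f _ hy]
    have h1 := hf ⟨y, hy⟩ ⟨x⁻¹, T.inv_mem hx⟩
    rw [← h1]
    congr 1
    apply Subtype.ext
    simp
  · have hy' : x⁻¹ * y * x ∉ T := by
      intro h
      apply hy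
      have : y = x * (x⁻¹ * y * x) * x⁻¹ := by group
      rw [this]
      exact T.mul_mem (T.mul_mem hx h) (T.inv_mem hx)
    rw [extendByZero_of_not_mem T f _ hy', extendByZero_of_not_mem T f _ hy]

/-- `G` as the product of a set of coset representatives and the subgroup -/
noncomputable def cosetProdEquiv (T : Subgroup G) : (G ⧸ T) × T ≃ G where
  toFun p := p.1.out * (p.2 : G)
  invFun x := ((x : G ⧸ T), ⟨((x : G ⧸ T)).out⁻¹ * x, by
    rw [← QuotientGroup.eq]
    exact QuotientGroup.out_eq' _⟩)
  left_inv := by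
    rintro ⟨q, t⟩
    have h : ((q.out * (t : G) : G) : G ⧸ T) = q := by
      rw [QuotientGroup.mk_mul_of_mem _ t.2]
      exact QuotientGroup.out_eq' q
    apply Prod.ext
    · exact h
    · apply Subtype.ext
      simp only [h]
      group
  right_inv x := by
    simp

theorem fr_sum_cosets [Fintype G] (T : Subgroup G) [Fintype T] [Fintype (G ⧸ T)] (F : G → ℂ)
    (hF : ∀ x : G, ∀ t ∈ T, F (x * t) = F x) :
    ∑ x : G, F x = (Nat.card T : ℂ) * ∑ q : G ⧸ T, F q.out := by
  rw [← Equiv.sum_comp (cosetProdEquiv T) F, Fintype.sum_prod_type, Finset.mul_sum]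
  refine Finset.sum_congr rfl (fun q _ => ?_)
  have : ∀ t : T, F (cosetProdEquiv T (q, t)) = F q.out := by
    intro t
    exact hF q.out t t.2
  rw [Finset.sum_congr rfl (fun t _ => this t), Finset.sum_const, Finset.card_univ,
    nsmul_eq_mul, Nat.card_eq_fintype_card]

/-- the function induced from a class function with local values has local values -/
theorem fr_indFun_memLocalRing [Fintype G] {M : Ideal AlgInt} [hMp : M.IsPrime] (T : Subgroup G)
    {f : T → ℂ} (hf : IsClassFunction T f) (hl : ∀ t, MemLocalRing M (f t)) (g : G) :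
    MemLocalRing M (indFun T f g) := by
  classical
  have := Fintype.ofFinite T
  have := Fintype.ofFinite (G ⧸ T)
  unfold indFun
  rw [fr_sum_cosets T (fun x => extendByZero T f (x⁻¹ * g * x))]
  · rw [← mul_assoc, inv_mul_cancel₀, one_mul]
    · apply memLocalRing_sum
      intro q _
      by_cases h : q.out⁻¹ * g * q.out ∈ T
      · rw [extendByZero_of_mem T f _ h]
        exact hl _
      · rw [extendByZero_of_not_mem T f _ h]
        exact memLocalRing_zero hMp.ne_top
    · exact_mod_cast (Nat.card_pos (α := T)).ne'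
  · intro x t ht
    show extendByZero T f ((x * t)⁻¹ * g * (x * t)) = extendByZero T f (x⁻¹ * g * x)
    rw [← fr_extendByZero_conj_mem T hf ht (x⁻¹ * g * x)]
    congr 1
    group


/-- a function on the subgroup `N ≤ T`, extended by zero to `T` -/
noncomputable def extT (N T : Subgroup G) (a : N → ℂ) : T → ℂ :=
  fun t => extendByZero N a (t : G)

theorem extT_coe (N T : Subgroup G) (hNT : N ≤ T) (a : N → ℂ) (n : N) :
    extT N T a ⟨(n : G), hNT n.2⟩ = a n := by
  unfold extT
  exact extendByZero_coe N a n

theorem extT_of_not_mem (N T : Subgroup G) (a : N → ℂ) (t : T) (ht : (t : G) ∉ N) :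
    extT N T a t = 0 := by
  unfold extT
  exact extendByZero_of_not_mem N a _ ht

theorem fr_sum_extT [Fintype G] (N T : Subgroup G) [Fintype N] [Fintype T] (hNT : N ≤ T)
    (a : N → ℂ) (F : T → ℂ) :
    ∑ t : T, extT N T a t * F t = ∑ n : N, a n * F ⟨(n : G), hNT n.2⟩ := by
  classical
  have hj : Function.Injective (fun n : N => (⟨(n : G), hNT n.2⟩ : T)) := by
    intro n m h
    apply Subtype.ext
    exact congrArg (fun t : T => (t : G)) h
  rw [← Finset.sum_subset (Finset.subset_univ
    (Finset.univ.image (fun n : N => (⟨(n : G), hNT n.2⟩ : T))))]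
  · rw [Finset.sum_image (fun x _ y _ h => hj h)]
    refine Finset.sum_congr rfl (fun n _ => ?_)
    rw [extT_coe]
  · intro t _ ht
    have : (t : G) ∉ N := by
      intro h
      apply ht
      rw [Finset.mem_image]
      exact ⟨⟨(t : G), h⟩, Finset.mem_univ _, rfl⟩
    rw [extT_of_not_mem N T a t this, zero_mul]

/-- a `T`-invariant function on the normal subgroup `N` gives a class function of `T` -/
theorem extT_isClassFunction (N T : Subgroup G) [hN : N.Normal] (a : N → ℂ)
    (hinv : ∀ x ∈ T, ∀ n : N, a ⟨x * n * x⁻¹, hN.conj_mem n n.2 x⟩ = a n) :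
    IsClassFunction T (extT N T a) := by
  intro t k
  unfold extT
  by_cases ht : (t : G) ∈ N
  · have h1 : ((k * t * k⁻¹ : T) : G) = (k : G) * ((⟨(t : G), ht⟩ : N) : G) * (k : G)⁻¹ := by
      simp
    rw [h1, extendByZero_of_mem N a _ (hN.conj_mem _ ht _), extendByZero_of_mem N a _ ht]
    exact hinv k k.2 ⟨(t : G), ht⟩
  · have h1 : ((k * t * k⁻¹ : T) : G) ∉ N := by
      intro h
      apply ht
      have h2 := hN.conj_mem _ h (k : G)⁻¹
      have h3 : (k : G)⁻¹ * ((k * t * k⁻¹ : T) : G) * ((k : G)⁻¹)⁻¹ = (t : G) := by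
        simp only [Subgroup.coe_mul, Subgroup.coe_inv]
        group
      rwa [h3] at h2
    rw [extendByZero_of_not_mem N a _ h1, extendByZero_of_not_mem N a _ ht]

/-- the action of a `T`-central element supported on `N` on a character of `T`, written
with the extension by zero of the character to `G` -/
theorem fr_shift [Fintype G] (N T : Subgroup G) [Fintype N] [Fintype T] (hNT : N ≤ T)
    {v : N → ℂ} (hv : IsClassFunction T (extT N T v)) {ψ : T → ℂ} (hψ : IsIrrCharacter T ψ)
    (y : G) :
    ∑ k : N, v k * extendByZero T ψ (y * (k : G)) = omegaFn ψ (extT N T v) * extendByZero T ψ y := by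
  by_cases hy : y ∈ T
  · have h1 : ∀ k : N, extendByZero T ψ (y * (k : G)) = ψ (⟨y, hy⟩ * ⟨(k : G), hNT k.2⟩) := by
      intro k
      rw [extendByZero_of_mem T ψ _ (T.mul_mem hy (hNT k.2))]
      rfl
    rw [Finset.sum_congr rfl (fun k _ => by rw [h1 k]),
      ← fr_sum_extT N T hNT v (fun s => ψ (⟨y, hy⟩ * s)), sum_mul_char_shift hψ hv,
      extendByZero_of_mem T ψ _ hy]
  · have h1 : ∀ k : N, extendByZero T ψ (y * (k : G)) = 0 := by
      intro k
      apply extendByZero_of_not_mem
      intro h
      apply hy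
      have := T.mul_mem h (T.inv_mem (hNT k.2))
      rwa [mul_inv_cancel_right] at this
    rw [Finset.sum_congr rfl (fun k _ => by rw [h1 k, mul_zero]), Finset.sum_const_zero,
      extendByZero_of_not_mem T ψ _ hy, mul_zero]

/-- products of sums of character idempotents -/
theorem cconv_blockCoeff [Fintype G] (A A' : Set (IrrCharacter G)) :
    cconv (blockCoeff A) (blockCoeff A') = blockCoeff (A ∩ A') := by
  classical
  apply classFunction_ext_omega
    (cconv_isClassFunction (blockCoeff_isClassFunction A) (blockCoeff_isClassFunction A'))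
    (blockCoeff_isClassFunction _)
  intro χ
  rw [omegaFn_cconv χ.2 _ (blockCoeff_isClassFunction A'), omegaFn_blockCoeff, omegaFn_blockCoeff,
    omegaFn_blockCoeff]
  by_cases h1 : χ ∈ A <;> by_cases h2 : χ ∈ A' <;> simp [h1, h2]

theorem blockCoeff_empty [Fintype G] (g : G) : blockCoeff (∅ : Set (IrrCharacter G)) g = 0 := by
  unfold blockCoeff
  simp


/-- the key trace identity: for a character `ψ` of `T` on which the `T`-invariant idempotent
`a` of `N` acts as the identity, while `a` is orthogonal to its conjugates outside `T`,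
cutting the induced character with `a` gives back `ψ` -/
theorem fr_key [Fintype G] (N T : Subgroup G) [hN : N.Normal] [Fintype N] [Fintype T]
    (hNT : N ≤ T) (a : N → ℂ)
    (hT1 : ∀ x ∈ T, ∀ n : N, a ⟨x * n * x⁻¹, hN.conj_mem n n.2 x⟩ = a n)
    (hT2 : ∀ x, x ∉ T → cconv (fun m : N => a ⟨x * m * x⁻¹, hN.conj_mem m m.2 x⟩) a = 0)
    {ψ : T → ℂ} (hψ : IsIrrCharacter T ψ) (hω : omegaFn ψ (extT N T a) = 1) (t : T) :
    ∑ n : N, a n * indFun T ψ ((t : G) * (n : G)) = ψ t := by
  classical
  have hcl : IsClassFunction T (extT N T a) := extT_isClassFunction N T a hT1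
  have hψcl : IsClassFunction T ψ := char_isClassFunction (irr_isCharacter hψ)
  have hshift : ∀ y : G, ∑ k : N, a k * extendByZero T ψ (y * (k : G)) = extendByZero T ψ y := by
    intro y
    rw [fr_shift N T hNT hcl hψ y, hω, one_mul]
  have hK : ∀ x : G, ∑ n : N, a n * extendByZero T ψ (x⁻¹ * ((t : G) * (n : G)) * x)
      = if x ∈ T then ψ t else 0 := by
    intro x
    by_cases hx : x ∈ T
    · rw [if_pos hx]
      rw [Finset.sum_congr rfl (fun n _ => by rw [fr_extendByZero_conj_mem T hψcl hx])]
      rw [hshift, extendByZero_coe]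
    · rw [if_neg hx]
      obtain ⟨s, hs⟩ : ∃ s : G, s = x⁻¹ * (t : G) * x := ⟨_, rfl⟩
      have h1 : ∑ n : N, a n * extendByZero T ψ (x⁻¹ * ((t : G) * (n : G)) * x)
          = ∑ m : N, a ⟨x * m * x⁻¹, hN.conj_mem m m.2 x⟩ * extendByZero T ψ (s * (m : G)) := by
        symm
        apply Fintype.sum_equiv (MulAut.conjNormal x : N ≃* N).toEquiv
        intro m
        have e1 : ((MulAut.conjNormal x : N ≃* N).toEquiv m)
            = ⟨x * m * x⁻¹, hN.conj_mem m m.2 x⟩ := by
          apply Subtype.ext
          simp [MulAut.conjNormal_apply]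
        rw [e1]
        congr 2
        rw [hs]
        show _ = x⁻¹ * ((t : G) * (x * (m : G) * x⁻¹)) * x
        group
      rw [h1]
      have h2 : ∀ m : N, extendByZero T ψ (s * (m : G))
          = ∑ k : N, a k * extendByZero T ψ (s * ((m * k : N) : G)) := by
        intro m
        rw [← hshift (s * (m : G))]
        refine Finset.sum_congr rfl (fun k _ => ?_)
        rw [Subgroup.coe_mul, mul_assoc]
      have h3 : ∑ m : N, a ⟨x * m * x⁻¹, hN.conj_mem m m.2 x⟩ * extendByZero T ψ (s * (m : G))
          = ∑ m' : N, cconv (fun m : N => a ⟨x * m * x⁻¹, hN.conj_mem m m.2 x⟩) a m' *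
              extendByZero T ψ (s * (m' : G)) := by
        unfold cconv
        simp_rw [Finset.sum_mul]
        rw [Finset.sum_comm]
        refine Finset.sum_congr rfl (fun m _ => ?_)
        rw [h2 m, Finset.mul_sum]
        apply Fintype.sum_equiv (Equiv.mulLeft m)
        intro k
        simp only [Equiv.coe_mulLeft, inv_mul_cancel_left]
        ring
      rw [h3, hT2 x hx]
      simp
  unfold indFun
  have h4 : ∀ n : N, a n * ((Nat.card T : ℂ)⁻¹ *
      ∑ x : G, extendByZero T ψ (x⁻¹ * ((t : G) * (n : G)) * x))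
      = (Nat.card T : ℂ)⁻¹ * ∑ x : G, a n * extendByZero T ψ (x⁻¹ * ((t : G) * (n : G)) * x) := by
    intro n
    rw [mul_left_comm, Finset.mul_sum]
  rw [Finset.sum_congr rfl (fun n _ => h4 n), ← Finset.mul_sum, Finset.sum_comm,
    Finset.sum_congr rfl (fun x _ => hK x), Finset.sum_ite, Finset.sum_const_zero, add_zero,
    Finset.sum_const, nsmul_eq_mul, Cfsg.Agent.helper8.card_filter_mem_subgroup, ← mul_assoc,
    inv_mul_cancel₀, one_mul]
  exact_mod_cast (Nat.card_pos (α := T)).ne'

end Cfsg.Agent.helper24
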