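import Mathlib
import Cfsg.Agent.Lib_helper24_FongRey1

/-!
Fong–Reynolds (helper24), part 2: the mass of a character on a sum of idempotents, the
stabilizer of a block of a normal subgroup, covering.
-/

set_option autoImplicit false

namespace Cfsg.Agent.helper24

open Cfsg Cfsg.Agent.helper5
open scoped ComplexConjugate

universe u

section generic

variable {N : Type u} [Group N] [Fintype N]

open Classical in
/-- pairing a class function with a sum of character idempotents -/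
theorem fr_sum_blockCoeff_mul [Fintype (IrrCharacter N)]
    (A : Set (IrrCharacter N)) {r : N → ℂ} (hr : IsClassFunction N r) :
    ∑ n : N, blockCoeff A n * r n
      = ∑ θ : IrrCharacter N,
          if θ ∈ A then classInner r (θ : N → ℂ) * (θ : N → ℂ) 1 else 0 := by
  have hexp := classFunction_expansion hr
  have hval : ∀ n : N, r n
      = ∑ θ : IrrCharacter N, classInner r (θ : N → ℂ) * (θ : N → ℂ) n := by
    intro n
    have h1 := congrFun hexp n
    rw [Finset.sum_apply] at h1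
    conv_lhs => rw [h1]
    refine Finset.sum_congr rfl (fun θ _ => ?_)
    rfl
  have h1 : ∀ θ : IrrCharacter N, ∑ n : N, blockCoeff A n * (θ : N → ℂ) n
      = if θ ∈ A then (θ : N → ℂ) 1 else 0 := by
    intro θ
    have h2 := omegaFn_blockCoeff A θ
    unfold omegaFn at h2
    rw [div_eq_iff (irr_apply_one_ne_zero θ.2)] at h2
    rw [h2]
    split_ifs <;> simp
  simp_rw [hval, Finset.mul_sum]
  rw [Finset.sum_comm]
  refine Finset.sum_congr rfl (fun θ _ => ?_)
  have h3 : ∀ n : N, blockCoeff A n * (classInner r (θ : N → ℂ) * (θ : N → ℂ) n)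
      = classInner r (θ : N → ℂ) * (blockCoeff A n * (θ : N → ℂ) n) := by
    intro n
    ring
  rw [Finset.sum_congr rfl (fun n _ => h3 n), ← Finset.mul_sum, h1 θ]
  split_ifs <;> simp

/-- a character pairs nontrivially with a sum of idempotents iff it has a constituent there -/
theorem fr_mass (A : Set (IrrCharacter N)) {r : N → ℂ} (hr : IsCharacter N r) :
    (∑ n : N, blockCoeff A n * r n ≠ 0) ↔ ∃ θ ∈ A, classInner r (θ : N → ℂ) ≠ 0 := by
  classical
  have := Fintype.ofFinite (IrrCharacter N)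
  rw [fr_sum_blockCoeff_mul A (char_isClassFunction hr)]
  choose m hm using fun θ : IrrCharacter N =>
    Cfsg.Agent.helper12.classInner_char_nat hr (irr_isCharacter θ.2)
  choose d hd0 hd using fun θ : IrrCharacter N => irr_apply_one θ.2
  have h1 : (∑ θ : IrrCharacter N,
      if θ ∈ A then classInner r (θ : N → ℂ) * (θ : N → ℂ) 1 else 0)
      = ((∑ θ : IrrCharacter N, if θ ∈ A then m θ * d θ else 0 : ℕ) : ℂ) := by
    rw [Nat.cast_sum]
    refine Finset.sum_congr rfl (fun θ _ => ?_)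
    split_ifs
    · rw [hm θ, hd θ]
      push_cast
      rfl
    · simp
  rw [h1]
  constructor
  · intro h
    have h2 : (∑ θ : IrrCharacter N, if θ ∈ A then m θ * d θ else 0) ≠ 0 := by
      intro h0
      apply h
      rw [h0]
      simp
    obtain ⟨θ, _, hθ⟩ := Finset.exists_ne_zero_of_sum_ne_zero h2
    by_cases hA : θ ∈ A
    · rw [if_pos hA] at hθ
      refine ⟨θ, hA, ?_⟩
      rw [hm θ]
      intro h0
      apply hθ
      have : m θ = 0 := by exact_mod_cast h0
      rw [this, zero_mul]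
    · rw [if_neg hA] at hθ
      exact absurd rfl hθ
  · rintro ⟨θ, hA, hθ⟩
    have hmθ : m θ ≠ 0 := by
      intro h0
      apply hθ
      rw [hm θ, h0]
      simp
    have h2 : 0 < ∑ θ : IrrCharacter N, if θ ∈ A then m θ * d θ else 0 := by
      apply Finset.sum_pos'
      · intro _ _
        exact Nat.zero_le _
      · refine ⟨θ, Finset.mem_univ _, ?_⟩
        rw [if_pos hA]
        exact Nat.mul_pos (Nat.pos_of_ne_zero hmθ) (hd0 θ)
    exact_mod_cast h2.ne'

/-- a class function all of whose constituents lie in `A` is fixed by the idempotent of `A` -/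
theorem fr_mass_full (A : Set (IrrCharacter N)) {r : N → ℂ} (hr : IsClassFunction N r)
    (hall : ∀ θ : IrrCharacter N, classInner r (θ : N → ℂ) ≠ 0 → θ ∈ A) :
    ∑ n : N, blockCoeff A n * r n = r 1 := by
  classical
  have := Fintype.ofFinite (IrrCharacter N)
  rw [fr_sum_blockCoeff_mul A hr]
  have hexp := classFunction_expansion hr
  have h1 := congrFun hexp 1
  rw [Finset.sum_apply] at h1
  conv_rhs => rw [h1]
  refine Finset.sum_congr rfl (fun θ _ => ?_)
  by_cases hA : θ ∈ A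
  · rw [if_pos hA]
    rfl
  · rw [if_neg hA]
    have : classInner r (θ : N → ℂ) = 0 := by
      by_contra h
      exact hA (hall θ h)
    simp [this]

variable {M : Ideal AlgInt} [hMp : M.IsPrime]

theorem isPBlock_eq_of_mem {A B : Set (IrrCharacter N)} (hA : IsPBlock M A) (hB : IsPBlock M B)
    {χ : IrrCharacter N} (h1 : χ ∈ A) (h2 : χ ∈ B) : A = B :=
  (blockOf_eq_of_mem hA h1).symm.trans (blockOf_eq_of_mem hB h2)

theorem isPBlock_nonempty {A : Set (IrrCharacter N)} (hA : IsPBlock M A) : ∃ χ, χ ∈ A := by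
  obtain ⟨χ₀, rfl⟩ := hA
  exact ⟨χ₀, sameBlock_refl M hMp.ne_top _⟩

theorem blockCoeff_memLocalRing_of_isPBlock {A : Set (IrrCharacter N)} (hA : IsPBlock M A)
    (n : N) : MemLocalRing M (blockCoeff A n) := by
  obtain ⟨χ₀, rfl⟩ := hA
  exact (blockCoeff_props (M := M) χ₀).2.1 n

end generic


section setting

variable {G : Type u} [Group G] [Fintype G] {M : Ideal AlgInt} [hMp : M.IsPrime]
  (N T : Subgroup G) [hN : N.Normal] [Fintype N] [Fintype T]
  (b : Set (IrrCharacter N))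

theorem fr_conjNormal_eq (x : G) (n : N) :
    (MulAut.conjNormal x : N ≃* N) n = ⟨x * n * x⁻¹, hN.conj_mem n n.2 x⟩ :=
  Subtype.ext (by simp [MulAut.conjNormal_apply])

/-- restriction of a function on `T` to `N ≤ T` -/
def resNT (hNT : N ≤ T) (ψ : T → ℂ) : N → ℂ := fun n => ψ ⟨(n : G), hNT n.2⟩

theorem resNT_apply (hNT : N ≤ T) (ψ : T → ℂ) (n : N) :
    resNT N T hNT ψ n = ψ ⟨(n : G), hNT n.2⟩ := rfl

theorem resNT_isCharacter (hNT : N ≤ T) {ψ : T → ℂ} (hψ : IsCharacter T ψ) :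
    IsCharacter N (resNT N T hNT ψ) :=
  Cfsg.Agent.helper8.isCharacter_comp_monoidHom (Subgroup.inclusion hNT) hψ

include hMp in
theorem fr_conjBlock_eq (hb : IsPBlock M b)
    (hT : ∀ g : G, g ∈ T ↔ ∀ θ ∈ b, ∀ θ' : IrrCharacter N,
      (∀ n : N, (θ' : N → ℂ) n = (θ : N → ℂ) ⟨g * n * g⁻¹, hN.conj_mem n n.2 g⟩) → θ' ∈ b)
    {x : G} (hx : x ∈ T) : transportSet (MulAut.conjNormal x : N ≃* N) b = b := by
  have hsub : transportSet (MulAut.conjNormal x : N ≃* N) b ⊆ b := by
    rintro φ ⟨θ, hθ, hφ⟩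
    apply (hT x).1 hx θ hθ φ
    intro n
    rw [hφ]
    show (θ : N → ℂ) ((MulAut.conjNormal x : N ≃* N) n) = _
    rw [fr_conjNormal_eq]
  have hblk := isPBlock_transportSet (M := M) (MulAut.conjNormal x : N ≃* N) b hb
  obtain ⟨φ, hφ⟩ := isPBlock_nonempty hblk
  exact isPBlock_eq_of_mem hblk hb hφ (hsub hφ)

include hMp in
theorem fr_conjBlock_disj (hb : IsPBlock M b)
    (hT : ∀ g : G, g ∈ T ↔ ∀ θ ∈ b, ∀ θ' : IrrCharacter N,
      (∀ n : N, (θ' : N → ℂ) n = (θ : N → ℂ) ⟨g * n * g⁻¹, hN.conj_mem n n.2 g⟩) → θ' ∈ b)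
    {x : G} (hx : x ∉ T) : transportSet (MulAut.conjNormal x : N ≃* N) b ∩ b = ∅ := by
  by_contra hne
  obtain ⟨φ, hφ1, hφ2⟩ := Set.nonempty_iff_ne_empty.mpr hne
  have hblk := isPBlock_transportSet (M := M) (MulAut.conjNormal x : N ≃* N) b hb
  have heq := isPBlock_eq_of_mem hblk hb hφ1 hφ2
  apply hx
  rw [hT x]
  intro θ hθ θ' hθ'
  rw [← heq]
  refine ⟨θ, hθ, ?_⟩
  funext n
  rw [hθ' n]
  show _ = (θ : N → ℂ) ((MulAut.conjNormal x : N ≃* N) n)
  rw [fr_conjNormal_eq]

include hMp in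
theorem fr_hT1 (hb : IsPBlock M b)
    (hT : ∀ g : G, g ∈ T ↔ ∀ θ ∈ b, ∀ θ' : IrrCharacter N,
      (∀ n : N, (θ' : N → ℂ) n = (θ : N → ℂ) ⟨g * n * g⁻¹, hN.conj_mem n n.2 g⟩) → θ' ∈ b) :
    ∀ x ∈ T, ∀ n : N, blockCoeff b ⟨x * n * x⁻¹, hN.conj_mem n n.2 x⟩ = blockCoeff b n := by
  intro x hx n
  rw [← fr_conjNormal_eq, ← blockCoeff_transportSet, fr_conjBlock_eq N T b hb hT hx]

include hMp in
theorem fr_hT2 (hb : IsPBlock M b)
    (hT : ∀ g : G, g ∈ T ↔ ∀ θ ∈ b, ∀ θ' : IrrCharacter N,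
      (∀ n : N, (θ' : N → ℂ) n = (θ : N → ℂ) ⟨g * n * g⁻¹, hN.conj_mem n n.2 g⟩) → θ' ∈ b) :
    ∀ x, x ∉ T → cconv (fun m : N => blockCoeff b ⟨x * m * x⁻¹, hN.conj_mem m m.2 x⟩)
      (blockCoeff b) = 0 := by
  intro x hx
  have h1 : (fun m : N => blockCoeff b ⟨x * m * x⁻¹, hN.conj_mem m m.2 x⟩)
      = blockCoeff (transportSet (MulAut.conjNormal x : N ≃* N) b) := by
    funext m
    rw [blockCoeff_transportSet, fr_conjNormal_eq]
  rw [h1, cconv_blockCoeff, fr_conjBlock_disj N T b hb hT hx]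
  funext m
  exact blockCoeff_empty m

end setting

end Cfsg.Agent.helper24
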