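import Mathlib
import Cfsg.Agent.Lib_helper24_FongRey2

/-!
Fong–Reynolds (helper24), part 3: covering lemmas and the character correspondence.
-/

set_option autoImplicit false

namespace Cfsg.Agent.helper24

open Cfsg Cfsg.Agent.helper5
open scoped ComplexConjugate

universe u

section setting

variable {G : Type u} [Group G] [Fintype G] {M : Ideal AlgInt} [hMp : M.IsPrime]
  (N T : Subgroup G) [hN : N.Normal] [Fintype N] [Fintype T]
  (b : Set (IrrCharacter N))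

/-- all constituents on `N` of a character of `T` covering the `T`-stable block `b` lie in `b` -/
theorem fr_under_mem (hNT : N ≤ T)
    (hT : ∀ g : G, g ∈ T ↔ ∀ θ ∈ b, ∀ θ' : IrrCharacter N,
      (∀ n : N, (θ' : N → ℂ) n = (θ : N → ℂ) ⟨g * n * g⁻¹, hN.conj_mem n n.2 g⟩) → θ' ∈ b)
    {ψ : T → ℂ} (hψ : IsIrrCharacter T ψ)
    (hcov : ∃ θ ∈ b, classInner (resNT N T hNT ψ) (θ : N → ℂ) ≠ 0)
    (θ' : IrrCharacter N) (h : classInner (resNT N T hNT ψ) (θ' : N → ℂ) ≠ 0) : θ' ∈ b := by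
  obtain ⟨θ, hθ, hc⟩ := hcov
  have hnorm : (Subgroup.inclusion hNT).range.Normal := by
    rw [Subgroup.inclusion_range]
    infer_instance
  obtain ⟨x, hx⟩ := Cfsg.Agent.helper12.clifford_conj_hom (Subgroup.inclusion hNT)
    (Subgroup.inclusion_injective hNT) hψ θ.2 θ'.2 hc h
  apply (hT ((x : G)⁻¹)).1 (T.inv_mem x.2) θ hθ θ'
  intro n
  apply hx
  apply Subtype.ext
  simp only [Subgroup.coe_mul, Subgroup.coe_inv, Subgroup.coe_inclusion]
  group

theorem fr_sum_extT_blockCoeff (hNT : N ≤ T) (ψ : T → ℂ) :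
    ∑ t : T, extT N T (blockCoeff b) t * ψ t
      = ∑ n : N, blockCoeff b n * resNT N T hNT ψ n := by
  classical
  have hj : Function.Injective (fun n : N => (⟨(n : G), hNT n.2⟩ : T)) := by
    intro n m h
    apply Subtype.ext
    exact congrArg (fun t : T => (t : G)) h
  rw [← Finset.sum_subset (Finset.subset_univ
    (Finset.univ.image (fun n : N => (⟨(n : G), hNT n.2⟩ : T))))]
  · rw [Finset.sum_image (fun x _ y _ h => hj h)]
    refine Finset.sum_congr rfl (fun n _ => ?_)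
    rw [extT_coe]
    rfl
  · intro t _ ht
    have : (t : G) ∉ N := by
      intro h
      apply ht
      rw [Finset.mem_image]
      exact ⟨⟨(t : G), h⟩, Finset.mem_univ _, rfl⟩
    rw [extT_of_not_mem N T _ t this, zero_mul]

/-- the idempotent of `b` acts as the identity on a character of `T` covering `b` -/
theorem fr_omega_of_cover (hNT : N ≤ T)
    (hT : ∀ g : G, g ∈ T ↔ ∀ θ ∈ b, ∀ θ' : IrrCharacter N,
      (∀ n : N, (θ' : N → ℂ) n = (θ : N → ℂ) ⟨g * n * g⁻¹, hN.conj_mem n n.2 g⟩) → θ' ∈ b)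
    {ψ : T → ℂ} (hψ : IsIrrCharacter T ψ)
    (hcov : ∃ θ ∈ b, classInner (resNT N T hNT ψ) (θ : N → ℂ) ≠ 0) :
    omegaFn ψ (extT N T (blockCoeff b)) = 1 := by
  unfold omegaFn
  rw [fr_sum_extT_blockCoeff N T b hNT ψ,
    fr_mass_full b (char_isClassFunction (resNT_isCharacter N T hNT (irr_isCharacter hψ)))
      (fr_under_mem N T b hNT hT hψ hcov)]
  have h1 : resNT N T hNT ψ 1 = ψ 1 := rfl
  rw [h1, div_self (irr_apply_one_ne_zero hψ)]

theorem fr_cover_of_omega_ne_zero (hNT : N ≤ T) {ψ : T → ℂ} (hψ : IsCharacter T ψ)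
    (h : omegaFn ψ (extT N T (blockCoeff b)) ≠ 0) :
    ∃ θ ∈ b, classInner (resNT N T hNT ψ) (θ : N → ℂ) ≠ 0 := by
  unfold omegaFn at h
  rw [fr_sum_extT_blockCoeff N T b hNT ψ] at h
  rw [← fr_mass b (resNT_isCharacter N T hNT hψ)]
  intro h0
  apply h
  rw [h0, zero_div]

theorem extT_memLocalRing {a : N → ℂ} (ha : ∀ n, MemLocalRing M (a n)) (t : T) :
    MemLocalRing M (extT N T a t) := by
  unfold extT
  by_cases h : (t : G) ∈ N
  · rw [extendByZero_of_mem N a _ h]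
    exact ha _
  · rw [extendByZero_of_not_mem N a _ h]
    exact memLocalRing_zero hMp.ne_top

include hMp in
/-- covering `b` is a property of blocks of `T` -/
theorem fr_cover_of_sameBlock (hNT : N ≤ T) (hb : IsPBlock M b)
    (hT : ∀ g : G, g ∈ T ↔ ∀ θ ∈ b, ∀ θ' : IrrCharacter N,
      (∀ n : N, (θ' : N → ℂ) n = (θ : N → ℂ) ⟨g * n * g⁻¹, hN.conj_mem n n.2 g⟩) → θ' ∈ b)
    {ψ₀ ψ : IrrCharacter T} (hs : SameBlock M (ψ₀ : T → ℂ) (ψ : T → ℂ))
    (hcov : ∃ θ ∈ b, classInner (resNT N T hNT (ψ₀ : T → ℂ)) (θ : N → ℂ) ≠ 0) :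
    ∃ θ ∈ b, classInner (resNT N T hNT (ψ : T → ℂ)) (θ : N → ℂ) ≠ 0 := by
  apply fr_cover_of_omega_ne_zero N T b hNT (irr_isCharacter ψ.2)
  intro h0
  have h1 := omegaFn_sub_memLocalIdeal (M := M) hs
    (extT_isClassFunction N T (blockCoeff b) (fr_hT1 N T b hb hT))
    (extT_memLocalRing N T (blockCoeff_memLocalRing_of_isPBlock hb))
  rw [fr_omega_of_cover N T b hNT hT ψ₀.2 hcov, h0, sub_zero] at h1
  exact not_memLocalIdeal_one h1


omit hN [Fintype T] [Fintype G] in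
/-- the coefficients of a sum of character idempotents at inverse elements -/
theorem blockCoeff_inv' (A : Set (IrrCharacter N)) (n : N) :
    blockCoeff A n⁻¹ = conj (blockCoeff A n) := by
  classical
  have := Fintype.ofFinite (IrrCharacter N)
  rw [blockCoeff_eq_sum, blockCoeff_eq_sum, map_mul, map_inv₀, map_natCast, map_sum]
  congr 1
  refine Finset.sum_congr rfl (fun θ _ => ?_)
  obtain ⟨d, _, hd⟩ := irr_apply_one θ.2
  rw [map_mul, Complex.conj_conj, char_inv (irr_isCharacter θ.2), Complex.conj_conj, hd,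
    Complex.conj_natCast]

/-- restricting the induced character back to `T` and pairing with a character covering `b` -/
theorem fr_inner_res_ind (hNT : N ≤ T) (a : N → ℂ)
    (hT1 : ∀ x ∈ T, ∀ n : N, a ⟨x * n * x⁻¹, hN.conj_mem n n.2 x⟩ = a n)
    (hT2 : ∀ x, x ∉ T → cconv (fun m : N => a ⟨x * m * x⁻¹, hN.conj_mem m m.2 x⟩) a = 0)
    (hinv : ∀ n : N, a n⁻¹ = conj (a n))
    {ψ ψ' : T → ℂ} (hψ : IsIrrCharacter T ψ) (hψ' : IsIrrCharacter T ψ')
    (hω : omegaFn ψ (extT N T a) = 1) (hω' : omegaFn ψ' (extT N T a) = 1) :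
    classInner (fun t : T => indFun T ψ (t : G)) ψ' = classInner ψ ψ' := by
  classical
  have hcl : IsClassFunction T (extT N T a) := extT_isClassFunction N T a hT1
  have hsh' : ∀ t : T, ∑ n : N, a n * ψ' (t * ⟨(n : G), hNT n.2⟩) = ψ' t := by
    intro t
    rw [← fr_sum_extT N T hNT a (fun s => ψ' (t * s)), sum_mul_char_shift hψ' hcl, hω', one_mul]
  have hkey := fr_key N T hNT a hT1 hT2 hψ hω
  unfold classInner
  congr 1
  have h1 : ∀ t : T, indFun T ψ (t : G) * conj (ψ' t)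
      = ∑ n : N, indFun T ψ (t : G) *
          (conj (a n) * conj (ψ' (t * ⟨(n : G), hNT n.2⟩))) := by
    intro t
    conv_lhs => rw [← hsh' t]
    rw [map_sum, Finset.mul_sum]
    refine Finset.sum_congr rfl (fun n _ => ?_)
    rw [map_mul]
  rw [Finset.sum_congr rfl (fun t _ => h1 t), Finset.sum_comm]
  have h2 : ∀ n : N, ∑ t : T, indFun T ψ (t : G) *
        (conj (a n) * conj (ψ' (t * ⟨(n : G), hNT n.2⟩)))
      = ∑ s : T, indFun T ψ ((s : G) * ((n⁻¹ : N) : G)) * (conj (a n) * conj (ψ' s)) := by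
    intro n
    symm
    apply Fintype.sum_equiv (Equiv.mulRight (⟨(n : G), hNT n.2⟩ : T)⁻¹)
    intro s
    simp only [Equiv.coe_mulRight, inv_mul_cancel_right]
    congr 2
  rw [Finset.sum_congr rfl (fun n _ => h2 n), Finset.sum_comm]
  refine Finset.sum_congr rfl (fun s _ => ?_)
  rw [← hkey s, Finset.sum_mul]
  apply Fintype.sum_equiv (Equiv.inv N)
  intro n
  simp only [Equiv.inv_apply]
  rw [hinv n]
  ring

/-- the induced character of a character of `T` covering `b` is irreducible -/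
theorem fr_ind_irr (hNT : N ≤ T) (a : N → ℂ)
    (hT1 : ∀ x ∈ T, ∀ n : N, a ⟨x * n * x⁻¹, hN.conj_mem n n.2 x⟩ = a n)
    (hT2 : ∀ x, x ∉ T → cconv (fun m : N => a ⟨x * m * x⁻¹, hN.conj_mem m m.2 x⟩) a = 0)
    (hinv : ∀ n : N, a n⁻¹ = conj (a n))
    {ψ : T → ℂ} (hψ : IsIrrCharacter T ψ) (hω : omegaFn ψ (extT N T a) = 1) :
    IsIrrCharacter G (indFun T ψ) := by
  apply Cfsg.Agent.helper12.isIrrCharacter_of_classInner_self
    (Cfsg.Agent.helper12.isCharacter_indFun T (irr_isCharacter hψ))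
  rw [Cfsg.Agent.helper8.frobenius T ψ (indFun T ψ)
    (Cfsg.Agent.helper8.indFun_isClassFunction T ψ), ← classInner_conj_symm,
    fr_inner_res_ind N T hNT a hT1 hT2 hinv hψ hψ hω hω, irr_classInner_self hψ, map_one]

/-- induction is injective on the characters of `T` covering `b` -/
theorem fr_ind_inj (hNT : N ≤ T) (a : N → ℂ)
    (hT1 : ∀ x ∈ T, ∀ n : N, a ⟨x * n * x⁻¹, hN.conj_mem n n.2 x⟩ = a n)
    (hT2 : ∀ x, x ∉ T → cconv (fun m : N => a ⟨x * m * x⁻¹, hN.conj_mem m m.2 x⟩) a = 0)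
    (hinv : ∀ n : N, a n⁻¹ = conj (a n))
    {ψ₁ ψ₂ : T → ℂ} (hψ₁ : IsIrrCharacter T ψ₁) (hψ₂ : IsIrrCharacter T ψ₂)
    (hω₁ : omegaFn ψ₁ (extT N T a) = 1) (hω₂ : omegaFn ψ₂ (extT N T a) = 1)
    (h : indFun T ψ₁ = indFun T ψ₂) : ψ₁ = ψ₂ := by
  have h1 := fr_inner_res_ind N T hNT a hT1 hT2 hinv hψ₁ hψ₂ hω₁ hω₂
  have h2 := fr_inner_res_ind N T hNT a hT1 hT2 hinv hψ₂ hψ₂ hω₂ hω₂
  rw [h, h2, irr_classInner_self hψ₂, irr_classInner hψ₁ hψ₂] at h1
  by_contra hne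
  rw [if_neg hne] at h1
  exact one_ne_zero h1

end setting

end Cfsg.Agent.helper24
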