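import Mathlib
import Cfsg.Agent.Lib_helper24_FongRey3

/-!
Fong–Reynolds (helper24), part 4: block level.
-/

set_option autoImplicit false

namespace Cfsg.Agent.helper24

open Cfsg Cfsg.Agent.helper5
open scoped ComplexConjugate

universe u

section setting

variable {G : Type u} [Group G] [Fintype G] {M : Ideal AlgInt} [hMp : M.IsPrime]
  (N T : Subgroup G) [hN : N.Normal] [Fintype N] [Fintype T]
  (b : Set (IrrCharacter N))

include hMp in
/-- Fong–Reynolds, irreducibility -/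
theorem fr_irr (hNT : N ≤ T) (hb : IsPBlock M b)
    (hT : ∀ g : G, g ∈ T ↔ ∀ θ ∈ b, ∀ θ' : IrrCharacter N,
      (∀ n : N, (θ' : N → ℂ) n = (θ : N → ℂ) ⟨g * n * g⁻¹, hN.conj_mem n n.2 g⟩) → θ' ∈ b)
    {ψ : T → ℂ} (hψ : IsIrrCharacter T ψ)
    (hcov : ∃ θ ∈ b, classInner (resNT N T hNT ψ) (θ : N → ℂ) ≠ 0) :
    IsIrrCharacter G (indFun T ψ) :=
  fr_ind_irr N T hNT (blockCoeff b) (fr_hT1 N T b hb hT) (fr_hT2 N T b hb hT)
    (blockCoeff_inv' N b) hψ (fr_omega_of_cover N T b hNT hT hψ hcov)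

include hMp in
/-- Fong–Reynolds, injectivity -/
theorem fr_inj (hNT : N ≤ T) (hb : IsPBlock M b)
    (hT : ∀ g : G, g ∈ T ↔ ∀ θ ∈ b, ∀ θ' : IrrCharacter N,
      (∀ n : N, (θ' : N → ℂ) n = (θ : N → ℂ) ⟨g * n * g⁻¹, hN.conj_mem n n.2 g⟩) → θ' ∈ b)
    {ψ₁ ψ₂ : T → ℂ} (hψ₁ : IsIrrCharacter T ψ₁) (hψ₂ : IsIrrCharacter T ψ₂)
    (hcov₁ : ∃ θ ∈ b, classInner (resNT N T hNT ψ₁) (θ : N → ℂ) ≠ 0)
    (hcov₂ : ∃ θ ∈ b, classInner (resNT N T hNT ψ₂) (θ : N → ℂ) ≠ 0)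
    (h : indFun T ψ₁ = indFun T ψ₂) : ψ₁ = ψ₂ :=
  fr_ind_inj N T hNT (blockCoeff b) (fr_hT1 N T b hb hT) (fr_hT2 N T b hb hT)
    (blockCoeff_inv' N b) hψ₁ hψ₂ (fr_omega_of_cover N T b hNT hT hψ₁ hcov₁)
    (fr_omega_of_cover N T b hNT hT hψ₂ hcov₂) h

include hMp in
/-- Fong–Reynolds, surjectivity: a character of `G` covering `b` is induced from `T` -/
theorem fr_exists_ind (hNT : N ≤ T) (hb : IsPBlock M b)
    (hT : ∀ g : G, g ∈ T ↔ ∀ θ ∈ b, ∀ θ' : IrrCharacter N,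
      (∀ n : N, (θ' : N → ℂ) n = (θ : N → ℂ) ⟨g * n * g⁻¹, hN.conj_mem n n.2 g⟩) → θ' ∈ b)
    {χ : G → ℂ} (hχ : IsIrrCharacter G χ)
    (hcov : ∃ θ ∈ b, classInner (fun n : N => χ n) (θ : N → ℂ) ≠ 0) :
    ∃ φ : IrrCharacter T, (∃ θ ∈ b, classInner (resNT N T hNT (φ : T → ℂ)) (θ : N → ℂ) ≠ 0) ∧
      χ = indFun T (φ : T → ℂ) := by
  classical
  have := Fintype.ofFinite (IrrCharacter T)
  obtain ⟨θ, hθ, hc⟩ := hcov
  have hχcl := char_isClassFunction (irr_isCharacter hχ)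
  have hr : IsClassFunction T (fun t : T => χ t) := restrict_isClassFunction T hχcl
  have hexp := classFunction_expansion hr
  have h1 : (fun n : N => χ n) = ∑ φ : IrrCharacter T,
      classInner (fun t : T => χ t) (φ : T → ℂ) • resNT N T hNT (φ : T → ℂ) := by
    funext n
    have h2 := congrFun hexp ⟨(n : G), hNT n.2⟩
    rw [Finset.sum_apply] at h2 ⊢
    exact h2
  rw [h1, classInner_sum_left] at hc
  obtain ⟨φ, _, hφ⟩ := Finset.exists_ne_zero_of_sum_ne_zero hc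
  rw [classInner_smul_left] at hφ
  have hφ1 : classInner (fun t : T => χ t) (φ : T → ℂ) ≠ 0 := left_ne_zero_of_mul hφ
  have hφ2 : classInner (resNT N T hNT (φ : T → ℂ)) (θ : N → ℂ) ≠ 0 := right_ne_zero_of_mul hφ
  refine ⟨φ, ⟨θ, hθ, hφ2⟩, ?_⟩
  have hirr := fr_irr N T b hNT hb hT φ.2 ⟨θ, hθ, hφ2⟩
  have h2 : classInner (indFun T (φ : T → ℂ)) χ ≠ 0 := by
    rw [Cfsg.Agent.helper8.frobenius T _ χ hχcl, ← classInner_conj_symm]
    exact (map_ne_zero _).mpr hφ1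
  rw [irr_classInner hirr hχ] at h2
  by_contra hne
  rw [if_neg (Ne.symm hne)] at h2
  exact h2 rfl


omit hN [Fintype N] in
/-- the central character of an induced function -/
theorem fr_centralChar_ind {ψ : T → ℂ} (hψ1 : ψ 1 ≠ 0) (g : G) :
    centralChar (indFun T ψ) g = inducedCentralChar T ψ g := by
  classical
  rw [inducedCentralChar_eq_sum]
  unfold centralChar
  rw [indFun_apply T ψ g, Cfsg.Agent.helper8.indFun_one_eq]
  have hS : ∑ h : T, (if IsConj g (h : G) then ψ h / ψ 1 else 0)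
      = (∑ h : T, if IsConj g (h : G) then ψ h else 0) / ψ 1 := by
    rw [Finset.sum_div]
    refine Finset.sum_congr rfl (fun h _ => ?_)
    split_ifs <;> simp
  rw [hS]
  have hcard := card_centralizer_mul_index g
  have hcard' : (Nat.card (Subgroup.centralizer ({g} : Set G)) : ℂ) *
      ((Subgroup.centralizer ({g} : Set G)).index : ℂ) = (Nat.card G : ℂ) := by
    exact_mod_cast hcard
  have hT0 : (Nat.card T : ℂ) ≠ 0 := by exact_mod_cast (Nat.card_pos (α := T)).ne'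
  have hG0 : (Nat.card G : ℂ) ≠ 0 := by exact_mod_cast (Nat.card_pos (α := G)).ne'
  rw [← hcard'] at hG0 ⊢
  have hC0 := left_ne_zero_of_mul hG0
  have hI0 := right_ne_zero_of_mul hG0
  field_simp

omit hN [Fintype N] in
theorem fr_sum_indFun_mul (f : T → ℂ) {u : G → ℂ} (hu : IsClassFunction G u) :
    ∑ g : G, indFun T f g * u g
      = (Nat.card G : ℂ) * ((Nat.card T : ℂ)⁻¹ * ∑ t : T, f t * u t) := by
  have hF : IsClassFunction G (fun g => conj (u g)) := by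
    intro g h
    show conj (u _) = conj (u _)
    rw [hu g h]
  have h := Cfsg.Agent.helper8.frobenius T f (fun g => conj (u g)) hF
  unfold classInner at h
  simp only [Complex.conj_conj] at h
  have hG0 : (Nat.card G : ℂ) ≠ 0 := by exact_mod_cast (Nat.card_pos (α := G)).ne'
  rw [← h, ← mul_assoc, mul_inv_cancel₀ hG0, one_mul]

open Classical in
include hMp in
theorem fr_omega_indFun_blockCoeff (hNT : N ≤ T) (hb : IsPBlock M b)
    (hT : ∀ g : G, g ∈ T ↔ ∀ θ ∈ b, ∀ θ' : IrrCharacter N,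
      (∀ n : N, (θ' : N → ℂ) n = (θ : N → ℂ) ⟨g * n * g⁻¹, hN.conj_mem n n.2 g⟩) → θ' ∈ b)
    (B' : Set (IrrCharacter T))
    (hcovB' : ∀ ψ ∈ B', ∃ θ ∈ b, classInner (resNT N T hNT (ψ : T → ℂ)) (θ : N → ℂ) ≠ 0)
    (χ : IrrCharacter G) :
    omegaFn (χ : G → ℂ) (indFun T (blockCoeff B'))
      = if (∃ ψ ∈ B', (χ : G → ℂ) = indFun T (ψ : T → ℂ)) then 1 else 0 := by
  have := Fintype.ofFinite (IrrCharacter T)
  have hχcl := char_isClassFunction (irr_isCharacter χ.2)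
  have hr : IsClassFunction T (fun t : T => (χ : G → ℂ) t) := restrict_isClassFunction T hχcl
  unfold omegaFn
  rw [fr_sum_indFun_mul T _ hχcl, fr_sum_blockCoeff_mul B' hr]
  have hterm : ∀ φ : IrrCharacter T,
      (if φ ∈ B' then classInner (fun t : T => (χ : G → ℂ) t) (φ : T → ℂ) * (φ : T → ℂ) 1 else 0)
      = if (φ ∈ B' ∧ (χ : G → ℂ) = indFun T (φ : T → ℂ)) then (φ : T → ℂ) 1 else 0 := by
    intro φ
    by_cases hφ : φ ∈ B'
    · have hirr := fr_irr N T b hNT hb hT φ.2 (hcovB' φ hφ)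
      have h1 : classInner (fun t : T => (χ : G → ℂ) t) (φ : T → ℂ)
          = if (χ : G → ℂ) = indFun T (φ : T → ℂ) then 1 else 0 := by
        rw [← classInner_conj_symm, ← Cfsg.Agent.helper8.frobenius T _ _ hχcl,
          irr_classInner hirr χ.2]
        by_cases h : indFun T (φ : T → ℂ) = (χ : G → ℂ)
        · rw [if_pos h, if_pos h.symm, map_one]
        · rw [if_neg h, if_neg (fun h' => h h'.symm), map_zero]
      rw [if_pos hφ, h1]
      by_cases h : (χ : G → ℂ) = indFun T (φ : T → ℂ)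
      · rw [if_pos h, if_pos ⟨hφ, h⟩, one_mul]
      · rw [if_neg h, if_neg (fun h' => h h'.2), zero_mul]
    · rw [if_neg hφ, if_neg (fun h' => hφ h'.1)]
  rw [Finset.sum_congr rfl (fun φ _ => hterm φ)]
  have hT0 : (Nat.card T : ℂ) ≠ 0 := by exact_mod_cast (Nat.card_pos (α := T)).ne'
  have hG0 : (Nat.card G : ℂ) ≠ 0 := by exact_mod_cast (Nat.card_pos (α := G)).ne'
  by_cases hS : ∃ ψ ∈ B', (χ : G → ℂ) = indFun T (ψ : T → ℂ)
  · rw [if_pos hS]
    obtain ⟨ψ₀, hψ₀, hχ⟩ := hS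
    rw [Finset.sum_eq_single ψ₀]
    · rw [if_pos ⟨hψ₀, hχ⟩, hχ, Cfsg.Agent.helper8.indFun_one_eq]
      have := irr_apply_one_ne_zero ψ₀.2
      field_simp
    · intro φ _ hne
      rw [if_neg]
      rintro ⟨hφ, h⟩
      apply hne
      apply Subtype.ext
      exact fr_inj N T b hNT hb hT φ.2 ψ₀.2 (hcovB' φ hφ) (hcovB' ψ₀ hψ₀) (h.symm.trans hχ)
    · intro h
      exact absurd (Finset.mem_univ _) h
  · rw [if_neg hS, Finset.sum_eq_zero, mul_zero, mul_zero, zero_div]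
    intro φ _
    rw [if_neg]
    rintro ⟨hφ, h⟩
    exact hS ⟨φ, hφ, h⟩

include hMp in
/-- the idempotent of the set of induced characters is induced from the idempotent -/
theorem fr_blockCoeff_ind (hNT : N ≤ T) (hb : IsPBlock M b)
    (hT : ∀ g : G, g ∈ T ↔ ∀ θ ∈ b, ∀ θ' : IrrCharacter N,
      (∀ n : N, (θ' : N → ℂ) n = (θ : N → ℂ) ⟨g * n * g⁻¹, hN.conj_mem n n.2 g⟩) → θ' ∈ b)
    (B' : Set (IrrCharacter T))
    (hcovB' : ∀ ψ ∈ B', ∃ θ ∈ b, classInner (resNT N T hNT (ψ : T → ℂ)) (θ : N → ℂ) ≠ 0) :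
    blockCoeff {χ : IrrCharacter G | ∃ ψ ∈ B', (χ : G → ℂ) = indFun T (ψ : T → ℂ)}
      = indFun T (blockCoeff B') := by
  classical
  apply classFunction_ext_omega (blockCoeff_isClassFunction _)
    (Cfsg.Agent.helper8.indFun_isClassFunction T _)
  intro χ
  rw [omegaFn_blockCoeff, fr_omega_indFun_blockCoeff N T b hNT hb hT B' hcovB' χ]
  rfl

omit hN [Fintype N] in
include hMp in
theorem fr_sameBlock_ind {ψ₁ ψ₂ : IrrCharacter T}
    (hs : SameBlock M (ψ₁ : T → ℂ) (ψ₂ : T → ℂ)) :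
    SameBlock M (indFun T (ψ₁ : T → ℂ)) (indFun T (ψ₂ : T → ℂ)) := by
  intro g
  rw [fr_centralChar_ind T (irr_apply_one_ne_zero ψ₁.2),
    fr_centralChar_ind T (irr_apply_one_ne_zero ψ₂.2), inducedCentralChar_eq_omegaFn,
    inducedCentralChar_eq_omegaFn]
  exact omegaFn_sub_memLocalIdeal hs (restrict_isClassFunction T (classInd_isClassFunction g))
    (fun t => classInd_memLocalRing hMp.ne_top g t)

end setting

end Cfsg.Agent.helper24
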