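import Mathlib
import Cfsg.Agent.Lib_helper24_FongRey4

/-!
Fong–Reynolds (helper24), part 5: the block correspondence.
-/

set_option autoImplicit false

namespace Cfsg.Agent.helper24

open Cfsg Cfsg.Agent.helper5
open scoped ComplexConjugate

universe u

section setting

variable {G : Type u} [Group G] [Fintype G] {M : Ideal AlgInt}
  (N T : Subgroup G) [hN : N.Normal] [Fintype N] [Fintype T]
  (b : Set (IrrCharacter N))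

/-- Fong–Reynolds: a block of `T` covering `b` induces the set of induced characters -/
theorem fr_main (p : ℕ) [Fact p.Prime] (hM : IsPModular p M) (hNT : N ≤ T) (hb : IsPBlock M b)
    (hT : ∀ g : G, g ∈ T ↔ ∀ θ ∈ b, ∀ θ' : IrrCharacter N,
      (∀ n : N, (θ' : N → ℂ) n = (θ : N → ℂ) ⟨g * n * g⁻¹, hN.conj_mem n n.2 g⟩) → θ' ∈ b)
    (B' : Set (IrrCharacter T)) (hB' : IsPBlock M B')
    (hcov : ∃ ψ ∈ B', ∃ θ ∈ b, classInner (resNT N T hNT (ψ : T → ℂ)) (θ : N → ℂ) ≠ 0) :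
    IsInducedBlock M T B' {χ : IrrCharacter G | ∃ ψ ∈ B', (χ : G → ℂ) = indFun T (ψ : T → ℂ)} ∧
    (∀ ψ ∈ B', ∃ θ ∈ b, classInner (resNT N T hNT (ψ : T → ℂ)) (θ : N → ℂ) ≠ 0) ∧
    (∀ ψ ∈ B', IsIrrCharacter G (indFun T (ψ : T → ℂ))) ∧
    (∃ χ ∈ {χ : IrrCharacter G | ∃ ψ ∈ B', (χ : G → ℂ) = indFun T (ψ : T → ℂ)},
      ∃ θ ∈ b, classInner (fun n : N => (χ : G → ℂ) n) (θ : N → ℂ) ≠ 0) := by
  classical
  have hMp : M.IsPrime := hM.2.1.isPrime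
  obtain ⟨ψ₀, hψ₀, hcov₀⟩ := hcov
  have hs : ∀ ψ ∈ B', SameBlock M (ψ₀ : T → ℂ) (ψ : T → ℂ) := by
    intro ψ hψ
    rw [← blockOf_eq_of_mem hB' hψ₀] at hψ
    exact hψ
  have hallcov : ∀ ψ ∈ B', ∃ θ ∈ b,
      classInner (resNT N T hNT (ψ : T → ℂ)) (θ : N → ℂ) ≠ 0 :=
    fun ψ hψ => fr_cover_of_sameBlock N T b hNT hb hT (hs ψ hψ) hcov₀
  have hirr : ∀ ψ ∈ B', IsIrrCharacter G (indFun T (ψ : T → ℂ)) :=
    fun ψ hψ => fr_irr N T b hNT hb hT ψ.2 (hallcov ψ hψ)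
  obtain ⟨χ₀, hχ₀⟩ : ∃ χ₀ : IrrCharacter G, (χ₀ : G → ℂ) = indFun T (ψ₀ : T → ℂ) :=
    ⟨⟨_, hirr ψ₀ hψ₀⟩, rfl⟩
  have hlocal : ∀ g, MemLocalRing M
      (blockCoeff {χ : IrrCharacter G | ∃ ψ ∈ B', (χ : G → ℂ) = indFun T (ψ : T → ℂ)} g) := by
    intro g
    rw [fr_blockCoeff_ind N T b hNT hb hT B' hallcov]
    exact fr_indFun_memLocalRing T (blockCoeff_isClassFunction B')
      (blockCoeff_memLocalRing_of_isPBlock hB') g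
  have hS_eq : {χ : IrrCharacter G | ∃ ψ ∈ B', (χ : G → ℂ) = indFun T (ψ : T → ℂ)}
      = blockOf M (χ₀ : G → ℂ) := by
    apply Set.Subset.antisymm
    · rintro χ ⟨ψ, hψ, hχ⟩
      show SameBlock M (χ₀ : G → ℂ) (χ : G → ℂ)
      rw [hχ, hχ₀]
      exact fr_sameBlock_ind T (hs ψ hψ)
    · exact block_subset_of_local p M hM _ hlocal χ₀ ⟨ψ₀, hψ₀, hχ₀⟩
  refine ⟨⟨hB', ⟨χ₀, hS_eq⟩, ?_⟩, hallcov, hirr, ?_⟩
  · rintro ξ hξ χ ⟨ψ, hψ, hχ⟩ g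
    rw [hχ, fr_centralChar_ind T (irr_apply_one_ne_zero ψ.2), inducedCentralChar_eq_omegaFn,
      inducedCentralChar_eq_omegaFn]
    exact omegaFn_sub_memLocalIdeal (sameBlock_trans (sameBlock_symm (hs ξ hξ)) (hs ψ hψ))
      (restrict_isClassFunction T (classInd_isClassFunction g))
      (fun t => classInd_memLocalRing hMp.ne_top g t)
  · refine ⟨χ₀, ⟨ψ₀, hψ₀, hχ₀⟩, ?_⟩
    have hk := fr_key N T hNT (blockCoeff b) (fr_hT1 N T b hb hT) (fr_hT2 N T b hb hT) ψ₀.2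
      (fr_omega_of_cover N T b hNT hT ψ₀.2 hcov₀) 1
    simp only [Subgroup.coe_one, one_mul] at hk
    have h1 : ∑ n : N, blockCoeff b n * (fun n : N => (χ₀ : G → ℂ) n) n ≠ 0 := by
      show ∑ n : N, blockCoeff b n * (χ₀ : G → ℂ) n ≠ 0
      rw [hχ₀, hk]
      exact irr_apply_one_ne_zero ψ₀.2
    exact (fr_mass b (Cfsg.Agent.helper12.isCharacter_restrict N (irr_isCharacter χ₀.2))).1 h1

/-- Fong–Reynolds: the block induced by a block of `T` covering `b` -/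
theorem fr_induced_eq (p : ℕ) [Fact p.Prime] (hM : IsPModular p M) (hNT : N ≤ T)
    (hb : IsPBlock M b)
    (hT : ∀ g : G, g ∈ T ↔ ∀ θ ∈ b, ∀ θ' : IrrCharacter N,
      (∀ n : N, (θ' : N → ℂ) n = (θ : N → ℂ) ⟨g * n * g⁻¹, hN.conj_mem n n.2 g⟩) → θ' ∈ b)
    (B' : Set (IrrCharacter T)) (hB' : IsPBlock M B')
    (hcov : ∃ ψ ∈ B', ∃ θ ∈ b, classInner (resNT N T hNT (ψ : T → ℂ)) (θ : N → ℂ) ≠ 0)
    (B : Set (IrrCharacter G)) (hind : IsInducedBlock M T B' B) :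
    B = {χ : IrrCharacter G | ∃ ψ ∈ B', (χ : G → ℂ) = indFun T (ψ : T → ℂ)} := by
  have hMp : M.IsPrime := hM.2.1.isPrime
  exact induced_block_unique T hind (fr_main N T b p hM hNT hb hT B' hB' hcov).1

/-- Fong–Reynolds: injectivity on blocks -/
theorem fr_block_inj (p : ℕ) [Fact p.Prime] (hM : IsPModular p M) (hNT : N ≤ T)
    (hb : IsPBlock M b)
    (hT : ∀ g : G, g ∈ T ↔ ∀ θ ∈ b, ∀ θ' : IrrCharacter N,
      (∀ n : N, (θ' : N → ℂ) n = (θ : N → ℂ) ⟨g * n * g⁻¹, hN.conj_mem n n.2 g⟩) → θ' ∈ b)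
    (B'₁ B'₂ : Set (IrrCharacter T)) (hB'₁ : IsPBlock M B'₁) (hB'₂ : IsPBlock M B'₂)
    (hcov₁ : ∃ ψ ∈ B'₁, ∃ θ ∈ b, classInner (resNT N T hNT (ψ : T → ℂ)) (θ : N → ℂ) ≠ 0)
    (hcov₂ : ∃ ψ ∈ B'₂, ∃ θ ∈ b, classInner (resNT N T hNT (ψ : T → ℂ)) (θ : N → ℂ) ≠ 0)
    (B : Set (IrrCharacter G)) (hind₁ : IsInducedBlock M T B'₁ B)
    (hind₂ : IsInducedBlock M T B'₂ B) : B'₁ = B'₂ := by
  have hMp : M.IsPrime := hM.2.1.isPrime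
  have e1 := fr_induced_eq N T b p hM hNT hb hT B'₁ hB'₁ hcov₁ B hind₁
  have e2 := fr_induced_eq N T b p hM hNT hb hT B'₂ hB'₂ hcov₂ B hind₂
  have m1 := fr_main N T b p hM hNT hb hT B'₁ hB'₁ hcov₁
  have m2 := fr_main N T b p hM hNT hb hT B'₂ hB'₂ hcov₂
  obtain ⟨ψ₁, hψ₁⟩ := isPBlock_nonempty hB'₁
  have h1 : (⟨_, m1.2.2.1 ψ₁ hψ₁⟩ : IrrCharacter G) ∈ B := by
    rw [e1]
    exact ⟨ψ₁, hψ₁, rfl⟩
  rw [e2] at h1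
  obtain ⟨ψ₂, hψ₂, heq⟩ := h1
  have h2 : (ψ₁ : T → ℂ) = (ψ₂ : T → ℂ) :=
    fr_inj N T b hNT hb hT ψ₁.2 ψ₂.2 (m1.2.1 ψ₁ hψ₁) (m2.2.1 ψ₂ hψ₂) heq
  have h3 : ψ₁ = ψ₂ := Subtype.ext h2
  rw [← h3] at hψ₂
  exact isPBlock_eq_of_mem hB'₁ hB'₂ hψ₁ hψ₂

/-- Fong–Reynolds: surjectivity on blocks -/
theorem fr_block_surj (p : ℕ) [Fact p.Prime] (hM : IsPModular p M) (hNT : N ≤ T)
    (hb : IsPBlock M b)
    (hT : ∀ g : G, g ∈ T ↔ ∀ θ ∈ b, ∀ θ' : IrrCharacter N,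
      (∀ n : N, (θ' : N → ℂ) n = (θ : N → ℂ) ⟨g * n * g⁻¹, hN.conj_mem n n.2 g⟩) → θ' ∈ b)
    (B : Set (IrrCharacter G)) (hB : IsPBlock M B)
    (hcov : ∃ χ ∈ B, ∃ θ ∈ b, classInner (fun n : N => (χ : G → ℂ) n) (θ : N → ℂ) ≠ 0) :
    ∃ B' : Set (IrrCharacter T), IsPBlock M B' ∧
      (∃ ψ ∈ B', ∃ θ ∈ b, classInner (resNT N T hNT (ψ : T → ℂ)) (θ : N → ℂ) ≠ 0) ∧
      IsInducedBlock M T B' B := by
  have hMp : M.IsPrime := hM.2.1.isPrime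
  obtain ⟨χ, hχ, hc⟩ := hcov
  obtain ⟨φ, hφcov, hχφ⟩ := fr_exists_ind N T b hNT hb hT χ.2 hc
  have hφmem : φ ∈ blockOf M (φ : T → ℂ) := sameBlock_refl M hMp.ne_top _
  have hcov' : ∃ ψ ∈ blockOf M (φ : T → ℂ), ∃ θ ∈ b,
      classInner (resNT N T hNT (ψ : T → ℂ)) (θ : N → ℂ) ≠ 0 := ⟨φ, hφmem, hφcov⟩
  have m := fr_main N T b p hM hNT hb hT (blockOf M (φ : T → ℂ)) ⟨φ, rfl⟩ hcov'
  refine ⟨blockOf M (φ : T → ℂ), ⟨φ, rfl⟩, hcov', ?_⟩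
  have heq : {χ : IrrCharacter G | ∃ ψ ∈ blockOf M (φ : T → ℂ),
      (χ : G → ℂ) = indFun T (ψ : T → ℂ)} = B :=
    isPBlock_eq_of_mem m.1.2.1 hB ⟨φ, hφmem, hχφ⟩ hχ
  rw [← heq]
  exact m.1

end setting

end Cfsg.Agent.helper24
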