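import Mathlib
import Cfsg.Agent.Lib_helper24_FongRey5

/-!
Fong–Reynolds (helper24), part 6: defect groups and heights.
-/

set_option autoImplicit false

namespace Cfsg.Agent.helper24

open Cfsg Cfsg.Agent.helper5
open scoped ComplexConjugate

universe u

theorem fr_sInf_shift (c : ℕ) (X : Set ℕ) (hX : X.Nonempty) :
    sInf ((fun k => c + k) '' X) = c + sInf X := by
  apply le_antisymm
  · apply Nat.sInf_le
    exact ⟨sInf X, Nat.sInf_mem hX, rfl⟩
  · have hne : ((fun k => c + k) '' X).Nonempty := hX.image _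
    obtain ⟨k, hk, hk'⟩ := Nat.sInf_mem hne
    rw [← hk']
    exact Nat.add_le_add_left (Nat.sInf_le hk) c

section setting

variable {G : Type u} [Group G] [Fintype G] {M : Ideal AlgInt}
  (N T : Subgroup G) [hN : N.Normal] [Fintype N] [Fintype T]
  (b : Set (IrrCharacter N))

omit hN [Fintype N] in
theorem fr_charDegree_ind {ψ : T → ℂ} (hψ : IsIrrCharacter T ψ) :
    charDegree (indFun T ψ) = T.index * charDegree ψ := by
  obtain ⟨d, _, hd⟩ := irr_apply_one hψ
  rw [charDegree_natCast ψ d hd]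
  apply charDegree_natCast
  rw [Cfsg.Agent.helper8.indFun_one_eq, hd]
  have h1 : (Nat.card T : ℂ) * (T.index : ℂ) = (Nat.card G : ℂ) := by
    exact_mod_cast T.card_mul_index
  have hT0 : (Nat.card T : ℂ) ≠ 0 := by exact_mod_cast (Nat.card_pos (α := T)).ne'
  rw [← h1]
  push_cast
  field_simp

omit hN [Fintype N] in
theorem fr_image_degrees (p : ℕ) (B' : Set (IrrCharacter T))
    (hirr : ∀ ψ ∈ B', IsIrrCharacter G (indFun T (ψ : T → ℂ))) :
    (fun χ : IrrCharacter G => (charDegree (χ : G → ℂ)).factorization p) ''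
        {χ : IrrCharacter G | ∃ ψ ∈ B', (χ : G → ℂ) = indFun T (ψ : T → ℂ)}
      = (fun k => (T.index).factorization p + k) ''
        ((fun ψ : IrrCharacter T => (charDegree (ψ : T → ℂ)).factorization p) '' B') := by
  have hidx : T.index ≠ 0 := Subgroup.index_ne_zero_of_finite
  have key : ∀ ψ : IrrCharacter T,
      (charDegree (indFun T (ψ : T → ℂ))).factorization p
        = (T.index).factorization p + (charDegree (ψ : T → ℂ)).factorization p := by
    intro ψ
    rw [fr_charDegree_ind T ψ.2, Nat.factorization_mul hidx (irr_charDegree_pos ψ.2).ne']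
    rfl
  ext k
  constructor
  · rintro ⟨χ, ⟨ψ, hψ, hχ⟩, rfl⟩
    refine ⟨_, ⟨ψ, hψ, rfl⟩, ?_⟩
    show _ = (charDegree (χ : G → ℂ)).factorization p
    rw [hχ, key ψ]
  · rintro ⟨_, ⟨ψ, hψ, rfl⟩, rfl⟩
    refine ⟨⟨_, hirr ψ hψ⟩, ⟨ψ, hψ, rfl⟩, ?_⟩
    show (charDegree (indFun T (ψ : T → ℂ))).factorization p = _
    rw [key ψ]

/-- Fong–Reynolds: defect groups and heights -/
theorem fr_defect_height (p : ℕ) [Fact p.Prime] (hM : IsPModular p M) (hNT : N ≤ T)
    (hb : IsPBlock M b)
    (hT : ∀ g : G, g ∈ T ↔ ∀ θ ∈ b, ∀ θ' : IrrCharacter N,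
      (∀ n : N, (θ' : N → ℂ) n = (θ : N → ℂ) ⟨g * n * g⁻¹, hN.conj_mem n n.2 g⟩) → θ' ∈ b)
    (B' : Set (IrrCharacter T)) (hB' : IsPBlock M B')
    (hcov : ∃ ψ ∈ B', ∃ θ ∈ b, classInner (resNT N T hNT (ψ : T → ℂ)) (θ : N → ℂ) ≠ 0)
    (B : Set (IrrCharacter G)) (hind : IsInducedBlock M T B' B) :
    (∀ D : Subgroup T, IsDefectGroup p M B' D → IsDefectGroup p M B (D.map T.subtype)) ∧
    ∀ ψ ∈ B', ∃ χ ∈ B, (χ : G → ℂ) = indFun T (ψ : T → ℂ) ∧
      blockHeight p B (χ : G → ℂ) = blockHeight p B' (ψ : T → ℂ) := by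
  have hMp : M.IsPrime := hM.2.1.isPrime
  have hBeq := fr_induced_eq N T b p hM hNT hb hT B' hB' hcov B hind
  have m := fr_main N T b p hM hNT hb hT B' hB' hcov
  have himg := fr_image_degrees T p B' m.2.2.1
  have hne : ((fun ψ : IrrCharacter T => (charDegree (ψ : T → ℂ)).factorization p) '' B').Nonempty := by
    obtain ⟨ψ, hψ⟩ := isPBlock_nonempty hB'
    exact ⟨_, ψ, hψ, rfl⟩
  have hinf : sInf ((fun χ : IrrCharacter G => (charDegree (χ : G → ℂ)).factorization p) '' B)
      = (T.index).factorization p +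
        sInf ((fun ψ : IrrCharacter T => (charDegree (ψ : T → ℂ)).factorization p) '' B') := by
    rw [hBeq, himg, fr_sInf_shift _ _ hne]
  have hidx : T.index ≠ 0 := Subgroup.index_ne_zero_of_finite
  have hcardG : (Nat.card G).factorization p
      = (Nat.card T).factorization p + (T.index).factorization p := by
    rw [← T.card_mul_index, Nat.factorization_mul (Nat.card_pos (α := T)).ne' hidx]
    rfl
  have hdef : blockDefect p B = blockDefect p B' := by
    unfold blockDefect
    rw [hinf, hcardG]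
    omega
  constructor
  · intro D hD
    obtain ⟨E, hE, hle⟩ := defectGroup_induced_le p M hM T B' B hind D hD
    have hcD := card_defectGroup p M hM B' hB' D hD
    have hcE := card_defectGroup p M hM B hind.2.1 E hE
    have hcmap : Nat.card (D.map T.subtype) = Nat.card D :=
      Subgroup.card_map_of_injective (Subgroup.subtype_injective _)
    have heq : D.map T.subtype = E := by
      apply Subgroup.eq_of_le_of_card_ge hle
      rw [hcmap, hcD, hcE, hdef]
    rw [heq]
    exact hE
  · intro ψ hψ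
    refine ⟨⟨_, m.2.2.1 ψ hψ⟩, ?_, rfl, ?_⟩
    · rw [hBeq]
      exact ⟨ψ, hψ, rfl⟩
    · unfold blockHeight
      rw [hinf]
      show (charDegree (indFun T (ψ : T → ℂ))).factorization p - _ = _
      rw [fr_charDegree_ind T ψ.2, Nat.factorization_mul hidx (irr_charDegree_pos ψ.2).ne']
      show (T.index).factorization p + (charDegree (ψ : T → ℂ)).factorization p - _ = _
      omega

end setting

end Cfsg.Agent.helper24
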