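import Mathlib
import Cfsg.Agent.Lib_helper24_FongRey6

/-!
Fong's theorem (helper24), part 1: generic lemmas on defect groups, the min-max theorem in
numerical form, decomposition of sums of block idempotents.
-/

set_option autoImplicit false

namespace Cfsg.Agent.helper24

open Cfsg Cfsg.Agent.helper5
open scoped ComplexConjugate

universe u

variable {G : Type u} [Group G] [Fintype G]

theorem card_centralizer_conj (x g : G) :
    Nat.card (Subgroup.centralizer ({x * g * x⁻¹} : Set G))
      = Nat.card (Subgroup.centralizer ({g} : Set G)) := by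
  have h1 := index_centralizer_mulEquiv (MulAut.conj x : G ≃* G) g
  have h2 := (Subgroup.centralizer ({x * g * x⁻¹} : Set G)).card_mul_index
  have h3 := (Subgroup.centralizer ({g} : Set G)).card_mul_index
  have e : (MulAut.conj x : G ≃* G) g = x * g * x⁻¹ := rfl
  rw [e] at h1
  rw [h1, ← h3] at h2
  have hidx : (Subgroup.centralizer ({g} : Set G)).index ≠ 0 := Subgroup.index_ne_zero_of_finite
  exact Nat.eq_of_mul_eq_mul_right (Nat.pos_of_ne_zero hidx) h2

/-- a conjugate of a defect group is a defect group -/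
theorem isDefectGroup_conj (p : ℕ) [Fact p.Prime] (M : Ideal AlgInt) (B : Set (IrrCharacter G))
    {D : Subgroup G} (hD : IsDefectGroup p M B D) (x : G) :
    IsDefectGroup p M B (D.map (MulAut.conj x).toMonoidHom) := by
  obtain ⟨g, hg, PS, rfl⟩ := hD
  refine ⟨x * g * x⁻¹, isDefectClass_conj hg x, ?_⟩
  obtain ⟨D', hD'⟩ : ∃ D' : Subgroup G, D' =
    ((PS : Subgroup (Subgroup.centralizer ({g} : Set G))).map
      (Subgroup.centralizer ({g} : Set G)).subtype).map (MulAut.conj x).toMonoidHom := ⟨_, rfl⟩
  have hle : D' ≤ Subgroup.centralizer ({x * g * x⁻¹} : Set G) := by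
    rw [hD']
    rintro _ ⟨_, ⟨y, -, rfl⟩, rfl⟩
    rw [Subgroup.mem_centralizer_singleton_iff]
    have hy := Subgroup.mem_centralizer_singleton_iff.1 y.2
    show x * (y : G) * x⁻¹ * (x * g * x⁻¹) = x * g * x⁻¹ * (x * (y : G) * x⁻¹)
    calc x * (y : G) * x⁻¹ * (x * g * x⁻¹) = x * ((y : G) * g) * x⁻¹ := by group
      _ = x * (g * (y : G)) * x⁻¹ := by rw [hy]
      _ = x * g * x⁻¹ * (x * (y : G) * x⁻¹) := by group
  have hcard : Nat.card (D'.subgroupOf (Subgroup.centralizer ({x * g * x⁻¹} : Set G)))
      = p ^ (Nat.card (Subgroup.centralizer ({x * g * x⁻¹} : Set G))).factorization p := by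
    rw [card_subgroupOf_of_le hle, hD',
      Subgroup.card_map_of_injective (MulAut.conj x).injective,
      Subgroup.card_map_of_injective (Subgroup.subtype_injective _), PS.card_eq_multiplicity,
      card_centralizer_conj]
  refine ⟨Sylow.ofCard _ hcard, ?_⟩
  rw [Sylow.coe_ofCard, Subgroup.subgroupOf_map_subtype, ← hD']
  exact (inf_eq_left.mpr hle).symm

/-- a defect class has centralizer of `p`-part the order of the defect group -/
theorem defectClass_card (p : ℕ) [Fact p.Prime] (M : Ideal AlgInt) (hM : IsPModular p M)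
    (B : Set (IrrCharacter G)) (hB : IsPBlock M B) (g : G) (hg : IsDefectClass M B g) :
    (Nat.card (Subgroup.centralizer ({g} : Set G))).factorization p = blockDefect p B := by
  have hp : p.Prime := Fact.out
  obtain ⟨D⟩ : Nonempty (Sylow p (Subgroup.centralizer ({g} : Set G))) := inferInstance
  have h1 := card_defectGroup p M hM B hB _ ⟨g, hg, D, rfl⟩
  rw [Subgroup.card_map_of_injective (Subgroup.subtype_injective _), D.card_eq_multiplicity] at h1
  exact Nat.pow_right_injective hp.two_le h1

/-- min-max theorem, numerical form of the first half -/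
theorem minmax_a_card (p : ℕ) [Fact p.Prime] (M : Ideal AlgInt) (hM : IsPModular p M)
    (B : Set (IrrCharacter G)) (hB : IsPBlock M B) (h : G)
    (hJ : ¬ MemLocalIdeal M (blockCoeff B h)) :
    (Nat.card (Subgroup.centralizer ({h} : Set G))).factorization p ≤ blockDefect p B := by
  have hp : p.Prime := Fact.out
  obtain ⟨g, hg⟩ := exists_defectClass p M hM B hB
  obtain ⟨D⟩ : Nonempty (Sylow p (Subgroup.centralizer ({g} : Set G))) := inferInstance
  obtain ⟨Q⟩ : Nonempty (Sylow p (Subgroup.centralizer ({h} : Set G))) := inferInstance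
  obtain ⟨x, hx⟩ := minmax_a p M hM B hB g hg D h hJ Q
  have h1 := Subgroup.card_le_of_le hx
  rw [Subgroup.card_map_of_injective (Subgroup.subtype_injective _), Q.card_eq_multiplicity,
    Subgroup.card_map_of_injective (MulAut.conj x).injective,
    Subgroup.card_map_of_injective (Subgroup.subtype_injective _), D.card_eq_multiplicity,
    defectClass_card p M hM B hB g hg] at h1
  exact (Nat.pow_le_pow_iff_right hp.one_lt).1 h1

/-- the order of `N C` for a normal subgroup `N` -/
theorem card_sup_of_normal (N C : Subgroup G) [N.Normal] :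
    Nat.card (N ⊔ C : Subgroup G) = Nat.card C * C.relIndex N := by
  have h1 : Nat.card N * N.relIndex (N ⊔ C) = Nat.card (N ⊔ C : Subgroup G) := by
    rw [← Subgroup.relIndex_bot_left, ← Subgroup.relIndex_bot_left,
      Subgroup.relIndex_mul_relIndex _ _ _ bot_le le_sup_left]
  have h2 : Nat.card (N ⊓ C : Subgroup G) * (N ⊓ C).relIndex C = Nat.card C := by
    rw [← Subgroup.relIndex_bot_left, ← Subgroup.relIndex_bot_left,
      Subgroup.relIndex_mul_relIndex _ _ _ bot_le inf_le_right]
  have h3 : Nat.card (N ⊓ C : Subgroup G) * (N ⊓ C).relIndex N = Nat.card N := by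
    rw [← Subgroup.relIndex_bot_left, ← Subgroup.relIndex_bot_left,
      Subgroup.relIndex_mul_relIndex _ _ _ bot_le inf_le_left]
  rw [Subgroup.relIndex_sup_left] at h1
  rw [Subgroup.inf_relIndex_right] at h2
  rw [Subgroup.inf_relIndex_left] at h3
  rw [← h1, ← h2, ← h3]
  ring


/-- if a sum of block idempotents has a unit coefficient, so does one of the blocks -/
theorem exists_block_coeff_of_union {M : Ideal AlgInt} [hMp : M.IsPrime]
    (A : Set (IrrCharacter G)) (hA : ∀ χ ∈ A, blockOf M (χ : G → ℂ) ⊆ A) (g : G)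
    (hg : ¬ MemLocalIdeal M (blockCoeff A g)) :
    ∃ χ ∈ A, ¬ MemLocalIdeal M (blockCoeff (blockOf M (χ : G → ℂ)) g) := by
  classical
  have := Fintype.ofFinite (IrrCharacter G)
  by_contra hcon
  push Not at hcon
  apply hg
  let R : Setoid (IrrCharacter G) := ⟨fun χ ψ => SameBlock M (χ : G → ℂ) (ψ : G → ℂ),
    ⟨fun χ => sameBlock_refl M hMp.ne_top _, fun h => sameBlock_symm h,
      fun h1 h2 => sameBlock_trans h1 h2⟩⟩
  rw [blockCoeff_eq_sum, Finset.sum_partition R, Finset.mul_sum]
  apply memLocalIdeal_sum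
  intro xbar hx
  rw [Finset.mem_image] at hx
  obtain ⟨χ, hχ, rfl⟩ := hx
  rw [Finset.mem_filter] at hχ
  have h1 := hcon χ hχ.2
  rw [blockCoeff_eq_sum] at h1
  convert h1 using 3
  ext ψ
  simp only [Finset.mem_filter, Finset.mem_univ, true_and]
  constructor
  · rintro ⟨hψA, hψ⟩
    have h2 : R.r ψ χ := Quotient.exact hψ
    exact sameBlock_symm h2
  · intro hψ
    refine ⟨hA χ hχ.2 hψ, Quotient.sound ?_⟩
    exact sameBlock_symm hψ

end Cfsg.Agent.helper24
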