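import Mathlib
import Cfsg.Agent.Lib_helper24_Fong1
import Cfsg.Agent.Lib_helper8_Cover

/-!
Fong's theorem (helper24), part 2: a `G`-invariant block `b` of a normal subgroup `N`; its
idempotent as a central element of `G`.
-/

set_option autoImplicit false

namespace Cfsg.Agent.helper24

open Cfsg Cfsg.Agent.helper5 Cfsg.Agent.helper8
open scoped ComplexConjugate

universe u

section setting

variable {G : Type u} [Group G] [Fintype G] {M : Ideal AlgInt} [hMp : M.IsPrime]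
  (N : Subgroup G) [hN : N.Normal] [Fintype N] (b : Set (IrrCharacter N))

include hMp in
theorem fg_coeff_inv (hb : IsPBlock M b)
    (hinv : ∀ g : G, ∀ θ ∈ b, ∀ θ' : IrrCharacter N,
      (∀ n : N, (θ' : N → ℂ) n = (θ : N → ℂ) ⟨g * n * g⁻¹, hN.conj_mem n n.2 g⟩) → θ' ∈ b)
    (x : G) (n : N) :
    blockCoeff b ⟨x * n * x⁻¹, hN.conj_mem n n.2 x⟩ = blockCoeff b n := by
  have := Fintype.ofFinite (⊤ : Subgroup G)
  have hT : ∀ g : G, g ∈ (⊤ : Subgroup G) ↔ ∀ θ ∈ b, ∀ θ' : IrrCharacter N,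
      (∀ n : N, (θ' : N → ℂ) n = (θ : N → ℂ) ⟨g * n * g⁻¹, hN.conj_mem n n.2 g⟩) → θ' ∈ b :=
    fun g => ⟨fun _ => hinv g, fun _ => Subgroup.mem_top g⟩
  exact fr_hT1 N ⊤ b hb hT x (Subgroup.mem_top x) n

include hMp in
theorem fg_E_isClassFunction (hb : IsPBlock M b)
    (hinv : ∀ g : G, ∀ θ ∈ b, ∀ θ' : IrrCharacter N,
      (∀ n : N, (θ' : N → ℂ) n = (θ : N → ℂ) ⟨g * n * g⁻¹, hN.conj_mem n n.2 g⟩) → θ' ∈ b) :
    IsClassFunction G (extendByZero N (blockCoeff b)) := by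
  intro g k
  by_cases hg : g ∈ N
  · rw [extendByZero_of_mem N _ _ (hN.conj_mem g hg k), extendByZero_of_mem N _ _ hg]
    exact fg_coeff_inv N b hb hinv k ⟨g, hg⟩
  · have h1 : k * g * k⁻¹ ∉ N := by
      intro h
      apply hg
      have h2 := hN.conj_mem _ h k⁻¹
      have h3 : k⁻¹ * (k * g * k⁻¹) * k⁻¹⁻¹ = g := by group
      rwa [h3] at h2
    rw [extendByZero_of_not_mem N _ _ h1, extendByZero_of_not_mem N _ _ hg]

include hMp in
theorem fg_E_memLocalRing (hb : IsPBlock M b) (g : G) :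
    MemLocalRing M (extendByZero N (blockCoeff b) g) := by
  by_cases hg : g ∈ N
  · rw [extendByZero_of_mem N _ _ hg]
    exact blockCoeff_memLocalRing_of_isPBlock hb _
  · rw [extendByZero_of_not_mem N _ _ hg]
    exact memLocalRing_zero hMp.ne_top

omit [Fintype G] [Fintype N] hN in
theorem fg_res_E (a : N → ℂ) : res N (extendByZero N a) = a := by
  funext n
  rw [res_apply, extendByZero_coe]

open Classical in
include hMp in
/-- the action of the idempotent of `b` on a character of `G` -/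
theorem fg_omega_E (hb : IsPBlock M b)
    (hinv : ∀ g : G, ∀ θ ∈ b, ∀ θ' : IrrCharacter N,
      (∀ n : N, (θ' : N → ℂ) n = (θ : N → ℂ) ⟨g * n * g⁻¹, hN.conj_mem n n.2 g⟩) → θ' ∈ b)
    {χ : G → ℂ} (hχ : IsIrrCharacter G χ) {θ : IrrCharacter N}
    (hunder : classInner (res N χ) (θ : N → ℂ) ≠ 0) :
    omegaFn χ (extendByZero N (blockCoeff b)) = if θ ∈ b then 1 else 0 := by
  rw [Cover.omegaFn_of_under N (fg_E_isClassFunction N b hb hinv)
    (fun g hg => extendByZero_of_not_mem N _ g hg) hχ θ.2 hunder, fg_res_E, omegaFn_blockCoeff]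

include hMp in
/-- every character in a block covering `b` is fixed by the idempotent of `b` -/
theorem fg_omega_of_sameBlock (hb : IsPBlock M b)
    (hinv : ∀ g : G, ∀ θ ∈ b, ∀ θ' : IrrCharacter N,
      (∀ n : N, (θ' : N → ℂ) n = (θ : N → ℂ) ⟨g * n * g⁻¹, hN.conj_mem n n.2 g⟩) → θ' ∈ b)
    {χ₁ χ₂ : IrrCharacter G} (hs : SameBlock M (χ₁ : G → ℂ) (χ₂ : G → ℂ))
    (hcov : ∃ θ ∈ b, classInner (fun n : N => (χ₁ : G → ℂ) n) (θ : N → ℂ) ≠ 0) :
    omegaFn (χ₂ : G → ℂ) (extendByZero N (blockCoeff b)) = 1 := by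
  classical
  obtain ⟨θ₁, hθ₁, hc₁⟩ := hcov
  have h1 := fg_omega_E N b hb hinv χ₁.2 (θ := θ₁) hc₁
  rw [if_pos hθ₁] at h1
  obtain ⟨θ₂, hc₂⟩ := Cover.exists_under N χ₂.2
  have h2 := fg_omega_E N b hb hinv χ₂.2 hc₂
  have h3 := omegaFn_sub_memLocalIdeal (M := M) hs (fg_E_isClassFunction N b hb hinv)
    (fg_E_memLocalRing N b hb)
  by_cases hθ₂ : θ₂ ∈ b
  · rw [h2, if_pos hθ₂]
  · rw [h1, h2, if_neg hθ₂, sub_zero] at h3
    exact absurd h3 not_memLocalIdeal_one

include hMp in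
/-- a block covering `b` is fixed by the idempotent of `b` -/
theorem fg_cconv (hb : IsPBlock M b)
    (hinv : ∀ g : G, ∀ θ ∈ b, ∀ θ' : IrrCharacter N,
      (∀ n : N, (θ' : N → ℂ) n = (θ : N → ℂ) ⟨g * n * g⁻¹, hN.conj_mem n n.2 g⟩) → θ' ∈ b)
    (B : Set (IrrCharacter G)) (hB : IsPBlock M B)
    (hcov : ∃ χ ∈ B, ∃ θ ∈ b, classInner (fun n : N => (χ : G → ℂ) n) (θ : N → ℂ) ≠ 0) :
    cconv (blockCoeff B) (extendByZero N (blockCoeff b)) = blockCoeff B := by
  classical
  have hEcl := fg_E_isClassFunction N b hb hinv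
  apply classFunction_ext_omega (cconv_isClassFunction (blockCoeff_isClassFunction B) hEcl)
    (blockCoeff_isClassFunction B)
  intro χ
  rw [omegaFn_cconv χ.2 _ hEcl, omegaFn_blockCoeff]
  by_cases hχ : χ ∈ B
  · obtain ⟨χ₁, hχ₁, hc⟩ := hcov
    have hs : SameBlock M (χ₁ : G → ℂ) (χ : G → ℂ) := by
      rw [← blockOf_eq_of_mem hB hχ₁] at hχ
      exact hχ
    rw [if_pos hχ, fg_omega_of_sameBlock N b hb hinv hs hc, one_mul]
  · rw [if_neg hχ, zero_mul]


omit [Fintype G] [Fintype N] hN in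
theorem centralizer_singleton_subgroupOf (g : N) :
    Subgroup.centralizer ({g} : Set N)
      = (Subgroup.centralizer ({(g : G)} : Set G)).subgroupOf N := by
  ext x
  rw [Subgroup.mem_subgroupOf, Subgroup.mem_centralizer_singleton_iff,
    Subgroup.mem_centralizer_singleton_iff]
  constructor
  · intro h
    exact congrArg Subtype.val h
  · intro h
    exact Subtype.ext h

include hMp in
/-- the central character of `χ` at an element of `N` is congruent to the central character of a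
constituent `θ ∈ b` of `χ_N` times the number of `N`-classes in the `G`-class -/
theorem fg_centralChar_cong (hb : IsPBlock M b)
    (hinv : ∀ g : G, ∀ θ ∈ b, ∀ θ' : IrrCharacter N,
      (∀ n : N, (θ' : N → ℂ) n = (θ : N → ℂ) ⟨g * n * g⁻¹, hN.conj_mem n n.2 g⟩) → θ' ∈ b)
    {χ : G → ℂ} (hχ : IsIrrCharacter G χ) {θ : IrrCharacter N} (hθ : θ ∈ b)
    (hunder : classInner (res N χ) (θ : N → ℂ) ≠ 0) (g : N) :
    MemLocalIdeal M (centralChar χ (g : G) -
      ((N ⊔ Subgroup.centralizer ({(g : G)} : Set G)).index : ℂ) *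
        centralChar (θ : N → ℂ) g) := by
  classical
  obtain ⟨C, hC⟩ : ∃ C : Subgroup G, C = Subgroup.centralizer ({(g : G)} : Set G) := ⟨_, rfl⟩
  obtain ⟨T, hT⟩ : ∃ T : Subgroup G, T = N ⊔ C := ⟨_, rfl⟩
  have := Fintype.ofFinite T
  have := Fintype.ofFinite (G ⧸ T)
  rw [← hC, ← hT]
  have hC0 : (Nat.card C : ℂ) ≠ 0 := by exact_mod_cast (Nat.card_pos (α := C)).ne'
  have hθ1 : (θ : N → ℂ) 1 ≠ 0 := irr_apply_one_ne_zero θ.2
  have hU0 : ∀ y : G, y ∉ N → classInd (g : G) y = 0 := by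
    intro y hy
    unfold classInd
    rw [if_neg]
    intro hc
    obtain ⟨t, rfl⟩ := isConj_iff.1 hc
    exact hy (hN.conj_mem _ g.2 t)
  have h1 : centralChar χ (g : G) = omegaFn (θ : N → ℂ) (res N (classInd (g : G))) := by
    rw [← omegaFn_classInd (irr_isCharacter hχ)]
    exact Cover.omegaFn_of_under N (classInd_isClassFunction _) hU0 hχ θ.2 hunder
  have h2 : ∑ h : N, res N (classInd (g : G)) h * (θ : N → ℂ) h
      = (Nat.card C : ℂ)⁻¹ * ∑ x : G, extendByZero N (θ : N → ℂ) (x⁻¹ * (g : G) * x) := by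
    rw [sum_conj_eq (g : G) (extendByZero N (θ : N → ℂ)), ← hC, ← mul_assoc, inv_mul_cancel₀ hC0,
      one_mul, sum_extendByZero N (θ : N → ℂ) (IsConj (g : G))]
    refine Finset.sum_congr rfl (fun h _ => ?_)
    unfold classInd
    rw [res_apply]
    split_ifs <;> simp
  have hF' : ∀ x : G, ∀ t ∈ T, extendByZero N (θ : N → ℂ) ((x * t) * (g : G) * (x * t)⁻¹)
      = extendByZero N (θ : N → ℂ) (x * (g : G) * x⁻¹) := by
    intro x t ht
    have ht' : t ∈ ((N ⊔ C : Subgroup G) : Set G) := by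
      rw [hT] at ht
      exact ht
    rw [Subgroup.normal_mul] at ht'
    obtain ⟨n, hn, c, hc, rfl⟩ := Set.mem_mul.1 ht'
    have hcg : c * (g : G) * c⁻¹ = (g : G) := by
      rw [hC] at hc
      have := Subgroup.mem_centralizer_singleton_iff.1 hc
      rw [this, mul_inv_cancel_right]
    have e1 : (x * (n * c)) * (g : G) * (x * (n * c))⁻¹
        = x * (n * (c * (g : G) * c⁻¹) * n⁻¹) * x⁻¹ := by group
    rw [e1, hcg]
    have e2 : x * (n * (g : G) * n⁻¹) * x⁻¹
        = ((⟨x * ((⟨n, hn⟩ * g * (⟨n, hn⟩ : N)⁻¹ : N) : G) * x⁻¹,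
            hN.conj_mem _ (⟨n, hn⟩ * g * (⟨n, hn⟩ : N)⁻¹ : N).2 x⟩ : N) : G) := by
      simp
    rw [e2, extendByZero_coe, ← conjFunN_apply N x (θ : N → ℂ),
      char_isClassFunction (irr_isCharacter (isIrrCharacter_conjFunN N x θ.2)) g ⟨n, hn⟩,
      conjFunN_apply, extendByZero_of_mem N _ _ (hN.conj_mem _ g.2 x)]
  have h3 : ∑ x : G, extendByZero N (θ : N → ℂ) (x⁻¹ * (g : G) * x)
      = (Nat.card T : ℂ) * ∑ q : G ⧸ T, conjFunN N q.out (θ : N → ℂ) g := by
    rw [← Equiv.sum_comp (Equiv.inv G)]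
    simp only [Equiv.inv_apply, inv_inv]
    rw [fr_sum_cosets T (fun x => extendByZero N (θ : N → ℂ) (x * (g : G) * x⁻¹)) hF']
    congr 1
    refine Finset.sum_congr rfl (fun q _ => ?_)
    rw [conjFunN_apply, extendByZero_of_mem N _ _ (hN.conj_mem _ g.2 q.out)]
  have hidx : (Subgroup.centralizer ({g} : Set N)).index = C.relIndex N := by
    rw [centralizer_singleton_subgroupOf N g, ← hC]
    rfl
  have hidx0 : ((Subgroup.centralizer ({g} : Set N)).index : ℂ) ≠ 0 := by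
    have : (Subgroup.centralizer ({g} : Set N)).index ≠ 0 := Subgroup.index_ne_zero_of_finite
    exact_mod_cast this
  have hcardT : (Nat.card T : ℂ)
      = (Nat.card C : ℂ) * ((Subgroup.centralizer ({g} : Set N)).index : ℂ) := by
    rw [hidx, hT]
    exact_mod_cast card_sup_of_normal N C
  have h4 : ∀ q : G ⧸ T, conjFunN N q.out (θ : N → ℂ) g
      = centralChar (conjFunN N q.out (θ : N → ℂ)) g * (θ : N → ℂ) 1 /
        ((Subgroup.centralizer ({g} : Set N)).index : ℂ) := by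
    intro q
    unfold centralChar
    have e1 : conjFunN N q.out (θ : N → ℂ) 1 = (θ : N → ℂ) 1 := by
      rw [conjFunN_apply]
      refine congrArg (θ : N → ℂ) (Subtype.ext ?_)
      simp
    rw [e1]
    field_simp
  have h5 : centralChar χ (g : G)
      = ∑ q : G ⧸ T, centralChar (conjFunN N q.out (θ : N → ℂ)) g := by
    rw [h1]
    unfold omegaFn
    rw [h2, h3, hcardT, Finset.sum_congr rfl (fun q _ => h4 q), ← Finset.sum_div,
      ← Finset.sum_mul]
    field_simp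
  have hcardq : (Fintype.card (G ⧸ T) : ℂ) = (T.index : ℂ) := by
    rw [Subgroup.index_eq_card, Nat.card_eq_fintype_card]
  rw [h5, ← hcardq, ← nsmul_eq_mul, ← Finset.card_univ, ← Finset.sum_const,
    ← Finset.sum_sub_distrib]
  apply memLocalIdeal_sum
  intro q _
  have hmem : (⟨conjFunN N q.out (θ : N → ℂ), isIrrCharacter_conjFunN N q.out θ.2⟩ :
      IrrCharacter N) ∈ b := hinv q.out θ hθ _ (fun n => rfl)
  rw [← blockOf_eq_of_mem hb hθ] at hmem
  have hs : SameBlock M (θ : N → ℂ) (conjFunN N q.out (θ : N → ℂ)) := hmem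
  have := memLocalIdeal_neg (hs g)
  rwa [neg_sub] at this

end setting

end Cfsg.Agent.helper24
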