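import Mathlib
import Cfsg.Agent.Lib_helper24_Fong2

/-!
Fong's theorem (helper24), part 3: defect groups of blocks covering a `G`-invariant block.
-/

set_option autoImplicit false

namespace Cfsg.Agent.helper24

open Cfsg Cfsg.Agent.helper5 Cfsg.Agent.helper8
open scoped ComplexConjugate

universe u

theorem natCast_memLocalIdeal_of_dvd {p : ℕ} {M : Ideal AlgInt} (hM : IsPModular p M) {n : ℕ}
    (hn : p ∣ n) : MemLocalIdeal M (n : ℂ) := by
  have hMp : M.IsPrime := hM.2.1.isPrime
  obtain ⟨k, rfl⟩ := hn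
  have h1 := prime_memLocalIdeal hM
  have h2 : MemLocalRing M (k : ℂ) :=
    memLocalRing_of_integral hMp.ne_top (isIntegral_natCast_complex k)
  have := memLocalIdeal_mul_left h2 h1
  rw [mul_comm] at this
  exact_mod_cast this

section setting

variable {G : Type u} [Group G] [Fintype G] {M : Ideal AlgInt}
  (N : Subgroup G) [hN : N.Normal] [Fintype N] (b : Set (IrrCharacter N))

/-- for a block `B` covering the invariant block `b`, the intersection of a defect group of `B`
with `N` is conjugate in `N` into a defect group of `b` -/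
theorem fg_inf_le (p : ℕ) [Fact p.Prime] (hM : IsPModular p M) (hb : IsPBlock M b)
    (hinv : ∀ g : G, ∀ θ ∈ b, ∀ θ' : IrrCharacter N,
      (∀ n : N, (θ' : N → ℂ) n = (θ : N → ℂ) ⟨g * n * g⁻¹, hN.conj_mem n n.2 g⟩) → θ' ∈ b)
    (B : Set (IrrCharacter G)) (hB : IsPBlock M B)
    (hcov : ∃ χ ∈ B, ∃ θ ∈ b, classInner (fun n : N => (χ : G → ℂ) n) (θ : N → ℂ) ≠ 0)
    (P : Subgroup G) (hP : IsDefectGroup p M B P)
    (D : Subgroup N) (hD : IsDefectGroup p M b D) :
    ∃ x : N, ((P ⊓ N).subgroupOf N).map (MulAut.conj x).toMonoidHom ≤ D := by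
  classical
  have hMp : M.IsPrime := hM.2.1.isPrime
  obtain ⟨Q, hQdef⟩ : ∃ Q : Subgroup G, Q = P ⊓ N := ⟨_, rfl⟩
  rw [← hQdef]
  have hQ : IsPGroup p Q := by
    rw [hQdef]
    exact (defectGroup_isPGroup p M B P hP).to_le inf_le_left
  have hQ' : IsPGroup p (Q.subgroupOf N) := hQ.comap_subtype
  have h1 := (brauer_nonzero_iff p M hM B hB P hP Q hQ).2 ⟨1, by
    rintro _ ⟨s, hs, rfl⟩
    rw [hQdef] at hs
    simpa using hs.1⟩
  obtain ⟨g, hgR, hgJ, c, hgc, hcQ⟩ := h1
  obtain ⟨t, rfl⟩ := isConj_iff.1 hgc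
  have hcJ : ¬ MemLocalIdeal M (blockCoeff B (t * g * t⁻¹)) := by
    rw [blockCoeff_isClassFunction B g t]
    exact hgJ
  have := Fintype.ofFinite (⊤ : Subgroup G)
  have key := brRes_cconv_sub hM (P := Q) (H := ⊤) hQ le_top (blockCoeff_isClassFunction B)
    (blockCoeff_memLocalRing_of_isPBlock hB) (fg_E_isClassFunction N b hb hinv)
    (fg_E_memLocalRing N b hb) ⟨t * g * t⁻¹, Subgroup.mem_top _⟩
  rw [fg_cconv N b hb hinv B hB hcov] at key
  have e1 : brRes Q ⊤ (blockCoeff B) ⟨t * g * t⁻¹, Subgroup.mem_top _⟩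
      = blockCoeff B (t * g * t⁻¹) := by
    unfold brRes
    rw [if_pos hcQ]
  by_contra hcon
  push Not at hcon
  have hall : ∀ z : (⊤ : Subgroup G),
      MemLocalIdeal M (brRes Q ⊤ (extendByZero N (blockCoeff b)) z) := by
    intro z
    by_contra hz
    unfold brRes at hz
    by_cases hzQ : (z : G) ∈ Subgroup.centralizer (Q : Set G)
    · rw [if_pos hzQ] at hz
      by_cases hzN : (z : G) ∈ N
      · rw [extendByZero_of_mem N _ _ hzN] at hz
        have h2 := (brauer_nonzero_iff p M hM b hb D hD (Q.subgroupOf N) hQ').1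
          ⟨⟨(z : G), hzN⟩, blockCoeff_memLocalRing_of_isPBlock hb _, hz, ⟨(z : G), hzN⟩,
            IsConj.refl _, by
              rw [Subgroup.mem_centralizer_iff]
              intro q hq
              apply Subtype.ext
              exact (Subgroup.mem_centralizer_iff.1 hzQ) (q : G) (Subgroup.mem_subgroupOf.1 hq)⟩
        obtain ⟨x, hx⟩ := h2
        exact hcon x hx
      · rw [extendByZero_of_not_mem N _ _ hzN] at hz
        exact hz (memLocalIdeal_zero hMp.ne_top)
    · rw [if_neg hzQ] at hz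
      exact hz (memLocalIdeal_zero hMp.ne_top)
  have hconv : MemLocalIdeal M (cconv (brRes Q ⊤ (blockCoeff B))
      (brRes Q ⊤ (extendByZero N (blockCoeff b))) ⟨t * g * t⁻¹, Subgroup.mem_top _⟩) := by
    unfold cconv
    apply memLocalIdeal_sum
    intro x _
    apply memLocalIdeal_mul_left _ (hall _)
    unfold brRes
    split_ifs
    · exact blockCoeff_memLocalRing_of_isPBlock hB _
    · exact memLocalRing_zero hMp.ne_top
  have h3 := memLocalIdeal_add key hconv
  rw [sub_add_cancel, e1] at h3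
  exact hcJ h3


/-- numerical data of a defect group of a block covering the invariant block `b` -/
theorem fg_card_data (p : ℕ) [Fact p.Prime] (hM : IsPModular p M) (hb : IsPBlock M b)
    (hinv : ∀ g : G, ∀ θ ∈ b, ∀ θ' : IrrCharacter N,
      (∀ n : N, (θ' : N → ℂ) n = (θ : N → ℂ) ⟨g * n * g⁻¹, hN.conj_mem n n.2 g⟩) → θ' ∈ b)
    (B : Set (IrrCharacter G)) (hB : IsPBlock M B)
    (hcov : ∃ χ ∈ B, ∃ θ ∈ b, classInner (fun n : N => (χ : G → ℂ) n) (θ : N → ℂ) ≠ 0)
    (P : Subgroup G) (hP : IsDefectGroup p M B P) :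
    ∃ i j : ℕ, Nat.card (P ⊓ N : Subgroup G) = p ^ i ∧ N.relIndex P = p ^ j ∧
      i + j = blockDefect p B ∧ i ≤ blockDefect p b ∧ j ≤ N.index.factorization p := by
  have hp : p.Prime := Fact.out
  obtain ⟨D, hD⟩ := exists_defectGroup p M hM b hb
  obtain ⟨x, hx⟩ := fg_inf_le N b p hM hb hinv B hB hcov P hP D hD
  have hcP := card_defectGroup p M hM B hB P hP
  have hcD := card_defectGroup p M hM b hb D hD
  have h1 := Subgroup.card_le_of_le hx
  rw [Subgroup.card_map_of_injective (MulAut.conj x).injective,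
    card_subgroupOf_of_le inf_le_right, hcD] at h1
  have h2 : Nat.card (P ⊓ N : Subgroup G) * N.relIndex P = Nat.card P := by
    rw [← Subgroup.inf_relIndex_left P N, ← Subgroup.relIndex_bot_left,
      ← Subgroup.relIndex_bot_left, Subgroup.relIndex_mul_relIndex _ _ _ bot_le inf_le_left]
  rw [hcP] at h2
  have h3 : Nat.card (P ⊓ N : Subgroup G) ∣ p ^ blockDefect p B := Dvd.intro _ h2
  have h4 : N.relIndex P ∣ p ^ blockDefect p B := Dvd.intro_left _ h2
  obtain ⟨i, hi, hi'⟩ := (Nat.dvd_prime_pow hp).1 h3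
  obtain ⟨j, hj, hj'⟩ := (Nat.dvd_prime_pow hp).1 h4
  refine ⟨i, j, hi', hj', ?_, ?_, ?_⟩
  · rw [hi', hj', ← pow_add] at h2
    exact Nat.pow_right_injective hp.two_le h2
  · rw [hi'] at h1
    exact (Nat.pow_le_pow_iff_right hp.one_lt).1 h1
  · have h5 : N.relIndex P ∣ N.index := Subgroup.relIndex_dvd_index_of_normal N P
    rw [hj'] at h5
    exact (hp.pow_dvd_iff_le_factorization Subgroup.index_ne_zero_of_finite).1 h5

theorem fg_defect_le (p : ℕ) [Fact p.Prime] (hM : IsPModular p M) (hb : IsPBlock M b)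
    (hinv : ∀ g : G, ∀ θ ∈ b, ∀ θ' : IrrCharacter N,
      (∀ n : N, (θ' : N → ℂ) n = (θ : N → ℂ) ⟨g * n * g⁻¹, hN.conj_mem n n.2 g⟩) → θ' ∈ b)
    (B : Set (IrrCharacter G)) (hB : IsPBlock M B)
    (hcov : ∃ χ ∈ B, ∃ θ ∈ b, classInner (fun n : N => (χ : G → ℂ) n) (θ : N → ℂ) ≠ 0) :
    blockDefect p B ≤ blockDefect p b + N.index.factorization p := by
  obtain ⟨P, hP⟩ := exists_defectGroup p M hM B hB
  obtain ⟨i, j, -, -, h1, h2, h3⟩ := fg_card_data N b p hM hb hinv B hB hcov P hP
  omega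


open Classical in
/-- some block covering the invariant block `b` has defect at least `d(b) + ν_p |G : N|` -/
theorem fg_exists_big (p : ℕ) [Fact p.Prime] (hM : IsPModular p M) (hb : IsPBlock M b)
    (hinv : ∀ g : G, ∀ θ ∈ b, ∀ θ' : IrrCharacter N,
      (∀ n : N, (θ' : N → ℂ) n = (θ : N → ℂ) ⟨g * n * g⁻¹, hN.conj_mem n n.2 g⟩) → θ' ∈ b) :
    ∃ B' : Set (IrrCharacter G), IsPBlock M B' ∧
      (∃ χ ∈ B', ∃ θ ∈ b, classInner (fun n : N => (χ : G → ℂ) n) (θ : N → ℂ) ≠ 0) ∧
      blockDefect p b + N.index.factorization p ≤ blockDefect p B' := by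
  have hMp : M.IsPrime := hM.2.1.isPrime
  have hp : p.Prime := Fact.out
  obtain ⟨θ, hθ⟩ := isPBlock_nonempty hb
  obtain ⟨χ, hχ, hχθ⟩ := Cfsg.Agent.helper12.exists_irr_over N θ.2
  obtain ⟨E, hEdef⟩ : ∃ E : G → ℂ, E = extendByZero N (blockCoeff b) := ⟨_, rfl⟩
  have hEcl : IsClassFunction G E := by rw [hEdef]; exact fg_E_isClassFunction N b hb hinv
  have hEl : ∀ g, MemLocalRing M (E g) := by rw [hEdef]; exact fg_E_memLocalRing N b hb
  have hωE : ∀ {χ' : G → ℂ} (_ : IsIrrCharacter G χ') {θ' : IrrCharacter N}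
      (_ : classInner (res N χ') (θ' : N → ℂ) ≠ 0),
      omegaFn χ' E = if θ' ∈ b then 1 else 0 := by
    intro χ' hχ' θ' hu
    rw [hEdef]
    exact fg_omega_E N b hb hinv hχ' hu
  have hω : omegaFn χ E = 1 := by
    rw [hωE hχ (θ' := θ) hχθ, if_pos hθ]
  rw [omegaFn_eq_sum_classes (irr_isCharacter hχ) hEcl] at hω
  have hex : ∃ C : ConjClasses G,
      ¬ MemLocalIdeal M (E (Quotient.out C) * centralChar χ (Quotient.out C)) := by
    by_contra hcon
    push Not at hcon
    have h1 := memLocalIdeal_sum Finset.univ _ (fun C _ => hcon C)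
    rw [hω] at h1
    exact not_memLocalIdeal_one h1
  obtain ⟨C, hC⟩ := hex
  obtain ⟨g, hgdef⟩ : ∃ g : G, g = Quotient.out C := ⟨_, rfl⟩
  rw [← hgdef] at hC
  have hccR : MemLocalRing M (centralChar χ g) :=
    centralChar_memLocalRing hMp.ne_top ⟨χ, hχ⟩ g
  have hEg : ¬ MemLocalIdeal M (E g) := fun h => hC (by
    rw [mul_comm]
    exact memLocalIdeal_mul_left hccR h)
  have hcc : ¬ MemLocalIdeal M (centralChar χ g) := fun h => hC (memLocalIdeal_mul_left (hEl g) h)
  have hgN : g ∈ N := by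
    by_contra h
    apply hEg
    rw [hEdef, extendByZero_of_not_mem N _ _ h]
    exact memLocalIdeal_zero hMp.ne_top
  obtain ⟨g', hg'⟩ : ∃ g' : N, (g' : G) = g := ⟨⟨g, hgN⟩, rfl⟩
  have cong := fg_centralChar_cong N b hb hinv hχ hθ hχθ g'
  rw [hg'] at cong
  obtain ⟨Cg, hCg⟩ : ∃ Cg : Subgroup G, Cg = Subgroup.centralizer ({g} : Set G) := ⟨_, rfl⟩
  obtain ⟨T, hT⟩ : ∃ T : Subgroup G, T = N ⊔ Cg := ⟨_, rfl⟩
  rw [← hCg, ← hT] at cong
  have hccθR : MemLocalRing M (centralChar (θ : N → ℂ) g') :=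
    centralChar_memLocalRing hMp.ne_top θ g'
  have hTidx : ¬ p ∣ T.index := by
    intro hdvd
    apply hcc
    have h1 := natCast_memLocalIdeal_of_dvd hM hdvd
    have h2 : MemLocalIdeal M ((T.index : ℂ) * centralChar (θ : N → ℂ) g') := by
      rw [mul_comm]
      exact memLocalIdeal_mul_left hccθR h1
    have h3 := memLocalIdeal_add cong h2
    rwa [sub_add_cancel] at h3
  have hccθ : ¬ MemLocalIdeal M (centralChar (θ : N → ℂ) g') := by
    intro h
    apply hcc
    have h2 : MemLocalIdeal M ((T.index : ℂ) * centralChar (θ : N → ℂ) g') :=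
      memLocalIdeal_mul_left
        (memLocalRing_of_integral hMp.ne_top (isIntegral_natCast_complex _)) h
    have h3 := memLocalIdeal_add cong h2
    rwa [sub_add_cancel] at h3
  have hEg' : E g = blockCoeff b g' := by
    rw [hEdef, ← hg', extendByZero_coe]
  have hdefcl : IsDefectClass M b g' := by
    refine ⟨blockCoeff_memLocalRing_of_isPBlock hb _, by rw [← hEg']; exact hEg, ?_⟩
    intro θ' hθ' hJ
    apply hccθ
    have hs : SameBlock M (θ : N → ℂ) (θ' : N → ℂ) := by
      rw [← blockOf_eq_of_mem hb hθ] at hθ'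
      exact hθ'
    have h3 := memLocalIdeal_add (hs g') hJ
    rwa [sub_add_cancel] at h3
  have hcardN := defectClass_card p M hM b hb g' hdefcl
  -- the set of characters covering `b`
  obtain ⟨A, hAdef⟩ : ∃ A : Set (IrrCharacter G),
      A = {χ' : IrrCharacter G | omegaFn (χ' : G → ℂ) E = 1} := ⟨_, rfl⟩
  have h01 : ∀ χ' : IrrCharacter G, omegaFn (χ' : G → ℂ) E = 1 ∨ omegaFn (χ' : G → ℂ) E = 0 := by
    intro χ'
    obtain ⟨θ', hu⟩ := Cover.exists_under N χ'.2
    rw [hωE χ'.2 hu]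
    by_cases h : θ' ∈ b
    · left; rw [if_pos h]
    · right; rw [if_neg h]
  have hAcoef : blockCoeff A = E := by
    apply classFunction_ext_omega (blockCoeff_isClassFunction A) hEcl
    intro χ'
    rw [omegaFn_blockCoeff]
    by_cases h : χ' ∈ A
    · rw [if_pos h]
      rw [hAdef] at h
      exact h.symm
    · rw [if_neg h]
      rcases h01 χ' with h1 | h1
      · exact absurd (by rw [hAdef]; exact h1) h
      · exact h1.symm
  have hAun : ∀ χ' ∈ A, blockOf M (χ' : G → ℂ) ⊆ A := by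
    intro χ' h1 χ'' hs
    rw [hAdef] at h1 ⊢
    have h2 := omegaFn_sub_memLocalIdeal (M := M) (show SameBlock M (χ' : G → ℂ) (χ'' : G → ℂ) from hs)
      hEcl hEl
    rcases h01 χ'' with h3 | h3
    · exact h3
    · have h4 : omegaFn (χ' : G → ℂ) E = 1 := h1
      rw [h4, h3, sub_zero] at h2
      exact absurd h2 not_memLocalIdeal_one
  obtain ⟨χ', hχ'A, hχ'J⟩ := exists_block_coeff_of_union A hAun g (by rw [hAcoef]; exact hEg)
  refine ⟨blockOf M (χ' : G → ℂ), ⟨χ', rfl⟩, ?_, ?_⟩
  · obtain ⟨θ', hu⟩ := Cover.exists_under N χ'.2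
    have h1 := hωE χ'.2 hu
    have h2 : omegaFn (χ' : G → ℂ) E = 1 := by
      rw [hAdef] at hχ'A
      exact hχ'A
    refine ⟨χ', sameBlock_refl M hMp.ne_top _, θ', ?_, hu⟩
    by_contra h
    rw [h2, if_neg h] at h1
    exact one_ne_zero h1
  · have h1 := minmax_a_card p M hM _ ⟨χ', rfl⟩ g hχ'J
    refine le_trans ?_ h1
    rw [← hCg]
    have hT1 : Nat.card T = Nat.card Cg * Cg.relIndex N := by
      rw [hT]
      exact card_sup_of_normal N Cg
    have hT2 := T.card_mul_index
    have hN1 := N.card_mul_index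
    have hN2 := (Subgroup.centralizer ({g'} : Set N)).card_mul_index
    have hidx : (Subgroup.centralizer ({g'} : Set N)).index = Cg.relIndex N := by
      rw [centralizer_singleton_subgroupOf N g', hg', ← hCg]
      rfl
    rw [hidx] at hN2
    have hr0 : Cg.relIndex N ≠ 0 := by
      rw [← hidx]
      exact Subgroup.index_ne_zero_of_finite
    have f1 : (Nat.card G).factorization p
        = (Nat.card Cg).factorization p + (Cg.relIndex N).factorization p := by
      rw [← hT2, Nat.factorization_mul (Nat.card_pos (α := T)).ne' Subgroup.index_ne_zero_of_finite,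
        hT1, Nat.factorization_mul (Nat.card_pos (α := Cg)).ne' hr0]
      simp only [Finsupp.coe_add, Pi.add_apply]
      rw [Nat.factorization_eq_zero_of_not_dvd hTidx, add_zero]
    have f2 : (Nat.card G).factorization p
        = (Nat.card N).factorization p + N.index.factorization p := by
      rw [← hN1, Nat.factorization_mul (Nat.card_pos (α := N)).ne' Subgroup.index_ne_zero_of_finite]
      rfl
    have f3 : (Nat.card N).factorization p
        = (Nat.card (Subgroup.centralizer ({g'} : Set N))).factorization p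
          + (Cg.relIndex N).factorization p := by
      rw [← hN2, Nat.factorization_mul (Nat.card_pos).ne' hr0]
      rfl
    omega

end setting

end Cfsg.Agent.helper24
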