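import Mathlib
import Cfsg.Agent.Lib_helper24_Fong3

/-!
Fong's theorem (helper24), part 4: the theorem.
-/

set_option autoImplicit false

namespace Cfsg.Agent.helper24

open Cfsg Cfsg.Agent.helper5 Cfsg.Agent.helper8
open scoped ComplexConjugate

universe u

section setting

variable {G : Type u} [Group G] [Fintype G] {M : Ideal AlgInt}
  (N : Subgroup G) [hN : N.Normal] [Fintype N] (b : Set (IrrCharacter N))

/-- Fong's theorem for a covering block with given defect `d(b) + ν_p |G : N|` -/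
theorem fong_of_defect (p : ℕ) [Fact p.Prime] (hM : IsPModular p M) (hb : IsPBlock M b)
    (hinv : ∀ g : G, ∀ θ ∈ b, ∀ θ' : IrrCharacter N,
      (∀ n : N, (θ' : N → ℂ) n = (θ : N → ℂ) ⟨g * n * g⁻¹, hN.conj_mem n n.2 g⟩) → θ' ∈ b)
    (B : Set (IrrCharacter G)) (hB : IsPBlock M B)
    (hcov : ∃ χ ∈ B, ∃ θ ∈ b, classInner (fun n : N => (χ : G → ℂ) n) (θ : N → ℂ) ≠ 0)
    (hdef : blockDefect p B = blockDefect p b + N.index.factorization p)
    (P : Subgroup G) (hP : IsDefectGroup p M B P) :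
    ¬ p ∣ (P ⊔ N).index ∧ IsDefectGroup p M b ((P ⊓ N).subgroupOf N) := by
  have hp : p.Prime := Fact.out
  obtain ⟨i, j, hi, hj, hij, hi', hj'⟩ := fg_card_data N b p hM hb hinv B hB hcov P hP
  have hieq : i = blockDefect p b := by omega
  have hjeq : j = N.index.factorization p := by omega
  constructor
  · intro hdvd
    have h1 : N.relIndex (P ⊔ N) * (P ⊔ N).index = N.index :=
      Subgroup.relIndex_mul_index le_sup_right
    rw [Subgroup.relIndex_sup_right, hj, hjeq] at h1
    obtain ⟨k, hk⟩ := hdvd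
    rw [hk] at h1
    obtain ⟨ν, hν⟩ : ∃ ν : ℕ, ν = N.index.factorization p := ⟨_, rfl⟩
    rw [← hν] at h1
    have h2 : p ^ (ν + 1) ∣ N.index := ⟨k, by rw [← h1, pow_succ]; ring⟩
    rw [hν] at h2
    exact Nat.pow_succ_factorization_not_dvd Subgroup.index_ne_zero_of_finite hp h2
  · obtain ⟨D, hD⟩ := exists_defectGroup p M hM b hb
    obtain ⟨x, hx⟩ := fg_inf_le N b p hM hb hinv B hB hcov P hP D hD
    have hcD := card_defectGroup p M hM b hb D hD
    have heq : ((P ⊓ N).subgroupOf N).map (MulAut.conj x).toMonoidHom = D := by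
      apply Subgroup.eq_of_le_of_card_ge hx
      rw [Subgroup.card_map_of_injective (MulAut.conj x).injective,
        card_subgroupOf_of_le inf_le_right, hcD, hi, hieq]
    have h3 : (P ⊓ N).subgroupOf N = D.map (MulAut.conj x⁻¹).toMonoidHom := by
      rw [← heq, Subgroup.map_map]
      have : (MulAut.conj x⁻¹).toMonoidHom.comp (MulAut.conj x).toMonoidHom = MonoidHom.id N := by
        ext y
        simp only [MonoidHom.coe_comp, MulEquiv.coe_toMonoidHom, Function.comp_apply,
          MulAut.conj_apply, MonoidHom.id_apply, Subgroup.coe_mul, Subgroup.coe_inv, inv_inv]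
        group
      rw [this, Subgroup.map_id]
    rw [h3]
    exact isDefectGroup_conj p M b hD x⁻¹

/-- **Fong's theorem**: a block of maximal defect covering an invariant block -/
theorem fong_theorem (p : ℕ) [Fact p.Prime] (hM : IsPModular p M) (hb : IsPBlock M b)
    (hinv : ∀ g : G, ∀ θ ∈ b, ∀ θ' : IrrCharacter N,
      (∀ n : N, (θ' : N → ℂ) n = (θ : N → ℂ) ⟨g * n * g⁻¹, hN.conj_mem n n.2 g⟩) → θ' ∈ b)
    (B : Set (IrrCharacter G)) (hB : IsPBlock M B)
    (hcov : ∃ χ ∈ B, ∃ θ ∈ b, classInner (fun n : N => (χ : G → ℂ) n) (θ : N → ℂ) ≠ 0)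
    (hmax : ∀ B' : Set (IrrCharacter G), IsPBlock M B' →
      (∃ χ ∈ B', ∃ θ ∈ b, classInner (fun n : N => (χ : G → ℂ) n) (θ : N → ℂ) ≠ 0) →
      blockDefect p B' ≤ blockDefect p B)
    (P : Subgroup G) (hP : IsDefectGroup p M B P) :
    ¬ p ∣ (P ⊔ N).index ∧ IsDefectGroup p M b ((P ⊓ N).subgroupOf N) ∧
      blockDefect p B = blockDefect p b + N.index.factorization p := by
  obtain ⟨B', hB', hcov', hbig⟩ := fg_exists_big N b p hM hb hinv
  have h1 := hmax B' hB' hcov'
  have h2 := fg_defect_le N b p hM hb hinv B hB hcov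
  have hdef : blockDefect p B = blockDefect p b + N.index.factorization p := by omega
  obtain ⟨h3, h4⟩ := fong_of_defect N b p hM hb hinv B hB hcov hdef P hP
  exact ⟨h3, h4, hdef⟩

end setting

end Cfsg.Agent.helper24
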