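import Mathlib
import Cfsg.Agent.Lib_helper24_Fong4
import Cfsg.Prelude.Def_BlockLocal
import Cfsg.Prelude.Def_BrauerPairs

/-!
Fong's theorem (helper24), part 5: normal subgroups of `p`-power index.
-/

set_option autoImplicit false

namespace Cfsg.Agent.helper24

open Cfsg Cfsg.Agent.helper5 Cfsg.Agent.helper8
open scoped ComplexConjugate

universe u

section setting

variable {G : Type u} [Group G] [Fintype G] {M : Ideal AlgInt}
  (N : Subgroup G) [hN : N.Normal] [Fintype N] (b : Set (IrrCharacter N))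

omit [Fintype G] [Fintype N] in
/-- stability in the sense of `StabilizesBlock` gives invariance -/
theorem hinv_of_stabilizes (hst : ∀ x : G, StabilizesBlock N b x) :
    ∀ g : G, ∀ θ ∈ b, ∀ θ' : IrrCharacter N,
      (∀ n : N, (θ' : N → ℂ) n = (θ : N → ℂ) ⟨g * n * g⁻¹, hN.conj_mem n n.2 g⟩) → θ' ∈ b := by
  intro g θ hθ θ' h
  obtain ⟨χ', hχ', hconj⟩ := (hst g⁻¹).2 θ hθ
  have : θ' = χ' := by
    apply Subtype.ext
    funext n
    rw [h n]
    symm
    apply hconj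
    simp only [inv_inv]
    group
  rw [this]
  exact hχ'

omit [Fintype G] [Fintype N] hN in
theorem subgroupBlockCoeff_eq (g : G) :
    subgroupBlockCoeff N b g = extendByZero N (blockCoeff b) g := by
  classical
  unfold subgroupBlockCoeff
  by_cases h : g ∈ N
  · rw [dif_pos h, extendByZero_of_mem N _ _ h]
  · rw [dif_neg h, extendByZero_of_not_mem N _ _ h]

/-- for a normal subgroup of `p`-power index, the idempotent of an invariant block is a block
idempotent of `G` -/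
theorem fg_index_pow_exists (p : ℕ) [Fact p.Prime] (hM : IsPModular p M) {k : ℕ}
    (hidx : N.index = p ^ k) (hb : IsPBlock M b)
    (hinv : ∀ g : G, ∀ θ ∈ b, ∀ θ' : IrrCharacter N,
      (∀ n : N, (θ' : N → ℂ) n = (θ : N → ℂ) ⟨g * n * g⁻¹, hN.conj_mem n n.2 g⟩) → θ' ∈ b) :
    ∃ B : Set (IrrCharacter G), IsPBlock M B ∧
      blockCoeff B = extendByZero N (blockCoeff b) := by
  classical
  have hMp : M.IsPrime := hM.2.1.isPrime
  obtain ⟨θ, hθ⟩ := isPBlock_nonempty hb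
  obtain ⟨χf, hχf, hχθ⟩ := Cfsg.Agent.helper12.exists_irr_over N θ.2
  obtain ⟨χ, hχdef⟩ : ∃ χ : IrrCharacter G, (χ : G → ℂ) = χf := ⟨⟨χf, hχf⟩, rfl⟩
  rw [← hχdef] at hχθ
  refine ⟨blockOf M (χ : G → ℂ), ⟨χ, rfl⟩, ?_⟩
  apply classFunction_ext_omega (blockCoeff_isClassFunction _)
    (fg_E_isClassFunction N b hb hinv)
  intro χ'
  rw [omegaFn_blockCoeff]
  by_cases hχ' : χ' ∈ blockOf M (χ : G → ℂ)
  · rw [if_pos hχ', fg_omega_of_sameBlock N b hb hinv hχ' ⟨θ, hθ, hχθ⟩]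
  · rw [if_neg hχ']
    obtain ⟨θ', hu⟩ := Cover.exists_under N χ'.2
    rw [fg_omega_E N b hb hinv χ'.2 hu, if_neg]
    intro hθ'
    apply hχ'
    have hs : SameBlock M (θ : N → ℂ) (θ' : N → ℂ) := by
      rw [← blockOf_eq_of_mem hb hθ] at hθ'
      exact hθ'
    exact Cover.sameBlock_of_under_of_index N hM hidx hχθ hu hs

/-- for a normal subgroup of `p`-power index, defect groups of the block of `G` with the
idempotent of the invariant block `b` -/
theorem fg_index_pow_defect (p : ℕ) [Fact p.Prime] (hM : IsPModular p M) {k : ℕ}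
    (hidx : N.index = p ^ k) (hb : IsPBlock M b)
    (hinv : ∀ g : G, ∀ θ ∈ b, ∀ θ' : IrrCharacter N,
      (∀ n : N, (θ' : N → ℂ) n = (θ : N → ℂ) ⟨g * n * g⁻¹, hN.conj_mem n n.2 g⟩) → θ' ∈ b)
    (B : Set (IrrCharacter G)) (hB : IsPBlock M B)
    (hcoef : blockCoeff B = extendByZero N (blockCoeff b))
    (P : Subgroup G) (hP : IsDefectGroup p M B P) :
    N ⊔ P = ⊤ ∧ IsDefectGroup p M b ((P ⊓ N).subgroupOf N) := by
  classical
  have hMp : M.IsPrime := hM.2.1.isPrime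
  have hp : p.Prime := Fact.out
  have hmem : ∀ χ' : IrrCharacter G, χ' ∈ B ↔
      ∃ θ' ∈ b, classInner (fun n : N => (χ' : G → ℂ) n) (θ' : N → ℂ) ≠ 0 := by
    intro χ'
    obtain ⟨θ', hu⟩ := Cover.exists_under N χ'.2
    have h1 := fg_omega_E N b hb hinv χ'.2 hu
    rw [← hcoef, omegaFn_blockCoeff] at h1
    constructor
    · intro h
      rw [if_pos h] at h1
      refine ⟨θ', ?_, hu⟩
      by_contra hθ'
      rw [if_neg hθ'] at h1
      exact one_ne_zero h1
    · rintro ⟨θ'', hθ'', hu''⟩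
      have h2 := fg_omega_E N b hb hinv χ'.2 (θ := θ'') hu''
      rw [← hcoef, omegaFn_blockCoeff, if_pos hθ''] at h2
      by_contra h
      rw [if_neg h] at h2
      exact zero_ne_one h2
  obtain ⟨χ₀, hχ₀⟩ := isPBlock_nonempty hB
  have hcov : ∃ χ ∈ B, ∃ θ ∈ b, classInner (fun n : N => (χ : G → ℂ) n) (θ : N → ℂ) ≠ 0 :=
    ⟨χ₀, hχ₀, (hmem χ₀).1 hχ₀⟩
  have hmax : ∀ B' : Set (IrrCharacter G), IsPBlock M B' →
      (∃ χ ∈ B', ∃ θ ∈ b, classInner (fun n : N => (χ : G → ℂ) n) (θ : N → ℂ) ≠ 0) →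
      blockDefect p B' ≤ blockDefect p B := by
    rintro B' hB' ⟨χ, hχ, hc⟩
    have h1 : χ ∈ B := (hmem χ).2 hc
    rw [isPBlock_eq_of_mem hB' hB hχ h1]
  obtain ⟨h1, h2, -⟩ := fong_theorem N b p hM hb hinv B hB hcov hmax P hP
  refine ⟨?_, h2⟩
  rw [sup_comm, ← Subgroup.index_eq_one]
  have h3 : (P ⊔ N).index ∣ p ^ k := by
    rw [← hidx]
    exact Subgroup.index_dvd_of_le le_sup_right
  obtain ⟨m, -, hm⟩ := (Nat.dvd_prime_pow hp).1 h3
  rw [hm] at h1 ⊢
  cases m with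
  | zero => rfl
  | succ m => exact absurd (dvd_pow_self p (Nat.succ_ne_zero m)) h1

end setting

end Cfsg.Agent.helper24
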