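import Mathlib
import Cfsg.Agent.Lib_helper24_BrauerPairs2
import Cfsg.Agent.Lib_helper24_IdemCongr
import Cfsg.Agent.Lib_helper24_Fong5
import Cfsg.Agent.Lib_helper1_PrincFusion

/-!
Brauer pairs (helper24), part 1: the Brauer map on functions invariant under a `p`-subgroup.
-/

set_option autoImplicit false

namespace Cfsg.Agent.helper24

open Cfsg Cfsg.Agent.helper5 Cfsg.Agent.helper8
open scoped ComplexConjugate

universe u

section BPairA

variable {G : Type u} [Group G]

/-- invariance of a function on `G` under conjugation by the elements of a subgroup -/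
def ConjInv (S : Subgroup G) (u : G → ℂ) : Prop := ∀ s ∈ S, ∀ x, u (s * x * s⁻¹) = u x

theorem conjInv_mono {S S' : Subgroup G} (h : S' ≤ S) {u : G → ℂ} (hu : ConjInv S u) :
    ConjInv S' u := fun s hs x => hu s (h hs) x

theorem conjInv_of_classFunction {u : G → ℂ} (hu : IsClassFunction G u) (S : Subgroup G) :
    ConjInv S u := fun s _ x => hu x s

theorem conjInv_sub {S : Subgroup G} {u v : G → ℂ} (hu : ConjInv S u) (hv : ConjInv S v) :
    ConjInv S (u - v) := by
  intro s hs x
  simp only [Pi.sub_apply]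
  rw [hu s hs x, hv s hs x]

theorem conjInv_cconv [Fintype G] {S : Subgroup G} {u v : G → ℂ} (hu : ConjInv S u)
    (hv : ConjInv S v) : ConjInv S (cconv u v) := by
  intro k hk g
  unfold cconv
  rw [← Fintype.sum_equiv (MulAut.conj k).toEquiv
    (fun x : G => u (k * x * k⁻¹) * v ((k * x * k⁻¹)⁻¹ * (k * g * k⁻¹)))
    (fun x : G => u x * v (x⁻¹ * (k * g * k⁻¹))) (fun x => by simp [MulAut.conj_apply])]
  refine Finset.sum_congr rfl (fun x _ => ?_)
  rw [hu k hk x]
  have h1 : (k * x * k⁻¹)⁻¹ * (k * g * k⁻¹) = k * (x⁻¹ * g) * k⁻¹ := by group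
  rw [h1, hv k hk (x⁻¹ * g)]

theorem conjInv_extZ (K : Subgroup G) {a : K → ℂ} (ha : IsClassFunction K a) :
    ConjInv K (extZ K a) := extZ_conj_invariant K ha

theorem brRes_isClassFunction_of_conjInv {P : Subgroup G} {u : G → ℂ}
    (hu : ConjInv (Subgroup.centralizer (P : Set G)) u) :
    IsClassFunction (Subgroup.centralizer (P : Set G))
      (brRes P (Subgroup.centralizer (P : Set G)) u) := by
  classical
  intro g k
  unfold brRes
  rw [if_pos (k * g * k⁻¹).2, if_pos g.2]
  exact hu k k.2 g

variable [Fintype G]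

/-- the Brauer map is multiplicative modulo `J` on functions invariant under `P` -/
theorem brRes_cconv_sub_inv {p : ℕ} {M : Ideal AlgInt} (hM : IsPModular p M) {P H : Subgroup G}
    [Fintype H] (hP : IsPGroup p P) (hCH : Subgroup.centralizer (P : Set G) ≤ H) {u v : G → ℂ}
    (hu_inv : ConjInv P u) (hu : ∀ g, MemLocalRing M (u g)) (hv_inv : ConjInv P v)
    (hv : ∀ g, MemLocalRing M (v g)) (h : H) :
    MemLocalIdeal M (brRes P H (cconv u v) h - cconv (brRes P H u) (brRes P H v) h) := by
  classical
  have hMp : M.IsPrime := hM.2.1.isPrime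
  have hMtop : M ≠ ⊤ := hMp.ne_top
  obtain ⟨C, hC⟩ : ∃ C : Subgroup G, C = Subgroup.centralizer (P : Set G) := ⟨_, rfl⟩
  have hCH' : C ≤ H := by rw [hC]; exact hCH
  by_cases hh : (h : G) ∈ C
  · have e1 : brRes P H (cconv u v) h = ∑ x : G, u x * v (x⁻¹ * h) := by
      unfold brRes
      rw [← hC, if_pos hh]
      rfl
    have e3 : ∀ x : H, brRes P H u x * brRes P H v (x⁻¹ * h) =
        (fun y : G => if y ∈ C then u y * v (y⁻¹ * h) else 0) (x : G) := by
      intro x
      unfold brRes
      rw [← hC]
      by_cases hx : (x : G) ∈ C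
      · have hxh : ((x⁻¹ * h : H) : G) ∈ C := by
          push_cast
          exact C.mul_mem (C.inv_mem hx) hh
        simp only [if_pos hx, if_pos hxh]
        push_cast
        rfl
      · simp only [if_neg hx, zero_mul]
    have e2 : cconv (brRes P H u) (brRes P H v) h =
        ∑ y : G, if y ∈ C then u y * v (y⁻¹ * h) else 0 := by
      unfold cconv
      rw [Finset.sum_congr rfl (fun x _ => e3 x)]
      rw [← Finset.sum_subtype (Finset.univ.filter (fun y : G => y ∈ H)) (by simp)
        (fun y : G => if y ∈ C then u y * v (y⁻¹ * h) else 0), Finset.sum_filter]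
      refine Finset.sum_congr rfl (fun y _ => ?_)
      by_cases hy : y ∈ C
      · rw [if_pos (hCH' hy)]
      · rw [if_neg hy]
        split_ifs <;> rfl
    rw [e1, e2, ← Finset.sum_sub_distrib]
    have e4 : ∀ x : G, (u x * v (x⁻¹ * h) - if x ∈ C then u x * v (x⁻¹ * h) else 0) =
        if x ∉ C then u x * v (x⁻¹ * h) else 0 := by
      intro x
      by_cases hx : x ∈ C
      · rw [if_pos hx, if_neg (not_not.2 hx), sub_self]
      · rw [if_neg hx, if_pos hx, sub_zero]
    rw [Finset.sum_congr rfl (fun x _ => e4 x), ← Finset.sum_filter,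
      Finset.sum_subtype (Finset.univ.filter (fun x : G => x ∉ C)) (p := fun x : G => x ∉ C)
        (by simp) (fun x : G => u x * v (x⁻¹ * h))]
    have hY : ∀ s ∈ P, ∀ y ∈ {x : G | x ∉ C}, s * y * s⁻¹ ∈ {x : G | x ∉ C} := by
      intro s hs y hy hcon
      apply hy
      rw [hC] at hcon ⊢
      have := conj_mem_centralizer_of_mem_normalizer
        (Subgroup.inv_mem _ (Subgroup.le_normalizer hs)) hcon
      have e : s⁻¹ * (s * y * s⁻¹) * s⁻¹⁻¹ = y := by group
      rwa [e] at this
    letI act : MulAction P {x : G // x ∉ C} := conjSetAction P {x : G | x ∉ C} hY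
    apply sum_memLocalIdeal_of_no_fixed hM hP (fun y : {x : G // x ∉ C} => u y * v ((y : G)⁻¹ * h))
    · intro y
      exact memLocalRing_mul (hu _) (hv _)
    · intro t y
      show u ((t : G) * (y : G) * (t : G)⁻¹) * v (((t : G) * (y : G) * (t : G)⁻¹)⁻¹ * h) =
        u y * v ((y : G)⁻¹ * h)
      have hth : (t : G) * h = h * (t : G) := by
        rw [hC] at hh
        exact Subgroup.mem_centralizer_iff.1 hh t t.2
      have e : ((t : G) * (y : G) * (t : G)⁻¹)⁻¹ * h = (t : G) * ((y : G)⁻¹ * h) * (t : G)⁻¹ := by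
        calc ((t : G) * (y : G) * (t : G)⁻¹)⁻¹ * h = (t : G) * (y : G)⁻¹ * ((t : G)⁻¹ * h) := by
              group
          _ = (t : G) * (y : G)⁻¹ * (h * (t : G)⁻¹) := by
              have : (t : G)⁻¹ * h = h * (t : G)⁻¹ := by
                calc (t : G)⁻¹ * h = (t : G)⁻¹ * (h * (t : G)) * (t : G)⁻¹ := by group
                  _ = (t : G)⁻¹ * ((t : G) * h) * (t : G)⁻¹ := by rw [hth]
                  _ = h * (t : G)⁻¹ := by group
              rw [this]
          _ = (t : G) * ((y : G)⁻¹ * h) * (t : G)⁻¹ := by group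
      rw [e, hv_inv t t.2, hu_inv t t.2]
    · intro y
      have hy0 : (y : G) ∉ C := y.2
      have hy : (y : G) ∉ Subgroup.centralizer (P : Set G) := by
        rw [← hC]
        exact hy0
      rw [Subgroup.mem_centralizer_iff] at hy
      push Not at hy
      obtain ⟨s, hs, hne⟩ := hy
      refine ⟨⟨s, hs⟩, fun heq => hne ?_⟩
      have h1 : s * (y : G) * s⁻¹ = (y : G) := congrArg Subtype.val heq
      exact mul_inv_eq_iff_eq_mul.mp h1
  · have e1 : brRes P H (cconv u v) h = 0 := by
      unfold brRes
      rw [← hC, if_neg hh]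
    have e2 : cconv (brRes P H u) (brRes P H v) h = 0 := by
      unfold cconv
      apply Finset.sum_eq_zero
      intro x _
      unfold brRes
      rw [← hC]
      by_cases hx : (x : G) ∈ C
      · have hxh : ((x⁻¹ * h : H) : G) ∉ C := by
          intro hcon
          apply hh
          have := C.mul_mem hx hcon
          have e : (x : G) * ((x⁻¹ * h : H) : G) = (h : G) := by
            push_cast
            group
          rwa [e] at this
        rw [if_neg hxh, mul_zero]
      · rw [if_neg hx, zero_mul]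
    rw [e1, e2, sub_self]
    exact memLocalIdeal_zero hMtop

end BPairA

end Cfsg.Agent.helper24
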