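import Mathlib
import Cfsg.Agent.Lib_helper24_BPair1
import Cfsg.Agent.Lib_helper24_FongRey2

/-!
Brauer pairs (helper24), part 2: the Brauer map followed by a central character.
-/

set_option autoImplicit false

namespace Cfsg.Agent.helper24

open Cfsg Cfsg.Agent.helper5 Cfsg.Agent.helper8
open scoped ComplexConjugate

universe u

section IdemAbsorb

variable {H : Type u} [Group H] [Fintype H] {M : Ideal AlgInt} [hMp : M.IsPrime]

include hMp in
/-- a central idempotent modulo `J` on which the central characters of a block take the value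
one absorbs the block idempotent modulo `J` -/
theorem idem_absorb {z : H → ℂ} (hz_cf : IsClassFunction H z) (hz_R : ∀ g, MemLocalRing M (z g))
    (hz_id : ∀ g, MemLocalIdeal M (cconv z z g - z g)) (e : Set (IrrCharacter H))
    (he : IsPBlock M e)
    (hω : ∀ ξ ∈ e, MemLocalIdeal M (omegaFn (ξ : H → ℂ) z - 1)) :
    ∀ g, MemLocalIdeal M (cconv z (blockCoeff e) g - blockCoeff e g) := by
  classical
  have hMtop := hMp.ne_top
  have he_cf := blockCoeff_isClassFunction e
  have he_R : ∀ g, MemLocalRing M (blockCoeff e g) := blockCoeff_memLocalRing_of_isPBlock he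
  have hee : cconv (blockCoeff e) (blockCoeff e) = blockCoeff e := by
    rw [cconv_blockCoeff, Set.inter_self]
  have hu_cf : IsClassFunction H (cconv z (blockCoeff e)) := cconv_isClassFunction hz_cf he_cf
  have hu_R : ∀ g, MemLocalRing M (cconv z (blockCoeff e) g) := cconv_memLocalRing hz_R he_R
  have huu : cconv (cconv z (blockCoeff e)) (cconv z (blockCoeff e))
      = cconv (cconv z z) (blockCoeff e) := by
    rw [cconv_assoc z (blockCoeff e) (cconv z (blockCoeff e)),
      cconv_comm_of_classFunction he_cf (cconv z (blockCoeff e)),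
      cconv_assoc z (blockCoeff e) (blockCoeff e), hee, ← cconv_assoc]
  apply idem_congr hu_cf hu_R _ he_cf he_R _ _
  · intro g
    rw [huu]
    have h1 : cconv (cconv z z) (blockCoeff e) g - cconv z (blockCoeff e) g
        = cconv (cconv z z - z) (blockCoeff e) g := by
      rw [cconv_sub_left]
      rfl
    rw [h1]
    apply cconv_memLocalIdeal_left _ he_R
    intro x
    exact hz_id x
  · intro g
    rw [hee, sub_self]
    exact memLocalIdeal_zero hMtop
  · intro ξ
    rw [omegaFn_cconv ξ.2 z he_cf, omegaFn_blockCoeff]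
    by_cases hξ : ξ ∈ e
    · rw [if_pos hξ, mul_one]
      exact hω ξ hξ
    · rw [if_neg hξ, mul_zero, sub_self]
      exact memLocalIdeal_zero hMtop

end IdemAbsorb

section BPairB

variable {G : Type u} [Group G] [Fintype G] {M : Ideal AlgInt}

/-- functions on which the Brauer map at `P` followed by a central character is well behaved -/
structure BrGood (M : Ideal AlgInt) (P : Subgroup G) (u : G → ℂ) : Prop where
  invP : ConjInv P u
  invC : ConjInv (Subgroup.centralizer (P : Set G)) u
  loc : ∀ g, MemLocalRing M (u g)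

theorem brGood_of_classFunction {P : Subgroup G} {u : G → ℂ} (hu : IsClassFunction G u)
    (hl : ∀ g, MemLocalRing M (u g)) : BrGood M P u :=
  ⟨conjInv_of_classFunction hu _, conjInv_of_classFunction hu _, hl⟩

theorem brGood_cconv [hMp : M.IsPrime] {P : Subgroup G} {u v : G → ℂ} (hu : BrGood M P u)
    (hv : BrGood M P v) : BrGood M P (cconv u v) :=
  ⟨conjInv_cconv hu.invP hv.invP, conjInv_cconv hu.invC hv.invC,
    cconv_memLocalRing hu.loc hv.loc⟩

theorem brGood_sub [hMp : M.IsPrime] {P : Subgroup G} {u v : G → ℂ} (hu : BrGood M P u)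
    (hv : BrGood M P v) : BrGood M P (u - v) :=
  ⟨conjInv_sub hu.invP hv.invP, conjInv_sub hu.invC hv.invC,
    fun g => memLocalRing_sub (hu.loc g) (hv.loc g)⟩

theorem brGood_deltaOne [hMp : M.IsPrime] (P : Subgroup G) : BrGood M P (deltaOne G) :=
  brGood_of_classFunction deltaOne_isClassFunction (deltaOne_memLocalRing hMp.ne_top)

variable {p : ℕ} [Fact p.Prime]

theorem brOmega_memLocalRing [hMp : M.IsPrime] {P : Subgroup G}
    [Fintype ↥(Subgroup.centralizer (P : Set G))]
    (ξ : IrrCharacter ↥(Subgroup.centralizer (P : Set G))) {u : G → ℂ} (hu : BrGood M P u) :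
    MemLocalRing M (brOmega P (Subgroup.centralizer (P : Set G))
      (ξ : ↥(Subgroup.centralizer (P : Set G)) → ℂ) u) := by
  unfold brOmega
  exact omegaFn_memLocalRing ξ (brRes_isClassFunction_of_conjInv hu.invC)
    (brRes_memLocalRing hMp.ne_top P _ hu.loc)

/-- the Brauer map followed by a central character is multiplicative modulo `J` -/
theorem brOmega_mul (hM : IsPModular p M) {P : Subgroup G} (hP : IsPGroup p P)
    [Fintype ↥(Subgroup.centralizer (P : Set G))]
    (ξ : IrrCharacter ↥(Subgroup.centralizer (P : Set G))) {u v : G → ℂ} (hu : BrGood M P u)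
    (hv : BrGood M P v) :
    MemLocalIdeal M (brOmega P (Subgroup.centralizer (P : Set G))
        (ξ : ↥(Subgroup.centralizer (P : Set G)) → ℂ) (cconv u v)
      - brOmega P (Subgroup.centralizer (P : Set G))
        (ξ : ↥(Subgroup.centralizer (P : Set G)) → ℂ) u
      * brOmega P (Subgroup.centralizer (P : Set G))
        (ξ : ↥(Subgroup.centralizer (P : Set G)) → ℂ) v) := by
  have hMp : M.IsPrime := hM.2.1.isPrime
  unfold brOmega
  have hv_cf := brRes_isClassFunction_of_conjInv hv.invC
  have hu_cf := brRes_isClassFunction_of_conjInv hu.invC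
  have huv_cf := brRes_isClassFunction_of_conjInv (conjInv_cconv hu.invC hv.invC)
  rw [← omegaFn_cconv ξ.2 _ hv_cf, ← omegaFn_sub]
  apply omegaFn_memLocalIdeal ξ (isClassFunction_sub huv_cf (cconv_isClassFunction hu_cf hv_cf))
  intro h
  exact brRes_cconv_sub_inv hM hP le_rfl hu.invP hu.loc hv.invP hv.loc h

/-- characters of the same block give congruent values -/
theorem brOmega_congr_block [hMp : M.IsPrime] {P : Subgroup G}
    [Fintype ↥(Subgroup.centralizer (P : Set G))]
    {ξ ξ' : IrrCharacter ↥(Subgroup.centralizer (P : Set G))}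
    (hs : SameBlock M (ξ : ↥(Subgroup.centralizer (P : Set G)) → ℂ)
      (ξ' : ↥(Subgroup.centralizer (P : Set G)) → ℂ)) {u : G → ℂ} (hu : BrGood M P u) :
    MemLocalIdeal M (brOmega P (Subgroup.centralizer (P : Set G))
        (ξ : ↥(Subgroup.centralizer (P : Set G)) → ℂ) u
      - brOmega P (Subgroup.centralizer (P : Set G))
        (ξ' : ↥(Subgroup.centralizer (P : Set G)) → ℂ) u) := by
  unfold brOmega
  exact omegaFn_sub_memLocalIdeal hs (brRes_isClassFunction_of_conjInv hu.invC)
    (brRes_memLocalRing hMp.ne_top P _ hu.loc)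

/-- functions congruent modulo `J` on the centralizer give congruent values -/
theorem brOmega_congr_vals [hMp : M.IsPrime] {P : Subgroup G}
    [Fintype ↥(Subgroup.centralizer (P : Set G))]
    (ξ : IrrCharacter ↥(Subgroup.centralizer (P : Set G))) {u v : G → ℂ}
    (hu : ConjInv (Subgroup.centralizer (P : Set G)) u)
    (hv : ConjInv (Subgroup.centralizer (P : Set G)) v)
    (huv : ∀ g ∈ Subgroup.centralizer (P : Set G), MemLocalIdeal M (u g - v g)) :
    MemLocalIdeal M (brOmega P (Subgroup.centralizer (P : Set G))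
        (ξ : ↥(Subgroup.centralizer (P : Set G)) → ℂ) u
      - brOmega P (Subgroup.centralizer (P : Set G))
        (ξ : ↥(Subgroup.centralizer (P : Set G)) → ℂ) v) := by
  classical
  unfold brOmega
  rw [← omegaFn_sub, ← brRes_sub]
  apply omegaFn_memLocalIdeal ξ (brRes_isClassFunction_of_conjInv (conjInv_sub hu hv))
  intro h
  unfold brRes
  rw [if_pos h.2]
  exact huv h h.2

theorem brOmega_deltaOne (P : Subgroup G) [Fintype ↥(Subgroup.centralizer (P : Set G))]
    (ξ : IrrCharacter ↥(Subgroup.centralizer (P : Set G))) :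
    brOmega P (Subgroup.centralizer (P : Set G))
      (ξ : ↥(Subgroup.centralizer (P : Set G)) → ℂ) (deltaOne G) = 1 := by
  unfold brOmega
  rw [brRes_deltaOne]
  exact omegaFn_deltaOne (irr_apply_one_ne_zero ξ.2)

theorem brOmega_zero (P : Subgroup G) [Fintype ↥(Subgroup.centralizer (P : Set G))]
    (ξ : ↥(Subgroup.centralizer (P : Set G)) → ℂ) :
    brOmega P (Subgroup.centralizer (P : Set G)) ξ (0 : G → ℂ) = 0 := by
  classical
  unfold brOmega
  have : brRes P (Subgroup.centralizer (P : Set G)) (0 : G → ℂ) = 0 := by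
    funext h
    unfold brRes
    simp
  rw [this, omegaFn_zero]

/-- on an idempotent the value is zero or one modulo `J` -/
theorem brOmega_idem (hM : IsPModular p M) {P : Subgroup G} (hP : IsPGroup p P)
    [Fintype ↥(Subgroup.centralizer (P : Set G))]
    (ξ : IrrCharacter ↥(Subgroup.centralizer (P : Set G))) {u : G → ℂ} (hu : BrGood M P u)
    (hid : cconv u u = u) :
    MemLocalIdeal M (brOmega P (Subgroup.centralizer (P : Set G))
        (ξ : ↥(Subgroup.centralizer (P : Set G)) → ℂ) u) ∨
    MemLocalIdeal M (brOmega P (Subgroup.centralizer (P : Set G))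
        (ξ : ↥(Subgroup.centralizer (P : Set G)) → ℂ) u - 1) := by
  have hMp : M.IsPrime := hM.2.1.isPrime
  have h1 := brOmega_mul hM hP ξ hu hu
  rw [hid] at h1
  have hl := brOmega_memLocalRing ξ hu
  obtain ⟨l, hldef⟩ : ∃ l : ℂ, l = brOmega P (Subgroup.centralizer (P : Set G))
        (ξ : ↥(Subgroup.centralizer (P : Set G)) → ℂ) u := ⟨_, rfl⟩
  rw [← hldef] at h1 hl ⊢
  by_contra hcon
  push Not at hcon
  have h2 := not_memLocalIdeal_mul hl (memLocalRing_sub hl (memLocalRing_one hMp.ne_top))
    hcon.1 hcon.2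
  apply h2
  have e : l * (l - 1) = -(l - l * l) := by ring
  rw [e]
  exact memLocalIdeal_neg h1

end BPairB

end Cfsg.Agent.helper24
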