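import Mathlib
import Cfsg.Agent.Lib_helper24_BPair2

/-!
Brauer pairs (helper24), part 3: normal inclusions of Brauer pairs.
-/

set_option autoImplicit false

namespace Cfsg.Agent.helper24

open Cfsg Cfsg.Agent.helper5 Cfsg.Agent.helper8
open scoped ComplexConjugate

universe u

section BPairC

variable {G : Type u} [Group G]

theorem sbc_eq_extZ (K : Subgroup G) (f : Set (IrrCharacter K)) :
    subgroupBlockCoeff K f = extZ K (blockCoeff f) := by
  classical
  funext g
  unfold subgroupBlockCoeff extZ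
  by_cases h : g ∈ K
  · simp only [dif_pos h]
  · simp only [dif_neg h]

theorem sbc_of_mem (K : Subgroup G) (f : Set (IrrCharacter K)) {g : G} (hg : g ∈ K) :
    subgroupBlockCoeff K f g = blockCoeff f ⟨g, hg⟩ := by
  rw [sbc_eq_extZ, extZ_of_mem K _ hg]

theorem sbc_of_not_mem (K : Subgroup G) (f : Set (IrrCharacter K)) {g : G} (hg : g ∉ K) :
    subgroupBlockCoeff K f g = 0 := by
  rw [sbc_eq_extZ, extZ_of_not_mem K _ hg]

theorem sbc_conjInv_self [Finite G] (K : Subgroup G) (f : Set (IrrCharacter K)) :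
    ConjInv K (subgroupBlockCoeff K f) := by
  have := Fintype.ofFinite K
  rw [sbc_eq_extZ]
  exact conjInv_extZ K (blockCoeff_isClassFunction f)

theorem sbc_conj_of_stabilizes [Finite G] (K : Subgroup G) (f : Set (IrrCharacter K)) {x : G}
    (hx : StabilizesBlock K f x) (hx' : StabilizesBlock K f x⁻¹) (g : G) :
    subgroupBlockCoeff K f (x * g * x⁻¹) = subgroupBlockCoeff K f g := by
  classical
  have := Fintype.ofFinite K
  by_cases hg : g ∈ K
  · have hg' : x * g * x⁻¹ ∈ K := (Subgroup.mem_normalizer_iff.1 hx.1 g).1 hg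
    rw [sbc_of_mem K f hg, sbc_of_mem K f hg']
    have h := Cfsg.Agent.helper1.blockCoeff_comp_mulEquiv
      (Cfsg.Agent.helper1.conjNormalizer K x⁻¹ hx'.1) f ?_ ?_ ⟨g, hg⟩
    · rw [← h]
      congr 1
      apply Subtype.ext
      show x * g * x⁻¹ = (x⁻¹)⁻¹ * g * x⁻¹
      rw [inv_inv]
    · intro χ hχ
      obtain ⟨χ', hχ', hc⟩ := hx'.2 χ hχ
      have heq : (⟨fun h => (χ : K → ℂ) (Cfsg.Agent.helper1.conjNormalizer K x⁻¹ hx'.1 h),
          helper8.isIrrCharacter_comp_mulEquiv _ χ.2⟩ : IrrCharacter K) = χ' := by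
        apply Subtype.ext
        funext k
        symm
        apply hc
        show (k : G) = x⁻¹ * ((x⁻¹)⁻¹ * (k : G) * x⁻¹) * x⁻¹⁻¹
        group
      rw [heq]
      exact hχ'
    · intro χ hχ
      obtain ⟨χ', hχ', hc⟩ := hx.2 χ hχ
      have heq : (⟨fun h => (χ : K → ℂ) ((Cfsg.Agent.helper1.conjNormalizer K x⁻¹ hx'.1).symm h),
          helper8.isIrrCharacter_comp_mulEquiv _ χ.2⟩ : IrrCharacter K) = χ' := by
        apply Subtype.ext
        funext k
        symm
        apply hc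
        show (k : G) = x * (x⁻¹ * (k : G) * x⁻¹⁻¹) * x⁻¹
        group
      rw [heq]
      exact hχ'
  · have hg' : x * g * x⁻¹ ∉ K := fun h => hg ((Subgroup.mem_normalizer_iff.1 hx.1 g).2 h)
    rw [sbc_of_not_mem K f hg, sbc_of_not_mem K f hg']

theorem sbc_conjInv_of_stabilizes [Finite G] (K : Subgroup G) (f : Set (IrrCharacter K))
    (S : Subgroup G) (hS : ∀ x ∈ S, StabilizesBlock K f x) :
    ConjInv S (subgroupBlockCoeff K f) :=
  fun s hs g => sbc_conj_of_stabilizes K f (hS s hs) (hS s⁻¹ (S.inv_mem hs)) g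

variable [Fintype G] {M : Ideal AlgInt}

theorem sbc_cconv (K : Subgroup G) [Fintype K] (f f' : Set (IrrCharacter K)) :
    cconv (subgroupBlockCoeff K f) (subgroupBlockCoeff K f') = subgroupBlockCoeff K (f ∩ f') := by
  rw [sbc_eq_extZ, sbc_eq_extZ, sbc_eq_extZ, ← extZ_cconv, cconv_blockCoeff]

theorem sbc_empty (K : Subgroup G) [Fintype K] :
    subgroupBlockCoeff K (∅ : Set (IrrCharacter K)) = 0 := by
  funext g
  by_cases hg : g ∈ K
  · rw [sbc_of_mem K _ hg, blockCoeff_empty]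
    rfl
  · rw [sbc_of_not_mem K _ hg]
    rfl

theorem sbc_loc [hMp : M.IsPrime] (K : Subgroup G) [Fintype K] {f : Set (IrrCharacter K)}
    (hf : IsPBlock M f) (g : G) : MemLocalRing M (subgroupBlockCoeff K f g) := by
  by_cases hg : g ∈ K
  · rw [sbc_of_mem K _ hg]
    exact blockCoeff_memLocalRing_of_isPBlock hf _
  · rw [sbc_of_not_mem K _ hg]
    exact memLocalRing_zero hMp.ne_top

theorem brGood_sbc [hMp : M.IsPrime] {P K : Subgroup G} [Fintype K]
    (hCK : Subgroup.centralizer (P : Set G) ≤ K) {f : Set (IrrCharacter K)} (hf : IsPBlock M f)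
    (hst : ∀ x ∈ P, StabilizesBlock K f x) : BrGood M P (subgroupBlockCoeff K f) :=
  ⟨sbc_conjInv_of_stabilizes K f P hst, conjInv_mono hCK (sbc_conjInv_self K f), sbc_loc K hf⟩

variable {p : ℕ} [Fact p.Prime]

/-- uniqueness of the normal subpair -/
theorem normalSubpair_unique (hM : IsPModular p M) {P Q : Subgroup G}
    {e : Set (IrrCharacter (Subgroup.centralizer (P : Set G)))}
    {f f' : Set (IrrCharacter (Subgroup.centralizer (Q : Set G)))}
    (h : IsNormalSubpair p M Q f P e) (h' : IsNormalSubpair p M Q f' P e) : f = f' := by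
  classical
  have hMp : M.IsPrime := hM.2.1.isPrime
  have := Fintype.ofFinite ↥(Subgroup.centralizer (P : Set G))
  have := Fintype.ofFinite ↥(Subgroup.centralizer (Q : Set G))
  by_contra hne
  have hint : f ∩ f' = ∅ := by
    apply Set.eq_empty_iff_forall_notMem.2
    intro θ hθ
    exact hne (isPBlock_eq_of_mem h.1.2 h'.1.2 hθ.1 hθ.2)
  obtain ⟨ξ, hξ⟩ := isPBlock_nonempty h.2.1.2
  have hCK : Subgroup.centralizer (P : Set G) ≤ Subgroup.centralizer (Q : Set G) :=
    Subgroup.centralizer_le h.2.2.1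
  have hg1 := brGood_sbc (M := M) hCK h.1.2 h.2.2.2.2.1
  have hg2 := brGood_sbc (M := M) hCK h'.1.2 h'.2.2.2.2.1
  have h1 := h.2.2.2.2.2 ξ hξ
  have h2 := h'.2.2.2.2.2 ξ hξ
  rw [brauerOmega_eq] at h1 h2
  have h3 := brOmega_mul hM h.2.1.1 ξ hg1 hg2
  rw [sbc_cconv, hint, sbc_empty, brOmega_zero, zero_sub] at h3
  have hl2 := brOmega_memLocalRing ξ hg2
  obtain ⟨a, ha⟩ : ∃ a : ℂ, a = brOmega P (Subgroup.centralizer (P : Set G))
    (ξ : ↥(Subgroup.centralizer (P : Set G)) → ℂ)
    (subgroupBlockCoeff (Subgroup.centralizer (Q : Set G)) f) := ⟨_, rfl⟩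
  obtain ⟨b, hb⟩ : ∃ b : ℂ, b = brOmega P (Subgroup.centralizer (P : Set G))
    (ξ : ↥(Subgroup.centralizer (P : Set G)) → ℂ)
    (subgroupBlockCoeff (Subgroup.centralizer (Q : Set G)) f') := ⟨_, rfl⟩
  rw [← ha] at h1 h3
  rw [← hb] at h2 h3 hl2
  have e1 : (1 : ℂ) = -((a - 1) * b) - (b - 1) - -(a * b) := by ring
  apply not_memLocalIdeal_one (M := M)
  rw [e1]
  refine memLocalIdeal_sub (memLocalIdeal_sub (memLocalIdeal_neg ?_) h2) h3
  rw [mul_comm]
  exact memLocalIdeal_mul_left hl2 h1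

/-- existence of a pair above a given one, from the non-vanishing of the Brauer map -/
theorem exists_normalSubpair_of_ne (hM : IsPModular p M) {P R : Subgroup G} (hR : IsPGroup p R)
    (hPR : P ≤ R) (hRN : R ≤ Subgroup.normalizer (P : Set G))
    (e : Set (IrrCharacter (Subgroup.centralizer (P : Set G)))) (he : IsPBlock M e)
    (hst : ∀ x ∈ R, StabilizesBlock (Subgroup.centralizer (P : Set G)) e x) (x₀ : G)
    (hx₀ : x₀ ∈ Subgroup.centralizer (R : Set G))
    (hne : ¬ MemLocalIdeal M (subgroupBlockCoeff (Subgroup.centralizer (P : Set G)) e x₀)) :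
    ∃ g : Set (IrrCharacter (Subgroup.centralizer (R : Set G))), IsNormalSubpair p M P e R g := by
  classical
  have hMp : M.IsPrime := hM.2.1.isPrime
  have hMtop := hMp.ne_top
  have := Fintype.ofFinite ↥(Subgroup.centralizer (P : Set G))
  have := Fintype.ofFinite ↥(Subgroup.centralizer (R : Set G))
  have hCK : Subgroup.centralizer (R : Set G) ≤ Subgroup.centralizer (P : Set G) :=
    Subgroup.centralizer_le hPR
  have hg := brGood_sbc (M := M) hCK he hst
  obtain ⟨u, hu⟩ : ∃ u : G → ℂ, u = subgroupBlockCoeff (Subgroup.centralizer (P : Set G)) e :=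
    ⟨_, rfl⟩
  rw [← hu] at hg hne
  have huu : cconv u u = u := by rw [hu, sbc_cconv, Set.inter_self]
  obtain ⟨ε, hε⟩ : ∃ ε : ↥(Subgroup.centralizer (R : Set G)) → ℂ,
    ε = brRes R (Subgroup.centralizer (R : Set G)) u := ⟨_, rfl⟩
  have hε_cf : IsClassFunction ↥(Subgroup.centralizer (R : Set G)) ε := by
    rw [hε]
    exact brRes_isClassFunction_of_conjInv hg.invC
  have hε_R : ∀ h, MemLocalRing M (ε h) := by
    rw [hε]
    exact brRes_memLocalRing hMtop R _ hg.loc
  have hε_id : ∀ h, MemLocalIdeal M (cconv ε ε h - ε h) := by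
    intro h
    have h1 := brRes_cconv_sub_inv hM hR le_rfl hg.invP hg.loc hg.invP hg.loc h
    rw [huu, ← hε] at h1
    have h2 := memLocalIdeal_neg h1
    rwa [neg_sub] at h2
  have hεx : ¬ MemLocalIdeal M (ε ⟨x₀, hx₀⟩) := by
    rw [hε]
    unfold brRes
    rw [if_pos hx₀]
    exact hne
  obtain ⟨ψ, hψ⟩ := exists_omega_not_mem_of_idem ε hε_cf hε_R hε_id ⟨x₀, hx₀⟩ hεx
  have hψ1 : MemLocalIdeal M (brOmega R (Subgroup.centralizer (R : Set G))
      (ψ : ↥(Subgroup.centralizer (R : Set G)) → ℂ) u - 1) := by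
    rcases brOmega_idem hM hR ψ hg huu with h0 | h1
    · exfalso
      apply hψ
      unfold brOmega at h0
      rw [hε]
      exact h0
    · exact h1
  refine ⟨blockOf M (ψ : ↥(Subgroup.centralizer (R : Set G)) → ℂ),
    ⟨hR.to_le hPR, he⟩, ⟨hR, ⟨ψ, rfl⟩⟩, hPR, hRN, hst, ?_⟩
  intro ξ hξ
  rw [brauerOmega_eq, ← hu]
  have h3 := brOmega_congr_block (M := M) (P := R) hξ hg
  have e1 : brOmega R (Subgroup.centralizer (R : Set G))
      (ξ : ↥(Subgroup.centralizer (R : Set G)) → ℂ) u - 1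
      = (brOmega R (Subgroup.centralizer (R : Set G))
        (ψ : ↥(Subgroup.centralizer (R : Set G)) → ℂ) u - 1)
      - (brOmega R (Subgroup.centralizer (R : Set G))
        (ψ : ↥(Subgroup.centralizer (R : Set G)) → ℂ) u
        - brOmega R (Subgroup.centralizer (R : Set G))
        (ξ : ↥(Subgroup.centralizer (R : Set G)) → ℂ) u) := by ring
  rw [e1]
  exact memLocalIdeal_sub hψ1 h3

end BPairC

end Cfsg.Agent.helper24
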