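import Mathlib
import Cfsg.Agent.Lib_helper24_BPair3

/-!
Brauer pairs (helper24), part 4: pairs below a pair of a block are pairs of the same block.
-/

set_option autoImplicit false

namespace Cfsg.Agent.helper24

open Cfsg Cfsg.Agent.helper5 Cfsg.Agent.helper8
open scoped ComplexConjugate

universe u

section BPairD

variable {G : Type u} [Group G] [Fintype G] {M : Ideal AlgInt} {p : ℕ} [Fact p.Prime]

/-- going up along a normal inclusion -/
theorem brauerPairOf_of_normalSubpair (hM : IsPModular p M) {P Q : Subgroup G}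
    {e : Set (IrrCharacter (Subgroup.centralizer (P : Set G)))}
    {f : Set (IrrCharacter (Subgroup.centralizer (Q : Set G)))}
    (h : IsNormalSubpair p M Q f P e) (B : Set (IrrCharacter G))
    (hB : IsBrauerPairOf p M B Q f) : IsBrauerPairOf p M B P e := by
  classical
  have hMp : M.IsPrime := hM.2.1.isPrime
  have hMtop := hMp.ne_top
  have := Fintype.ofFinite ↥(Subgroup.centralizer (P : Set G))
  have := Fintype.ofFinite ↥(Subgroup.centralizer (Q : Set G))
  obtain ⟨hQf, hPe, hQP, hPN, hst, hbr⟩ := h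
  obtain ⟨-, hBblk, hBf⟩ := hB
  have hCK : Subgroup.centralizer (P : Set G) ≤ Subgroup.centralizer (Q : Set G) :=
    Subgroup.centralizer_le hQP
  have hB_cf := blockCoeff_isClassFunction B
  have hB_R : ∀ g, MemLocalRing M (blockCoeff B g) := blockCoeff_memLocalRing_of_isPBlock hBblk
  have hBB : cconv (blockCoeff B) (blockCoeff B) = blockCoeff B := by
    rw [cconv_blockCoeff, Set.inter_self]
  obtain ⟨z, hz⟩ : ∃ z : ↥(Subgroup.centralizer (Q : Set G)) → ℂ,
    z = brRes Q (Subgroup.centralizer (Q : Set G)) (blockCoeff B) := ⟨_, rfl⟩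
  have hz_cf : IsClassFunction ↥(Subgroup.centralizer (Q : Set G)) z := by
    rw [hz]
    exact brRes_isClassFunction (Subgroup.centralizer_le_normalizer _) hB_cf
  have hz_R : ∀ k, MemLocalRing M (z k) := by
    rw [hz]
    exact brRes_memLocalRing hMtop Q _ hB_R
  have hz_id : ∀ k, MemLocalIdeal M (cconv z z k - z k) := by
    intro k
    have h1 := brRes_cconv_sub hM hQf.1 le_rfl hB_cf hB_R hB_cf hB_R k
    rw [hBB, ← hz] at h1
    have h2 := memLocalIdeal_neg h1
    rwa [neg_sub] at h2
  have hzω : ∀ θ ∈ f, MemLocalIdeal M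
      (omegaFn (θ : ↥(Subgroup.centralizer (Q : Set G)) → ℂ) z - 1) := by
    intro θ hθ
    have h1 := hBf θ hθ
    rw [brauerOmega_eq] at h1
    unfold brOmega at h1
    rw [← hz] at h1
    exact h1
  have habs := idem_absorb hz_cf hz_R hz_id f hQf.2 hzω
  obtain ⟨z', hz'⟩ : ∃ z' : G → ℂ, z' = extZ (Subgroup.centralizer (Q : Set G)) z := ⟨_, rfl⟩
  have hz'val : ∀ g ∈ Subgroup.centralizer (Q : Set G), z' g = blockCoeff B g := by
    intro g hg
    rw [hz', extZ_of_mem _ _ hg, hz]
    unfold brRes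
    simp only [hg, if_true]
  have hz'P : ConjInv P z' := by
    intro s hs g
    have hsN := Cfsg.Agent.helper1.normalizer_le_normalizer_centralizer Q (hPN hs)
    by_cases hg : g ∈ Subgroup.centralizer (Q : Set G)
    · have hg' : s * g * s⁻¹ ∈ Subgroup.centralizer (Q : Set G) :=
        (Subgroup.mem_normalizer_iff.1 hsN g).1 hg
      rw [hz'val _ hg', hz'val _ hg, hB_cf]
    · have hg' : s * g * s⁻¹ ∉ Subgroup.centralizer (Q : Set G) :=
        fun h => hg ((Subgroup.mem_normalizer_iff.1 hsN g).2 h)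
      rw [hz', extZ_of_not_mem _ _ hg, extZ_of_not_mem _ _ hg']
  have hz'C : ConjInv (Subgroup.centralizer (P : Set G)) z' := by
    rw [hz']
    exact conjInv_mono hCK (conjInv_extZ _ hz_cf)
  have hz'R : ∀ g, MemLocalRing M (z' g) := by
    intro g
    by_cases hg : g ∈ Subgroup.centralizer (Q : Set G)
    · rw [hz'val _ hg]
      exact hB_R g
    · rw [hz', extZ_of_not_mem _ _ hg]
      exact memLocalRing_zero hMtop
  have hgz : BrGood M P z' := ⟨hz'P, hz'C, hz'R⟩
  have hgf : BrGood M P (subgroupBlockCoeff (Subgroup.centralizer (Q : Set G)) f) :=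
    brGood_sbc hCK hQf.2 hst
  refine ⟨hPe, hBblk, ?_⟩
  intro ξ hξ
  rw [brauerOmega_eq]
  have hi : brOmega P (Subgroup.centralizer (P : Set G))
      (ξ : ↥(Subgroup.centralizer (P : Set G)) → ℂ) (blockCoeff B)
      = brOmega P (Subgroup.centralizer (P : Set G))
      (ξ : ↥(Subgroup.centralizer (P : Set G)) → ℂ) z' := by
    unfold brOmega
    congr 1
    funext c
    unfold brRes
    rw [if_pos c.2, if_pos c.2, hz'val _ (hCK c.2)]
  rw [hi]
  have hii := brOmega_mul hM hPe.1 ξ hgz hgf
  have hiii : MemLocalIdeal M (brOmega P (Subgroup.centralizer (P : Set G))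
      (ξ : ↥(Subgroup.centralizer (P : Set G)) → ℂ)
        (cconv z' (subgroupBlockCoeff (Subgroup.centralizer (Q : Set G)) f))
      - brOmega P (Subgroup.centralizer (P : Set G))
      (ξ : ↥(Subgroup.centralizer (P : Set G)) → ℂ)
        (subgroupBlockCoeff (Subgroup.centralizer (Q : Set G)) f)) := by
    apply brOmega_congr_vals ξ (conjInv_cconv hgz.invC hgf.invC) hgf.invC
    intro g hg
    rw [hz', sbc_eq_extZ, ← extZ_cconv, extZ_of_mem _ _ (hCK hg), extZ_of_mem _ _ (hCK hg)]
    exact habs _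
  have hiv := hbr ξ hξ
  rw [brauerOmega_eq] at hiv
  have hl := brOmega_memLocalRing ξ hgz
  obtain ⟨a, ha⟩ : ∃ a : ℂ, a = brOmega P (Subgroup.centralizer (P : Set G))
      (ξ : ↥(Subgroup.centralizer (P : Set G)) → ℂ) z' := ⟨_, rfl⟩
  obtain ⟨b, hb⟩ : ∃ b : ℂ, b = brOmega P (Subgroup.centralizer (P : Set G))
      (ξ : ↥(Subgroup.centralizer (P : Set G)) → ℂ)
        (subgroupBlockCoeff (Subgroup.centralizer (Q : Set G)) f) := ⟨_, rfl⟩
  obtain ⟨c, hc⟩ : ∃ c : ℂ, c = brOmega P (Subgroup.centralizer (P : Set G))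
      (ξ : ↥(Subgroup.centralizer (P : Set G)) → ℂ)
        (cconv z' (subgroupBlockCoeff (Subgroup.centralizer (Q : Set G)) f)) := ⟨_, rfl⟩
  rw [← ha, ← hb, ← hc] at hii
  rw [← hb, ← hc] at hiii
  rw [← hb] at hiv
  rw [← ha] at hl ⊢
  have e1 : a - 1 = -(a * (b - 1)) - (c - a * b) + (c - b) + (b - 1) := by ring
  rw [e1]
  exact memLocalIdeal_add (memLocalIdeal_add (memLocalIdeal_sub
    (memLocalIdeal_neg (memLocalIdeal_mul_left hl hiv)) hii) hiii) hiv

/-- going down along a normal inclusion -/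
theorem brauerPairOf_of_normalSubpair' (hM : IsPModular p M) {P Q : Subgroup G}
    {e : Set (IrrCharacter (Subgroup.centralizer (P : Set G)))}
    {f : Set (IrrCharacter (Subgroup.centralizer (Q : Set G)))}
    (h : IsNormalSubpair p M Q f P e) (B : Set (IrrCharacter G))
    (hB : IsBrauerPairOf p M B P e) : IsBrauerPairOf p M B Q f := by
  obtain ⟨B', hB', -⟩ := brauer_pair_unique_block p M hM Q f h.1
  have h1 := brauerPairOf_of_normalSubpair hM h B' hB'
  have h2 := (brauer_pair_unique_block p M hM P e h.2.1).unique h1 hB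
  rw [← h2]
  exact hB'

/-- pairs below one another belong to the same block -/
theorem brauerPairOf_iff_of_subpairLE (hM : IsPModular p M) {P Q : Subgroup G}
    {e : Set (IrrCharacter (Subgroup.centralizer (P : Set G)))}
    {f : Set (IrrCharacter (Subgroup.centralizer (Q : Set G)))}
    (hle : SubpairLE p M Q f P e) (B : Set (IrrCharacter G)) :
    IsBrauerPairOf p M B P e ↔ IsBrauerPairOf p M B Q f := by
  have key : ∀ b : BrauerPairIdx G,
      Relation.ReflTransGen (NormalSubpairRel p M) ⟨Q, f⟩ b →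
        (IsBrauerPairOf p M B b.1 b.2 ↔ IsBrauerPairOf p M B Q f) := by
    intro b hb
    induction hb with
    | refl => exact Iff.rfl
    | tail _ hstep ih =>
      exact ⟨fun h => ih.1 (brauerPairOf_of_normalSubpair' hM hstep B h),
        fun h => brauerPairOf_of_normalSubpair hM hstep B (ih.2 h)⟩
  exact key ⟨P, e⟩ hle

end BPairD

end Cfsg.Agent.helper24
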