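import Mathlib
import Cfsg.Agent.Lib_helper24_Fong5

/-!
Fong's theorem (helper24), part 6: relative form, for a subgroup `T` stabilizing a block of a
normal subgroup `N ≤ T`.
-/

set_option autoImplicit false

namespace Cfsg.Agent.helper24

open Cfsg Cfsg.Agent.helper5 Cfsg.Agent.helper8
open scoped ComplexConjugate

universe u

section setting

variable {G : Type u} [Group G] [Fintype G] {M : Ideal AlgInt}
  (N T : Subgroup G) [hN : N.Normal] [Fintype N] [Fintype T] (b : Set (IrrCharacter N))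

omit [Fintype G] hN in
/-- covering in the two languages -/
theorem cover_transport_iff (hNT : N ≤ T) [Fintype ↥(N.subgroupOf T)] (ψ : T → ℂ)
    (θ : IrrCharacter N) :
    classInner (fun n : ↥(N.subgroupOf T) => ψ (n : T))
      (fun n : ↥(N.subgroupOf T) => (θ : N → ℂ) (Subgroup.subgroupOfEquivOfLe hNT n))
      = classInner (resNT N T hNT ψ) (θ : N → ℂ) := by
  rw [← Cfsg.Agent.helper12.classInner_comp_mulEquiv (Subgroup.subgroupOfEquivOfLe hNT)
    (resNT N T hNT ψ) (θ : N → ℂ)]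
  rfl

/-- Fong's theorem, relative form -/
theorem fong_relative (p : ℕ) [Fact p.Prime] (hM : IsPModular p M) (hNT : N ≤ T)
    (hb : IsPBlock M b)
    (hstab : ∀ g ∈ T, ∀ θ ∈ b, ∀ θ' : IrrCharacter N,
      (∀ n : N, (θ' : N → ℂ) n = (θ : N → ℂ) ⟨g * n * g⁻¹, hN.conj_mem n n.2 g⟩) → θ' ∈ b)
    (B' : Set (IrrCharacter T)) (hB' : IsPBlock M B')
    (hcov : ∃ ψ ∈ B', ∃ θ ∈ b, classInner (resNT N T hNT (ψ : T → ℂ)) (θ : N → ℂ) ≠ 0)
    (hmax : ∀ B'' : Set (IrrCharacter T), IsPBlock M B'' →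
      (∃ ψ ∈ B'', ∃ θ ∈ b, classInner (resNT N T hNT (ψ : T → ℂ)) (θ : N → ℂ) ≠ 0) →
      blockDefect p B'' ≤ blockDefect p B') :
    blockDefect p B' = blockDefect p b + (N.relIndex T).factorization p := by
  classical
  have hMp : M.IsPrime := hM.2.1.isPrime
  have := Fintype.ofFinite ↥(N.subgroupOf T)
  have hN' : (N.subgroupOf T).Normal := Subgroup.normal_subgroupOf
  obtain ⟨e, he⟩ : ∃ e : ↥(N.subgroupOf T) ≃* ↥N, e = Subgroup.subgroupOfEquivOfLe hNT :=
    ⟨_, rfl⟩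
  have hecoe : ∀ n : ↥(N.subgroupOf T), ((e n : N) : G) = ((n : T) : G) := by
    intro n
    rw [he]
    rfl
  have hc' := isPBlock_transportSet (M := M) e b hb
  have hinv' : ∀ g : T, ∀ φ ∈ transportSet e b, ∀ φ' : IrrCharacter ↥(N.subgroupOf T),
      (∀ n : ↥(N.subgroupOf T), (φ' : ↥(N.subgroupOf T) → ℂ) n
        = (φ : ↥(N.subgroupOf T) → ℂ) ⟨g * n * g⁻¹, hN'.conj_mem n n.2 g⟩) →
      φ' ∈ transportSet e b := by
    rintro g φ ⟨θ, hθ, hφ⟩ φ' h
    have hθ' : irrTransport e.symm φ' ∈ b := by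
      apply hstab (g : G) g.2 θ hθ
      intro n
      rw [irrTransport_apply, h (e.symm n), hφ]
      refine congrArg (θ : N → ℂ) (Subtype.ext ?_)
      rw [hecoe]
      show (g : G) * (((e.symm n : ↥(N.subgroupOf T)) : T) : G) * (g : G)⁻¹ = _
      rw [← hecoe (e.symm n), MulEquiv.apply_symm_apply]
    refine ⟨irrTransport e.symm φ', hθ', ?_⟩
    funext x
    rw [irrTransport_apply, MulEquiv.symm_apply_apply]
  have hcovtr : ∀ B'' : Set (IrrCharacter T),
      (∃ ψ ∈ B'', ∃ φ ∈ transportSet e b,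
        classInner (fun n : ↥(N.subgroupOf T) => (ψ : T → ℂ) n)
          (φ : ↥(N.subgroupOf T) → ℂ) ≠ 0) ↔
      (∃ ψ ∈ B'', ∃ θ ∈ b, classInner (resNT N T hNT (ψ : T → ℂ)) (θ : N → ℂ) ≠ 0) := by
    intro B''
    constructor
    · rintro ⟨ψ, hψ, φ, ⟨θ, hθ, hφ⟩, hne⟩
      refine ⟨ψ, hψ, θ, hθ, ?_⟩
      rw [hφ, he, cover_transport_iff N T hNT] at hne
      exact hne
    · rintro ⟨ψ, hψ, θ, hθ, hne⟩
      refine ⟨ψ, hψ, irrTransport e θ, (mem_transportSet_iff e b θ).2 hθ, ?_⟩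
      rw [← cover_transport_iff N T hNT] at hne
      rw [he]
      exact hne
  obtain ⟨P, hP⟩ := exists_defectGroup p M hM B' hB'
  have h1 := (fong_theorem (N.subgroupOf T) (transportSet e b) p hM hc' hinv' B' hB'
    ((hcovtr B').2 hcov) (fun B'' hB'' hc'' => hmax B'' hB'' ((hcovtr B'').1 hc'')) P hP).2.2
  rw [h1, blockDefect_transportSet]
  rfl

end setting

end Cfsg.Agent.helper24
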