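import Mathlib
import Cfsg.Agent.Lib_helper24_Fong6

/-!
Fong's theorem (helper24), part 7: the defect group of the block induced from `P C_G(P)`.
-/

set_option autoImplicit false

namespace Cfsg.Agent.helper24

open Cfsg Cfsg.Agent.helper5 Cfsg.Agent.helper8
open scoped ComplexConjugate

universe u

variable {G : Type u} [Group G] [Fintype G] {M : Ideal AlgInt}

set_option maxHeartbeats 1600000 in
/-- a block `b` of `P C_G(P)` with defect group `P` induces a block of `G` with defect group `P`
iff the stabilizer of `b` in `N_G(P)` has index prime to `p` over `P C_G(P)` -/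
theorem defect_iff_stab_index (p : ℕ) [Fact p.Prime] (hM : IsPModular p M) (P : Subgroup G)
    (hP : IsPGroup p P) [Fintype ↥(P ⊔ Subgroup.centralizer (P : Set G))]
    (b : Set (IrrCharacter ↥(P ⊔ Subgroup.centralizer (P : Set G)))) (hb : IsPBlock M b)
    (hbP : IsDefectGroup p M b (P.subgroupOf (P ⊔ Subgroup.centralizer (P : Set G))))
    (B : Set (IrrCharacter G))
    (hind : IsInducedBlock M (P ⊔ Subgroup.centralizer (P : Set G)) b B) (T : Subgroup G)
    (hT : ∀ g : G, g ∈ T ↔ (g ∈ Subgroup.normalizer (P : Set G) ∧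
      ∀ θ ∈ b, ∀ θ' : IrrCharacter ↥(P ⊔ Subgroup.centralizer (P : Set G)),
        (∀ h h' : ↥(P ⊔ Subgroup.centralizer (P : Set G)), (h' : G) = g * h * g⁻¹ →
          (θ' : ↥(P ⊔ Subgroup.centralizer (P : Set G)) → ℂ) h'
            = (θ : ↥(P ⊔ Subgroup.centralizer (P : Set G)) → ℂ) h) → θ' ∈ b)) :
    IsDefectGroup p M B P ↔ ¬ p ∣ (P ⊔ Subgroup.centralizer (P : Set G)).relIndex T := by
  classical
  have hMp : M.IsPrime := hM.2.1.isPrime
  have hMtop := hMp.ne_top
  have hp : p.Prime := Fact.out
  have hLN := sup_centralizer_le_normalizer P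
  have hPN : P ≤ Subgroup.normalizer (P : Set G) := Subgroup.le_normalizer
  have := Fintype.ofFinite ↥(Subgroup.normalizer (P : Set G))
  have := Fintype.ofFinite ↥((P ⊔ Subgroup.centralizer (P : Set G)).subgroupOf
    (Subgroup.normalizer (P : Set G)))
  have hQn : (P.subgroupOf (Subgroup.normalizer (P : Set G))).Normal :=
    Subgroup.normal_subgroupOf_of_le_normalizer le_rfl
  have hYn := normal_subgroupOf_sup_centralizer P
  have hQp : IsPGroup p (P.subgroupOf (Subgroup.normalizer (P : Set G))) := hP.comap_subtype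
  -- step 1: the block of the normalizer
  obtain ⟨e₀, he₀⟩ : ∃ e₀ : ↥((P ⊔ Subgroup.centralizer (P : Set G)).subgroupOf
      (Subgroup.normalizer (P : Set G))) ≃* ↥(P ⊔ Subgroup.centralizer (P : Set G)),
      e₀ = Subgroup.subgroupOfEquivOfLe hLN := ⟨_, rfl⟩
  have hecoe : ∀ n : ↥((P ⊔ Subgroup.centralizer (P : Set G)).subgroupOf
      (Subgroup.normalizer (P : Set G))),
      ((e₀ n : ↥(P ⊔ Subgroup.centralizer (P : Set G))) : G)
        = ((n : ↥(Subgroup.normalizer (P : Set G))) : G) := by
    intro n
    rw [he₀]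
    rfl
  have hc := isPBlock_transportSet (M := M) e₀ b hb
  obtain ⟨β, hβ, hcovβ⟩ := exists_covering_block M hMtop
    ((P ⊔ Subgroup.centralizer (P : Set G)).subgroupOf (Subgroup.normalizer (P : Set G)))
    (transportSet e₀ b) hc
  have hind₁ := induced_of_covering p M hM (P.subgroupOf (Subgroup.normalizer (P : Set G)))
    ((P ⊔ Subgroup.centralizer (P : Set G)).subgroupOf (Subgroup.normalizer (P : Set G)))
    hQp (centralizer_subgroupOf_le P) _ hc β hβ hcovβ
  have j : IsInducedBlock M (Subgroup.normalizer (P : Set G)) β B := by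
    have h2 := hind₁
    rw [he₀] at h2
    exact induced_trans_transport hLN b β B hind h2
  -- step 2: the stabilizer
  have hTN : T ≤ Subgroup.normalizer (P : Set G) := fun g hg => ((hT g).1 hg).1
  have hLT : P ⊔ Subgroup.centralizer (P : Set G) ≤ T := by
    intro l hl
    rw [hT]
    refine ⟨hLN hl, ?_⟩
    intro θ hθ θ' h
    have hθeq : θ' = θ := by
      apply Subtype.ext
      funext h'
      rw [h ((⟨l, hl⟩ : ↥(P ⊔ Subgroup.centralizer (P : Set G)))⁻¹ * h' * ⟨l, hl⟩) h' (by
        simp only [Subgroup.coe_mul, Subgroup.coe_inv]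
        group)]
      have h3 := char_isClassFunction (irr_isCharacter θ.2) h'
        ((⟨l, hl⟩ : ↥(P ⊔ Subgroup.centralizer (P : Set G)))⁻¹)
      rw [inv_inv] at h3
      exact h3
    rw [hθeq]
    exact hθ
  have := Fintype.ofFinite ↥(T.subgroupOf (Subgroup.normalizer (P : Set G)))
  have hYT : (P ⊔ Subgroup.centralizer (P : Set G)).subgroupOf (Subgroup.normalizer (P : Set G))
      ≤ T.subgroupOf (Subgroup.normalizer (P : Set G)) :=
    fun y hy => Subgroup.mem_subgroupOf.2 (hLT (Subgroup.mem_subgroupOf.1 hy))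
  have hT_FR : ∀ g : ↥(Subgroup.normalizer (P : Set G)),
      g ∈ T.subgroupOf (Subgroup.normalizer (P : Set G)) ↔
      ∀ φ ∈ transportSet e₀ b, ∀ φ' : IrrCharacter ↥((P ⊔ Subgroup.centralizer (P : Set G)).subgroupOf
        (Subgroup.normalizer (P : Set G))),
        (∀ n : ↥((P ⊔ Subgroup.centralizer (P : Set G)).subgroupOf
          (Subgroup.normalizer (P : Set G))),
          (φ' : ↥((P ⊔ Subgroup.centralizer (P : Set G)).subgroupOf (Subgroup.normalizer (P : Set G))) → ℂ) n
            = (φ : ↥((P ⊔ Subgroup.centralizer (P : Set G)).subgroupOf (Subgroup.normalizer (P : Set G))) → ℂ) ⟨g * n * g⁻¹, hYn.conj_mem n n.2 g⟩) →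
        φ' ∈ transportSet e₀ b := by
    intro g
    constructor
    · rintro hg φ ⟨θ, hθ, hφ⟩ φ' h
      have hg' : (g : G)⁻¹ ∈ T := T.inv_mem (Subgroup.mem_subgroupOf.1 hg)
      have hθ' : irrTransport e₀.symm φ' ∈ b := by
        apply ((hT _).1 hg').2 θ hθ
        intro x x' hxx'
        rw [irrTransport_apply, h (e₀.symm x'), hφ]
        refine congrArg (θ : ↥(P ⊔ Subgroup.centralizer (P : Set G)) → ℂ) (Subtype.ext ?_)
        rw [hecoe]
        show (g : G) * (((e₀.symm x' : ↥((P ⊔ Subgroup.centralizer (P : Set G)).subgroupOf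
          (Subgroup.normalizer (P : Set G)))) : ↥(Subgroup.normalizer (P : Set G))) : G)
            * (g : G)⁻¹ = _
        rw [← hecoe (e₀.symm x'), MulEquiv.apply_symm_apply, hxx']
        group
      refine ⟨irrTransport e₀.symm φ', hθ', ?_⟩
      funext x
      rw [irrTransport_apply, MulEquiv.symm_apply_apply]
    · intro hcond
      rw [Subgroup.mem_subgroupOf]
      have h1 : (g : G)⁻¹ ∈ T := by
        rw [hT]
        refine ⟨Subgroup.inv_mem _ g.2, ?_⟩
        intro θ hθ θ' h
        have h2 := hcond (irrTransport e₀ θ) ((mem_transportSet_iff e₀ b θ).2 hθ)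
          (irrTransport e₀ θ') (by
            intro n
            rw [irrTransport_apply, irrTransport_apply]
            apply h
            rw [hecoe, hecoe]
            show ((n : ↥(Subgroup.normalizer (P : Set G))) : G)
              = (g : G)⁻¹ * ((g : G) * ((n : ↥(Subgroup.normalizer (P : Set G))) : G)
                * (g : G)⁻¹) * ((g : G)⁻¹)⁻¹
            group)
        exact (mem_transportSet_iff e₀ b θ').1 h2
      have h3 := T.inv_mem h1
      rwa [inv_inv] at h3
  -- step 3: Fong–Reynolds in the normalizer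
  obtain ⟨B', hB', hcovB', hindB'⟩ := fr_block_surj
    ((P ⊔ Subgroup.centralizer (P : Set G)).subgroupOf (Subgroup.normalizer (P : Set G)))
    (T.subgroupOf (Subgroup.normalizer (P : Set G))) (transportSet e₀ b) p hM hYT hc hT_FR
    β hβ hcovβ
  have hdh := (fr_defect_height
    ((P ⊔ Subgroup.centralizer (P : Set G)).subgroupOf (Subgroup.normalizer (P : Set G)))
    (T.subgroupOf (Subgroup.normalizer (P : Set G))) (transportSet e₀ b) p hM hYT hc hT_FR
    B' hB' hcovB' β hindB').1
  obtain ⟨D', hD'⟩ := exists_defectGroup p M hM B' hB'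
  have hdefeq : blockDefect p B' = blockDefect p β := by
    have h1 := card_defectGroup p M hM B' hB' D' hD'
    have h2 := card_defectGroup p M hM β hβ _ (hdh D' hD')
    rw [Subgroup.card_map_of_injective (Subgroup.subtype_injective _), h1] at h2
    exact Nat.pow_right_injective hp.two_le h2
  -- step 4: `B'` is the only block of the stabilizer covering the transported block
  have hmax : ∀ B'' : Set (IrrCharacter ↥(T.subgroupOf (Subgroup.normalizer (P : Set G)))),
      IsPBlock M B'' →
      (∃ ψ ∈ B'', ∃ θ ∈ transportSet e₀ b,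
        classInner (resNT ((P ⊔ Subgroup.centralizer (P : Set G)).subgroupOf
          (Subgroup.normalizer (P : Set G))) (T.subgroupOf (Subgroup.normalizer (P : Set G)))
          hYT (ψ : ↥(T.subgroupOf (Subgroup.normalizer (P : Set G))) → ℂ))
          (θ : ↥((P ⊔ Subgroup.centralizer (P : Set G)).subgroupOf (Subgroup.normalizer (P : Set G))) → ℂ) ≠ 0) →
      blockDefect p B'' ≤ blockDefect p B' := by
    intro B'' hB'' hcov''
    have m := fr_main
      ((P ⊔ Subgroup.centralizer (P : Set G)).subgroupOf (Subgroup.normalizer (P : Set G)))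
      (T.subgroupOf (Subgroup.normalizer (P : Set G))) (transportSet e₀ b) p hM hYT hc hT_FR
      B'' hB'' hcov''
    have hS := induced_of_covering p M hM (P.subgroupOf (Subgroup.normalizer (P : Set G)))
      ((P ⊔ Subgroup.centralizer (P : Set G)).subgroupOf (Subgroup.normalizer (P : Set G)))
      hQp (centralizer_subgroupOf_le P) _ hc _ m.1.2.1 m.2.2.2
    have hSβ := induced_block_unique _ hS hind₁
    have m1 := m.1
    rw [hSβ] at m1
    have heq := fr_block_inj
      ((P ⊔ Subgroup.centralizer (P : Set G)).subgroupOf (Subgroup.normalizer (P : Set G)))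
      (T.subgroupOf (Subgroup.normalizer (P : Set G))) (transportSet e₀ b) p hM hYT hc hT_FR
      B'' B' hB'' hB' hcov'' hcovB' β m1 hindB'
    rw [heq]
  -- step 5: Fong's theorem
  have hfong := fong_relative
    ((P ⊔ Subgroup.centralizer (P : Set G)).subgroupOf (Subgroup.normalizer (P : Set G)))
    (T.subgroupOf (Subgroup.normalizer (P : Set G))) (transportSet e₀ b) p hM hYT hc
    (fun g hg => (hT_FR g).1 hg) B' hB' hcovB' hmax
  rw [blockDefect_transportSet, Subgroup.relIndex_subgroupOf hTN, hdefeq] at hfong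
  have hcb := card_defectGroup p M hM b hb _ hbP
  rw [card_subgroupOf_of_le le_sup_left] at hcb
  have hr0 : (P ⊔ Subgroup.centralizer (P : Set G)).relIndex T ≠ 0 :=
    Subgroup.index_ne_zero_of_finite
  obtain ⟨Dβ, hDβ⟩ := exists_defectGroup p M hM β hβ
  have hcβ := card_defectGroup p M hM β hβ Dβ hDβ
  -- step 6
  constructor
  · intro hBP
    have h := defectGroup_of_induced_local p M hM hPN le_rfl β B j hBP Dβ hDβ
    have h4 : Nat.card Dβ = Nat.card P := by
      have h9 : Nat.card (Dβ.map (Subgroup.normalizer (P : Set G)).subtype) = Nat.card Dβ :=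
        Subgroup.card_map_of_injective (Subgroup.subtype_injective _)
      rw [← h9]
      exact congrArg (fun X : Subgroup G => Nat.card X) h
    have h5 : p ^ blockDefect p β = p ^ blockDefect p b := by rw [← hcβ, h4, hcb]
    have h6 := Nat.pow_right_injective hp.two_le h5
    intro hdvd
    have h7 := (hp.dvd_iff_one_le_factorization hr0).1 hdvd
    omega
  · intro hnd
    have hν := Nat.factorization_eq_zero_of_not_dvd hnd
    have hle := subgroupOf_le_defectGroup p M hM hP le_rfl β hβ Dβ hDβ
    have hQeq : P.subgroupOf (Subgroup.normalizer (P : Set G)) = Dβ := by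
      apply Subgroup.eq_of_le_of_card_ge hle
      rw [hcβ, card_subgroupOf_of_le hPN, hcb, hfong, hν, add_zero]
    rw [← hQeq] at hDβ
    obtain ⟨B₂, hB₂, hB₂P, hB₂ind⟩ := first_main_exists p M hM P hP β hβ hDβ
    have h8 := induced_block_unique _ hB₂ind j
    rw [← h8]
    exact hB₂P

end Cfsg.Agent.helper24
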