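import Mathlib
import Cfsg.Agent.Lib_helper24_BPair4
import Cfsg.Agent.Lib_helper24_Fong7

/-!
Brauer pairs (helper24), part 5: block stabilizers, coefficients of covered blocks on the
centralizer of a defect group, induced blocks from Brauer pairs.
-/

set_option autoImplicit false

namespace Cfsg.Agent.helper24

open Cfsg Cfsg.Agent.helper5 Cfsg.Agent.helper8
open scoped ComplexConjugate

universe u

section TransportFun

variable {H₁ H₂ H₃ : Type u} [Group H₁] [Group H₂] [Group H₃]

theorem transportSet_refl (b : Set (IrrCharacter H₁)) :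
    transportSet (MulEquiv.refl H₁) b = b := by
  ext φ
  constructor
  · rintro ⟨θ, hθ, hφ⟩
    have : φ = θ := Subtype.ext hφ
    rw [this]
    exact hθ
  · intro hφ
    exact ⟨φ, hφ, rfl⟩

theorem transportSet_trans (e₁ : H₁ ≃* H₂) (e₂ : H₂ ≃* H₃) (b : Set (IrrCharacter H₃)) :
    transportSet (e₁.trans e₂) b = transportSet e₁ (transportSet e₂ b) := by
  ext φ
  constructor
  · rintro ⟨θ, hθ, hφ⟩
    refine ⟨irrTransport e₂ θ, (mem_transportSet_iff e₂ b θ).2 hθ, ?_⟩
    rw [hφ]
    rfl
  · rintro ⟨ψ, ⟨θ, hθ, hψ⟩, hφ⟩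
    refine ⟨θ, hθ, ?_⟩
    rw [hφ, hψ]
    rfl

end TransportFun

section BlockStab

variable {X : Type u} [Group X]

/-- the stabilizer of a set of irreducible characters of a normal subgroup -/
def blockStab (Y : Subgroup X) [hY : Y.Normal] (c : Set (IrrCharacter Y)) : Subgroup X where
  carrier := {g | transportSet (MulAut.conjNormal g : Y ≃* Y) c = c}
  one_mem' := by
    show transportSet (MulAut.conjNormal (1 : X) : Y ≃* Y) c = c
    rw [map_one, MulAut.one_def]
    exact transportSet_refl c
  mul_mem' := by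
    intro g h hg hh
    show transportSet (MulAut.conjNormal (g * h) : Y ≃* Y) c = c
    have hg' : transportSet (MulAut.conjNormal g : Y ≃* Y) c = c := hg
    have hh' : transportSet (MulAut.conjNormal h : Y ≃* Y) c = c := hh
    rw [map_mul, MulAut.mul_def, transportSet_trans, hg', hh']
  inv_mem' := by
    intro g hg
    show transportSet (MulAut.conjNormal g⁻¹ : Y ≃* Y) c = c
    have hg' : transportSet (MulAut.conjNormal g : Y ≃* Y) c = c := hg
    rw [map_inv, MulAut.inv_def]
    conv_lhs => rw [← hg']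
    exact transportSet_symm (MulAut.conjNormal g : Y ≃* Y).symm c

theorem mem_blockStab_iff {M : Ideal AlgInt} [hMp : M.IsPrime] [Finite X] (Y : Subgroup X)
    [hY : Y.Normal] (c : Set (IrrCharacter Y)) (hc : IsPBlock M c) (g : X) :
    g ∈ blockStab Y c ↔ ∀ φ ∈ c, ∀ φ' : IrrCharacter Y,
      (∀ n : Y, (φ' : Y → ℂ) n = (φ : Y → ℂ) ⟨g * n * g⁻¹, hY.conj_mem n n.2 g⟩) → φ' ∈ c := by
  have := Fintype.ofFinite X
  have := Fintype.ofFinite Y
  constructor
  · intro h φ hφ φ' hφ'
    have h' : transportSet (MulAut.conjNormal g : Y ≃* Y) c = c := h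
    rw [← h']
    refine ⟨φ, hφ, ?_⟩
    funext n
    rw [hφ' n]
    show _ = (φ : Y → ℂ) ((MulAut.conjNormal g : Y ≃* Y) n)
    rw [fr_conjNormal_eq]
  · intro h
    show transportSet (MulAut.conjNormal g : Y ≃* Y) c = c
    have hsub : transportSet (MulAut.conjNormal g : Y ≃* Y) c ⊆ c := by
      rintro φ ⟨θ, hθ, hφ⟩
      apply h θ hθ φ
      intro n
      rw [hφ]
      show (θ : Y → ℂ) ((MulAut.conjNormal g : Y ≃* Y) n) = _
      rw [fr_conjNormal_eq]
    have hblk := isPBlock_transportSet (M := M) (MulAut.conjNormal g : Y ≃* Y) c hc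
    obtain ⟨φ, hφ⟩ := isPBlock_nonempty hblk
    exact isPBlock_eq_of_mem hblk hc hφ (hsub hφ)

end BlockStab

section Induced

variable {G : Type u} [Group G] [Fintype G] {M : Ideal AlgInt} {p : ℕ} [Fact p.Prime]

omit [Fintype G] in
theorem inducedCentralChar_centralizer (P : Subgroup G)
    (ξ : ↥(Subgroup.centralizer (P : Set G)) → ℂ) (g : G) :
    inducedCentralChar (Subgroup.centralizer (P : Set G)) ξ g
      = brauerCentralChar P (Subgroup.centralizer (P : Set G)) ξ g := by
  have hset : {h : ↥(Subgroup.centralizer (P : Set G)) | IsConj g (h : G)}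
      = {h : ↥(Subgroup.centralizer (P : Set G)) | IsConj g (h : G) ∧
        (h : G) ∈ Subgroup.centralizer (P : Set G)} := by
    ext h
    simp only [Set.mem_setOf_eq]
    constructor
    · intro h1
      exact ⟨h1, h.2⟩
    · intro h1
      exact h1.1
  unfold inducedCentralChar brauerCentralChar
  rw [hset]

/-- a Brauer pair of `B` induces `B` -/
theorem induced_of_brauerPair (hM : IsPModular p M) {P : Subgroup G}
    {e : Set (IrrCharacter (Subgroup.centralizer (P : Set G)))} {B : Set (IrrCharacter G)}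
    (h : IsBrauerPairOf p M B P e) :
    IsInducedBlock M (Subgroup.centralizer (P : Set G)) e B := by
  classical
  have hMp : M.IsPrime := hM.2.1.isPrime
  have hMtop := hMp.ne_top
  have := Fintype.ofFinite ↥(Subgroup.centralizer (P : Set G))
  obtain ⟨⟨hP, he⟩, hB, hbr⟩ := h
  refine ⟨he, hB, ?_⟩
  intro ξ hξ χ hχ g
  obtain ⟨χ₁, hχ₁⟩ := brauer_central_char_exists p M hM hP le_rfl
    (Subgroup.centralizer_le_normalizer _) ξ
  have h1 := hχ₁ (blockCoeff B) (blockCoeff_isClassFunction B)
    (blockCoeff_memLocalRing_of_isPBlock hB)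
  rw [omegaFn_blockCoeff] at h1
  have h0 := hbr ξ hξ
  rw [brauerOmega_eq] at h0
  have hχ₁B : χ₁ ∈ B := by
    by_contra hne
    rw [if_neg hne, sub_zero] at h1
    have h3 := memLocalIdeal_sub h1 h0
    rw [sub_sub_cancel] at h3
    exact not_memLocalIdeal_one h3
  have h2 := hχ₁ (classInd g) (classInd_isClassFunction g) (classInd_memLocalRing hMtop g)
  rw [omegaFn_classInd (irr_isCharacter χ₁.2), ← brauerCentralChar_eq,
    ← inducedCentralChar_centralizer] at h2
  have hs : SameBlock M (χ₁ : G → ℂ) (χ : G → ℂ) := by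
    rw [← blockOf_eq_of_mem hB hχ₁B] at hχ
    exact hχ
  have h4 := hs g
  have e1 : inducedCentralChar (Subgroup.centralizer (P : Set G))
      (ξ : ↥(Subgroup.centralizer (P : Set G)) → ℂ) g - centralChar (χ : G → ℂ) g
      = (inducedCentralChar (Subgroup.centralizer (P : Set G))
      (ξ : ↥(Subgroup.centralizer (P : Set G)) → ℂ) g - centralChar (χ₁ : G → ℂ) g)
      + (centralChar (χ₁ : G → ℂ) g - centralChar (χ : G → ℂ) g) := by ring
  rw [e1]
  exact memLocalIdeal_add h2 h4

end Induced

end Cfsg.Agent.helper24
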