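import Mathlib
import Cfsg.Agent.Lib_helper24_BPair5

/-!
Brauer pairs (helper24), part 6: the idempotent of a stable covered block does not vanish on the
centralizer of a defect group of a covering block.
-/

set_option autoImplicit false

namespace Cfsg.Agent.helper24

open Cfsg Cfsg.Agent.helper5 Cfsg.Agent.helper8
open scoped ComplexConjugate

universe u

section setting

variable {G : Type u} [Group G] [Fintype G] {M : Ideal AlgInt}
  (N T : Subgroup G) [hN : N.Normal] [Fintype N] [Fintype T] (b : Set (IrrCharacter N))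

set_option maxHeartbeats 800000 in
/-- the idempotent of a `T`-stable block `b` of `N ≤ T` takes a unit value at some element of `N`
centralizing a given defect group of a block of `T` covering `b` -/
theorem fr_defect_coeff (p : ℕ) [Fact p.Prime] (hM : IsPModular p M) (hNT : N ≤ T)
    (hb : IsPBlock M b)
    (hstab : ∀ g ∈ T, ∀ θ ∈ b, ∀ θ' : IrrCharacter N,
      (∀ n : N, (θ' : N → ℂ) n = (θ : N → ℂ) ⟨g * n * g⁻¹, hN.conj_mem n n.2 g⟩) → θ' ∈ b)
    (B' : Set (IrrCharacter T)) (hB' : IsPBlock M B')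
    (hcov : ∃ ψ ∈ B', ∃ θ ∈ b, classInner (resNT N T hNT (ψ : T → ℂ)) (θ : N → ℂ) ≠ 0)
    (D : Subgroup T) (hD : IsDefectGroup p M B' D) :
    ∃ n₀ : N, (∀ d ∈ D, ((d : T) : G) * (n₀ : G) = (n₀ : G) * ((d : T) : G)) ∧
      ¬ MemLocalIdeal M (blockCoeff b n₀) := by
  classical
  have hMp : M.IsPrime := hM.2.1.isPrime
  have hMtop := hMp.ne_top
  have := Fintype.ofFinite ↥(N.subgroupOf T)
  have hN' : (N.subgroupOf T).Normal := Subgroup.normal_subgroupOf
  obtain ⟨e, he⟩ : ∃ e : ↥(N.subgroupOf T) ≃* ↥N, e = Subgroup.subgroupOfEquivOfLe hNT :=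
    ⟨_, rfl⟩
  have hecoe : ∀ n : ↥(N.subgroupOf T), ((e n : N) : G) = ((n : T) : G) := by
    intro n
    rw [he]
    rfl
  have hc' := isPBlock_transportSet (M := M) e b hb
  have hinv' : ∀ g : T, ∀ φ ∈ transportSet e b, ∀ φ' : IrrCharacter ↥(N.subgroupOf T),
      (∀ n : ↥(N.subgroupOf T), (φ' : ↥(N.subgroupOf T) → ℂ) n
        = (φ : ↥(N.subgroupOf T) → ℂ) ⟨g * n * g⁻¹, hN'.conj_mem n n.2 g⟩) →
      φ' ∈ transportSet e b := by
    rintro g φ ⟨θ, hθ, hφ⟩ φ' h
    have hθ' : irrTransport e.symm φ' ∈ b := by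
      apply hstab (g : G) g.2 θ hθ
      intro n
      rw [irrTransport_apply, h (e.symm n), hφ]
      refine congrArg (θ : N → ℂ) (Subtype.ext ?_)
      rw [hecoe]
      show (g : G) * (((e.symm n : ↥(N.subgroupOf T)) : T) : G) * (g : G)⁻¹ = _
      rw [← hecoe (e.symm n), MulEquiv.apply_symm_apply]
    refine ⟨irrTransport e.symm φ', hθ', ?_⟩
    funext x
    rw [irrTransport_apply, MulEquiv.symm_apply_apply]
  have hcov' : ∃ ψ ∈ B', ∃ φ ∈ transportSet e b,
        classInner (fun n : ↥(N.subgroupOf T) => (ψ : T → ℂ) n)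
          (φ : ↥(N.subgroupOf T) → ℂ) ≠ 0 := by
    obtain ⟨ψ, hψ, θ, hθ, hne⟩ := hcov
    refine ⟨ψ, hψ, irrTransport e θ, (mem_transportSet_iff e b θ).2 hθ, ?_⟩
    rw [← cover_transport_iff N T hNT] at hne
    rw [he]
    exact hne
  have hE_cf := fg_E_isClassFunction (M := M) (N.subgroupOf T) (transportSet e b) hc' hinv'
  have hE_R := fg_E_memLocalRing (M := M) (N.subgroupOf T) (transportSet e b) hc'
  have hcc := fg_cconv (M := M) (N.subgroupOf T) (transportSet e b) hc' hinv' B' hB' hcov'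
  obtain ⟨t₀, hdef, Syl, hDeq⟩ := hD
  have hDp : IsPGroup p D := by
    rw [hDeq]
    exact Syl.isPGroup'.map _
  have ht₀ : t₀ ∈ Subgroup.centralizer (D : Set T) := by
    rw [Subgroup.mem_centralizer_iff]
    intro d hd
    rw [hDeq] at hd
    obtain ⟨d', -, rfl⟩ := hd
    have h1 := Subgroup.mem_centralizer_singleton_iff.1 d'.2
    exact h1
  have := Fintype.ofFinite ↥(Subgroup.centralizer (D : Set T))
  have h1 := brRes_cconv_sub hM hDp (le_refl (Subgroup.centralizer (D : Set T)))
    (blockCoeff_isClassFunction B') (blockCoeff_memLocalRing_of_isPBlock hB') hE_cf hE_R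
    ⟨t₀, ht₀⟩
  rw [hcc] at h1
  by_contra hcon
  push Not at hcon
  have hall : ∀ h : ↥(Subgroup.centralizer (D : Set T)),
      MemLocalIdeal M (brRes D (Subgroup.centralizer (D : Set T))
        (extendByZero (N.subgroupOf T) (blockCoeff (transportSet e b))) h) := by
    intro h
    unfold brRes
    rw [if_pos h.2]
    by_cases hh : (h : T) ∈ N.subgroupOf T
    · rw [extendByZero_of_mem (N.subgroupOf T) _ _ hh, blockCoeff_transportSet]
      apply hcon (e ⟨h, hh⟩)
      intro d hd
      rw [hecoe]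
      have h2 := Subgroup.mem_centralizer_iff.1 h.2 d hd
      exact congrArg Subtype.val h2
    · rw [extendByZero_of_not_mem (N.subgroupOf T) _ _ hh]
      exact memLocalIdeal_zero hMtop
  have h2 := cconv_memLocalIdeal_right (M := M)
    (u := brRes D (Subgroup.centralizer (D : Set T)) (blockCoeff B'))
    (brRes_memLocalRing hMtop D _ (blockCoeff_memLocalRing_of_isPBlock hB')) hall ⟨t₀, ht₀⟩
  have h3 : brRes D (Subgroup.centralizer (D : Set T)) (blockCoeff B') ⟨t₀, ht₀⟩
      = blockCoeff B' t₀ := by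
    unfold brRes
    rw [if_pos ht₀]
  rw [h3] at h1
  apply hdef.2.1
  have h4 := memLocalIdeal_add h1 h2
  rwa [sub_add_cancel] at h4

end setting

end Cfsg.Agent.helper24
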