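import Mathlib
import Cfsg.Agent.Lib_helper24_BPair6

/-!
Brauer pairs (helper24), part 7: the subgroup of a maximal Brauer pair is a defect group.
-/

set_option autoImplicit false

namespace Cfsg.Agent.helper24

open Cfsg Cfsg.Agent.helper5 Cfsg.Agent.helper8
open scoped ComplexConjugate

universe u

variable {G : Type u} [Group G] [Fintype G] {M : Ideal AlgInt}

set_option maxHeartbeats 1600000 in
/-- the subgroup of a maximal Brauer pair of `B` is a defect group of `B` -/
theorem maximal_pair_defectGroup (p : ℕ) [Fact p.Prime] (hM : IsPModular p M)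
    (B : Set (IrrCharacter G)) (P : Subgroup G)
    (e : Set (IrrCharacter (Subgroup.centralizer (P : Set G))))
    (hmax : IsMaximalBrauerPair p M B P e) : IsDefectGroup p M B P := by
  classical
  have hMp : M.IsPrime := hM.2.1.isPrime
  have hMtop := hMp.ne_top
  have hpair := hmax.1
  have hP : IsPGroup p P := hpair.1.1
  have he : IsPBlock M e := hpair.1.2
  have hB : IsPBlock M B := hpair.2.1
  have hCN : Subgroup.centralizer (P : Set G) ≤ Subgroup.normalizer (P : Set G) :=
    Subgroup.centralizer_le_normalizer _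
  have hPN : P ≤ Subgroup.normalizer (P : Set G) := Subgroup.le_normalizer
  have := Fintype.ofFinite ↥(Subgroup.normalizer (P : Set G))
  have := Fintype.ofFinite ↥(Subgroup.centralizer (P : Set G))
  have := Fintype.ofFinite ↥((Subgroup.centralizer (P : Set G)).subgroupOf
    (Subgroup.normalizer (P : Set G)))
  have hQn : (P.subgroupOf (Subgroup.normalizer (P : Set G))).Normal :=
    Subgroup.normal_subgroupOf_of_le_normalizer le_rfl
  have hYn : ((Subgroup.centralizer (P : Set G)).subgroupOf
      (Subgroup.normalizer (P : Set G))).Normal :=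
    Subgroup.normal_subgroupOf_of_le_normalizer
      (fun g hg => Cfsg.Agent.helper1.normalizer_le_normalizer_centralizer P hg)
  have hQp : IsPGroup p (P.subgroupOf (Subgroup.normalizer (P : Set G))) := hP.comap_subtype
  obtain ⟨e₀, he₀⟩ : ∃ e₀ : ↥((Subgroup.centralizer (P : Set G)).subgroupOf
      (Subgroup.normalizer (P : Set G))) ≃* ↥(Subgroup.centralizer (P : Set G)),
      e₀ = Subgroup.subgroupOfEquivOfLe hCN := ⟨_, rfl⟩
  have hecoe : ∀ n : ↥((Subgroup.centralizer (P : Set G)).subgroupOf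
      (Subgroup.normalizer (P : Set G))),
      ((e₀ n : ↥(Subgroup.centralizer (P : Set G))) : G)
        = ((n : ↥(Subgroup.normalizer (P : Set G))) : G) := by
    intro n
    rw [he₀]
    rfl
  have hc := isPBlock_transportSet (M := M) e₀ e he
  -- the stabilizer
  obtain ⟨T', hT'⟩ : ∃ T' : Subgroup ↥(Subgroup.normalizer (P : Set G)),
      T' = blockStab ((Subgroup.centralizer (P : Set G)).subgroupOf
        (Subgroup.normalizer (P : Set G))) (transportSet e₀ e) := ⟨_, rfl⟩
  have hT_FR : ∀ g : ↥(Subgroup.normalizer (P : Set G)), g ∈ T' ↔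
      ∀ φ ∈ transportSet e₀ e, ∀ φ' : IrrCharacter ↥((Subgroup.centralizer (P : Set G)).subgroupOf
        (Subgroup.normalizer (P : Set G))),
        (∀ n : ↥((Subgroup.centralizer (P : Set G)).subgroupOf
          (Subgroup.normalizer (P : Set G))),
          (φ' : ↥((Subgroup.centralizer (P : Set G)).subgroupOf
            (Subgroup.normalizer (P : Set G))) → ℂ) n
            = (φ : ↥((Subgroup.centralizer (P : Set G)).subgroupOf
            (Subgroup.normalizer (P : Set G))) → ℂ) ⟨g * n * g⁻¹, hYn.conj_mem n n.2 g⟩) →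
        φ' ∈ transportSet e₀ e := by
    intro g
    rw [hT']
    exact mem_blockStab_iff (M := M) _ _ hc g
  have := Fintype.ofFinite ↥T'
  have hYT : (Subgroup.centralizer (P : Set G)).subgroupOf (Subgroup.normalizer (P : Set G))
      ≤ T' := by
    intro y hy
    rw [hT_FR]
    intro φ hφ φ' h
    have hφeq : φ' = φ := by
      apply Subtype.ext
      funext n
      rw [h n]
      exact char_isClassFunction (irr_isCharacter φ.2) n ⟨y, hy⟩
    rw [hφeq]
    exact hφ
  have hPT : P.subgroupOf (Subgroup.normalizer (P : Set G)) ≤ T' := by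
    intro s hs
    rw [hT_FR]
    intro φ hφ φ' h
    have hφeq : φ' = φ := by
      apply Subtype.ext
      funext n
      rw [h n]
      refine congrArg (φ : ↥((Subgroup.centralizer (P : Set G)).subgroupOf
        (Subgroup.normalizer (P : Set G))) → ℂ) (Subtype.ext (Subtype.ext ?_))
      show (s : G) * ((n : ↥(Subgroup.normalizer (P : Set G))) : G) * (s : G)⁻¹
        = ((n : ↥(Subgroup.normalizer (P : Set G))) : G)
      have hn : ((n : ↥(Subgroup.normalizer (P : Set G))) : G)
          ∈ Subgroup.centralizer (P : Set G) := Subgroup.mem_subgroupOf.1 n.2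
      have h1 := Subgroup.mem_centralizer_iff.1 hn (s : G) (Subgroup.mem_subgroupOf.1 hs)
      rw [h1]
      group
    rw [hφeq]
    exact hφ
  -- a block of the stabilizer covering the transported block
  obtain ⟨θ, hθ⟩ := isPBlock_nonempty hc
  obtain ⟨χf, hχf, hχθ⟩ := Cfsg.Agent.helper12.exists_irr_over
    ((Subgroup.centralizer (P : Set G)).subgroupOf (Subgroup.normalizer (P : Set G))) θ.2
  obtain ⟨ψ, hψcov, -⟩ := fr_exists_ind (M := M)
    ((Subgroup.centralizer (P : Set G)).subgroupOf (Subgroup.normalizer (P : Set G))) T'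
    (transportSet e₀ e) hYT hc hT_FR hχf ⟨θ, hθ, hχθ⟩
  obtain ⟨β, hβdef⟩ : ∃ β : Set (IrrCharacter ↥T'), β = blockOf M (ψ : ↥T' → ℂ) := ⟨_, rfl⟩
  have hβ : IsPBlock M β := ⟨ψ, hβdef⟩
  have hψβ : ψ ∈ β := by
    rw [hβdef]
    exact sameBlock_refl M hMtop _
  have hcovβ : ∃ ψ ∈ β, ∃ θ ∈ transportSet e₀ e,
      classInner (resNT ((Subgroup.centralizer (P : Set G)).subgroupOf
        (Subgroup.normalizer (P : Set G))) T' hYT (ψ : ↥T' → ℂ))
        (θ : ↥((Subgroup.centralizer (P : Set G)).subgroupOf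
        (Subgroup.normalizer (P : Set G))) → ℂ) ≠ 0 := ⟨ψ, hψβ, hψcov⟩
  obtain ⟨D, hD⟩ := exists_defectGroup p M hM β hβ
  have hT'N : T' ≤ Subgroup.normalizer
      ((P.subgroupOf (Subgroup.normalizer (P : Set G)) :
        Subgroup ↥(Subgroup.normalizer (P : Set G))) :
        Set ↥(Subgroup.normalizer (P : Set G))) := by
    exact le_of_le_of_eq le_top (Subgroup.normalizer_eq_top
      (H := P.subgroupOf (Subgroup.normalizer (P : Set G)))).symm
  have hP''D : (P.subgroupOf (Subgroup.normalizer (P : Set G))).subgroupOf T' ≤ D :=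
    subgroupOf_le_defectGroup p M hM hQp hT'N β hβ D hD
  -- the image of `D` in `G`
  obtain ⟨φ, hφdef⟩ : ∃ φ : ↥T' →* G,
      φ = (Subgroup.normalizer (P : Set G)).subtype.comp T'.subtype := ⟨_, rfl⟩
  have hφval : ∀ t : ↥T', φ t = ((t : ↥(Subgroup.normalizer (P : Set G))) : G) := by
    intro t
    rw [hφdef]
    rfl
  obtain ⟨R, hRdef⟩ : ∃ R : Subgroup G, R = D.map φ := ⟨_, rfl⟩
  have hRp : IsPGroup p R := by
    rw [hRdef]
    exact (defectGroup_isPGroup p M β D hD).map _
  have hPR : P ≤ R := by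
    intro s hs
    rw [hRdef]
    have hs1 : (⟨s, hPN hs⟩ : ↥(Subgroup.normalizer (P : Set G)))
        ∈ P.subgroupOf (Subgroup.normalizer (P : Set G)) := Subgroup.mem_subgroupOf.2 hs
    have hs2 : (⟨⟨s, hPN hs⟩, hPT hs1⟩ : ↥T')
        ∈ (P.subgroupOf (Subgroup.normalizer (P : Set G))).subgroupOf T' :=
      Subgroup.mem_subgroupOf.2 hs1
    exact ⟨⟨⟨s, hPN hs⟩, hPT hs1⟩, hP''D hs2, by rw [hφval]⟩
  have hRN : R ≤ Subgroup.normalizer (P : Set G) := by
    intro x hx
    rw [hRdef] at hx
    obtain ⟨d, -, rfl⟩ := hx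
    rw [hφval]
    exact (d : ↥(Subgroup.normalizer (P : Set G))).2
  have hst : ∀ x ∈ R, StabilizesBlock (Subgroup.centralizer (P : Set G)) e x := by
    intro x hx
    rw [hRdef] at hx
    obtain ⟨d, -, rfl⟩ := hx
    rw [hφval]
    obtain ⟨t, ht⟩ : ∃ t : ↥(Subgroup.normalizer (P : Set G)), t = (d : ↥(Subgroup.normalizer (P : Set G))) :=
      ⟨_, rfl⟩
    rw [← ht]
    have htT : t ∈ T' := by
      rw [ht]
      exact d.2
    have hxN := Cfsg.Agent.helper1.normalizer_le_normalizer_centralizer P t.2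
    refine ⟨hxN, ?_⟩
    intro χ hχ
    refine ⟨irrTransport (Cfsg.Agent.helper1.conjNormalizer
      (Subgroup.centralizer (P : Set G)) (t : G) hxN) χ, ?_, ?_⟩
    · have h1 := (hT_FR t⁻¹).1 (T'.inv_mem htT) (irrTransport e₀ χ)
        ((mem_transportSet_iff e₀ e χ).2 hχ)
        (irrTransport e₀ (irrTransport (Cfsg.Agent.helper1.conjNormalizer
          (Subgroup.centralizer (P : Set G)) (t : G) hxN) χ)) (by
          intro n
          rw [irrTransport_apply, irrTransport_apply, irrTransport_apply]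
          refine congrArg (χ : ↥(Subgroup.centralizer (P : Set G)) → ℂ) (Subtype.ext ?_)
          rw [hecoe]
          show (t : G)⁻¹ * ((e₀ n : ↥(Subgroup.centralizer (P : Set G))) : G) * (t : G)
            = (t : G)⁻¹ * ((n : ↥(Subgroup.normalizer (P : Set G))) : G) * ((t : G)⁻¹)⁻¹
          rw [hecoe, inv_inv])
      exact (mem_transportSet_iff e₀ e _).1 h1
    · intro k k' hk
      rw [irrTransport_apply]
      refine congrArg (χ : ↥(Subgroup.centralizer (P : Set G)) → ℂ) (Subtype.ext ?_)
      show (t : G)⁻¹ * (k' : G) * (t : G) = (k : G)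
      rw [hk]
      group
  -- the idempotent of `e` does not vanish on the centralizer of `R`
  obtain ⟨n₀, hn₀c, hn₀⟩ := fr_defect_coeff (M := M)
    ((Subgroup.centralizer (P : Set G)).subgroupOf (Subgroup.normalizer (P : Set G))) T'
    (transportSet e₀ e) p hM hYT hc (fun g hg => (hT_FR g).1 hg) β hβ hcovβ D hD
  obtain ⟨x₀, hx₀def⟩ : ∃ x₀ : G, x₀ = ((n₀ : ↥(Subgroup.normalizer (P : Set G))) : G) :=
    ⟨_, rfl⟩
  have hx₀C : x₀ ∈ Subgroup.centralizer (P : Set G) := by
    rw [hx₀def]
    exact Subgroup.mem_subgroupOf.1 n₀.2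
  have hx₀R : x₀ ∈ Subgroup.centralizer (R : Set G) := by
    rw [Subgroup.mem_centralizer_iff]
    intro r hr
    rw [hRdef] at hr
    obtain ⟨d, hd, rfl⟩ := hr
    rw [hφval, hx₀def]
    exact congrArg Subtype.val (hn₀c d hd)
  have hne : ¬ MemLocalIdeal M
      (subgroupBlockCoeff (Subgroup.centralizer (P : Set G)) e x₀) := by
    rw [sbc_of_mem _ _ hx₀C]
    rw [blockCoeff_transportSet] at hn₀
    have h1 : e₀ n₀ = ⟨x₀, hx₀C⟩ := by
      apply Subtype.ext
      rw [hecoe]
      exact hx₀def.symm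
    rw [h1] at hn₀
    exact hn₀
  obtain ⟨g, hnorm⟩ := exists_normalSubpair_of_ne hM hRp hPR hRN e he hst x₀ hx₀R hne
  have hBg := brauerPairOf_of_normalSubpair hM hnorm B hpair
  have hRP : R = P := hmax.2 R g hBg (Relation.ReflTransGen.single hnorm)
  -- the defect group of `β`
  have hDP : D.map T'.subtype = P.subgroupOf (Subgroup.normalizer (P : Set G)) := by
    ext y
    constructor
    · rintro ⟨d, hd, rfl⟩
      have h1 : φ d ∈ R := by
        rw [hRdef]
        exact ⟨d, hd, rfl⟩
      rw [hRP, hφval] at h1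
      exact Subgroup.mem_subgroupOf.2 h1
    · intro hy
      have hy2 : (⟨y, hPT hy⟩ : ↥T')
          ∈ (P.subgroupOf (Subgroup.normalizer (P : Set G))).subgroupOf T' :=
        Subgroup.mem_subgroupOf.2 hy
      exact ⟨⟨y, hPT hy⟩, hP''D hy2, rfl⟩
  -- Fong–Reynolds
  have m := fr_main
    ((Subgroup.centralizer (P : Set G)).subgroupOf (Subgroup.normalizer (P : Set G))) T'
    (transportSet e₀ e) p hM hYT hc hT_FR β hβ hcovβ
  obtain ⟨S, hSdef⟩ : ∃ S : Set (IrrCharacter ↥(Subgroup.normalizer (P : Set G))),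
      S = {χ : IrrCharacter ↥(Subgroup.normalizer (P : Set G)) |
        ∃ ψ ∈ β, (χ : ↥(Subgroup.normalizer (P : Set G)) → ℂ) = indFun T' (ψ : ↥T' → ℂ)} :=
    ⟨_, rfl⟩
  rw [← hSdef] at m
  have hS : IsPBlock M S := m.1.2.1
  have hdS := (fr_defect_height
    ((Subgroup.centralizer (P : Set G)).subgroupOf (Subgroup.normalizer (P : Set G))) T'
    (transportSet e₀ e) p hM hYT hc hT_FR β hβ hcovβ S m.1).1 D hD
  rw [hDP] at hdS
  have hcY : Subgroup.centralizer ((P.subgroupOf (Subgroup.normalizer (P : Set G)) :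
      Subgroup ↥(Subgroup.normalizer (P : Set G))) : Set ↥(Subgroup.normalizer (P : Set G))) ≤
      (Subgroup.centralizer (P : Set G)).subgroupOf (Subgroup.normalizer (P : Set G)) := by
    intro x hx
    rw [Subgroup.mem_subgroupOf, Subgroup.mem_centralizer_iff]
    intro s hs
    have h1 := Subgroup.mem_centralizer_iff.1 hx ⟨s, hPN hs⟩ (Subgroup.mem_subgroupOf.2 hs)
    exact congrArg Subtype.val h1
  have hindS := induced_of_covering p M hM (P.subgroupOf (Subgroup.normalizer (P : Set G)))
    ((Subgroup.centralizer (P : Set G)).subgroupOf (Subgroup.normalizer (P : Set G)))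
    hQp hcY _ hc S hS m.2.2.2
  have hindB := induced_of_brauerPair hM hpair
  have j : IsInducedBlock M (Subgroup.normalizer (P : Set G)) S B := by
    have h2 := hindS
    rw [he₀] at h2
    exact induced_trans_transport hCN e S B hindB h2
  obtain ⟨B₂, hB₂, hB₂P, hB₂ind⟩ := first_main_exists p M hM P hP S hS hdS
  have h8 := induced_block_unique _ hB₂ind j
  rw [← h8]
  exact hB₂P

end Cfsg.Agent.helper24
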