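import Mathlib
import Cfsg.Agent.Lib_helper24_BPair7

/-!
Brauer pairs (helper24), part 8: conjugation of Brauer pairs.
-/

set_option autoImplicit false

namespace Cfsg.Agent.helper24

open Cfsg Cfsg.Agent.helper5 Cfsg.Agent.helper8
open scoped ComplexConjugate

universe u

section ConjPairs

variable {G : Type u} [Group G]

theorem conjBlock_eq_transportSet (Q : Subgroup G) (x : G)
    (f : Set (IrrCharacter (Subgroup.centralizer (Q : Set G)))) :
    conjBlock Q x f = transportSet (Cfsg.Agent.helper1.centralizerConjEquiv Q x) f := by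
  ext ξ'
  constructor
  · rintro ⟨ξ, hξ, h⟩
    refine ⟨ξ, hξ, ?_⟩
    funext c'
    apply h (Cfsg.Agent.helper1.centralizerConjEquiv Q x c') c'
    rw [Cfsg.Agent.helper1.centralizerConjEquiv_coe]
    group
  · rintro ⟨ξ, hξ, h⟩
    refine ⟨ξ, hξ, ?_⟩
    intro c c' hc
    rw [h]
    refine congrArg (ξ : ↥(Subgroup.centralizer (Q : Set G)) → ℂ) (Subtype.ext ?_)
    rw [Cfsg.Agent.helper1.centralizerConjEquiv_coe, hc]
    group

theorem mem_conjBlock_transport (Q : Subgroup G) (x : G)
    (f : Set (IrrCharacter (Subgroup.centralizer (Q : Set G))))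
    (ξ : IrrCharacter (Subgroup.centralizer (Q : Set G))) (hξ : ξ ∈ f) :
    irrTransport (Cfsg.Agent.helper1.centralizerConjEquiv Q x) ξ ∈ conjBlock Q x f := by
  rw [conjBlock_eq_transportSet]
  exact (mem_transportSet_iff _ f ξ).2 hξ

theorem brauerOmega_conj (Q : Subgroup G) (x : G) (β β' : G → ℂ)
    (hβ : ∀ c : ↥(Subgroup.centralizer (Q : Set G)), β' (x * (c : G) * x⁻¹) = β c)
    (ξ : ↥(Subgroup.centralizer (Q : Set G)) → ℂ) :
    brauerOmega (Q.map (MulAut.conj x).toMonoidHom) β'
      (fun c' => ξ (Cfsg.Agent.helper1.centralizerConjEquiv Q x c')) = brauerOmega Q β ξ := by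
  unfold brauerOmega
  rw [← finsum_comp_equiv (Cfsg.Agent.helper1.centralizerConjEquiv Q x).symm.toEquiv]
  apply finsum_congr
  intro c
  show β' (((Cfsg.Agent.helper1.centralizerConjEquiv Q x).symm c :
      ↥(Subgroup.centralizer ((Q.map (MulAut.conj x).toMonoidHom : Subgroup G) : Set G))) : G)
    * ξ (Cfsg.Agent.helper1.centralizerConjEquiv Q x
      ((Cfsg.Agent.helper1.centralizerConjEquiv Q x).symm c))
    / ξ (Cfsg.Agent.helper1.centralizerConjEquiv Q x 1) = β c * ξ c / ξ 1
  rw [MulEquiv.apply_symm_apply, map_one, Cfsg.Agent.helper1.centralizerConjEquiv_symm_coe, hβ]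

variable [Fintype G] {M : Ideal AlgInt} {p : ℕ}

theorem brauerPair_conj {Q : Subgroup G}
    {f : Set (IrrCharacter (Subgroup.centralizer (Q : Set G)))} (h : IsBrauerPair p M Q f)
    (x : G) : IsBrauerPair p M (Q.map (MulAut.conj x).toMonoidHom) (conjBlock Q x f) := by
  refine ⟨h.1.map _, ?_⟩
  rw [conjBlock_eq_transportSet]
  exact isPBlock_transportSet _ f h.2

theorem brauerPairOf_conj (B : Set (IrrCharacter G)) {Q : Subgroup G}
    {f : Set (IrrCharacter (Subgroup.centralizer (Q : Set G)))}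
    (h : IsBrauerPairOf p M B Q f) (x : G) :
    IsBrauerPairOf p M B (Q.map (MulAut.conj x).toMonoidHom) (conjBlock Q x f) := by
  obtain ⟨hQf, hB, hbr⟩ := h
  refine ⟨brauerPair_conj hQf x, hB, ?_⟩
  rintro ξ' ⟨ξ, hξ, hc⟩
  have hξ' : (ξ' : ↥(Subgroup.centralizer
      ((Q.map (MulAut.conj x).toMonoidHom : Subgroup G) : Set G)) → ℂ)
      = fun c' => (ξ : ↥(Subgroup.centralizer (Q : Set G)) → ℂ)
        (Cfsg.Agent.helper1.centralizerConjEquiv Q x c') := by
    funext c'
    apply hc
    rw [Cfsg.Agent.helper1.centralizerConjEquiv_coe]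
    group
  rw [hξ', brauerOmega_conj Q x (blockCoeff B) (blockCoeff B)
    (fun c => blockCoeff_isClassFunction B c x)]
  exact hbr ξ hξ

theorem normalSubpair_conj {Q P : Subgroup G}
    {f : Set (IrrCharacter (Subgroup.centralizer (Q : Set G)))}
    {e : Set (IrrCharacter (Subgroup.centralizer (P : Set G)))}
    (h : IsNormalSubpair p M Q f P e) (x : G) :
    IsNormalSubpair p M (Q.map (MulAut.conj x).toMonoidHom) (conjBlock Q x f)
      (P.map (MulAut.conj x).toMonoidHom) (conjBlock P x e) := by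
  classical
  have := Fintype.ofFinite ↥(Subgroup.centralizer (Q : Set G))
  have := Fintype.ofFinite ↥(Subgroup.centralizer
    ((Q.map (MulAut.conj x).toMonoidHom : Subgroup G) : Set G))
  obtain ⟨hQf, hPe, hQP, hPN, hst, hbr⟩ := h
  have hPN' : P.map (MulAut.conj x).toMonoidHom ≤
      Subgroup.normalizer ((Q.map (MulAut.conj x).toMonoidHom : Subgroup G) : Set G) :=
    (Subgroup.map_mono hPN).trans (Subgroup.le_normalizer_map _)
  refine ⟨brauerPair_conj hQf x, brauerPair_conj hPe x, Subgroup.map_mono hQP, hPN', ?_, ?_⟩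
  · rintro y ⟨s, hs, rfl⟩
    refine ⟨Cfsg.Agent.helper1.normalizer_le_normalizer_centralizer _ (hPN' ⟨s, hs, rfl⟩), ?_⟩
    rintro χ' ⟨χ, hχ, hc⟩
    obtain ⟨χ₂, hχ₂, hconj⟩ := (hst s hs).2 χ hχ
    refine ⟨irrTransport (Cfsg.Agent.helper1.centralizerConjEquiv Q x) χ₂,
      mem_conjBlock_transport Q x f χ₂ hχ₂, ?_⟩
    intro k k' hk
    rw [irrTransport_apply]
    rw [hc (Cfsg.Agent.helper1.centralizerConjEquiv Q x k) k (by
      rw [Cfsg.Agent.helper1.centralizerConjEquiv_coe]
      group)]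
    apply hconj
    rw [Cfsg.Agent.helper1.centralizerConjEquiv_coe, Cfsg.Agent.helper1.centralizerConjEquiv_coe, hk]
    show x⁻¹ * (x * s * x⁻¹ * (k : G) * (x * s * x⁻¹)⁻¹) * x = s * (x⁻¹ * (k : G) * x) * s⁻¹
    group
  · rintro ξ' ⟨ξ, hξ, hc⟩
    have hξ' : (ξ' : ↥(Subgroup.centralizer
        ((P.map (MulAut.conj x).toMonoidHom : Subgroup G) : Set G)) → ℂ)
        = fun c' => (ξ : ↥(Subgroup.centralizer (P : Set G)) → ℂ)
          (Cfsg.Agent.helper1.centralizerConjEquiv P x c') := by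
      funext c'
      apply hc
      rw [Cfsg.Agent.helper1.centralizerConjEquiv_coe]
      group
    rw [hξ', brauerOmega_conj P x
      (subgroupBlockCoeff (Subgroup.centralizer (Q : Set G)) f)
      (subgroupBlockCoeff (Subgroup.centralizer
        ((Q.map (MulAut.conj x).toMonoidHom : Subgroup G) : Set G)) (conjBlock Q x f))]
    · exact hbr ξ hξ
    · intro c
      have hcQ : (c : G) ∈ Subgroup.centralizer (Q : Set G) := Subgroup.centralizer_le hQP c.2
      have hcQ' : x * (c : G) * x⁻¹ ∈ Subgroup.centralizer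
          ((Q.map (MulAut.conj x).toMonoidHom : Subgroup G) : Set G) :=
        ((Cfsg.Agent.helper1.centralizerConjEquiv Q x).symm ⟨c, hcQ⟩).2
      rw [sbc_of_mem _ _ hcQ, sbc_of_mem _ _ hcQ', conjBlock_eq_transportSet,
        blockCoeff_transportSet]
      refine congrArg (blockCoeff f) (Subtype.ext ?_)
      rw [Cfsg.Agent.helper1.centralizerConjEquiv_coe]
      show x⁻¹ * (x * (c : G) * x⁻¹) * x = (c : G)
      group

/-- the conjugate of a pair -/
def cjPair (x : G) (a : BrauerPairIdx G) : BrauerPairIdx G :=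
  ⟨a.1.map (MulAut.conj x).toMonoidHom, conjBlock a.1 x a.2⟩

theorem subpairLE_conj {a b : BrauerPairIdx G}
    (h : Relation.ReflTransGen (NormalSubpairRel p M) a b) (x : G) :
    Relation.ReflTransGen (NormalSubpairRel p M) (cjPair x a) (cjPair x b) := by
  induction h with
  | refl => exact Relation.ReflTransGen.refl
  | tail _ hstep ih => exact Relation.ReflTransGen.tail ih (normalSubpair_conj hstep x)

end ConjPairs

end Cfsg.Agent.helper24
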