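import Mathlib
import Cfsg.Agent.Lib_helper24_BPair8
import Cfsg.Agent.Lib_helper24_ExtFirstMain2

/-!
Brauer pairs (helper24), part 9: maximal Brauer pairs of a block are conjugate; every Brauer pair
of a block is conjugate to a pair below a given maximal one.
-/

set_option autoImplicit false

namespace Cfsg.Agent.helper24

open Cfsg Cfsg.Agent.helper5 Cfsg.Agent.helper8
open scoped ComplexConjugate

universe u

section Conj9

variable {G : Type u} [Group G]

/-- conjugation by a normalizing element as an automorphism of `C(P)` -/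
def conjCentEquiv (P : Subgroup G) (n : G) (hn : n ∈ Subgroup.normalizer (P : Set G)) :
    ↥(Subgroup.centralizer (P : Set G)) ≃* ↥(Subgroup.centralizer (P : Set G)) where
  toFun x := ⟨n * (x : G) * n⁻¹, conj_mem_centralizer_of_mem_normalizer hn x.2⟩
  invFun x := ⟨n⁻¹ * (x : G) * n⁻¹⁻¹, conj_mem_centralizer_of_mem_normalizer (inv_mem hn) x.2⟩
  left_inv x := by
    apply Subtype.ext
    show n⁻¹ * (n * (x : G) * n⁻¹) * n⁻¹⁻¹ = (x : G)
    group
  right_inv x := by
    apply Subtype.ext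
    show n * (n⁻¹ * (x : G) * n⁻¹⁻¹) * n⁻¹ = (x : G)
    group
  map_mul' x y := by
    apply Subtype.ext
    show n * ((x : G) * (y : G)) * n⁻¹ = (n * (x : G) * n⁻¹) * (n * (y : G) * n⁻¹)
    group

theorem conjCentEquiv_coe (P : Subgroup G) (n : G) (hn : n ∈ Subgroup.normalizer (P : Set G))
    (x : ↥(Subgroup.centralizer (P : Set G))) :
    ((conjCentEquiv P n hn x : ↥(Subgroup.centralizer (P : Set G))) : G) = n * (x : G) * n⁻¹ :=
  rfl

/-- equality of pairs on equal subgroups -/
theorem pairIdx_ext {A A' : Subgroup G} (h : A = A')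
    (S : Set (IrrCharacter (Subgroup.centralizer (A : Set G))))
    (S' : Set (IrrCharacter (Subgroup.centralizer (A' : Set G))))
    (hS : ∀ θ' : IrrCharacter (Subgroup.centralizer (A' : Set G)), θ' ∈ S' ↔
      ∃ θ ∈ S, ∀ (c : ↥(Subgroup.centralizer (A : Set G)))
        (c' : ↥(Subgroup.centralizer (A' : Set G))), (c : G) = (c' : G) →
        (θ' : ↥(Subgroup.centralizer (A' : Set G)) → ℂ) c'
          = (θ : ↥(Subgroup.centralizer (A : Set G)) → ℂ) c) :
    (⟨A, S⟩ : BrauerPairIdx G) = ⟨A', S'⟩ := by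
  subst h
  have hSS : S = S' := by
    ext θ'
    rw [hS θ']
    constructor
    · intro hθ'
      exact ⟨θ', hθ', fun c c' hc => by rw [Subtype.ext hc]⟩
    · rintro ⟨θ, hθ, hc⟩
      have : θ' = θ := by
        apply Subtype.ext
        funext c
        exact hc c c rfl
      rw [this]
      exact hθ
  rw [hSS]

variable [Fintype G] {M : Ideal AlgInt}

/-- any two defect groups of a block are conjugate -/
theorem defectGroups_conj (p : ℕ) [Fact p.Prime] (hM : IsPModular p M)
    (B : Set (IrrCharacter G)) (hB : IsPBlock M B) {D₁ D₂ : Subgroup G}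
    (h₁ : IsDefectGroup p M B D₁) (h₂ : IsDefectGroup p M B D₂) :
    ∃ x : G, D₁.map (MulAut.conj x).toMonoidHom = D₂ := by
  have hc₁ := card_defectGroup p M hM B hB D₁ h₁
  have hc₂ := card_defectGroup p M hM B hB D₂ h₂
  obtain ⟨g₁, hg₁, S₁, hD₁⟩ := h₁
  obtain ⟨g₂, hg₂, S₂, hD₂⟩ := h₂
  obtain ⟨x, hx⟩ := minmax_a p M hM B hB g₁ hg₁ S₁ g₂ hg₂.2.1 S₂
  rw [← hD₁, ← hD₂] at hx
  refine ⟨x, ?_⟩
  symm
  apply Subgroup.eq_of_le_of_card_ge hx
  have hinj : Function.Injective (MulAut.conj x).toMonoidHom := (MulAut.conj x).injective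
  rw [Subgroup.card_map_of_injective hinj, hc₁, hc₂]

variable {p : ℕ} [Fact p.Prime]

/-- every Brauer pair of `B` lies below a maximal one -/
theorem exists_maximal_above (B : Set (IrrCharacter G)) {Q : Subgroup G}
    {f : Set (IrrCharacter (Subgroup.centralizer (Q : Set G)))}
    (hQf : IsBrauerPairOf p M B Q f) :
    ∃ (P₁ : Subgroup G) (e₁ : Set (IrrCharacter (Subgroup.centralizer (P₁ : Set G)))),
      IsMaximalBrauerPair p M B P₁ e₁ ∧ SubpairLE p M Q f P₁ e₁ := by
  classical
  obtain ⟨S, hS⟩ : ∃ S : Set ℕ, S = {n | ∃ (R : Subgroup G)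
      (g : Set (IrrCharacter (Subgroup.centralizer (R : Set G)))),
      IsBrauerPairOf p M B R g ∧ SubpairLE p M Q f R g ∧ Nat.card R = n} := ⟨_, rfl⟩
  have hne : S.Nonempty := by
    rw [hS]
    exact ⟨Nat.card Q, Q, f, hQf, Relation.ReflTransGen.refl, rfl⟩
  have hsub : S ⊆ Set.Iic (Nat.card G) := by
    rw [hS]
    rintro n ⟨R, g, -, -, rfl⟩
    exact Subgroup.card_le_card_group R
  have hfin : S.Finite := (Set.finite_Iic _).subset hsub
  have hmem := hne.csSup_mem hfin
  have hmem' := (Set.ext_iff.1 hS (sSup S)).1 hmem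
  obtain ⟨R, g, hRg, hle, hcard⟩ := hmem'
  refine ⟨R, g, ⟨hRg, ?_⟩, hle⟩
  intro R' g' hR'g' hle'
  have hRR' : R ≤ R' := Cfsg.Agent.helper1.subpairLE_le hle'
  have h1 : Nat.card R' ∈ S := by
    rw [hS]
    exact ⟨R', g', hR'g', Relation.ReflTransGen.trans hle hle', rfl⟩
  have h2 : Nat.card R' ≤ sSup S := le_csSup hfin.bddAbove h1
  rw [← hcard] at h2
  exact (Subgroup.eq_of_le_of_card_ge hRR' h2).symm

set_option maxHeartbeats 1600000 in
/-- two blocks of `C(P)` inducing a block with defect group `P` are conjugate under `N(P)` -/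
theorem cent_first_main_conj (hM : IsPModular p M)
    (B : Set (IrrCharacter G)) (P : Subgroup G) (hP : IsDefectGroup p M B P)
    (b₁ b₂ : Set (IrrCharacter ↥(Subgroup.centralizer (P : Set G))))
    (i₁ : IsInducedBlock M (Subgroup.centralizer (P : Set G)) b₁ B)
    (i₂ : IsInducedBlock M (Subgroup.centralizer (P : Set G)) b₂ B) :
    ∃ n, ∃ hn : n ∈ Subgroup.normalizer (P : Set G),
      transportSet (conjCentEquiv P n hn) b₁ = b₂ := by
  classical
  have hMp : M.IsPrime := hM.2.1.isPrime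
  have hMtop := hMp.ne_top
  have hPp := defectGroup_isPGroup p M B P hP
  have hCN : Subgroup.centralizer (P : Set G) ≤ Subgroup.normalizer (P : Set G) :=
    Subgroup.centralizer_le_normalizer _
  have hPN : P ≤ Subgroup.normalizer (P : Set G) := Subgroup.le_normalizer
  have := Fintype.ofFinite ↥(Subgroup.normalizer (P : Set G))
  have := Fintype.ofFinite ↥(Subgroup.centralizer (P : Set G))
  have := Fintype.ofFinite ↥((Subgroup.centralizer (P : Set G)).subgroupOf
    (Subgroup.normalizer (P : Set G)))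
  have hQn : (P.subgroupOf (Subgroup.normalizer (P : Set G))).Normal :=
    Subgroup.normal_subgroupOf_of_le_normalizer le_rfl
  have hYn : ((Subgroup.centralizer (P : Set G)).subgroupOf
      (Subgroup.normalizer (P : Set G))).Normal :=
    Subgroup.normal_subgroupOf_of_le_normalizer
      (fun g hg => Cfsg.Agent.helper1.normalizer_le_normalizer_centralizer P hg)
  have hQp : IsPGroup p (P.subgroupOf (Subgroup.normalizer (P : Set G))) := hPp.comap_subtype
  have hcY : Subgroup.centralizer ((P.subgroupOf (Subgroup.normalizer (P : Set G)) :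
      Subgroup ↥(Subgroup.normalizer (P : Set G))) : Set ↥(Subgroup.normalizer (P : Set G))) ≤
      (Subgroup.centralizer (P : Set G)).subgroupOf (Subgroup.normalizer (P : Set G)) := by
    intro x hx
    rw [Subgroup.mem_subgroupOf, Subgroup.mem_centralizer_iff]
    intro s hs
    have h1 := Subgroup.mem_centralizer_iff.1 hx ⟨s, hPN hs⟩ (Subgroup.mem_subgroupOf.2 hs)
    exact congrArg Subtype.val h1
  have key : ∀ b : Set (IrrCharacter ↥(Subgroup.centralizer (P : Set G))),
      IsInducedBlock M (Subgroup.centralizer (P : Set G)) b B →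
      ∃ β : Set (IrrCharacter ↥(Subgroup.normalizer (P : Set G))), IsPBlock M β ∧
        IsInducedBlock M (Subgroup.normalizer (P : Set G)) β B ∧
        ∃ χ ∈ β, ∃ φ ∈ transportSet (Subgroup.subgroupOfEquivOfLe hCN) b,
          classInner (fun n : ↥((Subgroup.centralizer (P : Set G)).subgroupOf
            (Subgroup.normalizer (P : Set G))) =>
              (χ : ↥(Subgroup.normalizer (P : Set G)) → ℂ) n)
            (φ : ↥((Subgroup.centralizer (P : Set G)).subgroupOf
              (Subgroup.normalizer (P : Set G))) → ℂ) ≠ 0 := by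
    intro b hb
    have hc := isPBlock_transportSet (M := M) (Subgroup.subgroupOfEquivOfLe hCN) b hb.1
    obtain ⟨β, hβ, hcov⟩ := exists_covering_block M hMtop
      ((Subgroup.centralizer (P : Set G)).subgroupOf (Subgroup.normalizer (P : Set G)))
      (transportSet (Subgroup.subgroupOfEquivOfLe hCN) b) hc
    have hind := induced_of_covering p M hM (P.subgroupOf (Subgroup.normalizer (P : Set G)))
      ((Subgroup.centralizer (P : Set G)).subgroupOf (Subgroup.normalizer (P : Set G)))
      hQp hcY _ hc β hβ hcov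
    exact ⟨β, hβ, induced_trans_transport hCN b β B hb hind, hcov⟩
  obtain ⟨β₁, hβ₁, j₁, χ₁, hχ₁, φ₁, hφ₁, hne₁⟩ := key b₁ i₁
  obtain ⟨β₂, hβ₂, j₂, χ₂, hχ₂, φ₂, hφ₂, hne₂⟩ := key b₂ i₂
  have hdef : ∀ β : Set (IrrCharacter ↥(Subgroup.normalizer (P : Set G))),
      IsInducedBlock M (Subgroup.normalizer (P : Set G)) β B →
      IsDefectGroup p M β (P.subgroupOf (Subgroup.normalizer (P : Set G))) := by
    intro β j
    obtain ⟨Db, hDb⟩ := exists_defectGroup p M hM β j.1
    have h := defectGroup_of_induced_local p M hM hPN le_rfl β B j hP Db hDb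
    rw [eq_subgroupOf_of_map_eq h] at hDb
    exact hDb
  have hβeq : β₁ = β₂ := first_main_unique p M hM P hPp B β₁ β₂ (hdef β₁ j₁) j₁ j₂
  rw [← hβeq] at hχ₂
  obtain ⟨g, θ', hθ'c, hconj⟩ := Cfsg.Agent.S0964.result p M hM
    ((Subgroup.centralizer (P : Set G)).subgroupOf (Subgroup.normalizer (P : Set G)))
    β₁ hβ₁ (transportSet (Subgroup.subgroupOfEquivOfLe hCN) b₁)
    (isPBlock_transportSet (Subgroup.subgroupOfEquivOfLe hCN) b₁ i₁.1) χ₁ hχ₁ φ₁ hφ₁ hne₁
    χ₂ hχ₂ φ₂ hne₂
  obtain ⟨θ₁', hθ₁'b, hθ'eq⟩ := hθ'c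
  obtain ⟨θ₂, hθ₂b, hφ₂eq⟩ := hφ₂
  refine ⟨(g : G), g.2, ?_⟩
  have hrel : ∀ x : ↥(Subgroup.centralizer (P : Set G)),
      (θ₂ : ↥(Subgroup.centralizer (P : Set G)) → ℂ) x =
        (θ₁' : ↥(Subgroup.centralizer (P : Set G)) → ℂ) (conjCentEquiv P (g : G) g.2 x) := by
    intro x
    have h1 := hconj ((Subgroup.subgroupOfEquivOfLe hCN).symm x)
    rw [hφ₂eq, hθ'eq] at h1
    simp only [MulEquiv.apply_symm_apply] at h1
    rw [h1]
    refine congrArg (θ₁' : ↥(Subgroup.centralizer (P : Set G)) → ℂ) (Subtype.ext ?_)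
    rfl
  have hblk := isPBlock_transportSet (M := M) (conjCentEquiv P (g : G) g.2) b₁ i₁.1
  have hmem : θ₂ ∈ transportSet (conjCentEquiv P (g : G) g.2) b₁ :=
    ⟨θ₁', hθ₁'b, funext hrel⟩
  exact isPBlock_eq_of_mem hblk i₂.1 hmem hθ₂b

end Conj9

end Cfsg.Agent.helper24
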