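import Mathlib
import Cfsg.Agent.Lib_helper24_BPair9

/-!
Brauer pairs (helper24), part 10: conjugacy of maximal Brauer pairs.
-/

set_option autoImplicit false

namespace Cfsg.Agent.helper24

open Cfsg Cfsg.Agent.helper5 Cfsg.Agent.helper8
open scoped ComplexConjugate

universe u

section Conj10

variable {G : Type u} [Group G] [Fintype G] {M : Ideal AlgInt} {p : ℕ} [Fact p.Prime]

omit [Fintype G] in
theorem map_conj_mul_of_normalizer {A₁ : Subgroup G} {y n : G}
    (hn : n ∈ Subgroup.normalizer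
      ((A₁.map (MulAut.conj y).toMonoidHom : Subgroup G) : Set G)) :
    A₁.map (MulAut.conj (n⁻¹ * y)).toMonoidHom = A₁.map (MulAut.conj y).toMonoidHom := by
  ext g
  constructor
  · rintro ⟨s, hs, rfl⟩
    have h1 : y * s * y⁻¹ ∈ A₁.map (MulAut.conj y).toMonoidHom := ⟨s, hs, rfl⟩
    have h2 := (Subgroup.mem_normalizer_iff''.1 hn _).1 h1
    have e : (MulAut.conj (n⁻¹ * y)).toMonoidHom s = n⁻¹ * (y * s * y⁻¹) * n := by
      show (n⁻¹ * y) * s * (n⁻¹ * y)⁻¹ = _
      group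
    rw [e]
    exact h2
  · intro hg
    have h2 := (Subgroup.mem_normalizer_iff.1 hn g).1 hg
    obtain ⟨s, hs, hsg⟩ := h2
    refine ⟨s, hs, ?_⟩
    have hsg' : y * s * y⁻¹ = n * g * n⁻¹ := hsg
    show (n⁻¹ * y) * s * (n⁻¹ * y)⁻¹ = g
    calc (n⁻¹ * y) * s * (n⁻¹ * y)⁻¹ = n⁻¹ * (y * s * y⁻¹) * n := by group
      _ = g := by rw [hsg']; group

set_option maxHeartbeats 1600000 in
/-- two maximal Brauer pairs of a block are conjugate -/
theorem maximal_pairs_conj (hM : IsPModular p M) (B : Set (IrrCharacter G))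
    (P₁ : Subgroup G) (e₁ : Set (IrrCharacter (Subgroup.centralizer (P₁ : Set G))))
    (hmax₁ : IsMaximalBrauerPair p M B P₁ e₁)
    (P : Subgroup G) (e : Set (IrrCharacter (Subgroup.centralizer (P : Set G))))
    (hmax : IsMaximalBrauerPair p M B P e) :
    ∃ x : G, cjPair x (⟨P₁, e₁⟩ : BrauerPairIdx G) = ⟨P, e⟩ := by
  classical
  have hMp : M.IsPrime := hM.2.1.isPrime
  have hB : IsPBlock M B := hmax.1.2.1
  have hD₁ := maximal_pair_defectGroup p hM B P₁ e₁ hmax₁
  have hD := maximal_pair_defectGroup p hM B P e hmax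
  obtain ⟨y, hy⟩ := defectGroups_conj p hM B hB hD₁ hD
  subst hy
  have hpair₂ := brauerPairOf_conj B hmax₁.1 y
  have i₂ := induced_of_brauerPair hM hpair₂
  have i := induced_of_brauerPair hM hmax.1
  obtain ⟨n, hn, htr⟩ := cent_first_main_conj hM B _ hD _ _ i₂ i
  refine ⟨n⁻¹ * y, ?_⟩
  have hA := map_conj_mul_of_normalizer hn
  apply pairIdx_ext hA
  intro θ'
  constructor
  · intro hθ'
    rw [← htr, conjBlock_eq_transportSet] at hθ'
    obtain ⟨η, ⟨ξ, hξ, hη⟩, hθ'η⟩ := hθ'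
    refine ⟨irrTransport (Cfsg.Agent.helper1.centralizerConjEquiv P₁ (n⁻¹ * y)) ξ,
      mem_conjBlock_transport P₁ (n⁻¹ * y) e₁ ξ hξ, ?_⟩
    intro c c' hcc
    rw [hθ'η, hη, irrTransport_apply]
    refine congrArg (ξ : ↥(Subgroup.centralizer (P₁ : Set G)) → ℂ) (Subtype.ext ?_)
    rw [Cfsg.Agent.helper1.centralizerConjEquiv_coe, Cfsg.Agent.helper1.centralizerConjEquiv_coe,
      conjCentEquiv_coe, hcc]
    group
  · rintro ⟨θ, ⟨ξ, hξ, hθξ⟩, hc⟩
    rw [← htr, conjBlock_eq_transportSet]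
    refine ⟨irrTransport (Cfsg.Agent.helper1.centralizerConjEquiv P₁ y) ξ,
      (mem_transportSet_iff _ e₁ ξ).2 hξ, ?_⟩
    funext c'
    have hc'mem : (c' : G) ∈ Subgroup.centralizer
        ((P₁.map (MulAut.conj (n⁻¹ * y)).toMonoidHom : Subgroup G) : Set G) := by
      rw [hA]
      exact c'.2
    rw [hc ⟨c', hc'mem⟩ c' rfl, irrTransport_apply]
    apply hθξ
    rw [Cfsg.Agent.helper1.centralizerConjEquiv_coe, conjCentEquiv_coe]
    show (c' : G) = (n⁻¹ * y) * (y⁻¹ * (n * (c' : G) * n⁻¹) * y) * (n⁻¹ * y)⁻¹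
    group

/-- every Brauer pair of `B` is conjugate to a pair below a given maximal pair -/
theorem pair_conj_below_maximal (hM : IsPModular p M) (B : Set (IrrCharacter G))
    (P Q : Subgroup G) (e : Set (IrrCharacter (Subgroup.centralizer (P : Set G))))
    (f : Set (IrrCharacter (Subgroup.centralizer (Q : Set G))))
    (hmax : IsMaximalBrauerPair p M B P e) (hQf : IsBrauerPairOf p M B Q f) :
    ∃ x : G, SubpairLE p M (Q.map (MulAut.conj x).toMonoidHom) (conjBlock Q x f) P e := by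
  obtain ⟨P₁, e₁, hmax₁, hle⟩ := exists_maximal_above B hQf
  obtain ⟨x, hx⟩ := maximal_pairs_conj hM B P₁ e₁ hmax₁ P e hmax
  refine ⟨x, ?_⟩
  have h1 := subpairLE_conj hle x
  rw [hx] at h1
  exact h1

end Conj10

end Cfsg.Agent.helper24
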