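import Mathlib
import Cfsg.Agent.Lib_helper24_BPair10

/-!
Brauer pairs (helper24), part 11: existence of the normal subpair.
-/

set_option autoImplicit false

namespace Cfsg.Agent.helper24

open Cfsg Cfsg.Agent.helper5 Cfsg.Agent.helper8
open scoped ComplexConjugate

universe u

section BlockAction

variable {G : Type u} [Group G]

theorem conjNormalizer_eq_refl (K : Subgroup G) {g : G}
    (hg : g ∈ Subgroup.normalizer (K : Set G)) (h1 : g = 1) :
    Cfsg.Agent.helper1.conjNormalizer K g hg = MulEquiv.refl K := by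
  subst h1
  apply MulEquiv.ext
  intro c
  apply Subtype.ext
  show (1 : G)⁻¹ * (c : G) * 1 = (c : G)
  group

theorem conjNormalizer_eq_trans (K : Subgroup G) {g s t : G}
    (hg : g ∈ Subgroup.normalizer (K : Set G)) (hs : s ∈ Subgroup.normalizer (K : Set G))
    (ht : t ∈ Subgroup.normalizer (K : Set G)) (h : g = s * t) :
    Cfsg.Agent.helper1.conjNormalizer K g hg
      = (Cfsg.Agent.helper1.conjNormalizer K s hs).trans
        (Cfsg.Agent.helper1.conjNormalizer K t ht) := by
  subst h
  apply MulEquiv.ext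
  intro c
  apply Subtype.ext
  show (s * t)⁻¹ * (c : G) * (s * t) = t⁻¹ * (s⁻¹ * (c : G) * s) * t
  group

/-- the action of a subgroup normalizing `K` on the blocks of `K` -/
@[reducible] def blockAction (M : Ideal AlgInt) (K S : Subgroup G)
    (hSK : ∀ s ∈ S, s ∈ Subgroup.normalizer (K : Set G)) :
    MulAction ↥S {f : Set (IrrCharacter ↥K) // IsPBlock M f} where
  smul s f := ⟨transportSet (Cfsg.Agent.helper1.conjNormalizer K (s : G) (hSK s s.2)) f.1,
    isPBlock_transportSet _ _ f.2⟩
  one_smul f := by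
    apply Subtype.ext
    show transportSet (Cfsg.Agent.helper1.conjNormalizer K ((1 : ↥S) : G) (hSK _ (1 : ↥S).2)) f.1
      = f.1
    rw [conjNormalizer_eq_refl K (hSK _ (1 : ↥S).2) rfl]
    exact transportSet_refl f.1
  mul_smul s t f := by
    apply Subtype.ext
    show transportSet (Cfsg.Agent.helper1.conjNormalizer K ((s * t : ↥S) : G)
        (hSK _ (s * t : ↥S).2)) f.1
      = transportSet (Cfsg.Agent.helper1.conjNormalizer K (s : G) (hSK s s.2))
        (transportSet (Cfsg.Agent.helper1.conjNormalizer K (t : G) (hSK t t.2)) f.1)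
    rw [conjNormalizer_eq_trans K (hSK _ (s * t : ↥S).2) (hSK s s.2) (hSK t t.2) rfl,
      transportSet_trans]

end BlockAction

section SumBlocks

variable {H : Type u} [Group H] [Fintype H] {M : Ideal AlgInt} [hMp : M.IsPrime]

theorem omegaFn_finset_sum {ι : Type*} (s : Finset ι) (χ : H → ℂ) (u : ι → H → ℂ) :
    omegaFn χ (fun h => ∑ i ∈ s, u i h) = ∑ i ∈ s, omegaFn χ (u i) := by
  unfold omegaFn
  rw [← Finset.sum_div]
  congr 1
  rw [Finset.sum_comm]
  refine Finset.sum_congr rfl (fun h _ => ?_)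
  rw [Finset.sum_mul]

include hMp in
/-- the block idempotents sum to one -/
theorem sum_blockCoeff_blocks [Fintype {f : Set (IrrCharacter H) // IsPBlock M f}] (h : H) :
    ∑ f : {f : Set (IrrCharacter H) // IsPBlock M f}, blockCoeff f.1 h = deltaOne H h := by
  classical
  have hcf : IsClassFunction H (fun h => ∑ f : {f : Set (IrrCharacter H) // IsPBlock M f},
      blockCoeff f.1 h) := by
    intro g k
    show ∑ f : {f : Set (IrrCharacter H) // IsPBlock M f}, blockCoeff f.1 (k * g * k⁻¹)
      = ∑ f : {f : Set (IrrCharacter H) // IsPBlock M f}, blockCoeff f.1 g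
    refine Finset.sum_congr rfl (fun f _ => ?_)
    exact blockCoeff_isClassFunction f.1 g k
  have heq := classFunction_ext_omega hcf deltaOne_isClassFunction (by
    intro ψ
    rw [omegaFn_finset_sum, omegaFn_deltaOne (irr_apply_one_ne_zero ψ.2)]
    rw [Finset.sum_eq_single (⟨blockOf M (ψ : H → ℂ), ⟨ψ, rfl⟩⟩ :
      {f : Set (IrrCharacter H) // IsPBlock M f})]
    · rw [omegaFn_blockCoeff]
      have hmem : ψ ∈ blockOf M (ψ : H → ℂ) := sameBlock_refl M hMp.ne_top _
      exact if_pos hmem
    · intro f _ hne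
      rw [omegaFn_blockCoeff, if_neg]
      intro hψ
      apply hne
      apply Subtype.ext
      exact (blockOf_eq_of_mem f.2 hψ).symm
    · intro h
      exact absurd (Finset.mem_univ _) h)
  exact congrFun heq h

end SumBlocks

section Exist

variable {G : Type u} [Group G] [Fintype G] {M : Ideal AlgInt} {p : ℕ} [Fact p.Prime]

set_option maxHeartbeats 1600000 in
/-- existence of the normal subpair -/
theorem exists_normalSubpair (hM : IsPModular p M) (P Q : Subgroup G)
    (e : Set (IrrCharacter (Subgroup.centralizer (P : Set G))))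
    (hPe : IsBrauerPair p M P e) (hQP : Q ≤ P) (hPN : P ≤ Subgroup.normalizer (Q : Set G)) :
    ∃ f : Set (IrrCharacter (Subgroup.centralizer (Q : Set G))),
      IsNormalSubpair p M Q f P e := by
  classical
  have hMp : M.IsPrime := hM.2.1.isPrime
  have hMtop := hMp.ne_top
  have := Fintype.ofFinite ↥(Subgroup.centralizer (P : Set G))
  have := Fintype.ofFinite ↥(Subgroup.centralizer (Q : Set G))
  have := Fintype.ofFinite {f : Set (IrrCharacter ↥(Subgroup.centralizer (Q : Set G))) //
    IsPBlock M f}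
  have hCK : Subgroup.centralizer (P : Set G) ≤ Subgroup.centralizer (Q : Set G) :=
    Subgroup.centralizer_le hQP
  have hSK : ∀ s ∈ P, s ∈ Subgroup.normalizer
      ((Subgroup.centralizer (Q : Set G) : Subgroup G) : Set G) :=
    fun s hs => Cfsg.Agent.helper1.normalizer_le_normalizer_centralizer Q (hPN hs)
  letI act := blockAction M (Subgroup.centralizer (Q : Set G)) P hSK
  have hsmul : ∀ (s : ↥P) (f : {f : Set (IrrCharacter ↥(Subgroup.centralizer (Q : Set G))) //
      IsPBlock M f}), (s • f).1 = transportSet (Cfsg.Agent.helper1.conjNormalizer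
        (Subgroup.centralizer (Q : Set G)) (s : G) (hSK s s.2)) f.1 := fun _ _ => rfl
  obtain ⟨ξ, hξ⟩ := isPBlock_nonempty hPe.2
  -- the sum over the non-fixed blocks lies in the ideal on the centralizer of `P`
  obtain ⟨jf, hjf⟩ : ∃ jf : ↥(Subgroup.centralizer (P : Set G)) → ℂ,
      jf = fun c : ↥(Subgroup.centralizer (P : Set G)) => ∑ f ∈ Finset.univ.filter
        (fun f : {f : Set (IrrCharacter ↥(Subgroup.centralizer (Q : Set G))) // IsPBlock M f} =>
          ∃ s : ↥P, s • f ≠ f), blockCoeff f.1 ⟨(c : G), hCK c.2⟩ := ⟨_, rfl⟩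
  obtain ⟨fi, hfi⟩ : ∃ fi : ↥(Subgroup.centralizer (P : Set G)) → ℂ,
      fi = fun c : ↥(Subgroup.centralizer (P : Set G)) => ∑ f ∈ Finset.univ.filter
        (fun f : {f : Set (IrrCharacter ↥(Subgroup.centralizer (Q : Set G))) // IsPBlock M f} =>
          ¬ ∃ s : ↥P, s • f ≠ f), blockCoeff f.1 ⟨(c : G), hCK c.2⟩ := ⟨_, rfl⟩
  have hjJ : ∀ c, MemLocalIdeal M (jf c) := by
    intro c
    rw [hjf]
    apply Cfsg.Agent.helper1.sum_nonfixed_memLocalIdeal hM hPe.1
      (fun f : {f : Set (IrrCharacter ↥(Subgroup.centralizer (Q : Set G))) // IsPBlock M f} =>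
        blockCoeff f.1 ⟨(c : G), hCK c.2⟩)
    · intro s f
      show blockCoeff (s • f).1 ⟨(c : G), hCK c.2⟩ = blockCoeff f.1 ⟨(c : G), hCK c.2⟩
      rw [hsmul, blockCoeff_transportSet]
      refine congrArg (blockCoeff f.1) (Subtype.ext ?_)
      show (s : G)⁻¹ * (c : G) * (s : G) = (c : G)
      have h1 := Subgroup.mem_centralizer_iff.1 c.2 (s : G) s.2
      rw [mul_assoc, ← h1]
      group
    · intro f
      exact blockCoeff_memLocalRing_of_isPBlock f.2 _
  have hj_cf : IsClassFunction ↥(Subgroup.centralizer (P : Set G)) jf := by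
    intro g k
    rw [hjf]
    refine Finset.sum_congr rfl (fun f _ => ?_)
    exact blockCoeff_isClassFunction f.1 ⟨(g : G), hCK g.2⟩ ⟨(k : G), hCK k.2⟩
  have hsum : ∀ c, fi c + jf c = deltaOne ↥(Subgroup.centralizer (P : Set G)) c := by
    intro c
    rw [hfi, hjf, add_comm]
    have h1 := Finset.sum_filter_add_sum_filter_not Finset.univ
      (fun f : {f : Set (IrrCharacter ↥(Subgroup.centralizer (Q : Set G))) // IsPBlock M f} =>
        ∃ s : ↥P, s • f ≠ f)
      (fun f => blockCoeff f.1 ⟨(c : G), hCK c.2⟩)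
    rw [h1, sum_blockCoeff_blocks]
    unfold deltaOne
    by_cases hc : c = 1
    · rw [if_pos hc, if_pos]
      rw [hc]
      rfl
    · rw [if_neg hc, if_neg]
      intro h
      apply hc
      apply Subtype.ext
      have h2 := congrArg (fun z : ↥(Subgroup.centralizer (Q : Set G)) => (z : G)) h
      exact h2
  have hωj := omegaFn_memLocalIdeal ξ hj_cf hjJ
  have hωsum : omegaFn (ξ : ↥(Subgroup.centralizer (P : Set G)) → ℂ) fi
      + omegaFn (ξ : ↥(Subgroup.centralizer (P : Set G)) → ℂ) jf = 1 := by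
    rw [← omegaFn_add, ← omegaFn_deltaOne (irr_apply_one_ne_zero ξ.2)]
    congr 1
    funext c
    exact hsum c
  have hωfi : omegaFn (ξ : ↥(Subgroup.centralizer (P : Set G)) → ℂ) fi
      = ∑ f ∈ Finset.univ.filter
        (fun f : {f : Set (IrrCharacter ↥(Subgroup.centralizer (Q : Set G))) // IsPBlock M f} =>
          ¬ ∃ s : ↥P, s • f ≠ f),
        brOmega P (Subgroup.centralizer (P : Set G))
          (ξ : ↥(Subgroup.centralizer (P : Set G)) → ℂ)
          (subgroupBlockCoeff (Subgroup.centralizer (Q : Set G)) f.1) := by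
    rw [hfi, omegaFn_finset_sum]
    refine Finset.sum_congr rfl (fun f _ => ?_)
    unfold brOmega
    congr 1
    funext c
    unfold brRes
    rw [if_pos c.2, sbc_of_mem _ _ (hCK c.2)]
  -- some fixed block has value one
  have hex : ∃ f : {f : Set (IrrCharacter ↥(Subgroup.centralizer (Q : Set G))) // IsPBlock M f},
      (¬ ∃ s : ↥P, s • f ≠ f) ∧ ¬ MemLocalIdeal M
        (brOmega P (Subgroup.centralizer (P : Set G))
          (ξ : ↥(Subgroup.centralizer (P : Set G)) → ℂ)
          (subgroupBlockCoeff (Subgroup.centralizer (Q : Set G)) f.1)) := by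
    by_contra hcon
    push Not at hcon
    apply not_memLocalIdeal_one (M := M)
    rw [← hωsum, hωfi]
    apply memLocalIdeal_add _ hωj
    apply memLocalIdeal_sum
    intro f hf
    rw [Finset.mem_filter] at hf
    have hf2 := hf.2
    push Not at hf2
    exact hcon f hf2
  obtain ⟨f, hfix, hfne⟩ := hex
  push Not at hfix
  have hst : ∀ x ∈ P, StabilizesBlock (Subgroup.centralizer (Q : Set G)) f.1 x := by
    intro x hx
    refine ⟨hSK x hx, ?_⟩
    intro χ hχ
    have h1 := hfix ⟨x, hx⟩
    have h2 : transportSet (Cfsg.Agent.helper1.conjNormalizer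
        (Subgroup.centralizer (Q : Set G)) x (hSK x hx)) f.1 = f.1 := by
      rw [← hsmul ⟨x, hx⟩ f, h1]
    refine ⟨irrTransport (Cfsg.Agent.helper1.conjNormalizer
        (Subgroup.centralizer (Q : Set G)) x (hSK x hx)) χ, ?_, ?_⟩
    · rw [← h2]
      exact (mem_transportSet_iff _ f.1 χ).2 hχ
    · intro k k' hk
      rw [irrTransport_apply]
      refine congrArg (χ : ↥(Subgroup.centralizer (Q : Set G)) → ℂ) (Subtype.ext ?_)
      show x⁻¹ * (k' : G) * x = (k : G)
      rw [hk]
      group
  have hgood := brGood_sbc (M := M) hCK f.2 hst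
  have hone : MemLocalIdeal M (brOmega P (Subgroup.centralizer (P : Set G))
      (ξ : ↥(Subgroup.centralizer (P : Set G)) → ℂ)
      (subgroupBlockCoeff (Subgroup.centralizer (Q : Set G)) f.1) - 1) := by
    rcases brOmega_idem hM hPe.1 ξ hgood (by rw [sbc_cconv, Set.inter_self]) with h0 | h1
    · exact absurd h0 hfne
    · exact h1
  refine ⟨f.1, ⟨hPe.1.to_le hQP, f.2⟩, hPe, hQP, hPN, hst, ?_⟩
  intro ξ' hξ'
  rw [brauerOmega_eq]
  have hs : SameBlock M (ξ : ↥(Subgroup.centralizer (P : Set G)) → ℂ)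
      (ξ' : ↥(Subgroup.centralizer (P : Set G)) → ℂ) := by
    rw [← blockOf_eq_of_mem hPe.2 hξ] at hξ'
    exact hξ'
  have h3 := brOmega_congr_block (M := M) (P := P) hs hgood
  have e1 : brOmega P (Subgroup.centralizer (P : Set G))
      (ξ' : ↥(Subgroup.centralizer (P : Set G)) → ℂ)
      (subgroupBlockCoeff (Subgroup.centralizer (Q : Set G)) f.1) - 1
      = (brOmega P (Subgroup.centralizer (P : Set G))
        (ξ : ↥(Subgroup.centralizer (P : Set G)) → ℂ)
        (subgroupBlockCoeff (Subgroup.centralizer (Q : Set G)) f.1) - 1)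
      - (brOmega P (Subgroup.centralizer (P : Set G))
        (ξ : ↥(Subgroup.centralizer (P : Set G)) → ℂ)
        (subgroupBlockCoeff (Subgroup.centralizer (Q : Set G)) f.1)
        - brOmega P (Subgroup.centralizer (P : Set G))
        (ξ' : ↥(Subgroup.centralizer (P : Set G)) → ℂ)
        (subgroupBlockCoeff (Subgroup.centralizer (Q : Set G)) f.1)) := by ring
  rw [e1]
  exact memLocalIdeal_sub hone h3

/-- existence and uniqueness of the normal subpair -/
theorem existsUnique_normalSubpair (hM : IsPModular p M) (P Q : Subgroup G)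
    (e : Set (IrrCharacter (Subgroup.centralizer (P : Set G))))
    (hPe : IsBrauerPair p M P e) (hQP : Q ≤ P) (hPN : P ≤ Subgroup.normalizer (Q : Set G)) :
    ∃! f : Set (IrrCharacter (Subgroup.centralizer (Q : Set G))),
      IsNormalSubpair p M Q f P e := by
  obtain ⟨f, hf⟩ := exists_normalSubpair hM P Q e hPe hQP hPN
  exact ⟨f, hf, fun f' hf' => normalSubpair_unique hM hf' hf⟩

end Exist

end Cfsg.Agent.helper24
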