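import Mathlib
import Cfsg.Agent.Lib_helper24_ThirdMain
import Cfsg.Agent.Lib_helper24_BlockOrth2
import Cfsg.Agent.Lib_helper24_PRegular

/-!
The idempotent of the principal block in terms of factorizations of `p`-regular elements
(helper24).
-/

set_option autoImplicit false

namespace Cfsg.Agent.helper24

open Cfsg Cfsg.Agent.helper12
open scoped ComplexConjugate

universe u

section Kuls

variable {G : Type u} [Group G] [Fintype G]

open Classical in
/-- the indicator function of the elements of `p`-power order -/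
noncomputable def pInd (G : Type u) [Group G] (p : ℕ) : G → ℂ :=
  fun x => if ∃ k : ℕ, orderOf x = p ^ k then 1 else 0

omit [Fintype G] in
theorem pInd_isClassFunction (p : ℕ) : IsClassFunction G (pInd G p) := by
  intro g k
  unfold pInd
  have h2 : orderOf (k * g * k⁻¹) = orderOf g := by
    have := MulEquiv.orderOf_eq (MulAut.conj k) g
    rwa [MulAut.conj_apply] at this
  rw [h2]

omit [Fintype G] in
theorem pInd_inv (p : ℕ) (x : G) : pInd G p x⁻¹ = pInd G p x := by
  unfold pInd
  rw [orderOf_inv]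

omit [Fintype G] in
theorem pInd_one (p : ℕ) : pInd G p 1 = 1 := by
  unfold pInd
  rw [if_pos ⟨0, by rw [orderOf_one, pow_zero]⟩]

/-- the restriction to a nilpotent subgroup of `|G|_{p'}` times the indicator of the `p`-elements
is a character -/
theorem isCharacter_pInd_cut (p : ℕ) [Fact p.Prime] (E : Subgroup G) [Group.IsNilpotent E] :
    IsCharacter E (fun e : E =>
      ((Nat.card G / p ^ (Nat.card G).factorization p : ℕ) : ℂ) * pInd G p (e : G)) := by
  classical
  have hpp : p.Prime := Fact.out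
  have := Fintype.ofFinite E
  obtain ⟨P⟩ : Nonempty (Sylow p E) := inferInstance
  have hPn : (P : Subgroup E).Normal := inferInstance
  have := Fintype.ofFinite (P : Subgroup E)
  have hone : IsCharacter (P : Subgroup E) (fun _ : (P : Subgroup E) => (1 : ℂ)) :=
    irr_isCharacter isIrrCharacter_one
  have hidx : (P : Subgroup E).index = Nat.card E / p ^ (Nat.card E).factorization p := by
    have h1 := Subgroup.card_mul_index (P : Subgroup E)
    rw [P.card_eq_multiplicity] at h1
    exact (Nat.div_eq_of_eq_mul_right (pow_pos hpp.pos _) h1.symm).symm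
  have hdvd : (P : Subgroup E).index ∣ Nat.card G / p ^ (Nat.card G).factorization p := by
    rw [hidx]
    exact Nat.ordCompl_dvd_ordCompl_of_dvd (Subgroup.card_subgroup_dvd_card E) p
  obtain ⟨c, hc⟩ := hdvd
  have hmem : ∀ e : E, e ∈ (P : Subgroup E) ↔ ∃ k : ℕ, orderOf (e : G) = p ^ k := by
    intro e
    rw [Subgroup.orderOf_coe]
    constructor
    · intro he
      obtain ⟨k, hk⟩ := (IsPGroup.iff_orderOf.1 P.2) ⟨e, he⟩
      rw [Subgroup.orderOf_mk] at hk
      exact ⟨k, hk⟩
    · rintro ⟨k, hk⟩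
      have hQ : IsPGroup p (Subgroup.zpowers e) := by
        apply IsPGroup.of_card (n := k)
        rw [Nat.card_zpowers, hk]
      have hsup : IsPGroup p (Subgroup.zpowers e ⊔ (P : Subgroup E) : Subgroup E) :=
        hQ.to_sup_of_normal_right P.2
      have heq := P.is_maximal' hsup le_sup_right
      have h1 : e ∈ (Subgroup.zpowers e ⊔ (P : Subgroup E) : Subgroup E) :=
        (le_sup_left : Subgroup.zpowers e ≤ _) (Subgroup.mem_zpowers e)
      rw [heq] at h1
      exact h1
  have hchar : IsCharacter E (c • indFun (P : Subgroup E) (fun _ => (1 : ℂ))) :=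
    isCharacter_nsmul _ (isCharacter_indFun (P : Subgroup E) hone)
  convert hchar using 1
  funext e
  rw [Pi.smul_apply, indFun_one_of_normal (P : Subgroup E) e, hc]
  unfold pInd
  by_cases hd : e ∈ (P : Subgroup E)
  · rw [if_pos hd, if_pos ((hmem e).1 hd), nsmul_eq_mul]
    push_cast
    ring
  · rw [if_neg hd, if_neg (fun h => hd ((hmem e).2 h)), mul_zero, smul_zero]

/-- `|G|_{p'}` times the indicator of the `p`-elements is a generalized character -/
theorem isGeneralizedCharacter_pInd (p : ℕ) [Fact p.Prime] :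
    IsGeneralizedCharacter G (fun x : G =>
      ((Nat.card G / p ^ (Nat.card G).factorization p : ℕ) : ℂ) * pInd G p x) := by
  classical
  apply brauer_characterization
  · intro g h
    show _ * pInd G p (h * g * h⁻¹) = _ * pInd G p g
    rw [pInd_isClassFunction p g h]
  · intro E q hq hE
    have := Fintype.ofFinite E
    have : Group.IsNilpotent E := isNilpotent_of_isElementary hq hE
    refine ⟨_, 0, isCharacter_pInd_cut p E, isCharacter_zero, ?_⟩
    rw [sub_zero]

/-- the inner product of an irreducible character with the indicator of the `p`-elements is a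
local integer -/
theorem pInd_inner_memLocalRing (p : ℕ) [Fact p.Prime] {M : Ideal AlgInt}
    (hM : IsPModular p M) (χ : IrrCharacter G) :
    MemLocalRing M ((Nat.card G : ℂ)⁻¹ * ∑ x : G, pInd G p x * (χ : G → ℂ) x) := by
  classical
  have hpp : p.Prime := Fact.out
  have hMp : M.IsPrime := hM.2.1.isPrime
  have hMtop := hMp.ne_top
  obtain ⟨m, hm⟩ : ∃ m : ℕ, m = Nat.card G / p ^ (Nat.card G).factorization p := ⟨_, rfl⟩
  have hmp : ¬ p ∣ m := by
    rw [hm]
    exact Nat.not_dvd_ordCompl hpp Nat.card_pos.ne'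
  have hm0 : (m : ℂ) ≠ 0 := by
    have : m ≠ 0 := fun h => hmp (by rw [h]; exact dvd_zero p)
    exact_mod_cast this
  obtain ⟨α, β, hα, hβ, hθeq⟩ := isGeneralizedCharacter_pInd (G := G) p
  rw [← hm] at hθeq
  obtain ⟨n1, h1⟩ := classInner_char_nat hα (irr_isCharacter χ.2)
  obtain ⟨n2, h2⟩ := classInner_char_nat hβ (irr_isCharacter χ.2)
  have h3 : classInner (fun x : G => (m : ℂ) * pInd G p x) (χ : G → ℂ) = (n1 : ℂ) - (n2 : ℂ) := by
    rw [hθeq, classInner_sub_left, h1, h2]
  have h4 : ∑ x : G, pInd G p x * (χ : G → ℂ) x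
      = ∑ x : G, pInd G p x * conj ((χ : G → ℂ) x) := by
    apply Fintype.sum_equiv (Equiv.inv G)
    intro x
    show pInd G p x * (χ : G → ℂ) x = pInd G p x⁻¹ * conj ((χ : G → ℂ) x⁻¹)
    rw [pInd_inv, char_inv (irr_isCharacter χ.2), Complex.conj_conj]
  have h5 : (Nat.card G : ℂ)⁻¹ * ∑ x : G, pInd G p x * (χ : G → ℂ) x
      = (m : ℂ)⁻¹ * ((n1 : ℂ) - (n2 : ℂ)) := by
    rw [← h3, h4]
    unfold classInner
    have e1 : ∑ g : G, (m : ℂ) * pInd G p g * conj ((χ : G → ℂ) g)
        = (m : ℂ) * ∑ g : G, pInd G p g * conj ((χ : G → ℂ) g) := by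
      rw [Finset.mul_sum]
      refine Finset.sum_congr rfl (fun g _ => ?_)
      ring
    rw [e1]
    field_simp
  rw [h5]
  have hmloc : MemLocalRing M (m : ℂ) := memLocalRing_of_integral hMtop (isIntegral_natCast _)
  have hminv : MemLocalRing M ((m : ℂ)⁻¹) :=
    memLocalRing_inv hmloc (natCast_not_memLocalIdeal hM hmp)
  apply memLocalRing_mul hminv
  exact memLocalRing_sub (memLocalRing_of_integral hMtop (isIntegral_natCast _))
    (memLocalRing_of_integral hMtop (isIntegral_natCast _))

open Classical in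
/-- the number of factorizations of `g` as a `p`-element times a `p`-regular element -/
theorem cconv_pInd_pregInd (p : ℕ) (g : G) :
    cconv (pInd G p) (pregInd G p) g
      = (Nat.card {xy : G × G // (∃ k : ℕ, orderOf xy.1 = p ^ k) ∧ ¬ p ∣ orderOf xy.2 ∧
        xy.1 * xy.2 = g} : ℂ) := by
  have hequiv : {xy : G × G // (∃ k : ℕ, orderOf xy.1 = p ^ k) ∧ ¬ p ∣ orderOf xy.2 ∧
      xy.1 * xy.2 = g} ≃ {x : G // (∃ k : ℕ, orderOf x = p ^ k) ∧ ¬ p ∣ orderOf (x⁻¹ * g)} :=
    { toFun := fun xy => ⟨xy.1.1, xy.2.1, by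
        have h := xy.2.2.2
        have e1 : xy.1.1⁻¹ * g = xy.1.2 := inv_mul_eq_iff_eq_mul.2 h.symm
        rw [e1]
        exact xy.2.2.1⟩
      invFun := fun x => ⟨(x.1, x.1⁻¹ * g), x.2.1, x.2.2, by group⟩
      left_inv := by
        rintro ⟨⟨x, y⟩, h1, h2, h3⟩
        apply Subtype.ext
        show (x, x⁻¹ * g) = (x, y)
        rw [← h3]
        congr 1
        group
      right_inv := by
        rintro ⟨x, h1, h2⟩
        rfl }
  rw [Nat.card_congr hequiv, Nat.card_eq_fintype_card, Fintype.card_subtype]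
  unfold cconv
  rw [Finset.card_filter]
  push_cast
  refine Finset.sum_congr rfl (fun x _ => ?_)
  unfold pInd pregInd
  by_cases h1 : ∃ k : ℕ, orderOf x = p ^ k
  · by_cases h2 : p ∣ orderOf (x⁻¹ * g)
    · rw [if_pos h1, if_pos h2, mul_zero, if_neg (fun h => h.2 h2)]
    · rw [if_pos h1, if_neg h2, mul_one, if_pos ⟨h1, h2⟩]
  · rw [if_neg h1, zero_mul, if_neg (fun h => h1 h.1)]

set_option maxHeartbeats 1600000 in
/-- the idempotent of the principal block at a `p`-regular element -/
theorem principal_blockCoeff_formula (p : ℕ) [Fact p.Prime] (M : Ideal AlgInt)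
    (hM : IsPModular p M) (g : G) (hg : ¬ p ∣ orderOf g) :
    MemLocalIdeal M (blockCoeff (principalBlock M G) g -
      (Nat.card {xy : G × G // (∃ k : ℕ, orderOf xy.1 = p ^ k) ∧ ¬ p ∣ orderOf xy.2 ∧
        xy.1 * xy.2 = g} : ℂ) / (Nat.card {y : G // ¬ p ∣ orderOf y} : ℂ)) := by
  classical
  have hpp : p.Prime := Fact.out
  have hMp : M.IsPrime := hM.2.1.isPrime
  have hMtop := hMp.ne_top
  have := Fintype.ofFinite (IrrCharacter G)
  have hG : (Nat.card G : ℂ) ≠ 0 := by exact_mod_cast Nat.card_pos.ne'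
  obtain ⟨R, hR⟩ : ∃ R : ℕ, R = Nat.card {x : G | ¬ p ∣ orderOf x} := ⟨_, rfl⟩
  have hRstmt : Nat.card {y : G // ¬ p ∣ orderOf y} = R := by
    rw [hR]
    rfl
  rw [hRstmt, ← cconv_pInd_pregInd p g]
  have hRp : ¬ p ∣ R := by
    rw [hR]
    exact card_pregular_not_dvd p
  have hRnot : ¬ MemLocalIdeal M (R : ℂ) := natCast_not_memLocalIdeal hM hRp
  have hR0 : (R : ℂ) ≠ 0 := by
    intro h
    apply hRnot
    rw [h]
    exact memLocalIdeal_zero hMtop
  have hRloc : MemLocalRing M (R : ℂ) := memLocalRing_of_integral hMtop (isIntegral_natCast _)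
  have hRinv : MemLocalRing M ((R : ℂ)⁻¹) := memLocalRing_inv hRloc hRnot
  have hu := pInd_isClassFunction (G := G) p
  have hv := pregInd_isClassFunction (G := G) p
  obtain ⟨Bf, hBf⟩ : ∃ Bf : Finset (IrrCharacter G),
      Bf = Finset.univ.filter (fun χ : IrrCharacter G => χ ∈ principalBlock M G) := ⟨_, rfl⟩
  -- the expansion of the number of factorizations
  have h1 : cconv (pInd G p) (pregInd G p) g = (Nat.card G : ℂ)⁻¹ * ∑ χ ∈ Bf,
      (χ : G → ℂ) 1 * (omegaFn (χ : G → ℂ) (pInd G p) * omegaFn (χ : G → ℂ) (pregInd G p))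
        * conj ((χ : G → ℂ) g) := by
    rw [classFunction_eq_sum_omega (cconv_isClassFunction hu hv) g]
    congr 1
    rw [hBf, Finset.sum_filter]
    refine Finset.sum_congr rfl (fun χ _ => ?_)
    rw [omegaFn_cconv χ.2 _ hv]
    by_cases hχ : χ ∈ principalBlock M G
    · rw [if_pos hχ]
    · rw [if_neg hχ, omegaFn_pregInd_eq_zero p M hM χ hχ]
      ring
  -- the block idempotent
  have h2 : blockCoeff (principalBlock M G) g = (Nat.card G : ℂ)⁻¹ * ∑ χ ∈ Bf,
      (χ : G → ℂ) 1 * omegaFn (χ : G → ℂ) (pInd G p) * conj ((χ : G → ℂ) g) := by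
    rw [blockCoeff_eq_sum, ← hBf]
    congr 1
    have e1 : ∀ χ : IrrCharacter G, (χ : G → ℂ) 1 * omegaFn (χ : G → ℂ) (pInd G p)
        = ∑ x : G, pInd G p x * (χ : G → ℂ) x := by
      intro χ
      unfold omegaFn
      rw [mul_div_cancel₀ _ (irr_apply_one_ne_zero χ.2)]
    have e2 : ∑ χ ∈ Bf, (χ : G → ℂ) 1 * omegaFn (χ : G → ℂ) (pInd G p) * conj ((χ : G → ℂ) g)
        = ∑ x : G, pInd G p x * ∑ χ ∈ Bf, (χ : G → ℂ) x * conj ((χ : G → ℂ) g) := by
      rw [Finset.sum_congr rfl (fun χ _ => by rw [e1 χ, Finset.sum_mul])]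
      rw [Finset.sum_comm]
      refine Finset.sum_congr rfl (fun x _ => ?_)
      rw [Finset.mul_sum]
      refine Finset.sum_congr rfl (fun χ _ => ?_)
      ring
    rw [e2, Finset.sum_eq_single (1 : G)]
    · rw [pInd_one, one_mul]
    · intro x _ hx1
      by_cases hx : ∃ k : ℕ, orderOf x = p ^ k
      · obtain ⟨k, hk⟩ := hx
        have hk0 : k ≠ 0 := by
          intro h0
          apply hx1
          rw [h0, pow_zero, orderOf_eq_one_iff] at hk
          exact hk
        have hpx : p ∣ orderOf x := by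
          rw [hk]
          exact dvd_pow_self p hk0
        have h3 := weak_block_orthogonality_finset p M hM (oneIrr G) g x hg hpx
        have h4 : ∑ χ ∈ Bf, (χ : G → ℂ) x * conj ((χ : G → ℂ) g) = 0 := by
          have h5 := congrArg conj h3
          rw [map_zero, map_sum] at h5
          rw [← h5, hBf]
          refine Finset.sum_congr rfl (fun χ _ => ?_)
          rw [map_mul, Complex.conj_conj]
          ring
        rw [h4, mul_zero]
      · unfold pInd
        rw [if_neg hx, zero_mul]
    · intro h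
      exact absurd (Finset.mem_univ _) h
  -- the difference
  have h3 : cconv (pInd G p) (pregInd G p) g - (R : ℂ) * blockCoeff (principalBlock M G) g
      = ∑ χ ∈ Bf, ((Nat.card G : ℂ)⁻¹ * (∑ x : G, pInd G p x * (χ : G → ℂ) x)
          * conj ((χ : G → ℂ) g))
        * (omegaFn (χ : G → ℂ) (pregInd G p) - (R : ℂ)) := by
    rw [h1, h2, Finset.mul_sum, Finset.mul_sum, Finset.mul_sum, ← Finset.sum_sub_distrib]
    refine Finset.sum_congr rfl (fun χ _ => ?_)
    have e1 : ∑ x : G, pInd G p x * (χ : G → ℂ) x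
        = (χ : G → ℂ) 1 * omegaFn (χ : G → ℂ) (pInd G p) := by
      unfold omegaFn
      rw [mul_div_cancel₀ _ (irr_apply_one_ne_zero χ.2)]
    rw [e1]
    ring
  have h4 : MemLocalIdeal M (cconv (pInd G p) (pregInd G p) g
      - (R : ℂ) * blockCoeff (principalBlock M G) g) := by
    rw [h3]
    apply memLocalIdeal_sum
    intro χ hχ
    rw [hBf, Finset.mem_filter] at hχ
    apply memLocalIdeal_mul_left
    · apply memLocalRing_mul (pInd_inner_memLocalRing p hM χ)
      apply memLocalRing_of_integral hMtop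
      rw [← char_inv (irr_isCharacter χ.2)]
      exact char_isIntegral (irr_isCharacter χ.2) _
    · have hs : SameBlock M (χ : G → ℂ) ((oneIrr G : IrrCharacter G) : G → ℂ) :=
        sameBlock_symm hχ.2
      have h5 := omegaFn_sub_memLocalIdeal (M := M) hs hv (pregInd_memLocalRing hMtop p)
      rw [omegaFn_one_pregInd, ← hR] at h5
      exact h5
  have h5 : blockCoeff (principalBlock M G) g
      - cconv (pInd G p) (pregInd G p) g / (R : ℂ)
      = (R : ℂ)⁻¹ * (-(cconv (pInd G p) (pregInd G p) g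
        - (R : ℂ) * blockCoeff (principalBlock M G) g)) := by
    field_simp
    ring
  rw [h5]
  exact memLocalIdeal_mul_left hRinv (memLocalIdeal_neg h4)

end Kuls

end Cfsg.Agent.helper24
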