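import Mathlib
import Cfsg.Agent.Lib_helper24_Kuls
import Cfsg.Agent.Lib_helper24_CharCount
import Cfsg.Agent.Lib_helper23_Central

/-!
# Blocks do not depend on the maximal ideal

A set of irreducible characters that is closed under linking on the `p`-regular elements has
an idempotent with local coefficients (for every `p`-modular maximal ideal), hence is a union of
blocks for every such ideal.
-/

set_option autoImplicit false

namespace Cfsg.Agent.helper24

open Cfsg Cfsg.Agent.helper5 Cfsg.Agent.helper8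
open scoped ComplexConjugate

universe u

section IndepM

variable {G : Type u} [Group G] [Fintype G]

open Classical in
/-- pairing of a conjugate combination over a set with an irreducible character -/
theorem pair_conj_comb [Fintype (IrrCharacter G)] (A : Finset (IrrCharacter G))
    (c : IrrCharacter G → ℂ) (ψ : IrrCharacter G) :
    ∑ x : G, (∑ θ ∈ A, c θ * conj ((θ : G → ℂ) x)) * (ψ : G → ℂ) x
      = if ψ ∈ A then (Nat.card G : ℂ) * c ψ else 0 := by
  have hG : (Nat.card G : ℂ) ≠ 0 := by exact_mod_cast Nat.card_pos.ne'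
  simp_rw [Finset.sum_mul]
  rw [Finset.sum_comm]
  have h1 : ∀ θ ∈ A, ∑ x : G, c θ * conj ((θ : G → ℂ) x) * (ψ : G → ℂ) x
      = if θ = ψ then (Nat.card G : ℂ) * c ψ else 0 := by
    intro θ _
    have h2 : ∑ x : G, c θ * conj ((θ : G → ℂ) x) * (ψ : G → ℂ) x
        = c θ * ((Nat.card G : ℂ) * classInner (ψ : G → ℂ) (θ : G → ℂ)) := by
      unfold classInner
      rw [← mul_assoc (Nat.card G : ℂ), mul_inv_cancel₀ hG, one_mul, Finset.mul_sum]
      refine Finset.sum_congr rfl (fun x _ => ?_)
      ring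
    rw [h2, irr_classInner ψ.2 θ.2]
    by_cases hc : θ = ψ
    · subst hc
      rw [if_pos rfl, if_pos rfl]
      ring
    · have : (ψ : G → ℂ) ≠ (θ : G → ℂ) := fun h => hc (Subtype.ext h.symm)
      rw [if_neg this, if_neg hc]
      ring
  rw [Finset.sum_congr rfl h1, Finset.sum_ite_eq']

open Classical in
/-- the pairing on the `p`-singular elements of a combination over a set `A` with a character
outside `A` not linked to `A` vanishes -/
theorem sing_pair_zero [Fintype (IrrCharacter G)] (p : ℕ) (A : Finset (IrrCharacter G))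
    (c : IrrCharacter G → ℂ) (ψ : IrrCharacter G) (hψ : ψ ∉ A)
    (hl : ∀ θ ∈ A, ∑ x ∈ Finset.univ.filter (fun x : G => ¬ p ∣ orderOf x),
      conj ((θ : G → ℂ) x) * (ψ : G → ℂ) x = 0) :
    ∑ x ∈ Finset.univ.filter (fun x : G => p ∣ orderOf x),
      (∑ θ ∈ A, c θ * conj ((θ : G → ℂ) x)) * (ψ : G → ℂ) x = 0 := by
  have h1 := pair_conj_comb A c ψ
  rw [if_neg hψ] at h1
  have h2 : ∑ x ∈ Finset.univ.filter (fun x : G => ¬ p ∣ orderOf x),
      (∑ θ ∈ A, c θ * conj ((θ : G → ℂ) x)) * (ψ : G → ℂ) x = 0 := by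
    simp_rw [Finset.sum_mul]
    rw [Finset.sum_comm]
    apply Finset.sum_eq_zero
    intro θ hθ
    have h3 : ∑ x ∈ Finset.univ.filter (fun x : G => ¬ p ∣ orderOf x),
        c θ * conj ((θ : G → ℂ) x) * (ψ : G → ℂ) x
        = c θ * ∑ x ∈ Finset.univ.filter (fun x : G => ¬ p ∣ orderOf x),
          conj ((θ : G → ℂ) x) * (ψ : G → ℂ) x := by
      rw [Finset.mul_sum]
      refine Finset.sum_congr rfl (fun x _ => ?_)
      ring
    rw [h3, hl θ hθ, mul_zero]
  rw [← Finset.sum_filter_add_sum_filter_not Finset.univ (fun x : G => p ∣ orderOf x)] at h1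
  rw [h2, add_zero] at h1
  exact h1

open Classical in
/-- if a total combination vanishes on the `p`-singular elements, so does its part over a set of
characters closed under linking -/
theorem closed_comb_vanish [Fintype (IrrCharacter G)] (p : ℕ) (A : Finset (IrrCharacter G))
    (c : IrrCharacter G → ℂ)
    (hl : ∀ θ ∈ A, ∀ ψ : IrrCharacter G, ψ ∉ A →
      ∑ x ∈ Finset.univ.filter (fun x : G => ¬ p ∣ orderOf x),
        conj ((θ : G → ℂ) x) * (ψ : G → ℂ) x = 0)
    (htot : ∀ x : G, p ∣ orderOf x →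
      ∑ θ : IrrCharacter G, c θ * conj ((θ : G → ℂ) x) = 0)
    (x : G) (hx : p ∣ orderOf x) : ∑ θ ∈ A, c θ * conj ((θ : G → ℂ) x) = 0 := by
  obtain ⟨D, hD⟩ : ∃ D : G → ℂ, D = fun x : G =>
      if p ∣ orderOf x then ∑ θ ∈ A, c θ * conj ((θ : G → ℂ) x) else 0 := ⟨_, rfl⟩
  have hDcf : IsClassFunction G D := by
    intro g k
    rw [hD]
    have h2 : orderOf (k * g * k⁻¹) = orderOf g := by
      have := MulEquiv.orderOf_eq (MulAut.conj k) g
      rwa [MulAut.conj_apply] at this
    show (if p ∣ orderOf (k * g * k⁻¹) then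
      ∑ θ ∈ A, c θ * conj ((θ : G → ℂ) (k * g * k⁻¹)) else 0) =
      (if p ∣ orderOf g then ∑ θ ∈ A, c θ * conj ((θ : G → ℂ) g) else 0)
    rw [h2]
    by_cases hg : p ∣ orderOf g
    · rw [if_pos hg, if_pos hg]
      refine Finset.sum_congr rfl (fun θ _ => ?_)
      rw [char_isClassFunction (irr_isCharacter θ.2) g k]
    · rw [if_neg hg, if_neg hg]
  have h0cf : IsClassFunction G (0 : G → ℂ) := fun _ _ => rfl
  have hD0 : D = 0 := by
    apply classFunction_ext_omega hDcf h0cf
    intro ψ
    rw [omegaFn_zero]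
    unfold omegaFn
    have e1 : ∀ B : Finset (IrrCharacter G), ∑ h : G,
        (if p ∣ orderOf h then ∑ θ ∈ B, c θ * conj ((θ : G → ℂ) h) else 0) * (ψ : G → ℂ) h
        = ∑ x ∈ Finset.univ.filter (fun x : G => p ∣ orderOf x),
          (∑ θ ∈ B, c θ * conj ((θ : G → ℂ) x)) * (ψ : G → ℂ) x := by
      intro B
      rw [Finset.sum_filter]
      refine Finset.sum_congr rfl (fun h _ => ?_)
      by_cases hh : p ∣ orderOf h
      · rw [if_pos hh, if_pos hh]
      · rw [if_neg hh, if_neg hh, zero_mul]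
    have e2 : ∑ h : G, D h * (ψ : G → ℂ) h = 0 := by
      rw [hD]
      rw [e1 A]
      by_cases hψ : ψ ∈ A
      · have hc := sing_pair_zero p (Finset.univ \ A) c ψ (by simp [hψ]) (fun θ hθ => by
          have hθA : θ ∉ A := by simpa using hθ
          have h5 := hl ψ hψ θ hθA
          have h6 : ∑ x ∈ Finset.univ.filter (fun x : G => ¬ p ∣ orderOf x),
              conj ((θ : G → ℂ) x) * (ψ : G → ℂ) x
              = conj (∑ x ∈ Finset.univ.filter (fun x : G => ¬ p ∣ orderOf x),
                conj ((ψ : G → ℂ) x) * (θ : G → ℂ) x) := by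
            rw [map_sum]
            refine Finset.sum_congr rfl (fun x _ => ?_)
            rw [map_mul, Complex.conj_conj, mul_comm]
          rw [h6, h5, map_zero])
        have h7 : ∑ x ∈ Finset.univ.filter (fun x : G => p ∣ orderOf x),
            (∑ θ ∈ A, c θ * conj ((θ : G → ℂ) x)) * (ψ : G → ℂ) x
            + ∑ x ∈ Finset.univ.filter (fun x : G => p ∣ orderOf x),
            (∑ θ ∈ Finset.univ \ A, c θ * conj ((θ : G → ℂ) x)) * (ψ : G → ℂ) x = 0 := by
          rw [← Finset.sum_add_distrib]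
          apply Finset.sum_eq_zero
          intro x hx'
          have hx'' : p ∣ orderOf x := (Finset.mem_filter.1 hx').2
          rw [← add_mul, add_comm, Finset.sum_sdiff (Finset.subset_univ A), htot x hx'', zero_mul]
        rw [hc, add_zero] at h7
        exact h7
      · exact sing_pair_zero p A c ψ hψ (fun θ hθ => hl θ hθ ψ hψ)
    rw [e2, zero_div]
  have h8 := congrFun hD0 x
  rw [hD] at h8
  simpa [hx] using h8

open Classical in
/-- the idempotent of a set of characters closed under linking has local coefficients -/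
theorem closed_blockCoeff_local (p : ℕ) [Fact p.Prime] (M : Ideal AlgInt) (hM : IsPModular p M)
    (A : Set (IrrCharacter G))
    (hl : ∀ θ ∈ A, ∀ ψ : IrrCharacter G, ψ ∉ A →
      ∑ x ∈ Finset.univ.filter (fun x : G => ¬ p ∣ orderOf x),
        conj ((θ : G → ℂ) x) * (ψ : G → ℂ) x = 0) (g : G) :
    MemLocalRing M (blockCoeff A g) := by
  have := Fintype.ofFinite (IrrCharacter G)
  have hpp : p.Prime := Fact.out
  have hMp : M.IsPrime := hM.2.1.isPrime
  have hMtop := hMp.ne_top
  have hG : (Nat.card G : ℂ) ≠ 0 := by exact_mod_cast Nat.card_pos.ne'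
  obtain ⟨Af, hAf⟩ : ∃ Af : Finset (IrrCharacter G),
      Af = Finset.univ.filter (fun χ => χ ∈ A) := ⟨_, rfl⟩
  have hmemA : ∀ χ, χ ∈ Af ↔ χ ∈ A := by
    intro χ
    rw [hAf]
    simp
  have hl' : ∀ θ ∈ Af, ∀ ψ : IrrCharacter G, ψ ∉ Af →
      ∑ x ∈ Finset.univ.filter (fun x : G => ¬ p ∣ orderOf x),
        conj ((θ : G → ℂ) x) * (ψ : G → ℂ) x = 0 :=
    fun θ hθ ψ hψ => hl θ ((hmemA θ).1 hθ) ψ (fun h => hψ ((hmemA ψ).2 h))
  rw [blockCoeff_eq_sum, ← hAf]
  by_cases hg : p ∣ orderOf g
  · -- singular elements: the coefficient vanishes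
    have h1 := closed_comb_vanish p Af (fun θ => (θ : G → ℂ) 1) hl' (fun x hx => by
      have h2 := irr_column_orthogonality (G := G) 1 x
      have h3 : ¬ IsConj (1 : G) x := by
        intro h
        have : x = 1 := (isConj_one_right.1 h)
        rw [this, orderOf_one] at hx
        exact hpp.one_lt.ne' (Nat.dvd_one.1 hx)
      rw [if_neg h3] at h2
      exact h2) g hg
    rw [h1, mul_zero]
    exact memLocalRing_zero hMtop
  · -- regular elements
    have hvan : ∀ x : G, p ∣ orderOf x →
        ∑ θ ∈ Af, conj ((θ : G → ℂ) g) * conj ((θ : G → ℂ) x) = 0 := by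
      intro x hx
      refine closed_comb_vanish p Af (fun θ => conj ((θ : G → ℂ) g)) hl' (fun y hy => ?_) x hx
      have h2 := irr_column_orthogonality (G := G) y⁻¹ g
      have h3 : ¬ IsConj y⁻¹ g := by
        intro h
        obtain ⟨k, hk⟩ := isConj_iff.1 h
        have h4 : orderOf g = orderOf y := by
          rw [← hk]
          have := MulEquiv.orderOf_eq (MulAut.conj k) y⁻¹
          rw [MulAut.conj_apply] at this
          rw [this, orderOf_inv]
        exact hg (h4 ▸ hy)
      rw [if_neg h3] at h2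
      rw [← h2]
      refine Finset.sum_congr rfl (fun θ _ => ?_)
      rw [char_inv (irr_isCharacter θ.2) y, mul_comm]
    -- pair with the indicator of the `p`-elements
    have h5 : ∑ x : G, (∑ θ ∈ Af, conj ((θ : G → ℂ) g) * conj ((θ : G → ℂ) x)) * pInd G p x
        = ∑ θ ∈ Af, conj ((θ : G → ℂ) g) * conj ((θ : G → ℂ) 1) := by
      rw [Finset.sum_eq_single (1 : G)]
      · rw [pInd_one, mul_one]
      · intro x _ hx1
        by_cases hx : p ∣ orderOf x
        · rw [hvan x hx, zero_mul]
        · have : pInd G p x = 0 := by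
            unfold pInd
            rw [if_neg]
            rintro ⟨k, hk⟩
            rcases Nat.eq_zero_or_pos k with h0 | h0
            · rw [h0, pow_zero, orderOf_eq_one_iff] at hk
              exact hx1 hk
            · exact hx (hk ▸ dvd_pow_self p h0.ne')
          rw [this, mul_zero]
      · intro h
        exact absurd (Finset.mem_univ _) h
    have h6 : ∑ x : G, (∑ θ ∈ Af, conj ((θ : G → ℂ) g) * conj ((θ : G → ℂ) x)) * pInd G p x
        = ∑ θ ∈ Af, conj ((θ : G → ℂ) g) * ∑ x : G, pInd G p x * (θ : G → ℂ) x := by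
      simp_rw [Finset.sum_mul]
      rw [Finset.sum_comm]
      refine Finset.sum_congr rfl (fun θ _ => ?_)
      rw [Finset.mul_sum]
      apply Fintype.sum_equiv (Equiv.inv G)
      intro x
      show conj ((θ : G → ℂ) g) * conj ((θ : G → ℂ) x) * pInd G p x
        = conj ((θ : G → ℂ) g) * (pInd G p x⁻¹ * (θ : G → ℂ) x⁻¹)
      rw [pInd_inv, char_inv (irr_isCharacter θ.2) x]
      ring
    have h7 : (Nat.card G : ℂ)⁻¹ * ∑ χ ∈ Af, (χ : G → ℂ) 1 * conj ((χ : G → ℂ) g)
        = ∑ θ ∈ Af, conj ((θ : G → ℂ) g) *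
          ((Nat.card G : ℂ)⁻¹ * ∑ x : G, pInd G p x * (θ : G → ℂ) x) := by
      have h8 : ∑ χ ∈ Af, (χ : G → ℂ) 1 * conj ((χ : G → ℂ) g)
          = ∑ θ ∈ Af, conj ((θ : G → ℂ) g) * conj ((θ : G → ℂ) 1) := by
        refine Finset.sum_congr rfl (fun θ _ => ?_)
        have : conj ((θ : G → ℂ) 1) = (θ : G → ℂ) 1 := by
          rw [← char_inv (irr_isCharacter θ.2) 1, inv_one]
        rw [this, mul_comm]
      rw [h8, ← h5, h6, Finset.mul_sum]
      refine Finset.sum_congr rfl (fun θ _ => ?_)
      ring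
    rw [h7]
    apply memLocalRing_sum
    intro θ _
    apply memLocalRing_mul
    · apply memLocalRing_of_integral hMtop
      rw [← char_inv (irr_isCharacter θ.2) g]
      exact char_isIntegral (irr_isCharacter θ.2) g⁻¹
    · exact pInd_inner_memLocalRing p hM θ

/-- **blocks do not depend on the maximal ideal** -/
theorem sameBlock_indep (p : ℕ) [Fact p.Prime] (M M' : Ideal AlgInt) (hM : IsPModular p M)
    (hM' : IsPModular p M') (χ ψ : IrrCharacter G)
    (h : SameBlock M (χ : G → ℂ) (ψ : G → ℂ)) : SameBlock M' (χ : G → ℂ) (ψ : G → ℂ) := by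
  classical
  have hMp' : M'.IsPrime := hM'.2.1.isPrime
  have h1 := block_subset_of_local p M hM (blockOf M' (χ : G → ℂ))
    (closed_blockCoeff_local p M hM _ (fun θ hθ φ hφ => by
      have h2 : ¬ SameBlock M' (θ : G → ℂ) (φ : G → ℂ) := by
        intro h3
        exact hφ (sameBlock_trans (show SameBlock M' (χ : G → ℂ) (θ : G → ℂ) from hθ) h3)
      have h4 := pregular_orthogonality p M' hM' φ θ (fun h5 => h2 (sameBlock_symm h5))
      rw [← h4]
      refine Finset.sum_congr rfl (fun x _ => ?_)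
      ring)) χ (sameBlock_refl M' hMp'.ne_top _)
  exact h1 h

end IndepM

end Cfsg.Agent.helper24
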