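import Mathlib
import Cfsg.Agent.Lib_helper24_IndepM
import Cfsg.Agent.Lib_helper24_BrauerMap
import Cfsg.Agent.Lib_helper24_IdemCongr
import Cfsg.Agent.Lib_helper24_SecondMain

/-!
Covering blocks (helper24): every character of a covered block lies under the covering block.
Part 1: the `p`-regular cut of class functions and the block decomposition; a locality criterion
for sums of character idempotents.
-/

set_option autoImplicit false

namespace Cfsg.Agent.helper24

open Cfsg Cfsg.Agent.helper12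
open scoped ComplexConjugate

universe u

section CoverAll1

variable {G : Type u} [Group G] [Fintype G]

/-- the `p`-regular cut of a function -/
noncomputable def pcut (p : ℕ) (U : G → ℂ) : G → ℂ := fun g => pregInd G p g * U g

omit [Fintype G] in
theorem pcut_isClassFunction (p : ℕ) {U : G → ℂ} (hU : IsClassFunction G U) :
    IsClassFunction G (pcut p U) := by
  intro g k
  unfold pcut
  rw [pregInd_isClassFunction p g k, hU g k]

omit [Fintype G] in
theorem pcut_add (p : ℕ) (U V : G → ℂ) : pcut p (U + V) = pcut p U + pcut p V := by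
  funext g
  unfold pcut
  simp only [Pi.add_apply]
  ring

omit [Fintype G] in
theorem pcut_sub (p : ℕ) (U V : G → ℂ) : pcut p (U - V) = pcut p U - pcut p V := by
  funext g
  unfold pcut
  simp only [Pi.sub_apply]
  ring

omit [Fintype G] in
theorem pcut_of_pregular (p : ℕ) (U : G → ℂ) {g : G} (hg : ¬ p ∣ orderOf g) :
    pcut p U g = U g := by
  unfold pcut pregInd
  rw [if_neg hg, one_mul]

omit [Fintype G] in
theorem pcut_of_singular (p : ℕ) (U : G → ℂ) {g : G} (hg : p ∣ orderOf g) :
    pcut p U g = 0 := by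
  unfold pcut pregInd
  rw [if_pos hg, zero_mul]

/-- the cut of a combination of characters of a union of blocks has no component outside -/
theorem omegaFn_pcut_eq_zero (p : ℕ) (M : Ideal AlgInt) (hM : IsPModular p M)
    (S : Set (IrrCharacter G))
    (hS : ∀ ψ ∈ S, ∀ χ : IrrCharacter G, χ ∉ S → ¬ SameBlock M (χ : G → ℂ) (ψ : G → ℂ))
    {V : G → ℂ} (hV : IsClassFunction G V)
    (hV0 : ∀ ψ : IrrCharacter G, ψ ∉ S → omegaFn (ψ : G → ℂ) V = 0)
    (χ : IrrCharacter G) (hχ : χ ∉ S) : omegaFn (χ : G → ℂ) (pcut p V) = 0 := by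
  classical
  have := Fintype.ofFinite (IrrCharacter G)
  unfold omegaFn
  have h1 : ∑ h : G, pcut p V h * (χ : G → ℂ) h = 0 := by
    have h2 : ∀ h : G, pcut p V h * (χ : G → ℂ) h
        = ∑ ψ : IrrCharacter G, ((Nat.card G : ℂ)⁻¹ * ((ψ : G → ℂ) 1 * omegaFn (ψ : G → ℂ) V)) *
          (pregInd G p h * ((χ : G → ℂ) h * conj ((ψ : G → ℂ) h))) := by
      intro h
      unfold pcut
      rw [classFunction_eq_sum_omega hV h, Finset.mul_sum, Finset.mul_sum, Finset.sum_mul]
      refine Finset.sum_congr rfl (fun ψ _ => ?_)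
      ring
    rw [Finset.sum_congr rfl (fun h _ => h2 h), Finset.sum_comm]
    apply Finset.sum_eq_zero
    intro ψ _
    rw [← Finset.mul_sum]
    by_cases hψ : ψ ∈ S
    · rw [sum_pregInd_mul, pregular_orthogonality p M hM χ ψ (hS ψ hψ χ hχ), mul_zero]
    · rw [hV0 ψ hψ, mul_zero, mul_zero, zero_mul]
  rw [h1, zero_div]

/-- the block part commutes with the `p`-regular cut -/
theorem pcut_cconv_blockCoeff (p : ℕ) (M : Ideal AlgInt) (hM : IsPModular p M)
    (B : Set (IrrCharacter G)) (hB : IsPBlock M B) {U : G → ℂ} (hU : IsClassFunction G U) :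
    pcut p (cconv U (blockCoeff B)) = cconv (pcut p U) (blockCoeff B) := by
  classical
  have hMp : M.IsPrime := hM.2.1.isPrime
  have hβ := blockCoeff_isClassFunction B
  have hβ' := blockCoeff_isClassFunction Bᶜ
  apply classFunction_ext_omega (pcut_isClassFunction p (cconv_isClassFunction hU hβ))
    (cconv_isClassFunction (pcut_isClassFunction p hU) hβ)
  intro χ
  rw [omegaFn_cconv χ.2 _ hβ, omegaFn_blockCoeff]
  have hsplit : U = cconv U (blockCoeff B) + cconv U (blockCoeff Bᶜ) := by
    have h1 : blockCoeff Bᶜ = deltaOne G - blockCoeff B := by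
      rw [← blockCoeff_add_compl B]
      ring
    rw [h1, cconv_sub_right, cconv_deltaOne_right]
    ring
  have hsplit2 : omegaFn (χ : G → ℂ) (pcut p U)
      = omegaFn (χ : G → ℂ) (pcut p (cconv U (blockCoeff B)))
        + omegaFn (χ : G → ℂ) (pcut p (cconv U (blockCoeff Bᶜ))) := by
    conv_lhs => rw [hsplit]
    rw [pcut_add, omegaFn_add]
  have hsame : ∀ χ₁ χ₂ : IrrCharacter G, χ₁ ∈ B → SameBlock M (χ₁ : G → ℂ) (χ₂ : G → ℂ) →
      χ₂ ∈ B := by
    intro χ₁ χ₂ h1 h2
    rw [← blockOf_eq_of_mem hB h1]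
    exact h2
  by_cases hχ : χ ∈ B
  · rw [if_pos hχ, mul_one, hsplit2]
    have h0 : omegaFn (χ : G → ℂ) (pcut p (cconv U (blockCoeff Bᶜ))) = 0 := by
      apply omegaFn_pcut_eq_zero p M hM Bᶜ _ (cconv_isClassFunction hU hβ') _ χ
        (fun h => h hχ)
      · intro ψ hψ χ' hχ' hs
        have hχ'B : χ' ∈ B := by
          by_contra h
          exact hχ' h
        exact hψ (hsame χ' ψ hχ'B hs)
      · intro ψ hψ
        have hψB : ψ ∈ B := by
          by_contra h
          exact hψ h
        rw [omegaFn_cconv ψ.2 _ hβ', omegaFn_blockCoeff, if_neg (fun h => h hψB), mul_zero]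
    rw [h0, add_zero]
  · rw [if_neg hχ, mul_zero]
    apply omegaFn_pcut_eq_zero p M hM B _ (cconv_isClassFunction hU hβ) _ χ hχ
    · intro ψ hψ χ' hχ' hs
      exact hχ' (hsame ψ χ' hψ (sameBlock_symm hs))
    · intro ψ hψ
      rw [omegaFn_cconv ψ.2 _ hβ, omegaFn_blockCoeff, if_neg hψ, mul_zero]

open Classical in
/-- **locality criterion**: the coefficient at `g` of a sum of character idempotents is a local
integer if it vanishes for singular `g`, and for regular `g` the pairing kernel with the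
singular elements vanishes -/
theorem kernel_blockCoeff_local [Fintype (IrrCharacter G)] (p : ℕ) [Fact p.Prime]
    (M : Ideal AlgInt) (hM : IsPModular p M)
    (A : Set (IrrCharacter G)) (g : G)
    (hsing : p ∣ orderOf g → blockCoeff A g = 0)
    (hvan : ¬ p ∣ orderOf g → ∀ x : G, p ∣ orderOf x →
      ∑ θ ∈ Finset.univ.filter (fun χ : IrrCharacter G => χ ∈ A),
        conj ((θ : G → ℂ) g) * conj ((θ : G → ℂ) x) = 0) :
    MemLocalRing M (blockCoeff A g) := by
  have hpp : p.Prime := Fact.out
  have hMp : M.IsPrime := hM.2.1.isPrime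
  have hMtop := hMp.ne_top
  have hG : (Nat.card G : ℂ) ≠ 0 := by exact_mod_cast Nat.card_pos.ne'
  by_cases hg : p ∣ orderOf g
  · rw [hsing hg]
    exact memLocalRing_zero hMtop
  · obtain ⟨Af, hAf⟩ : ∃ Af : Finset (IrrCharacter G),
        Af = Finset.univ.filter (fun χ => χ ∈ A) := ⟨_, rfl⟩
    have hvan' := hvan hg
    rw [← hAf] at hvan'
    rw [blockCoeff_eq_sum, ← hAf]
    have h5 : ∑ x : G, (∑ θ ∈ Af, conj ((θ : G → ℂ) g) * conj ((θ : G → ℂ) x)) * pInd G p x
        = ∑ θ ∈ Af, conj ((θ : G → ℂ) g) * conj ((θ : G → ℂ) 1) := by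
      rw [Finset.sum_eq_single (1 : G)]
      · rw [pInd_one, mul_one]
      · intro x _ hx1
        by_cases hx : p ∣ orderOf x
        · rw [hvan' x hx, zero_mul]
        · have : pInd G p x = 0 := by
            unfold pInd
            rw [if_neg]
            rintro ⟨k, hk⟩
            rcases Nat.eq_zero_or_pos k with h0 | h0
            · rw [h0, pow_zero, orderOf_eq_one_iff] at hk
              exact hx1 hk
            · exact hx (hk ▸ dvd_pow_self p h0.ne')
          rw [this, mul_zero]
      · intro h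
        exact absurd (Finset.mem_univ _) h
    have h6 : ∑ x : G, (∑ θ ∈ Af, conj ((θ : G → ℂ) g) * conj ((θ : G → ℂ) x)) * pInd G p x
        = ∑ θ ∈ Af, conj ((θ : G → ℂ) g) * ∑ x : G, pInd G p x * (θ : G → ℂ) x := by
      simp_rw [Finset.sum_mul]
      rw [Finset.sum_comm]
      refine Finset.sum_congr rfl (fun θ _ => ?_)
      rw [Finset.mul_sum]
      apply Fintype.sum_equiv (Equiv.inv G)
      intro x
      show conj ((θ : G → ℂ) g) * conj ((θ : G → ℂ) x) * pInd G p x
        = conj ((θ : G → ℂ) g) * (pInd G p x⁻¹ * (θ : G → ℂ) x⁻¹)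
      rw [pInd_inv, char_inv (irr_isCharacter θ.2) x]
      ring
    have h7 : (Nat.card G : ℂ)⁻¹ * ∑ χ ∈ Af, (χ : G → ℂ) 1 * conj ((χ : G → ℂ) g)
        = ∑ θ ∈ Af, conj ((θ : G → ℂ) g) *
          ((Nat.card G : ℂ)⁻¹ * ∑ x : G, pInd G p x * (θ : G → ℂ) x) := by
      have h8 : ∑ χ ∈ Af, (χ : G → ℂ) 1 * conj ((χ : G → ℂ) g)
          = ∑ θ ∈ Af, conj ((θ : G → ℂ) g) * conj ((θ : G → ℂ) 1) := by
        refine Finset.sum_congr rfl (fun θ _ => ?_)
        have : conj ((θ : G → ℂ) 1) = (θ : G → ℂ) 1 := by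
          rw [← char_inv (irr_isCharacter θ.2) 1, inv_one]
        rw [this, mul_comm]
      rw [h8, ← h5, h6, Finset.mul_sum]
      refine Finset.sum_congr rfl (fun θ _ => ?_)
      ring
    rw [h7]
    apply memLocalRing_sum
    intro θ _
    apply memLocalRing_mul
    · apply memLocalRing_of_integral hMtop
      rw [← char_inv (irr_isCharacter θ.2) g]
      exact char_isIntegral (irr_isCharacter θ.2) g⁻¹
    · exact pInd_inner_memLocalRing p hM θ

end CoverAll1

end Cfsg.Agent.helper24
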