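import Mathlib
import Cfsg.Agent.Lib_helper24_CoverAll1
import Cfsg.Agent.Lib_helper24_FongRey5
import Cfsg.Agent.Lib_helper24_BPair11
import Cfsg.Agent.Lib_helper24_Fong2

/-!
Covering blocks (helper24), part 2: central elements supported on a normal subgroup; the
truncation of a block idempotent and its eigenspaces.
-/

set_option autoImplicit false

namespace Cfsg.Agent.helper24

open Cfsg Cfsg.Agent.helper5 Cfsg.Agent.helper8
open scoped ComplexConjugate

universe u

section CoverAll2

variable {G : Type u} [Group G] [Fintype G] (N : Subgroup G) [hN : N.Normal] [Fintype N]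

/-- truncation of a function on `G` to the subgroup `N` -/
noncomputable def truncN (β : G → ℂ) : G → ℂ := extendByZero N (res N β)

omit [Fintype G] hN [Fintype N] in
theorem truncN_of_mem (β : G → ℂ) {g : G} (hg : g ∈ N) : truncN N β g = β g := by
  unfold truncN
  rw [extendByZero_of_mem N _ g hg]
  rfl

omit [Fintype G] hN [Fintype N] in
theorem truncN_of_not_mem (β : G → ℂ) {g : G} (hg : g ∉ N) : truncN N β g = 0 := by
  unfold truncN
  rw [extendByZero_of_not_mem N _ g hg]

omit [Fintype G] [Fintype N] in
theorem conj_mem_iff_of_normal (g k : G) : k * g * k⁻¹ ∈ N ↔ g ∈ N := by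
  constructor
  · intro h
    have h2 := hN.conj_mem _ h k⁻¹
    have h3 : k⁻¹ * (k * g * k⁻¹) * k⁻¹⁻¹ = g := by group
    rwa [h3] at h2
  · intro h
    exact hN.conj_mem g h k

omit [Fintype G] [Fintype N] in
theorem truncN_isClassFunction {β : G → ℂ} (hβ : IsClassFunction G β) :
    IsClassFunction G (truncN N β) := by
  intro g k
  by_cases hg : g ∈ N
  · rw [truncN_of_mem N β hg, truncN_of_mem N β ((conj_mem_iff_of_normal N g k).2 hg)]
    exact hβ g k
  · rw [truncN_of_not_mem N β hg,
      truncN_of_not_mem N β (fun h => hg ((conj_mem_iff_of_normal N g k).1 h))]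

omit hN [Fintype N] in
/-- the convolution of functions supported on `N` is supported on `N` -/
theorem cconv_support {U V : G → ℂ} (hU : ∀ g, g ∉ N → U g = 0) (hV : ∀ g, g ∉ N → V g = 0)
    (x : G) (hx : x ∉ N) : cconv U V x = 0 := by
  unfold cconv
  apply Finset.sum_eq_zero
  intro g _
  by_cases hg : g ∈ N
  · have : g⁻¹ * x ∉ N := by
      intro h
      apply hx
      have := N.mul_mem hg h
      rwa [mul_inv_cancel_left] at this
    rw [hV _ this, mul_zero]
  · rw [hU g hg, zero_mul]

omit hN [Fintype N] in
/-- convolution with a truncation -/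
theorem cconv_truncN {U : G → ℂ} (hU : ∀ g, g ∉ N → U g = 0) (β : G → ℂ) :
    cconv U (truncN N β) = truncN N (cconv U β) := by
  funext x
  by_cases hx : x ∈ N
  · rw [truncN_of_mem N _ hx]
    unfold cconv
    refine Finset.sum_congr rfl (fun g _ => ?_)
    by_cases hg : g ∈ N
    · rw [truncN_of_mem N β (N.mul_mem (N.inv_mem hg) hx)]
    · rw [hU g hg, zero_mul, zero_mul]
  · rw [truncN_of_not_mem N _ hx]
    exact cconv_support N hU (fun g hg => truncN_of_not_mem N β hg) x hx

omit [Fintype G] hN [Fintype N] in
theorem pcut_truncN (p : ℕ) (V : G → ℂ) : pcut p (truncN N V) = truncN N (pcut p V) := by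
  funext x
  by_cases hx : x ∈ N
  · rw [truncN_of_mem N _ hx]
    unfold pcut
    rw [truncN_of_mem N _ hx]
  · rw [truncN_of_not_mem N _ hx]
    unfold pcut
    rw [truncN_of_not_mem N _ hx, mul_zero]

omit [Fintype G] hN [Fintype N] in
theorem pcut_support (p : ℕ) {U : G → ℂ} (hU : ∀ g, g ∉ N → U g = 0) :
    ∀ g, g ∉ N → pcut p U g = 0 := by
  intro g hg
  unfold pcut
  rw [hU g hg, mul_zero]

omit hN [Fintype N] in
/-- the truncated block idempotent commutes with the `p`-regular cut on the central elements
supported on `N` -/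
theorem pcut_cconv_truncN (p : ℕ) (M : Ideal AlgInt) (hM : IsPModular p M)
    (B : Set (IrrCharacter G)) (hB : IsPBlock M B) {U : G → ℂ} (hU : IsClassFunction G U)
    (hU0 : ∀ g, g ∉ N → U g = 0) :
    pcut p (cconv U (truncN N (blockCoeff B)))
      = cconv (pcut p U) (truncN N (blockCoeff B)) := by
  rw [cconv_truncN N hU0, pcut_truncN, pcut_cconv_blockCoeff p M hM B hB hU,
    cconv_truncN N (pcut_support N p hU0)]

end CoverAll2

end Cfsg.Agent.helper24
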