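import Mathlib
import Cfsg.Agent.Lib_helper24_CoverAll2

/-!
Covering blocks (helper24), part 3: weighted sums of character idempotents of a normal subgroup
as central elements of the group.
-/

set_option autoImplicit false

namespace Cfsg.Agent.helper24

open Cfsg Cfsg.Agent.helper5 Cfsg.Agent.helper8
open scoped ComplexConjugate

universe u

section CoverAll3

variable {G : Type u} [Group G] [Fintype G] (N : Subgroup G) [hN : N.Normal] [Fintype N]

open Classical in
/-- weighted sum of the character idempotents of `N` -/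
noncomputable def wsum [Fintype (IrrCharacter N)] (a : IrrCharacter N → ℂ) : N → ℂ :=
  fun n => ∑ θ : IrrCharacter N, a θ * blockCoeff ({θ} : Set (IrrCharacter N)) n

omit [Fintype G] hN in
theorem wsum_isClassFunction [Fintype (IrrCharacter N)] (a : IrrCharacter N → ℂ) :
    IsClassFunction N (wsum N a) := by
  intro g k
  unfold wsum
  refine Finset.sum_congr rfl (fun θ _ => ?_)
  rw [blockCoeff_isClassFunction ({θ} : Set (IrrCharacter N)) g k]

omit [Fintype G] hN in
theorem omegaFn_wsum [Fintype (IrrCharacter N)] (a : IrrCharacter N → ℂ) (θ : IrrCharacter N) :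
    omegaFn (θ : N → ℂ) (wsum N a) = a θ := by
  classical
  unfold wsum
  rw [omegaFn_finset_sum]
  have h1 : ∀ θ' : IrrCharacter N, omegaFn (θ : N → ℂ)
      (fun n => a θ' * blockCoeff ({θ'} : Set (IrrCharacter N)) n)
      = if θ = θ' then a θ' else 0 := by
    intro θ'
    have h2 : (fun n => a θ' * blockCoeff ({θ'} : Set (IrrCharacter N)) n)
        = a θ' • blockCoeff ({θ'} : Set (IrrCharacter N)) := by
      funext n
      rfl
    rw [h2, omegaFn_smul, omegaFn_blockCoeff]
    by_cases h : θ = θ'
    · rw [if_pos h, if_pos (Set.mem_singleton_iff.2 h), mul_one]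
    · rw [if_neg h, if_neg (fun h' => h (Set.mem_singleton_iff.1 h')), mul_zero]
  rw [Finset.sum_congr rfl (fun θ' _ => h1 θ'), Finset.sum_ite_eq]
  simp

omit [Fintype G] [Fintype N] in
theorem transportSet_singleton (x : G) (θ : IrrCharacter N) :
    transportSet (MulAut.conjNormal x : N ≃* N) ({θ} : Set (IrrCharacter N))
      = {irrTransport (MulAut.conjNormal x : N ≃* N) θ} := by
  ext φ
  constructor
  · rintro ⟨θ', hθ', hφ⟩
    rw [Set.mem_singleton_iff] at hθ'
    subst hθ'
    rw [Set.mem_singleton_iff]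
    apply Subtype.ext
    rw [hφ]
    rfl
  · intro h
    rw [Set.mem_singleton_iff] at h
    rw [h]
    exact ⟨θ, rfl, rfl⟩

/-- an invariant weight gives an invariant sum -/
theorem wsum_conj [Fintype (IrrCharacter N)] (a : IrrCharacter N → ℂ)
    (ha : ∀ (x : G) (θ : IrrCharacter N),
      a (irrTransport (MulAut.conjNormal x : N ≃* N) θ) = a θ) (x : G) (n : N) :
    wsum N a ⟨x * n * x⁻¹, hN.conj_mem n n.2 x⟩ = wsum N a n := by
  classical
  unfold wsum
  have h1 : ∀ θ : IrrCharacter N,
      a θ * blockCoeff ({θ} : Set (IrrCharacter N)) ⟨x * n * x⁻¹, hN.conj_mem n n.2 x⟩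
      = a (irrTransport (MulAut.conjNormal x : N ≃* N) θ) *
        blockCoeff ({irrTransport (MulAut.conjNormal x : N ≃* N) θ} : Set (IrrCharacter N)) n := by
    intro θ
    rw [ha x θ, ← fr_conjNormal_eq, ← blockCoeff_transportSet, transportSet_singleton]
  rw [Finset.sum_congr rfl (fun θ _ => h1 θ)]
  exact Fintype.sum_equiv (irrTransport (MulAut.conjNormal x : N ≃* N)) _ _ (fun θ => rfl)

theorem ext_wsum_isClassFunction [Fintype (IrrCharacter N)] (a : IrrCharacter N → ℂ)
    (ha : ∀ (x : G) (θ : IrrCharacter N),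
      a (irrTransport (MulAut.conjNormal x : N ≃* N) θ) = a θ) :
    IsClassFunction G (extendByZero N (wsum N a)) := by
  intro g k
  by_cases hg : g ∈ N
  · rw [extendByZero_of_mem N _ _ (hN.conj_mem g hg k), extendByZero_of_mem N _ _ hg]
    exact wsum_conj N a ha k ⟨g, hg⟩
  · rw [extendByZero_of_not_mem N _ _ (fun h => hg ((conj_mem_iff_of_normal N g k).1 h)),
      extendByZero_of_not_mem N _ _ hg]

/-- the action of an invariant weighted sum on a character of `G` -/
theorem omegaFn_ext_wsum [Fintype (IrrCharacter N)] (a : IrrCharacter N → ℂ)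
    (ha : ∀ (x : G) (θ : IrrCharacter N),
      a (irrTransport (MulAut.conjNormal x : N ≃* N) θ) = a θ)
    {χ : G → ℂ} (hχ : IsIrrCharacter G χ) (θ : IrrCharacter N)
    (hu : classInner (res N χ) (θ : N → ℂ) ≠ 0) :
    omegaFn χ (extendByZero N (wsum N a)) = a θ := by
  rw [Cover.omegaFn_of_under N (ext_wsum_isClassFunction N a ha)
    (fun g hg => extendByZero_of_not_mem N _ g hg) hχ θ.2 hu, fg_res_E, omegaFn_wsum]

/-- the action of the truncation of a central element on a character of `G` -/
theorem omegaFn_truncN {β : G → ℂ} (hβ : IsClassFunction G β)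
    {χ : G → ℂ} (hχ : IsIrrCharacter G χ) (θ : IrrCharacter N)
    (hu : classInner (res N χ) (θ : N → ℂ) ≠ 0) :
    omegaFn χ (truncN N β) = omegaFn (θ : N → ℂ) (res N β) := by
  rw [Cover.omegaFn_of_under N (truncN_isClassFunction N hβ)
    (fun g hg => truncN_of_not_mem N β hg) hχ θ.2 hu]
  unfold truncN
  rw [fg_res_E]

/-- the central character values of an invariant function are invariant -/
theorem omegaFn_irrTransport_conj {w : N → ℂ}
    (hw : ∀ (x : G) (n : N), w ⟨x * n * x⁻¹, hN.conj_mem n n.2 x⟩ = w n)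
    (x : G) (θ : IrrCharacter N) :
    omegaFn (irrTransport (MulAut.conjNormal x : N ≃* N) θ : N → ℂ) w
      = omegaFn (θ : N → ℂ) w := by
  have h1 : (irrTransport (MulAut.conjNormal x : N ≃* N) θ : N → ℂ)
      = conjFunN N x (θ : N → ℂ) := by
    funext n
    rw [irrTransport_apply, conjFunN_apply, fr_conjNormal_eq]
  have h2 : conjFunN N x w = w := by
    funext n
    rw [conjFunN_apply]
    exact hw x n
  rw [h1]
  conv_lhs => rw [← h2]
  exact Cover.omegaFn_conj N x (θ : N → ℂ) w

end CoverAll3

end Cfsg.Agent.helper24
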