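import Mathlib
import Cfsg.Agent.Lib_helper24_CoverAll3

/-!
Covering blocks (helper24), part 4: the eigenspace argument; the characters of a normal subgroup
lying under a block form a union of blocks.
-/

set_option autoImplicit false

namespace Cfsg.Agent.helper24

open Cfsg Cfsg.Agent.helper5 Cfsg.Agent.helper8
open scoped ComplexConjugate

universe u

section CoverAll4

variable {G : Type u} [Group G] [Fintype G] (N : Subgroup G) [hN : N.Normal] [Fintype N]

omit [Fintype N] in
/-- the eigenspace argument: the part of a `p`-regular central element supported on `N` lying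
over the support of the truncated block idempotent is `p`-regular -/
theorem eigen_cut (p : ℕ) (M : Ideal AlgInt) (hM : IsPModular p M)
    (B : Set (IrrCharacter G)) (hB : IsPBlock M B) {E E₁ : G → ℂ}
    (hE : IsClassFunction G E) (hE₁ : IsClassFunction G E₁)
    (hE0 : ∀ g, g ∉ N → E g = 0) (hE₁0 : ∀ g, g ∉ N → E₁ g = 0)
    (P1 : ∀ χ : IrrCharacter G, omegaFn (χ : G → ℂ) E
      = if omegaFn (χ : G → ℂ) (truncN N (blockCoeff B)) = 0 then 0 else 1)
    (P2 : ∀ χ : IrrCharacter G, omegaFn (χ : G → ℂ) E₁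
      = (omegaFn (χ : G → ℂ) (truncN N (blockCoeff B)))⁻¹)
    {D : G → ℂ} (hD : IsClassFunction G D) (hD0 : ∀ g, g ∉ N → D g = 0)
    (hDp : pcut p D = D) : pcut p (cconv D E) = cconv D E := by
  obtain ⟨Z, hZdef⟩ : ∃ Z : G → ℂ, Z = truncN N (blockCoeff B) := ⟨_, rfl⟩
  rw [← hZdef] at P1 P2
  have hZ : IsClassFunction G Z := by
    rw [hZdef]
    exact truncN_isClassFunction N (blockCoeff_isClassFunction B)
  obtain ⟨V, hVdef⟩ : ∃ V : G → ℂ, V = cconv D E := ⟨_, rfl⟩
  obtain ⟨V', hV'def⟩ : ∃ V' : G → ℂ, V' = D - V := ⟨_, rfl⟩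
  obtain ⟨V₁, hV₁def⟩ : ∃ V₁ : G → ℂ, V₁ = cconv D E₁ := ⟨_, rfl⟩
  rw [← hVdef]
  have hV : IsClassFunction G V := by
    rw [hVdef]
    exact cconv_isClassFunction hD hE
  have hV₁ : IsClassFunction G V₁ := by
    rw [hV₁def]
    exact cconv_isClassFunction hD hE₁
  have hV' : IsClassFunction G V' := by
    rw [hV'def]
    exact isClassFunction_sub hD hV
  have hV0 : ∀ g, g ∉ N → V g = 0 := by
    rw [hVdef]
    exact cconv_support N hD0 hE0
  have hV₁0 : ∀ g, g ∉ N → V₁ g = 0 := by
    rw [hV₁def]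
    exact cconv_support N hD0 hE₁0
  have hV'0 : ∀ g, g ∉ N → V' g = 0 := by
    intro g hg
    rw [hV'def]
    show D g - V g = 0
    rw [hD0 g hg, hV0 g hg, sub_zero]
  have hωV : ∀ χ : IrrCharacter G, omegaFn (χ : G → ℂ) V
      = omegaFn (χ : G → ℂ) D * omegaFn (χ : G → ℂ) E := by
    intro χ
    rw [hVdef, omegaFn_cconv χ.2 _ hE]
  have hΛV' : cconv V' Z = 0 := by
    apply classFunction_ext_omega (cconv_isClassFunction hV' hZ) isClassFunction_zero
    intro χ
    rw [omegaFn_cconv χ.2 _ hZ, hV'def, omegaFn_sub, hωV, P1, omegaFn_zero]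
    by_cases h : omegaFn (χ : G → ℂ) Z = 0
    · rw [h, mul_zero]
    · rw [if_neg h]
      ring
  have hVeq : V = cconv V₁ Z := by
    apply classFunction_ext_omega hV (cconv_isClassFunction hV₁ hZ)
    intro χ
    rw [omegaFn_cconv χ.2 _ hZ, hωV, hV₁def, omegaFn_cconv χ.2 _ hE₁, P1, P2]
    by_cases h : omegaFn (χ : G → ℂ) Z = 0
    · rw [if_pos h, h]
      ring
    · rw [if_neg h, mul_assoc, inv_mul_cancel₀ h]
  have hcutV : pcut p V = cconv (pcut p V₁) Z := by
    conv_lhs => rw [hVeq]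
    rw [hZdef]
    exact pcut_cconv_truncN N p M hM B hB hV₁ hV₁0
  have hpcut0 : pcut p (0 : G → ℂ) = 0 := by
    funext g
    unfold pcut
    simp
  have hcutV' : cconv (pcut p V') Z = 0 := by
    rw [hZdef, ← pcut_cconv_truncN N p M hM B hB hV' hV'0, ← hZdef, hΛV', hpcut0]
  have hWeq : pcut p V - V = V' - pcut p V' := by
    rw [hV'def, pcut_sub, hDp]
    ring
  have hW : pcut p V - V = 0 := by
    apply classFunction_ext_omega (isClassFunction_sub (pcut_isClassFunction p hV) hV)
      isClassFunction_zero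
    intro χ
    rw [omegaFn_zero]
    by_cases h : omegaFn (χ : G → ℂ) Z = 0
    · have e1 : omegaFn (χ : G → ℂ) (pcut p V)
          = omegaFn (χ : G → ℂ) (pcut p V₁) * omegaFn (χ : G → ℂ) Z := by
        rw [hcutV, omegaFn_cconv χ.2 _ hZ]
      have e2 : omegaFn (χ : G → ℂ) V
          = omegaFn (χ : G → ℂ) V₁ * omegaFn (χ : G → ℂ) Z := by
        conv_lhs => rw [hVeq]
        exact omegaFn_cconv χ.2 _ hZ
      rw [omegaFn_sub, e1, e2, h]
      ring
    · have e3 : cconv (pcut p V - V) Z = 0 := by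
        rw [hWeq, cconv_sub_left, hΛV', hcutV', sub_zero]
      have e4 := congrArg (omegaFn (χ : G → ℂ)) e3
      rw [omegaFn_cconv χ.2 _ hZ, omegaFn_zero] at e4
      rcases mul_eq_zero.1 e4 with h' | h'
      · exact h'
      · exact absurd h' h
  exact sub_eq_zero.1 hW

end CoverAll4

end Cfsg.Agent.helper24
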