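import Mathlib
import Cfsg.Agent.Lib_helper24_CoverAll4

/-!
Covering blocks (helper24), part 5: the characters of a normal subgroup lying under a block of
the group form a union of blocks; every character of a covered block lies under the covering
block.
-/

set_option autoImplicit false

namespace Cfsg.Agent.helper24

open Cfsg Cfsg.Agent.helper5 Cfsg.Agent.helper8
open scoped ComplexConjugate

universe u

section CoverAll5

variable {G : Type u} [Group G] [Fintype G] (N : Subgroup G) [hN : N.Normal] [Fintype N]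

set_option maxHeartbeats 1600000 in
/-- the set of characters of `N` on which the truncated block idempotent does not vanish has an
idempotent with local coefficients -/
theorem cover_set_local (p : ℕ) [Fact p.Prime] (M : Ideal AlgInt) (hM : IsPModular p M)
    (B : Set (IrrCharacter G)) (hB : IsPBlock M B) (n : N) :
    MemLocalRing M (blockCoeff {θ : IrrCharacter N |
      omegaFn (θ : N → ℂ) (res N (blockCoeff B)) ≠ 0} n) := by
  classical
  have := Fintype.ofFinite (IrrCharacter N)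
  have := Fintype.ofFinite (IrrCharacter G)
  have hpp : p.Prime := Fact.out
  have hMp : M.IsPrime := hM.2.1.isPrime
  have hβ : IsClassFunction G (blockCoeff B) := blockCoeff_isClassFunction B
  obtain ⟨w, hwdef⟩ : ∃ w : N → ℂ, w = res N (blockCoeff B) := ⟨_, rfl⟩
  have hwinv : ∀ (x : G) (m : N), w ⟨x * m * x⁻¹, hN.conj_mem m m.2 x⟩ = w m := by
    intro x m
    rw [hwdef]
    exact hβ _ _
  obtain ⟨c, hc⟩ : ∃ c : IrrCharacter N → ℂ, ∀ θ, c θ = omegaFn (θ : N → ℂ) w :=
    ⟨_, fun _ => rfl⟩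
  have hcinv : ∀ (x : G) (θ : IrrCharacter N),
      c (irrTransport (MulAut.conjNormal x : N ≃* N) θ) = c θ := by
    intro x θ
    rw [hc, hc]
    exact omegaFn_irrTransport_conj N hwinv x θ
  obtain ⟨a1, ha1⟩ : ∃ a1 : IrrCharacter N → ℂ, ∀ θ, a1 θ = if c θ = 0 then 0 else 1 :=
    ⟨_, fun _ => rfl⟩
  obtain ⟨a2, ha2⟩ : ∃ a2 : IrrCharacter N → ℂ, ∀ θ, a2 θ = (c θ)⁻¹ := ⟨_, fun _ => rfl⟩
  have ha1inv : ∀ (x : G) (θ : IrrCharacter N),
      a1 (irrTransport (MulAut.conjNormal x : N ≃* N) θ) = a1 θ := by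
    intro x θ
    rw [ha1, ha1, hcinv]
  have ha2inv : ∀ (x : G) (θ : IrrCharacter N),
      a2 (irrTransport (MulAut.conjNormal x : N ≃* N) θ) = a2 θ := by
    intro x θ
    rw [ha2, ha2, hcinv]
  obtain ⟨E, hEdef⟩ : ∃ E : G → ℂ, E = extendByZero N (wsum N a1) := ⟨_, rfl⟩
  obtain ⟨E₁, hE₁def⟩ : ∃ E₁ : G → ℂ, E₁ = extendByZero N (wsum N a2) := ⟨_, rfl⟩
  have hE : IsClassFunction G E := by
    rw [hEdef]
    exact ext_wsum_isClassFunction N a1 ha1inv
  have hE₁ : IsClassFunction G E₁ := by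
    rw [hE₁def]
    exact ext_wsum_isClassFunction N a2 ha2inv
  have hE0 : ∀ g, g ∉ N → E g = 0 := by
    intro g hg
    rw [hEdef, extendByZero_of_not_mem N _ g hg]
  have hE₁0 : ∀ g, g ∉ N → E₁ g = 0 := by
    intro g hg
    rw [hE₁def, extendByZero_of_not_mem N _ g hg]
  have hωZ : ∀ (χ : IrrCharacter G) (θ : IrrCharacter N),
      classInner (res N (χ : G → ℂ)) (θ : N → ℂ) ≠ 0 →
      omegaFn (χ : G → ℂ) (truncN N (blockCoeff B)) = c θ := by
    intro χ θ hu
    rw [omegaFn_truncN N hβ χ.2 θ hu, hc, hwdef]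
  have P1 : ∀ χ : IrrCharacter G, omegaFn (χ : G → ℂ) E
      = if omegaFn (χ : G → ℂ) (truncN N (blockCoeff B)) = 0 then 0 else 1 := by
    intro χ
    obtain ⟨θ, hu⟩ := Cover.exists_under N χ.2
    rw [hωZ χ θ hu, hEdef, omegaFn_ext_wsum N a1 ha1inv χ.2 θ hu, ha1]
  have P2 : ∀ χ : IrrCharacter G, omegaFn (χ : G → ℂ) E₁
      = (omegaFn (χ : G → ℂ) (truncN N (blockCoeff B)))⁻¹ := by
    intro χ
    obtain ⟨θ, hu⟩ := Cover.exists_under N χ.2
    rw [hωZ χ θ hu, hE₁def, omegaFn_ext_wsum N a2 ha2inv χ.2 θ hu, ha2]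
  -- the set of characters of `G`
  obtain ⟨AA, hAA⟩ : ∃ AA : Set (IrrCharacter G),
      AA = {χ : IrrCharacter G | omegaFn (χ : G → ℂ) (truncN N (blockCoeff B)) ≠ 0} := ⟨_, rfl⟩
  have hmemAA : ∀ χ : IrrCharacter G, χ ∈ AA
      ↔ omegaFn (χ : G → ℂ) (truncN N (blockCoeff B)) ≠ 0 := by
    intro χ
    rw [hAA]
    rfl
  have hEAA : blockCoeff AA = E := by
    apply classFunction_ext_omega (blockCoeff_isClassFunction AA) hE
    intro χ
    rw [omegaFn_blockCoeff, P1]
    by_cases h : omegaFn (χ : G → ℂ) (truncN N (blockCoeff B)) = 0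
    · rw [if_pos h, if_neg (fun h' => (hmemAA χ).1 h' h)]
    · rw [if_neg h, if_pos ((hmemAA χ).2 h)]
  -- the identification on `N`
  have hEN : wsum N a1 = blockCoeff {θ : IrrCharacter N |
      omegaFn (θ : N → ℂ) (res N (blockCoeff B)) ≠ 0} := by
    apply classFunction_ext_omega (wsum_isClassFunction N a1) (blockCoeff_isClassFunction _)
    intro θ
    rw [omegaFn_wsum, omegaFn_blockCoeff, ha1, hc, hwdef]
    by_cases h : omegaFn (θ : N → ℂ) (res N (blockCoeff B)) = 0
    · rw [if_pos h, if_neg (fun h' : θ ∈ {θ : IrrCharacter N |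
        omegaFn (θ : N → ℂ) (res N (blockCoeff B)) ≠ 0} => h' h)]
    · rw [if_neg h, if_pos (show θ ∈ {θ : IrrCharacter N |
        omegaFn (θ : N → ℂ) (res N (blockCoeff B)) ≠ 0} from h)]
  have hval : blockCoeff {θ : IrrCharacter N |
      omegaFn (θ : N → ℂ) (res N (blockCoeff B)) ≠ 0} n = blockCoeff AA (n : G) := by
    rw [hEAA, hEdef, extendByZero_coe, hEN]
  rw [hval]
  -- the kernel
  have hdelta0 : ∀ g, g ∉ N → deltaOne G g = 0 := by
    intro g hg
    unfold deltaOne
    rw [if_neg]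
    rintro rfl
    exact hg N.one_mem
  have hdeltap : pcut p (deltaOne G) = deltaOne G := by
    funext x
    by_cases hx : x = 1
    · rw [pcut_of_pregular]
      rw [hx, orderOf_one]
      exact fun h => hpp.one_lt.ne' (Nat.dvd_one.1 h)
    · have h0 : deltaOne G x = 0 := by
        unfold deltaOne
        rw [if_neg hx]
      unfold pcut
      rw [h0, mul_zero]
  apply kernel_blockCoeff_local p M hM AA (n : G)
  · intro hsing
    have h1 := eigen_cut N p M hM B hB hE hE₁ hE0 hE₁0 P1 P2 deltaOne_isClassFunction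
      hdelta0 hdeltap
    rw [cconv_deltaOne_left] at h1
    rw [hEAA, ← h1, pcut_of_singular p E hsing]
  · intro hreg x hx
    obtain ⟨D, hDdef⟩ : ∃ D : G → ℂ, D = classInd (n : G) := ⟨_, rfl⟩
    have hD : IsClassFunction G D := by
      rw [hDdef]
      exact classInd_isClassFunction _
    have hD0 : ∀ g, g ∉ N → D g = 0 := by
      intro g hg
      rw [hDdef]
      unfold classInd
      rw [if_neg]
      intro hconj
      obtain ⟨k, hk⟩ := isConj_iff.1 hconj
      apply hg
      rw [← hk]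
      exact hN.conj_mem _ n.2 k
    have hDp : pcut p D = D := by
      funext y
      rw [hDdef]
      by_cases hy : IsConj (n : G) y
      · rw [pcut_of_pregular]
        obtain ⟨k, hk⟩ := isConj_iff.1 hy
        have h2 : orderOf y = orderOf (n : G) := by
          rw [← hk]
          have := MulEquiv.orderOf_eq (MulAut.conj k) (n : G)
          rwa [MulAut.conj_apply] at this
        rw [h2]
        exact hreg
      · unfold pcut classInd
        rw [if_neg hy, mul_zero]
    have hK := eigen_cut N p M hM B hB hE hE₁ hE0 hE₁0 P1 P2 hD hD0 hDp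
    have hV : IsClassFunction G (cconv D E) := cconv_isClassFunction hD hE
    have hxinv : p ∣ orderOf x⁻¹ := by
      rw [orderOf_inv]
      exact hx
    have hV0 : cconv D E x⁻¹ = 0 := by
      rw [← hK, pcut_of_singular p _ hxinv]
    rw [classFunction_eq_sum_omega hV x⁻¹] at hV0
    have hG : (Nat.card G : ℂ)⁻¹ ≠ 0 := by
      apply inv_ne_zero
      exact_mod_cast Nat.card_pos.ne'
    have h3 := (mul_eq_zero.1 hV0).resolve_left hG
    obtain ⟨idx, hidx⟩ : ∃ idx : ℕ,
        idx = (Subgroup.centralizer ({(n : G)} : Set G)).index := ⟨_, rfl⟩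
    have hidx0 : (idx : ℂ) ≠ 0 := by
      rw [hidx]
      exact_mod_cast Subgroup.index_ne_zero_of_finite
    have hterm : ∀ χ : IrrCharacter G,
        (χ : G → ℂ) 1 * omegaFn (χ : G → ℂ) (cconv D E) * conj ((χ : G → ℂ) x⁻¹)
        = (idx : ℂ) * (if χ ∈ AA then (χ : G → ℂ) (n : G) * (χ : G → ℂ) x else 0) := by
      intro χ
      have hχ1 : (χ : G → ℂ) 1 ≠ 0 := irr_apply_one_ne_zero χ.2
      rw [omegaFn_cconv χ.2 _ hE, hDdef, omegaFn_classInd (irr_isCharacter χ.2), ← hEAA,
        omegaFn_blockCoeff, char_inv (irr_isCharacter χ.2) x, Complex.conj_conj]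
      unfold centralChar
      rw [← hidx]
      by_cases hχ : χ ∈ AA
      · rw [if_pos hχ, if_pos hχ]
        field_simp
      · rw [if_neg hχ, if_neg hχ]
        ring
    rw [Finset.sum_congr rfl (fun χ _ => hterm χ), ← Finset.mul_sum] at h3
    have h4 := (mul_eq_zero.1 h3).resolve_left hidx0
    rw [← Finset.sum_filter] at h4
    have h5 := congrArg conj h4
    rw [map_sum, map_zero] at h5
    rw [← h5]
    refine Finset.sum_congr rfl (fun χ _ => ?_)
    rw [map_mul]

end CoverAll5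

end Cfsg.Agent.helper24

namespace Cfsg.Agent.helper24

open Cfsg Cfsg.Agent.helper5 Cfsg.Agent.helper8
open scoped ComplexConjugate

universe u

section CoverAll5b

variable {G : Type u} [Group G] [Fintype G] (N : Subgroup G) [hN : N.Normal] [Fintype N]

omit hN in
/-- the truncated block idempotent does not vanish on `θ` iff some member of the block lies over
`θ` -/
theorem omegaFn_res_blockCoeff_ne_zero_iff (B : Set (IrrCharacter G)) (θ : IrrCharacter N) :
    omegaFn (θ : N → ℂ) (res N (blockCoeff B)) ≠ 0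
      ↔ ∃ χ ∈ B, classInner (res N (χ : G → ℂ)) (θ : N → ℂ) ≠ 0 := by
  have hβ : IsClassFunction G (blockCoeff B) := blockCoeff_isClassFunction B
  have hθ1 : (θ : N → ℂ) 1 ≠ 0 := irr_apply_one_ne_zero θ.2
  have hind : IsCharacter G (indFun N (θ : N → ℂ)) :=
    Cfsg.Agent.helper12.isCharacter_indFun N (irr_isCharacter θ.2)
  have h1 := fr_sum_indFun_mul (T := N) (θ : N → ℂ) hβ
  have hG : (Nat.card G : ℂ) ≠ 0 := by exact_mod_cast Nat.card_pos.ne'
  have hNc : (Nat.card N : ℂ)⁻¹ ≠ 0 := by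
    apply inv_ne_zero
    exact_mod_cast Nat.card_pos.ne'
  have h2 : omegaFn (θ : N → ℂ) (res N (blockCoeff B)) ≠ 0
      ↔ ∑ g : G, blockCoeff B g * indFun N (θ : N → ℂ) g ≠ 0 := by
    have e1 : ∑ g : G, blockCoeff B g * indFun N (θ : N → ℂ) g
        = ∑ g : G, indFun N (θ : N → ℂ) g * blockCoeff B g :=
      Finset.sum_congr rfl (fun g _ => mul_comm _ _)
    have e2 : ∑ t : N, (θ : N → ℂ) t * blockCoeff B (t : G)
        = ∑ h : N, res N (blockCoeff B) h * (θ : N → ℂ) h :=
      Finset.sum_congr rfl (fun t _ => mul_comm _ _)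
    rw [e1, h1, e2]
    unfold omegaFn
    constructor
    · intro h
      have h3 : ∑ h : N, res N (blockCoeff B) h * (θ : N → ℂ) h ≠ 0 := by
        intro h0
        apply h
        rw [h0, zero_div]
      exact mul_ne_zero hG (mul_ne_zero hNc h3)
    · intro h h0
      apply h
      rw [div_eq_zero_iff] at h0
      rcases h0 with h0 | h0
      · rw [h0, mul_zero, mul_zero]
      · exact absurd h0 hθ1
  rw [h2, fr_mass B hind]
  constructor
  · rintro ⟨χ, hχ, hne⟩
    refine ⟨χ, hχ, ?_⟩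
    rw [classInner_indFun_irr N (θ : N → ℂ) (irr_isCharacter χ.2)] at hne
    intro h0
    apply hne
    rw [← classInner_conj_symm, h0, map_zero]
  · rintro ⟨χ, hχ, hne⟩
    refine ⟨χ, hχ, ?_⟩
    rw [classInner_indFun_irr N (θ : N → ℂ) (irr_isCharacter χ.2)]
    intro h0
    apply hne
    rw [← classInner_conj_symm, h0, map_zero]

/-- **every member of a covered block lies under the covering block** -/
theorem cover_all (p : ℕ) [Fact p.Prime] (M : Ideal AlgInt) (hM : IsPModular p M)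
    (B : Set (IrrCharacter G)) (hB : IsPBlock M B) (b : Set (IrrCharacter N))
    (hb : IsPBlock M b)
    (hcov : ∃ χ ∈ B, ∃ θ ∈ b, classInner (res N (χ : G → ℂ)) (θ : N → ℂ) ≠ 0)
    (θ : IrrCharacter N) (hθ : θ ∈ b) :
    ∃ χ ∈ B, classInner (res N (χ : G → ℂ)) (θ : N → ℂ) ≠ 0 := by
  have hMp : M.IsPrime := hM.2.1.isPrime
  obtain ⟨χ₀, hχ₀, θ₀, hθ₀, hne⟩ := hcov
  have hθ₀A : θ₀ ∈ {θ : IrrCharacter N |
      omegaFn (θ : N → ℂ) (res N (blockCoeff B)) ≠ 0} :=
    (omegaFn_res_blockCoeff_ne_zero_iff N B θ₀).2 ⟨χ₀, hχ₀, hne⟩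
  have hsub := block_subset_of_local p M hM _
    (fun n => cover_set_local N p M hM B hB n) θ₀ hθ₀A
  rw [blockOf_eq_of_mem hb hθ₀] at hsub
  exact (omegaFn_res_blockCoeff_ne_zero_iff N B θ).1 (hsub hθ)

end CoverAll5b

end Cfsg.Agent.helper24
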