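import Mathlib
import Cfsg.Agent.Lib_helper1_MG1
import Cfsg.Agent.Lib_helper22_Gallagher
import Cfsg.Agent.Lib_helper22_MGroup
import Cfsg.Agent.Lib_helper24_CoverAll5
import Cfsg.Agent.Lib_helper24_LocalRing
import Cfsg.Agent.Lib_helper24_LocalIdeal
import Cfsg.Agent.Lib_helper24_ThirdMain
import Cfsg.Agent.Lib_helper1_PrincBlock
import Cfsg.Agent.Lib_helper8_Ind

set_option autoImplicit false
set_option linter.unusedSectionVars false
set_option linter.unusedVariables false
set_option linter.style.longLine false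
set_option linter.style.haveILetI false

/-!
Alperin–Dade (helper1), part 1: abstract lemmas on a finite group `Γ` with a normal subgroup `K`
supplemented by the centralizer of a Sylow `p`-subgroup.
-/

namespace Cfsg.Agent.helper1

open Cfsg Cfsg.Agent.helper24
open scoped ComplexConjugate

universe u

section AD1
variable {Γ : Type u} [Group Γ] [Fintype Γ]

/-- the value condition: `χ c / χ 1 ≡ 1` for all `c` centralizing the Sylow subgroup -/
def adP (M : Ideal AlgInt) (C : Subgroup Γ) (χ : Γ → ℂ) : Prop :=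
  ∀ c ∈ C, MemLocalIdeal M (χ c / χ 1 - 1)

/-- a member of the principal block is congruent to its degree on `C(P)` -/
theorem ad_val_cen (p : ℕ) [Fact p.Prime] {M : Ideal AlgInt} (hM : IsPModular p M)
    (P : Sylow p Γ) (χ : IrrCharacter Γ) (hχ : χ ∈ principalBlock M Γ) :
    adP M (Subgroup.centralizer ((P : Subgroup Γ) : Set Γ)) (χ : Γ → ℂ) := by
  intro c hc
  have hMp : M.IsPrime := hM.2.1.isPrime
  have hle : (P : Subgroup Γ) ≤ Subgroup.centralizer ({c} : Set Γ) := by
    intro x hx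
    rw [Subgroup.mem_centralizer_iff]
    intro h hh
    rw [Set.mem_singleton_iff] at hh
    subst hh
    rw [Subgroup.mem_centralizer_iff] at hc
    exact (hc x hx).symm
  have hk : ¬ p ∣ (Subgroup.centralizer ({c} : Set Γ)).index := fun h =>
    P.not_dvd_index (h.trans (Subgroup.index_dvd_of_le hle))
  have hk0 : ((Subgroup.centralizer ({c} : Set Γ)).index : ℂ) ≠ 0 := by
    intro h0
    have : (Subgroup.centralizer ({c} : Set Γ)).index = 0 := by exact_mod_cast h0
    rw [this] at hk
    exact hk (dvd_zero p)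
  have h := hχ c
  have hkr : MemLocalRing M (((Subgroup.centralizer ({c} : Set Γ)).index : ℂ))⁻¹ :=
    memLocalRing_inv (memLocalRing_of_integral hMp.ne_top (isIntegral_natCast_complex _))
      (natCast_not_memLocalIdeal hM hk)
  have h2 := memLocalIdeal_neg (memLocalIdeal_mul_left hkr h)
  convert h2 using 1
  simp only [centralChar]
  field_simp
  ring

end AD1

section AD2
variable {Γ : Type u} [Group Γ] [Fintype Γ] (K : Subgroup Γ) [hK : K.Normal] [Fintype K]

/-- every element is congruent mod `K` to an element of a supplement -/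
theorem ad_exists_rep (C : Subgroup Γ) (hsup : K ⊔ C = ⊤) (g : Γ) :
    ∃ c ∈ C, (QuotientGroup.mk c : Γ ⧸ K) = QuotientGroup.mk g := by
  have hg : g ∈ ((K ⊔ C : Subgroup Γ) : Set Γ) := by rw [hsup]; trivial
  rw [Subgroup.normal_mul] at hg
  obtain ⟨k, hk, c, hc, rfl⟩ := Set.mem_mul.mp hg
  refine ⟨c, hc, ?_⟩
  rw [QuotientGroup.eq]
  have : c⁻¹ * (k * c) = c⁻¹ * k * c := by group
  rw [this]
  have := hK.conj_mem k hk c⁻¹
  rwa [inv_inv] at this

/-- **uniqueness**: two irreducible characters over the same irreducible `θ = χ₀|_K`, both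
congruent to their degrees on a supplement `C` of `K` with `p ∤ |Γ : K|`, are equal -/
theorem ad_unique (p : ℕ) [Fact p.Prime] {M : Ideal AlgInt} (hM : IsPModular p M)
    (hidx : ¬ p ∣ K.index) (C : Subgroup Γ) (hsup : K ⊔ C = ⊤)
    {χ₀ : Γ → ℂ} (hχ₀ : IsIrrCharacter Γ χ₀) (hθ : IsIrrCharacter K (helper5.res K χ₀))
    (hP₀ : adP M C χ₀) {χ : Γ → ℂ} (hχ : IsIrrCharacter Γ χ)
    (hne : classInner (helper5.res K χ) (helper5.res K χ₀) ≠ 0) (hP : adP M C χ) :
    χ = χ₀ := by
  classical
  have hMp : M.IsPrime := hM.2.1.isPrime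
  haveI : Fintype (IrrCharacter (Γ ⧸ K)) := Fintype.ofFinite _
  haveI : Fintype (Γ ⧸ K) := Fintype.ofFinite _
  obtain ⟨-, -, h3⟩ := helper22.gallagher K hχ₀ hθ
  obtain ⟨β, hβ⟩ := h3 χ hχ hne
  have hβ1 : (β : Γ ⧸ K → ℂ) 1 ≠ 0 := by
    rw [← char_charDegree_cast (irr_isCharacter β.2)]
    exact_mod_cast (irr_charDegree_pos β.2).ne'
  have hχ₀1 : χ₀ 1 ≠ 0 := by
    rw [← char_charDegree_cast (irr_isCharacter hχ₀)]
    exact_mod_cast (irr_charDegree_pos hχ₀).ne'
  -- each normalized value of β is ≡ 1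
  have hval : ∀ q : Γ ⧸ K, MemLocalIdeal M ((β : Γ ⧸ K → ℂ) q / (β : Γ ⧸ K → ℂ) 1 - 1) := by
    intro q
    obtain ⟨g, rfl⟩ := QuotientGroup.mk_surjective q
    obtain ⟨c, hc, hcg⟩ := ad_exists_rep K C hsup g
    rw [← hcg]
    have hb := hP₀ c hc
    have hab := hP c hc
    have hχc : χ c = (β : Γ ⧸ K → ℂ) (c : Γ ⧸ K) * χ₀ c := by
      rw [hβ]; rfl
    have hχ1 : χ 1 = (β : Γ ⧸ K → ℂ) 1 * χ₀ 1 := by
      rw [hβ]; rfl
    set a := (β : Γ ⧸ K → ℂ) (c : Γ ⧸ K) / (β : Γ ⧸ K → ℂ) 1 with ha
    set b := χ₀ c / χ₀ 1 with hb'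
    have habeq : χ c / χ 1 = a * b := by
      rw [hχc, hχ1, ha, hb']
      field_simp
    rw [habeq] at hab
    have hbR : MemLocalRing M b :=
      memLocalRing_of_sub_memLocalIdeal (memLocalRing_one hMp.ne_top) hb
    have habR : MemLocalRing M (a * b) :=
      memLocalRing_of_sub_memLocalIdeal (memLocalRing_one hMp.ne_top) hab
    have hbn : ¬ MemLocalIdeal M b := by
      intro h
      apply not_memLocalIdeal_one (M := M)
      have := memLocalIdeal_sub h hb
      simpa using this
    have hb0 : b ≠ 0 := by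
      intro h0
      apply hbn
      rw [h0]
      exact memLocalIdeal_zero hMp.ne_top
    have hbinv := memLocalRing_inv hbR hbn
    have haR : MemLocalRing M a := by
      have : a = (a * b) * b⁻¹ := by field_simp
      rw [this]
      exact memLocalRing_mul habR hbinv
    have : a - 1 = (a * b - 1) - a * (b - 1) := by ring
    rw [this]
    exact memLocalIdeal_sub hab (memLocalIdeal_mul_left haR hb)
  -- hence the sum of β is nonzero
  have hsum : ∑ q : Γ ⧸ K, (β : Γ ⧸ K → ℂ) q ≠ 0 := by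
    intro h0
    have h1 := memLocalIdeal_sum (M := M) Finset.univ
      (fun q : Γ ⧸ K => (β : Γ ⧸ K → ℂ) q / (β : Γ ⧸ K → ℂ) 1 - 1) (fun q _ => hval q)
    rw [Finset.sum_sub_distrib, ← Finset.sum_div, h0, zero_div, zero_sub, Finset.sum_const,
      Finset.card_univ, nsmul_eq_mul, mul_one] at h1
    have h2 := memLocalIdeal_neg h1
    rw [neg_neg] at h2
    have hcard : Fintype.card (Γ ⧸ K) = K.index := by
      rw [Subgroup.index_eq_card, Nat.card_eq_fintype_card]
    rw [hcard] at h2
    exact natCast_not_memLocalIdeal hM hidx h2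
  have hβone : (β : Γ ⧸ K → ℂ) = fun _ => 1 := by
    have h1 : classInner (β : Γ ⧸ K → ℂ) (fun _ => 1) ≠ 0 := by
      unfold classInner
      simp only [map_one, mul_one]
      apply mul_ne_zero _ hsum
      rw [Ne, inv_eq_zero]
      exact_mod_cast Nat.card_pos.ne'
    rw [irr_classInner β.2 isIrrCharacter_one] at h1
    by_contra hne'
    rw [if_neg hne'] at h1
    exact h1 rfl
  rw [hβ, hβone]
  funext g
  show helper22.infl K (fun _ => (1 : ℂ)) g * χ₀ g = χ₀ g
  rw [helper22.infl_apply, one_mul]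

end AD2

section AD3
variable {Γ : Type u} [Group Γ] [Fintype Γ] (K : Subgroup Γ) [hK : K.Normal] [Fintype K]

/-- the principal block of `Γ` covers the principal block of `K` -/
theorem ad_princ_cov (M : Ideal AlgInt) (hMtop : M ≠ ⊤) :
    ∃ χ ∈ principalBlock M Γ, ∃ θ ∈ principalBlock M ↥K,
      classInner (helper5.res K (χ : Γ → ℂ)) (θ : K → ℂ) ≠ 0 := by
  refine ⟨oneIrr Γ, oneIrr_mem_principalBlock hMtop, oneIrr K, oneIrr_mem_principalBlock hMtop, ?_⟩
  have : helper5.res K ((oneIrr Γ : IrrCharacter Γ) : Γ → ℂ) = ((oneIrr K : IrrCharacter K) : K → ℂ) := rfl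
  rw [this, irr_classInner_self (oneIrr K).2]
  exact one_ne_zero

/-- **prime index step**: if `K` has prime index and is supplemented by `C(P)`, every member of the
principal block of `K` extends to a member of the principal block of `Γ` -/
theorem ad_prime (p : ℕ) [Fact p.Prime] {M : Ideal AlgInt} (hM : IsPModular p M)
    (q : ℕ) (hq : q.Prime) (hidx : K.index = q) (P : Sylow p Γ)
    (hsup : K ⊔ Subgroup.centralizer ((P : Subgroup Γ) : Set Γ) = ⊤)
    (θ : IrrCharacter K) (hθ : θ ∈ principalBlock M ↥K) :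
    ∃ χ ∈ principalBlock M Γ, helper5.res K (χ : Γ → ℂ) = (θ : K → ℂ) := by
  classical
  have hMp : M.IsPrime := hM.2.1.isPrime
  obtain ⟨χ, hχ, h1⟩ := cover_all K p M hM (principalBlock M Γ) (isPBlock_principalBlock M)
    (principalBlock M ↥K) (isPBlock_principalBlock M) (ad_princ_cov K M hMp.ne_top) θ hθ
  refine ⟨χ, hχ, ?_⟩
  by_cases hinv : ∀ g : Γ, helper8.conjFunN K g (θ : K → ℂ) = (θ : K → ℂ)
  · exact mg_prime_ext K q hq hidx χ.2 θ.2 hinv h1
  · exfalso
    have hdeg := mg_prime_ind K q hq hidx χ.2 θ.2 hinv h1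
    have hind : indFun K (θ : K → ℂ) = (χ : Γ → ℂ) :=
      helper22.indFun_eq_of_degree K χ.2 (irr_isCharacter θ.2) h1 (by rw [hidx]; exact hdeg)
    -- an element of `C(P)` outside `K`
    have hex : ∃ c ∈ Subgroup.centralizer ((P : Subgroup Γ) : Set Γ), c ∉ K := by
      by_contra hcon
      push Not at hcon
      have hle : Subgroup.centralizer ((P : Subgroup Γ) : Set Γ) ≤ K := hcon
      rw [sup_eq_left.mpr hle] at hsup
      rw [hsup, Subgroup.index_top] at hidx
      exact hq.one_lt.ne' hidx.symm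
    obtain ⟨c, hc, hcK⟩ := hex
    have h0 : (χ : Γ → ℂ) c = 0 := by
      rw [← hind]
      exact helper8.indFun_of_not_mem_normal K _ c hcK
    have h2 := ad_val_cen p hM P χ hχ c hc
    rw [h0, zero_div, zero_sub] at h2
    have h3 := memLocalIdeal_neg h2
    rw [neg_neg] at h3
    exact not_memLocalIdeal_one h3

end AD3

end Cfsg.Agent.helper1
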