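import Mathlib
import Cfsg.Agent.Lib_helper1_AD1
import Cfsg.Agent.Lib_helper22_InvConst
import Cfsg.Agent.Lib_helper22_AGroup
import Cfsg.Agent.Lib_helper24_CharCount

set_option autoImplicit false
set_option linter.unusedSectionVars false
set_option linter.unusedVariables false
set_option linter.style.longLine false
set_option linter.style.haveILetI false

/-!
Alperin–Dade (helper1), part 2: a character with irreducible restriction is irreducible; the
norm of an extension on a coset.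
-/

namespace Cfsg.Agent.helper1

open Cfsg Cfsg.Agent.helper24
open scoped ComplexConjugate

universe u

section IRR
variable {Γ : Type u} [Group Γ] [Fintype Γ] (K : Subgroup Γ) [Fintype K]

/-- a character whose restriction to a subgroup is irreducible is irreducible -/
theorem ad_irr_of_res {ψ : Γ → ℂ} (hψ : IsCharacter Γ ψ)
    (hθ : IsIrrCharacter K (helper5.res K ψ)) : IsIrrCharacter Γ ψ := by
  classical
  haveI : Fintype (IrrCharacter Γ) := Fintype.ofFinite _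
  have hψ1 : ψ 1 ≠ 0 := by
    have h1 : helper5.res K ψ 1 = ψ 1 := rfl
    rw [← h1, ← char_charDegree_cast (irr_isCharacter hθ)]
    exact_mod_cast (irr_charDegree_pos hθ).ne'
  obtain ⟨ξ, hξ⟩ := helper22.exists_constituent_of_char hψ hψ1
  obtain ⟨hle, heq⟩ := helper22.char_eq_of_constituent_degree hψ ξ.2 hξ
  have hξK : IsCharacter K (helper5.res K (ξ : Γ → ℂ)) :=
    helper12.isCharacter_restrict K (irr_isCharacter ξ.2)
  have hξ1 : helper5.res K (ξ : Γ → ℂ) 1 ≠ 0 := by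
    have h1 : helper5.res K (ξ : Γ → ℂ) 1 = (ξ : Γ → ℂ) 1 := rfl
    rw [h1, ← char_charDegree_cast (irr_isCharacter ξ.2)]
    exact_mod_cast (irr_charDegree_pos ξ.2).ne'
  obtain ⟨ν, hν⟩ := helper22.exists_constituent_of_char hξK hξ1
  obtain ⟨n, hexp, hn, -⟩ := helper12.char_decomp hψ
  have hk : ∀ ζ : IrrCharacter Γ, ∃ k : ℕ,
      classInner (helper5.res K (ζ : Γ → ℂ)) (ν : K → ℂ) = k := fun ζ =>
    helper12.classInner_char_nat (helper12.isCharacter_restrict K (irr_isCharacter ζ.2))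
      (irr_isCharacter ν.2)
  choose k hk using hk
  have hres : helper5.res K ψ = ∑ ζ : IrrCharacter Γ, (n ζ : ℂ) • helper5.res K (ζ : Γ → ℂ) := by
    funext x
    have h1 : helper5.res K ψ x = ψ x := rfl
    rw [h1]
    conv_lhs => rw [hexp]
    simp only [Finset.sum_apply, Pi.smul_apply, helper5.res]
  have hsum : classInner (helper5.res K ψ) (ν : K → ℂ) = ((∑ ζ : IrrCharacter Γ, n ζ * k ζ : ℕ) : ℂ) := by
    rw [hres, classInner_sum_left]
    push_cast
    apply Finset.sum_congr rfl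
    intro ζ _
    rw [classInner_smul_left, hk]
  have hnξ : n ξ ≠ 0 := by
    intro h0
    apply hξ
    rw [hn ξ, h0, Nat.cast_zero]
  have hkξ : k ξ ≠ 0 := by
    intro h0
    apply hν
    rw [hk ξ, h0, Nat.cast_zero]
  have hne : classInner (helper5.res K ψ) (ν : K → ℂ) ≠ 0 := by
    rw [hsum]
    have h1 : n ξ * k ξ ≤ ∑ ζ : IrrCharacter Γ, n ζ * k ζ :=
      Finset.single_le_sum (f := fun ζ => n ζ * k ζ) (fun _ _ => Nat.zero_le _) (Finset.mem_univ ξ)
    have h2 : 0 < n ξ * k ξ := Nat.mul_pos (Nat.pos_of_ne_zero hnξ) (Nat.pos_of_ne_zero hkξ)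
    exact_mod_cast (lt_of_lt_of_le h2 h1).ne'
  have hθν : helper5.res K ψ = (ν : K → ℂ) := by
    rw [irr_classInner hθ ν.2] at hne
    by_contra h
    rw [if_neg h] at hne
    exact hne rfl
  have hν' : classInner (helper5.res K (ξ : Γ → ℂ)) (helper5.res K ψ) ≠ 0 := by
    rw [hθν]; exact hν
  obtain ⟨hle2, -⟩ := helper22.char_eq_of_constituent_degree hξK hθ hν'
  have hd1 : charDegree (helper5.res K ψ) = charDegree ψ := rfl
  have hd2 : charDegree (helper5.res K (ξ : Γ → ℂ)) = charDegree (ξ : Γ → ℂ) := rfl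
  rw [hd1, hd2] at hle2
  rw [heq hle2]
  exact ξ.2

end IRR

section CosetNorm
variable {Γ : Type u} [Group Γ] [Fintype Γ] (K : Subgroup Γ) [hK : K.Normal] [Fintype K]

/-- the squared norm of an extension of an irreducible character of `K` over a coset of `K`
equals `|K|` (abelian quotient) -/
theorem ad_coset_norm (hcomm : ∀ a b : Γ ⧸ K, a * b = b * a) {η : Γ → ℂ}
    (hη : IsIrrCharacter Γ η) (hθ : IsIrrCharacter K (helper5.res K η)) (x₀ : Γ) :
    ∑ k : K, η (x₀ * k) * conj (η (x₀ * k)) = (Nat.card K : ℂ) := by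
  classical
  haveI : Fintype (IrrCharacter (Γ ⧸ K)) := Fintype.ofFinite _
  haveI : Fintype (Γ ⧸ K) := Fintype.ofFinite _
  obtain ⟨h1, h2, -⟩ := helper22.gallagher K hη hθ
  have hcardΓ : (Nat.card Γ : ℂ) ≠ 0 := by exact_mod_cast Nat.card_pos.ne'
  have hcardQ : (Nat.card (Γ ⧸ K) : ℂ) ≠ 0 := by exact_mod_cast Nat.card_pos.ne'
  have hone : helper22.infl K ((oneIrr (Γ ⧸ K) : IrrCharacter (Γ ⧸ K)) : Γ ⧸ K → ℂ) * η = η := by
    funext g
    show (1 : ℂ) * η g = η g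
    rw [one_mul]
  -- step 2
  have hS : ∀ β : IrrCharacter (Γ ⧸ K),
      ∑ x : Γ, (β : Γ ⧸ K → ℂ) (x : Γ ⧸ K) * (η x * conj (η x)) =
        if β = oneIrr (Γ ⧸ K) then (Nat.card Γ : ℂ) else 0 := by
    intro β
    have h3 := irr_classInner (h1 β) hη
    have h4 : (helper22.infl K (β : Γ ⧸ K → ℂ) * η = η) ↔ β = oneIrr (Γ ⧸ K) := by
      constructor
      · intro h
        exact h2 β (oneIrr (Γ ⧸ K)) (h.trans hone.symm)
      · intro h
        rw [h]; exact hone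
    have h5 : classInner (helper22.infl K (β : Γ ⧸ K → ℂ) * η) η =
        (Nat.card Γ : ℂ)⁻¹ * ∑ x : Γ, (β : Γ ⧸ K → ℂ) (x : Γ ⧸ K) * (η x * conj (η x)) := by
      unfold classInner
      congr 1
      apply Finset.sum_congr rfl
      intro x _
      rw [Pi.mul_apply, helper22.infl_apply, mul_assoc]
    rw [h5] at h3
    by_cases hβ : β = oneIrr (Γ ⧸ K)
    · rw [if_pos hβ]
      rw [if_pos (h4.mpr hβ)] at h3
      rw [(inv_mul_eq_iff_eq_mul₀ hcardΓ).mp h3, mul_one]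
    · rw [if_neg hβ]
      rw [if_neg (fun h => hβ (h4.mp h))] at h3
      rcases mul_eq_zero.mp h3 with h | h
      · exact absurd (inv_eq_zero.mp h) hcardΓ
      · exact h
  -- step 4
  have hL : ∑ β : IrrCharacter (Γ ⧸ K), conj ((β : Γ ⧸ K → ℂ) (x₀ : Γ ⧸ K)) *
      ∑ x : Γ, (β : Γ ⧸ K → ℂ) (x : Γ ⧸ K) * (η x * conj (η x)) = (Nat.card Γ : ℂ) := by
    rw [Finset.sum_congr rfl (fun β _ => by rw [hS β])]
    rw [Finset.sum_eq_single (oneIrr (Γ ⧸ K))]
    · rw [if_pos rfl]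
      show conj (1 : ℂ) * _ = _
      rw [map_one, one_mul]
    · intro β _ hβ
      rw [if_neg hβ, mul_zero]
    · intro h; exact absurd (Finset.mem_univ _) h
  -- step 5
  have hcol : ∀ x : Γ, ∑ β : IrrCharacter (Γ ⧸ K),
      (β : Γ ⧸ K → ℂ) (x : Γ ⧸ K) * conj ((β : Γ ⧸ K → ℂ) (x₀ : Γ ⧸ K)) =
        if (x : Γ ⧸ K) = (x₀ : Γ ⧸ K) then (Nat.card (Γ ⧸ K) : ℂ) else 0 := by
    intro x
    rw [irr_column_orthogonality]
    have hconj : IsConj (x : Γ ⧸ K) (x₀ : Γ ⧸ K) ↔ (x : Γ ⧸ K) = (x₀ : Γ ⧸ K) := by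
      rw [isConj_iff]
      constructor
      · rintro ⟨c, hc⟩
        rw [hcomm c, mul_assoc, mul_inv_cancel, mul_one] at hc
        exact hc
      · intro h
        exact ⟨1, by rw [h]; group⟩
    have hcen : Subgroup.centralizer ({(x₀ : Γ ⧸ K)} : Set (Γ ⧸ K)) = ⊤ := by
      rw [eq_top_iff]
      intro y _
      rw [Subgroup.mem_centralizer_iff]
      intro h _
      exact hcomm h y
    rw [hcen]
    by_cases h : (x : Γ ⧸ K) = (x₀ : Γ ⧸ K)
    · rw [if_pos (hconj.mpr h), if_pos h, Subgroup.card_top]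
    · rw [if_neg (fun h' => h (hconj.mp h')), if_neg h]
  have hL2 : ∑ β : IrrCharacter (Γ ⧸ K), conj ((β : Γ ⧸ K → ℂ) (x₀ : Γ ⧸ K)) *
      ∑ x : Γ, (β : Γ ⧸ K → ℂ) (x : Γ ⧸ K) * (η x * conj (η x)) =
      (Nat.card (Γ ⧸ K) : ℂ) *
        ∑ x : Γ, if (x : Γ ⧸ K) = (x₀ : Γ ⧸ K) then η x * conj (η x) else 0 := by
    simp only [Finset.mul_sum]
    rw [Finset.sum_comm]
    apply Finset.sum_congr rfl
    intro x _
    have := hcol x
    have h6 : ∑ β : IrrCharacter (Γ ⧸ K), conj ((β : Γ ⧸ K → ℂ) (x₀ : Γ ⧸ K)) *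
        ((β : Γ ⧸ K → ℂ) (x : Γ ⧸ K) * (η x * conj (η x))) =
        (∑ β : IrrCharacter (Γ ⧸ K),
          (β : Γ ⧸ K → ℂ) (x : Γ ⧸ K) * conj ((β : Γ ⧸ K → ℂ) (x₀ : Γ ⧸ K))) * (η x * conj (η x)) := by
      rw [Finset.sum_mul]
      apply Finset.sum_congr rfl
      intro β _
      ring
    rw [h6, this]
    by_cases h : (x : Γ ⧸ K) = (x₀ : Γ ⧸ K)
    · rw [if_pos h, if_pos h]
    · rw [if_neg h, if_neg h, zero_mul, mul_zero]
  -- step 6
  have hcos : ∑ x : Γ, (if (x : Γ ⧸ K) = (x₀ : Γ ⧸ K) then η x * conj (η x) else 0) =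
      ∑ k : K, η (x₀ * k) * conj (η (x₀ * k)) := by
    rw [← mg_sum_subgroup K (fun y => η (x₀ * y) * conj (η (x₀ * y)))]
    rw [← Equiv.sum_comp (Equiv.mulLeft x₀)]
    apply Finset.sum_congr rfl
    intro y _
    have hiff : ((Equiv.mulLeft x₀ y : Γ) : Γ ⧸ K) = (x₀ : Γ ⧸ K) ↔ y ∈ K := by
      rw [Equiv.coe_mulLeft, eq_comm, QuotientGroup.eq, inv_mul_cancel_left]
    by_cases hy : y ∈ K
    · rw [if_pos (hiff.mpr hy), if_pos hy]; rfl
    · rw [if_neg (fun h => hy (hiff.mp h)), if_neg hy]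
  rw [hL2, hcos] at hL
  have hcard : (Nat.card Γ : ℂ) = (Nat.card (Γ ⧸ K) : ℂ) * (Nat.card K : ℂ) := by
    rw [Subgroup.card_eq_card_quotient_mul_card_subgroup K]
    push_cast
    rfl
  rw [hcard] at hL
  exact mul_left_cancel₀ hcardQ hL

end CosetNorm

end Cfsg.Agent.helper1
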