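import Cfsg.Agent.Lib_helper24_CharCod

set_option autoImplicit false
open Cfsg

namespace Cfsg.Agent.helper24

universe u


/-- A finite group that is not perfect has a normal subgroup of prime index. -/
theorem exists_normal_prime_index {G : Type u} [Group G] [Finite G] (h : commutator G ≠ ⊤) :
    ∃ N : Subgroup G, N.Normal ∧ (N.index).Prime := by
  classical
  have hnt : Nontrivial (Abelianization G) := by
    rw [Abelianization, QuotientGroup.nontrivial_iff]
    exact h
  have hnt2 : Nontrivial (Subgroup (Abelianization G)) := Subgroup.nontrivial_iff.mpr hnt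
  obtain ⟨M, hM⟩ := IsCoatomic.exists_coatom (α := Subgroup (Abelianization G))
  have hMn : M.Normal := Subgroup.normal_of_isMulCommutative M
  have hsimple : IsSimpleGroup (Abelianization G ⧸ M) := by
    have hnt3 : Nontrivial (Abelianization G ⧸ M) := by
      rw [QuotientGroup.nontrivial_iff]
      exact hM.1
    refine ⟨fun H _ => ?_⟩
    have hle : M ≤ H.comap (QuotientGroup.mk' M) := by
      intro x hx
      rw [Subgroup.mem_comap]
      have : (QuotientGroup.mk' M) x = 1 := (QuotientGroup.eq_one_iff x).mpr hx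
      rw [this]
      exact H.one_mem
    rcases hM.le_iff.mp hle with h1 | h1
    · right
      rw [← Subgroup.map_comap_eq_self_of_surjective (QuotientGroup.mk'_surjective M) H, h1,
        Subgroup.map_top_of_surjective _ (QuotientGroup.mk'_surjective M)]
    · left
      apply Subgroup.comap_injective (QuotientGroup.mk'_surjective M)
      rw [h1, MonoidHom.comap_bot, QuotientGroup.ker_mk']
  have hprime : (Nat.card (Abelianization G ⧸ M)).Prime := IsSimpleGroup.prime_card
  refine ⟨M.comap (Abelianization.of), inferInstance, ?_⟩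
  have hsurj : Function.Surjective (Abelianization.of : G →* Abelianization G) :=
    QuotientGroup.mk'_surjective (commutator G)
  rw [Subgroup.index_comap_of_surjective _ hsurj]
  exact hprime



/-- A group of prime order `p` has an irreducible character of codegree `p`. -/
theorem exists_codeg_prime_of_card_prime {H : Type u} [Group H] [Finite H] {p : ℕ} (hp : p.Prime)
    (hcard : Nat.card H = p) : ∃ ψ : IrrCharacter H, codeg (ψ : H → ℂ) = p := by
  classical
  have := Fintype.ofFinite (IrrCharacter H)
  have hsum : ∑ χ : IrrCharacter H, charDegree (χ : H → ℂ) ^ 2 = Nat.card H := sum_irr_degree_sq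
  have hsum0 := hsum
  have hsumN := sum_degree_sq_ker (G := H) ⊤
  rw [← Finset.sum_filter_add_sum_filter_not Finset.univ
    (fun χ : IrrCharacter H => ∀ n ∈ (⊤ : Subgroup H), (χ : H → ℂ) n = (χ : H → ℂ) 1), hsumN,
    Subgroup.index_top] at hsum
  have hex : ∃ χ : IrrCharacter H, (¬ ∀ n ∈ (⊤ : Subgroup H), (χ : H → ℂ) n = (χ : H → ℂ) 1) := by
    by_contra hcon
    simp only [not_exists, not_not] at hcon
    have : (Finset.univ.filter (fun χ : IrrCharacter H =>
        ¬ ∀ n ∈ (⊤ : Subgroup H), (χ : H → ℂ) n = (χ : H → ℂ) 1)) = ∅ := by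
      apply Finset.filter_false_of_mem
      intro χ _
      simpa using hcon χ
    rw [this, Finset.sum_empty, hcard] at hsum
    exact hp.one_lt.ne' hsum.symm
  obtain ⟨ψ, hψ⟩ := hex
  refine ⟨ψ, ?_⟩
  have hc := irr_isCharacter ψ.2
  have hker : charKer hc = ⊥ := by
    have hp' : Fact (Nat.card H).Prime := ⟨hcard ▸ hp⟩
    rcases Subgroup.eq_bot_or_eq_top_of_prime_card (charKer hc) with h | h
    · exact h
    · exfalso
      apply hψ
      intro n _
      apply (mem_charKer hc n).mp
      rw [h]
      trivial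
  have hfaith : ∀ g, (ψ : H → ℂ) g = (ψ : H → ℂ) 1 → g = 1 := by
    intro g hg
    have : g ∈ charKer hc := (mem_charKer hc g).mpr hg
    rwa [hker, Subgroup.mem_bot] at this
  rw [codeg_faithful hfaith]
  have hd : charDegree (ψ : H → ℂ) ∣ Nat.card H := irr_degree_dvd_card ψ.2
  rw [hcard] at hd
  rcases (Nat.dvd_prime hp).mp hd with h1 | h1
  · rw [h1, hcard, Nat.div_one]
  · exfalso
    have h2 : charDegree (ψ : H → ℂ) ^ 2 ≤ ∑ χ : IrrCharacter H, charDegree (χ : H → ℂ) ^ 2 :=
      Finset.single_le_sum (f := fun χ : IrrCharacter H => charDegree (χ : H → ℂ) ^ 2)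
        (fun _ _ => Nat.zero_le _) (Finset.mem_univ ψ)
    rw [hsum0, hcard, h1] at h2
    have := hp.one_lt
    nlinarith



/-- In a group with a faithful irreducible character `ψ` with `|H| = p ψ(1)`, and `H` nontrivial,
`ψ(1) < p`. -/
theorem degree_lt_of_card_eq_prime_mul {H : Type u} [Group H] [Finite H]
    (ψ : IrrCharacter H) (hf : ∀ h, (ψ : H → ℂ) h = (ψ : H → ℂ) 1 → h = 1) (p : ℕ) (hp : p.Prime)
    (hcard : Nat.card H = p * charDegree (ψ : H → ℂ)) : charDegree (ψ : H → ℂ) < p := by
  classical
  have := Fintype.ofFinite (IrrCharacter H)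
  have hsum : ∑ χ : IrrCharacter H, charDegree (χ : H → ℂ) ^ 2 = Nat.card H := sum_irr_degree_sq
  have hne : irrOne H ≠ ψ := by
    intro h
    have h1 : ∀ g : H, g = 1 := by
      intro g
      apply hf
      rw [← h]
      rfl
    have h2 : Subsingleton H := ⟨fun a b => (h1 a).trans (h1 b).symm⟩
    have h3 : Nat.card H = 1 := Nat.card_unique
    have hd1 : charDegree (ψ : H → ℂ) = 1 := by
      rw [← h]
      exact charDegree_natCast _ 1 (by simp [irrOne])
    rw [h3, hd1, mul_one] at hcard
    exact hp.one_lt.ne' hcard.symm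
  have hpair : ∑ χ ∈ ({irrOne H, ψ} : Finset (IrrCharacter H)), charDegree (χ : H → ℂ) ^ 2 ≤
      ∑ χ : IrrCharacter H, charDegree (χ : H → ℂ) ^ 2 :=
    Finset.sum_le_sum_of_subset (Finset.subset_univ _)
  rw [Finset.sum_pair hne, hsum, hcard] at hpair
  have hd1 : charDegree ((irrOne H : IrrCharacter H) : H → ℂ) = 1 :=
    charDegree_natCast _ 1 (by simp [irrOne])
  rw [hd1] at hpair
  by_contra hcon
  have hcon' : p ≤ charDegree (ψ : H → ℂ) := not_lt.mp hcon
  nlinarith

/-- A perfect group has no faithful irreducible character `ψ` with `|H| = p ψ(1)`. -/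
theorem no_faithful_prime_cod {H : Type u} [Group H] [Finite H] (hperf : commutator H = ⊤)
    (ψ : IrrCharacter H) (hf : ∀ h, (ψ : H → ℂ) h = (ψ : H → ℂ) 1 → h = 1) (p : ℕ) (hp : p.Prime)
    (hcard : Nat.card H = p * charDegree (ψ : H → ℂ)) : False := by
  classical
  have hdlt := degree_lt_of_card_eq_prime_mul ψ hf p hp hcard
  have hdpos : 0 < charDegree (ψ : H → ℂ) := irr_charDegree_pos ψ.2
  set d := charDegree (ψ : H → ℂ) with hd
  have hpd : ¬ p ∣ d := Nat.not_dvd_of_pos_of_lt hdpos hdlt
  have : Fact p.Prime := ⟨hp⟩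
  let P : Sylow p H := default
  have hPcard : Nat.card P = p := by
    rw [Sylow.card_eq_multiplicity, hcard, Nat.factorization_mul hp.ne_zero hdpos.ne']
    simp [hp.factorization_self, Nat.factorization_eq_zero_of_not_dvd hpd]
  have hPindex : (P : Subgroup H).index = d := by
    have h1 := Subgroup.card_mul_index (P : Subgroup H)
    rw [hPcard, hcard] at h1
    exact Nat.eq_of_mul_eq_mul_left hp.pos h1
  have hn1 : Nat.card (Sylow p H) = 1 := by
    have h1 : Nat.card (Sylow p H) ∣ d := hPindex ▸ Sylow.card_dvd_index P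
    have h2 : Nat.card (Sylow p H) ≡ 1 [MOD p] := card_sylow_modEq_one p H
    have h3 : Nat.card (Sylow p H) ≤ d := Nat.le_of_dvd hdpos h1
    have h4 : Nat.card (Sylow p H) < p := lt_of_le_of_lt h3 hdlt
    unfold Nat.ModEq at h2
    rwa [Nat.mod_eq_of_lt h4, Nat.mod_eq_of_lt hp.one_lt] at h2
  have hsub : Subsingleton (Sylow p H) := (Nat.card_eq_one_iff_unique.mp hn1).1
  have hPn : (P : Subgroup H).Normal := Sylow.normal_of_subsingleton P
  have hPcyc : IsCyclic (P : Subgroup H) := isCyclic_of_prime_card hPcard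
  -- the conjugation action on P is trivial
  let φ : H →* (ZMod (Nat.card (P : Subgroup H)))ˣ :=
    (IsCyclic.mulAutMulEquiv (P : Subgroup H)).toMonoidHom.comp (MulAut.conjNormal)
  have hker : φ.ker = ⊤ := by
    apply top_le_iff.mp
    rw [← hperf]
    exact Abelianization.commutator_subset_ker φ
  have hconj : ∀ (h : H) (z : H), z ∈ (P : Subgroup H) → h * z * h⁻¹ = z := by
    intro h z hz
    have h1 : φ h = 1 := by
      have : h ∈ φ.ker := by rw [hker]; trivial
      exact this
    have h2 : (MulAut.conjNormal h : MulAut (P : Subgroup H)) = 1 := by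
      have h3 : (IsCyclic.mulAutMulEquiv (P : Subgroup H)) (MulAut.conjNormal h) = 1 := h1
      exact (MulEquiv.map_eq_one_iff _).mp h3
    have h4 := congrArg (fun f : MulAut (P : Subgroup H) => ((f ⟨z, hz⟩ : (P : Subgroup H)) : H)) h2
    simpa using h4
  have hP : Subgroup.normalizer ((P : Subgroup H) : Set H) ≤ Subgroup.centralizer ((P : Subgroup H) : Set H) := by
    intro h _
    rw [Subgroup.mem_centralizer_iff]
    intro z hz
    have := hconj h z hz
    calc z * h = (h * z * h⁻¹) * h := by rw [this]
      _ = h * z := by group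
  have hcomp := MonoidHom.ker_transferSylow_isComplement' P hP
  have hidx : (MonoidHom.transferSylow P hP).ker.index = p := by
    have := hcomp.symm.index_eq_card
    rw [this]
    exact hPcard
  have hKtop : (MonoidHom.transferSylow P hP).ker = ⊤ := by
    apply top_le_iff.mp
    rw [← hperf, commutator_eq_closure, Subgroup.closure_le]
    rintro x ⟨a, b, rfl⟩
    rw [SetLike.mem_coe, MonoidHom.mem_ker, map_commutatorElement,
      commutatorElement_eq_one_iff_commute]
    have h1 := hP (Subgroup.le_normalizer (MonoidHom.transferSylow P hP b).2)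
      (MonoidHom.transferSylow P hP a) (MonoidHom.transferSylow P hP a).2
    exact Subtype.ext h1
  rw [hKtop, Subgroup.index_top] at hidx
  exact hp.one_lt.ne' hidx.symm

end Cfsg.Agent.helper24
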