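import Mathlib
import Cfsg.Agent.Lib_helper1_AD2
import Cfsg.Agent.Lib_helper1_PrincAut
import Cfsg.Agent.Lib_helper24_CodPrime

set_option autoImplicit false
set_option linter.unusedSectionVars false
set_option linter.unusedVariables false
set_option linter.style.longLine false
set_option linter.style.haveILetI false

/-!
Alperin–Dade (helper1), part 3: extension of the principal block of `N` to subgroups `J ≥ N`
with `J/N` solvable.
-/

namespace Cfsg.Agent.helper1

open Cfsg Cfsg.Agent.helper24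
open scoped ComplexConjugate

universe u

section Rel
variable {G : Type u} [Group G] [Fintype G]

/-- a Sylow `p`-subgroup lies in every normal subgroup of index prime to `p` -/
theorem ad_sylow_le (p : ℕ) [Fact p.Prime] (N : Subgroup G) [hN : N.Normal]
    (hidx : ¬ p ∣ N.index) (P : Sylow p G) : (P : Subgroup G) ≤ N := by
  intro x hx
  obtain ⟨k, hk⟩ := P.2 ⟨x, hx⟩
  have hk' : x ^ p ^ k = 1 := by
    have := congrArg (Subtype.val) hk
    simpa using this
  have h1 : orderOf (QuotientGroup.mk' N x) ∣ p ^ k :=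
    (orderOf_map_dvd (QuotientGroup.mk' N) x).trans (orderOf_dvd_of_pow_eq_one hk')
  have h2 : orderOf (QuotientGroup.mk' N x) ∣ N.index := by
    rw [Subgroup.index_eq_card]
    exact orderOf_dvd_natCard _
  have hc : Nat.Coprime (p ^ k) N.index :=
    Nat.Coprime.pow_left k ((Nat.Prime.coprime_iff_not_dvd Fact.out).mpr hidx)
  have h3 : orderOf (QuotientGroup.mk' N x) = 1 :=
    Nat.Coprime.eq_one_of_dvd (Nat.Coprime.coprime_dvd_left h1 hc) h2
  rw [orderOf_eq_one_iff] at h3
  exact (QuotientGroup.eq_one_iff x).mp h3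

/-- the supplement condition passes to subgroups containing `N` -/
theorem ad_sub_sup (p : ℕ) [Fact p.Prime] (N : Subgroup G) [hN : N.Normal] (P : Sylow p G)
    (hsup : N ⊔ Subgroup.centralizer ((P : Subgroup G) : Set G) = ⊤)
    (J : Subgroup G) (hNJ : N ≤ J) (hPJ : (P : Subgroup G) ≤ J) :
    N.subgroupOf J ⊔ Subgroup.centralizer (((P.subtype hPJ : Sylow p ↥J) : Subgroup ↥J) : Set ↥J) = ⊤ := by
  rw [eq_top_iff]
  intro x _
  have hx : (x : G) ∈ ((N ⊔ Subgroup.centralizer ((P : Subgroup G) : Set G) : Subgroup G) : Set G) := by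
    rw [hsup]; trivial
  rw [Subgroup.normal_mul] at hx
  obtain ⟨n, hn, c, hc, hnc⟩ := Set.mem_mul.mp hx
  have hcJ : c ∈ J := by
    have : c = n⁻¹ * (x : G) := by rw [← hnc]; group
    rw [this]
    exact J.mul_mem (J.inv_mem (hNJ hn)) x.2
  have hx' : x = (⟨n, hNJ hn⟩ : ↥J) * ⟨c, hcJ⟩ := Subtype.ext hnc.symm
  rw [hx']
  apply Subgroup.mul_mem_sup
  · exact (Subgroup.mem_subgroupOf).mpr hn
  · rw [Subgroup.mem_centralizer_iff]
    intro y hy
    have hy' : (y : G) ∈ (P : Subgroup G) := hy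
    apply Subtype.ext
    have hc2 : c ∈ Subgroup.centralizer ((P : Subgroup G) : Set G) := hc
    rw [Subgroup.mem_centralizer_iff] at hc2
    exact hc2 (y : G) hy'

/-- `Ex(J)`: every member of the principal block of `N` extends to one of `J` -/
def adEx (M : Ideal AlgInt) (N J : Subgroup G) : Prop :=
  ∀ θ ∈ principalBlock M ↥N, ∃ η ∈ principalBlock M ↥J,
    ∀ (x : ↥J) (hx : (x : G) ∈ N), (η : ↥J → ℂ) x = (θ : ↥N → ℂ) ⟨x, hx⟩

theorem ad_ex_base (M : Ideal AlgInt) (N : Subgroup G) : adEx M N N := by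
  intro θ hθ
  exact ⟨θ, hθ, fun x hx => rfl⟩

theorem ad_ex_step (p : ℕ) [Fact p.Prime] {M : Ideal AlgInt} (hM : IsPModular p M)
    (N : Subgroup G) [hN : N.Normal] (P : Sylow p G) (hPN : (P : Subgroup G) ≤ N)
    (hsup : N ⊔ Subgroup.centralizer ((P : Subgroup G) : Set G) = ⊤)
    (J₁ J₂ : Subgroup G) (hNJ₁ : N ≤ J₁) (h12 : J₁ ≤ J₂)
    (hnorm : ∀ x ∈ J₂, ∀ y ∈ J₁, x * y * x⁻¹ ∈ J₁) (q : ℕ) (hq : q.Prime)
    (hrel : J₁.relIndex J₂ = q) (h1 : adEx M N J₁) : adEx M N J₂ := by
  classical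
  intro θ hθ
  obtain ⟨η₁, hη₁, hext₁⟩ := h1 θ hθ
  haveI : Fintype ↥J₁ := Fintype.ofFinite _
  haveI : Fintype ↥J₂ := Fintype.ofFinite _
  haveI : Fintype ↥(J₁.subgroupOf J₂) := Fintype.ofFinite _
  have hη₁' := comp_mulEquiv_mem_principalBlock (Subgroup.subgroupOfEquivOfLe h12) p M hM η₁ hη₁
  haveI : (J₁.subgroupOf J₂).Normal := by
    constructor
    intro y hy x
    rw [Subgroup.mem_subgroupOf] at hy ⊢
    have := hnorm x x.2 y hy
    simpa using this
  have hPJ₂ : (P : Subgroup G) ≤ J₂ := hPN.trans (hNJ₁.trans h12)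
  have hsup₂ : J₁.subgroupOf J₂ ⊔ Subgroup.centralizer
      (((P.subtype hPJ₂ : Sylow p ↥J₂) : Subgroup ↥J₂) : Set ↥J₂) = ⊤ := by
    rw [eq_top_iff, ← ad_sub_sup p N P hsup J₂ (hNJ₁.trans h12) hPJ₂]
    exact sup_le_sup_right (Subgroup.subgroupOf_mono J₂ hNJ₁) _
  obtain ⟨χ₂, hχ₂, hres⟩ := ad_prime (J₁.subgroupOf J₂) p hM q hq hrel (P.subtype hPJ₂) hsup₂ _ hη₁'
  refine ⟨χ₂, hχ₂, fun x hx => ?_⟩
  have hx1 : (x : G) ∈ J₁ := hNJ₁ hx
  have hx1' : x ∈ J₁.subgroupOf J₂ := (Subgroup.mem_subgroupOf).mpr hx1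
  have h2 := congrFun hres ⟨x, hx1'⟩
  have h3 : helper5.res (J₁.subgroupOf J₂) (χ₂ : ↥J₂ → ℂ) ⟨x, hx1'⟩ = (χ₂ : ↥J₂ → ℂ) x := rfl
  rw [h3] at h2
  rw [h2]
  exact hext₁ ⟨(x : G), hx1⟩ hx

end Rel

section Solv
variable {G : Type u} [Group G] [Fintype G]

theorem ad_ex_solv (p : ℕ) [Fact p.Prime] {M : Ideal AlgInt} (hM : IsPModular p M)
    (N : Subgroup G) [hN : N.Normal] (P : Sylow p G) (hPN : (P : Subgroup G) ≤ N)
    (hsup : N ⊔ Subgroup.centralizer ((P : Subgroup G) : Set G) = ⊤) :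
    ∀ (n : ℕ) (S : Subgroup (G ⧸ N)), Nat.card S = n → Group.IsSolvable S →
      adEx M N (S.comap (QuotientGroup.mk' N)) := by
  intro n
  induction n using Nat.strong_induction_on with
  | _ n ih =>
    intro S hS hsolv
    by_cases hbot : S = ⊥
    · subst hbot
      rw [MonoidHom.comap_bot, QuotientGroup.ker_mk']
      exact ad_ex_base M N
    · haveI : Nontrivial ↥S := (Subgroup.nontrivial_iff_ne_bot S).mpr hbot
      haveI : Group.IsSolvable ↥S := hsolv
      have hcomm : commutator ↥S ≠ ⊤ := (Group.IsSolvable.commutator_lt_top_of_nontrivial ↥S).ne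
      obtain ⟨T₀, hT₀n, hT₀p⟩ := exists_normal_prime_index hcomm
      set T : Subgroup (G ⧸ N) := T₀.map S.subtype with hT
      have hTS : T ≤ S := Subgroup.map_subtype_le T₀
      have hTsub : T.subgroupOf S = T₀ :=
        Subgroup.comap_map_eq_self_of_injective (Subgroup.subtype_injective S) T₀
      have hcardT : Nat.card T = Nat.card T₀ :=
        (Nat.card_congr (Subgroup.equivMapOfInjective T₀ S.subtype
          (Subgroup.subtype_injective S)).toEquiv).symm
      have hlt : Nat.card T < n := by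
        rw [hcardT, ← hS, ← Subgroup.card_mul_index T₀]
        have h1 : 0 < Nat.card T₀ := Nat.card_pos
        have h2 := hT₀p.one_lt
        nlinarith
      haveI : Group.IsSolvable ↥T :=
        Group.isSolvable_of_isSolvable_injective (Subgroup.inclusion_injective hTS)
      have ih1 := ih (Nat.card T) hlt T rfl inferInstance
      have hsurj : Function.Surjective (QuotientGroup.mk' N) := QuotientGroup.mk'_surjective N
      refine ad_ex_step p hM N P hPN hsup _ _ ?_ (Subgroup.comap_mono hTS) ?_ T₀.index hT₀p ?_ ih1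
      · intro x hx
        rw [Subgroup.mem_comap]
        have : QuotientGroup.mk' N x = 1 := (QuotientGroup.eq_one_iff x).mpr hx
        rw [this]
        exact T.one_mem
      · intro x hx y hy
        rw [Subgroup.mem_comap] at hx hy ⊢
        rw [hT, Subgroup.mem_map] at hy
        obtain ⟨t, ht, hty⟩ := hy
        have h1 := hT₀n.conj_mem t ht ⟨_, hx⟩
        rw [hT, Subgroup.mem_map]
        refine ⟨_, h1, ?_⟩
        simp only [map_mul, map_inv, hty, Subgroup.subtype_apply]
      · rw [Subgroup.relIndex_comap, Subgroup.map_comap_eq_self_of_surjective hsurj]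
        show (T.subgroupOf S).index = T₀.index
        rw [hTsub]

/-- every member of the principal block of `N` extends to `N ⊔ H` for `H` solvable -/
theorem ad_ex_sup (p : ℕ) [Fact p.Prime] {M : Ideal AlgInt} (hM : IsPModular p M)
    (N : Subgroup G) [hN : N.Normal] (P : Sylow p G) (hPN : (P : Subgroup G) ≤ N)
    (hsup : N ⊔ Subgroup.centralizer ((P : Subgroup G) : Set G) = ⊤)
    (H : Subgroup G) [Group.IsSolvable ↥H] : adEx M N (N ⊔ H) := by
  have h1 : (H.map (QuotientGroup.mk' N)).comap (QuotientGroup.mk' N) = N ⊔ H := by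
    rw [Subgroup.comap_map_eq, QuotientGroup.ker_mk', sup_comm]
  haveI : Group.IsSolvable ↥(H.map (QuotientGroup.mk' N)) :=
    Group.isSolvable_of_surjective ((QuotientGroup.mk' N).subgroupMap_surjective H)
  rw [← h1]
  exact ad_ex_solv p hM N P hPN hsup _ _ rfl inferInstance

end Solv

end Cfsg.Agent.helper1
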