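import Mathlib
import Cfsg.Agent.Lib_helper1_AD3

set_option autoImplicit false
set_option linter.unusedSectionVars false
set_option linter.unusedVariables false
set_option linter.style.longLine false
set_option linter.style.haveILetI false

/-!
Alperin–Dade (helper1), part 4: good pairs `(J, η)`, their uniqueness, restriction and
compatibility.
-/

namespace Cfsg.Agent.helper1

open Cfsg Cfsg.Agent.helper24
open scoped ComplexConjugate

universe u

section Good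
variable {G : Type u} [Group G] [Fintype G]

/-- the supplement condition passes to subgroups containing `N` (second form) -/
theorem ad_sub_sup' (N : Subgroup G) [hN : N.Normal] (C : Subgroup G) (hsup : N ⊔ C = ⊤)
    (J : Subgroup G) (hNJ : N ≤ J) : N.subgroupOf J ⊔ C.subgroupOf J = ⊤ := by
  rw [eq_top_iff]
  intro x _
  have hx : (x : G) ∈ ((N ⊔ C : Subgroup G) : Set G) := by
    rw [hsup]; trivial
  rw [Subgroup.normal_mul] at hx
  obtain ⟨n, hn, c, hc, hnc⟩ := Set.mem_mul.mp hx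
  have hcJ : c ∈ J := by
    have : c = n⁻¹ * (x : G) := by rw [← hnc]; group
    rw [this]
    exact J.mul_mem (J.inv_mem (hNJ hn)) x.2
  have hx' : x = (⟨n, hNJ hn⟩ : ↥J) * ⟨c, hcJ⟩ := Subtype.ext hnc.symm
  rw [hx']
  apply Subgroup.mul_mem_sup
  · exact (Subgroup.mem_subgroupOf).mpr hn
  · exact (Subgroup.mem_subgroupOf).mpr hc

/-- a good pair: an irreducible character of `J` extending `θ`, congruent to its degree on `C` -/
def adGood (M : Ideal AlgInt) (N C : Subgroup G) (θ : ↥N → ℂ) (J : Subgroup G) (η : ↥J → ℂ) : Prop :=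
  IsIrrCharacter ↥J η ∧ (∀ (x : ↥J) (hx : (x : G) ∈ N), η x = θ ⟨x, hx⟩) ∧
    ∀ x : ↥J, (x : G) ∈ C → MemLocalIdeal M (η x / η 1 - 1)

/-- the restriction to `N.subgroupOf J` of an extension of `θ` -/
theorem ad_res_eq (N : Subgroup G) (θ : ↥N → ℂ) (J : Subgroup G) (hNJ : N ≤ J) (η : ↥J → ℂ)
    (hext : ∀ (x : ↥J) (hx : (x : G) ∈ N), η x = θ ⟨x, hx⟩) :
    helper5.res (N.subgroupOf J) η = fun k => θ (Subgroup.subgroupOfEquivOfLe hNJ k) := by
  funext k
  exact hext k.1 k.2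

theorem ad_good_exists (p : ℕ) [Fact p.Prime] {M : Ideal AlgInt} (hM : IsPModular p M)
    (N : Subgroup G) [hN : N.Normal] (P : Sylow p G) (hPN : (P : Subgroup G) ≤ N)
    (hsup : N ⊔ Subgroup.centralizer ((P : Subgroup G) : Set G) = ⊤)
    (θ : IrrCharacter ↥N) (hθ : θ ∈ principalBlock M ↥N)
    (H : Subgroup G) [Group.IsSolvable ↥H] :
    ∃ η : ↥(N ⊔ H) → ℂ, adGood M N (Subgroup.centralizer ((P : Subgroup G) : Set G))
      (θ : ↥N → ℂ) (N ⊔ H) η := by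
  classical
  obtain ⟨η, hη, hext⟩ := ad_ex_sup p hM N P hPN hsup H θ hθ
  refine ⟨η, η.2, hext, ?_⟩
  haveI : Fintype ↥(N ⊔ H) := Fintype.ofFinite _
  have hPJ : (P : Subgroup G) ≤ N ⊔ H := hPN.trans le_sup_left
  have h1 := ad_val_cen p hM (P.subtype hPJ) η hη
  intro x hx
  apply h1 x
  rw [Subgroup.mem_centralizer_iff]
  intro y hy
  have hy' : (y : G) ∈ (P : Subgroup G) := hy
  apply Subtype.ext
  rw [Subgroup.mem_centralizer_iff] at hx
  exact hx (y : G) hy'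

theorem ad_good_unique (p : ℕ) [Fact p.Prime] {M : Ideal AlgInt} (hM : IsPModular p M)
    (N : Subgroup G) [hN : N.Normal] (hidx : ¬ p ∣ N.index) (C : Subgroup G) (hsup : N ⊔ C = ⊤)
    (θ : ↥N → ℂ) (hθ : IsIrrCharacter ↥N θ) (J : Subgroup G) (hNJ : N ≤ J)
    (η η' : ↥J → ℂ) (h : adGood M N C θ J η) (h' : adGood M N C θ J η') : η' = η := by
  classical
  haveI : Fintype ↥J := Fintype.ofFinite _
  haveI : Fintype ↥(N.subgroupOf J) := Fintype.ofFinite _
  haveI : Fintype ↥N := Fintype.ofFinite _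
  have hidx' : ¬ p ∣ (N.subgroupOf J).index := fun hd =>
    hidx (hd.trans (Subgroup.relIndex_dvd_index_of_normal N J))
  have hr := ad_res_eq N θ J hNJ η h.2.1
  have hr' := ad_res_eq N θ J hNJ η' h'.2.1
  have hirr : IsIrrCharacter ↥(N.subgroupOf J)
      (fun k => θ (Subgroup.subgroupOfEquivOfLe hNJ k)) :=
    helper8.isIrrCharacter_comp_mulEquiv (Subgroup.subgroupOfEquivOfLe hNJ) hθ
  refine ad_unique (N.subgroupOf J) p hM hidx' (C.subgroupOf J) (ad_sub_sup' N C hsup J hNJ)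
    h.1 (by rw [hr]; exact hirr) (fun c hc => h.2.2 c hc) h'.1 ?_ (fun c hc => h'.2.2 c hc)
  rw [hr, hr', irr_classInner_self hirr]
  exact one_ne_zero

theorem ad_good_res (M : Ideal AlgInt) (N : Subgroup G) [hN : N.Normal] (C : Subgroup G)
    (θ : ↥N → ℂ) (hθ : IsIrrCharacter ↥N θ) (J' J : Subgroup G) (hNJ' : N ≤ J') (hJ : J' ≤ J)
    (η : ↥J → ℂ) (h : adGood M N C θ J η) :
    adGood M N C θ J' (fun x => η (Subgroup.inclusion hJ x)) := by
  classical
  haveI : Fintype ↥J' := Fintype.ofFinite _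
  haveI : Fintype ↥(N.subgroupOf J') := Fintype.ofFinite _
  have hext : ∀ (x : ↥J') (hx : (x : G) ∈ N),
      (fun x => η (Subgroup.inclusion hJ x)) x = θ ⟨x, hx⟩ := fun x hx =>
    h.2.1 (Subgroup.inclusion hJ x) hx
  refine ⟨?_, hext, ?_⟩
  · apply ad_irr_of_res (N.subgroupOf J')
      (helper8.isCharacter_comp_monoidHom (Subgroup.inclusion hJ) (irr_isCharacter h.1))
    rw [ad_res_eq N θ J' hNJ' _ hext]
    exact helper8.isIrrCharacter_comp_mulEquiv (Subgroup.subgroupOfEquivOfLe hNJ') hθ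
  · intro x hx
    have := h.2.2 (Subgroup.inclusion hJ x) hx
    simpa using this

theorem ad_good_agree (p : ℕ) [Fact p.Prime] {M : Ideal AlgInt} (hM : IsPModular p M)
    (N : Subgroup G) [hN : N.Normal] (hidx : ¬ p ∣ N.index) (C : Subgroup G) (hsup : N ⊔ C = ⊤)
    (θ : ↥N → ℂ) (hθ : IsIrrCharacter ↥N θ) (J₁ J₂ : Subgroup G) (h1 : N ≤ J₁) (h2 : N ≤ J₂)
    (η₁ : ↥J₁ → ℂ) (η₂ : ↥J₂ → ℂ) (hg₁ : adGood M N C θ J₁ η₁) (hg₂ : adGood M N C θ J₂ η₂)
    (g : G) (hgJ₁ : g ∈ J₁) (hgJ₂ : g ∈ J₂) : η₁ ⟨g, hgJ₁⟩ = η₂ ⟨g, hgJ₂⟩ := by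
  have r1 := ad_good_res M N C θ hθ (J₁ ⊓ J₂) J₁ (le_inf h1 h2) inf_le_left η₁ hg₁
  have r2 := ad_good_res M N C θ hθ (J₁ ⊓ J₂) J₂ (le_inf h1 h2) inf_le_right η₂ hg₂
  have := ad_good_unique p hM N hidx C hsup θ hθ (J₁ ⊓ J₂) (le_inf h1 h2) _ _ r1 r2
  have h3 := congrFun this ⟨g, ⟨hgJ₁, hgJ₂⟩⟩
  exact h3.symm

end Good

end Cfsg.Agent.helper1
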