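import Mathlib
import Cfsg.Agent.Lib_helper1_AD4
import Cfsg.Agent.Lib_helper24_BrauerGlobal
import Cfsg.Agent.Lib_helper8_Virtual
import Cfsg.Agent.Lib_helper8_Coh

set_option autoImplicit false
set_option linter.unusedSectionVars false
set_option linter.unusedVariables false
set_option linter.style.longLine false
set_option linter.style.haveILetI false

/-!
Alperin–Dade (helper1), part 5: Dade's glued character `χ̃`.
-/

namespace Cfsg.Agent.helper1

open Cfsg Cfsg.Agent.helper24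
open scoped ComplexConjugate

universe u

section Solv2
variable {G : Type u} [Group G]

theorem ad_zpowers_solv (g : G) : Group.IsSolvable ↥(Subgroup.zpowers g) := by
  apply Group.isSolvable_of_comm
  intro a b
  obtain ⟨k, hk⟩ := Subgroup.mem_zpowers_iff.mp a.2
  obtain ⟨l, hl⟩ := Subgroup.mem_zpowers_iff.mp b.2
  apply Subtype.ext
  show (a : G) * (b : G) = (b : G) * (a : G)
  rw [← hk, ← hl]
  exact zpow_mul_comm g k l

theorem ad_elem_solv [Finite G] (q : ℕ) (hq : q.Prime) (hE : IsElementary q G) :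
    Group.IsSolvable G := by
  haveI : Fact q.Prime := ⟨hq⟩
  obtain ⟨x, hx, -, k, hk⟩ := hE
  have hle : Subgroup.zpowers x ≤ Subgroup.center G := (Subgroup.zpowers_le).mpr hx
  have hdvd : (Subgroup.center G).index ∣ q ^ k := hk ▸ Subgroup.index_dvd_of_le hle
  obtain ⟨j, -, hj⟩ := (Nat.dvd_prime_pow hq).mp hdvd
  have hcard : Nat.card (G ⧸ Subgroup.center G) = q ^ j := by
    rw [← Subgroup.index_eq_card, hj]
  have hpg : IsPGroup q (G ⧸ Subgroup.center G) := IsPGroup.of_card hcard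
  haveI hnil : Group.IsNilpotent (G ⧸ Subgroup.center G) := hpg.isNilpotent
  haveI : Group.IsNilpotent G :=
    Subgroup.isNilpotent_of_ker_le_center (QuotientGroup.mk' (Subgroup.center G))
      (by rw [QuotientGroup.ker_mk'])
  infer_instance

end Solv2

section Tilde
variable {G : Type u} [Group G] [Fintype G]

theorem ad_tilde_exists (p : ℕ) [Fact p.Prime] {M : Ideal AlgInt} (hM : IsPModular p M)
    (N : Subgroup G) [hN : N.Normal] (hidx : ¬ p ∣ N.index) (P : Sylow p G)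
    (hsup : N ⊔ Subgroup.centralizer ((P : Subgroup G) : Set G) = ⊤)
    (θ : IrrCharacter ↥N) (hθ : θ ∈ principalBlock M ↥N) :
    ∃ χ : G → ℂ, ∀ (J : Subgroup G) (η : ↥J → ℂ), N ≤ J →
      adGood M N (Subgroup.centralizer ((P : Subgroup G) : Set G)) (θ : ↥N → ℂ) J η →
        ∀ (g : G) (hg : g ∈ J), χ g = η ⟨g, hg⟩ := by
  have hPN := ad_sylow_le p N hidx P
  have hex : ∀ g : G, ∃ η : ↥(N ⊔ Subgroup.zpowers g) → ℂ,
      adGood M N (Subgroup.centralizer ((P : Subgroup G) : Set G)) (θ : ↥N → ℂ)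
        (N ⊔ Subgroup.zpowers g) η := fun g => by
    haveI := ad_zpowers_solv g
    exact ad_good_exists p hM N P hPN hsup θ hθ (Subgroup.zpowers g)
  choose η₀ hη₀ using hex
  refine ⟨fun g => η₀ g ⟨g, Subgroup.mem_sup_right (Subgroup.mem_zpowers g)⟩, ?_⟩
  intro J η hNJ hgood g hg
  exact ad_good_agree p hM N hidx _ hsup _ θ.2 _ J le_sup_left hNJ (η₀ g) η (hη₀ g) hgood g _ hg

end Tilde

section Props
variable {G : Type u} [Group G] [Fintype G]

/-- the data carried around: a glued function `χ` compatible with all good pairs -/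
structure ADData (p : ℕ) (M : Ideal AlgInt) (N C : Subgroup G) (θ : ↥N → ℂ) (χ : G → ℂ) : Prop where
  hM : IsPModular p M
  hidx : ¬ p ∣ N.index
  hsup : N ⊔ C = ⊤
  hθ : IsIrrCharacter ↥N θ
  hex : ∀ H : Subgroup G, Group.IsSolvable ↥H → ∃ η : ↥(N ⊔ H) → ℂ, adGood M N C θ (N ⊔ H) η
  hW : ∀ (J : Subgroup G) (η : ↥J → ℂ), N ≤ J → adGood M N C θ J η →
    ∀ (g : G) (hg : g ∈ J), χ g = η ⟨g, hg⟩

variable {p : ℕ} [hp : Fact p.Prime] {M : Ideal AlgInt} {N C : Subgroup G} [hN : N.Normal]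
  {θ : ↥N → ℂ} {χ : G → ℂ}

theorem ADData.ext_theta (D : ADData p M N C θ χ) (n : ↥N) : χ n = θ n := by
  obtain ⟨η, hη⟩ := D.hex ⊥ inferInstance
  rw [D.hW _ η le_sup_left hη (n : G) (Subgroup.mem_sup_left n.2)]
  exact hη.2.1 ⟨(n : G), _⟩ n.2

theorem ADData.adP (D : ADData p M N C θ χ) : adP M C χ := by
  intro c hc
  obtain ⟨η, hη⟩ := D.hex (Subgroup.zpowers c) (ad_zpowers_solv c)
  have hcJ : c ∈ N ⊔ Subgroup.zpowers c := Subgroup.mem_sup_right (Subgroup.mem_zpowers c)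
  rw [D.hW _ η le_sup_left hη c hcJ, D.hW _ η le_sup_left hη 1 (Subgroup.one_mem _)]
  exact hη.2.2 ⟨c, hcJ⟩ hc

theorem ADData.conjN (D : ADData p M N C θ χ) (g n : G) (hn : n ∈ N) :
    χ (n * g * n⁻¹) = χ g := by
  obtain ⟨η, hη⟩ := D.hex (Subgroup.zpowers g) (ad_zpowers_solv g)
  have hgJ : g ∈ N ⊔ Subgroup.zpowers g := Subgroup.mem_sup_right (Subgroup.mem_zpowers g)
  have hnJ : n ∈ N ⊔ Subgroup.zpowers g := Subgroup.mem_sup_left hn
  have hJ : n * g * n⁻¹ ∈ N ⊔ Subgroup.zpowers g :=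
    Subgroup.mul_mem _ (Subgroup.mul_mem _ hnJ hgJ) (Subgroup.inv_mem _ hnJ)
  rw [D.hW _ η le_sup_left hη _ hJ, D.hW _ η le_sup_left hη g hgJ]
  exact char_isClassFunction (irr_isCharacter hη.1) ⟨g, hgJ⟩ ⟨n, hnJ⟩

theorem ADData.theta_inv (D : ADData p M N C θ χ) (c : G) (hc : c ∈ C) (n : G) (hn : n ∈ N)
    (hn' : c⁻¹ * n * c ∈ N) : θ ⟨c⁻¹ * n * c, hn'⟩ = θ ⟨n, hn⟩ := by
  obtain ⟨η, hη⟩ := D.hex (Subgroup.zpowers c) (ad_zpowers_solv c)
  have hcJ : c ∈ N ⊔ Subgroup.zpowers c := Subgroup.mem_sup_right (Subgroup.mem_zpowers c)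
  have hnJ : n ∈ N ⊔ Subgroup.zpowers c := Subgroup.mem_sup_left hn
  have h1 := hη.2.1 ⟨c⁻¹ * n * c, Subgroup.mem_sup_left hn'⟩ hn'
  have h2 := hη.2.1 ⟨n, hnJ⟩ hn
  rw [← h1, ← h2]
  have h3 := char_isClassFunction (irr_isCharacter hη.1) ⟨n, hnJ⟩ (⟨c, hcJ⟩⁻¹)
  rw [inv_inv] at h3
  exact h3

theorem ADData.conjC_aux (D : ADData p M N C θ χ) (J : Subgroup G) (η : ↥J → ℂ) (hNJ : N ≤ J)
    (hη : adGood M N C θ J η) (g : G) (hgJ : g ∈ J) (c : G) (hc : c ∈ C) :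
    χ (c * g * c⁻¹) = η ⟨g, hgJ⟩ := by
  obtain ⟨φ, hφ'⟩ : ∃ φ : G ≃* G, φ = MulAut.conj c := ⟨_, rfl⟩
  have hφ : ∀ z : G, φ z = c * z * c⁻¹ := fun z => by rw [hφ']; rfl
  obtain ⟨e, he⟩ : ∃ e : ↥J ≃* ↥(J.map (φ : G →* G)), e = φ.subgroupMap J := ⟨_, rfl⟩
  have hcoe : ∀ y : ↥(J.map (φ : G →* G)), ((e.symm y : ↥J) : G) = c⁻¹ * (y : G) * c := by
    intro y
    have h1 : ((e (e.symm y) : ↥(J.map (φ : G →* G))) : G) = φ ((e.symm y : ↥J) : G) := by
      rw [he]; exact MulEquiv.coe_subgroupMap_apply φ J _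
    rw [MulEquiv.apply_symm_apply, hφ] at h1
    rw [h1]; group
  have hNJ' : N ≤ J.map (φ : G →* G) := by
    intro n hn
    refine Subgroup.mem_map.mpr ⟨c⁻¹ * n * c, hNJ ?_, ?_⟩
    · have := hN.conj_mem n hn c⁻¹
      rwa [inv_inv] at this
    · show φ (c⁻¹ * n * c) = n
      rw [hφ]; group
  have hgood' : adGood M N C θ (J.map (φ : G →* G)) (fun y => η (e.symm y)) := by
    refine ⟨helper8.isIrrCharacter_comp_mulEquiv e.symm hη.1, ?_, ?_⟩
    · intro y hy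
      have hmem : c⁻¹ * (y : G) * c ∈ N := by
        have := hN.conj_mem _ hy c⁻¹
        rwa [inv_inv] at this
      have h1 := hη.2.1 (e.symm y) (by rw [hcoe]; exact hmem)
      show η (e.symm y) = θ ⟨y, hy⟩
      rw [h1]
      have h2 := D.theta_inv c hc (y : G) hy hmem
      rw [← h2]
      congr 1
      exact Subtype.ext (hcoe y)
    · intro y hy
      have h1 := hη.2.2 (e.symm y)
        (by rw [hcoe]; exact C.mul_mem (C.mul_mem (C.inv_mem hc) hy) hc)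
      show MemLocalIdeal M (η (e.symm y) / η (e.symm 1) - 1)
      rw [map_one]; exact h1
  have hcg : c * g * c⁻¹ ∈ J.map (φ : G →* G) := Subgroup.mem_map.mpr ⟨g, hgJ, hφ g⟩
  rw [D.hW _ _ hNJ' hgood' _ hcg]
  show η (e.symm ⟨c * g * c⁻¹, hcg⟩) = η ⟨g, hgJ⟩
  congr 1
  apply Subtype.ext
  rw [hcoe]; group

theorem ADData.conjC (D : ADData p M N C θ χ) (g c : G) (hc : c ∈ C) :
    χ (c * g * c⁻¹) = χ g := by
  obtain ⟨η, hη⟩ := D.hex (Subgroup.zpowers g) (ad_zpowers_solv g)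
  have hgJ : g ∈ N ⊔ Subgroup.zpowers g := Subgroup.mem_sup_right (Subgroup.mem_zpowers g)
  rw [D.conjC_aux _ η le_sup_left hη g hgJ c hc, D.hW _ η le_sup_left hη g hgJ]

theorem ADData.classFn (D : ADData p M N C θ χ) : IsClassFunction G χ := by
  intro g h
  have hh : h ∈ ((N ⊔ C : Subgroup G) : Set G) := by rw [D.hsup]; trivial
  rw [Subgroup.normal_mul] at hh
  obtain ⟨n, hn, c, hc, rfl⟩ := Set.mem_mul.mp hh
  have : n * c * g * (n * c)⁻¹ = n * (c * g * c⁻¹) * n⁻¹ := by group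
  rw [this, D.conjN _ n hn, D.conjC g c hc]

theorem ADData.elem (D : ADData p M N C θ χ) (E : Subgroup G) (q : ℕ) (hq : q.Prime)
    (hE : IsElementary q E) : IsGeneralizedCharacter E (fun e : E => χ e) := by
  obtain ⟨η, hη⟩ := D.hex E (ad_elem_solv q hq hE)
  have hle : E ≤ N ⊔ E := le_sup_right
  have : (fun e : E => χ e) = fun e : E => η (Subgroup.inclusion hle e) := by
    funext e
    rw [D.hW _ η le_sup_left hη (e : G) (hle e.2)]
    rfl
  rw [this]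
  exact helper8.Coh.gc_of_char
    (helper8.isCharacter_comp_monoidHom (Subgroup.inclusion hle) (irr_isCharacter hη.1))

theorem ad_coset_norm_J [Fintype ↥N] (hθ : IsIrrCharacter ↥N θ) (J : Subgroup G) (hNJ : N ≤ J) (g : G)
    (hgJ : g ∈ J)
    (hcyc : ∀ x ∈ J, ∃ n ∈ N, ∃ k : ℤ, x = n * g ^ k) (η : ↥J → ℂ) (hη : adGood M N C θ J η) :
    ∑ n : ↥N, η ⟨g * n, J.mul_mem hgJ (hNJ n.2)⟩ * conj (η ⟨g * n, J.mul_mem hgJ (hNJ n.2)⟩) =
      (Nat.card ↥N : ℂ) := by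
  classical
  haveI : Fintype ↥J := Fintype.ofFinite _
  haveI : Fintype ↥(N.subgroupOf J) := Fintype.ofFinite _
  have hpow : ∀ a : ↥J ⧸ N.subgroupOf J,
      ∃ k : ℤ, a = (QuotientGroup.mk (⟨g, hgJ⟩ : ↥J) : ↥J ⧸ N.subgroupOf J) ^ k := by
    intro a
    obtain ⟨x, rfl⟩ := QuotientGroup.mk_surjective a
    obtain ⟨n, hn, k, hx⟩ := hcyc x x.2
    refine ⟨k, ?_⟩
    rw [← QuotientGroup.mk_zpow, QuotientGroup.eq, Subgroup.mem_subgroupOf]
    have : ((x⁻¹ * (⟨g, hgJ⟩ : ↥J) ^ k : ↥J) : G) = (g ^ k)⁻¹ * n⁻¹ * ((g ^ k)⁻¹)⁻¹ := by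
      simp only [Subgroup.coe_mul, Subgroup.coe_inv, Subgroup.coe_zpow, hx]
      group
    rw [this]
    exact hN.conj_mem _ (N.inv_mem hn) _
  have hcomm : ∀ a b : ↥J ⧸ N.subgroupOf J, a * b = b * a := by
    intro a b
    obtain ⟨k, rfl⟩ := hpow a
    obtain ⟨l, rfl⟩ := hpow b
    exact zpow_mul_comm _ k l
  have hres : IsIrrCharacter ↥(N.subgroupOf J) (helper5.res (N.subgroupOf J) η) := by
    rw [ad_res_eq N θ J hNJ η hη.2.1]
    exact helper8.isIrrCharacter_comp_mulEquiv (Subgroup.subgroupOfEquivOfLe hNJ) hθ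
  have h := ad_coset_norm (N.subgroupOf J) hcomm hη.1 hres ⟨g, hgJ⟩
  rw [← Nat.card_congr (Subgroup.subgroupOfEquivOfLe hNJ).toEquiv, ← h]
  rw [← Equiv.sum_comp (Subgroup.subgroupOfEquivOfLe hNJ).toEquiv]
  apply Finset.sum_congr rfl
  intro k _
  rfl

theorem ADData.coset_norm [Fintype ↥N] (D : ADData p M N C θ χ) (g : G) :
    ∑ n : ↥N, χ (g * n) * conj (χ (g * n)) = (Nat.card ↥N : ℂ) := by
  obtain ⟨η, hη⟩ := D.hex (Subgroup.zpowers g) (ad_zpowers_solv g)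
  have hgJ : g ∈ N ⊔ Subgroup.zpowers g := Subgroup.mem_sup_right (Subgroup.mem_zpowers g)
  have hcyc : ∀ x ∈ N ⊔ Subgroup.zpowers g, ∃ n ∈ N, ∃ k : ℤ, x = n * g ^ k := by
    intro x hx
    have hx' : x ∈ ((N ⊔ Subgroup.zpowers g : Subgroup G) : Set G) := hx
    rw [Subgroup.normal_mul] at hx'
    obtain ⟨n, hn, z, hz, rfl⟩ := Set.mem_mul.mp hx'
    obtain ⟨k, rfl⟩ := Subgroup.mem_zpowers_iff.mp hz
    exact ⟨n, hn, k, rfl⟩
  rw [← ad_coset_norm_J D.hθ _ le_sup_left g hgJ hcyc η hη]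
  apply Finset.sum_congr rfl
  intro n _
  rw [D.hW _ η le_sup_left hη (g * n)
    ((N ⊔ Subgroup.zpowers g).mul_mem hgJ (Subgroup.mem_sup_left n.2))]

theorem ADData.norm (D : ADData p M N C θ χ) : classInner χ χ = 1 := by
  classical
  haveI : Fintype ↥N := Fintype.ofFinite _
  have hN0 : (Nat.card ↥N : ℂ) ≠ 0 := by exact_mod_cast Nat.card_pos.ne'
  have hG0 : (Nat.card G : ℂ) ≠ 0 := by exact_mod_cast Nat.card_pos.ne'
  have h1 : ∀ n : ↥N, ∑ g : G, χ (g * n) * conj (χ (g * n)) = ∑ g : G, χ g * conj (χ g) :=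
    fun n => Equiv.sum_comp (Equiv.mulRight (n : G)) (fun g => χ g * conj (χ g))
  have h2 : ∑ n : ↥N, ∑ g : G, χ (g * n) * conj (χ (g * n)) =
      (Nat.card ↥N : ℂ) * ∑ g : G, χ g * conj (χ g) := by
    rw [Finset.sum_congr rfl (fun n _ => h1 n), Finset.sum_const, Finset.card_univ,
      nsmul_eq_mul, Nat.card_eq_fintype_card]
  have h3 : ∑ n : ↥N, ∑ g : G, χ (g * n) * conj (χ (g * n)) =
      (Nat.card G : ℂ) * (Nat.card ↥N : ℂ) := by
    rw [Finset.sum_comm, Finset.sum_congr rfl (fun g _ => D.coset_norm g), Finset.sum_const,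
      Finset.card_univ, nsmul_eq_mul, Nat.card_eq_fintype_card, Nat.card_eq_fintype_card]
  have h4 : ∑ g : G, χ g * conj (χ g) = (Nat.card G : ℂ) := by
    have := h2.symm.trans h3
    rw [mul_comm (Nat.card G : ℂ)] at this
    exact mul_left_cancel₀ hN0 this
  unfold classInner
  rw [h4, inv_mul_cancel₀ hG0]

theorem ADData.irr (D : ADData p M N C θ χ) : IsIrrCharacter G χ := by
  have hgc := helper24.brauer_characterization χ D.classFn (fun E q hq hE => D.elem E q hq hE)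
  rcases helper8.virt_norm_one hgc D.norm with h | h
  · exact h
  · exfalso
    have h1 := char_charDegree_cast (irr_isCharacter h)
    have h2 := char_charDegree_cast (irr_isCharacter D.hθ)
    have h3 : χ 1 = θ 1 := D.ext_theta 1
    have h4 : (-χ) 1 = -θ 1 := by rw [Pi.neg_apply, h3]
    rw [h4, ← h2] at h1
    have h5 : ((charDegree (-χ) + charDegree θ : ℕ) : ℂ) = 0 := by
      push_cast
      rw [h1]; ring
    have h6 : charDegree (-χ) + charDegree θ = 0 := by exact_mod_cast h5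
    have := irr_charDegree_pos D.hθ
    omega

end Props

end Cfsg.Agent.helper1
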