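import Mathlib
import Cfsg.Agent.Lib_helper24_BrauerCorr
import Cfsg.Agent.Lib_helper24_BrauerPairs

set_option autoImplicit false

namespace Cfsg.Agent.helper24

open Cfsg
open scoped ComplexConjugate

universe u

section SubFacts

variable {G : Type u} [Group G]

theorem centralizer_subgroupOf_eq {P H : Subgroup G} (hPH : P ≤ H) :
    Subgroup.centralizer ((P.subgroupOf H : Subgroup H) : Set H) =
      (Subgroup.centralizer (P : Set G)).subgroupOf H := by
  ext x
  rw [Subgroup.mem_subgroupOf, Subgroup.mem_centralizer_iff, Subgroup.mem_centralizer_iff]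
  constructor
  · intro hx s hs
    have h1 := hx ⟨s, hPH hs⟩ (Subgroup.mem_subgroupOf.2 hs)
    exact congrArg Subtype.val h1
  · intro hx y hy
    apply Subtype.ext
    exact hx (y : G) (Subgroup.mem_subgroupOf.1 hy)

theorem subgroupOf_normalizer_le (P H : Subgroup G) :
    (Subgroup.normalizer (P : Set G)).subgroupOf H ≤
      Subgroup.normalizer ((P.subgroupOf H : Subgroup H) : Set H) := by
  intro x hx
  rw [Subgroup.mem_subgroupOf] at hx
  rw [Subgroup.mem_normalizer_iff]
  intro y
  rw [Subgroup.mem_subgroupOf, Subgroup.mem_subgroupOf]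
  have := (Subgroup.mem_normalizer_iff.1 hx (y : G))
  simpa using this

theorem card_subgroupOf_of_le {P H : Subgroup G} (hPH : P ≤ H) :
    Nat.card (P.subgroupOf H) = Nat.card P :=
  Nat.card_congr (Subgroup.subgroupOfEquivOfLe hPH).toEquiv

end SubFacts

section BrauerCorr2

variable {G : Type u} [Group G] [Fintype G]

theorem brauer_corr_congr (p : ℕ) [Fact p.Prime] (M : Ideal AlgInt) (hM : IsPModular p M)
    {P H : Subgroup G} [Fintype H] (hP : IsPGroup p P)
    (hH : Subgroup.normalizer (P : Set G) ≤ H)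
    (β : Set (IrrCharacter ↥(Subgroup.normalizer (P : Set G)))) (B : Set (IrrCharacter G))
    (c : Set (IrrCharacter H))
    (hβB : IsInducedBlock M (Subgroup.normalizer (P : Set G)) β B)
    (huniq : ∀ b', IsInducedBlock M (Subgroup.normalizer (P : Set G)) b' B → b' = β)
    (hβc : IsInducedBlock M ((Subgroup.normalizer (P : Set G)).subgroupOf H)
      (transportSet (Subgroup.subgroupOfEquivOfLe hH) β) c) :
    ∀ x (hx : x ∈ Subgroup.centralizer (P : Set G)),
      MemLocalIdeal M (blockCoeff B x -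
        blockCoeff c ⟨x, hH (Subgroup.centralizer_le_normalizer _ hx)⟩) := by
  classical
  have hMp : M.IsPrime := hM.2.1.isPrime
  have hMtop := hMp.ne_top
  have := Fintype.ofFinite ↥(Subgroup.normalizer (P : Set G))
  have := Fintype.ofFinite ↥((Subgroup.normalizer (P : Set G)).subgroupOf H)
  have hPN : P ≤ Subgroup.normalizer (P : Set G) := Subgroup.le_normalizer
  have hPH : P ≤ H := hPN.trans hH
  have hP' : IsPGroup p (P.subgroupOf H) := hP.comap_subtype
  have F2 : P.subgroupOf H ≤ (Subgroup.normalizer (P : Set G)).subgroupOf H :=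
    Subgroup.subgroupOf_mono H hPN
  have F3 : Subgroup.centralizer ((P.subgroupOf H : Subgroup H) : Set H) ≤
      (Subgroup.normalizer (P : Set G)).subgroupOf H := by
    rw [centralizer_subgroupOf_eq hPH]
    exact Subgroup.subgroupOf_mono H (Subgroup.centralizer_le_normalizer _)
  have F4 := subgroupOf_normalizer_le P H
  have hcB : IsInducedBlock M H c B := induced_trans_transport hH β c B hβB hβc
  have huniq' : ∀ b'' : Set (IrrCharacter ↥((Subgroup.normalizer (P : Set G)).subgroupOf H)),
      IsInducedBlock M ((Subgroup.normalizer (P : Set G)).subgroupOf H) b'' c →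
      b'' = transportSet (Subgroup.subgroupOfEquivOfLe hH) β := by
    intro b'' hb''
    have e1 := transportSet_symm (Subgroup.subgroupOfEquivOfLe hH) b''
    have hb0 : IsPBlock M (transportSet (Subgroup.subgroupOfEquivOfLe hH).symm b'') :=
      isPBlock_transportSet _ b'' hb''.1
    have h2 : IsInducedBlock M ((Subgroup.normalizer (P : Set G)).subgroupOf H)
        (transportSet (Subgroup.subgroupOfEquivOfLe hH)
          (transportSet (Subgroup.subgroupOfEquivOfLe hH).symm b'')) c := by
      rw [e1]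
      exact hb''
    have h3 := induced_trans_transport' hH _ hb0 c B h2 hcB
    have h4 := huniq _ h3
    rw [← e1, h4]
  have K1 := brRes_blockCoeff_congr p M hM hP hPN (Subgroup.centralizer_le_normalizer _) le_rfl
    β B hβB huniq
  have K2 := brRes_blockCoeff_congr p M hM hP' F2 F3 F4
    (transportSet (Subgroup.subgroupOfEquivOfLe hH) β) c hβc huniq'
  intro x hx
  have hxN : x ∈ Subgroup.normalizer (P : Set G) := Subgroup.centralizer_le_normalizer _ hx
  have k1 := K1 ⟨x, hxN⟩
  unfold brRes at k1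
  rw [if_pos hx] at k1
  have k2 := K2 ((Subgroup.subgroupOfEquivOfLe hH).symm ⟨x, hxN⟩)
  rw [blockCoeff_transportSet, MulEquiv.apply_symm_apply] at k2
  have hmem : ((((Subgroup.subgroupOfEquivOfLe hH).symm ⟨x, hxN⟩ :
      ↥((Subgroup.normalizer (P : Set G)).subgroupOf H)) : H)) ∈
      Subgroup.centralizer ((P.subgroupOf H : Subgroup H) : Set H) := by
    rw [centralizer_subgroupOf_eq hPH, Subgroup.mem_subgroupOf]
    exact hx
  unfold brRes at k2
  rw [if_pos hmem] at k2
  have e2 : ((((Subgroup.subgroupOfEquivOfLe hH).symm ⟨x, hxN⟩ :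
      ↥((Subgroup.normalizer (P : Set G)).subgroupOf H)) : H)) = ⟨x, hH hxN⟩ := by
    apply Subtype.ext
    rfl
  rw [e2] at k2
  have e : blockCoeff B x - blockCoeff c ⟨x, hH hxN⟩ =
      (blockCoeff B x - blockCoeff β ⟨x, hxN⟩) -
      (blockCoeff c ⟨x, hH hxN⟩ - blockCoeff β ⟨x, hxN⟩) := by ring
  rw [e]
  exact memLocalIdeal_sub k1 k2

theorem brauer_corr_forward (p : ℕ) [Fact p.Prime] (M : Ideal AlgInt) (hM : IsPModular p M)
    (P H : Subgroup G) [Fintype H] (hP : IsPGroup p P)
    (hH : Subgroup.normalizer (P : Set G) ≤ H) (B : Set (IrrCharacter G)) (hB : IsPBlock M B)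
    (hBP : IsDefectGroup p M B P) :
    ∃ c : Set (IrrCharacter H), IsPBlock M c ∧ IsDefectGroup p M c (P.subgroupOf H) ∧
      ∀ x : G, x ∈ Subgroup.centralizer (P : Set G) →
        MemLocalIdeal M (blockCoeff B x - subgroupBlockCoeff H c x) := by
  classical
  have hMp : M.IsPrime := hM.2.1.isPrime
  have hMtop := hMp.ne_top
  have := Fintype.ofFinite ↥(Subgroup.normalizer (P : Set G))
  have := Fintype.ofFinite ↥((Subgroup.normalizer (P : Set G)).subgroupOf H)
  have hPN : P ≤ Subgroup.normalizer (P : Set G) := Subgroup.le_normalizer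
  have hPH : P ≤ H := hPN.trans hH
  have hP' : IsPGroup p (P.subgroupOf H) := hP.comap_subtype
  have F2 : P.subgroupOf H ≤ (Subgroup.normalizer (P : Set G)).subgroupOf H :=
    Subgroup.subgroupOf_mono H hPN
  have F3 : Subgroup.centralizer ((P.subgroupOf H : Subgroup H) : Set H) ≤
      (Subgroup.normalizer (P : Set G)).subgroupOf H := by
    rw [centralizer_subgroupOf_eq hPH]
    exact Subgroup.subgroupOf_mono H (Subgroup.centralizer_le_normalizer _)
  have F4 := subgroupOf_normalizer_le P H
  obtain ⟨β, ⟨hβ, hβD, hβB⟩, -⟩ := (first_main p M hM P hP).2 B hB hBP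
  have huniq : ∀ b', IsInducedBlock M (Subgroup.normalizer (P : Set G)) b' B → b' = β :=
    fun b' hb' => (first_main_unique p M hM P hP B β b' hβD hβB hb').symm
  have hβ' : IsPBlock M (transportSet (Subgroup.subgroupOfEquivOfLe hH) β) :=
    isPBlock_transportSet _ β hβ
  obtain ⟨ξ₀, hξ₀⟩ := hβ'
  obtain ⟨χ, -, hχ2⟩ := brauer_block_exists p M hM hP' F2 F3 F4 ξ₀
  rw [← hξ₀] at hχ2
  have hβ'' : IsPBlock M (transportSet (Subgroup.subgroupOfEquivOfLe hH) β) := hχ2.1
  have hcB : IsInducedBlock M H (blockOf M (χ : H → ℂ)) B :=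
    induced_trans_transport hH β _ B hβB hχ2
  obtain ⟨Dc, hDc⟩ := exists_defectGroup p M hM _ hχ2.2.1
  obtain ⟨E, hE, hDcE⟩ := defectGroup_induced_le p M hM H _ B hcB Dc hDc
  obtain ⟨Dβ', hDβ'⟩ := exists_defectGroup p M hM _ hβ''
  have h1 := subgroupOf_le_defectGroup p M hM hP' F4 _ hβ'' Dβ' hDβ'
  obtain ⟨E', hE', hDE'⟩ := defectGroup_induced_le p M hM _ _ _ hχ2 Dβ' hDβ'
  have hP'E' : P.subgroupOf H ≤ E' := by
    intro s hs
    exact hDE' ⟨⟨s, F2 hs⟩, h1 (Subgroup.mem_subgroupOf.2 hs), rfl⟩
  have hcard : Nat.card E' ≤ Nat.card (P.subgroupOf H) := by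
    have c1 : Nat.card E' = Nat.card Dc := by
      rw [card_defectGroup p M hM _ hχ2.2.1 E' hE', card_defectGroup p M hM _ hχ2.2.1 Dc hDc]
    have c2 : Nat.card Dc = Nat.card (Dc.map H.subtype) :=
      (Subgroup.card_map_of_injective (Subgroup.subtype_injective _)).symm
    have c3 : Nat.card (Dc.map H.subtype) ≤ Nat.card E := Nat.card_mono (Set.toFinite _) hDcE
    have c4 : Nat.card E = Nat.card P := by
      rw [card_defectGroup p M hM B hB E hE, card_defectGroup p M hM B hB P hBP]
    rw [c1, c2, card_subgroupOf_of_le hPH, ← c4]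
    exact c3
  have hPE : P.subgroupOf H = E' := Subgroup.eq_of_le_of_card_ge hP'E' hcard
  refine ⟨blockOf M (χ : H → ℂ), hχ2.2.1, by rw [hPE]; exact hE', ?_⟩
  intro x hx
  have hxH : x ∈ H := hH (Subgroup.centralizer_le_normalizer _ hx)
  have h5 := brauer_corr_congr p M hM hP hH β B _ hβB huniq hχ2 x hx
  unfold subgroupBlockCoeff
  rw [dif_pos hxH]
  exact h5

theorem brauer_corr_backward (p : ℕ) [Fact p.Prime] (M : Ideal AlgInt) (hM : IsPModular p M)
    (P H : Subgroup G) [Fintype H] (hP : IsPGroup p P)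
    (hH : Subgroup.normalizer (P : Set G) ≤ H) (c : Set (IrrCharacter H)) (hc : IsPBlock M c)
    (hcP : IsDefectGroup p M c (P.subgroupOf H)) :
    ∃ B : Set (IrrCharacter G), IsPBlock M B ∧ IsDefectGroup p M B P ∧
      ∀ x : G, x ∈ Subgroup.centralizer (P : Set G) →
        MemLocalIdeal M (blockCoeff B x - subgroupBlockCoeff H c x) := by
  classical
  have hMp : M.IsPrime := hM.2.1.isPrime
  have hMtop := hMp.ne_top
  have := Fintype.ofFinite ↥(Subgroup.normalizer (P : Set G))
  have := Fintype.ofFinite ↥((Subgroup.normalizer (P : Set G)).subgroupOf H)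
  have hPN : P ≤ Subgroup.normalizer (P : Set G) := Subgroup.le_normalizer
  have hPH : P ≤ H := hPN.trans hH
  have hP' : IsPGroup p (P.subgroupOf H) := hP.comap_subtype
  have F2 : P.subgroupOf H ≤ (Subgroup.normalizer (P : Set G)).subgroupOf H :=
    Subgroup.subgroupOf_mono H hPN
  have F3 : Subgroup.centralizer ((P.subgroupOf H : Subgroup H) : Set H) ≤
      (Subgroup.normalizer (P : Set G)).subgroupOf H := by
    rw [centralizer_subgroupOf_eq hPH]
    exact Subgroup.subgroupOf_mono H (Subgroup.centralizer_le_normalizer _)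
  have F4 := subgroupOf_normalizer_le P H
  obtain ⟨β'', hind''⟩ := (induced_from_local_iff p M hM (P.subgroupOf H)
    ((Subgroup.normalizer (P : Set G)).subgroupOf H) hP' (sup_le F2 F3) F4 c hc).2
    ⟨P.subgroupOf H, hcP, 1, by
      rintro _ ⟨s, hs, rfl⟩
      simpa using hs⟩
  have e1 := transportSet_symm (Subgroup.subgroupOfEquivOfLe hH) β''
  obtain ⟨β, hβdef⟩ : ∃ β, β = transportSet (Subgroup.subgroupOfEquivOfLe hH).symm β'' :=
    ⟨_, rfl⟩
  rw [← hβdef] at e1
  have hβ : IsPBlock M β := by
    rw [hβdef]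
    exact isPBlock_transportSet _ β'' hind''.1
  obtain ⟨Dβ, hDβ⟩ := exists_defectGroup p M hM β hβ
  have hsub := subgroupOf_le_defectGroup p M hM hP le_rfl β hβ Dβ hDβ
  obtain ⟨Dβ'', hDβ''⟩ := exists_defectGroup p M hM β'' hind''.1
  have hmap := defectGroup_of_induced_local p M hM F2 F4 β'' c hind'' hcP Dβ'' hDβ''
  have hcard : Nat.card Dβ ≤ Nat.card (P.subgroupOf (Subgroup.normalizer (P : Set G))) := by
    have c1 : Nat.card Dβ = Nat.card Dβ'' := by
      rw [card_defectGroup p M hM β hβ Dβ hDβ, card_defectGroup p M hM β'' hind''.1 Dβ'' hDβ'',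
        ← e1, blockDefect_transportSet]
    have c2 : Nat.card Dβ'' = Nat.card (P.subgroupOf H) := by
      rw [← hmap, Subgroup.card_map_of_injective (Subgroup.subtype_injective _)]
    rw [c1, c2, card_subgroupOf_of_le hPH, card_subgroupOf_of_le hPN]
  have hDeq : P.subgroupOf (Subgroup.normalizer (P : Set G)) = Dβ :=
    Subgroup.eq_of_le_of_card_ge hsub hcard
  rw [← hDeq] at hDβ
  obtain ⟨B, hB, hBP, hβB⟩ := first_main_exists p M hM P hP β hβ hDβ
  have huniq : ∀ b', IsInducedBlock M (Subgroup.normalizer (P : Set G)) b' B → b' = β :=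
    fun b' hb' => (first_main_unique p M hM P hP B β b' hDβ hβB hb').symm
  have hβc : IsInducedBlock M ((Subgroup.normalizer (P : Set G)).subgroupOf H)
      (transportSet (Subgroup.subgroupOfEquivOfLe hH) β) c := by
    rw [e1]
    exact hind''
  refine ⟨B, hB, hBP, ?_⟩
  intro x hx
  have hxH : x ∈ H := hH (Subgroup.centralizer_le_normalizer _ hx)
  have h5 := brauer_corr_congr p M hM hP hH β B c hβB huniq hβc x hx
  unfold subgroupBlockCoeff
  rw [dif_pos hxH]
  exact h5

/-- the Brauer correspondence over a subgroup containing the normalizer of the defect group -/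
theorem brauer_correspondence (p : ℕ) [Fact p.Prime] (M : Ideal AlgInt) (hM : IsPModular p M)
    (P H : Subgroup G) [Fintype H] (hP : IsPGroup p P)
    (hH : Subgroup.normalizer (P : Set G) ≤ H) :
    (∀ B : Set (IrrCharacter G), IsPBlock M B → IsDefectGroup p M B P →
      ∃! c : Set (IrrCharacter H), IsPBlock M c ∧ IsDefectGroup p M c (P.subgroupOf H) ∧
        ∀ x : G, x ∈ Subgroup.centralizer (P : Set G) →
          MemLocalIdeal M (blockCoeff B x - subgroupBlockCoeff H c x)) ∧
    (∀ c : Set (IrrCharacter H), IsPBlock M c → IsDefectGroup p M c (P.subgroupOf H) →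
      ∃! B : Set (IrrCharacter G), IsPBlock M B ∧ IsDefectGroup p M B P ∧
        ∀ x : G, x ∈ Subgroup.centralizer (P : Set G) →
          MemLocalIdeal M (blockCoeff B x - subgroupBlockCoeff H c x)) := by
  classical
  have hMp : M.IsPrime := hM.2.1.isPrime
  have hPH : P ≤ H := Subgroup.le_normalizer.trans hH
  have hP' : IsPGroup p (P.subgroupOf H) := hP.comap_subtype
  have hsb : ∀ (c : Set (IrrCharacter H)) (y : H), subgroupBlockCoeff H c (y : G) =
      blockCoeff c y := by
    intro c y
    unfold subgroupBlockCoeff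
    rw [dif_pos y.2]
  constructor
  · intro B hB hBP
    obtain ⟨c, hc, hcP, hcong⟩ := brauer_corr_forward p M hM P H hP hH B hB hBP
    refine ⟨c, ⟨hc, hcP, hcong⟩, ?_⟩
    rintro c' ⟨hc', hcP', hcong'⟩
    apply block_eq_of_brauer_congr p M hM (P.subgroupOf H) hP' c' c hc' hc hcP'
    intro y hy
    rw [centralizer_subgroupOf_eq hPH, Subgroup.mem_subgroupOf] at hy
    have t1 := hcong (y : G) hy
    have t2 := hcong' (y : G) hy
    rw [hsb] at t1 t2
    have e : blockCoeff c' y - blockCoeff c y =
        (blockCoeff B (y : G) - blockCoeff c y) - (blockCoeff B (y : G) - blockCoeff c' y) := by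
      ring
    rw [e]
    exact memLocalIdeal_sub t1 t2
  · intro c hc hcP
    obtain ⟨B, hB, hBP, hcong⟩ := brauer_corr_backward p M hM P H hP hH c hc hcP
    refine ⟨B, ⟨hB, hBP, hcong⟩, ?_⟩
    rintro B' ⟨hB', hBP', hcong'⟩
    apply block_eq_of_brauer_congr p M hM P hP B' B hB' hB hBP'
    intro x hx
    have t1 := hcong x hx
    have t2 := hcong' x hx
    have e : blockCoeff B' x - blockCoeff B x =
        (blockCoeff B' x - subgroupBlockCoeff H c x) -
        (blockCoeff B x - subgroupBlockCoeff H c x) := by ring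
    rw [e]
    exact memLocalIdeal_sub t2 t1

end BrauerCorr2

end Cfsg.Agent.helper24
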