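import Mathlib
import Cfsg.Agent.Lib_helper24_BPair11

/-!
Brauer pairs (helper24), part 12: transitivity of normal inclusion of Brauer pairs.
-/

set_option autoImplicit false

namespace Cfsg.Agent.helper24

open Cfsg Cfsg.Agent.helper5 Cfsg.Agent.helper8
open scoped ComplexConjugate

universe u

section Fix

variable {G : Type u} [Group G]

theorem map_conj_eq_of_mem_normalizer {R : Subgroup G} {x : G}
    (hx : x ∈ Subgroup.normalizer (R : Set G)) :
    R.map (MulAut.conj x).toMonoidHom = R := by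
  ext y
  constructor
  · rintro ⟨s, hs, rfl⟩
    exact (Subgroup.mem_normalizer_iff.1 hx s).1 hs
  · intro hy
    refine ⟨x⁻¹ * y * x, (Subgroup.mem_normalizer_iff''.1 hx y).1 hy, ?_⟩
    show x * (x⁻¹ * y * x) * x⁻¹ = y
    group

/-- conjugation by an element stabilizing a pair fixes the pair -/
theorem cjPair_eq_of_stabilizes {R : Subgroup G}
    {g : Set (IrrCharacter (Subgroup.centralizer (R : Set G)))} {x : G}
    (hxN : x ∈ Subgroup.normalizer (R : Set G))
    (hx : StabilizesBlock (Subgroup.centralizer (R : Set G)) g x)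
    (hx' : StabilizesBlock (Subgroup.centralizer (R : Set G)) g x⁻¹) :
    cjPair x (⟨R, g⟩ : BrauerPairIdx G) = ⟨R, g⟩ := by
  have hA := map_conj_eq_of_mem_normalizer hxN
  apply pairIdx_ext hA
  intro θ'
  constructor
  · intro hθ'
    obtain ⟨ξ, hξ, hconj⟩ := hx'.2 θ' hθ'
    refine ⟨irrTransport (Cfsg.Agent.helper1.centralizerConjEquiv R x) ξ,
      mem_conjBlock_transport R x g ξ hξ, ?_⟩
    intro c c' hcc
    rw [irrTransport_apply]
    symm
    apply hconj
    rw [Cfsg.Agent.helper1.centralizerConjEquiv_coe, hcc, inv_inv]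
  · rintro ⟨θ, ⟨ξ, hξ, hθξ⟩, hc⟩
    obtain ⟨χ', hχ', hconj⟩ := hx.2 ξ hξ
    have heq : θ' = χ' := by
      apply Subtype.ext
      funext c'
      have hc'mem : (c' : G) ∈ Subgroup.centralizer
          ((R.map (MulAut.conj x).toMonoidHom : Subgroup G) : Set G) := by
        rw [hA]
        exact c'.2
      have hk : x⁻¹ * (c' : G) * x ∈ Subgroup.centralizer (R : Set G) := by
        have h1 := conj_mem_centralizer_of_mem_normalizer (inv_mem hxN) c'.2
        rwa [inv_inv] at h1
      rw [hc ⟨c', hc'mem⟩ c' rfl, hθξ ⟨x⁻¹ * (c' : G) * x, hk⟩ ⟨c', hc'mem⟩ (by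
        show (c' : G) = x * (x⁻¹ * (c' : G) * x) * x⁻¹
        group)]
      symm
      apply hconj
      show (c' : G) = x * (x⁻¹ * (c' : G) * x) * x⁻¹
      group
    rw [heq]
    exact hχ'

/-- the conjugate of a pair by an element normalizing its subgroup -/
theorem cjPair_eq_transport {Q : Subgroup G}
    {f : Set (IrrCharacter (Subgroup.centralizer (Q : Set G)))} {x : G}
    (hxN : x ∈ Subgroup.normalizer (Q : Set G)) :
    cjPair x (⟨Q, f⟩ : BrauerPairIdx G) = ⟨Q, transportSet
      (Cfsg.Agent.helper1.conjNormalizer (Subgroup.centralizer (Q : Set G)) x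
        (Cfsg.Agent.helper1.normalizer_le_normalizer_centralizer Q hxN)) f⟩ := by
  have hA := map_conj_eq_of_mem_normalizer hxN
  apply pairIdx_ext hA
  intro θ'
  constructor
  · rintro ⟨ξ, hξ, hθ'⟩
    refine ⟨irrTransport (Cfsg.Agent.helper1.centralizerConjEquiv Q x) ξ,
      mem_conjBlock_transport Q x f ξ hξ, ?_⟩
    intro c c' hcc
    rw [hθ', irrTransport_apply]
    refine congrArg (ξ : ↥(Subgroup.centralizer (Q : Set G)) → ℂ) (Subtype.ext ?_)
    rw [Cfsg.Agent.helper1.centralizerConjEquiv_coe, hcc]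
    rfl
  · rintro ⟨θ, ⟨ξ, hξ, hθξ⟩, hc⟩
    refine ⟨ξ, hξ, ?_⟩
    funext c'
    have hc'mem : (c' : G) ∈ Subgroup.centralizer
        ((Q.map (MulAut.conj x).toMonoidHom : Subgroup G) : Set G) := by
      rw [hA]
      exact c'.2
    rw [hc ⟨c', hc'mem⟩ c' rfl]
    apply hθξ
    show (c' : G) = x * (x⁻¹ * (c' : G) * x) * x⁻¹
    group

end Fix

section Trans

variable {G : Type u} [Group G] [Fintype G] {M : Ideal AlgInt} {p : ℕ} [Fact p.Prime]

set_option maxHeartbeats 800000 in
/-- an idempotent on which the pair `(R, g)` takes the value one also takes the value one on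
every pair normally above `(R, g)` -/
theorem absorb_step (hM : IsPModular p M) {P R : Subgroup G}
    [Fintype ↥(Subgroup.centralizer (P : Set G))] [Fintype ↥(Subgroup.centralizer (R : Set G))]
    {e : Set (IrrCharacter (Subgroup.centralizer (P : Set G)))}
    {g : Set (IrrCharacter (Subgroup.centralizer (R : Set G)))}
    (h : IsNormalSubpair p M R g P e) {u : G → ℂ} (huP : ConjInv P u)
    (huC : ConjInv (Subgroup.centralizer (R : Set G)) u) (hloc : ∀ x, MemLocalRing M (u x))
    (hid : cconv u u = u)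
    (hω : ∀ ψ ∈ g, MemLocalIdeal M (brOmega R (Subgroup.centralizer (R : Set G))
      (ψ : ↥(Subgroup.centralizer (R : Set G)) → ℂ) u - 1)) :
    ∀ ξ ∈ e, MemLocalIdeal M (brOmega P (Subgroup.centralizer (P : Set G))
      (ξ : ↥(Subgroup.centralizer (P : Set G)) → ℂ) u - 1) := by
  classical
  have hMp : M.IsPrime := hM.2.1.isPrime
  have hMtop := hMp.ne_top
  obtain ⟨hRg, hPe, hRP, hPN, hst, hbr⟩ := h
  have hCK : Subgroup.centralizer (P : Set G) ≤ Subgroup.centralizer (R : Set G) :=
    Subgroup.centralizer_le hRP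
  have huR : ConjInv R u := conjInv_mono hRP huP
  obtain ⟨z, hz⟩ : ∃ z : ↥(Subgroup.centralizer (R : Set G)) → ℂ,
    z = brRes R (Subgroup.centralizer (R : Set G)) u := ⟨_, rfl⟩
  have hz_cf : IsClassFunction ↥(Subgroup.centralizer (R : Set G)) z := by
    rw [hz]
    exact brRes_isClassFunction_of_conjInv huC
  have hz_R : ∀ k, MemLocalRing M (z k) := by
    rw [hz]
    exact brRes_memLocalRing hMtop R _ hloc
  have hz_id : ∀ k, MemLocalIdeal M (cconv z z k - z k) := by
    intro k
    have h1 := brRes_cconv_sub_inv hM hRg.1 le_rfl huR hloc huR hloc k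
    rw [hid, ← hz] at h1
    have h2 := memLocalIdeal_neg h1
    rwa [neg_sub] at h2
  have hzω : ∀ θ ∈ g, MemLocalIdeal M
      (omegaFn (θ : ↥(Subgroup.centralizer (R : Set G)) → ℂ) z - 1) := by
    intro θ hθ
    have h1 := hω θ hθ
    unfold brOmega at h1
    rw [← hz] at h1
    exact h1
  have habs := idem_absorb hz_cf hz_R hz_id g hRg.2 hzω
  obtain ⟨z', hz'⟩ : ∃ z' : G → ℂ, z' = extZ (Subgroup.centralizer (R : Set G)) z := ⟨_, rfl⟩
  have hz'val : ∀ x ∈ Subgroup.centralizer (R : Set G), z' x = u x := by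
    intro x hx
    rw [hz', extZ_of_mem _ _ hx, hz]
    unfold brRes
    simp only [hx, if_true]
  have hz'P : ConjInv P z' := by
    intro s hs x
    have hsN := Cfsg.Agent.helper1.normalizer_le_normalizer_centralizer R (hPN hs)
    by_cases hx : x ∈ Subgroup.centralizer (R : Set G)
    · have hx' : s * x * s⁻¹ ∈ Subgroup.centralizer (R : Set G) :=
        (Subgroup.mem_normalizer_iff.1 hsN x).1 hx
      rw [hz'val _ hx', hz'val _ hx, huP s hs x]
    · have hx' : s * x * s⁻¹ ∉ Subgroup.centralizer (R : Set G) :=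
        fun h => hx ((Subgroup.mem_normalizer_iff.1 hsN x).2 h)
      rw [hz', extZ_of_not_mem _ _ hx, extZ_of_not_mem _ _ hx']
  have hz'C : ConjInv (Subgroup.centralizer (P : Set G)) z' := by
    rw [hz']
    exact conjInv_mono hCK (conjInv_extZ _ hz_cf)
  have hz'R : ∀ x, MemLocalRing M (z' x) := by
    intro x
    by_cases hx : x ∈ Subgroup.centralizer (R : Set G)
    · rw [hz'val _ hx]
      exact hloc x
    · rw [hz', extZ_of_not_mem _ _ hx]
      exact memLocalRing_zero hMtop
  have hgz : BrGood M P z' := ⟨hz'P, hz'C, hz'R⟩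
  have hgf : BrGood M P (subgroupBlockCoeff (Subgroup.centralizer (R : Set G)) g) :=
    brGood_sbc hCK hRg.2 hst
  intro ξ hξ
  have hi : brOmega P (Subgroup.centralizer (P : Set G))
      (ξ : ↥(Subgroup.centralizer (P : Set G)) → ℂ) u
      = brOmega P (Subgroup.centralizer (P : Set G))
      (ξ : ↥(Subgroup.centralizer (P : Set G)) → ℂ) z' := by
    unfold brOmega
    congr 1
    funext c
    unfold brRes
    rw [if_pos c.2, if_pos c.2, hz'val _ (hCK c.2)]
  rw [hi]
  have hii := brOmega_mul hM hPe.1 ξ hgz hgf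
  have hiii : MemLocalIdeal M (brOmega P (Subgroup.centralizer (P : Set G))
      (ξ : ↥(Subgroup.centralizer (P : Set G)) → ℂ)
        (cconv z' (subgroupBlockCoeff (Subgroup.centralizer (R : Set G)) g))
      - brOmega P (Subgroup.centralizer (P : Set G))
      (ξ : ↥(Subgroup.centralizer (P : Set G)) → ℂ)
        (subgroupBlockCoeff (Subgroup.centralizer (R : Set G)) g)) := by
    apply brOmega_congr_vals ξ (conjInv_cconv hgz.invC hgf.invC) hgf.invC
    intro x hx
    rw [hz', sbc_eq_extZ, ← extZ_cconv, extZ_of_mem _ _ (hCK hx), extZ_of_mem _ _ (hCK hx)]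
    exact habs _
  have hiv := hbr ξ hξ
  rw [brauerOmega_eq] at hiv
  have hl := brOmega_memLocalRing ξ hgz
  obtain ⟨a, ha⟩ : ∃ a : ℂ, a = brOmega P (Subgroup.centralizer (P : Set G))
      (ξ : ↥(Subgroup.centralizer (P : Set G)) → ℂ) z' := ⟨_, rfl⟩
  obtain ⟨b, hb⟩ : ∃ b : ℂ, b = brOmega P (Subgroup.centralizer (P : Set G))
      (ξ : ↥(Subgroup.centralizer (P : Set G)) → ℂ)
        (subgroupBlockCoeff (Subgroup.centralizer (R : Set G)) g) := ⟨_, rfl⟩
  obtain ⟨c, hc⟩ : ∃ c : ℂ, c = brOmega P (Subgroup.centralizer (P : Set G))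
      (ξ : ↥(Subgroup.centralizer (P : Set G)) → ℂ)
        (cconv z' (subgroupBlockCoeff (Subgroup.centralizer (R : Set G)) g)) := ⟨_, rfl⟩
  rw [← ha, ← hb, ← hc] at hii
  rw [← hb, ← hc] at hiii
  rw [← hb] at hiv
  rw [← ha] at hl ⊢
  have e1 : a - 1 = -(a * (b - 1)) - (c - a * b) + (c - b) + (b - 1) := by ring
  rw [e1]
  exact memLocalIdeal_add (memLocalIdeal_add (memLocalIdeal_sub
    (memLocalIdeal_neg (memLocalIdeal_mul_left hl hiv)) hii) hiii) hiv

/-- stability from a fixed transport -/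
theorem stabilizes_of_transport_eq {K : Subgroup G} {f : Set (IrrCharacter ↥K)} {x : G}
    (hx : x ∈ Subgroup.normalizer (K : Set G))
    (h : transportSet (Cfsg.Agent.helper1.conjNormalizer K x hx) f = f) :
    StabilizesBlock K f x := by
  refine ⟨hx, ?_⟩
  intro χ hχ
  refine ⟨irrTransport (Cfsg.Agent.helper1.conjNormalizer K x hx) χ, ?_, ?_⟩
  · rw [← h]
    exact (mem_transportSet_iff _ f χ).2 hχ
  · intro k k' hk
    rw [irrTransport_apply]
    refine congrArg (χ : ↥K → ℂ) (Subtype.ext ?_)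
    show x⁻¹ * (k' : G) * x = (k : G)
    rw [hk]
    group

/-- transitivity of normal inclusion -/
theorem normalSubpair_trans (hM : IsPModular p M) {Q R P : Subgroup G}
    {f : Set (IrrCharacter (Subgroup.centralizer (Q : Set G)))}
    {g : Set (IrrCharacter (Subgroup.centralizer (R : Set G)))}
    {e : Set (IrrCharacter (Subgroup.centralizer (P : Set G)))}
    (h₁ : IsNormalSubpair p M Q f R g) (h₂ : IsNormalSubpair p M R g P e)
    (hPNQ : P ≤ Subgroup.normalizer (Q : Set G)) : IsNormalSubpair p M Q f P e := by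
  classical
  have hMp : M.IsPrime := hM.2.1.isPrime
  have := Fintype.ofFinite ↥(Subgroup.centralizer (Q : Set G))
  have := Fintype.ofFinite ↥(Subgroup.centralizer (R : Set G))
  have := Fintype.ofFinite ↥(Subgroup.centralizer (P : Set G))
  have hstP : ∀ x ∈ P, StabilizesBlock (Subgroup.centralizer (Q : Set G)) f x := by
    intro x hx
    have hxR : x ∈ Subgroup.normalizer (R : Set G) := h₂.2.2.2.1 hx
    have hxQ : x ∈ Subgroup.normalizer (Q : Set G) := hPNQ hx
    have hrel : NormalSubpairRel p M (cjPair x ⟨Q, f⟩) (cjPair x ⟨R, g⟩) :=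
      normalSubpair_conj h₁ x
    rw [cjPair_eq_of_stabilizes hxR (h₂.2.2.2.2.1 x hx) (h₂.2.2.2.2.1 x⁻¹ (P.inv_mem hx)),
      cjPair_eq_transport hxQ] at hrel
    have h3 : IsNormalSubpair p M Q (transportSet
      (Cfsg.Agent.helper1.conjNormalizer (Subgroup.centralizer (Q : Set G)) x
        (Cfsg.Agent.helper1.normalizer_le_normalizer_centralizer Q hxQ)) f) R g := hrel
    exact stabilizes_of_transport_eq _ (normalSubpair_unique hM h3 h₁)
  have hQR : Q ≤ R := h₁.2.2.1
  have hRP : R ≤ P := h₂.2.2.1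
  refine ⟨h₁.1, h₂.2.1, hQR.trans hRP, hPNQ, hstP, ?_⟩
  intro ξ hξ
  rw [brauerOmega_eq]
  apply absorb_step hM h₂ (sbc_conjInv_of_stabilizes _ f P hstP)
    (conjInv_mono (Subgroup.centralizer_le hQR) (sbc_conjInv_self _ f))
    (sbc_loc _ h₁.1.2) (by rw [sbc_cconv, Set.inter_self]) _ ξ hξ
  intro ψ hψ
  have h4 := h₁.2.2.2.2.2 ψ hψ
  rw [brauerOmega_eq] at h4
  exact h4

/-- a pair is normally below itself -/
theorem normalSubpair_refl {P : Subgroup G}
    {e : Set (IrrCharacter (Subgroup.centralizer (P : Set G)))} (hPe : IsBrauerPair p M P e)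
    (hMtop : M ≠ ⊤) : IsNormalSubpair p M P e P e := by
  classical
  have := Fintype.ofFinite ↥(Subgroup.centralizer (P : Set G))
  refine ⟨hPe, hPe, le_rfl, Subgroup.le_normalizer, ?_, ?_⟩
  · intro x hx
    refine ⟨Cfsg.Agent.helper1.normalizer_le_normalizer_centralizer P
      (Subgroup.le_normalizer hx), ?_⟩
    intro χ hχ
    refine ⟨χ, hχ, ?_⟩
    intro k k' hk
    refine congrArg (χ : ↥(Subgroup.centralizer (P : Set G)) → ℂ) (Subtype.ext ?_)
    rw [hk]
    have h1 := Subgroup.mem_centralizer_iff.1 k.2 x hx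
    rw [h1]
    group
  · intro ξ hξ
    rw [brauerOmega_eq]
    unfold brOmega
    have h1 : brRes P (Subgroup.centralizer (P : Set G))
        (subgroupBlockCoeff (Subgroup.centralizer (P : Set G)) e) = blockCoeff e := by
      funext c
      unfold brRes
      rw [if_pos c.2, sbc_of_mem _ _ c.2]
    rw [h1, omegaFn_blockCoeff, if_pos hξ, sub_self]
    exact memLocalIdeal_zero hMtop

/-- a pair below another one on a normal subgroup is normally below it -/
theorem normalSubpair_of_subpairLE (hM : IsPModular p M) {Q P : Subgroup G}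
    {f : Set (IrrCharacter (Subgroup.centralizer (Q : Set G)))}
    {e : Set (IrrCharacter (Subgroup.centralizer (P : Set G)))}
    (hle : SubpairLE p M Q f P e) (hPe : IsBrauerPair p M P e)
    (hPN : P ≤ Subgroup.normalizer (Q : Set G)) : IsNormalSubpair p M Q f P e := by
  have hMp : M.IsPrime := hM.2.1.isPrime
  have key : ∀ b : BrauerPairIdx G,
      Relation.ReflTransGen (NormalSubpairRel p M) ⟨Q, f⟩ b → IsBrauerPair p M b.1 b.2 →
      b.1 ≤ Subgroup.normalizer (Q : Set G) → IsNormalSubpair p M Q f b.1 b.2 := by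
    intro b hb
    induction hb with
    | refl =>
      intro hpair _
      exact normalSubpair_refl hpair hMp.ne_top
    | tail _ hstep ih =>
      intro _ hN
      have hstep' : IsNormalSubpair p M _ _ _ _ := hstep
      have h1 := ih hstep'.1 (hstep'.2.2.1.trans hN)
      exact normalSubpair_trans hM h1 hstep' hN
  exact key ⟨P, e⟩ hle hPe hPN

end Trans

end Cfsg.Agent.helper24
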