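import Mathlib
import Cfsg.Agent.Lib_helper24_BPair12

/-!
Brauer pairs (helper24), part 13: below a Brauer pair there is exactly one pair on each subgroup.
-/

set_option autoImplicit false

namespace Cfsg.Agent.helper24

open Cfsg Cfsg.Agent.helper5 Cfsg.Agent.helper8
open scoped ComplexConjugate

universe u

section Unique

variable {G : Type u} [Group G] [Fintype G] {M : Ideal AlgInt} {p : ℕ} [Fact p.Prime]

/-- existence of a pair below a given one on each subgroup -/
theorem exists_subpair (hM : IsPModular p M) (P : Subgroup G)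
    (e : Set (IrrCharacter (Subgroup.centralizer (P : Set G)))) (hPe : IsBrauerPair p M P e) :
    ∀ (n : ℕ) (Q : Subgroup G), Q ≤ P → Nat.card P - Nat.card Q ≤ n →
      ∃ f : Set (IrrCharacter (Subgroup.centralizer (Q : Set G))),
        IsPBlock M f ∧ SubpairLE p M Q f P e := by
  intro n
  induction n with
  | zero =>
    intro Q hQP hn
    have hle : Nat.card P ≤ Nat.card Q := by omega
    have hQ : Q = P := Subgroup.eq_of_le_of_card_ge hQP hle
    subst hQ
    exact ⟨e, hPe.2, Relation.ReflTransGen.refl⟩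
  | succ n ih =>
    intro Q hQP hn
    rcases eq_or_lt_of_le hQP with hQ | hlt
    · subst hQ
      exact ⟨e, hPe.2, Relation.ReflTransGen.refl⟩
    · obtain ⟨x, hxS, hxN, hxQ⟩ := Cfsg.Agent.helper1.exists_normalizing_not_mem hPe.1 hlt
      obtain ⟨R, hRdef⟩ : ∃ R : Subgroup G, R = P ⊓ Subgroup.normalizer (Q : Set G) := ⟨_, rfl⟩
      have hQR : Q ≤ R := by
        rw [hRdef]
        exact le_inf hQP Subgroup.le_normalizer
      have hRP : R ≤ P := by rw [hRdef]; exact inf_le_left
      have hRN : R ≤ Subgroup.normalizer (Q : Set G) := by rw [hRdef]; exact inf_le_right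
      have hxR : x ∈ R := by rw [hRdef]; exact ⟨hxS, hxN⟩
      have hcard : Nat.card Q < Nat.card R := by
        by_contra hcon
        push Not at hcon
        have := Subgroup.eq_of_le_of_card_ge hQR hcon
        rw [← this] at hxR
        exact hxQ hxR
      have hRle : Nat.card R ≤ Nat.card P := Subgroup.card_le_of_le hRP
      obtain ⟨g, hg, hrest⟩ := ih R hRP (by omega)
      obtain ⟨f, hf⟩ := exists_normalSubpair hM R Q g ⟨hPe.1.to_le hRP, hg⟩ hQR hRN
      have hstep : NormalSubpairRel p M (⟨Q, f⟩ : BrauerPairIdx G) ⟨R, g⟩ := hf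
      exact ⟨f, hf.1.2, Relation.ReflTransGen.head hstep hrest⟩

/-- a normal inclusion between pairs on the same subgroup is an equality -/
theorem normalSubpair_eq_of_eq [hMp : M.IsPrime] {Q P : Subgroup G}
    {f : Set (IrrCharacter (Subgroup.centralizer (Q : Set G)))}
    {e : Set (IrrCharacter (Subgroup.centralizer (P : Set G)))}
    (h : IsNormalSubpair p M Q f P e) (hQP : Q = P) :
    (⟨Q, f⟩ : BrauerPairIdx G) = ⟨P, e⟩ := by
  classical
  subst hQP
  have := Fintype.ofFinite ↥(Subgroup.centralizer (Q : Set G))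
  obtain ⟨ξ, hξ⟩ := isPBlock_nonempty h.2.1.2
  have h1 := h.2.2.2.2.2 ξ hξ
  rw [brauerOmega_eq] at h1
  unfold brOmega at h1
  have h2 : brRes Q (Subgroup.centralizer (Q : Set G))
      (subgroupBlockCoeff (Subgroup.centralizer (Q : Set G)) f) = blockCoeff f := by
    funext c
    unfold brRes
    rw [if_pos c.2, sbc_of_mem _ _ c.2]
  rw [h2, omegaFn_blockCoeff] at h1
  have hξf : ξ ∈ f := by
    by_contra hne
    rw [if_neg hne, zero_sub] at h1
    have h3 := memLocalIdeal_neg h1
    rw [neg_neg] at h3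
    exact not_memLocalIdeal_one h3
  rw [isPBlock_eq_of_mem h.1.2 h.2.1.2 hξf hξ]

/-- a chain of normal inclusions between pairs on the same subgroup is trivial -/
theorem subpairLE_eq_of_eq [hMp : M.IsPrime] {a b : BrauerPairIdx G}
    (h : Relation.ReflTransGen (NormalSubpairRel p M) a b) (hab : a.1 = b.1) : a = b := by
  obtain ⟨Q, f⟩ := a
  have key : ∀ b : BrauerPairIdx G,
      Relation.ReflTransGen (NormalSubpairRel p M) ⟨Q, f⟩ b → Q = b.1 →
        (⟨Q, f⟩ : BrauerPairIdx G) = b := by
    intro b hb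
    induction hb with
    | refl => intro _; rfl
    | @tail c b hac hcb ih =>
      intro hQb
      obtain ⟨R, g⟩ := c
      obtain ⟨P, e⟩ := b
      have hQR : Q ≤ R := Cfsg.Agent.helper1.subpairLE_le hac
      have hcb' : IsNormalSubpair p M R g P e := hcb
      have hRP : R ≤ P := hcb'.2.2.1
      have hQP : Q = P := hQb
      have hRQ : R = P := le_antisymm hRP (hQP ▸ hQR)
      have hQR' : Q = R := hQP.trans hRQ.symm
      rw [ih hQR']
      exact normalSubpair_eq_of_eq hcb' hRQ
  exact key b h hab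

/-- a non-trivial chain ends with a proper normal inclusion -/
theorem exists_proper_last [hMp : M.IsPrime] {Q : Subgroup G}
    {f : Set (IrrCharacter (Subgroup.centralizer (Q : Set G)))} :
    ∀ b : BrauerPairIdx G, Relation.ReflTransGen (NormalSubpairRel p M) ⟨Q, f⟩ b → Q ≠ b.1 →
      ∃ c : BrauerPairIdx G, Relation.ReflTransGen (NormalSubpairRel p M) ⟨Q, f⟩ c ∧
        NormalSubpairRel p M c b ∧ c.1 ≠ b.1 := by
  intro b hb
  induction hb with
  | refl => intro h; exact absurd rfl h
  | @tail c b hac hcb ih =>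
    intro hQb
    by_cases hcb1 : c.1 = b.1
    · obtain ⟨R, g⟩ := c
      obtain ⟨P, e⟩ := b
      have hcb' : IsNormalSubpair p M R g P e := hcb
      have heq := normalSubpair_eq_of_eq hcb' hcb1
      rw [← heq]
      apply ih
      rw [heq]
      exact hQb
    · exact ⟨c, hac, hcb, hcb1⟩

set_option maxHeartbeats 1600000 in
/-- uniqueness of the pair below a given one on a subgroup -/
theorem subpair_unique_aux (hM : IsPModular p M) :
    ∀ (n : ℕ) (P : Subgroup G) (e : Set (IrrCharacter (Subgroup.centralizer (P : Set G))))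
      (_ : IsBrauerPair p M P e) (Q : Subgroup G), Nat.card P - Nat.card Q ≤ n →
      ∀ (f f' : Set (IrrCharacter (Subgroup.centralizer (Q : Set G)))),
        SubpairLE p M Q f P e → SubpairLE p M Q f' P e → f = f' := by
  have hMp : M.IsPrime := hM.2.1.isPrime
  have htriv : ∀ (P : Subgroup G) (e : Set (IrrCharacter (Subgroup.centralizer (P : Set G))))
      (Q : Subgroup G) (f f' : Set (IrrCharacter (Subgroup.centralizer (Q : Set G)))),
      Q = P → SubpairLE p M Q f P e → SubpairLE p M Q f' P e → f = f' := by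
    intro P e Q f f' hQ hle hle'
    have h1 : (⟨Q, f⟩ : BrauerPairIdx G) = ⟨P, e⟩ := subpairLE_eq_of_eq hle hQ
    have h2 : (⟨Q, f'⟩ : BrauerPairIdx G) = ⟨P, e⟩ := subpairLE_eq_of_eq hle' hQ
    have h3 := h1.trans h2.symm
    exact eq_of_heq (Sigma.mk.inj_iff.1 h3).2
  intro n
  induction n with
  | zero =>
    intro P e _ Q hn f f' hle hle'
    have hQP : Q ≤ P := Cfsg.Agent.helper1.subpairLE_le hle
    have hc : Nat.card P ≤ Nat.card Q := by omega
    exact htriv P e Q f f' (Subgroup.eq_of_le_of_card_ge hQP hc) hle hle'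
  | succ n ih =>
    intro P e hPe Q hn f f' hle hle'
    have hQP : Q ≤ P := Cfsg.Agent.helper1.subpairLE_le hle
    by_cases hQ : Q = P
    · exact htriv P e Q f f' hQ hle hle'
    · obtain ⟨⟨R, g⟩, hQc, hcP, hcne⟩ := exists_proper_last ⟨P, e⟩ hle hQ
      obtain ⟨⟨R', g'⟩, hQc', hcP', hcne'⟩ := exists_proper_last ⟨P, e⟩ hle' hQ
      have hcP1 : IsNormalSubpair p M R g P e := hcP
      have hcP1' : IsNormalSubpair p M R' g' P e := hcP'
      have hRne : R ≠ P := hcne
      have hRne' : R' ≠ P := hcne'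
      have hQR : Q ≤ R := Cfsg.Agent.helper1.subpairLE_le hQc
      have hQR' : Q ≤ R' := Cfsg.Agent.helper1.subpairLE_le hQc'
      have hRP : R ≤ P := hcP1.2.2.1
      have hRP' : R' ≤ P := hcP1'.2.2.1
      have hcardR : Nat.card R < Nat.card P := by
        by_contra hcon
        push Not at hcon
        exact hRne (Subgroup.eq_of_le_of_card_ge hRP hcon)
      have hcardR' : Nat.card R' < Nat.card P := by
        by_contra hcon
        push Not at hcon
        exact hRne' (Subgroup.eq_of_le_of_card_ge hRP' hcon)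
      have hcQR : Nat.card Q ≤ Nat.card R := Subgroup.card_le_of_le hQR
      have hcQR' : Nat.card Q ≤ Nat.card R' := Subgroup.card_le_of_le hQR'
      obtain ⟨S, hSdef⟩ : ∃ S : Subgroup G, S = R ⊓ R' := ⟨_, rfl⟩
      have hSR : S ≤ R := by rw [hSdef]; exact inf_le_left
      have hSR' : S ≤ R' := by rw [hSdef]; exact inf_le_right
      have hSP : S ≤ P := hSR.trans hRP
      have hQS : Q ≤ S := by rw [hSdef]; exact le_inf hQR hQR'
      have hPNS : P ≤ Subgroup.normalizer (S : Set G) := by
        intro x hx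
        have h1 := hcP1.2.2.2.1 hx
        have h2 := hcP1'.2.2.2.1 hx
        rw [Subgroup.mem_normalizer_iff] at h1 h2 ⊢
        intro h
        rw [hSdef]
        constructor
        · rintro ⟨ha, hb⟩
          exact ⟨(h1 h).1 ha, (h2 h).1 hb⟩
        · rintro ⟨ha, hb⟩
          exact ⟨(h1 h).2 ha, (h2 h).2 hb⟩
      obtain ⟨eS, heS⟩ := exists_normalSubpair hM P S e hPe hSP hPNS
      have hCR : IsNormalSubpair p M S eS R g := by
        obtain ⟨g₁, hg₁⟩ := exists_normalSubpair hM R S g hcP1.1 hSR (hRP.trans hPNS)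
        have h3 := normalSubpair_trans hM hg₁ hcP1 hPNS
        rw [← normalSubpair_unique hM h3 heS]
        exact hg₁
      have hCR' : IsNormalSubpair p M S eS R' g' := by
        obtain ⟨g₁, hg₁⟩ := exists_normalSubpair hM R' S g' hcP1'.1 hSR' (hRP'.trans hPNS)
        have h3 := normalSubpair_trans hM hg₁ hcP1' hPNS
        rw [← normalSubpair_unique hM h3 heS]
        exact hg₁
      obtain ⟨f'', -, hf''⟩ := exists_subpair hM S eS heS.1 _ Q hQS le_rfl
      have hstep : NormalSubpairRel p M (⟨S, eS⟩ : BrauerPairIdx G) ⟨R, g⟩ := hCR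
      have hstep' : NormalSubpairRel p M (⟨S, eS⟩ : BrauerPairIdx G) ⟨R', g'⟩ := hCR'
      have chain1 : SubpairLE p M Q f'' R g := Relation.ReflTransGen.tail hf'' hstep
      have chain1' : SubpairLE p M Q f'' R' g' := Relation.ReflTransGen.tail hf'' hstep'
      have e1 : f'' = f := ih R g hcP1.1 Q (by omega) f'' f chain1 hQc
      have e2 : f'' = f' := ih R' g' hcP1'.1 Q (by omega) f'' f' chain1' hQc'
      rw [← e1, ← e2]

/-- below a Brauer pair there is exactly one pair on each subgroup -/
theorem existsUnique_subpair (hM : IsPModular p M) (P Q : Subgroup G)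
    (e : Set (IrrCharacter (Subgroup.centralizer (P : Set G))))
    (hPe : IsBrauerPair p M P e) (hQP : Q ≤ P) :
    ∃! f : Set (IrrCharacter (Subgroup.centralizer (Q : Set G))),
      IsPBlock M f ∧ SubpairLE p M Q f P e := by
  obtain ⟨f, hf, hle⟩ := exists_subpair hM P e hPe _ Q hQP le_rfl
  refine ⟨f, ⟨hf, hle⟩, ?_⟩
  rintro f' ⟨-, hle'⟩
  exact subpair_unique_aux hM _ P e hPe Q le_rfl f' f hle' hle

end Unique

end Cfsg.Agent.helper24
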