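import Mathlib
import Cfsg.Agent.Lib_helper24_BPair13

/-!
Brauer pairs (helper24), part 14: centralizers in a maximal pair and defect groups of the local
blocks.
-/

set_option autoImplicit false

namespace Cfsg.Agent.helper24

open Cfsg Cfsg.Agent.helper5 Cfsg.Agent.helper8
open scoped ComplexConjugate

universe u

section Stab14

variable {G : Type u} [Group G]

/-- products of stabilizing elements stabilize -/
theorem stabilizesBlock_mul {K : Subgroup G} {f : Set (IrrCharacter ↥K)} {x y : G}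
    (hx : StabilizesBlock K f x) (hy : StabilizesBlock K f y) : StabilizesBlock K f (x * y) := by
  refine ⟨Subgroup.mul_mem _ hx.1 hy.1, ?_⟩
  intro χ hχ
  obtain ⟨χ', hχ', h1⟩ := hy.2 χ hχ
  obtain ⟨χ'', hχ'', h2⟩ := hx.2 χ' hχ'
  refine ⟨χ'', hχ'', ?_⟩
  intro k k'' hk
  have hyk : y * (k : G) * y⁻¹ ∈ K := (Subgroup.mem_normalizer_iff.1 hy.1 _).1 k.2
  rw [h2 ⟨y * (k : G) * y⁻¹, hyk⟩ k'' (by rw [hk]; group), h1 k ⟨_, hyk⟩ rfl]

/-- the elements of `Q` stabilize every set of characters of `C(Q)` -/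
theorem stabilizesBlock_of_mem (Q : Subgroup G)
    (f : Set (IrrCharacter ↥(Subgroup.centralizer (Q : Set G)))) {x : G} (hx : x ∈ Q) :
    StabilizesBlock (Subgroup.centralizer (Q : Set G)) f x := by
  refine ⟨Cfsg.Agent.helper1.normalizer_le_normalizer_centralizer Q
    (Subgroup.le_normalizer hx), ?_⟩
  intro χ hχ
  refine ⟨χ, hχ, ?_⟩
  intro k k' hk
  refine congrArg (χ : ↥(Subgroup.centralizer (Q : Set G)) → ℂ) (Subtype.ext ?_)
  rw [hk]
  have h1 := Subgroup.mem_centralizer_iff.1 k.2 x hx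
  rw [h1]
  group

/-- the elements of `K` stabilize every set of characters of `K` -/
theorem stabilizesBlock_of_mem_self {K : Subgroup G} (f : Set (IrrCharacter ↥K)) {x : G}
    (hx : x ∈ K) : StabilizesBlock K f x := by
  refine ⟨Subgroup.le_normalizer hx, ?_⟩
  intro χ hχ
  refine ⟨χ, hχ, ?_⟩
  intro k k' hk
  have hcf := char_isClassFunction (irr_isCharacter χ.2)
  have h1 : k' = (⟨x, hx⟩ : ↥K) * k * (⟨x, hx⟩ : ↥K)⁻¹ := Subtype.ext (by rw [hk]; rfl)
  rw [h1]
  exact hcf k ⟨x, hx⟩

end Stab14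

section Main14

variable {G : Type u} [Group G] [Fintype G] {M : Ideal AlgInt} {p : ℕ} [Fact p.Prime]

/-- the idempotent of the lower pair of a normal inclusion does not vanish modulo the ideal on the
centralizer of the upper subgroup -/
theorem normalSubpair_exists_ne (hM : IsPModular p M) {Q R : Subgroup G}
    {f : Set (IrrCharacter (Subgroup.centralizer (Q : Set G)))}
    {g : Set (IrrCharacter (Subgroup.centralizer (R : Set G)))}
    (h : IsNormalSubpair p M Q f R g) :
    ∃ x₀ ∈ Subgroup.centralizer (R : Set G),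
      ¬ MemLocalIdeal M (subgroupBlockCoeff (Subgroup.centralizer (Q : Set G)) f x₀) := by
  classical
  have hMp : M.IsPrime := hM.2.1.isPrime
  have := Fintype.ofFinite ↥(Subgroup.centralizer (R : Set G))
  have := Fintype.ofFinite ↥(Subgroup.centralizer (Q : Set G))
  by_contra hcon
  push Not at hcon
  obtain ⟨ξ, hξ⟩ := isPBlock_nonempty h.2.1.2
  have h1 := h.2.2.2.2.2 ξ hξ
  rw [brauerOmega_eq] at h1
  have hCK : Subgroup.centralizer (R : Set G) ≤ Subgroup.centralizer (Q : Set G) :=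
    Subgroup.centralizer_le h.2.2.1
  have hu : ConjInv (Subgroup.centralizer (R : Set G))
      (subgroupBlockCoeff (Subgroup.centralizer (Q : Set G)) f) :=
    conjInv_mono hCK (sbc_conjInv_self _ f)
  have hv : ConjInv (Subgroup.centralizer (R : Set G)) (0 : G → ℂ) := fun _ _ _ => rfl
  have h2 := brOmega_congr_vals (M := M) ξ hu hv (by
    intro x hx
    have := hcon x hx
    simpa using this)
  rw [brOmega_zero, sub_zero] at h2
  have h3 := memLocalIdeal_sub h2 h1
  rw [sub_sub_cancel] at h3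
  exact not_memLocalIdeal_one h3

/-- the centralizer of `Q` in `P` lies in a defect group of the block of the pair on `Q` -/
theorem cent_le_defectGroup (hM : IsPModular p M) {P Q : Subgroup G}
    {e : Set (IrrCharacter (Subgroup.centralizer (P : Set G)))}
    {f : Set (IrrCharacter (Subgroup.centralizer (Q : Set G)))}
    (hPe : IsBrauerPair p M P e) (hQP : Q ≤ P) (hf : IsPBlock M f)
    (hle : SubpairLE p M Q f P e) :
    ∃ D : Subgroup (Subgroup.centralizer (Q : Set G)), IsDefectGroup p M f D ∧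
      (P ⊓ Subgroup.centralizer (Q : Set G)).subgroupOf (Subgroup.centralizer (Q : Set G))
        ≤ D := by
  classical
  have hMp : M.IsPrime := hM.2.1.isPrime
  have := Fintype.ofFinite ↥(Subgroup.centralizer (Q : Set G))
  obtain ⟨R, hR⟩ : ∃ R : Subgroup G, R = Q ⊔ (P ⊓ Subgroup.centralizer (Q : Set G)) :=
    ⟨_, rfl⟩
  have hRP : R ≤ P := by
    rw [hR]
    exact sup_le hQP inf_le_left
  have hQR : Q ≤ R := by
    rw [hR]
    exact le_sup_left
  have hCR : P ⊓ Subgroup.centralizer (Q : Set G) ≤ R := by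
    rw [hR]
    exact le_sup_right
  have hRN : R ≤ Subgroup.normalizer (Q : Set G) := by
    rw [hR]
    exact sup_le Subgroup.le_normalizer
      (inf_le_right.trans (Subgroup.centralizer_le_normalizer _))
  obtain ⟨e', he', hle'⟩ := exists_subpair hM P e hPe _ R hRP le_rfl
  have hRe' : IsBrauerPair p M R e' := ⟨hPe.1.to_le hRP, he'⟩
  obtain ⟨f₁, hf₁, hle₁⟩ := exists_subpair hM R e' hRe' _ Q hQR le_rfl
  have hf₁f : f₁ = f := subpair_unique_aux hM _ P e hPe Q le_rfl f₁ f
    (Relation.ReflTransGen.trans hle₁ hle') hle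
  rw [hf₁f] at hle₁
  have hnorm : IsNormalSubpair p M Q f R e' := normalSubpair_of_subpairLE hM hle₁ hRe' hRN
  obtain ⟨x₀, hx₀R, hx₀⟩ := normalSubpair_exists_ne hM hnorm
  have hx₀Q : x₀ ∈ Subgroup.centralizer (Q : Set G) := Subgroup.centralizer_le hQR hx₀R
  rw [sbc_of_mem _ _ hx₀Q] at hx₀
  obtain ⟨A, hA⟩ : ∃ A : Subgroup ↥(Subgroup.centralizer (Q : Set G)),
    A = (P ⊓ Subgroup.centralizer (Q : Set G)).subgroupOf (Subgroup.centralizer (Q : Set G)) :=
    ⟨_, rfl⟩
  have hAp : IsPGroup p A := by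
    rw [hA]
    exact (hPe.1.to_le inf_le_left).comap_subtype
  have hcA : (⟨x₀, hx₀Q⟩ : ↥(Subgroup.centralizer (Q : Set G))) ∈
      Subgroup.centralizer (A : Set ↥(Subgroup.centralizer (Q : Set G))) := by
    rw [Subgroup.mem_centralizer_iff]
    intro a ha
    apply Subtype.ext
    have haR : (a : G) ∈ R := by
      apply hCR
      rw [hA] at ha
      exact Subgroup.mem_subgroupOf.1 ha
    exact Subgroup.mem_centralizer_iff.1 hx₀R (a : G) haR
  obtain ⟨D, hD⟩ := exists_defectGroup p M hM f hf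
  obtain ⟨x, hx⟩ := (brauer_nonzero_iff p M hM f hf D hD A hAp).1
    ⟨⟨x₀, hx₀Q⟩, blockCoeff_memLocalRing_of_isPBlock hf _, hx₀, ⟨x₀, hx₀Q⟩, IsConj.refl _, hcA⟩
  refine ⟨D.map (MulAut.conj x⁻¹).toMonoidHom, isDefectGroup_conj p M f hD x⁻¹, ?_⟩
  rw [← hA]
  intro a ha
  refine ⟨x * a * x⁻¹, hx ⟨a, ha, rfl⟩, ?_⟩
  show x⁻¹ * (x * a * x⁻¹) * x⁻¹⁻¹ = a
  group

set_option maxHeartbeats 1600000 in
/-- some conjugate of a pair below a maximal pair is again below it and has the centralizer in `P`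
as a defect group -/
theorem exists_conj_cent_defect (hM : IsPModular p M) (B : Set (IrrCharacter G))
    {P Q : Subgroup G}
    {e : Set (IrrCharacter (Subgroup.centralizer (P : Set G)))}
    {f : Set (IrrCharacter (Subgroup.centralizer (Q : Set G)))}
    (hmax : IsMaximalBrauerPair p M B P e) (hf : IsPBlock M f)
    (hle : SubpairLE p M Q f P e) :
    ∃ x : G, SubpairLE p M (Q.map (MulAut.conj x).toMonoidHom) (conjBlock Q x f) P e ∧
      IsDefectGroup p M (conjBlock Q x f)
        ((P ⊓ Subgroup.centralizer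
          ((Q.map (MulAut.conj x).toMonoidHom : Subgroup G) : Set G)).subgroupOf
          (Subgroup.centralizer ((Q.map (MulAut.conj x).toMonoidHom : Subgroup G) : Set G))) := by
  classical
  have hMp : M.IsPrime := hM.2.1.isPrime
  have := Fintype.ofFinite ↥(Subgroup.centralizer (Q : Set G))
  have hQf : IsBrauerPairOf p M B Q f := (brauerPairOf_iff_of_subpairLE hM hle B).1 hmax.1
  have hQ : IsPGroup p Q := hQf.1.1
  obtain ⟨D₀, hD₀⟩ := exists_defectGroup p M hM f hf
  have hD₀p : IsPGroup p D₀ := defectGroup_isPGroup p M f D₀ hD₀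
  have hcardD₀ : Nat.card D₀ = p ^ blockDefect p f := card_defectGroup p M hM f hf D₀ hD₀
  obtain ⟨DG, hDG⟩ : ∃ DG : Subgroup G,
    DG = D₀.map (Subgroup.centralizer (Q : Set G)).subtype := ⟨_, rfl⟩
  have hDGC : DG ≤ Subgroup.centralizer (Q : Set G) := by
    rw [hDG]
    rintro _ ⟨d, -, rfl⟩
    exact d.2
  have hDGp : IsPGroup p DG := by
    rw [hDG]
    exact hD₀p.map _
  have hDGN : DG ≤ Subgroup.normalizer (Q : Set G) :=
    hDGC.trans (Subgroup.centralizer_le_normalizer _)
  obtain ⟨R, hR⟩ : ∃ R : Subgroup G, R = Q ⊔ DG := ⟨_, rfl⟩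
  have hRp : IsPGroup p R := by
    rw [hR]
    exact hQ.to_sup_of_normal_left' hDGp hDGN
  have hQR : Q ≤ R := by
    rw [hR]
    exact le_sup_left
  have hDR : DG ≤ R := by
    rw [hR]
    exact le_sup_right
  have hRN : R ≤ Subgroup.normalizer (Q : Set G) := by
    rw [hR]
    exact sup_le Subgroup.le_normalizer hDGN
  have hst : ∀ x ∈ R, StabilizesBlock (Subgroup.centralizer (Q : Set G)) f x := by
    intro x hx
    have hx' : x ∈ ((Q ⊔ DG : Subgroup G) : Set G) := by
      rw [← hR]
      exact hx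
    rw [Subgroup.coe_mul_of_right_le_normalizer_left Q DG hDGN] at hx'
    obtain ⟨q, hq, d, hd, rfl⟩ := hx'
    exact stabilizesBlock_mul (stabilizesBlock_of_mem Q f hq)
      (stabilizesBlock_of_mem_self f (hDGC hd))
  obtain ⟨g₀, hg₀, PS, hPS⟩ := hD₀
  have hx₀R : (g₀ : G) ∈ Subgroup.centralizer (R : Set G) := by
    have h1 : R ≤ Subgroup.centralizer ({(g₀ : G)} : Set G) := by
      rw [hR]
      apply sup_le
      · intro q hq
        rw [Subgroup.mem_centralizer_singleton_iff]
        exact Subgroup.mem_centralizer_iff.1 g₀.2 q hq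
      · rw [hDG]
        rintro _ ⟨d, hd, rfl⟩
        rw [Subgroup.mem_centralizer_singleton_iff]
        rw [hPS] at hd
        obtain ⟨c, -, rfl⟩ := hd
        have h2 := Subgroup.mem_centralizer_singleton_iff.1 c.2
        exact congrArg Subtype.val h2
    rw [Subgroup.mem_centralizer_iff]
    intro r hr
    have h2 := Subgroup.mem_centralizer_singleton_iff.1 (h1 hr)
    exact h2
  have hne : ¬ MemLocalIdeal M
      (subgroupBlockCoeff (Subgroup.centralizer (Q : Set G)) f (g₀ : G)) := by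
    rw [sbc_of_mem _ _ g₀.2]
    exact hg₀.2.1
  obtain ⟨g, hg⟩ := exists_normalSubpair_of_ne hM hRp hQR hRN f hf hst (g₀ : G) hx₀R hne
  have hRg : IsBrauerPairOf p M B R g := brauerPairOf_of_normalSubpair hM hg B hQf
  obtain ⟨x, hx⟩ := pair_conj_below_maximal hM B P R e g hmax hRg
  have := Fintype.ofFinite ↥(Subgroup.centralizer
    ((Q.map (MulAut.conj x).toMonoidHom : Subgroup G) : Set G))
  have hstep : NormalSubpairRel p M
      ⟨Q.map (MulAut.conj x).toMonoidHom, conjBlock Q x f⟩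
      ⟨R.map (MulAut.conj x).toMonoidHom, conjBlock R x g⟩ := normalSubpair_conj hg x
  have hle_x : SubpairLE p M (Q.map (MulAut.conj x).toMonoidHom) (conjBlock Q x f) P e :=
    Relation.ReflTransGen.head hstep hx
  refine ⟨x, hle_x, ?_⟩
  have hRxP : R.map (MulAut.conj x).toMonoidHom ≤ P := Cfsg.Agent.helper1.subpairLE_le hx
  have hQxP : Q.map (MulAut.conj x).toMonoidHom ≤ P := (Subgroup.map_mono hQR).trans hRxP
  have hfx : IsPBlock M (conjBlock Q x f) := (brauerPair_conj hQf.1 x).2
  obtain ⟨D', hD', hle'⟩ := cent_le_defectGroup hM hmax.1.1 hQxP hfx hle_x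
  have hcardD' : Nat.card D' = p ^ blockDefect p f := by
    rw [card_defectGroup p M hM _ hfx D' hD', conjBlock_eq_transportSet,
      blockDefect_transportSet]
  obtain ⟨A', hA'⟩ : ∃ A' : Subgroup ↥(Subgroup.centralizer
      ((Q.map (MulAut.conj x).toMonoidHom : Subgroup G) : Set G)),
    A' = (P ⊓ Subgroup.centralizer
          ((Q.map (MulAut.conj x).toMonoidHom : Subgroup G) : Set G)).subgroupOf
          (Subgroup.centralizer ((Q.map (MulAut.conj x).toMonoidHom : Subgroup G) : Set G)) :=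
    ⟨_, rfl⟩
  rw [← hA'] at hle' ⊢
  have hDGx : DG.map (MulAut.conj x).toMonoidHom ≤ P ⊓ Subgroup.centralizer
      ((Q.map (MulAut.conj x).toMonoidHom : Subgroup G) : Set G) := by
    apply le_inf
    · exact (Subgroup.map_mono hDR).trans hRxP
    · rintro _ ⟨d, hd, rfl⟩
      rw [Subgroup.mem_centralizer_iff]
      rintro _ ⟨q, hq, rfl⟩
      show x * q * x⁻¹ * (x * d * x⁻¹) = x * d * x⁻¹ * (x * q * x⁻¹)
      have h2 := Subgroup.mem_centralizer_iff.1 (hDGC hd) q hq
      calc x * q * x⁻¹ * (x * d * x⁻¹) = x * (q * d) * x⁻¹ := by group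
        _ = x * (d * q) * x⁻¹ := by rw [h2]
        _ = x * d * x⁻¹ * (x * q * x⁻¹) := by group
  have hsub : (DG.map (MulAut.conj x).toMonoidHom).subgroupOf (Subgroup.centralizer
      ((Q.map (MulAut.conj x).toMonoidHom : Subgroup G) : Set G)) ≤ A' := by
    intro a ha
    rw [hA']
    exact Subgroup.mem_subgroupOf.2 (hDGx (Subgroup.mem_subgroupOf.1 ha))
  have hcard1 : Nat.card ((DG.map (MulAut.conj x).toMonoidHom).subgroupOf (Subgroup.centralizer
      ((Q.map (MulAut.conj x).toMonoidHom : Subgroup G) : Set G))) = p ^ blockDefect p f := by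
    rw [Nat.card_congr (Subgroup.subgroupOfEquivOfLe (hDGx.trans inf_le_right)).toEquiv,
      Subgroup.card_map_of_injective (MulAut.conj x).injective, hDG,
      Subgroup.card_map_of_injective (Subgroup.subtype_injective _), hcardD₀]
  have hcard2 : Nat.card D' ≤ Nat.card A' := by
    rw [hcardD', ← hcard1]
    exact Subgroup.card_le_of_le hsub
  have hAD : A' = D' := Subgroup.eq_of_le_of_card_ge hle' hcard2
  rw [hAD]
  exact hD'

end Main14

end Cfsg.Agent.helper24
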