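import Mathlib
import Cfsg.Agent.Lib_helper24_BPair14
import Cfsg.Prelude.Def_BlockFusion

/-!
Brauer pairs (helper24), part 15: the fusion system of a block; fully centralized and centric
subgroups in terms of defect groups.
-/

set_option autoImplicit false

namespace Cfsg.Agent.helper24

open Cfsg Cfsg.Agent.helper5 Cfsg.Agent.helper8
open scoped ComplexConjugate

universe u

section Fus15a

variable {G : Type u} [Group G]

theorem card_subgroupOf_eq_of_le24 {H K : Subgroup G} (h : H ≤ K) :
    Nat.card (H.subgroupOf K) = Nat.card H :=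
  Nat.card_congr (Subgroup.subgroupOfEquivOfLe h).toEquiv

theorem map_conj_inf_centralizer (A Q : Subgroup G) (g : G) :
    (A ⊓ Subgroup.centralizer (Q : Set G)).map (MulAut.conj g).toMonoidHom
      = A.map (MulAut.conj g).toMonoidHom ⊓
        Subgroup.centralizer ((Q.map (MulAut.conj g).toMonoidHom : Subgroup G) : Set G) := by
  ext y
  rw [Subgroup.mem_inf]
  constructor
  · rintro ⟨a, ha, rfl⟩
    have ha' : a ∈ A ⊓ Subgroup.centralizer (Q : Set G) := ha
    obtain ⟨haA, haC⟩ := Subgroup.mem_inf.1 ha'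
    refine ⟨⟨a, haA, rfl⟩, ?_⟩
    apply Subgroup.mem_centralizer_iff.2
    rintro _ ⟨q, hq, rfl⟩
    have h1 := Subgroup.mem_centralizer_iff.1 haC q hq
    show g * q * g⁻¹ * (g * a * g⁻¹) = g * a * g⁻¹ * (g * q * g⁻¹)
    calc g * q * g⁻¹ * (g * a * g⁻¹) = g * (q * a) * g⁻¹ := by group
      _ = g * (a * q) * g⁻¹ := by rw [h1]
      _ = g * a * g⁻¹ * (g * q * g⁻¹) := by group
  · rintro ⟨⟨a, haA, rfl⟩, hyC⟩
    refine ⟨a, Subgroup.mem_inf.2 ⟨haA, ?_⟩, rfl⟩
    apply Subgroup.mem_centralizer_iff.2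
    intro q hq
    have h1 := Subgroup.mem_centralizer_iff.1 hyC (g * q * g⁻¹) ⟨q, hq, rfl⟩
    have h2 : g * q * g⁻¹ * (g * a * g⁻¹) = g * a * g⁻¹ * (g * q * g⁻¹) := h1
    have h3 : g * (q * a) * g⁻¹ = g * (a * q) * g⁻¹ := by
      calc g * (q * a) * g⁻¹ = g * q * g⁻¹ * (g * a * g⁻¹) := by group
        _ = g * a * g⁻¹ * (g * q * g⁻¹) := h2
        _ = g * (a * q) * g⁻¹ := by group
    exact mul_left_cancel (mul_right_cancel h3)

end Fus15a

section Fus15b

variable {G : Type u} [Group G] [Fintype G] {M : Ideal AlgInt} {p : ℕ} [Fact p.Prime]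

theorem card_defectGroup_conjBlock (hM : IsPModular p M) {Q : Subgroup G}
    {f : Set (IrrCharacter (Subgroup.centralizer (Q : Set G)))} (hQ : IsPGroup p Q)
    (hf : IsPBlock M f) (x : G)
    (D' : Subgroup ↥(Subgroup.centralizer
      ((Q.map (MulAut.conj x).toMonoidHom : Subgroup G) : Set G)))
    (hD' : IsDefectGroup p M (conjBlock Q x f) D') : Nat.card D' = p ^ blockDefect p f := by
  classical
  have := Fintype.ofFinite ↥(Subgroup.centralizer
    ((Q.map (MulAut.conj x).toMonoidHom : Subgroup G) : Set G))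
  have hfx : IsPBlock M (conjBlock Q x f) := (brauerPair_conj (p := p) ⟨hQ, hf⟩ x).2
  rw [card_defectGroup p M hM _ hfx D' hD', conjBlock_eq_transportSet,
    blockDefect_transportSet]

/-- conjugacy in the fusion system of a block -/
theorem blockFusion_isConj_iff (hM : IsPModular p M) {B : Set (IrrCharacter G)}
    {P : Subgroup G} {e : Set (IrrCharacter (Subgroup.centralizer (P : Set G)))}
    (F : FusionSystem P) (hF : IsBlockFusionSystemOn p M B P e F) {Q : Subgroup G}
    {f : Set (IrrCharacter (Subgroup.centralizer (Q : Set G)))}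
    (hle : SubpairLE p M Q f P e) (Q' : Subgroup G) :
    F.IsConj Q Q' ↔ ∃ g : G, Q' = Q.map (MulAut.conj g).toMonoidHom ∧
      SubpairLE p M (Q.map (MulAut.conj g).toMonoidHom) (conjBlock Q g f) P e := by
  have hQP : Q ≤ P := Cfsg.Agent.helper1.subpairLE_le hle
  have hPe : IsBrauerPair p M P e := hF.1.1.1
  constructor
  · rintro ⟨φ, hφ, hrange⟩
    obtain ⟨-, g, hg, -, f', hle', hleg⟩ := (hF.2 Q φ).1 hφ
    have hff : f' = f := subpair_unique_aux hM _ P e hPe Q le_rfl f' f hle' hle
    rw [hff] at hleg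
    refine ⟨g, ?_, hleg⟩
    rw [← hrange]
    ext y
    constructor
    · rintro ⟨u, rfl⟩
      exact ⟨(u : G), u.2, (hg u).symm⟩
    · rintro ⟨u, hu, rfl⟩
      exact ⟨⟨u, hu⟩, hg ⟨u, hu⟩⟩
  · rintro ⟨g, rfl, hleg⟩
    refine ⟨conjHom Q g, ?_, ?_⟩
    · exact (hF.2 Q (conjHom Q g)).2 ⟨hQP, g, fun u => rfl,
        Cfsg.Agent.helper1.subpairLE_le hleg, f, hle, hleg⟩
    · ext y
      constructor
      · rintro ⟨u, rfl⟩
        exact ⟨(u : G), u.2, rfl⟩
      · rintro ⟨u, hu, rfl⟩
        exact ⟨⟨u, hu⟩, rfl⟩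

/-- fully centralized subgroups of the fusion system of a block -/
theorem fullyCentralized_iff (hM : IsPModular p M) (B : Set (IrrCharacter G))
    {P : Subgroup G} {e : Set (IrrCharacter (Subgroup.centralizer (P : Set G)))}
    (hmax : IsMaximalBrauerPair p M B P e)
    (F : FusionSystem P) (hF : IsBlockFusionSystemOn p M B P e F) {Q : Subgroup G}
    {f : Set (IrrCharacter (Subgroup.centralizer (Q : Set G)))}
    (hf : IsPBlock M f) (hle : SubpairLE p M Q f P e) :
    F.IsFullyCentralized Q ↔ IsDefectGroup p M f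
      ((P ⊓ Subgroup.centralizer (Q : Set G)).subgroupOf (Subgroup.centralizer (Q : Set G))) := by
  classical
  have := Fintype.ofFinite ↥(Subgroup.centralizer (Q : Set G))
  have hQP : Q ≤ P := Cfsg.Agent.helper1.subpairLE_le hle
  have hPe : IsBrauerPair p M P e := hmax.1.1
  have hQ : IsPGroup p Q := hPe.1.to_le hQP
  obtain ⟨D, hD, hAD⟩ := cent_le_defectGroup hM hPe hQP hf hle
  have hcardD : Nat.card D = p ^ blockDefect p f := card_defectGroup p M hM f hf D hD
  constructor
  · intro hfc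
    obtain ⟨x, hle_x, hdef_x⟩ := exists_conj_cent_defect hM B hmax hf hle
    have hconj : F.IsConj Q (Q.map (MulAut.conj x).toMonoidHom) :=
      (blockFusion_isConj_iff hM F hF hle _).2 ⟨x, rfl, hle_x⟩
    have h1 : Nat.card ↥(P ⊓ Subgroup.centralizer
        ((Q.map (MulAut.conj x).toMonoidHom : Subgroup G) : Set G))
        ≤ Nat.card ↥(P ⊓ Subgroup.centralizer (Q : Set G)) := hfc.2 _ hconj
    have h2 := card_defectGroup_conjBlock hM hQ hf x _ hdef_x
    rw [card_subgroupOf_eq_of_le24 inf_le_right] at h2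
    have h3 : Nat.card D ≤ Nat.card ((P ⊓ Subgroup.centralizer (Q : Set G)).subgroupOf
        (Subgroup.centralizer (Q : Set G))) := by
      rw [hcardD, ← h2, card_subgroupOf_eq_of_le24 inf_le_right]
      exact h1
    rw [Subgroup.eq_of_le_of_card_ge hAD h3]
    exact hD
  · intro hdef
    refine ⟨hQP, ?_⟩
    intro Q' hQ'
    obtain ⟨g, rfl, hleg⟩ := (blockFusion_isConj_iff hM F hF hle _).1 hQ'
    have := Fintype.ofFinite ↥(Subgroup.centralizer
      ((Q.map (MulAut.conj g).toMonoidHom : Subgroup G) : Set G))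
    have hfg : IsPBlock M (conjBlock Q g f) := (brauerPair_conj (p := p) ⟨hQ, hf⟩ g).2
    obtain ⟨D', hD', hAD'⟩ := cent_le_defectGroup hM hPe
      (Cfsg.Agent.helper1.subpairLE_le hleg) hfg hleg
    have hc' := card_defectGroup_conjBlock hM hQ hf g D' hD'
    have hc := card_defectGroup p M hM f hf _ hdef
    rw [card_subgroupOf_eq_of_le24 inf_le_right] at hc
    show Nat.card ↥(P ⊓ Subgroup.centralizer
        ((Q.map (MulAut.conj g).toMonoidHom : Subgroup G) : Set G))
        ≤ Nat.card ↥(P ⊓ Subgroup.centralizer (Q : Set G))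
    rw [hc, ← hc', ← card_subgroupOf_eq_of_le24 (inf_le_right : P ⊓ Subgroup.centralizer
      ((Q.map (MulAut.conj g).toMonoidHom : Subgroup G) : Set G) ≤ _)]
    exact Subgroup.card_le_of_le hAD'

/-- centric subgroups of the fusion system of a block -/
theorem centric_iff (hM : IsPModular p M) (B : Set (IrrCharacter G))
    {P : Subgroup G} {e : Set (IrrCharacter (Subgroup.centralizer (P : Set G)))}
    (hmax : IsMaximalBrauerPair p M B P e)
    (F : FusionSystem P) (hF : IsBlockFusionSystemOn p M B P e F) {Q : Subgroup G}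
    {f : Set (IrrCharacter (Subgroup.centralizer (Q : Set G)))}
    (hf : IsPBlock M f) (hle : SubpairLE p M Q f P e) :
    F.IsCentric Q ↔ IsDefectGroup p M f
      ((Q ⊓ Subgroup.centralizer (Q : Set G)).subgroupOf (Subgroup.centralizer (Q : Set G))) := by
  classical
  have := Fintype.ofFinite ↥(Subgroup.centralizer (Q : Set G))
  have hQP : Q ≤ P := Cfsg.Agent.helper1.subpairLE_le hle
  have hPe : IsBrauerPair p M P e := hmax.1.1
  have hQ : IsPGroup p Q := hPe.1.to_le hQP
  obtain ⟨D, hD, hAD⟩ := cent_le_defectGroup hM hPe hQP hf hle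
  have hcardD : Nat.card D = p ^ blockDefect p f := card_defectGroup p M hM f hf D hD
  have hZA : (Q ⊓ Subgroup.centralizer (Q : Set G)).subgroupOf (Subgroup.centralizer (Q : Set G))
      ≤ (P ⊓ Subgroup.centralizer (Q : Set G)).subgroupOf
        (Subgroup.centralizer (Q : Set G)) := by
    intro a ha
    have h1 := Subgroup.mem_subgroupOf.1 ha
    exact Subgroup.mem_subgroupOf.2 ⟨hQP h1.1, h1.2⟩
  have hcardZ : ∀ g : G, Nat.card ↥(Q.map (MulAut.conj g).toMonoidHom ⊓ Subgroup.centralizer
      ((Q.map (MulAut.conj g).toMonoidHom : Subgroup G) : Set G))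
      = Nat.card ↥(Q ⊓ Subgroup.centralizer (Q : Set G)) := by
    intro g
    rw [← map_conj_inf_centralizer, Subgroup.card_map_of_injective (MulAut.conj g).injective]
  constructor
  · intro hc
    obtain ⟨x, hle_x, hdef_x⟩ := exists_conj_cent_defect hM B hmax hf hle
    have hconj : F.IsConj Q (Q.map (MulAut.conj x).toMonoidHom) :=
      (blockFusion_isConj_iff hM F hF hle _).2 ⟨x, rfl, hle_x⟩
    have h1 : P ⊓ Subgroup.centralizer
        ((Q.map (MulAut.conj x).toMonoidHom : Subgroup G) : Set G)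
        ≤ Q.map (MulAut.conj x).toMonoidHom := hc.2 _ hconj
    have h1' : P ⊓ Subgroup.centralizer
        ((Q.map (MulAut.conj x).toMonoidHom : Subgroup G) : Set G)
        = Q.map (MulAut.conj x).toMonoidHom ⊓ Subgroup.centralizer
        ((Q.map (MulAut.conj x).toMonoidHom : Subgroup G) : Set G) :=
      le_antisymm (le_inf h1 inf_le_right)
        (inf_le_inf_right _ (Cfsg.Agent.helper1.subpairLE_le hle_x))
    have h2 := card_defectGroup_conjBlock hM hQ hf x _ hdef_x
    rw [card_subgroupOf_eq_of_le24 inf_le_right, h1', hcardZ x] at h2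
    have h3 : Nat.card D ≤ Nat.card ((Q ⊓ Subgroup.centralizer (Q : Set G)).subgroupOf
        (Subgroup.centralizer (Q : Set G))) := by
      rw [hcardD, card_subgroupOf_eq_of_le24 inf_le_right, h2]
    rw [Subgroup.eq_of_le_of_card_ge (hZA.trans hAD) h3]
    exact hD
  · intro hdef
    refine ⟨hQP, ?_⟩
    intro Q' hQ'
    obtain ⟨g, rfl, hleg⟩ := (blockFusion_isConj_iff hM F hF hle _).1 hQ'
    have := Fintype.ofFinite ↥(Subgroup.centralizer
      ((Q.map (MulAut.conj g).toMonoidHom : Subgroup G) : Set G))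
    have hfg : IsPBlock M (conjBlock Q g f) := (brauerPair_conj (p := p) ⟨hQ, hf⟩ g).2
    obtain ⟨D', hD', hAD'⟩ := cent_le_defectGroup hM hPe
      (Cfsg.Agent.helper1.subpairLE_le hleg) hfg hleg
    have hc' := card_defectGroup_conjBlock hM hQ hf g D' hD'
    have hc := card_defectGroup p M hM f hf _ hdef
    rw [card_subgroupOf_eq_of_le24 inf_le_right] at hc
    have hle1 : Q.map (MulAut.conj g).toMonoidHom ⊓ Subgroup.centralizer
        ((Q.map (MulAut.conj g).toMonoidHom : Subgroup G) : Set G)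
        ≤ P ⊓ Subgroup.centralizer
        ((Q.map (MulAut.conj g).toMonoidHom : Subgroup G) : Set G) :=
      inf_le_inf_right _ (Cfsg.Agent.helper1.subpairLE_le hleg)
    have hcard1 : Nat.card ↥(P ⊓ Subgroup.centralizer
        ((Q.map (MulAut.conj g).toMonoidHom : Subgroup G) : Set G))
        ≤ Nat.card ↥(Q.map (MulAut.conj g).toMonoidHom ⊓ Subgroup.centralizer
        ((Q.map (MulAut.conj g).toMonoidHom : Subgroup G) : Set G)) := by
      rw [hcardZ g, hc, ← hc', ← card_subgroupOf_eq_of_le24 (inf_le_right :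
        P ⊓ Subgroup.centralizer
          ((Q.map (MulAut.conj g).toMonoidHom : Subgroup G) : Set G) ≤ _)]
      exact Subgroup.card_le_of_le hAD'
    have heq := Subgroup.eq_of_le_of_card_ge hle1 hcard1
    show P ⊓ Subgroup.centralizer
        ((Q.map (MulAut.conj g).toMonoidHom : Subgroup G) : Set G)
        ≤ Q.map (MulAut.conj g).toMonoidHom
    rw [← heq]
    exact inf_le_left

end Fus15b

end Cfsg.Agent.helper24
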