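import Mathlib
import Cfsg.Agent.Lib_helper24_BPair15
import Cfsg.Agent.Lib_helper24_Fong5

/-!
Brauer pairs (helper24), part 16: for a normal `p`-subgroup `Q`, an invariant block of `C(Q)` is
covered by a unique block, whose idempotent is that of the invariant block.
-/

set_option autoImplicit false

namespace Cfsg.Agent.helper24

open Cfsg Cfsg.Agent.helper5 Cfsg.Agent.helper8
open scoped ComplexConjugate

universe u

section Cent16

variable {G : Type u} [Group G] [Fintype G] {M : Ideal AlgInt} {p : ℕ} [Fact p.Prime]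

set_option maxHeartbeats 1600000 in
/-- the Brauer image at a normal `p`-subgroup `Q` of a block covering an invariant block of
`C(Q)` has central character value one on that block -/
theorem cent_cover_omega (hM : IsPModular p M) {Q : Subgroup G} (hQ : IsPGroup p Q)
    [hQn : Q.Normal] [hN : (Subgroup.centralizer (Q : Set G)).Normal]
    [Fintype ↥(Subgroup.centralizer (Q : Set G))]
    (b : Set (IrrCharacter ↥(Subgroup.centralizer (Q : Set G)))) (hb : IsPBlock M b)
    (hinv : ∀ g : G, ∀ θ ∈ b, ∀ θ' : IrrCharacter ↥(Subgroup.centralizer (Q : Set G)),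
      (∀ n : ↥(Subgroup.centralizer (Q : Set G)),
        (θ' : ↥(Subgroup.centralizer (Q : Set G)) → ℂ) n
          = (θ : ↥(Subgroup.centralizer (Q : Set G)) → ℂ)
            ⟨g * n * g⁻¹, hN.conj_mem n n.2 g⟩) → θ' ∈ b)
    (F : Set (IrrCharacter G)) (hF : IsPBlock M F)
    (hcov : ∃ χ ∈ F, ∃ θ ∈ b, classInner
      (fun n : ↥(Subgroup.centralizer (Q : Set G)) => (χ : G → ℂ) n)
      (θ : ↥(Subgroup.centralizer (Q : Set G)) → ℂ) ≠ 0)
    (θ : IrrCharacter ↥(Subgroup.centralizer (Q : Set G))) (hθ : θ ∈ b) :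
    MemLocalIdeal M (brOmega Q (Subgroup.centralizer (Q : Set G))
      (θ : ↥(Subgroup.centralizer (Q : Set G)) → ℂ) (blockCoeff F) - 1) := by
  classical
  have hMp : M.IsPrime := hM.2.1.isPrime
  have hMtop := hMp.ne_top
  have hgF : BrGood M Q (blockCoeff F) :=
    brGood_of_classFunction (blockCoeff_isClassFunction F)
      (blockCoeff_memLocalRing_of_isPBlock hF)
  have hFF : cconv (blockCoeff F) (blockCoeff F) = blockCoeff F := by
    rw [cconv_blockCoeff, Set.inter_self]
  have hEcf := fg_E_isClassFunction (Subgroup.centralizer (Q : Set G)) b hb hinv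
  have hEloc := fg_E_memLocalRing (M := M) (Subgroup.centralizer (Q : Set G)) b hb
  have hgE : BrGood M Q (extendByZero (Subgroup.centralizer (Q : Set G)) (blockCoeff b)) :=
    brGood_of_classFunction hEcf hEloc
  have hFE : cconv (blockCoeff F)
      (extendByZero (Subgroup.centralizer (Q : Set G)) (blockCoeff b)) = blockCoeff F :=
    fg_cconv (Subgroup.centralizer (Q : Set G)) b hb hinv F hF hcov
  have hbrE : ∀ θ' : IrrCharacter ↥(Subgroup.centralizer (Q : Set G)),
      brOmega Q (Subgroup.centralizer (Q : Set G))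
        (θ' : ↥(Subgroup.centralizer (Q : Set G)) → ℂ)
        (extendByZero (Subgroup.centralizer (Q : Set G)) (blockCoeff b))
        = if θ' ∈ b then 1 else 0 := by
    intro θ'
    unfold brOmega
    have h1 : brRes Q (Subgroup.centralizer (Q : Set G))
        (extendByZero (Subgroup.centralizer (Q : Set G)) (blockCoeff b)) = blockCoeff b := by
      funext n
      unfold brRes
      rw [if_pos n.2, extendByZero_coe]
    rw [h1, omegaFn_blockCoeff]
  rcases brOmega_idem hM hQ θ hgF hFF with h0 | h1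
  · exfalso
    have hall : ∀ θ' : IrrCharacter ↥(Subgroup.centralizer (Q : Set G)),
        MemLocalIdeal M (brOmega Q (Subgroup.centralizer (Q : Set G))
          (θ' : ↥(Subgroup.centralizer (Q : Set G)) → ℂ) (blockCoeff F)) := by
      intro θ'
      by_cases hθ' : θ' ∈ b
      · have hs : SameBlock M (θ' : ↥(Subgroup.centralizer (Q : Set G)) → ℂ)
            (θ : ↥(Subgroup.centralizer (Q : Set G)) → ℂ) := by
          have h2 := hθ
          rw [← blockOf_eq_of_mem hb hθ'] at h2
          exact h2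
        have h3 := memLocalIdeal_add (brOmega_congr_block hs hgF) h0
        rwa [sub_add_cancel] at h3
      · have h2 := brOmega_mul hM hQ θ' hgF hgE
        rw [hFE, hbrE, if_neg hθ', mul_zero, sub_zero] at h2
        exact h2
    obtain ⟨v, hv⟩ : ∃ v : ↥(Subgroup.centralizer (Q : Set G)) → ℂ,
      v = brRes Q (Subgroup.centralizer (Q : Set G)) (blockCoeff F) := ⟨_, rfl⟩
    have hv_cf : IsClassFunction ↥(Subgroup.centralizer (Q : Set G)) v := by
      rw [hv]
      exact brRes_isClassFunction_of_conjInv hgF.invC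
    have hv_loc : ∀ n, MemLocalRing M (v n) := by
      intro n
      rw [hv]
      exact brRes_memLocalRing hMtop Q _ hgF.loc n
    have hv_id : ∀ n, MemLocalIdeal M (cconv v v n - v n) := by
      intro n
      have h2 := brRes_cconv_sub_inv hM hQ (le_refl (Subgroup.centralizer (Q : Set G)))
        hgF.invP hgF.loc hgF.invP hgF.loc n
      rw [hFF, ← hv] at h2
      have h3 := memLocalIdeal_neg h2
      rwa [neg_sub] at h3
    have h0cf : IsClassFunction ↥(Subgroup.centralizer (Q : Set G))
        (0 : ↥(Subgroup.centralizer (Q : Set G)) → ℂ) := isClassFunction_zero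
    have hzero := idem_congr hv_cf hv_loc hv_id h0cf
      (fun _ => memLocalRing_zero hMtop) (by
        intro n
        have e : cconv (0 : ↥(Subgroup.centralizer (Q : Set G)) → ℂ) 0 n = 0 := by
          unfold cconv
          simp
        rw [e]
        simpa using memLocalIdeal_zero (M := M) hMtop) (by
        intro ξ
        rw [omegaFn_zero, sub_zero]
        have h2 := hall ξ
        unfold brOmega at h2
        rw [← hv] at h2
        exact h2)
    obtain ⟨D, hD⟩ := exists_defectGroup p M hM F hF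
    have hQD : Q ≤ D :=
      (le_sSup ⟨hQn, hQ⟩ : Q ≤ pCore p G).trans (pCore_le_defectGroup p M hM F hF D hD)
    obtain ⟨g, -, hgJ, c, hgc, hcQ⟩ := (brauer_nonzero_iff p M hM F hF D hD Q hQ).2
      ⟨1, by
        intro y hy
        obtain ⟨q, hq, rfl⟩ := hy
        have : (MulAut.conj (1 : G)).toMonoidHom q = q := by simp
        rw [this]
        exact hQD hq⟩
    apply hgJ
    obtain ⟨t, rfl⟩ := isConj_iff.1 hgc
    rw [← blockCoeff_isClassFunction F g t]
    have h2 := hzero ⟨t * g * t⁻¹, hcQ⟩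
    rw [hv] at h2
    unfold brRes at h2
    rw [if_pos hcQ] at h2
    simpa using h2
  · exact h1

/-- an invariant block of the centralizer of a normal `p`-subgroup is covered by a unique block -/
theorem cent_cover_unique (hM : IsPModular p M) {Q : Subgroup G} (hQ : IsPGroup p Q)
    [hQn : Q.Normal] [hN : (Subgroup.centralizer (Q : Set G)).Normal]
    [Fintype ↥(Subgroup.centralizer (Q : Set G))]
    (b : Set (IrrCharacter ↥(Subgroup.centralizer (Q : Set G)))) (hb : IsPBlock M b)
    (hinv : ∀ g : G, ∀ θ ∈ b, ∀ θ' : IrrCharacter ↥(Subgroup.centralizer (Q : Set G)),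
      (∀ n : ↥(Subgroup.centralizer (Q : Set G)),
        (θ' : ↥(Subgroup.centralizer (Q : Set G)) → ℂ) n
          = (θ : ↥(Subgroup.centralizer (Q : Set G)) → ℂ)
            ⟨g * n * g⁻¹, hN.conj_mem n n.2 g⟩) → θ' ∈ b)
    (F F' : Set (IrrCharacter G)) (hF : IsPBlock M F) (hF' : IsPBlock M F')
    (hcov : ∃ χ ∈ F, ∃ θ ∈ b, classInner
      (fun n : ↥(Subgroup.centralizer (Q : Set G)) => (χ : G → ℂ) n)
      (θ : ↥(Subgroup.centralizer (Q : Set G)) → ℂ) ≠ 0)
    (hcov' : ∃ χ ∈ F', ∃ θ ∈ b, classInner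
      (fun n : ↥(Subgroup.centralizer (Q : Set G)) => (χ : G → ℂ) n)
      (θ : ↥(Subgroup.centralizer (Q : Set G)) → ℂ) ≠ 0) : F = F' := by
  classical
  have hMp : M.IsPrime := hM.2.1.isPrime
  have hMtop := hMp.ne_top
  by_contra hne
  have hint : F ∩ F' = ∅ := by
    apply Set.eq_empty_iff_forall_notMem.2
    intro χ hχ
    exact hne (isPBlock_eq_of_mem hF hF' hχ.1 hχ.2)
  obtain ⟨θ, hθ⟩ := isPBlock_nonempty hb
  have h1 := cent_cover_omega hM hQ b hb hinv F hF hcov θ hθ
  have h2 := cent_cover_omega hM hQ b hb hinv F' hF' hcov' θ hθ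
  have hgF : BrGood M Q (blockCoeff F) :=
    brGood_of_classFunction (blockCoeff_isClassFunction F)
      (blockCoeff_memLocalRing_of_isPBlock hF)
  have hgF' : BrGood M Q (blockCoeff F') :=
    brGood_of_classFunction (blockCoeff_isClassFunction F')
      (blockCoeff_memLocalRing_of_isPBlock hF')
  have h3 := brOmega_mul hM hQ θ hgF hgF'
  have hzero : blockCoeff (∅ : Set (IrrCharacter G)) = 0 := by
    funext g
    exact blockCoeff_empty g
  rw [cconv_blockCoeff, hint, hzero, brOmega_zero, zero_sub] at h3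
  have hloc' := brOmega_memLocalRing (M := M) θ hgF'
  obtain ⟨a, ha⟩ : ∃ a : ℂ, a = brOmega Q (Subgroup.centralizer (Q : Set G))
      (θ : ↥(Subgroup.centralizer (Q : Set G)) → ℂ) (blockCoeff F) := ⟨_, rfl⟩
  obtain ⟨a', ha'⟩ : ∃ a' : ℂ, a' = brOmega Q (Subgroup.centralizer (Q : Set G))
      (θ : ↥(Subgroup.centralizer (Q : Set G)) → ℂ) (blockCoeff F') := ⟨_, rfl⟩
  rw [← ha] at h1 h3
  rw [← ha'] at h2 h3 hloc'
  have h4 : MemLocalIdeal M ((a - 1) * a') := by
    rw [mul_comm]
    exact memLocalIdeal_mul_left hloc' h1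
  have h5 := memLocalIdeal_add (memLocalIdeal_add h4 h2) h3
  have e : (a - 1) * a' + (a' - 1) + -(a * a') = -1 := by ring
  rw [e] at h5
  have h6 := memLocalIdeal_neg h5
  rw [neg_neg] at h6
  exact not_memLocalIdeal_one h6

/-- the idempotent of an invariant block of the centralizer of a normal `p`-subgroup is a block
idempotent -/
theorem cent_exists_block (hM : IsPModular p M) {Q : Subgroup G} (hQ : IsPGroup p Q)
    [hQn : Q.Normal] [hN : (Subgroup.centralizer (Q : Set G)).Normal]
    [Fintype ↥(Subgroup.centralizer (Q : Set G))]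
    (b : Set (IrrCharacter ↥(Subgroup.centralizer (Q : Set G)))) (hb : IsPBlock M b)
    (hinv : ∀ g : G, ∀ θ ∈ b, ∀ θ' : IrrCharacter ↥(Subgroup.centralizer (Q : Set G)),
      (∀ n : ↥(Subgroup.centralizer (Q : Set G)),
        (θ' : ↥(Subgroup.centralizer (Q : Set G)) → ℂ) n
          = (θ : ↥(Subgroup.centralizer (Q : Set G)) → ℂ)
            ⟨g * n * g⁻¹, hN.conj_mem n n.2 g⟩) → θ' ∈ b) :
    ∃ B : Set (IrrCharacter G), IsPBlock M B ∧
      blockCoeff B = extendByZero (Subgroup.centralizer (Q : Set G)) (blockCoeff b) := by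
  classical
  have hMp : M.IsPrime := hM.2.1.isPrime
  obtain ⟨θ, hθ⟩ := isPBlock_nonempty hb
  obtain ⟨χf, hχf, hχθ⟩ :=
    Cfsg.Agent.helper12.exists_irr_over (Subgroup.centralizer (Q : Set G)) θ.2
  obtain ⟨χ, hχdef⟩ : ∃ χ : IrrCharacter G, (χ : G → ℂ) = χf := ⟨⟨χf, hχf⟩, rfl⟩
  rw [← hχdef] at hχθ
  refine ⟨blockOf M (χ : G → ℂ), ⟨χ, rfl⟩, ?_⟩
  apply classFunction_ext_omega (blockCoeff_isClassFunction _)
    (fg_E_isClassFunction (Subgroup.centralizer (Q : Set G)) b hb hinv)
  intro χ'
  rw [omegaFn_blockCoeff]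
  by_cases hχ' : χ' ∈ blockOf M (χ : G → ℂ)
  · rw [if_pos hχ', fg_omega_of_sameBlock (Subgroup.centralizer (Q : Set G)) b hb hinv hχ'
      ⟨θ, hθ, hχθ⟩]
  · rw [if_neg hχ']
    obtain ⟨θ', hu⟩ := Cover.exists_under (Subgroup.centralizer (Q : Set G)) χ'.2
    rw [fg_omega_E (Subgroup.centralizer (Q : Set G)) b hb hinv χ'.2 hu, if_neg]
    intro hθ'
    apply hχ'
    have hself : χ ∈ blockOf M (χ : G → ℂ) := sameBlock_refl M hMp.ne_top _
    have hself' : χ' ∈ blockOf M (χ' : G → ℂ) := sameBlock_refl M hMp.ne_top _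
    have heq := cent_cover_unique hM hQ b hb hinv (blockOf M (χ : G → ℂ))
      (blockOf M (χ' : G → ℂ)) ⟨χ, rfl⟩ ⟨χ', rfl⟩ ⟨χ, hself, θ, hθ, hχθ⟩
      ⟨χ', hself', θ', hθ', hu⟩
    rw [heq]
    exact hself'

end Cent16

end Cfsg.Agent.helper24
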