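import Mathlib
import Cfsg.Agent.Lib_helper24_BPair16

/-!
Brauer pairs (helper24), part 17: the block of the stabilizer of a Brauer pair with the
idempotent of the pair; normalizers in a maximal pair and its defect groups.
-/

set_option autoImplicit false

namespace Cfsg.Agent.helper24

open Cfsg Cfsg.Agent.helper5 Cfsg.Agent.helper8
open scoped ComplexConjugate

universe u

section Stab17a

variable {G : Type u} [Group G]

theorem mem_centralizer_subgroupOf_iff {Q T : Subgroup G} (hQT : Q ≤ T) (x : ↥T) :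
    x ∈ Subgroup.centralizer ((Q.subgroupOf T : Subgroup ↥T) : Set ↥T) ↔
      (x : G) ∈ Subgroup.centralizer (Q : Set G) := by
  rw [Subgroup.mem_centralizer_iff, Subgroup.mem_centralizer_iff]
  constructor
  · intro h q hq
    have h1 := h ⟨q, hQT hq⟩ (Subgroup.mem_subgroupOf.2 hq)
    exact congrArg Subtype.val h1
  · intro h q' hq'
    apply Subtype.ext
    exact h (q' : G) (Subgroup.mem_subgroupOf.1 hq')

/-- the centralizer of `Q` inside a subgroup `T ≥ Q C(Q)` as the centralizer in the group `T` -/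
def centSubEquiv (Q T : Subgroup G) (hQT : Q ≤ T) (hCT : Subgroup.centralizer (Q : Set G) ≤ T) :
    ↥(Subgroup.centralizer ((Q.subgroupOf T : Subgroup ↥T) : Set ↥T)) ≃*
      ↥(Subgroup.centralizer (Q : Set G)) where
  toFun n := ⟨((n : ↥T) : G), (mem_centralizer_subgroupOf_iff hQT n).1 n.2⟩
  invFun c := ⟨⟨(c : G), hCT c.2⟩, (mem_centralizer_subgroupOf_iff hQT _).2 c.2⟩
  left_inv _ := rfl
  right_inv _ := rfl
  map_mul' _ _ := rfl

theorem centSubEquiv_coe (Q T : Subgroup G) (hQT : Q ≤ T)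
    (hCT : Subgroup.centralizer (Q : Set G) ≤ T)
    (n : ↥(Subgroup.centralizer ((Q.subgroupOf T : Subgroup ↥T) : Set ↥T))) :
    ((centSubEquiv Q T hQT hCT n : ↥(Subgroup.centralizer (Q : Set G))) : G)
      = ((n : ↥T) : G) := rfl

theorem stabilizesBlock_pow {K : Subgroup G} {f : Set (IrrCharacter ↥K)} {x : G}
    (hx : StabilizesBlock K f x) (n : ℕ) : StabilizesBlock K f (x ^ n) := by
  induction n with
  | zero =>
    rw [pow_zero]
    exact stabilizesBlock_of_mem_self f (one_mem K)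
  | succ n ih =>
    rw [pow_succ]
    exact stabilizesBlock_mul ih hx

theorem stabilizesBlock_inv [Finite G] {K : Subgroup G} {f : Set (IrrCharacter ↥K)} {x : G}
    (hx : StabilizesBlock K f x) : StabilizesBlock K f x⁻¹ := by
  have h1 : x * x ^ (orderOf x - 1) = 1 := by
    rw [← pow_succ', Nat.sub_add_cancel (orderOf_pos x), pow_orderOf_eq_one]
  rw [inv_eq_of_mul_eq_one_right h1]
  exact stabilizesBlock_pow hx _

end Stab17a

section Stab17b

variable {G : Type u} [Group G] [Fintype G] {M : Ideal AlgInt} {p : ℕ} [Fact p.Prime]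

set_option maxHeartbeats 1600000 in
/-- the idempotent of a stable block of `C(Q)` is a block idempotent of a subgroup `T` with
`Q C(Q) ≤ T ≤ N(Q)` stabilizing the block -/
theorem stab_exists_block (hM : IsPModular p M) {Q T : Subgroup G} (hQ : IsPGroup p Q)
    (hQT : Q ≤ T) (hTN : T ≤ Subgroup.normalizer (Q : Set G))
    (hCT : Subgroup.centralizer (Q : Set G) ≤ T)
    (f : Set (IrrCharacter ↥(Subgroup.centralizer (Q : Set G)))) (hf : IsPBlock M f)
    (hst : ∀ t ∈ T, StabilizesBlock (Subgroup.centralizer (Q : Set G)) f t) :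
    ∃ F : Set (IrrCharacter ↥T), IsPBlock M F ∧ ∀ t : ↥T,
      blockCoeff F t = subgroupBlockCoeff (Subgroup.centralizer (Q : Set G)) f (t : G) := by
  classical
  have hMp : M.IsPrime := hM.2.1.isPrime
  have := Fintype.ofFinite ↥T
  have := Fintype.ofFinite ↥(Subgroup.centralizer (Q : Set G))
  have := Fintype.ofFinite ↥(Subgroup.centralizer ((Q.subgroupOf T : Subgroup ↥T) : Set ↥T))
  have hQ'n : (Q.subgroupOf T).Normal := Subgroup.normal_subgroupOf_of_le_normalizer hTN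
  have hQ'p : IsPGroup p (Q.subgroupOf T) := hQ.comap_subtype
  have hN : (Subgroup.centralizer ((Q.subgroupOf T : Subgroup ↥T) : Set ↥T)).Normal :=
    inferInstance
  obtain ⟨b, hbdef⟩ : ∃ b : Set (IrrCharacter
      ↥(Subgroup.centralizer ((Q.subgroupOf T : Subgroup ↥T) : Set ↥T))),
    b = transportSet (centSubEquiv Q T hQT hCT) f := ⟨_, rfl⟩
  have hb : IsPBlock M b := by
    rw [hbdef]
    exact isPBlock_transportSet _ f hf
  have hinv : ∀ g : ↥T, ∀ θ ∈ b, ∀ θ' : IrrCharacter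
      ↥(Subgroup.centralizer ((Q.subgroupOf T : Subgroup ↥T) : Set ↥T)),
      (∀ n : ↥(Subgroup.centralizer ((Q.subgroupOf T : Subgroup ↥T) : Set ↥T)),
        (θ' : ↥(Subgroup.centralizer ((Q.subgroupOf T : Subgroup ↥T) : Set ↥T)) → ℂ) n
          = (θ : ↥(Subgroup.centralizer ((Q.subgroupOf T : Subgroup ↥T) : Set ↥T)) → ℂ)
            ⟨g * n * g⁻¹, hN.conj_mem n n.2 g⟩) → θ' ∈ b := by
    intro g θ hθ θ' hθ'
    rw [hbdef] at hθ ⊢
    obtain ⟨ξ, hξ, hθξ⟩ := hθ
    obtain ⟨ξ', hξ', hconj⟩ := (hst (g : G)⁻¹ (T.inv_mem g.2)).2 ξ hξ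
    refine ⟨ξ', hξ', ?_⟩
    funext n
    rw [hθ' n, hθξ]
    symm
    apply hconj
    rw [centSubEquiv_coe, centSubEquiv_coe]
    show ((n : ↥T) : G) = (g : G)⁻¹ * ((g : G) * ((n : ↥T) : G) * (g : G)⁻¹) * (g : G)⁻¹⁻¹
    group
  obtain ⟨F, hF, hcoef⟩ := cent_exists_block hM hQ'p b hb hinv
  refine ⟨F, hF, ?_⟩
  intro t
  rw [hcoef]
  by_cases ht : t ∈ Subgroup.centralizer ((Q.subgroupOf T : Subgroup ↥T) : Set ↥T)
  · rw [extendByZero_of_mem _ _ t ht, hbdef, blockCoeff_transportSet,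
      sbc_of_mem _ _ ((mem_centralizer_subgroupOf_iff hQT t).1 ht)]
    rfl
  · rw [extendByZero_of_not_mem _ _ t ht,
      sbc_of_not_mem _ _ (fun h => ht ((mem_centralizer_subgroupOf_iff hQT t).2 h))]

/-- a pair below `(P, e)` is normally below the pair on any subgroup of `P` normalizing it -/
theorem normalSubpair_of_mid (hM : IsPModular p M) {P Q R : Subgroup G}
    {e : Set (IrrCharacter (Subgroup.centralizer (P : Set G)))}
    {f : Set (IrrCharacter (Subgroup.centralizer (Q : Set G)))}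
    (hPe : IsBrauerPair p M P e) (hle : SubpairLE p M Q f P e) (hQR : Q ≤ R) (hRP : R ≤ P)
    (hRN : R ≤ Subgroup.normalizer (Q : Set G)) :
    ∃ e' : Set (IrrCharacter (Subgroup.centralizer (R : Set G))),
      IsNormalSubpair p M Q f R e' ∧ SubpairLE p M R e' P e := by
  obtain ⟨e', he', hle'⟩ := exists_subpair hM P e hPe _ R hRP le_rfl
  have hRe' : IsBrauerPair p M R e' := ⟨hPe.1.to_le hRP, he'⟩
  obtain ⟨f₁, hf₁, hle₁⟩ := exists_subpair hM R e' hRe' _ Q hQR le_rfl
  have hf₁f : f₁ = f := subpair_unique_aux hM _ P e hPe Q le_rfl f₁ f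
    (Relation.ReflTransGen.trans hle₁ hle') hle
  rw [hf₁f] at hle₁
  exact ⟨e', normalSubpair_of_subpairLE hM hle₁ hRe' hRN, hle'⟩

/-- basic facts on the stabilizer of a pair -/
theorem stab_basic {Q T : Subgroup G}
    {f : Set (IrrCharacter (Subgroup.centralizer (Q : Set G)))}
    (hT : ∀ y : G, y ∈ T ↔ y ∈ Subgroup.normalizer (Q : Set G) ∧
      StabilizesBlock (Subgroup.centralizer (Q : Set G)) f y) :
    Q ≤ T ∧ T ≤ Subgroup.normalizer (Q : Set G) ∧ Subgroup.centralizer (Q : Set G) ≤ T ∧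
      ∀ t ∈ T, StabilizesBlock (Subgroup.centralizer (Q : Set G)) f t :=
  ⟨fun q hq => (hT q).2 ⟨Subgroup.le_normalizer hq, stabilizesBlock_of_mem Q f hq⟩,
    fun y hy => ((hT y).1 hy).1,
    fun c hc => (hT c).2 ⟨Subgroup.centralizer_le_normalizer _ hc,
      stabilizesBlock_of_mem_self f hc⟩,
    fun t ht => ((hT t).1 ht).2⟩

/-- the normalizer of `Q` in `P` lies in a defect group of the block of the stabilizer -/
theorem stab_normalizer_le_defectGroup (hM : IsPModular p M) {P Q T : Subgroup G}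
    {e : Set (IrrCharacter (Subgroup.centralizer (P : Set G)))}
    {f : Set (IrrCharacter (Subgroup.centralizer (Q : Set G)))}
    (hPe : IsBrauerPair p M P e) (hQP : Q ≤ P)
    (hle : SubpairLE p M Q f P e)
    (hT : ∀ y : G, y ∈ T ↔ y ∈ Subgroup.normalizer (Q : Set G) ∧
      StabilizesBlock (Subgroup.centralizer (Q : Set G)) f y)
    (F : Set (IrrCharacter ↥T)) (hF : IsPBlock M F)
    (hcoef : ∀ t : ↥T, blockCoeff F t
      = subgroupBlockCoeff (Subgroup.centralizer (Q : Set G)) f (t : G)) :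
    P ⊓ Subgroup.normalizer (Q : Set G) ≤ T ∧
    ∃ D : Subgroup ↥T, IsDefectGroup p M F D ∧
      (P ⊓ Subgroup.normalizer (Q : Set G)).subgroupOf T ≤ D := by
  classical
  have hMp : M.IsPrime := hM.2.1.isPrime
  have := Fintype.ofFinite ↥T
  obtain ⟨hQT, hTN, hCT, hst⟩ := stab_basic hT
  obtain ⟨R, hR⟩ : ∃ R : Subgroup G, R = P ⊓ Subgroup.normalizer (Q : Set G) := ⟨_, rfl⟩
  rw [← hR]
  have hRP : R ≤ P := by
    rw [hR]
    exact inf_le_left
  have hQR : Q ≤ R := by
    rw [hR]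
    exact le_inf hQP Subgroup.le_normalizer
  have hRN : R ≤ Subgroup.normalizer (Q : Set G) := by
    rw [hR]
    exact inf_le_right
  obtain ⟨e', hnorm, -⟩ := normalSubpair_of_mid hM hPe hle hQR hRP hRN
  have hRT : R ≤ T := fun r hr => (hT r).2 ⟨hRN hr, hnorm.2.2.2.2.1 r hr⟩
  refine ⟨hRT, ?_⟩
  obtain ⟨x₀, hx₀R, hx₀⟩ := normalSubpair_exists_ne hM hnorm
  have hx₀Q : x₀ ∈ Subgroup.centralizer (Q : Set G) := Subgroup.centralizer_le hQR hx₀R
  have hx₀T : x₀ ∈ T := hCT hx₀Q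
  obtain ⟨A, hA⟩ : ∃ A : Subgroup ↥T, A = R.subgroupOf T := ⟨_, rfl⟩
  have hAp : IsPGroup p A := by
    rw [hA]
    exact (hPe.1.to_le hRP).comap_subtype
  have hcA : (⟨x₀, hx₀T⟩ : ↥T) ∈ Subgroup.centralizer (A : Set ↥T) := by
    rw [Subgroup.mem_centralizer_iff]
    intro a ha
    apply Subtype.ext
    have haR : (a : G) ∈ R := by
      rw [hA] at ha
      exact Subgroup.mem_subgroupOf.1 ha
    exact Subgroup.mem_centralizer_iff.1 hx₀R (a : G) haR
  have hne : ¬ MemLocalIdeal M (blockCoeff F (⟨x₀, hx₀T⟩ : ↥T)) := by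
    rw [hcoef]
    exact hx₀
  obtain ⟨D, hD⟩ := exists_defectGroup p M hM F hF
  obtain ⟨x, hx⟩ := (brauer_nonzero_iff p M hM F hF D hD A hAp).1
    ⟨⟨x₀, hx₀T⟩, blockCoeff_memLocalRing_of_isPBlock hF _, hne, ⟨x₀, hx₀T⟩, IsConj.refl _, hcA⟩
  refine ⟨D.map (MulAut.conj x⁻¹).toMonoidHom, isDefectGroup_conj p M F hD x⁻¹, ?_⟩
  rw [← hA]
  intro a ha
  refine ⟨x * a * x⁻¹, hx ⟨a, ha, rfl⟩, ?_⟩
  show x⁻¹ * (x * a * x⁻¹) * x⁻¹⁻¹ = a
  group

set_option maxHeartbeats 1600000 in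
/-- some conjugate of the pair is again below the maximal pair and has a normalizer in `P` at
least as large as a defect group of the block of the stabilizer -/
theorem stab_conj_step (hM : IsPModular p M) (B : Set (IrrCharacter G)) {P Q T : Subgroup G}
    {e : Set (IrrCharacter (Subgroup.centralizer (P : Set G)))}
    {f : Set (IrrCharacter (Subgroup.centralizer (Q : Set G)))}
    (hmax : IsMaximalBrauerPair p M B P e) (hf : IsPBlock M f)
    (hle : SubpairLE p M Q f P e)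
    (hT : ∀ y : G, y ∈ T ↔ y ∈ Subgroup.normalizer (Q : Set G) ∧
      StabilizesBlock (Subgroup.centralizer (Q : Set G)) f y)
    (F : Set (IrrCharacter ↥T)) (hF : IsPBlock M F)
    (hcoef : ∀ t : ↥T, blockCoeff F t
      = subgroupBlockCoeff (Subgroup.centralizer (Q : Set G)) f (t : G))
    (D : Subgroup ↥T) (hD : IsDefectGroup p M F D) :
    ∃ y : G, SubpairLE p M (Q.map (MulAut.conj y).toMonoidHom) (conjBlock Q y f) P e ∧
      Nat.card D ≤ Nat.card ↥(P ⊓ Subgroup.normalizer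
        ((Q.map (MulAut.conj y).toMonoidHom : Subgroup G) : Set G)) := by
  classical
  have hMp : M.IsPrime := hM.2.1.isPrime
  have := Fintype.ofFinite ↥T
  obtain ⟨hQT, hTN, hCT, hstT⟩ := stab_basic hT
  have hQf : IsBrauerPairOf p M B Q f := (brauerPairOf_iff_of_subpairLE hM hle B).1 hmax.1
  have hQ : IsPGroup p Q := hQf.1.1
  have hDp : IsPGroup p D := defectGroup_isPGroup p M F D hD
  have hQD : Q.subgroupOf T ≤ D := subgroupOf_le_defectGroup p M hM hQ hTN F hF D hD
  obtain ⟨DG, hDG⟩ : ∃ DG : Subgroup G, DG = D.map T.subtype := ⟨_, rfl⟩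
  have hDGT : DG ≤ T := by
    rw [hDG]
    rintro _ ⟨d, -, rfl⟩
    exact d.2
  have hDGp : IsPGroup p DG := by
    rw [hDG]
    exact hDp.map _
  have hQDG : Q ≤ DG := by
    intro q hq
    rw [hDG]
    exact ⟨⟨q, hQT hq⟩, hQD (Subgroup.mem_subgroupOf.2 hq), rfl⟩
  have hDGN : DG ≤ Subgroup.normalizer (Q : Set G) := hDGT.trans hTN
  have hst : ∀ x ∈ DG, StabilizesBlock (Subgroup.centralizer (Q : Set G)) f x :=
    fun x hx => hstT x (hDGT hx)
  have hcardDG : Nat.card DG = Nat.card D := by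
    rw [hDG, Subgroup.card_map_of_injective (Subgroup.subtype_injective _)]
  obtain ⟨g₀, hg₀, PS, hPS⟩ := hD
  have hne : ¬ MemLocalIdeal M
      (subgroupBlockCoeff (Subgroup.centralizer (Q : Set G)) f ((g₀ : ↥T) : G)) := by
    rw [← hcoef]
    exact hg₀.2.1
  have hx₀R : ((g₀ : ↥T) : G) ∈ Subgroup.centralizer (DG : Set G) := by
    rw [Subgroup.mem_centralizer_iff]
    intro r hr
    rw [hDG] at hr
    obtain ⟨d, hd, rfl⟩ := hr
    rw [hPS] at hd
    obtain ⟨c, -, rfl⟩ := hd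
    have h2 := Subgroup.mem_centralizer_singleton_iff.1 c.2
    exact congrArg Subtype.val h2
  obtain ⟨g, hg⟩ := exists_normalSubpair_of_ne hM hDGp hQDG hDGN f hf hst
    ((g₀ : ↥T) : G) hx₀R hne
  have hRg : IsBrauerPairOf p M B DG g := brauerPairOf_of_normalSubpair hM hg B hQf
  obtain ⟨y, hy⟩ := pair_conj_below_maximal hM B P DG e g hmax hRg
  have hconj := normalSubpair_conj hg y
  have hstep : NormalSubpairRel p M
      ⟨Q.map (MulAut.conj y).toMonoidHom, conjBlock Q y f⟩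
      ⟨DG.map (MulAut.conj y).toMonoidHom, conjBlock DG y g⟩ := hconj
  refine ⟨y, Relation.ReflTransGen.head hstep hy, ?_⟩
  have hDGyP : DG.map (MulAut.conj y).toMonoidHom ≤ P := Cfsg.Agent.helper1.subpairLE_le hy
  have hDGyN : DG.map (MulAut.conj y).toMonoidHom ≤ Subgroup.normalizer
      ((Q.map (MulAut.conj y).toMonoidHom : Subgroup G) : Set G) := hconj.2.2.2.1
  have hc2 : Nat.card ↥(DG.map (MulAut.conj y).toMonoidHom) = Nat.card DG :=
    Subgroup.card_map_of_injective (MulAut.conj y).injective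
  rw [← hcardDG, ← hc2]
  exact Subgroup.card_le_of_le (le_inf hDGyP hDGyN)

end Stab17b

end Cfsg.Agent.helper24
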