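import Mathlib
import Cfsg.Agent.Lib_helper24_CoverAll5
import Cfsg.Agent.Lib_helper24_Fong6
import Cfsg.Agent.Lib_helper24_FongRey6
import Cfsg.Agent.Lib_helper24_BPair9
import Cfsg.Agent.Lib_helper24_BPair17
import Cfsg.Agent.Lib_helper22_RepGroup

/-!
Covering blocks and defects (helper24): the defect of a covered block is at most the defect of a
covering block; a block with a defect group inside the normal subgroup `N` forces the stabilizer
of a covered block to meet `p`-power overgroups of `N` in `N`.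
-/

set_option autoImplicit false

namespace Cfsg.Agent.helper24

open Cfsg Cfsg.Agent.helper5 Cfsg.Agent.helper8
open scoped ComplexConjugate

universe u

section CovDefect1

variable {G : Type u} [Group G] [Fintype G] {M : Ideal AlgInt}
  (N : Subgroup G) [hN : N.Normal] [Fintype N]

/-- **the defect of a covered block is at most the defect of a covering block** -/
theorem blockDefect_le_of_cover (p : ℕ) [Fact p.Prime] (hM : IsPModular p M)
    (B : Set (IrrCharacter G)) (hB : IsPBlock M B) (b : Set (IrrCharacter N))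
    (hb : IsPBlock M b)
    (hcov : ∃ χ ∈ B, ∃ θ ∈ b, classInner (fun n : N => (χ : G → ℂ) n) (θ : N → ℂ) ≠ 0) :
    blockDefect p b ≤ blockDefect p B := by
  classical
  have hpp : p.Prime := Fact.out
  have hMp : M.IsPrime := hM.2.1.isPrime
  -- a member of `b` of minimal `p`-part of the degree
  obtain ⟨θ₁, hθ₁⟩ := isPBlock_nonempty hb
  have hne : ((fun χ : IrrCharacter N => (charDegree (χ : N → ℂ)).factorization p) '' b).Nonempty :=
    ⟨_, θ₁, hθ₁, rfl⟩
  obtain ⟨θ₀, hθ₀, hθ₀min⟩ := Nat.sInf_mem hne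
  obtain ⟨χ, hχ, hne'⟩ := cover_all N p M hM B hB b hb hcov θ₀ hθ₀
  obtain ⟨e, he1, he2⟩ := Cfsg.Agent.helper22.degree_ratio_general N χ.2 θ₀.2 hne'
  have hdegχ : charDegree (χ : G → ℂ) = e * charDegree (θ₀ : N → ℂ) := by
    have h1 : ((charDegree (χ : G → ℂ) : ℕ) : ℂ) = ((e * charDegree (θ₀ : N → ℂ) : ℕ) : ℂ) := by
      rw [char_charDegree_cast (irr_isCharacter χ.2), Nat.cast_mul,
        char_charDegree_cast (irr_isCharacter θ₀.2)]
      exact he1
    exact_mod_cast h1
  have hθ₀pos : charDegree (θ₀ : N → ℂ) ≠ 0 := (irr_charDegree_pos θ₀.2).ne'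
  have hχpos : charDegree (χ : G → ℂ) ≠ 0 := (irr_charDegree_pos χ.2).ne'
  have he0 : e ≠ 0 := by
    rintro rfl
    rw [zero_mul] at hdegχ
    exact hχpos hdegχ
  have hfac : (charDegree (χ : G → ℂ)).factorization p =
      e.factorization p + (charDegree (θ₀ : N → ℂ)).factorization p := by
    rw [hdegχ, Nat.factorization_mul he0 hθ₀pos]
    rfl
  have hidx0 : N.index ≠ 0 := Subgroup.index_ne_zero_of_finite
  have he_le : e.factorization p ≤ N.index.factorization p :=
    (Nat.factorization_le_iff_dvd he0 hidx0).2 he2 p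
  have hcardG : (Nat.card G).factorization p =
      (Nat.card N).factorization p + N.index.factorization p := by
    rw [← N.card_mul_index, Nat.factorization_mul (Nat.card_pos (α := N)).ne' hidx0]
    rfl
  have h1 := degree_factorization_add_defect p B χ hχ
  have hdvd : (charDegree (θ₀ : N → ℂ)).factorization p ≤ (Nat.card N).factorization p :=
    (Nat.factorization_le_iff_dvd hθ₀pos (Nat.card_pos (α := N)).ne').2
      (irr_degree_dvd_card θ₀.2) p
  have hdb : blockDefect p b =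
      (Nat.card N).factorization p - (charDegree (θ₀ : N → ℂ)).factorization p := by
    unfold blockDefect
    rw [← hθ₀min]
  omega

end CovDefect1

section CovDefect2

variable {G : Type u} [Group G] [Fintype G]

/-- a constituent of the restriction to an intermediate subgroup lying over a given constituent -/
theorem exists_mid_constituent (N L : Subgroup G) [Fintype N] [Fintype L] (hNL : N ≤ L)
    (θ : IrrCharacter N) (χ : G → ℂ) (hχ : IsCharacter G χ)
    (hne : classInner (fun n : N => χ n) (θ : N → ℂ) ≠ 0) :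
    ∃ ξ : IrrCharacter L, classInner (fun l : L => χ l) (ξ : L → ℂ) ≠ 0 ∧
      classInner (fun n : N => (ξ : L → ℂ) (Subgroup.inclusion hNL n)) (θ : N → ℂ) ≠ 0 := by
  classical
  have := Fintype.ofFinite (IrrCharacter L)
  have hψ : IsCharacter L (fun l : L => χ l) :=
    Cfsg.Agent.helper12.isCharacter_restrict L hχ
  obtain ⟨n, hexp, hn, _⟩ := Cfsg.Agent.helper12.char_decomp hψ
  have h1 : (fun m : N => χ m) =
      ∑ ξ : IrrCharacter L, (n ξ : ℂ) • (fun m : N => (ξ : L → ℂ) (Subgroup.inclusion hNL m)) := by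
    funext m
    have h2 := congrFun hexp (Subgroup.inclusion hNL m)
    rw [Finset.sum_apply] at h2 ⊢
    simp only [Pi.smul_apply] at h2 ⊢
    rw [← h2]
    rfl
  rw [h1, classInner_sum_left] at hne
  obtain ⟨ξ, _, hξ⟩ := Finset.exists_ne_zero_of_sum_ne_zero hne
  rw [classInner_smul_left] at hξ
  refine ⟨ξ, ?_, right_ne_zero_of_mul hξ⟩
  rw [hn ξ]
  exact left_ne_zero_of_mul hξ

variable {M : Ideal AlgInt} (N : Subgroup G) [hN : N.Normal] [Fintype N]

set_option maxHeartbeats 1600000 in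
/-- **invariant case**: if a block covering the invariant block `c` of `N` has a defect group
inside `N`, then a normal subgroup `L ≥ N` with `L / N` a `p`-group equals `N` -/
theorem le_of_defect_le_of_invariant (p : ℕ) [Fact p.Prime] (hM : IsPModular p M)
    (L : Subgroup G) [hL : L.Normal] (hNL : N ≤ L) {k : ℕ}
    (hidx : (N.subgroupOf L).index = p ^ k)
    (c : Set (IrrCharacter N)) (hc : IsPBlock M c)
    (hinv : ∀ g : G, ∀ θ ∈ c, ∀ θ' : IrrCharacter N,
      (∀ n : N, (θ' : N → ℂ) n = (θ : N → ℂ) ⟨g * n * g⁻¹, hN.conj_mem n n.2 g⟩) → θ' ∈ c)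
    (B : Set (IrrCharacter G)) (hB : IsPBlock M B)
    (hcov : ∃ χ ∈ B, ∃ θ ∈ c, classInner (fun n : N => (χ : G → ℂ) n) (θ : N → ℂ) ≠ 0)
    (D : Subgroup G) (hD : IsDefectGroup p M B D) (hDN : D ≤ N) : L ≤ N := by
  classical
  have hpp : p.Prime := Fact.out
  have hMp : M.IsPrime := hM.2.1.isPrime
  have := Fintype.ofFinite ↥L
  have := Fintype.ofFinite ↥(N.subgroupOf L)
  have hN' : (N.subgroupOf L).Normal := Subgroup.normal_subgroupOf
  obtain ⟨e, he⟩ : ∃ e : ↥(N.subgroupOf L) ≃* ↥N, e = Subgroup.subgroupOfEquivOfLe hNL :=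
    ⟨_, rfl⟩
  have hecoe : ∀ n : ↥(N.subgroupOf L), ((e n : N) : G) = ((n : L) : G) := by
    intro n
    rw [he]
    rfl
  have hc' := isPBlock_transportSet (M := M) e c hc
  have hinv' : ∀ g : L, ∀ φ ∈ transportSet e c, ∀ φ' : IrrCharacter ↥(N.subgroupOf L),
      (∀ n : ↥(N.subgroupOf L), (φ' : ↥(N.subgroupOf L) → ℂ) n
        = (φ : ↥(N.subgroupOf L) → ℂ) ⟨g * n * g⁻¹, hN'.conj_mem n n.2 g⟩) →
      φ' ∈ transportSet e c := by
    rintro g φ ⟨θ, hθ, hφ⟩ φ' h
    have hθ' : irrTransport e.symm φ' ∈ c := by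
      apply hinv (g : G) θ hθ
      intro n
      rw [irrTransport_apply, h (e.symm n), hφ]
      refine congrArg (θ : N → ℂ) (Subtype.ext ?_)
      rw [hecoe]
      show (g : G) * (((e.symm n : ↥(N.subgroupOf L)) : L) : G) * (g : G)⁻¹ = _
      rw [← hecoe (e.symm n), MulEquiv.apply_symm_apply]
    refine ⟨irrTransport e.symm φ', hθ', ?_⟩
    funext x
    rw [irrTransport_apply, MulEquiv.symm_apply_apply]
  -- the block of `L` with the idempotent of `c`
  obtain ⟨c₁, hc₁, hcoef⟩ := fg_index_pow_exists (N.subgroupOf L) (transportSet e c) p hM hidx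
    hc' hinv'
  obtain ⟨P₁, hP₁⟩ := exists_defectGroup p M hM c₁ hc₁
  obtain ⟨htop, hdef⟩ := fg_index_pow_defect (N.subgroupOf L) (transportSet e c) p hM hidx hc'
    hinv' c₁ hc₁ hcoef P₁ hP₁
  have hcardP₁ := card_defectGroup p M hM c₁ hc₁ P₁ hP₁
  have hcardI := card_defectGroup p M hM (transportSet e c) hc' _ hdef
  rw [blockDefect_transportSet, card_subgroupOf_of_le inf_le_right] at hcardI
  have hrel : (N.subgroupOf L).relIndex P₁ = p ^ k := by
    rw [← Subgroup.relIndex_sup_left, htop, Subgroup.relIndex_top_right, hidx]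
  have hmul : Nat.card ↥(P₁ ⊓ N.subgroupOf L : Subgroup ↥L) * (N.subgroupOf L).relIndex P₁ =
      Nat.card ↥P₁ := by
    rw [← Subgroup.inf_relIndex_left P₁ (N.subgroupOf L), ← Subgroup.relIndex_bot_left,
      ← Subgroup.relIndex_bot_left, Subgroup.relIndex_mul_relIndex _ _ _ bot_le inf_le_left]
  rw [hcardI, hrel, hcardP₁, ← pow_add] at hmul
  have hdc₁ : blockDefect p c + k = blockDefect p c₁ :=
    Nat.pow_right_injective hpp.two_le hmul
  -- `B` covers `c₁`
  have hcov₁ : ∃ χ ∈ B, ∃ ξ ∈ c₁, classInner (fun l : L => (χ : G → ℂ) l) (ξ : L → ℂ) ≠ 0 := by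
    obtain ⟨χ, hχ, θ, hθ, hne⟩ := hcov
    obtain ⟨ξ, hξ1, hξ2⟩ := exists_mid_constituent N L hNL θ (χ : G → ℂ) (irr_isCharacter χ.2) hne
    refine ⟨χ, hχ, ξ, ?_, hξ1⟩
    have hunder : classInner (res (N.subgroupOf L) (ξ : L → ℂ))
        ((irrTransport e θ : IrrCharacter ↥(N.subgroupOf L)) : ↥(N.subgroupOf L) → ℂ) ≠ 0 := by
      have h1 := Cfsg.Agent.helper12.classInner_comp_mulEquiv e
        (fun n : N => (ξ : L → ℂ) (Subgroup.inclusion hNL n)) (θ : N → ℂ)
      rw [← h1] at hξ2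
      have h2 : (fun h : ↥(N.subgroupOf L) => (ξ : L → ℂ) (Subgroup.inclusion hNL (e h))) =
          res (N.subgroupOf L) (ξ : L → ℂ) := by
        funext h
        rw [res_apply]
        refine congrArg (ξ : L → ℂ) (Subtype.ext ?_)
        rw [Subgroup.coe_inclusion, hecoe]
      rw [h2] at hξ2
      exact hξ2
    have h3 := fg_omega_E (N.subgroupOf L) (transportSet e c) hc' hinv' ξ.2 hunder
    rw [← hcoef, omegaFn_blockCoeff, if_pos ((mem_transportSet_iff e c θ).2 hθ)] at h3
    by_contra hnot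
    rw [if_neg hnot] at h3
    exact zero_ne_one h3
  have hmono := blockDefect_le_of_cover L p hM B hB c₁ hc₁ hcov₁
  obtain ⟨i, j, hi, hj, hij, hic, -⟩ := fg_card_data N c p hM hc hinv B hB hcov D hD
  have hj0 : j = 0 := by
    have h1 : N.relIndex D = 1 := Subgroup.relIndex_eq_one.2 hDN
    rw [h1] at hj
    by_contra hne
    have h2 : 1 < p ^ j := Nat.one_lt_pow hne hpp.one_lt
    omega
  have hk0 : k = 0 := by omega
  rw [hk0, pow_zero, Subgroup.index_eq_one] at hidx
  intro x hx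
  have h1 : (⟨x, hx⟩ : ↥L) ∈ N.subgroupOf L := by rw [hidx]; trivial
  exact Subgroup.mem_subgroupOf.1 h1

end CovDefect2

section CovDefect3

variable {G : Type u} [Group G] [Fintype G] {M : Ideal AlgInt}
  (N : Subgroup G) [hN : N.Normal] [Fintype N]

/-- the stabilizer in the sense of `StabilizesBlock` in the Fong–Reynolds form -/
theorem stabilizes_iff_fr [hMp : M.IsPrime] (c : Set (IrrCharacter N)) (hc : IsPBlock M c) (g : G) :
    StabilizesBlock N c g ↔ ∀ θ ∈ c, ∀ θ' : IrrCharacter N,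
      (∀ n : N, (θ' : N → ℂ) n = (θ : N → ℂ) ⟨g * n * g⁻¹, hN.conj_mem n n.2 g⟩) → θ' ∈ c := by
  constructor
  · intro hst θ hθ θ' h
    obtain ⟨χ', hχ', hconj⟩ := (stabilizesBlock_inv hst).2 θ hθ
    have : θ' = χ' := by
      apply Subtype.ext
      funext n
      rw [h n]
      symm
      apply hconj
      simp only [inv_inv]
      group
    rw [this]
    exact hχ'
  · intro hfr
    have h1 : g ∈ blockStab N c := (mem_blockStab_iff N c hc g).2 hfr
    have h2 : g⁻¹ ∈ blockStab N c := (blockStab N c).inv_mem h1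
    have h3 := (mem_blockStab_iff N c hc g⁻¹).1 h2
    refine ⟨?_, ?_⟩
    · rw [Subgroup.normalizer_eq_top]
      trivial
    · intro χ hχ
      refine ⟨irrTransport (MulAut.conjNormal g⁻¹ : N ≃* N) χ, ?_, ?_⟩
      · apply h3 χ hχ
        intro n
        rw [irrTransport_apply]
        refine congrArg (χ : N → ℂ) (Subtype.ext ?_)
        rw [MulAut.conjNormal_apply]
      · intro k k' hk
        rw [irrTransport_apply]
        refine congrArg (χ : N → ℂ) (Subtype.ext ?_)
        rw [MulAut.conjNormal_apply, hk]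
        group

set_option maxHeartbeats 1600000 in
/-- **the stabilizer of a covered block meets a `p`-power overgroup of `N` in `N` when the
covering block has a defect group inside `N`** -/
theorem stab_inf_eq_of_defect_le (p : ℕ) [Fact p.Prime] (hM : IsPModular p M)
    (L : Subgroup G) [hL : L.Normal] (hNL : N ≤ L)
    (hLN : ∃ k : ℕ, (N.subgroupOf L).index = p ^ k)
    (B : Set (IrrCharacter G)) (hB : IsPBlock M B)
    (c : Set (IrrCharacter N)) (hc : IsPBlock M c)
    (hcov : ∃ χ ∈ B, ∃ θ ∈ c, classInner (fun n : N => (χ : G → ℂ) n) (θ : N → ℂ) ≠ 0)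
    (hD : ∃ D : Subgroup G, IsDefectGroup p M B D ∧ D ≤ N)
    (T : Subgroup G) (hT : ∀ x : G, x ∈ T ↔ StabilizesBlock N c x) : T ⊓ L = N := by
  classical
  have hpp : p.Prime := Fact.out
  have hMp : M.IsPrime := hM.2.1.isPrime
  have := Fintype.ofFinite ↥T
  have hNT : N ≤ T := fun x hx => (hT x).2 (stabilizesBlock_of_mem_self c hx)
  apply le_antisymm
  swap
  · exact le_inf hNT hNL
  have hT' : ∀ g : G, g ∈ T ↔ ∀ θ ∈ c, ∀ θ' : IrrCharacter N,
      (∀ n : N, (θ' : N → ℂ) n = (θ : N → ℂ) ⟨g * n * g⁻¹, hN.conj_mem n n.2 g⟩) → θ' ∈ c :=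
    fun g => (hT g).trans (stabilizes_iff_fr N c hc g)
  obtain ⟨B', hB', hcov', hind⟩ := fr_block_surj N T c p hM hNT hc hT' B hB hcov
  obtain ⟨D', hD'⟩ := exists_defectGroup p M hM B' hB'
  have hD'G := (fr_defect_height N T c p hM hNT hc hT' B' hB' hcov' B hind).1 D' hD'
  obtain ⟨D, hDdef, hDN⟩ := hD
  obtain ⟨x, hx⟩ := defectGroups_conj p hM B hB hDdef hD'G
  have hD'N : D'.map T.subtype ≤ N := by
    rw [← hx]
    rintro _ ⟨d, hd, rfl⟩
    exact hN.conj_mem d (hDN hd) x
  -- pass to the group `T`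
  have := Fintype.ofFinite ↥(N.subgroupOf T)
  have hN' : (N.subgroupOf T).Normal := Subgroup.normal_subgroupOf
  have hL' : (L.subgroupOf T).Normal := Subgroup.normal_subgroupOf
  have hNL' : N.subgroupOf T ≤ L.subgroupOf T := by
    intro y hy
    rw [Subgroup.mem_subgroupOf] at hy ⊢
    exact hNL hy
  obtain ⟨k, hk⟩ := hLN
  have hidx' : ∃ k' : ℕ, ((N.subgroupOf T).subgroupOf (L.subgroupOf T)).index = p ^ k' := by
    have h1 : ((N.subgroupOf T).subgroupOf (L.subgroupOf T)).index =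
        N.relIndex (L ⊓ T) := by
      show (N.subgroupOf T).relIndex (L.subgroupOf T) = _
      rw [← Subgroup.inf_subgroupOf_right L T, Subgroup.relIndex_subgroupOf inf_le_right]
    have h2 : N.relIndex (L ⊓ T) * (L ⊓ T).relIndex L = N.relIndex L :=
      Subgroup.relIndex_mul_relIndex N (L ⊓ T) L (le_inf hNL hNT) inf_le_left
    have h3 : N.relIndex L = p ^ k := hk
    have h4 : N.relIndex (L ⊓ T) ∣ p ^ k := by
      rw [← h3, ← h2]
      exact Dvd.intro _ rfl
    obtain ⟨k', _, hk'⟩ := (Nat.dvd_prime_pow hpp).1 h4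
    exact ⟨k', by rw [h1, hk']⟩
  obtain ⟨k', hk'⟩ := hidx'
  obtain ⟨e, he⟩ : ∃ e : ↥(N.subgroupOf T) ≃* ↥N, e = Subgroup.subgroupOfEquivOfLe hNT :=
    ⟨_, rfl⟩
  have hecoe : ∀ n : ↥(N.subgroupOf T), ((e n : N) : G) = ((n : T) : G) := by
    intro n
    rw [he]
    rfl
  have hc' := isPBlock_transportSet (M := M) e c hc
  have hinv' : ∀ g : T, ∀ φ ∈ transportSet e c, ∀ φ' : IrrCharacter ↥(N.subgroupOf T),
      (∀ n : ↥(N.subgroupOf T), (φ' : ↥(N.subgroupOf T) → ℂ) n
        = (φ : ↥(N.subgroupOf T) → ℂ) ⟨g * n * g⁻¹, hN'.conj_mem n n.2 g⟩) →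
      φ' ∈ transportSet e c := by
    rintro g φ ⟨θ, hθ, hφ⟩ φ' h
    have hθ' : irrTransport e.symm φ' ∈ c := by
      apply (hT' (g : G)).1 g.2 θ hθ
      intro n
      rw [irrTransport_apply, h (e.symm n), hφ]
      refine congrArg (θ : N → ℂ) (Subtype.ext ?_)
      rw [hecoe]
      show (g : G) * (((e.symm n : ↥(N.subgroupOf T)) : T) : G) * (g : G)⁻¹ = _
      rw [← hecoe (e.symm n), MulEquiv.apply_symm_apply]
    refine ⟨irrTransport e.symm φ', hθ', ?_⟩
    funext x
    rw [irrTransport_apply, MulEquiv.symm_apply_apply]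
  have hcov'' : ∃ ψ ∈ B', ∃ φ ∈ transportSet e c,
      classInner (fun n : ↥(N.subgroupOf T) => (ψ : T → ℂ) n)
        (φ : ↥(N.subgroupOf T) → ℂ) ≠ 0 := by
    obtain ⟨ψ, hψ, θ, hθ, hne⟩ := hcov'
    refine ⟨ψ, hψ, irrTransport e θ, (mem_transportSet_iff e c θ).2 hθ, ?_⟩
    rw [← cover_transport_iff N T hNT] at hne
    rw [he]
    exact hne
  have hD'N' : D' ≤ N.subgroupOf T := by
    intro y hy
    rw [Subgroup.mem_subgroupOf]
    exact hD'N ⟨y, hy, rfl⟩
  have hfin := le_of_defect_le_of_invariant (N.subgroupOf T) p hM (L.subgroupOf T) hNL' hk'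
    (transportSet e c) hc' hinv' B' hB' hcov'' D' hD' hD'N'
  intro y hy
  obtain ⟨hyT, hyL⟩ := Subgroup.mem_inf.1 hy
  have h1 : (⟨y, hyT⟩ : ↥T) ∈ L.subgroupOf T := Subgroup.mem_subgroupOf.2 hyL
  exact Subgroup.mem_subgroupOf.1 (hfin h1)

end CovDefect3

end Cfsg.Agent.helper24
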