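import Mathlib
import Cfsg.Agent.Lib_helper24_CovDefect
import Cfsg.Agent.Lib_helper24_BrauerCorr2

/-!
Knörr's theorem (helper1), part 1: recognising defect groups by order, relative transport of
a block of a normal subgroup, uniqueness of the covering block in `p`-power index, and the case
where `N D` is normal.
-/

set_option autoImplicit false

namespace Cfsg.Agent.helper1

open Cfsg Cfsg.Agent.helper5 Cfsg.Agent.helper8 Cfsg.Agent.helper24
open scoped ComplexConjugate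

universe u

section kn

variable {G : Type u} [Group G] [Fintype G] {M : Ideal AlgInt}

/-- a `p`-subgroup of the order of a defect group, centralized by a conjugate of an element of the
support mod `J` of the block idempotent, is a defect group -/
theorem kn_isDefectGroup_of_card (p : ℕ) [Fact p.Prime] (hM : IsPModular p M)
    (b : Set (IrrCharacter G)) (hb : IsPBlock M b) (R : Subgroup G) (hR : IsPGroup p R)
    (hcard : Nat.card R = p ^ blockDefect p b)
    (h : ∃ g : G, MemLocalRing M (blockCoeff b g) ∧ ¬ MemLocalIdeal M (blockCoeff b g) ∧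
      ∃ c : G, IsConj g c ∧ c ∈ Subgroup.centralizer (R : Set G)) :
    IsDefectGroup p M b R := by
  obtain ⟨D, hD⟩ := exists_defectGroup p M hM b hb
  obtain ⟨x, hx⟩ := (brauer_nonzero_iff p M hM b hb D hD R hR).1 h
  have hcD := card_defectGroup p M hM b hb D hD
  have heq : R.map (MulAut.conj x).toMonoidHom = D := by
    apply Subgroup.eq_of_le_of_card_ge hx
    rw [Subgroup.card_map_of_injective (MulAut.conj x).injective, hcard, hcD]
  have h3 : R = D.map (MulAut.conj x⁻¹).toMonoidHom := by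
    rw [← heq, Subgroup.map_map]
    have : (MulAut.conj x⁻¹).toMonoidHom.comp (MulAut.conj x).toMonoidHom = MonoidHom.id G := by
      ext y
      simp only [MonoidHom.coe_comp, Function.comp_apply, MulEquiv.coe_toMonoidHom,
        MulAut.conj_apply, MonoidHom.id_apply]
      group
    rw [this, Subgroup.map_id]
  rw [h3]
  exact isDefectGroup_conj p M b hD x⁻¹

/-- a defect group is centralized by an element of the support mod `J` of the idempotent -/
theorem kn_coeff_of_isDefectGroup (p : ℕ) [Fact p.Prime] (hM : IsPModular p M)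
    (b : Set (IrrCharacter G)) (hb : IsPBlock M b) (R : Subgroup G)
    (hR : IsDefectGroup p M b R) :
    ∃ g : G, MemLocalRing M (blockCoeff b g) ∧ ¬ MemLocalIdeal M (blockCoeff b g) ∧
      ∃ c : G, IsConj g c ∧ c ∈ Subgroup.centralizer (R : Set G) := by
  apply (brauer_nonzero_iff p M hM b hb R hR R (defectGroup_isPGroup p M b R hR)).2
  refine ⟨1, ?_⟩
  rintro _ ⟨s, hs, rfl⟩
  simpa using hs

end kn

section rel

variable {G : Type u} [Group G] [Fintype G] {M : Ideal AlgInt}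
  (N T : Subgroup G) [hN : N.Normal] [Fintype N] [Fintype T]

/-- transport of a `T`-stable block of `N ≤ T` to the group `T` -/
theorem kn_rel_setup (hNT : N ≤ T) [Fintype ↥(N.subgroupOf T)]
    (hN' : (N.subgroupOf T).Normal)
    (b : Set (IrrCharacter N)) (hb : IsPBlock M b)
    (hstab : ∀ g ∈ T, ∀ θ ∈ b, ∀ θ' : IrrCharacter N,
      (∀ n : N, (θ' : N → ℂ) n = (θ : N → ℂ) ⟨g * n * g⁻¹, hN.conj_mem n n.2 g⟩) → θ' ∈ b) :
    IsPBlock M (transportSet (Subgroup.subgroupOfEquivOfLe hNT) b) ∧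
    (∀ g : T, ∀ φ ∈ transportSet (Subgroup.subgroupOfEquivOfLe hNT) b,
      ∀ φ' : IrrCharacter ↥(N.subgroupOf T),
      (∀ n : ↥(N.subgroupOf T), (φ' : ↥(N.subgroupOf T) → ℂ) n
        = (φ : ↥(N.subgroupOf T) → ℂ) ⟨g * n * g⁻¹, hN'.conj_mem n n.2 g⟩) →
      φ' ∈ transportSet (Subgroup.subgroupOfEquivOfLe hNT) b) ∧
    (∀ B'' : Set (IrrCharacter T),
      (∃ ψ ∈ B'', ∃ φ ∈ transportSet (Subgroup.subgroupOfEquivOfLe hNT) b,
        classInner (fun n : ↥(N.subgroupOf T) => (ψ : T → ℂ) n)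
          (φ : ↥(N.subgroupOf T) → ℂ) ≠ 0) ↔
      (∃ ψ ∈ B'', ∃ θ ∈ b, classInner (resNT N T hNT (ψ : T → ℂ)) (θ : N → ℂ) ≠ 0)) := by
  classical
  obtain ⟨e, he⟩ : ∃ e : ↥(N.subgroupOf T) ≃* ↥N, e = Subgroup.subgroupOfEquivOfLe hNT :=
    ⟨_, rfl⟩
  rw [← he]
  have hecoe : ∀ n : ↥(N.subgroupOf T), ((e n : N) : G) = ((n : T) : G) := by
    intro n
    rw [he]
    rfl
  refine ⟨isPBlock_transportSet (M := M) e b hb, ?_, ?_⟩
  · rintro g φ ⟨θ, hθ, hφ⟩ φ' h
    have hθ' : irrTransport e.symm φ' ∈ b := by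
      apply hstab (g : G) g.2 θ hθ
      intro n
      rw [irrTransport_apply, h (e.symm n), hφ]
      refine congrArg (θ : N → ℂ) (Subtype.ext ?_)
      rw [hecoe]
      show (g : G) * (((e.symm n : ↥(N.subgroupOf T)) : T) : G) * (g : G)⁻¹ = _
      rw [← hecoe (e.symm n), MulEquiv.apply_symm_apply]
    refine ⟨irrTransport e.symm φ', hθ', ?_⟩
    funext x
    rw [irrTransport_apply, MulEquiv.symm_apply_apply]
  · intro B''
    constructor
    · rintro ⟨ψ, hψ, φ, ⟨θ, hθ, hφ⟩, hne⟩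
      refine ⟨ψ, hψ, θ, hθ, ?_⟩
      rw [hφ, he, cover_transport_iff N T hNT] at hne
      exact hne
    · rintro ⟨ψ, hψ, θ, hθ, hne⟩
      refine ⟨ψ, hψ, irrTransport e θ, (mem_transportSet_iff e b θ).2 hθ, ?_⟩
      rw [← cover_transport_iff N T hNT] at hne
      rw [he]
      exact hne

/-- in `p`-power index only one block covers a given block -/
theorem kn_unique_cover {p : ℕ} (hM : IsPModular p M) (hNT : N ≤ T) {k : ℕ}
    (hidx : N.relIndex T = p ^ k) {ψ ψ' : IrrCharacter T} {θ θ' : IrrCharacter N}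
    (h1 : classInner (resNT N T hNT (ψ : T → ℂ)) (θ : N → ℂ) ≠ 0)
    (h2 : classInner (resNT N T hNT (ψ' : T → ℂ)) (θ' : N → ℂ) ≠ 0)
    (hs : SameBlock M (θ : N → ℂ) (θ' : N → ℂ)) :
    SameBlock M (ψ : T → ℂ) (ψ' : T → ℂ) := by
  classical
  have hMp : M.IsPrime := hM.2.1.isPrime
  have := Fintype.ofFinite ↥(N.subgroupOf T)
  have hN' : (N.subgroupOf T).Normal := Subgroup.normal_subgroupOf
  obtain ⟨e, he⟩ : ∃ e : ↥(N.subgroupOf T) ≃* ↥N, e = Subgroup.subgroupOfEquivOfLe hNT :=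
    ⟨_, rfl⟩
  have hidx' : (N.subgroupOf T).index = p ^ k := hidx
  have k1 : classInner (res (N.subgroupOf T) (ψ : T → ℂ))
      ((irrTransport e θ : IrrCharacter ↥(N.subgroupOf T)) : ↥(N.subgroupOf T) → ℂ) ≠ 0 := by
    rw [← cover_transport_iff N T hNT] at h1
    rw [he]
    exact h1
  have k2 : classInner (res (N.subgroupOf T) (ψ' : T → ℂ))
      ((irrTransport e θ' : IrrCharacter ↥(N.subgroupOf T)) : ↥(N.subgroupOf T) → ℂ) ≠ 0 := by
    rw [← cover_transport_iff N T hNT] at h2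
    rw [he]
    exact h2
  exact Cover.sameBlock_of_under_of_index (N.subgroupOf T) hM hidx' k1 k2
    (sameBlock_comp_mulEquiv e hs)

end rel

section normalcase

variable {G : Type u} [Group G] [Fintype G] {M : Ideal AlgInt}
  (N : Subgroup G) [hN : N.Normal] [Fintype N] (b : Set (IrrCharacter N))

/-- **Knörr, normal case**: if `N D` is normal in `G` then `D ∩ N` has the order of a defect
group of the invariant covered block -/
theorem kn_normal_case (p : ℕ) [Fact p.Prime] (hM : IsPModular p M) (hb : IsPBlock M b)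
    (hinv : ∀ g : G, ∀ θ ∈ b, ∀ θ' : IrrCharacter N,
      (∀ n : N, (θ' : N → ℂ) n = (θ : N → ℂ) ⟨g * n * g⁻¹, hN.conj_mem n n.2 g⟩) → θ' ∈ b)
    (B : Set (IrrCharacter G)) (hB : IsPBlock M B)
    (hcov : ∃ χ ∈ B, ∃ θ ∈ b, classInner (fun n : N => (χ : G → ℂ) n) (θ : N → ℂ) ≠ 0)
    (D : Subgroup G) (hD : IsDefectGroup p M B D) (hL : (N ⊔ D).Normal) :
    Nat.card (D ⊓ N : Subgroup G) = p ^ blockDefect p b := by
  classical
  have hp : p.Prime := Fact.out
  have hMp : M.IsPrime := hM.2.1.isPrime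
  obtain ⟨L, hLdef⟩ : ∃ L : Subgroup G, L = N ⊔ D := ⟨_, rfl⟩
  have hLn : L.Normal := hLdef ▸ hL
  have := Fintype.ofFinite ↥L
  have hNL : N ≤ L := hLdef ▸ le_sup_left
  obtain ⟨i, j, hi, hj, hij, hi', -⟩ := fg_card_data N b p hM hb hinv B hB hcov D hD
  have hcov' := hcov
  obtain ⟨χ, hχ, θ, hθ, hne⟩ := hcov
  obtain ⟨ξ, hξ1, hξ2⟩ := exists_mid_constituent N L hNL θ (χ : G → ℂ) (irr_isCharacter χ.2) hne
  have hb₁ : IsPBlock M (blockOf M (ξ : L → ℂ)) := ⟨ξ, rfl⟩
  have hξmem : ξ ∈ blockOf M (ξ : L → ℂ) := sameBlock_refl M hMp.ne_top _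
  have h1 := blockDefect_le_of_cover L p hM B hB (blockOf M (ξ : L → ℂ)) hb₁
    ⟨χ, hχ, ξ, hξmem, hξ1⟩
  have hidx : N.relIndex L = p ^ j := by
    rw [hLdef, Subgroup.relIndex_sup_left, hj]
  have hmax : ∀ B'' : Set (IrrCharacter L), IsPBlock M B'' →
      (∃ ψ ∈ B'', ∃ θ ∈ b, classInner (resNT N L hNL (ψ : L → ℂ)) (θ : N → ℂ) ≠ 0) →
      blockDefect p B'' ≤ blockDefect p (blockOf M (ξ : L → ℂ)) := by
    rintro B'' hB'' ⟨ψ, hψ, θ', hθ', hc⟩
    have hs : SameBlock M (θ : N → ℂ) (θ' : N → ℂ) := by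
      rw [← blockOf_eq_of_mem hb hθ] at hθ'
      exact hθ'
    have hsame : SameBlock M (ξ : L → ℂ) (ψ : L → ℂ) :=
      kn_unique_cover N L hM hNL hidx hξ2 hc hs
    have hψ' : ψ ∈ blockOf M (ξ : L → ℂ) := hsame
    rw [isPBlock_eq_of_mem hB'' hb₁ hψ hψ']
  have h2 := fong_relative N L b p hM hNL hb (fun g _ => hinv g) (blockOf M (ξ : L → ℂ)) hb₁
    ⟨ξ, hξmem, θ, hθ, hξ2⟩ hmax
  have h3 : (N.relIndex L).factorization p = j := by
    rw [hidx, hp.factorization_pow]
    simp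
  rw [h3] at h2
  have : i = blockDefect p b := by omega
  rw [hi, this]

end normalcase

end Cfsg.Agent.helper1
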