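import Mathlib
import Cfsg.Agent.Lib_helper1_Knorr1

/-!
Knörr's theorem (helper1), part 2: the Brauer correspondent over `N N_G(D)` covers the same
invariant block, and the invariant case.
-/

set_option autoImplicit false

namespace Cfsg.Agent.helper1

open Cfsg Cfsg.Agent.helper5 Cfsg.Agent.helper8 Cfsg.Agent.helper24
open scoped ComplexConjugate

universe u

section kn2

variable {G : Type u} [Group G] [Fintype G]

/-- the Brauer correspondent over a subgroup containing the normalizer, as an induced block -/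
theorem kn_brauer_corr (p : ℕ) [Fact p.Prime] (M : Ideal AlgInt) (hM : IsPModular p M)
    (P H : Subgroup G) [Fintype H] (hP : IsPGroup p P)
    (hH : Subgroup.normalizer (P : Set G) ≤ H) (B : Set (IrrCharacter G)) (hB : IsPBlock M B)
    (hBP : IsDefectGroup p M B P) :
    ∃ c : Set (IrrCharacter H), IsPBlock M c ∧ IsDefectGroup p M c (P.subgroupOf H) ∧
      IsInducedBlock M H c B := by
  classical
  have hMp : M.IsPrime := hM.2.1.isPrime
  have hMtop := hMp.ne_top
  have := Fintype.ofFinite ↥(Subgroup.normalizer (P : Set G))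
  have := Fintype.ofFinite ↥((Subgroup.normalizer (P : Set G)).subgroupOf H)
  have hPN : P ≤ Subgroup.normalizer (P : Set G) := Subgroup.le_normalizer
  have hPH : P ≤ H := hPN.trans hH
  have hP' : IsPGroup p (P.subgroupOf H) := hP.comap_subtype
  have F2 : P.subgroupOf H ≤ (Subgroup.normalizer (P : Set G)).subgroupOf H :=
    Subgroup.subgroupOf_mono H hPN
  have F3 : Subgroup.centralizer ((P.subgroupOf H : Subgroup H) : Set H) ≤
      (Subgroup.normalizer (P : Set G)).subgroupOf H := by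
    rw [centralizer_subgroupOf_eq hPH]
    exact Subgroup.subgroupOf_mono H (Subgroup.centralizer_le_normalizer _)
  have F4 := subgroupOf_normalizer_le P H
  obtain ⟨β, ⟨hβ, hβD, hβB⟩, -⟩ := (first_main p M hM P hP).2 B hB hBP
  have hβ' : IsPBlock M (transportSet (Subgroup.subgroupOfEquivOfLe hH) β) :=
    isPBlock_transportSet _ β hβ
  obtain ⟨ξ₀, hξ₀⟩ := hβ'
  obtain ⟨χ, -, hχ2⟩ := brauer_block_exists p M hM hP' F2 F3 F4 ξ₀
  rw [← hξ₀] at hχ2
  have hβ'' : IsPBlock M (transportSet (Subgroup.subgroupOfEquivOfLe hH) β) := hχ2.1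
  have hcB : IsInducedBlock M H (blockOf M (χ : H → ℂ)) B :=
    induced_trans_transport hH β _ B hβB hχ2
  obtain ⟨Dc, hDc⟩ := exists_defectGroup p M hM _ hχ2.2.1
  obtain ⟨E, hE, hDcE⟩ := defectGroup_induced_le p M hM H _ B hcB Dc hDc
  obtain ⟨Dβ', hDβ'⟩ := exists_defectGroup p M hM _ hβ''
  have h1 := subgroupOf_le_defectGroup p M hM hP' F4 _ hβ'' Dβ' hDβ'
  obtain ⟨E', hE', hDE'⟩ := defectGroup_induced_le p M hM _ _ _ hχ2 Dβ' hDβ'
  have hP'E' : P.subgroupOf H ≤ E' := by
    intro s hs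
    exact hDE' ⟨⟨s, F2 hs⟩, h1 (Subgroup.mem_subgroupOf.2 hs), rfl⟩
  have hcard : Nat.card E' ≤ Nat.card (P.subgroupOf H) := by
    have c1 : Nat.card E' = Nat.card Dc := by
      rw [card_defectGroup p M hM _ hχ2.2.1 E' hE', card_defectGroup p M hM _ hχ2.2.1 Dc hDc]
    have c2 : Nat.card Dc = Nat.card (Dc.map H.subtype) :=
      (Subgroup.card_map_of_injective (Subgroup.subtype_injective _)).symm
    have c3 : Nat.card (Dc.map H.subtype) ≤ Nat.card E := Nat.card_mono (Set.toFinite _) hDcE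
    have c4 : Nat.card E = Nat.card P := by
      rw [card_defectGroup p M hM B hB E hE, card_defectGroup p M hM B hB P hBP]
    rw [c1, c2, Cfsg.Agent.helper24.card_subgroupOf_of_le hPH, ← c4]
    exact c3
  have hPE : P.subgroupOf H = E' := Subgroup.eq_of_le_of_card_ge hP'E' hcard
  exact ⟨blockOf M (χ : H → ℂ), hχ2.2.1, by rw [hPE]; exact hE', hcB⟩

variable {M : Ideal AlgInt} (N : Subgroup G) [hN : N.Normal] [Fintype N]
  (b : Set (IrrCharacter N))

/-- a block of `H ≥ N` inducing a block covering the invariant block `b` covers `b` -/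
theorem kn_induced_covers (p : ℕ) [Fact p.Prime] (hM : IsPModular p M) (hb : IsPBlock M b)
    (hinv : ∀ g : G, ∀ θ ∈ b, ∀ θ' : IrrCharacter N,
      (∀ n : N, (θ' : N → ℂ) n = (θ : N → ℂ) ⟨g * n * g⁻¹, hN.conj_mem n n.2 g⟩) → θ' ∈ b)
    (B : Set (IrrCharacter G)) (hB : IsPBlock M B)
    (hcov : ∃ χ ∈ B, ∃ θ ∈ b, classInner (fun n : N => (χ : G → ℂ) n) (θ : N → ℂ) ≠ 0)
    (H : Subgroup G) [Fintype H] (hNH : N ≤ H) (c : Set (IrrCharacter H))
    (hind : IsInducedBlock M H c B) :
    ∃ ψ ∈ c, ∃ θ ∈ b, classInner (resNT N H hNH (ψ : H → ℂ)) (θ : N → ℂ) ≠ 0 := by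
  classical
  have hMp : M.IsPrime := hM.2.1.isPrime
  obtain ⟨ψ, hψ⟩ := isPBlock_nonempty hind.1
  obtain ⟨χ, hχ, hc⟩ := hcov
  have h1 : omegaFn (χ : G → ℂ) (extendByZero N (blockCoeff b)) = 1 :=
    fg_omega_of_sameBlock N b hb hinv (sameBlock_refl M hMp.ne_top (χ : G → ℂ)) hc
  have h2 := induced_omegaFn_sub H hind hψ hχ (fg_E_isClassFunction N b hb hinv)
    (fg_E_memLocalRing N b hb)
  rw [h1] at h2
  have h3 : omegaFn (ψ : H → ℂ) (extT N H (blockCoeff b)) ≠ 0 := by
    intro h0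
    have e : (fun h : H => extendByZero N (blockCoeff b) (h : G)) = extT N H (blockCoeff b) := rfl
    rw [e, h0, zero_sub] at h2
    have := memLocalIdeal_neg h2
    rw [neg_neg] at this
    exact not_memLocalIdeal_one this
  exact ⟨ψ, hψ, fr_cover_of_omega_ne_zero N H b hNH (irr_isCharacter ψ.2) h3⟩

/-- the subgroup `N N_G(D)` normalizes `N D` -/
theorem kn_sup_normalizer_le (D : Subgroup G) :
    N ⊔ Subgroup.normalizer (D : Set G) ≤ Subgroup.normalizer ((N ⊔ D : Subgroup G) : Set G) := by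
  apply sup_le
  · exact le_sup_left.trans Subgroup.le_normalizer
  · intro x hx
    apply Subgroup.mem_normalizer_fintype
    intro n hn
    have hle : N ⊔ D ≤ (N ⊔ D).comap (MulAut.conj x).toMonoidHom := by
      apply sup_le
      · intro s hs
        rw [Subgroup.mem_comap]
        apply Subgroup.mem_sup_left
        show x * s * x⁻¹ ∈ N
        exact hN.conj_mem s hs x
      · intro s hs
        rw [Subgroup.mem_comap]
        apply Subgroup.mem_sup_right
        show x * s * x⁻¹ ∈ D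
        exact (Subgroup.mem_normalizer_iff.1 hx s).1 hs
    exact hle hn

/-- **Knörr, invariant case**: `D ∩ N` has the order of a defect group of the invariant covered
block -/
theorem kn_invariant_case (p : ℕ) [Fact p.Prime] (hM : IsPModular p M) (hb : IsPBlock M b)
    (hinv : ∀ g : G, ∀ θ ∈ b, ∀ θ' : IrrCharacter N,
      (∀ n : N, (θ' : N → ℂ) n = (θ : N → ℂ) ⟨g * n * g⁻¹, hN.conj_mem n n.2 g⟩) → θ' ∈ b)
    (B : Set (IrrCharacter G)) (hB : IsPBlock M B)
    (hcov : ∃ χ ∈ B, ∃ θ ∈ b, classInner (fun n : N => (χ : G → ℂ) n) (θ : N → ℂ) ≠ 0)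
    (D : Subgroup G) (hD : IsDefectGroup p M B D) :
    Nat.card (D ⊓ N : Subgroup G) = p ^ blockDefect p b := by
  classical
  have hMp : M.IsPrime := hM.2.1.isPrime
  obtain ⟨H, hHdef⟩ : ∃ H : Subgroup G, H = N ⊔ Subgroup.normalizer (D : Set G) := ⟨_, rfl⟩
  have := Fintype.ofFinite ↥H
  have hNH : N ≤ H := hHdef ▸ le_sup_left
  have hnH : Subgroup.normalizer (D : Set G) ≤ H := hHdef ▸ le_sup_right
  have hDH : D ≤ H := Subgroup.le_normalizer.trans hnH
  have hHK : H ≤ Subgroup.normalizer ((N ⊔ D : Subgroup G) : Set G) :=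
    hHdef ▸ kn_sup_normalizer_le N D
  obtain ⟨c, hc, hcD, hind⟩ := kn_brauer_corr p M hM D H (defectGroup_isPGroup p M B D hD) hnH
    B hB hD
  have hcovH := kn_induced_covers N b p hM hb hinv B hB hcov H hNH c hind
  have := Fintype.ofFinite ↥(N.subgroupOf H)
  have hN' : (N.subgroupOf H).Normal := Subgroup.normal_subgroupOf
  obtain ⟨hb', hinv', hcovtr⟩ := kn_rel_setup (M := M) N H hNH hN' b hb (fun g _ => hinv g)
  have hL' : (N.subgroupOf H ⊔ D.subgroupOf H).Normal := by
    rw [← Subgroup.subgroupOf_sup hNH hDH]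
    exact (Subgroup.normal_subgroupOf_iff_le_normalizer (sup_le hNH hDH)).2 hHK
  have key := kn_normal_case (N.subgroupOf H) (transportSet (Subgroup.subgroupOfEquivOfLe hNH) b)
    p hM hb' hinv' c hc ((hcovtr c).2 hcovH) (D.subgroupOf H) hcD hL'
  rw [blockDefect_transportSet] at key
  rw [← key]
  have e1 : D.subgroupOf H ⊓ N.subgroupOf H = (D ⊓ N).subgroupOf H := by
    ext x
    simp only [Subgroup.mem_inf, Subgroup.mem_subgroupOf]
  rw [e1, Cfsg.Agent.helper24.card_subgroupOf_of_le (inf_le_left.trans hDH)]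

end kn2

end Cfsg.Agent.helper1
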