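import Mathlib
import Cfsg.Agent.Lib_helper1_Knorr2

/-!
Knörr's theorem (helper1), part 3: the general case via Fong–Reynolds.
-/

set_option autoImplicit false

namespace Cfsg.Agent.helper1

open Cfsg Cfsg.Agent.helper5 Cfsg.Agent.helper8 Cfsg.Agent.helper24
open scoped ComplexConjugate

universe u

section kn3

variable {G : Type u} [Group G] [Fintype G] {M : Ideal AlgInt}
  (N : Subgroup G) [hN : N.Normal] [Fintype N] (b : Set (IrrCharacter N))

set_option maxHeartbeats 1600000 in
/-- **Knörr's theorem**: a block `B` covering the block `b` of the normal subgroup `N` has a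
defect group `P` stabilizing `b` with `P ∩ N` a defect group of `b` -/
theorem kn_main (p : ℕ) [Fact p.Prime] (hM : IsPModular p M) (hb : IsPBlock M b)
    (B : Set (IrrCharacter G)) (hB : IsPBlock M B)
    (hcov : ∃ χ ∈ B, ∃ θ ∈ b, classInner (fun n : N => (χ : G → ℂ) n) (θ : N → ℂ) ≠ 0) :
    ∃ P : Subgroup G, IsDefectGroup p M B P ∧ (∀ x ∈ P, StabilizesBlock N b x) ∧
      IsDefectGroup p M b ((P ⊓ N).subgroupOf N) := by
  classical
  have hMp : M.IsPrime := hM.2.1.isPrime
  obtain ⟨T, hTdef⟩ : ∃ T : Subgroup G, T = blockStab N b := ⟨_, rfl⟩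
  have := Fintype.ofFinite ↥T
  have hT' : ∀ g : G, g ∈ T ↔ ∀ θ ∈ b, ∀ θ' : IrrCharacter N,
      (∀ n : N, (θ' : N → ℂ) n = (θ : N → ℂ) ⟨g * n * g⁻¹, hN.conj_mem n n.2 g⟩) → θ' ∈ b := by
    intro g
    rw [hTdef]
    exact mem_blockStab_iff N b hb g
  have hNT : N ≤ T := fun x hx =>
    (hT' x).2 ((stabilizes_iff_fr N b hb x).1 (stabilizesBlock_of_mem_self b hx))
  obtain ⟨B', hB', hcov', hind⟩ := fr_block_surj N T b p hM hNT hb hT' B hB hcov
  obtain ⟨D', hD'⟩ := exists_defectGroup p M hM B' hB'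
  have hPG := (fr_defect_height N T b p hM hNT hb hT' B' hB' hcov' B hind).1 D' hD'
  have := Fintype.ofFinite ↥(N.subgroupOf T)
  have hN' : (N.subgroupOf T).Normal := Subgroup.normal_subgroupOf
  obtain ⟨hb', hinv', hcovtr⟩ := kn_rel_setup (M := M) N T hNT hN' b hb
    (fun g hg => (hT' g).1 hg)
  obtain ⟨e, he⟩ : ∃ e : ↥(N.subgroupOf T) ≃* ↥N, e = Subgroup.subgroupOfEquivOfLe hNT :=
    ⟨_, rfl⟩
  rw [← he] at hb' hinv' hcovtr
  have hecoe : ∀ n : ↥(N.subgroupOf T), ((e n : N) : G) = ((n : T) : G) := by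
    intro n
    rw [he]
    rfl
  have key := kn_invariant_case (N.subgroupOf T) (transportSet e b) p hM hb' hinv' B' hB'
    ((hcovtr B').2 hcov') D' hD'
  rw [blockDefect_transportSet] at key
  obtain ⟨Q', hQ'⟩ := exists_defectGroup p M hM (transportSet e b) hb'
  obtain ⟨x', hx'⟩ := fg_inf_le (N.subgroupOf T) (transportSet e b) p hM hb' hinv' B' hB'
    ((hcovtr B').2 hcov') D' hD' Q' hQ'
  have hD'p : IsPGroup p D' := defectGroup_isPGroup p M B' D' hD'
  have hRp' : IsPGroup p ((D' ⊓ N.subgroupOf T).subgroupOf (N.subgroupOf T)) :=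
    (hD'p.to_le inf_le_left).comap_subtype
  obtain ⟨g', hg'R, hg'J, c', hconj, hc'⟩ :=
    (brauer_nonzero_iff p M hM (transportSet e b) hb' Q' hQ'
      ((D' ⊓ N.subgroupOf T).subgroupOf (N.subgroupOf T)) hRp').2 ⟨x', hx'⟩
  have hPN : D'.map T.subtype ⊓ N = (D' ⊓ N.subgroupOf T).map T.subtype := by
    rw [Subgroup.map_inf _ _ _ (Subgroup.subtype_injective T), Subgroup.subgroupOf_map_subtype,
      inf_eq_left.2 hNT]
  refine ⟨D'.map T.subtype, hPG, ?_, ?_⟩
  · rintro _ ⟨d, -, rfl⟩
    exact (stabilizes_iff_fr N b hb _).2 ((hT' _).1 d.2)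
  · apply kn_isDefectGroup_of_card p hM b hb
    · exact ((hD'p.map T.subtype).to_le inf_le_left).comap_subtype
    · rw [Cfsg.Agent.helper24.card_subgroupOf_of_le inf_le_right, hPN,
        Subgroup.card_map_of_injective (Subgroup.subtype_injective T), key]
    · refine ⟨e g', ?_, ?_, e c', e.toMonoidHom.map_isConj hconj, ?_⟩
      · rw [← blockCoeff_transportSet]
        exact hg'R
      · rw [← blockCoeff_transportSet]
        exact hg'J
      · rw [Subgroup.mem_centralizer_iff]
        intro s hs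
        have hsP : (s : G) ∈ D'.map T.subtype ⊓ N := Subgroup.mem_subgroupOf.1 hs
        obtain ⟨d, hd, hds⟩ := hsP.1
        have hs' : e.symm s ∈ (D' ⊓ N.subgroupOf T).subgroupOf (N.subgroupOf T) := by
          rw [Subgroup.mem_subgroupOf]
          refine ⟨?_, (e.symm s).2⟩
          have : ((e.symm s : ↥(N.subgroupOf T)) : T) = d := by
            apply Subtype.ext
            rw [← hecoe, MulEquiv.apply_symm_apply]
            exact hds.symm
          rw [this]
          exact hd
        have h1 := Subgroup.mem_centralizer_iff.1 hc' (e.symm s) hs'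
        have h2 := congrArg e h1
        rw [map_mul, map_mul, MulEquiv.apply_symm_apply] at h2
        exact h2

end kn3

end Cfsg.Agent.helper1
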