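import Mathlib
import Cfsg.Agent.Lib_helper1_Knorr3

/-!
Harris–Knörr (helper1), part 4: sums of block idempotents over a `G`-orbit of blocks of a normal
subgroup, and the conjugacy of the blocks covered by a given block.
-/

set_option autoImplicit false

namespace Cfsg.Agent.helper1

open Cfsg Cfsg.Agent.helper5 Cfsg.Agent.helper8 Cfsg.Agent.helper24
open scoped ComplexConjugate

universe u

section union

variable {G : Type u} [Group G] [Fintype G] {M : Ideal AlgInt}

/-- a union of blocks has an idempotent with local coefficients -/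
theorem kn_blockCoeff_local_of_union [hMp : M.IsPrime]
    (A : Set (IrrCharacter G)) (hA : ∀ χ ∈ A, blockOf M (χ : G → ℂ) ⊆ A) (g : G) :
    MemLocalRing M (blockCoeff A g) := by
  classical
  have := Fintype.ofFinite (IrrCharacter G)
  let R : Setoid (IrrCharacter G) := ⟨fun χ ψ => SameBlock M (χ : G → ℂ) (ψ : G → ℂ),
    ⟨fun χ => sameBlock_refl M hMp.ne_top _, fun h => sameBlock_symm h,
      fun h1 h2 => sameBlock_trans h1 h2⟩⟩
  rw [blockCoeff_eq_sum, Finset.sum_partition R, Finset.mul_sum]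
  apply memLocalRing_sum
  intro xbar hx
  rw [Finset.mem_image] at hx
  obtain ⟨χ, hχ, rfl⟩ := hx
  rw [Finset.mem_filter] at hχ
  have h1 := blockCoeff_memLocalRing_of_isPBlock (M := M)
    (⟨χ, rfl⟩ : IsPBlock M (blockOf M (χ : G → ℂ))) g
  rw [blockCoeff_eq_sum] at h1
  convert h1 using 3
  ext ψ
  simp only [Finset.mem_filter, Finset.mem_univ, true_and]
  constructor
  · rintro ⟨hψA, hψ⟩
    have h2 : R.r ψ χ := Quotient.exact hψ
    exact sameBlock_symm h2
  · intro hψ
    refine ⟨hA χ hχ.2 hψ, Quotient.sound ?_⟩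
    exact sameBlock_symm hψ

end union

section orbit

variable {G : Type u} [Group G] [Fintype G] {M : Ideal AlgInt}
  (N : Subgroup G) [hN : N.Normal] [Fintype N]

/-- the union of the `G`-conjugates of a set of irreducible characters of `N` -/
def orbU (d : Set (IrrCharacter N)) : Set (IrrCharacter N) :=
  {φ | ∃ g : G, φ ∈ transportSet (MulAut.conjNormal g : N ≃* N) d}

omit [Fintype G] [Fintype N] in
theorem subset_orbU (d : Set (IrrCharacter N)) : d ⊆ orbU N d := by
  intro θ hθ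
  refine ⟨1, ?_⟩
  rw [map_one, MulAut.one_def, transportSet_refl]
  exact hθ

theorem orbU_union [hMp : M.IsPrime] (d : Set (IrrCharacter N)) (hd : IsPBlock M d) :
    ∀ φ ∈ orbU N d, blockOf M (φ : N → ℂ) ⊆ orbU N d := by
  rintro φ ⟨g, hg⟩ ψ hψ
  refine ⟨g, ?_⟩
  have h1 := isPBlock_transportSet (M := M) (MulAut.conjNormal g : N ≃* N) d hd
  rw [← blockOf_eq_of_mem h1 hg]
  exact hψ

omit [Fintype G] [Fintype N] in
theorem orbU_stable (d : Set (IrrCharacter N)) (x : G) :
    transportSet (MulAut.conjNormal x : N ≃* N) (orbU N d) = orbU N d := by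
  ext φ
  constructor
  · rintro ⟨φ₁, ⟨g, hg⟩, hφ⟩
    refine ⟨g * x, ?_⟩
    rw [map_mul, MulAut.mul_def, transportSet_trans]
    exact ⟨φ₁, hg, hφ⟩
  · rintro ⟨g, hg⟩
    have h1 : (MulAut.conjNormal g : N ≃* N) =
        (MulAut.conjNormal x : N ≃* N).trans (MulAut.conjNormal (g * x⁻¹) : N ≃* N) := by
      rw [← MulAut.mul_def, ← map_mul, inv_mul_cancel_right]
    rw [h1, transportSet_trans] at hg
    obtain ⟨φ₁, hφ₁, hφ⟩ := hg
    exact ⟨φ₁, ⟨g * x⁻¹, hφ₁⟩, hφ⟩

theorem orbU_coeff_inv (d : Set (IrrCharacter N)) (x : G) (n : N) :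
    blockCoeff (orbU N d) ⟨x * n * x⁻¹, hN.conj_mem n n.2 x⟩ = blockCoeff (orbU N d) n := by
  have h1 := blockCoeff_transportSet (MulAut.conjNormal x : N ≃* N) (orbU N d) n
  rw [orbU_stable] at h1
  rw [h1]
  rfl

theorem orbU_isClassFunction (d : Set (IrrCharacter N)) :
    IsClassFunction G (extendByZero N (blockCoeff (orbU N d))) := by
  intro g k
  by_cases hg : g ∈ N
  · rw [extendByZero_of_mem N _ _ (hN.conj_mem g hg k), extendByZero_of_mem N _ _ hg]
    exact orbU_coeff_inv N d k ⟨g, hg⟩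
  · have h1 : k * g * k⁻¹ ∉ N := by
      intro h
      apply hg
      have h2 := hN.conj_mem _ h k⁻¹
      have h3 : k⁻¹ * (k * g * k⁻¹) * k⁻¹⁻¹ = g := by group
      rwa [h3] at h2
    rw [extendByZero_of_not_mem N _ _ h1, extendByZero_of_not_mem N _ _ hg]

theorem orbU_memLocalRing [hMp : M.IsPrime] (d : Set (IrrCharacter N)) (hd : IsPBlock M d)
    (g : G) : MemLocalRing M (extendByZero N (blockCoeff (orbU N d)) g) := by
  by_cases hg : g ∈ N
  · rw [extendByZero_of_mem N _ _ hg]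
    exact kn_blockCoeff_local_of_union _ (orbU_union N d hd) _
  · rw [extendByZero_of_not_mem N _ _ hg]
    exact memLocalRing_zero hMp.ne_top

open Classical in
/-- the action of the orbit sum on a character of `G` -/
theorem orbU_omega [hMp : M.IsPrime] (d : Set (IrrCharacter N))
    {χ : G → ℂ} (hχ : IsIrrCharacter G χ) {θ : IrrCharacter N}
    (hunder : classInner (res N χ) (θ : N → ℂ) ≠ 0) :
    omegaFn χ (extendByZero N (blockCoeff (orbU N d))) = if θ ∈ orbU N d then 1 else 0 := by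
  rw [Cover.omegaFn_of_under N (orbU_isClassFunction N d)
    (fun g hg => extendByZero_of_not_mem N _ g hg) hχ θ.2 hunder, fg_res_E, omegaFn_blockCoeff]

/-- covering is invariant under conjugation -/
theorem kn_cover_conj (d : Set (IrrCharacter N)) (χ : IrrCharacter G) (g : G)
    (φ : IrrCharacter N) (hφ : φ ∈ transportSet (MulAut.conjNormal g : N ≃* N) d)
    (hne : classInner (fun n : N => (χ : G → ℂ) n) (φ : N → ℂ) ≠ 0) :
    ∃ θ ∈ d, classInner (fun n : N => (χ : G → ℂ) n) (θ : N → ℂ) ≠ 0 := by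
  obtain ⟨θ, hθ, hφθ⟩ := hφ
  refine ⟨θ, hθ, ?_⟩
  have hcl : IsClassFunction G (χ : G → ℂ) := char_isClassFunction (irr_isCharacter χ.2)
  have h1 : (fun n : N => (χ : G → ℂ) n) =
      fun n : N => (fun m : N => (χ : G → ℂ) m) ((MulAut.conjNormal g : N ≃* N) n) := by
    funext n
    show (χ : G → ℂ) n = (χ : G → ℂ) (((MulAut.conjNormal g : N ≃* N) n : N) : G)
    rw [MulAut.conjNormal_apply]
    exact (hcl (n : G) g).symm
  have h3 := Cfsg.Agent.helper12.classInner_comp_mulEquiv (MulAut.conjNormal g : N ≃* N)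
    (fun m : N => (χ : G → ℂ) m) (θ : N → ℂ)
  rw [h1, hφθ] at hne
  intro h0
  exact hne (h3.trans h0)

/-- **the blocks of `N` covered by a block of `G` are conjugate** -/
theorem kn_cover_orbit (p : ℕ) [Fact p.Prime] (hM : IsPModular p M)
    (d : Set (IrrCharacter N)) (hd : IsPBlock M d)
    (B : Set (IrrCharacter G)) (hB : IsPBlock M B)
    (hcov : ∃ χ ∈ B, ∃ θ ∈ d, classInner (fun n : N => (χ : G → ℂ) n) (θ : N → ℂ) ≠ 0)
    (χ' : IrrCharacter G) (hχ' : χ' ∈ B) (θ' : IrrCharacter N)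
    (hne' : classInner (fun n : N => (χ' : G → ℂ) n) (θ' : N → ℂ) ≠ 0) :
    θ' ∈ orbU N d := by
  classical
  have hMp : M.IsPrime := hM.2.1.isPrime
  obtain ⟨χ, hχ, θ, hθ, hne⟩ := hcov
  have h1 := orbU_omega (M := M) N d χ.2 (θ := θ) hne
  rw [if_pos (subset_orbU N d hθ)] at h1
  have h2 := orbU_omega (M := M) N d χ'.2 (θ := θ') hne'
  have hs : SameBlock M (χ : G → ℂ) (χ' : G → ℂ) := by
    rw [← blockOf_eq_of_mem hB hχ] at hχ'
    exact hχ'
  have h3 := omegaFn_sub_memLocalIdeal (M := M) hs (orbU_isClassFunction N d)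
    (orbU_memLocalRing N d hd)
  by_contra hcon
  rw [h1, h2, if_neg hcon, sub_zero] at h3
  exact not_memLocalIdeal_one h3

end orbit

end Cfsg.Agent.helper1
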