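import Mathlib
import Cfsg.Agent.Lib_helper1_AD5
import Cfsg.Agent.Lib_helper1_Knorr4
import Cfsg.Agent.Lib_helper8_Cover

set_option autoImplicit false
set_option linter.unusedSectionVars false
set_option linter.unusedVariables false
set_option linter.style.longLine false
set_option linter.style.haveILetI false

/-!
Alperin–Dade (helper1), part 6: the theorem.
-/

namespace Cfsg.Agent.helper1

open Cfsg Cfsg.Agent.helper24
open scoped ComplexConjugate

universe u

section Main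
variable {G : Type u} [Group G] [Fintype G]

/-- **Dade's extension**: every member of the principal block of `N` extends to an irreducible
character of `G` congruent to its degree on `C(P)` -/
theorem ad_main_exists (p : ℕ) [Fact p.Prime] {M : Ideal AlgInt} (hM : IsPModular p M)
    (N : Subgroup G) [hN : N.Normal] (hidx : ¬ p ∣ N.index) (P : Sylow p G)
    (hsup : N ⊔ Subgroup.centralizer ((P : Subgroup G) : Set G) = ⊤)
    (θ : IrrCharacter ↥N) (hθ : θ ∈ principalBlock M ↥N) :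
    ∃ χ : G → ℂ, IsIrrCharacter G χ ∧ (∀ n : ↥N, χ n = (θ : ↥N → ℂ) n) ∧
      adP M (Subgroup.centralizer ((P : Subgroup G) : Set G)) χ := by
  have hPN := ad_sylow_le p N hidx P
  obtain ⟨χ, hW⟩ := ad_tilde_exists p hM N hidx P hsup θ hθ
  have D : ADData p M N (Subgroup.centralizer ((P : Subgroup G) : Set G)) (θ : ↥N → ℂ) χ :=
    ⟨hM, hidx, hsup, θ.2, fun H hH => by
      haveI := hH
      exact ad_good_exists p hM N P hPN hsup θ hθ H, hW⟩
  exact ⟨χ, D.irr, D.ext_theta, D.adP⟩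

/-- **Alperin–Dade** -/
theorem ad_theorem (p : ℕ) [Fact p.Prime] {M : Ideal AlgInt} (hM : IsPModular p M)
    (N : Subgroup G) [hN : N.Normal] (hidx : ¬ p ∣ N.index) (P : Sylow p G)
    (hsup : N ⊔ Subgroup.centralizer ((P : Subgroup G) : Set G) = ⊤) :
    (∀ χ ∈ principalBlock M G, ∃ θ ∈ principalBlock M ↥N,
      ∀ n : ↥N, (χ : G → ℂ) n = (θ : ↥N → ℂ) n) ∧
    ∀ θ ∈ principalBlock M ↥N, ∃! χ : IrrCharacter G,
      χ ∈ principalBlock M G ∧ ∀ n : ↥N, (χ : G → ℂ) n = (θ : ↥N → ℂ) n := by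
  classical
  haveI : Fintype ↥N := Fintype.ofFinite _
  have hMp : M.IsPrime := hM.2.1.isPrime
  -- key: anything in the principal block of `G` over `θ ∈ B₀(N)` is Dade's extension
  have key : ∀ θ ∈ principalBlock M ↥N, ∀ χ₀ : G → ℂ, IsIrrCharacter G χ₀ →
      (∀ n : ↥N, χ₀ n = (θ : ↥N → ℂ) n) →
      adP M (Subgroup.centralizer ((P : Subgroup G) : Set G)) χ₀ →
      ∀ χ ∈ principalBlock M G, classInner (helper5.res N (χ : G → ℂ)) (θ : ↥N → ℂ) ≠ 0 →
        (χ : G → ℂ) = χ₀ := by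
    intro θ hθ χ₀ hχ₀ hext hP₀ χ hχ hne
    have hres : helper5.res N χ₀ = (θ : ↥N → ℂ) := funext hext
    exact ad_unique N p hM hidx _ hsup hχ₀ (by rw [hres]; exact θ.2) hP₀ χ.2
      (by rw [hres]; exact hne) (ad_val_cen p hM P χ hχ)
  constructor
  · intro χ hχ
    obtain ⟨θ', hne'⟩ := helper8.Cover.exists_under N χ.2
    have horb := kn_cover_orbit (M := M) N p hM (principalBlock M ↥N) (isPBlock_principalBlock M)
      (principalBlock M G) (isPBlock_principalBlock M) (ad_princ_cov N M hMp.ne_top) χ hχ θ' hne'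
    obtain ⟨g, θ'', hθ'', hθeq⟩ := horb
    have hmem := comp_mulEquiv_mem_principalBlock (MulAut.conjNormal g : ↥N ≃* ↥N) p M hM θ'' hθ''
    have hθ'mem : θ' ∈ principalBlock M ↥N := by
      have : θ' = ⟨fun h => (θ'' : ↥N → ℂ) ((MulAut.conjNormal g : ↥N ≃* ↥N) h),
          helper8.isIrrCharacter_comp_mulEquiv _ θ''.2⟩ := Subtype.ext hθeq
      rw [this]
      exact hmem
    obtain ⟨χ₀, hχ₀, hext, hP₀⟩ := ad_main_exists p hM N hidx P hsup θ' hθ'mem
    have := key θ' hθ'mem χ₀ hχ₀ hext hP₀ χ hχ hne'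
    refine ⟨θ', hθ'mem, fun n => ?_⟩
    rw [this]
    exact hext n
  · intro θ hθ
    obtain ⟨χ₀, hχ₀, hext, hP₀⟩ := ad_main_exists p hM N hidx P hsup θ hθ
    obtain ⟨χ', hχ', hne⟩ := cover_all N p M hM (principalBlock M G) (isPBlock_principalBlock M)
      (principalBlock M ↥N) (isPBlock_principalBlock M) (ad_princ_cov N M hMp.ne_top) θ hθ
    have h1 := key θ hθ χ₀ hχ₀ hext hP₀ χ' hχ' hne
    refine ⟨χ', ⟨hχ', fun n => by rw [h1]; exact hext n⟩, ?_⟩
    rintro χ ⟨hχ, hχext⟩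
    apply Subtype.ext
    have hres : helper5.res N (χ : G → ℂ) = (θ : ↥N → ℂ) := funext hχext
    have h2 := key θ hθ χ₀ hχ₀ hext hP₀ χ hχ
      (by rw [hres, irr_classInner_self θ.2]; exact one_ne_zero)
    rw [h2, h1]

end Main

end Cfsg.Agent.helper1
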