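import Mathlib
import Cfsg.Agent.Lib_helper1_AD6
import Cfsg.Agent.Lib_helper1_ConjChar
import Cfsg.Agent.Lib_helper1_PrincCover
import Cfsg.Agent.Lib_helper22_ExtLin

set_option autoImplicit false
set_option linter.unusedSectionVars false
set_option linter.unusedVariables false
set_option linter.style.longLine false
set_option linter.style.haveILetI false

/-!
Alperin–Dade (helper1), part 7: for an extension `ψ` of `θ ∈ B₀(K)` (index prime to `p`,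
`Γ = K C(P)`), the `p`-regular coset sums of `ψ` are `s · conj λ` for a linear character `λ`.
-/

namespace Cfsg.Agent.helper1

open Cfsg Cfsg.Agent.helper24
open scoped ComplexConjugate

universe u

section Twist
variable {Γ : Type u} [Group Γ] [Fintype Γ]

/-- the `p`-regular coset sum of `ψ` over the coset `y K` -/
noncomputable def adF (p : ℕ) (K : Subgroup Γ) [Fintype K] (ψ : Γ → ℂ) (y : Γ) : ℂ :=
  ∑ k : K, if ¬ p ∣ orderOf (y * (k : Γ)) then ψ (y * k) else 0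

variable (K : Subgroup Γ) [hK : K.Normal] [Fintype K]

theorem ad_lin_twist (p : ℕ) [Fact p.Prime] {M : Ideal AlgInt} (hM : IsPModular p M)
    (hidx : ¬ p ∣ K.index) (P : Sylow p Γ)
    (hsup : K ⊔ Subgroup.centralizer ((P : Subgroup Γ) : Set Γ) = ⊤)
    {ψ : Γ → ℂ} (hψ : IsIrrCharacter Γ ψ) (θ : IrrCharacter K) (hθ : θ ∈ principalBlock M K)
    (hres : helper5.res K ψ = (θ : K → ℂ)) :
    ∃ lam : Γ → ℂ, IsCharacter Γ lam ∧ lam 1 = 1 ∧
      ∀ y : Γ, lam y * adF p K ψ y = adF p K ψ 1 := by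
  classical
  have hMp : M.IsPrime := hM.2.1.isPrime
  haveI : Fintype (IrrCharacter (Γ ⧸ K)) := Fintype.ofFinite _
  haveI : Fintype (Γ ⧸ K) := Fintype.ofFinite _
  obtain ⟨hpart1, hpart2⟩ := ad_theorem (M := M) p hM K hidx P hsup
  obtain ⟨ξ, ⟨hξB, hξext⟩, hξuniq⟩ := hpart2 θ hθ
  have hθirr : IsIrrCharacter K (helper5.res K ψ) := hres ▸ θ.2
  obtain ⟨g1, g2, g3⟩ := helper22.gallagher K hψ hθirr
  have hξres : helper5.res K (ξ : Γ → ℂ) = (θ : K → ℂ) := funext hξext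
  obtain ⟨β₀, hβ₀⟩ := g3 ξ ξ.2 (by rw [hξres, hres, irr_classInner_self θ.2]; exact one_ne_zero)
  have hψ1 : ψ 1 ≠ 0 := by
    rw [← char_charDegree_cast (irr_isCharacter hψ)]
    exact_mod_cast (irr_charDegree_pos hψ).ne'
  have hψθ1 : ψ 1 = (θ : K → ℂ) 1 := congrFun hres 1
  have hβ₀1 : (β₀ : Γ ⧸ K → ℂ) 1 = 1 := by
    have h1 : (ξ : Γ → ℂ) 1 = ψ 1 := by
      rw [hψθ1]; exact hξext 1
    have h2 : (ξ : Γ → ℂ) 1 = (β₀ : Γ ⧸ K → ℂ) 1 * ψ 1 := by rw [hβ₀]; rfl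
    rw [h1] at h2
    have h3 : (1 : ℂ) * ψ 1 = (β₀ : Γ ⧸ K → ℂ) 1 * ψ 1 := by rw [one_mul]; exact h2
    exact (mul_right_cancel₀ hψ1 h3).symm
  -- the twisted sums vanish for β ≠ β₀
  have hzero : ∀ β : IrrCharacter (Γ ⧸ K), β ≠ β₀ →
      ∑ x ∈ Finset.univ.filter (fun x : Γ => ¬ p ∣ orderOf x),
        (β : Γ ⧸ K → ℂ) (x : Γ ⧸ K) * ψ x = 0 := by
    intro β hβ
    by_contra hne
    have hζB : (⟨helper22.infl K (β : Γ ⧸ K → ℂ) * ψ, g1 β⟩ : IrrCharacter Γ) ∈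
        principalBlock M Γ :=
      (mem_principalBlock_iff_sum_ne_zero p M hM _).mpr hne
    obtain ⟨θ'', hθ''B, hθ''⟩ := hpart1 _ hζB
    have hζK : ∀ k : K, (helper22.infl K (β : Γ ⧸ K → ℂ) * ψ) (k : Γ) =
        (β : Γ ⧸ K → ℂ) 1 * (θ : K → ℂ) k := by
      intro k
      show helper22.infl K (β : Γ ⧸ K → ℂ) (k : Γ) * ψ k = _
      rw [helper22.infl_apply, (QuotientGroup.eq_one_iff (k : Γ)).mpr k.2, ← hres]
      rfl
    have hθ''eq : (θ'' : K → ℂ) = ((β : Γ ⧸ K → ℂ) 1) • (θ : K → ℂ) := by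
      funext k
      rw [← hθ'' k]
      exact hζK k
    obtain ⟨d, hd0, hd⟩ := irr_apply_one β.2
    have hnorm := irr_classInner_self θ''.2
    rw [hθ''eq, classInner_smul_left, helper8.classInner_smul_right, irr_classInner_self θ.2,
      hd, Complex.conj_natCast, mul_one] at hnorm
    have hd1 : d = 1 := by
      have : d * d = 1 := by exact_mod_cast hnorm
      exact Nat.eq_one_of_mul_eq_one_right this
    have hext' : ∀ k : K, ((⟨helper22.infl K (β : Γ ⧸ K → ℂ) * ψ, g1 β⟩ : IrrCharacter Γ) : Γ → ℂ) k =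
        (θ : K → ℂ) k := by
      intro k
      have := hζK k
      rw [hd, hd1, Nat.cast_one, one_mul] at this
      exact this
    have h4 := hξuniq _ ⟨hζB, hext'⟩
    have h5 : helper22.infl K (β : Γ ⧸ K → ℂ) * ψ = helper22.infl K (β₀ : Γ ⧸ K → ℂ) * ψ := by
      rw [← hβ₀]
      exact congrArg Subtype.val h4
    exact hβ (g2 β β₀ h5)
  -- the coset-sum function on the quotient
  obtain ⟨Fb, hFb⟩ : ∃ Fb : Γ ⧸ K → ℂ, Fb = fun q => ∑ x : Γ,
      if ((x : Γ ⧸ K) = q ∧ ¬ p ∣ orderOf x) then ψ x else 0 := ⟨_, rfl⟩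
  have hψcf : IsClassFunction Γ ψ := char_isClassFunction (irr_isCharacter hψ)
  have hFbcf : IsClassFunction (Γ ⧸ K) Fb := by
    intro q a
    obtain ⟨g, rfl⟩ := QuotientGroup.mk_surjective a
    rw [hFb]
    show ∑ x : Γ, (if ((x : Γ ⧸ K) = (g : Γ ⧸ K) * q * (g : Γ ⧸ K)⁻¹ ∧ ¬ p ∣ orderOf x) then ψ x else 0) =
      ∑ x : Γ, (if ((x : Γ ⧸ K) = q ∧ ¬ p ∣ orderOf x) then ψ x else 0)
    rw [← Equiv.sum_comp (MulAut.conj g).toEquiv]
    apply Finset.sum_congr rfl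
    intro x _
    have e1 : ((MulAut.conj g).toEquiv x : Γ) = g * x * g⁻¹ := rfl
    have e2 : orderOf (g * x * g⁻¹) = orderOf x := MulEquiv.orderOf_eq (MulAut.conj g) x
    rw [e1, hψcf x g, e2]
    have hiff : (((g * x * g⁻¹ : Γ) : Γ ⧸ K) = (g : Γ ⧸ K) * q * (g : Γ ⧸ K)⁻¹) ↔ ((x : Γ ⧸ K) = q) := by
      rw [QuotientGroup.mk_mul, QuotientGroup.mk_mul, QuotientGroup.mk_inv]
      constructor
      · intro h
        have := congrArg (fun z => (g : Γ ⧸ K)⁻¹ * z * (g : Γ ⧸ K)) h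
        simpa [mul_assoc] using this
      · intro h; rw [h]
    simp only [hiff]
  have hT : ∀ β : IrrCharacter (Γ ⧸ K), ∑ q : Γ ⧸ K, (β : Γ ⧸ K → ℂ) q * Fb q =
      ∑ x ∈ Finset.univ.filter (fun x : Γ => ¬ p ∣ orderOf x),
        (β : Γ ⧸ K → ℂ) (x : Γ ⧸ K) * ψ x := by
    intro β
    rw [hFb]
    simp only [Finset.mul_sum]
    rw [Finset.sum_comm, Finset.sum_filter]
    apply Finset.sum_congr rfl
    intro x _
    by_cases hx : ¬ p ∣ orderOf x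
    · rw [if_pos hx]
      rw [Finset.sum_eq_single (x : Γ ⧸ K)]
      · rw [if_pos ⟨rfl, hx⟩]
      · intro q _ hq
        rw [if_neg (fun h => hq h.1.symm), mul_zero]
      · intro h; exact absurd (Finset.mem_univ _) h
    · rw [if_neg hx]
      apply Finset.sum_eq_zero
      intro q _
      rw [if_neg (fun h => hx h.2), mul_zero]
  -- expansion
  have hexp := classFunction_expansion hFbcf
  obtain ⟨βc, hβc⟩ : ∃ βc : IrrCharacter (Γ ⧸ K), (βc : Γ ⧸ K → ℂ) = fun q => conj ((β₀ : Γ ⧸ K → ℂ) q) :=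
    ⟨⟨_, isIrrCharacter_conj β₀.2⟩, rfl⟩
  have hcoef : ∀ β : IrrCharacter (Γ ⧸ K), β ≠ βc → classInner Fb (β : Γ ⧸ K → ℂ) = 0 := by
    intro β hβ
    obtain ⟨β', hβ'⟩ : ∃ β' : IrrCharacter (Γ ⧸ K), (β' : Γ ⧸ K → ℂ) = fun q => conj ((β : Γ ⧸ K → ℂ) q) :=
      ⟨⟨_, isIrrCharacter_conj β.2⟩, rfl⟩
    have hne : β' ≠ β₀ := by
      intro h
      apply hβ
      apply Subtype.ext
      rw [hβc, ← h, hβ']
      funext q
      rw [Complex.conj_conj]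
    have h1 := hzero β' hne
    rw [← hT β'] at h1
    unfold classInner
    rw [show (∑ q : Γ ⧸ K, Fb q * conj ((β : Γ ⧸ K → ℂ) q)) = ∑ q : Γ ⧸ K, (β' : Γ ⧸ K → ℂ) q * Fb q from
      Finset.sum_congr rfl (fun q _ => by rw [hβ']; ring), h1, mul_zero]
  have hFbeq : Fb = classInner Fb (βc : Γ ⧸ K → ℂ) • (βc : Γ ⧸ K → ℂ) := by
    conv_lhs => rw [hexp]
    rw [Finset.sum_eq_single βc]
    · intro β _ hβ
      rw [hcoef β hβ, zero_smul]
    · intro h; exact absurd (Finset.mem_univ _) h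
  -- β₀ is a homomorphism
  obtain ⟨φ, hφ⟩ := (helper22.linear_iff_hom (χ := (β₀ : Γ ⧸ K → ℂ))).mp ⟨irr_isCharacter β₀.2, hβ₀1⟩
  have hunit : ∀ q : Γ ⧸ K, conj ((β₀ : Γ ⧸ K → ℂ) q) * (β₀ : Γ ⧸ K → ℂ) q = 1 := by
    intro q
    rw [← char_inv (irr_isCharacter β₀.2) q, hφ, hφ, map_inv]
    simp
  have hkey : ∀ q : Γ ⧸ K, (β₀ : Γ ⧸ K → ℂ) q * Fb q = Fb 1 := by
    intro q
    have h1 : Fb q = classInner Fb (βc : Γ ⧸ K → ℂ) * conj ((β₀ : Γ ⧸ K → ℂ) q) := by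
      conv_lhs => rw [hFbeq]
      rw [Pi.smul_apply, smul_eq_mul, congrFun hβc q]
    have h2 : Fb 1 = classInner Fb (βc : Γ ⧸ K → ℂ) := by
      conv_lhs => rw [hFbeq]
      rw [Pi.smul_apply, smul_eq_mul, congrFun hβc 1, hβ₀1, map_one, mul_one]
    rw [h1, h2]
    have := hunit q
    calc (β₀ : Γ ⧸ K → ℂ) q * (classInner Fb (βc : Γ ⧸ K → ℂ) * conj ((β₀ : Γ ⧸ K → ℂ) q))
        = classInner Fb (βc : Γ ⧸ K → ℂ) * (conj ((β₀ : Γ ⧸ K → ℂ) q) * (β₀ : Γ ⧸ K → ℂ) q) := by ring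
      _ = classInner Fb (βc : Γ ⧸ K → ℂ) := by rw [this, mul_one]
  -- translate to coset sums
  have hcos : ∀ y : Γ, Fb (y : Γ ⧸ K) = adF p K ψ y := by
    intro y
    rw [hFb]
    unfold adF
    show (∑ x : Γ, if ((x : Γ ⧸ K) = (y : Γ ⧸ K) ∧ ¬ p ∣ orderOf x) then ψ x else 0) = _
    rw [← mg_sum_subgroup K (fun z => if ¬ p ∣ orderOf (y * z) then ψ (y * z) else 0)]
    rw [(Equiv.sum_comp (Equiv.mulLeft y)
      (fun x : Γ => if ((x : Γ ⧸ K) = (y : Γ ⧸ K) ∧ ¬ p ∣ orderOf x) then ψ x else 0)).symm]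
    apply Finset.sum_congr rfl
    intro z _
    have hiff : ((Equiv.mulLeft y z : Γ) : Γ ⧸ K) = (y : Γ ⧸ K) ↔ z ∈ K := by
      rw [Equiv.coe_mulLeft, eq_comm, QuotientGroup.eq, inv_mul_cancel_left]
    by_cases hz : z ∈ K
    · rw [if_pos hz]
      by_cases hp : ¬ p ∣ orderOf (y * z)
      · rw [if_pos hp, if_pos ⟨hiff.mpr hz, hp⟩]; rfl
      · rw [if_neg hp, if_neg (fun h => hp h.2)]
    · rw [if_neg hz, if_neg (fun h => hz (hiff.mp h.1))]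
  refine ⟨helper22.infl K (β₀ : Γ ⧸ K → ℂ), char_inflation K (irr_isCharacter β₀.2), ?_, ?_⟩
  · rw [helper22.infl_apply]; exact hβ₀1
  · intro y
    rw [helper22.infl_apply, ← hcos y, ← hcos 1]
    exact hkey (y : Γ ⧸ K)

end Twist

end Cfsg.Agent.helper1
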