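import Mathlib
import Cfsg.Agent.Lib_helper1_AD7

set_option autoImplicit false
set_option linter.unusedSectionVars false
set_option linter.unusedVariables false
set_option linter.style.longLine false
set_option linter.style.haveILetI false

/-!
Alperin–Dade (helper1), part 8: `N ⊴ G`, `P ∈ Syl_p(N)`, `G = N C_G(P)`; tools for the canonical
principal-block extension.
-/

namespace Cfsg.Agent.helper1

open Cfsg Cfsg.Agent.helper24
open scoped ComplexConjugate

universe u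

section PowHom
variable {E : Type u} [Group E] [Finite E]

/-- the `k`-th power map is an endomorphism when `[E : Z(E)]` divides `k` or `k - 1` -/
theorem ad_center_commute (a b : Subgroup.center E) : Commute a b := by
  apply Subtype.ext
  show (a : E) * b = b * a
  exact (Subgroup.mem_center_iff.mp a.2 b).symm

/-- the `k`-th power map is an endomorphism when `[E : Z(E)]` divides `k` or `k - 1` -/
theorem ad_pow_hom (k : ℕ)
    (hk : (Subgroup.center E).index ∣ k ∨ (1 ≤ k ∧ (Subgroup.center E).index ∣ k - 1)) :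
    ∃ π : E →* E, ∀ e : E, π e = e ^ k := by
  rcases hk with ⟨t, ht⟩ | ⟨hk1, t, ht⟩
  · refine ⟨MonoidHom.mk' (fun e => ((MonoidHom.transferCenterPow E e) ^ t : Subgroup.center E).1) ?_, ?_⟩
    · intro a b
      show (((MonoidHom.transferCenterPow E (a * b)) ^ t : Subgroup.center E).1 : E) = _
      rw [map_mul, (ad_center_commute (MonoidHom.transferCenterPow E a) (MonoidHom.transferCenterPow E b)).mul_pow,
        Subgroup.coe_mul]
    · intro e
      show ((MonoidHom.transferCenterPow E e) ^ t : Subgroup.center E).1 = e ^ k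
      rw [Subgroup.coe_pow, MonoidHom.transferCenterPow_apply, ← pow_mul, ← ht]
  · have hcen : ∀ (a b : E), b * ((MonoidHom.transferCenterPow E a) ^ t : Subgroup.center E).1 =
        ((MonoidHom.transferCenterPow E a) ^ t : Subgroup.center E).1 * b := fun a b =>
      (Subgroup.mem_center_iff.mp ((MonoidHom.transferCenterPow E a) ^ t : Subgroup.center E).2 b)
    refine ⟨MonoidHom.mk' (fun e => e * ((MonoidHom.transferCenterPow E e) ^ t : Subgroup.center E).1) ?_, ?_⟩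
    · intro a b
      show a * b * ((MonoidHom.transferCenterPow E (a * b)) ^ t : Subgroup.center E).1 = _
      rw [map_mul, (ad_center_commute (MonoidHom.transferCenterPow E a) (MonoidHom.transferCenterPow E b)).mul_pow,
        Subgroup.coe_mul]
      calc a * b * (((MonoidHom.transferCenterPow E a) ^ t : Subgroup.center E).1 *
            ((MonoidHom.transferCenterPow E b) ^ t : Subgroup.center E).1)
          = a * (b * ((MonoidHom.transferCenterPow E a) ^ t : Subgroup.center E).1) *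
            ((MonoidHom.transferCenterPow E b) ^ t : Subgroup.center E).1 := by group
        _ = a * (((MonoidHom.transferCenterPow E a) ^ t : Subgroup.center E).1 * b) *
            ((MonoidHom.transferCenterPow E b) ^ t : Subgroup.center E).1 := by rw [hcen a b]
        _ = _ := by group
    · intro e
      show e * ((MonoidHom.transferCenterPow E e) ^ t : Subgroup.center E).1 = e ^ k
      rw [Subgroup.coe_pow, MonoidHom.transferCenterPow_apply, ← pow_mul, ← ht, ← pow_succ']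
      congr 1
      omega

end PowHom

section KExp
variable (G : Type u) [Group G] [Finite G]

/-- an exponent `k` realizing the `p'`-part map on `G` -/
theorem ad_exists_k (p : ℕ) [hp : Fact p.Prime] :
    ∃ k : ℕ, 1 ≤ k ∧ (∀ x : G, ¬ p ∣ orderOf x → x ^ k = x) ∧ (∀ g : G, ¬ p ∣ orderOf (g ^ k)) ∧
      ∀ (r i : ℕ), r.Prime → r ^ i ∣ Nat.card G → (r = p → r ^ i ∣ k) ∧ (r ≠ p → r ^ i ∣ k - 1) := by
  obtain ⟨n, hn⟩ : ∃ n, n = Nat.card G := ⟨_, rfl⟩
  have hn0 : n ≠ 0 := hn ▸ Nat.card_pos.ne'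
  obtain ⟨e, he⟩ : ∃ e, e = n.factorization p := ⟨_, rfl⟩
  obtain ⟨m, hm⟩ : ∃ m, m = n / p ^ e := ⟨_, rfl⟩
  have hnm : p ^ e * m = n := by rw [hm, he]; exact Nat.ordProj_mul_ordCompl_eq_self n p
  have hcop : Nat.Coprime p m := by rw [hm, he]; exact Nat.coprime_ordCompl hp.out hn0
  have hcop' : Nat.Coprime (p ^ e) m := Nat.Coprime.pow_left e hcop
  obtain ⟨k₀, hk₀a, hk₀b⟩ := Nat.chineseRemainder hcop' 0 1
  have hpk : p ^ e ∣ k₀ + n := by
    have h1 : p ^ e ∣ k₀ := (Nat.modEq_zero_iff_dvd).mp hk₀a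
    exact dvd_add h1 (hnm ▸ dvd_mul_right _ _)
  have hk1 : 1 ≤ k₀ + n := le_add_left (Nat.one_le_iff_ne_zero.mpr hn0)
  have hmk : m ∣ k₀ + n - 1 := by
    rw [← Nat.modEq_iff_dvd' hk1]
    have h1 : k₀ + n ≡ 1 [MOD m] := by
      have h2 : n ≡ 0 [MOD m] := (Nat.modEq_zero_iff_dvd).mpr (hnm ▸ dvd_mul_left _ _)
      have := Nat.ModEq.add hk₀b h2
      simpa using this
    exact h1.symm
  refine ⟨k₀ + n, hk1, ?_, ?_, ?_⟩
  · intro x hx
    have h1 : orderOf x ∣ p ^ e * m := by rw [hnm, hn]; exact orderOf_dvd_natCard x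
    have h2 : Nat.Coprime (orderOf x) (p ^ e) :=
      Nat.Coprime.pow_right e ((Nat.Coprime.symm ((Nat.Prime.coprime_iff_not_dvd hp.out).mpr hx)))
    have h3 : orderOf x ∣ m := h2.dvd_of_dvd_mul_left h1
    have h4 : x ^ (k₀ + n - 1) = 1 := orderOf_dvd_iff_pow_eq_one.mp (h3.trans hmk)
    calc x ^ (k₀ + n) = x ^ (k₀ + n - 1 + 1) := by congr 1; omega
      _ = x := by rw [pow_succ, h4, one_mul]
  · intro g hg
    have h1 : (g ^ (k₀ + n)) ^ m = 1 := by
      rw [← pow_mul]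
      apply orderOf_dvd_iff_pow_eq_one.mp
      refine (orderOf_dvd_natCard g).trans ?_
      rw [← hn]
      have := mul_dvd_mul_right hpk m
      rwa [hnm] at this
    have h2 : orderOf (g ^ (k₀ + n)) ∣ m := orderOf_dvd_of_pow_eq_one h1
    exact (Nat.Prime.coprime_iff_not_dvd hp.out).mp hcop (hg.trans h2)
  · intro r i hr hri
    rw [← hn, ← hnm] at hri
    constructor
    · intro hrp
      subst hrp
      have h1 : Nat.Coprime (r ^ i) m := Nat.Coprime.pow_left i hcop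
      exact (h1.dvd_of_dvd_mul_right hri).trans hpk
    · intro hrp
      have h1 : Nat.Coprime (r ^ i) (p ^ e) :=
        Nat.Coprime.pow _ _ ((Nat.coprime_primes hr hp.out).mpr hrp)
      exact (h1.dvd_of_dvd_mul_left hri).trans hmk

end KExp

section Rel
variable {G : Type u} [Group G] [Fintype G] (N : Subgroup G) [hN : N.Normal] [Fintype N]

theorem ad_sum_subgroup (J : Subgroup G) [Fintype J] (F : G → ℂ) [DecidablePred (· ∈ J)] :
    ∑ g : G, (if g ∈ J then F g else 0) = ∑ y : J, F y := by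
  rw [← Finset.sum_filter]
  symm
  apply Finset.sum_bij (fun (n : J) _ => (n : G))
  · intro n _; simp
  · intro a _ b _ h; exact Subtype.ext h
  · intro b hb
    simp only [Finset.mem_filter, Finset.mem_univ, true_and] at hb
    exact ⟨⟨b, hb⟩, Finset.mem_univ _, rfl⟩
  · intro a _; rfl

theorem ad_F_mul_right (p : ℕ) (ψ : G → ℂ) (y : G) (n₀ : N) :
    adF p N ψ (y * n₀) = adF p N ψ y := by
  unfold adF
  rw [(Equiv.sum_comp (Equiv.mulLeft n₀)
    (fun k : N => if ¬ p ∣ orderOf (y * (k : G)) then ψ (y * k) else 0)).symm]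
  apply Finset.sum_congr rfl
  intro k _
  show _ = if ¬ p ∣ orderOf (y * ((n₀ * k : N) : G)) then ψ (y * ((n₀ * k : N) : G)) else 0
  rw [Subgroup.coe_mul, mul_assoc]

theorem ad_F_conj (p : ℕ) {ψ : G → ℂ} (hψ : IsClassFunction G ψ) (x y : G) :
    adF p N ψ (x * y * x⁻¹) = adF p N ψ y := by
  unfold adF
  rw [(Equiv.sum_comp (MulAut.conjNormal x : N ≃* N).toEquiv
    (fun k : N => if ¬ p ∣ orderOf (x * y * x⁻¹ * (k : G)) then ψ (x * y * x⁻¹ * k) else 0)).symm]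
  apply Finset.sum_congr rfl
  intro k _
  have e1 : (((MulAut.conjNormal x : N ≃* N).toEquiv k : N) : G) = x * k * x⁻¹ := rfl
  have e2 : x * y * x⁻¹ * (x * (k : G) * x⁻¹) = x * (y * k) * x⁻¹ := by group
  have e3 : orderOf (x * (y * (k : G)) * x⁻¹) = orderOf (y * (k : G)) :=
    MulEquiv.orderOf_eq (MulAut.conj x) (y * k)
  rw [e1, e2, e3, hψ]

/-- Lemma A: the linear twist over an intermediate subgroup of `p'`-index over `N` -/
theorem ad_twist_J (p : ℕ) [Fact p.Prime] {M : Ideal AlgInt} (hM : IsPModular p M)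
    (P : Sylow p ↥N)
    (hcov : N ⊔ Subgroup.centralizer (((P : Subgroup ↥N).map N.subtype : Subgroup G) : Set G) = ⊤)
    (θ : IrrCharacter ↥N) (hθ : θ ∈ principalBlock M ↥N)
    {ψ : G → ℂ} (hψ : IsCharacter G ψ) (hres : ∀ x : ↥N, ψ x = (θ : ↥N → ℂ) x)
    (J : Subgroup G) (hNJ : N ≤ J) (hidx : ¬ p ∣ N.relIndex J) :
    ∃ lam : ↥J → ℂ, IsCharacter ↥J lam ∧ lam 1 = 1 ∧
      ∀ y : ↥J, lam y * adF p N ψ (y : G) = adF p N ψ 1 := by
  classical
  haveI : Fintype ↥J := Fintype.ofFinite _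
  haveI : Fintype ↥(N.subgroupOf J) := Fintype.ofFinite _
  obtain ⟨Q, hQ⟩ : ∃ Q : Subgroup G, Q = (P : Subgroup ↥N).map N.subtype := ⟨_, rfl⟩
  rw [← hQ] at hcov
  have hQN : Q ≤ N := by rw [hQ]; exact Subgroup.map_subtype_le _
  have hidx' : ¬ p ∣ (N.subgroupOf J).index := hidx
  have hcard : Nat.card ↥(Q.subgroupOf J) = p ^ (Nat.card ↥J).factorization p := by
    have h1 : Nat.card ↥(Q.subgroupOf J) = Nat.card Q :=
      Nat.card_congr (Subgroup.subgroupOfEquivOfLe (hQN.trans hNJ)).toEquiv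
    have h2 : Nat.card Q = Nat.card (P : Subgroup ↥N) := by
      rw [hQ]; exact Subgroup.card_map_of_injective N.subtype_injective
    have h3 := P.card_eq_multiplicity
    have h4 : Nat.card ↥(N.subgroupOf J) = Nat.card N :=
      Nat.card_congr (Subgroup.subgroupOfEquivOfLe hNJ).toEquiv
    have h5 : Nat.card ↥(N.subgroupOf J) * (N.subgroupOf J).index = Nat.card ↥J :=
      Subgroup.card_mul_index _
    rw [h1, h2, h3, ← h5, h4, Nat.factorization_mul Nat.card_pos.ne' Subgroup.index_ne_zero_of_finite,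
      Finsupp.add_apply, Nat.factorization_eq_zero_of_not_dvd hidx', add_zero]
  obtain ⟨PJ, hPJ⟩ : ∃ PJ : Sylow p ↥J, (PJ : Subgroup ↥J) = Q.subgroupOf J :=
    ⟨Sylow.ofCard (Q.subgroupOf J) hcard, rfl⟩
  have hsupJ : N.subgroupOf J ⊔ Subgroup.centralizer ((PJ : Subgroup ↥J) : Set ↥J) = ⊤ := by
    have h1 := ad_sub_sup' N (Subgroup.centralizer (Q : Set G)) hcov J hNJ
    rw [eq_top_iff, ← h1]
    apply sup_le_sup_left
    intro c hc
    rw [Subgroup.mem_subgroupOf] at hc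
    rw [Subgroup.mem_centralizer_iff]
    intro q hq
    have hq' : (q : G) ∈ Q := by
      have : q ∈ (PJ : Subgroup ↥J) := hq
      rw [hPJ, Subgroup.mem_subgroupOf] at this
      exact this
    apply Subtype.ext
    exact (Subgroup.mem_centralizer_iff.mp hc) (q : G) hq'
  have hψJ : IsCharacter ↥J (fun y : ↥J => ψ y) := helper12.isCharacter_restrict J hψ
  obtain ⟨θ', hθ'⟩ : ∃ θ' : IrrCharacter ↥(N.subgroupOf J),
      θ' = ⟨fun h => (θ : ↥N → ℂ) (Subgroup.subgroupOfEquivOfLe hNJ h),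
        helper8.isIrrCharacter_comp_mulEquiv (Subgroup.subgroupOfEquivOfLe hNJ) θ.2⟩ := ⟨_, rfl⟩
  have hθ'B : θ' ∈ principalBlock M ↥(N.subgroupOf J) := by
    rw [hθ']
    exact comp_mulEquiv_mem_principalBlock (Subgroup.subgroupOfEquivOfLe hNJ) p M hM θ hθ
  have hresJ : helper5.res (N.subgroupOf J) (fun y : ↥J => ψ y) = (θ' : ↥(N.subgroupOf J) → ℂ) := by
    funext k
    rw [hθ']
    exact hres (Subgroup.subgroupOfEquivOfLe hNJ k)
  have hψJirr : IsIrrCharacter ↥J (fun y : ↥J => ψ y) :=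
    ad_irr_of_res (N.subgroupOf J) hψJ (hresJ ▸ θ'.2)
  obtain ⟨lam, h1, h2, h3⟩ := ad_lin_twist (N.subgroupOf J) p hM hidx' PJ hsupJ hψJirr θ' hθ'B hresJ
  refine ⟨lam, h1, h2, fun y => ?_⟩
  have key : ∀ y : ↥J, adF p (N.subgroupOf J) (fun y : ↥J => ψ y) y = adF p N ψ (y : G) := by
    intro y
    unfold adF
    apply Fintype.sum_equiv (Subgroup.subgroupOfEquivOfLe hNJ).toEquiv
    intro k
    have e1 : (((Subgroup.subgroupOfEquivOfLe hNJ).toEquiv k : N) : G) = ((k : ↥J) : G) := rfl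
    have e2 : orderOf (y * (k : ↥J)) = orderOf ((y : G) * ((k : ↥J) : G)) := by
      rw [← Subgroup.coe_mul, Subgroup.orderOf_coe]
    show (if ¬ p ∣ orderOf (y * (k : ↥J)) then ψ ((y * (k : ↥J) : ↥J) : G) else 0) =
      if ¬ p ∣ orderOf ((y : G) * (((Subgroup.subgroupOfEquivOfLe hNJ).toEquiv k : N) : G)) then
        ψ ((y : G) * (((Subgroup.subgroupOfEquivOfLe hNJ).toEquiv k : N) : G)) else 0
    rw [e1, e2, Subgroup.coe_mul]
  have := h3 y
  rw [key y, key 1, Subgroup.coe_one] at this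
  exact this

/-- abstract twisting hypothesis -/
def ADTw (p : ℕ) (N : Subgroup G) [Fintype N] (ψ : G → ℂ) : Prop :=
  ∀ J : Subgroup G, N ≤ J → ¬ p ∣ N.relIndex J → ∃ lam : ↥J → ℂ, IsCharacter ↥J lam ∧ lam 1 = 1 ∧
    (∀ y, conj (lam y) * lam y = 1) ∧ ∀ y : ↥J, lam y * adF p N ψ (y : G) = adF p N ψ 1

theorem ad_twist_all (p : ℕ) [Fact p.Prime] {M : Ideal AlgInt} (hM : IsPModular p M)
    (P : Sylow p ↥N)
    (hcov : N ⊔ Subgroup.centralizer (((P : Subgroup ↥N).map N.subtype : Subgroup G) : Set G) = ⊤)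
    (θ : IrrCharacter ↥N) (hθ : θ ∈ principalBlock M ↥N)
    {ψ : G → ℂ} (hψ : IsCharacter G ψ) (hres : ∀ x : ↥N, ψ x = (θ : ↥N → ℂ) x) :
    ADTw p N ψ := by
  intro J hNJ hidx
  obtain ⟨lam, h1, h2, h3⟩ := ad_twist_J N p hM P hcov θ hθ hψ hres J hNJ hidx
  obtain ⟨φ, hφ⟩ := (helper22.linear_iff_hom (χ := lam)).mp ⟨h1, h2⟩
  refine ⟨lam, h1, h2, fun y => ?_, h3⟩
  rw [← char_inv h1 y, hφ, hφ, map_inv]
  simp

/-- the canonical linear twist -/
noncomputable def adNu (p : ℕ) (N : Subgroup G) [Fintype N] (ψ : G → ℂ) (k : ℕ) (g : G) : ℂ :=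
  adF p N ψ 1 / adF p N ψ (g ^ k)

theorem ad_nu_eq_lam (p : ℕ) (ψ : G → ℂ) (k : ℕ) (hs : adF p N ψ 1 ≠ 0) (J : Subgroup G)
    (lam : ↥J → ℂ) (h : ∀ y : ↥J, lam y * adF p N ψ (y : G) = adF p N ψ 1) (g : G) (hg : g ^ k ∈ J) :
    adNu p N ψ k g = lam ⟨g ^ k, hg⟩ := by
  have h1 := h ⟨g ^ k, hg⟩
  have hF : adF p N ψ (g ^ k) ≠ 0 := by
    intro h0
    apply hs
    rw [← h1]
    show _ * adF p N ψ (g ^ k) = 0
    rw [h0, mul_zero]
  unfold adNu
  exact ((eq_div_iff hF).mpr h1).symm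

theorem ad_relIndex_sup (p : ℕ) (H : Subgroup G) (hH : ¬ p ∣ Nat.card H) :
    ¬ p ∣ N.relIndex (N ⊔ H) := by
  rw [Subgroup.relIndex_sup_left]
  exact fun h => hH (h.trans (Subgroup.relIndex_dvd_card N H))

theorem ad_nu_unit (p : ℕ) {ψ : G → ℂ} (htw : ADTw p N ψ) (hs : adF p N ψ 1 ≠ 0) (k : ℕ)
    (hk2 : ∀ g : G, ¬ p ∣ orderOf (g ^ k)) (g : G) :
    conj (adNu p N ψ k g) * adNu p N ψ k g = 1 := by
  have hidx : ¬ p ∣ N.relIndex (N ⊔ Subgroup.zpowers (g ^ k)) := by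
    apply ad_relIndex_sup
    rw [Nat.card_zpowers]
    exact hk2 g
  obtain ⟨lam, h1, h2, h3, h4⟩ := htw _ le_sup_left hidx
  have hg : g ^ k ∈ N ⊔ Subgroup.zpowers (g ^ k) := Subgroup.mem_sup_right (Subgroup.mem_zpowers _)
  rw [ad_nu_eq_lam N p ψ k hs _ lam h4 g hg]
  exact h3 _

theorem ad_nu_one (p : ℕ) {ψ : G → ℂ} (hs : adF p N ψ 1 ≠ 0) (k : ℕ) : adNu p N ψ k 1 = 1 := by
  unfold adNu
  rw [one_pow, div_self hs]

theorem ad_nu_N (p : ℕ) {ψ : G → ℂ} (hs : adF p N ψ 1 ≠ 0) (k : ℕ) (n : N) :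
    adNu p N ψ k (n : G) = 1 := by
  unfold adNu
  have h1 : ((n : G)) ^ k = 1 * ((n ^ k : N) : G) := by rw [one_mul, Subgroup.coe_pow]
  rw [h1, ad_F_mul_right, div_self hs]

theorem ad_nu_cf (p : ℕ) {ψ : G → ℂ} (hcf : IsClassFunction G ψ) (k : ℕ) :
    IsClassFunction G (adNu p N ψ k) := by
  intro g h
  unfold adNu
  rw [conj_pow, ad_F_conj N p hcf]

theorem ad_nu_elem (p : ℕ) [Fact p.Prime] {ψ : G → ℂ} (htw : ADTw p N ψ) (hs : adF p N ψ 1 ≠ 0) (k : ℕ)
    (hk1 : 1 ≤ k) (hk2 : ∀ g : G, ¬ p ∣ orderOf (g ^ k))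
    (hk3 : ∀ (r i : ℕ), r.Prime → r ^ i ∣ Nat.card G → (r = p → r ^ i ∣ k) ∧ (r ≠ p → r ^ i ∣ k - 1))
    (E : Subgroup G) (r : ℕ) (hr : r.Prime) (hE : IsElementary r E) :
    IsGeneralizedCharacter E (fun e : E => adNu p N ψ k e) := by
  obtain ⟨x, hx, hcop, i, hi⟩ := hE
  have hle : Subgroup.zpowers x ≤ Subgroup.center E := Subgroup.zpowers_le.mpr hx
  have hdvd : (Subgroup.center E).index ∣ r ^ i := hi ▸ Subgroup.index_dvd_of_le hle
  obtain ⟨j, hj, hjeq⟩ := (Nat.dvd_prime_pow hr).mp hdvd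
  have hcardG : r ^ j ∣ Nat.card G := by
    rw [← hjeq]
    exact (Subgroup.index_dvd_card _).trans (Subgroup.card_subgroup_dvd_card E)
  obtain ⟨π, hπ⟩ := ad_pow_hom (E := ↥E) k (by
    rw [hjeq]
    by_cases hrp : r = p
    · left; exact (hk3 r j hr hcardG).1 hrp
    · right; exact ⟨hk1, (hk3 r j hr hcardG).2 hrp⟩)
  obtain ⟨H, hHdef⟩ : ∃ H : Subgroup G, H = π.range.map E.subtype := ⟨_, rfl⟩
  have hH : ¬ p ∣ Nat.card H := by
    intro hdiv
    obtain ⟨y, hy⟩ := exists_prime_orderOf_dvd_card' (G := ↥H) p hdiv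
    have hyH : (y : G) ∈ π.range.map E.subtype := hHdef ▸ y.2
    obtain ⟨e', ⟨e, rfl⟩, he'⟩ := Subgroup.mem_map.mp hyH
    have h1 : (y : G) = (e : G) ^ k := by
      rw [← he', hπ]
      rfl
    have h2 : orderOf (y : G) = p := by rw [Subgroup.orderOf_coe, hy]
    have h3 := hk2 (e : G)
    rw [← h1, h2] at h3
    exact h3 (dvd_refl p)
  have hidx := ad_relIndex_sup N p H hH
  obtain ⟨lam, h1, h2, h3, h4⟩ := htw _ le_sup_left hidx
  have hmem : ∀ e : E, (E.subtype.comp π) e ∈ N ⊔ H := fun e =>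
    Subgroup.mem_sup_right (hHdef ▸ Subgroup.mem_map_of_mem _ ⟨e, rfl⟩)
  have hcoe : ∀ e : E, (E.subtype.comp π) e = (e : G) ^ k := by
    intro e
    show ((π e : E) : G) = _
    rw [hπ]
    rfl
  have heq : (fun e : E => adNu p N ψ k e) =
      fun e => lam (MonoidHom.codRestrict (E.subtype.comp π) (N ⊔ H) hmem e) := by
    funext e
    have hg : (e : G) ^ k ∈ N ⊔ H := hcoe e ▸ hmem e
    rw [ad_nu_eq_lam N p ψ k hs _ lam h4 (e : G) hg]
    congr 1
    apply Subtype.ext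
    exact (hcoe e).symm
  rw [heq]
  exact helper8.Coh.gc_of_char (helper8.isCharacter_comp_monoidHom _ h1)

theorem ad_nu_hom (p : ℕ) [Fact p.Prime] {ψ : G → ℂ} (htw : ADTw p N ψ) (hs : adF p N ψ 1 ≠ 0)
    (hcf : IsClassFunction G ψ) (k : ℕ)
    (hk1 : 1 ≤ k) (hk2 : ∀ g : G, ¬ p ∣ orderOf (g ^ k))
    (hk3 : ∀ (r i : ℕ), r.Prime → r ^ i ∣ Nat.card G → (r = p → r ^ i ∣ k) ∧ (r ≠ p → r ^ i ∣ k - 1)) :
    ∃ φ : G →* ℂˣ, ∀ g, adNu p N ψ k g = ((φ g : ℂˣ) : ℂ) := by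
  have hgc : IsGeneralizedCharacter G (adNu p N ψ k) :=
    brauer_characterization _ (ad_nu_cf N p hcf k)
      (fun E r hr hE => ad_nu_elem N p htw hs k hk1 hk2 hk3 E r hr hE)
  have hν1 := ad_nu_one N p hs k
  have hnorm : classInner (adNu p N ψ k) (adNu p N ψ k) = 1 := by
    unfold classInner
    have hsum : ∑ g : G, adNu p N ψ k g * conj (adNu p N ψ k g) = ∑ g : G, (1 : ℂ) :=
      Finset.sum_congr rfl (fun g _ => by
        rw [mul_comm]; exact ad_nu_unit N p htw hs k hk2 g)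
    rw [hsum, Finset.sum_const, Finset.card_univ,
      nsmul_eq_mul, mul_one, Nat.card_eq_fintype_card,
      inv_mul_cancel₀ (Nat.cast_ne_zero.mpr Fintype.card_ne_zero)]
  rcases helper8.virt_norm_one hgc hnorm with h | h
  · exact (helper22.linear_iff_hom (χ := adNu p N ψ k)).mp ⟨irr_isCharacter h, hν1⟩
  · exfalso
    obtain ⟨n, hn0, hn⟩ := irr_apply_one h
    have h1 : (n : ℂ) + 1 = 0 := by
      rw [← hn]
      show -(adNu p N ψ k 1) + 1 = 0
      rw [hν1]; ring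
    exact Nat.cast_add_one_ne_zero n h1

theorem ad_sum_J (p : ℕ) {ψ : G → ℂ} (k : ℕ) (hk0 : ∀ x : G, ¬ p ∣ orderOf x → x ^ k = x)
    (hs : adF p N ψ 1 ≠ 0) (J : Subgroup G) (hNJ : N ≤ J) [DecidablePred (· ∈ J)] :
    ∑ x : G, (if x ∈ J ∧ ¬ p ∣ orderOf x then adNu p N ψ k x * ψ x else 0) ≠ 0 := by
  classical
  obtain ⟨g, hg⟩ : ∃ g : G → ℂ, g = fun x =>
      if x ∈ J ∧ ¬ p ∣ orderOf x then adNu p N ψ k x * ψ x else 0 := ⟨_, rfl⟩
  have hgx : ∀ x, g x = (if x ∈ J then adF p N ψ 1 * (adF p N ψ x)⁻¹ else 0) *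
      (if ¬ p ∣ orderOf x then ψ x else 0) := by
    intro x
    rw [hg]
    by_cases h1 : x ∈ J <;> by_cases h2 : ¬ p ∣ orderOf x
    · show (if x ∈ J ∧ ¬ p ∣ orderOf x then adNu p N ψ k x * ψ x else 0) = _
      rw [if_pos ⟨h1, h2⟩, if_pos h1, if_pos h2]
      unfold adNu
      rw [hk0 x h2, div_eq_mul_inv]
    · show (if x ∈ J ∧ ¬ p ∣ orderOf x then adNu p N ψ k x * ψ x else 0) = _
      rw [if_neg (fun h => h2 h.2), if_neg h2, mul_zero]
    · show (if x ∈ J ∧ ¬ p ∣ orderOf x then adNu p N ψ k x * ψ x else 0) = _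
      rw [if_neg (fun h => h1 h.1), if_neg h1, zero_mul]
    · show (if x ∈ J ∧ ¬ p ∣ orderOf x then adNu p N ψ k x * ψ x else 0) = _
      rw [if_neg (fun h => h1 h.1), if_neg h1, zero_mul]
  have havg : (Fintype.card N : ℂ) * ∑ x, g x = ∑ x, ∑ n : N, g (x * n) := by
    rw [Finset.sum_comm]
    have h1 : ∀ n : N, ∑ x, g (x * (n : G)) = ∑ x, g x := fun n =>
      Equiv.sum_comp (Equiv.mulRight (n : G)) g
    rw [Finset.sum_congr rfl (fun n _ => h1 n), Finset.sum_const, Finset.card_univ, nsmul_eq_mul]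
  have hinner : ∀ x, ∑ n : N, g (x * n) =
      if x ∈ J ∧ adF p N ψ x ≠ 0 then adF p N ψ 1 else 0 := by
    intro x
    have h1 : ∀ n : N, g (x * n) = (if x ∈ J then adF p N ψ 1 * (adF p N ψ x)⁻¹ else 0) *
        (if ¬ p ∣ orderOf (x * (n : G)) then ψ (x * n) else 0) := by
      intro n
      rw [hgx, ad_F_mul_right]
      have hiff : (x * (n : G) ∈ J) ↔ x ∈ J :=
        ⟨fun h => by
          have := J.mul_mem h (J.inv_mem (hNJ n.2))
          simpa using this, fun h => J.mul_mem h (hNJ n.2)⟩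
      simp only [hiff]
    rw [Finset.sum_congr rfl (fun n _ => h1 n), ← Finset.mul_sum]
    show _ * adF p N ψ x = _
    by_cases hx : x ∈ J
    · by_cases hF : adF p N ψ x = 0
      · rw [hF, mul_zero, if_neg (fun h => h.2 rfl)]
      · rw [if_pos hx, if_pos ⟨hx, hF⟩, mul_assoc, inv_mul_cancel₀ hF, mul_one]
    · rw [if_neg hx, zero_mul, if_neg (fun h => hx h.1)]
  rw [Finset.sum_congr rfl (fun x _ => hinner x), ← Finset.sum_filter, Finset.sum_const,
    nsmul_eq_mul] at havg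
  have hcard : (Finset.univ.filter (fun x : G => x ∈ J ∧ adF p N ψ x ≠ 0)).card ≠ 0 := by
    apply Finset.card_ne_zero.mpr
    exact ⟨1, by simp [J.one_mem, hs]⟩
  intro h0
  have h0' : ∑ x, g x = 0 := by rw [hg]; exact h0
  rw [h0', mul_zero] at havg
  exact (mul_ne_zero (Nat.cast_ne_zero.mpr hcard) hs) havg.symm

theorem ad_rel_main (p : ℕ) [Fact p.Prime] {M : Ideal AlgInt} (hM : IsPModular p M)
    (P : Sylow p ↥N)
    (hcov : N ⊔ Subgroup.centralizer (((P : Subgroup ↥N).map N.subtype : Subgroup G) : Set G) = ⊤)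
    (θ : IrrCharacter ↥N) (hθ : θ ∈ principalBlock M ↥N)
    (ψ : IrrCharacter G) (hres : ∀ x : ↥N, (ψ : G → ℂ) x = (θ : ↥N → ℂ) x) :
    ∃ χ : IrrCharacter G, χ ∈ principalBlock M G ∧ (∀ x : ↥N, (χ : G → ℂ) x = (θ : ↥N → ℂ) x) ∧
      ∀ J : Subgroup G, N ≤ J → ∃ ξ : IrrCharacter ↥J, ξ ∈ principalBlock M ↥J ∧
        ∀ y : ↥J, (ξ : ↥J → ℂ) y = (χ : G → ℂ) y := by
  classical
  obtain ⟨k, hk1, hk0, hk2, hk3⟩ := ad_exists_k G p
  have hψc : IsCharacter G (ψ : G → ℂ) := irr_isCharacter ψ.2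
  have hcf : IsClassFunction G (ψ : G → ℂ) := char_isClassFunction hψc
  have htw : ADTw p N (ψ : G → ℂ) := ad_twist_all N p hM P hcov θ hθ hψc hres
  have hs : adF p N (ψ : G → ℂ) 1 ≠ 0 := by
    have h1 := (mem_principalBlock_iff_sum_ne_zero p M hM θ).mp hθ
    rw [Finset.sum_filter] at h1
    have h2 : adF p N (ψ : G → ℂ) 1 =
        ∑ n : N, if ¬ p ∣ orderOf n then (θ : ↥N → ℂ) n else 0 := by
      unfold adF
      apply Finset.sum_congr rfl
      intro n _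
      rw [one_mul, Subgroup.orderOf_coe, hres]
    rw [h2]
    exact h1
  obtain ⟨φ, hφ⟩ := ad_nu_hom N p htw hs hcf k hk1 hk2 hk3
  obtain ⟨χ, hχ⟩ : ∃ χ : IrrCharacter G, χ = ⟨fun g => ((φ g : ℂˣ) : ℂ) * (ψ : G → ℂ) g,
    helper22.twist_isIrr φ ψ.2⟩ := ⟨_, rfl⟩
  have hχν : ∀ g, (χ : G → ℂ) g = adNu p N (ψ : G → ℂ) k g * (ψ : G → ℂ) g := by
    intro g
    rw [hχ, hφ]
  have hχN : ∀ x : ↥N, (χ : G → ℂ) x = (θ : ↥N → ℂ) x := by
    intro x
    rw [hχν, ad_nu_N N p hs k x, one_mul, hres]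
  have hsumJ : ∀ (J : Subgroup G), N ≤ J →
      ∑ x : G, (if x ∈ J then (if ¬ p ∣ orderOf x then (χ : G → ℂ) x else 0) else 0) ≠ 0 := by
    intro J hNJ
    have h1 := ad_sum_J N p (ψ := (ψ : G → ℂ)) k hk0 hs J hNJ
    intro h0
    apply h1
    refine Eq.trans ?_ h0
    apply Finset.sum_congr rfl
    intro x _
    by_cases hx : x ∈ J
    · by_cases hx2 : ¬ p ∣ orderOf x
      · rw [if_pos ⟨hx, hx2⟩, if_pos hx, if_pos hx2, hχν]
      · rw [if_neg (fun h => hx2 h.2), if_pos hx, if_neg hx2]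
    · rw [if_neg (fun h => hx h.1), if_neg hx]
  refine ⟨χ, ?_, hχN, ?_⟩
  · rw [mem_principalBlock_iff_sum_ne_zero p M hM, Finset.sum_filter]
    have h1 := hsumJ ⊤ le_top
    simp only [Subgroup.mem_top, if_true] at h1
    exact h1
  · intro J hNJ
    haveI : Fintype ↥J := Fintype.ofFinite _
    haveI : Fintype ↥(N.subgroupOf J) := Fintype.ofFinite _
    have hχJ : IsCharacter ↥J (fun y : ↥J => (χ : G → ℂ) y) :=
      helper12.isCharacter_restrict J (irr_isCharacter χ.2)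
    have hresJ : helper5.res (N.subgroupOf J) (fun y : ↥J => (χ : G → ℂ) y) =
        fun h => (θ : ↥N → ℂ) (Subgroup.subgroupOfEquivOfLe hNJ h) := by
      funext h
      exact hχN (Subgroup.subgroupOfEquivOfLe hNJ h)
    have hirrJ : IsIrrCharacter ↥J (fun y : ↥J => (χ : G → ℂ) y) := by
      apply ad_irr_of_res (N.subgroupOf J) hχJ
      rw [hresJ]
      exact helper8.isIrrCharacter_comp_mulEquiv (Subgroup.subgroupOfEquivOfLe hNJ) θ.2
    refine ⟨⟨_, hirrJ⟩, ?_, fun y => rfl⟩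
    rw [mem_principalBlock_iff_sum_ne_zero p M hM, Finset.sum_filter]
    have h1 := hsumJ J hNJ
    rw [ad_sum_subgroup J (fun x => if ¬ p ∣ orderOf x then (χ : G → ℂ) x else 0)] at h1
    intro h0
    apply h1
    refine Eq.trans ?_ h0
    apply Finset.sum_congr rfl
    intro y _
    rw [Subgroup.orderOf_coe]

end Rel

end Cfsg.Agent.helper1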