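import Mathlib
import Cfsg.Prelude
import Cfsg.Agent.Lib_helper1_RepBridge

set_option autoImplicit false
set_option linter.unusedVariables false
set_option linter.unusedSectionVars false
set_option linter.style.longLine false
set_option linter.style.haveILetI false

namespace Cfsg.Agent.helper1

open Cfsg

section AvgChar

variable {G : Type*} [Group G] [Finite G]
variable {U : Type*} [AddCommGroup U] [Module ℂ U] [FiniteDimensional ℂ U]

/-- the fixed points of a subgroup in a representation -/
def fixedSub (τ : Representation ℂ G U) (N : Subgroup G) : Submodule ℂ U where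
  carrier := {v | ∀ n ∈ N, τ n v = v}
  add_mem' := fun {a b} ha hb n hn => by rw [map_add, ha n hn, hb n hn]
  zero_mem' := fun n _ => map_zero _
  smul_mem' := fun c v hv n hn => by rw [map_smul, hv n hn]

theorem mem_fixedSub (τ : Representation ℂ G U) (N : Subgroup G) (v : U) :
    v ∈ fixedSub τ N ↔ ∀ n ∈ N, τ n v = v := Iff.rfl

theorem fixedSub_stable (τ : Representation ℂ G U) (N : Subgroup G) [N.Normal] (g : G) :
    ∀ v ∈ fixedSub τ N, τ g v ∈ fixedSub τ N := by
  intro v hv n hn
  have h1 : g⁻¹ * n * g ∈ N := by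
    have := ‹N.Normal›.conj_mem n hn g⁻¹
    simpa using this
  have h2 := hv _ h1
  calc τ n (τ g v) = τ (g * (g⁻¹ * n * g)) v := by
        rw [← Module.End.mul_apply, ← map_mul]; congr 2; group
    _ = τ g (τ (g⁻¹ * n * g) v) := by rw [map_mul, Module.End.mul_apply]
    _ = τ g v := by rw [h2]

/-- the representation on the fixed points of a normal subgroup -/
noncomputable def fixedRep (τ : Representation ℂ G U) (N : Subgroup G) [N.Normal] :
    Representation ℂ G (fixedSub τ N) where
  toFun g := (τ g).restrict (fixedSub_stable τ N g)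
  map_one' := by
    ext v
    simp
  map_mul' a b := by
    ext v
    simp

/-- the averaging operator over a subgroup -/
noncomputable def avgOp (τ : Representation ℂ G U) (N : Subgroup G) : U →ₗ[ℂ] U :=
  (Nat.card N : ℂ)⁻¹ • ∑ᶠ n : N, τ (n : G)

theorem avgOp_apply (τ : Representation ℂ G U) (N : Subgroup G) (v : U) :
    avgOp τ N v = (Nat.card N : ℂ)⁻¹ • ∑ᶠ n : N, τ (n : G) v := by
  classical
  haveI : Fintype N := Fintype.ofFinite N
  unfold avgOp
  rw [finsum_eq_sum_of_fintype, finsum_eq_sum_of_fintype, LinearMap.smul_apply,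
    LinearMap.sum_apply]

theorem avgOp_mem (τ : Representation ℂ G U) (N : Subgroup G) (v : U) :
    avgOp τ N v ∈ fixedSub τ N := by
  classical
  haveI : Fintype N := Fintype.ofFinite N
  intro m hm
  rw [avgOp_apply, finsum_eq_sum_of_fintype, map_smul, map_sum]
  congr 1
  refine Fintype.sum_equiv (Equiv.mulLeft (⟨m, hm⟩ : N)) _ _ ?_
  intro n
  simp [map_mul]

theorem avgOp_of_mem (τ : Representation ℂ G U) (N : Subgroup G) (v : U)
    (hv : v ∈ fixedSub τ N) : avgOp τ N v = v := by
  classical
  haveI : Fintype N := Fintype.ofFinite N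
  rw [avgOp_apply, finsum_eq_sum_of_fintype]
  have : ∀ n : N, τ (n : G) v = v := fun n => hv n n.2
  rw [Finset.sum_congr rfl (fun n _ => this n), Finset.sum_const, Finset.card_univ,
    ← Nat.card_eq_fintype_card, ← Nat.cast_smul_eq_nsmul ℂ, smul_smul,
    inv_mul_cancel₀ (by exact_mod_cast (Nat.card_pos (α := N)).ne'), one_smul]

/-- the character of the fixed-point representation is the coset average of the character -/
theorem fixedRep_character (τ : Representation ℂ G U) (N : Subgroup G) [N.Normal] (g : G) :
    (fixedRep τ N).character g = (Nat.card N : ℂ)⁻¹ * ∑ᶠ n : N, τ.character (g * (n : G)) := by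
  classical
  haveI : Fintype N := Fintype.ofFinite N
  have hf : ∀ x, (τ g ∘ₗ avgOp τ N) x ∈ fixedSub τ N := fun x =>
    fixedSub_stable τ N g _ (avgOp_mem τ N x)
  have h1 := LinearMap.trace_restrict_eq_of_forall_mem (fixedSub τ N) (τ g ∘ₗ avgOp τ N) hf
  have h2 : (τ g ∘ₗ avgOp τ N).restrict (fun x _ => hf x) =
      (τ g).restrict (fixedSub_stable τ N g) := by
    ext v
    simp [avgOp_of_mem τ N v.1 v.2]
  rw [h2] at h1
  show LinearMap.trace ℂ _ ((τ g).restrict (fixedSub_stable τ N g)) = _
  rw [h1]
  unfold avgOp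
  rw [finsum_eq_sum_of_fintype, finsum_eq_sum_of_fintype, LinearMap.comp_smul, map_smul,
    smul_eq_mul]
  congr 1
  have : τ g ∘ₗ ∑ n : N, τ (n : G) = ∑ n : N, τ (g * (n : G)) := by
    rw [← Module.End.mul_eq_comp, Finset.mul_sum]
    refine Finset.sum_congr rfl fun n _ => ?_
    rw [map_mul]
  rw [this, map_sum]
  rfl

end AvgChar

/-- **Coset averages of characters are characters**: for `N` normal and `φ` a character of `G`,
`g ↦ |N|⁻¹ ∑_{n ∈ N} φ (g n)` is a character of `G` (afforded by the `N`-fixed points). -/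
theorem isCharacter_avg {G : Type*} [Group G] [Finite G] (N : Subgroup G) [N.Normal] {φ : G → ℂ}
    (hφ : IsCharacter G φ) :
    IsCharacter G (fun g => (Nat.card N : ℂ)⁻¹ * ∑ᶠ n : N, φ (g * (n : G))) := by
  obtain ⟨m, τ, rfl⟩ := hφ
  have h := isCharacter_character (fixedRep τ N)
  have : (fixedRep τ N).character =
      fun g => (Nat.card N : ℂ)⁻¹ * ∑ᶠ n : N, τ.character (g * (n : G)) := by
    funext g
    exact fixedRep_character τ N g
  rw [this] at h
  exact h

end Cfsg.Agent.helper1
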