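import Mathlib
import Cfsg.Prelude
import Cfsg.Agent.Lib_helper1_OneBlock
import Cfsg.Agent.Lib_helper7_PQ

set_option autoImplicit false
set_option linter.unusedVariables false
set_option linter.unusedSectionVars false
set_option linter.style.longLine false
set_option linter.style.haveILetI false

namespace Cfsg.Agent.helper1

open Cfsg
open scoped ComplexConjugate

universe u

section ChainBlock

variable {G : Type u} [Group G]

/-- a `p`-regular element normalizing a chain of `p`-subgroups and centralizing the part of the top
normalizing the chain centralizes the top -/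
theorem chain_centralize [Finite G] (p : ℕ) [Fact p.Prime] (m : ℕ) (Q : Fin (m + 1) → Subgroup G)
    (hQ : StrictMono Q) (hQp : ∀ i, IsPGroup p (Q i)) (n : G)
    (hn : ∀ i, n ∈ Subgroup.normalizer (Q i : Set G)) (hreg : ¬ p ∣ orderOf n)
    (hcent : ∀ u ∈ Q (Fin.last m), (∀ i, u ∈ Subgroup.normalizer (Q i : Set G)) → n * u = u * n) :
    n ∈ Subgroup.centralizer (Q (Fin.last m) : Set G) := by
  have hpp : p.Prime := Fact.out
  have hmono : Monotone Q := hQ.monotone
  have key : ∀ j : ℕ, ∀ hj : j < m + 1,
      Subgroup.zpowers n ≤ Subgroup.centralizer (Q ⟨j, hj⟩ : Set G) := by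
    intro j
    induction j with
    | zero =>
      intro hj
      rw [Subgroup.zpowers_le, Subgroup.mem_centralizer_iff]
      intro u hu
      have hu' : u ∈ Q ⟨0, hj⟩ := hu
      have h1 : u ∈ Q (Fin.last m) := hmono (Fin.le_last _) hu'
      have h2 : ∀ i, u ∈ Subgroup.normalizer (Q i : Set G) := by
        intro i
        apply Subgroup.le_normalizer
        exact hmono (show (⟨0, hj⟩ : Fin (m + 1)) ≤ i from Fin.mk_le_of_le_val (Nat.zero_le _)) hu'
      exact (hcent u h1 h2).symm
    | succ j ih =>
      intro hj
      have hj' : j < m + 1 := Nat.lt_of_succ_lt hj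
      have hIH := ih hj'
      set P := Q ⟨j, hj'⟩ with hP
      set U := Q ⟨j + 1, hj⟩ with hU
      have hPU : P ≤ U := hmono (show (⟨j, hj'⟩ : Fin (m + 1)) ≤ ⟨j + 1, hj⟩ from
        Fin.mk_le_of_le_val (Nat.le_succ j))
      apply helper7.thompson_PxQ (p := p) (P := P) (hQp _) ?_ (hQp _)
      · exact Subgroup.le_centralizer_iff.1 hIH
      · exact hPU.trans Subgroup.le_normalizer
      · rw [Subgroup.zpowers_le]
        exact hn _
      · intro u hu
        rw [Subgroup.mem_inf] at hu
        obtain ⟨huU, huP⟩ := hu
        have h1 : u ∈ Q (Fin.last m) := hmono (Fin.le_last _) huU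
        have h2 : ∀ i, u ∈ Subgroup.normalizer (Q i : Set G) := by
          intro i
          by_cases hi : (i : ℕ) ≤ j
          · -- u centralizes Q i ≤ P
            have hiP : Q i ≤ P := hmono (show i ≤ (⟨j, hj'⟩ : Fin (m + 1)) from hi)
            rw [Subgroup.mem_normalizer_iff]
            intro x
            constructor
            · intro hx
              rw [Subgroup.mem_centralizer_iff] at huP
              have := huP x (hiP hx)
              rw [← this, mul_inv_cancel_right]
              exact hx
            · intro hx
              rw [Subgroup.mem_centralizer_iff] at huP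
              have h3 := huP _ (hiP hx)
              -- (u x u⁻¹) u = u (u x u⁻¹) → x = u x u⁻¹
              have h4 : x = u * x * u⁻¹ := by
                have : u * x * u⁻¹ * u = u * (u * x * u⁻¹) := h3
                have h5 : u * x = u * (u * x * u⁻¹) := by
                  rw [← this]; group
                exact mul_left_cancel h5
              rw [h4]
              exact hx
          · push Not at hi
            apply Subgroup.le_normalizer
            exact hmono (show (⟨j + 1, hj⟩ : Fin (m + 1)) ≤ i from hi) huU
        have h3 := hcent u h1 h2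
        rw [Subgroup.mem_centralizer_iff]
        intro a ha
        obtain ⟨k, rfl⟩ := Subgroup.mem_zpowers_iff.1 ha
        have hc : Commute n u := h3
        exact (hc.zpow_left k).eq
      · rw [Nat.card_zpowers]
        exact ((Nat.Prime.coprime_iff_not_dvd hpp).2 hreg).symm
  have := key m (Nat.lt_succ_self m)
  exact this (Subgroup.mem_zpowers n)

/-- S4668 -/
theorem chain_block_support [Fintype G] (p : ℕ) [Fact p.Prime] (M : Ideal AlgInt)
    (hM : IsPModular p M) (m : ℕ) (Q : Fin (m + 1) → Subgroup G) (hQ : StrictMono Q)
    (hQp : ∀ i, IsPGroup p (Q i)) (N : Subgroup G)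
    (hN : ∀ g : G, g ∈ N ↔ ∀ i, g ∈ Subgroup.normalizer (Q i : Set G))
    (E : Set (IrrCharacter N)) (hE : IsPBlock M E) (n : N)
    (hn : (n : G) ∉ Subgroup.centralizer (Q (Fin.last m) : Set G)) : blockCoeff E n = 0 := by
  classical
  haveI : Fintype N := Fintype.ofFinite _
  by_cases hsing : p ∣ orderOf n
  · exact blockCoeff_eq_zero_of_singular p M hM E hE n hsing
  · set R : Subgroup N := (Q (Fin.last m) ⊓ N).subgroupOf N with hR
    have hRp : IsPGroup p R := by
      have h1 : IsPGroup p (Q (Fin.last m) ⊓ N : Subgroup G) := (hQp _).to_le inf_le_left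
      exact h1.comap_of_injective N.subtype (Subgroup.subtype_injective N)
    haveI hRn : R.Normal := by
      constructor
      intro x hx g
      rw [hR, Subgroup.mem_subgroupOf] at hx ⊢
      rw [Subgroup.mem_inf] at hx ⊢
      refine ⟨?_, (g * x * g⁻¹).2⟩
      have hg := (hN g).1 g.2 (Fin.last m)
      rw [Subgroup.mem_normalizer_iff] at hg
      have := (hg x).1 hx.1
      simpa using this
    apply blockCoeff_eq_zero_of_not_mem_centralizer p M hM R hRp E hE n
    intro hcon
    apply hn
    apply chain_centralize p m Q hQ hQp (n : G) ((hN n).1 n.2)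
    · rwa [Subgroup.orderOf_coe]
    · intro u hu hunorm
      have huN : u ∈ N := (hN u).2 hunorm
      have huR : (⟨u, huN⟩ : N) ∈ R := by
        rw [hR, Subgroup.mem_subgroupOf, Subgroup.mem_inf]
        exact ⟨hu, huN⟩
      rw [Subgroup.mem_centralizer_iff] at hcon
      have h1 := hcon _ huR
      have h2 := congrArg Subtype.val h1
      simpa using h2.symm

end ChainBlock

end Cfsg.Agent.helper1
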