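import Mathlib
import Cfsg.Agent.Lib_helper24_Char
import Cfsg.Agent.Lib_helper1_RepBridge

set_option autoImplicit false
set_option linter.unusedSectionVars false
set_option linter.unusedVariables false
set_option linter.style.longLine false
set_option linter.style.haveILetI false

/-!
Kernel of a character for representations on a general space (helper1).
-/

namespace Cfsg.Agent.helper1

open Cfsg

/-- `χ(g) = χ(1)` exactly when `g` acts trivially (general finite-dimensional space). -/
theorem char_eq_finrank_iff {G : Type*} [Group G] [Finite G] {V : Type*} [AddCommGroup V]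
    [Module ℂ V] [FiniteDimensional ℂ V] (ρ : Representation ℂ G V) (g : G) :
    ρ.character g = (Module.finrank ℂ V : ℂ) ↔ ρ g = LinearMap.id := by
  rw [← finRep_eq_id_iff, ← finRep_character]
  exact Cfsg.Agent.helper24.rep_char_eq_degree_iff (finRep ρ) g

/-- For a faithful representation `χ(g) = χ(1)` only at `g = 1`. -/
theorem char_eq_finrank_iff_of_faithful {G : Type*} [Group G] [Finite G] {V : Type*}
    [AddCommGroup V] [Module ℂ V] [FiniteDimensional ℂ V] (ρ : Representation ℂ G V)
    (hf : Function.Injective ρ) (g : G) :
    ρ.character g = (Module.finrank ℂ V : ℂ) ↔ g = 1 := by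
  rw [char_eq_finrank_iff]
  constructor
  · intro h
    apply hf
    rw [h, map_one]; rfl
  · rintro rfl
    rw [map_one]; rfl

end Cfsg.Agent.helper1
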