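import Mathlib
import Cfsg.Prelude.Def_Characters
import Cfsg.Agent.Lib_helper1_RepEquiv
import Cfsg.Agent.Lib_helper1_RepBridge
import Cfsg.Agent.Lib_helper24_CharBasic
import Cfsg.Agent.Lib_helper12_CharOps

set_option autoImplicit false
set_option linter.unusedVariables false
set_option linter.unusedSectionVars false
set_option linter.style.longLine false
set_option linter.style.haveILetI false

namespace Cfsg.Agent.helper1

open Representation Module Cfsg
open scoped ComplexConjugate

section Commutant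

variable {G : Type*} [Group G] [Fintype G]
variable {V : Type*} [AddCommGroup V] [Module ℂ V] [FiniteDimensional ℂ V]
variable {W : Type*} [AddCommGroup W] [Module ℂ W] [FiniteDimensional ℂ W]

/-- the inner product of characters is the dimension of the space of intertwining maps -/
theorem classInner_character_eq_finrank (ρ : Representation ℂ G V) (σ : Representation ℂ G W) :
    classInner σ.character ρ.character = (finrank ℂ (IntertwiningMap ρ σ) : ℂ) := by
  haveI : Invertible (Nat.card G : ℂ) := invertibleOfNonzero (by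
    exact_mod_cast (Nat.card_pos (α := G)).ne')
  rw [← Representation.card_inv_mul_sum_char_mul_char_eq_finrank]
  unfold Cfsg.classInner
  congr 1
  apply Finset.sum_congr rfl
  intro g _
  rw [helper24.char_inv (isCharacter_character ρ) g]

instance finite_intertwiningMap (ρ : Representation ℂ G V) (σ : Representation ℂ G W) :
    Module.Finite ℂ (IntertwiningMap ρ σ) :=
  Module.Finite.equiv (Representation.invariantsEquivIntertwiningMap ρ σ)

/-- existence of a minimal nonzero subrepresentation inside a nonzero subrepresentation -/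
theorem exists_minimal_subrep_le (ρ : Representation ℂ G V) (K : Subrepresentation ρ)
    (hK : K.toSubmodule ≠ ⊥) :
    ∃ U : Subrepresentation ρ, U ≤ K ∧ U.toSubmodule ≠ ⊥ ∧
      ∀ U₁ : Subrepresentation ρ, U₁ ≤ U → U₁.toSubmodule = ⊥ ∨ U₁ = U := by
  classical
  have hex : ∃ d : ℕ, ∃ U : Subrepresentation ρ, U ≤ K ∧ U.toSubmodule ≠ ⊥ ∧
      finrank ℂ U.toSubmodule = d := ⟨_, K, le_refl _, hK, rfl⟩
  obtain ⟨U, hUK, hU, hd⟩ := Nat.find_spec hex
  refine ⟨U, hUK, hU, fun U₁ hle => ?_⟩
  by_cases h1 : U₁.toSubmodule = ⊥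
  · exact Or.inl h1
  · right
    have hmin : Nat.find hex ≤ finrank ℂ U₁.toSubmodule :=
      Nat.find_min' hex ⟨U₁, le_trans hle hUK, h1, rfl⟩
    have hle' : U₁.toSubmodule ≤ U.toSubmodule := hle
    apply Subrepresentation.toSubmodule_injective
    exact Submodule.eq_of_le_of_finrank_le hle' (by rw [hd]; exact hmin)

/-- Schur's lemma for a minimal subrepresentation -/
theorem minimal_end_scalar (ρ : Representation ℂ G V) (U : Subrepresentation ρ)
    (hU : U.toSubmodule ≠ ⊥)
    (hmin : ∀ U₁ : Subrepresentation ρ, U₁ ≤ U → U₁.toSubmodule = ⊥ ∨ U₁ = U)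
    (f : IntertwiningMap U.toRepresentation U.toRepresentation) :
    ∃ c : ℂ, c • IntertwiningMap.id U.toRepresentation = f := by
  haveI : Nontrivial U.toSubmodule := (Submodule.nontrivial_iff_ne_bot).mpr hU
  obtain ⟨c, hc⟩ := Module.End.exists_eigenvalue f.toLinearMap
  obtain ⟨v, hv⟩ := hc.exists_hasEigenvector
  refine ⟨c, ?_⟩
  by_contra hne
  have hne' : f - c • IntertwiningMap.id U.toRepresentation ≠ 0 := by
    intro h0
    apply hne
    exact (sub_eq_zero.mp h0).symm
  have hinj := injective_of_minimal ρ U.toRepresentation U hmin _ hne'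
  have h0 : (f - c • IntertwiningMap.id U.toRepresentation) v = 0 := by
    have := hv.apply_eq_smul
    show f v - c • v = 0
    rw [sub_eq_zero]
    exact this
  have : v = 0 := hinj (h0.trans (map_zero _).symm)
  exact hv.2 this

theorem minimal_finrank_end (ρ : Representation ℂ G V) (U : Subrepresentation ρ)
    (hU : U.toSubmodule ≠ ⊥)
    (hmin : ∀ U₁ : Subrepresentation ρ, U₁ ≤ U → U₁.toSubmodule = ⊥ ∨ U₁ = U) :
    finrank ℂ (IntertwiningMap U.toRepresentation U.toRepresentation) = 1 := by
  haveI : Nontrivial U.toSubmodule := (Submodule.nontrivial_iff_ne_bot).mpr hU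
  have hid : IntertwiningMap.id U.toRepresentation ≠ 0 := by
    intro h0
    obtain ⟨v, hv⟩ := exists_ne (0 : U.toSubmodule)
    apply hv
    have : IntertwiningMap.id U.toRepresentation v =
      (0 : IntertwiningMap U.toRepresentation U.toRepresentation) v := by rw [h0]
    exact this
  rw [finrank_eq_one_iff_of_nonzero' _ hid]
  intro f
  exact minimal_end_scalar ρ U hU hmin f

theorem minimal_isIrrCharacter (ρ : Representation ℂ G V) (U : Subrepresentation ρ)
    (hU : U.toSubmodule ≠ ⊥)
    (hmin : ∀ U₁ : Subrepresentation ρ, U₁ ≤ U → U₁.toSubmodule = ⊥ ∨ U₁ = U) :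
    IsIrrCharacter G U.toRepresentation.character := by
  apply helper12.isIrrCharacter_of_classInner_self (isCharacter_character _)
  rw [classInner_character_eq_finrank, minimal_finrank_end ρ U hU hmin]
  simp

/-- the inclusion of a subrepresentation as an intertwining map -/
def subrepIncl (ρ : Representation ℂ G V) (U : Subrepresentation ρ) :
    IntertwiningMap U.toRepresentation ρ :=
  ⟨U.toSubmodule.subtype, fun g => by
    apply LinearMap.ext
    intro u
    rfl⟩

theorem subrepIncl_apply (ρ : Representation ℂ G V) (U : Subrepresentation ρ)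
    (u : U.toSubmodule) : subrepIncl ρ U u = (u : V) := rfl

theorem subrepIncl_ne_zero (ρ : Representation ℂ G V) (U : Subrepresentation ρ)
    (hU : U.toSubmodule ≠ ⊥) : subrepIncl ρ U ≠ 0 := by
  intro h0
  apply hU
  rw [Submodule.eq_bot_iff]
  intro v hv
  have : subrepIncl ρ U ⟨v, hv⟩ = (0 : IntertwiningMap U.toRepresentation ρ) ⟨v, hv⟩ := by rw [h0]
  exact this

/-- in a multiplicity free representation every commuting operator is a scalar on each
minimal subrepresentation -/
theorem scalar_on_minimal (ρ : Representation ℂ G V)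
    (hmf : ∀ χ : G → ℂ, IsIrrCharacter G χ →
      classInner ρ.character χ = 0 ∨ classInner ρ.character χ = 1)
    (U : Subrepresentation ρ) (hU : U.toSubmodule ≠ ⊥)
    (hmin : ∀ U₁ : Subrepresentation ρ, U₁ ≤ U → U₁.toSubmodule = ⊥ ∨ U₁ = U)
    (S : V →ₗ[ℂ] V) (hS : ∀ g, S ∘ₗ ρ g = ρ g ∘ₗ S) :
    ∃ s : ℂ, ∀ u ∈ U.toSubmodule, S u = s • u := by
  have hirr := minimal_isIrrCharacter ρ U hU hmin
  have hι := subrepIncl_ne_zero ρ U hU
  have hfr : finrank ℂ (IntertwiningMap U.toRepresentation ρ) = 1 := by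
    rcases hmf _ hirr with h | h
    · exfalso
      rw [classInner_character_eq_finrank] at h
      have h0 : finrank ℂ (IntertwiningMap U.toRepresentation ρ) = 0 := by exact_mod_cast h
      haveI := Module.finrank_zero_iff.mp h0
      exact hι (Subsingleton.elim _ _)
    · rw [classInner_character_eq_finrank] at h
      exact_mod_cast h
  let Sι : IntertwiningMap U.toRepresentation ρ :=
    ⟨S ∘ₗ U.toSubmodule.subtype, fun g => by
      apply LinearMap.ext
      intro u
      show S (ρ g (u : V)) = ρ g (S (u : V))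
      exact LinearMap.congr_fun (hS g) (u : V)⟩
  obtain ⟨s, hs⟩ := (finrank_eq_one_iff_of_nonzero' _ hι).mp hfr Sι
  refine ⟨s, fun u hu => ?_⟩
  have := congrArg (fun f : IntertwiningMap U.toRepresentation ρ => f ⟨u, hu⟩) hs
  exact this.symm

/-- kernel of a commuting operator as a subrepresentation -/
def kerSubrep (ρ : Representation ℂ G V) (C : V →ₗ[ℂ] V) (hC : ∀ g, C ∘ₗ ρ g = ρ g ∘ₗ C) :
    Subrepresentation ρ where
  toSubmodule := LinearMap.ker C
  apply_mem_toSubmodule := by
    intro g v hv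
    have hv0 : C v = 0 := hv
    show C (ρ g v) = 0
    have := LinearMap.congr_fun (hC g) v
    simp only [LinearMap.comp_apply] at this
    rw [this, hv0, map_zero]

/-- multiplicity free ⇒ commutative commutant -/
theorem commutant_comm_of_multfree (ρ : Representation ℂ G V)
    (hmf : ∀ χ : G → ℂ, IsIrrCharacter G χ →
      classInner ρ.character χ = 0 ∨ classInner ρ.character χ = 1)
    (S T : V →ₗ[ℂ] V) (hS : ∀ g, S ∘ₗ ρ g = ρ g ∘ₗ S) (hT : ∀ g, T ∘ₗ ρ g = ρ g ∘ₗ T) :
    S ∘ₗ T = T ∘ₗ S := by
  have hC : ∀ g, (S ∘ₗ T - T ∘ₗ S) ∘ₗ ρ g = ρ g ∘ₗ (S ∘ₗ T - T ∘ₗ S) := by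
    intro g
    have hS' : ∀ v, S (ρ g v) = ρ g (S v) := fun v => LinearMap.congr_fun (hS g) v
    have hT' : ∀ v, T (ρ g v) = ρ g (T v) := fun v => LinearMap.congr_fun (hT g) v
    apply LinearMap.ext
    intro v
    simp only [LinearMap.sub_apply, LinearMap.comp_apply, hS', hT', map_sub]
  let K := kerSubrep ρ (S ∘ₗ T - T ∘ₗ S) hC
  obtain ⟨K', hK'⟩ := exists_subrep_isCompl ρ K
  have hK'bot : K'.toSubmodule = ⊥ := by
    by_contra hne
    obtain ⟨U, hUK', hU, hmin⟩ := exists_minimal_subrep_le ρ K' hne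
    obtain ⟨s, hs⟩ := scalar_on_minimal ρ hmf U hU hmin S hS
    obtain ⟨t, ht⟩ := scalar_on_minimal ρ hmf U hU hmin T hT
    apply hU
    rw [Submodule.eq_bot_iff]
    intro u hu
    have huK : u ∈ K.toSubmodule := by
      show (S ∘ₗ T - T ∘ₗ S) u = 0
      simp only [LinearMap.sub_apply, LinearMap.comp_apply]
      rw [ht u hu, hs u hu, map_smul, map_smul, hs u hu, ht u hu, smul_smul, smul_smul, mul_comm,
        sub_self]
    have huK' : u ∈ K'.toSubmodule := hUK' hu
    have : u ∈ K.toSubmodule ⊓ K'.toSubmodule := ⟨huK, huK'⟩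
    rw [hK'.inf_eq_bot] at this
    exact this
  have hKtop : K.toSubmodule = ⊤ := by
    have := hK'.sup_eq_top
    rw [hK'bot, sup_bot_eq] at this
    exact this
  apply LinearMap.ext
  intro v
  have hv : v ∈ K.toSubmodule := by rw [hKtop]; trivial
  have hv0 : (S ∘ₗ T - T ∘ₗ S) v = 0 := hv
  simp only [LinearMap.sub_apply] at hv0
  exact sub_eq_zero.mp hv0

/-- averaging: an injective intertwining map has an equivariant left inverse -/
theorem exists_intertwining_leftInverse (τ : Representation ℂ G W) (ρ : Representation ℂ G V)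
    (i : IntertwiningMap τ ρ) (hi : Function.Injective i) :
    ∃ p : IntertwiningMap ρ τ, ∀ w, p (i w) = w := by
  obtain ⟨p₀, hp₀⟩ := LinearMap.exists_leftInverse_of_injective i.toLinearMap
    (LinearMap.ker_eq_bot.mpr hi)
  have hp₀' : ∀ w, p₀ (i w) = w := fun w => LinearMap.congr_fun hp₀ w
  let P : V →ₗ[ℂ] W := (Nat.card G : ℂ)⁻¹ • ∑ g : G, τ g⁻¹ ∘ₗ p₀ ∘ₗ ρ g
  have hP : ∀ v, P v = (Nat.card G : ℂ)⁻¹ • ∑ g : G, τ g⁻¹ (p₀ (ρ g v)) := by
    intro v
    simp [P, LinearMap.sum_apply]
  refine ⟨⟨P, fun h => ?_⟩, fun w => ?_⟩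
  · apply LinearMap.ext
    intro v
    show P (ρ h v) = τ h (P v)
    rw [hP, hP, map_smul, map_sum]
    congr 1
    apply Fintype.sum_equiv (Equiv.mulRight h)
    intro g
    show τ g⁻¹ (p₀ (ρ g (ρ h v))) = τ h (τ (g * h)⁻¹ (p₀ (ρ (g * h) v)))
    rw [← Module.End.mul_apply (τ h), ← map_mul, mul_inv_rev, mul_inv_cancel_left, map_mul]
    rfl
  · show P (i w) = w
    rw [hP]
    have hg : ∀ g : G, τ g⁻¹ (p₀ (ρ g (i w))) = w := by
      intro g
      rw [← IntertwiningMap.isIntertwining _ _ i g w, hp₀', ← Module.End.mul_apply, ← map_mul,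
        inv_mul_cancel, map_one]
      rfl
    rw [Finset.sum_congr rfl (fun g _ => hg g), Finset.sum_const, Finset.card_univ,
      ← Nat.card_eq_fintype_card, ← Nat.cast_smul_eq_nsmul ℂ, smul_smul,
      inv_mul_cancel₀ (by exact_mod_cast (Nat.card_pos (α := G)).ne'), one_smul]

/-- commutative commutant ⇒ multiplicity free -/
theorem multfree_of_commutant_comm (ρ : Representation ℂ G V)
    (hcomm : ∀ S T : V →ₗ[ℂ] V, (∀ g, S ∘ₗ ρ g = ρ g ∘ₗ S) → (∀ g, T ∘ₗ ρ g = ρ g ∘ₗ T) →
      S ∘ₗ T = T ∘ₗ S)
    (χ : G → ℂ) (hχ : IsIrrCharacter G χ) :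
    classInner ρ.character χ = 0 ∨ classInner ρ.character χ = 1 := by
  obtain ⟨n, τ, hτ, rfl⟩ := hχ
  rw [classInner_character_eq_finrank]
  by_cases hz : ∀ i : IntertwiningMap τ ρ, i = 0
  · left
    haveI : Subsingleton (IntertwiningMap τ ρ) := ⟨fun a b => (hz a).trans (hz b).symm⟩
    rw [Module.finrank_zero_of_subsingleton]
    simp
  · right
    push Not at hz
    obtain ⟨i₁, hi₁⟩ := hz
    haveI := hτ
    have hinj : Function.Injective i₁ :=
      (IsIrreducible.injective_or_eq_zero i₁).resolve_right hi₁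
    obtain ⟨p, hp⟩ := exists_intertwining_leftInverse τ ρ i₁ hinj
    have hid : IntertwiningMap.id τ ≠ 0 := by
      intro h0
      apply hi₁
      apply IntertwiningMap.ext
      apply LinearMap.ext
      intro w
      have hw : w = 0 := by
        have : IntertwiningMap.id τ w = (0 : IntertwiningMap τ τ) w := by rw [h0]
        exact this
      show i₁ w = 0
      rw [hw, map_zero]
    have hfr : finrank ℂ (IntertwiningMap τ ρ) = 1 := by
      rw [finrank_eq_one_iff_of_nonzero' _ hi₁]
      intro i₂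
      obtain ⟨c, hc⟩ := (finrank_eq_one_iff_of_nonzero' _ hid).mp
        (IsIrreducible.finrank_intertwiningMap_self τ) (p.comp i₂)
      have hc' : ∀ w, p (i₂ w) = c • w := by
        intro w
        have := congrArg (fun f : IntertwiningMap τ τ => f w) hc
        exact this.symm
      refine ⟨c, ?_⟩
      let j : IntertwiningMap τ ρ := i₂ - c • i₁
      have hj : ∀ w, p (j w) = 0 := by
        intro w
        show p (i₂ w - c • i₁ w) = 0
        rw [map_sub, map_smul, hp, hc', sub_self]
      have hS : ∀ g, (i₁.toLinearMap ∘ₗ p.toLinearMap) ∘ₗ ρ g =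
          ρ g ∘ₗ (i₁.toLinearMap ∘ₗ p.toLinearMap) := by
        intro g
        apply LinearMap.ext
        intro v
        show i₁ (p (ρ g v)) = ρ g (i₁ (p v))
        rw [IntertwiningMap.isIntertwining _ _ p g v, IntertwiningMap.isIntertwining _ _ i₁ g]
      have hT : ∀ g, (j.toLinearMap ∘ₗ p.toLinearMap) ∘ₗ ρ g =
          ρ g ∘ₗ (j.toLinearMap ∘ₗ p.toLinearMap) := by
        intro g
        apply LinearMap.ext
        intro v
        show j (p (ρ g v)) = ρ g (j (p v))
        rw [IntertwiningMap.isIntertwining _ _ p g v, IntertwiningMap.isIntertwining _ _ j g]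
      have hST := hcomm _ _ hS hT
      have hj0 : ∀ w, j w = 0 := by
        intro w
        have h1 := LinearMap.congr_fun hST (i₁ w)
        have h2 : i₁ (p (j (p (i₁ w)))) = j (p (i₁ (p (i₁ w)))) := h1
        rw [hp, hp, hj, map_zero] at h2
        exact h2.symm
      apply IntertwiningMap.ext
      apply LinearMap.ext
      intro w
      have := hj0 w
      have h3 : i₂ w - c • i₁ w = 0 := this
      show c • i₁ w = i₂ w
      exact (sub_eq_zero.mp h3).symm
    rw [hfr]
    simp

theorem mem_linHom_invariants_iff_comm (ρ : Representation ℂ G V) (S : V →ₗ[ℂ] V) :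
    S ∈ (ρ.linHom ρ).invariants ↔ ∀ g, S ∘ₗ ρ g = ρ g ∘ₗ S := by
  rw [Representation.mem_invariants]
  simp only [Representation.linHom_apply]
  rw [Representation.mem_linHom_invariants_iff_isIntertwining, isIntertwiningMap_iff]
  constructor
  · intro h g
    apply LinearMap.ext
    intro v
    exact h g v
  · intro h g v
    exact LinearMap.congr_fun (h g) v

/-- **multiplicity free ⟺ commutative commutant** -/
theorem multfree_iff_commutant_comm (ρ : Representation ℂ G V) :
    (∀ χ : G → ℂ, IsIrrCharacter G χ →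
      classInner ρ.character χ = 0 ∨ classInner ρ.character χ = 1) ↔
    ∀ S T : V →ₗ[ℂ] V, S ∈ (ρ.linHom ρ).invariants → T ∈ (ρ.linHom ρ).invariants →
      S ∘ₗ T = T ∘ₗ S := by
  constructor
  · intro hmf S T hS hT
    exact commutant_comm_of_multfree ρ hmf S T ((mem_linHom_invariants_iff_comm ρ S).mp hS)
      ((mem_linHom_invariants_iff_comm ρ T).mp hT)
  · intro h χ hχ
    exact multfree_of_commutant_comm ρ (fun S T hS hT => h S T
      ((mem_linHom_invariants_iff_comm ρ S).mpr hS) ((mem_linHom_invariants_iff_comm ρ T).mpr hT)) χ hχ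

end Commutant

end Cfsg.Agent.helper1
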