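import Mathlib
import Cfsg.Agent.Lib_helper24_BlockOrth2
import Cfsg.Agent.Lib_helper24_DefectOrder
import Cfsg.Agent.Lib_helper24_PRegCount
import Cfsg.Agent.Lib_helper24_Osima
import Cfsg.Agent.Lib_helper1_ConjChar
import Cfsg.Agent.Lib_helper22_Glaub7

set_option autoImplicit false
set_option linter.unusedSectionVars false
set_option linter.unusedVariables false
set_option linter.style.longLine false

/-!
helper22: contributions `(|G| / ξ(1)) [χ°, ξ]` of the `p`-regular cut of a character of a block,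
their congruence inside a block, and the theorem that they are units for a character of height
zero (Brauer).
-/

namespace Cfsg.Agent.helper22

open Cfsg
open scoped ComplexConjugate

universe u

section LocalInt

theorem intCast_memLocalIdeal_dvd {p : ℕ} {M : Ideal AlgInt} (hM : IsPModular p M) (c : ℤ)
    (hc : MemLocalIdeal M (c : ℂ)) : (p : ℤ) ∣ c := by
  have hMp : M.IsPrime := hM.2.1.isPrime
  apply int_dvd_of_memIdeal hM
  refine ⟨(c : AlgInt), ?_, ?_⟩
  · apply helper24.mem_of_memLocalIdeal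
    have : (((c : AlgInt) : AlgInt) : ℂ) = (c : ℂ) := by push_cast; rfl
    rw [this]; exact hc
  · push_cast; rfl

theorem int_dvd_of_div_memLocalIdeal {p : ℕ} {M : Ideal AlgInt} (hM : IsPModular p M) (k : ℕ) :
    ∀ c : ℤ, MemLocalIdeal M ((c : ℂ) / ((p : ℂ) ^ k)) → ((p : ℤ) ^ (k + 1)) ∣ c := by
  have hMp : M.IsPrime := hM.2.1.isPrime
  have hMtop : M ≠ ⊤ := hMp.ne_top
  have hp0 : (p : ℂ) ≠ 0 := by exact_mod_cast hM.1.ne_zero
  induction k with
  | zero =>
    intro c hc
    have := intCast_memLocalIdeal_dvd hM c (by simpa using hc)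
    simpa using this
  | succ k ih =>
    intro c hc
    have h1 : MemLocalIdeal M (c : ℂ) := by
      have : (c : ℂ) = ((p : ℂ) ^ (k + 1)) * ((c : ℂ) / (p : ℂ) ^ (k + 1)) := by
        field_simp
      rw [this]
      refine helper24.memLocalIdeal_mul_left (helper24.memLocalRing_of_integral hMtop ?_) hc
      exact IsIntegral.pow (helper24.isIntegral_natCast_complex p) _
    obtain ⟨c', rfl⟩ := intCast_memLocalIdeal_dvd hM c h1
    have h2 : MemLocalIdeal M ((c' : ℂ) / (p : ℂ) ^ k) := by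
      have : ((c' : ℂ) / (p : ℂ) ^ k) = (((p : ℤ) * c' : ℤ) : ℂ) / (p : ℂ) ^ (k + 1) := by
        push_cast
        field_simp
        ring
      rw [this]; exact hc
    obtain ⟨d, hd⟩ := ih c' h2
    exact ⟨d, by rw [hd]; ring⟩

end LocalInt

section Contrib
variable {G : Type u} [Group G] [Fintype G]

/-- the `p`-regular cut of a function -/
noncomputable def pregCut (p : ℕ) (χ : G → ℂ) : G → ℂ :=
  fun x => if p ∣ orderOf x then 0 else χ x

/-- the contribution `(|G| / ξ(1)) [χ°, ξ]`, as the value of the central character of `ξ̄` -/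
noncomputable def contrib (p : ℕ) (χ ξ : G → ℂ) : ℂ :=
  helper24.omegaFn (fun g => conj (ξ g)) (pregCut p χ)

theorem pregCut_isClassFunction (p : ℕ) {χ : G → ℂ} (hχ : IsClassFunction G χ) :
    IsClassFunction G (pregCut p χ) := by
  intro g h
  have h1 : orderOf (h * g * h⁻¹) = orderOf g := by
    have := (MulAut.conj h).orderOf_eq g
    rwa [MulAut.conj_apply] at this
  unfold pregCut
  rw [h1, hχ g h]

theorem pregCut_memLocalRing (p : ℕ) {M : Ideal AlgInt} (hMtop : M ≠ ⊤) {χ : G → ℂ}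
    (hχ : IsCharacter G χ) (g : G) : MemLocalRing M (pregCut p χ g) := by
  unfold pregCut
  split_ifs
  · exact helper24.memLocalRing_zero hMtop
  · exact helper24.memLocalRing_of_integral hMtop (helper24.char_isIntegral hχ g)

theorem irr_conj_apply_one {ξ : G → ℂ} (hξ : IsIrrCharacter G ξ) : conj (ξ 1) = ξ 1 := by
  obtain ⟨n, _, hn⟩ := helper24.irr_apply_one hξ
  rw [hn, Complex.conj_natCast]

theorem classInner_cut_eq (p : ℕ) (a : ℕ) (χ : G → ℂ) {ξ : G → ℂ} (hξ : IsIrrCharacter G ξ) :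
    classInner (fun x : G => if p ∣ orderOf x then (0 : ℂ) else ((p ^ a : ℕ) : ℂ) * χ x) ξ *
      (Nat.card G : ℂ) = ((p ^ a : ℕ) : ℂ) * ξ 1 * contrib p χ ξ := by
  have h1 := irr_conj_apply_one hξ
  have hξ1 : ξ 1 ≠ 0 := helper24.irr_apply_one_ne_zero hξ
  have hG : (Nat.card G : ℂ) ≠ 0 := by exact_mod_cast Nat.card_pos.ne'
  unfold classInner contrib helper24.omegaFn pregCut
  beta_reduce
  rw [h1]
  have e1 : ∀ g : G, (if p ∣ orderOf g then (0 : ℂ) else ((p ^ a : ℕ) : ℂ) * χ g) * conj (ξ g) =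
      ((p ^ a : ℕ) : ℂ) * ((if p ∣ orderOf g then (0 : ℂ) else χ g) * conj (ξ g)) := by
    intro g
    split_ifs <;> ring
  rw [Finset.sum_congr rfl (fun g _ => e1 g), ← Finset.mul_sum]
  field_simp

theorem contrib_memLocalRing (p : ℕ) {M : Ideal AlgInt} [hMp : M.IsPrime] {χ : G → ℂ}
    (hχ : IsCharacter G χ) (ξ : IrrCharacter G) :
    MemLocalRing M (contrib p χ (ξ : G → ℂ)) := by
  have hMtop := hMp.ne_top
  show MemLocalRing M (helper24.omegaFn ((helper1.irrConj ξ : IrrCharacter G) : G → ℂ)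
    (pregCut p χ))
  rw [helper24.omegaFn_eq_sum_classes (helper24.irr_isCharacter (helper1.irrConj ξ).2)
    (pregCut_isClassFunction p (helper24.char_isClassFunction hχ))]
  apply helper24.memLocalRing_sum
  intro C _
  exact helper24.memLocalRing_mul (pregCut_memLocalRing p hMtop hχ _)
    (helper24.centralChar_memLocalRing hMtop _ _)

theorem sameBlock_irrConj {M : Ideal AlgInt} {ξ ξ' : IrrCharacter G}
    (h : SameBlock M (ξ : G → ℂ) (ξ' : G → ℂ)) :
    SameBlock M ((helper1.irrConj ξ : IrrCharacter G) : G → ℂ)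
      ((helper1.irrConj ξ' : IrrCharacter G) : G → ℂ) := by
  intro g
  have key : ∀ ζ : IrrCharacter G, centralChar ((helper1.irrConj ζ : IrrCharacter G) : G → ℂ) g =
      centralChar (ζ : G → ℂ) g⁻¹ := by
    intro ζ
    unfold centralChar
    rw [helper24.centralizer_inv_eq]
    show _ * conj ((ζ : G → ℂ) g) / conj ((ζ : G → ℂ) 1) = _
    rw [helper24.char_inv (helper24.irr_isCharacter ζ.2) g, irr_conj_apply_one ζ.2]
  rw [key, key]
  exact h g⁻¹

theorem contrib_congr (p : ℕ) {M : Ideal AlgInt} [hMp : M.IsPrime] {χ : G → ℂ}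
    (hχ : IsCharacter G χ) {ξ ξ' : IrrCharacter G}
    (h : SameBlock M (ξ : G → ℂ) (ξ' : G → ℂ)) :
    MemLocalIdeal M (contrib p χ (ξ : G → ℂ) - contrib p χ (ξ' : G → ℂ)) :=
  helper24.omegaFn_sub_memLocalIdeal (sameBlock_irrConj h)
    (pregCut_isClassFunction p (helper24.char_isClassFunction hχ))
    (fun g => pregCut_memLocalRing p hMp.ne_top hχ g)

theorem contrib_mem_iff (p : ℕ) {M : Ideal AlgInt} [hMp : M.IsPrime] {χ : G → ℂ}
    (hχ : IsCharacter G χ) {ξ ξ' : IrrCharacter G}
    (h : SameBlock M (ξ : G → ℂ) (ξ' : G → ℂ)) :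
    MemLocalIdeal M (contrib p χ (ξ : G → ℂ)) ↔ MemLocalIdeal M (contrib p χ (ξ' : G → ℂ)) := by
  have h1 := contrib_congr p hχ h
  constructor
  · intro h2
    have := helper24.memLocalIdeal_sub h2 h1
    rwa [sub_sub_cancel] at this
  · intro h2
    have := helper24.memLocalIdeal_add h1 h2
    rwa [sub_add_cancel] at this

end Contrib

section Val

open helper24 in
theorem val_iff {p : ℕ} {M : Ideal AlgInt} (hM : IsPModular p M) (n : ℤ) (m' m e : ℕ)
    (hm' : ¬ p ∣ m') (hm : ¬ p ∣ m) {T : ℂ} (hT : MemLocalRing M T)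
    (hrel : (n : ℂ) * m' = (p : ℂ) ^ e * m * T) :
    (n ≠ 0 ∧ padicValInt p n = e) ↔ ¬ MemLocalIdeal M T := by
  have hp := hM.1
  have hMp : M.IsPrime := hM.2.1.isPrime
  have hMtop := hMp.ne_top
  have hp0 : (p : ℂ) ≠ 0 := by exact_mod_cast hp.ne_zero
  haveI : Fact p.Prime := ⟨hp⟩
  have hmR : MemLocalRing M (m : ℂ) :=
    memLocalRing_of_integral hMtop (isIntegral_natCast_complex m)
  have hmJ : ¬ MemLocalIdeal M (m : ℂ) := natCast_not_memLocalIdeal hM hm
  have hX : ((n * m' : ℤ) : ℂ) / (p : ℂ) ^ e = m * T := by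
    push_cast
    rw [hrel]
    field_simp
  have hcop : IsCoprime ((p : ℤ)) (m' : ℤ) :=
    Nat.isCoprime_iff_coprime.mpr ((Nat.Prime.coprime_iff_not_dvd hp).mpr hm')
  have hdvd : ((p : ℤ) ^ e) ∣ n := by
    rcases Nat.eq_zero_or_pos e with he | he
    · rw [he, pow_zero]; exact one_dvd _
    · obtain ⟨k, rfl⟩ : ∃ k, e = k + 1 := ⟨e - 1, by omega⟩
      have h1 : MemLocalIdeal M (((n * m' : ℤ) : ℂ) / (p : ℂ) ^ k) := by
        have : ((n * m' : ℤ) : ℂ) / (p : ℂ) ^ k =
            (p : ℂ) * (((n * m' : ℤ) : ℂ) / (p : ℂ) ^ (k + 1)) := by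
          field_simp
          ring
        rw [this, hX, mul_comm]
        exact memLocalIdeal_mul_left (memLocalRing_mul hmR hT) (prime_memLocalIdeal hM)
      have h2 := int_dvd_of_div_memLocalIdeal hM k _ h1
      exact (IsCoprime.pow_left hcop).dvd_of_dvd_mul_right h2
  constructor
  · rintro ⟨hn0, hval⟩ hTJ
    have h1 : MemLocalIdeal M (((n * m' : ℤ) : ℂ) / (p : ℂ) ^ e) := by
      rw [hX]; exact memLocalIdeal_mul_left hmR hTJ
    have h2 := int_dvd_of_div_memLocalIdeal hM e _ h1
    have h3 : ((p : ℤ) ^ (e + 1)) ∣ n := (IsCoprime.pow_left hcop).dvd_of_dvd_mul_right h2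
    rw [padicValInt_dvd_iff] at h3
    rcases h3 with h3 | h3
    · exact hn0 h3
    · omega
  · intro hTJ
    have hn0 : n ≠ 0 := by
      rintro rfl
      apply hTJ
      have hT0 : T = 0 := by
        have h := hrel
        rw [Int.cast_zero, zero_mul] at h
        have hm0 : (m : ℂ) ≠ 0 := by
          intro h0
          apply hm
          have : m = 0 := by exact_mod_cast h0
          rw [this]; exact dvd_zero _
        have hpe : (p : ℂ) ^ e ≠ 0 := pow_ne_zero _ hp0
        rcases mul_eq_zero.mp h.symm with h' | h'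
        · rcases mul_eq_zero.mp h' with h'' | h''
          · exact absurd h'' hpe
          · exact absurd h'' hm0
        · exact h'
      rw [hT0]; exact memLocalIdeal_zero hMtop
    refine ⟨hn0, ?_⟩
    have h1 : e ≤ padicValInt p n := by
      rcases (padicValInt_dvd_iff e n).mp hdvd with h | h
      · exact absurd h hn0
      · exact h
    by_contra hne
    have h2 : e + 1 ≤ padicValInt p n := by omega
    have h3 : ((p : ℤ) ^ (e + 1)) ∣ n := (padicValInt_dvd_iff _ _).mpr (Or.inr h2)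
    obtain ⟨c, hc⟩ := h3
    have h4 : MemLocalIdeal M ((m : ℂ) * T) := by
      rw [← hX, hc]
      have : (((p : ℤ) ^ (e + 1) * c * m' : ℤ) : ℂ) / (p : ℂ) ^ e =
          ((c * m' : ℤ) : ℂ) * (p : ℂ) := by
        push_cast
        field_simp
        ring
      rw [this]
      exact memLocalIdeal_mul_left
        (memLocalRing_of_integral hMtop (isIntegral_intCast_complex _)) (prime_memLocalIdeal hM)
    exact not_memLocalIdeal_mul hmR hT hmJ hTJ h4

end Val

end Cfsg.Agent.helper22
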