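import Mathlib
import Cfsg.Agent.Lib_helper22_HtZero1
import Cfsg.Agent.Lib_helper24_CharIntegral

set_option autoImplicit false
set_option linter.unusedSectionVars false
set_option linter.unusedVariables false
set_option linter.style.longLine false

/-!
helper22: Brauer's theorem on contributions: `p^a [χ°, ξ]` has exactly the `p`-part of `ξ(1)`
for all `ξ` in the block of `χ` iff `χ` has height zero.
-/

namespace Cfsg.Agent.helper22

open Cfsg
open scoped ComplexConjugate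

universe u

section Key
variable {G : Type u} [Group G] [Fintype G]

/-- the `p`-regular cut `p^a χ°` with `p^a` the `p`-part of the group order -/
noncomputable def cutFn (p : ℕ) (χ : G → ℂ) : G → ℂ :=
  fun x : G => if p ∣ orderOf x then (0 : ℂ)
    else ((p ^ (Nat.card G).factorization p : ℕ) : ℂ) * χ x

theorem exists_int_inner (p : ℕ) [Fact p.Prime] {χ : G → ℂ} (hχ : IsCharacter G χ)
    (ξ : IrrCharacter G) : ∃ n : ℤ, classInner (cutFn p χ) (ξ : G → ℂ) = n := by
  obtain ⟨α, β, hα, hβ, h⟩ := helper24.isGeneralizedCharacter_pregular_cut p hχ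
  unfold cutFn
  rw [h, helper24.classInner_sub_left]
  obtain ⟨a, ha⟩ := helper12.classInner_char_nat hα (helper24.irr_isCharacter ξ.2)
  obtain ⟨b, hb⟩ := helper12.classInner_char_nat hβ (helper24.irr_isCharacter ξ.2)
  exact ⟨(a : ℤ) - b, by rw [ha, hb]; push_cast; rfl⟩

theorem inner_rel (p : ℕ) [Fact p.Prime] (χ : G → ℂ) (ξ : IrrCharacter G) (n : ℤ)
    (hn : classInner (cutFn p χ) (ξ : G → ℂ) = n) :
    (n : ℂ) * ((Nat.card G / p ^ (Nat.card G).factorization p : ℕ) : ℂ) =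
      (p : ℂ) ^ ((charDegree (ξ : G → ℂ)).factorization p) *
        ((charDegree (ξ : G → ℂ) / p ^ (charDegree (ξ : G → ℂ)).factorization p : ℕ) : ℂ) *
        contrib p χ (ξ : G → ℂ) := by
  have hp : p.Prime := Fact.out
  obtain ⟨a, ha⟩ : ∃ a, a = (Nat.card G).factorization p := ⟨_, rfl⟩
  obtain ⟨d, hd'⟩ : ∃ d, d = charDegree (ξ : G → ℂ) := ⟨_, rfl⟩
  rw [← ha, ← hd']
  have hd : (d : ℂ) = (ξ : G → ℂ) 1 := by
    rw [hd']; exact helper24.char_charDegree_cast (helper24.irr_isCharacter ξ.2)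
  have hG := Nat.ordProj_mul_ordCompl_eq_self (Nat.card G) p
  have hD := Nat.ordProj_mul_ordCompl_eq_self d p
  rw [← ha] at hG
  have h1 := classInner_cut_eq p a χ ξ.2
  have h1' : classInner (cutFn p χ) (ξ : G → ℂ) * (Nat.card G : ℂ) =
      ((p ^ a : ℕ) : ℂ) * (ξ : G → ℂ) 1 * contrib p χ (ξ : G → ℂ) := by
    unfold cutFn
    rw [← ha]
    exact h1
  rw [hn] at h1'
  have hGc : (Nat.card G : ℂ) = ((p ^ a : ℕ) : ℂ) * ((Nat.card G / p ^ a : ℕ) : ℂ) := by
    exact_mod_cast hG.symm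
  have hDc : (ξ : G → ℂ) 1 = (p : ℂ) ^ (d.factorization p) *
      ((d / p ^ d.factorization p : ℕ) : ℂ) := by
    rw [← hd]; exact_mod_cast hD.symm
  rw [hGc, hDc] at h1'
  have hpa : ((p ^ a : ℕ) : ℂ) ≠ 0 := by exact_mod_cast (pow_pos hp.pos a).ne'
  apply mul_left_cancel₀ hpa
  linear_combination h1'

theorem inner_iff (p : ℕ) [Fact p.Prime] {M : Ideal AlgInt} (hM : IsPModular p M) {χ : G → ℂ}
    (hχ : IsCharacter G χ) (ξ : IrrCharacter G) :
    (∃ n : ℤ, classInner (cutFn p χ) (ξ : G → ℂ) = (n : ℂ) ∧ n ≠ 0 ∧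
      padicValInt p n = (charDegree (ξ : G → ℂ)).factorization p) ↔
    ¬ MemLocalIdeal M (contrib p χ (ξ : G → ℂ)) := by
  have hp : p.Prime := Fact.out
  have hMp := hM.2.1.isPrime
  obtain ⟨n, hn⟩ := exists_int_inner p hχ ξ
  have hdpos : 0 < charDegree (ξ : G → ℂ) := helper24.irr_charDegree_pos ξ.2
  have hm' : ¬ p ∣ (Nat.card G) / p ^ (Nat.card G).factorization p :=
    Nat.not_dvd_ordCompl hp Nat.card_pos.ne'
  have hm : ¬ p ∣ charDegree (ξ : G → ℂ) / p ^ ((charDegree (ξ : G → ℂ)).factorization p) :=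
    Nat.not_dvd_ordCompl hp hdpos.ne'
  have key := val_iff hM n _ _ _ hm' hm (contrib_memLocalRing p hχ ξ) (inner_rel p χ ξ n hn)
  constructor
  · rintro ⟨n', hn', h0, hv⟩
    have : n' = n := by exact_mod_cast (hn'.symm.trans hn)
    subst this
    exact key.mp ⟨h0, hv⟩
  · intro h
    obtain ⟨h0, hv⟩ := key.mpr h
    exact ⟨n, hn, h0, hv⟩

theorem cutFn_isClassFunction (p : ℕ) {χ : G → ℂ} (hχ : IsClassFunction G χ) :
    IsClassFunction G (cutFn p χ) := by
  intro g h
  have h1 : orderOf (h * g * h⁻¹) = orderOf g := by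
    have := (MulAut.conj h).orderOf_eq g
    rwa [MulAut.conj_apply] at this
  unfold cutFn
  rw [h1, hχ g h]

theorem classInner_finsum_irr (a : IrrCharacter G → ℂ) (ψ : IrrCharacter G) :
    classInner (fun x => ∑ᶠ φ : IrrCharacter G, a φ * (φ : G → ℂ) x) (ψ : G → ℂ) = a ψ := by
  classical
  haveI := Fintype.ofFinite (IrrCharacter G)
  have h1 : (fun x => ∑ᶠ φ : IrrCharacter G, a φ * (φ : G → ℂ) x) =
      ∑ φ : IrrCharacter G, a φ • (φ : G → ℂ) := by
    funext x
    rw [finsum_eq_sum_of_fintype, Finset.sum_apply]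
    rfl
  rw [h1, helper24.classInner_sum_left]
  rw [Finset.sum_eq_single ψ]
  · rw [helper24.classInner_smul_left, helper24.irr_classInner_self ψ.2, mul_one]
  · intro φ _ hne
    rw [helper24.classInner_smul_left, helper24.irr_classInner_ne φ.2 ψ.2
      (fun h => hne (Subtype.ext h)), mul_zero]
  · intro h; exact absurd (Finset.mem_univ ψ) h

/-- **Brauer**: the self-contribution of a character of height zero is a unit -/
theorem contrib_self_not_mem (p : ℕ) [Fact p.Prime] {M : Ideal AlgInt} (hM : IsPModular p M)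
    (χ : IrrCharacter G)
    (hmin : ∀ ψ : IrrCharacter G, SameBlock M (χ : G → ℂ) (ψ : G → ℂ) →
      (charDegree (χ : G → ℂ)).factorization p ≤ (charDegree (ψ : G → ℂ)).factorization p) :
    ¬ MemLocalIdeal M (contrib p (χ : G → ℂ) (χ : G → ℂ)) := by
  classical
  intro hJ
  have hp : p.Prime := Fact.out
  have hMp : M.IsPrime := hM.2.1.isPrime
  have hMtop := hMp.ne_top
  have hp0 : (p : ℂ) ≠ 0 := by exact_mod_cast hp.ne_zero
  have hχc := helper24.irr_isCharacter χ.2
  obtain ⟨B, hB⟩ : ∃ B, B = blockOf M (χ : G → ℂ) := ⟨_, rfl⟩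
  have hBχ : χ ∈ B := by rw [hB]; exact helper24.sameBlock_refl M hMtop _
  obtain ⟨c, hc0, hceq⟩ := helper24.pregular_cut_in_block p M hM B ⟨χ, hB⟩ χ hBχ
  have hceq' : cutFn p (χ : G → ℂ) =
      fun x => ∑ᶠ ψ : IrrCharacter G, (c ψ : ℂ) * (ψ : G → ℂ) x := hceq
  have hinner : ∀ ψ : IrrCharacter G,
      classInner (cutFn p (χ : G → ℂ)) (ψ : G → ℂ) = c ψ := by
    intro ψ
    rw [hceq']
    exact classInner_finsum_irr _ ψ
  obtain ⟨e₀, he₀⟩ : ∃ e₀, e₀ = (charDegree (χ : G → ℂ)).factorization p := ⟨_, rfl⟩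
  obtain ⟨m', hm'def⟩ : ∃ m' : ℕ, m' = Nat.card G / p ^ (Nat.card G).factorization p := ⟨_, rfl⟩
  have hm' : ¬ p ∣ m' := by
    rw [hm'def]; exact Nat.not_dvd_ordCompl hp Nat.card_pos.ne'
  have hcop : IsCoprime ((p : ℤ)) ((m' : ℕ) : ℤ) :=
    Nat.isCoprime_iff_coprime.mpr ((Nat.Prime.coprime_iff_not_dvd hp).mpr hm')
  have hdiv : ∀ ψ : IrrCharacter G, ((p : ℤ) ^ (e₀ + 1)) ∣ c ψ := by
    intro ψ
    by_cases hψ : ψ ∈ B
    · have hsb : SameBlock M (χ : G → ℂ) (ψ : G → ℂ) := by rw [hB] at hψ; exact hψ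
      have hTJ : MemLocalIdeal M (contrib p (χ : G → ℂ) (ψ : G → ℂ)) :=
        (contrib_mem_iff p hχc hsb).mp hJ
      have hrel := inner_rel p (χ : G → ℂ) ψ (c ψ) (hinner ψ)
      have hle := hmin ψ hsb
      rw [← he₀] at hle
      obtain ⟨eψ, heψ⟩ : ∃ eψ, eψ = (charDegree (ψ : G → ℂ)).factorization p := ⟨_, rfl⟩
      rw [← heψ] at hrel hle
      rw [← hm'def] at hrel
      have h1 : MemLocalIdeal M (((c ψ * (m' : ℤ) : ℤ) : ℂ) / (p : ℂ) ^ e₀) := by
        have e1 : (((c ψ * (m' : ℤ) : ℤ) : ℂ) / (p : ℂ) ^ e₀) =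
            ((p : ℂ) ^ (eψ - e₀) * ((charDegree (ψ : G → ℂ) / p ^ eψ : ℕ) : ℂ)) *
              contrib p (χ : G → ℂ) (ψ : G → ℂ) := by
          have e2 : (p : ℂ) ^ eψ = (p : ℂ) ^ (eψ - e₀) * (p : ℂ) ^ e₀ := by
            rw [← pow_add]; congr 1; omega
          push_cast
          rw [hrel, e2]
          field_simp
        rw [e1]
        refine helper24.memLocalIdeal_mul_left ?_ hTJ
        exact helper24.memLocalRing_of_integral hMtop
          (IsIntegral.mul (IsIntegral.pow (helper24.isIntegral_natCast_complex p) _)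
            (helper24.isIntegral_natCast_complex _))
      have h2 := int_dvd_of_div_memLocalIdeal hM e₀ _ h1
      exact (IsCoprime.pow_left hcop).dvd_of_dvd_mul_right h2
    · rw [hc0 ψ hψ]; exact dvd_zero _
  obtain ⟨f, hf⟩ : ∃ f : G → ℂ,
      f = fun x => cutFn p (χ : G → ℂ) x / (p : ℂ) ^ (e₀ + 1) := ⟨_, rfl⟩
  have hcl : IsClassFunction G (cutFn p (χ : G → ℂ)) :=
    cutFn_isClassFunction p (helper24.char_isClassFunction hχc)
  have hfR : helper24.IsRComb G f := by
    constructor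
    · intro g h
      rw [hf]
      show cutFn p _ (h * g * h⁻¹) / _ = cutFn p _ g / _
      rw [hcl g h]
    · intro ψ
      have e1 : classInner f (ψ : G → ℂ) = (c ψ : ℂ) / (p : ℂ) ^ (e₀ + 1) := by
        have hfs : f = ((p : ℂ) ^ (e₀ + 1))⁻¹ • cutFn p (χ : G → ℂ) := by
          rw [hf]; funext x
          simp [div_eq_inv_mul]
        rw [hfs, helper24.classInner_smul_left, hinner ψ]
        ring
      rw [e1]
      obtain ⟨k, hk⟩ := hdiv ψ
      rw [hk]
      push_cast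
      rw [mul_div_cancel_left₀ _ (pow_ne_zero _ hp0)]
      exact helper24.isIntegral_intCast_complex k
  have hvan : ∀ x : G, p ∣ orderOf x → f x = 0 := by
    intro x hx
    rw [hf]
    show cutFn p _ x / _ = 0
    unfold cutFn
    rw [if_pos hx, zero_div]
  have hint := helper24.isIntegral_div_of_vanish_psingular p hfR hvan
  have hf1 : f 1 / ((p ^ (Nat.card G).factorization p : ℕ) : ℂ) =
      ((charDegree (χ : G → ℂ) : ℕ) : ℂ) / ((p ^ (e₀ + 1) : ℕ) : ℂ) := by
    rw [hf]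
    show cutFn p _ 1 / _ / _ = _
    unfold cutFn
    rw [if_neg (by rw [orderOf_one]; exact fun h => hp.ne_one (Nat.dvd_one.mp h))]
    rw [helper24.char_charDegree_cast hχc]
    have hpa : ((p ^ (Nat.card G).factorization p : ℕ) : ℂ) ≠ 0 := by
      exact_mod_cast (pow_pos hp.pos _).ne'
    push_cast
    push_cast at hpa
    field_simp
  rw [hf1] at hint
  have hdvd := helper24.dvd_of_isIntegral_div (pow_pos hp.pos _).ne' hint
  rw [he₀] at hdvd
  exact Nat.pow_succ_factorization_not_dvd (helper24.irr_charDegree_pos χ.2).ne' hp hdvd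

end Key

end Cfsg.Agent.helper22
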