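import Mathlib
import Cfsg.Agent.Lib_helper22_HtZero2

set_option autoImplicit false
set_option linter.unusedSectionVars false
set_option linter.unusedVariables false
set_option linter.style.longLine false

/-!
helper22: height zero criterion via contributions (Brauer).
-/

namespace Cfsg.Agent.helper22

open Cfsg
open scoped ComplexConjugate

universe u

section Crit
variable {G : Type u} [Group G] [Fintype G]

theorem classInner_cutFn_symm (p : ℕ) (χ ξ : G → ℂ) :
    classInner (cutFn p χ) ξ = conj (classInner (cutFn p ξ) χ) := by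
  unfold classInner cutFn
  rw [map_mul, map_inv₀, Complex.conj_natCast, map_sum]
  congr 1
  apply Finset.sum_congr rfl
  intro g _
  split_ifs
  · simp
  · rw [map_mul, map_mul, Complex.conj_conj, Complex.conj_natCast]
    ring

theorem blockHeight_eq_zero_iff (p : ℕ) (B : Set (IrrCharacter G)) (χ : IrrCharacter G)
    (hχ : χ ∈ B) :
    blockHeight p B (χ : G → ℂ) = 0 ↔
      ∀ ψ ∈ B, (charDegree (χ : G → ℂ)).factorization p ≤
        (charDegree (ψ : G → ℂ)).factorization p := by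
  unfold blockHeight
  obtain ⟨S, hS⟩ : ∃ S : Set ℕ,
    S = (fun ψ : IrrCharacter G => (charDegree (ψ : G → ℂ)).factorization p) '' B := ⟨_, rfl⟩
  rw [← hS]
  have hne : S.Nonempty := by rw [hS]; exact ⟨_, χ, hχ, rfl⟩
  constructor
  · intro h ψ hψ
    have h1 : sInf S ≤ (charDegree (ψ : G → ℂ)).factorization p := by
      apply Nat.sInf_le
      rw [hS]; exact ⟨ψ, hψ, rfl⟩
    omega
  · intro h
    have h1 := Nat.sInf_mem hne
    rw [hS] at h1
    obtain ⟨ψ, hψ, hψe⟩ := h1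
    have h2 := h ψ hψ
    rw [hS]
    have : (fun ψ : IrrCharacter G => (charDegree (ψ : G → ℂ)).factorization p) ψ =
      (charDegree (ψ : G → ℂ)).factorization p := rfl
    rw [this] at hψe
    omega

theorem mem_block_iff {M : Ideal AlgInt} (hMp : M.IsPrime) {B : Set (IrrCharacter G)}
    (hB : IsPBlock M B) {χ : IrrCharacter G} (hχ : χ ∈ B) (ψ : IrrCharacter G) :
    ψ ∈ B ↔ SameBlock M (χ : G → ℂ) (ψ : G → ℂ) := by
  obtain ⟨χ₀, rfl⟩ := hB
  have h0 : SameBlock M (χ₀ : G → ℂ) (χ : G → ℂ) := hχ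
  constructor
  · intro h
    exact helper24.sameBlock_trans (helper24.sameBlock_symm h0) h
  · intro h
    exact helper24.sameBlock_trans h0 h

/-- `χ` has height zero iff its self-contribution is a unit -/
theorem height_zero_iff_contrib (p : ℕ) [Fact p.Prime] {M : Ideal AlgInt} (hM : IsPModular p M)
    {B : Set (IrrCharacter G)} (hB : IsPBlock M B) {χ : IrrCharacter G} (hχ : χ ∈ B) :
    blockHeight p B (χ : G → ℂ) = 0 ↔
      ¬ MemLocalIdeal M (contrib p (χ : G → ℂ) (χ : G → ℂ)) := by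
  have hp : p.Prime := Fact.out
  have hMp : M.IsPrime := hM.2.1.isPrime
  have hMtop := hMp.ne_top
  have hp0 : (p : ℂ) ≠ 0 := by exact_mod_cast hp.ne_zero
  have hχc := helper24.irr_isCharacter χ.2
  rw [blockHeight_eq_zero_iff p B χ hχ]
  constructor
  · intro h
    apply contrib_self_not_mem p hM χ
    intro ψ hψ
    exact h ψ ((mem_block_iff hMp hB hχ ψ).mpr hψ)
  · intro hJ
    by_contra hcon
    push_neg at hcon
    obtain ⟨ψ₀, hψ₀B, hlt⟩ := hcon
    have hsb : SameBlock M (χ : G → ℂ) (ψ₀ : G → ℂ) := (mem_block_iff hMp hB hχ ψ₀).mp hψ₀B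
    have hψ₀c := helper24.irr_isCharacter ψ₀.2
    apply hJ
    rw [contrib_mem_iff p hχc hsb]
    obtain ⟨n, hn⟩ := exists_int_inner p hχc ψ₀
    have hn' : classInner (cutFn p (ψ₀ : G → ℂ)) (χ : G → ℂ) = n := by
      have h1 := classInner_cutFn_symm p (ψ₀ : G → ℂ) (χ : G → ℂ)
      rw [hn, map_intCast] at h1
      exact h1
    have r1 := inner_rel p (χ : G → ℂ) ψ₀ n hn
    have r2 := inner_rel p (ψ₀ : G → ℂ) χ n hn'
    obtain ⟨e₁, he₁⟩ : ∃ e₁, e₁ = (charDegree (ψ₀ : G → ℂ)).factorization p := ⟨_, rfl⟩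
    obtain ⟨e₂, he₂⟩ : ∃ e₂, e₂ = (charDegree (χ : G → ℂ)).factorization p := ⟨_, rfl⟩
    obtain ⟨m₁, hm₁⟩ : ∃ m₁ : ℕ, m₁ = charDegree (ψ₀ : G → ℂ) / p ^ e₁ := ⟨_, rfl⟩
    obtain ⟨m₂, hm₂⟩ : ∃ m₂ : ℕ, m₂ = charDegree (χ : G → ℂ) / p ^ e₂ := ⟨_, rfl⟩
    rw [← he₁, ← hm₁] at r1
    rw [← he₂, ← hm₂] at r2
    rw [← he₁, ← he₂] at hlt
    have hm₁p : ¬ p ∣ m₁ := by
      rw [hm₁, he₁]
      exact Nat.not_dvd_ordCompl hp (helper24.irr_charDegree_pos ψ₀.2).ne'
    have hT1 := contrib_memLocalRing (M := M) p hχc ψ₀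
    have hT2 := contrib_memLocalRing (M := M) p hψ₀c χ
    -- m₁ T₁ = p^(e₂-e₁) m₂ T₂
    have key : (m₁ : ℂ) * contrib p (χ : G → ℂ) (ψ₀ : G → ℂ) =
        (p : ℂ) * ((p : ℂ) ^ (e₂ - e₁ - 1) * (m₂ : ℂ) * contrib p (ψ₀ : G → ℂ) (χ : G → ℂ)) := by
      have e3 : (p : ℂ) ^ e₂ = (p : ℂ) ^ e₁ * ((p : ℂ) * (p : ℂ) ^ (e₂ - e₁ - 1)) := by
        rw [← pow_succ', ← pow_add]; congr 1; omega
      have hpe : (p : ℂ) ^ e₁ ≠ 0 := pow_ne_zero _ hp0
      apply mul_left_cancel₀ hpe
      rw [e3] at r2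
      linear_combination r2 - r1
    have hJ2 : MemLocalIdeal M ((m₁ : ℂ) * contrib p (χ : G → ℂ) (ψ₀ : G → ℂ)) := by
      rw [key, mul_comm]
      refine helper24.memLocalIdeal_mul_left ?_ (helper24.prime_memLocalIdeal hM)
      exact helper24.memLocalRing_mul (helper24.memLocalRing_mul
        (helper24.memLocalRing_of_integral hMtop
          (IsIntegral.pow (helper24.isIntegral_natCast_complex p) _))
        (helper24.memLocalRing_of_integral hMtop (helper24.isIntegral_natCast_complex _))) hT2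
    by_contra hcon2
    exact helper24.not_memLocalIdeal_mul
      (helper24.memLocalRing_of_integral hMtop (helper24.isIntegral_natCast_complex _)) hT1
      (helper24.natCast_not_memLocalIdeal hM hm₁p) hcon2 hJ2

/-- the criterion for each member of the block -/
theorem height_zero_iff_inner (p : ℕ) [Fact p.Prime] {M : Ideal AlgInt} (hM : IsPModular p M)
    {B : Set (IrrCharacter G)} (hB : IsPBlock M B) {χ : IrrCharacter G} (hχ : χ ∈ B)
    (ξ : IrrCharacter G) (hξ : ξ ∈ B) :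
    blockHeight p B (χ : G → ℂ) = 0 ↔
      ∃ n : ℤ, classInner (cutFn p (χ : G → ℂ)) (ξ : G → ℂ) = (n : ℂ) ∧ n ≠ 0 ∧
        padicValInt p n = (charDegree (ξ : G → ℂ)).factorization p := by
  have hMp : M.IsPrime := hM.2.1.isPrime
  have hχc := helper24.irr_isCharacter χ.2
  rw [height_zero_iff_contrib p hM hB hχ, inner_iff p hM hχc ξ,
    contrib_mem_iff p hχc ((mem_block_iff hMp hB hχ ξ).mp hξ)]

end Crit

end Cfsg.Agent.helper22
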