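import Mathlib
import Cfsg.Agent.Lib_helper22_HtZero3
import Cfsg.Agent.Lib_helper24_SecondMain
import Cfsg.Agent.Lib_helper24_ThirdMain

set_option autoImplicit false
set_option linter.unusedSectionVars false
set_option linter.unusedVariables false
set_option linter.style.longLine false

/-!
helper22: real-valued irreducible characters of odd degree lie in the principal `2`-block.
-/

namespace Cfsg.Agent.helper22

open Cfsg
open scoped ComplexConjugate

universe u

section Invol

theorem sum_mem_of_involution {α : Type*} [DecidableEq α] (P : ℂ → Prop) (h0 : P 0)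
    (hadd : ∀ x y, P x → P y → P (x + y)) (ι : α → α) (f : α → ℂ) :
    ∀ (n : ℕ) (s : Finset α), s.card = n → (∀ a ∈ s, ι a ∈ s) → (∀ a ∈ s, ι (ι a) = a) →
      (∀ a ∈ s, ι a ≠ a) → (∀ a ∈ s, P (f a + f (ι a))) → P (∑ a ∈ s, f a) := by
  intro n
  induction n using Nat.strong_induction_on with
  | _ n ih =>
    intro s hcard hι hιι hne hf
    rcases s.eq_empty_or_nonempty with rfl | ⟨a, ha⟩
    · simpa using h0
    · have hιa : ι a ∈ s := hι a ha
      have hne' : ι a ≠ a := hne a ha
      have hιa' : ι a ∈ s.erase a := Finset.mem_erase.mpr ⟨hne', hιa⟩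
      have hsum : ∑ x ∈ s, f x = (f a + f (ι a)) + ∑ x ∈ (s.erase a).erase (ι a), f x := by
        rw [← Finset.add_sum_erase s f ha, ← Finset.add_sum_erase (s.erase a) f hιa', add_assoc]
      rw [hsum]
      apply hadd _ _ (hf a ha)
      have hcard' : ((s.erase a).erase (ι a)).card < n := by
        rw [Finset.card_erase_of_mem hιa', Finset.card_erase_of_mem ha, hcard]
        have : 0 < s.card := Finset.card_pos.mpr ⟨a, ha⟩
        omega
      have hmem : ∀ b, b ∈ (s.erase a).erase (ι a) ↔ b ≠ ι a ∧ b ≠ a ∧ b ∈ s := by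
        intro b
        rw [Finset.mem_erase, Finset.mem_erase]
      apply ih _ hcard' _ rfl
      · intro b hb
        obtain ⟨hb1, hb2, hb3⟩ := (hmem b).mp hb
        rw [hmem]
        refine ⟨?_, ?_, hι b hb3⟩
        · intro h
          apply hb2
          rw [← hιι b hb3, h, hιι a ha]
        · intro h
          apply hb1
          rw [← hιι b hb3, h]
      · intro b hb
        exact hιι b ((hmem b).mp hb).2.2
      · intro b hb
        exact hne b ((hmem b).mp hb).2.2
      · intro b hb
        exact hf b ((hmem b).mp hb).2.2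

end Invol

section Real
variable {G : Type u} [Group G] [Fintype G]

theorem blockCoeff_inv_of_conj_closed (A : Set (IrrCharacter G))
    (hA : ∀ χ, χ ∈ A → helper1.irrConj χ ∈ A) (g : G) :
    blockCoeff A g⁻¹ = blockCoeff A g := by
  classical
  haveI := Fintype.ofFinite (IrrCharacter G)
  rw [helper24.blockCoeff_eq_sum A, helper24.blockCoeff_eq_sum A]
  congr 1
  apply Finset.sum_nbij' (fun χ => helper1.irrConj χ) (fun χ => helper1.irrConj χ)
  · intro χ hχ
    simp only [Finset.mem_filter, Finset.mem_univ, true_and] at hχ ⊢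
    exact hA χ hχ
  · intro χ hχ
    simp only [Finset.mem_filter, Finset.mem_univ, true_and] at hχ ⊢
    exact hA χ hχ
  · intro χ _
    simp
  · intro χ _
    simp
  · intro χ _
    rw [helper1.irrConj_apply, helper1.irrConj_apply, Complex.conj_conj,
      helper24.char_inv (helper24.irr_isCharacter χ.2), Complex.conj_conj, irr_conj_apply_one χ.2]

theorem irrConj_oneIrr : (helper1.irrConj (helper24.oneIrr G) : IrrCharacter G) = helper24.oneIrr G := by
  apply Subtype.ext
  funext g
  show conj ((1 : ℂ)) = 1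
  simp

theorem principal_conj_closed {M : Ideal AlgInt} (χ : IrrCharacter G)
    (h : χ ∈ blockOf M ((helper24.oneIrr G : IrrCharacter G) : G → ℂ)) :
    helper1.irrConj χ ∈ blockOf M ((helper24.oneIrr G : IrrCharacter G) : G → ℂ) := by
  have h1 : SameBlock M ((helper24.oneIrr G : IrrCharacter G) : G → ℂ) (χ : G → ℂ) := h
  have h2 := sameBlock_irrConj h1
  rw [irrConj_oneIrr] at h2
  exact h2

/-- real-valued irreducible characters of odd degree lie in the principal `2`-block -/
theorem real_odd_mem_principal {M : Ideal AlgInt} (hM : IsPModular 2 M)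
    (χ : IrrCharacter G) (hreal : ∀ g, ((χ : G → ℂ) g).im = 0)
    (hodd : Odd (charDegree (χ : G → ℂ))) : χ ∈ principalBlock M G := by
  classical
  haveI := Fintype.ofFinite (IrrCharacter G)
  have hMp : M.IsPrime := hM.2.1.isPrime
  have hMtop := hMp.ne_top
  haveI : Fact (Nat.Prime 2) := ⟨Nat.prime_two⟩
  by_contra hnot
  obtain ⟨one, hone⟩ : ∃ o : IrrCharacter G, o = helper24.oneIrr G := ⟨_, rfl⟩
  have hB : principalBlock M G = blockOf M (one : G → ℂ) := by rw [hone]; rfl
  obtain ⟨a, ha⟩ : ∃ a : G → ℂ, a = blockCoeff (blockOf M (one : G → ℂ)) := ⟨_, rfl⟩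
  obtain ⟨hacl, haR, haω, -⟩ := helper24.blockCoeff_props (M := M) one
  rw [← ha] at hacl haR haω
  have h1 : helper24.omegaFn (one : G → ℂ) a = 1 := by
    rw [haω one]
    exact if_pos (show one ∈ blockOf M (one : G → ℂ) from helper24.sameBlock_refl M hMtop _)
  have h2 : helper24.omegaFn (χ : G → ℂ) a = 0 := by
    rw [haω χ]
    exact if_neg (by rwa [hB] at hnot)
  have hχc := helper24.irr_isCharacter χ.2
  have hχ1 : (χ : G → ℂ) 1 ≠ 0 := helper24.irr_apply_one_ne_zero χ.2
  obtain ⟨F, hF⟩ : ∃ F : G → ℂ,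
      F = fun h => a h * (((χ : G → ℂ) 1 - (χ : G → ℂ) h) / (χ : G → ℂ) 1) := ⟨_, rfl⟩
  have hdiff : helper24.omegaFn (one : G → ℂ) a - helper24.omegaFn (χ : G → ℂ) a =
      ∑ h : G, F h := by
    unfold helper24.omegaFn
    rw [hone, hF]
    show (∑ h, a h * 1) / 1 - _ = _
    rw [div_one, Finset.sum_div, ← Finset.sum_sub_distrib]
    apply Finset.sum_congr rfl
    intro h _
    field_simp
  have hainv : ∀ h : G, a h⁻¹ = a h := by
    intro h
    rw [ha, hone]
    exact blockCoeff_inv_of_conj_closed _ (fun ψ hψ => principal_conj_closed ψ hψ) h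
  have hχinv : ∀ h : G, (χ : G → ℂ) h⁻¹ = (χ : G → ℂ) h := by
    intro h
    rw [helper24.char_inv hχc h]
    exact Complex.conj_eq_iff_im.mpr (hreal h)
  have hFinv : ∀ h : G, F h⁻¹ = F h := by
    intro h
    rw [hF]
    show a h⁻¹ * _ = a h * _
    rw [hainv h, hχinv h]
  have hd2 : ¬ 2 ∣ charDegree (χ : G → ℂ) := by
    intro h
    exact (Nat.not_even_iff_odd.mpr hodd) (even_iff_two_dvd.mpr h)
  have hFR : ∀ h : G, MemLocalRing M (F h) := by
    intro h
    rw [hF]
    show MemLocalRing M (a h * (((χ : G → ℂ) 1 - (χ : G → ℂ) h) / (χ : G → ℂ) 1))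
    apply helper24.memLocalRing_mul (haR h)
    rw [div_eq_mul_inv]
    apply helper24.memLocalRing_mul
    · exact helper24.memLocalRing_sub
        (helper24.memLocalRing_of_integral hMtop (helper24.char_isIntegral hχc 1))
        (helper24.memLocalRing_of_integral hMtop (helper24.char_isIntegral hχc h))
    · rw [← helper24.char_charDegree_cast hχc]
      exact helper24.memLocalRing_inv
        (helper24.memLocalRing_of_integral hMtop (helper24.isIntegral_natCast_complex _))
        (helper24.natCast_not_memLocalIdeal hM hd2)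
  obtain ⟨s, hs⟩ : ∃ s : Finset G, s = Finset.univ.filter (fun h : G => ¬ 2 ∣ orderOf h ∧ h ≠ 1) :=
    ⟨_, rfl⟩
  have hsmem : ∀ h, h ∈ s ↔ (¬ 2 ∣ orderOf h ∧ h ≠ 1) := by
    intro h; rw [hs]; simp
  have hFs : ∑ h, F h = ∑ h ∈ s, F h := by
    symm
    apply Finset.sum_subset (Finset.subset_univ _)
    intro h _ hh
    rw [hsmem] at hh
    rw [hF]
    show a h * _ = 0
    by_cases h2' : 2 ∣ orderOf h
    · rw [ha, helper24.blockCoeff_psingular 2 M hM one h h2', zero_mul]
    · have : h = 1 := by
        by_contra hne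
        exact hh ⟨h2', hne⟩
      rw [this, sub_self, zero_div, mul_zero]
  have hJ : MemLocalIdeal M (∑ h ∈ s, F h) := by
    apply sum_mem_of_involution (MemLocalIdeal M) (helper24.memLocalIdeal_zero hMtop)
      (fun x y hx hy => helper24.memLocalIdeal_add hx hy) (fun h => h⁻¹) F s.card s rfl
    · intro h hh
      rw [hsmem] at hh ⊢
      rw [orderOf_inv]
      exact ⟨hh.1, fun h' => hh.2 (inv_eq_one.mp h')⟩
    · intro h _
      exact inv_inv h
    · intro h hh hinv
      rw [hsmem] at hh
      have hsq : h ^ 2 = 1 := by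
        rw [pow_two]
        calc h * h = h⁻¹ * h := by rw [hinv]
          _ = 1 := inv_mul_cancel h
      have hdvd : orderOf h ∣ 2 := orderOf_dvd_of_pow_eq_one hsq
      rcases (Nat.dvd_prime Nat.prime_two).mp hdvd with h1' | h2'
      · exact hh.2 (orderOf_eq_one_iff.mp h1')
      · exact hh.1 (by rw [h2'])
    · intro h _
      show MemLocalIdeal M (F h + F h⁻¹)
      rw [hFinv h, ← two_mul, mul_comm]
      have h2J : MemLocalIdeal M ((2 : ℕ) : ℂ) := helper24.prime_memLocalIdeal hM
      have : ((2 : ℕ) : ℂ) = 2 := by norm_num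
      rw [this] at h2J
      exact helper24.memLocalIdeal_mul_left (hFR h) h2J
  have hfin : MemLocalIdeal M (1 : ℂ) := by
    have h3 := hdiff
    rw [h1, h2, sub_zero] at h3
    rw [h3, hFs]
    exact hJ
  exact helper24.not_memLocalIdeal_one hfin

end Real

end Cfsg.Agent.helper22
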