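import Mathlib
import Cfsg.Agent.Lib_helper22_HtZero4

set_option autoImplicit false
set_option linter.unusedSectionVars false
set_option linter.unusedVariables false
set_option linter.style.longLine false

/-!
helper22: the number of real-valued irreducible characters of odd degree is at most `|G|_2^2`.
-/

namespace Cfsg.Agent.helper22

open Cfsg
open scoped ComplexConjugate

universe u

section Count
variable {G : Type u} [Group G] [Fintype G]

theorem parseval_cut [Fintype (IrrCharacter G)] (p : ℕ) [Fact p.Prime] {M : Ideal AlgInt}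
    (hM : IsPModular p M) (χ : IrrCharacter G) :
    ∃ c : IrrCharacter G → ℤ, (∀ ψ : IrrCharacter G,
        classInner (cutFn p (χ : G → ℂ)) (ψ : G → ℂ) = c ψ) ∧
      classInner (cutFn p (χ : G → ℂ)) (cutFn p (χ : G → ℂ)) =
        ∑ ψ : IrrCharacter G, ((c ψ : ℂ)) ^ 2 := by
  classical
  have hMp : M.IsPrime := hM.2.1.isPrime
  have hMtop := hMp.ne_top
  obtain ⟨B, hB⟩ : ∃ B, B = blockOf M (χ : G → ℂ) := ⟨_, rfl⟩
  have hBχ : χ ∈ B := by rw [hB]; exact helper24.sameBlock_refl M hMtop _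
  obtain ⟨c, hc0, hceq⟩ := helper24.pregular_cut_in_block p M hM B ⟨χ, hB⟩ χ hBχ
  have hceq' : cutFn p (χ : G → ℂ) =
      fun x => ∑ᶠ ψ : IrrCharacter G, (c ψ : ℂ) * (ψ : G → ℂ) x := hceq
  have hinner : ∀ ψ : IrrCharacter G,
      classInner (cutFn p (χ : G → ℂ)) (ψ : G → ℂ) = c ψ := by
    intro ψ
    rw [hceq']
    exact classInner_finsum_irr _ ψ
  refine ⟨c, hinner, ?_⟩
  have h1 : cutFn p (χ : G → ℂ) = ∑ φ : IrrCharacter G, (c φ : ℂ) • (φ : G → ℂ) := by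
    rw [hceq']
    funext x
    rw [finsum_eq_sum_of_fintype, Finset.sum_apply]
    rfl
  conv_lhs => rw [h1]
  rw [helper24.classInner_sum_left]
  apply Finset.sum_congr rfl
  intro ψ _
  rw [helper24.classInner_smul_left, ← h1, ← helper24.classInner_conj_symm, hinner ψ, map_intCast]
  ring

theorem card_real_odd_le {M : Ideal AlgInt} (hM : IsPModular 2 M) :
    Nat.card {χ : IrrCharacter G // (∀ g : G, ((χ : G → ℂ) g).im = 0) ∧
      Odd (charDegree (χ : G → ℂ))} ≤ 2 ^ (2 * (Nat.card G).factorization 2) := by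
  classical
  haveI := Fintype.ofFinite (IrrCharacter G)
  haveI : Fact (Nat.Prime 2) := ⟨Nat.prime_two⟩
  have hMp : M.IsPrime := hM.2.1.isPrime
  have hMtop := hMp.ne_top
  obtain ⟨one, hone'⟩ : ∃ o : IrrCharacter G, o = helper24.oneIrr G := ⟨_, rfl⟩
  obtain ⟨c, hc, hpars⟩ := parseval_cut 2 hM one
  have hB : IsPBlock M (principalBlock M G) := ⟨one, by rw [hone']; rfl⟩
  have hone : one ∈ principalBlock M G := by
    rw [hone']; exact helper24.oneIrr_mem_principalBlock hMtop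
  have hdeg1 : charDegree (one : G → ℂ) = 1 := by
    apply helper24.charDegree_natCast _ 1
    rw [hone']
    show (1 : ℂ) = ((1 : ℕ) : ℂ)
    simp
  have hht : blockHeight 2 (principalBlock M G) (one : G → ℂ) = 0 := by
    rw [blockHeight_eq_zero_iff 2 _ one hone]
    intro ψ _
    rw [hdeg1]
    simp
  have hne : ∀ ψ : IrrCharacter G, (∀ g, ((ψ : G → ℂ) g).im = 0) →
      Odd (charDegree (ψ : G → ℂ)) → c ψ ≠ 0 := by
    intro ψ h1 h2
    have hψ := real_odd_mem_principal hM ψ h1 h2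
    obtain ⟨n, hn, hn0, -⟩ := (height_zero_iff_inner 2 hM hB hone ψ hψ).mp hht
    have : n = c ψ := by exact_mod_cast (hn.symm.trans (hc ψ))
    rw [← this]; exact hn0
  rw [Nat.card_eq_fintype_card, Fintype.card_subtype]
  obtain ⟨S, hS⟩ : ∃ S : Finset (IrrCharacter G), S = Finset.univ.filter
    (fun χ : IrrCharacter G => (∀ g : G, ((χ : G → ℂ) g).im = 0) ∧
      Odd (charDegree (χ : G → ℂ))) := ⟨_, rfl⟩
  rw [← hS]
  have h1 : (S.card : ℤ) ≤ ∑ ψ : IrrCharacter G, (c ψ) ^ 2 := by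
    calc (S.card : ℤ) = ∑ ψ ∈ S, (1 : ℤ) := by simp
      _ ≤ ∑ ψ ∈ S, (c ψ) ^ 2 := Finset.sum_le_sum (fun ψ hψ => by
          rw [hS] at hψ
          have h0 := hne ψ (Finset.mem_filter.mp hψ).2.1 (Finset.mem_filter.mp hψ).2.2
          have h1 : 1 ≤ |c ψ| := Int.one_le_abs h0
          nlinarith [sq_abs (c ψ)])
      _ ≤ ∑ ψ, (c ψ) ^ 2 :=
          Finset.sum_le_sum_of_subset_of_nonneg (Finset.subset_univ _) (fun ψ _ _ => sq_nonneg _)
  obtain ⟨a, ha⟩ : ∃ a, a = (Nat.card G).factorization 2 := ⟨_, rfl⟩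
  rw [← ha]
  obtain ⟨N, hN⟩ : ∃ N : ℕ, N = (Finset.univ.filter (fun g : G => ¬ 2 ∣ orderOf g)).card :=
    ⟨_, rfl⟩
  have hG0 : (Nat.card G : ℂ) ≠ 0 := by exact_mod_cast Nat.card_pos.ne'
  have h2 : ((∑ ψ : IrrCharacter G, (c ψ) ^ 2 : ℤ) : ℂ) * (Nat.card G : ℂ) =
      ((2 ^ a : ℕ) : ℂ) ^ 2 * (N : ℂ) := by
    push_cast
    rw [← hpars]
    unfold classInner cutFn
    rw [← ha, hone']
    show ((Nat.card G : ℂ)⁻¹ * ∑ g : G, (if 2 ∣ orderOf g then (0 : ℂ) else ((2 ^ a : ℕ) : ℂ) * 1) *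
      conj (if 2 ∣ orderOf g then (0 : ℂ) else ((2 ^ a : ℕ) : ℂ) * 1)) * (Nat.card G : ℂ) = _
    have e1 : ∀ g : G, (if 2 ∣ orderOf g then (0 : ℂ) else ((2 ^ a : ℕ) : ℂ) * 1) *
        conj (if 2 ∣ orderOf g then (0 : ℂ) else ((2 ^ a : ℕ) : ℂ) * 1) =
        if ¬ 2 ∣ orderOf g then ((2 ^ a : ℕ) : ℂ) ^ 2 else 0 := by
      intro g
      split_ifs with h
      · simp
      · rw [mul_one, Complex.conj_natCast]; ring
    rw [Finset.sum_congr rfl (fun g _ => e1 g), ← Finset.sum_filter, Finset.sum_const, ← hN,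
      nsmul_eq_mul]
    field_simp
    push_cast
    ring
  have h3 : (∑ ψ : IrrCharacter G, (c ψ) ^ 2) * (Nat.card G : ℤ) =
      ((2 ^ a : ℕ) : ℤ) ^ 2 * (N : ℤ) := by exact_mod_cast h2
  have h4 : (N : ℤ) ≤ (Nat.card G : ℤ) := by
    have : N ≤ Nat.card G := by
      rw [hN, Nat.card_eq_fintype_card]
      exact Finset.card_le_univ _
    exact_mod_cast this
  have hGpos : (0 : ℤ) < (Nat.card G : ℤ) := by exact_mod_cast Nat.card_pos
  have h5 : ∑ ψ : IrrCharacter G, (c ψ) ^ 2 ≤ ((2 ^ a : ℕ) : ℤ) ^ 2 := by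
    apply le_of_mul_le_mul_right _ hGpos
    rw [h3]
    exact mul_le_mul_of_nonneg_left h4 (sq_nonneg _)
  have h6 : (S.card : ℤ) ≤ ((2 ^ (2 * a) : ℕ) : ℤ) := by
    have : ((2 ^ (2 * a) : ℕ) : ℤ) = ((2 ^ a : ℕ) : ℤ) ^ 2 := by
      push_cast
      rw [mul_comm, pow_mul]
    rw [this]
    exact h1.trans h5
  exact_mod_cast h6

end Count

end Cfsg.Agent.helper22
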