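import Mathlib
import Cfsg.Agent.Lib_helper22_HtZero5

set_option autoImplicit false
set_option linter.unusedSectionVars false
set_option linter.unusedVariables false
set_option linter.style.longLine false

/-!
helper22: Brauer's theorem `ν_p (∑_{χ ∈ B} χ(1)^2) = 2a - d`.
-/

namespace Cfsg.Agent.helper22

open Cfsg
open scoped ComplexConjugate

universe u

section Ints

theorem int_dvd_of_isIntegral_div {z : ℤ} {b : ℕ} (hb : b ≠ 0)
    (h : IsIntegral ℤ ((z : ℂ) / (b : ℂ))) : (b : ℤ) ∣ z := by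
  have h1 : ((z : ℂ) / (b : ℂ)) = algebraMap ℚ ℂ ((z : ℚ) / (b : ℚ)) := by
    simp
  rw [h1, isIntegral_algebraMap_iff (algebraMap ℚ ℂ).injective] at h
  obtain ⟨y, hy⟩ := IsIntegrallyClosed.isIntegral_iff.mp h
  have hbq : (b : ℚ) ≠ 0 := by exact_mod_cast hb
  have h2 : (y : ℚ) * b = z := by
    have : (algebraMap ℤ ℚ y) = (y : ℚ) := rfl
    rw [this] at hy
    rw [hy, div_mul_cancel₀ _ hbq]
  have h3 : y * (b : ℤ) = z := by exact_mod_cast h2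
  exact ⟨y, by rw [← h3, mul_comm]⟩

end Ints

section Sq
variable {G : Type u} [Group G] [Fintype G]

/-- simpler form of the relation between the inner product and the contribution -/
theorem inner_rel' (p : ℕ) [Fact p.Prime] (χ : G → ℂ) (ξ : IrrCharacter G) (n : ℤ)
    (hn : classInner (cutFn p χ) (ξ : G → ℂ) = n) :
    (n : ℂ) * ((Nat.card G / p ^ (Nat.card G).factorization p : ℕ) : ℂ) =
      ((charDegree (ξ : G → ℂ) : ℕ) : ℂ) * contrib p χ (ξ : G → ℂ) := by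
  have hp : p.Prime := Fact.out
  have h1 := inner_rel p χ ξ n hn
  rw [h1]
  have hD := Nat.ordProj_mul_ordCompl_eq_self (charDegree (ξ : G → ℂ)) p
  have hDc : ((charDegree (ξ : G → ℂ) : ℕ) : ℂ) =
      (p : ℂ) ^ ((charDegree (ξ : G → ℂ)).factorization p) *
      ((charDegree (ξ : G → ℂ) / p ^ (charDegree (ξ : G → ℂ)).factorization p : ℕ) : ℂ) := by
    exact_mod_cast hD.symm
  rw [← hDc]

theorem cut_expansion [Fintype (IrrCharacter G)] (p : ℕ) [Fact p.Prime] {M : Ideal AlgInt}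
    (hM : IsPModular p M) (χ : IrrCharacter G) :
    ∃ c : IrrCharacter G → ℤ,
      (∀ ψ : IrrCharacter G, ψ ∉ blockOf M (χ : G → ℂ) → c ψ = 0) ∧
      (∀ ψ : IrrCharacter G, classInner (cutFn p (χ : G → ℂ)) (ψ : G → ℂ) = c ψ) ∧
      cutFn p (χ : G → ℂ) = ∑ φ : IrrCharacter G, (c φ : ℂ) • (φ : G → ℂ) := by
  classical
  have hMp : M.IsPrime := hM.2.1.isPrime
  have hMtop := hMp.ne_top
  obtain ⟨B, hB⟩ : ∃ B, B = blockOf M (χ : G → ℂ) := ⟨_, rfl⟩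
  have hBχ : χ ∈ B := by rw [hB]; exact helper24.sameBlock_refl M hMtop _
  obtain ⟨c, hc0, hceq⟩ := helper24.pregular_cut_in_block p M hM B ⟨χ, hB⟩ χ hBχ
  have hceq' : cutFn p (χ : G → ℂ) =
      fun x => ∑ᶠ ψ : IrrCharacter G, (c ψ : ℂ) * (ψ : G → ℂ) x := hceq
  refine ⟨c, fun ψ hψ => hc0 ψ (by rw [hB]; exact hψ), ?_, ?_⟩
  · intro ψ
    rw [hceq']
    exact classInner_finsum_irr _ ψ
  · rw [hceq']
    funext x
    rw [finsum_eq_sum_of_fintype, Finset.sum_apply]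
    rfl

open Classical in
/-- **Brauer**: the `p`-part of `∑_{χ ∈ B} χ(1)^2` -/
theorem block_sq_sum_val [Fintype (IrrCharacter G)] (p : ℕ) [Fact p.Prime] {M : Ideal AlgInt}
    (hM : IsPModular p M) (ψ₀ : IrrCharacter G)
    (hmin : ∀ ψ : IrrCharacter G, SameBlock M (ψ₀ : G → ℂ) (ψ : G → ℂ) →
      (charDegree (ψ₀ : G → ℂ)).factorization p ≤ (charDegree (ψ : G → ℂ)).factorization p) :
    (∑ χ ∈ Finset.univ.filter (fun χ : IrrCharacter G => χ ∈ blockOf M (ψ₀ : G → ℂ)),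
      charDegree (χ : G → ℂ) ^ 2).factorization p =
      (Nat.card G).factorization p + (charDegree (ψ₀ : G → ℂ)).factorization p := by
  have hp : p.Prime := Fact.out
  have hMp : M.IsPrime := hM.2.1.isPrime
  have hMtop := hMp.ne_top
  have hp0 : (p : ℂ) ≠ 0 := by exact_mod_cast hp.ne_zero
  have hψ₀c := helper24.irr_isCharacter ψ₀.2
  obtain ⟨Bf, hBf⟩ : ∃ Bf : Finset (IrrCharacter G),
    Bf = Finset.univ.filter (fun χ : IrrCharacter G => χ ∈ blockOf M (ψ₀ : G → ℂ)) := ⟨_, rfl⟩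
  rw [← hBf]
  have hBfmem : ∀ ξ, ξ ∈ Bf ↔ SameBlock M (ψ₀ : G → ℂ) (ξ : G → ℂ) := by
    intro ξ; rw [hBf]
    simp only [Finset.mem_filter, Finset.mem_univ, true_and]
    rfl
  obtain ⟨S, hS⟩ : ∃ S : ℕ, S = ∑ χ ∈ Bf, charDegree (χ : G → ℂ) ^ 2 := ⟨_, rfl⟩
  rw [← hS]
  obtain ⟨a, ha⟩ : ∃ a, a = (Nat.card G).factorization p := ⟨_, rfl⟩
  obtain ⟨e₀, he₀⟩ : ∃ e₀, e₀ = (charDegree (ψ₀ : G → ℂ)).factorization p := ⟨_, rfl⟩
  obtain ⟨d₀, hd₀⟩ : ∃ d₀, d₀ = charDegree (ψ₀ : G → ℂ) := ⟨_, rfl⟩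
  obtain ⟨m', hm'def⟩ : ∃ m' : ℕ, m' = Nat.card G / p ^ (Nat.card G).factorization p := ⟨_, rfl⟩
  rw [← ha, ← he₀]
  have hm' : ¬ p ∣ m' := by
    rw [hm'def]; exact Nat.not_dvd_ordCompl hp Nat.card_pos.ne'
  have hcop : IsCoprime ((p : ℤ)) ((m' : ℕ) : ℤ) :=
    Nat.isCoprime_iff_coprime.mpr ((Nat.Prime.coprime_iff_not_dvd hp).mpr hm')
  have hd₀pos : 0 < d₀ := by rw [hd₀]; exact helper24.irr_charDegree_pos ψ₀.2
  obtain ⟨c, hc0, hc, hexp⟩ := cut_expansion p hM ψ₀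
  obtain ⟨c₀, hc₀⟩ : ∃ c₀, c₀ = c ψ₀ := ⟨_, rfl⟩
  -- Brauer's theorem for ψ₀
  have hkey : c₀ ≠ 0 ∧ padicValInt p c₀ = e₀ := by
    obtain ⟨n, hn, hn0, hnv⟩ := (inner_iff p hM hψ₀c ψ₀).mpr (contrib_self_not_mem p hM ψ₀ hmin)
    have : n = c₀ := by rw [hc₀]; exact_mod_cast (hn.symm.trans (hc ψ₀))
    rw [← this, he₀]
    exact ⟨hn0, hnv⟩
  -- the relations
  have hrel : ∀ ξ : IrrCharacter G, (c ξ : ℂ) * (m' : ℂ) =
      ((charDegree (ξ : G → ℂ) : ℕ) : ℂ) * contrib p (ψ₀ : G → ℂ) (ξ : G → ℂ) := by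
    intro ξ
    rw [hm'def]
    exact inner_rel' p (ψ₀ : G → ℂ) ξ (c ξ) (hc ξ)
  -- divisibility of the degrees
  have hdeg : ∀ ξ ∈ Bf, ∃ w : ℕ, charDegree (ξ : G → ℂ) = p ^ e₀ * w := by
    intro ξ hξ
    have h1 := hmin ξ ((hBfmem ξ).mp hξ)
    rw [← he₀] at h1
    have h2 : p ^ e₀ ∣ charDegree (ξ : G → ℂ) :=
      (pow_dvd_pow p h1).trans (Nat.ordProj_dvd _ p)
    exact h2
  -- δ
  have hδ : ∀ ξ ∈ Bf, ((p : ℤ) ^ (2 * e₀ + 1)) ∣
      ((d₀ : ℤ) * c ξ - c₀ * (charDegree (ξ : G → ℂ) : ℤ)) := by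
    intro ξ hξ
    have hsb := (hBfmem ξ).mp hξ
    obtain ⟨w, hw⟩ := hdeg ξ hξ
    obtain ⟨w₀, hw₀⟩ := hdeg ψ₀ ((hBfmem ψ₀).mpr (helper24.sameBlock_refl M hMtop _))
    rw [← hd₀] at hw₀
    have hTJ := contrib_congr (M := M) p hψ₀c hsb
    have r1 := hrel ξ
    have r0 := hrel ψ₀
    rw [← hc₀, ← hd₀] at r0
    have h1 : MemLocalIdeal M (((((d₀ : ℤ) * c ξ - c₀ * (charDegree (ξ : G → ℂ) : ℤ)) *
        (m' : ℤ) : ℤ) : ℂ) / (p : ℂ) ^ (2 * e₀)) := by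
      have e1 : ((((d₀ : ℤ) * c ξ - c₀ * (charDegree (ξ : G → ℂ) : ℤ)) *
          (m' : ℤ) : ℤ) : ℂ) / (p : ℂ) ^ (2 * e₀) =
          -(((w₀ * w : ℕ) : ℂ) * (contrib p (ψ₀ : G → ℂ) (ψ₀ : G → ℂ) -
            contrib p (ψ₀ : G → ℂ) (ξ : G → ℂ))) := by
        have e2 : ((((d₀ : ℤ) * c ξ - c₀ * (charDegree (ξ : G → ℂ) : ℤ)) *
          (m' : ℤ) : ℤ) : ℂ) = (d₀ : ℂ) * ((c ξ : ℂ) * (m' : ℂ)) -
            ((c₀ : ℂ) * (m' : ℂ)) * ((charDegree (ξ : G → ℂ) : ℕ) : ℂ) := by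
          push_cast; ring
        rw [e2, r1, r0, hw, hw₀]
        push_cast
        have hpe : (p : ℂ) ^ (2 * e₀) ≠ 0 := pow_ne_zero _ hp0
        field_simp
        ring
      rw [e1]
      apply helper24.memLocalIdeal_neg
      exact helper24.memLocalIdeal_mul_left
        (helper24.memLocalRing_of_integral hMtop (helper24.isIntegral_natCast_complex _)) hTJ
    have h2 := int_dvd_of_div_memLocalIdeal hM (2 * e₀) _ h1
    exact (IsCoprime.pow_left hcop).dvd_of_dvd_mul_right h2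
  -- the function Φ
  obtain ⟨Φ, hΦ⟩ : ∃ Φ : G → ℂ,
      Φ = ∑ χ ∈ Bf, ((χ : G → ℂ) 1) • (χ : G → ℂ) := ⟨_, rfl⟩
  have hΦinner : ∀ ξ : IrrCharacter G, classInner Φ (ξ : G → ℂ) =
      if ξ ∈ Bf then (ξ : G → ℂ) 1 else 0 := by
    intro ξ
    rw [hΦ, helper24.classInner_sum_left]
    by_cases hξ : ξ ∈ Bf
    · rw [if_pos hξ, Finset.sum_eq_single ξ]
      · rw [helper24.classInner_smul_left, helper24.irr_classInner_self ξ.2, mul_one]
      · intro φ _ hne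
        rw [helper24.classInner_smul_left, helper24.irr_classInner_ne φ.2 ξ.2
          (fun h => hne (Subtype.ext h)), mul_zero]
      · intro h; exact absurd hξ h
    · rw [if_neg hξ]
      apply Finset.sum_eq_zero
      intro φ hφ
      rw [helper24.classInner_smul_left, helper24.irr_classInner_ne φ.2 ξ.2
        (fun h => hξ (by rw [← Subtype.ext h]; exact hφ)), mul_zero]
  have hΦvan : ∀ x : G, p ∣ orderOf x → Φ x = 0 := by
    intro x hx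
    rw [hΦ, Finset.sum_apply]
    have := helper24.block_sum_degree_mul_eq_zero p M hM ψ₀ x hx
    rw [← hBf] at this
    rw [← this]
    apply Finset.sum_congr rfl
    intro χ _
    rfl
  have hΦcl : IsClassFunction G Φ := by
    intro g h
    rw [hΦ, Finset.sum_apply, Finset.sum_apply]
    apply Finset.sum_congr rfl
    intro χ _
    show (χ : G → ℂ) 1 * (χ : G → ℂ) (h * g * h⁻¹) = (χ : G → ℂ) 1 * (χ : G → ℂ) g
    rw [helper24.char_isClassFunction (helper24.irr_isCharacter χ.2) g h]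
  have hΦ1 : Φ 1 = (S : ℂ) := by
    rw [hΦ, Finset.sum_apply, hS]
    push_cast
    apply Finset.sum_congr rfl
    intro χ _
    show (χ : G → ℂ) 1 * (χ : G → ℂ) 1 = _
    rw [← helper24.char_charDegree_cast (helper24.irr_isCharacter χ.2)]
    ring
  have hcl : IsClassFunction G (cutFn p (ψ₀ : G → ℂ)) :=
    cutFn_isClassFunction p (helper24.char_isClassFunction hψ₀c)
  -- f
  obtain ⟨f, hf⟩ : ∃ f : G → ℂ, f = ((p : ℂ) ^ (2 * e₀ + 1))⁻¹ •
      ((d₀ : ℂ) • cutFn p (ψ₀ : G → ℂ) - (c₀ : ℂ) • Φ) := ⟨_, rfl⟩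
  have hfR : helper24.IsRComb G f := by
    constructor
    · intro g h
      rw [hf]
      show _ * ((d₀ : ℂ) * cutFn p _ (h * g * h⁻¹) - (c₀ : ℂ) * Φ (h * g * h⁻¹)) =
        _ * ((d₀ : ℂ) * cutFn p _ g - (c₀ : ℂ) * Φ g)
      rw [hcl g h, hΦcl g h]
    · intro ξ
      rw [hf, helper24.classInner_smul_left, helper24.classInner_sub_left,
        helper24.classInner_smul_left, helper24.classInner_smul_left, hc ξ, hΦinner ξ]
      by_cases hξ : ξ ∈ Bf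
      · rw [if_pos hξ]
        obtain ⟨k, hk⟩ := hδ ξ hξ
        have e1 : (d₀ : ℂ) * (c ξ : ℂ) - (c₀ : ℂ) * (ξ : G → ℂ) 1 =
            (((d₀ : ℤ) * c ξ - c₀ * (charDegree (ξ : G → ℂ) : ℤ) : ℤ) : ℂ) := by
          push_cast
          rw [helper24.char_charDegree_cast (helper24.irr_isCharacter ξ.2)]
        rw [e1, hk]
        push_cast
        rw [← mul_assoc, inv_mul_cancel₀ (pow_ne_zero _ hp0), one_mul]
        exact helper24.isIntegral_intCast_complex k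
      · rw [if_neg hξ]
        have hξ' : ξ ∉ blockOf M (ψ₀ : G → ℂ) := fun h => hξ ((hBfmem ξ).mpr h)
        rw [hc0 ξ hξ']
        simp only [Int.cast_zero, mul_zero, sub_zero]
        exact isIntegral_zero
  have hvan : ∀ x : G, p ∣ orderOf x → f x = 0 := by
    intro x hx
    rw [hf]
    show _ * ((d₀ : ℂ) * cutFn p _ x - (c₀ : ℂ) * Φ x) = 0
    rw [hΦvan x hx]
    unfold cutFn
    rw [if_pos hx]
    ring
  have hint := helper24.isIntegral_div_of_vanish_psingular p hfR hvan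
  have hf1 : f 1 / ((p ^ (Nat.card G).factorization p : ℕ) : ℂ) =
      ((((p : ℤ) ^ a * (d₀ : ℤ) ^ 2 - c₀ * (S : ℤ) : ℤ)) : ℂ) /
        ((p ^ (a + 2 * e₀ + 1) : ℕ) : ℂ) := by
    rw [hf]
    show _ * ((d₀ : ℂ) * cutFn p _ 1 - (c₀ : ℂ) * Φ 1) / _ = _
    rw [hΦ1]
    unfold cutFn
    rw [if_neg (by rw [orderOf_one]; exact fun h => hp.ne_one (Nat.dvd_one.mp h)), ← ha,
      ← helper24.char_charDegree_cast hψ₀c, ← hd₀]
    push_cast
    have hpa : (p : ℂ) ^ a ≠ 0 := pow_ne_zero _ hp0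
    field_simp
    ring
  rw [hf1] at hint
  have hdvd := int_dvd_of_isIntegral_div (pow_pos hp.pos _).ne' hint
  -- valuations
  have hS0 : S ≠ 0 := by
    rw [hS]
    have hmem : ψ₀ ∈ Bf := (hBfmem ψ₀).mpr (helper24.sameBlock_refl M hMtop _)
    have : 0 < ∑ χ ∈ Bf, charDegree (χ : G → ℂ) ^ 2 := by
      apply Finset.sum_pos'
      · intro χ _; exact Nat.zero_le _
      · exact ⟨ψ₀, hmem, by rw [← hd₀]; positivity⟩
    exact this.ne'
  -- X = p^a d₀², Y = c₀ S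
  have hXval : padicValInt p ((p : ℤ) ^ a * (d₀ : ℤ) ^ 2) = a + 2 * e₀ := by
    have e1 : (p : ℤ) ^ a * (d₀ : ℤ) ^ 2 = ((p ^ a * d₀ ^ 2 : ℕ) : ℤ) := by push_cast; ring
    rw [e1, padicValInt.of_nat, ← Nat.factorization_def _ hp,
      Nat.factorization_mul (pow_ne_zero _ hp.ne_zero) (pow_ne_zero _ hd₀pos.ne'),
      Nat.factorization_pow, Nat.factorization_pow]
    simp only [Finsupp.coe_add, Finsupp.coe_smul, Pi.add_apply, Pi.smul_apply, smul_eq_mul]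
    rw [hp.factorization_self, mul_one, he₀, hd₀]
  have hY0 : c₀ * (S : ℤ) ≠ 0 := mul_ne_zero hkey.1 (by exact_mod_cast hS0)
  have hYval : padicValInt p (c₀ * (S : ℤ)) = a + 2 * e₀ := by
    have hX0 : (p : ℤ) ^ a * (d₀ : ℤ) ^ 2 ≠ 0 := by
      have hd0' : (d₀ : ℤ) ≠ 0 := by exact_mod_cast hd₀pos.ne'
      exact mul_ne_zero (pow_ne_zero _ (by exact_mod_cast hp.ne_zero)) (pow_ne_zero _ hd0')
    have hXd : ((p : ℤ) ^ (a + 2 * e₀)) ∣ (p : ℤ) ^ a * (d₀ : ℤ) ^ 2 :=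
      (padicValInt_dvd_iff _ _).mpr (Or.inr hXval.ge)
    have hXnd : ¬ ((p : ℤ) ^ (a + 2 * e₀ + 1)) ∣ (p : ℤ) ^ a * (d₀ : ℤ) ^ 2 := by
      intro h
      rcases (padicValInt_dvd_iff _ _).mp h with h' | h'
      · exact hX0 h'
      · omega
    have hdvd' : ((p : ℤ) ^ (a + 2 * e₀ + 1)) ∣
        ((p : ℤ) ^ a * (d₀ : ℤ) ^ 2 - c₀ * (S : ℤ)) := by exact_mod_cast hdvd
    have hYd : ((p : ℤ) ^ (a + 2 * e₀)) ∣ c₀ * (S : ℤ) := by
      have h1 : ((p : ℤ) ^ (a + 2 * e₀)) ∣ ((p : ℤ) ^ a * (d₀ : ℤ) ^ 2 - c₀ * (S : ℤ)) :=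
        (pow_dvd_pow _ (Nat.le_succ _)).trans hdvd'
      have := dvd_sub hXd h1
      rwa [sub_sub_cancel] at this
    have hYnd : ¬ ((p : ℤ) ^ (a + 2 * e₀ + 1)) ∣ c₀ * (S : ℤ) := by
      intro h
      apply hXnd
      have := dvd_add hdvd' h
      rwa [sub_add_cancel] at this
    have h1 : a + 2 * e₀ ≤ padicValInt p (c₀ * (S : ℤ)) := by
      rcases (padicValInt_dvd_iff _ _).mp hYd with h' | h'
      · exact absurd h' hY0
      · exact h'
    have h2 : ¬ (a + 2 * e₀ + 1 ≤ padicValInt p (c₀ * (S : ℤ))) := by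
      intro h
      exact hYnd ((padicValInt_dvd_iff _ _).mpr (Or.inr h))
    omega
  rw [padicValInt.mul hkey.1 (by exact_mod_cast hS0), hkey.2, padicValInt.of_nat] at hYval
  rw [Nat.factorization_def _ hp]
  omega

end Sq

end Cfsg.Agent.helper22
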