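import Mathlib
import Cfsg.Agent.Lib_helper22_HtZero6

set_option autoImplicit false
set_option linter.unusedSectionVars false
set_option linter.unusedVariables false
set_option linter.style.longLine false

/-!
helper22: `p^d χ°` is an integral combination of the block for `χ` in the span of the block.
-/

namespace Cfsg.Agent.helper22

open Cfsg
open scoped ComplexConjugate

universe u

section Span
variable {G : Type u} [Group G] [Fintype G]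

/-- `p^{ν(ξ(1))}` divides `p^a [χ°, ξ]` -/
theorem pow_dvd_inner (p : ℕ) [Fact p.Prime] {M : Ideal AlgInt} (hM : IsPModular p M) {χ : G → ℂ}
    (hχ : IsCharacter G χ) (ξ : IrrCharacter G) (n : ℤ)
    (hn : classInner (cutFn p χ) (ξ : G → ℂ) = n) :
    ((p : ℤ) ^ ((charDegree (ξ : G → ℂ)).factorization p)) ∣ n := by
  have hp : p.Prime := Fact.out
  have hMp : M.IsPrime := hM.2.1.isPrime
  have hMtop := hMp.ne_top
  have hp0 : (p : ℂ) ≠ 0 := by exact_mod_cast hp.ne_zero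
  have hrel := inner_rel p χ ξ n hn
  obtain ⟨e, he⟩ : ∃ e, e = (charDegree (ξ : G → ℂ)).factorization p := ⟨_, rfl⟩
  obtain ⟨m', hm'def⟩ : ∃ m' : ℕ, m' = Nat.card G / p ^ (Nat.card G).factorization p := ⟨_, rfl⟩
  rw [← he] at hrel ⊢
  rw [← hm'def] at hrel
  have hm' : ¬ p ∣ m' := by
    rw [hm'def]; exact Nat.not_dvd_ordCompl hp Nat.card_pos.ne'
  have hcop : IsCoprime ((p : ℤ)) ((m' : ℕ) : ℤ) :=
    Nat.isCoprime_iff_coprime.mpr ((Nat.Prime.coprime_iff_not_dvd hp).mpr hm')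
  have hT := contrib_memLocalRing (M := M) p hχ ξ
  rcases Nat.eq_zero_or_pos e with he0 | he0
  · rw [he0, pow_zero]; exact one_dvd _
  · obtain ⟨k, rfl⟩ : ∃ k, e = k + 1 := ⟨e - 1, by omega⟩
    have h1 : MemLocalIdeal M (((n * (m' : ℤ) : ℤ) : ℂ) / (p : ℂ) ^ k) := by
      have e1 : ((n * (m' : ℤ) : ℤ) : ℂ) / (p : ℂ) ^ k =
          (((charDegree (ξ : G → ℂ) / p ^ (k + 1) : ℕ) : ℂ) * contrib p χ (ξ : G → ℂ)) * (p : ℂ) := by
        push_cast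
        rw [hrel]
        field_simp
        ring
      rw [e1]
      exact helper24.memLocalIdeal_mul_left (helper24.memLocalRing_mul
        (helper24.memLocalRing_of_integral hMtop (helper24.isIntegral_natCast_complex _)) hT)
        (helper24.prime_memLocalIdeal hM)
    have h2 := int_dvd_of_div_memLocalIdeal hM k _ h1
    exact (IsCoprime.pow_left hcop).dvd_of_dvd_mul_right h2

theorem cutFn_eq_pRegularPart (p : ℕ) (ψ : G → ℂ) (g : G) :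
    cutFn p ψ g = ((p ^ (Nat.card G).factorization p : ℕ) : ℂ) * pRegularPart p ψ g := by
  unfold cutFn pRegularPart IsPRegular
  by_cases h : p ∣ orderOf g
  · rw [if_pos h, if_neg (not_not.mpr h), mul_zero]
  · rw [if_neg h, if_pos h]

open Classical in
theorem span_pregular (p : ℕ) [Fact p.Prime] {M : Ideal AlgInt} (hM : IsPModular p M)
    (B : Set (IrrCharacter G)) (hB : IsPBlock M B) (n : IrrCharacter G → ℤ) :
    ∃ n' : IrrCharacter G → ℤ, ∀ g : G, (p ^ blockDefect p B : ℂ) *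
      pRegularPart p (fun g => ∑ᶠ ψ ∈ B, (n ψ : ℂ) * (ψ : G → ℂ) g) g =
      ∑ᶠ ψ ∈ B, (n' ψ : ℂ) * (ψ : G → ℂ) g := by
  haveI := Fintype.ofFinite (IrrCharacter G)
  have hp : p.Prime := Fact.out
  have hMp : M.IsPrime := hM.2.1.isPrime
  have hMtop := hMp.ne_top
  have hp0 : (p : ℂ) ≠ 0 := by exact_mod_cast hp.ne_zero
  obtain ⟨Bf, hBf⟩ : ∃ Bf : Finset (IrrCharacter G), Bf = (Set.toFinite B).toFinset := ⟨_, rfl⟩
  have hBfmem : ∀ ξ, ξ ∈ Bf ↔ ξ ∈ B := by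
    intro ξ; rw [hBf]; exact Set.Finite.mem_toFinset _
  have hsum : ∀ f : IrrCharacter G → ℂ, ∑ᶠ ψ ∈ B, f ψ = ∑ ψ ∈ Bf, f ψ := by
    intro f
    rw [hBf]
    exact finsum_mem_eq_finite_toFinset_sum f (Set.toFinite B)
  obtain ⟨χ₀, hχ₀⟩ := hB
  have hχ₀B : χ₀ ∈ B := by rw [hχ₀]; exact helper24.sameBlock_refl M hMtop _
  obtain ⟨S, hS⟩ : ∃ S : Set ℕ,
    S = (fun ψ : IrrCharacter G => (charDegree (ψ : G → ℂ)).factorization p) '' B := ⟨_, rfl⟩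
  have hne : S.Nonempty := by rw [hS]; exact ⟨_, χ₀, hχ₀B, rfl⟩
  obtain ⟨e₀, he₀⟩ : ∃ e₀, e₀ = sInf S := ⟨_, rfl⟩
  obtain ⟨a, ha⟩ : ∃ a, a = (Nat.card G).factorization p := ⟨_, rfl⟩
  have hle : ∀ ξ ∈ B, e₀ ≤ (charDegree (ξ : G → ℂ)).factorization p := by
    intro ξ hξ
    rw [he₀]
    apply Nat.sInf_le
    rw [hS]
    exact ⟨ξ, hξ, rfl⟩
  have hea : e₀ ≤ a := by
    have h1 := hle χ₀ hχ₀B
    have hdvd := helper24.irr_degree_dvd_card χ₀.2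
    have h2 := (Nat.factorization_le_iff_dvd (helper24.irr_charDegree_pos χ₀.2).ne'
      Nat.card_pos.ne').mpr hdvd p
    rw [ha]
    omega
  have hdef : blockDefect p B = a - e₀ := by
    unfold blockDefect
    rw [← hS, ← he₀, ← ha]
  have hex : ∀ ψ : IrrCharacter G, ∃ c : IrrCharacter G → ℤ,
      (∀ ξ : IrrCharacter G, ξ ∉ blockOf M (ψ : G → ℂ) → c ξ = 0) ∧
      (∀ ξ : IrrCharacter G, classInner (cutFn p (ψ : G → ℂ)) (ξ : G → ℂ) = c ξ) ∧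
      cutFn p (ψ : G → ℂ) = ∑ φ : IrrCharacter G, (c φ : ℂ) • (φ : G → ℂ) :=
    fun ψ => cut_expansion p hM ψ
  choose c hc0 hc hexp using hex
  have hdvd : ∀ ψ : IrrCharacter G, ∀ ξ ∈ B, ((p : ℤ) ^ e₀) ∣ c ψ ξ := by
    intro ψ ξ hξ
    have h1 := pow_dvd_inner p hM (helper24.irr_isCharacter ψ.2) ξ (c ψ ξ) (hc ψ ξ)
    exact (pow_dvd_pow _ (hle ξ hξ)).trans h1
  refine ⟨fun ξ => ∑ ψ ∈ Bf, n ψ * (c ψ ξ / (p : ℤ) ^ e₀), ?_⟩
  intro g
  rw [hsum]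
  have hblock : ∀ ψ ∈ Bf, ∀ ξ : IrrCharacter G, ξ ∉ Bf → c ψ ξ = 0 := by
    intro ψ hψ ξ hξ
    apply hc0 ψ ξ
    intro h
    apply hξ
    rw [hBfmem]
    have hψB := (hBfmem ψ).mp hψ
    exact (mem_block_iff hMp ⟨χ₀, hχ₀⟩ hψB ξ).mpr h
  -- RHS
  have hR : ∑ ξ ∈ Bf, (((∑ ψ ∈ Bf, n ψ * (c ψ ξ / (p : ℤ) ^ e₀) : ℤ)) : ℂ) * (ξ : G → ℂ) g =
      ∑ ψ ∈ Bf, (n ψ : ℂ) * (((p : ℂ) ^ e₀)⁻¹ * cutFn p (ψ : G → ℂ) g) := by
    have e1 : ∀ ξ ∈ Bf, (((∑ ψ ∈ Bf, n ψ * (c ψ ξ / (p : ℤ) ^ e₀) : ℤ)) : ℂ) * (ξ : G → ℂ) g =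
        ∑ ψ ∈ Bf, (n ψ : ℂ) * (((p : ℂ) ^ e₀)⁻¹ * ((c ψ ξ : ℂ) * (ξ : G → ℂ) g)) := by
      intro ξ hξ
      push_cast
      rw [Finset.sum_mul]
      apply Finset.sum_congr rfl
      intro ψ _
      obtain ⟨k, hk⟩ := hdvd ψ ξ ((hBfmem ξ).mp hξ)
      have hpz : ((p : ℤ) ^ e₀) ≠ 0 := pow_ne_zero _ (by exact_mod_cast hp.ne_zero)
      rw [hk, Int.mul_ediv_cancel_left _ hpz]
      push_cast
      field_simp
    rw [Finset.sum_congr rfl e1, Finset.sum_comm]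
    apply Finset.sum_congr rfl
    intro ψ hψ
    rw [← Finset.mul_sum, ← Finset.mul_sum]
    congr 2
    rw [hexp ψ, Finset.sum_apply]
    symm
    rw [← Finset.sum_subset (Finset.subset_univ Bf)]
    · apply Finset.sum_congr rfl
      intro ξ _
      rfl
    · intro ξ _ hξ
      show (c ψ ξ : ℂ) * (ξ : G → ℂ) g = 0
      rw [hblock ψ hψ ξ hξ, Int.cast_zero, zero_mul]
  rw [hR]
  -- LHS
  have hL : pRegularPart p (fun g => ∑ᶠ ψ ∈ B, (n ψ : ℂ) * (ψ : G → ℂ) g) g =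
      ∑ ψ ∈ Bf, (n ψ : ℂ) * pRegularPart p (ψ : G → ℂ) g := by
    unfold pRegularPart
    by_cases h : IsPRegular p g
    · simp only [if_pos h]
      exact hsum _
    · simp only [if_neg h, mul_zero, Finset.sum_const_zero]
  rw [hL, Finset.mul_sum]
  apply Finset.sum_congr rfl
  intro ψ _
  rw [cutFn_eq_pRegularPart, ← ha, hdef]
  have e2 : ((p ^ a : ℕ) : ℂ) = (p : ℂ) ^ (a - e₀) * (p : ℂ) ^ e₀ := by
    push_cast
    rw [← pow_add]
    congr 1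
    omega
  rw [e2]
  have hpe : (p : ℂ) ^ e₀ ≠ 0 := pow_ne_zero _ hp0
  field_simp

end Span

end Cfsg.Agent.helper22
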