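import Mathlib
import Cfsg.Agent.Lib_helper22_HtZero7

set_option autoImplicit false
set_option linter.unusedSectionVars false
set_option linter.unusedVariables false
set_option linter.style.longLine false

/-!
helper22: the integral matrix `nInt p χ ψ = p^a [χ°, ψ]` and its basic properties
(symmetry, Parseval, valuations), towards the Brauer-Feit bounds.
-/

namespace Cfsg.Agent.helper22

open Cfsg
open scoped ComplexConjugate

universe u

section NInt
variable {G : Type u} [Group G] [Fintype G]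

/-- the integer `p^a [χ°, ψ]` -/
noncomputable def nInt (p : ℕ) [Fact p.Prime] (χ ψ : IrrCharacter G) : ℤ :=
  Classical.choose (exists_int_inner p (helper24.irr_isCharacter χ.2) ψ)

theorem nInt_spec (p : ℕ) [Fact p.Prime] (χ ψ : IrrCharacter G) :
    classInner (cutFn p (χ : G → ℂ)) (ψ : G → ℂ) = (nInt p χ ψ : ℂ) :=
  Classical.choose_spec (exists_int_inner p (helper24.irr_isCharacter χ.2) ψ)

theorem nInt_symm (p : ℕ) [Fact p.Prime] (χ ψ : IrrCharacter G) : nInt p χ ψ = nInt p ψ χ := by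
  have h1 := classInner_cutFn_symm p (χ : G → ℂ) (ψ : G → ℂ)
  rw [nInt_spec, nInt_spec, map_intCast] at h1
  exact_mod_cast h1

theorem nInt_eq_zero (p : ℕ) [Fact p.Prime] {M : Ideal AlgInt} (hM : IsPModular p M)
    (χ ψ : IrrCharacter G) (h : ¬ SameBlock M (χ : G → ℂ) (ψ : G → ℂ)) : nInt p χ ψ = 0 := by
  classical
  haveI := Fintype.ofFinite (IrrCharacter G)
  obtain ⟨c, hc0, hc, -⟩ := cut_expansion p hM χ
  have h1 : c ψ = 0 := hc0 ψ h
  have h2 := hc ψ
  rw [nInt_spec, h1] at h2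
  exact_mod_cast h2

theorem self_inner_identity (p : ℕ) (χ : G → ℂ) :
    classInner (cutFn p χ) (cutFn p χ) =
      ((p ^ (Nat.card G).factorization p : ℕ) : ℂ) * classInner (cutFn p χ) χ := by
  have e1 : ∀ g : G, cutFn p χ g * conj (cutFn p χ g) =
      ((p ^ (Nat.card G).factorization p : ℕ) : ℂ) * (cutFn p χ g * conj (χ g)) := by
    intro g
    unfold cutFn
    split_ifs
    · simp
    · rw [map_mul, Complex.conj_natCast]
      ring
  unfold classInner
  rw [Finset.sum_congr rfl (fun g _ => e1 g), ← Finset.mul_sum]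
  ring

theorem nInt_parseval [Fintype (IrrCharacter G)] (p : ℕ) [Fact p.Prime] {M : Ideal AlgInt}
    (hM : IsPModular p M) (χ : IrrCharacter G) :
    ∑ ψ : IrrCharacter G, (nInt p χ ψ) ^ 2 =
      ((p : ℤ) ^ (Nat.card G).factorization p) * nInt p χ χ := by
  obtain ⟨c, hc, hpars⟩ := parseval_cut p hM χ
  have hcc : ∀ ψ, c ψ = nInt p χ ψ := by
    intro ψ
    have := hc ψ
    rw [nInt_spec] at this
    exact_mod_cast this.symm
  rw [self_inner_identity, nInt_spec] at hpars
  have h1 : ((∑ ψ : IrrCharacter G, (nInt p χ ψ) ^ 2 : ℤ) : ℂ) =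
      ((((p : ℤ) ^ (Nat.card G).factorization p) * nInt p χ χ : ℤ) : ℂ) := by
    push_cast
    push_cast at hpars
    rw [hpars]
    apply Finset.sum_congr rfl
    intro ψ _
    rw [hcc ψ]
  exact_mod_cast h1

theorem four_mul_sub_sq_le (P c : ℤ) : 4 * (P * c - c ^ 2) ≤ P ^ 2 := by
  nlinarith [sq_nonneg (P - 2 * c)]

open Classical in
/-- the off-diagonal part of a row is at most `p^{2a}/4` -/
theorem nInt_row [Fintype (IrrCharacter G)] (p : ℕ) [Fact p.Prime] {M : Ideal AlgInt}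
    (hM : IsPModular p M) (χ : IrrCharacter G) (s : Finset (IrrCharacter G)) (hs : χ ∉ s) :
    4 * ∑ ψ ∈ s, (nInt p χ ψ) ^ 2 ≤ ((p : ℤ) ^ (Nat.card G).factorization p) ^ 2 := by
  have h1 := nInt_parseval p hM χ
  have h2 : ∑ ψ ∈ s, (nInt p χ ψ) ^ 2 + (nInt p χ χ) ^ 2 ≤ ∑ ψ : IrrCharacter G, (nInt p χ ψ) ^ 2 := by
    rw [add_comm, ← Finset.sum_insert (f := fun ψ => (nInt p χ ψ) ^ 2) hs]
    exact Finset.sum_le_sum_of_subset_of_nonneg (Finset.subset_univ _) (fun ψ _ _ => sq_nonneg _)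
  have h3 := four_mul_sub_sq_le ((p : ℤ) ^ (Nat.card G).factorization p) (nInt p χ χ)
  rw [h1] at h2
  linarith

theorem nInt_self_nonneg_le [Fintype (IrrCharacter G)] (p : ℕ) [Fact p.Prime] {M : Ideal AlgInt}
    (hM : IsPModular p M) (χ : IrrCharacter G) :
    0 ≤ nInt p χ χ ∧ nInt p χ χ ≤ (p : ℤ) ^ (Nat.card G).factorization p := by
  classical
  have hp : p.Prime := Fact.out
  have h1 := nInt_parseval p hM χ
  have hP : (0 : ℤ) < (p : ℤ) ^ (Nat.card G).factorization p :=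
    pow_pos (by exact_mod_cast hp.pos) _
  have h2 : (nInt p χ χ) ^ 2 ≤ ∑ ψ : IrrCharacter G, (nInt p χ ψ) ^ 2 :=
    Finset.single_le_sum (f := fun ψ => (nInt p χ ψ) ^ 2) (fun ψ _ => sq_nonneg _)
      (Finset.mem_univ χ)
  have h3 : (0 : ℤ) ≤ ∑ ψ : IrrCharacter G, (nInt p χ ψ) ^ 2 :=
    Finset.sum_nonneg (fun ψ _ => sq_nonneg _)
  rw [h1] at h2 h3
  constructor
  · by_contra hneg
    push_neg at hneg
    nlinarith
  · by_contra hgt
    push_neg at hgt
    nlinarith

end NInt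

end Cfsg.Agent.helper22
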