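import Mathlib
import Cfsg.Agent.Lib_helper22_HtZero8

set_option autoImplicit false
set_option linter.unusedSectionVars false
set_option linter.unusedVariables false
set_option linter.style.longLine false

/-!
helper22: the Brauer-Feit bounds.
-/

namespace Cfsg.Agent.helper22

open Cfsg
open scoped ComplexConjugate

universe u

section BF
variable {G : Type u} [Group G] [Fintype G]

/-- valuations of a height-zero row -/
theorem nInt_val (p : ℕ) [Fact p.Prime] {M : Ideal AlgInt} (hM : IsPModular p M)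
    {B : Set (IrrCharacter G)} (hB : IsPBlock M B) {χ : IrrCharacter G} (hχ : χ ∈ B)
    (h0 : blockHeight p B (χ : G → ℂ) = 0) (ψ : IrrCharacter G) (hψ : ψ ∈ B) :
    nInt p χ ψ ≠ 0 ∧
      padicValInt p (nInt p χ ψ) = (charDegree (ψ : G → ℂ)).factorization p := by
  obtain ⟨n, hn, hn0, hv⟩ := (height_zero_iff_inner p hM hB hχ ψ hψ).mp h0
  rw [nInt_spec] at hn
  have h1 : nInt p χ ψ = n := by exact_mod_cast hn
  rw [h1]
  exact ⟨hn0, hv⟩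

theorem nInt_sq_ge (p : ℕ) [Fact p.Prime] {M : Ideal AlgInt} (hM : IsPModular p M)
    {B : Set (IrrCharacter G)} (hB : IsPBlock M B) {χ : IrrCharacter G} (hχ : χ ∈ B)
    (h0 : blockHeight p B (χ : G → ℂ) = 0) (ψ : IrrCharacter G) (hψ : ψ ∈ B) :
    ((p : ℤ) ^ (charDegree (ψ : G → ℂ)).factorization p) ^ 2 ≤ (nInt p χ ψ) ^ 2 := by
  obtain ⟨h1, h2⟩ := nInt_val p hM hB hχ h0 ψ hψ
  have hdvd : ((p : ℤ) ^ (charDegree (ψ : G → ℂ)).factorization p) ∣ nInt p χ ψ :=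
    (padicValInt_dvd_iff _ _).mpr (Or.inr h2.ge)
  obtain ⟨k, hk⟩ := hdvd
  have hk0 : k ≠ 0 := by
    rintro rfl
    rw [mul_zero] at hk
    exact h1 hk
  rw [hk, mul_pow]
  have h3 : 1 ≤ k ^ 2 := by
    have h4 : 0 ≤ k ^ 2 := sq_nonneg k
    have h5 : k ^ 2 ≠ 0 := pow_ne_zero 2 hk0
    omega
  nlinarith [sq_nonneg ((p : ℤ) ^ (charDegree (ψ : G → ℂ)).factorization p)]

/-- a character of positive height has a self-contribution divisible by `p^{e+1}` -/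
theorem pos_height_dvd (p : ℕ) [Fact p.Prime] {M : Ideal AlgInt} (hM : IsPModular p M)
    {B : Set (IrrCharacter G)} (hB : IsPBlock M B) {χ : IrrCharacter G} (hχ : χ ∈ B)
    (hpos : blockHeight p B (χ : G → ℂ) ≠ 0) :
    ((p : ℤ) ^ ((charDegree (χ : G → ℂ)).factorization p + 1)) ∣ nInt p χ χ := by
  have hp : p.Prime := Fact.out
  have hMp : M.IsPrime := hM.2.1.isPrime
  have hMtop := hMp.ne_top
  have hp0 : (p : ℂ) ≠ 0 := by exact_mod_cast hp.ne_zero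
  have hχc := helper24.irr_isCharacter χ.2
  have hJ : MemLocalIdeal M (contrib p (χ : G → ℂ) (χ : G → ℂ)) := by
    by_contra h
    exact hpos ((height_zero_iff_contrib p hM hB hχ).mpr h)
  have hrel := inner_rel p (χ : G → ℂ) χ (nInt p χ χ) (nInt_spec p χ χ)
  obtain ⟨e, he⟩ : ∃ e, e = (charDegree (χ : G → ℂ)).factorization p := ⟨_, rfl⟩
  obtain ⟨m, hm⟩ : ∃ m : ℕ, m = charDegree (χ : G → ℂ) / p ^ e := ⟨_, rfl⟩
  obtain ⟨m', hm'⟩ : ∃ m' : ℕ, m' = Nat.card G / p ^ (Nat.card G).factorization p := ⟨_, rfl⟩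
  rw [← he, ← hm, ← hm'] at hrel
  rw [← he]
  have hm'p : ¬ p ∣ m' := by
    rw [hm']; exact Nat.not_dvd_ordCompl hp Nat.card_pos.ne'
  have hX : ((nInt p χ χ * m' : ℤ) : ℂ) / (p : ℂ) ^ e =
      m * contrib p (χ : G → ℂ) (χ : G → ℂ) := by
    push_cast
    rw [hrel]
    field_simp
  have h1 : MemLocalIdeal M (((nInt p χ χ * m' : ℤ) : ℂ) / (p : ℂ) ^ e) := by
    rw [hX]
    exact helper24.memLocalIdeal_mul_left
      (helper24.memLocalRing_of_integral hMtop (helper24.isIntegral_natCast_complex m)) hJ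
  have h2 := int_dvd_of_div_memLocalIdeal hM e _ h1
  have hcop : IsCoprime ((p : ℤ)) (m' : ℤ) :=
    Nat.isCoprime_iff_coprime.mpr ((Nat.Prime.coprime_iff_not_dvd hp).mpr hm'p)
  exact (IsCoprime.pow_left hcop).dvd_of_dvd_mul_right h2

/-- the common data of a block -/
theorem block_data (p : ℕ) [Fact p.Prime] {M : Ideal AlgInt} (hM : IsPModular p M)
    (B : Set (IrrCharacter G)) (hB : IsPBlock M B) :
    ∃ (e₀ : ℕ) (ψ₀ : IrrCharacter G), ψ₀ ∈ B ∧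
      (charDegree (ψ₀ : G → ℂ)).factorization p = e₀ ∧
      blockHeight p B (ψ₀ : G → ℂ) = 0 ∧
      e₀ + blockDefect p B = (Nat.card G).factorization p ∧
      (∀ ξ ∈ B, (charDegree (ξ : G → ℂ)).factorization p =
        e₀ + blockHeight p B (ξ : G → ℂ)) ∧
      (∀ ξ ∈ B, (charDegree (ξ : G → ℂ)).factorization p ≤ (Nat.card G).factorization p) := by
  have hp : p.Prime := Fact.out
  have hMp : M.IsPrime := hM.2.1.isPrime
  have hMtop := hMp.ne_top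
  obtain ⟨χ₀, hχ₀⟩ := hB
  have hχ₀B : χ₀ ∈ B := by rw [hχ₀]; exact helper24.sameBlock_refl M hMtop _
  obtain ⟨S, hS⟩ : ∃ S : Set ℕ,
    S = (fun ψ : IrrCharacter G => (charDegree (ψ : G → ℂ)).factorization p) '' B := ⟨_, rfl⟩
  have hne : S.Nonempty := by rw [hS]; exact ⟨_, χ₀, hχ₀B, rfl⟩
  obtain ⟨e₀, he₀⟩ : ∃ e₀, e₀ = sInf S := ⟨_, rfl⟩
  have hle : ∀ ξ ∈ B, e₀ ≤ (charDegree (ξ : G → ℂ)).factorization p := by
    intro ξ hξ
    rw [he₀]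
    apply Nat.sInf_le
    rw [hS]
    exact ⟨ξ, hξ, rfl⟩
  have hlea : ∀ ξ : IrrCharacter G,
      (charDegree (ξ : G → ℂ)).factorization p ≤ (Nat.card G).factorization p := by
    intro ξ
    have hdvd := helper24.irr_degree_dvd_card ξ.2
    exact (Nat.factorization_le_iff_dvd (helper24.irr_charDegree_pos ξ.2).ne'
      Nat.card_pos.ne').mpr hdvd p
  have hmem := Nat.sInf_mem hne
  rw [← he₀, hS] at hmem
  obtain ⟨ψ₀, hψ₀B, hψ₀e⟩ := hmem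
  have hψ₀e' : (charDegree (ψ₀ : G → ℂ)).factorization p = e₀ := hψ₀e
  have hht : ∀ ξ : IrrCharacter G, blockHeight p B (ξ : G → ℂ) =
      (charDegree (ξ : G → ℂ)).factorization p - e₀ := by
    intro ξ
    unfold blockHeight
    rw [← hS, ← he₀]
  have hdef : blockDefect p B = (Nat.card G).factorization p - e₀ := by
    unfold blockDefect
    rw [← hS, ← he₀]
  refine ⟨e₀, ψ₀, hψ₀B, hψ₀e', ?_, ?_, ?_, fun ξ _ => hlea ξ⟩
  · rw [hht, hψ₀e']; omega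
  · rw [hdef]
    have := hlea ψ₀
    omega
  · intro ξ hξ
    rw [hht]
    have := hle ξ hξ
    omega

open Classical in
/-- the Brauer-Feit inequality with heights -/
theorem bf_sum (p : ℕ) [Fact p.Prime] {M : Ideal AlgInt} (hM : IsPModular p M)
    (B : Set (IrrCharacter G)) (hB : IsPBlock M B) (Bf : Finset (IrrCharacter G))
    (hBf : ∀ ξ, ξ ∈ Bf ↔ ξ ∈ B) :
    4 * ∑ ξ ∈ Bf, p ^ (2 * blockHeight p B (ξ : G → ℂ)) ≤ p ^ (2 * blockDefect p B) + 4 := by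
  haveI := Fintype.ofFinite (IrrCharacter G)
  have hp : p.Prime := Fact.out
  have hpz : (0 : ℤ) < (p : ℤ) := by exact_mod_cast hp.pos
  obtain ⟨e₀, ψ₀, hψ₀B, he₀, hh₀, hda, hdec, hlea⟩ := block_data p hM B hB
  have hψ₀Bf : ψ₀ ∈ Bf := (hBf ψ₀).mpr hψ₀B
  have hrow := nInt_row p hM ψ₀ (Bf.erase ψ₀) (Finset.notMem_erase _ _)
  have hterm : ∀ ξ ∈ Bf.erase ψ₀,
      ((p : ℤ) ^ e₀) ^ 2 * (p : ℤ) ^ (2 * blockHeight p B (ξ : G → ℂ)) ≤ (nInt p ψ₀ ξ) ^ 2 := by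
    intro ξ hξ
    have hξB := (hBf ξ).mp (Finset.mem_of_mem_erase hξ)
    have h1 := nInt_sq_ge p hM hB hψ₀B hh₀ ξ hξB
    rw [hdec ξ hξB] at h1
    calc ((p : ℤ) ^ e₀) ^ 2 * (p : ℤ) ^ (2 * blockHeight p B (ξ : G → ℂ))
        = ((p : ℤ) ^ (e₀ + blockHeight p B (ξ : G → ℂ))) ^ 2 := by ring
      _ ≤ _ := h1
  have h2 : ((p : ℤ) ^ e₀) ^ 2 *
      (4 * ∑ ξ ∈ Bf.erase ψ₀, (p : ℤ) ^ (2 * blockHeight p B (ξ : G → ℂ))) ≤
      ((p : ℤ) ^ e₀) ^ 2 * (p : ℤ) ^ (2 * blockDefect p B) := by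
    have h3 : ((p : ℤ) ^ (Nat.card G).factorization p) ^ 2 =
        ((p : ℤ) ^ e₀) ^ 2 * (p : ℤ) ^ (2 * blockDefect p B) := by
      rw [← hda]; ring
    rw [← h3]
    refine le_trans ?_ hrow
    have h4 : ((p : ℤ) ^ e₀) ^ 2 *
        (4 * ∑ ξ ∈ Bf.erase ψ₀, (p : ℤ) ^ (2 * blockHeight p B (ξ : G → ℂ))) =
        4 * ∑ ξ ∈ Bf.erase ψ₀,
          ((p : ℤ) ^ e₀) ^ 2 * (p : ℤ) ^ (2 * blockHeight p B (ξ : G → ℂ)) := by
      rw [← Finset.mul_sum]; ring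
    rw [h4]
    exact mul_le_mul_of_nonneg_left (Finset.sum_le_sum hterm) (by norm_num)
  have hpos : (0 : ℤ) < ((p : ℤ) ^ e₀) ^ 2 := pow_pos (pow_pos hpz _) _
  have h5 := le_of_mul_le_mul_left h2 hpos
  have h6 : 4 * ∑ ξ ∈ Bf.erase ψ₀, p ^ (2 * blockHeight p B (ξ : G → ℂ)) ≤
      p ^ (2 * blockDefect p B) := by exact_mod_cast h5
  have h7 := Finset.add_sum_erase Bf (fun ξ : IrrCharacter G =>
    p ^ (2 * blockHeight p B (ξ : G → ℂ))) hψ₀Bf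
  simp only [hh₀, mul_zero, pow_zero] at h7
  rw [← h7]
  omega

open Classical in
/-- a character of positive height: `h + 2 ≤ d` -/
theorem pos_height_bound (p : ℕ) [Fact p.Prime] {M : Ideal AlgInt} (hM : IsPModular p M)
    (B : Set (IrrCharacter G)) (hB : IsPBlock M B) {χ : IrrCharacter G} (hχ : χ ∈ B)
    (hpos : blockHeight p B (χ : G → ℂ) ≠ 0) :
    blockHeight p B (χ : G → ℂ) + 2 ≤ blockDefect p B := by
  haveI := Fintype.ofFinite (IrrCharacter G)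
  have hp : p.Prime := Fact.out
  have hpz : (0 : ℤ) < (p : ℤ) := by exact_mod_cast hp.pos
  obtain ⟨e₀, ψ₀, hψ₀B, he₀, hh₀, hda, hdec, hlea⟩ := block_data p hM B hB
  have hdvd := pos_height_dvd p hM hB hχ hpos
  obtain ⟨hc0, hcle⟩ := nInt_self_nonneg_le p hM χ
  have hpars := nInt_parseval p hM χ
  have hne : χ ≠ ψ₀ := by
    rintro rfl
    exact hpos hh₀
  have hn0 : nInt p χ ψ₀ ≠ 0 := by
    rw [nInt_symm]
    exact (nInt_val p hM hB hψ₀B hh₀ χ hχ).1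
  have hpair : (nInt p χ χ) ^ 2 + (nInt p χ ψ₀) ^ 2 ≤
      ∑ ψ : IrrCharacter G, (nInt p χ ψ) ^ 2 := by
    rw [← Finset.sum_pair (f := fun ψ => (nInt p χ ψ) ^ 2) hne]
    exact Finset.sum_le_sum_of_subset_of_nonneg (Finset.subset_univ _) (fun ψ _ _ => sq_nonneg _)
  rw [hpars] at hpair
  have hsq : 1 ≤ (nInt p χ ψ₀) ^ 2 := by
    have h4 : 0 ≤ (nInt p χ ψ₀) ^ 2 := sq_nonneg _
    have h5 : (nInt p χ ψ₀) ^ 2 ≠ 0 := pow_ne_zero 2 hn0
    omega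
  have hP : (0 : ℤ) < (p : ℤ) ^ (Nat.card G).factorization p := pow_pos hpz _
  have hcpos : 0 < nInt p χ χ := by
    rcases hc0.lt_or_eq with h | h
    · exact h
    · rw [← h] at hpair
      nlinarith
  have hclt : nInt p χ χ < (p : ℤ) ^ (Nat.card G).factorization p := by
    by_contra hge
    push_neg at hge
    have : nInt p χ χ = (p : ℤ) ^ (Nat.card G).factorization p := le_antisymm hcle hge
    rw [this] at hpair
    nlinarith
  have h1 := Int.le_of_dvd hcpos hdvd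
  have h2 : (p : ℤ) ^ ((charDegree (χ : G → ℂ)).factorization p + 1) <
      (p : ℤ) ^ (Nat.card G).factorization p := lt_of_le_of_lt h1 hclt
  have h3 : (charDegree (χ : G → ℂ)).factorization p + 1 < (Nat.card G).factorization p :=
    (pow_lt_pow_iff_right₀ (by exact_mod_cast hp.one_lt : (1 : ℤ) < (p : ℤ))).mp h2
  rw [hdec χ hχ] at h3
  omega

open Classical in
/-- the count in the presence of a character of positive height -/
theorem bf_pos_count (p : ℕ) [Fact p.Prime] {M : Ideal AlgInt} (hM : IsPModular p M)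
    (B : Set (IrrCharacter G)) (hB : IsPBlock M B) (Bf : Finset (IrrCharacter G))
    (hBf : ∀ ξ, ξ ∈ Bf ↔ ξ ∈ B) {χ₁ : IrrCharacter G} (hχ₁ : χ₁ ∈ B)
    (hpos : blockHeight p B (χ₁ : G → ℂ) ≠ 0) :
    2 * Bf.card ≤ p ^ (2 * blockDefect p B - 2) := by
  haveI := Fintype.ofFinite (IrrCharacter G)
  have hp : p.Prime := Fact.out
  have hpz : (0 : ℤ) < (p : ℤ) := by exact_mod_cast hp.pos
  have hp1 : (1 : ℤ) ≤ (p : ℤ) := by exact_mod_cast hp.one_lt.le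
  obtain ⟨e₀, ψ₀, hψ₀B, he₀, hh₀, hda, hdec, hlea⟩ := block_data p hM B hB
  have hd2 := pos_height_bound p hM B hB hχ₁ hpos
  obtain ⟨s₀, hs₀⟩ : ∃ s₀ : Finset (IrrCharacter G),
    s₀ = Bf.filter (fun ξ : IrrCharacter G => blockHeight p B (ξ : G → ℂ) = 0) := ⟨_, rfl⟩
  obtain ⟨s₁, hs₁⟩ : ∃ s₁ : Finset (IrrCharacter G),
    s₁ = Bf.filter (fun ξ : IrrCharacter G => ¬ blockHeight p B (ξ : G → ℂ) = 0) := ⟨_, rfl⟩
  have hcard : s₀.card + s₁.card = Bf.card := by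
    rw [hs₀, hs₁]
    exact Finset.card_filter_add_card_filter_not _
  have hψ₀s : ψ₀ ∉ s₁ := by
    rw [hs₁, Finset.mem_filter]
    intro h
    exact h.2 hh₀
  have hχ₁s : χ₁ ∉ s₀ := by
    rw [hs₀, Finset.mem_filter]
    intro h
    exact hpos h.2
  have hrow0 := nInt_row p hM ψ₀ s₁ hψ₀s
  have hrow1 := nInt_row p hM χ₁ s₀ hχ₁s
  have hmono : ∀ k : ℕ, 1 ≤ k → ((p : ℤ) ^ (e₀ + 1)) ^ 2 ≤ ((p : ℤ) ^ (e₀ + k)) ^ 2 := by
    intro k hk
    have h1 : (p : ℤ) ^ (e₀ + 1) ≤ (p : ℤ) ^ (e₀ + k) :=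
      pow_le_pow_right₀ hp1 (by omega)
    exact pow_le_pow_left₀ (pow_pos hpz _).le h1 2
  have hterm0 : ∀ ξ ∈ s₁, ((p : ℤ) ^ (e₀ + 1)) ^ 2 ≤ (nInt p ψ₀ ξ) ^ 2 := by
    intro ξ hξ
    rw [hs₁, Finset.mem_filter] at hξ
    have hξB := (hBf ξ).mp hξ.1
    have h1 := nInt_sq_ge p hM hB hψ₀B hh₀ ξ hξB
    rw [hdec ξ hξB] at h1
    exact le_trans (hmono _ (Nat.one_le_iff_ne_zero.mpr hξ.2)) h1
  have hterm1 : ∀ ξ ∈ s₀, ((p : ℤ) ^ (e₀ + 1)) ^ 2 ≤ (nInt p χ₁ ξ) ^ 2 := by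
    intro ξ hξ
    rw [hs₀, Finset.mem_filter] at hξ
    have hξB := (hBf ξ).mp hξ.1
    have h1 := nInt_sq_ge p hM hB hξB hξ.2 χ₁ hχ₁
    rw [hdec χ₁ hχ₁, nInt_symm] at h1
    exact le_trans (hmono _ (Nat.one_le_iff_ne_zero.mpr hpos)) h1
  have hc0 : (s₁.card : ℤ) * ((p : ℤ) ^ (e₀ + 1)) ^ 2 ≤ ∑ ξ ∈ s₁, (nInt p ψ₀ ξ) ^ 2 := by
    have := Finset.card_nsmul_le_sum s₁ (fun ξ => (nInt p ψ₀ ξ) ^ 2) _ hterm0
    rwa [nsmul_eq_mul] at this
  have hc1 : (s₀.card : ℤ) * ((p : ℤ) ^ (e₀ + 1)) ^ 2 ≤ ∑ ξ ∈ s₀, (nInt p χ₁ ξ) ^ 2 := by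
    have := Finset.card_nsmul_le_sum s₀ (fun ξ => (nInt p χ₁ ξ) ^ 2) _ hterm1
    rwa [nsmul_eq_mul] at this
  have h3 : ((p : ℤ) ^ (Nat.card G).factorization p) ^ 2 =
      ((p : ℤ) ^ (e₀ + 1)) ^ 2 * (p : ℤ) ^ (2 * blockDefect p B - 2) := by
    rw [← hda, ← pow_mul, ← pow_mul, ← pow_add]
    congr 1
    omega
  rw [h3] at hrow0 hrow1
  have hpos' : (0 : ℤ) < ((p : ℤ) ^ (e₀ + 1)) ^ 2 := pow_pos (pow_pos hpz _) _
  have h4 : ((p : ℤ) ^ (e₀ + 1)) ^ 2 * (2 * (Bf.card : ℤ)) ≤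
      ((p : ℤ) ^ (e₀ + 1)) ^ 2 * (p : ℤ) ^ (2 * blockDefect p B - 2) := by
    have : (Bf.card : ℤ) = s₀.card + s₁.card := by exact_mod_cast hcard.symm
    rw [this]
    nlinarith
  have h5 := le_of_mul_le_mul_left h4 hpos'
  exact_mod_cast h5

end BF

end Cfsg.Agent.helper22
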