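import Mathlib
import Cfsg.Agent.Lib_helper22_HtZero9
import Cfsg.Statements.S4494
-- import your own Cfsg.Agent.* helpers here

set_option autoImplicit false
open Cfsg

namespace Cfsg.Agent.S4494

/-- The Brauer–Feit bound. Let B be a p-block of the finite group G (relative to a maximal ideal M of the algebraic integers containing p) and let d be its defect. Then the number k(B) of irreducible characters in B satisfies k(B) ≤ p^(2d)/4 + 1, stated here as 4·k(B) ≤ p^(2d) + 4. -/
theorem result {G : Type*} [Group G] [Finite G] (p : ℕ) [Fact p.Prime] (M : Ideal Cfsg.AlgInt) (hM : Cfsg.IsPModular p M) (B : Set (Cfsg.IrrCharacter G)) (hB : Cfsg.IsPBlock M B) : 4 * Nat.card B ≤ p ^ (2 * Cfsg.blockDefect p B) + 4 := by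
  classical
  haveI := Fintype.ofFinite G
  have hp : p.Prime := Fact.out
  obtain ⟨Bf, hBf⟩ : ∃ Bf : Finset (IrrCharacter G), Bf = (Set.toFinite B).toFinset := ⟨_, rfl⟩
  have hBfmem : ∀ ξ, ξ ∈ Bf ↔ ξ ∈ B := by
    intro ξ; rw [hBf]; exact Set.Finite.mem_toFinset _
  have h1 := Cfsg.Agent.helper22.bf_sum p hM B hB Bf hBfmem
  have hcard : Nat.card B = Bf.card := by
    rw [Nat.card_coe_set_eq, Set.ncard_eq_toFinset_card B (Set.toFinite B), hBf]
  have h2 : Bf.card ≤ ∑ ξ ∈ Bf, p ^ (2 * blockHeight p B (ξ : G → ℂ)) := by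
    rw [Finset.card_eq_sum_ones]
    exact Finset.sum_le_sum (fun ξ _ => Nat.one_le_pow _ _ hp.pos)
  rw [hcard]
  omega

end Cfsg.Agent.S4494
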