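import Cfsg.Statements.S4667
import Cfsg.Agent.Lib_helper24_BlockOrth
import Cfsg.Agent.Lib_helper24_CharOrth
import Cfsg.Agent.Lib_helper24_CharBasic

set_option autoImplicit false
open Cfsg

namespace Cfsg.Agent.S4667

open scoped ComplexConjugate TensorProduct
open Cfsg.Agent.helper24

variable {G : Type*} [Group G] [Fintype G]

/-- the functional `f ↦ ⟨f, v⟩` -/
noncomputable def phi (v : G → ℂ) : (G → ℂ) →ₗ[ℂ] ℂ where
  toFun f := (Nat.card G : ℂ)⁻¹ * ∑ y, f y * conj (v y)
  map_add' f g := by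
    simp only [Pi.add_apply, add_mul, Finset.sum_add_distrib, mul_add]
  map_smul' c f := by
    simp only [Pi.smul_apply, smul_eq_mul, RingHom.id_apply, Finset.mul_sum]
    refine Finset.sum_congr rfl (fun y _ => ?_)
    ring

theorem phi_apply (v f : G → ℂ) : phi v f = (Nat.card G : ℂ)⁻¹ * ∑ y, f y * conj (v y) := rfl

theorem pReg_pos (p : ℕ) (χ : G → ℂ) {g : G} (h : IsPRegular p g) : pRegularPart p χ g = χ g := by
  unfold pRegularPart
  rw [if_pos h]

theorem pReg_neg (p : ℕ) (χ : G → ℂ) {g : G} (h : ¬ IsPRegular p g) : pRegularPart p χ g = 0 := by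
  unfold pRegularPart
  rw [if_neg h]

/-- Fix a prime p and a maximal ideal M of the algebraic integers containing p, and a p-block B of the finite group G. The p-regular rank of B (the number of irreducible Brauer characters in B) times the order of G equals the sum over the p-regular elements x of G of Σ_{χ ∈ B} χ(x) χ(x⁻¹) (written with the restriction of χ to p-regular elements, which vanishes at p-singular x). -/
theorem result {G : Type*} [Group G] [Fintype G] (p : ℕ) [Fact p.Prime] (M : Ideal Cfsg.AlgInt) (hM : Cfsg.IsPModular p M) (B : Set (Cfsg.IrrCharacter G)) (hB : Cfsg.IsPBlock M B) : (Nat.card G : ℂ) * (Cfsg.blockRank p B : ℂ) = ∑ x : G, ∑ᶠ χ ∈ B, Cfsg.pRegularPart p (χ : G → ℂ) x * (χ : G → ℂ) x⁻¹ := by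
  classical
  haveI : Fintype (IrrCharacter G) := Fintype.ofFinite _
  set Bf : Finset (IrrCharacter G) := (Set.toFinite B).toFinset with hBf
  have hmemBf : ∀ χ, χ ∈ Bf ↔ χ ∈ B := fun χ => Set.Finite.mem_toFinset _
  set v : IrrCharacter G → (G → ℂ) := fun χ => pRegularPart p (χ : G → ℂ) with hv
  set W : Submodule ℂ (G → ℂ) := Submodule.span ℂ (v '' B) with hW
  set T : (G → ℂ) →ₗ[ℂ] (G → ℂ) := ∑ χ ∈ Bf, dualTensorHom ℂ (G → ℂ) (G → ℂ) (phi (v χ) ⊗ₜ v χ) with hT
  have hTapp : ∀ f : G → ℂ, T f = ∑ χ ∈ Bf, phi (v χ) f • v χ := by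
    intro f
    rw [hT, LinearMap.sum_apply]
    rfl
  have hrange : ∀ f, T f ∈ W := by
    intro f
    rw [hTapp]
    exact Submodule.sum_mem _ (fun χ hχ => Submodule.smul_mem _ _
      (Submodule.subset_span ⟨χ, (hmemBf χ).mp hχ, rfl⟩))
  have hfixgen : ∀ ψ ∈ B, T (v ψ) = v ψ := by
    intro ψ hψ
    funext x
    rw [hTapp, Finset.sum_apply]
    simp only [Pi.smul_apply, smul_eq_mul]
    by_cases hx : IsPRegular p x
    · have hvx : ∀ χ : IrrCharacter G, v χ x = (χ : G → ℂ) x := fun χ => pReg_pos p _ hx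
      rw [hvx ψ]
      have key : ∀ y : G, v ψ y * ∑ χ ∈ Bf, (χ : G → ℂ) x * conj (v χ y) =
          (ψ : G → ℂ) y * ∑ χ ∈ Bf, (χ : G → ℂ) x * conj ((χ : G → ℂ) y) := by
        intro y
        by_cases hy : IsPRegular p y
        · have hvy : ∀ χ : IrrCharacter G, v χ y = (χ : G → ℂ) y := fun χ => pReg_pos p _ hy
          rw [hvy ψ]
          congr 1
          refine Finset.sum_congr rfl (fun χ _ => ?_)
          rw [hvy χ]
        · have hvy : ∀ χ : IrrCharacter G, v χ y = 0 := fun χ => pReg_neg p _ hy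
          rw [hvy ψ, zero_mul]
          have h0 := weak_block_orthogonality p M hM B hB x y hx (not_not.mp hy)
          rw [finsum_mem_eq_finite_toFinset_sum _ (Set.toFinite B)] at h0
          rw [h0, mul_zero]
      calc ∑ χ ∈ Bf, phi (v χ) (v ψ) * v χ x
          = (Nat.card G : ℂ)⁻¹ * ∑ y, v ψ y * ∑ χ ∈ Bf, (χ : G → ℂ) x * conj (v χ y) := by
            simp only [phi_apply, hvx]
            rw [Finset.mul_sum]
            simp only [Finset.mul_sum, Finset.sum_mul]
            rw [Finset.sum_comm]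
            refine Finset.sum_congr rfl (fun y _ => Finset.sum_congr rfl (fun χ _ => ?_))
            ring
        _ = (Nat.card G : ℂ)⁻¹ * ∑ y, (ψ : G → ℂ) y * ∑ χ ∈ Bf, (χ : G → ℂ) x * conj ((χ : G → ℂ) y) := by
            congr 1
            exact Finset.sum_congr rfl (fun y _ => key y)
        _ = ∑ χ ∈ Bf, (χ : G → ℂ) x * classInner (ψ : G → ℂ) (χ : G → ℂ) := by
            unfold classInner
            simp only [Finset.mul_sum]
            rw [Finset.sum_comm]
            refine Finset.sum_congr rfl (fun χ _ => Finset.sum_congr rfl (fun y _ => ?_))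
            ring
        _ = (ψ : G → ℂ) x := by
            rw [Finset.sum_eq_single ψ]
            · rw [irr_classInner_self ψ.2, mul_one]
            · intro χ _ hne
              rw [irr_classInner_ne ψ.2 χ.2 (fun h => hne (Subtype.ext h.symm)), mul_zero]
            · intro h
              exact absurd ((hmemBf ψ).mpr hψ) h
    · have hvx : ∀ χ : IrrCharacter G, v χ x = 0 := fun χ => pReg_neg p _ hx
      rw [hvx ψ]
      refine Finset.sum_eq_zero (fun χ _ => ?_)
      rw [hvx χ, mul_zero]
  have hfix : ∀ f ∈ W, T f = f := by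
    intro f hf
    induction hf using Submodule.span_induction with
    | mem x hx =>
      obtain ⟨ψ, hψ, rfl⟩ := hx
      exact hfixgen ψ hψ
    | zero => exact map_zero T
    | add x y _ _ hx hy => rw [map_add, hx, hy]
    | smul c x _ hx => rw [map_smul, hx]
  have hproj : LinearMap.IsProj W T := ⟨hrange, hfix⟩
  have htr := hproj.trace
  have htr2 : LinearMap.trace ℂ (G → ℂ) T = ∑ χ ∈ Bf, phi (v χ) (v χ) := by
    rw [hT, map_sum]
    refine Finset.sum_congr rfl (fun χ _ => ?_)
    rw [LinearMap.trace_eq_contract_apply]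
    rfl
  have hcard0 : (Nat.card G : ℂ) ≠ 0 := by
    exact_mod_cast Nat.card_pos.ne'
  have hrank : (blockRank p B : ℂ) = ∑ χ ∈ Bf, phi (v χ) (v χ) := by
    rw [← htr2, htr]
    rfl
  rw [hrank]
  simp only [phi_apply]
  rw [← Finset.mul_sum, ← mul_assoc, mul_inv_cancel₀ hcard0, one_mul, Finset.sum_comm]
  refine Finset.sum_congr rfl (fun x _ => ?_)
  rw [finsum_mem_eq_finite_toFinset_sum _ (Set.toFinite B)]
  refine Finset.sum_congr rfl (fun χ _ => ?_)
  by_cases hx : IsPRegular p x
  · show pRegularPart p (χ : G → ℂ) x * conj (pRegularPart p (χ : G → ℂ) x) = _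
    rw [pReg_pos p _ hx, char_conj_eq (irr_isCharacter χ.2)]
  · show pRegularPart p (χ : G → ℂ) x * conj (pRegularPart p (χ : G → ℂ) x) = _
    rw [pReg_neg p _ hx, zero_mul, zero_mul]

end Cfsg.Agent.S4667
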