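import Cfsg.Statements.S4683
import Cfsg.Agent.S4667
import Cfsg.Agent.Lib_helper24_SecondMain4
import Cfsg.Agent.Lib_helper24_PrincipalSum2
import Cfsg.Agent.Lib_helper24_BrauerPairs2

set_option autoImplicit false
open Cfsg

namespace Cfsg.Agent.S4683

open Cfsg.Agent.helper24
open scoped ComplexConjugate

universe u

set_option linter.style.haveILetI false
set_option linter.unusedVariables false
set_option linter.unusedSectionVars false

/-- the block part as a finite sum, for arbitrary instances -/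
theorem blockPart_eq_sum {K : Type u} [Group K] [Fintype K] [Fintype (IrrCharacter K)]
    (b : Set (IrrCharacter K)) [DecidablePred (· ∈ b)] (ϑ : K → ℂ) (y : K) :
    blockPart b ϑ y = ∑ ψ ∈ Finset.univ.filter (fun ψ : IrrCharacter K => ψ ∈ b),
      classInner ϑ (ψ : K → ℂ) * (ψ : K → ℂ) y := by
  classical
  have hinst : Fintype.ofFinite K = ‹Fintype K› := Subsingleton.elim _ _
  show ∑ᶠ ψ ∈ b, @classInner K _ (Fintype.ofFinite K) ϑ (ψ : K → ℂ) * (ψ : K → ℂ) y = _
  rw [hinst, finsum_mem_eq_finite_toFinset_sum _ (Set.toFinite _)]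
  apply Finset.sum_congr
  · ext ψ
    simp
  · intro ψ _
    rfl

/-- the second main theorem for a subgroup equal to the centralizer -/
theorem second_main_H {G : Type u} [Group G] [Finite G] (p : ℕ) [Fact p.Prime]
    (M : Ideal AlgInt) (hM : IsPModular p M) (x : G) (hx : ∃ k : ℕ, orderOf x = p ^ k)
    (H : Subgroup G) (hH : H = Subgroup.centralizer ({x} : Set G))
    (B : Set (IrrCharacter G)) (hB : IsPBlock M B) (χ : IrrCharacter G) (hχ : χ ∈ B)
    (b : Set (IrrCharacter H)) (hb : IsPBlock M b)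
    (hnot : ¬ IsInducedBlock M H b B) (y : H) (hy : ¬ p ∣ orderOf y) :
    blockPart b (fun c : H => (χ : G → ℂ) (x * (c : G))) y = 0 := by
  subst hH
  exact second_main_characters p M hM x hx B hB χ hχ b hb hnot y hy

section Core

variable {G : Type u} [Group G] [Fintype G]

open Classical in
/-- the block-wise column orthogonality on a `p`-section -/
theorem core_identity [Fintype (IrrCharacter G)] (p : ℕ) [Fact p.Prime]
    (M : Ideal AlgInt) (hM : IsPModular p M) (x : G) (hx : ∃ k : ℕ, orderOf x = p ^ k)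
    (H : Subgroup G) [Fintype H] [Fintype (IrrCharacter H)]
    (hH : H = Subgroup.centralizer ({x} : Set G))
    (e : Set (IrrCharacter H)) (he : IsPBlock M e)
    (a : IrrCharacter G → H → ℂ)
    (ha : ∀ ζ t, a ζ t = ∑ ψ ∈ Finset.univ.filter (fun ψ : IrrCharacter H => ψ ∈ e),
      classInner (fun c : H => (ζ : G → ℂ) (x * (c : G))) (ψ : H → ℂ) * (ψ : H → ℂ) t)
    (t y : H) (ht : ¬ p ∣ orderOf t) (hy : ¬ p ∣ orderOf y) :
    ∑ ζ : IrrCharacter G, a ζ t * conj (a ζ y) =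
      ∑ ψ ∈ Finset.univ.filter (fun ψ : IrrCharacter H => ψ ∈ e),
        (ψ : H → ℂ) t * conj ((ψ : H → ℂ) y) := by
  have hp : p.Prime := Fact.out
  have hMp : M.IsPrime := hM.2.1.isPrime
  have hMtop := hMp.ne_top
  obtain ⟨T, hT⟩ : ∃ T : Finset H, T = Finset.univ.filter (fun t : H => ¬ p ∣ orderOf t) :=
    ⟨_, rfl⟩
  obtain ⟨S₁, hS₁⟩ : ∃ S₁ : Finset (IrrCharacter H),
    S₁ = Finset.univ.filter (fun ψ : IrrCharacter H => ψ ∈ e) := ⟨_, rfl⟩
  obtain ⟨S₂, hS₂⟩ : ∃ S₂ : Finset (IrrCharacter H),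
    S₂ = Finset.univ.filter (fun ψ : IrrCharacter H => ψ ∉ e) := ⟨_, rfl⟩
  rw [← hS₁] at ha ⊢
  obtain ⟨cI, hcI⟩ : ∃ cI : IrrCharacter G → IrrCharacter H → ℂ,
    cI = fun (ζ : IrrCharacter G) (ψ : IrrCharacter H) =>
      classInner (fun c : H => (ζ : G → ℂ) (x * (c : G))) (ψ : H → ℂ) := ⟨_, rfl⟩
  have ha' : ∀ ζ t, a ζ t = ∑ ψ ∈ S₁, cI ζ ψ * (ψ : H → ℂ) t := by
    intro ζ t
    rw [ha, hcI]
  obtain ⟨b, hb⟩ : ∃ b : IrrCharacter G → H → ℂ,
    b = fun ζ t => ∑ ψ ∈ S₂, cI ζ ψ * (ψ : H → ℂ) t := ⟨_, rfl⟩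
  have hb' : ∀ ζ t, b ζ t = ∑ ψ ∈ S₂, cI ζ ψ * (ψ : H → ℂ) t := by
    intro ζ t
    rw [hb]
  have hTmem : ∀ t : H, t ∈ T ↔ ¬ p ∣ orderOf t := by
    intro t
    rw [hT, Finset.mem_filter]
    exact ⟨fun h => h.2, fun h => ⟨Finset.mem_univ _, h⟩⟩
  -- expansion
  have hexp : ∀ (ζ : IrrCharacter G) (t : H), (ζ : G → ℂ) (x * (t : G)) = a ζ t + b ζ t := by
    intro ζ t
    have hcf : IsClassFunction H (fun c : H => (ζ : G → ℂ) (x * (c : G))) :=
      shift_isClassFunction x H hH (char_isClassFunction (irr_isCharacter ζ.2))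
    have h1 := congrFun (classFunction_expansion hcf) t
    rw [Finset.sum_apply] at h1
    simp only [Pi.smul_apply, smul_eq_mul] at h1
    rw [← Finset.sum_filter_add_sum_filter_not Finset.univ
      (fun ψ : IrrCharacter H => ψ ∈ e)] at h1
    rw [ha' ζ t, hb' ζ t, hS₁, hS₂, hcI]
    exact h1
  -- column orthogonality
  have htot : ∀ t ∈ T, ∀ y ∈ T,
      ∑ ζ : IrrCharacter G, (ζ : G → ℂ) (x * (t : G)) * conj ((ζ : G → ℂ) (x * (y : G))) =
      ∑ ψ ∈ S₁, (ψ : H → ℂ) t * conj ((ψ : H → ℂ) y) +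
      ∑ ψ ∈ S₂, (ψ : H → ℂ) t * conj ((ψ : H → ℂ) y) := by
    intro t ht y hy
    rw [hS₁, hS₂, Finset.sum_filter_add_sum_filter_not, irr_column_orthogonality,
      irr_column_orthogonality]
    have hiff := isConj_shift_iff hp x hx H hH t y ((hTmem t).1 ht) ((hTmem y).1 hy)
    have hcard := card_centralizer_shift hp x hx H hH y ((hTmem y).1 hy)
    by_cases hc : IsConj t y
    · rw [if_pos hc, if_pos (hiff.2 hc), hcard]
    · rw [if_neg hc, if_neg (fun h => hc (hiff.1 h))]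
  have horth : ∀ ψ ∈ S₁, ∀ ψ' ∈ S₂, ∑ t ∈ T, (ψ : H → ℂ) t * conj ((ψ' : H → ℂ) t) = 0 := by
    intro ψ hψ ψ' hψ'
    rw [hS₁, Finset.mem_filter] at hψ
    rw [hS₂, Finset.mem_filter] at hψ'
    rw [hT]
    apply pregular_orthogonality p M hM ψ ψ'
    intro hsame
    apply hψ'.2
    obtain ⟨ξ₀, hbeq⟩ := he
    have h1 : SameBlock M (ξ₀ : H → ℂ) (ψ : H → ℂ) := by
      have := hψ.2
      rw [hbeq] at this
      exact this
    rw [hbeq]
    exact sameBlock_trans h1 hsame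
  -- step 1
  have step1 : ∀ y ∈ T, ∀ t ∈ T,
      ∑ ζ : IrrCharacter G, a ζ t * conj ((ζ : G → ℂ) (x * (y : G))) =
        ∑ ψ ∈ S₁, (ψ : H → ℂ) t * conj ((ψ : H → ℂ) y) := by
    intro y hy
    obtain ⟨D, hD⟩ : ∃ D : H → ℂ, D = fun t : H =>
      ∑ ζ : IrrCharacter G, a ζ t * conj ((ζ : G → ℂ) (x * (y : G))) -
        ∑ ψ ∈ S₁, (ψ : H → ℂ) t * conj ((ψ : H → ℂ) y) := ⟨_, rfl⟩
    have hDa : ∀ t, D t = ∑ ζ : IrrCharacter G, a ζ t * conj ((ζ : G → ℂ) (x * (y : G))) -
        ∑ ψ ∈ S₁, (ψ : H → ℂ) t * conj ((ψ : H → ℂ) y) := fun t => by rw [hD]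
    have hA : ∀ t, ∑ ζ : IrrCharacter G, a ζ t * conj ((ζ : G → ℂ) (x * (y : G))) =
        ∑ ψ ∈ S₁, (∑ ζ : IrrCharacter G, cI ζ ψ * conj ((ζ : G → ℂ) (x * (y : G)))) *
          (ψ : H → ℂ) t := by
      intro t
      have h1 : ∀ ζ : IrrCharacter G, a ζ t * conj ((ζ : G → ℂ) (x * (y : G))) =
          ∑ ψ ∈ S₁, cI ζ ψ * conj ((ζ : G → ℂ) (x * (y : G))) * (ψ : H → ℂ) t := by
        intro ζ
        rw [ha' ζ t, Finset.sum_mul]
        refine Finset.sum_congr rfl (fun ψ _ => ?_)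
        ring
      rw [Finset.sum_congr rfl (fun ζ _ => h1 ζ), Finset.sum_comm]
      refine Finset.sum_congr rfl (fun ψ _ => ?_)
      rw [Finset.sum_mul]
    have hA' : ∀ t, ∑ ζ : IrrCharacter G, b ζ t * conj ((ζ : G → ℂ) (x * (y : G))) =
        ∑ ψ ∈ S₂, (∑ ζ : IrrCharacter G, cI ζ ψ * conj ((ζ : G → ℂ) (x * (y : G)))) *
          (ψ : H → ℂ) t := by
      intro t
      have h1 : ∀ ζ : IrrCharacter G, b ζ t * conj ((ζ : G → ℂ) (x * (y : G))) =
          ∑ ψ ∈ S₂, cI ζ ψ * conj ((ζ : G → ℂ) (x * (y : G))) * (ψ : H → ℂ) t := by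
        intro ζ
        rw [hb' ζ t, Finset.sum_mul]
        refine Finset.sum_congr rfl (fun ψ _ => ?_)
        ring
      rw [Finset.sum_congr rfl (fun ζ _ => h1 ζ), Finset.sum_comm]
      refine Finset.sum_congr rfl (fun ψ _ => ?_)
      rw [Finset.sum_mul]
    have h1 : ∀ t ∈ T, D t = ∑ ψ ∈ S₁,
        ((∑ ζ : IrrCharacter G, cI ζ ψ * conj ((ζ : G → ℂ) (x * (y : G)))) -
          conj ((ψ : H → ℂ) y)) * (ψ : H → ℂ) t := by
      intro t ht
      rw [hDa, hA t, ← Finset.sum_sub_distrib]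
      refine Finset.sum_congr rfl (fun ψ _ => ?_)
      ring
    have h2 : ∀ t ∈ T, D t = ∑ ψ ∈ S₂,
        (conj ((ψ : H → ℂ) y) -
          (∑ ζ : IrrCharacter G, cI ζ ψ * conj ((ζ : G → ℂ) (x * (y : G))))) *
          (ψ : H → ℂ) t := by
      intro t ht
      have h3 := htot t ht y hy
      have h5 : ∑ ζ : IrrCharacter G, (ζ : G → ℂ) (x * (t : G)) *
          conj ((ζ : G → ℂ) (x * (y : G))) =
          ∑ ζ : IrrCharacter G, a ζ t * conj ((ζ : G → ℂ) (x * (y : G))) +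
          ∑ ζ : IrrCharacter G, b ζ t * conj ((ζ : G → ℂ) (x * (y : G))) := by
        rw [← Finset.sum_add_distrib]
        refine Finset.sum_congr rfl (fun ζ _ => ?_)
        rw [hexp ζ t]
        ring
      rw [h5] at h3
      have h4 : D t = ∑ ψ ∈ S₂, (ψ : H → ℂ) t * conj ((ψ : H → ℂ) y) -
          ∑ ζ : IrrCharacter G, b ζ t * conj ((ζ : G → ℂ) (x * (y : G))) := by
        rw [hDa]
        linear_combination h3
      rw [h4, hA' t, ← Finset.sum_sub_distrib]
      refine Finset.sum_congr rfl (fun ψ _ => ?_)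
      ring
    intro t ht
    have hzero := eq_zero_of_orthogonal_expansions T S₁ S₂ (fun ψ t => (ψ : H → ℂ) t) horth D _ _
      h1 h2 t ht
    rw [hDa] at hzero
    exact sub_eq_zero.1 hzero
  -- step 2
  have step2 : ∀ t ∈ T, ∀ y ∈ T,
      ∑ ζ : IrrCharacter G, conj (a ζ t) * b ζ y = 0 := by
    intro t ht
    obtain ⟨E, hE⟩ : ∃ E : H → ℂ, E = fun y : H =>
      ∑ ζ : IrrCharacter G, conj (a ζ t) * b ζ y := ⟨_, rfl⟩
    have hEa : ∀ y, E y = ∑ ζ : IrrCharacter G, conj (a ζ t) * b ζ y := fun y => by rw [hE]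
    have h2 : ∀ y ∈ T, E y = ∑ ψ ∈ S₂,
        (∑ ζ : IrrCharacter G, conj (a ζ t) * cI ζ ψ) * (ψ : H → ℂ) y := by
      intro y _
      rw [hEa]
      have h1 : ∀ ζ : IrrCharacter G, conj (a ζ t) * b ζ y =
          ∑ ψ ∈ S₂, conj (a ζ t) * cI ζ ψ * (ψ : H → ℂ) y := by
        intro ζ
        rw [hb' ζ y, Finset.mul_sum]
        refine Finset.sum_congr rfl (fun ψ _ => ?_)
        ring
      rw [Finset.sum_congr rfl (fun ζ _ => h1 ζ), Finset.sum_comm]
      refine Finset.sum_congr rfl (fun ψ _ => ?_)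
      rw [Finset.sum_mul]
    have h1 : ∀ y ∈ T, E y = ∑ ψ ∈ S₁,
        (conj ((ψ : H → ℂ) t) - ∑ ζ : IrrCharacter G, conj (a ζ t) * cI ζ ψ) *
          (ψ : H → ℂ) y := by
      intro y hy
      rw [hEa]
      have h3 := step1 y hy t ht
      have h4 : ∑ ζ : IrrCharacter G, conj (a ζ t) * (ζ : G → ℂ) (x * (y : G)) =
          ∑ ψ ∈ S₁, conj ((ψ : H → ℂ) t) * (ψ : H → ℂ) y := by
        have := congrArg conj h3
        rw [map_sum, map_sum] at this
        rw [Finset.sum_congr rfl (fun ζ _ => by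
          rw [map_mul, Complex.conj_conj])] at this
        rw [this]
        refine Finset.sum_congr rfl (fun ψ _ => ?_)
        rw [map_mul, Complex.conj_conj]
      have h5 : ∑ ζ : IrrCharacter G, conj (a ζ t) * a ζ y =
          ∑ ψ ∈ S₁, (∑ ζ : IrrCharacter G, conj (a ζ t) * cI ζ ψ) * (ψ : H → ℂ) y := by
        have h1 : ∀ ζ : IrrCharacter G, conj (a ζ t) * a ζ y =
            ∑ ψ ∈ S₁, conj (a ζ t) * cI ζ ψ * (ψ : H → ℂ) y := by
          intro ζ
          rw [ha' ζ y, Finset.mul_sum]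
          refine Finset.sum_congr rfl (fun ψ _ => ?_)
          ring
        rw [Finset.sum_congr rfl (fun ζ _ => h1 ζ), Finset.sum_comm]
        refine Finset.sum_congr rfl (fun ψ _ => ?_)
        rw [Finset.sum_mul]
      have h6 : ∑ ζ : IrrCharacter G, conj (a ζ t) * b ζ y =
          ∑ ζ : IrrCharacter G, conj (a ζ t) * (ζ : G → ℂ) (x * (y : G)) -
          ∑ ζ : IrrCharacter G, conj (a ζ t) * a ζ y := by
        rw [← Finset.sum_sub_distrib]
        refine Finset.sum_congr rfl (fun ζ _ => ?_)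
        rw [hexp ζ y]
        ring
      rw [h6, h4, h5, ← Finset.sum_sub_distrib]
      refine Finset.sum_congr rfl (fun ψ _ => ?_)
      ring
    intro y hy
    have hzero := eq_zero_of_orthogonal_expansions T S₁ S₂ (fun ψ t => (ψ : H → ℂ) t) horth E _ _
      h1 h2 y hy
    rw [hEa] at hzero
    exact hzero
  -- conclusion
  have htT := (hTmem t).2 ht
  have hyT := (hTmem y).2 hy
  have h3 := step1 y hyT t htT
  have h4 := step2 t htT y hyT
  have h5 : ∑ ζ : IrrCharacter G, a ζ t * conj (a ζ y) =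
      ∑ ζ : IrrCharacter G, a ζ t * conj ((ζ : G → ℂ) (x * (y : G))) -
      conj (∑ ζ : IrrCharacter G, conj (a ζ t) * b ζ y) := by
    rw [map_sum, ← Finset.sum_sub_distrib]
    refine Finset.sum_congr rfl (fun ζ _ => ?_)
    rw [hexp ζ y, map_mul, Complex.conj_conj, map_add]
    ring
  rw [h5, h4, map_zero, sub_zero, h3]

omit [Fintype G] in
theorem conj_part [Finite G] (x : G) (H : Subgroup G) [Fintype H]
    (hH : H = Subgroup.centralizer ({x} : Set G)) (ζ : IrrCharacter G) (ψ : IrrCharacter H) :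
    classInner (fun c : H => (ζ : G → ℂ) (x⁻¹ * (c : G))) (ψ : H → ℂ) =
      conj (classInner (fun c : H => (ζ : G → ℂ) (x * (c : G))) (ψ : H → ℂ)) := by
  have hHmem : ∀ g, g ∈ H → g * x = x * g := by
    intro g hg
    rw [hH, Subgroup.mem_centralizer_singleton_iff] at hg
    exact hg
  unfold classInner
  rw [map_mul, map_inv₀, Complex.conj_natCast, map_sum]
  congr 1
  apply Fintype.sum_equiv (Equiv.inv H)
  intro c
  show _ = conj ((ζ : G → ℂ) (x * ((c⁻¹ : H) : G)) * conj ((ψ : H → ℂ) c⁻¹))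
  rw [map_mul, Complex.conj_conj, char_inv (irr_isCharacter ψ.2),
    ← char_inv (irr_isCharacter ζ.2)]
  have h1 := hHmem c c.2
  have h2 : x⁻¹ * (c : G) = (c : G) * x⁻¹ := by
    calc x⁻¹ * (c : G) = x⁻¹ * ((c : G) * x) * x⁻¹ := by group
      _ = x⁻¹ * (x * (c : G)) * x⁻¹ := by rw [h1]
      _ = (c : G) * x⁻¹ := by group
  have h3 : (x * ((c⁻¹ : H) : G))⁻¹ = x⁻¹ * (c : G) := by
    push_cast
    rw [mul_inv_rev, inv_inv, h2]
  rw [h3]

theorem main_general (p : ℕ) [Fact p.Prime]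
    (M : Ideal AlgInt) (hM : IsPModular p M) (x : G) (hx : ∃ k : ℕ, orderOf x = p ^ k)
    (H : Subgroup G) (hH : H = Subgroup.centralizer ({x} : Set G))
    (B : Set (IrrCharacter G)) (e : Set (IrrCharacter H))
    (hind : IsInducedBlock M H e B) :
    ∑ᶠ χ ∈ B, ∑ᶠ s : H, pRegularPart p (blockPart e (fun c : H => (χ : G → ℂ) (x * c))) s *
        blockPart e (fun c : H => (χ : G → ℂ) (x⁻¹ * c)) s⁻¹ =
      (Nat.card H : ℂ) * (blockRank p e : ℂ) := by
  classical
  have hp : p.Prime := Fact.out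
  haveI hMp : M.IsPrime := hM.2.1.isPrime
  have hMtop := hMp.ne_top
  haveI : Fintype (IrrCharacter G) := Fintype.ofFinite _
  haveI : Fintype H := Fintype.ofFinite _
  haveI : Fintype (IrrCharacter H) := Fintype.ofFinite _
  have he := hind.1
  have hB := hind.2.1
  obtain ⟨a, ha⟩ : ∃ a : IrrCharacter G → H → ℂ, a = fun (ζ : IrrCharacter G) (t : H) =>
    ∑ ψ ∈ Finset.univ.filter (fun ψ : IrrCharacter H => ψ ∈ e),
      classInner (fun c : H => (ζ : G → ℂ) (x * (c : G))) (ψ : H → ℂ) * (ψ : H → ℂ) t :=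
    ⟨_, rfl⟩
  have ha' : ∀ ζ t, a ζ t = ∑ ψ ∈ Finset.univ.filter (fun ψ : IrrCharacter H => ψ ∈ e),
      classInner (fun c : H => (ζ : G → ℂ) (x * (c : G))) (ψ : H → ℂ) * (ψ : H → ℂ) t :=
    fun ζ t => by rw [ha]
  have hbp : ∀ (ζ : IrrCharacter G) (t : H),
      blockPart e (fun c : H => (ζ : G → ℂ) (x * (c : G))) t = a ζ t := by
    intro ζ t
    rw [blockPart_eq_sum, ha']
  have hbp' : ∀ (ζ : IrrCharacter G) (t : H),
      blockPart e (fun c : H => (ζ : G → ℂ) (x⁻¹ * (c : G))) t⁻¹ = conj (a ζ t) := by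
    intro ζ t
    rw [blockPart_eq_sum, ha', map_sum]
    refine Finset.sum_congr rfl (fun ψ _ => ?_)
    rw [map_mul, conj_part x H hH ζ ψ, char_inv (irr_isCharacter ψ.2)]
  have hvan : ∀ ζ : IrrCharacter G, ζ ∉ B → ∀ t : H, ¬ p ∣ orderOf t → a ζ t = 0 := by
    intro ζ hζ t ht
    rw [← hbp]
    apply second_main_H p M hM x hx H hH (blockOf M (ζ : G → ℂ)) ⟨ζ, rfl⟩ ζ
      (sameBlock_refl M hMtop _) e he _ t ht
    intro hind'
    apply hζ
    have := induced_block_unique H hind hind'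
    rw [this]
    exact sameBlock_refl M hMtop _
  rw [Cfsg.Agent.S4667.result p M hM e he]
  rw [finsum_mem_eq_finite_toFinset_sum _ (Set.toFinite _)]
  have h1 : ∀ χ : IrrCharacter G,
      ∑ᶠ s : H, pRegularPart p (blockPart e (fun c : H => (χ : G → ℂ) (x * c))) s *
        blockPart e (fun c : H => (χ : G → ℂ) (x⁻¹ * c)) s⁻¹ =
      ∑ s : H, if ¬ p ∣ orderOf s then a χ s * conj (a χ s) else 0 := by
    intro χ
    rw [finsum_eq_sum_of_fintype]
    refine Finset.sum_congr rfl (fun s _ => ?_)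
    rw [hbp']
    unfold pRegularPart IsPRegular
    by_cases hs : p ∣ orderOf s
    · simp [hs]
    · simp [hs, hbp]
  rw [Finset.sum_congr rfl (fun χ _ => h1 χ)]
  have h2 : ∑ χ ∈ (Set.toFinite B).toFinset,
      ∑ s : H, (if ¬ p ∣ orderOf s then a χ s * conj (a χ s) else 0) =
      ∑ χ : IrrCharacter G, ∑ s : H, (if ¬ p ∣ orderOf s then a χ s * conj (a χ s) else 0) := by
    apply Finset.sum_subset (Finset.subset_univ _)
    intro χ _ hχ
    have hχB : χ ∉ B := by simpa using hχ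
    apply Finset.sum_eq_zero
    intro s _
    split_ifs with hs
    · rfl
    · rw [hvan χ hχB s hs, zero_mul]
  rw [h2, Finset.sum_comm]
  refine Finset.sum_congr rfl (fun s _ => ?_)
  rw [finsum_mem_eq_finite_toFinset_sum _ (Set.toFinite _)]
  by_cases hs : p ∣ orderOf s
  · simp [pRegularPart, IsPRegular, hs]
  · simp only [hs, not_false_eq_true, if_true]
    rw [core_identity p M hM x hx H hH e he a ha' s s hs hs]
    apply Finset.sum_congr
    · ext ψ
      simp
    · intro ψ _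
      rw [char_inv (irr_isCharacter ψ.2)]
      simp [pRegularPart, IsPRegular, hs]

theorem induced_of_pair (p : ℕ) [Fact p.Prime] (M : Ideal AlgInt) (hM : IsPModular p M)
    (B : Set (IrrCharacter G)) (u : G)
    (e : Set (IrrCharacter (Subgroup.centralizer (Subgroup.zpowers u : Set G))))
    (hBe : IsBrauerPairOf p M B (Subgroup.zpowers u) e) :
    IsInducedBlock M (Subgroup.centralizer (Subgroup.zpowers u : Set G)) e B := by
  classical
  haveI hMp : M.IsPrime := hM.2.1.isPrime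
  have hMtop := hMp.ne_top
  haveI : Fintype (Subgroup.centralizer (Subgroup.zpowers u : Set G)) := Fintype.ofFinite _
  obtain ⟨⟨hP, he⟩, hB, hall⟩ := hBe
  obtain ⟨ξ₀, hbeq⟩ := he
  have hξ₀ : ξ₀ ∈ e := by rw [hbeq]; exact sameBlock_refl M hMtop _
  have hPH : Subgroup.zpowers u ≤ Subgroup.centralizer (Subgroup.zpowers u : Set G) := by
    intro a ha
    rw [Subgroup.mem_centralizer_iff]
    intro b hb
    obtain ⟨m, rfl⟩ := Subgroup.mem_zpowers_iff.1 ha
    obtain ⟨n, rfl⟩ := Subgroup.mem_zpowers_iff.1 hb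
    rw [← zpow_add, ← zpow_add, add_comm]
  obtain ⟨χ, hχ1, hχ2⟩ := brauer_block_exists p M hM hP hPH le_rfl
    (Subgroup.centralizer_le_normalizer _) ξ₀
  obtain ⟨χ₀, hBeq⟩ := hB
  obtain ⟨hacf, haR, -, -⟩ := blockCoeff_props (M := M) χ₀
  rw [← hBeq] at hacf haR
  have h1 := hχ1 (blockCoeff B) hacf haR
  rw [omegaFn_blockCoeff] at h1
  have h2 := hall ξ₀ hξ₀
  rw [brauerOmega_eq] at h2
  have hχB : χ ∈ B := by
    by_contra hne
    rw [if_neg hne, sub_zero] at h1
    have h3 := memLocalIdeal_sub h1 h2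
    rw [sub_sub_cancel] at h3
    exact not_memLocalIdeal_one h3
  have := blockOf_eq_of_mem ⟨χ₀, hBeq⟩ hχB
  rw [this, ← hbeq] at hχ2
  exact hχ2

end Core

/-- Fix a prime p and a maximal ideal M of the algebraic integers containing p, a p-block B of the finite group G, a p-element u and a p-block e of C = C_G(u) such that (⟨u⟩, e) is a Brauer pair of B (a Brauer element of B). For χ ∈ B let χ_u be the e-part of the class function c ↦ χ(u c) on C and χ_u' the e-part of c ↦ χ(u⁻¹ c). Then the sum over χ ∈ B and over the p-regular elements s of C of χ_u(s)·χ_u'(s⁻¹) equals the order of C times the p-regular rank of e (the number of irreducible Brauer characters of e). -/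
theorem result {G : Type*} [Group G] [Fintype G] (p : ℕ) [Fact p.Prime] (M : Ideal Cfsg.AlgInt) (hM : Cfsg.IsPModular p M) (B : Set (Cfsg.IrrCharacter G)) (u : G) (hu : ∃ k : ℕ, orderOf u = p ^ k) (e : Set (Cfsg.IrrCharacter (Subgroup.centralizer (Subgroup.zpowers u : Set G)))) (hBe : Cfsg.IsBrauerPairOf p M B (Subgroup.zpowers u) e) : ∑ᶠ χ ∈ B, ∑ᶠ s : Subgroup.centralizer (Subgroup.zpowers u : Set G), Cfsg.pRegularPart p (Cfsg.blockPart e (fun c : Subgroup.centralizer (Subgroup.zpowers u : Set G) => (χ : G → ℂ) (u * c))) s * Cfsg.blockPart e (fun c : Subgroup.centralizer (Subgroup.zpowers u : Set G) => (χ : G → ℂ) (u⁻¹ * c)) s⁻¹ = (Nat.card (Subgroup.centralizer (Subgroup.zpowers u : Set G)) : ℂ) * (Cfsg.blockRank p e : ℂ) := by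
  have hH : Subgroup.centralizer (Subgroup.zpowers u : Set G) =
      Subgroup.centralizer ({u} : Set G) := by
    ext c
    rw [Subgroup.mem_centralizer_iff, Subgroup.mem_centralizer_singleton_iff]
    constructor
    · intro h
      exact (h u (Subgroup.mem_zpowers u)).symm
    · intro h g hg
      obtain ⟨n, rfl⟩ := Subgroup.mem_zpowers_iff.1 hg
      have h1 : Commute u c := h.symm
      exact (h1.zpow_left n)
  exact main_general p M hM u hu _ hH B e (induced_of_pair p M hM B u e hBe)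

end Cfsg.Agent.S4683
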