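import Cfsg.Statements.S4511
import Cfsg.Agent.S4683
import Cfsg.Agent.Lib_helper24_CharOrth

set_option autoImplicit false
open Cfsg

namespace Cfsg.Agent.S4511

open Cfsg.Agent.helper24
open scoped ComplexConjugate

universe u

set_option linter.style.haveILetI false
set_option linter.unusedVariables false
set_option linter.unusedSectionVars false

open Cfsg.Agent.S4683 (blockPart_eq_sum second_main_H)

/-- a union of blocks whose block parts vanish has vanishing part -/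
theorem union_part_zero {K : Type u} [Group K] [Fintype K] [Fintype (IrrCharacter K)]
    (M : Ideal AlgInt) [hMp : M.IsPrime]
    (S : Finset (IrrCharacter K))
    (hS : ∀ ψ ∈ S, ∀ ψ' : IrrCharacter K, SameBlock M (ψ : K → ℂ) (ψ' : K → ℂ) → ψ' ∈ S)
    (ϑ : K → ℂ) (s : K) (h0 : ∀ ψ ∈ S, blockPart (blockOf M (ψ : K → ℂ)) ϑ s = 0) :
    ∑ ψ ∈ S, classInner ϑ (ψ : K → ℂ) * (ψ : K → ℂ) s = 0 := by
  classical
  have hMtop := hMp.ne_top
  rw [← Finset.sum_fiberwise_of_maps_to (g := fun ψ : IrrCharacter K => blockOf M (ψ : K → ℂ))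
    (t := S.image (fun ψ : IrrCharacter K => blockOf M (ψ : K → ℂ))) (fun ψ hψ => Finset.mem_image_of_mem _ hψ)]
  apply Finset.sum_eq_zero
  intro b hb
  obtain ⟨ψ₀, hψ₀, rfl⟩ := Finset.mem_image.1 hb
  rw [← h0 ψ₀ hψ₀, blockPart_eq_sum]
  apply Finset.sum_congr _ (fun _ _ => rfl)
  ext ψ
  simp only [Finset.mem_filter, Finset.mem_univ, true_and]
  constructor
  · rintro ⟨_, h⟩
    rw [← h]
    exact sameBlock_refl M hMtop _
  · intro h
    exact ⟨hS ψ₀ hψ₀ ψ h, blockOf_eq_of_mem ⟨ψ₀, rfl⟩ h⟩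

section Core

variable {G : Type u} [Group G] [Fintype G]

open Classical in
/-- the block-wise column orthogonality on a `p`-section -/
theorem core_identity_union [Fintype (IrrCharacter G)] (p : ℕ) [Fact p.Prime]
    (M : Ideal AlgInt) (hM : IsPModular p M) (x : G) (hx : ∃ k : ℕ, orderOf x = p ^ k)
    (H : Subgroup G) [Fintype H] [Fintype (IrrCharacter H)]
    (hH : H = Subgroup.centralizer ({x} : Set G))
    (e : Set (IrrCharacter H))
    (he : ∀ ψ ∈ e, ∀ ψ' : IrrCharacter H, ψ' ∉ e → ¬ SameBlock M (ψ : H → ℂ) (ψ' : H → ℂ))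
    (a : IrrCharacter G → H → ℂ)
    (ha : ∀ ζ t, a ζ t = ∑ ψ ∈ Finset.univ.filter (fun ψ : IrrCharacter H => ψ ∈ e),
      classInner (fun c : H => (ζ : G → ℂ) (x * (c : G))) (ψ : H → ℂ) * (ψ : H → ℂ) t)
    (t y : H) (ht : ¬ p ∣ orderOf t) (hy : ¬ p ∣ orderOf y) :
    ∑ ζ : IrrCharacter G, a ζ t * conj (a ζ y) =
      ∑ ψ ∈ Finset.univ.filter (fun ψ : IrrCharacter H => ψ ∈ e),
        (ψ : H → ℂ) t * conj ((ψ : H → ℂ) y) := by
  have hp : p.Prime := Fact.out
  have hMp : M.IsPrime := hM.2.1.isPrime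
  have hMtop := hMp.ne_top
  obtain ⟨T, hT⟩ : ∃ T : Finset H, T = Finset.univ.filter (fun t : H => ¬ p ∣ orderOf t) :=
    ⟨_, rfl⟩
  obtain ⟨S₁, hS₁⟩ : ∃ S₁ : Finset (IrrCharacter H),
    S₁ = Finset.univ.filter (fun ψ : IrrCharacter H => ψ ∈ e) := ⟨_, rfl⟩
  obtain ⟨S₂, hS₂⟩ : ∃ S₂ : Finset (IrrCharacter H),
    S₂ = Finset.univ.filter (fun ψ : IrrCharacter H => ψ ∉ e) := ⟨_, rfl⟩
  rw [← hS₁] at ha ⊢
  obtain ⟨cI, hcI⟩ : ∃ cI : IrrCharacter G → IrrCharacter H → ℂ,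
    cI = fun (ζ : IrrCharacter G) (ψ : IrrCharacter H) =>
      classInner (fun c : H => (ζ : G → ℂ) (x * (c : G))) (ψ : H → ℂ) := ⟨_, rfl⟩
  have ha' : ∀ ζ t, a ζ t = ∑ ψ ∈ S₁, cI ζ ψ * (ψ : H → ℂ) t := by
    intro ζ t
    rw [ha, hcI]
  obtain ⟨b, hb⟩ : ∃ b : IrrCharacter G → H → ℂ,
    b = fun ζ t => ∑ ψ ∈ S₂, cI ζ ψ * (ψ : H → ℂ) t := ⟨_, rfl⟩
  have hb' : ∀ ζ t, b ζ t = ∑ ψ ∈ S₂, cI ζ ψ * (ψ : H → ℂ) t := by
    intro ζ t
    rw [hb]
  have hTmem : ∀ t : H, t ∈ T ↔ ¬ p ∣ orderOf t := by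
    intro t
    rw [hT, Finset.mem_filter]
    exact ⟨fun h => h.2, fun h => ⟨Finset.mem_univ _, h⟩⟩
  -- expansion
  have hexp : ∀ (ζ : IrrCharacter G) (t : H), (ζ : G → ℂ) (x * (t : G)) = a ζ t + b ζ t := by
    intro ζ t
    have hcf : IsClassFunction H (fun c : H => (ζ : G → ℂ) (x * (c : G))) :=
      shift_isClassFunction x H hH (char_isClassFunction (irr_isCharacter ζ.2))
    have h1 := congrFun (classFunction_expansion hcf) t
    rw [Finset.sum_apply] at h1
    simp only [Pi.smul_apply, smul_eq_mul] at h1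
    rw [← Finset.sum_filter_add_sum_filter_not Finset.univ
      (fun ψ : IrrCharacter H => ψ ∈ e)] at h1
    rw [ha' ζ t, hb' ζ t, hS₁, hS₂, hcI]
    exact h1
  -- column orthogonality
  have htot : ∀ t ∈ T, ∀ y ∈ T,
      ∑ ζ : IrrCharacter G, (ζ : G → ℂ) (x * (t : G)) * conj ((ζ : G → ℂ) (x * (y : G))) =
      ∑ ψ ∈ S₁, (ψ : H → ℂ) t * conj ((ψ : H → ℂ) y) +
      ∑ ψ ∈ S₂, (ψ : H → ℂ) t * conj ((ψ : H → ℂ) y) := by
    intro t ht y hy
    rw [hS₁, hS₂, Finset.sum_filter_add_sum_filter_not, irr_column_orthogonality,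
      irr_column_orthogonality]
    have hiff := isConj_shift_iff hp x hx H hH t y ((hTmem t).1 ht) ((hTmem y).1 hy)
    have hcard := card_centralizer_shift hp x hx H hH y ((hTmem y).1 hy)
    by_cases hc : IsConj t y
    · rw [if_pos hc, if_pos (hiff.2 hc), hcard]
    · rw [if_neg hc, if_neg (fun h => hc (hiff.1 h))]
  have horth : ∀ ψ ∈ S₁, ∀ ψ' ∈ S₂, ∑ t ∈ T, (ψ : H → ℂ) t * conj ((ψ' : H → ℂ) t) = 0 := by
    intro ψ hψ ψ' hψ'
    rw [hS₁, Finset.mem_filter] at hψ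
    rw [hS₂, Finset.mem_filter] at hψ'
    rw [hT]
    apply pregular_orthogonality p M hM ψ ψ'
    exact he ψ hψ.2 ψ' hψ'.2
  -- step 1
  have step1 : ∀ y ∈ T, ∀ t ∈ T,
      ∑ ζ : IrrCharacter G, a ζ t * conj ((ζ : G → ℂ) (x * (y : G))) =
        ∑ ψ ∈ S₁, (ψ : H → ℂ) t * conj ((ψ : H → ℂ) y) := by
    intro y hy
    obtain ⟨D, hD⟩ : ∃ D : H → ℂ, D = fun t : H =>
      ∑ ζ : IrrCharacter G, a ζ t * conj ((ζ : G → ℂ) (x * (y : G))) -
        ∑ ψ ∈ S₁, (ψ : H → ℂ) t * conj ((ψ : H → ℂ) y) := ⟨_, rfl⟩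
    have hDa : ∀ t, D t = ∑ ζ : IrrCharacter G, a ζ t * conj ((ζ : G → ℂ) (x * (y : G))) -
        ∑ ψ ∈ S₁, (ψ : H → ℂ) t * conj ((ψ : H → ℂ) y) := fun t => by rw [hD]
    have hA : ∀ t, ∑ ζ : IrrCharacter G, a ζ t * conj ((ζ : G → ℂ) (x * (y : G))) =
        ∑ ψ ∈ S₁, (∑ ζ : IrrCharacter G, cI ζ ψ * conj ((ζ : G → ℂ) (x * (y : G)))) *
          (ψ : H → ℂ) t := by
      intro t
      have h1 : ∀ ζ : IrrCharacter G, a ζ t * conj ((ζ : G → ℂ) (x * (y : G))) =
          ∑ ψ ∈ S₁, cI ζ ψ * conj ((ζ : G → ℂ) (x * (y : G))) * (ψ : H → ℂ) t := by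
        intro ζ
        rw [ha' ζ t, Finset.sum_mul]
        refine Finset.sum_congr rfl (fun ψ _ => ?_)
        ring
      rw [Finset.sum_congr rfl (fun ζ _ => h1 ζ), Finset.sum_comm]
      refine Finset.sum_congr rfl (fun ψ _ => ?_)
      rw [Finset.sum_mul]
    have hA' : ∀ t, ∑ ζ : IrrCharacter G, b ζ t * conj ((ζ : G → ℂ) (x * (y : G))) =
        ∑ ψ ∈ S₂, (∑ ζ : IrrCharacter G, cI ζ ψ * conj ((ζ : G → ℂ) (x * (y : G)))) *
          (ψ : H → ℂ) t := by
      intro t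
      have h1 : ∀ ζ : IrrCharacter G, b ζ t * conj ((ζ : G → ℂ) (x * (y : G))) =
          ∑ ψ ∈ S₂, cI ζ ψ * conj ((ζ : G → ℂ) (x * (y : G))) * (ψ : H → ℂ) t := by
        intro ζ
        rw [hb' ζ t, Finset.sum_mul]
        refine Finset.sum_congr rfl (fun ψ _ => ?_)
        ring
      rw [Finset.sum_congr rfl (fun ζ _ => h1 ζ), Finset.sum_comm]
      refine Finset.sum_congr rfl (fun ψ _ => ?_)
      rw [Finset.sum_mul]
    have h1 : ∀ t ∈ T, D t = ∑ ψ ∈ S₁,
        ((∑ ζ : IrrCharacter G, cI ζ ψ * conj ((ζ : G → ℂ) (x * (y : G)))) -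
          conj ((ψ : H → ℂ) y)) * (ψ : H → ℂ) t := by
      intro t ht
      rw [hDa, hA t, ← Finset.sum_sub_distrib]
      refine Finset.sum_congr rfl (fun ψ _ => ?_)
      ring
    have h2 : ∀ t ∈ T, D t = ∑ ψ ∈ S₂,
        (conj ((ψ : H → ℂ) y) -
          (∑ ζ : IrrCharacter G, cI ζ ψ * conj ((ζ : G → ℂ) (x * (y : G))))) *
          (ψ : H → ℂ) t := by
      intro t ht
      have h3 := htot t ht y hy
      have h5 : ∑ ζ : IrrCharacter G, (ζ : G → ℂ) (x * (t : G)) *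
          conj ((ζ : G → ℂ) (x * (y : G))) =
          ∑ ζ : IrrCharacter G, a ζ t * conj ((ζ : G → ℂ) (x * (y : G))) +
          ∑ ζ : IrrCharacter G, b ζ t * conj ((ζ : G → ℂ) (x * (y : G))) := by
        rw [← Finset.sum_add_distrib]
        refine Finset.sum_congr rfl (fun ζ _ => ?_)
        rw [hexp ζ t]
        ring
      rw [h5] at h3
      have h4 : D t = ∑ ψ ∈ S₂, (ψ : H → ℂ) t * conj ((ψ : H → ℂ) y) -
          ∑ ζ : IrrCharacter G, b ζ t * conj ((ζ : G → ℂ) (x * (y : G))) := by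
        rw [hDa]
        linear_combination h3
      rw [h4, hA' t, ← Finset.sum_sub_distrib]
      refine Finset.sum_congr rfl (fun ψ _ => ?_)
      ring
    intro t ht
    have hzero := eq_zero_of_orthogonal_expansions T S₁ S₂ (fun ψ t => (ψ : H → ℂ) t) horth D _ _
      h1 h2 t ht
    rw [hDa] at hzero
    exact sub_eq_zero.1 hzero
  -- step 2
  have step2 : ∀ t ∈ T, ∀ y ∈ T,
      ∑ ζ : IrrCharacter G, conj (a ζ t) * b ζ y = 0 := by
    intro t ht
    obtain ⟨E, hE⟩ : ∃ E : H → ℂ, E = fun y : H =>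
      ∑ ζ : IrrCharacter G, conj (a ζ t) * b ζ y := ⟨_, rfl⟩
    have hEa : ∀ y, E y = ∑ ζ : IrrCharacter G, conj (a ζ t) * b ζ y := fun y => by rw [hE]
    have h2 : ∀ y ∈ T, E y = ∑ ψ ∈ S₂,
        (∑ ζ : IrrCharacter G, conj (a ζ t) * cI ζ ψ) * (ψ : H → ℂ) y := by
      intro y _
      rw [hEa]
      have h1 : ∀ ζ : IrrCharacter G, conj (a ζ t) * b ζ y =
          ∑ ψ ∈ S₂, conj (a ζ t) * cI ζ ψ * (ψ : H → ℂ) y := by
        intro ζ
        rw [hb' ζ y, Finset.mul_sum]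
        refine Finset.sum_congr rfl (fun ψ _ => ?_)
        ring
      rw [Finset.sum_congr rfl (fun ζ _ => h1 ζ), Finset.sum_comm]
      refine Finset.sum_congr rfl (fun ψ _ => ?_)
      rw [Finset.sum_mul]
    have h1 : ∀ y ∈ T, E y = ∑ ψ ∈ S₁,
        (conj ((ψ : H → ℂ) t) - ∑ ζ : IrrCharacter G, conj (a ζ t) * cI ζ ψ) *
          (ψ : H → ℂ) y := by
      intro y hy
      rw [hEa]
      have h3 := step1 y hy t ht
      have h4 : ∑ ζ : IrrCharacter G, conj (a ζ t) * (ζ : G → ℂ) (x * (y : G)) =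
          ∑ ψ ∈ S₁, conj ((ψ : H → ℂ) t) * (ψ : H → ℂ) y := by
        have := congrArg conj h3
        rw [map_sum, map_sum] at this
        rw [Finset.sum_congr rfl (fun ζ _ => by
          rw [map_mul, Complex.conj_conj])] at this
        rw [this]
        refine Finset.sum_congr rfl (fun ψ _ => ?_)
        rw [map_mul, Complex.conj_conj]
      have h5 : ∑ ζ : IrrCharacter G, conj (a ζ t) * a ζ y =
          ∑ ψ ∈ S₁, (∑ ζ : IrrCharacter G, conj (a ζ t) * cI ζ ψ) * (ψ : H → ℂ) y := by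
        have h1 : ∀ ζ : IrrCharacter G, conj (a ζ t) * a ζ y =
            ∑ ψ ∈ S₁, conj (a ζ t) * cI ζ ψ * (ψ : H → ℂ) y := by
          intro ζ
          rw [ha' ζ y, Finset.mul_sum]
          refine Finset.sum_congr rfl (fun ψ _ => ?_)
          ring
        rw [Finset.sum_congr rfl (fun ζ _ => h1 ζ), Finset.sum_comm]
        refine Finset.sum_congr rfl (fun ψ _ => ?_)
        rw [Finset.sum_mul]
      have h6 : ∑ ζ : IrrCharacter G, conj (a ζ t) * b ζ y =
          ∑ ζ : IrrCharacter G, conj (a ζ t) * (ζ : G → ℂ) (x * (y : G)) -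
          ∑ ζ : IrrCharacter G, conj (a ζ t) * a ζ y := by
        rw [← Finset.sum_sub_distrib]
        refine Finset.sum_congr rfl (fun ζ _ => ?_)
        rw [hexp ζ y]
        ring
      rw [h6, h4, h5, ← Finset.sum_sub_distrib]
      refine Finset.sum_congr rfl (fun ψ _ => ?_)
      ring
    intro y hy
    have hzero := eq_zero_of_orthogonal_expansions T S₁ S₂ (fun ψ t => (ψ : H → ℂ) t) horth E _ _
      h1 h2 y hy
    rw [hEa] at hzero
    exact hzero
  -- conclusion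
  have htT := (hTmem t).2 ht
  have hyT := (hTmem y).2 hy
  have h3 := step1 y hyT t htT
  have h4 := step2 t htT y hyT
  have h5 : ∑ ζ : IrrCharacter G, a ζ t * conj (a ζ y) =
      ∑ ζ : IrrCharacter G, a ζ t * conj ((ζ : G → ℂ) (x * (y : G))) -
      conj (∑ ζ : IrrCharacter G, conj (a ζ t) * b ζ y) := by
    rw [map_sum, ← Finset.sum_sub_distrib]
    refine Finset.sum_congr rfl (fun ζ _ => ?_)
    rw [hexp ζ y, map_mul, Complex.conj_conj, map_add]
    ring
  rw [h5, h4, map_zero, sub_zero, h3]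


open Classical in
/-- the number of conjugators -/
theorem card_conj_fiber (x z : G) (H : Subgroup G) [Fintype H]
    (hH : H = Subgroup.centralizer ({x} : Set G)) (hz : IsConj x z) :
    (Finset.univ.filter (fun k : G => k⁻¹ * z * k = x)).card = Fintype.card H := by
  have hHmem : ∀ g, g ∈ H ↔ g * x = x * g := by
    intro g
    rw [hH, Subgroup.mem_centralizer_singleton_iff]
  obtain ⟨k₀, hk₀⟩ := isConj_iff.1 hz
  rw [← Finset.card_univ (α := H)]
  symm
  apply Finset.card_bij (fun (c : H) _ => k₀ * (c : G))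
  · intro c _
    rw [Finset.mem_filter]
    refine ⟨Finset.mem_univ _, ?_⟩
    have hc := (hHmem _).1 c.2
    rw [← hk₀]
    calc (k₀ * (c : G))⁻¹ * (k₀ * x * k₀⁻¹) * (k₀ * (c : G)) = (c : G)⁻¹ * (x * (c : G)) := by
          group
      _ = (c : G)⁻¹ * ((c : G) * x) := by rw [hc]
      _ = x := by group
  · intro c _ c' _ h
    exact Subtype.ext (mul_left_cancel h)
  · intro k hk
    rw [Finset.mem_filter] at hk
    have hk2 := hk.2
    refine ⟨⟨k₀⁻¹ * k, ?_⟩, Finset.mem_univ _, ?_⟩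
    · rw [hHmem]
      rw [← hk₀] at hk2
      calc k₀⁻¹ * k * x = k₀⁻¹ * k * (k⁻¹ * (k₀ * x * k₀⁻¹) * k) := by rw [hk2]
        _ = x * (k₀⁻¹ * k) := by group
    · show k₀ * (k₀⁻¹ * k) = k
      group

open Classical in
/-- the sum of a class function over a `p`-section -/
theorem section_sum {p : ℕ} (hp : p.Prime) (x : G) (hx : ∃ k : ℕ, orderOf x = p ^ k)
    (H : Subgroup G) [Fintype H] (hH : H = Subgroup.centralizer ({x} : Set G))
    (F : G → ℂ) (hF : ∀ g k : G, F (k * g * k⁻¹) = F g) :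
    (Nat.card H : ℂ) * ∑ g ∈ Finset.univ.filter (fun g : G => ∃ z, IsPPart p g z ∧ IsConj z x),
        F g =
      (Nat.card G : ℂ) * ∑ s ∈ Finset.univ.filter (fun s : H => ¬ p ∣ orderOf s),
        F (x * (s : G)) := by
  have hHmem : ∀ g, g ∈ H ↔ g * x = x * g := by
    intro g
    rw [hH, Subgroup.mem_centralizer_singleton_iff]
  -- the double sum
  have hW1 : ∀ k : G, ∑ g : G, (if IsPPart p (k⁻¹ * g * k) x then F g else 0) =
      ∑ s ∈ Finset.univ.filter (fun s : H => ¬ p ∣ orderOf s), F (x * (s : G)) := by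
    intro k
    have e1 : ∑ g : G, (if IsPPart p (k⁻¹ * g * k) x then F g else 0) =
        ∑ h : G, (if IsPPart p h x then F h else 0) := by
      apply Fintype.sum_equiv (MulAut.conj k⁻¹).toEquiv
      intro g
      show _ = if IsPPart p (k⁻¹ * g * k⁻¹⁻¹) x then F (k⁻¹ * g * k⁻¹⁻¹) else 0
      rw [inv_inv]
      have := hF g k⁻¹
      rw [inv_inv] at this
      rw [this]
    rw [e1, ← Finset.sum_filter]
    symm
    apply Finset.sum_bij (fun (s : H) _ => x * (s : G))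
    · intro s hs
      rw [Finset.mem_filter] at hs ⊢
      refine ⟨Finset.mem_univ _, (s : G), rfl, ((hHmem _).1 s.2).symm, hx, ?_⟩
      rw [Subgroup.orderOf_coe]
      exact hs.2
    · intro s _ s' _ h
      exact Subtype.ext (mul_left_cancel h)
    · intro h hh
      rw [Finset.mem_filter] at hh
      obtain ⟨y, hxy, hc, -, hy⟩ := hh.2
      refine ⟨⟨y, (hHmem _).2 hc.eq.symm⟩, ?_, hxy⟩
      rw [Finset.mem_filter]
      refine ⟨Finset.mem_univ _, ?_⟩
      rw [← Subgroup.orderOf_coe]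
      exact hy
    · intro s _
      rfl
  have hW2 : ∀ g : G, ∑ k : G, (if IsPPart p (k⁻¹ * g * k) x then F g else 0) =
      if (∃ z, IsPPart p g z ∧ IsConj z x) then (Nat.card H : ℂ) * F g else 0 := by
    intro g
    haveI : Fact p.Prime := ⟨hp⟩
    obtain ⟨z, hz⟩ := exists_isPPart p g
    have hiff : ∀ k : G, IsPPart p (k⁻¹ * g * k) x ↔ k⁻¹ * z * k = x := by
      intro k
      have h1 := isPPart_conj hz k⁻¹
      rw [inv_inv] at h1
      constructor
      · intro h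
        exact isPPart_unique hp h1 h
      · intro h
        rw [← h]
        exact h1
    rw [Finset.sum_congr rfl (fun k _ => by rw [hiff k])]
    rw [Finset.sum_ite, Finset.sum_const_zero, add_zero, Finset.sum_const, nsmul_eq_mul]
    by_cases hc : IsConj z x
    · have hex : ∃ z, IsPPart p g z ∧ IsConj z x := ⟨z, hz, hc⟩
      rw [if_pos hex, card_conj_fiber x z H hH hc.symm, Nat.card_eq_fintype_card]
    · have hex : ¬ ∃ z, IsPPart p g z ∧ IsConj z x := by
        rintro ⟨z', hz', hc'⟩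
        rw [isPPart_unique hp hz hz'] at hc
        exact hc hc'
      rw [if_neg hex]
      have : Finset.univ.filter (fun k : G => k⁻¹ * z * k = x) = ∅ := by
        rw [Finset.filter_eq_empty_iff]
        intro k _ hk
        apply hc
        rw [isConj_iff]
        exact ⟨k⁻¹, by rw [inv_inv]; exact hk⟩
      rw [this, Finset.card_empty, Nat.cast_zero, zero_mul]
  have hW : ∑ k : G, ∑ g : G, (if IsPPart p (k⁻¹ * g * k) x then F g else 0) =
      ∑ g : G, ∑ k : G, (if IsPPart p (k⁻¹ * g * k) x then F g else 0) := Finset.sum_comm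
  rw [Finset.sum_congr rfl (fun k _ => hW1 k), Finset.sum_congr rfl (fun g _ => hW2 g),
    Finset.sum_const, Finset.card_univ, nsmul_eq_mul, ← Finset.sum_filter,
    ← Finset.mul_sum] at hW
  rw [← hW, Nat.card_eq_fintype_card]

open Classical in
/-- the contribution of one `p`-section -/
theorem per_section [Fintype (IrrCharacter G)] (p : ℕ) [Fact p.Prime] (M : Ideal AlgInt)
    (hM : IsPModular p M) (x : G) (hx : ∃ k : ℕ, orderOf x = p ^ k) (H : Subgroup G) [Fintype H]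
    [Fintype (IrrCharacter H)] (hH : H = Subgroup.centralizer ({x} : Set G))
    (B : Set (IrrCharacter G)) (hB : IsPBlock M B) :
    ∑ s ∈ Finset.univ.filter (fun s : H => ¬ p ∣ orderOf s),
      ∑ χ ∈ Finset.univ.filter (fun χ : IrrCharacter G => χ ∈ B),
        (χ : G → ℂ) (x * (s : G)) * conj ((χ : G → ℂ) (x * (s : G))) =
    (Nat.card H : ℂ) *
      ((∑ᶠ b ∈ {b : Set (IrrCharacter H) | IsInducedBlock M H b B}, blockRank p b : ℕ) : ℂ) := by
  have hp : p.Prime := Fact.out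
  haveI hMp : M.IsPrime := hM.2.1.isPrime
  have hMtop := hMp.ne_top
  obtain ⟨E, hE⟩ : ∃ E : Set (IrrCharacter H),
    E = {ψ : IrrCharacter H | IsInducedBlock M H (blockOf M (ψ : H → ℂ)) B} := ⟨_, rfl⟩
  have hEmem : ∀ ψ, ψ ∈ E ↔ IsInducedBlock M H (blockOf M (ψ : H → ℂ)) B := by
    intro ψ
    rw [hE]
    rfl
  have hEclosed : ∀ ψ ∈ E, ∀ ψ' : IrrCharacter H,
      SameBlock M (ψ : H → ℂ) (ψ' : H → ℂ) → ψ' ∈ E := by
    intro ψ hψ ψ' hs
    rw [hEmem] at hψ ⊢
    have : blockOf M (ψ' : H → ℂ) = blockOf M (ψ : H → ℂ) := blockOf_eq_of_mem ⟨ψ, rfl⟩ hs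
    rw [this]
    exact hψ
  have hEsep : ∀ ψ ∈ E, ∀ ψ' : IrrCharacter H, ψ' ∉ E →
      ¬ SameBlock M (ψ : H → ℂ) (ψ' : H → ℂ) :=
    fun ψ hψ ψ' hψ' hs => hψ' (hEclosed ψ hψ ψ' hs)
  obtain ⟨S₁, hS₁⟩ : ∃ S₁ : Finset (IrrCharacter H),
    S₁ = Finset.univ.filter (fun ψ => ψ ∈ E) := ⟨_, rfl⟩
  obtain ⟨S₂, hS₂⟩ : ∃ S₂ : Finset (IrrCharacter H),
    S₂ = Finset.univ.filter (fun ψ => ψ ∉ E) := ⟨_, rfl⟩
  have hS₁closed : ∀ ψ ∈ S₁, ∀ ψ' : IrrCharacter H,
      SameBlock M (ψ : H → ℂ) (ψ' : H → ℂ) → ψ' ∈ S₁ := by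
    intro ψ hψ ψ' hs
    rw [hS₁, Finset.mem_filter] at hψ ⊢
    exact ⟨Finset.mem_univ _, hEclosed ψ hψ.2 ψ' hs⟩
  have hS₂closed : ∀ ψ ∈ S₂, ∀ ψ' : IrrCharacter H,
      SameBlock M (ψ : H → ℂ) (ψ' : H → ℂ) → ψ' ∈ S₂ := by
    intro ψ hψ ψ' hs
    rw [hS₂, Finset.mem_filter] at hψ ⊢
    exact ⟨Finset.mem_univ _, fun h => hψ.2 (hEclosed ψ' h ψ (sameBlock_symm hs))⟩
  obtain ⟨a, ha⟩ : ∃ a : IrrCharacter G → H → ℂ, a = fun (ζ : IrrCharacter G) (t : H) =>
    ∑ ψ ∈ Finset.univ.filter (fun ψ : IrrCharacter H => ψ ∈ E),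
      classInner (fun c : H => (ζ : G → ℂ) (x * (c : G))) (ψ : H → ℂ) * (ψ : H → ℂ) t :=
    ⟨_, rfl⟩
  have ha' : ∀ ζ t, a ζ t = ∑ ψ ∈ Finset.univ.filter (fun ψ : IrrCharacter H => ψ ∈ E),
      classInner (fun c : H => (ζ : G → ℂ) (x * (c : G))) (ψ : H → ℂ) * (ψ : H → ℂ) t :=
    fun ζ t => by rw [ha]
  have h1 : ∀ ζ : IrrCharacter G, ζ ∈ B → ∀ s : H, ¬ p ∣ orderOf s →
      (ζ : G → ℂ) (x * (s : G)) = a ζ s := by
    intro ζ hζ s hs
    have hcf : IsClassFunction H (fun c : H => (ζ : G → ℂ) (x * (c : G))) :=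
      shift_isClassFunction x H hH (char_isClassFunction (irr_isCharacter ζ.2))
    have h2 := congrFun (classFunction_expansion hcf) s
    rw [Finset.sum_apply] at h2
    simp only [Pi.smul_apply, smul_eq_mul] at h2
    rw [← Finset.sum_filter_add_sum_filter_not Finset.univ
      (fun ψ : IrrCharacter H => ψ ∈ E)] at h2
    rw [← hS₂] at h2
    rw [union_part_zero M S₂ hS₂closed _ s ?_, add_zero] at h2
    · rw [ha']
      exact h2
    · intro ψ hψ
      rw [hS₂, Finset.mem_filter] at hψ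
      apply second_main_H p M hM x hx H hH B hB ζ hζ _ ⟨ψ, rfl⟩ _ s hs
      intro hind
      exact hψ.2 ((hEmem ψ).2 hind)
  have h2 : ∀ ζ : IrrCharacter G, ζ ∉ B → ∀ s : H, ¬ p ∣ orderOf s → a ζ s = 0 := by
    intro ζ hζ s hs
    rw [ha', ← hS₁]
    apply union_part_zero M S₁ hS₁closed
    intro ψ hψ
    rw [hS₁, Finset.mem_filter] at hψ
    apply second_main_H p M hM x hx H hH (blockOf M (ζ : G → ℂ)) ⟨ζ, rfl⟩ ζ
      (sameBlock_refl M hMtop _) _ ⟨ψ, rfl⟩ _ s hs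
    intro hind
    apply hζ
    have := induced_block_unique H ((hEmem ψ).1 hψ.2) hind
    rw [this]
    exact sameBlock_refl M hMtop _
  have h3 : ∀ s : H, ¬ p ∣ orderOf s →
      ∑ χ ∈ Finset.univ.filter (fun χ : IrrCharacter G => χ ∈ B),
        (χ : G → ℂ) (x * (s : G)) * conj ((χ : G → ℂ) (x * (s : G))) =
      ∑ ψ ∈ S₁, (ψ : H → ℂ) s * conj ((ψ : H → ℂ) s) := by
    intro s hs
    rw [hS₁, ← core_identity_union p M hM x hx H hH E hEsep a ha' s s hs hs]
    rw [← Finset.sum_filter_add_sum_filter_not Finset.univ (fun χ : IrrCharacter G => χ ∈ B)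
      (fun ζ => a ζ s * conj (a ζ s))]
    have : ∑ ζ ∈ Finset.univ.filter (fun χ : IrrCharacter G => ¬ χ ∈ B),
        a ζ s * conj (a ζ s) = 0 := by
      apply Finset.sum_eq_zero
      intro ζ hζ
      rw [Finset.mem_filter] at hζ
      rw [h2 ζ hζ.2 s hs, zero_mul]
    rw [this, add_zero]
    refine Finset.sum_congr rfl (fun ζ hζ => ?_)
    rw [Finset.mem_filter] at hζ
    rw [h1 ζ hζ.2 s hs]
  rw [Finset.sum_congr rfl (fun s hs => h3 s (Finset.mem_filter.1 hs).2)]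
  have h4 : ∑ s ∈ Finset.univ.filter (fun s : H => ¬ p ∣ orderOf s),
      ∑ ψ ∈ S₁, (ψ : H → ℂ) s * conj ((ψ : H → ℂ) s) =
      ∑ ψ ∈ S₁, ∑ s : H, pRegularPart p (ψ : H → ℂ) s * (ψ : H → ℂ) s⁻¹ := by
    rw [Finset.sum_comm]
    refine Finset.sum_congr rfl (fun ψ _ => ?_)
    rw [Finset.sum_filter]
    refine Finset.sum_congr rfl (fun s _ => ?_)
    rw [char_inv (irr_isCharacter ψ.2)]
    unfold pRegularPart IsPRegular
    by_cases hs : p ∣ orderOf s
    · simp [hs]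
    · simp [hs]
  rw [h4]
  rw [← Finset.sum_fiberwise_of_maps_to (g := fun ψ : IrrCharacter H => blockOf M (ψ : H → ℂ))
    (t := S₁.image (fun ψ : IrrCharacter H => blockOf M (ψ : H → ℂ)))
    (fun ψ hψ => Finset.mem_image_of_mem _ hψ)]
  have h5 : ∀ b ∈ S₁.image (fun ψ : IrrCharacter H => blockOf M (ψ : H → ℂ)),
      ∑ ψ ∈ S₁.filter (fun ψ : IrrCharacter H => blockOf M (ψ : H → ℂ) = b),
        ∑ s : H, pRegularPart p (ψ : H → ℂ) s * (ψ : H → ℂ) s⁻¹ =
      (Nat.card H : ℂ) * (blockRank p b : ℂ) := by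
    intro b hb
    obtain ⟨ψ₀, hψ₀, rfl⟩ := Finset.mem_image.1 hb
    rw [Cfsg.Agent.S4667.result p M hM _ ⟨ψ₀, rfl⟩, Finset.sum_comm]
    refine Finset.sum_congr rfl (fun s _ => ?_)
    rw [finsum_mem_eq_finite_toFinset_sum _ (Set.toFinite _)]
    apply Finset.sum_congr _ (fun _ _ => rfl)
    ext ψ
    simp only [Finset.mem_filter, Set.Finite.mem_toFinset]
    constructor
    · rintro ⟨_, h⟩
      rw [← h]
      exact sameBlock_refl M hMtop _
    · intro h
      exact ⟨hS₁closed ψ₀ hψ₀ ψ h, blockOf_eq_of_mem ⟨ψ₀, rfl⟩ h⟩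
  rw [Finset.sum_congr rfl h5, ← Finset.mul_sum]
  congr 1
  rw [finsum_mem_eq_finite_toFinset_sum _ (Set.toFinite _), Nat.cast_sum]
  apply Finset.sum_congr _ (fun _ _ => rfl)
  ext b
  simp only [Finset.mem_image, Set.Finite.mem_toFinset, Set.mem_setOf_eq]
  constructor
  · rintro ⟨ψ, hψ, rfl⟩
    rw [hS₁, Finset.mem_filter] at hψ
    exact (hEmem ψ).1 hψ.2
  · intro hind
    obtain ⟨ψ₀, rfl⟩ := hind.1
    refine ⟨ψ₀, ?_, rfl⟩
    rw [hS₁, Finset.mem_filter]
    exact ⟨Finset.mem_univ _, (hEmem ψ₀).2 hind⟩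

end Core

/-- Brauer's count of the irreducible characters in a block by subsections. Let M be a maximal ideal of the algebraic integers containing the prime p, B a p-block of the finite group G, and X a set of representatives of the conjugacy classes of p-elements of G (elements of p-power order, the identity included: every p-element is conjugate to exactly one member of X). Then the number of irreducible characters in B is the sum, over x ∈ X and over the blocks b of C_G(x) that induce B, of the p-regular rank of b (the number of irreducible Brauer characters of b, here the dimension of the span of the restrictions of the members of b to the p-regular elements of C_G(x)). -/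
theorem result {G : Type*} [Group G] [Finite G] (p : ℕ) (M : Ideal Cfsg.AlgInt) (hM : Cfsg.IsPModular p M)
    (B : Set (Cfsg.IrrCharacter G)) (hB : Cfsg.IsPBlock M B) (X : Finset G)
    (hX : ∀ x ∈ X, ∃ k : ℕ, orderOf x = p ^ k)
    (hXrep : ∀ g : G, (∃ k : ℕ, orderOf g = p ^ k) → ∃! x, x ∈ X ∧ IsConj g x) :
    Nat.card B = ∑ x ∈ X, ∑ᶠ b ∈ {b : Set (Cfsg.IrrCharacter ↥(Subgroup.centralizer ({x} : Set G))) | Cfsg.IsInducedBlock M (Subgroup.centralizer ({x} : Set G)) b B},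
      Cfsg.blockRank p b := by
  classical
  haveI : Fact p.Prime := ⟨hM.1⟩
  have hp : p.Prime := hM.1
  haveI := Fintype.ofFinite G
  haveI : Fintype (IrrCharacter G) := Fintype.ofFinite _
  have hG : (Nat.card G : ℂ) ≠ 0 := by exact_mod_cast Nat.card_pos.ne'
  apply Nat.cast_injective (R := ℂ)
  rw [Nat.cast_sum]
  obtain ⟨F, hF⟩ : ∃ F : G → ℂ, F = fun g =>
    ∑ χ ∈ Finset.univ.filter (fun χ : IrrCharacter G => χ ∈ B),
      (χ : G → ℂ) g * conj ((χ : G → ℂ) g) := ⟨_, rfl⟩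
  have hFcf : ∀ g k : G, F (k * g * k⁻¹) = F g := by
    intro g k
    rw [hF]
    refine Finset.sum_congr rfl (fun χ _ => ?_)
    rw [char_isClassFunction (irr_isCharacter χ.2) g k]
  have htot : ∑ g : G, F g = (Nat.card G : ℂ) * (Nat.card B : ℂ) := by
    rw [hF, Finset.sum_comm]
    have hself : ∀ χ : IrrCharacter G,
        ∑ g : G, (χ : G → ℂ) g * conj ((χ : G → ℂ) g) = Nat.card G := by
      intro χ
      have h := irr_classInner_self χ.2
      unfold classInner at h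
      have h' := congrArg (fun z => (Nat.card G : ℂ) * z) h
      simp only [mul_one] at h'
      rw [← mul_assoc, mul_inv_cancel₀ hG, one_mul] at h'
      exact h'
    rw [Finset.sum_congr rfl (fun χ _ => hself χ), Finset.sum_const, nsmul_eq_mul, mul_comm]
    congr 1
    rw [Nat.card_eq_fintype_card, Fintype.card_subtype]
  have hsec : ∑ g : G, F g = ∑ x ∈ X,
      ∑ g ∈ Finset.univ.filter (fun g : G => ∃ z, IsPPart p g z ∧ IsConj z x), F g := by
    symm
    rw [Finset.sum_congr rfl (fun x _ => Finset.sum_filter _ _), Finset.sum_comm]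
    refine Finset.sum_congr rfl (fun g _ => ?_)
    obtain ⟨z, hz⟩ := exists_isPPart p g
    have hzk : ∃ k : ℕ, orderOf z = p ^ k := by
      obtain ⟨y, _, _, hzk, _⟩ := hz
      exact hzk
    obtain ⟨x₀, ⟨hx₀X, hx₀c⟩, hx₀u⟩ := hXrep z hzk
    rw [Finset.sum_eq_single x₀]
    · rw [if_pos ⟨z, hz, hx₀c⟩]
    · intro x' hx'X hne
      rw [if_neg]
      rintro ⟨z', hz', hc'⟩
      rw [← isPPart_unique hp hz hz'] at hc'
      exact hne (hx₀u x' ⟨hx'X, hc'⟩)
    · intro h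
      exact absurd hx₀X h
  have hx_id : ∀ x ∈ X,
      ∑ g ∈ Finset.univ.filter (fun g : G => ∃ z, IsPPart p g z ∧ IsConj z x), F g =
      (Nat.card G : ℂ) * ((∑ᶠ b ∈ {b : Set (IrrCharacter (Subgroup.centralizer ({x} : Set G))) |
        IsInducedBlock M (Subgroup.centralizer ({x} : Set G)) b B}, blockRank p b : ℕ) : ℂ) := by
    intro x hxX
    haveI : Fintype (Subgroup.centralizer ({x} : Set G)) := Fintype.ofFinite _
    haveI : Fintype (IrrCharacter (Subgroup.centralizer ({x} : Set G))) := Fintype.ofFinite _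
    have hH0 : (Nat.card (Subgroup.centralizer ({x} : Set G)) : ℂ) ≠ 0 := by
      exact_mod_cast Nat.card_pos.ne'
    have e1 := section_sum hp x (hX x hxX) _ rfl F hFcf
    have e2 := per_section p M hM x (hX x hxX) _ rfl B hB
    have e3 : ∑ s ∈ Finset.univ.filter
        (fun s : Subgroup.centralizer ({x} : Set G) => ¬ p ∣ orderOf s), F (x * (s : G)) =
        (Nat.card (Subgroup.centralizer ({x} : Set G)) : ℂ) *
        ((∑ᶠ b ∈ {b : Set (IrrCharacter (Subgroup.centralizer ({x} : Set G))) |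
        IsInducedBlock M (Subgroup.centralizer ({x} : Set G)) b B}, blockRank p b : ℕ) : ℂ) := by
      rw [hF]
      exact e2
    rw [e3] at e1
    apply mul_left_cancel₀ hH0
    rw [e1]
    ring
  rw [hsec, Finset.sum_congr rfl hx_id, ← Finset.mul_sum] at htot
  exact (mul_left_cancel₀ hG htot).symm

end Cfsg.Agent.S4511
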