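import Mathlib
import Cfsg.Agent.S4494
import Cfsg.Agent.S0914
import Cfsg.Agent.S0907
import Cfsg.Agent.S4511
import Cfsg.Agent.Lib_helper24_FirstMain2
import Cfsg.Agent.Lib_helper24_CharCentral
import Cfsg.Agent.Lib_helper24_PrincipalLocal
import Cfsg.Agent.Lib_helper24_DefectOrder
import Cfsg.Agent.Lib_helper12_CharOps
import Cfsg.Agent.Lib_helper23_Central
import Cfsg.Agent.Lib_helper1_BlockRank

/-!
2-blocks with a defect group of order 2 (helper1).
-/

set_option autoImplicit false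
set_option linter.unusedVariables false
set_option linter.unusedSectionVars false
set_option linter.style.longLine false
set_option linter.style.haveILetI false

namespace Cfsg.Agent.helper1

open Cfsg Cfsg.Agent.helper24
open scoped ComplexConjugate

universe u

section DefectOne

/-- a `2`-block with a defect group of order `2` has exactly two characters -/
theorem card_block_defect_two {K : Type u} [Group K] [Finite K] (M : Ideal AlgInt)
    (hM : IsPModular 2 M) (b : Set (IrrCharacter K)) (hb : IsPBlock M b) (D : Subgroup K)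
    (hD : IsDefectGroup 2 M b D) (hcard : Nat.card D = 2) : Nat.card b = 2 := by
  classical
  haveI : Fact (Nat.Prime 2) := ⟨Nat.prime_two⟩
  letI := Fintype.ofFinite K
  have hMp : M.IsPrime := hM.2.1.isPrime
  have hd : blockDefect 2 b = 1 := by
    have h1 := card_defectGroup 2 M hM b hb D hD
    rw [hcard] at h1
    have h2 : (2 : ℕ) ^ 1 = 2 ^ blockDefect 2 b := by rw [pow_one]; exact h1
    exact (Nat.pow_right_injective (le_refl 2) h2).symm
  have hBF := Cfsg.Agent.S4494.result 2 M hM b hb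
  rw [hd] at hBF
  have h8 : 2 ^ (2 * 1) + 4 = 8 := by norm_num
  rw [h8] at hBF
  have hle : Nat.card b ≤ 2 := by omega
  obtain ⟨χ, hχ⟩ := block_nonempty hM hb
  have hfin : b.Finite := Set.toFinite b
  have hpos : 0 < Nat.card b := by
    rw [Nat.card_coe_set_eq, Set.ncard_pos hfin]
    exact ⟨χ, hχ⟩
  by_contra hne
  have h1 : Nat.card b = 1 := by omega
  -- singleton block, hence defect zero
  have hsing : b = {χ} := by
    rw [Nat.card_coe_set_eq, Set.ncard_eq_one] at h1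
    obtain ⟨a, ha⟩ := h1
    rw [ha] at hχ ⊢
    rw [Set.mem_singleton_iff.1 hχ]
  have hbo : blockOf M (χ : K → ℂ) = {χ} := by
    rw [blockOf_eq_of_mem hb hχ, hsing]
  have h2 := (Cfsg.Agent.S0914.result 2 M hM χ).2 hbo
  have hdvd := helper23.irr_degree_dvd_card χ
  have hdpos : 0 < charDegree (χ : K → ℂ) := irr_charDegree_pos χ.2
  have hd0 : blockDefect 2 b = 0 := by
    unfold blockDefect
    rw [hsing, Set.image_singleton, csInf_singleton]
    obtain ⟨m, hm⟩ := hdvd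
    rw [hm, Nat.mul_div_cancel_left m hdpos] at h2
    have hm0 : m ≠ 0 := by
      rintro rfl
      rw [mul_zero] at hm
      exact Nat.card_pos.ne' hm
    rw [hm, Nat.factorization_mul hdpos.ne' hm0]
    simp only [Finsupp.coe_add, Pi.add_apply]
    rw [Nat.factorization_eq_zero_of_not_dvd h2]
    omega
  omega

/-- a `2`-block with two characters and a central involution in the kernel of one of them -/
theorem block_central_involution {H : Type u} [Group H] [Finite H] (M : Ideal AlgInt)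
    (hM : IsPModular 2 M) (b : Set (IrrCharacter H)) (hb : IsPBlock M b)
    (hcard : Nat.card b = 2) (x : H) (hxc : x ∈ Subgroup.center H) (hx : orderOf x = 2)
    (θ : IrrCharacter H) (hθ : θ ∈ b) (hθx : (θ : H → ℂ) x = (θ : H → ℂ) 1) :
    ∃ θ' ∈ b, θ' ≠ θ ∧ b = {θ, θ'} ∧ (θ' : H → ℂ) x = -(θ' : H → ℂ) 1 ∧
      (θ' : H → ℂ) 1 = (θ : H → ℂ) 1 ∧
      ∀ y : H, ¬ 2 ∣ orderOf y → (θ' : H → ℂ) y = (θ : H → ℂ) y := by
  classical
  haveI : Fact (Nat.Prime 2) := ⟨Nat.prime_two⟩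
  rw [Nat.card_coe_set_eq, Set.ncard_eq_two] at hcard
  obtain ⟨a, c, hac, hbac⟩ := hcard
  -- pick the other one
  obtain ⟨θ', hθ'b, hθ'ne, hbeq⟩ : ∃ θ' ∈ b, θ' ≠ θ ∧ b = {θ, θ'} := by
    rw [hbac] at hθ
    rcases hθ with h | h
    · refine ⟨c, by rw [hbac]; simp, ?_, by rw [hbac, h]⟩
      rw [h]; exact hac.symm
    · rw [Set.mem_singleton_iff] at h
      refine ⟨a, by rw [hbac]; simp, ?_, by rw [hbac, h, Set.pair_comm]⟩
      rw [h]; exact hac
  have hxx : x * x = 1 := by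
    have := pow_orderOf_eq_one x
    rw [hx, pow_two] at this
    exact this
  -- values at `x`
  have hsq : ((θ' : H → ℂ) x) ^ 2 = ((θ' : H → ℂ) 1) ^ 2 := by
    have h1 := irr_central_apply θ'.2 x hxc x
    rw [hxx] at h1
    have h0 := irr_apply_one_ne_zero θ'.2
    field_simp at h1
    linear_combination (-1 : ℂ) * h1
  obtain ⟨n, hn0, hn⟩ := irr_apply_one θ.2
  obtain ⟨n', hn'0, hn'⟩ := irr_apply_one θ'.2
  have h2sing : 2 ∣ orderOf x := by rw [hx]
  have h1reg : ¬ 2 ∣ orderOf (1 : H) := by rw [orderOf_one]; norm_num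
  have horth : ∀ y : H, ¬ 2 ∣ orderOf y →
      (θ : H → ℂ) y * conj ((θ : H → ℂ) x) + (θ' : H → ℂ) y * conj ((θ' : H → ℂ) x) = 0 := by
    intro y hy
    have h := Cfsg.Agent.S0907.result 2 M hM b hb y x hy h2sing
    rw [hbeq, finsum_mem_pair hθ'ne.symm] at h
    exact h
  have hx' : (θ' : H → ℂ) x = -(θ' : H → ℂ) 1 := by
    have h1 := horth 1 h1reg
    rw [hθx, hn, hn', Complex.conj_natCast] at h1
    have h3 : (θ' : H → ℂ) x = (n' : ℂ) ∨ (θ' : H → ℂ) x = -(n' : ℂ) := by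
      rw [hn'] at hsq
      exact sq_eq_sq_iff_eq_or_eq_neg.1 hsq
    rcases h3 with h3 | h3
    · exfalso
      rw [h3, Complex.conj_natCast] at h1
      have h4 : ((n * n + n' * n' : ℕ) : ℂ) = 0 := by push_cast; exact h1
      have h5 : n * n + n' * n' = 0 := by exact_mod_cast h4
      have : 0 < n * n := Nat.mul_pos hn0 hn0
      omega
    · rw [h3, hn']
  have hdeg : (θ' : H → ℂ) 1 = (θ : H → ℂ) 1 := by
    have h1 := horth 1 h1reg
    rw [hθx, hx', hn, hn', map_neg, Complex.conj_natCast, Complex.conj_natCast] at h1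
    have h4 : ((n * n : ℕ) : ℂ) = ((n' * n' : ℕ) : ℂ) := by
      push_cast
      linear_combination h1
    have h5 : n * n = n' * n' := by exact_mod_cast h4
    have h6 : n = n' := by
      rcases Nat.lt_trichotomy n n' with h | h | h
      · have := Nat.mul_lt_mul'' h h; omega
      · exact h
      · have := Nat.mul_lt_mul'' h h; omega
    rw [hn, hn', h6]
  refine ⟨θ', hθ'b, hθ'ne, hbeq, hx', hdeg, ?_⟩
  intro y hy
  have h1 := horth y hy
  rw [hθx, hx', hdeg, hn, map_neg, Complex.conj_natCast] at h1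
  have hn0' : (n : ℂ) ≠ 0 := by exact_mod_cast hn0.ne'
  have h2 : ((θ : H → ℂ) y - (θ' : H → ℂ) y) * (n : ℂ) = 0 := by linear_combination h1
  rcases mul_eq_zero.1 h2 with h | h
  · exact (sub_eq_zero.1 h).symm
  · exact absurd h hn0'

end DefectOne

section Main

variable {G : Type u} [Group G]

/-- uniqueness in the first main theorem, for a subgroup equal to the normalizer -/
theorem first_main_unique_H [Finite G] (p : ℕ) [Fact p.Prime] (M : Ideal AlgInt)
    (hM : IsPModular p M) (D : Subgroup G) (hD : IsPGroup p D) (H : Subgroup G)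
    (hH : H = Subgroup.normalizer (D : Set G)) (B : Set (IrrCharacter G))
    (b₁ b₂ : Set (IrrCharacter H)) (h₁ : IsDefectGroup p M b₁ (D.subgroupOf H))
    (i₁ : IsInducedBlock M H b₁ B) (i₂ : IsInducedBlock M H b₂ B) : b₁ = b₂ := by
  classical
  letI := Fintype.ofFinite G
  subst hH
  exact first_main_unique p M hM D hD B b₁ b₂ h₁ i₁ i₂

/-- `2`-blocks with a defect group of order two -/
theorem two_block_defect_one [Finite G] (M : Ideal AlgInt) (hM : IsPModular 2 M) (x : G)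
    (hx : orderOf x = 2) (B : Set (IrrCharacter G)) (hB : IsPBlock M B)
    (hBD : IsDefectGroup 2 M B (Subgroup.zpowers x)) (H : Subgroup G)
    (hH : H = Subgroup.centralizer ({x} : Set G)) (b : Set (IrrCharacter H))
    (hb : IsInducedBlock M H b B) (θ : IrrCharacter H) (hθ : θ ∈ b)
    (hθx : ∀ z : H, (z : G) = x → (θ : H → ℂ) z = (θ : H → ℂ) 1) :
    Nat.card B = 2 ∧
      (∀ χ ∈ B, ∀ ψ ∈ B, ∀ g : G, ¬ 2 ∣ orderOf g → (χ : G → ℂ) g = (ψ : G → ℂ) g) ∧
      ∃ χ₁ ∈ B, ∃ χ₂ ∈ B, χ₁ ≠ χ₂ ∧ ∃ ε₁ ε₂ : ℤ, (ε₁ = 1 ∨ ε₁ = -1) ∧ (ε₂ = 1 ∨ ε₂ = -1) ∧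
        ε₁ * ε₂ = -1 ∧ ∀ y : H, ¬ 2 ∣ orderOf y →
          (χ₁ : G → ℂ) (x * y) = (ε₁ : ℂ) * (θ : H → ℂ) y ∧
            (χ₂ : G → ℂ) (x * y) = (ε₂ : ℂ) * (θ : H → ℂ) y := by
  classical
  haveI : Fact (Nat.Prime 2) := ⟨Nat.prime_two⟩
  have hp : Nat.Prime 2 := Nat.prime_two
  have hMp : M.IsPrime := hM.2.1.isPrime
  have hMtop := hMp.ne_top
  letI := Fintype.ofFinite G
  letI : Fintype (IrrCharacter G) := Fintype.ofFinite _
  letI : Fintype H := Fintype.ofFinite _
  letI : Fintype (IrrCharacter H) := Fintype.ofFinite _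
  have hHmem : ∀ g : G, g ∈ H ↔ g * x = x * g := by
    intro g
    rw [hH, Subgroup.mem_centralizer_singleton_iff]
  have hxx : x * x = 1 := by
    have := pow_orderOf_eq_one x
    rw [hx, pow_two] at this
    exact this
  have hx2 : ∃ k : ℕ, orderOf x = 2 ^ k := ⟨1, by rw [hx, pow_one]⟩
  have hxH : x ∈ H := (hHmem x).2 rfl
  obtain ⟨xH, hxH'⟩ : ∃ xH : H, (xH : G) = x := ⟨⟨x, hxH⟩, rfl⟩
  have hxHc : xH ∈ Subgroup.center H := by
    rw [Subgroup.mem_center_iff]
    intro g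
    apply Subtype.ext
    show (g : G) * (xH : G) = (xH : G) * (g : G)
    rw [hxH']
    exact (hHmem g).1 g.2
  have hxHo : orderOf xH = 2 := by rw [← Subgroup.orderOf_coe, hxH', hx]
  have hxHxH : xH * xH = 1 := by
    apply Subtype.ext
    show (xH : G) * (xH : G) = 1
    rw [hxH', hxx]
  have hzmem : ∀ g : G, g ∈ Subgroup.zpowers x ↔ g = 1 ∨ g = x := by
    intro g
    constructor
    · rintro ⟨k, rfl⟩
      have h1 := zpow_mod_orderOf x k
      rw [hx] at h1
      push_cast at h1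
      show x ^ k = 1 ∨ x ^ k = x
      rw [← h1]
      rcases Int.emod_two_eq_zero_or_one k with h | h
      · left; rw [h]; simp
      · right; rw [h]; simp
    · rintro (rfl | rfl)
      · exact one_mem _
      · exact Subgroup.mem_zpowers g
  have hcardD : Nat.card (Subgroup.zpowers x) = 2 := by rw [Nat.card_zpowers, hx]
  have hBcard : Nat.card B = 2 := card_block_defect_two M hM B hB _ hBD hcardD
  have hPH : Subgroup.zpowers x ≤ H := by
    rw [Subgroup.zpowers_le]
    exact hxH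
  have hHN : H ≤ Subgroup.normalizer (Subgroup.zpowers x : Set G) := by
    intro g hg
    rw [Subgroup.mem_normalizer_iff]
    intro h
    have hgx := (hHmem g).1 hg
    have e1 : g * 1 * g⁻¹ = 1 := by group
    have e2 : g * x * g⁻¹ = x := by rw [hgx]; group
    rw [hzmem, hzmem]
    constructor
    · rintro (rfl | rfl)
      · left; exact e1
      · right; exact e2
    · rintro (h1 | h1)
      · left
        have e3 : h = g⁻¹ * (g * h * g⁻¹) * g := by group
        rw [e3, h1]; group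
      · right
        have e3 : h = g⁻¹ * (g * h * g⁻¹) * g := by group
        rw [e3, h1]
        have e4 : g⁻¹ * x * g = g⁻¹ * (x * g) := by group
        rw [e4, ← hgx]; group
  have hNH : Subgroup.normalizer (Subgroup.zpowers x : Set G) ≤ H := by
    intro g hg
    rw [hHmem]
    have h1 := (Subgroup.mem_normalizer_iff.1 hg x).1 (Subgroup.mem_zpowers x)
    rw [hzmem] at h1
    rcases h1 with h1 | h1
    · exfalso
      have e3 : x = g⁻¹ * (g * x * g⁻¹) * g := by group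
      have e4 : x = 1 := by rw [e3, h1]; group
      rw [e4, orderOf_one] at hx
      omega
    · calc g * x = (g * x * g⁻¹) * g := by group
        _ = x * g := by rw [h1]
  have hHeq : H = Subgroup.normalizer (Subgroup.zpowers x : Set G) := le_antisymm hHN hNH
  have hDp : IsPGroup 2 (Subgroup.zpowers x) := defectGroup_isPGroup 2 M B _ hBD
  obtain ⟨Db, hDb⟩ := exists_defectGroup 2 M hM b hb.1
  have hDbmap := defectGroup_of_induced_local 2 M hM hPH hHN b B hb hBD Db hDb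
  have hDbcard : Nat.card Db = 2 := by
    rw [← Subgroup.card_map_of_injective (K := Db) (Subgroup.subtype_injective H), hDbmap, hcardD]
  have hbcard : Nat.card b = 2 := card_block_defect_two M hM b hb.1 Db hDb hDbcard
  have hDbeq : Db = (Subgroup.zpowers x).subgroupOf H := by
    ext z
    rw [Subgroup.mem_subgroupOf, ← hDbmap]
    constructor
    · intro hz
      exact ⟨z, hz, rfl⟩
    · rintro ⟨z', hz', hzz⟩
      have : z' = z := Subtype.ext hzz
      rwa [← this]
  rw [hDbeq] at hDb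
  have huniq : ∀ b' : Set (IrrCharacter H), IsInducedBlock M H b' B → b' = b := by
    intro b' hb'
    exact (first_main_unique_H 2 M hM _ hDp H hHeq B b b' hDb hb hb').symm
  obtain ⟨θ', hθ'b, hθ'ne, hbeq, hθ'x, hθ'1, hθ'reg⟩ :=
    block_central_involution M hM b hb.1 hbcard xH hxHc hxHo θ hθ (hθx xH hxH')
  have hθxH : (θ : H → ℂ) xH = (θ : H → ℂ) 1 := hθx xH hxH'
  have hfilter : Finset.univ.filter (fun ψ : IrrCharacter H => ψ ∈ b) = {θ, θ'} := by
    ext ψ
    rw [hbeq]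
    simp
  -- twisted inner products
  have hinner : ∀ (ζ : IrrCharacter G) (ψ : IrrCharacter H) (ε : ℂ), (ε = 1 ∨ ε = -1) →
      (ψ : H → ℂ) xH = ε * (ψ : H → ℂ) 1 →
      classInner (fun c : H => (ζ : G → ℂ) (x * (c : G))) (ψ : H → ℂ) =
        ε * classInner (fun c : H => (ζ : G → ℂ) (c : G)) (ψ : H → ℂ) := by
    intro ζ ψ ε hε hψx
    unfold classInner
    rw [← mul_assoc, mul_comm ε, mul_assoc]
    congr 1
    rw [Finset.mul_sum]
    apply Fintype.sum_equiv (Equiv.mulLeft xH)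
    intro c
    simp only [Equiv.coe_mulLeft]
    have h1 := irr_central_apply ψ.2 xH hxHc c
    have h2 : xH * c = c * xH := (Subgroup.mem_center_iff.1 hxHc c).symm
    have h0 := irr_apply_one_ne_zero ψ.2
    have h3 : (ψ : H → ℂ) (xH * c) = ε * (ψ : H → ℂ) c := by
      rw [h2, h1, hψx]
      field_simp
    have h4 : x * ((xH * c : H) : G) = (c : G) := by
      rw [Subgroup.coe_mul, hxH', ← mul_assoc, hxx, one_mul]
    have h5 : (ζ : G → ℂ) (x * (c : G)) = (ζ : G → ℂ) ((xH * c : H) : G) := by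
      rw [Subgroup.coe_mul, hxH']
    rw [h3, ← h5, map_mul]
    rcases hε with rfl | rfl
    · simp
    · simp
  choose n₁ hn₁ using fun ζ : IrrCharacter G => helper12.classInner_char_nat
    (helper12.isCharacter_restrict H (irr_isCharacter ζ.2)) (irr_isCharacter θ.2)
  choose n₂ hn₂ using fun ζ : IrrCharacter G => helper12.classInner_char_nat
    (helper12.isCharacter_restrict H (irr_isCharacter ζ.2)) (irr_isCharacter θ'.2)
  obtain ⟨d, hd⟩ : ∃ d : IrrCharacter G → ℤ, d = fun ζ => (n₁ ζ : ℤ) - (n₂ ζ : ℤ) := ⟨_, rfl⟩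
  obtain ⟨a, ha⟩ : ∃ a : IrrCharacter G → H → ℂ, ∀ ζ t, a ζ t =
      ∑ ψ ∈ Finset.univ.filter (fun ψ : IrrCharacter H => ψ ∈ b),
        classInner (fun c : H => (ζ : G → ℂ) (x * (c : G))) (ψ : H → ℂ) * (ψ : H → ℂ) t :=
    ⟨_, fun ζ t => rfl⟩
  have ha_reg : ∀ (ζ : IrrCharacter G) (t : H), ¬ 2 ∣ orderOf t →
      a ζ t = (d ζ : ℂ) * (θ : H → ℂ) t := by
    intro ζ t ht
    rw [ha, hfilter, Finset.sum_pair hθ'ne.symm,
      hinner ζ θ 1 (Or.inl rfl) (by rw [hθxH, one_mul]),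
      hinner ζ θ' (-1) (Or.inr rfl) (by rw [hθ'x]; ring), hn₁, hn₂, hθ'reg t ht, hd]
    push_cast
    ring
  have h1reg : ¬ 2 ∣ orderOf (1 : H) := by rw [orderOf_one]; norm_num
  -- the second main theorem on the section of `x`
  have hsec : ∀ χ ∈ B, ∀ y : H, ¬ 2 ∣ orderOf y → (χ : G → ℂ) (x * (y : G)) = a χ y := by
    intro χ hχ y hy
    have hcf : IsClassFunction H (fun c : H => (χ : G → ℂ) (x * (c : G))) :=
      shift_isClassFunction x H hH (char_isClassFunction (irr_isCharacter χ.2))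
    have h1 := congrFun (classFunction_expansion hcf) y
    rw [Finset.sum_apply] at h1
    simp only [Pi.smul_apply, smul_eq_mul] at h1
    rw [← Finset.sum_filter_add_sum_filter_not Finset.univ
      (fun ψ : IrrCharacter H => ψ ∈ b)] at h1
    rw [h1, ha]
    have h2 : ∑ ψ ∈ Finset.univ.filter (fun ψ : IrrCharacter H => ¬ ψ ∈ b),
        classInner (fun c : H => (χ : G → ℂ) (x * (c : G))) (ψ : H → ℂ) * (ψ : H → ℂ) y = 0 := by
      apply Cfsg.Agent.S4511.union_part_zero M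
      · intro ψ hψ ψ' hsame
        rw [Finset.mem_filter] at hψ ⊢
        refine ⟨Finset.mem_univ _, ?_⟩
        intro hψ'
        apply hψ.2
        have h3 := blockOf_eq_of_mem hb.1 hψ'
        rw [← h3]
        exact sameBlock_symm hsame
      · intro ψ hψ
        rw [Finset.mem_filter] at hψ
        apply Cfsg.Agent.S4683.second_main_H 2 M hM x hx2 H hH B hB χ hχ _ ⟨ψ, rfl⟩ _ y hy
        intro hind
        apply hψ.2
        rw [← huniq _ hind]
        exact sameBlock_refl M hMtop _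
    rw [h2, add_zero]
  -- the characters of `B`
  have hBcard' := hBcard
  rw [Nat.card_coe_set_eq, Set.ncard_eq_two] at hBcard'
  obtain ⟨χ₁, χ₂, hχne, hBeq⟩ := hBcard'
  have hχ₁ : χ₁ ∈ B := by rw [hBeq]; simp
  have hχ₂ : χ₂ ∈ B := by rw [hBeq]; simp
  -- the core identity
  have hcore := Cfsg.Agent.S4683.core_identity 2 M hM x hx2 H hH b hb.1 a ha 1 1 h1reg h1reg
  have hzero : ∀ ζ : IrrCharacter G, ζ ∉ B → a ζ 1 = 0 := by
    intro ζ hζ
    rw [ha, ← Cfsg.Agent.S4683.blockPart_eq_sum]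
    apply Cfsg.Agent.S4683.second_main_H 2 M hM x hx2 H hH (blockOf M (ζ : G → ℂ)) ⟨ζ, rfl⟩ ζ
      (sameBlock_refl M hMtop _) b hb.1 _ 1 h1reg
    intro hind
    apply hζ
    rw [induced_block_unique H hb hind]
    exact sameBlock_refl M hMtop _
  obtain ⟨m, hm0, hm⟩ := irr_apply_one θ.2
  have hm0' : (m : ℂ) ≠ 0 := by exact_mod_cast hm0.ne'
  have hsum : ((d χ₁ ^ 2 + d χ₂ ^ 2 : ℤ) : ℂ) = 2 := by
    rw [← Finset.sum_subset (Finset.subset_univ {χ₁, χ₂}) (fun ζ _ hζ => by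
      rw [hzero ζ (by
        intro h
        apply hζ
        rw [hBeq] at h
        simpa using h), zero_mul]), Finset.sum_pair hχne, ha_reg χ₁ 1 h1reg, ha_reg χ₂ 1 h1reg,
      hfilter, Finset.sum_pair hθ'ne.symm, hθ'1, hm] at hcore
    simp only [map_mul, map_intCast, map_natCast] at hcore
    have h3 : ((d χ₁ : ℂ) ^ 2 + (d χ₂ : ℂ) ^ 2 - 2) * ((m : ℂ) * (m : ℂ)) = 0 := by
      linear_combination hcore
    rcases mul_eq_zero.1 h3 with h | h
    · push_cast
      linear_combination h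
    · exact absurd h (mul_ne_zero hm0' hm0')
  have hsumZ : d χ₁ ^ 2 + d χ₂ ^ 2 = 2 := by exact_mod_cast hsum
  have hd1 : d χ₁ = 1 ∨ d χ₁ = -1 := by
    have h1 : -1 ≤ d χ₁ ∧ d χ₁ ≤ 1 := by
      constructor <;> nlinarith [sq_nonneg (d χ₂), sq_nonneg (d χ₁)]
    obtain ⟨h1a, h1b⟩ := h1
    have h2 : d χ₁ ≠ 0 := by
      intro h0
      rw [h0] at hsumZ
      have h3 : -1 ≤ d χ₂ ∧ d χ₂ ≤ 1 := by
        constructor <;> nlinarith [sq_nonneg (d χ₂)]
      obtain ⟨h3a, h3b⟩ := h3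
      interval_cases (d χ₂) <;> omega
    omega
  have hd2 : d χ₂ = 1 ∨ d χ₂ = -1 := by
    have h1 : -1 ≤ d χ₂ ∧ d χ₂ ≤ 1 := by
      constructor <;> nlinarith [sq_nonneg (d χ₂), sq_nonneg (d χ₁)]
    obtain ⟨h1a, h1b⟩ := h1
    have h2 : d χ₂ ≠ 0 := by
      intro h0
      rw [h0] at hsumZ
      have h3 : -1 ≤ d χ₁ ∧ d χ₁ ≤ 1 := by
        constructor <;> nlinarith [sq_nonneg (d χ₁)]
      obtain ⟨h3a, h3b⟩ := h3
      interval_cases (d χ₁) <;> omega
    omega
  -- values at `x`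
  have hvalx : ∀ χ ∈ B, (χ : G → ℂ) x = (d χ : ℂ) * (m : ℂ) := by
    intro χ hχ
    have h1 := hsec χ hχ 1 h1reg
    rw [Subgroup.coe_one, mul_one, ha_reg χ 1 h1reg, hm] at h1
    exact h1
  -- weak block orthogonality
  have h2sing : 2 ∣ orderOf x := by rw [hx]
  have horth : ∀ g : G, ¬ 2 ∣ orderOf g →
      (χ₁ : G → ℂ) g * (d χ₁ : ℂ) + (χ₂ : G → ℂ) g * (d χ₂ : ℂ) = 0 := by
    intro g hg
    have h := Cfsg.Agent.S0907.result 2 M hM B hB g x hg h2sing
    rw [hBeq, finsum_mem_pair hχne, hvalx χ₁ hχ₁, hvalx χ₂ hχ₂] at h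
    simp only [map_mul, map_intCast, map_natCast] at h
    have h3 : ((χ₁ : G → ℂ) g * (d χ₁ : ℂ) + (χ₂ : G → ℂ) g * (d χ₂ : ℂ)) * (m : ℂ) = 0 := by
      linear_combination h
    rcases mul_eq_zero.1 h3 with h | h
    · exact h
    · exact absurd h hm0'
  have h1regG : ¬ 2 ∣ orderOf (1 : G) := by rw [orderOf_one]; norm_num
  obtain ⟨k₁, hk₁0, hk₁⟩ := irr_apply_one χ₁.2
  obtain ⟨k₂, hk₂0, hk₂⟩ := irr_apply_one χ₂.2
  have hopp : d χ₂ = -d χ₁ := by
    have h := horth 1 h1regG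
    rw [hk₁, hk₂] at h
    have hZ : (k₁ : ℤ) * d χ₁ + (k₂ : ℤ) * d χ₂ = 0 := by exact_mod_cast h
    have hk₁' : (0 : ℤ) < k₁ := by exact_mod_cast hk₁0
    have hk₂' : (0 : ℤ) < k₂ := by exact_mod_cast hk₂0
    rcases hd1 with h1 | h1 <;> rcases hd2 with h2 | h2 <;> rw [h1, h2] at hZ ⊢ <;> first | rfl | (exfalso; linarith) | norm_num
  have hagree : ∀ g : G, ¬ 2 ∣ orderOf g → (χ₁ : G → ℂ) g = (χ₂ : G → ℂ) g := by
    intro g hg
    have h := horth g hg
    rw [hopp] at h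
    have hd0 : (d χ₁ : ℂ) ≠ 0 := by
      rcases hd1 with h1 | h1 <;> rw [h1] <;> norm_num
    have h3 : ((χ₁ : G → ℂ) g - (χ₂ : G → ℂ) g) * (d χ₁ : ℂ) = 0 := by
      push_cast at h
      linear_combination h
    rcases mul_eq_zero.1 h3 with h | h
    · exact sub_eq_zero.1 h
    · exact absurd h hd0
  refine ⟨hBcard, ?_, χ₁, hχ₁, χ₂, hχ₂, hχne, d χ₁, d χ₂, hd1, hd2, ?_, ?_⟩
  · intro χ hχ ψ hψ g hg
    rw [hBeq] at hχ hψ
    rcases hχ with rfl | hχ <;> rcases hψ with rfl | hψ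
    · rfl
    · rw [Set.mem_singleton_iff.1 hψ]; exact hagree g hg
    · rw [Set.mem_singleton_iff.1 hχ]; exact (hagree g hg).symm
    · rw [Set.mem_singleton_iff.1 hχ, Set.mem_singleton_iff.1 hψ]
  · rw [hopp]
    rcases hd1 with h1 | h1 <;> rw [h1] <;> norm_num
  · intro y hy
    exact ⟨by rw [hsec χ₁ hχ₁ y hy, ha_reg χ₁ y hy], by rw [hsec χ₂ hχ₂ y hy, ha_reg χ₂ y hy]⟩

end Main

end Cfsg.Agent.helper1
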