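import Mathlib

set_option autoImplicit false
set_option linter.unusedVariables false
set_option linter.unusedSectionVars false
set_option linter.style.longLine false
set_option linter.style.haveILetI false

namespace Cfsg.Agent.helper1

open MonoidAlgebra

section SelfDual

variable {F : Type*} [Field F] [Fintype F]
variable {H : Type*} [CommGroup H] [Finite H]
variable {V : Type*} [AddCommGroup V] [Module F V] [FiniteDimensional F V]
variable (ρ : Representation F H V)

/-- the annihilator ideal of the module in the group algebra -/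
noncomputable def annIdeal : Ideal (MonoidAlgebra F H) := RingHom.ker ρ.asAlgebraHom

theorem mem_annIdeal (a : MonoidAlgebra F H) : a ∈ annIdeal ρ ↔ ρ.asAlgebraHom a = 0 :=
  RingHom.mem_ker

theorem asAlgebraHom_comm (a b : MonoidAlgebra F H) :
    ρ.asAlgebraHom a * ρ.asAlgebraHom b = ρ.asAlgebraHom b * ρ.asAlgebraHom a := by
  rw [← map_mul, ← map_mul, mul_comm]

/-- irreducibility: a nonzero element of the image of the group algebra is injective -/
theorem asAlgebraHom_injective_of_ne_zero
    (hirr : ∀ U : Submodule F V, (∀ h : H, ∀ u ∈ U, ρ h u ∈ U) → U = ⊥ ∨ U = ⊤)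
    (a : MonoidAlgebra F H) (ha : ρ.asAlgebraHom a ≠ 0) :
    Function.Injective (ρ.asAlgebraHom a) := by
  have hU : ∀ h : H, ∀ u ∈ LinearMap.ker (ρ.asAlgebraHom a), ρ h u ∈ LinearMap.ker (ρ.asAlgebraHom a) := by
    intro h u hu
    rw [LinearMap.mem_ker] at hu ⊢
    have := asAlgebraHom_comm ρ a (of F H h)
    rw [Representation.asAlgebraHom_of] at this
    have h2 : (ρ.asAlgebraHom a * ρ h) u = (ρ h * ρ.asAlgebraHom a) u := by rw [this]
    rw [Module.End.mul_apply, Module.End.mul_apply, hu, map_zero] at h2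
    exact h2
  rcases hirr _ hU with h | h
  · exact LinearMap.ker_eq_bot.mp h
  · exfalso
    apply ha
    exact LinearMap.ker_eq_top.mp h

theorem annIdeal_isMaximal [Nontrivial V]
    (hirr : ∀ U : Submodule F V, (∀ h : H, ∀ u ∈ U, ρ h u ∈ U) → U = ⊥ ∨ U = ⊤) :
    (annIdeal ρ).IsMaximal := by
  rw [Ideal.isMaximal_iff]
  constructor
  · rw [mem_annIdeal, map_one]
    exact one_ne_zero
  · intro J a hIJ ha haJ
    rw [mem_annIdeal] at ha
    have hinj := asAlgebraHom_injective_of_ne_zero ρ hirr a ha
    -- powers of `a` repeat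
    haveI : Finite V := Module.finite_of_finite F
    haveI : Finite (Module.End F V) := by
      apply Finite.of_injective (fun f : Module.End F V => (f : V → V))
      intro f g hfg
      exact LinearMap.ext (congrFun hfg)
    obtain ⟨k, l, hkl, heq⟩ := Finite.exists_ne_map_eq_of_infinite (fun k : ℕ => (ρ.asAlgebraHom a) ^ k)
    wlog hlt : k < l generalizing k l
    · exact this l k (Ne.symm hkl) heq.symm (lt_of_le_of_ne (not_lt.mp hlt) (Ne.symm hkl))
    obtain ⟨d, rfl⟩ := Nat.exists_eq_add_of_lt hlt
    have hpow : (ρ.asAlgebraHom a) ^ (d + 1) = 1 := by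
      have h1 : (ρ.asAlgebraHom a) ^ k * (ρ.asAlgebraHom a) ^ (d + 1) = (ρ.asAlgebraHom a) ^ k * 1 := by
        rw [mul_one, ← pow_add]
        exact heq.symm.trans (by congr 1)
      have hinjk : Function.Injective ((ρ.asAlgebraHom a) ^ k) := by
        rw [Module.End.coe_pow]
        exact hinj.iterate k
      apply LinearMap.ext
      intro v
      apply hinjk
      have := congrArg (fun f => f v) h1
      simpa [Module.End.mul_apply] using this
    have hmem : 1 - a * a ^ d ∈ annIdeal ρ := by
      rw [mem_annIdeal, map_sub, map_one, map_mul, map_pow, ← pow_succ', hpow, sub_self]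
    have : (1 : MonoidAlgebra F H) = (1 - a * a ^ d) + a * a ^ d := by ring
    rw [this]
    exact J.add_mem (hIJ hmem) (J.mul_mem_right _ haJ)

/-- evaluation of the group algebra action at a vector -/
noncomputable def evalAt (v₀ : V) : MonoidAlgebra F H →ₗ[F] V :=
  (LinearMap.applyₗ v₀).comp ρ.asAlgebraHom.toLinearMap

theorem evalAt_apply (v₀ : V) (a : MonoidAlgebra F H) : evalAt ρ v₀ a = ρ.asAlgebraHom a v₀ := rfl

/-- the induced map from the quotient field to the module -/
noncomputable def quotToModule (v₀ : V) : (MonoidAlgebra F H ⧸ annIdeal ρ) →ₗ[F] V :=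
  (((annIdeal ρ).restrictScalars F).liftQ (evalAt ρ v₀) (by
    intro a ha
    rw [LinearMap.mem_ker, evalAt_apply]
    have : ρ.asAlgebraHom a = 0 := (mem_annIdeal ρ a).1 ha
    rw [this]; rfl)).comp
    (Submodule.Quotient.restrictScalarsEquiv F (annIdeal ρ)).symm.toLinearMap

theorem quotToModule_mk (v₀ : V) (a : MonoidAlgebra F H) :
    quotToModule ρ v₀ (Ideal.Quotient.mk (annIdeal ρ) a) = ρ.asAlgebraHom a v₀ := by
  unfold quotToModule
  rw [LinearMap.comp_apply]
  have : (Submodule.Quotient.restrictScalarsEquiv F (annIdeal ρ)).symm.toLinearMap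
      (Ideal.Quotient.mk (annIdeal ρ) a) = Submodule.Quotient.mk a :=
    Submodule.Quotient.restrictScalarsEquiv_symm_mk F (annIdeal ρ) a
  rw [this, Submodule.liftQ_apply]
  rfl

theorem quotToModule_bijective
    (hirr : ∀ U : Submodule F V, (∀ h : H, ∀ u ∈ U, ρ h u ∈ U) → U = ⊥ ∨ U = ⊤)
    (v₀ : V) (hv₀ : v₀ ≠ 0) : Function.Bijective (quotToModule ρ v₀) := by
  constructor
  · rw [injective_iff_map_eq_zero]
    intro x hx
    obtain ⟨a, rfl⟩ := Ideal.Quotient.mk_surjective x
    rw [quotToModule_mk] at hx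
    rw [Ideal.Quotient.eq_zero_iff_mem, mem_annIdeal]
    by_contra hne
    have hinj := asAlgebraHom_injective_of_ne_zero ρ hirr a hne
    exact hv₀ (hinj (by rw [hx, map_zero]))
  · have hU : ∀ h : H, ∀ u ∈ LinearMap.range (quotToModule ρ v₀), ρ h u ∈ LinearMap.range (quotToModule ρ v₀) := by
      rintro h u ⟨x, rfl⟩
      obtain ⟨a, rfl⟩ := Ideal.Quotient.mk_surjective x
      refine ⟨Ideal.Quotient.mk (annIdeal ρ) (of F H h * a), ?_⟩
      rw [quotToModule_mk, quotToModule_mk, map_mul, Representation.asAlgebraHom_of, Module.End.mul_apply]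
    rcases hirr _ hU with h | h
    · exfalso
      apply hv₀
      have : v₀ ∈ LinearMap.range (quotToModule ρ v₀) :=
        ⟨Ideal.Quotient.mk (annIdeal ρ) 1, by rw [quotToModule_mk, map_one]; rfl⟩
      rw [h] at this
      exact (Submodule.mem_bot F).1 this
    · exact LinearMap.range_eq_top.mp h

theorem quotToModule_mul_of (v₀ : V) (h : H) (x : MonoidAlgebra F H ⧸ annIdeal ρ) :
    quotToModule ρ v₀ (Ideal.Quotient.mk (annIdeal ρ) (of F H h) * x) = ρ h (quotToModule ρ v₀ x) := by
  obtain ⟨a, rfl⟩ := Ideal.Quotient.mk_surjective x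
  rw [← map_mul, quotToModule_mk, quotToModule_mk, map_mul, Representation.asAlgebraHom_of,
    Module.End.mul_apply]

/-- the antipode of the group algebra -/
noncomputable def antipode : MonoidAlgebra F H →ₐ[F] MonoidAlgebra F H :=
  MonoidAlgebra.mapDomainAlgHom F F (invMonoidHom : H →* H)

theorem antipode_of (h : H) : antipode (F := F) (of F H h) = of F H h⁻¹ := by
  unfold antipode
  simp [MonoidAlgebra.of_apply]

theorem antipode_antipode (a : MonoidAlgebra F H) : antipode (antipode a) = a := by
  have h1 : (invMonoidHom : H →* H).comp (invMonoidHom : H →* H) = MonoidHom.id H := by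
    ext h; simp
  have h2 : (antipode (F := F) (H := H)).comp antipode = AlgHom.id F _ := by
    unfold antipode
    rw [← MonoidAlgebra.mapDomainAlgHom_comp, h1, MonoidAlgebra.mapDomainAlgHom_id]
  exact congrArg (fun f => f a) h2

theorem adjoint_antipode (B : LinearMap.BilinForm F V)
    (hBinv : ∀ h : H, ∀ x y : V, B (ρ h x) (ρ h y) = B x y) (a : MonoidAlgebra F H) (x y : V) :
    B (ρ.asAlgebraHom a x) y = B x (ρ.asAlgebraHom (antipode a) y) := by
  induction a using MonoidAlgebra.induction_on generalizing x y with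
  | of h =>
    rw [antipode_of, Representation.asAlgebraHom_of, Representation.asAlgebraHom_of]
    have h1 := hBinv h x (ρ h⁻¹ y)
    have h2 : ρ h (ρ h⁻¹ y) = y := by
      rw [← Module.End.mul_apply, ← map_mul, mul_inv_cancel, map_one]; rfl
    rw [h2] at h1
    exact h1
  | add f g hf hg =>
    rw [map_add, map_add, LinearMap.add_apply, map_add, LinearMap.add_apply, hf, hg,
      map_add, LinearMap.add_apply, map_add]
  | smul r f hf =>
    rw [map_smul, map_smul, LinearMap.smul_apply, map_smul, LinearMap.smul_apply, hf,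
      map_smul, LinearMap.smul_apply, map_smul]

theorem antipode_mem_annIdeal (B : LinearMap.BilinForm F V) (hB : B.Nondegenerate)
    (hBinv : ∀ h : H, ∀ x y : V, B (ρ h x) (ρ h y) = B x y) (a : MonoidAlgebra F H)
    (ha : a ∈ annIdeal ρ) : antipode a ∈ annIdeal ρ := by
  rw [mem_annIdeal] at ha ⊢
  apply LinearMap.ext
  intro x
  apply hB.1
  intro y
  rw [adjoint_antipode ρ B hBinv, antipode_antipode, ha]
  simp

/-- the induced involution on the quotient -/
noncomputable def starQuot (B : LinearMap.BilinForm F V) (hB : B.Nondegenerate)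
    (hBinv : ∀ h : H, ∀ x y : V, B (ρ h x) (ρ h y) = B x y) :
    (MonoidAlgebra F H ⧸ annIdeal ρ) →ₐ[F] (MonoidAlgebra F H ⧸ annIdeal ρ) :=
  Ideal.Quotient.liftₐ (annIdeal ρ) ((Ideal.Quotient.mkₐ F (annIdeal ρ)).comp antipode) (by
    intro a ha
    rw [AlgHom.comp_apply, Ideal.Quotient.mkₐ_eq_mk, Ideal.Quotient.eq_zero_iff_mem]
    exact antipode_mem_annIdeal ρ B hB hBinv a ha)

theorem starQuot_mk (B : LinearMap.BilinForm F V) (hB : B.Nondegenerate)
    (hBinv : ∀ h : H, ∀ x y : V, B (ρ h x) (ρ h y) = B x y) (a : MonoidAlgebra F H) :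
    starQuot ρ B hB hBinv (Ideal.Quotient.mk (annIdeal ρ) a) =
      Ideal.Quotient.mk (annIdeal ρ) (antipode a) := by
  unfold starQuot
  rw [← Ideal.Quotient.mkₐ_eq_mk F, Ideal.Quotient.liftₐ_apply]
  rfl

theorem mk_of_injective (hfaith : Function.Injective ρ) (h h' : H)
    (heq : Ideal.Quotient.mk (annIdeal ρ) (of F H h) = Ideal.Quotient.mk (annIdeal ρ) (of F H h')) :
    h = h' := by
  rw [Ideal.Quotient.eq, mem_annIdeal, map_sub, Representation.asAlgebraHom_of,
    Representation.asAlgebraHom_of, sub_eq_zero] at heq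
  exact hfaith heq

/-- the quotient field -/
abbrev QuotF : Type _ := MonoidAlgebra F H ⧸ annIdeal ρ

theorem selfdual_forward (hfaith : Function.Injective ρ)
    (hirr : ∀ U : Submodule F V, (∀ h : H, ∀ u ∈ U, ρ h u ∈ U) → U = ⊥ ∨ U = ⊤)
    (hn : 2 ≤ Module.finrank F V)
    (B : LinearMap.BilinForm F V) (hB : B.Nondegenerate)
    (hBinv : ∀ h : H, ∀ x y : V, B (ρ h x) (ρ h y) = B x y) :
    Even (Module.finrank F V) ∧ Nat.card H ∣ Fintype.card F ^ (Module.finrank F V / 2) + 1 := by
  classical
  haveI : Nontrivial V := Module.nontrivial_of_finrank_pos (R := F) (by omega)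
  haveI hmax := annIdeal_isMaximal ρ hirr
  letI : Field (MonoidAlgebra F H ⧸ annIdeal ρ) := Ideal.Quotient.field (annIdeal ρ)
  obtain ⟨v₀, hv₀⟩ := exists_ne (0 : V)
  let e : (MonoidAlgebra F H ⧸ annIdeal ρ) ≃ₗ[F] V :=
    LinearEquiv.ofBijective (quotToModule ρ v₀) (quotToModule_bijective ρ hirr v₀ hv₀)
  haveI : Finite V := Module.finite_of_finite F
  haveI : Finite (MonoidAlgebra F H ⧸ annIdeal ρ) := Finite.of_equiv V e.symm.toEquiv
  have hrank : Module.finrank F (MonoidAlgebra F H ⧸ annIdeal ρ) = Module.finrank F V := e.finrank_eq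
  set n' := Module.finrank F (QuotF ρ) with hn'
  set q := Fintype.card F with hq
  obtain ⟨j, hj⟩ := (FiniteField.bijective_frobeniusAlgHom_pow F (QuotF ρ)).2 (starQuot ρ B hB hBinv)
  have hjlt : j.1 < n' := j.2
  have hord : orderOf (FiniteField.frobeniusAlgHom F (QuotF ρ)) = n' := FiniteField.orderOf_frobeniusAlgHom F (QuotF ρ)
  have hstar2 : (starQuot ρ B hB hBinv) * (starQuot ρ B hB hBinv) = 1 := by
    apply AlgHom.ext
    intro x
    obtain ⟨a, rfl⟩ := Ideal.Quotient.mk_surjective x
    rw [AlgHom.mul_apply, starQuot_mk, starQuot_mk, antipode_antipode]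
    rfl
  have hdvd : n' ∣ 2 * j.1 := by
    rw [← hord]
    apply orderOf_dvd_of_pow_eq_one
    rw [two_mul, pow_add]
    simp only at hj
    rw [hj, hstar2]
  have hstar_apply : ∀ x : QuotF ρ, starQuot ρ B hB hBinv x = x ^ (q ^ j.1) := by
    intro x
    simp only at hj
    rw [← hj, AlgHom.coe_pow, FiniteField.coe_frobeniusAlgHom, pow_iterate]
  have hcases : j.1 = 0 ∨ 2 * j.1 = n' := by
    obtain ⟨c, hc⟩ := hdvd
    have hc2 : c < 2 := by
      by_contra hge
      push Not at hge
      have : n' * 2 ≤ n' * c := Nat.mul_le_mul_left n' hge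
      omega
    interval_cases c
    · left; omega
    · right; omega
  rcases hcases with h0 | h2
  · -- the involution is trivial: contradiction with `2 ≤ n`
    exfalso
    have hinv : ∀ h : H, h⁻¹ = h := by
      intro h
      apply mk_of_injective ρ hfaith
      have := hstar_apply (Ideal.Quotient.mk (annIdeal ρ) (of F H h))
      rw [h0, pow_zero, pow_one, starQuot_mk, antipode_of] at this
      exact this
    have hscal : ∀ h : H, ρ h = 1 ∨ ρ h = -1 := by
      intro h
      have hsq : (Ideal.Quotient.mk (annIdeal ρ) (of F H h) : QuotF ρ) * Ideal.Quotient.mk (annIdeal ρ) (of F H h) = 1 := by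
        rw [← map_mul, ← map_mul]
        have hhh : h * h = 1 := by
          nth_rewrite 1 [← hinv h]
          exact inv_mul_cancel h
        rw [hhh, map_one, map_one]
      rcases mul_self_eq_one_iff.mp hsq with h1 | h1
      · left
        have : (Ideal.Quotient.mk (annIdeal ρ) (of F H h - 1) : QuotF ρ) = 0 := by
          rw [map_sub, h1, map_one, sub_self]
        rw [Ideal.Quotient.eq_zero_iff_mem, mem_annIdeal, map_sub, map_one,
          Representation.asAlgebraHom_of, sub_eq_zero] at this
        exact this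
      · right
        have : (Ideal.Quotient.mk (annIdeal ρ) (of F H h + 1) : QuotF ρ) = 0 := by
          rw [map_add, h1, map_one, neg_add_cancel]
        rw [Ideal.Quotient.eq_zero_iff_mem, mem_annIdeal, map_add, map_one,
          Representation.asAlgebraHom_of] at this
        exact eq_neg_of_add_eq_zero_left this
    have hU : ∀ h : H, ∀ u ∈ Submodule.span F {v₀}, ρ h u ∈ Submodule.span F {v₀} := by
      intro h u hu
      rcases hscal h with h1 | h1
      · rw [h1]; exact hu
      · rw [h1]
        show -u ∈ _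
        exact Submodule.neg_mem _ hu
    rcases hirr _ hU with h | h
    · exact hv₀ ((Submodule.span_singleton_eq_bot).1 h)
    · have : Module.finrank F V = 1 := by
        rw [← finrank_top F V, ← h]
        exact finrank_span_singleton hv₀
      omega
  · -- the main case
    have hnn : Module.finrank F V = 2 * j.1 := by omega
    refine ⟨⟨j.1, by rw [hnn]; ring⟩, ?_⟩
    have hhalf : Module.finrank F V / 2 = j.1 := by rw [hnn]; omega
    rw [hhalf]
    have hpow : ∀ h : H, h ^ (q ^ j.1 + 1) = 1 := by
      intro h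
      apply mk_of_injective ρ hfaith
      have := hstar_apply (Ideal.Quotient.mk (annIdeal ρ) (of F H h))
      rw [starQuot_mk, antipode_of] at this
      rw [map_pow, map_pow, pow_succ, ← this, ← map_mul, ← map_mul, inv_mul_cancel]
    -- `H` is cyclic
    let f : H →* QuotF ρ := ((Ideal.Quotient.mk (annIdeal ρ)).toMonoidHom).comp (of F H)
    have hf : Function.Injective f := fun h h' hh' => mk_of_injective ρ hfaith h h' hh'
    haveI : IsCyclic H := isCyclic_of_injective_ringHom f hf
    rw [← IsCyclic.exponent_eq_card]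
    exact Monoid.exponent_dvd_of_forall_pow_eq_one hpow

theorem selfdual_backward (hfaith : Function.Injective ρ)
    (hirr : ∀ U : Submodule F V, (∀ h : H, ∀ u ∈ U, ρ h u ∈ U) → U = ⊥ ∨ U = ⊤)
    (hn : 2 ≤ Module.finrank F V) (heven : Even (Module.finrank F V))
    (hdvd : Nat.card H ∣ Fintype.card F ^ (Module.finrank F V / 2) + 1) :
    ∃ B : LinearMap.BilinForm F V, B.Nondegenerate ∧
      ∀ h : H, ∀ x y : V, B (ρ h x) (ρ h y) = B x y := by
  classical
  haveI : Nontrivial V := Module.nontrivial_of_finrank_pos (R := F) (by omega)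
  haveI hmax := annIdeal_isMaximal ρ hirr
  letI : Field (QuotF ρ) := Ideal.Quotient.field (annIdeal ρ)
  obtain ⟨v₀, hv₀⟩ := exists_ne (0 : V)
  let e : (QuotF ρ) ≃ₗ[F] V :=
    LinearEquiv.ofBijective (quotToModule ρ v₀) (quotToModule_bijective ρ hirr v₀ hv₀)
  haveI : Finite V := Module.finite_of_finite F
  haveI : Finite (QuotF ρ) := Finite.of_equiv V e.symm.toEquiv
  letI : Fintype (QuotF ρ) := Fintype.ofFinite _
  have hrank : Module.finrank F (QuotF ρ) = Module.finrank F V := e.finrank_eq
  set q := Fintype.card F with hq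
  set m := Module.finrank F V / 2 with hm
  have hnm : Module.finrank F V = 2 * m := by
    obtain ⟨k, hk⟩ := heven
    omega
  have hcardL : Fintype.card (QuotF ρ) = q ^ (2 * m) := by
    rw [Module.card_eq_pow_finrank (K := F) (V := QuotF ρ), hrank, hnm]
  -- the twisting automorphism
  let τ : (QuotF ρ) →ₐ[F] (QuotF ρ) := (FiniteField.frobeniusAlgHom F (QuotF ρ)) ^ m
  have hτ : ∀ x : QuotF ρ, τ x = x ^ (q ^ m) := by
    intro x
    show ((FiniteField.frobeniusAlgHom F (QuotF ρ)) ^ m) x = _
    rw [AlgHom.coe_pow, FiniteField.coe_frobeniusAlgHom, pow_iterate]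
  have hττ : ∀ x : QuotF ρ, τ (τ x) = x := by
    intro x
    rw [hτ, hτ, ← pow_mul, ← pow_add, ← two_mul, ← hcardL, FiniteField.pow_card]
  have hu : ∀ h : H, (Ideal.Quotient.mk (annIdeal ρ) (of F H h) : QuotF ρ) *
      τ (Ideal.Quotient.mk (annIdeal ρ) (of F H h)) = 1 := by
    intro h
    rw [hτ, ← pow_succ', ← map_pow, ← map_pow]
    have : h ^ (q ^ m + 1) = 1 := by
      apply orderOf_dvd_iff_pow_eq_one.mp
      exact dvd_trans (orderOf_dvd_natCard h) hdvd
    rw [this, map_one, map_one]
  -- a functional not vanishing at `1`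
  obtain ⟨ℓ, hℓ⟩ : ∃ ℓ : Module.Dual F (QuotF ρ), ℓ 1 ≠ 0 := by
    by_contra hcon
    push Not at hcon
    exact one_ne_zero ((Module.forall_dual_apply_eq_zero_iff F (1 : QuotF ρ)).1 hcon)
  have hequiv : ∀ (h : H) (x : V), e.symm (ρ h x) =
      (Ideal.Quotient.mk (annIdeal ρ) (of F H h) : QuotF ρ) * e.symm x := by
    intro h x
    apply e.injective
    rw [LinearEquiv.apply_symm_apply]
    show _ = quotToModule ρ v₀ _
    rw [quotToModule_mul_of]
    congr 1
    exact (e.apply_symm_apply x).symm
  let B : LinearMap.BilinForm F V := LinearMap.mk₂ F (fun x y => ℓ (e.symm x * τ (e.symm y)))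
    (by intro x x' y; rw [map_add, add_mul, map_add])
    (by intro c x y; rw [map_smul, smul_mul_assoc, map_smul])
    (by intro x y y'; rw [map_add, map_add, mul_add, map_add])
    (by intro c x y; rw [map_smul, map_smul, mul_smul_comm, map_smul])
  have hBapp : ∀ x y : V, B x y = ℓ (e.symm x * τ (e.symm y)) := fun x y => rfl
  refine ⟨B, ?_, ?_⟩
  · apply LinearMap.BilinForm.Nondegenerate.ofSeparatingLeft
    intro x hx
    by_contra hx0
    have ha : e.symm x ≠ 0 := fun h => hx0 (by simpa using h)
    have := hx (e (τ ((e.symm x)⁻¹)))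
    rw [hBapp, LinearEquiv.symm_apply_apply, hττ, mul_inv_cancel₀ ha] at this
    exact hℓ this
  · intro h x y
    rw [hBapp, hBapp, hequiv, hequiv, map_mul τ]
    congr 1
    have := hu h
    calc (Ideal.Quotient.mk (annIdeal ρ) (of F H h) : QuotF ρ) * e.symm x *
          (τ (Ideal.Quotient.mk (annIdeal ρ) (of F H h)) * τ (e.symm y))
        = ((Ideal.Quotient.mk (annIdeal ρ) (of F H h) : QuotF ρ) *
            τ (Ideal.Quotient.mk (annIdeal ρ) (of F H h))) * (e.symm x * τ (e.symm y)) := by ring
      _ = e.symm x * τ (e.symm y) := by rw [this, one_mul]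

/-- the one-dimensional case -/
theorem selfdual_dim_one (hfaith : Function.Injective ρ) (h1 : Module.finrank F V = 1)
    (B : LinearMap.BilinForm F V) (hB : B.Nondegenerate)
    (hBinv : ∀ h : H, ∀ x y : V, B (ρ h x) (ρ h y) = B x y) : Nat.card H ≤ 2 := by
  classical
  obtain ⟨v, hv⟩ := finrank_eq_one_iff'.mp h1
  obtain ⟨hv0, hvspan⟩ := hv
  choose c hc using fun h : H => hvspan (ρ h v)
  have hBvv : B v v ≠ 0 := by
    intro h0
    apply hv0
    apply hB.1
    intro y
    obtain ⟨d, rfl⟩ := hvspan y
    rw [map_smul, h0, smul_zero]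
  have hsq : ∀ h : H, c h * c h = 1 := by
    intro h
    have : B (c h • v) (c h • v) = B v v := by rw [hc h]; exact hBinv h v v
    simp only [map_smul, LinearMap.smul_apply, smul_eq_mul] at this
    have h2 : (c h * c h) * B v v = 1 * B v v := by rw [one_mul]; linear_combination this
    exact mul_right_cancel₀ hBvv h2
  have hcinj : Function.Injective c := by
    intro h h' hh
    apply hfaith
    apply LinearMap.ext
    intro w
    obtain ⟨d, rfl⟩ := hvspan w
    rw [map_smul, map_smul, ← hc h, ← hc h', hh]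
  have hrange : ∀ h : H, c h ∈ ({1, -1} : Finset F) := by
    intro h
    rw [Finset.mem_insert, Finset.mem_singleton]
    exact mul_self_eq_one_iff.mp (hsq h)
  haveI : Fintype H := Fintype.ofFinite H
  rw [Nat.card_eq_fintype_card]
  calc Fintype.card H = (Finset.univ.image c).card := by
        rw [Finset.card_image_of_injective _ hcinj]; rfl
    _ ≤ ({1, -1} : Finset F).card := Finset.card_le_card (by
        intro z hz
        rw [Finset.mem_image] at hz
        obtain ⟨h, _, rfl⟩ := hz
        exact hrange h)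
    _ ≤ 2 := Finset.card_le_two

end SelfDual

end Cfsg.Agent.helper1
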