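import Mathlib
import Cfsg.Agent.Lib_helper1_SelfDual

set_option autoImplicit false
set_option linter.unusedVariables false
set_option linter.unusedSectionVars false
set_option linter.style.longLine false
set_option linter.style.haveILetI false

namespace Cfsg.Agent.helper1

open MonoidAlgebra

section DetCent

variable {F : Type*} [Field F] [Fintype F]
variable {H : Type*} [CommGroup H] [Finite H]
variable {V : Type*} [AddCommGroup V] [Module F V] [FiniteDimensional F V]
variable (ρ : Representation F H V)

/-- for an irreducible module of an abelian group over a finite field there are equivariant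
endomorphisms of any prescribed determinant -/
theorem exists_equivariant_det_irred [Nontrivial V]
    (hirr : ∀ U : Submodule F V, (∀ h : H, ∀ u ∈ U, ρ h u ∈ U) → U = ⊥ ∨ U = ⊤) (d : F) :
    ∃ c : V →ₗ[F] V, (∀ (h : H) (w : V), c (ρ h w) = ρ h (c w)) ∧ LinearMap.det c = d := by
  classical
  haveI hmax := annIdeal_isMaximal ρ hirr
  letI : Field (QuotF ρ) := Ideal.Quotient.field (annIdeal ρ)
  obtain ⟨v₀, hv₀⟩ := exists_ne (0 : V)
  let e : (QuotF ρ) ≃ₗ[F] V :=
    LinearEquiv.ofBijective (quotToModule ρ v₀) (quotToModule_bijective ρ hirr v₀ hv₀)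
  haveI : Finite V := Module.finite_of_finite F
  haveI : Finite (QuotF ρ) := Finite.of_equiv V e.symm.toEquiv
  obtain ⟨lam, hlam⟩ := FiniteField.norm_surjective F (QuotF ρ) d
  have hequiv : ∀ (h : H) (x : V), e.symm (ρ h x) =
      (Ideal.Quotient.mk (annIdeal ρ) (of F H h) : QuotF ρ) * e.symm x := by
    intro h x
    apply e.injective
    rw [LinearEquiv.apply_symm_apply]
    show _ = quotToModule ρ v₀ _
    rw [quotToModule_mul_of]
    congr 1
    exact (e.apply_symm_apply x).symm
  refine ⟨e.toLinearMap ∘ₗ (Algebra.lmul F (QuotF ρ) lam) ∘ₗ e.symm.toLinearMap, ?_, ?_⟩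
  · intro h w
    simp only [LinearMap.comp_apply, LinearEquiv.coe_coe, Algebra.coe_lmul_eq_mul,
      LinearMap.mul_apply']
    rw [hequiv]
    show quotToModule ρ v₀ _ = ρ h (quotToModule ρ v₀ _)
    rw [← quotToModule_mul_of]
    congr 1
    ring
  · have := LinearMap.det_conj (Algebra.lmul F (QuotF ρ) lam) e
    rw [← hlam, Algebra.norm_apply, ← this]

open Representation in
/-- Maschke + the irreducible case: equivariant endomorphisms of any prescribed determinant -/
theorem exists_equivariant_det [Nontrivial V] [NeZero (Nat.card H : F)] (d : F) :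
    ∃ c : V →ₗ[F] V, (∀ (h : H) (w : V), c (ρ h w) = ρ h (c w)) ∧ LinearMap.det c = d := by
  classical
  -- a minimal nonzero subrepresentation
  have hex : ∃ k : ℕ, ∃ W : Subrepresentation ρ, W.toSubmodule ≠ ⊥ ∧
      Module.finrank F W.toSubmodule = k :=
    ⟨_, ⊤, by
      show (⊤ : Submodule F V) ≠ ⊥
      exact top_ne_bot, rfl⟩
  obtain ⟨W, hW0, hWk⟩ := Nat.find_spec hex
  have hmin : ∀ U : Subrepresentation ρ, U.toSubmodule ≠ ⊥ →
      Module.finrank F W.toSubmodule ≤ Module.finrank F U.toSubmodule := by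
    intro U hU
    rw [hWk]
    exact Nat.find_min' hex ⟨U, hU, rfl⟩
  haveI : Nontrivial W.toSubmodule := Submodule.nontrivial_iff_ne_bot.mpr hW0
  have hirr : ∀ U : Submodule F W.toSubmodule,
      (∀ h : H, ∀ u ∈ U, W.toRepresentation h u ∈ U) → U = ⊥ ∨ U = ⊤ := by
    intro U hU
    by_cases hU0 : U = ⊥
    · left; exact hU0
    right
    let U' : Subrepresentation ρ :=
      { toSubmodule := U.map W.toSubmodule.subtype
        apply_mem_toSubmodule := by
          rintro h v ⟨u, hu, rfl⟩
          exact ⟨W.toRepresentation h u, hU h u hu, rfl⟩ }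
    have hU'0 : U'.toSubmodule ≠ ⊥ := by
      show U.map W.toSubmodule.subtype ≠ ⊥
      intro hbot
      apply hU0
      rw [eq_bot_iff]
      intro u hu
      have : (W.toSubmodule.subtype u) ∈ U.map W.toSubmodule.subtype := ⟨u, hu, rfl⟩
      rw [hbot, Submodule.mem_bot] at this
      rw [Submodule.mem_bot]
      exact Subtype.ext this
    have h1 := hmin U' hU'0
    have h2 : Module.finrank F U'.toSubmodule = Module.finrank F U :=
      (Submodule.equivMapOfInjective _ (Submodule.injective_subtype _) U).symm.finrank_eq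
    rw [h2] at h1
    exact Submodule.eq_top_of_finrank_eq (le_antisymm (Submodule.finrank_le U) h1)
  obtain ⟨cW, hcW, hdet⟩ := exists_equivariant_det_irred W.toRepresentation hirr d
  obtain ⟨W', hW'⟩ := exists_isCompl W
  have hcompl : IsCompl W.toSubmodule W'.toSubmodule := by
    constructor
    · rw [disjoint_iff]
      exact congrArg Subrepresentation.toSubmodule (disjoint_iff.mp hW'.1)
    · rw [codisjoint_iff]
      exact congrArg Subrepresentation.toSubmodule (codisjoint_iff.mp hW'.2)
  let E := Submodule.prodEquivOfIsCompl W.toSubmodule W'.toSubmodule hcompl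
  refine ⟨E.toLinearMap ∘ₗ (cW.prodMap LinearMap.id) ∘ₗ E.symm.toLinearMap, ?_, ?_⟩
  · intro h w
    obtain ⟨⟨w1, w2⟩, rfl⟩ := E.surjective w
    have hE : ρ h (E (w1, w2)) = E (W.toRepresentation h w1, W'.toRepresentation h w2) := by
      simp only [E, Submodule.coe_prodEquivOfIsCompl', map_add]
      rfl
    rw [hE]
    simp only [LinearMap.comp_apply, LinearEquiv.coe_coe, LinearEquiv.symm_apply_apply,
      LinearMap.prodMap_apply, LinearMap.id_apply]
    rw [hcW]
    simp only [E, Submodule.coe_prodEquivOfIsCompl', map_add]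
    rfl
  · have := LinearMap.det_conj (cW.prodMap (LinearMap.id : W'.toSubmodule →ₗ[F] W'.toSubmodule)) E
    rw [this, LinearMap.det_prodMap, hdet, LinearMap.det_id, mul_one]

end DetCent

section MatrixLevel

open Matrix

variable {F : Type*} [Field F] [Fintype F]

theorem sl_conj_of_semisimple {p : ℕ} [Fact p.Prime] [CharP F p] {n : ℕ}
    (x g : GL (Fin n) F) (hx : (orderOf x).Coprime p) :
    ∃ h : GL (Fin n) F, (h : Matrix (Fin n) (Fin n) F).det = 1 ∧ h * x * h⁻¹ = g * x * g⁻¹ := by
  classical
  rcases Nat.eq_zero_or_pos n with hn | hn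
  · subst hn
    refine ⟨1, by simp, ?_⟩
    have : Subsingleton (GL (Fin 0) F) := by
      constructor
      intro a b
      apply Units.ext
      exact Subsingleton.elim _ _
    exact Subsingleton.elim _ _
  haveI : Nonempty (Fin n) := ⟨⟨0, hn⟩⟩
  haveI : Nontrivial (Fin n → F) := inferInstance
  have hpp : p.Prime := Fact.out
  letI : CommGroup (Subgroup.zpowers x) := IsCyclic.commGroup
  let ρ : Representation F (Subgroup.zpowers x) (Fin n → F) :=
    { toFun := fun y => Matrix.toLin' ((y : GL (Fin n) F) : Matrix (Fin n) (Fin n) F)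
      map_one' := by
        show Matrix.toLin' (((1 : Subgroup.zpowers x) : GL (Fin n) F) : Matrix (Fin n) (Fin n) F) = 1
        rw [OneMemClass.coe_one, Units.val_one, Matrix.toLin'_one]
        rfl
      map_mul' := by
        intro a b
        show Matrix.toLin' (((a * b : Subgroup.zpowers x) : GL (Fin n) F) : Matrix (Fin n) (Fin n) F) = _
        rw [Subgroup.coe_mul, Units.val_mul, Matrix.toLin'_mul]
        rfl }
  haveI : NeZero (Nat.card (Subgroup.zpowers x) : F) := by
    constructor
    rw [Nat.card_zpowers]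
    intro h0
    have := (CharP.cast_eq_zero_iff F p (orderOf x)).1 h0
    exact (Nat.Prime.coprime_iff_not_dvd hpp).1 hx.symm this
  have hd0 : (g : Matrix (Fin n) (Fin n) F).det ≠ 0 := by
    have := (Matrix.isUnit_iff_isUnit_det _).1 (Units.isUnit g)
    exact this.ne_zero
  obtain ⟨c, hc, hdet⟩ := exists_equivariant_det ρ ((g : Matrix (Fin n) (Fin n) F).det)
  set C : Matrix (Fin n) (Fin n) F := LinearMap.toMatrix' c with hC
  have hCdet : C.det = (g : Matrix (Fin n) (Fin n) F).det := by
    rw [hC, LinearMap.det_toMatrix', hdet]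
  have hcomm : C * (x : Matrix (Fin n) (Fin n) F) = (x : Matrix (Fin n) (Fin n) F) * C := by
    have h1 : c ∘ₗ Matrix.toLin' (x : Matrix (Fin n) (Fin n) F) =
        Matrix.toLin' (x : Matrix (Fin n) (Fin n) F) ∘ₗ c := by
      apply LinearMap.ext
      intro w
      exact hc ⟨x, Subgroup.mem_zpowers x⟩ w
    have h2 := congrArg LinearMap.toMatrix' h1
    rw [LinearMap.toMatrix'_comp, LinearMap.toMatrix'_comp, LinearMap.toMatrix'_toLin'] at h2
    exact h2
  let cGL : GL (Fin n) F := Matrix.GeneralLinearGroup.mkOfDetNeZero C (by rw [hCdet]; exact hd0)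
  have hcGL : (cGL : Matrix (Fin n) (Fin n) F) = C := rfl
  have hcommGL : cGL * x = x * cGL := by
    apply Units.ext
    rw [Units.val_mul, Units.val_mul, hcGL]
    exact hcomm
  refine ⟨g * cGL⁻¹, ?_, ?_⟩
  · have h1 : Matrix.GeneralLinearGroup.det (g * cGL⁻¹) = 1 := by
      rw [map_mul, map_inv, mul_inv_eq_one]
      apply Units.ext
      rw [Matrix.GeneralLinearGroup.val_det_apply, Matrix.GeneralLinearGroup.val_det_apply, hcGL, hCdet]
    have h2 := congrArg Units.val h1
    rw [Matrix.GeneralLinearGroup.val_det_apply] at h2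
    exact h2
  · have h3 : cGL⁻¹ * x * cGL = x := by
      rw [mul_assoc, ← hcommGL, ← mul_assoc, inv_mul_cancel, one_mul]
    calc g * cGL⁻¹ * x * (g * cGL⁻¹)⁻¹ = g * (cGL⁻¹ * x * cGL) * g⁻¹ := by
          rw [_root_.mul_inv_rev, inv_inv]; group
      _ = g * x * g⁻¹ := by rw [h3]

end MatrixLevel

end Cfsg.Agent.helper1
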