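import Mathlib
import Cfsg.Agent.Lib_helper1_Knorr4
import Cfsg.Agent.Lib_helper24_BlockOrth2
import Cfsg.Agent.Lib_helper24_CharIntegral
import Cfsg.Agent.Lib_helper24_Fong6

/-!
Fong's theorem on blocks over an invariant character of a normal `p'`-subgroup (helper1), part 1.
-/

set_option autoImplicit false

namespace Cfsg.Agent.helper1

open Cfsg Cfsg.Agent.helper5 Cfsg.Agent.helper8 Cfsg.Agent.helper24
open scoped ComplexConjugate

universe u

section single

variable {H : Type u} [Group H] [Fintype H] {M : Ideal AlgInt}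

/-- blocks of a `p'`-group are singletons -/
theorem fps_block_singleton (p : ℕ) [Fact p.Prime] (hM : IsPModular p M)
    (hcop : (Nat.card H).Coprime p) (θ : IrrCharacter H) : blockOf M (θ : H → ℂ) = {θ} := by
  have hp : p.Prime := Fact.out
  apply (defect_zero_iff_singleton p M hM θ).1
  intro hdvd
  have h1 : charDegree (θ : H → ℂ) ∣ Nat.card H := irr_degree_dvd_card θ.2
  have h2 : p ∣ Nat.card H := hdvd.trans (Nat.div_dvd_of_dvd h1)
  have h3 := Nat.Coprime.symm hcop
  rw [hp.coprime_iff_not_dvd] at h3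
  exact h3 h2

end single

section vanish

variable {G : Type u} [Group G] [Fintype G] {M : Ideal AlgInt}

/-- if a defect group of `B` has its centralizer inside the normal subgroup `K`, the central
characters of `B` vanish mod `M` outside `K` -/
theorem fps_vanish (p : ℕ) [Fact p.Prime] (hM : IsPModular p M) (K : Subgroup G) [hK : K.Normal]
    (B : Set (IrrCharacter G)) (hB : IsPBlock M B) (P₀ : Subgroup G)
    (hP₀ : IsDefectGroup p M B P₀) (hcen : Subgroup.centralizer (P₀ : Set G) ≤ K)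
    (χ : IrrCharacter G) (hχ : χ ∈ B) (g : G) (hg : g ∉ K) :
    MemLocalIdeal M (centralChar (χ : G → ℂ) g) := by
  classical
  by_contra hcon
  obtain ⟨g₀, hg₀⟩ := exists_defectClass p M hM B hB
  obtain ⟨D⟩ : Nonempty (Sylow p (Subgroup.centralizer ({g₀} : Set G))) := inferInstance
  obtain ⟨x, Q', hx⟩ := minmax_b p M hM B hB g₀ hg₀ D g ⟨χ, hχ, hcon⟩
  have hD₁ : IsDefectGroup p M B ((D : Subgroup (Subgroup.centralizer ({g₀} : Set G))).map
      (Subgroup.centralizer ({g₀} : Set G)).subtype) := ⟨g₀, hg₀, D, rfl⟩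
  obtain ⟨y, hy⟩ := defectGroups_conj p hM B hB hP₀ hD₁
  apply hg
  -- `x y` conjugates `P₀` into `C_G(g)`
  have hmem : ∀ s ∈ P₀, (x * y) * s * (x * y)⁻¹ ∈ Subgroup.centralizer ({g} : Set G) := by
    intro s hs
    have h1 : y * s * y⁻¹ ∈ ((D : Subgroup (Subgroup.centralizer ({g₀} : Set G))).map
        (Subgroup.centralizer ({g₀} : Set G)).subtype) := by
      rw [← hy]
      exact ⟨s, hs, rfl⟩
    have h2 : x * (y * s * y⁻¹) * x⁻¹ ∈ ((Q' : Subgroup (Subgroup.centralizer ({g} : Set G))).map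
        (Subgroup.centralizer ({g} : Set G)).subtype) := hx ⟨_, h1, rfl⟩
    obtain ⟨u, -, hu⟩ := h2
    have h3 : (x * y) * s * (x * y)⁻¹ = x * (y * s * y⁻¹) * x⁻¹ := by group
    rw [h3, ← hu]
    exact u.2
  have hc : (x * y)⁻¹ * g * (x * y) ∈ Subgroup.centralizer (P₀ : Set G) := by
    rw [Subgroup.mem_centralizer_iff]
    intro s hs
    have h1 := Subgroup.mem_centralizer_iff.1 (hmem s hs) g (Set.mem_singleton g)
    -- h1 : g * (x y s (x y)⁻¹) = (x y s (x y)⁻¹) * g
    have h2 : s * ((x * y)⁻¹ * g * (x * y)) =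
        (x * y)⁻¹ * ((x * y) * s * (x * y)⁻¹ * g) * (x * y) := by group
    have h3 : (x * y)⁻¹ * g * (x * y) * s =
        (x * y)⁻¹ * (g * ((x * y) * s * (x * y)⁻¹)) * (x * y) := by group
    rw [h2, h3, h1]
  have h4 := hK.conj_mem _ (hcen hc) (x * y)
  have h5 : (x * y) * ((x * y)⁻¹ * g * (x * y)) * (x * y)⁻¹ = g := by group
  rwa [h5] at h4

end vanish

end Cfsg.Agent.helper1
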