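import Mathlib
import Cfsg.Agent.Lib_helper1_FongPS1

/-!
Fong's theorem on blocks over an invariant character of a normal `p'`-subgroup (helper1), part 2.
-/

set_option autoImplicit false

namespace Cfsg.Agent.helper1

open Cfsg Cfsg.Agent.helper5 Cfsg.Agent.helper8 Cfsg.Agent.helper24
open scoped ComplexConjugate

universe u

section main

variable {G : Type u} [Group G] [Fintype G] {M : Ideal AlgInt}
  (N K : Subgroup G) [hN : N.Normal] [hK : K.Normal] [Fintype N] [Fintype K]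

omit [Fintype G] [Fintype N] hK [Fintype K] hN in
theorem fps_card_mid (hNK : N ≤ K) : Nat.card K = Nat.card N * N.relIndex K := by
  have h := Subgroup.relIndex_mul_relIndex (⊥ : Subgroup G) N K bot_le hNK
  rw [Subgroup.relIndex_bot_left, Subgroup.relIndex_bot_left] at h
  exact h.symm

omit [Fintype G] hK [Fintype K] hN in
theorem fps_factorization_mid {p : ℕ} [Fact p.Prime] (hNK : N ≤ K) {k : ℕ}
    (hidx : N.relIndex K = p ^ k) (hcop : (Nat.card N).Coprime p) :
    (Nat.card K).factorization p = k := by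
  have hp : p.Prime := Fact.out
  rw [fps_card_mid N K hNK, hidx, Nat.factorization_mul Nat.card_pos.ne' (pow_ne_zero _ hp.ne_zero),
    Finsupp.add_apply, hp.factorization_pow, Finsupp.single_eq_same]
  have h3 := Nat.Coprime.symm hcop
  rw [hp.coprime_iff_not_dvd] at h3
  rw [Nat.factorization_eq_zero_of_not_dvd h3, zero_add]

/-- the blocks of `K` over the invariant `θ` have full defect -/
theorem fps_bK_defect (p : ℕ) [Fact p.Prime] (hM : IsPModular p M) (hNK : N ≤ K) {k : ℕ}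
    (hidx : N.relIndex K = p ^ k) (hcop : (Nat.card N).Coprime p) (θ : IrrCharacter N)
    (hinv : ∀ (g : G) (n : N), (θ : N → ℂ) ⟨g * n * g⁻¹, hN.conj_mem n n.2 g⟩ = (θ : N → ℂ) n)
    (ψ : IrrCharacter K)
    (hψ : classInner (resNT N K hNK (ψ : K → ℂ)) (θ : N → ℂ) ≠ 0) :
    blockDefect p (blockOf M (ψ : K → ℂ)) = (Nat.card K).factorization p := by
  classical
  have hp : p.Prime := Fact.out
  have hMp : M.IsPrime := hM.2.1.isPrime
  have hsing := fps_block_singleton p hM hcop θ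
  have hb : IsPBlock M (blockOf M (θ : N → ℂ)) := ⟨θ, rfl⟩
  have hstab : ∀ g ∈ K, ∀ θ₁ ∈ blockOf M (θ : N → ℂ), ∀ θ' : IrrCharacter N,
      (∀ n : N, (θ' : N → ℂ) n = (θ₁ : N → ℂ) ⟨g * n * g⁻¹, hN.conj_mem n n.2 g⟩) →
      θ' ∈ blockOf M (θ : N → ℂ) := by
    intro g _ θ₁ hθ₁ θ' h
    rw [hsing] at hθ₁ ⊢
    rw [Set.mem_singleton_iff] at hθ₁ ⊢
    rw [hθ₁] at h
    apply Subtype.ext
    funext n
    rw [h n, hinv g n]
  have hB' : IsPBlock M (blockOf M (ψ : K → ℂ)) := ⟨ψ, rfl⟩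
  have hψmem : ψ ∈ blockOf M (ψ : K → ℂ) := sameBlock_refl M hMp.ne_top _
  have hθmem : θ ∈ blockOf M (θ : N → ℂ) := sameBlock_refl M hMp.ne_top _
  have hmax : ∀ B'' : Set (IrrCharacter K), IsPBlock M B'' →
      (∃ ψ'' ∈ B'', ∃ θ'' ∈ blockOf M (θ : N → ℂ),
        classInner (resNT N K hNK (ψ'' : K → ℂ)) (θ'' : N → ℂ) ≠ 0) →
      blockDefect p B'' ≤ blockDefect p (blockOf M (ψ : K → ℂ)) := by
    rintro B'' hB'' ⟨ψ'', hψ'', θ'', hθ'', hne''⟩
    rw [hsing, Set.mem_singleton_iff] at hθ''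
    rw [hθ''] at hne''
    have hs : SameBlock M (ψ : K → ℂ) (ψ'' : K → ℂ) :=
      kn_unique_cover N K hM hNK hidx hψ hne'' (sameBlock_refl M hMp.ne_top _)
    have : B'' = blockOf M (ψ : K → ℂ) := isPBlock_eq_of_mem hB'' hB' hψ'' hs
    rw [this]
  have h := fong_relative N K (blockOf M (θ : N → ℂ)) p hM hNK hb hstab
    (blockOf M (ψ : K → ℂ)) hB' ⟨ψ, hψmem, θ, hθmem, hψ⟩ hmax
  have hcop' : ¬ p ∣ Nat.card N := by
    have h3 := Nat.Coprime.symm hcop
    rwa [hp.coprime_iff_not_dvd] at h3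
  have hd0 : blockDefect p (blockOf M (θ : N → ℂ)) = 0 := by
    unfold blockDefect
    rw [Nat.factorization_eq_zero_of_not_dvd hcop', Nat.zero_sub]
  rw [h, hd0, zero_add, hidx, hp.factorization_pow, Finsupp.single_eq_same,
    fps_factorization_mid N K hNK hidx hcop]

end main

end Cfsg.Agent.helper1
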