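import Mathlib
import Cfsg.Agent.Lib_helper1_FongPS2

/-!
Fong's theorem on blocks over an invariant character of a normal `p'`-subgroup (helper1), part 3.
-/

set_option autoImplicit false

namespace Cfsg.Agent.helper1

open Cfsg Cfsg.Agent.helper5 Cfsg.Agent.helper8 Cfsg.Agent.helper24
open scoped ComplexConjugate

universe u

section main

variable {G : Type u} [Group G] [Fintype G] {M : Ideal AlgInt}
  (N K : Subgroup G) [hN : N.Normal] [hK : K.Normal] [Fintype N] [Fintype K]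

set_option maxHeartbeats 800000 in
/-- a block over `θ` has a defect group whose centralizer lies in `K` -/
theorem fps_exists_cen (p : ℕ) [Fact p.Prime] (hM : IsPModular p M) (hNK : N ≤ K) {k : ℕ}
    (hidx : N.relIndex K = p ^ k) (hcop : (Nat.card N).Coprime p) (θ : IrrCharacter N)
    (hinv : ∀ (g : G) (n : N), (θ : N → ℂ) ⟨g * n * g⁻¹, hN.conj_mem n n.2 g⟩ = (θ : N → ℂ) n)
    (hcen : ∀ Q : Subgroup G, Q ≤ K → Nat.card Q = p ^ (Nat.card K).factorization p →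
      Subgroup.centralizer (Q : Set G) ≤ K)
    (χ : IrrCharacter G) (hχ : classInner (fun n : N => (χ : G → ℂ) n) (θ : N → ℂ) ≠ 0) :
    ∃ P₀ : Subgroup G, IsDefectGroup p M (blockOf M (χ : G → ℂ)) P₀ ∧
      Subgroup.centralizer (P₀ : Set G) ≤ K ∧
      ∃ ψ : IrrCharacter K, classInner (res K (χ : G → ℂ)) (ψ : K → ℂ) ≠ 0 ∧
        classInner (resNT N K hNK (ψ : K → ℂ)) (θ : N → ℂ) ≠ 0 := by
  classical
  have hMp : M.IsPrime := hM.2.1.isPrime
  obtain ⟨ψ, hψχ, hψθ⟩ := exists_mid_constituent N K hNK θ (χ : G → ℂ) (irr_isCharacter χ.2) hχ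
  have hψθ' : classInner (resNT N K hNK (ψ : K → ℂ)) (θ : N → ℂ) ≠ 0 := hψθ
  have hbK : IsPBlock M (blockOf M (ψ : K → ℂ)) := ⟨ψ, rfl⟩
  have hB : IsPBlock M (blockOf M (χ : G → ℂ)) := ⟨χ, rfl⟩
  obtain ⟨P₀, hP₀, -, hP₀K⟩ := kn_main K (blockOf M (ψ : K → ℂ)) p hM hbK (blockOf M (χ : G → ℂ)) hB
    ⟨χ, sameBlock_refl M hMp.ne_top _, ψ, sameBlock_refl M hMp.ne_top _, hψχ⟩
  have hcard := card_defectGroup p M hM _ hbK _ hP₀K
  rw [fps_bK_defect N K p hM hNK hidx hcop θ hinv ψ hψθ',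
    Cfsg.Agent.helper24.card_subgroupOf_of_le inf_le_right] at hcard
  have h1 := hcen (P₀ ⊓ K) inf_le_right hcard
  refine ⟨P₀, hP₀, le_trans (Subgroup.centralizer_le
    (show ((P₀ ⊓ K : Subgroup G) : Set G) ⊆ P₀ from fun x hx => hx.1)) h1, ψ, hψχ, hψθ'⟩

set_option maxHeartbeats 800000 in
/-- all irreducible characters over `θ` lie in one block -/
theorem fps_same (p : ℕ) [Fact p.Prime] (hM : IsPModular p M) (hNK : N ≤ K) {k : ℕ}
    (hidx : N.relIndex K = p ^ k) (hcop : (Nat.card N).Coprime p) (θ : IrrCharacter N)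
    (hinv : ∀ (g : G) (n : N), (θ : N → ℂ) ⟨g * n * g⁻¹, hN.conj_mem n n.2 g⟩ = (θ : N → ℂ) n)
    (hcen : ∀ Q : Subgroup G, Q ≤ K → Nat.card Q = p ^ (Nat.card K).factorization p →
      Subgroup.centralizer (Q : Set G) ≤ K)
    (χ χ' : IrrCharacter G) (hχ : classInner (fun n : N => (χ : G → ℂ) n) (θ : N → ℂ) ≠ 0)
    (hχ' : classInner (fun n : N => (χ' : G → ℂ) n) (θ : N → ℂ) ≠ 0) :
    SameBlock M (χ : G → ℂ) (χ' : G → ℂ) := by
  classical
  have hMp : M.IsPrime := hM.2.1.isPrime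
  obtain ⟨P₀, hP₀, hP₀K, ψ, hψχ, hψθ⟩ := fps_exists_cen N K p hM hNK hidx hcop θ hinv hcen χ hχ
  obtain ⟨P₁, hP₁, hP₁K, ψ', hψχ', hψθ'⟩ :=
    fps_exists_cen N K p hM hNK hidx hcop θ hinv hcen χ' hχ'
  have hs : SameBlock M (ψ : K → ℂ) (ψ' : K → ℂ) :=
    kn_unique_cover N K hM hNK hidx hψθ hψθ' (sameBlock_refl M hMp.ne_top _)
  intro g
  by_cases hg : g ∈ K
  · rw [← omegaFn_classInd (irr_isCharacter χ.2), ← omegaFn_classInd (irr_isCharacter χ'.2)]
    have hsupp : ∀ x, x ∉ K → classInd g x = 0 := by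
      intro x hx
      unfold classInd
      rw [if_neg]
      intro hc
      apply hx
      obtain ⟨t, ht⟩ := isConj_iff.1 hc
      rw [← ht]
      exact hK.conj_mem g hg t
    rw [Cover.omegaFn_of_under K (classInd_isClassFunction g) hsupp χ.2 ψ.2 hψχ,
      Cover.omegaFn_of_under K (classInd_isClassFunction g) hsupp χ'.2 ψ'.2 hψχ']
    apply omegaFn_sub_memLocalIdeal hs (Cover.res_isClassFunction K (classInd_isClassFunction g))
    intro k
    show MemLocalRing M (classInd g (k : G))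
    unfold classInd
    split_ifs
    · exact memLocalRing_one hMp.ne_top
    · exact memLocalRing_zero hMp.ne_top
  · have h1 := fps_vanish p hM K _ ⟨χ, rfl⟩ P₀ hP₀ hP₀K χ (sameBlock_refl M hMp.ne_top _) g hg
    have h2 := fps_vanish p hM K _ ⟨χ', rfl⟩ P₁ hP₁ hP₁K χ' (sameBlock_refl M hMp.ne_top _) g hg
    exact memLocalIdeal_sub h1 h2

set_option maxHeartbeats 800000 in
/-- **Fong**: the irreducible characters over an invariant character of a normal `p'`-subgroup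
form a block of full defect, when centralizers of Sylow subgroups of `K` lie in `K` -/
theorem fps_final (p : ℕ) [Fact p.Prime] (hM : IsPModular p M) (hNK : N ≤ K) {k : ℕ}
    (hidx : N.relIndex K = p ^ k) (hcop : (Nat.card N).Coprime p) (θ : IrrCharacter N)
    (hinv : ∀ (g : G) (n : N), (θ : N → ℂ) ⟨g * n * g⁻¹, hN.conj_mem n n.2 g⟩ = (θ : N → ℂ) n)
    (hcen : ∀ Q : Subgroup G, Q ≤ K → Nat.card Q = p ^ (Nat.card K).factorization p →
      Subgroup.centralizer (Q : Set G) ≤ K) :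
    ∃ B : Set (IrrCharacter G), IsPBlock M B ∧
      (∀ χ : IrrCharacter G, χ ∈ B ↔
        classInner (fun n : N => (χ : G → ℂ) n) (θ : N → ℂ) ≠ 0) ∧
      (∀ P : Sylow p G, IsDefectGroup p M B (P : Subgroup G)) ∧
      ∀ D : Subgroup G, IsDefectGroup p M B D → ∃ P : Sylow p G, D = (P : Subgroup G) := by
  classical
  have hp : p.Prime := Fact.out
  have hMp : M.IsPrime := hM.2.1.isPrime
  obtain ⟨X, hX, hXθ⟩ := Cfsg.Agent.helper12.exists_irr_over N θ.2
  obtain ⟨χ₀, hχ₀⟩ : ∃ χ₀ : IrrCharacter G, (χ₀ : G → ℂ) = X := ⟨⟨X, hX⟩, rfl⟩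
  have hχ₀θ : classInner (fun n : N => (χ₀ : G → ℂ) n) (θ : N → ℂ) ≠ 0 := by
    rw [hχ₀]
    exact hXθ
  have hB : IsPBlock M (blockOf M (χ₀ : G → ℂ)) := ⟨χ₀, rfl⟩
  have hsing := fps_block_singleton p hM hcop θ
  have hb : IsPBlock M (blockOf M (θ : N → ℂ)) := ⟨θ, rfl⟩
  have hθmem : θ ∈ blockOf M (θ : N → ℂ) := sameBlock_refl M hMp.ne_top _
  have hχ₀mem : χ₀ ∈ blockOf M (χ₀ : G → ℂ) := sameBlock_refl M hMp.ne_top _
  have hcov : ∃ χ ∈ blockOf M (χ₀ : G → ℂ), ∃ θ₁ ∈ blockOf M (θ : N → ℂ),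
      classInner (fun n : N => (χ : G → ℂ) n) (θ₁ : N → ℂ) ≠ 0 := ⟨χ₀, hχ₀mem, θ, hθmem, hχ₀θ⟩
  have hmem : ∀ χ : IrrCharacter G, χ ∈ blockOf M (χ₀ : G → ℂ) ↔
      classInner (fun n : N => (χ : G → ℂ) n) (θ : N → ℂ) ≠ 0 := by
    intro χ
    constructor
    · intro hχ
      obtain ⟨θ', hθ'⟩ := Cover.exists_under N χ.2
      obtain ⟨g, θ₁, hθ₁, hθ'eq⟩ := kn_cover_orbit N p hM _ hb _ hB hcov χ hχ θ' hθ'
      rw [hsing, Set.mem_singleton_iff] at hθ₁
      have : θ' = θ := by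
        apply Subtype.ext
        rw [hθ'eq, hθ₁]
        funext m
        have h1 := hinv g m
        rw [← h1]
        refine congrArg (θ : N → ℂ) (Subtype.ext ?_)
        rw [MulAut.conjNormal_apply]
      rw [this] at hθ'
      exact hθ'
    · intro hχ
      exact fps_same N K p hM hNK hidx hcop θ hinv hcen χ₀ χ hχ₀θ hχ
  have hinv' : ∀ g : G, ∀ θ₁ ∈ blockOf M (θ : N → ℂ), ∀ θ' : IrrCharacter N,
      (∀ n : N, (θ' : N → ℂ) n = (θ₁ : N → ℂ) ⟨g * n * g⁻¹, hN.conj_mem n n.2 g⟩) →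
      θ' ∈ blockOf M (θ : N → ℂ) := by
    intro g θ₁ hθ₁ θ' h
    rw [hsing] at hθ₁ ⊢
    rw [Set.mem_singleton_iff] at hθ₁ ⊢
    rw [hθ₁] at h
    apply Subtype.ext
    funext n
    rw [h n, hinv g n]
  have hmax : ∀ B' : Set (IrrCharacter G), IsPBlock M B' →
      (∃ χ ∈ B', ∃ θ₁ ∈ blockOf M (θ : N → ℂ),
        classInner (fun n : N => (χ : G → ℂ) n) (θ₁ : N → ℂ) ≠ 0) →
      blockDefect p B' ≤ blockDefect p (blockOf M (χ₀ : G → ℂ)) := by
    rintro B' hB' ⟨χ, hχ, θ₁, hθ₁, hne⟩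
    rw [hsing, Set.mem_singleton_iff] at hθ₁
    rw [hθ₁] at hne
    have : B' = blockOf M (χ₀ : G → ℂ) := isPBlock_eq_of_mem hB' hB hχ ((hmem χ).2 hne)
    rw [this]
  obtain ⟨P₁, hP₁⟩ := exists_defectGroup p M hM _ hB
  obtain ⟨-, -, hdef⟩ := fong_theorem N (blockOf M (θ : N → ℂ)) p hM hb hinv' _ hB hcov hmax P₁ hP₁
  have hcop' : ¬ p ∣ Nat.card N := by
    have h3 := Nat.Coprime.symm hcop
    rwa [hp.coprime_iff_not_dvd] at h3
  have hd0 : blockDefect p (blockOf M (θ : N → ℂ)) = 0 := by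
    unfold blockDefect
    rw [Nat.factorization_eq_zero_of_not_dvd hcop', Nat.zero_sub]
  have hidxG : N.index.factorization p = (Nat.card G).factorization p := by
    rw [← Subgroup.card_mul_index N, Nat.factorization_mul Nat.card_pos.ne'
      (Subgroup.index_ne_zero_of_finite), Finsupp.add_apply,
      Nat.factorization_eq_zero_of_not_dvd hcop', zero_add]
  rw [hd0, zero_add, hidxG] at hdef
  have hcardD : ∀ D : Subgroup G, IsDefectGroup p M (blockOf M (χ₀ : G → ℂ)) D →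
      Nat.card D = p ^ (Nat.card G).factorization p := by
    intro D hD
    rw [card_defectGroup p M hM _ hB D hD, hdef]
  refine ⟨blockOf M (χ₀ : G → ℂ), hB, hmem, ?_, ?_⟩
  · intro S
    obtain ⟨g, hg⟩ := MulAction.exists_smul_eq G (Sylow.ofCard P₁ (hcardD P₁ hP₁)) S
    have h1 : (S : Subgroup G) = P₁.map (MulAut.conj g).toMonoidHom := by
      rw [← hg]
      rfl
    rw [h1]
    exact isDefectGroup_conj p M _ hP₁ g
  · intro D hD
    exact ⟨Sylow.ofCard D (hcardD D hD), rfl⟩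

end main

end Cfsg.Agent.helper1
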