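import Mathlib
import Cfsg.Agent.Lib_helper22_Gallagher
import Cfsg.Agent.Lib_helper22_Chief
import Cfsg.Agent.Lib_helper22_CyclicExt
import Cfsg.Agent.Lib_helper12_CharOps
import Cfsg.Agent.Lib_helper24_ThirdMain

set_option autoImplicit false
set_option linter.unusedSectionVars false
set_option linter.unusedVariables false

/-!
Coset norms of an irreducible character with irreducible restriction (helper22).

* `coset_norm_of_res_irr` : `N ⊲ G`, `χ ∈ Irr(G)` with `χ_N` irreducible; then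
  `∑_{n ∈ N} |χ(g n)|² = |N|` for every `g`;
* `sum_comp_of_fibers_le` : a map all of whose fibers have at most `k` elements, with
  `|A| = k |B|`, has all fibers of size `k`;
* `frob_coset_sum` : the Frobenius-action coset sum.
-/

namespace Cfsg.Agent.helper22

open Cfsg
open scoped ComplexConjugate

universe u

section CosetNorm
variable {G : Type u} [Group G] [Fintype G] (N : Subgroup G) [hN : N.Normal] [Fintype N]

theorem coset_norm_of_res_irr {χ : G → ℂ} (hχ : IsIrrCharacter G χ)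
    (hϑ : IsIrrCharacter N (helper5.res N χ)) (g : G) :
    ∑ n : N, χ (g * n) * conj (χ (g * n)) = (Nat.card N : ℂ) := by
  classical
  haveI : Fintype (IrrCharacter (G ⧸ N)) := Fintype.ofFinite _
  obtain ⟨g1, g2, g3⟩ := gallagher N hχ hϑ
  have hχcf : IsClassFunction G χ := helper24.char_isClassFunction (helper24.irr_isCharacter hχ)
  obtain ⟨F, hF⟩ : ∃ F : G → ℂ, F = fun g => ∑ n : N, χ (g * n) * conj (χ (g * n)) := ⟨_, rfl⟩
  have hFcf : IsClassFunction G F := by
    intro g x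
    rw [hF]
    show ∑ n : N, χ (x * g * x⁻¹ * n) * conj (χ (x * g * x⁻¹ * n)) =
      ∑ n : N, χ (g * n) * conj (χ (g * n))
    refine Fintype.sum_equiv (MulAut.conjNormal x⁻¹ : N ≃* N).toEquiv _ _ ?_
    intro n
    have h1 : (((MulAut.conjNormal x⁻¹ : MulAut N) n : N) : G) = x⁻¹ * n * x := by
      rw [MulAut.conjNormal_apply, inv_inv]
    have h2 : x * g * x⁻¹ * n = x * (g * (x⁻¹ * n * x)) * x⁻¹ := by group
    show χ (x * g * x⁻¹ * n) * conj (χ (x * g * x⁻¹ * n)) =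
      χ (g * (((MulAut.conjNormal x⁻¹ : MulAut N) n : N) : G)) *
        conj (χ (g * (((MulAut.conjNormal x⁻¹ : MulAut N) n : N) : G)))
    rw [h1, h2, hχcf]
  have hFinv : ∀ (n : N) (g : G), F ((n : G) * g) = F g := by
    intro n g
    rw [hF]
    show ∑ m : N, χ ((n : G) * g * m) * conj (χ ((n : G) * g * m)) =
      ∑ m : N, χ (g * m) * conj (χ (g * m))
    refine Fintype.sum_equiv (Equiv.mulRight n) _ _ ?_
    intro m
    have h2 : (n : G) * g * m = (n : G) * (g * ((m * n : N) : G)) * (n : G)⁻¹ := by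
      rw [Subgroup.coe_mul]; group
    show χ ((n : G) * g * m) * conj (χ ((n : G) * g * m)) =
      χ (g * ((m * n : N) : G)) * conj (χ (g * ((m * n : N) : G)))
    rw [h2, hχcf]
  have hexp := expansion_of_coset_invariant N hFcf hFinv
  have hcoef : ∀ β : IrrCharacter (G ⧸ N), classInner F (infl N (β : G ⧸ N → ℂ)) =
      (Nat.card N : ℂ) * classInner χ (infl N (β : G ⧸ N → ℂ) * χ) := by
    intro β
    unfold classInner
    rw [mul_left_comm]
    congr 1
    have h1 : ∀ n : N, ∑ g : G, χ (g * n) * conj (χ (g * n)) * conj ((β : G ⧸ N → ℂ) (g : G ⧸ N)) =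
        ∑ g : G, χ g * conj ((infl N (β : G ⧸ N → ℂ) * χ) g) := by
      intro n
      refine Fintype.sum_equiv (Equiv.mulRight (n : G)) _ _ ?_
      intro g
      show χ (g * n) * conj (χ (g * n)) * conj ((β : G ⧸ N → ℂ) (g : G ⧸ N)) =
        χ (g * n) * conj ((infl N (β : G ⧸ N → ℂ) * χ) (g * n))
      rw [Pi.mul_apply, infl_apply, map_mul]
      have h3 : ((g * (n : G) : G) : G ⧸ N) = (g : G ⧸ N) := by
        rw [QuotientGroup.mk_mul, (QuotientGroup.eq_one_iff (n : G)).mpr n.2, mul_one]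
      rw [h3]
      ring
    have h2 : ∑ g : G, F g * conj (infl N (β : G ⧸ N → ℂ) g) =
        ∑ n : N, ∑ g : G, χ (g * n) * conj (χ (g * n)) *
          conj ((β : G ⧸ N → ℂ) (g : G ⧸ N)) := by
      rw [Finset.sum_comm]
      apply Finset.sum_congr rfl
      intro g _
      rw [hF]
      show (∑ n : N, χ (g * n) * conj (χ (g * n))) * conj (infl N (β : G ⧸ N → ℂ) g) = _
      rw [Finset.sum_mul]
      rfl
    rw [h2, Finset.sum_congr rfl (fun n _ => h1 n), Finset.sum_const, Finset.card_univ,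
      nsmul_eq_mul, Nat.card_eq_fintype_card]
  -- the trivial character
  have hone : infl N ((helper24.oneIrr (G ⧸ N) : IrrCharacter (G ⧸ N)) : G ⧸ N → ℂ) * χ = χ := by
    funext g
    show (1 : ℂ) * χ g = χ g
    rw [one_mul]
  have hval : ∀ β : IrrCharacter (G ⧸ N), classInner χ (infl N (β : G ⧸ N → ℂ) * χ) =
      if β = helper24.oneIrr (G ⧸ N) then 1 else 0 := by
    intro β
    split_ifs with h
    · rw [h, hone]
      exact helper24.irr_classInner_self hχ
    · apply helper24.irr_classInner_ne hχ (g1 β)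
      intro h'
      apply h
      apply g2
      rw [hone]
      exact h'.symm
  have hFg : F g = ∑ n : N, χ (g * n) * conj (χ (g * n)) := by rw [hF]
  rw [← hFg, hexp, Finset.sum_apply, Finset.sum_eq_single (helper24.oneIrr (G ⧸ N))]
  · rw [hcoef, hval, if_pos rfl, mul_one, Pi.smul_apply, smul_eq_mul]
    show (Nat.card N : ℂ) * 1 = _
    rw [mul_one]
  · intro β _ hne
    rw [hcoef, hval, if_neg hne, mul_zero, Pi.smul_apply, zero_smul]
  · intro h
    exact absurd (Finset.mem_univ _) h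

end CosetNorm

section Fibers

theorem sum_comp_of_fibers_le {A B : Type*} [Fintype A] [Fintype B] [DecidableEq B] (Φ : A → B)
    (k : ℕ) (hcard : Fintype.card A = k * Fintype.card B)
    (hle : ∀ b, (Finset.univ.filter (fun a => Φ a = b)).card ≤ k) (F : B → ℂ) :
    ∑ a, F (Φ a) = (k : ℂ) * ∑ b, F b := by
  have hsum : ∑ b : B, (Finset.univ.filter (fun a => Φ a = b)).card = ∑ b : B, k := by
    rw [← Finset.card_eq_sum_card_fiberwise (f := Φ) (s := Finset.univ) (t := Finset.univ)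
      (fun _ _ => Finset.mem_univ _)]
    rw [Finset.card_univ, hcard, Finset.sum_const, Finset.card_univ, smul_eq_mul, mul_comm]
  have heq : ∀ b, (Finset.univ.filter (fun a => Φ a = b)).card = k := by
    have := (Finset.sum_eq_sum_iff_of_le (fun b _ => hle b)).mp hsum
    intro b
    exact this b (Finset.mem_univ b)
  rw [← Finset.sum_fiberwise Finset.univ Φ (fun a => F (Φ a)), Finset.mul_sum]
  apply Finset.sum_congr rfl
  intro b _
  rw [Finset.sum_congr rfl (fun a ha => by rw [(Finset.mem_filter.mp ha).2]), Finset.sum_const,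
    heq b, nsmul_eq_mul]

end Fibers

section Frob
variable {Γ : Type u} [Group Γ] [Fintype Γ] (G N : Subgroup Γ) [hG : G.Normal] [hN : N.Normal]
  [Fintype G] [Fintype N]

theorem frob_coset_sum (hNG : N ≤ G)
    (hfrob : ∀ x : Γ, x ∉ G → ∀ g : Γ, g ∈ G → x * g * x⁻¹ * g⁻¹ ∈ N → g ∈ N)
    (f : Γ → ℂ) (hf : ∀ a b : Γ, f (b * a * b⁻¹) = f a) (y : Γ) (hy : y ∉ G) :
    (Nat.card G : ℂ) * ∑ n : N, f (y * n) = (Nat.card N : ℂ) * ∑ g : G, f (y * g) := by
  classical
  have hy' : y⁻¹ ∉ G := fun h => hy (by simpa using G.inv_mem h)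
  have hc : ∀ (g : G) (n : N), y⁻¹ * g * y * (g : Γ)⁻¹ * n ∈ G := by
    intro g n
    have h1 : y⁻¹ * g * y ∈ G := by
      have := hG.conj_mem g g.2 y⁻¹
      rwa [inv_inv] at this
    exact G.mul_mem (G.mul_mem h1 (G.inv_mem g.2)) (hNG n.2)
  obtain ⟨Φ, hΦ⟩ : ∃ Φ : G × N → G, ∀ p, ((Φ p : G) : Γ) = y⁻¹ * p.1 * y * (p.1 : Γ)⁻¹ * p.2 :=
    ⟨fun p => ⟨_, hc p.1 p.2⟩, fun p => rfl⟩
  have hle : ∀ t : G, (Finset.univ.filter (fun p => Φ p = t)).card ≤ Fintype.card N := by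
    intro t
    by_cases hne : (Finset.univ.filter (fun p => Φ p = t)).Nonempty
    · obtain ⟨p₀, hp₀⟩ := hne
      have hp₀' : Φ p₀ = t := (Finset.mem_filter.mp hp₀).2
      rw [← Finset.card_univ (α := N),
        ← Finset.card_map ⟨(Subtype.val : N → Γ), Subtype.val_injective⟩]
      apply Finset.card_le_card_of_injOn (fun p => ((p₀.1 : G) : Γ)⁻¹ * ((p.1 : G) : Γ))
      · intro p hp
        have hp' : Φ p = t := (Finset.mem_filter.mp (Finset.mem_coe.mp hp)).2
        have E : y⁻¹ * (p.1 : Γ) * y * (p.1 : Γ)⁻¹ * (p.2 : Γ) =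
            y⁻¹ * (p₀.1 : Γ) * y * (p₀.1 : Γ)⁻¹ * (p₀.2 : Γ) := by
          rw [← hΦ p, ← hΦ p₀, hp', hp₀']
        have e1 : ((p₀.2 : N) : Γ) = (y⁻¹ * (p₀.1 : Γ) * y * (p₀.1 : Γ)⁻¹)⁻¹ *
            (y⁻¹ * (p.1 : Γ) * y * (p.1 : Γ)⁻¹ * (p.2 : Γ)) := by
          rw [E]; group
        have key : y⁻¹ * ((p₀.1 : Γ)⁻¹ * (p.1 : Γ)) * y⁻¹⁻¹ * ((p₀.1 : Γ)⁻¹ * (p.1 : Γ))⁻¹ =
            (p₀.1 : Γ)⁻¹ * ((p₀.2 : Γ) * (p.2 : Γ)⁻¹) * (p₀.1 : Γ)⁻¹⁻¹ := by
          rw [e1]; group
        have hmem : (p₀.1 : Γ)⁻¹ * (p.1 : Γ) ∈ N := by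
          apply hfrob y⁻¹ hy' _ (G.mul_mem (G.inv_mem p₀.1.2) p.1.2)
          rw [key]
          exact hN.conj_mem _ (N.mul_mem p₀.2.2 (N.inv_mem p.2.2)) _
        rw [Finset.mem_coe, Finset.mem_map]
        exact ⟨⟨_, hmem⟩, Finset.mem_univ _, rfl⟩
      · intro p hp q hq hpq
        have hp' : Φ p = t := (Finset.mem_filter.mp (Finset.mem_coe.mp hp)).2
        have hq' : Φ q = t := (Finset.mem_filter.mp (Finset.mem_coe.mp hq)).2
        have h1 : ((p.1 : G) : Γ) = ((q.1 : G) : Γ) := mul_left_cancel hpq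
        have E : y⁻¹ * (p.1 : Γ) * y * (p.1 : Γ)⁻¹ * (p.2 : Γ) =
            y⁻¹ * (q.1 : Γ) * y * (q.1 : Γ)⁻¹ * (q.2 : Γ) := by
          rw [← hΦ p, ← hΦ q, hp', hq']
        rw [h1] at E
        have h2 : ((p.2 : N) : Γ) = ((q.2 : N) : Γ) := mul_left_cancel E
        exact Prod.ext (Subtype.ext h1) (Subtype.ext h2)
    · rw [Finset.not_nonempty_iff_eq_empty.mp hne, Finset.card_empty]
      exact Nat.zero_le _
  have hcard : Fintype.card (G × N) = Fintype.card N * Fintype.card G := by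
    rw [Fintype.card_prod, mul_comm]
  have h2 := sum_comp_of_fibers_le Φ (Fintype.card N) hcard hle (fun t : G => f (y * (t : Γ)))
  have h1 : ∑ p : G × N, f (y * ((Φ p : G) : Γ)) = (Fintype.card G : ℂ) * ∑ n : N, f (y * n) := by
    rw [Fintype.sum_prod_type]
    have h3 : ∀ g : G, ∑ n : N, f (y * ((Φ (g, n) : G) : Γ)) = ∑ n : N, f (y * n) := by
      intro g
      refine Fintype.sum_equiv (MulAut.conjNormal (g : Γ)⁻¹ : N ≃* N).toEquiv _ _ ?_
      intro n
      have e1 : (((MulAut.conjNormal (g : Γ)⁻¹ : MulAut N) n : N) : Γ) = (g : Γ)⁻¹ * n * g := by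
        rw [MulAut.conjNormal_apply, inv_inv]
      show f (y * ((Φ (g, n) : G) : Γ)) =
        f (y * (((MulAut.conjNormal (g : Γ)⁻¹ : MulAut N) n : N) : Γ))
      rw [e1, hΦ]
      have e2 : y * (y⁻¹ * (g : Γ) * y * (g : Γ)⁻¹ * (n : Γ)) =
          (g : Γ) * (y * ((g : Γ)⁻¹ * n * g)) * (g : Γ)⁻¹ := by group
      rw [e2, hf]
    rw [Finset.sum_congr rfl (fun g _ => h3 g), Finset.sum_const, Finset.card_univ, nsmul_eq_mul]
  rw [Nat.card_eq_fintype_card, Nat.card_eq_fintype_card, ← h1, ← h2]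

end Frob

end Cfsg.Agent.helper22
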