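import Mathlib
import Cfsg.Agent.Lib_helper22_FrobRam1

set_option autoImplicit false
set_option linter.unusedSectionVars false
set_option linter.unusedVariables false

/-!
The congruence `e ≡ ±1 (mod m)` for a cyclic quotient of order `m` (helper22).

* `frob_arith` : the arithmetic;
* `norm_sum_mul_conj_le` : Cauchy–Schwarz;
* `cyclic_ramification_congruence`.
-/

namespace Cfsg.Agent.helper22

open Cfsg
open scoped ComplexConjugate

universe u

theorem frob_arith {B : Type*} [Fintype B] (A : B → ℤ) (m e : ℤ)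
    (hm : (Fintype.card B : ℤ) = m) (hm0 : 0 < m)
    (h1 : ∑ β, A β = e) (h2 : m * ∑ β, A β ^ 2 = e ^ 2 + m - 1)
    (h3 : ∀ β, |m * A β - e| ≤ m - 1) : m ∣ e - 1 ∨ m ∣ e + 1 := by
  obtain ⟨k, r, hr0, hrm, he⟩ : ∃ k r : ℤ, 0 ≤ r ∧ r < m ∧ e = m * k + r :=
    ⟨e / m, e % m, Int.emod_nonneg _ hm0.ne', Int.emod_lt_of_pos _ hm0,
      (Int.mul_ediv_add_emod e m).symm⟩
  have hA : ∀ β, A β = k ∨ A β = k + 1 := by
    intro β
    have h := abs_le.mp (h3 β)
    have hlo : k ≤ A β := by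
      by_contra hc
      have hc' : A β + 1 ≤ k := by omega
      have : m * (A β + 1) ≤ m * k := mul_le_mul_of_nonneg_left hc' hm0.le
      nlinarith
    have hhi : A β ≤ k + 1 := by
      by_contra hc
      have hc' : k + 2 ≤ A β := by omega
      have : m * (k + 2) ≤ m * A β := mul_le_mul_of_nonneg_left hc' hm0.le
      nlinarith
    omega
  have hsq : ∀ β, A β ^ 2 = (2 * k + 1) * A β - (k ^ 2 + k) := by
    intro β
    rcases hA β with h | h <;> rw [h] <;> ring
  have hs : ∑ β, A β ^ 2 = (2 * k + 1) * e - m * (k ^ 2 + k) := by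
    rw [Finset.sum_congr rfl (fun β _ => hsq β), Finset.sum_sub_distrib, ← Finset.mul_sum, h1,
      Finset.sum_const, Finset.card_univ, nsmul_eq_mul, hm]
  rw [hs, he] at h2
  have h4 : (r - 1) * (r - (m - 1)) = 0 := by linear_combination (-1 : ℤ) * h2
  rcases mul_eq_zero.mp h4 with h | h
  · left
    exact ⟨k, by rw [he]; linarith⟩
  · right
    exact ⟨k + 1, by rw [he]; linarith⟩

theorem norm_sum_mul_conj_le {ι : Type*} [Fintype ι] (u v : ι → ℂ) (K : ℝ) (hK : 0 ≤ K)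
    (hu : ∑ i, u i * conj (u i) = (K : ℂ)) (hv : ∑ i, v i * conj (v i) = (K : ℂ)) :
    ‖∑ i, u i * conj (v i)‖ ≤ K := by
  have hu' : ∑ i, ‖u i‖ ^ 2 = K := by
    apply Complex.ofReal_injective
    rw [← hu]
    push_cast
    apply Finset.sum_congr rfl
    intro i _
    rw [Complex.mul_conj']
  have hv' : ∑ i, ‖v i‖ ^ 2 = K := by
    apply Complex.ofReal_injective
    rw [← hv]
    push_cast
    apply Finset.sum_congr rfl
    intro i _
    rw [Complex.mul_conj']
  have h1 : ‖∑ i, u i * conj (v i)‖ ≤ ∑ i, ‖u i‖ * ‖v i‖ := by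
    refine (norm_sum_le _ _).trans (le_of_eq ?_)
    apply Finset.sum_congr rfl
    intro i _
    rw [norm_mul, Complex.norm_conj]
  have h2 := Finset.sum_mul_sq_le_sq_mul_sq Finset.univ (fun i => ‖u i‖) (fun i => ‖v i‖)
  rw [hu', hv'] at h2
  have h3 : 0 ≤ ∑ i, ‖u i‖ * ‖v i‖ :=
    Finset.sum_nonneg (fun i _ => mul_nonneg (norm_nonneg _) (norm_nonneg _))
  have h4 : ∑ i, ‖u i‖ * ‖v i‖ ≤ K := by
    by_contra hc
    push_neg at hc
    nlinarith
  exact h1.trans h4

section Clean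
variable {C : Type u} [Group C] [Fintype C] (M : Subgroup C) [hM : M.Normal] [Fintype M]

theorem cyclic_ramification_congruence (hcyc : IsCyclic (C ⧸ M))
    {ϑ : C → ℂ} (hϑ : IsIrrCharacter C ϑ) (hres : IsIrrCharacter M (helper5.res M ϑ))
    {Ψ : C → ℂ} (hΨ : IsCharacter C Ψ) (e : ℕ)
    (hΨM : ∀ n : M, Ψ n = (e : ℂ) * ϑ n)
    (hnorm : ∀ y : C, y ∉ M → ∑ n : M, Ψ (y * n) * conj (Ψ (y * n)) = (Nat.card M : ℂ)) :
    (M.index : ℤ) ∣ (e : ℤ) - 1 ∨ (M.index : ℤ) ∣ (e : ℤ) + 1 := by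
  classical
  haveI : Fintype (IrrCharacter (C ⧸ M)) := Fintype.ofFinite _
  haveI : Fintype (IrrCharacter C) := Fintype.ofFinite _
  obtain ⟨g1, g2, g3⟩ := gallagher M hϑ hres
  have hab : ∀ a b : C ⧸ M, a * b = b * a := by
    have h := (IsCyclic.isMulCommutative : IsMulCommutative (C ⧸ M))
    exact fun a b => h.is_comm.comm a b
  have hβ1 : ∀ β : IrrCharacter (C ⧸ M), (β : C ⧸ M → ℂ) 1 = 1 :=
    (S0187.result (G := C ⧸ M)).mp hab
  have hβM : ∀ (β : IrrCharacter (C ⧸ M)) (n : M),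
      (β : C ⧸ M → ℂ) (((n : C) : C ⧸ M)) = 1 := by
    intro β n
    rw [(QuotientGroup.eq_one_iff (n : C)).mpr n.2, hβ1]
  obtain ⟨m, hm⟩ : ∃ m : ℕ, m = M.index := ⟨_, rfl⟩
  have hm0 : 0 < m := by
    rw [hm]; exact Nat.pos_of_ne_zero Subgroup.index_ne_zero_of_finite
  have hM0 : (Nat.card M : ℂ) ≠ 0 := Nat.cast_ne_zero.mpr Nat.card_pos.ne'
  have hC0 : (Nat.card C : ℂ) ≠ 0 := Nat.cast_ne_zero.mpr Nat.card_pos.ne'
  have hm0' : (m : ℂ) ≠ 0 := Nat.cast_ne_zero.mpr hm0.ne'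
  have hcardC : (Nat.card C : ℂ) = (Nat.card M : ℂ) * m := by
    rw [hm]; exact (card_mul_index_cast M).symm
  have hcardB : (Fintype.card (IrrCharacter (C ⧸ M)) : ℂ) = m := by
    have h := sum_degree_mul_infl M (1 : C)
    rw [if_pos M.one_mem, ← hm] at h
    rw [← h, Finset.sum_congr rfl (fun β _ => by rw [QuotientGroup.mk_one, hβ1 β, mul_one]),
      Finset.sum_const, Finset.card_univ, nsmul_eq_mul, mul_one]
  have hΨcf : IsClassFunction C Ψ := helper24.char_isClassFunction hΨ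
  have hϑc : IsCharacter C ϑ := helper24.irr_isCharacter hϑ
  have hϑM : ∑ n : M, ϑ n * conj (ϑ n) = (Nat.card M : ℂ) := by
    have h := helper24.irr_classInner_self hres
    unfold classInner at h
    rw [inv_mul_eq_iff_eq_mul₀ hM0, mul_one] at h
    exact h
  obtain ⟨ξ, hξ⟩ : ∃ ξ : IrrCharacter (C ⧸ M) → IrrCharacter C,
      ∀ β, ((ξ β : IrrCharacter C) : C → ℂ) = infl M (β : C ⧸ M → ℂ) * ϑ :=
    ⟨fun β => ⟨_, g1 β⟩, fun β => rfl⟩
  have hξinj : Function.Injective ξ := by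
    intro β β' h
    apply g2
    rw [← hξ β, ← hξ β', h]
  have hξM : ∀ (β : IrrCharacter (C ⧸ M)) (n : M),
      ((ξ β : IrrCharacter C) : C → ℂ) n = ϑ n := by
    intro β n
    rw [hξ, Pi.mul_apply, infl_apply, hβM, one_mul]
  obtain ⟨nn, hexp, hn, hnormΨ⟩ := helper12.char_decomp hΨ
  -- F1
  have hF1 : ∑ β, (nn (ξ β) : ℂ) = e := by
    have h1 : ∀ β, (nn (ξ β) : ℂ) = classInner ((ξ β : IrrCharacter C) : C → ℂ) Ψ := by
      intro β
      rw [← helper24.classInner_conj_symm, hn, Complex.conj_natCast]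
    rw [Finset.sum_congr rfl (fun β _ => h1 β), ← helper24.classInner_sum_left]
    have h2 : ∑ β, ((ξ β : IrrCharacter C) : C → ℂ) = indFun M (helper5.res M ϑ) := by
      rw [indFun_res_eq_sum M (helper24.char_isClassFunction hϑc)]
      apply Finset.sum_congr rfl
      intro β _
      rw [hβ1, one_smul, hξ]
    rw [h2, helper12.classInner_indFun_eq_restrict M _ Ψ hΨcf]
    have h3 : (fun h : M => Ψ (h : C)) = (e : ℂ) • helper5.res M ϑ := by
      funext n
      rw [hΨM]; rfl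
    rw [h3, ← helper24.classInner_conj_symm, helper24.classInner_smul_left,
      helper24.irr_classInner_self hres, mul_one, Complex.conj_natCast]
  -- degrees
  obtain ⟨d, hd⟩ : ∃ d : ℕ, d = charDegree ϑ := ⟨_, rfl⟩
  have hdϑ : ϑ 1 = (d : ℂ) := by rw [hd, helper24.char_charDegree_cast hϑc]
  have hDξ : ∀ β, ((ξ β : IrrCharacter C) : C → ℂ) 1 = (d : ℂ) := by
    intro β
    have := hξM β 1
    rw [Subgroup.coe_one] at this
    rw [this, hdϑ]
  have hΨ1 : Ψ 1 = (e : ℂ) * d := by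
    have := hΨM 1
    rw [Subgroup.coe_one] at this
    rw [this, hdϑ]
  have hdeg : ∀ ξ' : IrrCharacter C, ∃ D : ℕ, 0 < D ∧ (ξ' : C → ℂ) 1 = D := fun ξ' =>
    ⟨charDegree (ξ' : C → ℂ), helper24.irr_charDegree_pos ξ'.2,
      (helper24.char_charDegree_cast (helper24.irr_isCharacter ξ'.2)).symm⟩
  choose D hDpos hD using hdeg
  have hsum1 : (e : ℂ) * d = ∑ ξ' : IrrCharacter C, (nn ξ' : ℂ) * (D ξ' : ℂ) := by
    rw [← hΨ1]
    conv_lhs => rw [hexp]
    rw [Finset.sum_apply]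
    apply Finset.sum_congr rfl
    intro ξ' _
    rw [Pi.smul_apply, smul_eq_mul, hD]
  have hsum1' : e * d = ∑ ξ' : IrrCharacter C, nn ξ' * D ξ' := by exact_mod_cast hsum1
  have hsumR : ∑ ξ' ∈ Finset.univ.image ξ, nn ξ' * D ξ' = e * d := by
    rw [Finset.sum_image (fun a _ b _ h => hξinj h)]
    have hDd : ∀ β, D (ξ β) = d := by
      intro β
      have := hD (ξ β)
      rw [hDξ β] at this
      exact_mod_cast this.symm
    rw [Finset.sum_congr rfl (fun β _ => by rw [hDd β]), ← Finset.sum_mul]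
    congr 1
    exact_mod_cast hF1
  have hzero : ∀ ξ' : IrrCharacter C, ξ' ∉ Finset.univ.image ξ → nn ξ' = 0 := by
    have h := Finset.sum_add_sum_compl (Finset.univ.image ξ) (fun ξ' => nn ξ' * D ξ')
    rw [hsumR, ← hsum1'] at h
    have h0 : ∑ ξ' ∈ (Finset.univ.image ξ)ᶜ, nn ξ' * D ξ' = 0 := by linarith
    intro ξ' hξ'
    have := (Finset.sum_eq_zero_iff.mp h0) ξ' (Finset.mem_compl.mpr hξ')
    rcases Nat.mul_eq_zero.mp this with h | h
    · exact h
    · exact absurd h (hDpos ξ').ne'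
  have hsq : ∑ ξ' : IrrCharacter C, nn ξ' ^ 2 = ∑ β, nn (ξ β) ^ 2 := by
    rw [← Finset.sum_image (f := fun ξ' => nn ξ' ^ 2) (fun a _ b _ h => hξinj h)]
    symm
    apply Finset.sum_subset (Finset.subset_univ _)
    intro ξ' _ h
    rw [hzero ξ' h]
    rfl
  -- the norm of Ψ
  obtain ⟨T, hT⟩ : ∃ T : ℂ, T = ∑ g : C, Ψ g * conj (Ψ g) := ⟨_, rfl⟩
  have hΨMsum : ∑ n : M, Ψ n * conj (Ψ n) = (e : ℂ) ^ 2 * (Nat.card M : ℂ) := by
    rw [← hϑM, Finset.mul_sum]
    apply Finset.sum_congr rfl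
    intro n _
    rw [hΨM, map_mul, Complex.conj_natCast]
    ring
  have hW2 : ∀ g : C, g ∈ M →
      ∑ n : M, Ψ (g * n) * conj (Ψ (g * n)) = (e : ℂ) ^ 2 * (Nat.card M : ℂ) := by
    intro g hg
    rw [← hΨMsum]
    exact Fintype.sum_equiv (Equiv.mulLeft (⟨g, hg⟩ : M)) _ _ (fun n => rfl)
  have hsumW : ∑ g : C, ∑ n : M, Ψ (g * n) * conj (Ψ (g * n)) = (Nat.card M : ℂ) * T := by
    rw [Finset.sum_comm]
    have : ∀ n : M, ∑ g : C, Ψ (g * n) * conj (Ψ (g * n)) = T := by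
      intro n
      rw [hT]
      exact Fintype.sum_equiv (Equiv.mulRight (n : C)) _ _ (fun g => rfl)
    rw [Finset.sum_congr rfl (fun n _ => this n), Finset.sum_const, Finset.card_univ,
      nsmul_eq_mul, Nat.card_eq_fintype_card]
  have hsumW' : ∑ g : C, ∑ n : M, Ψ (g * n) * conj (Ψ (g * n)) =
      (Nat.card C : ℂ) * (Nat.card M : ℂ) +
        (Nat.card M : ℂ) * ((e : ℂ) ^ 2 * (Nat.card M : ℂ) - (Nat.card M : ℂ)) := by
    have : ∀ g : C, ∑ n : M, Ψ (g * n) * conj (Ψ (g * n)) = (Nat.card M : ℂ) +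
        (if g ∈ M then ((e : ℂ) ^ 2 * (Nat.card M : ℂ) - (Nat.card M : ℂ)) else 0) := by
      intro g
      split_ifs with hg
      · rw [hW2 g hg]; ring
      · rw [hnorm g hg, add_zero]
    rw [Finset.sum_congr rfl (fun g _ => this g), Finset.sum_add_distrib, Finset.sum_const,
      Finset.card_univ, nsmul_eq_mul,
      sum_indicator_subgroup M (fun _ => ((e : ℂ) ^ 2 * (Nat.card M : ℂ) - (Nat.card M : ℂ))),
      Finset.sum_const, Finset.card_univ, nsmul_eq_mul]
    simp only [Nat.card_eq_fintype_card]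
  have hTval : T = (Nat.card C : ℂ) + (e : ℂ) ^ 2 * (Nat.card M : ℂ) - (Nat.card M : ℂ) := by
    have h := hsumW.symm.trans hsumW'
    apply mul_left_cancel₀ hM0
    rw [h]; ring
  have hF2 : (m : ℂ) * ((∑ β, nn (ξ β) ^ 2 : ℕ) : ℂ) = (e : ℂ) ^ 2 + m - 1 := by
    rw [← hsq, ← hnormΨ]
    unfold classInner
    rw [← hT, hTval, hcardC]
    field_simp
    ring
  -- F3
  have hF3 : ∀ β, |((m : ℤ) * (nn (ξ β) : ℤ) - (e : ℤ))| ≤ (m : ℤ) - 1 := by
    intro β
    obtain ⟨ψβ, hψβ⟩ : ∃ ψβ : C → ℂ, ψβ = ((ξ β : IrrCharacter C) : C → ℂ) := ⟨_, rfl⟩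
    have hA1 : ∑ g : C, (if g ∈ M then Ψ g * conj (ψβ g) else 0) =
        (e : ℂ) * (Nat.card M : ℂ) := by
      rw [sum_indicator_subgroup M (fun g => Ψ g * conj (ψβ g)), ← hϑM, Finset.mul_sum]
      apply Finset.sum_congr rfl
      intro n _
      rw [hΨM, hψβ, hξM]; ring
    obtain ⟨u, hu⟩ : ∃ u : C → ℂ, u = fun g => if g ∈ M then 0 else Ψ g := ⟨_, rfl⟩
    obtain ⟨v, hv⟩ : ∃ v : C → ℂ, v = fun g => if g ∈ M then 0 else ψβ g := ⟨_, rfl⟩
    have hsplit : ∑ g : C, Ψ g * conj (ψβ g) =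
        (e : ℂ) * (Nat.card M : ℂ) + ∑ g : C, u g * conj (v g) := by
      rw [← hA1, ← Finset.sum_add_distrib]
      apply Finset.sum_congr rfl
      intro g _
      rw [hu, hv]
      show _ = _ + (if g ∈ M then 0 else Ψ g) * conj (if g ∈ M then 0 else ψβ g)
      split_ifs with hg
      · rw [map_zero, mul_zero, add_zero]
      · rw [zero_add]
    have hK : (0 : ℝ) ≤ (Nat.card C : ℝ) - (Nat.card M : ℝ) := by
      have : Nat.card M ≤ Nat.card C :=
        Nat.le_of_dvd Nat.card_pos (Subgroup.card_subgroup_dvd_card M)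
      exact sub_nonneg.mpr (by exact_mod_cast this)
    have huu : ∑ g : C, u g * conj (u g) =
        (((Nat.card C : ℝ) - (Nat.card M : ℝ) : ℝ) : ℂ) := by
      have h1 : ∀ g : C, u g * conj (u g) =
          Ψ g * conj (Ψ g) - (if g ∈ M then Ψ g * conj (Ψ g) else 0) := by
        intro g
        rw [hu]
        show (if g ∈ M then 0 else Ψ g) * conj (if g ∈ M then 0 else Ψ g) = _
        split_ifs with hg
        · rw [zero_mul, sub_self]
        · rw [sub_zero]
      rw [Finset.sum_congr rfl (fun g _ => h1 g), Finset.sum_sub_distrib, ← hT, hTval,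
        sum_indicator_subgroup M (fun g => Ψ g * conj (Ψ g)), hΨMsum]
      push_cast
      ring
    have hvv : ∑ g : C, v g * conj (v g) =
        (((Nat.card C : ℝ) - (Nat.card M : ℝ) : ℝ) : ℂ) := by
      have h1 : ∀ g : C, v g * conj (v g) =
          ψβ g * conj (ψβ g) - (if g ∈ M then ψβ g * conj (ψβ g) else 0) := by
        intro g
        rw [hv]
        show (if g ∈ M then 0 else ψβ g) * conj (if g ∈ M then 0 else ψβ g) = _
        split_ifs with hg
        · rw [zero_mul, sub_self]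
        · rw [sub_zero]
      have h2 : ∑ g : C, ψβ g * conj (ψβ g) = (Nat.card C : ℂ) := by
        have h := helper24.irr_classInner_self (ξ β).2
        unfold classInner at h
        rw [inv_mul_eq_iff_eq_mul₀ hC0, mul_one] at h
        rw [hψβ]; exact h
      have h3 : ∑ n : M, ψβ n * conj (ψβ n) = (Nat.card M : ℂ) := by
        rw [← hϑM]
        apply Finset.sum_congr rfl
        intro n _
        rw [hψβ, hξM]
      rw [Finset.sum_congr rfl (fun g _ => h1 g), Finset.sum_sub_distrib, h2,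
        sum_indicator_subgroup M (fun g => ψβ g * conj (ψβ g)), h3]
      push_cast
      ring
    have hCS := norm_sum_mul_conj_le u v _ hK huu hvv
    have hkey : (((m : ℤ) * (nn (ξ β) : ℤ) - (e : ℤ) : ℤ) : ℂ) =
        (m : ℂ) * (Nat.card C : ℂ)⁻¹ * ∑ g : C, u g * conj (v g) := by
      push_cast
      rw [← hn (ξ β)]
      unfold classInner
      rw [← hψβ, hsplit, hcardC]
      field_simp
      ring
    have hnorm2 : ‖(((m : ℤ) * (nn (ξ β) : ℤ) - (e : ℤ) : ℤ) : ℂ)‖ ≤ (m : ℝ) - 1 := by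
      rw [hkey, norm_mul, norm_mul, norm_inv, Complex.norm_natCast, Complex.norm_natCast]
      have hCpos : (0 : ℝ) < Nat.card C := by exact_mod_cast Nat.card_pos
      have hMpos : (0 : ℝ) < Nat.card M := by exact_mod_cast Nat.card_pos
      have hmpos : (0 : ℝ) < m := by exact_mod_cast hm0
      have hcardC' : (Nat.card C : ℝ) = (Nat.card M : ℝ) * m := by exact_mod_cast hcardC
      calc (m : ℝ) * (Nat.card C : ℝ)⁻¹ * ‖∑ g : C, u g * conj (v g)‖
          ≤ (m : ℝ) * (Nat.card C : ℝ)⁻¹ * ((Nat.card C : ℝ) - (Nat.card M : ℝ)) := by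
            apply mul_le_mul_of_nonneg_left hCS
            positivity
        _ = (m : ℝ) - 1 := by
            rw [hcardC']
            field_simp
    rw [Complex.norm_intCast] at hnorm2
    exact_mod_cast hnorm2
  have hfinal := frob_arith (fun β => (nn (ξ β) : ℤ)) (m : ℤ) (e : ℤ)
    (by exact_mod_cast hcardB) (by exact_mod_cast hm0)
    (by exact_mod_cast hF1) (by exact_mod_cast hF2) hF3
  rw [← hm]
  exact hfinal

end Clean

end Cfsg.Agent.helper22
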