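import Mathlib
import Cfsg.Agent.Lib_helper22_FrobRam2

set_option autoImplicit false
set_option linter.unusedSectionVars false
set_option linter.unusedVariables false

/-!
A fully ramified section under a cyclic Frobenius action (helper22).

* `exists_char_extension_of_cyclic` : character-level cyclic extension;
* `res_of_fully_ramified` : `θ^G = e χ`, `θ` invariant ⇒ `χ_N = e θ`;
* `indFun_conj_invariant`;
* `frob_ramification_main` : `|Γ : G|` divides `e - 1` or `e + 1`.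
-/

namespace Cfsg.Agent.helper22

open Cfsg
open scoped ComplexConjugate

universe u

section Ram
variable {G : Type u} [Group G] [Fintype G] (N : Subgroup G) [hN : N.Normal] [Fintype N]

theorem exists_char_extension_of_cyclic (hcyc : IsCyclic (G ⧸ N)) {ϑ : N → ℂ}
    (hϑ : IsIrrCharacter N ϑ)
    (hinv : ∀ (g : G) (n : N), ϑ ⟨g * n * g⁻¹, hN.conj_mem (n : G) n.2 g⟩ = ϑ n) :
    ∃ χ : G → ℂ, IsIrrCharacter G χ ∧ ∀ n : N, χ n = ϑ n := by
  obtain ⟨d, ρ, hρ, rfl⟩ := hϑ
  obtain ⟨ρG, hirr, hres⟩ := exists_extension_of_cyclic N hcyc ρ hρ hinv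
  refine ⟨ρG.character, ⟨d, ρG, hirr, rfl⟩, fun n => ?_⟩
  show LinearMap.trace ℂ _ (ρG (n : G)) = LinearMap.trace ℂ _ (ρ n)
  rw [hres n]

theorem res_of_fully_ramified {θ : N → ℂ} (hθ : IsIrrCharacter N θ)
    (hinv : ∀ g : G, helper8.conjFunN N g θ = θ) {χ : G → ℂ} (hχ : IsIrrCharacter G χ) (e : ℕ)
    (hram : indFun N θ = fun g => (e : ℂ) * χ g) :
    (e : ℂ) ≠ 0 ∧ ∀ n : N, χ n = (e : ℂ) * θ n := by
  have hχcf := helper24.char_isClassFunction (helper24.irr_isCharacter hχ)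
  have h1 : helper5.res N (indFun N θ) = (N.index : ℂ) • θ :=
    helper5.res_indFun_of_invariant N θ hinv
  have hsm : indFun N θ = (e : ℂ) • χ := by
    rw [hram]; rfl
  have hcf : IsClassFunction G (indFun N θ) := by
    rw [hram]
    intro g x
    show (e : ℂ) * χ _ = (e : ℂ) * χ g
    rw [hχcf]
  have h2 : classInner (indFun N θ) (indFun N θ) = (N.index : ℂ) := by
    rw [helper12.classInner_indFun_eq_restrict N θ _ hcf]
    have : (fun h : N => indFun N θ (h : G)) = (N.index : ℂ) • θ := h1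
    rw [this, ← helper24.classInner_conj_symm, helper24.classInner_smul_left,
      helper24.irr_classInner_self hθ, mul_one, Complex.conj_natCast]
  have h3 : classInner (indFun N θ) (indFun N θ) = (e : ℂ) ^ 2 := by
    rw [hsm, helper24.classInner_smul_left, ← helper24.classInner_conj_symm,
      helper24.classInner_smul_left, helper24.irr_classInner_self hχ, mul_one,
      Complex.conj_natCast]
    ring
  have h4 : (e : ℂ) ^ 2 = (N.index : ℂ) := h3.symm.trans h2
  have he : (e : ℂ) ≠ 0 := by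
    intro h0
    rw [h0] at h4
    have : (N.index : ℂ) ≠ 0 := Nat.cast_ne_zero.mpr Subgroup.index_ne_zero_of_finite
    exact this (by rw [← h4]; ring)
  refine ⟨he, fun n => ?_⟩
  have h5 : (e : ℂ) * χ n = (N.index : ℂ) * θ n := by
    have := congrFun h1 n
    rw [helper5.res_apply, hram] at this
    exact this
  apply mul_left_cancel₀ he
  rw [h5, ← h4]; ring

end Ram

section Conj
variable {Γ : Type u} [Group Γ] (G : Subgroup Γ) [hG : G.Normal] [Fintype G]

theorem indFun_conj_invariant (N' : Subgroup G) (θ' : N' → ℂ) (x : Γ)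
    (hx : ∀ t : G, extendByZero N' θ' ((MulAut.conjNormal x : MulAut G) t) =
      extendByZero N' θ' t) (g : G) :
    indFun N' θ' ((MulAut.conjNormal x : MulAut G) g) = indFun N' θ' g := by
  unfold indFun
  congr 1
  refine Fintype.sum_equiv (MulAut.conjNormal x : G ≃* G).symm.toEquiv _ _ ?_
  intro u
  show extendByZero N' θ' (u⁻¹ * (MulAut.conjNormal x : MulAut G) g * u) =
    extendByZero N' θ' (((MulAut.conjNormal x : G ≃* G).symm u)⁻¹ * g *
      ((MulAut.conjNormal x : G ≃* G).symm u))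
  rw [← hx (_⁻¹ * g * _), map_mul, map_mul, map_inv, MulEquiv.apply_symm_apply]

end Conj

section Main
variable {Γ : Type u} [Group Γ] [Fintype Γ] (G N : Subgroup Γ) [hG : G.Normal] [hN : N.Normal]
  [Fintype G] [Fintype N]

theorem frob_ramification_main (hNG : N ≤ G) (hGlt : G ≠ ⊤) (hcyc : IsCyclic (Γ ⧸ G))
    (hfrob : ∀ x : Γ, x ∉ G → ∀ g : Γ, g ∈ G → x * g * x⁻¹ * g⁻¹ ∈ N → g ∈ N)
    (θ : IrrCharacter N)
    (hinv : ∀ (x : Γ) (n : N),
      (θ : N → ℂ) ⟨x * n * x⁻¹, hN.conj_mem n n.2 x⟩ = (θ : N → ℂ) n)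
    (χ : IrrCharacter G) (e : ℕ)
    (hram : indFun (N.subgroupOf G) (fun n : N.subgroupOf G => (θ : N → ℂ) ⟨(n : G), n.2⟩) =
      fun g => (e : ℂ) * (χ : G → ℂ) g) :
    (G.index : ℤ) ∣ (e : ℤ) - 1 ∨ (G.index : ℤ) ∣ (e : ℤ) + 1 := by
  classical
  haveI : Fintype (N.subgroupOf G) := Fintype.ofFinite _
  obtain ⟨θ', hθ'⟩ : ∃ θ' : N.subgroupOf G → ℂ,
      θ' = fun n : N.subgroupOf G => (θ : N → ℂ) ⟨(n : G), n.2⟩ := ⟨_, rfl⟩
  rw [← hθ'] at hram
  have hθ'irr : IsIrrCharacter (N.subgroupOf G) θ' := by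
    rw [hθ']
    exact helper12.isIrrCharacter_comp_mulEquiv (Subgroup.subgroupOfEquivOfLe hNG) θ.2
  have hθ'inv : ∀ g : G, helper8.conjFunN (N.subgroupOf G) g θ' = θ' := by
    intro g
    funext n
    rw [helper8.conjFunN_apply, hθ']
    exact hinv (g : Γ) ⟨(n : G), n.2⟩
  obtain ⟨he, hχN⟩ := res_of_fully_ramified (N.subgroupOf G) hθ'irr hθ'inv χ.2 e hram
  -- χ is Γ-invariant
  have hχinv : ∀ (x : Γ) (g : G),
      (χ : G → ℂ) ⟨x * g * x⁻¹, hG.conj_mem (g : Γ) g.2 x⟩ = (χ : G → ℂ) g := by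
    intro x g
    have hx : ∀ t : G, extendByZero (N.subgroupOf G) θ' ((MulAut.conjNormal x : MulAut G) t) =
        extendByZero (N.subgroupOf G) θ' t := by
      intro t
      have hcoe : (((MulAut.conjNormal x : MulAut G) t : G) : Γ) = x * t * x⁻¹ :=
        MulAut.conjNormal_apply x t
      by_cases ht : t ∈ N.subgroupOf G
      · have ht' : (MulAut.conjNormal x : MulAut G) t ∈ N.subgroupOf G := by
          rw [Subgroup.mem_subgroupOf, hcoe]
          exact hN.conj_mem _ ht x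
        rw [helper5.extendByZero_of_mem _ _ _ ht, helper5.extendByZero_of_mem _ _ _ ht', hθ']
        show (θ : N → ℂ) ⟨(((MulAut.conjNormal x : MulAut G) t : G) : Γ), _⟩ =
          (θ : N → ℂ) ⟨(t : Γ), _⟩
        rw [← hinv x ⟨(t : Γ), ht⟩]
        congr 1
      · have ht' : (MulAut.conjNormal x : MulAut G) t ∉ N.subgroupOf G := by
          intro h
          apply ht
          rw [Subgroup.mem_subgroupOf] at h ⊢
          rw [hcoe] at h
          have := hN.conj_mem _ h x⁻¹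
          have e2 : x⁻¹ * (x * (t : Γ) * x⁻¹) * x⁻¹⁻¹ = t := by group
          rwa [e2] at this
        rw [helper5.extendByZero_of_not_mem _ _ _ ht, helper5.extendByZero_of_not_mem _ _ _ ht']
    have h1 := indFun_conj_invariant G (N.subgroupOf G) θ' x hx g
    rw [hram] at h1
    have h2 : (⟨x * g * x⁻¹, hG.conj_mem (g : Γ) g.2 x⟩ : G) =
        (MulAut.conjNormal x : MulAut G) g := Subtype.ext (MulAut.conjNormal_apply x g).symm
    rw [h2]
    exact mul_left_cancel₀ he h1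
  obtain ⟨ψ, hψ, hψG⟩ := exists_char_extension_of_cyclic G hcyc χ.2 hχinv
  have hψcf : IsClassFunction Γ ψ := helper24.char_isClassFunction (helper24.irr_isCharacter hψ)
  have hψN : ∀ n : N, ψ n = (e : ℂ) * (θ : N → ℂ) n := by
    intro n
    have h1 := hψG ⟨(n : Γ), hNG n.2⟩
    have h2 := hχN ⟨⟨(n : Γ), hNG n.2⟩, n.2⟩
    rw [hθ'] at h2
    exact h1.trans h2
  -- coset norms
  have hresG : IsIrrCharacter G (helper5.res G ψ) := by
    have : helper5.res G ψ = (χ : G → ℂ) := by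
      funext g
      exact hψG g
    rw [this]
    exact χ.2
  have hcosetG : ∀ y : Γ, ∑ g : G, ψ (y * g) * conj (ψ (y * g)) = (Nat.card G : ℂ) :=
    fun y => coset_norm_of_res_irr G hψ hresG y
  have hcosetN : ∀ y : Γ, y ∉ G →
      ∑ n : N, ψ (y * n) * conj (ψ (y * n)) = (Nat.card N : ℂ) := by
    intro y hy
    have h1 := frob_coset_sum G N hNG hfrob (fun x => ψ x * conj (ψ x))
      (fun a b => by
        show ψ _ * conj (ψ _) = _
        rw [hψcf]) y hy
    have h1' : (Nat.card G : ℂ) * ∑ n : N, ψ (y * n) * conj (ψ (y * n)) =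
        (Nat.card N : ℂ) * ∑ g : G, ψ (y * g) * conj (ψ (y * g)) := h1
    have hG0 : (Nat.card G : ℂ) ≠ 0 := Nat.cast_ne_zero.mpr Nat.card_pos.ne'
    apply mul_left_cancel₀ hG0
    rw [h1', hcosetG y, mul_comm]
  -- the subgroup C
  obtain ⟨q₀, hq₀⟩ := hcyc.exists_generator
  obtain ⟨x₀, rfl⟩ := QuotientGroup.mk_surjective q₀
  have hx₀ : x₀ ∉ G := by
    intro hx
    apply hGlt
    rw [eq_top_iff]
    intro x _
    have h1 := hq₀ (x : Γ ⧸ G)
    rw [(QuotientGroup.eq_one_iff x₀).mpr hx, Subgroup.zpowers_one_eq_bot, Subgroup.mem_bot] at h1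
    exact (QuotientGroup.eq_one_iff x).mp h1
  obtain ⟨C, hC⟩ : ∃ C : Subgroup Γ, C = N ⊔ Subgroup.zpowers x₀ := ⟨_, rfl⟩
  have hNC : N ≤ C := hC ▸ le_sup_left
  have hx₀C : x₀ ∈ C := by
    rw [hC]
    exact (le_sup_right : Subgroup.zpowers x₀ ≤ _) (Subgroup.mem_zpowers x₀)
  have hCmem : ∀ c ∈ C, ∃ a ∈ N, ∃ i : ℤ, c = a * x₀ ^ i := by
    intro c hc
    rw [hC, ← SetLike.mem_coe, Subgroup.normal_mul N (Subgroup.zpowers x₀)] at hc
    obtain ⟨a, ha, b, hb, rfl⟩ := Set.mem_mul.mp hc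
    obtain ⟨i, rfl⟩ := Subgroup.mem_zpowers_iff.mp hb
    exact ⟨a, ha, i, rfl⟩
  have hCG : ∀ c ∈ C, c ∈ G → c ∈ N := by
    intro c hc hcG
    obtain ⟨a, ha, i, rfl⟩ := hCmem c hc
    have hb : x₀ ^ i ∈ G := by
      have := G.mul_mem (G.inv_mem (hNG ha)) hcG
      rwa [inv_mul_cancel_left] at this
    have hbN : x₀ ^ i ∈ N := by
      apply hfrob x₀ hx₀ _ hb
      have : x₀ * x₀ ^ i * x₀⁻¹ * (x₀ ^ i)⁻¹ = 1 := by group
      rw [this]
      exact N.one_mem
    exact N.mul_mem ha hbN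
  have hsup : C ⊔ G = ⊤ := by
    rw [eq_top_iff]
    intro x _
    obtain ⟨i, hi⟩ := Subgroup.mem_zpowers_iff.mp (hq₀ (x : Γ ⧸ G))
    have h1 : (x₀ ^ i)⁻¹ * x ∈ G := by
      rw [← QuotientGroup.eq_one_iff, QuotientGroup.mk_mul, QuotientGroup.mk_inv,
        QuotientGroup.mk_zpow, hi, inv_mul_cancel]
    have h2 : x = x₀ ^ i * ((x₀ ^ i)⁻¹ * x) := by group
    rw [h2]
    exact Subgroup.mul_mem_sup (C.zpow_mem hx₀C i) h1
  have hindex : (N.subgroupOf C).index = G.index := by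
    have hinf : G ⊓ C = N := le_antisymm (fun c hc => hCG c hc.2 hc.1) (le_inf hNG hNC)
    have h1 : (N.subgroupOf C).index = N.relIndex C := rfl
    rw [h1, ← hinf, Subgroup.inf_relIndex_right, ← Subgroup.relIndex_sup_right C G, hsup,
      Subgroup.relIndex_top_right]
  haveI : Fintype C := Fintype.ofFinite _
  haveI : Fintype (N.subgroupOf C) := Fintype.ofFinite _
  have hcycC : IsCyclic (C ⧸ N.subgroupOf C) := by
    have hle : N.subgroupOf C ≤ Subgroup.comap C.subtype G := by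
      intro c hc
      exact hNG hc
    apply isCyclic_of_injective (QuotientGroup.map (N.subgroupOf C) G C.subtype hle)
    rw [injective_iff_map_eq_one]
    intro q hq
    obtain ⟨c, rfl⟩ := QuotientGroup.mk_surjective q
    rw [QuotientGroup.map_mk, QuotientGroup.eq_one_iff] at hq
    rw [QuotientGroup.eq_one_iff]
    exact hCG c c.2 hq
  obtain ⟨θC, hθC⟩ : ∃ θC : N.subgroupOf C → ℂ,
      θC = fun n : N.subgroupOf C => (θ : N → ℂ) ⟨((n : C) : Γ), n.2⟩ := ⟨_, rfl⟩
  have hθCirr : IsIrrCharacter (N.subgroupOf C) θC := by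
    rw [hθC]
    exact helper12.isIrrCharacter_comp_mulEquiv (Subgroup.subgroupOfEquivOfLe hNC) θ.2
  have hθCinv : ∀ (c : C) (n : N.subgroupOf C),
      θC ⟨c * n * c⁻¹, (Subgroup.normal_subgroupOf : (N.subgroupOf C).Normal).conj_mem
        (n : C) n.2 c⟩ = θC n := by
    intro c n
    rw [hθC]
    exact hinv (c : Γ) ⟨((n : C) : Γ), n.2⟩
  obtain ⟨ϑ, hϑ, hϑM⟩ := exists_char_extension_of_cyclic (N.subgroupOf C) hcycC hθCirr hθCinv
  have hresC : IsIrrCharacter (N.subgroupOf C) (helper5.res (N.subgroupOf C) ϑ) := by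
    have : helper5.res (N.subgroupOf C) ϑ = θC := by
      funext n
      exact hϑM n
    rw [this]
    exact hθCirr
  obtain ⟨Ψ, hΨdef⟩ : ∃ Ψ : C → ℂ, Ψ = fun c : C => ψ (c : Γ) := ⟨_, rfl⟩
  have hΨ : IsCharacter C Ψ := by
    rw [hΨdef]
    exact helper12.isCharacter_restrict C (helper24.irr_isCharacter hψ)
  have hΨM : ∀ n : N.subgroupOf C, Ψ n = (e : ℂ) * ϑ n := by
    intro n
    rw [hϑM n, hΨdef, hθC]
    exact hψN ⟨((n : C) : Γ), n.2⟩
  have hnormC : ∀ y : C, y ∉ N.subgroupOf C →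
      ∑ n : N.subgroupOf C, Ψ (y * n) * conj (Ψ (y * n)) =
        (Nat.card (N.subgroupOf C) : ℂ) := by
    intro y hy
    have hyG : (y : Γ) ∉ G := fun h => hy (hCG y y.2 h)
    rw [Nat.card_congr (Subgroup.subgroupOfEquivOfLe hNC).toEquiv, ← hcosetN y hyG, hΨdef]
    exact Fintype.sum_equiv (Subgroup.subgroupOfEquivOfLe hNC).toEquiv _ _ (fun n => rfl)
  have hfin := cyclic_ramification_congruence (N.subgroupOf C) hcycC hϑ hresC hΨ e hΨM hnormC
  rw [hindex] at hfin
  exact hfin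

end Main

end Cfsg.Agent.helper22
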