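import Mathlib
import Cfsg.Agent.Lib_helper22_FrobRam3
import Cfsg.Agent.Lib_helper12_CharOps
import Cfsg.Agent.Lib_helper12_IndFun
import Cfsg.Agent.Lib_helper24_CharCount
import Cfsg.Agent.Lib_helper8_Ind

set_option autoImplicit false

/-!
Fully ramified characters (helper1): vanishing off `Z`, induced characters from intermediate
subgroups are multiples of `χ`, coset orthogonality in abelian quotients.
-/

namespace Cfsg.Agent.helper1

open Cfsg
open scoped ComplexConjugate

universe u

section FullRam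
variable {H : Type u} [Group H] [Fintype H]

/-- a fully ramified character vanishes off `Z` -/
theorem fullram_vanish (Z : Subgroup H) {χ : H → ℂ} (hχ : IsIrrCharacter H χ) {θ : Z → ℂ}
    (hθ : IsIrrCharacter Z θ) (e : ℕ) (he : e ^ 2 = Z.index)
    (hres : ∀ z : Z, χ z = (e : ℂ) * θ z) (h : H) (hh : h ∉ Z) : χ h = 0 := by
  classical
  have : Fintype Z := Fintype.ofFinite _
  have h1 : ∑ g : H, χ g * conj (χ g) = (Nat.card H : ℂ) := by
    have := helper24.irr_classInner_self hχ
    unfold classInner at this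
    have hne : (Nat.card H : ℂ) ≠ 0 := by
      have : 0 < Nat.card H := Nat.card_pos
      exact_mod_cast this.ne'
    field_simp at this
    exact this
  have h2 : ∑ z : Z, θ z * conj (θ z) = (Nat.card Z : ℂ) := by
    have := helper24.irr_classInner_self hθ
    unfold classInner at this
    have hne : (Nat.card Z : ℂ) ≠ 0 := by
      have : 0 < Nat.card Z := Nat.card_pos
      exact_mod_cast this.ne'
    field_simp at this
    exact this
  have h1r : ∑ g : H, Complex.normSq (χ g) = (Nat.card H : ℝ) := by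
    have : ((∑ g : H, Complex.normSq (χ g) : ℝ) : ℂ) = ((Nat.card H : ℝ) : ℂ) := by
      push_cast
      rw [← h1]
      apply Finset.sum_congr rfl
      intro g _
      rw [Complex.mul_conj]
    exact_mod_cast this
  have h2r : ∑ z : Z, Complex.normSq (θ z) = (Nat.card Z : ℝ) := by
    have : ((∑ z : Z, Complex.normSq (θ z) : ℝ) : ℂ) = ((Nat.card Z : ℝ) : ℂ) := by
      push_cast
      rw [← h2]
      apply Finset.sum_congr rfl
      intro g _
      rw [Complex.mul_conj]
    exact_mod_cast this
  have h3 : ∑ g ∈ Finset.univ.filter (fun g : H => g ∈ Z), Complex.normSq (χ g)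
      = (Nat.card H : ℝ) := by
    rw [Finset.sum_subtype (p := fun g => g ∈ Z) _ (fun x => by simp)]
    have : ∀ z : Z, Complex.normSq (χ z) = (e : ℝ) ^ 2 * Complex.normSq (θ z) := by
      intro z
      rw [hres z, Complex.normSq_mul, Complex.normSq_natCast]
      ring
    rw [Finset.sum_congr rfl (fun z _ => this z), ← Finset.mul_sum, h2r]
    have := Subgroup.index_mul_card Z
    rw [← this, ← he]
    push_cast
    ring
  have h4 : ∑ g ∈ Finset.univ.filter (fun g : H => ¬ g ∈ Z), Complex.normSq (χ g) = 0 := by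
    have := Finset.sum_filter_add_sum_filter_not Finset.univ (fun g : H => g ∈ Z)
      (fun g => Complex.normSq (χ g))
    rw [h3, h1r] at this
    linarith
  have h5 := (Finset.sum_eq_zero_iff_of_nonneg (fun g _ => Complex.normSq_nonneg (χ g))).mp h4 h
    (by simp [hh])
  exact Complex.normSq_eq_zero.mp h5

/-- a character of an intermediate subgroup lying over a multiple of `θ` induces to a
multiple of `χ`, hence vanishes off `Z` -/
theorem fullram_ind_vanish (Z K : Subgroup H) (hZK : Z ≤ K) {χ : H → ℂ} (hχ : IsIrrCharacter H χ)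
    {θ : Z → ℂ} (hθ : IsIrrCharacter Z θ) (e : ℕ) (he : e ^ 2 = Z.index)
    (hres : ∀ z : Z, χ z = (e : ℂ) * θ z)
    {η : K → ℂ} (hη : IsCharacter K η) (d : ℕ)
    (hηZ : ∀ (z : H) (hz : z ∈ Z), η ⟨z, hZK hz⟩ = (d : ℂ) * θ ⟨z, hz⟩)
    (c : H) (hc : c ∉ Z) : indFun K η c = 0 := by
  classical
  have : Fintype Z := Fintype.ofFinite _
  have : Fintype K := Fintype.ofFinite _
  have : Fintype (IrrCharacter H) := Fintype.ofFinite _
  have hvan := fullram_vanish Z hχ hθ e he hres
  have hχcf := helper24.char_isClassFunction (helper24.irr_isCharacter hχ)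
  have hind : IsCharacter H (indFun K η) := helper12.isCharacter_indFun K hη
  obtain ⟨n, hexp, hn, _⟩ := helper12.char_decomp hind
  set χ' : IrrCharacter H := ⟨χ, hχ⟩ with hχ'
  have hKpos : 0 < Nat.card K := Nat.card_pos
  have hKne : (Nat.card K : ℂ) ≠ 0 := by exact_mod_cast hKpos.ne'
  have h2 : ∑ z : Z, θ z * conj (θ z) = (Nat.card Z : ℂ) := by
    have := helper24.irr_classInner_self hθ
    unfold classInner at this
    have hne : (Nat.card Z : ℂ) ≠ 0 := by
      have : 0 < Nat.card Z := Nat.card_pos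
      exact_mod_cast this.ne'
    field_simp at this
    exact this
  -- multiplicity of χ
  have hmult : (n χ' : ℂ) * (Nat.card K : ℂ) = (d : ℂ) * (e : ℂ) * (Nat.card Z : ℂ) := by
    rw [← hn χ']
    show classInner (indFun K η) χ * _ = _
    rw [helper12.classInner_indFun K η χ hχcf]
    have hsum : ∑ g : H, extendByZero K η g * conj (χ g)
        = ∑ g ∈ Finset.univ.filter (fun g : H => g ∈ Z), extendByZero K η g * conj (χ g) := by
      symm
      apply Finset.sum_subset (Finset.filter_subset _ _)
      intro g _ hg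
      rw [Finset.mem_filter] at hg
      push Not at hg
      rw [hvan g (hg (Finset.mem_univ g)), map_zero, mul_zero]
    rw [hsum, Finset.sum_subtype (p := fun g => g ∈ Z) _ (fun x => by simp)]
    have : ∀ z : Z, extendByZero K η (z : H) * conj (χ z)
        = (d : ℂ) * (e : ℂ) * (θ z * conj (θ z)) := by
      intro z
      rw [helper12.extendByZero_of_mem' K η _ (hZK z.2), hηZ z.1 z.2, hres z, map_mul,
        Complex.conj_natCast]
      ring
    rw [Finset.sum_congr rfl (fun z _ => this z), ← Finset.mul_sum, h2]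
    field_simp
  have hmultN : n χ' * Nat.card K = d * e * Nat.card Z := by exact_mod_cast hmult
  -- degrees
  have hdeg : ∀ φ : IrrCharacter H, ∃ k : ℕ, 0 < k ∧ (φ : H → ℂ) 1 = k :=
    fun φ => helper24.irr_apply_one φ.2
  choose deg hdegpos hdeg using hdeg
  obtain ⟨t, htpos, ht⟩ := helper24.irr_apply_one hθ
  have hdegχ : deg χ' = e * t := by
    have h1 := hdeg χ'
    have h3 := hres 1
    have : ((deg χ' : ℕ) : ℂ) = ((e * t : ℕ) : ℂ) := by
      rw [← h1]
      show χ 1 = _
      have h4 : χ ((1 : Z) : H) = (e : ℂ) * θ 1 := h3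
      rw [Subgroup.coe_one] at h4
      rw [h4, ht]
      push_cast
      ring
    exact_mod_cast this
  have hind1 : indFun K η 1 * (Nat.card K : ℂ) = (Nat.card H : ℂ) * ((d : ℂ) * (t : ℂ)) := by
    unfold indFun
    have : ∀ x : H, extendByZero K η (x⁻¹ * 1 * x) = (d : ℂ) * (t : ℂ) := by
      intro x
      have hx : x⁻¹ * 1 * x = 1 := by group
      rw [hx, helper12.extendByZero_of_mem' K η 1 K.one_mem]
      have := hηZ 1 Z.one_mem
      have h5 : (⟨1, hZK Z.one_mem⟩ : K) = ⟨1, K.one_mem⟩ := rfl
      rw [← h5, this]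
      have h6 : (⟨1, Z.one_mem⟩ : Z) = 1 := rfl
      rw [h6, ht]
    rw [Finset.sum_congr rfl (fun x _ => this x), Finset.sum_const, Finset.card_univ,
      nsmul_eq_mul, Nat.card_eq_fintype_card (α := H)]
    field_simp
  have hsumdeg : indFun K η 1 = ∑ φ : IrrCharacter H, (n φ : ℂ) * (deg φ : ℂ) := by
    have := congrFun hexp 1
    rw [this, Finset.sum_apply]
    apply Finset.sum_congr rfl
    intro φ _
    rw [Pi.smul_apply, smul_eq_mul, hdeg φ]
  have hsumN : (∑ φ : IrrCharacter H, n φ * deg φ) * Nat.card K = Nat.card H * (d * t) := by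
    have : ((((∑ φ : IrrCharacter H, n φ * deg φ) * Nat.card K : ℕ)) : ℂ)
        = ((Nat.card H * (d * t) : ℕ) : ℂ) := by
      push_cast
      rw [← hsumdeg]
      exact hind1
    exact_mod_cast this
  have hχterm : (n χ' * deg χ') * Nat.card K = Nat.card H * (d * t) := by
    rw [hdegχ]
    have h7 := Subgroup.index_mul_card Z
    calc n χ' * (e * t) * Nat.card K = (n χ' * Nat.card K) * (e * t) := by ring
      _ = d * e * Nat.card Z * (e * t) := by rw [hmultN]
      _ = (e ^ 2 * Nat.card Z) * (d * t) := by ring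
      _ = Nat.card H * (d * t) := by rw [he, h7]
  have heq : ∑ φ : IrrCharacter H, n φ * deg φ = n χ' * deg χ' :=
    Nat.eq_of_mul_eq_mul_right hKpos (hsumN.trans hχterm.symm)
  have hrest : ∀ φ : IrrCharacter H, φ ≠ χ' → n φ = 0 := by
    intro φ hφ
    have h8 := Finset.add_sum_erase Finset.univ (fun φ : IrrCharacter H => n φ * deg φ)
      (Finset.mem_univ χ')
    rw [heq] at h8
    have h9 : ∑ φ ∈ Finset.univ.erase χ', n φ * deg φ = 0 := by omega
    have h10 := (Finset.sum_eq_zero_iff.mp h9) φ (Finset.mem_erase.mpr ⟨hφ, Finset.mem_univ φ⟩)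
    rcases Nat.mul_eq_zero.mp h10 with h | h
    · exact h
    · exact absurd h (hdegpos φ).ne'
  have := congrFun hexp c
  rw [this, Finset.sum_apply, Finset.sum_eq_single χ']
  · rw [Pi.smul_apply, smul_eq_mul]
    show _ * χ c = 0
    rw [hvan c hc, mul_zero]
  · intro φ _ hφ
    rw [hrest φ hφ, Nat.cast_zero, zero_smul]
    rfl
  · intro h; exact absurd (Finset.mem_univ _) h

end FullRam

section CosetOrth
variable {K : Type u} [Group K] [Fintype K]

open scoped Classical in
/-- column orthogonality in a commutative quotient -/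
theorem coset_orth (N : Subgroup K) [N.Normal] [Fintype (IrrCharacter (K ⧸ N))]
    (hab : ∀ a b : K ⧸ N, a * b = b * a) (c g : K ⧸ N) :
    ∑ β : IrrCharacter (K ⧸ N), conj ((β : K ⧸ N → ℂ) c) * (β : K ⧸ N → ℂ) g
      = if g = c then (N.index : ℂ) else 0 := by
  classical
  have h := helper24.irr_column_orthogonality (G := K ⧸ N) g c
  have h1 : ∑ β : IrrCharacter (K ⧸ N), conj ((β : K ⧸ N → ℂ) c) * (β : K ⧸ N → ℂ) g
      = ∑ β : IrrCharacter (K ⧸ N), (β : K ⧸ N → ℂ) g * conj ((β : K ⧸ N → ℂ) c) :=
    Finset.sum_congr rfl (fun β _ => mul_comm _ _)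
  rw [h1, h]
  have hconj : IsConj g c ↔ g = c := by
    rw [isConj_iff]
    constructor
    · rintro ⟨x, hx⟩
      rw [hab x g, mul_assoc, mul_inv_cancel, mul_one] at hx
      exact hx
    · intro hgc
      exact ⟨1, by simp [hgc]⟩
  have hcent : Subgroup.centralizer ({c} : Set (K ⧸ N)) = ⊤ := by
    rw [eq_top_iff]
    intro x _
    rw [Subgroup.mem_centralizer_iff]
    intro y hy
    exact hab y x
  by_cases hgc : g = c
  · rw [if_pos (hconj.mpr hgc), if_pos hgc, hcent, Subgroup.index_eq_card]
    congr 1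
    exact Nat.card_congr Subgroup.topEquiv.toEquiv
  · rw [if_neg (fun h => hgc (hconj.mp h)), if_neg hgc]

end CosetOrth

end Cfsg.Agent.helper1
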