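import Mathlib
import Cfsg.Prelude
import Cfsg.Agent.Lib_helper1_PrincBlock
import Cfsg.Agent.Lib_helper1_GalChar

set_option autoImplicit false
set_option linter.unusedVariables false
set_option linter.unusedSectionVars false
set_option linter.style.longLine false
set_option linter.style.haveILetI false

namespace Cfsg.Agent.helper1

open Cfsg
open scoped ComplexConjugate

universe u

section GalFix

variable {G : Type u} [Group G] [Fintype G]

/-- `χ (g ^ k) ≡ χ g` modulo `M` when `g ↦ g ^ k` fixes the `p`-regular elements -/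
theorem char_pow_sub_memIdeal (p : ℕ) [Fact p.Prime] (M : Ideal AlgInt) (hM : IsPModular p M)
    (k : ℕ) (hk₂ : ∀ g : G, ¬ p ∣ orderOf g → g ^ k = g) {χ : G → ℂ} (hχ : IsCharacter G χ)
    (g : G) : helper24.MemIdeal M (χ (g ^ k) - χ g) := by
  classical
  have hpp : p.Prime := Fact.out
  obtain ⟨n, ρ, rfl⟩ := hχ
  obtain ⟨o, ho⟩ : ∃ o, o = orderOf g := ⟨_, rfl⟩
  have hopos : 0 < o := ho ▸ orderOf_pos g
  have hf : (ρ g) ^ o = 1 := by rw [← map_pow, ho, pow_orderOf_eq_one, map_one]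
  obtain ⟨S, m, hS, h⟩ := trace_pow_eq_sum (ρ g) o hopos hf
  have hchar : ∀ j : ℕ, ρ.character (g ^ j) = ∑ μ ∈ S, (m μ : ℂ) * μ ^ j := by
    intro j
    rw [← h j, ← map_pow]
    rfl
  have h1 := hchar 1
  rw [pow_one] at h1
  rw [hchar k, h1, ← Finset.sum_sub_distrib]
  apply helper24.MemIdeal.sum
  intro μ hμ
  have hμo : μ ^ o = 1 := hS μ hμ
  set P := p ^ (o.factorization p) with hP
  -- the modular relation
  have hmod : P * k ≡ P [MOD o] := by
    have hord : orderOf (g ^ P) = o / P := by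
      have hP0 : P ≠ 0 := pow_ne_zero _ hpp.ne_zero
      rw [orderOf_pow' g hP0, ← ho, Nat.gcd_eq_right (Nat.ordProj_dvd o p)]
    have hnd : ¬ p ∣ orderOf (g ^ P) := by
      rw [hord]
      exact Nat.not_dvd_ordCompl hpp hopos.ne'
    have h2 := hk₂ (g ^ P) hnd
    rw [← pow_mul] at h2
    have h3 := (pow_eq_pow_iff_modEq (x := g)).1 h2
    rwa [← ho] at h3
  have hμmod : μ ^ (P * k) = μ ^ P := by
    rw [pow_eq_pow_mod (P * k) hμo, pow_eq_pow_mod P hμo]
    congr 1
  set ε := μ ^ k * μ ^ (o - 1) with hε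
  have hεP : ε ^ P = 1 := by
    rw [hε, mul_pow, ← pow_mul, ← pow_mul, mul_comm k P, hμmod]
    have : μ ^ P * μ ^ ((o - 1) * P) = (μ ^ o) ^ P := by
      rw [← pow_mul, ← pow_add]
      congr 1
      have : o = (o - 1) + 1 := (Nat.sub_add_cancel hopos).symm
      nth_rewrite 2 [this]
      ring
    rw [this, hμo, one_pow]
  have hμε : μ * ε = μ ^ k := by
    rw [hε]
    have : μ * (μ ^ k * μ ^ (o - 1)) = μ ^ k * μ ^ ((o - 1) + 1) := by ring
    rw [this, Nat.sub_add_cancel hopos, hμo, mul_one]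
  have hμint : IsIntegral ℤ μ := by
    refine ⟨Polynomial.X ^ o - 1, Polynomial.monic_X_pow_sub_C 1 hopos.ne', ?_⟩
    simp [hμo]
  have hmem := helper24.memIdeal_sub_one_of_pow hM hεP
  have h4 := (hmem.mul_integral hμint).mul_integral (isIntegral_natCast (R := ℤ) (B := ℂ) (m μ))
  have h5 : (m μ : ℂ) * (μ * (ε - 1)) = (m μ : ℂ) * μ ^ k - (m μ : ℂ) * μ ^ 1 := by
    rw [mul_sub, mul_one, hμε, pow_one, mul_sub]
  rw [h5] at h4
  exact h4

/-- the power map preserves membership in the principal block, for characters of `p'`-degree -/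
theorem powMap_mem_principalBlock (p : ℕ) [Fact p.Prime] (M : Ideal AlgInt) (hM : IsPModular p M)
    (k : ℕ) (hkc : k.Coprime (Nat.card G)) (hk₂ : ∀ g : G, ¬ p ∣ orderOf g → g ^ k = g)
    (χ : IrrCharacter G) (hχ : χ ∈ principalBlock M G)
    (hdeg : ¬ p ∣ charDegree (χ : G → ℂ)) :
    (⟨fun g => (χ : G → ℂ) (g ^ k), isIrrCharacter_powMap k hkc χ.2⟩ : IrrCharacter G) ∈
      principalBlock M G := by
  have hMp : M.IsPrime := hM.2.1.isPrime
  intro g
  have h1 : MemLocalIdeal M (centralChar (fun _ : G => (1 : ℂ)) g - centralChar (χ : G → ℂ) g) :=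
    hχ g
  have hχc := helper24.irr_isCharacter χ.2
  have h2 : MemLocalIdeal M (centralChar (χ : G → ℂ) g -
      centralChar (fun g => (χ : G → ℂ) (g ^ k)) g) := by
    have h3 := (char_pow_sub_memIdeal p M hM k hk₂ hχc g).neg.mul_integral
      (isIntegral_natCast (R := ℤ) (B := ℂ) (Subgroup.centralizer ({g} : Set G)).index)
    obtain ⟨a, ha, hav⟩ := h3
    refine ⟨a, (charDegree (χ : G → ℂ) : AlgInt), ha,
      helper23.natCast_not_mem_of_not_dvd hM _ hdeg, ?_⟩
    rw [hav]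
    unfold centralChar
    have h4 : ((charDegree (χ : G → ℂ) : AlgInt) : ℂ) = (χ : G → ℂ) 1 := by
      rw [← helper24.char_charDegree_cast hχc]
      push_cast
      rfl
    rw [h4]
    show _ = _ - _ * (χ : G → ℂ) (g ^ k) / (χ : G → ℂ) (1 ^ k)
    rw [one_pow]
    ring
  have h5 := helper24.memLocalIdeal_add h1 h2
  have h6 : centralChar (fun _ : G => (1 : ℂ)) g - centralChar (χ : G → ℂ) g +
      (centralChar (χ : G → ℂ) g - centralChar (fun g => (χ : G → ℂ) (g ^ k)) g) =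
      centralChar (fun _ : G => (1 : ℂ)) g - centralChar (fun g => (χ : G → ℂ) (g ^ k)) g := by
    ring
  rw [h6] at h5
  exact h5

theorem three_pow_two_pow (n : ℕ) : 3 ^ (2 ^ n) ≡ 1 [MOD 2 ^ (n + 1)] := by
  have h : ∀ n : ℕ, ∃ t : ℕ, 3 ^ (2 ^ n) = 1 + 2 ^ (n + 1) * t := by
    intro n
    induction n with
    | zero => exact ⟨1, by norm_num⟩
    | succ n ih =>
      obtain ⟨t, ht⟩ := ih
      refine ⟨t + 2 ^ n * t ^ 2, ?_⟩
      rw [pow_succ 2 n, pow_mul, ht]
      ring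
  obtain ⟨t, ht⟩ := h n
  rw [ht]
  exact ((Nat.modEq_iff_dvd' (Nat.le_add_right 1 _)).2 (by simp)).symm

/-- iterating the power map `2 ^ |G|` times gives the identity -/
theorem pow_iter_eq (k : ℕ) (hk₁ : ∀ g : G, (∃ j : ℕ, orderOf g = 2 ^ j) → g ^ k = g ^ 3)
    (hk₂ : ∀ g : G, Odd (orderOf g) → g ^ k = g) (g : G) :
    g ^ (k ^ (2 ^ Nat.card G)) = g := by
  classical
  obtain ⟨o, ho⟩ : ∃ o, o = orderOf g := ⟨_, rfl⟩
  have hopos : 0 < o := ho ▸ orderOf_pos g
  set a := o.factorization 2 with ha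
  set P := 2 ^ a with hP
  set m := o / P with hm
  have hPm : P * m = o := Nat.ordProj_mul_ordCompl_eq_self o 2
  have hP0 : P ≠ 0 := pow_ne_zero _ two_ne_zero
  have hm0 : m ≠ 0 := by
    rintro h
    rw [h, mul_zero] at hPm
    omega
  have hordx : orderOf (g ^ m) = P := by
    rw [orderOf_pow' g hm0, ← ho, Nat.gcd_eq_right (Dvd.intro_left P hPm)]
    exact Nat.div_eq_of_eq_mul_left (Nat.pos_of_ne_zero hm0) hPm.symm
  have hordy : orderOf (g ^ P) = m := by
    rw [orderOf_pow' g hP0, ← ho, Nat.gcd_eq_right (Dvd.intro m hPm)]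
  have hk3 : k ≡ 3 [MOD P] := by
    have h1 := hk₁ (g ^ m) ⟨a, hordx⟩
    have h2 := (pow_eq_pow_iff_modEq (x := g ^ m)).1 h1
    rwa [hordx] at h2
  have hmodd : Odd m := by
    rw [← Nat.not_even_iff_odd, even_iff_two_dvd]
    exact Nat.not_dvd_ordCompl Nat.prime_two hopos.ne'
  have hk1 : k ≡ 1 [MOD m] := by
    have h1 := hk₂ (g ^ P) (by rw [hordy]; exact hmodd)
    have h2 : (g ^ P) ^ k = (g ^ P) ^ 1 := by rw [h1, pow_one]
    have h3 := (pow_eq_pow_iff_modEq (x := g ^ P)).1 h2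
    rwa [hordy] at h3
  set N := Nat.card G with hN
  have haN : a ≤ N + 1 := by
    have h1 : P ≤ o := Nat.le_of_dvd hopos (Dvd.intro m hPm)
    have h2 : o ≤ N := by rw [ho, hN, Nat.card_eq_fintype_card]; exact orderOf_le_card_univ
    have h3 : a < 2 ^ a := Nat.lt_two_pow_self
    omega
  have hA : k ^ (2 ^ N) ≡ 1 [MOD P] := by
    have h1 : k ^ (2 ^ N) ≡ 3 ^ (2 ^ N) [MOD P] := hk3.pow _
    have h2 : 3 ^ (2 ^ N) ≡ 1 [MOD P] :=
      (three_pow_two_pow N).of_dvd (pow_dvd_pow 2 haN)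
    exact h1.trans h2
  have hB : k ^ (2 ^ N) ≡ 1 [MOD m] := by
    have h1 : k ^ (2 ^ N) ≡ 1 ^ (2 ^ N) [MOD m] := hk1.pow _
    rwa [one_pow] at h1
  have hcop : Nat.Coprime P m :=
    (Nat.coprime_ordCompl Nat.prime_two hopos.ne').pow_left a
  have hC : k ^ (2 ^ N) ≡ 1 [MOD o] := by
    rw [← hPm]
    exact (Nat.modEq_and_modEq_iff_modEq_mul hcop).1 ⟨hA, hB⟩
  have hfin : g ^ (k ^ (2 ^ N)) = g ^ 1 := by
    rw [pow_eq_pow_iff_modEq, ← ho]
    exact hC
  rwa [pow_one] at hfin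

theorem coprime_of_pow_conditions (hev : Even (Nat.card G)) (k : ℕ)
    (hk₁ : ∀ g : G, (∃ j : ℕ, orderOf g = 2 ^ j) → g ^ k = g ^ 3)
    (hk₂ : ∀ g : G, Odd (orderOf g) → g ^ k = g) : k.Coprime (Nat.card G) := by
  classical
  rw [Nat.coprime_iff_gcd_eq_one]
  by_contra hne
  obtain ⟨r, hr, hrd⟩ := Nat.exists_prime_and_dvd hne
  have hrk : r ∣ k := hrd.trans (Nat.gcd_dvd_left _ _)
  have hrG : r ∣ Nat.card G := hrd.trans (Nat.gcd_dvd_right _ _)
  haveI : Fact r.Prime := ⟨hr⟩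
  obtain ⟨g, hg⟩ := exists_prime_orderOf_dvd_card' (G := G) r hrG
  have hgk : g ^ k = 1 := by
    rw [← orderOf_dvd_iff_pow_eq_one, hg]
    exact hrk
  have hg1 : g ≠ 1 := by
    intro h
    rw [h, orderOf_one] at hg
    exact hr.one_lt.ne hg
  by_cases h2 : r = 2
  · have h3 := hk₁ g ⟨1, by rw [hg, h2, pow_one]⟩
    have h4 : g ^ 2 = 1 := by rw [← h2, ← hg, pow_orderOf_eq_one]
    have h5 : g ^ 3 = g := by
      rw [pow_succ, h4, one_mul]
    rw [hgk, h5] at h3
    exact hg1 h3.symm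
  · have hodd : Odd (orderOf g) := by
      rw [hg]
      exact hr.odd_of_ne_two h2
    have h3 := hk₂ g hodd
    rw [hgk] at h3
    exact hg1 h3.symm

theorem even_card_galois_fixed_odd (M : Ideal AlgInt) (hM : IsPModular 2 M)
    (hev : Even (Nat.card G)) (k : ℕ)
    (hk₁ : ∀ g : G, (∃ j : ℕ, orderOf g = 2 ^ j) → g ^ k = g ^ 3)
    (hk₂ : ∀ g : G, Odd (orderOf g) → g ^ k = g) :
    Even (Nat.card {χ : IrrCharacter G // χ ∈ principalBlock M G ∧
      Odd (charDegree (χ : G → ℂ)) ∧ ∀ g : G, (χ : G → ℂ) (g ^ k) = (χ : G → ℂ) g}) := by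
  classical
  haveI : Fact (Nat.Prime 2) := ⟨Nat.prime_two⟩
  have hkc := coprime_of_pow_conditions hev k hk₁ hk₂
  have hk₂' : ∀ g : G, ¬ 2 ∣ orderOf g → g ^ k = g := by
    intro g hg
    apply hk₂ g
    rwa [← Nat.not_even_iff_odd, even_iff_two_dvd]
  haveI : Fintype (IrrCharacter G) := Fintype.ofFinite _
  set pw : IrrCharacter G → IrrCharacter G :=
    fun χ => ⟨fun g => (χ : G → ℂ) (g ^ k), isIrrCharacter_powMap k hkc χ.2⟩ with hpw
  have hdeg : ∀ χ : IrrCharacter G, charDegree ((pw χ : IrrCharacter G) : G → ℂ) =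
      charDegree (χ : G → ℂ) := by
    intro χ
    unfold charDegree
    show ⌊((χ : G → ℂ) (1 ^ k)).re⌋₊ = _
    rw [one_pow]
  let X := {χ : IrrCharacter G // χ ∈ principalBlock M G ∧ Odd (charDegree (χ : G → ℂ))}
  let f : Function.End X := fun χ => ⟨pw χ.1,
    powMap_mem_principalBlock 2 M hM k hkc hk₂' χ.1 χ.2.1
      (by
        have := χ.2.2
        rwa [← Nat.not_even_iff_odd, even_iff_two_dvd] at this),
    by rw [hdeg]; exact χ.2.2⟩
  have hiter : ∀ (j : ℕ) (χ : X) (g : G),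
      ((((f ^ j) χ : X).1 : IrrCharacter G) : G → ℂ) g = ((χ.1 : IrrCharacter G) : G → ℂ) (g ^ (k ^ j)) := by
    intro j
    induction j with
    | zero =>
      intro χ g
      rw [pow_zero, pow_zero, pow_one]
      rfl
    | succ j ih =>
      intro χ g
      rw [pow_succ]
      show ((((f ^ j) (f χ) : X).1 : IrrCharacter G) : G → ℂ) g = _
      rw [ih (f χ) g]
      show ((χ.1 : IrrCharacter G) : G → ℂ) ((g ^ (k ^ j)) ^ k) = _
      rw [← pow_mul, ← pow_succ]
  have hf : f ^ (2 ^ (Nat.card G)) = 1 := by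
    funext χ
    apply Subtype.ext
    apply Subtype.ext
    funext g
    rw [hiter, pow_iter_eq k hk₁ hk₂]
    rfl
  have hmod := Equiv.Perm.card_fixedPoints_modEq (p := 2) (n := Nat.card G) hf
  rw [← Nat.card_eq_fintype_card, ← Nat.card_eq_fintype_card] at hmod
  -- the cardinality of X is even
  have h2G : 2 ∣ Nat.card G := even_iff_two_dvd.1 hev
  have hdvd := dvd_sum_sq_degrees_block 2 M hM (principalBlock M G) (isPBlock_principalBlock M) h2G
  rw [← even_iff_two_dvd, Finset.even_sum_iff_even_card_odd] at hdvd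
  have hcardX : Nat.card X = (((Set.toFinite (principalBlock M G)).toFinset).filter
      (fun χ : IrrCharacter G => Odd ((charDegree (χ : G → ℂ)) ^ 2))).card := by
    rw [Nat.card_eq_fintype_card, Fintype.card_subtype]
    congr 1
    ext χ
    have hop : Odd ((charDegree (χ : G → ℂ)) ^ 2) ↔ Odd (charDegree (χ : G → ℂ)) := by
      constructor
      · intro h
        exact Nat.Odd.of_mul_right (by rwa [pow_two] at h)
      · intro h
        exact h.pow
    simp [hop]
  have hXeven : Even (Nat.card X) := by rw [hcardX]; exact hdvd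
  -- fixed points
  let e : ↥(Function.fixedPoints f) ≃ {χ : IrrCharacter G // χ ∈ principalBlock M G ∧
      Odd (charDegree (χ : G → ℂ)) ∧ ∀ g : G, (χ : G → ℂ) (g ^ k) = (χ : G → ℂ) g} :=
    { toFun := fun x => ⟨x.1.1, x.1.2.1, x.1.2.2, fun g => by
        have h1 : f x.1 = x.1 := x.2
        have h2 : (((f x.1 : X).1 : IrrCharacter G) : G → ℂ) g = ((x.1.1 : IrrCharacter G) : G → ℂ) g := by
          rw [h1]
        exact h2⟩
      invFun := fun y => ⟨⟨y.1, y.2.1, y.2.2.1⟩, by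
        show f _ = _
        apply Subtype.ext
        apply Subtype.ext
        funext g
        exact y.2.2.2 g⟩
      left_inv := fun x => rfl
      right_inv := fun y => rfl }
  rw [← Nat.card_congr e]
  rw [Nat.even_iff] at hXeven ⊢
  rw [← hXeven]
  exact hmod.symm

end GalFix

end Cfsg.Agent.helper1
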