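import Mathlib
import Cfsg.Agent.Lib_helper1_Galois

set_option autoImplicit false
set_option linter.unusedVariables false
set_option linter.unusedSectionVars false
set_option linter.style.longLine false
set_option linter.style.haveILetI false

namespace Cfsg.Agent.helper1

variable {G : Type*} [Group G] [Finite G]
variable {V : Type*} [AddCommGroup V] [Module ℂ V] [FiniteDimensional ℂ V]

/-- If `t` is prime to `|G|` then `g` is a power of `g ^ t`. -/
theorem exists_zpow_of_coprime (t : ℕ) (ht : t.Coprime (Nat.card G)) (g : G) :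
    ∃ z : ℤ, (g ^ t) ^ z = g :=
  ⟨_, (powCoprime (G := G) ht.symm).left_inv g⟩

theorem pow_mem_iff_of_coprime (H : Subgroup G) (t : ℕ) (ht : t.Coprime (Nat.card G)) (g : G) :
    g ^ t ∈ H ↔ g ∈ H := by
  constructor
  · intro h
    obtain ⟨z, hz⟩ := exists_zpow_of_coprime t ht g
    rw [← hz]
    exact H.zpow_mem h z
  · intro h
    exact H.pow_mem h t

/-- the Galois conjugate of a character value vanishes iff the value does -/
theorem char_pow_galExp_eq_zero_iff (σ : cycField (Nat.card G) →ₐ[ℚ] ℂ)
    (ρ : Representation ℂ G V) (g : G) :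
    ρ.character (g ^ galExp (Nat.card G) card_ne_zero' σ) = 0 ↔ ρ.character g = 0 := by
  have h := galois_char σ ρ g ⟨ρ.character g, char_mem_cycField ρ g⟩ rfl
  rw [← h, map_eq_zero_iff σ σ.injective]
  constructor
  · intro h0
    have := congrArg (Subtype.val) h0
    simpa using this
  · intro h0
    apply Subtype.ext
    simpa using h0

/-- **Burnside–Gallagher averaging**: on a set `S` of group elements stable under the Galois
power maps and on which the character does not vanish, the mean of `|χ|²` is at least one. -/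
theorem card_le_sum_normSq (ρ : Representation ℂ G V) (S : Finset G)
    (hS : ∀ (σ : cycField (Nat.card G) →ₐ[ℚ] ℂ) (g : G),
      g ∈ S ↔ g ^ galExp (Nat.card G) card_ne_zero' σ ∈ S)
    (hne : ∀ g ∈ S, ρ.character g ≠ 0) :
    (S.card : ℝ) ≤ ∑ g ∈ S, ‖ρ.character g‖ ^ 2 := by
  classical
  set N := Nat.card G with hNdef
  have hN : N ≠ 0 := card_ne_zero'
  let x : G → cycField N := fun g => ⟨ρ.character g, char_mem_cycField ρ g⟩
  let P : cycField N := ∏ g ∈ S, x g
  have hPval : (P : ℂ) = ∏ g ∈ S, ρ.character g := by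
    simp only [P]
    push_cast
    rfl
  have hP0 : P ≠ 0 := by
    intro h
    have : (P : ℂ) = 0 := by rw [h]; rfl
    rw [hPval, Finset.prod_eq_zero_iff] at this
    obtain ⟨g, hg, hg0⟩ := this
    exact hne g hg hg0
  have hPint : IsIntegral ℤ (P : ℂ) := by
    rw [hPval]
    exact IsIntegral.prod _ fun g _ => isIntegral_char ρ g
  have hfix : ∀ σ : cycField N →ₐ[ℚ] ℂ, σ P = (P : ℂ) := by
    intro σ
    have ht := galExp_coprime N hN σ
    have h1 : σ P = ∏ g ∈ S, ρ.character (g ^ galExp N hN σ) := by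
      simp only [P, map_prod]
      refine Finset.prod_congr rfl fun g _ => ?_
      exact galois_char σ ρ g (x g) rfl
    rw [h1, hPval]
    have hc : (Nat.card G).Coprime (galExp N hN σ) := ht.symm
    refine Finset.prod_equiv (powCoprime hc) ?_ ?_
    · intro g
      exact hS σ g
    · intro g _
      rfl
  have hnorm := one_le_norm_of_fixed N hN P hPint hP0 hfix
  have hpos : ∀ g ∈ S, 0 < ‖ρ.character g‖ ^ 2 := fun g hg => by
    have := norm_pos_iff.mpr (hne g hg)
    positivity
  have hprod : 1 ≤ ∏ g ∈ S, ‖ρ.character g‖ ^ 2 := by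
    rw [Finset.prod_pow, ← norm_prod, ← hPval]
    exact one_le_pow₀ hnorm
  have hlog : 0 ≤ ∑ g ∈ S, Real.log (‖ρ.character g‖ ^ 2) := by
    rw [← Real.log_prod (fun g hg => (hpos g hg).ne')]
    exact Real.log_nonneg hprod
  have hle : ∑ g ∈ S, Real.log (‖ρ.character g‖ ^ 2) ≤ ∑ g ∈ S, (‖ρ.character g‖ ^ 2 - 1) :=
    Finset.sum_le_sum fun g hg => Real.log_le_sub_one_of_pos (hpos g hg)
  rw [Finset.sum_sub_distrib, Finset.sum_const, nsmul_eq_mul, mul_one] at hle
  linarith

end Cfsg.Agent.helper1
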