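import Mathlib
import Cfsg.Agent.Lib_helper1_GaloisSum

set_option autoImplicit false
set_option linter.unusedVariables false
set_option linter.unusedSectionVars false
set_option linter.style.longLine false
set_option linter.style.haveILetI false

namespace Cfsg.Agent.helper1

variable {G : Type*} [Group G] [Finite G]
variable {V : Type*} [AddCommGroup V] [Module ℂ V] [FiniteDimensional ℂ V]

/-- the product of the nonzero values of a character over a Galois-stable set has absolute
value at least one -/
theorem one_le_norm_prod_char (ρ : Representation ℂ G V) (S : Finset G)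
    (hS : ∀ (σ : cycField (Nat.card G) →ₐ[ℚ] ℂ) (g : G),
      g ∈ S ↔ g ^ galExp (Nat.card G) card_ne_zero' σ ∈ S)
    (hne : ∀ g ∈ S, ρ.character g ≠ 0) :
    1 ≤ ‖∏ g ∈ S, ρ.character g‖ := by
  classical
  set N := Nat.card G with hNdef
  have hN : N ≠ 0 := card_ne_zero'
  let x : G → cycField N := fun g => ⟨ρ.character g, char_mem_cycField ρ g⟩
  let P : cycField N := ∏ g ∈ S, x g
  have hPval : (P : ℂ) = ∏ g ∈ S, ρ.character g := by
    simp only [P]
    push_cast
    rfl
  have hP0 : P ≠ 0 := by
    intro h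
    have : (P : ℂ) = 0 := by rw [h]; rfl
    rw [hPval, Finset.prod_eq_zero_iff] at this
    obtain ⟨g, hg, hg0⟩ := this
    exact hne g hg hg0
  have hPint : IsIntegral ℤ (P : ℂ) := by
    rw [hPval]
    exact IsIntegral.prod _ fun g _ => isIntegral_char ρ g
  have hfix : ∀ σ : cycField N →ₐ[ℚ] ℂ, σ P = (P : ℂ) := by
    intro σ
    have ht := galExp_coprime N hN σ
    have h1 : σ P = ∏ g ∈ S, ρ.character (g ^ galExp N hN σ) := by
      simp only [P, map_prod]
      refine Finset.prod_congr rfl fun g _ => ?_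
      exact galois_char σ ρ g (x g) rfl
    rw [h1, hPval]
    have hc : (Nat.card G).Coprime (galExp N hN σ) := ht.symm
    refine Finset.prod_equiv (powCoprime hc) ?_ ?_
    · intro g
      exact hS σ g
    · intro g _
      rfl
  have hnorm := one_le_norm_of_fixed N hN P hPint hP0 hfix
  rw [hPval] at hnorm
  exact hnorm

/-- AM-GM in the form needed: positive reals with product at least one have sum at least
their number -/
theorem card_le_sum_of_one_le_prod {ι : Type*} (S : Finset ι) (f : ι → ℝ)
    (hpos : ∀ i ∈ S, 0 < f i) (hprod : 1 ≤ ∏ i ∈ S, f i) : (S.card : ℝ) ≤ ∑ i ∈ S, f i := by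
  have hlog : 0 ≤ ∑ i ∈ S, Real.log (f i) := by
    rw [← Real.log_prod (fun i hi => (hpos i hi).ne')]
    exact Real.log_nonneg hprod
  have hle : ∑ i ∈ S, Real.log (f i) ≤ ∑ i ∈ S, (f i - 1) :=
    Finset.sum_le_sum fun i hi => Real.log_le_sub_one_of_pos (hpos i hi)
  rw [Finset.sum_sub_distrib, Finset.sum_const, nsmul_eq_mul, mul_one] at hle
  linarith

/-- first-power version of `card_le_sum_normSq` -/
theorem card_le_sum_norm (ρ : Representation ℂ G V) (S : Finset G)
    (hS : ∀ (σ : cycField (Nat.card G) →ₐ[ℚ] ℂ) (g : G),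
      g ∈ S ↔ g ^ galExp (Nat.card G) card_ne_zero' σ ∈ S)
    (hne : ∀ g ∈ S, ρ.character g ≠ 0) :
    (S.card : ℝ) ≤ ∑ g ∈ S, ‖ρ.character g‖ := by
  have h1 := one_le_norm_prod_char ρ S hS hne
  rw [norm_prod] at h1
  exact card_le_sum_of_one_le_prod S _ (fun g hg => norm_pos_iff.mpr (hne g hg)) h1

end Cfsg.Agent.helper1
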