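import Mathlib

set_option autoImplicit false
set_option linter.unusedVariables false
set_option linter.unusedSectionVars false
set_option linter.style.longLine false
set_option linter.style.haveILetI false

namespace Cfsg.Agent.helper1

open Module

section Spectral

variable {V : Type*} [AddCommGroup V] [Module ℂ V] [FiniteDimensional ℂ V]

/-- trace of the restriction to a generalized eigenspace -/
theorem trace_restrict_maxGenEigenspace (A : Module.End ℂ V) (μ : ℂ) :
    LinearMap.trace ℂ _ (A.restrict (A.mapsTo_maxGenEigenspace_of_comm (Commute.refl A) μ)) =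
      μ * finrank ℂ (A.maxGenEigenspace μ) := by
  have hnil := A.isNilpotent_restrict_maxGenEigenspace_sub_algebraMap μ
  have h0 : LinearMap.trace ℂ _ ((A - algebraMap ℂ (Module.End ℂ V) μ).restrict
      (Module.End.mapsTo_maxGenEigenspace_of_comm (Algebra.mul_sub_algebraMap_commutes A μ) μ)) = 0 :=
    (LinearMap.isNilpotent_trace_of_isNilpotent hnil).eq_zero
  have hdecomp : A.restrict (A.mapsTo_maxGenEigenspace_of_comm (Commute.refl A) μ) =
      (A - algebraMap ℂ (Module.End ℂ V) μ).restrict
        (Module.End.mapsTo_maxGenEigenspace_of_comm (Algebra.mul_sub_algebraMap_commutes A μ) μ)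
      + μ • LinearMap.id := by
    apply LinearMap.ext
    intro v
    apply Subtype.ext
    show A (v : V) = (A - algebraMap ℂ (Module.End ℂ V) μ) (v : V) + μ • (v : V)
    rw [LinearMap.sub_apply, Module.algebraMap_end_apply, sub_add_cancel]
  rw [hdecomp, map_add, h0, zero_add, map_smul, LinearMap.trace_id, smul_eq_mul]

/-- spectral decomposition of the trace and of the dimension -/
theorem trace_eq_sum_genEigen (A : Module.End ℂ V) :
    ∃ S : Finset ℂ, (∀ μ ∈ S, A.HasEigenvalue μ) ∧ (∀ μ, μ ∉ S → A.maxGenEigenspace μ = ⊥) ∧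
      LinearMap.trace ℂ V A = ∑ μ ∈ S, μ * finrank ℂ (A.maxGenEigenspace μ) ∧
      (finrank ℂ V : ℂ) = ∑ μ ∈ S, (finrank ℂ (A.maxGenEigenspace μ) : ℂ) := by
  classical
  have hind := A.independent_maxGenEigenspace
  have htop := A.iSup_maxGenEigenspace_eq_top
  have hds := DirectSum.isInternal_submodule_of_iSupIndep_of_iSup_eq_top hind htop
  have hfin : {μ | A.maxGenEigenspace μ ≠ ⊥}.Finite :=
    WellFoundedGT.finite_ne_bot_of_iSupIndep hind
  refine ⟨hfin.toFinset, ?_, ?_, ?_, ?_⟩
  · intro μ hμ
    rw [Set.Finite.mem_toFinset] at hμ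
    have h1 : A.maxGenEigenspace μ ≠ ⊥ := hμ
    rw [Module.End.maxGenEigenspace_eq_genEigenspace_finrank] at h1
    have : A.HasGenEigenvalue μ (finrank ℂ V) := h1
    exact Module.End.hasEigenvalue_of_hasGenEigenvalue this
  · intro μ hμ
    rw [Set.Finite.mem_toFinset] at hμ
    by_contra h
    exact hμ h
  · rw [LinearMap.trace_eq_sum_trace_restrict' hds hfin
      (fun μ => A.mapsTo_maxGenEigenspace_of_comm (Commute.refl A) μ)]
    exact Finset.sum_congr rfl fun μ _ => trace_restrict_maxGenEigenspace A μ
  · have h1 := LinearMap.trace_eq_sum_trace_restrict' hds hfin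
      (f := (LinearMap.id : V →ₗ[ℂ] V)) (fun μ v hv => hv)
    rw [LinearMap.trace_id] at h1
    rw [h1]
    refine Finset.sum_congr rfl fun μ _ => ?_
    have : (LinearMap.id : V →ₗ[ℂ] V).restrict (p := A.maxGenEigenspace μ) (fun v hv => hv) =
        LinearMap.id := by
      apply LinearMap.ext
      intro v
      rfl
    rw [this, LinearMap.trace_id]

/-- eigenvalues of an endomorphism killed by a monic integer polynomial are algebraic integers -/
theorem isIntegral_of_hasEigenvalue (A : Module.End ℂ V) (p : Polynomial ℤ) (hp : p.Monic)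
    (hpA : Polynomial.aeval A p = 0) (μ : ℂ) (hμ : A.HasEigenvalue μ) : IsIntegral ℤ μ := by
  obtain ⟨v, hv⟩ := hμ.exists_hasEigenvector
  refine ⟨p, hp, ?_⟩
  have h1 : Polynomial.aeval A (p.map (algebraMap ℤ ℂ)) = 0 := by
    rw [Polynomial.aeval_map_algebraMap]
    exact hpA
  have h2 := Module.End.aeval_apply_of_hasEigenvector (p := p.map (algebraMap ℤ ℂ)) hv
  rw [h1, LinearMap.zero_apply] at h2
  have h3 : Polynomial.eval μ (p.map (algebraMap ℤ ℂ)) = 0 := by
    rcases smul_eq_zero.mp h2.symm with h | h
    · exact h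
    · exact absurd h hv.2
  rw [Polynomial.eval_map] at h3
  exact h3

end Spectral

end Cfsg.Agent.helper1
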