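import Mathlib
import Cfsg.Prelude
import Cfsg.Agent.Lib_helper1_RepEquiv
import Cfsg.Agent.Lib_helper1_Spectral
import Cfsg.Agent.Lib_helper1_RepBridge
import Cfsg.Agent.Lib_helper12_CharOps
import Cfsg.Agent.Lib_helper24_Char

set_option autoImplicit false
set_option linter.unusedVariables false
set_option linter.unusedSectionVars false
set_option linter.style.longLine false
set_option linter.style.haveILetI false

namespace Cfsg.Agent.helper1

open Cfsg Module

section PermChar

variable {G : Type*} [Group G] {Ω : Type*} [Fintype Ω] [MulAction G Ω]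

/-- the permutation character counts fixed points -/
theorem permRep_character (g : G) :
    (permRep ℂ G Ω).character g = (Nat.card (MulAction.fixedBy Ω g) : ℂ) := by
  classical
  show LinearMap.trace ℂ (Ω → ℂ) (permRep ℂ G Ω g) = _
  rw [LinearMap.trace_eq_matrix_trace ℂ (Pi.basisFun ℂ Ω), Matrix.trace]
  have hdiag : ∀ ω : Ω, (LinearMap.toMatrix (Pi.basisFun ℂ Ω) (Pi.basisFun ℂ Ω)
      (permRep ℂ G Ω g)).diag ω = if g • ω = ω then 1 else 0 := by
    intro ω
    rw [Matrix.diag_apply, LinearMap.toMatrix_apply]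
    simp only [Pi.basisFun_apply, Pi.basisFun_repr]
    show (Pi.single ω (1 : ℂ) : Ω → ℂ) (g⁻¹ • ω) = _
    rw [Pi.single_apply]
    have : g⁻¹ • ω = ω ↔ g • ω = ω := by
      constructor
      · intro h; rw [← h, smul_inv_smul]; exact h.symm ▸ rfl
      · intro h; rw [inv_smul_eq_iff, h]
    simp only [this]
  rw [Finset.sum_congr rfl (fun ω _ => hdiag ω), Finset.sum_boole]
  congr 1
  rw [Nat.card_eq_fintype_card, Fintype.card_subtype]
  rfl

end PermChar

section SubrepMod

variable {G : Type*} [Group G] [Fintype G]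
variable {V : Type*} [AddCommGroup V] [Module ℂ V] [FiniteDimensional ℂ V]

/-- the inner product of a character with the principal character is the dimension of the
fixed points -/
theorem classInner_one_eq_finrank_invariants (ρ : Representation ℂ G V) :
    classInner ρ.character (fun _ => (1 : ℂ)) = (finrank ℂ (Representation.invariants ρ) : ℂ) := by
  haveI : Invertible (Nat.card G : ℂ) := invertibleOfNonzero (by
    exact_mod_cast (Nat.card_pos (α := G)).ne')
  rw [← Representation.card_inv_mul_sum_char_eq_finrank]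
  unfold classInner
  simp

/-- If `f` divides the degrees of all nonprincipal irreducible constituents of `ρ`, then the
dimension of every subrepresentation is congruent mod `f` to the dimension of its fixed points. -/
theorem finrank_subrep_mod (ρ : Representation ℂ G V) (f : ℕ)
    (hf : ∀ χ : G → ℂ, IsIrrCharacter G χ → χ ≠ (fun _ => 1) →
      classInner ρ.character χ ≠ 0 → ∃ m : ℕ, χ 1 = (f : ℂ) * m)
    (W : Subrepresentation ρ) :
    ∃ c : ℕ, finrank ℂ W.toSubmodule =
      finrank ℂ (Representation.invariants W.toRepresentation) + f * c := by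
  classical
  haveI : Finite G := Finite.of_fintype G
  haveI : Fintype (IrrCharacter G) := Fintype.ofFinite _
  set ψ := W.toRepresentation.character with hψdef
  have hψ : IsCharacter G ψ := isCharacter_character _
  obtain ⟨n, hexp, hn, -⟩ := helper12.char_decomp hψ
  obtain ⟨W', hW'⟩ := exists_subrep_isCompl ρ W
  have hψ' : IsCharacter G W'.toRepresentation.character := isCharacter_character _
  -- multiplicities in ρ dominate those in ψ
  have hne : ∀ φ : IrrCharacter G, n φ ≠ 0 → classInner ρ.character (φ : G → ℂ) ≠ 0 := by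
    intro φ hφ
    have hadd : ρ.character = ψ + W'.toRepresentation.character := by
      funext g
      exact character_eq_add_of_isCompl ρ W W' hW' g
    rw [hadd, helper24.classInner_add_left, hn φ]
    obtain ⟨n', hn'⟩ := helper12.classInner_char_nat hψ' (helper24.irr_isCharacter φ.2)
    rw [hn']
    have : (0 : ℕ) < n φ + n' := by omega
    exact_mod_cast this.ne'
  -- the degrees
  have hdeg : ∀ φ : IrrCharacter G, φ ≠ helper24.irrOne G → n φ ≠ 0 →
      ∃ m : ℕ, (φ : G → ℂ) 1 = (f : ℂ) * m := by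
    intro φ hφ1 hφ
    apply hf _ φ.2 _ (hne φ hφ)
    intro h
    apply hφ1
    exact Subtype.ext h
  let m : IrrCharacter G → ℕ := fun φ =>
    if h : φ ≠ helper24.irrOne G ∧ n φ ≠ 0 then (hdeg φ h.1 h.2).choose else 0
  have hm : ∀ φ : IrrCharacter G, φ ≠ helper24.irrOne G →
      (n φ : ℂ) * (φ : G → ℂ) 1 = (f : ℂ) * ((n φ * m φ : ℕ) : ℂ) := by
    intro φ hφ1
    by_cases hφ : n φ = 0
    · simp [hφ]
    · have : m φ = (hdeg φ hφ1 hφ).choose := by
        simp only [m]
        rw [dif_pos ⟨hφ1, hφ⟩]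
      rw [(hdeg φ hφ1 hφ).choose_spec, this]
      push_cast
      ring
  have h1 : ψ 1 = (finrank ℂ W.toSubmodule : ℂ) := by
    rw [hψdef, Representation.char_one]
  have hn1 : (n (helper24.irrOne G) : ℂ) =
      (finrank ℂ (Representation.invariants W.toRepresentation) : ℂ) := by
    rw [← hn, ← classInner_one_eq_finrank_invariants]
    rfl
  refine ⟨∑ φ ∈ Finset.univ.erase (helper24.irrOne G), n φ * m φ, ?_⟩
  have hval : ψ 1 = ∑ φ : IrrCharacter G, (n φ : ℂ) * (φ : G → ℂ) 1 := by
    conv_lhs => rw [hexp]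
    simp [Finset.sum_apply]
  rw [← Finset.add_sum_erase Finset.univ _ (Finset.mem_univ (helper24.irrOne G)), h1] at hval
  have hone : ((helper24.irrOne G : IrrCharacter G) : G → ℂ) 1 = 1 := rfl
  rw [hone, mul_one, hn1,
    Finset.sum_congr rfl (fun φ hφ => hm φ (Finset.ne_of_mem_erase hφ)), ← Finset.mul_sum] at hval
  exact_mod_cast hval

/-- dimension of the fixed points of a subrepresentation when the fixed points of the whole
space are spanned by one vector -/
theorem finrank_invariants_subrep (ρ : Representation ℂ G V) (v₀ : V) (hv₀ : v₀ ≠ 0)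
    (hfix : ∀ g, ρ g v₀ = v₀) (hfixall : ∀ v, (∀ g, ρ g v = v) → ∃ c : ℂ, v = c • v₀)
    (W : Subrepresentation ρ) [Decidable (v₀ ∈ W.toSubmodule)] :
    finrank ℂ (Representation.invariants W.toRepresentation) =
      if v₀ ∈ W.toSubmodule then 1 else 0 := by
  have hcoe : ∀ w : Representation.invariants W.toRepresentation, ∃ c : ℂ, ((w : W.toSubmodule) : V) = c • v₀ := by
    intro w
    apply hfixall
    intro g
    have := w.2 g
    exact congrArg Subtype.val this
  split_ifs with h
  · let w₀ : Representation.invariants W.toRepresentation := ⟨⟨v₀, h⟩, fun g => Subtype.ext (hfix g)⟩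
    have hw₀ : w₀ ≠ 0 := by
      intro h0
      apply hv₀
      have := congrArg (fun w : Representation.invariants W.toRepresentation => ((w : W.toSubmodule) : V)) h0
      exact this
    refine finrank_eq_one w₀ hw₀ ?_
    intro w
    obtain ⟨c, hc⟩ := hcoe w
    refine ⟨c, ?_⟩
    apply Subtype.ext
    apply Subtype.ext
    rw [hc]
    rfl
  · haveI : Subsingleton (Representation.invariants W.toRepresentation) := by
      refine ⟨fun a b => ?_⟩
      have h0 : ∀ w : Representation.invariants W.toRepresentation, w = 0 := by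
        intro w
        obtain ⟨c, hc⟩ := hcoe w
        by_cases hc0 : c = 0
        · apply Subtype.ext
          apply Subtype.ext
          rw [hc, hc0, zero_smul]
          rfl
        · exfalso
          apply h
          have : v₀ = c⁻¹ • ((w : W.toSubmodule) : V) := by
            rw [hc, smul_smul, inv_mul_cancel₀ hc0, one_smul]
          rw [this]
          exact W.toSubmodule.smul_mem _ (w : W.toSubmodule).2
      rw [h0 a, h0 b]
    exact Module.finrank_zero_of_subsingleton

/-- **Trace of a commuting integral operator**: if `A` commutes with the representation `ρ`, is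
killed by a monic integer polynomial, the `G`-fixed vectors are spanned by an eigenvector `v₀`
of `A` with eigenvalue `k`, and `f` divides the degrees of all nonprincipal irreducible
constituents of `ρ`, then `trace A ≡ k` modulo `f` times an algebraic integer. -/
theorem trace_commuting_mod (ρ : Representation ℂ G V) (f : ℕ)
    (hf : ∀ χ : G → ℂ, IsIrrCharacter G χ → χ ≠ (fun _ => 1) →
      classInner ρ.character χ ≠ 0 → ∃ m : ℕ, χ 1 = (f : ℂ) * m)
    (A : V →ₗ[ℂ] V) (hcomm : ∀ g, A ∘ₗ ρ g = ρ g ∘ₗ A)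
    (p : Polynomial ℤ) (hp : p.Monic) (hpA : Polynomial.aeval A p = 0)
    (v₀ : V) (hv₀ : v₀ ≠ 0) (hfix : ∀ g, ρ g v₀ = v₀)
    (hfixall : ∀ v, (∀ g, ρ g v = v) → ∃ c : ℂ, v = c • v₀)
    (k : ℂ) (hk : A v₀ = k • v₀) :
    ∃ z : ℂ, IsIntegral ℤ z ∧ LinearMap.trace ℂ V A = k + f * z := by
  classical
  obtain ⟨S, hS, hSbot, htr, -⟩ := trace_eq_sum_genEigen (A : Module.End ℂ V)
  -- generalized eigenspaces as subrepresentations
  let E : ℂ → Subrepresentation ρ := fun μ =>
    { toSubmodule := Module.End.maxGenEigenspace (A : Module.End ℂ V) μ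
      apply_mem_toSubmodule := fun g v hv =>
        Module.End.mapsTo_maxGenEigenspace_of_comm
          (f := (A : Module.End ℂ V)) (g := (ρ g : Module.End ℂ V)) (hcomm g) μ hv }
  -- membership of v₀
  have hpow : ∀ (μ : ℂ) (N : ℕ), (((A : Module.End ℂ V) - μ • 1) ^ N) v₀ = (k - μ) ^ N • v₀ := by
    intro μ N
    induction N with
    | zero => simp
    | succ N ih =>
      rw [pow_succ', Module.End.mul_apply, ih, map_smul, LinearMap.sub_apply, hk,
        LinearMap.smul_apply, Module.End.one_apply, ← sub_smul, smul_smul, pow_succ]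
  have hmem : ∀ μ : ℂ, v₀ ∈ (E μ).toSubmodule ↔ μ = k := by
    intro μ
    constructor
    · intro h
      have h' : v₀ ∈ Module.End.maxGenEigenspace (A : Module.End ℂ V) μ := h
      rw [Module.End.mem_maxGenEigenspace] at h'
      obtain ⟨N, hN⟩ := h'
      rw [hpow μ N] at hN
      rcases smul_eq_zero.mp hN with h1 | h1
      · by_contra hne
        have hne' : k - μ ≠ 0 := sub_ne_zero.mpr (Ne.symm hne)
        exact pow_ne_zero N hne' h1
      · exact absurd h1 hv₀
    · rintro rfl
      show v₀ ∈ Module.End.maxGenEigenspace (A : Module.End ℂ V) μ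
      apply Module.End.eigenspace_le_maxGenEigenspace
      rw [Module.End.mem_eigenspace_iff]
      exact hk
  have hkS : k ∈ S := by
    by_contra hk'
    have := hSbot k hk'
    have h1 : v₀ ∈ (E k).toSubmodule := (hmem k).mpr rfl
    have h2 : v₀ ∈ Module.End.maxGenEigenspace (A : Module.End ℂ V) k := h1
    rw [this] at h2
    exact hv₀ ((Submodule.mem_bot ℂ).mp h2)
  -- dimensions
  have hdim : ∀ μ : ℂ, ∃ c : ℕ, finrank ℂ (Module.End.maxGenEigenspace (A : Module.End ℂ V) μ) =
      (if μ = k then 1 else 0) + f * c := by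
    intro μ
    obtain ⟨c, hc⟩ := finrank_subrep_mod ρ f hf (E μ)
    refine ⟨c, ?_⟩
    rw [finrank_invariants_subrep ρ v₀ hv₀ hfix hfixall (E μ)] at hc
    simp only [hmem μ] at hc
    exact hc
  choose c hc using hdim
  refine ⟨∑ μ ∈ S, μ * (c μ : ℂ), ?_, ?_⟩
  · refine IsIntegral.sum _ fun μ hμ => IsIntegral.mul ?_ (isIntegral_natCast _)
    exact isIntegral_of_hasEigenvalue (A : Module.End ℂ V) p hp hpA μ (hS μ hμ)
  · rw [htr]
    have : ∀ μ ∈ S, μ * (finrank ℂ (Module.End.maxGenEigenspace (A : Module.End ℂ V) μ) : ℂ) =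
        (if μ = k then μ else 0) + (f : ℂ) * (μ * (c μ : ℂ)) := by
      intro μ _
      rw [hc μ]
      split_ifs <;> push_cast <;> ring
    rw [Finset.sum_congr rfl this, Finset.sum_add_distrib, Finset.sum_ite_eq' S k (fun μ => μ),
      if_pos hkS, Finset.mul_sum]

end SubrepMod

section Orbital

variable {G : Type*} [Group G] [Fintype G] {Ω : Type*} [Fintype Ω] [MulAction G Ω]

open Classical in
/-- the adjacency matrix of the orbital of `(a, b)` -/
noncomputable def orbMat (G : Type*) [Group G] {Ω : Type*} [MulAction G Ω] (a b : Ω) :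
    Matrix Ω Ω ℤ :=
  fun ω ω' => if ∃ g : G, g • a = ω ∧ g • b = ω' then 1 else 0

theorem orbMat_smul (a b : Ω) (g : G) (ω ω' : Ω) :
    orbMat G a b (g • ω) (g • ω') = orbMat G a b ω ω' := by
  classical
  unfold orbMat
  congr 1
  apply propext
  constructor
  · rintro ⟨h, h1, h2⟩
    refine ⟨g⁻¹ * h, ?_, ?_⟩
    · rw [mul_smul, h1, inv_smul_smul]
    · rw [mul_smul, h2, inv_smul_smul]
  · rintro ⟨h, h1, h2⟩
    exact ⟨g * h, by rw [mul_smul, h1], by rw [mul_smul, h2]⟩

/-- the ring homomorphism from integer matrices to complex endomorphisms -/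
noncomputable def matToEnd (Ω : Type*) [Fintype Ω] [DecidableEq Ω] :
    Matrix Ω Ω ℤ →+* Module.End ℂ (Ω → ℂ) :=
  ((Matrix.toLinAlgEquiv' : Matrix Ω Ω ℂ ≃ₐ[ℂ] _).toRingEquiv.toRingHom).comp
    (Int.castRingHom ℂ).mapMatrix

theorem matToEnd_apply [DecidableEq Ω] (M : Matrix Ω Ω ℤ) (v : Ω → ℂ) (ω : Ω) :
    matToEnd Ω M v ω = ∑ ω', (M ω ω' : ℂ) * v ω' := by
  show (Matrix.toLin' ((Int.castRingHom ℂ).mapMatrix M)) v ω = _
  rw [Matrix.toLin'_apply, Matrix.mulVec]
  rfl

theorem aeval_matToEnd_charpoly [DecidableEq Ω] (M : Matrix Ω Ω ℤ) :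
    Polynomial.aeval (matToEnd Ω M) M.charpoly = 0 := by
  have := Polynomial.aeval_algHom_apply (matToEnd Ω).toIntAlgHom M M.charpoly
  rw [Matrix.aeval_self_charpoly, map_zero] at this
  exact this

/-- the orbital operator commutes with the permutation representation -/
theorem orbOp_comm [DecidableEq Ω] (a b : Ω) (g : G) :
    (matToEnd Ω (orbMat G a b)) ∘ₗ (permRep ℂ G Ω g) =
      (permRep ℂ G Ω g) ∘ₗ (matToEnd Ω (orbMat G a b)) := by
  apply LinearMap.ext
  intro v
  funext ω
  show matToEnd Ω (orbMat G a b) (permRep ℂ G Ω g v) ω =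
    (matToEnd Ω (orbMat G a b) v) (g⁻¹ • ω)
  rw [matToEnd_apply, matToEnd_apply]
  refine Fintype.sum_equiv (MulAction.toPerm g⁻¹) _ _ ?_
  intro ω'
  show ((orbMat G a b ω ω' : ℤ) : ℂ) * v (g⁻¹ • ω') =
    ((orbMat G a b (g⁻¹ • ω) (g⁻¹ • ω') : ℤ) : ℂ) * v (g⁻¹ • ω')
  rw [orbMat_smul]

/-- row sums of the orbital matrix are the subdegree -/
theorem orbMat_row_sum [MulAction.IsPretransitive G Ω] (a b ω : Ω) :
    ∑ ω', orbMat G a b ω ω' = (Nat.card (MulAction.orbit (MulAction.stabilizer G a) b) : ℤ) := by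
  classical
  obtain ⟨g₀, rfl⟩ := MulAction.exists_smul_eq G a ω
  have h1 : ∑ ω', orbMat G a b (g₀ • a) ω' = ∑ ω', orbMat G a b a ω' := by
    refine (Fintype.sum_equiv (MulAction.toPerm g₀) _ _ ?_).symm
    intro ω'
    show orbMat G a b a ω' = orbMat G a b (g₀ • a) (g₀ • ω')
    rw [orbMat_smul]
  rw [h1]
  have hrw : ∀ ω' : Ω, orbMat G a b a ω' =
      if (∃ g : G, g • a = a ∧ g • b = ω') then (1 : ℤ) else 0 := fun ω' => by
    unfold orbMat
    congr
  rw [Finset.sum_congr rfl (fun ω' _ => hrw ω'), Finset.sum_boole]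
  congr 1
  rw [Nat.card_eq_fintype_card, ← Set.toFinset_card]
  congr 1
  ext ω'
  simp only [Finset.mem_filter, Finset.mem_univ, true_and, Set.mem_toFinset, MulAction.mem_orbit_iff]
  constructor
  · rintro ⟨g, hg1, hg2⟩
    exact ⟨⟨g, hg1⟩, hg2⟩
  · rintro ⟨⟨g, hg1⟩, hg2⟩
    exact ⟨g, hg1, hg2⟩

theorem orbMat_diag (a b : Ω) (hab : b ≠ a) (ω : Ω) : orbMat G a b ω ω = 0 := by
  classical
  unfold orbMat
  rw [if_neg]
  rintro ⟨g, h1, h2⟩
  apply hab
  have : g • b = g • a := h2.trans h1.symm
  exact (MulAction.injective g) this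

/-- **Divisibility of subdegrees** (Frame/Wielandt): if `f` divides the degree of every
non-principal irreducible constituent of the permutation character of a transitive group, then
`f` divides every non-trivial subdegree. -/
theorem dvd_subdegree [MulAction.IsPretransitive G Ω] (f : ℕ)
    (hf : ∀ χ : G → ℂ, IsIrrCharacter G χ → χ ≠ (fun _ => 1) →
      classInner (fun g : G => (Nat.card (MulAction.fixedBy Ω g) : ℂ)) χ ≠ 0 →
      ∃ m : ℕ, χ 1 = (f : ℂ) * m) (a b : Ω) (hab : b ≠ a) :
    f ∣ Nat.card (MulAction.orbit (MulAction.stabilizer G a) b) := by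
  classical
  set k := Nat.card (MulAction.orbit (MulAction.stabilizer G a) b) with hkdef
  have hchar : (permRep ℂ G Ω).character = fun g : G => (Nat.card (MulAction.fixedBy Ω g) : ℂ) :=
    funext fun g => permRep_character g
  have hf' : ∀ χ : G → ℂ, IsIrrCharacter G χ → χ ≠ (fun _ => 1) →
      classInner (permRep ℂ G Ω).character χ ≠ 0 → ∃ m : ℕ, χ 1 = (f : ℂ) * m := by
    rw [hchar]; exact hf
  set A := matToEnd Ω (orbMat G a b) with hA
  let v₀ : Ω → ℂ := fun _ => 1
  have hv₀ : v₀ ≠ 0 := by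
    intro h
    have := congrFun h a
    simp [v₀] at this
  have hfix : ∀ g, permRep ℂ G Ω g v₀ = v₀ := fun g => rfl
  have hfixall : ∀ v, (∀ g, permRep ℂ G Ω g v = v) → ∃ c : ℂ, v = c • v₀ := by
    intro v hv
    refine ⟨v a, ?_⟩
    funext ω
    obtain ⟨g, rfl⟩ := MulAction.exists_smul_eq G a ω
    have := congrFun (hv g⁻¹) a
    have h2 : permRep ℂ G Ω g⁻¹ v a = v (g • a) := by
      show v ((g⁻¹)⁻¹ • a) = v (g • a)
      rw [inv_inv]
    rw [h2] at this
    rw [this]
    simp [v₀]
  have hk : A v₀ = (k : ℂ) • v₀ := by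
    funext ω
    rw [hA, matToEnd_apply]
    simp only [v₀, mul_one, Pi.smul_apply, smul_eq_mul]
    rw [← Int.cast_sum, orbMat_row_sum]
    simp [hkdef]
  obtain ⟨z, hz, htr⟩ := trace_commuting_mod (permRep ℂ G Ω) f hf' A
    (fun g => orbOp_comm a b g) (orbMat G a b).charpoly (Matrix.charpoly_monic _)
    (aeval_matToEnd_charpoly _) v₀ hv₀ hfix hfixall (k : ℂ) hk
  have htr0 : LinearMap.trace ℂ (Ω → ℂ) A = 0 := by
    rw [LinearMap.trace_eq_matrix_trace ℂ (Pi.basisFun ℂ Ω), Matrix.trace]
    refine Finset.sum_eq_zero fun ω _ => ?_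
    rw [Matrix.diag_apply, LinearMap.toMatrix_apply]
    simp only [Pi.basisFun_apply, Pi.basisFun_repr]
    rw [hA, matToEnd_apply]
    refine Finset.sum_eq_zero fun ω' _ => ?_
    rw [Pi.single_apply]
    split_ifs with h
    · rw [h, orbMat_diag a b hab]; simp
    · simp
  rw [htr0] at htr
  -- k = - f z
  by_cases hf0 : f = 0
  · subst hf0
    have : (k : ℂ) = 0 := by simpa using htr.symm
    have hk0 : k = 0 := by exact_mod_cast this
    rw [hk0]
  · have hfC : (f : ℂ) ≠ 0 := by exact_mod_cast hf0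
    have hzq : z = algebraMap ℚ ℂ (-(k : ℚ) / f) := by
      have : (f : ℂ) * z = -(k : ℂ) := by linear_combination -htr
      have hz' : z = -(k : ℂ) / f := by field_simp; linear_combination this
      rw [hz']
      push_cast
      rfl
    rw [hzq] at hz
    have hzQ : IsIntegral ℤ (-(k : ℚ) / f) :=
      (isIntegral_algebraMap_iff (algebraMap ℚ ℂ).injective).mp hz
    obtain ⟨n, hn⟩ := IsIntegrallyClosed.isIntegral_iff.mp hzQ
    have hfQ : (f : ℚ) ≠ 0 := by exact_mod_cast hf0
    have h1 : (k : ℚ) = -(f : ℚ) * n := by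
      have : (n : ℚ) = -(k : ℚ) / f := hn
      field_simp at this
      linarith
    have h2 : (k : ℤ) = -(f : ℤ) * n := by exact_mod_cast h1
    have h3 : (f : ℤ) ∣ (k : ℤ) := ⟨-n, by rw [h2]; ring⟩
    exact Int.natCast_dvd_natCast.mp h3

end Orbital

end Cfsg.Agent.helper1
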