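import Mathlib
import Cfsg.Prelude

set_option autoImplicit false
set_option linter.unusedVariables false
set_option linter.unusedSectionVars false
set_option linter.style.longLine false
set_option linter.style.haveILetI false

namespace Cfsg.Agent.helper1

open Cfsg MulAction

section PermRank

variable {G : Type*} [Group G] {Ω : Type*} [MulAction G Ω]

/-- orbits of `G` on `Ω × Ω` correspond to orbits of a point stabilizer on `Ω` -/
theorem card_orbits_prod_eq [IsPretransitive G Ω] (a : Ω) :
    Nat.card (orbitRel.Quotient G (Ω × Ω)) = Nat.card (orbitRel.Quotient (stabilizer G a) Ω) := by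
  symm
  let φ : orbitRel.Quotient (stabilizer G a) Ω → orbitRel.Quotient G (Ω × Ω) :=
    Quotient.map' (fun b => (a, b)) (by
      intro b b' hbb'
      obtain ⟨h, hh⟩ := hbb'
      refine ⟨(h : G), ?_⟩
      show ((h : G) • a, (h : G) • b') = (a, b)
      refine Prod.ext h.2 ?_
      exact hh)
  apply Nat.card_eq_of_bijective φ
  constructor
  · intro q q' hqq'
    induction q using Quotient.inductionOn' with
    | h b =>
      induction q' using Quotient.inductionOn' with
      | h b' =>
        have h1 : (Quotient.mk'' (a, b) : orbitRel.Quotient G (Ω × Ω)) = Quotient.mk'' (a, b') := hqq'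
        rw [Quotient.eq''] at h1
        obtain ⟨g, hg⟩ := h1
        have hg1 : g • a = a := congrArg Prod.fst hg
        have hg2 : g • b' = b := congrArg Prod.snd hg
        apply Quotient.sound'
        exact ⟨⟨g, hg1⟩, hg2⟩
  · intro q
    induction q using Quotient.inductionOn' with
    | h p =>
      obtain ⟨ω, ω'⟩ := p
      obtain ⟨g, hg⟩ := exists_smul_eq G a ω
      refine ⟨Quotient.mk'' (g⁻¹ • ω'), ?_⟩
      show (Quotient.mk'' (a, g⁻¹ • ω') : orbitRel.Quotient G (Ω × Ω)) = Quotient.mk'' (ω, ω')
      apply Quotient.sound'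
      refine ⟨g⁻¹, ?_⟩
      show (g⁻¹ • ω, g⁻¹ • ω') = (a, g⁻¹ • ω')
      rw [← hg, inv_smul_smul]

end PermRank

section Inner

variable {G : Type*} [Group G] [Fintype G] {Ω : Type*} [Fintype Ω] [MulAction G Ω]

/-- Burnside's lemma in `Nat.card` form -/
theorem sum_card_fixedBy (X : Type*) [Finite X] [MulAction G X] :
    ∑ g : G, Nat.card (fixedBy X g) = Nat.card (orbitRel.Quotient G X) * Nat.card G := by
  classical
  haveI : Fintype X := Fintype.ofFinite X
  haveI : Fintype (orbitRel.Quotient G X) := Fintype.ofFinite _
  haveI : ∀ g : G, Fintype (fixedBy X g) := fun g => Fintype.ofFinite _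
  have := sum_card_fixedBy_eq_card_orbits_mul_card_group G X
  simp only [Nat.card_eq_fintype_card]
  exact this

/-- the norm of the permutation character is the rank -/
theorem classInner_perm_self [IsPretransitive G Ω] (a : Ω) :
    classInner (fun g : G => (Nat.card (fixedBy Ω g) : ℂ)) (fun g : G => (Nat.card (fixedBy Ω g) : ℂ)) =
      (Nat.card (orbitRel.Quotient (stabilizer G a) Ω) : ℂ) := by
  classical
  unfold classInner
  have h1 : ∀ g : G, (Nat.card (fixedBy Ω g) : ℂ) * (starRingEnd ℂ) (Nat.card (fixedBy Ω g) : ℂ) =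
      ((Nat.card (fixedBy (Ω × Ω) g) : ℕ) : ℂ) := by
    intro g
    rw [Complex.conj_natCast]
    have : Nat.card (fixedBy (Ω × Ω) g) = Nat.card (fixedBy Ω g) * Nat.card (fixedBy Ω g) := by
      rw [← Nat.card_prod]
      apply Nat.card_congr
      exact
        { toFun := fun p => (⟨p.1.1, congrArg Prod.fst p.2⟩, ⟨p.1.2, congrArg Prod.snd p.2⟩)
          invFun := fun q => ⟨(q.1.1, q.2.1), Prod.ext q.1.2 q.2.2⟩
          left_inv := fun p => by ext <;> rfl
          right_inv := fun q => by ext <;> rfl }
    rw [this]
    push_cast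
    rfl
  rw [Finset.sum_congr rfl (fun g _ => h1 g), ← Nat.cast_sum, sum_card_fixedBy (Ω × Ω),
    card_orbits_prod_eq a]
  have hG : (Nat.card G : ℂ) ≠ 0 := by exact_mod_cast (Nat.card_pos (α := G)).ne'
  push_cast
  field_simp

/-- the principal character has multiplicity one in a transitive permutation character -/
theorem classInner_perm_one [IsPretransitive G Ω] [Nonempty Ω] :
    classInner (fun g : G => (Nat.card (fixedBy Ω g) : ℂ)) (fun _ => (1 : ℂ)) = 1 := by
  classical
  unfold classInner
  simp only [map_one, mul_one]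
  rw [← Nat.cast_sum, sum_card_fixedBy Ω]
  have : Nat.card (orbitRel.Quotient G Ω) = 1 := by
    haveI : Subsingleton (orbitRel.Quotient G Ω) := by
      refine ⟨fun q q' => ?_⟩
      induction q using Quotient.inductionOn' with
      | h x =>
        induction q' using Quotient.inductionOn' with
        | h y =>
          apply Quotient.sound'
          obtain ⟨g, hg⟩ := exists_smul_eq G y x
          exact ⟨g, hg⟩
    haveI : Nonempty (orbitRel.Quotient G Ω) := ⟨Quotient.mk'' (Classical.arbitrary Ω)⟩
    exact Nat.card_unique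
  rw [this]
  have hG : (Nat.card G : ℂ) ≠ 0 := by exact_mod_cast (Nat.card_pos (α := G)).ne'
  push_cast
  field_simp

end Inner

end Cfsg.Agent.helper1
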