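import Mathlib
import Cfsg.Prelude
import Cfsg.Agent.Lib_helper1_PermChar
import Cfsg.Agent.Lib_helper1_PermRank

set_option autoImplicit false
set_option linter.unusedVariables false
set_option linter.unusedSectionVars false
set_option linter.style.longLine false
set_option linter.style.haveILetI false

namespace Cfsg.Agent.helper1

open Cfsg MulAction

section EqualDegrees

variable {G : Type*} [Group G] [Fintype G] {Ω : Type*} [Fintype Ω] [MulAction G Ω]

theorem isCharacter_perm : IsCharacter G (fun g : G => (Nat.card (fixedBy Ω g) : ℂ)) := by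
  have h := isCharacter_character (permRep ℂ G Ω)
  have : (permRep ℂ G Ω).character = fun g : G => (Nat.card (fixedBy Ω g) : ℂ) :=
    funext fun g => permRep_character g
  rw [this] at h
  exact h

/-- the orbit decomposition of the degree for a point stabilizer -/
theorem card_eq_one_add_sum_orbits (a : Ω)
    [Fintype (orbitRel.Quotient (stabilizer G a) Ω)]
    [DecidableEq (orbitRel.Quotient (stabilizer G a) Ω)] :
    Fintype.card Ω = 1 + ∑ q ∈ (Finset.univ.erase (Quotient.mk'' a :
      orbitRel.Quotient (stabilizer G a) Ω)), Nat.card (orbit (stabilizer G a) q.out) := by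
  classical
  have h1 : Fintype.card Ω = ∑ q : orbitRel.Quotient (stabilizer G a) Ω,
      Nat.card (orbit (stabilizer G a) q.out) := by
    rw [Fintype.card_congr (selfEquivSigmaOrbits (stabilizer G a) Ω), Fintype.card_sigma]
    refine Finset.sum_congr rfl fun q _ => ?_
    rw [Nat.card_eq_fintype_card]
  rw [h1, ← Finset.add_sum_erase Finset.univ _ (Finset.mem_univ (Quotient.mk'' a :
      orbitRel.Quotient (stabilizer G a) Ω))]
  congr 1
  -- the orbit of a is a singleton
  have hout : (Quotient.mk'' a : orbitRel.Quotient (stabilizer G a) Ω).out = a := by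
    have := Quotient.out_eq' (Quotient.mk'' a : orbitRel.Quotient (stabilizer G a) Ω)
    rw [Quotient.eq''] at this
    obtain ⟨h, hh⟩ := this
    rw [← hh]
    exact h.2
  rw [hout]
  have : orbit (stabilizer G a) a = {a} := by
    ext x
    constructor
    · rintro ⟨h, rfl⟩
      exact h.2
    · rintro rfl
      exact mem_orbit_self _
  rw [this]
  simp

/-- **Equal degrees**: if all non-principal irreducible constituents of a transitive permutation
character have the same degree `f`, the character is multiplicity-free and all non-trivial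
subdegrees equal `f`. -/
theorem multfree_of_equal_degrees [IsPretransitive G Ω] (a : Ω) (f : ℕ)
    (hdeg : ∀ χ : G → ℂ, IsIrrCharacter G χ → χ ≠ (fun _ => 1) →
      classInner (fun g : G => (Nat.card (fixedBy Ω g) : ℂ)) χ ≠ 0 → χ 1 = f) :
    (∀ χ : G → ℂ, IsIrrCharacter G χ →
      classInner (fun g : G => (Nat.card (fixedBy Ω g) : ℂ)) χ = 0 ∨
      classInner (fun g : G => (Nat.card (fixedBy Ω g) : ℂ)) χ = 1) ∧
    ∀ b : Ω, b ≠ a → Nat.card (orbit (stabilizer G a) b) = f := by
  classical
  haveI : Nonempty Ω := ⟨a⟩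
  haveI : Finite G := Finite.of_fintype G
  haveI : Fintype (IrrCharacter G) := Fintype.ofFinite _
  haveI : Fintype (orbitRel.Quotient (stabilizer G a) Ω) := Fintype.ofFinite _
  set π : G → ℂ := fun g : G => (Nat.card (fixedBy Ω g) : ℂ) with hπ
  have hπc : IsCharacter G π := isCharacter_perm
  obtain ⟨m, hexp, hm, hnorm⟩ := helper12.char_decomp hπc
  set φ₁ := helper24.irrOne G with hφ₁
  have hm1 : m φ₁ = 1 := by
    have := hm φ₁
    rw [show ((φ₁ : IrrCharacter G) : G → ℂ) = fun _ => (1 : ℂ) from rfl, classInner_perm_one] at this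
    exact_mod_cast this.symm
  -- rank
  have hr : Fintype.card (orbitRel.Quotient (stabilizer G a) Ω) = ∑ φ, m φ ^ 2 := by
    have := classInner_perm_self (G := G) a
    rw [hnorm, Nat.card_eq_fintype_card] at this
    exact_mod_cast this.symm
  rw [← Finset.add_sum_erase Finset.univ _ (Finset.mem_univ φ₁), hm1, one_pow] at hr
  -- nonprincipal constituents have degree f
  have hdeg' : ∀ φ ∈ Finset.univ.erase φ₁, (m φ : ℂ) * (φ : G → ℂ) 1 = ((m φ * f : ℕ) : ℂ) := by
    intro φ hφ
    by_cases h0 : m φ = 0
    · simp [h0]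
    · have hne : (φ : G → ℂ) ≠ fun _ => 1 := by
        intro h
        exact (Finset.ne_of_mem_erase hφ) (Subtype.ext h)
      have hin : classInner π (φ : G → ℂ) ≠ 0 := by
        rw [hm φ]; exact_mod_cast h0
      rw [hdeg _ φ.2 hne hin]
      push_cast
      rfl
  -- degree
  have hn : Fintype.card Ω = 1 + f * ∑ φ ∈ Finset.univ.erase φ₁, m φ := by
    have h1 : π 1 = (Fintype.card Ω : ℂ) := by
      simp only [hπ]
      congr 1
      rw [Nat.card_eq_fintype_card]
      apply Fintype.card_congr
      exact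
        { toFun := fun x => x.1
          invFun := fun x => ⟨x, one_smul _ _⟩
          left_inv := fun x => rfl
          right_inv := fun x => rfl }
    have h2 : π 1 = ∑ φ : IrrCharacter G, (m φ : ℂ) * (φ : G → ℂ) 1 := by
      conv_lhs => rw [hexp]
      simp [Finset.sum_apply]
    rw [h1, ← Finset.add_sum_erase Finset.univ _ (Finset.mem_univ φ₁), hm1,
      show ((φ₁ : IrrCharacter G) : G → ℂ) 1 = 1 from rfl, Finset.sum_congr rfl hdeg'] at h2
    have h3 : (Fintype.card Ω : ℂ) = ((1 + f * ∑ φ ∈ Finset.univ.erase φ₁, m φ : ℕ) : ℂ) := by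
      rw [h2]
      push_cast
      rw [Finset.mul_sum]
      congr 1
      · ring
      · refine Finset.sum_congr rfl fun φ _ => ?_
        ring
    exact_mod_cast h3
  -- orbit side
  set qa : orbitRel.Quotient (stabilizer G a) Ω := Quotient.mk'' a with hqa
  have horb := card_eq_one_add_sum_orbits (G := G) a
  rw [← hqa] at horb
  have hqout : ∀ q ∈ Finset.univ.erase qa, q.out ≠ a := by
    intro q hq h
    apply Finset.ne_of_mem_erase hq
    have h' := Quotient.out_eq' q
    rw [h] at h'
    exact h'.symm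
  have hdvd : ∀ q ∈ Finset.univ.erase qa, f ∣ Nat.card (orbit (stabilizer G a) q.out) := by
    intro q hq
    apply dvd_subdegree f _ a q.out (hqout q hq)
    intro χ hχ hχ1 hχπ
    exact ⟨1, by rw [hdeg χ hχ hχ1 hχπ]; simp⟩
  have hpos : ∀ q : orbitRel.Quotient (stabilizer G a) Ω,
      0 < Nat.card (orbit (stabilizer G a) q.out) := by
    intro q
    haveI : Nonempty (orbit (stabilizer G a) q.out) := ⟨⟨q.out, mem_orbit_self _⟩⟩
    exact Nat.card_pos
  have hcardT : (Finset.univ.erase qa).card + 1 =
      Fintype.card (orbitRel.Quotient (stabilizer G a) Ω) := by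
    rw [Finset.card_erase_of_mem (Finset.mem_univ qa), Finset.card_univ]
    have : 0 < Fintype.card (orbitRel.Quotient (stabilizer G a) Ω) := Fintype.card_pos_iff.mpr ⟨qa⟩
    omega
  by_cases hf0 : f = 0
  · -- degenerate case: no nonprincipal constituent
    subst hf0
    have hmz : ∀ φ ∈ Finset.univ.erase φ₁, m φ = 0 := by
      intro φ hφ
      by_contra h0
      have hne : (φ : G → ℂ) ≠ fun _ => 1 := by
        intro h
        exact (Finset.ne_of_mem_erase hφ) (Subtype.ext h)
      have hin : classInner π (φ : G → ℂ) ≠ 0 := by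
        rw [hm φ]; exact_mod_cast h0
      have := hdeg _ φ.2 hne hin
      exact helper24.irr_apply_one_ne_zero φ.2 (by rw [this]; simp)
    constructor
    · intro χ hχ
      by_cases hχ1 : (⟨χ, hχ⟩ : IrrCharacter G) = φ₁
      · right
        have := hm ⟨χ, hχ⟩
        rw [hχ1, hm1] at this
        rw [← hχ1] at this
        simpa using this
      · left
        have := hm ⟨χ, hχ⟩
        rw [hmz _ (Finset.mem_erase.mpr ⟨hχ1, Finset.mem_univ _⟩)] at this
        simpa using this
    · intro b hb
      exfalso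
      have h1 : Fintype.card Ω = 1 := by rw [hn]; simp
      have := Fintype.card_le_one_iff.mp h1.le a b
      exact hb this.symm
  · have hfpos : 0 < f := Nat.pos_of_ne_zero hf0
    have hge : ∀ q ∈ Finset.univ.erase qa, f ≤ Nat.card (orbit (stabilizer G a) q.out) :=
      fun q hq => Nat.le_of_dvd (hpos q) (hdvd q hq)
    -- inequality
    have h1 : (Finset.univ.erase qa).card * f ≤
        ∑ q ∈ Finset.univ.erase qa, Nat.card (orbit (stabilizer G a) q.out) := by
      rw [← smul_eq_mul, ← Finset.sum_const]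
      exact Finset.sum_le_sum hge
    have h2 : ∑ q ∈ Finset.univ.erase qa, Nat.card (orbit (stabilizer G a) q.out) =
        f * ∑ φ ∈ Finset.univ.erase φ₁, m φ := Nat.add_left_cancel (horb.symm.trans hn)
    have h3 : (Finset.univ.erase qa).card = ∑ φ ∈ Finset.univ.erase φ₁, m φ ^ 2 := by omega
    have h4 : ∑ φ ∈ Finset.univ.erase φ₁, m φ ^ 2 ≤ ∑ φ ∈ Finset.univ.erase φ₁, m φ := by
      rw [h2, h3, mul_comm] at h1
      exact Nat.le_of_mul_le_mul_left h1 hfpos
    have h5 : ∀ φ ∈ Finset.univ.erase φ₁, m φ ≤ m φ ^ 2 := by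
      intro φ _
      rw [pow_two]
      exact Nat.le_mul_self _
    have h6 : ∑ φ ∈ Finset.univ.erase φ₁, m φ = ∑ φ ∈ Finset.univ.erase φ₁, m φ ^ 2 :=
      le_antisymm (Finset.sum_le_sum h5) h4
    have h7 := (Finset.sum_eq_sum_iff_of_le h5).mp h6
    have hmle : ∀ φ : IrrCharacter G, m φ ≤ 1 := by
      intro φ
      by_cases hφ : φ = φ₁
      · rw [hφ, hm1]
      · have := h7 φ (Finset.mem_erase.mpr ⟨hφ, Finset.mem_univ _⟩)
        by_contra hgt
        push Not at hgt
        have : m φ * 2 ≤ m φ * m φ := Nat.mul_le_mul_left _ hgt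
        rw [pow_two] at *
        omega
    constructor
    · intro χ hχ
      have := hm ⟨χ, hχ⟩
      have hle := hmle ⟨χ, hχ⟩
      interval_cases h : m ⟨χ, hχ⟩
      · left; simpa using this
      · right; simpa using this
    · -- subdegrees
      have h8 : ∑ q ∈ Finset.univ.erase qa, f =
          ∑ q ∈ Finset.univ.erase qa, Nat.card (orbit (stabilizer G a) q.out) := by
        rw [Finset.sum_const, smul_eq_mul, h2, h3, ← h6, mul_comm]
      have h9 := (Finset.sum_eq_sum_iff_of_le hge).mp h8
      intro b hb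
      set q : orbitRel.Quotient (stabilizer G a) Ω := Quotient.mk'' b with hq
      have hqne : q ≠ qa := by
        intro h
        rw [hq, hqa, Quotient.eq''] at h
        obtain ⟨h', hh'⟩ := h
        apply hb
        rw [← hh']
        exact h'.2
      have := h9 q (Finset.mem_erase.mpr ⟨hqne, Finset.mem_univ _⟩)
      have horbeq : orbit (stabilizer G a) q.out = orbit (stabilizer G a) b := by
        have := Quotient.out_eq' q
        rw [hq, Quotient.eq''] at this
        exact orbit_eq_iff.mpr this
      rw [← horbeq, ← this]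

/-- **Rank at most five**: a transitive group of rank at most 5 has multiplicity-free
permutation character. -/
theorem multfree_of_rank_le_five [IsPretransitive G Ω] (a : Ω)
    (hrank : Nat.card (orbitRel.Quotient (stabilizer G a) Ω) ≤ 5) :
    ∀ χ : G → ℂ, IsIrrCharacter G χ →
      classInner (fun g : G => (Nat.card (fixedBy Ω g) : ℂ)) χ = 0 ∨
      classInner (fun g : G => (Nat.card (fixedBy Ω g) : ℂ)) χ = 1 := by
  classical
  haveI : Nonempty Ω := ⟨a⟩
  haveI : Finite G := Finite.of_fintype G
  haveI : Fintype (IrrCharacter G) := Fintype.ofFinite _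
  set π : G → ℂ := fun g : G => (Nat.card (fixedBy Ω g) : ℂ) with hπ
  have hπc : IsCharacter G π := isCharacter_perm
  obtain ⟨m, hexp, hm, hnorm⟩ := helper12.char_decomp hπc
  set φ₁ := helper24.irrOne G with hφ₁
  have hm1 : m φ₁ = 1 := by
    have := hm φ₁
    rw [show ((φ₁ : IrrCharacter G) : G → ℂ) = fun _ => (1 : ℂ) from rfl, classInner_perm_one] at this
    exact_mod_cast this.symm
  have hr : Nat.card (orbitRel.Quotient (stabilizer G a) Ω) = ∑ φ, m φ ^ 2 := by
    have := classInner_perm_self (G := G) a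
    rw [hnorm] at this
    exact_mod_cast this.symm
  rw [← Finset.add_sum_erase Finset.univ _ (Finset.mem_univ φ₁), hm1, one_pow] at hr
  have hsum : ∑ φ ∈ Finset.univ.erase φ₁, m φ ^ 2 ≤ 4 := by omega
  by_cases hall : ∀ φ : IrrCharacter G, m φ ≤ 1
  · intro χ hχ
    have := hm ⟨χ, hχ⟩
    have hle := hall ⟨χ, hχ⟩
    interval_cases h : m ⟨χ, hχ⟩
    · left; simpa using this
    · right; simpa using this
  · exfalso
    push Not at hall
    obtain ⟨φ₀, hφ₀⟩ := hall
    have hφ₀1 : φ₀ ≠ φ₁ := by
      intro h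
      rw [h, hm1] at hφ₀
      omega
    have hmem : φ₀ ∈ Finset.univ.erase φ₁ := Finset.mem_erase.mpr ⟨hφ₀1, Finset.mem_univ _⟩
    have hsplit := Finset.add_sum_erase (Finset.univ.erase φ₁) (fun φ => m φ ^ 2) hmem
    have h4 : 4 ≤ m φ₀ ^ 2 := by
      have : 2 * 2 ≤ m φ₀ * m φ₀ := Nat.mul_le_mul hφ₀ hφ₀
      rw [pow_two]; omega
    have hrest : ∑ φ ∈ (Finset.univ.erase φ₁).erase φ₀, m φ ^ 2 = 0 := by omega
    have hzero : ∀ φ : IrrCharacter G, φ ≠ φ₁ → φ ≠ φ₀ → m φ = 0 := by
      intro φ h1 h0
      have := (Finset.sum_eq_zero_iff.mp hrest) φ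
        (Finset.mem_erase.mpr ⟨h0, Finset.mem_erase.mpr ⟨h1, Finset.mem_univ _⟩⟩)
      exact pow_eq_zero_iff two_ne_zero |>.mp this
    obtain ⟨f, -, hf⟩ := helper24.irr_apply_one φ₀.2
    have hmf := (multfree_of_equal_degrees (G := G) a f (by
      intro χ hχ hχ1 hχπ
      have h0 : (⟨χ, hχ⟩ : IrrCharacter G) = φ₀ := by
        by_contra hne
        have hne1 : (⟨χ, hχ⟩ : IrrCharacter G) ≠ φ₁ := by
          intro h
          apply hχ1
          exact congrArg Subtype.val h
        have := hzero ⟨χ, hχ⟩ hne1 hne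
        apply hχπ
        have h' := hm ⟨χ, hχ⟩
        rw [this, Nat.cast_zero] at h'
        exact h'
      have : χ = (φ₀ : G → ℂ) := congrArg Subtype.val h0
      rw [this, hf])).1 (φ₀ : G → ℂ) φ₀.2
    rw [hm φ₀] at hmf
    rcases hmf with h | h
    · have : m φ₀ = 0 := by exact_mod_cast h
      omega
    · have : m φ₀ = 1 := by exact_mod_cast h
      omega

end EqualDegrees

end Cfsg.Agent.helper1
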