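import Mathlib
import Cfsg.Agent.Lib_helper22_FS
import Cfsg.Agent.Lib_helper12_CharOps

set_option autoImplicit false

/-!
Counting square roots with Frobenius–Schur indicators (shared library, helper24).

* `sqCount g` : the number of `u` with `u * u = g`;
* `sqCount_eq_sum` : `sqCount g = ∑_χ ν(χ) χ(g)`;
* `fsInd_irrOne`, `fsInd_sum`, `fsInd_conj`.
-/

universe u

namespace Cfsg.Agent.helper24

open Cfsg
open scoped ComplexConjugate
open Cfsg.Agent.helper22

variable {G : Type u} [Group G]

/-- the number of square roots of `g` -/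
noncomputable def sqCount (g : G) : ℕ := Nat.card {u : G // u * u = g}

theorem sqCount_conj (x g : G) : sqCount (x * g * x⁻¹) = sqCount g := by
  unfold sqCount
  apply Nat.card_congr
  refine ⟨fun u => ⟨x⁻¹ * u.1 * x, ?_⟩, fun u => ⟨x * u.1 * x⁻¹, ?_⟩, ?_, ?_⟩
  · have h := u.2
    calc x⁻¹ * u.1 * x * (x⁻¹ * u.1 * x) = x⁻¹ * (u.1 * u.1) * x := by group
      _ = g := by rw [h]; group
  · have h := u.2
    calc x * u.1 * x⁻¹ * (x * u.1 * x⁻¹) = x * (u.1 * u.1) * x⁻¹ := by group
      _ = x * g * x⁻¹ := by rw [h]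
  · intro u
    apply Subtype.ext
    show x * (x⁻¹ * u.1 * x) * x⁻¹ = u.1
    group
  · intro u
    apply Subtype.ext
    show x⁻¹ * (x * u.1 * x⁻¹) * x = u.1
    group

theorem sqCount_isClassFunction : IsClassFunction G (fun g => (sqCount g : ℂ)) := by
  intro g h
  simp only [sqCount_conj]

/-- `∑_g sqCount g * f g = ∑_u f (u * u)` -/
theorem sum_sqCount_mul [Fintype G] (f : G → ℂ) :
    ∑ g : G, (sqCount g : ℂ) * f g = ∑ u : G, f (u * u) := by
  classical
  have h1 : ∀ g : G, (sqCount g : ℂ) * f g = ∑ u : G, if u * u = g then f (u * u) else 0 := by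
    intro g
    rw [← Finset.sum_filter]
    have h2 : ∀ u ∈ Finset.univ.filter (fun u : G => u * u = g), f (u * u) = f g := by
      intro u hu
      rw [(Finset.mem_filter.1 hu).2]
    rw [Finset.sum_congr rfl h2, Finset.sum_const, nsmul_eq_mul]
    congr 2
    unfold sqCount
    rw [Nat.card_eq_fintype_card, Fintype.card_subtype]
  rw [Finset.sum_congr rfl (fun g _ => h1 g), Finset.sum_comm]
  refine Finset.sum_congr rfl (fun u _ => ?_)
  rw [Finset.sum_ite_eq]
  simp

theorem fsInd_conj [Fintype G] {χ : G → ℂ} (hχ : IsIrrCharacter G χ) :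
    conj (fsInd χ) = fsInd χ := by
  rcases fsInd_cases hχ with h | h | h <;> rw [h] <;> simp

theorem classInner_sqCount [Fintype G] {χ : G → ℂ} (hχ : IsIrrCharacter G χ) :
    classInner (fun g => (sqCount g : ℂ)) χ = fsInd χ := by
  rw [← fsInd_conj hχ]
  unfold classInner fsInd
  rw [sum_sqCount_mul (fun g => conj (χ g)), map_mul, map_sum, map_inv₀, Complex.conj_natCast]

/-- The number of square roots of `g` is `∑_χ ν(χ) χ(g)`. -/
theorem sqCount_eq_sum [Fintype G] [Fintype (IrrCharacter G)] (g : G) :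
    (sqCount g : ℂ) = ∑ χ : IrrCharacter G, fsInd (χ : G → ℂ) * (χ : G → ℂ) g := by
  have h := congrFun (classFunction_expansion (sqCount_isClassFunction (G := G))) g
  simp only [Finset.sum_apply, Pi.smul_apply, smul_eq_mul] at h
  rw [h]
  refine Finset.sum_congr rfl (fun χ _ => ?_)
  rw [classInner_sqCount χ.2]

theorem fsInd_one [Fintype G] : fsInd (fun _ : G => (1 : ℂ)) = 1 := by
  unfold fsInd
  rw [Finset.sum_const, Finset.card_univ, nsmul_eq_mul, mul_one, Nat.card_eq_fintype_card]
  have : (Fintype.card G : ℂ) ≠ 0 := by exact_mod_cast Fintype.card_ne_zero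
  field_simp

theorem fsInd_sum [Fintype G] {ι : Type*} (s : Finset ι) (c : ι → ℂ) (f : ι → G → ℂ) :
    fsInd (∑ i ∈ s, c i • f i) = ∑ i ∈ s, c i * fsInd (f i) := by
  unfold fsInd
  simp only [Finset.sum_apply, Pi.smul_apply, smul_eq_mul]
  rw [Finset.sum_comm, Finset.mul_sum]
  refine Finset.sum_congr rfl (fun i _ => ?_)
  rw [← Finset.mul_sum]
  ring

/-- the indicator of a character is the multiplicity-weighted sum of indicators -/
theorem fsInd_char [Fintype G] [Fintype (IrrCharacter G)] {π : G → ℂ} (hπ : IsCharacter G π) :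
    fsInd π = ∑ χ : IrrCharacter G, classInner π (χ : G → ℂ) * fsInd (χ : G → ℂ) := by
  conv_lhs => rw [classFunction_expansion (char_isClassFunction hπ)]
  exact fsInd_sum _ _ _

end Cfsg.Agent.helper24
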