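import Mathlib
import Cfsg.Prelude.Def_Characters
import Cfsg.Prelude.Def_Perm
import Cfsg.Agent.Lib_helper1_Commutant
import Cfsg.Agent.Lib_helper1_PermChar
import Cfsg.Agent.Lib_helper1_PermRank2
import Cfsg.Agent.Lib_helper22_FS
import Cfsg.Agent.Lib_helper24_FS

set_option autoImplicit false
set_option linter.unusedVariables false
set_option linter.unusedSectionVars false
set_option linter.style.longLine false
set_option linter.style.haveILetI false

namespace Cfsg.Agent.helper1

open Representation Module Cfsg Matrix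
open scoped ComplexConjugate

section RealConstituent

variable {G : Type*} [Group G] [Fintype G] {Ω : Type*} [Fintype Ω] [MulAction G Ω]

/-- the matrix of a permutation is orthogonal -/
theorem permRep_toMatrix'_transpose [DecidableEq Ω] (g : G) :
    (LinearMap.toMatrix' (permRep ℂ G Ω g))ᵀ = LinearMap.toMatrix' (permRep ℂ G Ω g⁻¹) := by
  ext ω ω'
  rw [Matrix.transpose_apply, LinearMap.toMatrix'_apply, LinearMap.toMatrix'_apply]
  show (Pi.single ω (1 : ℂ) : Ω → ℂ) (g⁻¹ • ω') = (Pi.single ω' (1 : ℂ) : Ω → ℂ) (g⁻¹⁻¹ • ω)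
  rw [inv_inv, Pi.single_apply, Pi.single_apply]
  have : g⁻¹ • ω' = ω ↔ g • ω = ω' := by
    rw [inv_smul_eq_iff, eq_comm]
  simp only [this]

/-- a real-valued irreducible constituent of multiplicity one of a permutation character has
Frobenius–Schur indicator `1` -/
theorem fsInd_eq_one_of_perm_constituent {χ : G → ℂ} (hχ : IsIrrCharacter G χ)
    (hreal : ∀ g : G, (starRingEnd ℂ) (χ g) = χ g)
    (hm : classInner (fun g : G => (Nat.card (MulAction.fixedBy Ω g) : ℂ)) χ = 1) :
    helper22.fsInd χ = 1 := by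
  classical
  obtain ⟨n, τ, hτ, rfl⟩ := hχ
  haveI := hτ
  have hπ : (permRep ℂ G Ω).character =
      fun g : G => (Nat.card (MulAction.fixedBy Ω g) : ℂ) := funext permRep_character
  have h1 : finrank ℂ (IntertwiningMap τ (permRep ℂ G Ω)) = 1 := by
    have := classInner_character_eq_finrank τ (permRep ℂ G Ω)
    rw [hπ, hm] at this
    exact_mod_cast this.symm
  haveI : Nontrivial (IntertwiningMap τ (permRep ℂ G Ω)) :=
    Module.nontrivial_of_finrank_pos (R := ℂ) (by rw [h1]; exact Nat.one_pos)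
  obtain ⟨i, hi⟩ := exists_ne (0 : IntertwiningMap τ (permRep ℂ G Ω))
  have hinj : Function.Injective i := (IsIrreducible.injective_or_eq_zero i).resolve_right hi
  obtain ⟨p, hp⟩ := exists_intertwining_leftInverse τ (permRep ℂ G Ω) i hinj
  have hreal' : ∀ g : G, (τ.character g).im = 0 := fun g => Complex.conj_eq_iff_im.mp (hreal g)
  obtain ⟨M, hM0, hM⟩ := helper22.exists_invariant_of_real τ hτ hreal'
  -- matrices
  set I : Matrix Ω (Fin n) ℂ := LinearMap.toMatrix' i.toLinearMap with hI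
  set Pm : Matrix (Fin n) Ω ℂ := LinearMap.toMatrix' p.toLinearMap with hPm
  have hPI : Pm * I = 1 := by
    rw [hI, hPm, ← LinearMap.toMatrix'_comp]
    have : p.toLinearMap ∘ₗ i.toLinearMap = LinearMap.id := by
      apply LinearMap.ext
      intro w
      exact hp w
    rw [this, LinearMap.toMatrix'_id]
  have hpg : ∀ g : G, Pm * LinearMap.toMatrix' (permRep ℂ G Ω g) = helper24.repMatrix τ g * Pm := by
    intro g
    show Pm * _ = LinearMap.toMatrix' (τ g) * Pm
    rw [hPm, ← LinearMap.toMatrix'_comp, ← LinearMap.toMatrix'_comp, p.isIntertwining' g]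
  -- the intertwiner `pᵀ M`
  have hj : ∀ g : G, LinearMap.toMatrix' (permRep ℂ G Ω g) * (Pmᵀ * M) =
      (Pmᵀ * M) * helper24.repMatrix τ g := by
    intro g
    have h3 := congrArg Matrix.transpose (hpg g⁻¹)
    rw [Matrix.transpose_mul, Matrix.transpose_mul, permRep_toMatrix'_transpose, inv_inv] at h3
    rw [← Matrix.mul_assoc, h3, Matrix.mul_assoc, Matrix.mul_assoc, helper22.invariant_mul τ M hM g]
  let j : IntertwiningMap τ (permRep ℂ G Ω) :=
    ⟨Matrix.toLin' (Pmᵀ * M), fun g => by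
      have e1 : τ g = Matrix.toLin' (helper24.repMatrix τ g) := helper22.rho_eq_toLin' τ g
      have e2 : permRep ℂ G Ω g = Matrix.toLin' (LinearMap.toMatrix' (permRep ℂ G Ω g)) :=
        (Matrix.toLin'_toMatrix' _).symm
      rw [e1, e2, ← Matrix.toLin'_mul, ← Matrix.toLin'_mul, hj g]⟩
  obtain ⟨d, hd⟩ := (finrank_eq_one_iff_of_nonzero' i hi).mp h1 j
  have hd' : d • I = Pmᵀ * M := by
    have := congrArg (fun f : IntertwiningMap τ (permRep ℂ G Ω) =>
      LinearMap.toMatrix' f.toLinearMap) hd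
    rw [show (d • i).toLinearMap = d • i.toLinearMap from rfl, map_smul] at this
    rw [hI, this]
    show LinearMap.toMatrix' (Matrix.toLin' (Pmᵀ * M)) = _
    rw [LinearMap.toMatrix'_toLin']
  have hMsymm : M = d • (Iᵀ * I) := by
    have : Iᵀ * (Pmᵀ * M) = M := by
      rw [← Matrix.mul_assoc, ← Matrix.transpose_mul, hPI, Matrix.transpose_one, Matrix.one_mul]
    rw [← this, ← hd', Matrix.mul_smul]
  have hMT : Mᵀ = M := by
    rw [hMsymm, Matrix.transpose_smul, Matrix.transpose_mul, Matrix.transpose_transpose]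
  have hfs := helper22.fs_transpose τ hτ M hM
  rw [hMT] at hfs
  show helper22.fsRep τ = 1
  by_contra hne
  apply hM0
  have h4 : (1 - helper22.fsRep τ) • M = 0 := by
    rw [sub_smul, one_smul, ← hfs, sub_self]
  rcases smul_eq_zero.1 h4 with h5 | h5
  · exact absurd (sub_eq_zero.1 h5).symm hne
  · exact h5

end RealConstituent

section Counting

variable {G : Type*} [Group G] [Fintype G] {Ω : Type*} [Fintype Ω] [MulAction G Ω]

open Classical in
theorem card_fixedBy_eq_sum (g : G) :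
    Nat.card (MulAction.fixedBy Ω g) = ∑ a : Ω, if g • a = a then 1 else 0 := by
  rw [Nat.card_eq_fintype_card, Fintype.card_subtype, Finset.card_filter]
  rfl

open Classical in
theorem sum_card_fixedBy_sq :
    ∑ g : G, Nat.card (MulAction.fixedBy Ω g) ^ 2 =
      ∑ a : Ω, ∑ b : Ω, ∑ g : G, if g • a = a ∧ g • b = b then 1 else 0 := by
  have h1 : ∀ g : G, Nat.card (MulAction.fixedBy Ω g) ^ 2 =
      ∑ a : Ω, ∑ b : Ω, if g • a = a ∧ g • b = b then 1 else 0 := by
    intro g
    rw [sq, card_fixedBy_eq_sum, Finset.sum_mul_sum]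
    refine Finset.sum_congr rfl (fun a _ => Finset.sum_congr rfl (fun b _ => ?_))
    split_ifs <;> simp_all
  rw [Finset.sum_congr rfl (fun g _ => h1 g), Finset.sum_comm]
  refine Finset.sum_congr rfl (fun a _ => ?_)
  rw [Finset.sum_comm]

open Classical in
theorem sum_card_fixedBy_mul_self :
    ∑ g : G, Nat.card (MulAction.fixedBy Ω (g * g)) =
      ∑ a : Ω, ∑ b : Ω, ∑ g : G, if g • a = b ∧ g • b = a then 1 else 0 := by
  have h1 : ∀ g : G, Nat.card (MulAction.fixedBy Ω (g * g)) =
      ∑ a : Ω, ∑ b : Ω, if g • a = b ∧ g • b = a then 1 else 0 := by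
    intro g
    rw [card_fixedBy_eq_sum]
    refine Finset.sum_congr rfl (fun a _ => ?_)
    rw [Finset.sum_eq_single (g • a)]
    · rw [mul_smul]
      simp
    · intro b _ hb
      rw [if_neg]
      intro h
      exact hb h.1.symm
    · intro h
      exact absurd (Finset.mem_univ _) h
  rw [Finset.sum_congr rfl (fun g _ => h1 g), Finset.sum_comm]
  refine Finset.sum_congr rfl (fun a _ => ?_)
  rw [Finset.sum_comm]

open Classical in
theorem swap_count_le (a b : Ω) :
    (∑ g : G, if g • a = b ∧ g • b = a then 1 else 0) ≤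
      ∑ g : G, if g • a = a ∧ g • b = b then 1 else 0 := by
  by_cases hex : ∃ g₀ : G, g₀ • a = b ∧ g₀ • b = a
  · obtain ⟨g₀, h1, h2⟩ := hex
    apply le_of_eq
    symm
    apply Fintype.sum_equiv (Equiv.mulLeft g₀)
    intro g
    show _ = if (g₀ * g) • a = b ∧ (g₀ * g) • b = a then 1 else 0
    have e : (g • a = a ∧ g • b = b) ↔ ((g₀ * g) • a = b ∧ (g₀ * g) • b = a) := by
      rw [mul_smul, mul_smul]
      constructor
      · rintro ⟨ha, hb⟩
        rw [ha, hb]
        exact ⟨h1, h2⟩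
      · rintro ⟨ha, hb⟩
        constructor
        · have : g₀ • g • a = g₀ • a := ha.trans h1.symm
          exact smul_left_cancel g₀ this
        · have : g₀ • g • b = g₀ • b := hb.trans h2.symm
          exact smul_left_cancel g₀ this
    simp only [e]
  · push Not at hex
    have : (∑ g : G, if g • a = b ∧ g • b = a then 1 else 0) = 0 := by
      apply Finset.sum_eq_zero
      intro g _
      rw [if_neg]
      rintro ⟨h1, h2⟩
      exact hex g h1 h2
    rw [this]
    exact Nat.zero_le _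

open Classical in
theorem swap_count_eq_iff (a b : Ω) :
    ((∑ g : G, if g • a = b ∧ g • b = a then 1 else 0) =
      ∑ g : G, if g • a = a ∧ g • b = b then 1 else 0) ↔ ∃ g : G, g • a = b ∧ g • b = a := by
  have hpos : 0 < ∑ g : G, if g • a = a ∧ g • b = b then 1 else 0 := by
    apply Finset.sum_pos'
    · intro g _
      exact Nat.zero_le _
    · refine ⟨1, Finset.mem_univ _, ?_⟩
      rw [if_pos ⟨one_smul _ _, one_smul _ _⟩]
      exact Nat.one_pos
  constructor
  · intro h
    by_contra hex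
    push Not at hex
    have : (∑ g : G, if g • a = b ∧ g • b = a then 1 else 0) = 0 := by
      apply Finset.sum_eq_zero
      intro g _
      rw [if_neg]
      rintro ⟨h1, h2⟩
      exact hex g h1 h2
    rw [this] at h
    omega
  · rintro ⟨g₀, h1, h2⟩
    symm
    apply Fintype.sum_equiv (Equiv.mulLeft g₀)
    intro g
    show _ = if (g₀ * g) • a = b ∧ (g₀ * g) • b = a then 1 else 0
    have e : (g • a = a ∧ g • b = b) ↔ ((g₀ * g) • a = b ∧ (g₀ * g) • b = a) := by
      rw [mul_smul, mul_smul]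
      constructor
      · rintro ⟨ha, hb⟩
        rw [ha, hb]
        exact ⟨h1, h2⟩
      · rintro ⟨ha, hb⟩
        constructor
        · have : g₀ • g • a = g₀ • a := ha.trans h1.symm
          exact smul_left_cancel g₀ this
        · have : g₀ • g • b = g₀ • b := hb.trans h2.symm
          exact smul_left_cancel g₀ this
    simp only [e]

/-- generous transitivity in terms of fixed point counts -/
theorem gen_trans_iff_sum_eq :
    (∀ a b : Ω, ∃ g : G, g • a = b ∧ g • b = a) ↔
      ∑ g : G, Nat.card (MulAction.fixedBy Ω (g * g)) =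
        ∑ g : G, Nat.card (MulAction.fixedBy Ω g) ^ 2 := by
  classical
  rw [sum_card_fixedBy_mul_self, sum_card_fixedBy_sq]
  rw [Finset.sum_eq_sum_iff_of_le (fun a _ => Finset.sum_le_sum (fun b _ => swap_count_le a b))]
  constructor
  · intro h a _
    refine Finset.sum_congr rfl (fun b _ => ?_)
    exact (swap_count_eq_iff a b).mpr (h a b)
  · intro h a b
    have h1 := h a (Finset.mem_univ _)
    rw [Finset.sum_eq_sum_iff_of_le (fun b _ => swap_count_le a b)] at h1
    exact (swap_count_eq_iff a b).mp (h1 b (Finset.mem_univ _))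

end Counting

section Main

variable {G : Type*} [Group G] [Fintype G] {Ω : Type*} [Fintype Ω] [MulAction G Ω]

/-- generous transitivity: `ν(π) = [π, π]` -/
theorem gen_trans_iff_fsInd_eq :
    (∀ a b : Ω, ∃ g : G, g • a = b ∧ g • b = a) ↔
      helper22.fsInd (fun g : G => (Nat.card (MulAction.fixedBy Ω g) : ℂ)) =
        classInner (fun g : G => (Nat.card (MulAction.fixedBy Ω g) : ℂ))
          (fun g : G => (Nat.card (MulAction.fixedBy Ω g) : ℂ)) := by
  rw [gen_trans_iff_sum_eq]
  have hG : (Nat.card G : ℂ)⁻¹ ≠ 0 := inv_ne_zero (by exact_mod_cast (Nat.card_pos (α := G)).ne')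
  unfold helper22.fsInd classInner
  have e1 : ∑ g : G, ((Nat.card (MulAction.fixedBy Ω g) : ℂ)) *
      (starRingEnd ℂ) (Nat.card (MulAction.fixedBy Ω g) : ℂ) =
      ((∑ g : G, Nat.card (MulAction.fixedBy Ω g) ^ 2 : ℕ) : ℂ) := by
    push_cast
    refine Finset.sum_congr rfl (fun g _ => ?_)
    rw [Complex.conj_natCast, sq]
  have e2 : ∑ g : G, ((Nat.card (MulAction.fixedBy Ω (g * g)) : ℂ)) =
      ((∑ g : G, Nat.card (MulAction.fixedBy Ω (g * g)) : ℕ) : ℂ) := by
    push_cast
    rfl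
  rw [e1, e2]
  constructor
  · intro h
    rw [h]
  · intro h
    exact_mod_cast mul_left_cancel₀ hG h

/-- generous transitivity in terms of multiplicities and Frobenius–Schur indicators -/
theorem gen_trans_iff_fs :
    (∀ a b : Ω, ∃ g : G, g • a = b ∧ g • b = a) ↔
      ∀ χ : G → ℂ, IsIrrCharacter G χ →
        classInner (fun g : G => (Nat.card (MulAction.fixedBy Ω g) : ℂ)) χ ≠ 0 →
        classInner (fun g : G => (Nat.card (MulAction.fixedBy Ω g) : ℂ)) χ = 1 ∧
          helper22.fsInd χ = 1 := by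
  classical
  haveI : Fintype (IrrCharacter G) := Fintype.ofFinite _
  rw [gen_trans_iff_fsInd_eq]
  have hπ : IsCharacter G (fun g : G => (Nat.card (MulAction.fixedBy Ω g) : ℂ)) := isCharacter_perm
  obtain ⟨n, hexp, hn, hnorm⟩ := helper12.char_decomp hπ
  have hfs := helper24.fsInd_char hπ
  have hε : ∀ ψ : IrrCharacter G, ∃ ε : ℤ, helper22.fsInd (ψ : G → ℂ) = (ε : ℂ) ∧ ε ≤ 1 := by
    intro ψ
    rcases helper22.fsInd_cases ψ.2 with h | h | h
    · exact ⟨0, by rw [h]; simp, by norm_num⟩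
    · exact ⟨1, by rw [h]; simp, by norm_num⟩
    · exact ⟨-1, by rw [h]; simp, by norm_num⟩
  choose ε hε1 hε2 using hε
  have hfs' : helper22.fsInd (fun g : G => (Nat.card (MulAction.fixedBy Ω g) : ℂ)) =
      ((∑ ψ : IrrCharacter G, (n ψ : ℤ) * ε ψ : ℤ) : ℂ) := by
    rw [hfs]
    push_cast
    refine Finset.sum_congr rfl (fun ψ _ => ?_)
    rw [hn ψ, hε1 ψ]
  have hnorm' : classInner (fun g : G => (Nat.card (MulAction.fixedBy Ω g) : ℂ))
      (fun g : G => (Nat.card (MulAction.fixedBy Ω g) : ℂ)) =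
      ((∑ ψ : IrrCharacter G, (n ψ : ℤ) ^ 2 : ℤ) : ℂ) := by
    rw [hnorm]
    push_cast
    rfl
  rw [hfs', hnorm']
  have hle : ∀ ψ ∈ (Finset.univ : Finset (IrrCharacter G)), (n ψ : ℤ) * ε ψ ≤ (n ψ : ℤ) ^ 2 := by
    intro ψ _
    have h0 : (0 : ℤ) ≤ n ψ := Int.natCast_nonneg _
    have h1 := hε2 ψ
    nlinarith
  have key : ((∑ ψ : IrrCharacter G, (n ψ : ℤ) * ε ψ : ℤ) : ℂ) =
      ((∑ ψ : IrrCharacter G, (n ψ : ℤ) ^ 2 : ℤ) : ℂ) ↔
      ∀ ψ : IrrCharacter G, (n ψ : ℤ) * ε ψ = (n ψ : ℤ) ^ 2 := by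
    rw [Int.cast_inj, Finset.sum_eq_sum_iff_of_le hle]
    simp
  rw [key]
  constructor
  · intro h χ hχ hne
    have hc := hn ⟨χ, hχ⟩
    simp only at hc
    have hn0 : n ⟨χ, hχ⟩ ≠ 0 := by
      intro h0
      apply hne
      rw [hc, h0]
      simp
    have h1 := h ⟨χ, hχ⟩
    have h2 := hε2 ⟨χ, hχ⟩
    have hpos : (0 : ℤ) < n ⟨χ, hχ⟩ := by
      exact_mod_cast Nat.pos_of_ne_zero hn0
    have h3 : ε ⟨χ, hχ⟩ = (n ⟨χ, hχ⟩ : ℤ) := by
      have : (n ⟨χ, hχ⟩ : ℤ) * ε ⟨χ, hχ⟩ = (n ⟨χ, hχ⟩ : ℤ) * (n ⟨χ, hχ⟩ : ℤ) := by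
        rw [h1, sq]
      exact mul_left_cancel₀ hpos.ne' this
    have h4 : (n ⟨χ, hχ⟩ : ℤ) = 1 := by omega
    have h5 : ε ⟨χ, hχ⟩ = 1 := by omega
    constructor
    · rw [hc]
      exact_mod_cast h4
    · have := hε1 ⟨χ, hχ⟩
      simp only at this
      rw [this, h5]
      simp
  · intro h ψ
    by_cases hn0 : n ψ = 0
    · rw [hn0]
      simp
    · have hne : classInner (fun g : G => (Nat.card (MulAction.fixedBy Ω g) : ℂ)) (ψ : G → ℂ) ≠ 0 := by
        rw [hn ψ]
        exact_mod_cast hn0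
      obtain ⟨h1, h2⟩ := h ψ.1 ψ.2 hne
      rw [hn ψ] at h1
      rw [hε1 ψ] at h2
      have h1' : (n ψ : ℤ) = 1 := by exact_mod_cast h1
      have h2' : ε ψ = 1 := by exact_mod_cast h2
      rw [h1', h2']
      norm_num

/-- **generously transitive ⟺ multiplicity-free with real constituents** -/
theorem gen_trans_iff_multfree_real :
    (∀ a b : Ω, ∃ g : G, g • a = b ∧ g • b = a) ↔
      ∀ χ : G → ℂ, IsIrrCharacter G χ →
        classInner (fun g : G => (Nat.card (MulAction.fixedBy Ω g) : ℂ)) χ ≠ 0 →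
        classInner (fun g : G => (Nat.card (MulAction.fixedBy Ω g) : ℂ)) χ = 1 ∧
          ∀ g : G, (starRingEnd ℂ) (χ g) = χ g := by
  rw [gen_trans_iff_fs]
  constructor
  · intro h χ hχ hne
    obtain ⟨h1, h2⟩ := h χ hχ hne
    refine ⟨h1, fun g => ?_⟩
    have h3 : helper22.fsInd χ ≠ 0 := by
      rw [h2]
      exact one_ne_zero
    exact Complex.conj_eq_iff_im.mpr ((helper22.fsInd_ne_zero_iff hχ).mp h3 g)
  · intro h χ hχ hne
    obtain ⟨h1, h2⟩ := h χ hχ hne
    exact ⟨h1, fsInd_eq_one_of_perm_constituent hχ h2 h1⟩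

end Main

end Cfsg.Agent.helper1
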