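import Mathlib
import Cfsg.Prelude
import Cfsg.Agent.Lib_helper24_DefectZero
import Cfsg.Agent.Lib_helper24_BlockIdem
import Cfsg.Agent.Lib_helper24_Fong3
import Cfsg.Agent.Lib_helper24_LocalRing
import Cfsg.Agent.Lib_helper24_LocalIdeal
import Cfsg.Agent.Lib_helper23_Central

set_option autoImplicit false

/-!
Green's theorem, defect-zero core (helper1): for a character `χ` of `p`-defect zero, a class `L`
with `p'`-centralizers and `ω_χ(L) ≢ 0`, and a Sylow `p`-subgroup `Q`, some `y ∈ L` has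
`Q ∩ y Q y⁻¹ = 1`.
-/

namespace Cfsg.Agent.helper1

open Cfsg
open scoped ComplexConjugate

universe u

section GreenDZ
variable {X : Type u} [Group X] [Fintype X]

/-- a nontrivial `p`-subgroup acting freely by conjugation on a finite set: `p` divides the size -/
theorem free_conj_card_dvd (p : ℕ) [Fact p.Prime] (S : Subgroup X) (hS : IsPGroup p S)
    (hSne : S ≠ ⊥) (T : Set X) (hstab : ∀ s ∈ S, ∀ y ∈ T, s * y * s⁻¹ ∈ T)
    (hfree : ∀ y ∈ T, ∀ s ∈ S, s * y * s⁻¹ = y → s = 1) : p ∣ Nat.card T := by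
  classical
  let _ : MulAction S T :=
    { smul := fun s y => ⟨(s : X) * (y : X) * (s : X)⁻¹, hstab s s.2 y y.2⟩
      one_smul := fun y => by
        apply Subtype.ext
        show ((1 : S) : X) * (y : X) * ((1 : S) : X)⁻¹ = y
        simp
      mul_smul := fun s t y => by
        apply Subtype.ext
        show ((s * t : S) : X) * (y : X) * ((s * t : S) : X)⁻¹
          = (s : X) * ((t : X) * (y : X) * (t : X)⁻¹) * (s : X)⁻¹
        rw [Subgroup.coe_mul]
        group }
  have hsmul : ∀ (s : S) (y : T), ((s • y : T) : X) = (s : X) * (y : X) * (s : X)⁻¹ :=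
    fun s y => rfl
  have : Fintype T := Fintype.ofFinite _
  have : Fintype (MulAction.fixedPoints S T) := Fintype.ofFinite _
  have hmod := hS.card_modEq_card_fixedPoints (α := T)
  have hfix : Nat.card (MulAction.fixedPoints S T) = 0 := by
    rw [Nat.card_eq_zero]
    left
    constructor
    rintro ⟨y, hy⟩
    apply hSne
    rw [eq_bot_iff]
    intro s hs
    rw [Subgroup.mem_bot]
    have h1 := hy ⟨s, hs⟩
    have h2 := congrArg Subtype.val h1
    rw [hsmul] at h2
    exact hfree y y.2 s hs h2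
  rw [hfix] at hmod
  exact Nat.dvd_of_mod_eq_zero hmod

/-- orbit decomposition of a sum of a `Q`-conjugation-invariant function -/
theorem conj_invariant_sum_memLocalIdeal (M : Ideal AlgInt) [M.IsPrime] (Q : Subgroup X)
    (F : X → ℂ) (hF : ∀ s ∈ Q, ∀ z : X, F (s * z * s⁻¹) = F z)
    (hloc : ∀ z : X, MemLocalIdeal M
      (F z / (Nat.card {s : Q // (s : X) * z * (s : X)⁻¹ = z} : ℂ))) :
    MemLocalIdeal M ((∑ z : X, F z) / (Nat.card Q : ℂ)) := by
  classical
  let _ : MulAction Q X := MulAction.compHom X ((MulAut.conj : X →* MulAut X).comp Q.subtype)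
  have hsmul : ∀ (s : Q) (z : X), s • z = (s : X) * z * (s : X)⁻¹ := fun s z => rfl
  have : Fintype (MulAction.orbitRel.Quotient Q X) := Fintype.ofFinite _
  have h1 : ∑ z : X, F z = ∑ q : MulAction.orbitRel.Quotient Q X,
      ∑ z : MulAction.orbit Q q.out, F (z : X) := by
    rw [← Fintype.sum_sigma']
    exact Fintype.sum_equiv (MulAction.selfEquivSigmaOrbits Q X) _ _ (fun z => rfl)
  have h2 : ∀ q : MulAction.orbitRel.Quotient Q X,
      ∑ z : MulAction.orbit Q q.out, F (z : X)
        = (Nat.card (MulAction.orbit Q q.out) : ℂ) * F q.out := by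
    intro q
    have : ∀ z : MulAction.orbit Q q.out, F (z : X) = F q.out := by
      rintro ⟨z, s, rfl⟩
      show F (s • q.out) = F q.out
      rw [hsmul]
      exact hF s s.2 _
    rw [Finset.sum_congr rfl (fun z _ => this z), Finset.sum_const, Finset.card_univ,
      nsmul_eq_mul, Nat.card_eq_fintype_card]
  have hQpos : (Nat.card Q : ℂ) ≠ 0 := by
    have : 0 < Nat.card Q := Nat.card_pos
    exact_mod_cast this.ne'
  have h3 : (∑ z : X, F z) / (Nat.card Q : ℂ) = ∑ q : MulAction.orbitRel.Quotient Q X,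
      F q.out / (Nat.card {s : Q // (s : X) * q.out * (s : X)⁻¹ = q.out} : ℂ) := by
    rw [h1, Finset.sum_div]
    apply Finset.sum_congr rfl
    intro q _
    rw [h2 q]
    have hos := MulAction.card_orbit_mul_card_stabilizer_eq_card_group Q q.out
    have hstab : Nat.card (MulAction.stabilizer Q q.out)
        = Nat.card {s : Q // (s : X) * q.out * (s : X)⁻¹ = q.out} := by
      apply Nat.card_congr
      exact Equiv.subtypeEquivRight (fun s => by
        rw [MulAction.mem_stabilizer_iff, hsmul])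
    have hspos : (Nat.card {s : Q // (s : X) * q.out * (s : X)⁻¹ = q.out} : ℂ) ≠ 0 := by
      have : 0 < Nat.card {s : Q // (s : X) * q.out * (s : X)⁻¹ = q.out} := by
        rw [← hstab]; exact Nat.card_pos
      exact_mod_cast this.ne'
    have hos' : (Nat.card (MulAction.orbit Q q.out) : ℂ)
        * (Nat.card {s : Q // (s : X) * q.out * (s : X)⁻¹ = q.out} : ℂ) = (Nat.card Q : ℂ) := by
      rw [← hstab]
      simp only [Nat.card_eq_fintype_card]
      exact_mod_cast hos
    rw [div_eq_div_iff hQpos hspos, ← hos']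
    ring
  rw [h3]
  apply helper24.memLocalIdeal_sum
  intro q _
  exact hloc q.out

/-- values of a defect-zero character are divisible by `p`-subgroup orders of the centralizer -/
theorem dz_value_div (p : ℕ) [Fact p.Prime] (M : Ideal AlgInt) (hM : IsPModular p M)
    (χ : IrrCharacter X) (hdeg : p ^ (Nat.card X).factorization p ∣ charDegree (χ : X → ℂ))
    (z : X) (k : ℕ) (hk : k ∣ Nat.card (Subgroup.centralizer ({z} : Set X))) :
    MemLocalRing M ((χ : X → ℂ) z / (k : ℂ)) := by
  classical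
  have hpp : p.Prime := Fact.out
  have hMp : M.IsPrime := hM.2.1.isPrime
  have hMtop : M ≠ ⊤ := hMp.ne_top
  obtain ⟨c', hc'⟩ := hk
  obtain ⟨d', hd'⟩ := hdeg
  set a := (Nat.card X).factorization p with ha
  have hXpos : 0 < Nat.card X := Nat.card_pos
  obtain ⟨r, hr⟩ : ∃ r, r = Nat.card X / p ^ a := ⟨_, rfl⟩
  have hXeq : Nat.card X = p ^ a * r := by
    rw [hr, ha]; exact (Nat.ordProj_mul_ordCompl_eq_self (Nat.card X) p).symm
  have hrp : ¬ p ∣ r := by
    rw [hr, ha]; exact Nat.not_dvd_ordCompl hpp hXpos.ne'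
  have hidx := Subgroup.index_mul_card (Subgroup.centralizer ({z} : Set X))
  have hint : MemLocalRing M (centralChar (χ : X → ℂ) z) :=
    helper24.memLocalRing_of_integral hMtop (helper23.irr_centralChar_isIntegral χ z)
  have hrinv : MemLocalRing M ((r : ℂ)⁻¹) :=
    helper24.memLocalRing_inv
      (helper24.memLocalRing_of_integral hMtop (helper24.isIntegral_natCast_complex r))
      (helper24.natCast_not_memLocalIdeal hM hrp)
  have hdc : MemLocalRing M ((d' * c' : ℕ) : ℂ) :=
    helper24.memLocalRing_of_integral hMtop (helper24.isIntegral_natCast_complex _)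
  have hχ1 : (χ : X → ℂ) 1 = ((p ^ a * d' : ℕ) : ℂ) := by
    rw [← hd']; exact (helper24.char_charDegree_cast (helper24.irr_isCharacter χ.2)).symm
  have hχ1ne : (χ : X → ℂ) 1 ≠ 0 := helper24.irr_apply_one_ne_zero χ.2
  have hk0 : k ≠ 0 := by
    rintro rfl
    rw [zero_mul] at hc'
    have : 0 < Nat.card (Subgroup.centralizer ({z} : Set X)) := Nat.card_pos
    omega
  have hr0 : r ≠ 0 := by
    rintro rfl
    rw [mul_zero] at hXeq; omega
  have hpa0 : p ^ a ≠ 0 := pow_ne_zero _ hpp.pos.ne'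
  have hd0 : d' ≠ 0 := by
    rintro rfl
    rw [hχ1] at hχ1ne
    simp at hχ1ne
  have key : (χ : X → ℂ) z / (k : ℂ)
      = centralChar (χ : X → ℂ) z * ((d' * c' : ℕ) : ℂ) * (r : ℂ)⁻¹ := by
    unfold centralChar
    rw [hχ1]
    have hcast : (((Subgroup.centralizer ({z} : Set X)).index : ℕ) : ℂ) * ((k : ℂ) * (c' : ℂ))
        = ((p ^ a : ℕ) : ℂ) * (r : ℂ) := by
      have : (Subgroup.centralizer ({z} : Set X)).index * (k * c') = p ^ a * r := by
        rw [← hc', hidx, hXeq]
      exact_mod_cast this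
    have hkne : (k : ℂ) ≠ 0 := by exact_mod_cast hk0
    have hrne : (r : ℂ) ≠ 0 := by exact_mod_cast hr0
    have hpane : ((p ^ a : ℕ) : ℂ) ≠ 0 := by exact_mod_cast hpa0
    have hdne : (d' : ℂ) ≠ 0 := by exact_mod_cast hd0
    push_cast at hcast ⊢
    have hpne : ((p : ℂ) ^ a) ≠ 0 := pow_ne_zero _ (by exact_mod_cast hpp.ne_zero)
    have hic : ((Subgroup.centralizer ({z} : Set X)).index : ℂ) * (c' : ℂ)
        = (p : ℂ) ^ a * (r : ℂ) / (k : ℂ) := by
      rw [eq_div_iff hkne]; linear_combination hcast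
    calc (χ : X → ℂ) z / (k : ℂ)
        = (χ : X → ℂ) z * ((p : ℂ) ^ a * (r : ℂ) / (k : ℂ)) / ((p : ℂ) ^ a * (r : ℂ)) := by
          field_simp
      _ = (χ : X → ℂ) z * (((Subgroup.centralizer ({z} : Set X)).index : ℂ) * (c' : ℂ))
            / ((p : ℂ) ^ a * (r : ℂ)) := by rw [hic]
      _ = _ := by field_simp
  rw [key]
  exact helper24.memLocalRing_mul (helper24.memLocalRing_mul hint hdc) hrinv

/-- **Green, defect-zero core** -/
theorem dz_sylow_inter (p : ℕ) [Fact p.Prime] (M : Ideal AlgInt) (hM : IsPModular p M)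
    (χ : IrrCharacter X) (hdeg : p ^ (Nat.card X).factorization p ∣ charDegree (χ : X → ℂ))
    (x : X) (hcent : ¬ p ∣ Nat.card (Subgroup.centralizer ({x} : Set X)))
    (hω : ¬ MemLocalIdeal M (centralChar (χ : X → ℂ) x)) (Q : Sylow p X) :
    ∃ y : X, IsConj x y ∧
      ∀ u : X, u ∈ (Q : Subgroup X) → y⁻¹ * u * y ∈ (Q : Subgroup X) → u = 1 := by
  classical
  by_contra hcon
  push Not at hcon
  have hpp : p.Prime := Fact.out
  have hMp : M.IsPrime := hM.2.1.isPrime
  have hMtop : M ≠ ⊤ := hMp.ne_top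
  have hχc := helper24.irr_isCharacter χ.2
  have hχcf := helper24.char_isClassFunction hχc
  have hQp : IsPGroup p (Q : Subgroup X) := Q.isPGroup'
  -- free action
  have hfreeQ : ∀ y : X, IsConj x y → ∀ s ∈ (Q : Subgroup X), s * y * s⁻¹ = y → s = 1 := by
    intro y hy s hs hsy
    obtain ⟨g, hg⟩ := isConj_iff.mp hy
    obtain ⟨k, hk⟩ := hQp ⟨s, hs⟩
    have hk' : s ^ (p ^ k) = 1 := by
      have := congrArg Subtype.val hk
      simpa using this
    set t : X := g⁻¹ * s * g with ht
    have htx : t ∈ Subgroup.centralizer ({x} : Set X) := by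
      rw [Subgroup.mem_centralizer_iff]
      intro h hh
      rw [Set.mem_singleton_iff] at hh
      subst hh
      rw [ht]
      have h1 : s * (g * h * g⁻¹) = (g * h * g⁻¹) * s := by
        rw [hg]
        calc s * y = (s * y * s⁻¹) * s := by group
          _ = y * s := by rw [hsy]
      calc h * (g⁻¹ * s * g) = g⁻¹ * ((g * h * g⁻¹) * s) * g := by group
        _ = g⁻¹ * (s * (g * h * g⁻¹)) * g := by rw [h1]
        _ = g⁻¹ * s * g * h := by group
    have htpow : t ^ (p ^ k) = 1 := by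
      rw [ht]
      have : (g⁻¹ * s * g) ^ (p ^ k) = g⁻¹ * s ^ (p ^ k) * g := by
        have := conj_pow (a := g⁻¹) (b := s) (i := p ^ k)
        rw [inv_inv] at this
        exact this
      rw [this, hk']; group
    have h1 : orderOf t ∣ p ^ k := orderOf_dvd_of_pow_eq_one htpow
    have h2 : orderOf t ∣ Nat.card (Subgroup.centralizer ({x} : Set X)) := by
      have := orderOf_dvd_natCard (⟨t, htx⟩ : Subgroup.centralizer ({x} : Set X))
      rwa [Subgroup.orderOf_mk] at this
    have hcop : Nat.Coprime (p ^ k) (Nat.card (Subgroup.centralizer ({x} : Set X))) :=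
      ((Nat.Prime.coprime_iff_not_dvd hpp).mpr hcent).pow_left k
    have h3 : orderOf t ∣ 1 := by
      have := Nat.dvd_gcd h1 h2
      rwa [hcop] at this
    have h4 : t = 1 := orderOf_eq_one_iff.mp (Nat.dvd_one.mp h3)
    have : s = g * t * g⁻¹ := by rw [ht]; group
    rw [this, h4]; group
  -- the counting function
  set n : X → ℕ := fun z => Nat.card {y : X // IsConj x y ∧ z⁻¹ * y ∈ (Q : Subgroup X)} with hn
  -- Step A
  have hA : ∀ z : X, p ∣ n z := by
    intro z
    by_cases hne : Nonempty {y : X // IsConj x y ∧ z⁻¹ * y ∈ (Q : Subgroup X)}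
    · obtain ⟨⟨y₀, hy₀L, hy₀Q⟩⟩ := hne
      obtain ⟨u, huQ, huy, hu1⟩ := hcon y₀ hy₀L
      set S : Subgroup X := (Q : Subgroup X) ⊓
        (Q : Subgroup X).comap (MulAut.conj y₀⁻¹).toMonoidHom with hS
      have hmemS : ∀ s : X, s ∈ S ↔ s ∈ (Q : Subgroup X) ∧ y₀⁻¹ * s * y₀ ∈ (Q : Subgroup X) := by
        intro s
        rw [hS, Subgroup.mem_inf, Subgroup.mem_comap]
        simp only [MulEquiv.coe_toMonoidHom, MulAut.conj_apply, inv_inv]
      have hSp : IsPGroup p S := hQp.to_le inf_le_left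
      have hSne : S ≠ ⊥ := by
        intro hbot
        apply hu1
        have : u ∈ S := (hmemS u).mpr ⟨huQ, huy⟩
        rw [hbot, Subgroup.mem_bot] at this
        exact this
      have := free_conj_card_dvd p S hSp hSne
        {y : X | IsConj x y ∧ z⁻¹ * y ∈ (Q : Subgroup X)} ?_ ?_
      · exact this
      · intro s hs y hy
        obtain ⟨hsQ, hsy⟩ := (hmemS s).mp hs
        refine ⟨hy.1.trans (isConj_iff.mpr ⟨s, rfl⟩), ?_⟩
        have h1 : z⁻¹ * s * z ∈ (Q : Subgroup X) := by
          have : z⁻¹ * s * z = (z⁻¹ * y₀) * (y₀⁻¹ * s * y₀) * (z⁻¹ * y₀)⁻¹ := by group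
          rw [this]
          exact (Q : Subgroup X).mul_mem ((Q : Subgroup X).mul_mem hy₀Q hsy)
            ((Q : Subgroup X).inv_mem hy₀Q)
        have : z⁻¹ * (s * y * s⁻¹) = (z⁻¹ * s * z) * (z⁻¹ * y) * s⁻¹ := by group
        rw [this]
        exact (Q : Subgroup X).mul_mem ((Q : Subgroup X).mul_mem h1 hy.2)
          ((Q : Subgroup X).inv_mem hsQ)
      · intro y hy s hs hsy
        exact hfreeQ y hy.1 s ((hmemS s).mp hs).1 hsy
    · rw [not_nonempty_iff] at hne
      have : n z = 0 := by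
        rw [hn]
        exact Nat.card_eq_zero.mpr (Or.inl hne)
      rw [this]; exact dvd_zero p
  -- Step B
  have hncast : ∀ z : X, (n z : ℂ) = ∑ y : X,
      if IsConj x y ∧ z⁻¹ * y ∈ (Q : Subgroup X) then (1 : ℂ) else 0 := by
    intro z
    rw [hn]
    simp only [Nat.card_eq_fintype_card, Fintype.card_subtype, Finset.card_filter]
    push_cast
    rfl
  have hvanQ : ∀ w : X, w ∈ (Q : Subgroup X) → w ≠ 1 → (χ : X → ℂ) w⁻¹ = 0 := by
    intro w hw hw1
    apply helper24.defect_zero_vanish p χ hdeg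
    rw [orderOf_inv]
    obtain ⟨k, hk⟩ := (IsPGroup.iff_orderOf.mp hQp) ⟨w, hw⟩
    rw [Subgroup.orderOf_mk] at hk
    rw [hk]
    have hk0 : k ≠ 0 := by
      rintro rfl
      rw [pow_zero] at hk
      exact hw1 (orderOf_eq_one_iff.mp hk)
    exact dvd_pow_self p hk0
  have hB : ∑ z : X, (n z : ℂ) * (χ : X → ℂ) z
      = centralChar (χ : X → ℂ) x * (χ : X → ℂ) 1 := by
    have h1 : ∀ z : X, (n z : ℂ) * (χ : X → ℂ) z = ∑ y : X,
        (if IsConj x y ∧ z⁻¹ * y ∈ (Q : Subgroup X) then (1 : ℂ) else 0) * (χ : X → ℂ) z := by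
      intro z
      rw [hncast z, Finset.sum_mul]
    rw [Finset.sum_congr rfl (fun z _ => h1 z), Finset.sum_comm]
    have h2 : ∀ y : X, ∑ z : X,
        (if IsConj x y ∧ z⁻¹ * y ∈ (Q : Subgroup X) then (1 : ℂ) else 0) * (χ : X → ℂ) z
        = ∑ w : X, (if w ∈ (Q : Subgroup X) then (1 : ℂ) else 0) *
          (helper24.classInd x y * (χ : X → ℂ) (w⁻¹ * y)) := by
      intro y
      refine Fintype.sum_equiv ((Equiv.inv X).trans (Equiv.mulRight y)) _ _ (fun z => ?_)
      simp only [Equiv.trans_apply, Equiv.inv_apply, Equiv.coe_mulRight]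
      have hz : (z⁻¹ * y)⁻¹ * y = y⁻¹ * z * y := by group
      rw [hz]
      have hχz : (χ : X → ℂ) (y⁻¹ * z * y) = (χ : X → ℂ) z := by
        have := hχcf z y⁻¹
        rwa [inv_inv] at this
      rw [hχz]
      unfold helper24.classInd
      by_cases hy : IsConj x y
      · by_cases hq : z⁻¹ * y ∈ (Q : Subgroup X)
        · rw [if_pos ⟨hy, hq⟩, if_pos hq, if_pos hy]; ring
        · rw [if_neg (fun h => hq h.2), if_neg hq]; ring
      · rw [if_neg (fun h => hy h.1), if_neg hy]; ring
    rw [Finset.sum_congr rfl (fun y _ => h2 y), Finset.sum_comm]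
    have h3 : ∀ w : X, ∑ y : X, (if w ∈ (Q : Subgroup X) then (1 : ℂ) else 0) *
          (helper24.classInd x y * (χ : X → ℂ) (w⁻¹ * y))
        = (if w ∈ (Q : Subgroup X) then (1 : ℂ) else 0) *
          (centralChar (χ : X → ℂ) x * (χ : X → ℂ) w⁻¹) := by
      intro w
      rw [← Finset.mul_sum, helper24.sum_mul_char_shift χ.2 (helper24.classInd_isClassFunction x) w⁻¹,
        helper24.omegaFn_classInd hχc x]
    rw [Finset.sum_congr rfl (fun w _ => h3 w), Finset.sum_eq_single 1]
    · rw [if_pos (Q : Subgroup X).one_mem, inv_one, one_mul]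
    · intro w _ hw1
      by_cases hw : w ∈ (Q : Subgroup X)
      · rw [hvanQ w hw hw1, mul_zero, mul_zero]
      · rw [if_neg hw, zero_mul]
    · intro h; exact absurd (Finset.mem_univ _) h
  -- Step C: invariance
  have hC : ∀ s ∈ (Q : Subgroup X), ∀ z : X,
      (n (s * z * s⁻¹) : ℂ) * (χ : X → ℂ) (s * z * s⁻¹) = (n z : ℂ) * (χ : X → ℂ) z := by
    intro s hs z
    rw [hχcf z s]
    congr 2
    rw [hn]
    symm
    apply Nat.card_congr
    refine Equiv.subtypeEquiv (MulAut.conj s).toEquiv (fun y => ?_)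
    simp only [MulEquiv.toEquiv_eq_coe, EquivLike.coe_coe, MulAut.conj_apply]
    constructor
    · rintro ⟨h1, h2⟩
      refine ⟨h1.trans (isConj_iff.mpr ⟨s, rfl⟩), ?_⟩
      have : (s * z * s⁻¹)⁻¹ * (s * y * s⁻¹) = s * (z⁻¹ * y) * s⁻¹ := by group
      rw [this]
      exact (Q : Subgroup X).mul_mem ((Q : Subgroup X).mul_mem hs h2) ((Q : Subgroup X).inv_mem hs)
    · rintro ⟨h1, h2⟩
      refine ⟨h1.trans (isConj_iff.mpr ⟨s⁻¹, by group⟩), ?_⟩
      have : z⁻¹ * y = s⁻¹ * ((s * z * s⁻¹)⁻¹ * (s * y * s⁻¹)) * s := by group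
      rw [this]
      exact (Q : Subgroup X).mul_mem ((Q : Subgroup X).mul_mem ((Q : Subgroup X).inv_mem hs) h2) hs
  -- Step D
  have hD : ∀ z : X, MemLocalIdeal M ((n z : ℂ) * (χ : X → ℂ) z /
      (Nat.card {s : (Q : Subgroup X) // (s : X) * z * (s : X)⁻¹ = z} : ℂ)) := by
    intro z
    set K : Subgroup X := (Q : Subgroup X) ⊓ Subgroup.centralizer ({z} : Set X) with hK
    have hcardK : Nat.card {s : (Q : Subgroup X) // (s : X) * z * (s : X)⁻¹ = z} = Nat.card K := by
      apply Nat.card_congr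
      refine ⟨fun s => ⟨s.1.1, ?_⟩, fun t => ⟨⟨t.1, (Subgroup.mem_inf.mp t.2).1⟩, ?_⟩,
        fun _ => rfl, fun _ => rfl⟩
      · rw [hK, Subgroup.mem_inf]
        refine ⟨s.1.2, ?_⟩
        rw [Subgroup.mem_centralizer_iff]
        intro h hh
        rw [Set.mem_singleton_iff] at hh
        subst hh
        have := s.2
        calc h * (s.1 : X) = ((s.1 : X) * h * (s.1 : X)⁻¹)⁻¹⁻¹ * (s.1 : X) := by rw [this, inv_inv]
          _ = (s.1 : X) * h := by group
      · have h2 := (Subgroup.mem_inf.mp t.2).2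
        rw [Subgroup.mem_centralizer_iff] at h2
        have h3 := h2 z (Set.mem_singleton z)
        show (t : X) * z * (t : X)⁻¹ = z
        rw [← h3]; group
    have hKdvd : Nat.card K ∣ Nat.card (Subgroup.centralizer ({z} : Set X)) :=
      Subgroup.card_dvd_of_le inf_le_right
    rw [hcardK]
    have h1 := dz_value_div p M hM χ hdeg z (Nat.card K) hKdvd
    have h2 : MemLocalIdeal M (n z : ℂ) := helper24.natCast_memLocalIdeal_of_dvd hM (hA z)
    have h3 := helper24.memLocalIdeal_mul_left h1 h2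
    have : (n z : ℂ) * (χ : X → ℂ) z / (Nat.card K : ℂ)
        = (χ : X → ℂ) z / (Nat.card K : ℂ) * (n z : ℂ) := by ring
    rw [this]; exact h3
  -- Step E
  have hE := conj_invariant_sum_memLocalIdeal M (Q : Subgroup X)
    (fun z => (n z : ℂ) * (χ : X → ℂ) z) hC hD
  beta_reduce at hE
  rw [hB] at hE
  obtain ⟨d', hd'⟩ := hdeg
  have hχ1 : (χ : X → ℂ) 1 = ((p ^ (Nat.card X).factorization p * d' : ℕ) : ℂ) := by
    rw [← hd']; exact (helper24.char_charDegree_cast hχc).symm
  have hQcard : Nat.card (Q : Subgroup X) = p ^ (Nat.card X).factorization p :=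
    Q.card_eq_multiplicity
  have hXpos : 0 < Nat.card X := Nat.card_pos
  have hd'p : ¬ p ∣ d' := by
    intro hpd
    have hdvd := helper23.irr_degree_dvd_card χ
    rw [hd'] at hdvd
    obtain ⟨e, rfl⟩ := hpd
    have h1 : p ^ ((Nat.card X).factorization p + 1) ∣ Nat.card X := by
      rw [pow_succ]
      exact Dvd.dvd.trans ⟨e, by ring⟩ hdvd
    exact Nat.pow_succ_factorization_not_dvd hXpos.ne' hpp h1
  have hfinal : centralChar (χ : X → ℂ) x * (χ : X → ℂ) 1 / (Nat.card (Q : Subgroup X) : ℂ)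
      = centralChar (χ : X → ℂ) x * (d' : ℂ) := by
    rw [hχ1, hQcard]
    have hpane : ((p ^ (Nat.card X).factorization p : ℕ) : ℂ) ≠ 0 := by
      have : p ^ (Nat.card X).factorization p ≠ 0 := pow_ne_zero _ hpp.pos.ne'
      exact_mod_cast this
    push_cast at hpane ⊢
    field_simp
  rw [hfinal] at hE
  have hωR : MemLocalRing M (centralChar (χ : X → ℂ) x) :=
    helper24.memLocalRing_of_integral hMtop (helper23.irr_centralChar_isIntegral χ x)
  have hdR : MemLocalRing M (d' : ℂ) :=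
    helper24.memLocalRing_of_integral hMtop (helper24.isIntegral_natCast_complex d')
  exact helper24.not_memLocalIdeal_mul hωR hdR hω (helper24.natCast_not_memLocalIdeal hM hd'p) hE

end GreenDZ

end Cfsg.Agent.helper1
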