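import Mathlib
import Cfsg.Prelude
import Cfsg.Agent.Lib_helper1_GreenDZ

set_option autoImplicit false

/-!
Green's theorem, assembly lemmas (helper1): `p`-elements commuting with a conjugate of an element
with `p'`-centralizer, normalizer growth, centralizers modulo a normal `p`-subgroup.
-/

namespace Cfsg.Agent.helper1

open Cfsg

universe u

section GreenAsm
variable {X : Type u} [Group X] [Finite X]

/-- a `p`-element commuting with a conjugate of an element with `p'`-centralizer is trivial -/
theorem p_elt_comm_conj_eq_one (p : ℕ) [Fact p.Prime] (x y s : X)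
    (hcent : ¬ p ∣ Nat.card (Subgroup.centralizer ({x} : Set X))) (hy : IsConj x y)
    (hsy : s * y * s⁻¹ = y) (k : ℕ) (hk' : s ^ (p ^ k) = 1) : s = 1 := by
  have hpp : p.Prime := Fact.out
  obtain ⟨g, hg⟩ := isConj_iff.mp hy
  set t : X := g⁻¹ * s * g with ht
  have htx : t ∈ Subgroup.centralizer ({x} : Set X) := by
    rw [Subgroup.mem_centralizer_iff]
    intro h hh
    rw [Set.mem_singleton_iff] at hh
    subst hh
    rw [ht]
    have h1 : s * (g * h * g⁻¹) = (g * h * g⁻¹) * s := by
      rw [hg]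
      calc s * y = (s * y * s⁻¹) * s := by group
        _ = y * s := by rw [hsy]
    calc h * (g⁻¹ * s * g) = g⁻¹ * ((g * h * g⁻¹) * s) * g := by group
      _ = g⁻¹ * (s * (g * h * g⁻¹)) * g := by rw [h1]
      _ = g⁻¹ * s * g * h := by group
  have htpow : t ^ (p ^ k) = 1 := by
    rw [ht]
    have : (g⁻¹ * s * g) ^ (p ^ k) = g⁻¹ * s ^ (p ^ k) * g := by
      have := conj_pow (a := g⁻¹) (b := s) (i := p ^ k)
      rw [inv_inv] at this
      exact this
    rw [this, hk']; group
  have h1 : orderOf t ∣ p ^ k := orderOf_dvd_of_pow_eq_one htpow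
  have h2 : orderOf t ∣ Nat.card (Subgroup.centralizer ({x} : Set X)) := by
    have := orderOf_dvd_natCard (⟨t, htx⟩ : Subgroup.centralizer ({x} : Set X))
    rwa [Subgroup.orderOf_mk] at this
  have hcop : Nat.Coprime (p ^ k) (Nat.card (Subgroup.centralizer ({x} : Set X))) :=
    ((Nat.Prime.coprime_iff_not_dvd hpp).mpr hcent).pow_left k
  have h3 : orderOf t ∣ 1 := by
    have := Nat.dvd_gcd h1 h2
    rwa [hcop] at this
  have h4 : t = 1 := orderOf_eq_one_iff.mp (Nat.dvd_one.mp h3)
  have : s = g * t * g⁻¹ := by rw [ht]; group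
  rw [this, h4]; group

/-- normalizer growth: a `p`-group `R ≥ D` all of whose elements normalizing `D` lie in `D` is `D` -/
theorem pgroup_le_of_normalizer_le (p : ℕ) [Fact p.Prime] (D R : Subgroup X)
    (hR : IsPGroup p R) (hDR : D ≤ R)
    (h : ∀ u ∈ R, u ∈ Subgroup.normalizer (D : Set X) → u ∈ D) : R ≤ D := by
  have hnil : Group.IsNilpotent R := hR.isNilpotent
  have hnc : NormalizerCondition R := Group.normalizerCondition_of_isNilpotent
  by_contra hle
  have hlt : D.subgroupOf R < ⊤ := by
    rw [lt_top_iff_ne_top]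
    intro htop
    apply hle
    intro u hu
    have : (⟨u, hu⟩ : R) ∈ D.subgroupOf R := by rw [htop]; exact Subgroup.mem_top _
    exact Subgroup.mem_subgroupOf.mp this
  have h1 := hnc (D.subgroupOf R) hlt
  obtain ⟨u, hu1, hu2⟩ := SetLike.exists_of_lt h1
  rw [← Subgroup.subgroupOf_normalizer_eq hDR, Subgroup.mem_subgroupOf] at hu1
  exact hu2 (Subgroup.mem_subgroupOf.mpr (h u u.2 hu1))

/-- for a `p`-regular element `x` centralizing the normal `p`-subgroup `N`, the preimage of the
centralizer of `xN` in `X/N` is the centralizer of `x` -/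
theorem comap_centralizer_quot (p : ℕ) [Fact p.Prime] (N : Subgroup X) [N.Normal]
    (hN : IsPGroup p N) (x : X) (hx : ¬ p ∣ orderOf x)
    (hxN : ∀ d ∈ N, d * x = x * d) :
    (Subgroup.centralizer ({(QuotientGroup.mk x : X ⧸ N)} : Set (X ⧸ N))).comap
      (QuotientGroup.mk' N) = Subgroup.centralizer ({x} : Set X) := by
  have hpp : p.Prime := Fact.out
  ext h
  rw [Subgroup.mem_comap, Subgroup.mem_centralizer_iff, Subgroup.mem_centralizer_iff]
  constructor
  · intro hh z hz
    rw [Set.mem_singleton_iff] at hz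
    subst hz
    have h1 := hh (QuotientGroup.mk z) (Set.mem_singleton _)
    -- d := z⁻¹ * h⁻¹ * z * h ∈ N  (so h⁻¹ z h = z d)
    set d : X := z⁻¹ * (h⁻¹ * z * h) with hd
    have hdN : d ∈ N := by
      have : (QuotientGroup.mk d : X ⧸ N) = 1 := by
        rw [hd, QuotientGroup.mk_mul, QuotientGroup.mk_mul, QuotientGroup.mk_mul,
          QuotientGroup.mk_inv, QuotientGroup.mk_inv]
        have h2 : (QuotientGroup.mk z : X ⧸ N) * (QuotientGroup.mk h : X ⧸ N)
            = (QuotientGroup.mk h : X ⧸ N) * (QuotientGroup.mk z : X ⧸ N) := h1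
        calc (QuotientGroup.mk z : X ⧸ N)⁻¹ * ((QuotientGroup.mk h : X ⧸ N)⁻¹ *
              (QuotientGroup.mk z : X ⧸ N) * (QuotientGroup.mk h : X ⧸ N))
            = (QuotientGroup.mk z : X ⧸ N)⁻¹ * ((QuotientGroup.mk h : X ⧸ N)⁻¹ *
              ((QuotientGroup.mk z : X ⧸ N) * (QuotientGroup.mk h : X ⧸ N))) := by group
          _ = 1 := by rw [h2]; group
      exact (QuotientGroup.eq_one_iff d).mp this
    have hconj : h⁻¹ * z * h = z * d := by rw [hd]; group
    have hcomm : Commute z d := (hxN d hdN).symm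
    set m := orderOf z with hm
    have hpow : (h⁻¹ * z * h) ^ m = 1 := by
      have := conj_pow (a := h⁻¹) (b := z) (i := m)
      rw [inv_inv] at this
      rw [this, hm, pow_orderOf_eq_one]; group
    rw [hconj, hcomm.mul_pow, hm, pow_orderOf_eq_one, one_mul] at hpow
    -- d^m = 1 with d a p-element and p ∤ m
    obtain ⟨k, hk⟩ := hN ⟨d, hdN⟩
    have hk' : d ^ (p ^ k) = 1 := by
      have := congrArg Subtype.val hk
      simpa using this
    have h3 : orderOf d ∣ p ^ k := orderOf_dvd_of_pow_eq_one hk'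
    have h4 : orderOf d ∣ orderOf z := orderOf_dvd_of_pow_eq_one hpow
    have hcop : Nat.Coprime (p ^ k) (orderOf z) :=
      ((Nat.Prime.coprime_iff_not_dvd hpp).mpr hx).pow_left k
    have h5 : orderOf d ∣ 1 := by
      have := Nat.dvd_gcd h3 h4
      rwa [hcop] at this
    have hd1 : d = 1 := orderOf_eq_one_iff.mp (Nat.dvd_one.mp h5)
    rw [hd1, mul_one] at hconj
    calc z * h = h * (h⁻¹ * z * h) := by group
      _ = h * z := by rw [hconj]
  · intro hh z hz
    rw [Set.mem_singleton_iff] at hz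
    subst hz
    have h1 := hh x (Set.mem_singleton _)
    show (QuotientGroup.mk x : X ⧸ N) * (QuotientGroup.mk h : X ⧸ N)
      = (QuotientGroup.mk h : X ⧸ N) * (QuotientGroup.mk x : X ⧸ N)
    rw [← QuotientGroup.mk_mul, ← QuotientGroup.mk_mul, h1]

end GreenAsm

end Cfsg.Agent.helper1
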