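import Mathlib
import Cfsg.Prelude
import Cfsg.Agent.Lib_helper24_Fong6
import Cfsg.Agent.Lib_helper22_Clifford
import Cfsg.Agent.Lib_helper23_Central

set_option autoImplicit false
set_option linter.unusedVariables false
set_option linter.unusedSectionVars false
set_option linter.style.longLine false
set_option linter.style.haveILetI false

namespace Cfsg.Agent.helper1

open Cfsg
open scoped ComplexConjugate

universe u

section HZI

variable {G : Type u} [Group G] [Fintype G] {M : Ideal AlgInt}
  (N : Subgroup G) [hN : N.Normal] [Fintype N] (b : Set (IrrCharacter N))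

/-- an invariant block of a normal subgroup contains a height zero character whose inertia group
has index prime to `p` -/
theorem exists_height_zero_inertia (p : ℕ) [Fact p.Prime] (hM : IsPModular p M)
    (hb : IsPBlock M b)
    (hinv : ∀ g : G, ∀ θ ∈ b, ∀ θ' : IrrCharacter N,
      (∀ n : N, (θ' : N → ℂ) n = (θ : N → ℂ) ⟨g * n * g⁻¹, hN.conj_mem n n.2 g⟩) → θ' ∈ b) :
    ∃ θ ∈ b, blockHeight p b (θ : N → ℂ) = 0 ∧ ¬ p ∣ (helper22.inertia N θ).index := by
  classical
  haveI hMp : M.IsPrime := hM.2.1.isPrime
  have hp : p.Prime := Fact.out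
  obtain ⟨B', hB', ⟨χ₁, hχ₁, θ₁, hθ₁, hc₁⟩, hbig⟩ := helper24.fg_exists_big N b p hM hb hinv
  have hne : ((fun χ : IrrCharacter G => (charDegree (χ : G → ℂ)).factorization p) '' B').Nonempty :=
    ⟨_, χ₁, hχ₁, rfl⟩
  obtain ⟨ψ, hψ, hψs⟩ := Nat.sInf_mem hne
  obtain ⟨θ, hθu⟩ := helper8.Cover.exists_under N ψ.2
  have hs : SameBlock M (χ₁ : G → ℂ) (ψ : G → ℂ) := by
    rw [← helper24.blockOf_eq_of_mem hB' hχ₁] at hψ
    exact hψ
  have h1 := helper24.fg_omega_of_sameBlock N b hb hinv hs ⟨θ₁, hθ₁, hc₁⟩
  have h2 := helper24.fg_omega_E N b hb hinv ψ.2 hθu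
  have hθb : θ ∈ b := by
    by_contra h
    rw [h2, if_neg h] at h1
    exact zero_ne_one h1
  obtain ⟨ψ₀, hψ₀, -, ⟨k, hk0, hk⟩, hdeg⟩ :=
    helper22.clifford_degree N ψ.2 θ hθu (helper22.inertia N θ) rfl
  have hψ₀deg : charDegree ψ₀ = k * charDegree (θ : N → ℂ) := by
    have h3 := hk 1
    have h4 := helper24.char_charDegree_cast (helper24.irr_isCharacter hψ₀)
    have h5 := helper24.char_charDegree_cast (helper24.irr_isCharacter θ.2)
    have h6 : ((charDegree ψ₀ : ℕ) : ℂ) = ((k * charDegree (θ : N → ℂ) : ℕ) : ℂ) := by
      push_cast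
      rw [h4, h5]
      exact h3
    exact_mod_cast h6
  rw [hψ₀deg] at hdeg
  have hθpos : charDegree (θ : N → ℂ) ≠ 0 := (helper24.irr_charDegree_pos θ.2).ne'
  have hidx : (helper22.inertia N θ).index ≠ 0 := Subgroup.index_ne_zero_of_finite
  have hfac : (charDegree (ψ : G → ℂ)).factorization p =
      (helper22.inertia N θ).index.factorization p + k.factorization p +
        (charDegree (θ : N → ℂ)).factorization p := by
    rw [hdeg, Nat.factorization_mul hidx (Nat.mul_ne_zero hk0 hθpos),
      Nat.factorization_mul hk0 hθpos]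
    simp only [Finsupp.coe_add, Pi.add_apply]
    ring
  have hsb : sInf ((fun χ : IrrCharacter N => (charDegree (χ : N → ℂ)).factorization p) '' b) ≤
      (charDegree (θ : N → ℂ)).factorization p := Nat.sInf_le ⟨θ, hθb, rfl⟩
  have hθN : (charDegree (θ : N → ℂ)).factorization p ≤ (Nat.card N).factorization p := by
    have hd := helper23.irr_degree_dvd_card θ
    exact (Nat.factorization_le_iff_dvd hθpos Nat.card_pos.ne').2 hd p
  have hψG : (charDegree (ψ : G → ℂ)).factorization p ≤ (Nat.card G).factorization p := by
    have hd := helper23.irr_degree_dvd_card ψ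
    exact (Nat.factorization_le_iff_dvd (helper24.irr_charDegree_pos ψ.2).ne'
      Nat.card_pos.ne').2 hd p
  have hGN : (Nat.card G).factorization p =
      (Nat.card N).factorization p + N.index.factorization p := by
    rw [← N.card_mul_index, Nat.factorization_mul Nat.card_pos.ne'
      Subgroup.index_ne_zero_of_finite]
    rfl
  unfold blockDefect at hbig
  have hψs' : (charDegree (ψ : G → ℂ)).factorization p =
      sInf ((fun χ : IrrCharacter G => (charDegree (χ : G → ℂ)).factorization p) '' B') := hψs
  have hkey : (helper22.inertia N θ).index.factorization p = 0 ∧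
      (charDegree (θ : N → ℂ)).factorization p -
        sInf ((fun χ : IrrCharacter N => (charDegree (χ : N → ℂ)).factorization p) '' b) = 0 := by
    generalize (charDegree (θ : N → ℂ)).factorization p = vθ at *
    generalize (charDegree (ψ : G → ℂ)).factorization p = vψ at *
    generalize sInf ((fun χ : IrrCharacter N => (charDegree (χ : N → ℂ)).factorization p) '' b)
      = sb at *
    generalize sInf ((fun χ : IrrCharacter G => (charDegree (χ : G → ℂ)).factorization p) '' B')
      = sB at *
    generalize (helper22.inertia N θ).index.factorization p = vI at *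
    generalize k.factorization p = vk at *
    generalize (Nat.card G).factorization p = vG at *
    generalize (Nat.card N).factorization p = vN at *
    generalize N.index.factorization p = vi at *
    omega
  refine ⟨θ, hθb, ?_, ?_⟩
  · exact hkey.2
  · have h0 := hkey.1
    rcases (Nat.factorization_eq_zero_iff _ _).1 h0 with h | h | h
    · exact absurd hp h
    · exact h
    · exact absurd h hidx

end HZI

section Transport

variable {H₁ H₂ : Type u} [Group H₁] [Group H₂]

theorem blockHeight_transportSet (p : ℕ) (e : H₁ ≃* H₂) (b : Set (IrrCharacter H₂))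
    (θ : IrrCharacter H₂) :
    blockHeight p (helper24.transportSet e b) (helper24.irrTransport e θ : H₁ → ℂ) =
      blockHeight p b (θ : H₂ → ℂ) := by
  unfold blockHeight
  congr 1
  · unfold charDegree
    rw [helper24.irrTransport_apply, map_one]
  · congr 1
    ext n
    constructor
    · rintro ⟨φ, ⟨θ', hθ', hφ⟩, rfl⟩
      refine ⟨θ', hθ', ?_⟩
      show (charDegree (θ' : H₂ → ℂ)).factorization p = (charDegree (φ : H₁ → ℂ)).factorization p
      unfold charDegree
      rw [hφ]
      simp only [map_one]
    · rintro ⟨θ', hθ', rfl⟩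
      refine ⟨helper24.irrTransport e θ', (helper24.mem_transportSet_iff e b θ').2 hθ', ?_⟩
      show (charDegree (helper24.irrTransport e θ' : H₁ → ℂ)).factorization p =
        (charDegree (θ' : H₂ → ℂ)).factorization p
      unfold charDegree
      rw [helper24.irrTransport_apply, map_one]

end Transport

end Cfsg.Agent.helper1
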