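import Mathlib
import Cfsg.Agent.Lib_helper24_BPair17

/-!
Brauer pairs (helper24), part 18: composition of conjugations of pairs, stabilizers of conjugate
pairs, and the normalizer in `P` as a defect group of the block of the stabilizer.
-/

set_option autoImplicit false

namespace Cfsg.Agent.helper24

open Cfsg Cfsg.Agent.helper5 Cfsg.Agent.helper8
open scoped ComplexConjugate

universe u

section Conj18a

variable {G : Type u} [Group G]

theorem map_conj_map_conj (Q : Subgroup G) (x y : G) :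
    (Q.map (MulAut.conj x).toMonoidHom).map (MulAut.conj y).toMonoidHom
      = Q.map (MulAut.conj (y * x)).toMonoidHom := by
  ext z
  constructor
  · rintro ⟨_, ⟨q, hq, rfl⟩, rfl⟩
    refine ⟨q, hq, ?_⟩
    show y * x * q * (y * x)⁻¹ = y * (x * q * x⁻¹) * y⁻¹
    group
  · rintro ⟨q, hq, rfl⟩
    refine ⟨x * q * x⁻¹, ⟨q, hq, rfl⟩, ?_⟩
    show y * (x * q * x⁻¹) * y⁻¹ = y * x * q * (y * x)⁻¹
    group

/-- conjugating a pair twice -/
theorem cjPair_mul (y x : G) (a : BrauerPairIdx G) :
    cjPair y (cjPair x a) = cjPair (y * x) a := by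
  obtain ⟨Q, f⟩ := a
  show (⟨(Q.map (MulAut.conj x).toMonoidHom).map (MulAut.conj y).toMonoidHom,
      conjBlock (Q.map (MulAut.conj x).toMonoidHom) y (conjBlock Q x f)⟩ : BrauerPairIdx G)
    = ⟨Q.map (MulAut.conj (y * x)).toMonoidHom, conjBlock Q (y * x) f⟩
  apply pairIdx_ext (map_conj_map_conj Q x y)
  intro θ'
  constructor
  · rintro ⟨ξ, hξ, h⟩
    refine ⟨irrTransport (Cfsg.Agent.helper1.centralizerConjEquiv
        (Q.map (MulAut.conj x).toMonoidHom) y)
      (irrTransport (Cfsg.Agent.helper1.centralizerConjEquiv Q x) ξ),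
      mem_conjBlock_transport _ y _ _ (mem_conjBlock_transport Q x f ξ hξ), ?_⟩
    intro c c' hc
    rw [irrTransport_apply, irrTransport_apply]
    apply h
    rw [Cfsg.Agent.helper1.centralizerConjEquiv_coe, Cfsg.Agent.helper1.centralizerConjEquiv_coe,
      ← hc]
    group
  · rintro ⟨θ, ⟨ξ₁, ⟨ξ, hξ, h1⟩, h2⟩, h3⟩
    refine ⟨ξ, hξ, ?_⟩
    intro c₀ c' hc
    obtain ⟨c₁, hc₁⟩ : ∃ c₁ : ↥(Subgroup.centralizer
        ((Q.map (MulAut.conj x).toMonoidHom : Subgroup G) : Set G)),
      c₁ = (Cfsg.Agent.helper1.centralizerConjEquiv Q x).symm c₀ := ⟨_, rfl⟩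
    obtain ⟨c, hcdef⟩ : ∃ c : ↥(Subgroup.centralizer
        (((Q.map (MulAut.conj x).toMonoidHom).map (MulAut.conj y).toMonoidHom : Subgroup G)
          : Set G)),
      c = (Cfsg.Agent.helper1.centralizerConjEquiv (Q.map (MulAut.conj x).toMonoidHom) y).symm
        c₁ := ⟨_, rfl⟩
    have e1 : (c₁ : G) = x * (c₀ : G) * x⁻¹ := by
      rw [hc₁, Cfsg.Agent.helper1.centralizerConjEquiv_symm_coe]
    have e2 : (c : G) = y * (c₁ : G) * y⁻¹ := by
      rw [hcdef, Cfsg.Agent.helper1.centralizerConjEquiv_symm_coe]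
    have e3 : (c : G) = (c' : G) := by
      rw [e2, e1, hc]
      group
    rw [h3 c c' e3, h2 c₁ c e2, h1 c₀ c₁ e1]

theorem cjPair_one [Finite G] (a : BrauerPairIdx G) : cjPair 1 a = a := by
  obtain ⟨Q, f⟩ := a
  have h1 : StabilizesBlock (Subgroup.centralizer (Q : Set G)) f 1 :=
    stabilizesBlock_of_mem_self f (one_mem _)
  have h1' : StabilizesBlock (Subgroup.centralizer (Q : Set G)) f 1⁻¹ := by
    rw [inv_one]
    exact h1
  exact cjPair_eq_of_stabilizes (one_mem _) h1 h1'

/-- the stabilizer of a pair in terms of conjugation of pairs -/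
theorem stab_mem_iff_cjPair [Fintype G] {Q : Subgroup G}
    {f : Set (IrrCharacter (Subgroup.centralizer (Q : Set G)))} (y : G) :
    (y ∈ Subgroup.normalizer (Q : Set G) ∧
      StabilizesBlock (Subgroup.centralizer (Q : Set G)) f y) ↔
      cjPair y (⟨Q, f⟩ : BrauerPairIdx G) = ⟨Q, f⟩ := by
  constructor
  · rintro ⟨hN, hst⟩
    exact cjPair_eq_of_stabilizes hN hst (stabilizesBlock_inv hst)
  · intro h
    have h1 : Q.map (MulAut.conj y).toMonoidHom = Q := congrArg Sigma.fst h
    have hN : y ∈ Subgroup.normalizer (Q : Set G) := by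
      rw [Subgroup.mem_normalizer_iff]
      intro q
      constructor
      · intro hq
        have : y * q * y⁻¹ ∈ Q.map (MulAut.conj y).toMonoidHom := ⟨q, hq, rfl⟩
        rw [h1] at this
        exact this
      · intro hq
        rw [← h1] at hq
        obtain ⟨q', hq', hqq⟩ := hq
        have e : q' = q := by
          have h2 : y * q' * y⁻¹ = y * q * y⁻¹ := hqq
          exact mul_left_cancel (mul_right_cancel h2)
        rw [← e]
        exact hq'
    refine ⟨hN, ?_⟩
    rw [cjPair_eq_transport hN] at h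
    have h2 := sigma_mk_injective h
    exact stabilizes_of_transport_eq _ h2

/-- the stabilizer of a conjugate pair is the conjugate of the stabilizer -/
theorem stab_conj_mem_iff [Fintype G] {Q : Subgroup G}
    {f : Set (IrrCharacter (Subgroup.centralizer (Q : Set G)))} (g y : G) :
    (y ∈ Subgroup.normalizer ((Q.map (MulAut.conj g).toMonoidHom : Subgroup G) : Set G) ∧
      StabilizesBlock (Subgroup.centralizer
        ((Q.map (MulAut.conj g).toMonoidHom : Subgroup G) : Set G)) (conjBlock Q g f) y) ↔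
    (g⁻¹ * y * g ∈ Subgroup.normalizer (Q : Set G) ∧
      StabilizesBlock (Subgroup.centralizer (Q : Set G)) f (g⁻¹ * y * g)) := by
  rw [stab_mem_iff_cjPair, stab_mem_iff_cjPair]
  obtain ⟨a, ha⟩ : ∃ a : BrauerPairIdx G, a = ⟨Q, f⟩ := ⟨_, rfl⟩
  have e0 : (⟨Q.map (MulAut.conj g).toMonoidHom, conjBlock Q g f⟩ : BrauerPairIdx G)
      = cjPair g a := by
    rw [ha]
    rfl
  rw [e0, ← ha]
  constructor
  · intro h
    have e1 : g⁻¹ * y * g = g⁻¹ * (y * g) := by group
    rw [e1, ← cjPair_mul, ← cjPair_mul, h, cjPair_mul, inv_mul_cancel, cjPair_one]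
  · intro h
    have e1 : y * g = g * (g⁻¹ * y * g) := by group
    rw [cjPair_mul, e1, ← cjPair_mul, h]

/-- conjugation between conjugate subgroups -/
def conjSubEquiv (T T' : Subgroup G) (g : G) (h1 : ∀ y ∈ T', g⁻¹ * y * g ∈ T)
    (h2 : ∀ t ∈ T, g * t * g⁻¹ ∈ T') : ↥T' ≃* ↥T where
  toFun y := ⟨g⁻¹ * (y : G) * g, h1 y y.2⟩
  invFun t := ⟨g * (t : G) * g⁻¹, h2 t t.2⟩
  left_inv y := by
    apply Subtype.ext
    show g * (g⁻¹ * (y : G) * g) * g⁻¹ = (y : G)
    group
  right_inv t := by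
    apply Subtype.ext
    show g⁻¹ * (g * (t : G) * g⁻¹) * g = (t : G)
    group
  map_mul' a b := by
    apply Subtype.ext
    show g⁻¹ * ((a : G) * (b : G)) * g = (g⁻¹ * (a : G) * g) * (g⁻¹ * (b : G) * g)
    group

theorem conjSubEquiv_coe (T T' : Subgroup G) (g : G) (h1 : ∀ y ∈ T', g⁻¹ * y * g ∈ T)
    (h2 : ∀ t ∈ T, g * t * g⁻¹ ∈ T') (y : ↥T') :
    ((conjSubEquiv T T' g h1 h2 y : ↥T) : G) = g⁻¹ * (y : G) * g := rfl

end Conj18a

section Conj18b

variable {G : Type u} [Group G] [Fintype G] {M : Ideal AlgInt} {p : ℕ} [Fact p.Prime]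

/-- the idempotent of a conjugate block -/
theorem sbc_conjBlock (Q : Subgroup G) (g : G)
    (f : Set (IrrCharacter (Subgroup.centralizer (Q : Set G)))) (y : G) :
    subgroupBlockCoeff (Subgroup.centralizer
      ((Q.map (MulAut.conj g).toMonoidHom : Subgroup G) : Set G)) (conjBlock Q g f) y
      = subgroupBlockCoeff (Subgroup.centralizer (Q : Set G)) f (g⁻¹ * y * g) := by
  classical
  have := Fintype.ofFinite ↥(Subgroup.centralizer (Q : Set G))
  have := Fintype.ofFinite ↥(Subgroup.centralizer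
    ((Q.map (MulAut.conj g).toMonoidHom : Subgroup G) : Set G))
  by_cases hy : y ∈ Subgroup.centralizer
      ((Q.map (MulAut.conj g).toMonoidHom : Subgroup G) : Set G)
  · have hy' : g⁻¹ * y * g ∈ Subgroup.centralizer (Q : Set G) :=
      (Cfsg.Agent.helper1.centralizerConjEquiv Q g ⟨y, hy⟩).2
    rw [sbc_of_mem _ _ hy, sbc_of_mem _ _ hy', conjBlock_eq_transportSet,
      blockCoeff_transportSet]
    rfl
  · have hy' : g⁻¹ * y * g ∉ Subgroup.centralizer (Q : Set G) := by
      intro h
      apply hy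
      have h1 := ((Cfsg.Agent.helper1.centralizerConjEquiv Q g).symm ⟨g⁻¹ * y * g, h⟩).2
      rw [Cfsg.Agent.helper1.centralizerConjEquiv_symm_coe] at h1
      have e : g * (g⁻¹ * y * g) * g⁻¹ = y := by group
      rw [e] at h1
      exact h1
    rw [sbc_of_not_mem _ _ hy, sbc_of_not_mem _ _ hy']

theorem eq_of_blockCoeff_eq {H : Type u} [Group H] [Fintype H] {A A' : Set (IrrCharacter H)}
    (h : blockCoeff A = blockCoeff A') : A = A' := by
  ext ψ
  have h1 := omegaFn_blockCoeff A ψ
  have h2 := omegaFn_blockCoeff A' ψ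
  rw [h] at h1
  rw [h1] at h2
  by_cases hA : ψ ∈ A
  · rw [if_pos hA] at h2
    by_cases hA' : ψ ∈ A'
    · exact ⟨fun _ => hA', fun _ => hA⟩
    · rw [if_neg hA'] at h2
      exact absurd h2 one_ne_zero
  · rw [if_neg hA] at h2
    by_cases hA' : ψ ∈ A'
    · rw [if_pos hA'] at h2
      exact absurd h2 zero_ne_one
    · exact ⟨fun h => absurd h hA, fun h => absurd h hA'⟩

/-- the blocks of the stabilizers of conjugate pairs with the idempotents of the pairs have the
same defect -/
theorem stab_blockDefect_conj {Q T T' : Subgroup G}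
    {f : Set (IrrCharacter (Subgroup.centralizer (Q : Set G)))} (g : G)
    (hT : ∀ y : G, y ∈ T ↔ y ∈ Subgroup.normalizer (Q : Set G) ∧
      StabilizesBlock (Subgroup.centralizer (Q : Set G)) f y)
    (hT' : ∀ y : G, y ∈ T' ↔
      y ∈ Subgroup.normalizer ((Q.map (MulAut.conj g).toMonoidHom : Subgroup G) : Set G) ∧
      StabilizesBlock (Subgroup.centralizer
        ((Q.map (MulAut.conj g).toMonoidHom : Subgroup G) : Set G)) (conjBlock Q g f) y)
    (F : Set (IrrCharacter ↥T))
    (hcoef : ∀ t : ↥T, blockCoeff F t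
      = subgroupBlockCoeff (Subgroup.centralizer (Q : Set G)) f (t : G))
    (F' : Set (IrrCharacter ↥T'))
    (hcoef' : ∀ t : ↥T', blockCoeff F' t
      = subgroupBlockCoeff (Subgroup.centralizer
        ((Q.map (MulAut.conj g).toMonoidHom : Subgroup G) : Set G)) (conjBlock Q g f) (t : G)) :
    blockDefect p F' = blockDefect p F := by
  classical
  have := Fintype.ofFinite ↥T
  have := Fintype.ofFinite ↥T'
  have h1 : ∀ y ∈ T', g⁻¹ * y * g ∈ T := by
    intro y hy
    exact (hT _).2 ((stab_conj_mem_iff g y).1 ((hT' y).1 hy))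
  have h2 : ∀ t ∈ T, g * t * g⁻¹ ∈ T' := by
    intro t ht
    apply (hT' _).2
    apply (stab_conj_mem_iff g _).2
    have e : g⁻¹ * (g * t * g⁻¹) * g = t := by group
    rw [e]
    exact (hT t).1 ht
  have heq : F' = transportSet (conjSubEquiv T T' g h1 h2) F := by
    apply eq_of_blockCoeff_eq
    funext t'
    rw [blockCoeff_transportSet, hcoef', hcoef, sbc_conjBlock, conjSubEquiv_coe]
  rw [heq, blockDefect_transportSet]

end Conj18b

end Cfsg.Agent.helper24
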