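import Mathlib
import Cfsg.Agent.Lib_helper24_BPair18

/-!
Brauer pairs (helper24), part 19: the normalizer in `P` of a subpair and defect groups of the block
of the stabilizer; fully normalized subgroups of the fusion system of a block.
-/

set_option autoImplicit false

namespace Cfsg.Agent.helper24

open Cfsg Cfsg.Agent.helper5 Cfsg.Agent.helper8
open scoped ComplexConjugate

universe u

section Main19

variable {G : Type u} [Group G] [Fintype G] {M : Ideal AlgInt} {p : ℕ} [Fact p.Prime]

/-- the block of the stabilizer with the idempotent of the pair, and the normalizer in `P` -/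
theorem stab_main_A (hM : IsPModular p M) {P Q T : Subgroup G}
    {e : Set (IrrCharacter (Subgroup.centralizer (P : Set G)))}
    {f : Set (IrrCharacter (Subgroup.centralizer (Q : Set G)))}
    (hPe : IsBrauerPair p M P e) (hQP : Q ≤ P) (hf : IsPBlock M f)
    (hle : SubpairLE p M Q f P e)
    (hT : ∀ y : G, y ∈ T ↔ y ∈ Subgroup.normalizer (Q : Set G) ∧
      StabilizesBlock (Subgroup.centralizer (Q : Set G)) f y) :
    ∃ F : Set (IrrCharacter ↥T), IsPBlock M F ∧
      (∀ t : ↥T, blockCoeff F t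
        = subgroupBlockCoeff (Subgroup.centralizer (Q : Set G)) f (t : G)) ∧
      P ⊓ Subgroup.normalizer (Q : Set G) ≤ T ∧
      ∃ D : Subgroup ↥T, IsDefectGroup p M F D ∧
        (P ⊓ Subgroup.normalizer (Q : Set G)).subgroupOf T ≤ D := by
  obtain ⟨hQT, hTN, hCT, hst⟩ := stab_basic hT
  have hQ : IsPGroup p Q := hPe.1.to_le hQP
  obtain ⟨F, hF, hcoef⟩ := stab_exists_block hM hQ hQT hTN hCT f hf hst
  obtain ⟨hRT, D, hD, hAD⟩ := stab_normalizer_le_defectGroup hM hPe hQP hle hT F hF hcoef
  exact ⟨F, hF, hcoef, hRT, D, hD, hAD⟩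

set_option maxHeartbeats 1600000 in
/-- some conjugate of the pair is below the maximal pair with the normalizer in `P` a defect group
of the block of its stabilizer -/
theorem stab_main_B (hM : IsPModular p M) (B : Set (IrrCharacter G)) {P Q T : Subgroup G}
    {e : Set (IrrCharacter (Subgroup.centralizer (P : Set G)))}
    {f : Set (IrrCharacter (Subgroup.centralizer (Q : Set G)))}
    (hmax : IsMaximalBrauerPair p M B P e) (hQP : Q ≤ P) (hf : IsPBlock M f)
    (hle : SubpairLE p M Q f P e)
    (hT : ∀ y : G, y ∈ T ↔ y ∈ Subgroup.normalizer (Q : Set G) ∧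
      StabilizesBlock (Subgroup.centralizer (Q : Set G)) f y) :
    ∃ x : G, SubpairLE p M (Q.map (MulAut.conj x).toMonoidHom) (conjBlock Q x f) P e ∧
      ∀ (T' : Subgroup G), (∀ y : G, y ∈ T' ↔
        y ∈ Subgroup.normalizer ((Q.map (MulAut.conj x).toMonoidHom : Subgroup G) : Set G) ∧
        StabilizesBlock (Subgroup.centralizer
          ((Q.map (MulAut.conj x).toMonoidHom : Subgroup G) : Set G)) (conjBlock Q x f) y) →
        ∃ F' : Set (IrrCharacter ↥T'), IsPBlock M F' ∧
          (∀ t : ↥T', blockCoeff F' t = subgroupBlockCoeff (Subgroup.centralizer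
            ((Q.map (MulAut.conj x).toMonoidHom : Subgroup G) : Set G))
            (conjBlock Q x f) (t : G)) ∧
          IsDefectGroup p M F' ((P ⊓ Subgroup.normalizer
            ((Q.map (MulAut.conj x).toMonoidHom : Subgroup G) : Set G)).subgroupOf T') := by
  classical
  have := Fintype.ofFinite ↥T
  have hPe : IsBrauerPair p M P e := hmax.1.1
  have hQ : IsPGroup p Q := hPe.1.to_le hQP
  obtain ⟨F, hF, hcoef, -, -⟩ := stab_main_A hM hPe hQP hf hle hT
  obtain ⟨D₀, hD₀⟩ := exists_defectGroup p M hM F hF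
  obtain ⟨x, hle_x, hcard⟩ := stab_conj_step hM B hmax hf hle hT F hF hcoef D₀ hD₀
  refine ⟨x, hle_x, ?_⟩
  intro T' hT'
  have := Fintype.ofFinite ↥T'
  have hfx : IsPBlock M (conjBlock Q x f) := (brauerPair_conj (p := p) ⟨hQ, hf⟩ x).2
  have hQxP : Q.map (MulAut.conj x).toMonoidHom ≤ P := Cfsg.Agent.helper1.subpairLE_le hle_x
  obtain ⟨F', hF', hcoef', hRT', D', hD', hAD'⟩ := stab_main_A hM hPe hQxP hfx hle_x hT'
  refine ⟨F', hF', hcoef', ?_⟩
  have hdef : blockDefect p F' = blockDefect p F :=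
    stab_blockDefect_conj x hT hT' F hcoef F' hcoef'
  have hc1 : Nat.card D' = p ^ blockDefect p F := by
    rw [card_defectGroup p M hM F' hF' D' hD', hdef]
  have hc0 : Nat.card D₀ = p ^ blockDefect p F := card_defectGroup p M hM F hF D₀ hD₀
  have hc2 : Nat.card D' ≤ Nat.card ((P ⊓ Subgroup.normalizer
      ((Q.map (MulAut.conj x).toMonoidHom : Subgroup G) : Set G)).subgroupOf T') := by
    rw [hc1, ← hc0, card_subgroupOf_eq_of_le24 hRT']
    exact hcard
  rw [Subgroup.eq_of_le_of_card_ge hAD' hc2]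
  exact hD'

set_option maxHeartbeats 1600000 in
/-- fully normalized subgroups of the fusion system of a block -/
theorem fullyNormalized_iff (hM : IsPModular p M) (B : Set (IrrCharacter G))
    {P : Subgroup G} {e : Set (IrrCharacter (Subgroup.centralizer (P : Set G)))}
    (hmax : IsMaximalBrauerPair p M B P e)
    (F : FusionSystem P) (hF : IsBlockFusionSystemOn p M B P e F) {Q : Subgroup G}
    {f : Set (IrrCharacter (Subgroup.centralizer (Q : Set G)))}
    (hf : IsPBlock M f) (hle : SubpairLE p M Q f P e) (T : Subgroup G)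
    (hT : ∀ y : G, y ∈ T ↔ y ∈ Subgroup.normalizer (Q : Set G) ∧
      StabilizesBlock (Subgroup.centralizer (Q : Set G)) f y) :
    F.IsFullyNormalized Q ↔ ∃ F' : Set (IrrCharacter ↥T), IsPBlock M F' ∧
      (∀ t : ↥T, blockCoeff F' t
        = subgroupBlockCoeff (Subgroup.centralizer (Q : Set G)) f (t : G)) ∧
      IsDefectGroup p M F' ((P ⊓ Subgroup.normalizer (Q : Set G)).subgroupOf T) := by
  classical
  have := Fintype.ofFinite ↥T
  have hQP : Q ≤ P := Cfsg.Agent.helper1.subpairLE_le hle
  have hPe : IsBrauerPair p M P e := hmax.1.1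
  have hQ : IsPGroup p Q := hPe.1.to_le hQP
  constructor
  · intro hfn
    obtain ⟨F', hF', hcoef', hRT, D, hD, hAD⟩ := stab_main_A hM hPe hQP hf hle hT
    refine ⟨F', hF', hcoef', ?_⟩
    obtain ⟨y, hle_y, hcard⟩ := stab_conj_step hM B hmax hf hle hT F' hF' hcoef' D hD
    have hconj : F.IsConj Q (Q.map (MulAut.conj y).toMonoidHom) :=
      (blockFusion_isConj_iff hM F hF hle _).2 ⟨y, rfl, hle_y⟩
    have h1 : Nat.card ↥(P ⊓ Subgroup.normalizer
        ((Q.map (MulAut.conj y).toMonoidHom : Subgroup G) : Set G))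
        ≤ Nat.card ↥(P ⊓ Subgroup.normalizer (Q : Set G)) := hfn.2 _ hconj
    have h2 : Nat.card D ≤ Nat.card ((P ⊓ Subgroup.normalizer (Q : Set G)).subgroupOf T) := by
      rw [card_subgroupOf_eq_of_le24 hRT]
      exact hcard.trans h1
    rw [Subgroup.eq_of_le_of_card_ge hAD h2]
    exact hD
  · rintro ⟨F', hF', hcoef', hdef⟩
    refine ⟨hQP, ?_⟩
    intro Q' hQ'
    obtain ⟨g, rfl, hleg⟩ := (blockFusion_isConj_iff hM F hF hle _).1 hQ'
    obtain ⟨Tg, hTgdef⟩ : ∃ Tg : Subgroup G, Tg = T.map (MulAut.conj g).toMonoidHom :=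
      ⟨_, rfl⟩
    have hTg : ∀ y : G, y ∈ Tg ↔
        y ∈ Subgroup.normalizer ((Q.map (MulAut.conj g).toMonoidHom : Subgroup G) : Set G) ∧
        StabilizesBlock (Subgroup.centralizer
          ((Q.map (MulAut.conj g).toMonoidHom : Subgroup G) : Set G)) (conjBlock Q g f) y := by
      intro y
      rw [stab_conj_mem_iff, ← hT, hTgdef]
      constructor
      · rintro ⟨t, ht, rfl⟩
        have e : g⁻¹ * ((MulAut.conj g).toMonoidHom t) * g = t := by
          show g⁻¹ * (g * t * g⁻¹) * g = t
          group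
        rw [e]
        exact ht
      · intro h
        refine ⟨g⁻¹ * y * g, h, ?_⟩
        show g * (g⁻¹ * y * g) * g⁻¹ = y
        group
    have := Fintype.ofFinite ↥Tg
    have hfg : IsPBlock M (conjBlock Q g f) := (brauerPair_conj (p := p) ⟨hQ, hf⟩ g).2
    have hQgP : Q.map (MulAut.conj g).toMonoidHom ≤ P :=
      Cfsg.Agent.helper1.subpairLE_le hleg
    obtain ⟨Fg, hFg, hcoefg, hRTg, Dg, hDg, hADg⟩ := stab_main_A hM hPe hQgP hfg hleg hTg
    have hdefect : blockDefect p Fg = blockDefect p F' :=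
      stab_blockDefect_conj g hT hTg F' hcoef' Fg hcoefg
    have hc1 : Nat.card Dg = p ^ blockDefect p F' := by
      rw [card_defectGroup p M hM Fg hFg Dg hDg, hdefect]
    have hRT : P ⊓ Subgroup.normalizer (Q : Set G) ≤ T :=
      (stab_normalizer_le_defectGroup hM hPe hQP hle hT F' hF' hcoef').1
    have hc0 := card_defectGroup p M hM F' hF' _ hdef
    rw [card_subgroupOf_eq_of_le24 hRT] at hc0
    show Nat.card ↥(P ⊓ Subgroup.normalizer
        ((Q.map (MulAut.conj g).toMonoidHom : Subgroup G) : Set G))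
        ≤ Nat.card ↥(P ⊓ Subgroup.normalizer (Q : Set G))
    rw [hc0, ← hc1, ← card_subgroupOf_eq_of_le24 hRTg]
    exact Subgroup.card_le_of_le hADg

end Main19

end Cfsg.Agent.helper24
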