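import Mathlib
import Cfsg.Agent.Lib_helper24_BPair19

/-!
Brauer pairs (helper24), part 20: descent of Brauer pairs of a subgroup `L` to the ambient group,
for pairs whose centralizer in the ambient group lies in `L`.
-/

set_option autoImplicit false

namespace Cfsg.Agent.helper24

open Cfsg Cfsg.Agent.helper5 Cfsg.Agent.helper8
open scoped ComplexConjugate

universe u

section Dn20a

variable {G : Type u} [Group G] (L : Subgroup G)

theorem dn_mem_centralizer (S' : Subgroup ↥L) (x' : ↥(Subgroup.centralizer (S' : Set ↥L))) :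
    ((x' : ↥L) : G) ∈ Subgroup.centralizer ((S'.map L.subtype : Subgroup G) : Set G) := by
  rw [Subgroup.mem_centralizer_iff]
  rintro _ ⟨s', hs', rfl⟩
  have h1 := Subgroup.mem_centralizer_iff.1 x'.2 s' hs'
  exact congrArg Subtype.val h1

theorem dn_mem_normalizer (S' : Subgroup ↥L) {x' : ↥L}
    (hx' : x' ∈ Subgroup.normalizer (S' : Set ↥L)) :
    (x' : G) ∈ Subgroup.normalizer ((S'.map L.subtype : Subgroup G) : Set G) := by
  rw [Subgroup.mem_normalizer_iff]
  intro s
  constructor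
  · rintro ⟨s', hs', rfl⟩
    exact ⟨x' * s' * x'⁻¹, (Subgroup.mem_normalizer_iff.1 hx' s').1 hs', rfl⟩
  · rintro ⟨s'', hs'', hss⟩
    refine ⟨x'⁻¹ * s'' * x', ?_, ?_⟩
    · have h1 := (Subgroup.mem_normalizer_iff.1 (Subgroup.inv_mem _ hx') s'').1 hs''
      rw [inv_inv] at h1
      exact h1
    · show (x' : G)⁻¹ * (s'' : G) * (x' : G) = s
      have h2 : (s'' : G) = (x' : G) * s * (x' : G)⁻¹ := hss
      rw [h2]
      group

/-- the centralizer in `L` maps into the centralizer in `G` -/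
def dnHom (S' : Subgroup ↥L) : ↥(Subgroup.centralizer (S' : Set ↥L)) →*
    ↥(Subgroup.centralizer ((S'.map L.subtype : Subgroup G) : Set G)) where
  toFun x' := ⟨((x' : ↥L) : G), dn_mem_centralizer L S' x'⟩
  map_one' := rfl
  map_mul' _ _ := rfl

theorem dnHom_coe (S' : Subgroup ↥L) (x' : ↥(Subgroup.centralizer (S' : Set ↥L))) :
    ((dnHom L S' x' : ↥(Subgroup.centralizer ((S'.map L.subtype : Subgroup G) : Set G))) : G)
      = ((x' : ↥L) : G) := rfl

/-- the centralizer in `L` is the centralizer in `G` when the latter lies in `L` -/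
def dnEquiv (S' : Subgroup ↥L)
    (hC : Subgroup.centralizer ((S'.map L.subtype : Subgroup G) : Set G) ≤ L) :
    ↥(Subgroup.centralizer (S' : Set ↥L)) ≃*
      ↥(Subgroup.centralizer ((S'.map L.subtype : Subgroup G) : Set G)) where
  toFun x' := ⟨((x' : ↥L) : G), dn_mem_centralizer L S' x'⟩
  invFun x := ⟨⟨(x : G), hC x.2⟩, by
    rw [Subgroup.mem_centralizer_iff]
    intro s' hs'
    apply Subtype.ext
    exact Subgroup.mem_centralizer_iff.1 x.2 (s' : G) ⟨s', hs', rfl⟩⟩
  left_inv _ := rfl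
  right_inv _ := rfl
  map_mul' _ _ := rfl

theorem dnEquiv_apply (S' : Subgroup ↥L)
    (hC : Subgroup.centralizer ((S'.map L.subtype : Subgroup G) : Set G) ≤ L)
    (x' : ↥(Subgroup.centralizer (S' : Set ↥L))) : dnEquiv L S' hC x' = dnHom L S' x' := rfl

theorem dnEquiv_coe (S' : Subgroup ↥L)
    (hC : Subgroup.centralizer ((S'.map L.subtype : Subgroup G) : Set G) ≤ L)
    (x' : ↥(Subgroup.centralizer (S' : Set ↥L))) :
    ((dnEquiv L S' hC x' : ↥(Subgroup.centralizer ((S'.map L.subtype : Subgroup G) : Set G)))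
      : G) = ((x' : ↥L) : G) := rfl

theorem dnEquiv_symm_coe (S' : Subgroup ↥L)
    (hC : Subgroup.centralizer ((S'.map L.subtype : Subgroup G) : Set G) ≤ L)
    (x : ↥(Subgroup.centralizer ((S'.map L.subtype : Subgroup G) : Set G))) :
    ((((dnEquiv L S' hC).symm x : ↥(Subgroup.centralizer (S' : Set ↥L))) : ↥L) : G)
      = (x : G) := rfl

/-- descent of a set of characters -/
def dnSet (S' : Subgroup ↥L)
    (g' : Set (IrrCharacter ↥(Subgroup.centralizer (S' : Set ↥L)))) :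
    Set (IrrCharacter ↥(Subgroup.centralizer ((S'.map L.subtype : Subgroup G) : Set G))) :=
  {ξ | ∃ ξ' ∈ g', ∀ x' : ↥(Subgroup.centralizer (S' : Set ↥L)),
    (ξ' : ↥(Subgroup.centralizer (S' : Set ↥L)) → ℂ) x'
      = (ξ : ↥(Subgroup.centralizer ((S'.map L.subtype : Subgroup G) : Set G)) → ℂ)
        (dnHom L S' x')}

/-- descent of a pair -/
def dnPair (a : BrauerPairIdx ↥L) : BrauerPairIdx G := ⟨a.1.map L.subtype, dnSet L a.1 a.2⟩

theorem dnSet_eq_transportSet (S' : Subgroup ↥L)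
    (hC : Subgroup.centralizer ((S'.map L.subtype : Subgroup G) : Set G) ≤ L)
    (g' : Set (IrrCharacter ↥(Subgroup.centralizer (S' : Set ↥L)))) :
    dnSet L S' g' = transportSet (dnEquiv L S' hC).symm g' := by
  ext ξ
  constructor
  · rintro ⟨ξ', hξ', h⟩
    refine ⟨ξ', hξ', ?_⟩
    funext x
    rw [h]
    rfl
  · rintro ⟨ξ', hξ', h⟩
    refine ⟨ξ', hξ', ?_⟩
    intro x'
    rw [h]
    rfl

theorem brauerOmega_dn (S' : Subgroup ↥L)
    (hC : Subgroup.centralizer ((S'.map L.subtype : Subgroup G) : Set G) ≤ L)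
    (β' : ↥L → ℂ) (β : G → ℂ) (hβ : ∀ x' : ↥L, β' x' = β (x' : G))
    (ξ' : ↥(Subgroup.centralizer (S' : Set ↥L)) → ℂ)
    (ξ : ↥(Subgroup.centralizer ((S'.map L.subtype : Subgroup G) : Set G)) → ℂ)
    (hξ : ∀ x', ξ' x' = ξ (dnHom L S' x')) :
    brauerOmega S' β' ξ' = brauerOmega (S'.map L.subtype) β ξ := by
  unfold brauerOmega
  rw [← finsum_comp_equiv (dnEquiv L S' hC).toEquiv]
  apply finsum_congr
  intro x'
  show β' (x' : ↥L) * ξ' x' / ξ' 1 = β ((dnEquiv L S' hC x' :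
    ↥(Subgroup.centralizer ((S'.map L.subtype : Subgroup G) : Set G))) : G)
      * ξ (dnEquiv L S' hC x') / ξ 1
  rw [hβ, hξ x', hξ 1, map_one, dnEquiv_coe]
  rfl

end Dn20a

section Dn20b

variable {G : Type u} [Group G] [Fintype G] {M : Ideal AlgInt} {p : ℕ} (L : Subgroup G)

theorem sbc_dn (S' : Subgroup ↥L)
    (hC : Subgroup.centralizer ((S'.map L.subtype : Subgroup G) : Set G) ≤ L)
    (g' : Set (IrrCharacter ↥(Subgroup.centralizer (S' : Set ↥L)))) (x' : ↥L) :
    subgroupBlockCoeff (Subgroup.centralizer (S' : Set ↥L)) g' x'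
      = subgroupBlockCoeff (Subgroup.centralizer ((S'.map L.subtype : Subgroup G) : Set G))
        (dnSet L S' g') (x' : G) := by
  classical
  have := Fintype.ofFinite ↥L
  have := Fintype.ofFinite ↥(Subgroup.centralizer (S' : Set ↥L))
  have := Fintype.ofFinite ↥(Subgroup.centralizer ((S'.map L.subtype : Subgroup G) : Set G))
  by_cases hx : x' ∈ Subgroup.centralizer (S' : Set ↥L)
  · have hx2 : (x' : G) ∈ Subgroup.centralizer ((S'.map L.subtype : Subgroup G) : Set G) :=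
      dn_mem_centralizer L S' ⟨x', hx⟩
    rw [sbc_of_mem _ _ hx, sbc_of_mem _ _ hx2, dnSet_eq_transportSet L S' hC,
      blockCoeff_transportSet]
    rfl
  · have hx2 : (x' : G) ∉ Subgroup.centralizer ((S'.map L.subtype : Subgroup G) : Set G) := by
      intro h
      apply hx
      exact ((dnEquiv L S' hC).symm ⟨(x' : G), h⟩).2
    rw [sbc_of_not_mem _ _ hx, sbc_of_not_mem _ _ hx2]

set_option maxHeartbeats 1600000 in
/-- descent of a normal inclusion -/
theorem dn_normalSubpair {a b : BrauerPairIdx ↥L} (h : NormalSubpairRel p M a b)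
    (hC : Subgroup.centralizer ((a.1.map L.subtype : Subgroup G) : Set G) ≤ L) :
    NormalSubpairRel p M (dnPair L a) (dnPair L b) := by
  classical
  obtain ⟨S₁', g₁'⟩ := a
  obtain ⟨S₂', g₂'⟩ := b
  obtain ⟨hp1, hp2, hle, hN, hst, hom⟩ := h
  have hC₁ : Subgroup.centralizer ((S₁'.map L.subtype : Subgroup G) : Set G) ≤ L := hC
  have hC₂ : Subgroup.centralizer ((S₂'.map L.subtype : Subgroup G) : Set G) ≤ L :=
    (Subgroup.centralizer_le (Subgroup.map_mono hle)).trans hC₁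
  have hN' : S₂'.map L.subtype ≤ Subgroup.normalizer
      ((S₁'.map L.subtype : Subgroup G) : Set G) := by
    rintro _ ⟨x', hx', rfl⟩
    exact dn_mem_normalizer L S₁' (hN hx')
  show IsNormalSubpair p M (S₁'.map L.subtype) (dnSet L S₁' g₁') (S₂'.map L.subtype)
    (dnSet L S₂' g₂')
  refine ⟨⟨hp1.1.map _, ?_⟩, ⟨hp2.1.map _, ?_⟩, Subgroup.map_mono hle, hN', ?_, ?_⟩
  · rw [dnSet_eq_transportSet L S₁' hC₁]
    exact isPBlock_transportSet _ _ hp1.2
  · rw [dnSet_eq_transportSet L S₂' hC₂]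
    exact isPBlock_transportSet _ _ hp2.2
  · rintro _ ⟨x', hx', rfl⟩
    obtain ⟨-, hχ⟩ := hst x' hx'
    refine ⟨Cfsg.Agent.helper1.normalizer_le_normalizer_centralizer _
      (hN' ⟨x', hx', rfl⟩), ?_⟩
    rintro ξ ⟨ξ', hξ', hξξ'⟩
    obtain ⟨χ'', hχ'', hconj⟩ := hχ ξ' hξ'
    refine ⟨irrTransport (dnEquiv L S₁' hC₁).symm χ'', ⟨χ'', hχ'', fun x' => ?_⟩, ?_⟩
    · rw [irrTransport_apply]
      rfl
    · intro k k' hk
      rw [irrTransport_apply]
      have h1 := hconj ((dnEquiv L S₁' hC₁).symm k) ((dnEquiv L S₁' hC₁).symm k')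
        (Subtype.ext hk)
      rw [h1, hξξ']
      rfl
  · rintro ξ ⟨ξ', hξ', hξξ'⟩
    have h1 := hom ξ' hξ'
    rw [brauerOmega_dn L S₂' hC₂ _
      (subgroupBlockCoeff (Subgroup.centralizer ((S₁'.map L.subtype : Subgroup G) : Set G))
        (dnSet L S₁' g₁')) (sbc_dn L S₁' hC₁ g₁') _ _ hξξ'] at h1
    exact h1

end Dn20b

end Cfsg.Agent.helper24
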