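import Mathlib
import Cfsg.Agent.Lib_helper24_BPair20

/-!
Brauer pairs (helper24), part 21: descent of chains and of conjugate pairs; lifting a pair of the
ambient group to a subgroup containing its centralizer.
-/

set_option autoImplicit false

namespace Cfsg.Agent.helper24

open Cfsg Cfsg.Agent.helper5 Cfsg.Agent.helper8
open scoped ComplexConjugate

universe u

section Dn21a

variable {G : Type u} [Group G] [Fintype G] {M : Ideal AlgInt} {p : ℕ} (L : Subgroup G)

/-- descent of an inclusion of pairs -/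
theorem dn_subpairLE {a b : BrauerPairIdx ↥L}
    (h : Relation.ReflTransGen (NormalSubpairRel p M) a b)
    (hC : Subgroup.centralizer ((a.1.map L.subtype : Subgroup G) : Set G) ≤ L) :
    Relation.ReflTransGen (NormalSubpairRel p M) (dnPair L a) (dnPair L b) := by
  induction h with
  | refl => exact Relation.ReflTransGen.refl
  | @tail c b hac hcb ih =>
    have hle : a.1 ≤ c.1 := by
      have h1 : SubpairLE p M a.1 a.2 c.1 c.2 := hac
      exact Cfsg.Agent.helper1.subpairLE_le h1
    have hC' : Subgroup.centralizer ((c.1.map L.subtype : Subgroup G) : Set G) ≤ L :=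
      (Subgroup.centralizer_le (Subgroup.map_mono hle)).trans hC
    exact Relation.ReflTransGen.tail ih (dn_normalSubpair L hcb hC')

end Dn21a

section Dn21b

variable {G : Type u} [Group G] (L : Subgroup G)

theorem dn_map_conj (S' : Subgroup ↥L) (c' : ↥L) :
    (S'.map (MulAut.conj c').toMonoidHom).map L.subtype
      = (S'.map L.subtype).map (MulAut.conj (c' : G)).toMonoidHom := by
  ext y
  constructor
  · rintro ⟨_, ⟨s', hs', rfl⟩, rfl⟩
    exact ⟨(s' : G), ⟨s', hs', rfl⟩, rfl⟩
  · rintro ⟨_, ⟨s', hs', rfl⟩, rfl⟩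
    exact ⟨c' * s' * c'⁻¹, ⟨s', hs', rfl⟩, rfl⟩

theorem dn_centralizer_conj_le (S' : Subgroup ↥L) (c' : ↥L)
    (hC : Subgroup.centralizer ((S'.map L.subtype : Subgroup G) : Set G) ≤ L) :
    Subgroup.centralizer
      (((S'.map (MulAut.conj c').toMonoidHom).map L.subtype : Subgroup G) : Set G) ≤ L := by
  intro y hy
  rw [dn_map_conj] at hy
  have h1 := (Cfsg.Agent.helper1.centralizerConjEquiv (S'.map L.subtype) (c' : G) ⟨y, hy⟩).2
  have h2 : (c' : G)⁻¹ * y * (c' : G) ∈ L := hC h1
  have h3 := L.mul_mem (L.mul_mem c'.2 h2) (L.inv_mem c'.2)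
  have e : (c' : G) * ((c' : G)⁻¹ * y * (c' : G)) * (c' : G)⁻¹ = y := by group
  rw [e] at h3
  exact h3

set_option maxHeartbeats 1600000 in
/-- descent commutes with conjugation -/
theorem dn_cjPair (a : BrauerPairIdx ↥L) (c' : ↥L)
    (hC : Subgroup.centralizer ((a.1.map L.subtype : Subgroup G) : Set G) ≤ L) :
    dnPair L (cjPair c' a) = cjPair (c' : G) (dnPair L a) := by
  obtain ⟨S', g'⟩ := a
  have hC' := dn_centralizer_conj_le L S' c' hC
  show (⟨(S'.map (MulAut.conj c').toMonoidHom).map L.subtype,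
      dnSet L (S'.map (MulAut.conj c').toMonoidHom) (conjBlock S' c' g')⟩ : BrauerPairIdx G)
    = ⟨(S'.map L.subtype).map (MulAut.conj (c' : G)).toMonoidHom,
      conjBlock (S'.map L.subtype) (c' : G) (dnSet L S' g')⟩
  apply pairIdx_ext (dn_map_conj L S' c')
  intro θ'
  constructor
  · rintro ⟨ξ, ⟨ξ', hξ', hξξ'⟩, hθ'⟩
    refine ⟨irrTransport (dnEquiv L (S'.map (MulAut.conj c').toMonoidHom) hC').symm
      (irrTransport (Cfsg.Agent.helper1.centralizerConjEquiv S' c') ξ'),
      ⟨irrTransport (Cfsg.Agent.helper1.centralizerConjEquiv S' c') ξ',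
        mem_conjBlock_transport S' c' g' ξ' hξ', fun y' => ?_⟩, ?_⟩
    · rw [irrTransport_apply]
      rfl
    · intro k k' hk
      rw [irrTransport_apply, irrTransport_apply, hξξ']
      apply hθ'
      rw [dnHom_coe, Cfsg.Agent.helper1.centralizerConjEquiv_coe, ← hk]
      show (k : G) = (c' : G) * ((c' : G)⁻¹ * (k : G) * (c' : G)) * (c' : G)⁻¹
      group
  · rintro ⟨θ, ⟨η', ⟨ξ', hξ', hη'⟩, hθη'⟩, hθ'θ⟩
    refine ⟨irrTransport (dnEquiv L S' hC).symm ξ', ⟨ξ', hξ', fun x' => ?_⟩, ?_⟩
    · rw [irrTransport_apply]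
      rfl
    · intro k₀ k' hk
      have hk'mem : (k' : G) ∈ Subgroup.centralizer
          (((S'.map (MulAut.conj c').toMonoidHom).map L.subtype : Subgroup G) : Set G) := by
        rw [dn_map_conj]
        exact k'.2
      rw [hθ'θ ⟨(k' : G), hk'mem⟩ k' rfl, irrTransport_apply]
      have h1 := hθη' ((dnEquiv L (S'.map (MulAut.conj c').toMonoidHom) hC').symm
        ⟨(k' : G), hk'mem⟩)
      have e1 : dnHom L (S'.map (MulAut.conj c').toMonoidHom)
          ((dnEquiv L (S'.map (MulAut.conj c').toMonoidHom) hC').symm ⟨(k' : G), hk'mem⟩)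
          = ⟨(k' : G), hk'mem⟩ := rfl
      rw [e1] at h1
      rw [← h1]
      apply hη'
      apply Subtype.ext
      show (k' : G) = (c' : G) * (k₀ : G) * (c' : G)⁻¹
      exact hk

/-- the lift of a pair of `G` on a subgroup of `L` whose centralizer lies in `L` -/
def liftPair {R : Subgroup G} (hRL : R ≤ L) (hCL : Subgroup.centralizer (R : Set G) ≤ L)
    (e : Set (IrrCharacter (Subgroup.centralizer (R : Set G)))) : BrauerPairIdx ↥L :=
  ⟨R.subgroupOf L, transportSet (centSubEquiv R L hRL hCL) e⟩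

theorem dnPair_liftPair {R : Subgroup G} (hRL : R ≤ L)
    (hCL : Subgroup.centralizer (R : Set G) ≤ L)
    (e : Set (IrrCharacter (Subgroup.centralizer (R : Set G)))) :
    dnPair L (liftPair L hRL hCL e) = ⟨R, e⟩ := by
  have hA : (R.subgroupOf L).map L.subtype = R := by
    ext y
    constructor
    · rintro ⟨y', hy', rfl⟩
      exact Subgroup.mem_subgroupOf.1 hy'
    · intro hy
      exact ⟨⟨y, hRL hy⟩, Subgroup.mem_subgroupOf.2 hy, rfl⟩
  show (⟨(R.subgroupOf L).map L.subtype,
      dnSet L (R.subgroupOf L) (transportSet (centSubEquiv R L hRL hCL) e)⟩ : BrauerPairIdx G)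
    = ⟨R, e⟩
  apply pairIdx_ext hA
  intro θ'
  constructor
  · intro hθ'
    have hmem : ∀ k' : ↥(Subgroup.centralizer (R : Set G)), (k' : G) ∈
        Subgroup.centralizer (((R.subgroupOf L).map L.subtype : Subgroup G) : Set G) := by
      intro k'
      rw [hA]
      exact k'.2
    have hC2 : Subgroup.centralizer
        (((R.subgroupOf L).map L.subtype : Subgroup G) : Set G) ≤ L := by
      rw [hA]
      exact hCL
    refine ⟨irrTransport (dnEquiv L (R.subgroupOf L) hC2).symm
      (irrTransport (centSubEquiv R L hRL hCL) θ'),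
      ⟨irrTransport (centSubEquiv R L hRL hCL) θ',
        (mem_transportSet_iff _ e θ').2 hθ', fun x' => ?_⟩, ?_⟩
    · rw [irrTransport_apply]
      rfl
    · intro k k' hk
      rw [irrTransport_apply, irrTransport_apply]
      refine congrArg (θ' : ↥(Subgroup.centralizer (R : Set G)) → ℂ) (Subtype.ext ?_)
      exact hk.symm
  · rintro ⟨θ, ⟨η', ⟨ξ, hξ, hη'⟩, hθη'⟩, hθ'θ⟩
    have : θ' = ξ := by
      apply Subtype.ext
      funext k'
      have hk'mem : (k' : G) ∈
          Subgroup.centralizer (((R.subgroupOf L).map L.subtype : Subgroup G) : Set G) := by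
        rw [hA]
        exact k'.2
      rw [hθ'θ ⟨(k' : G), hk'mem⟩ k' rfl]
      have hx'mem : (⟨(k' : G), hCL k'.2⟩ : ↥L) ∈
          Subgroup.centralizer ((R.subgroupOf L : Subgroup ↥L) : Set ↥L) :=
        (mem_centralizer_subgroupOf_iff hRL _).2 k'.2
      have h1 := hθη' ⟨⟨(k' : G), hCL k'.2⟩, hx'mem⟩
      have e1 : dnHom L (R.subgroupOf L) ⟨⟨(k' : G), hCL k'.2⟩, hx'mem⟩
          = ⟨(k' : G), hk'mem⟩ := rfl
      rw [e1] at h1
      rw [← h1, hη']
      rfl
    rw [this]
    exact hξ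

end Dn21b

end Cfsg.Agent.helper24
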