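import Mathlib
import Cfsg.Agent.Lib_helper24_BPair21

/-!
Brauer pairs (helper24), part 22: a Sylow-type theorem for the pairs normally above a given pair,
inside a subgroup between `Q C(Q)` and the stabilizer of the pair.
-/

set_option autoImplicit false

namespace Cfsg.Agent.helper24

open Cfsg Cfsg.Agent.helper5 Cfsg.Agent.helper8
open scoped ComplexConjugate

universe u

section Rel22

variable {G : Type u} [Group G] [Fintype G] {M : Ideal AlgInt} {p : ℕ} [Fact p.Prime]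

theorem dn_centralizer_le_of_le {Q L : Subgroup G} (hQL : Q ≤ L)
    (hCL : Subgroup.centralizer (Q : Set G) ≤ L) {S' : Subgroup ↥L}
    (hQS : Q.subgroupOf L ≤ S') :
    Q ≤ S'.map L.subtype ∧
      Subgroup.centralizer ((S'.map L.subtype : Subgroup G) : Set G) ≤ L := by
  have h1 : Q ≤ S'.map L.subtype := by
    intro q hq
    exact ⟨⟨q, hQL hq⟩, hQS (Subgroup.mem_subgroupOf.2 hq), rfl⟩
  exact ⟨h1, (Subgroup.centralizer_le h1).trans hCL⟩

/-- a pair of `L` above `Q` whose descent is normally above `(Q, f)` is a pair of the block of `L`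
with the idempotent of `f` -/
theorem pairOf_of_normalSubpair_dn {Q L : Subgroup G} (hQL : Q ≤ L)
    (hCL : Subgroup.centralizer (Q : Set G) ≤ L)
    (f : Set (IrrCharacter ↥(Subgroup.centralizer (Q : Set G))))
    (FL : Set (IrrCharacter ↥L)) (hFL : IsPBlock M FL)
    (hcoef : ∀ t : ↥L, blockCoeff FL t
      = subgroupBlockCoeff (Subgroup.centralizer (Q : Set G)) f (t : G))
    (a : BrauerPairIdx ↥L) (hQa : Q.subgroupOf L ≤ a.1) (hpair : IsBrauerPair p M a.1 a.2)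
    (h : IsNormalSubpair p M Q f (dnPair L a).1 (dnPair L a).2) :
    IsBrauerPairOf p M FL a.1 a.2 := by
  obtain ⟨-, hC⟩ := dn_centralizer_le_of_le hQL hCL hQa
  have h' : IsNormalSubpair p M Q f (a.1.map L.subtype) (dnSet L a.1 a.2) := h
  refine ⟨hpair, hFL, ?_⟩
  intro ξ' hξ'
  have h1 := h'.2.2.2.2.2 (irrTransport (dnEquiv L a.1 hC).symm ξ') ⟨ξ', hξ', fun x' => rfl⟩
  rw [← brauerOmega_dn L a.1 hC (blockCoeff FL)
    (subgroupBlockCoeff (Subgroup.centralizer (Q : Set G)) f) hcoef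
    (ξ' : ↥(Subgroup.centralizer (a.1 : Set ↥L)) → ℂ) _ (fun x' => rfl)] at h1
  exact h1

/-- conversely, the descent of a pair of that block is normally above `(Q, f)` -/
theorem normalSubpair_dn_of_pairOf {Q L : Subgroup G} (hQ : IsPGroup p Q) (hQL : Q ≤ L)
    (hLN : L ≤ Subgroup.normalizer (Q : Set G))
    (hCL : Subgroup.centralizer (Q : Set G) ≤ L)
    (f : Set (IrrCharacter ↥(Subgroup.centralizer (Q : Set G)))) (hf : IsPBlock M f)
    (hst : ∀ t ∈ L, StabilizesBlock (Subgroup.centralizer (Q : Set G)) f t)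
    (FL : Set (IrrCharacter ↥L))
    (hcoef : ∀ t : ↥L, blockCoeff FL t
      = subgroupBlockCoeff (Subgroup.centralizer (Q : Set G)) f (t : G))
    (a : BrauerPairIdx ↥L) (hQa : Q.subgroupOf L ≤ a.1)
    (h : IsBrauerPairOf p M FL a.1 a.2) :
    IsNormalSubpair p M Q f (dnPair L a).1 (dnPair L a).2 := by
  obtain ⟨hQdn, hC⟩ := dn_centralizer_le_of_le hQL hCL hQa
  have hdnL : a.1.map L.subtype ≤ L := by
    rintro _ ⟨x', -, rfl⟩
    exact x'.2
  show IsNormalSubpair p M Q f (a.1.map L.subtype) (dnSet L a.1 a.2)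
  refine ⟨⟨hQ, hf⟩, ⟨h.1.1.map _, ?_⟩, hQdn, hdnL.trans hLN, fun x hx => hst x (hdnL hx), ?_⟩
  · rw [dnSet_eq_transportSet L a.1 hC]
    exact isPBlock_transportSet _ _ h.1.2
  · rintro ξ ⟨ξ', hξ', hξξ'⟩
    have h1 := h.2.2 ξ' hξ'
    rw [brauerOmega_dn L a.1 hC (blockCoeff FL)
      (subgroupBlockCoeff (Subgroup.centralizer (Q : Set G)) f) hcoef _ _ hξξ'] at h1
    exact h1

set_option maxHeartbeats 1600000 in
/-- a Sylow-type theorem for the pairs normally above `(Q, f)` inside `L` -/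
theorem relative_sylow (hM : IsPModular p M) {Q L : Subgroup G} (hQ : IsPGroup p Q)
    (hQL : Q ≤ L) (hLN : L ≤ Subgroup.normalizer (Q : Set G))
    (hCL : Subgroup.centralizer (Q : Set G) ≤ L)
    (f : Set (IrrCharacter ↥(Subgroup.centralizer (Q : Set G)))) (hf : IsPBlock M f)
    (hst : ∀ t ∈ L, StabilizesBlock (Subgroup.centralizer (Q : Set G)) f t)
    {R₁ R₂ : Subgroup G}
    {e₁ : Set (IrrCharacter ↥(Subgroup.centralizer (R₁ : Set G)))}
    {e₂ : Set (IrrCharacter ↥(Subgroup.centralizer (R₂ : Set G)))}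
    (h₁ : IsNormalSubpair p M Q f R₁ e₁) (h₂ : IsNormalSubpair p M Q f R₂ e₂)
    (hR₁L : R₁ ≤ L) (hR₂L : R₂ ≤ L)
    (hcard : ∀ (S : Subgroup G) (gS : Set (IrrCharacter ↥(Subgroup.centralizer (S : Set G)))),
      IsNormalSubpair p M Q f S gS → S ≤ L → Nat.card S ≤ Nat.card R₂) :
    ∃ c ∈ L, SubpairLE p M (R₁.map (MulAut.conj c).toMonoidHom) (conjBlock R₁ c e₁) R₂ e₂ := by
  classical
  have := Fintype.ofFinite ↥L
  obtain ⟨FL, hFL, hcoef⟩ := stab_exists_block hM hQ hQL hLN hCL f hf hst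
  have hCR₁ : Subgroup.centralizer (R₁ : Set G) ≤ L :=
    (Subgroup.centralizer_le h₁.2.2.1).trans hCL
  have hCR₂ : Subgroup.centralizer (R₂ : Set G) ≤ L :=
    (Subgroup.centralizer_le h₂.2.2.1).trans hCL
  obtain ⟨a₁, ha₁⟩ : ∃ a₁ : BrauerPairIdx ↥L, a₁ = liftPair L hR₁L hCR₁ e₁ := ⟨_, rfl⟩
  obtain ⟨a₂, ha₂⟩ : ∃ a₂ : BrauerPairIdx ↥L, a₂ = liftPair L hR₂L hCR₂ e₂ := ⟨_, rfl⟩
  have hdn₁ : dnPair L a₁ = ⟨R₁, e₁⟩ := by
    rw [ha₁]
    exact dnPair_liftPair L hR₁L hCR₁ e₁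
  have hdn₂ : dnPair L a₂ = ⟨R₂, e₂⟩ := by
    rw [ha₂]
    exact dnPair_liftPair L hR₂L hCR₂ e₂
  have ha₁1 : a₁.1 = R₁.subgroupOf L := by
    rw [ha₁]
    rfl
  have ha₂1 : a₂.1 = R₂.subgroupOf L := by
    rw [ha₂]
    rfl
  have hQa₁ : Q.subgroupOf L ≤ a₁.1 := by
    rw [ha₁1]
    intro x hx
    exact Subgroup.mem_subgroupOf.2 (h₁.2.2.1 (Subgroup.mem_subgroupOf.1 hx))
  have hQa₂ : Q.subgroupOf L ≤ a₂.1 := by
    rw [ha₂1]
    intro x hx
    exact Subgroup.mem_subgroupOf.2 (h₂.2.2.1 (Subgroup.mem_subgroupOf.1 hx))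
  have hbp₁ : IsBrauerPair p M a₁.1 a₁.2 := by
    rw [ha₁]
    exact ⟨h₁.2.1.1.comap_subtype, isPBlock_transportSet _ _ h₁.2.1.2⟩
  have hbp₂ : IsBrauerPair p M a₂.1 a₂.2 := by
    rw [ha₂]
    exact ⟨h₂.2.1.1.comap_subtype, isPBlock_transportSet _ _ h₂.2.1.2⟩
  have hpair₁ : IsBrauerPairOf p M FL a₁.1 a₁.2 := by
    apply pairOf_of_normalSubpair_dn hQL hCL f FL hFL hcoef a₁ hQa₁ hbp₁
    rw [hdn₁]
    exact h₁
  have hpair₂ : IsBrauerPairOf p M FL a₂.1 a₂.2 := by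
    apply pairOf_of_normalSubpair_dn hQL hCL f FL hFL hcoef a₂ hQa₂ hbp₂
    rw [hdn₂]
    exact h₂
  have hmax₂ : IsMaximalBrauerPair p M FL a₂.1 a₂.2 := by
    refine ⟨hpair₂, ?_⟩
    intro S' g' hS' hle'
    have hle : a₂.1 ≤ S' := Cfsg.Agent.helper1.subpairLE_le hle'
    have hn := normalSubpair_dn_of_pairOf hQ hQL hLN hCL f hf hst FL hcoef ⟨S', g'⟩
      (hQa₂.trans hle) hS'
    have hSL : S'.map L.subtype ≤ L := by
      rintro _ ⟨x', -, rfl⟩
      exact x'.2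
    have h1 := hcard _ _ hn hSL
    have h2 : Nat.card ↥(S'.map L.subtype) = Nat.card S' :=
      Subgroup.card_map_of_injective (Subgroup.subtype_injective _)
    have h3 : Nat.card ↥a₂.1 = Nat.card R₂ := by
      rw [ha₂1]
      exact card_subgroupOf_eq_of_le24 hR₂L
    have h4 : Nat.card S' ≤ Nat.card ↥a₂.1 := by
      rw [h3, ← h2]
      exact h1
    exact (Subgroup.eq_of_le_of_card_ge hle h4).symm
  obtain ⟨c', hc'⟩ := pair_conj_below_maximal hM FL a₂.1 a₁.1 a₂.2 a₁.2 hmax₂ hpair₁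
  refine ⟨(c' : G), c'.2, ?_⟩
  have hC₁' : Subgroup.centralizer ((a₁.1.map L.subtype : Subgroup G) : Set G) ≤ L :=
    (dn_centralizer_le_of_le hQL hCL hQa₁).2
  have hchain : Relation.ReflTransGen (NormalSubpairRel p M) (cjPair c' a₁) a₂ := hc'
  have h5 := dn_subpairLE L hchain (dn_centralizer_conj_le L a₁.1 c' hC₁')
  rw [dn_cjPair L a₁ c' hC₁', hdn₁, hdn₂] at h5
  exact h5

end Rel22

end Cfsg.Agent.helper24
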