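import Mathlib
import Cfsg.Agent.Lib_helper24_BPair22

/-!
Brauer pairs (helper24), part 23: abelian defect groups: the stabilizer of a subpair is the
product of its centralizer and a part of the stabilizer of the maximal pair.
-/

set_option autoImplicit false

namespace Cfsg.Agent.helper24

open Cfsg Cfsg.Agent.helper5 Cfsg.Agent.helper8
open scoped ComplexConjugate

universe u

section Ab23

variable {G : Type u} [Group G] [Fintype G] {M : Ideal AlgInt} {p : ℕ} [Fact p.Prime]

/-- every pair normally above a pair of `B` has order at most that of a maximal pair -/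
theorem card_le_of_normalSubpair (hM : IsPModular p M) (B : Set (IrrCharacter G))
    {P Q S : Subgroup G} {e : Set (IrrCharacter (Subgroup.centralizer (P : Set G)))}
    {f : Set (IrrCharacter (Subgroup.centralizer (Q : Set G)))}
    {gS : Set (IrrCharacter (Subgroup.centralizer (S : Set G)))}
    (hmax : IsMaximalBrauerPair p M B P e) (hQf : IsBrauerPairOf p M B Q f)
    (hn : IsNormalSubpair p M Q f S gS) : Nat.card S ≤ Nat.card P := by
  have hB : IsPBlock M B := hmax.1.2.1
  have hSp := brauerPairOf_of_normalSubpair hM hn B hQf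
  obtain ⟨P₁, e₁, hmax₁, hle₁⟩ := exists_maximal_above B hSp
  have hS : S ≤ P₁ := Cfsg.Agent.helper1.subpairLE_le hle₁
  have h1 := card_defectGroup p M hM B hB _ (maximal_pair_defectGroup p hM B _ _ hmax₁)
  have h2 := card_defectGroup p M hM B hB _ (maximal_pair_defectGroup p hM B _ _ hmax)
  rw [h2, ← h1]
  exact Subgroup.card_le_of_le hS

set_option maxHeartbeats 1600000 in
/-- abelian defect groups: factorization of the stabilizer of a subpair -/
theorem abelian_stab_factor (hM : IsPModular p M) (B : Set (IrrCharacter G))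
    {P Q : Subgroup G} {e : Set (IrrCharacter (Subgroup.centralizer (P : Set G)))}
    {f : Set (IrrCharacter (Subgroup.centralizer (Q : Set G)))}
    (hmax : IsMaximalBrauerPair p M B P e) (hab : ∀ x ∈ P, ∀ y ∈ P, x * y = y * x)
    (hQP : Q ≤ P) (hf : IsPBlock M f) (hle : SubpairLE p M Q f P e)
    (TQ : Subgroup G) (hTQ : ∀ y : G, y ∈ TQ ↔ y ∈ Subgroup.normalizer (Q : Set G) ∧
      StabilizesBlock (Subgroup.centralizer (Q : Set G)) f y)
    (TP : Subgroup G) (hTP : ∀ y : G, y ∈ TP ↔ y ∈ Subgroup.normalizer (P : Set G) ∧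
      StabilizesBlock (Subgroup.centralizer (P : Set G)) e y) :
    ∀ x ∈ TQ, ∃ y ∈ TP ⊓ Subgroup.normalizer (Q : Set G),
      ∃ c ∈ Subgroup.centralizer (Q : Set G), x = y * c := by
  classical
  have hMp : M.IsPrime := hM.2.1.isPrime
  have hPe : IsBrauerPair p M P e := hmax.1.1
  have hQ : IsPGroup p Q := hPe.1.to_le hQP
  have hPC : P ≤ Subgroup.centralizer (Q : Set G) := by
    intro u hu
    rw [Subgroup.mem_centralizer_iff]
    intro q hq
    exact hab q (hQP hq) u hu
  have hQC : Q ≤ Subgroup.centralizer (Q : Set G) := hQP.trans hPC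
  have hn₂ : IsNormalSubpair p M Q f P e :=
    normalSubpair_of_subpairLE hM hle hPe (hPC.trans (Subgroup.centralizer_le_normalizer _))
  have hQf : IsBrauerPairOf p M B Q f := (brauerPairOf_iff_of_subpairLE hM hle B).1 hmax.1
  intro x hx
  obtain ⟨hxN, hxst⟩ := (hTQ x).1 hx
  have hxpair : cjPair x (⟨Q, f⟩ : BrauerPairIdx G) = ⟨Q, f⟩ :=
    (stab_mem_iff_cjPair x).1 ⟨hxN, hxst⟩
  have hn₁ : IsNormalSubpair p M Q f (P.map (MulAut.conj x).toMonoidHom)
      (conjBlock P x e) := by
    have h' : NormalSubpairRel p M (cjPair x (⟨Q, f⟩ : BrauerPairIdx G))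
        (cjPair x (⟨P, e⟩ : BrauerPairIdx G)) := normalSubpair_conj hn₂ x
    rw [hxpair] at h'
    exact h'
  have hPxC : P.map (MulAut.conj x).toMonoidHom ≤ Subgroup.centralizer (Q : Set G) := by
    rintro _ ⟨u, hu, rfl⟩
    rw [Subgroup.mem_centralizer_iff]
    intro q hq
    have hq' : x⁻¹ * q * x ∈ Q := (Subgroup.mem_normalizer_iff''.1 hxN q).1 hq
    have h1 := hab (x⁻¹ * q * x) (hQP hq') u hu
    show q * (x * u * x⁻¹) = x * u * x⁻¹ * q
    calc q * (x * u * x⁻¹) = x * ((x⁻¹ * q * x) * u) * x⁻¹ := by group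
      _ = x * (u * (x⁻¹ * q * x)) * x⁻¹ := by rw [h1]
      _ = x * u * x⁻¹ * q := by group
  have hcard : ∀ (S : Subgroup G)
      (gS : Set (IrrCharacter ↥(Subgroup.centralizer (S : Set G)))),
      IsNormalSubpair p M Q f S gS → S ≤ Subgroup.centralizer (Q : Set G) →
      Nat.card S ≤ Nat.card P :=
    fun S gS hn _ => card_le_of_normalSubpair hM B hmax hQf hn
  obtain ⟨c, hc, hlec⟩ := relative_sylow hM hQ hQC (Subgroup.centralizer_le_normalizer _)
    le_rfl f hf (fun t ht => stabilizesBlock_of_mem_self f ht) hn₁ hn₂ hPxC hPC hcard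
  have hchain : Relation.ReflTransGen (NormalSubpairRel p M)
      (cjPair c (cjPair x (⟨P, e⟩ : BrauerPairIdx G))) ⟨P, e⟩ := hlec
  rw [cjPair_mul] at hchain
  have heq1 : (cjPair (c * x) (⟨P, e⟩ : BrauerPairIdx G)).1 = P := by
    have h1 : P.map (MulAut.conj (c * x)).toMonoidHom ≤ P :=
      Cfsg.Agent.helper1.subpairLE_le hchain
    have h2 : Nat.card P ≤ Nat.card ↥(P.map (MulAut.conj (c * x)).toMonoidHom) := by
      have h3 : Nat.card ↥(P.map (MulAut.conj (c * x)).toMonoidHom) = Nat.card P :=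
        Subgroup.card_map_of_injective (MulAut.conj (c * x)).injective
      rw [h3]
    exact Subgroup.eq_of_le_of_card_ge h1 h2
  have heq : cjPair (c * x) (⟨P, e⟩ : BrauerPairIdx G) = ⟨P, e⟩ :=
    subpairLE_eq_of_eq hchain heq1
  have hcxTP : c * x ∈ TP := (hTP _).2 ((stab_mem_iff_cjPair _).2 heq)
  have hcN : c ∈ Subgroup.normalizer (Q : Set G) := Subgroup.centralizer_le_normalizer _ hc
  refine ⟨c * x, ⟨hcxTP, Subgroup.mul_mem _ hcN hxN⟩, x⁻¹ * c⁻¹ * x, ?_, ?_⟩
  · have h1 := conj_mem_centralizer_of_mem_normalizer (Subgroup.inv_mem _ hxN)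
      (Subgroup.inv_mem _ hc)
    rw [inv_inv] at h1
    exact h1
  · group

/-- two pairs below `(P, e)` on the same subgroup are equal -/
theorem subpair_unique_sigma (hM : IsPModular p M) {P : Subgroup G}
    {e : Set (IrrCharacter (Subgroup.centralizer (P : Set G)))} (hPe : IsBrauerPair p M P e)
    {a b : BrauerPairIdx G} (hab : a.1 = b.1)
    (ha : Relation.ReflTransGen (NormalSubpairRel p M) a ⟨P, e⟩)
    (hb : Relation.ReflTransGen (NormalSubpairRel p M) b ⟨P, e⟩) : a = b := by
  obtain ⟨A, s⟩ := a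
  obtain ⟨A', s'⟩ := b
  have h : A = A' := hab
  subst h
  have : s = s' := subpair_unique_aux hM _ P e hPe A le_rfl s s' ha hb
  rw [this]

/-- an element stabilizing `(P, e)` and normalizing `Q` stabilizes the pair on `Q` below `(P, e)` -/
theorem stab_of_stab_top (hM : IsPModular p M) {P Q : Subgroup G}
    {e : Set (IrrCharacter (Subgroup.centralizer (P : Set G)))}
    {f : Set (IrrCharacter (Subgroup.centralizer (Q : Set G)))}
    (hPe : IsBrauerPair p M P e) (hle : SubpairLE p M Q f P e) {y : G}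
    (hyP : y ∈ Subgroup.normalizer (P : Set G))
    (hyst : StabilizesBlock (Subgroup.centralizer (P : Set G)) e y)
    (hyQ : y ∈ Subgroup.normalizer (Q : Set G)) :
    StabilizesBlock (Subgroup.centralizer (Q : Set G)) f y := by
  have h1 : cjPair y (⟨P, e⟩ : BrauerPairIdx G) = ⟨P, e⟩ :=
    (stab_mem_iff_cjPair y).1 ⟨hyP, hyst⟩
  have h2 := subpairLE_conj hle y
  rw [h1] at h2
  have h3 : (cjPair y (⟨Q, f⟩ : BrauerPairIdx G)).1 = Q := map_conj_eq_of_mem_normalizer hyQ
  have h4 : cjPair y (⟨Q, f⟩ : BrauerPairIdx G) = ⟨Q, f⟩ :=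
    subpair_unique_sigma hM hPe h3 h2 hle
  exact ((stab_mem_iff_cjPair y).2 h4).2

set_option maxHeartbeats 1600000 in
/-- abelian defect groups: the index of the centralizer in the stabilizer of a subpair -/
theorem abelian_stab_index (hM : IsPModular p M) (B : Set (IrrCharacter G))
    {P Q : Subgroup G} {e : Set (IrrCharacter (Subgroup.centralizer (P : Set G)))}
    {f : Set (IrrCharacter (Subgroup.centralizer (Q : Set G)))}
    (hmax : IsMaximalBrauerPair p M B P e) (hab : ∀ x ∈ P, ∀ y ∈ P, x * y = y * x)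
    (hQP : Q ≤ P) (hf : IsPBlock M f) (hle : SubpairLE p M Q f P e)
    (TQ : Subgroup G) (hTQ : ∀ y : G, y ∈ TQ ↔ y ∈ Subgroup.normalizer (Q : Set G) ∧
      StabilizesBlock (Subgroup.centralizer (Q : Set G)) f y)
    (TP : Subgroup G) (hTP : ∀ y : G, y ∈ TP ↔ y ∈ Subgroup.normalizer (P : Set G) ∧
      StabilizesBlock (Subgroup.centralizer (P : Set G)) e y) :
    ((Subgroup.centralizer (Q : Set G)).subgroupOf TQ).index
      = ((TP ⊓ Subgroup.centralizer (Q : Set G)).subgroupOf
        (TP ⊓ Subgroup.normalizer (Q : Set G))).index := by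
  classical
  have hPe : IsBrauerPair p M P e := hmax.1.1
  obtain ⟨N, hN⟩ : ∃ N : Subgroup G, N = Subgroup.normalizer (Q : Set G) := ⟨_, rfl⟩
  obtain ⟨C, hC⟩ : ∃ C : Subgroup G, C = Subgroup.centralizer (Q : Set G) := ⟨_, rfl⟩
  obtain ⟨U, hU⟩ : ∃ U : Subgroup G, U = TP ⊓ N := ⟨_, rfl⟩
  obtain ⟨-, hTQN', hCTQ', -⟩ := stab_basic hTQ
  have hCN : C ≤ N := by
    rw [hC, hN]
    exact Subgroup.centralizer_le_normalizer _
  have hTQN : TQ ≤ N := by
    rw [hN]
    exact hTQN'
  have hCTQ : C ≤ TQ := by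
    rw [hC]
    exact hCTQ'
  have hUN : U ≤ N := by
    rw [hU]
    exact inf_le_right
  have hUTQ : U ≤ TQ := by
    intro y hy
    rw [hU] at hy
    obtain ⟨hyTP, hyN⟩ := Subgroup.mem_inf.1 hy
    rw [hN] at hyN
    obtain ⟨hyP, hyst⟩ := (hTP y).1 hyTP
    exact (hTQ y).2 ⟨hyN, stab_of_stab_top hM hPe hle hyP hyst hyN⟩
  have hsup : TQ.subgroupOf N = U.subgroupOf N ⊔ C.subgroupOf N := by
    apply le_antisymm
    · intro x hx
      obtain ⟨y, hy, c, hc, hxyc⟩ := abelian_stab_factor hM B hmax hab hQP hf hle TQ hTQ TP hTP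
        (x : G) (Subgroup.mem_subgroupOf.1 hx)
      have hyU : y ∈ U := by
        rw [hU, hN]
        exact hy
      have hcC : c ∈ C := by
        rw [hC]
        exact hc
      have e1 : x = (⟨y, hUN hyU⟩ : ↥N) * (⟨c, hCN hcC⟩ : ↥N) := Subtype.ext hxyc
      rw [e1]
      exact Subgroup.mul_mem_sup (Subgroup.mem_subgroupOf.2 hyU) (Subgroup.mem_subgroupOf.2 hcC)
    · apply sup_le
      · intro x hx
        exact Subgroup.mem_subgroupOf.2 (hUTQ (Subgroup.mem_subgroupOf.1 hx))
      · intro x hx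
        exact Subgroup.mem_subgroupOf.2 (hCTQ (Subgroup.mem_subgroupOf.1 hx))
  have hnorm : (C.subgroupOf N).Normal := by
    rw [hC, hN]
    infer_instance
  have e2 : C ⊓ U = TP ⊓ C := by
    rw [hU]
    exact le_antisymm (le_inf (inf_le_right.trans inf_le_left) inf_le_left)
      (le_inf inf_le_right (le_inf inf_le_left (inf_le_right.trans hCN)))
  rw [← hC, ← hN, ← hU]
  show C.relIndex TQ = (TP ⊓ C).relIndex U
  rw [← Subgroup.relIndex_subgroupOf hTQN, hsup, Subgroup.relIndex_sup_right,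
    Subgroup.relIndex_subgroupOf hUN, ← Subgroup.inf_relIndex_right, e2]

end Ab23

end Cfsg.Agent.helper24
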