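import Mathlib
import Cfsg.Agent.Lib_helper24_BPair23

/-!
Brauer pairs (helper24), part 24: Fong's theorem for the block of the stabilizer of a pair; the
stabilizer as a subgroup; abelian defect groups and nilpotent blocks.
-/

set_option autoImplicit false

namespace Cfsg.Agent.helper24

open Cfsg Cfsg.Agent.helper5 Cfsg.Agent.helper8
open scoped ComplexConjugate

universe u

section Fong24

variable {G : Type u} [Group G] [Fintype G] {M : Ideal AlgInt} {p : ℕ} [Fact p.Prime]

/-- Fong's theorem for the block with the idempotent of an invariant block of the centralizer of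
a normal `p`-subgroup -/
theorem cent_fong (hM : IsPModular p M) {Q : Subgroup G} (hQ : IsPGroup p Q)
    [hQn : Q.Normal] [hN : (Subgroup.centralizer (Q : Set G)).Normal]
    [Fintype ↥(Subgroup.centralizer (Q : Set G))]
    (b : Set (IrrCharacter ↥(Subgroup.centralizer (Q : Set G)))) (hb : IsPBlock M b)
    (hinv : ∀ g : G, ∀ θ ∈ b, ∀ θ' : IrrCharacter ↥(Subgroup.centralizer (Q : Set G)),
      (∀ n : ↥(Subgroup.centralizer (Q : Set G)),
        (θ' : ↥(Subgroup.centralizer (Q : Set G)) → ℂ) n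
          = (θ : ↥(Subgroup.centralizer (Q : Set G)) → ℂ)
            ⟨g * n * g⁻¹, hN.conj_mem n n.2 g⟩) → θ' ∈ b)
    (F : Set (IrrCharacter G)) (hF : IsPBlock M F)
    (hcoefF : blockCoeff F = extendByZero (Subgroup.centralizer (Q : Set G)) (blockCoeff b))
    (D : Subgroup G) (hD : IsDefectGroup p M F D) :
    ¬ p ∣ (D ⊔ Subgroup.centralizer (Q : Set G)).index ∧
      IsDefectGroup p M b ((D ⊓ Subgroup.centralizer (Q : Set G)).subgroupOf
        (Subgroup.centralizer (Q : Set G))) := by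
  classical
  have hMp : M.IsPrime := hM.2.1.isPrime
  have hcovF : ∃ χ ∈ F, ∃ θ ∈ b, classInner
      (fun n : ↥(Subgroup.centralizer (Q : Set G)) => (χ : G → ℂ) n)
      (θ : ↥(Subgroup.centralizer (Q : Set G)) → ℂ) ≠ 0 := by
    obtain ⟨χ, hχ⟩ := isPBlock_nonempty hF
    obtain ⟨θ', hu⟩ := Cover.exists_under (Subgroup.centralizer (Q : Set G)) χ.2
    have h1 := fg_omega_E (Subgroup.centralizer (Q : Set G)) b hb hinv χ.2 hu
    rw [← hcoefF, omegaFn_blockCoeff, if_pos hχ] at h1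
    refine ⟨χ, hχ, θ', ?_, hu⟩
    by_contra hθ'
    rw [if_neg hθ'] at h1
    exact one_ne_zero h1
  have hmaxF : ∀ B' : Set (IrrCharacter G), IsPBlock M B' →
      (∃ χ ∈ B', ∃ θ ∈ b, classInner
        (fun n : ↥(Subgroup.centralizer (Q : Set G)) => (χ : G → ℂ) n)
        (θ : ↥(Subgroup.centralizer (Q : Set G)) → ℂ) ≠ 0) →
      blockDefect p B' ≤ blockDefect p F := by
    intro B' hB' hcov'
    rw [cent_cover_unique hM hQ b hb hinv B' F hB' hF hcov' hcovF]
  obtain ⟨h1, h2, -⟩ := fong_theorem (Subgroup.centralizer (Q : Set G)) b p hM hb hinv F hF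
    hcovF hmaxF D hD
  exact ⟨h1, h2⟩

set_option maxHeartbeats 1600000 in
/-- Fong's theorem for the block of the stabilizer -/
theorem stab_fong (hM : IsPModular p M) {Q T : Subgroup G} (hQ : IsPGroup p Q)
    (hQT : Q ≤ T) (hTN : T ≤ Subgroup.normalizer (Q : Set G))
    (hCT : Subgroup.centralizer (Q : Set G) ≤ T)
    (f : Set (IrrCharacter ↥(Subgroup.centralizer (Q : Set G)))) (hf : IsPBlock M f)
    (hst : ∀ t ∈ T, StabilizesBlock (Subgroup.centralizer (Q : Set G)) f t)
    (F : Set (IrrCharacter ↥T)) (hF : IsPBlock M F)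
    (hcoef : ∀ t : ↥T, blockCoeff F t
      = subgroupBlockCoeff (Subgroup.centralizer (Q : Set G)) f (t : G))
    (D : Subgroup ↥T) (hD : IsDefectGroup p M F D) :
    ¬ p ∣ (D ⊔ Subgroup.centralizer ((Q.subgroupOf T : Subgroup ↥T) : Set ↥T)).index ∧
      Nat.card ↥(D ⊓ Subgroup.centralizer ((Q.subgroupOf T : Subgroup ↥T) : Set ↥T))
        = p ^ blockDefect p f := by
  classical
  have hMp : M.IsPrime := hM.2.1.isPrime
  have := Fintype.ofFinite ↥T
  have := Fintype.ofFinite ↥(Subgroup.centralizer (Q : Set G))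
  have := Fintype.ofFinite ↥(Subgroup.centralizer ((Q.subgroupOf T : Subgroup ↥T) : Set ↥T))
  have hQ'n : (Q.subgroupOf T).Normal := Subgroup.normal_subgroupOf_of_le_normalizer hTN
  have hQ'p : IsPGroup p (Q.subgroupOf T) := hQ.comap_subtype
  have hN : (Subgroup.centralizer ((Q.subgroupOf T : Subgroup ↥T) : Set ↥T)).Normal :=
    inferInstance
  obtain ⟨b, hbdef⟩ : ∃ b : Set (IrrCharacter
      ↥(Subgroup.centralizer ((Q.subgroupOf T : Subgroup ↥T) : Set ↥T))),
    b = transportSet (centSubEquiv Q T hQT hCT) f := ⟨_, rfl⟩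
  have hb : IsPBlock M b := by
    rw [hbdef]
    exact isPBlock_transportSet _ f hf
  have hinv : ∀ g : ↥T, ∀ θ ∈ b, ∀ θ' : IrrCharacter
      ↥(Subgroup.centralizer ((Q.subgroupOf T : Subgroup ↥T) : Set ↥T)),
      (∀ n : ↥(Subgroup.centralizer ((Q.subgroupOf T : Subgroup ↥T) : Set ↥T)),
        (θ' : ↥(Subgroup.centralizer ((Q.subgroupOf T : Subgroup ↥T) : Set ↥T)) → ℂ) n
          = (θ : ↥(Subgroup.centralizer ((Q.subgroupOf T : Subgroup ↥T) : Set ↥T)) → ℂ)
            ⟨g * n * g⁻¹, hN.conj_mem n n.2 g⟩) → θ' ∈ b := by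
    intro g θ hθ θ' hθ'
    rw [hbdef] at hθ ⊢
    obtain ⟨ξ, hξ, hθξ⟩ := hθ
    obtain ⟨ξ', hξ', hconj⟩ := (hst (g : G)⁻¹ (T.inv_mem g.2)).2 ξ hξ
    refine ⟨ξ', hξ', ?_⟩
    funext n
    rw [hθ' n, hθξ]
    symm
    apply hconj
    rw [centSubEquiv_coe, centSubEquiv_coe]
    show ((n : ↥T) : G) = (g : G)⁻¹ * ((g : G) * ((n : ↥T) : G) * (g : G)⁻¹) * (g : G)⁻¹⁻¹
    group
  have hcoefF : blockCoeff F = extendByZero
      (Subgroup.centralizer ((Q.subgroupOf T : Subgroup ↥T) : Set ↥T)) (blockCoeff b) := by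
    funext t
    rw [hcoef]
    by_cases ht : t ∈ Subgroup.centralizer ((Q.subgroupOf T : Subgroup ↥T) : Set ↥T)
    · rw [extendByZero_of_mem _ _ t ht, hbdef, blockCoeff_transportSet,
        sbc_of_mem _ _ ((mem_centralizer_subgroupOf_iff hQT t).1 ht)]
      rfl
    · rw [extendByZero_of_not_mem _ _ t ht,
        sbc_of_not_mem _ _ (fun h => ht ((mem_centralizer_subgroupOf_iff hQT t).2 h))]
  obtain ⟨h1, h2⟩ := cent_fong hM hQ'p b hb hinv F hF hcoefF D hD
  refine ⟨h1, ?_⟩
  have h3 := card_defectGroup p M hM b hb _ h2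
  rw [card_subgroupOf_eq_of_le24 inf_le_right, hbdef, blockDefect_transportSet] at h3
  exact h3

end Fong24

section StabSub24

variable {G : Type u} [Group G] [Finite G]

/-- the stabilizer of a pair as a subgroup -/
def stabSubgroup (Q : Subgroup G) (f : Set (IrrCharacter ↥(Subgroup.centralizer (Q : Set G)))) :
    Subgroup G where
  carrier := {y | y ∈ Subgroup.normalizer (Q : Set G) ∧
    StabilizesBlock (Subgroup.centralizer (Q : Set G)) f y}
  one_mem' := ⟨one_mem _, stabilizesBlock_of_mem_self f (one_mem _)⟩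
  mul_mem' := fun ha hb => ⟨mul_mem ha.1 hb.1, stabilizesBlock_mul ha.2 hb.2⟩
  inv_mem' := fun ha => ⟨inv_mem ha.1, stabilizesBlock_inv ha.2⟩

theorem mem_stabSubgroup (Q : Subgroup G)
    (f : Set (IrrCharacter ↥(Subgroup.centralizer (Q : Set G)))) (y : G) :
    y ∈ stabSubgroup Q f ↔ y ∈ Subgroup.normalizer (Q : Set G) ∧
      StabilizesBlock (Subgroup.centralizer (Q : Set G)) f y := Iff.rfl

end StabSub24

end Cfsg.Agent.helper24
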