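import Mathlib
import Cfsg.Agent.Lib_helper24_BPair24
import Cfsg.Agent.Lib_helper24_BlockOrth3

/-!
Brauer pairs (helper24), part 25: abelian defect groups: a block is nilpotent iff its inertial
quotient is trivial.
-/

set_option autoImplicit false

namespace Cfsg.Agent.helper24

open Cfsg Cfsg.Agent.helper5 Cfsg.Agent.helper8
open scoped ComplexConjugate

universe u

section Nil25

variable {G : Type u} [Group G] [Fintype G] {M : Ideal AlgInt} {p : ℕ} [Fact p.Prime]

set_option maxHeartbeats 1600000 in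
/-- the subgroup of a maximal pair is a defect group of the block of the stabilizer of the pair -/
theorem maximal_stab_defectGroup (hM : IsPModular p M) (B : Set (IrrCharacter G))
    {P T : Subgroup G} {e : Set (IrrCharacter (Subgroup.centralizer (P : Set G)))}
    (hmax : IsMaximalBrauerPair p M B P e)
    (hT : ∀ y : G, y ∈ T ↔ y ∈ Subgroup.normalizer (P : Set G) ∧
      StabilizesBlock (Subgroup.centralizer (P : Set G)) e y) :
    ∃ F : Set (IrrCharacter ↥T), IsPBlock M F ∧
      (∀ t : ↥T, blockCoeff F t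
        = subgroupBlockCoeff (Subgroup.centralizer (P : Set G)) e (t : G)) ∧
      IsDefectGroup p M F (P.subgroupOf T) := by
  classical
  have := Fintype.ofFinite ↥T
  have hPe : IsBrauerPair p M P e := hmax.1.1
  have hrefl : SubpairLE p M P e P e := Relation.ReflTransGen.refl
  obtain ⟨F, hF, hcoef, hRT, D, hD, hAD⟩ := stab_main_A hM hPe le_rfl hPe.2 hrefl hT
  refine ⟨F, hF, hcoef, ?_⟩
  obtain ⟨y, -, hcard⟩ := stab_conj_step hM B hmax hPe.2 hrefl hT F hF hcoef D hD
  have e1 : P ⊓ Subgroup.normalizer (P : Set G) = P := inf_eq_left.2 Subgroup.le_normalizer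
  rw [e1] at hAD hRT
  have h1 : Nat.card ↥(P ⊓ Subgroup.normalizer
      ((P.map (MulAut.conj y).toMonoidHom : Subgroup G) : Set G)) ≤ Nat.card P :=
    Subgroup.card_le_of_le inf_le_left
  have h2 : Nat.card D ≤ Nat.card (P.subgroupOf T) := by
    rw [card_subgroupOf_eq_of_le24 hRT]
    exact hcard.trans h1
  rw [Subgroup.eq_of_le_of_card_ge hAD h2]
  exact hD

theorem stabilizesBlock_zpow [Finite G] {K : Subgroup G} {f : Set (IrrCharacter ↥K)} {x : G}
    (hx : StabilizesBlock K f x) (n : ℤ) : StabilizesBlock K f (x ^ n) := by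
  obtain ⟨m, rfl | rfl⟩ := Int.eq_nat_or_neg n
  · rw [zpow_natCast]
    exact stabilizesBlock_pow hx m
  · rw [zpow_neg, zpow_natCast]
    exact stabilizesBlock_inv (stabilizesBlock_pow hx m)

set_option maxHeartbeats 1600000 in
/-- abelian defect groups: nilpotent iff the inertial quotient is trivial -/
theorem abelian_nilpotent_iff (hM : IsPModular p M) (B : Set (IrrCharacter G))
    {P : Subgroup G} {e : Set (IrrCharacter (Subgroup.centralizer (P : Set G)))}
    (hmax : IsMaximalBrauerPair p M B P e) (hab : ∀ x ∈ P, ∀ y ∈ P, x * y = y * x) :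
    IsNilpotentBlock p M B ↔ ∀ x : G, x ∈ Subgroup.normalizer (P : Set G) →
      StabilizesBlock (Subgroup.centralizer (P : Set G)) e x →
      x ∈ Subgroup.centralizer (P : Set G) := by
  classical
  have hp : p.Prime := Fact.out
  have hPe : IsBrauerPair p M P e := hmax.1.1
  have hB : IsPBlock M B := hmax.1.2.1
  constructor
  · intro hnil x hxN hxst
    obtain ⟨T, hTdef⟩ : ∃ T : Subgroup G, T = stabSubgroup P e := ⟨_, rfl⟩
    have hT : ∀ y : G, y ∈ T ↔ y ∈ Subgroup.normalizer (P : Set G) ∧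
        StabilizesBlock (Subgroup.centralizer (P : Set G)) e y := by
      intro y
      rw [hTdef]
      exact mem_stabSubgroup P e y
    have := Fintype.ofFinite ↥T
    obtain ⟨F, hF, hcoef, hdef⟩ := maximal_stab_defectGroup hM B hmax hT
    obtain ⟨hPT, hTN, hCT, hst⟩ := stab_basic hT
    obtain ⟨hidx, -⟩ := stab_fong hM hPe.1 hPT hTN hCT e hPe.2 hst F hF hcoef _ hdef
    have hDN : P.subgroupOf T ≤
        Subgroup.centralizer ((P.subgroupOf T : Subgroup ↥T) : Set ↥T) := by
      intro d hd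
      rw [mem_centralizer_subgroupOf_iff hPT, Subgroup.mem_centralizer_iff]
      intro u hu
      exact hab u hu (d : G) (Subgroup.mem_subgroupOf.1 hd)
    rw [sup_eq_right.2 hDN] at hidx
    obtain ⟨z, hz⟩ := exists_isPPart p x
    obtain ⟨n, hn⟩ := ppart_eq_zpow hp hz
    obtain ⟨y, hzy, hc, ⟨k, hk⟩, hy⟩ := hz
    have hxT : x ∈ T := (hT x).2 ⟨hxN, hxst⟩
    have hzT : z ∈ T := by
      rw [hn]
      exact Subgroup.zpow_mem _ hxT n
    have hyT : y ∈ T := by
      have e1 : y = z⁻¹ * x := by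
        rw [← hzy]
        group
      rw [e1]
      exact T.mul_mem (T.inv_mem hzT) hxT
    have hyC : y ∈ Subgroup.centralizer (P : Set G) :=
      hnil.2 P e hmax.1 y ((hT y).1 hyT).1 ((hT y).1 hyT).2 hy
    have hzC : z ∈ Subgroup.centralizer (P : Set G) := by
      obtain ⟨N', hN'⟩ : ∃ N' : Subgroup ↥T,
        N' = Subgroup.centralizer ((P.subgroupOf T : Subgroup ↥T) : Set ↥T) := ⟨_, rfl⟩
      have hN'n : N'.Normal := by
        have : (P.subgroupOf T).Normal := Subgroup.normal_subgroupOf_of_le_normalizer hTN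
        rw [hN']
        infer_instance
      rw [← hN'] at hidx
      have h1 : orderOf (QuotientGroup.mk' N' (⟨z, hzT⟩ : ↥T)) ∣ p ^ k := by
        have h2 := orderOf_map_dvd (QuotientGroup.mk' N') (⟨z, hzT⟩ : ↥T)
        have h3 : orderOf (⟨z, hzT⟩ : ↥T) = orderOf z := Subgroup.orderOf_mk z hzT
        rw [h3, hk] at h2
        exact h2
      have h4 : orderOf (QuotientGroup.mk' N' (⟨z, hzT⟩ : ↥T)) ∣ N'.index := by
        rw [Subgroup.index_eq_card]
        exact orderOf_dvd_natCard _
      have hcop : Nat.Coprime (p ^ k) N'.index :=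
        Nat.Coprime.pow_left k ((Nat.Prime.coprime_iff_not_dvd hp).2 hidx)
      have h5 : orderOf (QuotientGroup.mk' N' (⟨z, hzT⟩ : ↥T)) = 1 :=
        Nat.Coprime.eq_one_of_dvd (Nat.Coprime.coprime_dvd_left h1 hcop) h4
      have h6 : QuotientGroup.mk' N' (⟨z, hzT⟩ : ↥T) = 1 := orderOf_eq_one_iff.1 h5
      have h7 : (⟨z, hzT⟩ : ↥T) ∈ N' := (QuotientGroup.eq_one_iff _).1 h6
      rw [hN'] at h7
      exact (mem_centralizer_subgroupOf_iff hPT _).1 h7
    rw [← hzy]
    exact Subgroup.mul_mem _ hzC hyC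
  · intro h
    refine ⟨hB, ?_⟩
    intro Q' f' hQf' x hxN hxst _
    obtain ⟨g, hleg⟩ := pair_conj_below_maximal hM B P Q' e f' hmax hQf'
    have hQP : Q'.map (MulAut.conj g).toMonoidHom ≤ P := Cfsg.Agent.helper1.subpairLE_le hleg
    have hfg : IsPBlock M (conjBlock Q' g f') := (brauerPair_conj hQf'.1 g).2
    have hx₁ : g * x * g⁻¹ ∈ Subgroup.normalizer
        ((Q'.map (MulAut.conj g).toMonoidHom : Subgroup G) : Set G) ∧
        StabilizesBlock (Subgroup.centralizer
          ((Q'.map (MulAut.conj g).toMonoidHom : Subgroup G) : Set G)) (conjBlock Q' g f')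
          (g * x * g⁻¹) := by
      apply (stab_conj_mem_iff g _).2
      have e1 : g⁻¹ * (g * x * g⁻¹) * g = x := by group
      rw [e1]
      exact ⟨hxN, hxst⟩
    obtain ⟨y, hy, c, hc, hxyc⟩ := abelian_stab_factor hM B hmax hab hQP hfg hleg
      (stabSubgroup _ _) (mem_stabSubgroup _ _) (stabSubgroup P e) (mem_stabSubgroup P e)
      (g * x * g⁻¹) ((mem_stabSubgroup _ _ _).2 hx₁)
    obtain ⟨hyTP, -⟩ := Subgroup.mem_inf.1 hy
    obtain ⟨hyN, hyst⟩ := (mem_stabSubgroup P e y).1 hyTP
    have hyC : y ∈ Subgroup.centralizer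
        ((Q'.map (MulAut.conj g).toMonoidHom : Subgroup G) : Set G) :=
      Subgroup.centralizer_le hQP (h y hyN hyst)
    have hx₁C : g * x * g⁻¹ ∈ Subgroup.centralizer
        ((Q'.map (MulAut.conj g).toMonoidHom : Subgroup G) : Set G) := by
      rw [hxyc]
      exact Subgroup.mul_mem _ hyC hc
    have h1 := (Cfsg.Agent.helper1.centralizerConjEquiv Q' g ⟨g * x * g⁻¹, hx₁C⟩).2
    rw [Cfsg.Agent.helper1.centralizerConjEquiv_coe] at h1
    have e2 : g⁻¹ * (g * x * g⁻¹) * g = x := by group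
    have h2 : g⁻¹ * ((⟨g * x * g⁻¹, hx₁C⟩ : ↥(Subgroup.centralizer
        ((Q'.map (MulAut.conj g).toMonoidHom : Subgroup G) : Set G))) : G) * g = x := e2
    rw [h2] at h1
    exact h1

end Nil25

end Cfsg.Agent.helper24
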