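import Mathlib
import Cfsg.Agent.Lib_helper24_BPair25

/-!
Brauer pairs (helper24), part 26: the fusion system of a block on a maximal Brauer pair exists.
-/

set_option autoImplicit false

namespace Cfsg.Agent.helper24

open Cfsg Cfsg.Agent.helper5 Cfsg.Agent.helper8
open scoped ComplexConjugate

universe u

section Fus26

variable {G : Type u} [Group G] [Fintype G] {M : Ideal AlgInt} {p : ℕ} [Fact p.Prime]

/-- a pair below a Brauer pair is a Brauer pair -/
theorem brauerPair_of_subpairLE {a b : BrauerPairIdx G}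
    (h : Relation.ReflTransGen (NormalSubpairRel p M) a b) (hb : IsBrauerPair p M b.1 b.2) :
    IsBrauerPair p M a.1 a.2 := by
  rcases Relation.ReflTransGen.cases_head h with heq | ⟨c, hac, -⟩
  · rw [heq]
    exact hb
  · exact hac.1

/-- an element of `P` fixes the pair `(P, e)` -/
theorem cjPair_self_of_mem {P : Subgroup G}
    (e : Set (IrrCharacter (Subgroup.centralizer (P : Set G)))) {g : G} (hg : g ∈ P) :
    cjPair g (⟨P, e⟩ : BrauerPairIdx G) = ⟨P, e⟩ :=
  cjPair_eq_of_stabilizes (Subgroup.le_normalizer hg) (stabilizesBlock_of_mem P e hg)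
    (stabilizesBlock_of_mem P e (P.inv_mem hg))

theorem map_conj_le_of_range {Q R : Subgroup G} {φ : ↥Q →* G} {g : G}
    (hg : ∀ u : ↥Q, φ u = g * (u : G) * g⁻¹) (h : ∀ x : ↥Q, φ x ∈ R) :
    Q.map (MulAut.conj g).toMonoidHom ≤ R := by
  rintro _ ⟨u, hu, rfl⟩
  have h1 := h ⟨u, hu⟩
  rw [hg] at h1
  exact h1

theorem range_eq_map_conj {Q : Subgroup G} {φ : ↥Q →* G} {g : G}
    (hg : ∀ u : ↥Q, φ u = g * (u : G) * g⁻¹) :
    φ.range = Q.map (MulAut.conj g).toMonoidHom := by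
  ext y
  constructor
  · rintro ⟨u, rfl⟩
    exact ⟨(u : G), u.2, (hg u).symm⟩
  · rintro ⟨u, hu, rfl⟩
    exact ⟨⟨u, hu⟩, hg ⟨u, hu⟩⟩

set_option maxHeartbeats 1600000 in
/-- the fusion system of a block on a Brauer pair -/
theorem exists_blockFusionSystem (hM : IsPModular p M) (B : Set (IrrCharacter G))
    {P : Subgroup G} {e : Set (IrrCharacter (Subgroup.centralizer (P : Set G)))}
    (hmax : IsMaximalBrauerPair p M B P e) :
    ∃ F : FusionSystem P, IsBlockFusionSystemOn p M B P e F := by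
  classical
  have hPe : IsBrauerPair p M P e := hmax.1.1
  refine ⟨{
    Hom := fun Q => {φ | Q ≤ P ∧ ∃ g : G, (∀ u : Q, φ u = g * (u : G) * g⁻¹) ∧
        Q.map (MulAut.conj g).toMonoidHom ≤ P ∧
        ∃ f : Set (IrrCharacter (Subgroup.centralizer (Q : Set G))),
          SubpairLE p M Q f P e ∧
            SubpairLE p M (Q.map (MulAut.conj g).toMonoidHom) (conjBlock Q g f) P e}
    le_of_mem := ?_
    injective_of_mem := ?_
    conj_mem := ?_
    comp_mem := ?_
    inv_mem := ?_ }, hmax, fun Q φ => Iff.rfl⟩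
  · rintro Q φ ⟨hQP, g, hg, hQgP, -⟩
    refine ⟨hQP, fun x => ?_⟩
    rw [hg]
    exact hQgP ⟨(x : G), x.2, rfl⟩
  · rintro Q φ ⟨-, g, hg, -⟩ a b hab
    have h : g * (a : G) * g⁻¹ = g * (b : G) * g⁻¹ := ((hg a).symm.trans hab).trans (hg b)
    exact Subtype.ext (mul_left_cancel (mul_right_cancel h))
  · intro Q g hQP hgP
    obtain ⟨f, -, hle⟩ := exists_subpair hM P e hPe _ Q hQP le_rfl
    have h1 := subpairLE_conj hle g
    rw [cjPair_self_of_mem e hgP] at h1
    exact ⟨hQP, g, fun u => rfl, Cfsg.Agent.helper1.subpairLE_le h1, f, hle, h1⟩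
  · rintro Q R φ ψ ⟨hQP, g, hg, hQgP, f, hle, hleg⟩ ⟨hRP, k, hk, hRkP, fR, hleR, hleRk⟩ h
    have hQgR : Q.map (MulAut.conj g).toMonoidHom ≤ R := map_conj_le_of_range hg h
    have hRfR : IsBrauerPair p M R fR :=
      brauerPair_of_subpairLE (a := ⟨R, fR⟩) (b := ⟨P, e⟩) hleR hPe
    obtain ⟨f'', -, hle''⟩ := exists_subpair hM R fR hRfR _
      (Q.map (MulAut.conj g).toMonoidHom) hQgR le_rfl
    have hff : f'' = conjBlock Q g f := subpair_unique_aux hM _ P e hPe _ le_rfl _ _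
      (Relation.ReflTransGen.trans hle'' hleR) hleg
    rw [hff] at hle''
    have h1 := subpairLE_conj hle'' k
    have h2 : Relation.ReflTransGen (NormalSubpairRel p M)
        (cjPair k (cjPair g (⟨Q, f⟩ : BrauerPairIdx G))) ⟨P, e⟩ :=
      Relation.ReflTransGen.trans h1 hleRk
    rw [cjPair_mul] at h2
    refine ⟨hQP, k * g, fun u => ?_, Cfsg.Agent.helper1.subpairLE_le h2, f, hle, h2⟩
    show ψ ⟨φ u, h u⟩ = k * g * (u : G) * (k * g)⁻¹
    rw [hk]
    show k * φ u * k⁻¹ = k * g * (u : G) * (k * g)⁻¹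
    rw [hg]
    group
  · rintro Q φ ⟨hQP, g, hg, hQgP, f, hle, hleg⟩
    have hrange := range_eq_map_conj hg
    have key : ∀ R : Subgroup G, R = Q.map (MulAut.conj g).toMonoidHom →
        ∃ f₂ : Set (IrrCharacter (Subgroup.centralizer (R : Set G))),
          SubpairLE p M R f₂ P e ∧
            SubpairLE p M (R.map (MulAut.conj g⁻¹).toMonoidHom) (conjBlock R g⁻¹ f₂) P e := by
      intro R hR
      subst hR
      refine ⟨conjBlock Q g f, hleg, ?_⟩
      have h1 : cjPair g⁻¹ (cjPair g (⟨Q, f⟩ : BrauerPairIdx G)) = ⟨Q, f⟩ := by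
        rw [cjPair_mul, inv_mul_cancel, cjPair_one]
      have h2 : Relation.ReflTransGen (NormalSubpairRel p M)
          (cjPair g⁻¹ (cjPair g (⟨Q, f⟩ : BrauerPairIdx G))) ⟨P, e⟩ := by
        rw [h1]
        exact hle
      exact h2
    obtain ⟨f₂, hle₂, hle₂'⟩ := key φ.range hrange
    refine ⟨conjHom φ.range g⁻¹, ⟨?_, g⁻¹, fun u => rfl,
      Cfsg.Agent.helper1.subpairLE_le hle₂', f₂, hle₂, hle₂'⟩, ?_⟩
    · rw [hrange]
      exact hQgP
    · intro x
      show g⁻¹ * φ x * g⁻¹⁻¹ = (x : G)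
      rw [hg]
      group

end Fus26

end Cfsg.Agent.helper24
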