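import Mathlib
import Cfsg.Agent.Lib_helper24_BPair26

/-!
Brauer pairs (helper24), part 27: the automizer of a pair with maximal normalizer is fully
automized.
-/

set_option autoImplicit false

namespace Cfsg.Agent.helper24

open Cfsg Cfsg.Agent.helper5 Cfsg.Agent.helper8
open scoped ComplexConjugate

universe u

section FA27a

variable {G : Type u} [Group G]

/-- the conjugation action of a subgroup of the normalizer -/
def conjAutHom (Q T : Subgroup G) (hTN : T ≤ Subgroup.normalizer (Q : Set G)) :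
    ↥T →* MulAut ↥Q :=
  (Subgroup.normalizerMonoidHom Q).comp (Subgroup.inclusion hTN)

theorem conjAutHom_coe (Q T : Subgroup G) (hTN : T ≤ Subgroup.normalizer (Q : Set G))
    (t : ↥T) (q : ↥Q) :
    ((conjAutHom Q T hTN t q : ↥Q) : G) = (t : G) * (q : G) * (t : G)⁻¹ := rfl

theorem conjAutHom_ker (Q T : Subgroup G) (hQT : Q ≤ T)
    (hTN : T ≤ Subgroup.normalizer (Q : Set G)) :
    (conjAutHom Q T hTN).ker
      = Subgroup.centralizer ((Q.subgroupOf T : Subgroup ↥T) : Set ↥T) := by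
  ext t
  rw [MonoidHom.mem_ker, mem_centralizer_subgroupOf_iff hQT, Subgroup.mem_centralizer_iff]
  constructor
  · intro h q hq
    have h1 : ((conjAutHom Q T hTN t ⟨q, hq⟩ : ↥Q) : G) = q := by
      rw [h]
      rfl
    rw [conjAutHom_coe] at h1
    have h2 : (t : G) * q * (t : G)⁻¹ = q := h1
    calc q * (t : G) = ((t : G) * q * (t : G)⁻¹) * (t : G) := by rw [h2]
      _ = (t : G) * q := by group
  · intro h
    ext q
    rw [conjAutHom_coe]
    have h1 : (q : G) * (t : G) = (t : G) * (q : G) := h (q : G) q.2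
    show (t : G) * (q : G) * (t : G)⁻¹ = (q : G)
    rw [← h1]
    group

theorem autInducedBy_eq_map {P Q T : Subgroup G} (hTN : T ≤ Subgroup.normalizer (Q : Set G))
    (hRT : P ⊓ Subgroup.normalizer (Q : Set G) ≤ T) :
    autInducedBy P Q
      = ((P ⊓ Subgroup.normalizer (Q : Set G)).subgroupOf T).map (conjAutHom Q T hTN) := by
  apply le_antisymm
  · unfold autInducedBy
    rw [Subgroup.closure_le]
    rintro α ⟨g, hgP, hg⟩
    have hgN : g ∈ Subgroup.normalizer (Q : Set G) := by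
      rw [Subgroup.mem_normalizer_iff]
      intro h
      constructor
      · intro hh
        rw [← hg ⟨h, hh⟩]
        exact (α ⟨h, hh⟩).2
      · intro hh
        have h1 := hg (α.symm ⟨g * h * g⁻¹, hh⟩)
        rw [MulEquiv.apply_symm_apply] at h1
        have h1' : g * h * g⁻¹ = g * ((α.symm ⟨g * h * g⁻¹, hh⟩ : ↥Q) : G) * g⁻¹ := h1
        have h2 : h = ((α.symm ⟨g * h * g⁻¹, hh⟩ : ↥Q) : G) :=
          mul_left_cancel (mul_right_cancel h1')
        rw [h2]
        exact (α.symm _).2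
    have hgT : g ∈ T := hRT ⟨hgP, hgN⟩
    refine ⟨⟨g, hgT⟩, Subgroup.mem_subgroupOf.2 ⟨hgP, hgN⟩, ?_⟩
    ext q
    rw [conjAutHom_coe]
    exact (hg q).symm
  · rintro _ ⟨t, ht, rfl⟩
    apply Subgroup.subset_closure
    exact ⟨(t : G), (Subgroup.mem_subgroupOf.1 ht).1, fun x => rfl⟩

end FA27a

section FA27

variable {G : Type u} [Group G] [Fintype G] {M : Ideal AlgInt} {p : ℕ} [Fact p.Prime]

set_option maxHeartbeats 1600000 in
/-- the automizer of `Q` in the fusion system is the image of the stabilizer of the pair -/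
theorem autGroup_eq_range (hM : IsPModular p M) (B : Set (IrrCharacter G)) {P Q T : Subgroup G}
    {e : Set (IrrCharacter (Subgroup.centralizer (P : Set G)))}
    {f : Set (IrrCharacter (Subgroup.centralizer (Q : Set G)))}
    (hmax : IsMaximalBrauerPair p M B P e)
    (F : FusionSystem P) (hF : IsBlockFusionSystemOn p M B P e F)
    (hle : SubpairLE p M Q f P e)
    (hT : ∀ y : G, y ∈ T ↔ y ∈ Subgroup.normalizer (Q : Set G) ∧
      StabilizesBlock (Subgroup.centralizer (Q : Set G)) f y)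
    (hTN : T ≤ Subgroup.normalizer (Q : Set G)) :
    F.autGroup Q = (conjAutHom Q T hTN).range := by
  have hPe : IsBrauerPair p M P e := hmax.1.1
  have hQP : Q ≤ P := Cfsg.Agent.helper1.subpairLE_le hle
  apply le_antisymm
  · unfold FusionSystem.autGroup
    rw [Subgroup.closure_le]
    intro α hα
    have hα' : Q.subtype.comp α.toMonoidHom ∈ F.Hom Q := hα
    obtain ⟨-, g, hg, hQgP, f₀, hle₀, hle₀g⟩ := (hF.2 Q _).1 hα'
    have hf₀ : f₀ = f := subpair_unique_aux hM _ P e hPe Q le_rfl f₀ f hle₀ hle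
    rw [hf₀] at hle₀g
    have hg' : ∀ u : ↥Q, ((α u : ↥Q) : G) = g * (u : G) * g⁻¹ := hg
    have hQg : Q.map (MulAut.conj g).toMonoidHom = Q := by
      ext y
      constructor
      · rintro ⟨u, hu, rfl⟩
        show g * u * g⁻¹ ∈ Q
        rw [← hg' ⟨u, hu⟩]
        exact (α ⟨u, hu⟩).2
      · intro hy
        refine ⟨((α.symm ⟨y, hy⟩ : ↥Q) : G), (α.symm ⟨y, hy⟩).2, ?_⟩
        show g * ((α.symm ⟨y, hy⟩ : ↥Q) : G) * g⁻¹ = y
        rw [← hg' (α.symm ⟨y, hy⟩), MulEquiv.apply_symm_apply]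
    have hfix : cjPair g (⟨Q, f⟩ : BrauerPairIdx G) = ⟨Q, f⟩ :=
      subpair_unique_sigma hM hPe hQg hle₀g hle
    have hgT : g ∈ T := (hT g).2 ((stab_mem_iff_cjPair g).2 hfix)
    refine ⟨⟨g, hgT⟩, ?_⟩
    ext q
    rw [conjAutHom_coe]
    exact (hg' q).symm
  · rintro _ ⟨t, rfl⟩
    apply Subgroup.subset_closure
    show Q.subtype.comp (conjAutHom Q T hTN t).toMonoidHom ∈ F.Hom Q
    rw [hF.2]
    have hfix : cjPair (t : G) (⟨Q, f⟩ : BrauerPairIdx G) = ⟨Q, f⟩ :=
      (stab_mem_iff_cjPair (t : G)).1 ((hT t).1 t.2)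
    have hle_t : Relation.ReflTransGen (NormalSubpairRel p M)
        (cjPair (t : G) (⟨Q, f⟩ : BrauerPairIdx G)) ⟨P, e⟩ := by
      rw [hfix]
      exact hle
    exact ⟨hQP, (t : G), fun u => rfl, Cfsg.Agent.helper1.subpairLE_le hle_t, f, hle, hle_t⟩

set_option maxHeartbeats 1600000 in
/-- a pair whose normalizer in `P` is a defect group of the block of its stabilizer is fully
automized -/
theorem blockFusion_fullyAutomized (hM : IsPModular p M) (B : Set (IrrCharacter G))
    {P Q T : Subgroup G}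
    {e : Set (IrrCharacter (Subgroup.centralizer (P : Set G)))}
    {f : Set (IrrCharacter (Subgroup.centralizer (Q : Set G)))}
    (hmax : IsMaximalBrauerPair p M B P e)
    (F : FusionSystem P) (hF : IsBlockFusionSystemOn p M B P e F)
    (hf : IsPBlock M f) (hle : SubpairLE p M Q f P e)
    (hT : ∀ y : G, y ∈ T ↔ y ∈ Subgroup.normalizer (Q : Set G) ∧
      StabilizesBlock (Subgroup.centralizer (Q : Set G)) f y)
    (F₁ : Set (IrrCharacter ↥T)) (hF₁ : IsPBlock M F₁)
    (hcoef : ∀ t : ↥T, blockCoeff F₁ t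
      = subgroupBlockCoeff (Subgroup.centralizer (Q : Set G)) f (t : G))
    (hdef : IsDefectGroup p M F₁ ((P ⊓ Subgroup.normalizer (Q : Set G)).subgroupOf T)) :
    F.IsFullyAutomized p Q := by
  classical
  have hPe : IsBrauerPair p M P e := hmax.1.1
  have hQP : Q ≤ P := Cfsg.Agent.helper1.subpairLE_le hle
  have hQ : IsPGroup p Q := hPe.1.to_le hQP
  obtain ⟨hQT, hTN, hCT, hst⟩ := stab_basic hT
  obtain ⟨-, -, -, hRT, -⟩ := stab_main_A hM hPe hQP hf hle hT
  have := Fintype.ofFinite ↥T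
  obtain ⟨hidx, -⟩ := stab_fong hM hQ hQT hTN hCT f hf hst F₁ hF₁ hcoef _ hdef
  refine ⟨hQP, ?_⟩
  obtain ⟨κ, hκ⟩ : ∃ κ : ↥T →* MulAut ↥Q, κ = conjAutHom Q T hTN := ⟨_, rfl⟩
  have hA : F.autGroup Q = κ.range := by
    rw [hκ]
    exact autGroup_eq_range hM B hmax F hF hle hT hTN
  have hI : autInducedBy P Q
      = ((P ⊓ Subgroup.normalizer (Q : Set G)).subgroupOf T).map κ := by
    rw [hκ]
    exact autInducedBy_eq_map hTN hRT
  have hker : κ.ker = Subgroup.centralizer ((Q.subgroupOf T : Subgroup ↥T) : Set ↥T) := by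
    rw [hκ]
    exact conjAutHom_ker Q T hQT hTN
  have hpg : IsPGroup p ((autInducedBy P Q).subgroupOf (F.autGroup Q)) := by
    rw [hI]
    have h1 : IsPGroup p ((P ⊓ Subgroup.normalizer (Q : Set G)).subgroupOf T) :=
      (hPe.1.to_le inf_le_left).comap_subtype
    exact (h1.map κ).comap_subtype
  have hindex : ¬ p ∣ ((autInducedBy P Q).subgroupOf (F.autGroup Q)).index := by
    have h1 : ((autInducedBy P Q).subgroupOf (F.autGroup Q)).index
        = (autInducedBy P Q).relIndex (F.autGroup Q) := rfl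
    rw [h1, hI, hA, MonoidHom.range_eq_map, Subgroup.relIndex_map_map, hker, top_sup_eq,
      Subgroup.relIndex_top_right]
    exact hidx
  exact ⟨hpg.toSylow hindex, rfl⟩

end FA27

end Cfsg.Agent.helper24
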