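import Mathlib
import Cfsg.Agent.Lib_helper24_BPair27

/-!
Brauer pairs (helper24), part 28: a pair with maximal normalizer is receptive; saturation of the
fusion system of a block.
-/

set_option autoImplicit false

namespace Cfsg.Agent.helper24

open Cfsg Cfsg.Agent.helper5 Cfsg.Agent.helper8
open scoped ComplexConjugate

universe u

section RC28a

variable {G : Type u} [Group G]

/-- group theoretic properties of the extender of a conjugation map -/
theorem extender_props {P Q R : Subgroup G} {φ : ↥R →* G} {g : G}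
    (hg : ∀ u : ↥R, φ u = g * (u : G) * g⁻¹) (hRP : R ≤ P) (hQP : Q ≤ P)
    (hRg : R.map (MulAut.conj g).toMonoidHom = Q) :
    R ≤ FusionSystem.extender P R φ ∧
      FusionSystem.extender P R φ ≤ P ⊓ Subgroup.normalizer (R : Set G) ∧
      (FusionSystem.extender P R φ).map (MulAut.conj g).toMonoidHom
        ≤ (P ⊓ Subgroup.normalizer (Q : Set G)) ⊔ Subgroup.centralizer (Q : Set G) := by
  refine ⟨?_, ?_, ?_⟩
  · intro y hy
    apply Subgroup.subset_closure
    refine ⟨hRP hy, Subgroup.le_normalizer hy, φ ⟨y, hy⟩, ?_, ?_⟩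
    · rw [hg]
      apply hQP
      rw [← hRg]
      exact ⟨y, hy, rfl⟩
    · intro x hx
      have e1 : (⟨y * (x : G) * y⁻¹, hx⟩ : ↥R) = ⟨y, hy⟩ * x * (⟨y, hy⟩ : ↥R)⁻¹ := rfl
      rw [e1, map_mul, map_mul, map_inv]
  · unfold FusionSystem.extender
    rw [Subgroup.closure_le]
    rintro y ⟨hyP, hyN, -⟩
    exact ⟨hyP, hyN⟩
  · rw [Subgroup.map_le_iff_le_comap]
    unfold FusionSystem.extender
    rw [Subgroup.closure_le]
    rintro y ⟨hyP, hyN, h, hhP, hh⟩
    show g * y * g⁻¹ ∈ (P ⊓ Subgroup.normalizer (Q : Set G)) ⊔ Subgroup.centralizer (Q : Set G)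
    have hc : h⁻¹ * (g * y * g⁻¹) ∈ Subgroup.centralizer (Q : Set G) := by
      rw [Subgroup.mem_centralizer_iff]
      intro q hq
      rw [← hRg] at hq
      obtain ⟨x, hx, rfl⟩ := hq
      have hyx : y * x * y⁻¹ ∈ R := (Subgroup.mem_normalizer_iff.1 hyN x).1 hx
      have h1 := hh ⟨x, hx⟩ hyx
      rw [hg, hg] at h1
      have h1' : g * (y * x * y⁻¹) * g⁻¹ = h * (g * x * g⁻¹) * h⁻¹ := h1
      show g * x * g⁻¹ * (h⁻¹ * (g * y * g⁻¹)) = h⁻¹ * (g * y * g⁻¹) * (g * x * g⁻¹)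
      have e1 : h⁻¹ * (g * y * g⁻¹) * (g * x * g⁻¹)
          = h⁻¹ * (g * (y * x * y⁻¹) * g⁻¹) * (g * y * g⁻¹) := by group
      rw [e1, h1']
      group
    have hgyN : g * y * g⁻¹ ∈ Subgroup.normalizer (Q : Set G) := by
      rw [← hRg]
      exact Subgroup.le_normalizer_map _ ⟨y, hyN, rfl⟩
    have hhN : h ∈ Subgroup.normalizer (Q : Set G) := by
      have e2 : h = (g * y * g⁻¹) * (h⁻¹ * (g * y * g⁻¹))⁻¹ := by group
      rw [e2]
      exact mul_mem hgyN (inv_mem (Subgroup.centralizer_le_normalizer _ hc))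
    have e3 : g * y * g⁻¹ = h * (h⁻¹ * (g * y * g⁻¹)) := by group
    rw [e3]
    exact Subgroup.mul_mem_sup ⟨hhP, hhN⟩ hc

end RC28a

section RC28

variable {G : Type u} [Group G] [Fintype G] {M : Ideal AlgInt} {p : ℕ} [Fact p.Prime]

set_option maxHeartbeats 3200000 in
/-- a pair whose normalizer in `P` is a defect group of the block of its stabilizer is
receptive -/
theorem blockFusion_receptive (hM : IsPModular p M) (B : Set (IrrCharacter G))
    {P Q T : Subgroup G}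
    {e : Set (IrrCharacter (Subgroup.centralizer (P : Set G)))}
    {f : Set (IrrCharacter (Subgroup.centralizer (Q : Set G)))}
    (hmax : IsMaximalBrauerPair p M B P e)
    (F : FusionSystem P) (hF : IsBlockFusionSystemOn p M B P e F)
    (hf : IsPBlock M f) (hle : SubpairLE p M Q f P e)
    (hT : ∀ y : G, y ∈ T ↔ y ∈ Subgroup.normalizer (Q : Set G) ∧
      StabilizesBlock (Subgroup.centralizer (Q : Set G)) f y)
    (F₁ : Set (IrrCharacter ↥T)) (hF₁ : IsPBlock M F₁)
    (hcoef : ∀ t : ↥T, blockCoeff F₁ t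
      = subgroupBlockCoeff (Subgroup.centralizer (Q : Set G)) f (t : G))
    (hdef : IsDefectGroup p M F₁ ((P ⊓ Subgroup.normalizer (Q : Set G)).subgroupOf T)) :
    F.IsReceptive Q := by
  classical
  have hPe : IsBrauerPair p M P e := hmax.1.1
  have hQP : Q ≤ P := Cfsg.Agent.helper1.subpairLE_le hle
  have hQ : IsPGroup p Q := hPe.1.to_le hQP
  obtain ⟨hQT, hTN, hCT, hst⟩ := stab_basic hT
  obtain ⟨-, -, -, hRT, -⟩ := stab_main_A hM hPe hQP hf hle hT
  have := Fintype.ofFinite ↥T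
  refine ⟨hQP, ?_⟩
  intro R φ hφ hrange
  obtain ⟨hRP, g, hg, hRgP, fR, hleR, hleRg⟩ := (hF.2 R φ).1 hφ
  have hRg : R.map (MulAut.conj g).toMonoidHom = Q := by
    rw [← range_eq_map_conj hg]
    exact hrange
  have hfix : cjPair g (⟨R, fR⟩ : BrauerPairIdx G) = ⟨Q, f⟩ :=
    subpair_unique_sigma hM hPe hRg hleRg hle
  obtain ⟨hRN, hNle, hNg⟩ := extender_props hg hRP hQP hRg
  obtain ⟨N, hNdef⟩ : ∃ N : Subgroup G, N = FusionSystem.extender P R φ := ⟨_, rfl⟩
  rw [← hNdef] at hRN hNle hNg ⊢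
  have hNP : N ≤ P := hNle.trans inf_le_left
  obtain ⟨eN, hnN, hleN⟩ := normalSubpair_of_mid hM hPe hleR hRN hNP (hNle.trans inf_le_right)
  have hnNg := normalSubpair_conj hnN g
  have hnNg' : ∀ a : BrauerPairIdx G, a = cjPair g (⟨R, fR⟩ : BrauerPairIdx G) →
      IsNormalSubpair p M a.1 a.2 (N.map (MulAut.conj g).toMonoidHom) (conjBlock N g eN) := by
    intro a ha
    rw [ha]
    exact hnNg
  have h₁ : IsNormalSubpair p M Q f (N.map (MulAut.conj g).toMonoidHom) (conjBlock N g eN) :=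
    hnNg' ⟨Q, f⟩ hfix.symm
  obtain ⟨D, hD⟩ : ∃ D : Subgroup G, D = P ⊓ Subgroup.normalizer (Q : Set G) := ⟨_, rfl⟩
  have hQD : Q ≤ D := by
    rw [hD]
    exact le_inf hQP Subgroup.le_normalizer
  have hDP : D ≤ P := by
    rw [hD]
    exact inf_le_left
  have hDN : D ≤ Subgroup.normalizer (Q : Set G) := by
    rw [hD]
    exact inf_le_right
  obtain ⟨eD, h₂, hleD⟩ := normalSubpair_of_mid hM hPe hle hQD hDP hDN
  obtain ⟨L, hL⟩ : ∃ L : Subgroup G, L = D ⊔ Subgroup.centralizer (Q : Set G) := ⟨_, rfl⟩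
  have hDT : D ≤ T := by
    rw [hD]
    exact hRT
  have hLT : L ≤ T := by
    rw [hL]
    exact sup_le hDT hCT
  have hDL : D ≤ L := by
    rw [hL]
    exact le_sup_left
  have hQL : Q ≤ L := hQD.trans hDL
  have hLN : L ≤ Subgroup.normalizer (Q : Set G) := hLT.trans hTN
  have hCL : Subgroup.centralizer (Q : Set G) ≤ L := by
    rw [hL]
    exact le_sup_right
  have hstL : ∀ t ∈ L, StabilizesBlock (Subgroup.centralizer (Q : Set G)) f t :=
    fun t ht => hst t (hLT ht)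
  have hNgL : N.map (MulAut.conj g).toMonoidHom ≤ L := by
    rw [hL, hD]
    exact hNg
  have hcard : ∀ (S : Subgroup G) (gS : Set (IrrCharacter ↥(Subgroup.centralizer (S : Set G)))),
      IsNormalSubpair p M Q f S gS → S ≤ L → Nat.card S ≤ Nat.card D := by
    intro S gS hnS hSL
    have hST : S ≤ T := hSL.trans hLT
    have hCS : Subgroup.centralizer (S : Set G) ≤ T :=
      (Subgroup.centralizer_le hnS.2.2.1).trans hCT
    obtain ⟨a, ha⟩ : ∃ a : BrauerPairIdx ↥T, a = liftPair T hST hCS gS := ⟨_, rfl⟩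
    have hdn : dnPair T a = ⟨S, gS⟩ := by
      rw [ha]
      exact dnPair_liftPair T hST hCS gS
    have ha1 : a.1 = S.subgroupOf T := by
      rw [ha]
      rfl
    have hQa : Q.subgroupOf T ≤ a.1 := by
      rw [ha1]
      intro x hx
      exact Subgroup.mem_subgroupOf.2 (hnS.2.2.1 (Subgroup.mem_subgroupOf.1 hx))
    have hbp : IsBrauerPair p M a.1 a.2 := by
      rw [ha]
      exact ⟨hnS.2.1.1.comap_subtype, isPBlock_transportSet _ _ hnS.2.1.2⟩
    have hpair : IsBrauerPairOf p M F₁ a.1 a.2 := by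
      apply pairOf_of_normalSubpair_dn hQT hCT f F₁ hF₁ hcoef a hQa hbp
      rw [hdn]
      exact hnS
    obtain ⟨P₁, e₁, hmax₁, hle₁⟩ := exists_maximal_above F₁ hpair
    have hS1 : a.1 ≤ P₁ := Cfsg.Agent.helper1.subpairLE_le hle₁
    have h1 := card_defectGroup p M hM F₁ hF₁ _ (maximal_pair_defectGroup p hM F₁ _ _ hmax₁)
    have h2 := card_defectGroup p M hM F₁ hF₁ _ hdef
    have h3 : Nat.card ↥a.1 = Nat.card S := by
      rw [ha1]
      exact card_subgroupOf_eq_of_le24 hST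
    have h4 : Nat.card ↥((P ⊓ Subgroup.normalizer (Q : Set G)).subgroupOf T) = Nat.card D := by
      rw [hD]
      exact card_subgroupOf_eq_of_le24 hRT
    rw [← h3, ← h4, h2, ← h1]
    exact Subgroup.card_le_of_le hS1
  obtain ⟨c, hcL, hc⟩ := relative_sylow hM hQ hQL hLN hCL f hf hstL h₁ h₂ hNgL hDL hcard
  -- decompose `c`
  have hDNC : D ≤ Subgroup.normalizer
      ((Subgroup.centralizer (Q : Set G) : Subgroup G) : Set G) :=
    fun d hd => Cfsg.Agent.helper1.normalizer_le_normalizer_centralizer Q (hDN hd)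
  have hcmem : c ∈ ((D ⊔ Subgroup.centralizer (Q : Set G) : Subgroup G) : Set G) := by
    rw [← hL]
    exact hcL
  rw [Subgroup.coe_mul_of_left_le_normalizer_right D _ hDNC] at hcmem
  obtain ⟨d, hd, c₀, hc₀, hdc⟩ := hcmem
  have hd' : d ∈ D := hd
  have hc₀' : c₀ ∈ Subgroup.centralizer (Q : Set G) := hc₀
  have hchain : Relation.ReflTransGen (NormalSubpairRel p M)
      (cjPair c (cjPair g (⟨N, eN⟩ : BrauerPairIdx G))) ⟨D, eD⟩ := hc
  rw [cjPair_mul] at hchain
  have hchain2 := subpairLE_conj hchain d⁻¹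
  rw [cjPair_self_of_mem eD (D.inv_mem hd'), cjPair_mul] at hchain2
  have e4 : d⁻¹ * (c * g) = c₀ * g := by
    have hdc' : d * c₀ = c := hdc
    rw [← hdc']
    group
  rw [e4] at hchain2
  have hchain3 : Relation.ReflTransGen (NormalSubpairRel p M)
      (cjPair (c₀ * g) (⟨N, eN⟩ : BrauerPairIdx G)) ⟨P, e⟩ :=
    Relation.ReflTransGen.trans hchain2 hleD
  refine ⟨conjHom N (c₀ * g), ?_, ?_⟩
  · rw [hF.2]
    exact ⟨hNP, c₀ * g, fun u => rfl, Cfsg.Agent.helper1.subpairLE_le hchain3, eN, hleN, hchain3⟩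
  · intro x hxR hxN
    show c₀ * g * x * (c₀ * g)⁻¹ = φ ⟨x, hxR⟩
    rw [hg]
    show c₀ * g * x * (c₀ * g)⁻¹ = g * x * g⁻¹
    have hq : g * x * g⁻¹ ∈ Q := by
      rw [← hRg]
      exact ⟨x, hxR, rfl⟩
    have h5 : g * x * g⁻¹ * c₀ = c₀ * (g * x * g⁻¹) :=
      Subgroup.mem_centralizer_iff.1 hc₀' _ hq
    have e5 : c₀ * g * x * (c₀ * g)⁻¹ = c₀ * (g * x * g⁻¹) * c₀⁻¹ := by group
    rw [e5, ← h5]
    group

end RC28

end Cfsg.Agent.helper24
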