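import Mathlib
import Cfsg.Agent.Lib_helper24_BPair28

/-!
Brauer pairs (helper24), part 29: the fusion system of a block is saturated.
-/

set_option autoImplicit false

namespace Cfsg.Agent.helper24

open Cfsg Cfsg.Agent.helper5 Cfsg.Agent.helper8
open scoped ComplexConjugate

universe u

section Sat29

variable {G : Type u} [Group G] [Fintype G] {M : Ideal AlgInt} {p : ℕ} [Fact p.Prime]

set_option maxHeartbeats 1600000 in
/-- the fusion system of a block on a maximal Brauer pair is saturated -/
theorem blockFusion_saturated (hM : IsPModular p M) (B : Set (IrrCharacter G))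
    {P : Subgroup G} {e : Set (IrrCharacter (Subgroup.centralizer (P : Set G)))}
    (hmax : IsMaximalBrauerPair p M B P e)
    (F : FusionSystem P) (hF : IsBlockFusionSystemOn p M B P e F) : F.IsSaturated p := by
  classical
  have hPe : IsBrauerPair p M P e := hmax.1.1
  intro Q hQP
  have hQ : IsPGroup p Q := hPe.1.to_le hQP
  obtain ⟨f, hf, hle⟩ := exists_subpair hM P e hPe _ Q hQP le_rfl
  obtain ⟨x, hle_x, hx⟩ := stab_main_B hM B hmax hQP hf hle (mem_stabSubgroup Q f)
  obtain ⟨F', hF', hcoef', hdef'⟩ := hx (stabSubgroup (Q.map (MulAut.conj x).toMonoidHom)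
    (conjBlock Q x f)) (mem_stabSubgroup _ _)
  have hfx : IsPBlock M (conjBlock Q x f) := (brauerPair_conj (p := p) ⟨hQ, hf⟩ x).2
  refine ⟨Q.map (MulAut.conj x).toMonoidHom, ?_, ?_, ?_⟩
  · rw [blockFusion_isConj_iff hM F hF hle]
    exact ⟨x, rfl, hle_x⟩
  · exact blockFusion_fullyAutomized hM B hmax F hF hfx hle_x (mem_stabSubgroup _ _) F' hF'
      hcoef' hdef'
  · exact blockFusion_receptive hM B hmax F hF hfx hle_x (mem_stabSubgroup _ _) F' hF'
      hcoef' hdef'

/-- the fusion system of a block exists and is saturated -/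
theorem exists_blockFusionSystem_saturated (hM : IsPModular p M) (B : Set (IrrCharacter G))
    {P : Subgroup G} {e : Set (IrrCharacter (Subgroup.centralizer (P : Set G)))}
    (hmax : IsMaximalBrauerPair p M B P e) :
    ∃ F : FusionSystem P, IsBlockFusionSystemOn p M B P e F ∧ F.IsSaturated p := by
  obtain ⟨F, hF⟩ := exists_blockFusionSystem hM B hmax
  exact ⟨F, hF, blockFusion_saturated hM B hmax F hF⟩

end Sat29

end Cfsg.Agent.helper24
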