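import Cfsg.Agent.Lib_helper25_Alperin

set_option autoImplicit false
set_option linter.style.haveILetI false
set_option linter.unusedVariables false

namespace Cfsg.Agent.helper25

open Cfsg Cfsg.FusionSystem

variable {Ω : Type*} [Group Ω] {S : Subgroup Ω}

theorem inn_le_autInducedBy {R : Subgroup Ω} (hRS : R ≤ S) : Inn R ≤ autInducedBy S R := by
  rintro _ ⟨r, rfl⟩
  rw [mem_autInducedBy_iff]
  exact ⟨r, hRS r.2, fun x => rfl⟩

theorem normAut_mem_inn {R : Subgroup Ω} {g : Ω} (hg : g ∈ R)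
    (hgN : g ∈ Subgroup.normalizer (R : Set Ω)) : normAut R g hgN ∈ Inn R :=
  ⟨⟨g, hg⟩, by ext x; rfl⟩

theorem autGroup_le_of_not_centric [Finite S] {p : ℕ} [Fact p.Prime] (hS : IsPGroup p S)
    (F : FusionSystem S) (hF : F.IsSaturated p) (E : FusionSystem S) {R : Subgroup Ω}
    (hRfc : F.IsFullyCentralized R) (hRrec : F.IsReceptive R) (hnc : ¬ F.IsCentric R)
    (IH : ∀ P' : Subgroup Ω, P' ≤ S → Nat.card R < Nat.card P' → F.Hom P' ⊆ E.Hom P') :
    F.autGroup R ≤ E.autGroup R := by
  have hnle : ¬ centralizerIn S R ≤ R :=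
    fun h => hnc (Cfsg.Agent.S5104.result p hS F hF R hRfc h)
  obtain ⟨c, hc, hcR⟩ := SetLike.not_le_iff_exists.mp hnle
  intro α hα
  refine aut_mem_of_extender F E hRrec IH hα ?_ hcR
  apply Subgroup.subset_closure
  have hcc : c ∈ Subgroup.centralizer (R : Set Ω) := hc.2
  refine ⟨hc.1, Subgroup.centralizer_le_normalizer _ hcc, 1, S.one_mem, ?_⟩
  intro x hx
  have hx' : c * (x : Ω) * c⁻¹ = x := by
    have := hcc x x.2
    rw [← this]; group
  have e : (⟨c * (x : Ω) * c⁻¹, hx⟩ : R) = x := Subtype.ext hx'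
  rw [e]; simp

theorem autGroup_le_of_not_essential [Finite S] {p : ℕ} [Fact p.Prime] (hS : IsPGroup p S)
    (F E : FusionSystem S) {R : Subgroup Ω} (hRlt : R < S) (hRc : F.IsCentric R)
    (hRn : F.IsFullyNormalized R) (hRfa : F.IsFullyAutomized p R) (hRrec : F.IsReceptive R)
    (hness : ¬ F.IsEssential p R)
    (IH : ∀ P' : Subgroup Ω, P' ≤ S → Nat.card R < Nat.card P' → F.Hom P' ⊆ E.Hom P') :
    F.autGroup R ≤ E.autGroup R := by
  have hRS : R ≤ S := hRlt.le
  haveI : Finite R := finite_of_le S hRS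
  have hInnS : Inn R ≤ autInducedBy S R := inn_le_autInducedBy hRS
  have hSF : autInducedBy S R ≤ F.autGroup R := autInducedBy_le_autGroup F hRS
  have hSE : autInducedBy S R ≤ E.autGroup R := autInducedBy_le_autGroup E hRS
  have hno : ∀ Y : Subgroup (↥(F.autGroup R) ⧸ (Inn R).subgroupOf (F.autGroup R)),
      ¬ IsStronglyPEmbedded p Y := fun Y hY => hness ⟨hRc, hRn, inferInstance, Y, hY⟩
  have hsurj : Function.Surjective (QuotientGroup.mk' ((Inn R).subgroupOf (F.autGroup R))) :=
    QuotientGroup.mk'_surjective _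
  obtain ⟨R₀, hR₀⟩ := hRfa.2
  have hTbar : (R₀.mapSurjective hsurj).toSubgroup =
      ((autInducedBy S R).subgroupOf (F.autGroup R)).map
        (QuotientGroup.mk' ((Inn R).subgroupOf (F.autGroup R))) := by
    rw [Sylow.coe_mapSurjective, hR₀]
  have hIT : (Inn R).subgroupOf (F.autGroup R) ≤ (autInducedBy S R).subgroupOf (F.autGroup R) :=
    fun a ha => Subgroup.mem_subgroupOf.mpr (hInnS (Subgroup.mem_subgroupOf.mp ha))
  have hTmem : ∀ a : F.autGroup R,
      (QuotientGroup.mk' ((Inn R).subgroupOf (F.autGroup R))) a ∈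
        ((autInducedBy S R).subgroupOf (F.autGroup R)).map
          (QuotientGroup.mk' ((Inn R).subgroupOf (F.autGroup R))) →
      a ∈ (autInducedBy S R).subgroupOf (F.autGroup R) := by
    intro a ha
    have h1 : a ∈ (((autInducedBy S R).subgroupOf (F.autGroup R)).map
          (QuotientGroup.mk' ((Inn R).subgroupOf (F.autGroup R)))).comap
          (QuotientGroup.mk' ((Inn R).subgroupOf (F.autGroup R))) := Subgroup.mem_comap.mpr ha
    rw [Subgroup.comap_map_eq, QuotientGroup.ker_mk', sup_eq_left.mpr hIT] at h1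
    exact h1
  by_cases hp : p ∣ Nat.card (↥(F.autGroup R) ⧸ (Inn R).subgroupOf (F.autGroup R))
  · have hY := hno (kGeneratedCore p 1 (R₀.mapSurjective hsurj).toSubgroup)
    have htop : kGeneratedCore p 1 (R₀.mapSurjective hsurj).toSubgroup = ⊤ := by
      by_contra hne
      exact hY ⟨hp, hne, R₀.mapSurjective hsurj, le_rfl⟩
    have hkey : kGeneratedCore p 1 (R₀.mapSurjective hsurj).toSubgroup ≤
        ((E.autGroup R).subgroupOf (F.autGroup R)).map
          (QuotientGroup.mk' ((Inn R).subgroupOf (F.autGroup R))) := by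
      unfold kGeneratedCore
      apply iSup_le
      rintro ⟨Qb, hQbT, hQbr⟩
      intro yb hyb
      obtain ⟨y, rfl⟩ := hsurj yb
      refine ⟨y, Subgroup.mem_subgroupOf.mpr ?_, rfl⟩
      have hQne : Qb ≠ ⊥ := by
        rintro rfl
        apply hQbr
        intro A _ _
        haveI : Subsingleton (⊥ : Subgroup (↥(F.autGroup R) ⧸
          (Inn R).subgroupOf (F.autGroup R))) := inferInstance
        haveI : Subsingleton A := inferInstance
        rw [Nat.card_unique]
        exact Nat.one_le_pow _ _ (Fact.out : p.Prime).pos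
      obtain ⟨⟨bb, hbb⟩, hbb1⟩ := Subgroup.ne_bot_iff_exists_ne_one.mp hQne
      have hbb1' : bb ≠ 1 := fun h => hbb1 (Subtype.ext h)
      have hbbT := hQbT hbb
      rw [hTbar] at hbbT
      obtain ⟨b, hbT, hb⟩ := hbbT
      have hbI : b ∉ (Inn R).subgroupOf (F.autGroup R) := by
        intro h
        apply hbb1'
        rw [← hb]
        exact (QuotientGroup.eq_one_iff b).mpr h
      obtain ⟨g, hg, hbg⟩ := (mem_autInducedBy_iff' S R _).mp (Subgroup.mem_subgroupOf.mp hbT)
      have hgR : g ∉ R := by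
        intro hgR
        apply hbI
        rw [Subgroup.mem_subgroupOf, hbg]
        exact normAut_mem_inn hgR hg.2
      have h1 : (QuotientGroup.mk' ((Inn R).subgroupOf (F.autGroup R))) y * bb *
          ((QuotientGroup.mk' ((Inn R).subgroupOf (F.autGroup R))) y)⁻¹ ∈ Qb :=
        (Subgroup.mem_normalizer_iff.mp hyb bb).mp hbb
      have h2 : (QuotientGroup.mk' ((Inn R).subgroupOf (F.autGroup R))) (y * b * y⁻¹) ∈
          ((autInducedBy S R).subgroupOf (F.autGroup R)).map
            (QuotientGroup.mk' ((Inn R).subgroupOf (F.autGroup R))) := by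
        rw [map_mul, map_mul, map_inv, hb, ← hTbar]
        exact hQbT h1
      have h3 := Subgroup.mem_subgroupOf.mp (hTmem _ h2)
      have h4 : (y : MulAut R) * normAut R g hg.2 * (y : MulAut R)⁻¹ ∈ autInducedBy S R := by
        rw [← hbg]; exact h3
      exact aut_mem_of_extender F E hRrec IH y.2 (mem_extender_of_aut (y : MulAut R) hg h4) hgR
    intro a ha
    have h1 : (QuotientGroup.mk' ((Inn R).subgroupOf (F.autGroup R))) ⟨a, ha⟩ ∈
        ((E.autGroup R).subgroupOf (F.autGroup R)).map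
          (QuotientGroup.mk' ((Inn R).subgroupOf (F.autGroup R))) := by
      rw [htop] at hkey; exact hkey (Subgroup.mem_top _)
    obtain ⟨a', ha', hπ⟩ := h1
    have h2 : a'⁻¹ * ⟨a, ha⟩ ∈ (Inn R).subgroupOf (F.autGroup R) := by
      rw [← QuotientGroup.eq_one_iff, QuotientGroup.mk_mul, QuotientGroup.mk_inv]
      have hπ' : ((a' : F.autGroup R) : ↥(F.autGroup R) ⧸ (Inn R).subgroupOf (F.autGroup R)) =
          ((⟨a, ha⟩ : F.autGroup R) : ↥(F.autGroup R) ⧸ (Inn R).subgroupOf (F.autGroup R)) := hπ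
      rw [hπ']; group
    have h3 : ((a'⁻¹ * ⟨a, ha⟩ : F.autGroup R) : MulAut R) ∈ E.autGroup R :=
      hSE (hInnS (Subgroup.mem_subgroupOf.mp h2))
    have h4 : (a' : MulAut R) ∈ E.autGroup R := Subgroup.mem_subgroupOf.mp ha'
    have h5 : a = (a' : MulAut R) * ((a'⁻¹ * ⟨a, ha⟩ : F.autGroup R) : MulAut R) := by
      show a = (a' : MulAut R) * ((a' : MulAut R)⁻¹ * a)
      group
    rw [h5]; exact mul_mem h4 h3
  · exfalso
    have hfact : (Nat.card (↥(F.autGroup R) ⧸ (Inn R).subgroupOf (F.autGroup R))).factorization p = 0 :=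
      Nat.factorization_eq_zero_of_not_dvd hp
    have hcard : Nat.card (R₀.mapSurjective hsurj).toSubgroup = 1 := by
      rw [Sylow.card_eq_multiplicity, hfact, pow_zero]
    have hbot := Subgroup.eq_bot_of_card_eq _ hcard
    rw [hTbar] at hbot
    have hTI : (autInducedBy S R).subgroupOf (F.autGroup R) ≤ (Inn R).subgroupOf (F.autGroup R) := by
      intro a ha
      have h1 : (QuotientGroup.mk' ((Inn R).subgroupOf (F.autGroup R))) a ∈
          ((autInducedBy S R).subgroupOf (F.autGroup R)).map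
            (QuotientGroup.mk' ((Inn R).subgroupOf (F.autGroup R))) := ⟨a, ha, rfl⟩
      rw [hbot, Subgroup.mem_bot] at h1
      exact (QuotientGroup.eq_one_iff a).mp h1
    have hle : normalizerIn S R ≤ R := by
      intro g hg
      have h1 : normAut R g hg.2 ∈ autInducedBy S R := normAut_mem S R hg
      have h2 : (⟨normAut R g hg.2, hSF h1⟩ : F.autGroup R) ∈ (Inn R).subgroupOf (F.autGroup R) :=
        hTI (Subgroup.mem_subgroupOf.mpr h1)
      obtain ⟨r, hr⟩ := Subgroup.mem_subgroupOf.mp h2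
      have hc : (r : Ω)⁻¹ * g ∈ centralizerIn S R := by
        refine ⟨S.mul_mem (S.inv_mem (hRS r.2)) hg.1, Subgroup.mem_centralizer_iff.mpr ?_⟩
        intro x hx
        have h3 := congrArg (fun f : MulAut R => ((f ⟨x, hx⟩ : R) : Ω)) hr
        have h3' : (r : Ω) * x * (r : Ω)⁻¹ = g * x * g⁻¹ := h3
        have h6 : x = (r : Ω)⁻¹ * (g * x * g⁻¹) * r := by rw [← h3']; group
        calc x * ((r : Ω)⁻¹ * g) = ((r : Ω)⁻¹ * (g * x * g⁻¹) * r) * ((r : Ω)⁻¹ * g) := by
              rw [← h6]
          _ = (r : Ω)⁻¹ * g * x := by group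
      have h4 := hRc.2 R (isConj_refl F hRS) hc
      have h7 : g = (r : Ω) * ((r : Ω)⁻¹ * g) := by group
      rw [h7]; exact R.mul_mem r.2 h4
    exact (lt_normalizerIn hS hRlt).not_ge hle

/-- Alperin–Goldschmidt fusion theorem. -/
theorem alperin_aux [Finite S] {p : ℕ} [Fact p.Prime] (hS : IsPGroup p S) (F : FusionSystem S)
    (hF : F.IsSaturated p) (E : FusionSystem S)
    (hE : ∀ P : Subgroup Ω, (P = S ∨ F.IsEssential p P) → F.autGroup P ≤ E.autGroup P) :
    ∀ (n : ℕ) (P : Subgroup Ω), P ≤ S → Nat.card S - Nat.card P = n → F.Hom P ⊆ E.Hom P := by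
  intro n
  induction n using Nat.strong_induction_on with
  | _ n ih =>
    intro P hPS hn
    have IHbig : ∀ P' : Subgroup Ω, P' ≤ S → Nat.card P < Nat.card P' → F.Hom P' ⊆ E.Hom P' := by
      intro P' hP' hc
      have hle : Nat.card P' ≤ Nat.card S := Subgroup.card_le_of_le hP'
      exact ih (Nat.card S - Nat.card P') (by omega) P' hP' rfl
    by_cases hPeq : P = S
    · rw [hPeq]; exact hom_top_subset F E (hE S (Or.inl rfl))
    · have hPlt : P < S := lt_of_le_of_ne hPS hPeq
      apply hom_subset_of_aut hS F hF E hPlt IHbig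
      intro R hR hcardR
      have hRS : R ≤ S := hR.1
      have hRlt : R < S := by
        refine lt_of_le_of_ne hRS ?_
        intro h
        have h1 : Nat.card P < Nat.card S := card_lt_of_lt' hPlt
        rw [← hcardR, h] at h1
        exact lt_irrefl _ h1
      have IHR : ∀ P' : Subgroup Ω, P' ≤ S → Nat.card R < Nat.card P' → F.Hom P' ⊆ E.Hom P' := by
        intro P' hP' hc
        exact IHbig P' hP' (hcardR ▸ hc)
      obtain ⟨hRfc, hRfa⟩ := fullyNormalized_imp hS F hF hR
      have hRrec := receptive_of_fullyCentralized hS F hF hRfc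
      by_cases hess : F.IsEssential p R
      · exact hE R (Or.inr hess)
      · by_cases hcen : F.IsCentric R
        · exact autGroup_le_of_not_essential hS F E hRlt hcen hR hRfa hRrec hess IHR
        · exact autGroup_le_of_not_centric hS F hF E hRfc hRrec hcen IHR

theorem alperin [Finite S] {p : ℕ} [Fact p.Prime] (hS : IsPGroup p S) (F : FusionSystem S)
    (hF : F.IsSaturated p) (E : FusionSystem S)
    (hE : ∀ P : Subgroup Ω, (P = S ∨ F.IsEssential p P) → F.autGroup P ≤ E.autGroup P) :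
    ∀ P : Subgroup Ω, F.Hom P ⊆ E.Hom P := by
  intro P φ hφ
  exact alperin_aux hS F hF E hE _ P (F.le_of_mem hφ).1 rfl hφ

end Cfsg.Agent.helper25
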