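import Cfsg.Statements.S5083
import Cfsg.Agent.Lib_helper25_Alperin2

set_option autoImplicit false
open Cfsg

namespace Cfsg.Agent.S5083

open Cfsg.FusionSystem Cfsg.Agent.helper25

theorem fs_ext {Ω : Type*} [Group Ω] {S : Subgroup Ω} (F E : FusionSystem S)
    (h : ∀ P : Subgroup Ω, F.Hom P = E.Hom P) : F = E := by
  cases F; cases E
  congr
  funext P
  exact h P

theorem eq_of_isSylowIn_of_isPGroup {G : Type*} [Group G] [Finite G] {p : ℕ} [Fact p.Prime]
    {H K : Subgroup G} (hHK : H ≤ K) (hs : IsSylowIn p H K) (hK : IsPGroup p K) : H = K := by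
  obtain ⟨n, hn⟩ := IsPGroup.iff_card.mp hK
  have h1 := (isSylowIn_iff_card hHK).mp hs
  rw [hn, (Fact.out : p.Prime).factorization_pow] at h1
  simp only [Finsupp.single_eq_same] at h1
  apply Subgroup.eq_of_le_of_card_ge hHK
  rw [hn, h1]

/-- If F is a saturated fusion system over a finite p-group S in which Aut_F(P) is a p-group for every P ≤ S, then F is the inner fusion system of S (all its maps are conjugations by elements of S). -/
theorem result {Ω : Type*} [Group Ω] {S : Subgroup Ω} [Finite S] (p : ℕ) [Fact p.Prime] (hS : IsPGroup p S) (F : Cfsg.FusionSystem S) (hF : F.IsSaturated p) (h : ∀ P : Subgroup Ω, P ≤ S → IsPGroup p (F.autGroup P)) : F = Cfsg.innerFusionSystem S := by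
  apply fs_ext
  intro P
  apply Set.Subset.antisymm
  · apply alperin hS F hF (innerFusionSystem S)
    intro R hR
    have hRn : F.IsFullyNormalized R := by
      rcases hR with rfl | hR
      · refine ⟨le_rfl, ?_⟩
        intro Q hQ
        have hQS := isConj_le_right F hQ
        have hc := isConj_card_eq F hQ
        have : Q = R := Subgroup.eq_of_le_of_card_ge hQS hc.le
        rw [this]
      · exact hR.2.1
    have hRS : R ≤ S := hRn.1
    have hRfa := (fullyNormalized_imp hS F hF hRn).2
    haveI : Finite R := finite_of_le S hRS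
    have heq : autInducedBy S R = F.autGroup R :=
      eq_of_isSylowIn_of_isPGroup (autInducedBy_le_autGroup F hRS) hRfa.2 (h R hRS)
    rw [← heq]
    exact autInducedBy_le_autGroup (innerFusionSystem S) hRS
  · rintro φ ⟨hP, g, hg, hφ⟩
    have e : φ = conjHom P g := by ext x; exact hφ x
    rw [e]
    exact F.conj_mem hP hg

end Cfsg.Agent.S5083
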