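import Mathlib
import Cfsg.Agent.Lib_helper24_BPair29
import Cfsg.Agent.S5083

/-!
Brauer pairs (helper24), part 30: a block is nilpotent iff its fusion system is inner.
-/

set_option autoImplicit false

namespace Cfsg.Agent.helper24

open Cfsg Cfsg.Agent.helper5 Cfsg.Agent.helper8
open scoped ComplexConjugate

universe u

section Nil30

variable {G : Type u} [Group G] [Fintype G] {M : Ideal AlgInt} {p : ℕ} [Fact p.Prime]

set_option maxHeartbeats 1600000 in
/-- nilpotent blocks have `p`-groups as automizers -/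
theorem nilpotent_autGroup_isPGroup (hM : IsPModular p M) (B : Set (IrrCharacter G))
    {P : Subgroup G} {e : Set (IrrCharacter (Subgroup.centralizer (P : Set G)))}
    (hmax : IsMaximalBrauerPair p M B P e)
    (F : FusionSystem P) (hF : IsBlockFusionSystemOn p M B P e F)
    (hnil : IsNilpotentBlock p M B) (Q : Subgroup G) (hQP : Q ≤ P) :
    IsPGroup p (F.autGroup Q) := by
  classical
  have hPe : IsBrauerPair p M P e := hmax.1.1
  obtain ⟨f, hf, hle⟩ := exists_subpair hM P e hPe _ Q hQP le_rfl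
  have hQf : IsBrauerPairOf p M B Q f := (brauerPairOf_iff_of_subpairLE hM hle B).1 hmax.1
  obtain ⟨hQT, hTN, hCT, hst⟩ := stab_basic (mem_stabSubgroup Q f)
  have hA := autGroup_eq_range hM B hmax F hF hle (mem_stabSubgroup Q f) hTN
  intro a
  have ha : (a : MulAut ↥Q) ∈ (conjAutHom Q (stabSubgroup Q f) hTN).range := by
    rw [← hA]
    exact a.2
  obtain ⟨t, ht⟩ := ha
  obtain ⟨k, m, hm, hkm⟩ := Nat.exists_eq_pow_mul_and_not_dvd
    (orderOf_pos (t : G)).ne' p (Nat.Prime.ne_one Fact.out)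
  refine ⟨k, ?_⟩
  have hreg : IsPRegular p ((t : G) ^ (p ^ k)) := by
    intro hdvd
    apply hm
    have h1 : ((t : G) ^ (p ^ k)) ^ m = 1 := by
      rw [← pow_mul, ← hkm, pow_orderOf_eq_one]
    exact hdvd.trans (orderOf_dvd_of_pow_eq_one h1)
  have htk : (t : G) ^ (p ^ k) ∈ stabSubgroup Q f := (stabSubgroup Q f).pow_mem t.2 _
  have hcent : (t : G) ^ (p ^ k) ∈ Subgroup.centralizer (Q : Set G) :=
    hnil.2 Q f hQf _ (hTN htk) (hst _ htk) hreg
  have hker : t ^ (p ^ k) ∈ (conjAutHom Q (stabSubgroup Q f) hTN).ker := by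
    rw [conjAutHom_ker Q _ hQT hTN, mem_centralizer_subgroupOf_iff hQT]
    exact hcent
  have h2 : (conjAutHom Q (stabSubgroup Q f) hTN t) ^ (p ^ k) = 1 := by
    rw [← map_pow]
    exact hker
  apply Subtype.ext
  rw [Subgroup.coe_pow, ← ht, h2]
  rfl

set_option maxHeartbeats 1600000 in
/-- a block with inner fusion system is nilpotent -/
theorem nilpotent_of_inner (hM : IsPModular p M) (B : Set (IrrCharacter G))
    {P : Subgroup G} {e : Set (IrrCharacter (Subgroup.centralizer (P : Set G)))}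
    (hmax : IsMaximalBrauerPair p M B P e)
    (F : FusionSystem P) (hF : IsBlockFusionSystemOn p M B P e F)
    (hin : ∀ Q : Subgroup G, F.Hom Q = (innerFusionSystem P).Hom Q) :
    IsNilpotentBlock p M B := by
  classical
  have hPe : IsBrauerPair p M P e := hmax.1.1
  refine ⟨hmax.1.2.1, ?_⟩
  intro Q f hQf x hxN hxst hxreg
  obtain ⟨g, hleg⟩ := pair_conj_below_maximal hM B P Q e f hmax hQf
  obtain ⟨y, hy⟩ : ∃ y : G, y = g * x * g⁻¹ := ⟨_, rfl⟩
  have hyx : g⁻¹ * y * g = x := by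
    rw [hy]
    group
  obtain ⟨Q', hQ'⟩ : ∃ Q' : Subgroup G, Q' = Q.map (MulAut.conj g).toMonoidHom := ⟨_, rfl⟩
  have hystab : y ∈ Subgroup.normalizer ((Q.map (MulAut.conj g).toMonoidHom : Subgroup G) : Set G)
      ∧ StabilizesBlock (Subgroup.centralizer
        ((Q.map (MulAut.conj g).toMonoidHom : Subgroup G) : Set G)) (conjBlock Q g f) y := by
    rw [stab_conj_mem_iff, hyx]
    exact ⟨hxN, hxst⟩
  have hfix : cjPair y (⟨Q.map (MulAut.conj g).toMonoidHom, conjBlock Q g f⟩ : BrauerPairIdx G)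
      = ⟨Q.map (MulAut.conj g).toMonoidHom, conjBlock Q g f⟩ :=
    (stab_mem_iff_cjPair y).1 hystab
  have hmemF : conjHom (Q.map (MulAut.conj g).toMonoidHom) y
      ∈ F.Hom (Q.map (MulAut.conj g).toMonoidHom) := by
    rw [hF.2]
    have hle_y : Relation.ReflTransGen (NormalSubpairRel p M)
        (cjPair y (⟨Q.map (MulAut.conj g).toMonoidHom, conjBlock Q g f⟩ : BrauerPairIdx G))
        ⟨P, e⟩ := by
      rw [hfix]
      exact hleg
    exact ⟨Cfsg.Agent.helper1.subpairLE_le hleg, y, fun u => rfl,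
      Cfsg.Agent.helper1.subpairLE_le hle_y, conjBlock Q g f, hleg, hle_y⟩
  rw [hin] at hmemF
  obtain ⟨-, u, huP, hu⟩ := hmemF
  have hyN : y ∈ Subgroup.normalizer (Q' : Set G) := by
    rw [hQ']
    exact hystab.1
  have hu' : ∀ q : G, q ∈ Q' → y * q * y⁻¹ = u * q * u⁻¹ := by
    intro q hq
    rw [hQ'] at hq
    exact hu ⟨q, hq⟩
  have huN : u ∈ Subgroup.normalizer (Q' : Set G) := by
    rw [Subgroup.mem_normalizer_iff]
    intro h
    constructor
    · intro hh
      rw [← hu' h hh]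
      exact (Subgroup.mem_normalizer_iff.1 hyN h).1 hh
    · intro hh
      have h1 : y⁻¹ * (u * h * u⁻¹) * y⁻¹⁻¹ ∈ Q' :=
        (Subgroup.mem_normalizer_iff.1 (Subgroup.inv_mem _ hyN) _).1 hh
      have h2 := hu' _ h1
      have e1 : y * (y⁻¹ * (u * h * u⁻¹) * y⁻¹⁻¹) * y⁻¹ = u * h * u⁻¹ := by group
      rw [e1] at h2
      have h3 : h = y⁻¹ * (u * h * u⁻¹) * y⁻¹⁻¹ := mul_left_cancel (mul_right_cancel h2)
      rw [h3]
      exact h1
  obtain ⟨k, hk⟩ := hPe.1 ⟨u, huP⟩
  have huk : u ^ (p ^ k) = 1 := by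
    have h1 := congrArg Subtype.val hk
    rw [Subgroup.coe_pow] at h1
    exact h1
  obtain ⟨κ, hκ⟩ : ∃ κ : ↥(Subgroup.normalizer (Q' : Set G)) →* MulAut ↥Q',
      κ = conjAutHom Q' (Subgroup.normalizer (Q' : Set G)) le_rfl := ⟨_, rfl⟩
  have hκyu : κ ⟨y, hyN⟩ = κ ⟨u, huN⟩ := by
    rw [hκ]
    ext q
    rw [conjAutHom_coe, conjAutHom_coe]
    exact hu' q q.2
  have h1 : orderOf (κ ⟨y, hyN⟩) ∣ orderOf y := by
    have h2 := orderOf_map_dvd κ (⟨y, hyN⟩ : ↥(Subgroup.normalizer (Q' : Set G)))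
    rw [Subgroup.orderOf_mk] at h2
    exact h2
  have h2 : orderOf (κ ⟨y, hyN⟩) ∣ p ^ k := by
    apply orderOf_dvd_of_pow_eq_one
    rw [hκyu, ← map_pow]
    have h3 : (⟨u, huN⟩ : ↥(Subgroup.normalizer (Q' : Set G))) ^ (p ^ k) = 1 := by
      apply Subtype.ext
      rw [Subgroup.coe_pow]
      exact huk
    rw [h3, map_one]
  have hyreg : ¬ p ∣ orderOf y := by
    have h3 : orderOf y = orderOf x := by
      rw [hy]
      exact (MulAut.conj g).orderOf_eq x
    rw [h3]
    exact hxreg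
  have hcop : Nat.Coprime (orderOf y) (p ^ k) :=
    ((Nat.Prime.coprime_iff_not_dvd Fact.out).2 hyreg).symm.pow_right k
  have h3 : orderOf (κ ⟨y, hyN⟩) = 1 :=
    Nat.eq_one_of_dvd_coprimes hcop h1 h2
  have h4 : κ ⟨y, hyN⟩ = 1 := orderOf_eq_one_iff.1 h3
  have hker : (⟨y, hyN⟩ : ↥(Subgroup.normalizer (Q' : Set G))) ∈ κ.ker := h4
  rw [hκ, conjAutHom_ker Q' _ Subgroup.le_normalizer le_rfl,
    mem_centralizer_subgroupOf_iff Subgroup.le_normalizer] at hker
  have hyC : y ∈ Subgroup.centralizer (Q' : Set G) := hker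
  rw [Subgroup.mem_centralizer_iff]
  intro q hq
  have hq' : g * q * g⁻¹ ∈ Q' := by
    rw [hQ']
    exact ⟨q, hq, rfl⟩
  have h5 : g * q * g⁻¹ * y = y * (g * q * g⁻¹) := Subgroup.mem_centralizer_iff.1 hyC _ hq'
  rw [← hyx]
  have e2 : q * (g⁻¹ * y * g) = g⁻¹ * (g * q * g⁻¹ * y) * g := by group
  rw [e2, h5]
  group

set_option maxHeartbeats 1600000 in
/-- nilpotent iff inner fusion system -/
theorem nilpotent_iff_inner (hM : IsPModular p M) (B : Set (IrrCharacter G))
    {P : Subgroup G} {e : Set (IrrCharacter (Subgroup.centralizer (P : Set G)))}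
    (hmax : IsMaximalBrauerPair p M B P e)
    (F : FusionSystem P) (hF : IsBlockFusionSystemOn p M B P e F) :
    IsNilpotentBlock p M B ↔ ∀ Q : Subgroup G, F.Hom Q = (innerFusionSystem P).Hom Q := by
  constructor
  · intro hnil
    have hsat := blockFusion_saturated hM B hmax F hF
    have hP : IsPGroup p P := hmax.1.1.1
    have h1 : F = innerFusionSystem P := Cfsg.Agent.S5083.result p hP F hsat
      (fun Q hQP => nilpotent_autGroup_isPGroup hM B hmax F hF hnil Q hQP)
    intro Q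
    rw [← h1]
  · intro hin
    exact nilpotent_of_inner hM B hmax F hF hin

end Nil30

end Cfsg.Agent.helper24
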