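import Mathlib
import Cfsg.Agent.Lib_helper24_BPair30

/-!
Brauer pairs (helper24), part 31: pairs of a block of a centralizer as pairs of the group;
local blocks of a nilpotent block.
-/

set_option autoImplicit false

namespace Cfsg.Agent.helper24

open Cfsg Cfsg.Agent.helper5 Cfsg.Agent.helper8
open scoped ComplexConjugate

universe u

section CD31a

variable {G : Type u} [Group G]

theorem mem_centralizer_sup_iff (Q R : Subgroup G) (x : G) :
    x ∈ Subgroup.centralizer ((Q ⊔ R : Subgroup G) : Set G) ↔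
      x ∈ Subgroup.centralizer (Q : Set G) ∧ x ∈ Subgroup.centralizer (R : Set G) := by
  constructor
  · intro h
    exact ⟨Subgroup.centralizer_le (show Q ≤ Q ⊔ R from le_sup_left) h,
      Subgroup.centralizer_le (show R ≤ Q ⊔ R from le_sup_right) h⟩
  · rintro ⟨hQ, hR⟩
    have h1 : Q ⊔ R ≤ Subgroup.centralizer ({x} : Set G) := by
      apply sup_le
      · intro q hq
        rw [Subgroup.mem_centralizer_singleton_iff]
        exact Subgroup.mem_centralizer_iff.1 hQ q hq
      · intro r hr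
        rw [Subgroup.mem_centralizer_singleton_iff]
        exact Subgroup.mem_centralizer_iff.1 hR r hr
    rw [Subgroup.mem_centralizer_iff]
    intro s hs
    exact Subgroup.mem_centralizer_singleton_iff.1 (h1 hs)

theorem mem_normalizer_of_map_conj_eq {Q : Subgroup G} {y : G}
    (h : Q.map (MulAut.conj y).toMonoidHom = Q) : y ∈ Subgroup.normalizer (Q : Set G) := by
  rw [Subgroup.mem_normalizer_iff]
  intro q
  constructor
  · intro hq
    have h1 : y * q * y⁻¹ ∈ Q.map (MulAut.conj y).toMonoidHom := ⟨q, hq, rfl⟩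
    rw [h] at h1
    exact h1
  · intro hq
    rw [← h] at hq
    obtain ⟨q', hq', hqq⟩ := hq
    have h2 : y * q' * y⁻¹ = y * q * y⁻¹ := hqq
    have h3 : q' = q := mul_left_cancel (mul_right_cancel h2)
    rw [← h3]
    exact hq'

theorem mem_normalizer_sup {Q R : Subgroup G} {y : G}
    (hQ : y ∈ Subgroup.normalizer (Q : Set G)) (hR : y ∈ Subgroup.normalizer (R : Set G)) :
    y ∈ Subgroup.normalizer ((Q ⊔ R : Subgroup G) : Set G) := by
  apply mem_normalizer_of_map_conj_eq
  rw [Subgroup.map_sup, map_conj_eq_of_mem_normalizer hQ, map_conj_eq_of_mem_normalizer hR]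

/-- the centralizer of `R'` inside `C(Q)` is the centralizer of `Q R` -/
def cdEquiv (Q : Subgroup G) (R' : Subgroup ↥(Subgroup.centralizer (Q : Set G))) :
    ↥(Subgroup.centralizer (R' : Set ↥(Subgroup.centralizer (Q : Set G)))) ≃*
      ↥(Subgroup.centralizer
        ((Q ⊔ R'.map (Subgroup.centralizer (Q : Set G)).subtype : Subgroup G) : Set G)) where
  toFun x' := ⟨((x' : ↥(Subgroup.centralizer (Q : Set G))) : G),
    (mem_centralizer_sup_iff _ _ _).2
      ⟨(x' : ↥(Subgroup.centralizer (Q : Set G))).2, dn_mem_centralizer _ R' x'⟩⟩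
  invFun x := ⟨⟨(x : G), ((mem_centralizer_sup_iff _ _ _).1 x.2).1⟩, by
    rw [Subgroup.mem_centralizer_iff]
    intro s' hs'
    apply Subtype.ext
    exact Subgroup.mem_centralizer_iff.1 ((mem_centralizer_sup_iff _ _ _).1 x.2).2 (s' : G)
      ⟨s', hs', rfl⟩⟩
  left_inv _ := rfl
  right_inv _ := rfl
  map_mul' _ _ := rfl

theorem cdEquiv_coe (Q : Subgroup G) (R' : Subgroup ↥(Subgroup.centralizer (Q : Set G)))
    (x' : ↥(Subgroup.centralizer (R' : Set ↥(Subgroup.centralizer (Q : Set G))))) :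
    ((cdEquiv Q R' x' : ↥(Subgroup.centralizer
      ((Q ⊔ R'.map (Subgroup.centralizer (Q : Set G)).subtype : Subgroup G) : Set G))) : G)
      = ((x' : ↥(Subgroup.centralizer (Q : Set G))) : G) := rfl

theorem cdEquiv_symm_coe (Q : Subgroup G) (R' : Subgroup ↥(Subgroup.centralizer (Q : Set G)))
    (x : ↥(Subgroup.centralizer
      ((Q ⊔ R'.map (Subgroup.centralizer (Q : Set G)).subtype : Subgroup G) : Set G))) :
    ((((cdEquiv Q R').symm x : ↥(Subgroup.centralizer
      (R' : Set ↥(Subgroup.centralizer (Q : Set G))))) : ↥(Subgroup.centralizer (Q : Set G))) : G)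
      = (x : G) := rfl

end CD31a

section CD31

variable {G : Type u} [Group G] [Fintype G] {M : Ideal AlgInt} {p : ℕ} [Fact p.Prime]

set_option maxHeartbeats 1600000 in
/-- the central character value at the Brauer image, computed in `C(Q)` or in `G` -/
theorem brauerOmega_cd (Q : Subgroup G) (R' : Subgroup ↥(Subgroup.centralizer (Q : Set G)))
    (f : Set (IrrCharacter ↥(Subgroup.centralizer (Q : Set G))))
    (ξ' : ↥(Subgroup.centralizer (R' : Set ↥(Subgroup.centralizer (Q : Set G)))) → ℂ)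
    (ξ : ↥(Subgroup.centralizer
      ((Q ⊔ R'.map (Subgroup.centralizer (Q : Set G)).subtype : Subgroup G) : Set G)) → ℂ)
    (hξ : ∀ x', ξ' x' = ξ (cdEquiv Q R' x')) :
    brauerOmega R' (blockCoeff f) ξ'
      = brauerOmega (Q ⊔ R'.map (Subgroup.centralizer (Q : Set G)).subtype)
        (subgroupBlockCoeff (Subgroup.centralizer (Q : Set G)) f) ξ := by
  classical
  unfold brauerOmega
  rw [← finsum_comp_equiv (cdEquiv Q R').toEquiv]
  apply finsum_congr
  intro x'
  show blockCoeff f (x' : ↥(Subgroup.centralizer (Q : Set G))) * ξ' x' / ξ' 1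
    = subgroupBlockCoeff (Subgroup.centralizer (Q : Set G)) f
      ((cdEquiv Q R' x' : ↥(Subgroup.centralizer
        ((Q ⊔ R'.map (Subgroup.centralizer (Q : Set G)).subtype : Subgroup G) : Set G))) : G)
      * ξ (cdEquiv Q R' x') / ξ 1
  rw [hξ x', hξ 1, map_one, cdEquiv_coe,
    sbc_of_mem _ _ (x' : ↥(Subgroup.centralizer (Q : Set G))).2]

set_option maxHeartbeats 1600000 in
/-- a Brauer pair of the block `f` of `C(Q)` gives a pair of `G` normally above `(Q, f)` -/
theorem cd_normalSubpair {Q : Subgroup G} (hQ : IsPGroup p Q)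
    (f : Set (IrrCharacter ↥(Subgroup.centralizer (Q : Set G))))
    (R' : Subgroup ↥(Subgroup.centralizer (Q : Set G)))
    (g' : Set (IrrCharacter ↥(Subgroup.centralizer
      (R' : Set ↥(Subgroup.centralizer (Q : Set G))))))
    (h : IsBrauerPairOf p M f R' g') :
    IsNormalSubpair p M Q f (Q ⊔ R'.map (Subgroup.centralizer (Q : Set G)).subtype)
      (transportSet (cdEquiv Q R').symm g') := by
  obtain ⟨⟨hR', hg'⟩, hf, hom⟩ := h
  have hRC : R'.map (Subgroup.centralizer (Q : Set G)).subtype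
      ≤ Subgroup.centralizer (Q : Set G) := by
    rintro _ ⟨x', -, rfl⟩
    exact x'.2
  have hRN : R'.map (Subgroup.centralizer (Q : Set G)).subtype
      ≤ Subgroup.normalizer (Q : Set G) :=
    hRC.trans (Subgroup.centralizer_le_normalizer _)
  have hSN : Q ⊔ R'.map (Subgroup.centralizer (Q : Set G)).subtype
      ≤ Subgroup.normalizer (Q : Set G) := sup_le Subgroup.le_normalizer hRN
  have hSp : IsPGroup p
      (Q ⊔ R'.map (Subgroup.centralizer (Q : Set G)).subtype : Subgroup G) :=
    hQ.to_sup_of_normal_left' (hR'.map _) hRN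
  have hSstab : Q ⊔ R'.map (Subgroup.centralizer (Q : Set G)).subtype ≤ stabSubgroup Q f := by
    apply sup_le
    · intro q hq
      exact ⟨Subgroup.le_normalizer hq, stabilizesBlock_of_mem Q f hq⟩
    · intro r hr
      exact ⟨hRN hr, stabilizesBlock_of_mem_self f (hRC hr)⟩
  refine ⟨⟨hQ, hf⟩, ⟨hSp, isPBlock_transportSet _ _ hg'⟩, le_sup_left, hSN,
    fun x hx => (hSstab hx).2, ?_⟩
  rintro ξ ⟨ξ', hξ', hξξ'⟩
  have hξ : ∀ x', (ξ' : _ → ℂ) x' = (ξ : _ → ℂ) (cdEquiv Q R' x') := by
    intro x'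
    rw [hξξ']
    show (ξ' : _ → ℂ) x' = (ξ' : _ → ℂ) ((cdEquiv Q R').symm (cdEquiv Q R' x'))
    rw [MulEquiv.symm_apply_apply]
  rw [← brauerOmega_cd Q R' f _ _ hξ]
  exact hom ξ' hξ'

set_option maxHeartbeats 1600000 in
/-- stabilizers of the pairs correspond -/
theorem cd_stabilizes (Q : Subgroup G) (R' : Subgroup ↥(Subgroup.centralizer (Q : Set G)))
    (g' : Set (IrrCharacter ↥(Subgroup.centralizer
      (R' : Set ↥(Subgroup.centralizer (Q : Set G))))))
    {y' : ↥(Subgroup.centralizer (Q : Set G))}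
    (hy'N : y' ∈ Subgroup.normalizer (R' : Set ↥(Subgroup.centralizer (Q : Set G))))
    (hy'st : StabilizesBlock (Subgroup.centralizer
      (R' : Set ↥(Subgroup.centralizer (Q : Set G)))) g' y') :
    (y' : G) ∈ Subgroup.normalizer
        ((Q ⊔ R'.map (Subgroup.centralizer (Q : Set G)).subtype : Subgroup G) : Set G) ∧
      StabilizesBlock (Subgroup.centralizer
        ((Q ⊔ R'.map (Subgroup.centralizer (Q : Set G)).subtype : Subgroup G) : Set G))
        (transportSet (cdEquiv Q R').symm g') (y' : G) := by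
  have hyN : (y' : G) ∈ Subgroup.normalizer
      ((Q ⊔ R'.map (Subgroup.centralizer (Q : Set G)).subtype : Subgroup G) : Set G) :=
    mem_normalizer_sup (Subgroup.centralizer_le_normalizer _ y'.2)
      (dn_mem_normalizer _ R' hy'N)
  refine ⟨hyN, Cfsg.Agent.helper1.normalizer_le_normalizer_centralizer _ hyN, ?_⟩
  rintro χ ⟨χ₀, hχ₀, hχχ₀⟩
  obtain ⟨χ₀', hχ₀', hconj⟩ := hy'st.2 χ₀ hχ₀
  refine ⟨irrTransport (cdEquiv Q R').symm χ₀', (mem_transportSet_iff _ _ _).2 hχ₀', ?_⟩
  intro k k' hk
  rw [irrTransport_apply, hχχ₀]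
  apply hconj
  apply Subtype.ext
  exact hk

set_option maxHeartbeats 1600000 in
/-- the local blocks of a nilpotent block are nilpotent -/
theorem nilpotent_local (hM : IsPModular p M) (B : Set (IrrCharacter G))
    (hnil : IsNilpotentBlock p M B) (Q : Subgroup G)
    (f : Set (IrrCharacter ↥(Subgroup.centralizer (Q : Set G))))
    (hQf : IsBrauerPairOf p M B Q f) : IsNilpotentBlock p M f := by
  refine ⟨hQf.1.2, ?_⟩
  intro R' g' hR' y' hy'N hy'st hy'reg
  have hn := cd_normalSubpair hQf.1.1 f R' g' hR'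
  have hSg := brauerPairOf_of_normalSubpair hM hn B hQf
  obtain ⟨hyN, hyst⟩ := cd_stabilizes Q R' g' hy'N hy'st
  have hyreg : IsPRegular p (y' : G) := by
    unfold IsPRegular
    rw [Subgroup.orderOf_coe]
    exact hy'reg
  have hyC := hnil.2 _ _ hSg (y' : G) hyN hyst hyreg
  rw [Subgroup.mem_centralizer_iff]
  intro r' hr'
  apply Subtype.ext
  exact Subgroup.mem_centralizer_iff.1 hyC (r' : G)
    ((show R'.map (Subgroup.centralizer (Q : Set G)).subtype
      ≤ Q ⊔ R'.map (Subgroup.centralizer (Q : Set G)).subtype from le_sup_right)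
      ⟨r', hr', rfl⟩)

set_option maxHeartbeats 1600000 in
/-- for a nilpotent block, `C_P(Q)` is a defect group of the local block -/
theorem nilpotent_cent_defect (hM : IsPModular p M) (B : Set (IrrCharacter G))
    {P : Subgroup G} {e : Set (IrrCharacter (Subgroup.centralizer (P : Set G)))}
    (hmax : IsMaximalBrauerPair p M B P e) (hnil : IsNilpotentBlock p M B)
    {Q : Subgroup G} {f : Set (IrrCharacter ↥(Subgroup.centralizer (Q : Set G)))}
    (hf : IsPBlock M f) (hle : SubpairLE p M Q f P e) :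
    IsDefectGroup p M f ((P ⊓ Subgroup.centralizer (Q : Set G)).subgroupOf
      (Subgroup.centralizer (Q : Set G))) := by
  obtain ⟨F, hF⟩ := exists_blockFusionSystem hM B hmax
  have hin := (nilpotent_iff_inner hM B hmax F hF).1 hnil
  rw [← fullyCentralized_iff hM B hmax F hF hf hle]
  refine ⟨Cfsg.Agent.helper1.subpairLE_le hle, ?_⟩
  rintro Q' ⟨φ, hφ, hrange⟩
  rw [hin] at hφ
  obtain ⟨-, u, huP, hu⟩ := hφ
  have hQ' : Q' = Q.map (MulAut.conj u).toMonoidHom := by
    rw [← hrange]
    exact range_eq_map_conj hu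
  show Nat.card ↥(P ⊓ Subgroup.centralizer (Q' : Set G))
    ≤ Nat.card ↥(P ⊓ Subgroup.centralizer (Q : Set G))
  have h1 := map_conj_inf_centralizer P Q u
  rw [map_conj_eq_of_mem_normalizer (Subgroup.le_normalizer huP), ← hQ'] at h1
  rw [← h1]
  have h2 : Nat.card ↥((P ⊓ Subgroup.centralizer (Q : Set G)).map
      (MulAut.conj u).toMonoidHom) = Nat.card ↥(P ⊓ Subgroup.centralizer (Q : Set G)) :=
    Subgroup.card_map_of_injective (MulAut.conj u).injective
  exact h2.le

end CD31

end Cfsg.Agent.helper24
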