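import Mathlib
import Cfsg.Agent.Lib_helper24_BPair31

/-!
Brauer pairs (helper24), part 32: a stable centric pair: the block of `Q C(Q)` is nilpotent.
-/

set_option autoImplicit false

namespace Cfsg.Agent.helper24

open Cfsg Cfsg.Agent.helper5 Cfsg.Agent.helper8
open scoped ComplexConjugate

universe u

section PReg32

variable {G : Type u} [Group G] {p : ℕ} [Fact p.Prime]

/-- a `p`-regular element acting on `Q` like a `p`-element centralizes `Q` -/
theorem pregular_mem_centralizer {Q : Subgroup G} {y u : G}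
    (hyN : y ∈ Subgroup.normalizer (Q : Set G)) (huN : u ∈ Subgroup.normalizer (Q : Set G))
    (hyu : ∀ q : G, q ∈ Q → y * q * y⁻¹ = u * q * u⁻¹) {k : ℕ} (huk : u ^ (p ^ k) = 1)
    (hyreg : ¬ p ∣ orderOf y) : y ∈ Subgroup.centralizer (Q : Set G) := by
  obtain ⟨κ, hκ⟩ : ∃ κ : ↥(Subgroup.normalizer (Q : Set G)) →* MulAut ↥Q,
      κ = conjAutHom Q (Subgroup.normalizer (Q : Set G)) le_rfl := ⟨_, rfl⟩
  have hκyu : κ ⟨y, hyN⟩ = κ ⟨u, huN⟩ := by
    rw [hκ]
    ext q
    rw [conjAutHom_coe, conjAutHom_coe]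
    exact hyu q q.2
  have h1 : orderOf (κ ⟨y, hyN⟩) ∣ orderOf y := by
    have h2 := orderOf_map_dvd κ (⟨y, hyN⟩ : ↥(Subgroup.normalizer (Q : Set G)))
    rw [Subgroup.orderOf_mk] at h2
    exact h2
  have h2 : orderOf (κ ⟨y, hyN⟩) ∣ p ^ k := by
    apply orderOf_dvd_of_pow_eq_one
    rw [hκyu, ← map_pow]
    have h3 : (⟨u, huN⟩ : ↥(Subgroup.normalizer (Q : Set G))) ^ (p ^ k) = 1 := by
      apply Subtype.ext
      rw [Subgroup.coe_pow]
      exact huk
    rw [h3, map_one]
  have hcop : Nat.Coprime (orderOf y) (p ^ k) :=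
    ((Nat.Prime.coprime_iff_not_dvd Fact.out).2 hyreg).symm.pow_right k
  have h3 : orderOf (κ ⟨y, hyN⟩) = 1 :=
    Nat.eq_one_of_dvd_coprimes hcop h1 h2
  have h4 : κ ⟨y, hyN⟩ = 1 := orderOf_eq_one_iff.1 h3
  have hker : (⟨y, hyN⟩ : ↥(Subgroup.normalizer (Q : Set G))) ∈ κ.ker := h4
  rw [hκ, conjAutHom_ker Q _ Subgroup.le_normalizer le_rfl,
    mem_centralizer_subgroupOf_iff Subgroup.le_normalizer] at hker
  exact hker

end PReg32

section Cen32

variable {G : Type u} [Group G] [Fintype G] {M : Ideal AlgInt} {p : ℕ} [Fact p.Prime]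

set_option maxHeartbeats 1600000 in
/-- a block of the centralizer of a normal `p`-subgroup stable under the group is the idempotent
of a block of the group -/
theorem stable_exists_block_top (hM : IsPModular p M) {Q : Subgroup G} (hQ : IsPGroup p Q)
    (f : Set (IrrCharacter ↥(Subgroup.centralizer (Q : Set G)))) (hf : IsPBlock M f)
    (hG : ∀ x : G, x ∈ Subgroup.normalizer (Q : Set G) ∧
      StabilizesBlock (Subgroup.centralizer (Q : Set G)) f x) :
    ∃ B' : Set (IrrCharacter G), IsPBlock M B' ∧ ∀ g : G,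
      blockCoeff B' g = subgroupBlockCoeff (Subgroup.centralizer (Q : Set G)) f g := by
  classical
  have := Fintype.ofFinite ↥(Subgroup.centralizer (Q : Set G))
  have hQn : Q.Normal :=
    Subgroup.normalizer_eq_top_iff.1 (eq_top_iff.2 (fun x _ => (hG x).1))
  have hN : (Subgroup.centralizer (Q : Set G)).Normal := inferInstance
  have hinv : ∀ g : G, ∀ θ ∈ f, ∀ θ' : IrrCharacter ↥(Subgroup.centralizer (Q : Set G)),
      (∀ n : ↥(Subgroup.centralizer (Q : Set G)),
        (θ' : ↥(Subgroup.centralizer (Q : Set G)) → ℂ) n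
          = (θ : ↥(Subgroup.centralizer (Q : Set G)) → ℂ)
            ⟨g * n * g⁻¹, hN.conj_mem n n.2 g⟩) → θ' ∈ f := by
    intro g θ hθ θ' hθ'
    obtain ⟨ξ', hξ', hconj⟩ := (hG g⁻¹).2.2 θ hθ
    have h1 : θ' = ξ' := by
      apply Subtype.ext
      funext n
      rw [hθ' n]
      symm
      apply hconj
      show (n : G) = g⁻¹ * (g * (n : G) * g⁻¹) * g⁻¹⁻¹
      group
    rw [h1]
    exact hξ'
  obtain ⟨B', hB', hcoef⟩ := cent_exists_block hM hQ f hf hinv
  refine ⟨B', hB', fun g => ?_⟩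
  rw [hcoef]
  by_cases hg : g ∈ Subgroup.centralizer (Q : Set G)
  · rw [extendByZero_of_mem _ _ g hg, sbc_of_mem _ _ hg]
  · rw [extendByZero_of_not_mem _ _ g hg, sbc_of_not_mem _ _ hg]

set_option maxHeartbeats 1600000 in
/-- the idempotent of `B` is that of a stable pair below the maximal pair -/
theorem stable_pair_idempotent (hM : IsPModular p M) (B : Set (IrrCharacter G))
    {P : Subgroup G} {e : Set (IrrCharacter (Subgroup.centralizer (P : Set G)))}
    (hmax : IsMaximalBrauerPair p M B P e) {Q : Subgroup G}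
    {f : Set (IrrCharacter ↥(Subgroup.centralizer (Q : Set G)))} (hf : IsPBlock M f)
    (hle : SubpairLE p M Q f P e)
    (hG : ∀ x : G, x ∈ Subgroup.normalizer (Q : Set G) ∧
      StabilizesBlock (Subgroup.centralizer (Q : Set G)) f x) (g : G) :
    blockCoeff B g = subgroupBlockCoeff (Subgroup.centralizer (Q : Set G)) f g := by
  classical
  have hMtop : M ≠ ⊤ := hM.2.1.isPrime.ne_top
  have hPe : IsBrauerPair p M P e := hmax.1.1
  have hQP : Q ≤ P := Cfsg.Agent.helper1.subpairLE_le hle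
  have hQ : IsPGroup p Q := hPe.1.to_le hQP
  obtain ⟨B', hB', hcoef⟩ := stable_exists_block_top hM hQ f hf hG
  have hfun : blockCoeff B' = subgroupBlockCoeff (Subgroup.centralizer (Q : Set G)) f :=
    funext hcoef
  have h1 : IsBrauerPairOf p M B' Q f := by
    refine ⟨⟨hQ, hf⟩, hB', ?_⟩
    intro ξ hξ
    rw [hfun]
    exact (normalSubpair_refl (p := p) ⟨hQ, hf⟩ hMtop).2.2.2.2.2 ξ hξ
  have h2 : IsBrauerPairOf p M B Q f := (brauerPairOf_iff_of_subpairLE hM hle B).1 hmax.1
  have h3 : B' = B := (brauer_pair_unique_block p M hM Q f ⟨hQ, hf⟩).unique h1 h2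
  rw [← h3]
  exact hcoef g

set_option maxHeartbeats 3200000 in
/-- for a centric pair stable under the group, the block of `Q C(Q)` with the idempotent of `f`
is nilpotent -/
theorem centric_stab_nilpotent (hM : IsPModular p M) (B : Set (IrrCharacter G))
    {P : Subgroup G} {e : Set (IrrCharacter (Subgroup.centralizer (P : Set G)))}
    (hmax : IsMaximalBrauerPair p M B P e)
    (F : FusionSystem P) (hF : IsBlockFusionSystemOn p M B P e F) {Q : Subgroup G}
    {f : Set (IrrCharacter ↥(Subgroup.centralizer (Q : Set G)))} (hQP : Q ≤ P)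
    (hf : IsPBlock M f) (hle : SubpairLE p M Q f P e) (hcen : F.IsCentric Q)
    (hG : ∀ x : G, x ∈ Subgroup.normalizer (Q : Set G) ∧
      StabilizesBlock (Subgroup.centralizer (Q : Set G)) f x)
    (T : Subgroup G) (hT : T = Q ⊔ Subgroup.centralizer (Q : Set G)) :
    ∃ F' : Set (IrrCharacter ↥T), IsPBlock M F' ∧
      (∀ t : ↥T, blockCoeff F' t
        = subgroupBlockCoeff (Subgroup.centralizer (Q : Set G)) f (t : G)) ∧
      IsNilpotentBlock p M F' := by
  classical
  have hPe : IsBrauerPair p M P e := hmax.1.1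
  have hQ : IsPGroup p Q := hPe.1.to_le hQP
  have hQT : Q ≤ T := by
    rw [hT]
    exact le_sup_left
  have hCT : Subgroup.centralizer (Q : Set G) ≤ T := by
    rw [hT]
    exact le_sup_right
  have hTN : T ≤ Subgroup.normalizer (Q : Set G) := fun t _ => (hG t).1
  have hstT : ∀ t ∈ T, StabilizesBlock (Subgroup.centralizer (Q : Set G)) f t :=
    fun t _ => (hG t).2
  have hQNC : Q ≤ Subgroup.normalizer
      ((Subgroup.centralizer (Q : Set G) : Subgroup G) : Set G) :=
    fun q hq => Cfsg.Agent.helper1.normalizer_le_normalizer_centralizer Q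
      (Subgroup.le_normalizer hq)
  have hdecomp : ∀ t : G, t ∈ T → ∃ q ∈ Q, ∃ c ∈ Subgroup.centralizer (Q : Set G),
      q * c = t := by
    intro t ht
    have ht' : t ∈ ((Q ⊔ Subgroup.centralizer (Q : Set G) : Subgroup G) : Set G) := by
      rw [← hT]
      exact ht
    rw [Subgroup.coe_mul_of_left_le_normalizer_right Q _ hQNC] at ht'
    obtain ⟨q, hq, c, hc, hqc⟩ := ht'
    exact ⟨q, hq, c, hc, hqc⟩
  have := Fintype.ofFinite ↥T
  obtain ⟨F', hF', hcoef⟩ := stab_exists_block hM hQ hQT hTN hCT f hf hstT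
  refine ⟨F', hF', hcoef, hF', ?_⟩
  -- `f` has defect group `C_P(Q)`
  have hfc : F.IsFullyCentralized Q := by
    refine ⟨hQP, ?_⟩
    rintro Q' ⟨φ, hφ, hrange⟩
    obtain ⟨-, g, hg, -, -⟩ := (hF.2 Q φ).1 hφ
    have hQ' : Q' = Q := by
      rw [← hrange, range_eq_map_conj hg]
      exact map_conj_eq_of_mem_normalizer (hG g).1
    rw [hQ']
  have hdef := (fullyCentralized_iff hM B hmax F hF hf hle).1 hfc
  have hcardf : p ^ blockDefect p f
      = Nat.card ↥(P ⊓ Subgroup.centralizer (Q : Set G)) := by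
    rw [← card_defectGroup p M hM f hf _ hdef]
    exact card_subgroupOf_eq_of_le24 inf_le_right
  have hconjQQ : F.IsConj Q Q := by
    refine ⟨conjHom Q 1, F.conj_mem hQP (one_mem P), ?_⟩
    rw [range_eq_map_conj (g := 1) (fun u => rfl)]
    exact map_conj_eq_of_mem_normalizer (one_mem _)
  have hCPQ : P ⊓ Subgroup.centralizer (Q : Set G) ≤ Q := hcen.2 Q hconjQQ
  have hZ : P ⊓ Subgroup.centralizer (Q : Set G) = Q ⊓ Subgroup.centralizer (Q : Set G) :=
    le_antisymm (le_inf hCPQ inf_le_right) (inf_le_inf_right _ hQP)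
  -- the defect groups of `F'` are `Q`
  have hD : ∀ D' : Subgroup ↥T, IsDefectGroup p M F' D' → D' = Q.subgroupOf T := by
    intro D' hD'
    have hQD : Q.subgroupOf T ≤ D' := subgroupOf_le_defectGroup p M hM hQ hTN F' hF' D' hD'
    obtain ⟨-, hcard⟩ := stab_fong hM hQ hQT hTN hCT f hf hstT F' hF' hcoef D' hD'
    have hZ'le : (Q ⊓ Subgroup.centralizer (Q : Set G)).subgroupOf T
        ≤ D' ⊓ Subgroup.centralizer ((Q.subgroupOf T : Subgroup ↥T) : Set ↥T) := by
      intro z hz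
      have hz' : (z : G) ∈ Q ⊓ Subgroup.centralizer (Q : Set G) := Subgroup.mem_subgroupOf.1 hz
      exact ⟨hQD (Subgroup.mem_subgroupOf.2 hz'.1),
        (mem_centralizer_subgroupOf_iff hQT z).2 hz'.2⟩
    have hcardZ : Nat.card ↥(D' ⊓ Subgroup.centralizer
        ((Q.subgroupOf T : Subgroup ↥T) : Set ↥T))
        ≤ Nat.card ↥((Q ⊓ Subgroup.centralizer (Q : Set G)).subgroupOf T) := by
      rw [hcard, hcardf, hZ, card_subgroupOf_eq_of_le24 (inf_le_left.trans hQT)]
    have hZeq := Subgroup.eq_of_le_of_card_ge hZ'le hcardZ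
    apply le_antisymm _ hQD
    intro d hd
    obtain ⟨q, hq, c, hc, hqc⟩ := hdecomp (d : G) d.2
    have hcD : (⟨c, hCT hc⟩ : ↥T) ∈ D' := by
      have e1 : (⟨c, hCT hc⟩ : ↥T) = (⟨q, hQT hq⟩ : ↥T)⁻¹ * d := by
        apply Subtype.ext
        show c = q⁻¹ * (d : G)
        rw [← hqc]
        group
      rw [e1]
      exact D'.mul_mem (D'.inv_mem (hQD (Subgroup.mem_subgroupOf.2 hq))) hd
    have hcZ : (⟨c, hCT hc⟩ : ↥T)
        ∈ D' ⊓ Subgroup.centralizer ((Q.subgroupOf T : Subgroup ↥T) : Set ↥T) :=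
      ⟨hcD, (mem_centralizer_subgroupOf_iff hQT _).2 hc⟩
    rw [← hZeq] at hcZ
    have hcQ : c ∈ Q := (Subgroup.mem_subgroupOf.1 hcZ).1
    rw [Subgroup.mem_subgroupOf, ← hqc]
    exact Q.mul_mem hq hcQ
  -- nilpotency
  intro S' g' hS' y' hy'N hy'st hy'reg
  obtain ⟨P₁, e₁, hmax₁, hle₁⟩ := exists_maximal_above F' hS'
  have hP₁ : P₁ = Q.subgroupOf T := hD P₁ (maximal_pair_defectGroup p hM F' _ _ hmax₁)
  have hS'Q : S' ≤ Q.subgroupOf T := by
    rw [← hP₁]
    exact Cfsg.Agent.helper1.subpairLE_le hle₁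
  obtain ⟨q, hq, c, hc, hqc⟩ := hdecomp (y' : G) y'.2
  obtain ⟨k, hk⟩ := hQ ⟨q, hq⟩
  have hqk : q ^ (p ^ k) = 1 := by
    have h1 := congrArg Subtype.val hk
    rw [Subgroup.coe_pow] at h1
    exact h1
  have hyC : (y' : G) ∈ Subgroup.centralizer (Q : Set G) := by
    apply pregular_mem_centralizer (p := p) (hTN y'.2) (Subgroup.le_normalizer hq) _ hqk
    · rw [Subgroup.orderOf_coe]
      exact hy'reg
    · intro x hx
      rw [← hqc]
      have h1 : x * c = c * x := Subgroup.mem_centralizer_iff.1 hc x hx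
      have e1 : q * c * x * (q * c)⁻¹ = q * (c * x) * c⁻¹ * q⁻¹ := by group
      rw [e1, ← h1]
      group
  have h5 : y' ∈ Subgroup.centralizer ((Q.subgroupOf T : Subgroup ↥T) : Set ↥T) :=
    (mem_centralizer_subgroupOf_iff hQT y').2 hyC
  exact Subgroup.centralizer_le hS'Q h5

end Cen32

end Cfsg.Agent.helper24
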