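import Mathlib
import Cfsg.Agent.Lib_helper24_BPair32
import Cfsg.Agent.Lib_helper1_InflBlock
import Cfsg.Agent.Lib_helper24_DefectZero
import Cfsg.Agent.Lib_helper24_BlockOrth2
import Cfsg.Agent.Lib_helper24_PSection
import Cfsg.Agent.Lib_helper24_DLBound

/-!
Brauer pairs (helper24), part 33: blocks with a central defect group.
-/

set_option autoImplicit false

namespace Cfsg.Agent.helper24

open Cfsg Cfsg.Agent.helper5 Cfsg.Agent.helper8
open scoped ComplexConjugate

universe u

section Central33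

variable {H : Type u} [Group H] [Fintype H] {M : Ideal AlgInt} {p : ℕ} [Fact p.Prime]

/-- the least valuation of a degree plus the defect is the valuation of the group order -/
theorem sInf_add_blockDefect (e : Set (IrrCharacter H)) (hne : e.Nonempty) :
    sInf ((fun χ : IrrCharacter H => (charDegree (χ : H → ℂ)).factorization p) '' e)
      + blockDefect p e = (Nat.card H).factorization p := by
  unfold blockDefect
  obtain ⟨χ, hχ⟩ := hne
  have h1 : sInf ((fun χ : IrrCharacter H => (charDegree (χ : H → ℂ)).factorization p) '' e)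
      ≤ (charDegree (χ : H → ℂ)).factorization p := Nat.sInf_le ⟨χ, hχ, rfl⟩
  have h2 : (charDegree (χ : H → ℂ)).factorization p ≤ (Nat.card H).factorization p :=
    (Nat.factorization_le_iff_dvd (irr_charDegree_pos χ.2).ne' Nat.card_pos.ne').2
      (Cfsg.Agent.helper23.irr_degree_dvd_card χ) p
  omega

theorem sInf_le_degree (e : Set (IrrCharacter H)) {χ : IrrCharacter H} (hχ : χ ∈ e) :
    sInf ((fun χ : IrrCharacter H => (charDegree (χ : H → ℂ)).factorization p) '' e)
      ≤ (charDegree (χ : H → ℂ)).factorization p := Nat.sInf_le ⟨χ, hχ, rfl⟩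

open Classical in
/-- the idempotent coefficient at a `p`-regular element as a sum over the cosets of a central
`p`-subgroup -/
theorem blockCoeff_central_sum [Fintype (IrrCharacter H)] (hM : IsPModular p M) (Z : Subgroup H)
    (hZp : IsPGroup p Z) (hZc : ∀ z ∈ Z, ∀ x : H, z * x = x * z)
    (e : Set (IrrCharacter H)) (he : IsPBlock M e) (g : H) (hg : ¬ p ∣ orderOf g) :
    blockCoeff e g = (Nat.card H : ℂ)⁻¹ *
      ∑ χ ∈ Finset.univ.filter (fun χ : IrrCharacter H => χ ∈ e),
        (χ : H → ℂ) 1 * conj (∑ h : H, if h ∈ Z then (χ : H → ℂ) (g * h) else 0) := by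
  have hpp : p.Prime := Fact.out
  have hsum1 : ∑ h : H, (if h ∈ Z then blockCoeff e (g * h) else 0) = blockCoeff e g := by
    rw [Finset.sum_eq_single 1]
    · rw [if_pos Z.one_mem, mul_one]
    · intro h _ hne
      split_ifs with hZ'
      · apply Cfsg.Agent.helper1.blockCoeff_eq_zero_of_singular p M hM e he
        have hcomm : Commute h g := hZc h hZ' g
        obtain ⟨k, hk⟩ := hZp ⟨h, hZ'⟩
        have hk' : h ^ (p ^ k) = 1 := by
          have h1 := congrArg Subtype.val hk
          rw [Subgroup.coe_pow] at h1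
          exact h1
        have hdvd : orderOf h ∣ p ^ k := orderOf_dvd_of_pow_eq_one hk'
        obtain ⟨j, -, hj⟩ := (Nat.dvd_prime_pow hpp).1 hdvd
        have hj0 : j ≠ 0 := by
          rintro rfl
          rw [pow_zero, orderOf_eq_one_iff] at hj
          exact hne hj
        have hph : p ∣ orderOf h := by
          rw [hj]
          exact dvd_pow_self p hj0
        have h2 := dvd_orderOf_mul_of_commute hpp hcomm hg hph
        rw [← hcomm.eq]
        exact h2
      · rfl
    · intro h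
      exact absurd (Finset.mem_univ _) h
  rw [← hsum1]
  have h3 : ∀ h : H, (if h ∈ Z then blockCoeff e (g * h) else 0) =
      (Nat.card H : ℂ)⁻¹ * ∑ χ ∈ Finset.univ.filter (fun χ : IrrCharacter H => χ ∈ e),
        (χ : H → ℂ) 1 * conj (if h ∈ Z then (χ : H → ℂ) (g * h) else 0) := by
    intro h
    rw [blockCoeff_eq_sum e]
    split_ifs <;> simp
  rw [Finset.sum_congr rfl (fun h _ => h3 h), ← Finset.mul_sum, Finset.sum_comm]
  congr 1
  apply Finset.sum_congr rfl
  intro χ _
  rw [← Finset.mul_sum, ← map_sum]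

set_option maxHeartbeats 1600000 in
open Classical in
/-- a character of central defect zero is the only character of its block trivial on the central
subgroup -/
theorem central_defect_zero_unique (hM : IsPModular p M) (Z : Subgroup H) [Z.Normal]
    (hZp : IsPGroup p Z) (hZc : ∀ z ∈ Z, ∀ x : H, z * x = x * z)
    (e : Set (IrrCharacter H)) (he : IsPBlock M e) (θ : IrrCharacter H) (hθ : θ ∈ e)
    (hker : ∀ z ∈ Z, (θ : H → ℂ) z = (θ : H → ℂ) 1)
    (hdeg : (charDegree (θ : H → ℂ)).factorization p + (Nat.card Z).factorization p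
      = (Nat.card H).factorization p)
    (χ : IrrCharacter H) (hχ : χ ∈ e) (hkerχ : ∀ z ∈ Z, (χ : H → ℂ) z = (χ : H → ℂ) 1) :
    χ = θ := by
  have hpp : p.Prime := Fact.out
  have hMp : M.IsPrime := hM.2.1.isPrime
  have := Fintype.ofFinite (H ⧸ Z)
  obtain ⟨ψ, hψ, hθψ⟩ := irr_deflation Z θ.2 hker
  obtain ⟨ψ', hψ', hχψ'⟩ := irr_deflation Z χ.2 hkerχ
  have hSB : SameBlock M (θ : H → ℂ) (χ : H → ℂ) := by
    have h1 : χ ∈ blockOf M (θ : H → ℂ) := by
      rw [blockOf_eq_of_mem he hθ]
      exact hχ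
    exact h1
  have hC : ∃ k : ℕ, (Subgroup.centralizer (Z : Set H)).index = p ^ k := by
    refine ⟨0, ?_⟩
    have h1 : Subgroup.centralizer (Z : Set H) = ⊤ := by
      rw [eq_top_iff]
      intro x _
      rw [Subgroup.mem_centralizer_iff]
      intro z hz
      exact hZc z hz x
    rw [h1, Subgroup.index_top, pow_zero]
  have hinfl := (Cfsg.Agent.helper1.inflation_blocks_of_centralizer_index p M hM Z hZp hC).1
    ⟨ψ, hψ⟩ ⟨ψ', hψ'⟩
  have hSB' : SameBlock M ψ ψ' := by
    apply hinfl.2
    show SameBlock M (ψ ∘ QuotientGroup.mk) (ψ' ∘ QuotientGroup.mk)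
    rw [← hθψ, ← hχψ']
    exact hSB
  -- `ψ` has defect zero
  have hcard : Nat.card H = Nat.card (H ⧸ Z) * Nat.card Z :=
    Subgroup.card_eq_card_quotient_mul_card_subgroup Z
  have hdψ : charDegree ψ = charDegree (θ : H → ℂ) := by
    rw [hθψ, charDegree_inflation]
  have hdvd : charDegree ψ ∣ Nat.card (H ⧸ Z) :=
    Cfsg.Agent.helper23.irr_degree_dvd_card (⟨ψ, hψ⟩ : IrrCharacter (H ⧸ Z))
  obtain ⟨m, hm⟩ := hdvd
  have hdpos : 0 < charDegree ψ := irr_charDegree_pos hψ
  have hm0 : m ≠ 0 := by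
    rintro rfl
    rw [mul_zero] at hm
    exact Nat.card_pos.ne' hm
  have hdz : ¬ p ∣ Nat.card (H ⧸ Z) / charDegree ψ := by
    rw [hm, Nat.mul_div_cancel_left m hdpos]
    intro hpm
    have h1 : 0 < m.factorization p := hpp.factorization_pos_of_dvd hm0 hpm
    have h2 : (Nat.card H).factorization p
        = (charDegree ψ).factorization p + m.factorization p + (Nat.card Z).factorization p := by
      rw [hcard, hm, Nat.factorization_mul (Nat.mul_ne_zero hdpos.ne' hm0) Nat.card_pos.ne',
        Nat.factorization_mul hdpos.ne' hm0]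
      rfl
    rw [hdψ] at h2
    omega
  have hsingle : blockOf M ψ = {⟨ψ, hψ⟩} :=
    (defect_zero_iff_singleton p M hM (⟨ψ, hψ⟩ : IrrCharacter (H ⧸ Z))).1 hdz
  have hmem : (⟨ψ', hψ'⟩ : IrrCharacter (H ⧸ Z)) ∈ blockOf M ψ := hSB'
  rw [hsingle] at hmem
  have hψeq : ψ' = ψ := congrArg Subtype.val hmem
  apply Subtype.ext
  rw [hχψ', hθψ, hψeq]

set_option maxHeartbeats 1600000 in
open Classical in
/-- the idempotent coefficients of a block containing a character of central defect zero -/
theorem blockCoeff_of_central_defect_zero (hM : IsPModular p M) (Z : Subgroup H) [Z.Normal]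
    (hZp : IsPGroup p Z) (hZc : ∀ z ∈ Z, ∀ x : H, z * x = x * z)
    (e : Set (IrrCharacter H)) (he : IsPBlock M e) (θ : IrrCharacter H) (hθ : θ ∈ e)
    (hker : ∀ z ∈ Z, (θ : H → ℂ) z = (θ : H → ℂ) 1)
    (hdeg : (charDegree (θ : H → ℂ)).factorization p + (Nat.card Z).factorization p
      = (Nat.card H).factorization p) (g : H) (hg : ¬ p ∣ orderOf g) :
    blockCoeff e g = (Nat.card H : ℂ)⁻¹ *
      ((θ : H → ℂ) 1 * conj ((Nat.card Z : ℂ) * (θ : H → ℂ) g)) := by
  have := Fintype.ofFinite (IrrCharacter H)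
  rw [blockCoeff_central_sum hM Z hZp hZc e he g hg]
  congr 1
  rw [Finset.sum_eq_single θ]
  · congr 2
    obtain ⟨ψ, hψ, hθψ⟩ := irr_deflation Z θ.2 hker
    have hcoset : ∀ h : H, h ∈ Z → (θ : H → ℂ) (g * h) = (θ : H → ℂ) g := by
      intro h hh
      rw [hθψ]
      show ψ ((g * h : H) : H ⧸ Z) = ψ ((g : H) : H ⧸ Z)
      rw [QuotientGroup.mk_mul, (QuotientGroup.eq_one_iff h).2 hh, mul_one]
    have h1 : ∀ h : H, (if h ∈ Z then (θ : H → ℂ) (g * h) else 0)
        = if h ∈ Z then (θ : H → ℂ) g else 0 := by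
      intro h
      split_ifs with hh
      · exact hcoset h hh
      · rfl
    rw [Finset.sum_congr rfl (fun h _ => h1 h), Finset.sum_ite, Finset.sum_const_zero, add_zero,
      Finset.sum_const, nsmul_eq_mul]
    congr 1
    rw [Nat.card_eq_fintype_card, Fintype.card_subtype]
  · intro χ hχ hne
    rw [Finset.mem_filter] at hχ
    rcases irr_normal_dichotomy χ.2 Z with h1 | h1
    · rw [h1 g, map_zero, mul_zero]
    · exact absurd (central_defect_zero_unique hM Z hZp hZc e he θ hθ hker hdeg χ hχ.2 h1) hne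
  · intro h
    exact absurd (Finset.mem_filter.2 ⟨Finset.mem_univ _, hθ⟩) h

set_option maxHeartbeats 1600000 in
open Classical in
/-- a character of central defect zero vanishes off the elements with `p`-part in the central
subgroup -/
theorem central_defect_zero_vanish (Z : Subgroup H) [Z.Normal] (θ : IrrCharacter H)
    (hker : ∀ z ∈ Z, (θ : H → ℂ) z = (θ : H → ℂ) 1)
    (hdeg : (charDegree (θ : H → ℂ)).factorization p + (Nat.card Z).factorization p
      = (Nat.card H).factorization p) {a v : H} (hcomm : Commute a v) {j : ℕ}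
    (ha : a ^ (p ^ j) = 1) (haZ : a ∉ Z) (hv : ¬ p ∣ orderOf v) :
    (θ : H → ℂ) (a * v) = 0 := by
  have hpp : p.Prime := Fact.out
  have := Fintype.ofFinite (H ⧸ Z)
  obtain ⟨ψ, hψ, hθψ⟩ := irr_deflation Z θ.2 hker
  have hcard : Nat.card H = Nat.card (H ⧸ Z) * Nat.card Z :=
    Subgroup.card_eq_card_quotient_mul_card_subgroup Z
  have hdψ : charDegree ψ = charDegree (θ : H → ℂ) := by
    rw [hθψ, charDegree_inflation]
  have hfac : (Nat.card (H ⧸ Z)).factorization p = (charDegree ψ).factorization p := by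
    have h2 : (Nat.card H).factorization p
        = (Nat.card (H ⧸ Z)).factorization p + (Nat.card Z).factorization p := by
      rw [hcard, Nat.factorization_mul Nat.card_pos.ne' Nat.card_pos.ne']
      rfl
    rw [hdψ]
    omega
  have hdvd : p ^ (Nat.card (H ⧸ Z)).factorization p ∣ charDegree ψ := by
    rw [hfac]
    exact Nat.ordProj_dvd _ _
  rw [hθψ]
  show ψ ((a * v : H) : H ⧸ Z) = 0
  apply defect_zero_vanish p (⟨ψ, hψ⟩ : IrrCharacter (H ⧸ Z)) hdvd
  rw [QuotientGroup.mk_mul]
  have hcomm' : Commute ((a : H) : H ⧸ Z) ((v : H) : H ⧸ Z) := by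
    show ((a : H) : H ⧸ Z) * ((v : H) : H ⧸ Z) = ((v : H) : H ⧸ Z) * ((a : H) : H ⧸ Z)
    rw [← QuotientGroup.mk_mul, ← QuotientGroup.mk_mul, hcomm.eq]
  have hv' : ¬ p ∣ orderOf ((v : H) : H ⧸ Z) := fun h =>
    hv (h.trans (orderOf_map_dvd (QuotientGroup.mk' Z) v))
  have ha1 : ((a : H) : H ⧸ Z) ≠ 1 := fun h => haZ ((QuotientGroup.eq_one_iff a).1 h)
  have ha' : ((a : H) : H ⧸ Z) ^ (p ^ j) = 1 := by
    rw [← QuotientGroup.mk_pow, ha]
    rfl
  have hdvd2 : orderOf ((a : H) : H ⧸ Z) ∣ p ^ j := orderOf_dvd_of_pow_eq_one ha'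
  obtain ⟨i, -, hi⟩ := (Nat.dvd_prime_pow hpp).1 hdvd2
  have hi0 : i ≠ 0 := by
    rintro rfl
    rw [pow_zero, orderOf_eq_one_iff] at hi
    exact ha1 hi
  have hpa : p ∣ orderOf ((a : H) : H ⧸ Z) := by
    rw [hi]
    exact dvd_pow_self p hi0
  exact dvd_orderOf_mul_of_commute hpp hcomm' hv' hpa

end Central33

end Cfsg.Agent.helper24
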