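import Mathlib
import Cfsg.Agent.Lib_helper24_BPair33

/-!
Brauer pairs (helper24), part 34: blocks with a central defect group and characters of central
defect zero.
-/

set_option autoImplicit false

namespace Cfsg.Agent.helper24

open Cfsg Cfsg.Agent.helper5 Cfsg.Agent.helper8
open scoped ComplexConjugate

universe u

section Ratio34

variable {M : Ideal AlgInt} {p : ℕ} [Fact p.Prime]

/-- a ratio of natural numbers as a power of `p` times a local integer -/
theorem ratio_local (hM : IsPModular p M) {n d z : ℕ} (hn : 0 < n) (hd : 0 < d) (hz : 0 < z)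
    (k : ℕ) (h : n.factorization p + k = d.factorization p + z.factorization p) :
    ∃ r : ℂ, MemLocalRing M r ∧ (n : ℂ)⁻¹ * ((d : ℂ) * (z : ℂ)) = (p : ℂ) ^ k * r := by
  have hpp : p.Prime := Fact.out
  have hMp : M.IsPrime := hM.2.1.isPrime
  have hMtop : M ≠ ⊤ := hMp.ne_top
  have hn1 : p ^ n.factorization p * (n / p ^ n.factorization p) = n :=
    Nat.ordProj_mul_ordCompl_eq_self n p
  have hc' : ¬ p ∣ n / p ^ n.factorization p := Nat.not_dvd_ordCompl hpp hn.ne'
  have hdz : (d * z).factorization p = n.factorization p + k := by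
    rw [Nat.factorization_mul hd.ne' hz.ne']
    show d.factorization p + z.factorization p = n.factorization p + k
    omega
  have hdvd : p ^ (n.factorization p + k) ∣ d * z := by
    rw [← hdz]
    exact Nat.ordProj_dvd _ _
  obtain ⟨t, ht⟩ := hdvd
  obtain ⟨c, hc⟩ : ∃ c : ℕ, c = n / p ^ n.factorization p := ⟨_, rfl⟩
  rw [← hc] at hn1 hc'
  refine ⟨(t : ℂ) * (c : ℂ)⁻¹, ?_, ?_⟩
  · exact memLocalRing_mul (memLocalRing_of_integral hMtop (isIntegral_natCast_complex t))
      (memLocalRing_inv (memLocalRing_of_integral hMtop (isIntegral_natCast_complex c))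
        (natCast_not_memLocalIdeal hM hc'))
  · have hc0 : (c : ℂ) ≠ 0 := by
      intro h0
      have : c = 0 := by exact_mod_cast h0
      rw [this, mul_zero] at hn1
      omega
    have hp0 : (p : ℂ) ≠ 0 := by exact_mod_cast hpp.ne_zero
    have e1 : (n : ℂ) = (p : ℂ) ^ n.factorization p * (c : ℂ) := by
      have h1 : ((p ^ n.factorization p * c : ℕ) : ℂ) = (n : ℂ) := by rw [hn1]
      push_cast at h1
      exact h1.symm
    have e2 : (d : ℂ) * (z : ℂ) = (p : ℂ) ^ (n.factorization p + k) * (t : ℂ) := by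
      have h1 : ((d * z : ℕ) : ℂ) = ((p ^ (n.factorization p + k) * t : ℕ) : ℂ) := by rw [ht]
      push_cast at h1
      exact h1
    rw [e1, e2, pow_add]
    field_simp

end Ratio34

section Central34

variable {H : Type u} [Group H] [Fintype H] {M : Ideal AlgInt} {p : ℕ} [Fact p.Prime]

open Classical in
theorem coset_sum_of_ker (Z : Subgroup H) [Z.Normal] (χ : IrrCharacter H)
    (hker : ∀ z ∈ Z, (χ : H → ℂ) z = (χ : H → ℂ) 1) (g : H) :
    ∑ h : H, (if h ∈ Z then (χ : H → ℂ) (g * h) else 0) = (Nat.card Z : ℂ) * (χ : H → ℂ) g := by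
  obtain ⟨ψ, hψ, hθψ⟩ := irr_deflation Z χ.2 hker
  have hcoset : ∀ h : H, h ∈ Z → (χ : H → ℂ) (g * h) = (χ : H → ℂ) g := by
    intro h hh
    rw [hθψ]
    show ψ ((g * h : H) : H ⧸ Z) = ψ ((g : H) : H ⧸ Z)
    rw [QuotientGroup.mk_mul, (QuotientGroup.eq_one_iff h).2 hh, mul_one]
  have h1 : ∀ h : H, (if h ∈ Z then (χ : H → ℂ) (g * h) else 0)
      = if h ∈ Z then (χ : H → ℂ) g else 0 := by
    intro h
    split_ifs with hh
    · exact hcoset h hh
    · rfl
  rw [Finset.sum_congr rfl (fun h _ => h1 h), Finset.sum_ite, Finset.sum_const_zero, add_zero,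
    Finset.sum_const, nsmul_eq_mul]
  congr 1
  rw [Nat.card_eq_fintype_card, Fintype.card_subtype]

theorem defectClass_pregular (hM : IsPModular p M) (e : Set (IrrCharacter H))
    (he : IsPBlock M e) {g₀ : H} (hdef : IsDefectClass M e g₀) : ¬ p ∣ orderOf g₀ := by
  have hMtop : M ≠ ⊤ := hM.2.1.isPrime.ne_top
  intro h
  apply hdef.2.1
  rw [Cfsg.Agent.helper1.blockCoeff_eq_zero_of_singular p M hM e he g₀ h]
  exact memLocalIdeal_zero hMtop

set_option maxHeartbeats 1600000 in
/-- a block containing a character of central defect zero has the central subgroup as defect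
group -/
theorem central_defect_of_character (hM : IsPModular p M) (Z : Subgroup H) [Z.Normal]
    (hZp : IsPGroup p Z) (hZc : ∀ z ∈ Z, ∀ x : H, z * x = x * z)
    (e : Set (IrrCharacter H)) (he : IsPBlock M e) (θ : IrrCharacter H) (hθ : θ ∈ e)
    (hker : ∀ z ∈ Z, (θ : H → ℂ) z = (θ : H → ℂ) 1)
    (hdeg : (charDegree (θ : H → ℂ)).factorization p + (Nat.card Z).factorization p
      = (Nat.card H).factorization p) :
    p ^ blockDefect p e = Nat.card Z := by
  classical
  have hpp : p.Prime := Fact.out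
  have hMp : M.IsPrime := hM.2.1.isPrime
  have hMtop : M ≠ ⊤ := hMp.ne_top
  obtain ⟨g₀, hdef⟩ := exists_defectClass p M hM e he
  have hg₀ : ¬ p ∣ orderOf g₀ := defectClass_pregular hM e he hdef
  obtain ⟨D, hDdef⟩ : ∃ D : Subgroup H, D = ((default : Sylow p
      ↥(Subgroup.centralizer ({g₀} : Set H))) : Subgroup
      ↥(Subgroup.centralizer ({g₀} : Set H))).map
      (Subgroup.centralizer ({g₀} : Set H)).subtype := ⟨_, rfl⟩
  have hD : IsDefectGroup p M e D := ⟨g₀, hdef, default, hDdef⟩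
  have hcardD := card_defectGroup p M hM e he D hD
  have hZD : Z ≤ D :=
    (le_sSup ⟨inferInstance, hZp⟩ : Z ≤ pCore p H).trans
      (pCore_le_defectGroup p M hM e he D hD)
  rw [← hcardD]
  by_contra hne
  have hnle : ¬ D ≤ Z := fun hDZ => hne (by rw [le_antisymm hDZ hZD])
  obtain ⟨a, haD, haZ⟩ := SetLike.not_le_iff_exists.1 hnle
  have haC : a ∈ Subgroup.centralizer ({g₀} : Set H) := by
    rw [hDdef] at haD
    obtain ⟨a', -, rfl⟩ := haD
    exact a'.2
  have hag : Commute a g₀ := by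
    have h1 := Subgroup.mem_centralizer_singleton_iff.1 haC
    exact h1
  have hcomm : Commute a g₀⁻¹ := hag.inv_right
  obtain ⟨j, hj⟩ := (defectGroup_isPGroup p M e D hD) ⟨a, haD⟩
  have haj : a ^ (p ^ j) = 1 := by
    have h1 := congrArg Subtype.val hj
    rw [Subgroup.coe_pow] at h1
    exact h1
  have hβ := blockCoeff_of_central_defect_zero hM Z hZp hZc e he θ hθ hker hdeg g₀ hg₀
  have hginv : ¬ p ∣ orderOf g₀⁻¹ := by
    rw [orderOf_inv]
    exact hg₀
  have hvan := central_defect_zero_vanish Z θ hker hdeg hcomm haj haZ hginv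
  have hcong := char_congr_pregular_part hM (irr_isCharacter θ.2) a g₀⁻¹ hcomm haj
  rw [hvan, zero_sub] at hcong
  have h1 : MemIdeal M ((θ : H → ℂ) g₀⁻¹) := by
    have h2 := hcong.neg
    rwa [neg_neg] at h2
  apply hdef.2.1
  rw [hβ, map_mul, Complex.conj_natCast, ← char_inv (irr_isCharacter θ.2) g₀,
    ← char_charDegree_cast (irr_isCharacter θ.2)]
  obtain ⟨r, hr, hreq⟩ := ratio_local hM (n := Nat.card H) (d := charDegree (θ : H → ℂ))
    (z := Nat.card Z) Nat.card_pos (irr_charDegree_pos θ.2) Nat.card_pos 0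
    (by rw [add_zero]; exact hdeg.symm)
  have e1 : (Nat.card H : ℂ)⁻¹ * ((charDegree (θ : H → ℂ) : ℂ)
      * ((Nat.card Z : ℂ) * (θ : H → ℂ) g₀⁻¹))
      = ((Nat.card H : ℂ)⁻¹ * ((charDegree (θ : H → ℂ) : ℂ) * (Nat.card Z : ℂ)))
        * (θ : H → ℂ) g₀⁻¹ := by ring
  rw [e1, hreq, pow_zero, one_mul]
  exact memLocalIdeal_mul_left hr (h1.memLocalIdeal hMtop)

set_option maxHeartbeats 1600000 in
/-- a block with a central defect group contains a character of central defect zero -/
theorem exists_central_defect_zero_character (hM : IsPModular p M) (Z : Subgroup H) [Z.Normal]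
    (hZp : IsPGroup p Z) (hZc : ∀ z ∈ Z, ∀ x : H, z * x = x * z)
    (e : Set (IrrCharacter H)) (he : IsPBlock M e)
    (hdefect : p ^ blockDefect p e = Nat.card Z) :
    ∃ θ ∈ e, (∀ z ∈ Z, (θ : H → ℂ) z = (θ : H → ℂ) 1) ∧
      (charDegree (θ : H → ℂ)).factorization p + (Nat.card Z).factorization p
        = (Nat.card H).factorization p := by
  classical
  have hpp : p.Prime := Fact.out
  have hMp : M.IsPrime := hM.2.1.isPrime
  have hMtop : M ≠ ⊤ := hMp.ne_top
  by_contra hcon
  push Not at hcon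
  have := Fintype.ofFinite (IrrCharacter H)
  obtain ⟨g₀, hdef⟩ := exists_defectClass p M hM e he
  have hg₀ : ¬ p ∣ orderOf g₀ := defectClass_pregular hM e he hdef
  have hZfac : (Nat.card Z).factorization p = blockDefect p e := by
    rw [← hdefect, hpp.factorization_pow]
    simp
  apply hdef.2.1
  rw [blockCoeff_central_sum hM Z hZp hZc e he g₀ hg₀, Finset.mul_sum]
  apply memLocalIdeal_sum
  intro χ hχ
  rw [Finset.mem_filter] at hχ
  rcases irr_normal_dichotomy χ.2 Z with h1 | h1
  · rw [h1 g₀, map_zero, mul_zero, mul_zero]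
    exact memLocalIdeal_zero hMtop
  · have hne := hcon χ hχ.2 h1
    have hmin := sInf_add_blockDefect (p := p) e ⟨χ, hχ.2⟩
    have hle := sInf_le_degree (p := p) e hχ.2
    obtain ⟨k, hk⟩ : ∃ k : ℕ, (Nat.card H).factorization p + (k + 1)
        = (charDegree (χ : H → ℂ)).factorization p + (Nat.card Z).factorization p := by
      refine ⟨(charDegree (χ : H → ℂ)).factorization p + (Nat.card Z).factorization p
        - (Nat.card H).factorization p - 1, ?_⟩
      omega
    obtain ⟨r, hr, hreq⟩ := ratio_local hM (n := Nat.card H) (d := charDegree (χ : H → ℂ))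
      (z := Nat.card Z) Nat.card_pos (irr_charDegree_pos χ.2) Nat.card_pos (k + 1) hk
    rw [coset_sum_of_ker Z χ h1 g₀, map_mul, Complex.conj_natCast,
      ← char_inv (irr_isCharacter χ.2) g₀, ← char_charDegree_cast (irr_isCharacter χ.2)]
    have e1 : (Nat.card H : ℂ)⁻¹ * ((charDegree (χ : H → ℂ) : ℂ)
        * ((Nat.card Z : ℂ) * (χ : H → ℂ) g₀⁻¹))
        = ((Nat.card H : ℂ)⁻¹ * ((charDegree (χ : H → ℂ) : ℂ) * (Nat.card Z : ℂ)))
          * (χ : H → ℂ) g₀⁻¹ := by ring
    rw [e1, hreq, pow_succ]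
    have e2 : (p : ℂ) ^ k * (p : ℂ) * r * (χ : H → ℂ) g₀⁻¹
        = ((p : ℂ) ^ k * r * (χ : H → ℂ) g₀⁻¹) * (p : ℂ) := by ring
    rw [e2]
    apply memLocalIdeal_mul_left _ (prime_memLocalIdeal hM)
    apply memLocalRing_mul (memLocalRing_mul _ hr)
    · exact memLocalRing_of_integral hMtop (Cfsg.Agent.helper23.irr_isIntegral χ _)
    · exact memLocalRing_of_integral hMtop ((isIntegral_natCast_complex p).pow k)

end Central34

end Cfsg.Agent.helper24
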