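import Mathlib
import Cfsg.Agent.Lib_helper24_BPair34

/-!
Brauer pairs (helper24), part 35: a characterization of maximal Brauer pairs by characters of
central defect zero.
-/

set_option autoImplicit false

namespace Cfsg.Agent.helper24

open Cfsg Cfsg.Agent.helper5 Cfsg.Agent.helper8
open scoped ComplexConjugate

universe u

section Quot35

/-- an element of `p`-power order lies in every normal subgroup of index prime to `p` -/
theorem mem_of_pow_order_of_index {H : Type*} [Group H] [Finite H] {p : ℕ} [Fact p.Prime]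
    (N : Subgroup H) [N.Normal] (hidx : ¬ p ∣ N.index) (t : H) (k : ℕ)
    (ht : orderOf t = p ^ k) : t ∈ N := by
  have hpp : p.Prime := Fact.out
  rw [← QuotientGroup.eq_one_iff]
  have h1 : orderOf (QuotientGroup.mk t : H ⧸ N) ∣ p ^ k := by
    rw [← ht]
    exact orderOf_map_dvd (QuotientGroup.mk' N) t
  have h2 : orderOf (QuotientGroup.mk t : H ⧸ N) ∣ N.index := by
    rw [Subgroup.index_eq_card]
    exact orderOf_dvd_natCard _
  have hcop : Nat.Coprime (p ^ k) N.index :=
    Nat.Coprime.pow_left k ((Nat.Prime.coprime_iff_not_dvd hpp).2 hidx)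
  have h3 : orderOf (QuotientGroup.mk t : H ⧸ N) = 1 := Nat.eq_one_of_dvd_coprimes hcop h1 h2
  exact orderOf_eq_one_iff.1 h3

end Quot35

section QC35

variable {G : Type u} [Group G] [Fintype G] {M : Ideal AlgInt} {p : ℕ} [Fact p.Prime]

/-- `Q C(Q)` stabilizes every set of characters of `C(Q)` -/
theorem qc_le_stab (Q : Subgroup G)
    (f : Set (IrrCharacter ↥(Subgroup.centralizer (Q : Set G)))) :
    Q ⊔ Subgroup.centralizer (Q : Set G) ≤ stabSubgroup Q f :=
  sup_le (fun _ hq => ⟨Subgroup.le_normalizer hq, stabilizesBlock_of_mem Q f hq⟩)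
    (fun _ hc => ⟨Subgroup.centralizer_le_normalizer _ hc, stabilizesBlock_of_mem_self f hc⟩)

/-- the elements of `Q C(Q)` are products -/
theorem qc_decomp (Q : Subgroup G) (t : G) (ht : t ∈ Q ⊔ Subgroup.centralizer (Q : Set G)) :
    ∃ q ∈ Q, ∃ c ∈ Subgroup.centralizer (Q : Set G), q * c = t := by
  have hQNC : Q ≤ Subgroup.normalizer
      ((Subgroup.centralizer (Q : Set G) : Subgroup G) : Set G) :=
    fun q hq => Cfsg.Agent.helper1.normalizer_le_normalizer_centralizer Q
      (Subgroup.le_normalizer hq)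
  have ht' : t ∈ ((Q ⊔ Subgroup.centralizer (Q : Set G) : Subgroup G) : Set G) := ht
  rw [Subgroup.coe_mul_of_left_le_normalizer_right Q _ hQNC] at ht'
  obtain ⟨q, hq, c, hc, hqc⟩ := ht'
  exact ⟨q, hq, c, hc, hqc⟩

set_option maxHeartbeats 1600000 in
/-- if the block `f` of `C(Q)` has defect group `Z(Q)`, then the block of `Q C(Q)` with the
idempotent of `f` has defect group `Q` -/
theorem qc_defect_eq (hM : IsPModular p M) {Q : Subgroup G} (hQ : IsPGroup p Q)
    (T : Subgroup G) (hT : T = Q ⊔ Subgroup.centralizer (Q : Set G))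
    (f : Set (IrrCharacter ↥(Subgroup.centralizer (Q : Set G)))) (hf : IsPBlock M f)
    (F' : Set (IrrCharacter ↥T)) (hF' : IsPBlock M F')
    (hcoef : ∀ t : ↥T, blockCoeff F' t
      = subgroupBlockCoeff (Subgroup.centralizer (Q : Set G)) f (t : G))
    (hcardf : p ^ blockDefect p f = Nat.card ↥(Q ⊓ Subgroup.centralizer (Q : Set G)))
    (D' : Subgroup ↥T) (hD' : IsDefectGroup p M F' D') : D' = Q.subgroupOf T := by
  classical
  have hQT : Q ≤ T := by
    rw [hT]
    exact le_sup_left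
  have hCT : Subgroup.centralizer (Q : Set G) ≤ T := by
    rw [hT]
    exact le_sup_right
  have hTst : T ≤ stabSubgroup Q f := by
    rw [hT]
    exact qc_le_stab Q f
  have hTN : T ≤ Subgroup.normalizer (Q : Set G) := fun t ht => (hTst ht).1
  have hstT : ∀ t ∈ T, StabilizesBlock (Subgroup.centralizer (Q : Set G)) f t :=
    fun t ht => (hTst ht).2
  have hdecomp : ∀ t : G, t ∈ T → ∃ q ∈ Q, ∃ c ∈ Subgroup.centralizer (Q : Set G),
      q * c = t := by
    intro t ht
    rw [hT] at ht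
    exact qc_decomp Q t ht
  have := Fintype.ofFinite ↥T
  have hQD : Q.subgroupOf T ≤ D' := subgroupOf_le_defectGroup p M hM hQ hTN F' hF' D' hD'
  obtain ⟨-, hcard⟩ := stab_fong hM hQ hQT hTN hCT f hf hstT F' hF' hcoef D' hD'
  have hZ'le : (Q ⊓ Subgroup.centralizer (Q : Set G)).subgroupOf T
      ≤ D' ⊓ Subgroup.centralizer ((Q.subgroupOf T : Subgroup ↥T) : Set ↥T) := by
    intro z hz
    have hz' : (z : G) ∈ Q ⊓ Subgroup.centralizer (Q : Set G) := Subgroup.mem_subgroupOf.1 hz
    exact ⟨hQD (Subgroup.mem_subgroupOf.2 hz'.1),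
      (mem_centralizer_subgroupOf_iff hQT z).2 hz'.2⟩
  have hcardZ : Nat.card ↥(D' ⊓ Subgroup.centralizer
      ((Q.subgroupOf T : Subgroup ↥T) : Set ↥T))
      ≤ Nat.card ↥((Q ⊓ Subgroup.centralizer (Q : Set G)).subgroupOf T) := by
    rw [hcard, hcardf, card_subgroupOf_eq_of_le24 (inf_le_left.trans hQT)]
  have hZeq := Subgroup.eq_of_le_of_card_ge hZ'le hcardZ
  apply le_antisymm _ hQD
  intro d hd
  obtain ⟨q, hq, c, hc, hqc⟩ := hdecomp (d : G) d.2
  have hcD : (⟨c, hCT hc⟩ : ↥T) ∈ D' := by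
    have e1 : (⟨c, hCT hc⟩ : ↥T) = (⟨q, hQT hq⟩ : ↥T)⁻¹ * d := by
      apply Subtype.ext
      show c = q⁻¹ * (d : G)
      rw [← hqc]
      group
    rw [e1]
    exact D'.mul_mem (D'.inv_mem (hQD (Subgroup.mem_subgroupOf.2 hq))) hd
  have hcZ : (⟨c, hCT hc⟩ : ↥T)
      ∈ D' ⊓ Subgroup.centralizer ((Q.subgroupOf T : Subgroup ↥T) : Set ↥T) :=
    ⟨hcD, (mem_centralizer_subgroupOf_iff hQT _).2 hc⟩
  rw [← hZeq] at hcZ
  have hcQ : c ∈ Q := (Subgroup.mem_subgroupOf.1 hcZ).1
  rw [Subgroup.mem_subgroupOf, ← hqc]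
  exact Q.mul_mem hq hcQ

/-- the centre of `Q` as a central subgroup of `C(Q)` -/
theorem zq_central (Q : Subgroup G) :
    ∀ z ∈ (Q ⊓ Subgroup.centralizer (Q : Set G)).subgroupOf (Subgroup.centralizer (Q : Set G)),
      ∀ x : ↥(Subgroup.centralizer (Q : Set G)), z * x = x * z := by
  intro z hz x
  have hz' : (z : G) ∈ Q ⊓ Subgroup.centralizer (Q : Set G) := Subgroup.mem_subgroupOf.1 hz
  apply Subtype.ext
  show (z : G) * (x : G) = (x : G) * (z : G)
  exact Subgroup.mem_centralizer_iff.1 x.2 (z : G) hz'.1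

theorem zq_normal (Q : Subgroup G) :
    ((Q ⊓ Subgroup.centralizer (Q : Set G)).subgroupOf
      (Subgroup.centralizer (Q : Set G))).Normal := by
  refine ⟨fun z hz x => ?_⟩
  have h := zq_central Q z hz x
  have e1 : x * z * x⁻¹ = z := by
    rw [← h]
    group
  rw [e1]
  exact hz

theorem zq_isPGroup {Q : Subgroup G} (hQ : IsPGroup p Q) :
    IsPGroup p ((Q ⊓ Subgroup.centralizer (Q : Set G)).subgroupOf
      (Subgroup.centralizer (Q : Set G))) :=
  (hQ.to_le inf_le_left).comap_subtype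

theorem zq_card (Q : Subgroup G) :
    Nat.card ((Q ⊓ Subgroup.centralizer (Q : Set G)).subgroupOf
      (Subgroup.centralizer (Q : Set G))) = Nat.card ↥(Q ⊓ Subgroup.centralizer (Q : Set G)) :=
  card_subgroupOf_eq_of_le24 inf_le_right

set_option maxHeartbeats 1600000 in
/-- a pair with a character of central defect zero and `p'`-stabilizer is maximal -/
theorem maximal_of_central_defect_zero (hM : IsPModular p M) (Q : Subgroup G)
    (e : Set (IrrCharacter (Subgroup.centralizer (Q : Set G)))) (he : IsBrauerPair p M Q e)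
    (θ : IrrCharacter ↥(Subgroup.centralizer (Q : Set G))) (hθ : θ ∈ e)
    (ha : ∀ z : Subgroup.centralizer (Q : Set G), (z : G) ∈ Q →
      (θ : Subgroup.centralizer (Q : Set G) → ℂ) z
        = (θ : Subgroup.centralizer (Q : Set G) → ℂ) 1)
    (hb : (charDegree (θ : Subgroup.centralizer (Q : Set G) → ℂ)).factorization p
      + (Nat.card ↥(Q ⊓ Subgroup.centralizer (Q : Set G))).factorization p
      = (Nat.card (Subgroup.centralizer (Q : Set G))).factorization p)
    (hc : ∀ g : G, g ∈ Subgroup.normalizer (Q : Set G) →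
      StabilizesBlock (Subgroup.centralizer (Q : Set G)) e g →
      (∃ k : ℕ, orderOf g = p ^ k) → g ∈ Q ⊔ Subgroup.centralizer (Q : Set G)) :
    ∃ B : Set (IrrCharacter G), IsMaximalBrauerPair p M B Q e := by
  classical
  have hQ : IsPGroup p Q := he.1
  have hf : IsPBlock M e := he.2
  have := Fintype.ofFinite ↥(Subgroup.centralizer (Q : Set G))
  have hZn := zq_normal Q
  have hcardf : p ^ blockDefect p e
      = Nat.card ↥(Q ⊓ Subgroup.centralizer (Q : Set G)) := by
    rw [← zq_card Q]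
    apply central_defect_of_character hM _ (zq_isPGroup hQ) (zq_central Q) e hf θ hθ
    · intro z hz
      exact ha z (Subgroup.mem_subgroupOf.1 hz).1
    · rw [zq_card Q]
      exact hb
  obtain ⟨B, hB, -⟩ := brauer_pair_unique_block p M hM Q e he
  refine ⟨B, hB, ?_⟩
  intro R g hRg hle
  by_contra hne
  have hQR : Q ≤ R := Cfsg.Agent.helper1.subpairLE_le hle
  have hlt : Q < R := lt_of_le_of_ne hQR (Ne.symm hne)
  have hRp : IsPGroup p R := hRg.1.1
  obtain ⟨x, hxR, hxN, hxQ⟩ := Cfsg.Agent.helper1.exists_normalizing_not_mem hRp hlt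
  obtain ⟨S, hS⟩ : ∃ S : Subgroup G, S = R ⊓ Subgroup.normalizer (Q : Set G) := ⟨_, rfl⟩
  have hQS : Q ≤ S := by
    rw [hS]
    exact le_inf hQR Subgroup.le_normalizer
  have hSR : S ≤ R := by
    rw [hS]
    exact inf_le_left
  have hSN : S ≤ Subgroup.normalizer (Q : Set G) := by
    rw [hS]
    exact inf_le_right
  have hxS : x ∈ S := by
    rw [hS]
    exact ⟨hxR, hxN⟩
  obtain ⟨e', hn, -⟩ := normalSubpair_of_mid hM hRg.1 hle hQS hSR hSN
  obtain ⟨L, hL⟩ : ∃ L : Subgroup G, L = Q ⊔ Subgroup.centralizer (Q : Set G) := ⟨_, rfl⟩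
  have hSL : S ≤ L := by
    intro s hs
    rw [hL]
    apply hc s (hSN hs) (hn.2.2.2.2.1 s hs)
    obtain ⟨k, hk⟩ := (IsPGroup.iff_orderOf.1 hRp) ⟨s, hSR hs⟩
    rw [Subgroup.orderOf_mk] at hk
    exact ⟨k, hk⟩
  have hQL : Q ≤ L := by
    rw [hL]
    exact le_sup_left
  have hCL : Subgroup.centralizer (Q : Set G) ≤ L := by
    rw [hL]
    exact le_sup_right
  have hLst : L ≤ stabSubgroup Q e := by
    rw [hL]
    exact qc_le_stab Q e
  have hLN : L ≤ Subgroup.normalizer (Q : Set G) := fun t ht => (hLst ht).1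
  have hstL : ∀ t ∈ L, StabilizesBlock (Subgroup.centralizer (Q : Set G)) e t :=
    fun t ht => (hLst ht).2
  have := Fintype.ofFinite ↥L
  obtain ⟨FL, hFL, hcoef⟩ := stab_exists_block hM hQ hQL hLN hCL e hf hstL
  have hD := qc_defect_eq hM hQ L hL e hf FL hFL hcoef hcardf
  have hCS : Subgroup.centralizer (S : Set G) ≤ L :=
    (Subgroup.centralizer_le hQS).trans hCL
  obtain ⟨a, ha'⟩ : ∃ a : BrauerPairIdx ↥L, a = liftPair L hSL hCS e' := ⟨_, rfl⟩
  have hdn : dnPair L a = ⟨S, e'⟩ := by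
    rw [ha']
    exact dnPair_liftPair L hSL hCS e'
  have ha1 : a.1 = S.subgroupOf L := by
    rw [ha']
    rfl
  have hQa : Q.subgroupOf L ≤ a.1 := by
    rw [ha1]
    intro y hy
    exact Subgroup.mem_subgroupOf.2 (hQS (Subgroup.mem_subgroupOf.1 hy))
  have hbp : IsBrauerPair p M a.1 a.2 := by
    rw [ha']
    exact ⟨hn.2.1.1.comap_subtype, isPBlock_transportSet _ _ hn.2.1.2⟩
  have hpair : IsBrauerPairOf p M FL a.1 a.2 := by
    apply pairOf_of_normalSubpair_dn hQL hCL e FL hFL hcoef a hQa hbp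
    rw [hdn]
    exact hn
  obtain ⟨P₁, e₁, hmax₁, hle₁⟩ := exists_maximal_above FL hpair
  have hS1 : a.1 ≤ P₁ := Cfsg.Agent.helper1.subpairLE_le hle₁
  have hP₁ : P₁ = Q.subgroupOf L := hD P₁ (maximal_pair_defectGroup p hM FL _ _ hmax₁)
  rw [hP₁, ha1] at hS1
  have hx' : (⟨x, hSL hxS⟩ : ↥L) ∈ S.subgroupOf L := Subgroup.mem_subgroupOf.2 hxS
  exact hxQ (Subgroup.mem_subgroupOf.1 (hS1 hx'))

set_option maxHeartbeats 1600000 in
/-- a maximal pair has a character of central defect zero and `p'`-stabilizer -/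
theorem central_defect_zero_of_maximal (hM : IsPModular p M) (B : Set (IrrCharacter G))
    (Q : Subgroup G)
    (e : Set (IrrCharacter (Subgroup.centralizer (Q : Set G))))
    (hmax : IsMaximalBrauerPair p M B Q e) :
    ∃ θ ∈ e, (∀ z : Subgroup.centralizer (Q : Set G), (z : G) ∈ Q →
      (θ : Subgroup.centralizer (Q : Set G) → ℂ) z
        = (θ : Subgroup.centralizer (Q : Set G) → ℂ) 1) ∧
      (charDegree (θ : Subgroup.centralizer (Q : Set G) → ℂ)).factorization p
        + (Nat.card ↥(Q ⊓ Subgroup.centralizer (Q : Set G))).factorization p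
        = (Nat.card (Subgroup.centralizer (Q : Set G))).factorization p ∧
      (∀ g : G, g ∈ Subgroup.normalizer (Q : Set G) →
        StabilizesBlock (Subgroup.centralizer (Q : Set G)) e g →
        (∃ k : ℕ, orderOf g = p ^ k) → g ∈ Q ⊔ Subgroup.centralizer (Q : Set G)) := by
  classical
  have he : IsBrauerPair p M Q e := hmax.1.1
  have hQ : IsPGroup p Q := he.1
  have hf : IsPBlock M e := he.2
  have := Fintype.ofFinite ↥(Subgroup.centralizer (Q : Set G))
  obtain ⟨T, hTdef⟩ : ∃ T : Subgroup G, T = stabSubgroup Q e := ⟨_, rfl⟩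
  have hT : ∀ y : G, y ∈ T ↔ y ∈ Subgroup.normalizer (Q : Set G) ∧
      StabilizesBlock (Subgroup.centralizer (Q : Set G)) e y := by
    intro y
    rw [hTdef]
    exact mem_stabSubgroup Q e y
  have := Fintype.ofFinite ↥T
  obtain ⟨F, hF, hcoef, hdef⟩ := maximal_stab_defectGroup hM B hmax hT
  have hLT : Q ⊔ Subgroup.centralizer (Q : Set G) ≤ T := by
    rw [hTdef]
    exact qc_le_stab Q e
  have hQT : Q ≤ T := le_sup_left.trans hLT
  have hCT : Subgroup.centralizer (Q : Set G) ≤ T := le_sup_right.trans hLT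
  have hTN : T ≤ Subgroup.normalizer (Q : Set G) := fun t ht => ((hT t).1 ht).1
  have hstT : ∀ t ∈ T, StabilizesBlock (Subgroup.centralizer (Q : Set G)) e t :=
    fun t ht => ((hT t).1 ht).2
  obtain ⟨hidx, hcard⟩ := stab_fong hM hQ hQT hTN hCT e hf hstT F hF hcoef _ hdef
  have hZeq : (Q ⊓ Subgroup.centralizer (Q : Set G)).subgroupOf T
      = Q.subgroupOf T ⊓ Subgroup.centralizer ((Q.subgroupOf T : Subgroup ↥T) : Set ↥T) := by
    ext z
    rw [Subgroup.mem_inf, mem_centralizer_subgroupOf_iff hQT, Subgroup.mem_subgroupOf,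
      Subgroup.mem_subgroupOf, Subgroup.mem_inf]
  have hcardf : p ^ blockDefect p e
      = Nat.card ↥(Q ⊓ Subgroup.centralizer (Q : Set G)) := by
    rw [← hcard, ← hZeq]
    exact card_subgroupOf_eq_of_le24 (inf_le_left.trans hQT)
  have hZn := zq_normal Q
  have hdefect : p ^ blockDefect p e = Nat.card ((Q ⊓ Subgroup.centralizer (Q : Set G)).subgroupOf
      (Subgroup.centralizer (Q : Set G))) := by
    rw [zq_card Q]
    exact hcardf
  obtain ⟨θ, hθ, hker, hdeg⟩ := exists_central_defect_zero_character hM _ (zq_isPGroup hQ)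
    (zq_central Q) e hf hdefect
  refine ⟨θ, hθ, ?_, ?_, ?_⟩
  · intro z hz
    exact hker z (Subgroup.mem_subgroupOf.2 ⟨hz, z.2⟩)
  · rw [zq_card Q] at hdeg
    exact hdeg
  · rintro g hgN hgst ⟨k, hk⟩
    have hgT : g ∈ T := (hT g).2 ⟨hgN, hgst⟩
    have hQ'n : (Q.subgroupOf T).Normal := Subgroup.normal_subgroupOf_of_le_normalizer hTN
    have hCn : (Subgroup.centralizer ((Q.subgroupOf T : Subgroup ↥T) : Set ↥T)).Normal :=
      inferInstance
    have hLn : (Q.subgroupOf T ⊔ Subgroup.centralizer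
        ((Q.subgroupOf T : Subgroup ↥T) : Set ↥T)).Normal := inferInstance
    have hk' : orderOf (⟨g, hgT⟩ : ↥T) = p ^ k := by
      rw [Subgroup.orderOf_mk]
      exact hk
    have hmem := mem_of_pow_order_of_index _ hidx (⟨g, hgT⟩ : ↥T) k hk'
    have hle : Q.subgroupOf T ⊔ Subgroup.centralizer
        ((Q.subgroupOf T : Subgroup ↥T) : Set ↥T)
        ≤ (Q ⊔ Subgroup.centralizer (Q : Set G)).subgroupOf T := by
      apply sup_le
      · intro y hy
        exact Subgroup.mem_subgroupOf.2 (le_sup_left (a := Q) (Subgroup.mem_subgroupOf.1 hy))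
      · intro y hy
        exact Subgroup.mem_subgroupOf.2
          (le_sup_right (a := Q) ((mem_centralizer_subgroupOf_iff hQT y).1 hy))
    exact Subgroup.mem_subgroupOf.1 (hle hmem)

end QC35

end Cfsg.Agent.helper24
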