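import Mathlib
import Cfsg.Agent.Lib_helper24_BPair35
import Cfsg.Agent.Lib_helper24_PrincipalLocal

/-!
Brauer pairs (helper24), part 36: maximal pairs from the first main theorem; the inertial quotient
of a block with a cyclic defect group.
-/

set_option autoImplicit false

namespace Cfsg.Agent.helper24

open Cfsg Cfsg.Agent.helper5 Cfsg.Agent.helper8
open scoped ComplexConjugate

universe u

section Cyc36

variable {G : Type*} [Group G]

/-- conjugation by powers of an element acting as a power map -/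
theorem conj_pow_zpow36 {t g : G} {a : ℤ} (h : t * g * t⁻¹ = g ^ a) (j : ℕ) :
    t ^ j * g * (t ^ j)⁻¹ = g ^ (a ^ j) := by
  induction j with
  | zero => simp
  | succ j ih =>
    have e1 : t ^ (j + 1) * g * (t ^ (j + 1))⁻¹ = t * (t ^ j * g * (t ^ j)⁻¹) * t⁻¹ := by
      rw [pow_succ']
      group
    have e2 : t * g ^ (a ^ j) * t⁻¹ = (t * g * t⁻¹) ^ (a ^ j) := by
      rw [conj_zpow]
    rw [e1, ih, e2, h, ← zpow_mul, pow_succ']

/-- an element of a group normalizing a cyclic `p`-subgroup and fixing a non-identity element of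
it has a `p`-power centralizing the subgroup -/
theorem cyclic_fix_pow36 {p : ℕ} [Fact p.Prime] {t g x : G} {n : ℕ} (hn : 1 ≤ n)
    (hg : orderOf g = p ^ n)
    (ht : t * g * t⁻¹ ∈ Subgroup.zpowers g) (hx : x ∈ Subgroup.zpowers g) (hx1 : x ≠ 1)
    (hfix : t * x * t⁻¹ = x) :
    t ^ (p ^ (n - 1)) * g * (t ^ (p ^ (n - 1)))⁻¹ = g := by
  have hpp : p.Prime := Fact.out
  obtain ⟨a, ha⟩ := Subgroup.mem_zpowers_iff.1 ht
  obtain ⟨k, hk⟩ := Subgroup.mem_zpowers_iff.1 hx
  have h1 : t * g * t⁻¹ = g ^ a := ha.symm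
  have h2 : g ^ (a * k) = g ^ k := by
    rw [zpow_mul, ← h1, conj_zpow, hk, hfix]
  have h3 : (orderOf g : ℤ) ∣ a * k - k := by
    rw [orderOf_dvd_iff_zpow_eq_one, zpow_sub, h2, mul_inv_cancel]
  have h4 : ¬ (orderOf g : ℤ) ∣ k := by
    intro h
    apply hx1
    rw [← hk]
    exact orderOf_dvd_iff_zpow_eq_one.1 h
  have h5 : (p : ℤ) ∣ a - 1 := by
    by_contra hnd
    have hnd' : ¬ p ∣ (a - 1).natAbs := fun h => hnd (Int.natCast_dvd.2 h)
    have hcop : Nat.Coprime (p ^ n) (a - 1).natAbs :=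
      Nat.Coprime.pow_left n ((Nat.Prime.coprime_iff_not_dvd hpp).2 hnd')
    have hcop' : IsCoprime ((p ^ n : ℕ) : ℤ) (a - 1) := by
      rw [Int.isCoprime_iff_gcd_eq_one]
      exact hcop
    have h6 : ((p ^ n : ℕ) : ℤ) ∣ k * (a - 1) := by
      have e1 : a * k - k = k * (a - 1) := by ring
      rw [← e1, ← hg]
      exact h3
    apply h4
    rw [hg]
    exact hcop'.dvd_of_dvd_mul_right h6
  have h7 := dvd_sub_pow_of_dvd_sub h5 (n - 1)
  have hn1 : n - 1 + 1 = n := by omega
  rw [hn1, one_pow] at h7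
  rw [conj_pow_zpow36 h1]
  have h8 : g ^ (a ^ p ^ (n - 1) - 1) = 1 := by
    rw [← orderOf_dvd_iff_zpow_eq_one, hg]
    push_cast
    exact h7
  calc g ^ (a ^ p ^ (n - 1)) = g ^ (a ^ p ^ (n - 1) - 1 + 1) := by rw [sub_add_cancel]
    _ = g := by rw [zpow_add, h8, one_mul, zpow_one]

/-- an element with a `p`-power in a normal subgroup of index prime to `p` lies in it -/
theorem mem_of_pow_mem_of_index36 {H : Type*} [Group H] [Finite H] {p : ℕ} [Fact p.Prime]
    (N : Subgroup H) [N.Normal] (hidx : ¬ p ∣ N.index) (t : H) (k : ℕ)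
    (ht : t ^ (p ^ k) ∈ N) : t ∈ N := by
  have hpp : p.Prime := Fact.out
  rw [← QuotientGroup.eq_one_iff]
  have h1 : orderOf (QuotientGroup.mk t : H ⧸ N) ∣ p ^ k := by
    apply orderOf_dvd_of_pow_eq_one
    rw [← QuotientGroup.mk_pow]
    exact (QuotientGroup.eq_one_iff _).2 ht
  have h2 : orderOf (QuotientGroup.mk t : H ⧸ N) ∣ N.index := by
    rw [Subgroup.index_eq_card]
    exact orderOf_dvd_natCard _
  have hcop : Nat.Coprime (p ^ k) N.index :=
    Nat.Coprime.pow_left k ((Nat.Prime.coprime_iff_not_dvd hpp).2 hidx)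
  have h3 : orderOf (QuotientGroup.mk t : H ⧸ N) = 1 := Nat.eq_one_of_dvd_coprimes hcop h1 h2
  exact orderOf_eq_one_iff.1 h3

/-- the automorphism group of a cyclic group of order `p ^ n` maps to the units of `ZMod p` with
a kernel of `p`-power order -/
theorem exists_hom_mulAut_cyclic36 {p : ℕ} [Fact p.Prime] (P : Type*) [Group P] [Finite P]
    [IsCyclic P] {n : ℕ} (hn : 1 ≤ n) (hcard : Nat.card P = p ^ n) :
    ∃ ψ : MulAut P →* (ZMod p)ˣ, Nat.card ψ.ker = p ^ (n - 1) := by
  have hpp : p.Prime := Fact.out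
  have hdvd : p ∣ Nat.card P := by
    rw [hcard]
    exact dvd_pow_self p (by omega)
  have hne : NeZero (Nat.card P) := ⟨Nat.card_pos.ne'⟩
  obtain ⟨ψ, hψ⟩ : ∃ ψ : MulAut P →* (ZMod p)ˣ,
      ψ = (ZMod.unitsMap hdvd).comp (IsCyclic.mulAutMulEquiv P).toMonoidHom := ⟨_, rfl⟩
  have hsurj : Function.Surjective ψ := by
    rw [hψ]
    exact (ZMod.unitsMap_surjective hdvd).comp (IsCyclic.mulAutMulEquiv P).surjective
  refine ⟨ψ, ?_⟩
  have h1 : Nat.card ψ.ker * ψ.ker.index = Nat.card (MulAut P) := Subgroup.card_mul_index _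
  have h2 : ψ.ker.index = p - 1 := by
    rw [Subgroup.index_ker, MonoidHom.range_eq_top.2 hsurj, Subgroup.card_top,
      Nat.card_eq_fintype_card, ZMod.card_units_eq_totient, Nat.totient_prime hpp]
  have h3 : Nat.card (MulAut P) = p ^ (n - 1) * (p - 1) := by
    rw [IsCyclic.card_mulAut, hcard, Nat.totient_prime_pow hpp (by omega)]
  rw [h2, h3] at h1
  have hp1 : 0 < p - 1 := by
    have := hpp.two_le
    omega
  exact Nat.eq_of_mul_eq_mul_right hp1 h1

end Cyc36

section MaxInd36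

variable {G : Type u} [Group G] [Fintype G] {M : Ideal AlgInt} {p : ℕ} [Fact p.Prime]

/-- a block of `C(P)` inducing `B`, for a defect group `P` of `B`, gives a maximal pair of `B` -/
theorem maximal_of_induced_defect (hM : IsPModular p M) (B : Set (IrrCharacter G))
    (P : Subgroup G) (hPD : IsDefectGroup p M B P)
    (c : Set (IrrCharacter (Subgroup.centralizer (P : Set G))))
    (hc : IsInducedBlock M (Subgroup.centralizer (P : Set G)) c B) :
    IsMaximalBrauerPair p M B P c := by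
  classical
  have hMp : M.IsPrime := hM.2.1.isPrime
  have hB : IsPBlock M B := hc.2.1
  have hPp : IsPGroup p P := defectGroup_isPGroup p M B P hPD
  have hpair : IsBrauerPair p M P c := ⟨hPp, hc.1⟩
  have := Fintype.ofFinite ↥(Subgroup.centralizer (P : Set G))
  obtain ⟨B', hB', -⟩ := brauer_pair_unique_block p M hM P c hpair
  have hind' := induced_of_brauerPair hM hB'
  have hBB' : B' = B := induced_block_unique (Subgroup.centralizer (P : Set G)) hind' hc
  rw [hBB'] at hB'
  refine ⟨hB', ?_⟩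
  intro R g hRg hle
  obtain ⟨P₂, e₂, hmax₂, hle₂⟩ := exists_maximal_above B hRg
  have hPR : P ≤ R := Cfsg.Agent.helper1.subpairLE_le hle
  have hRP₂ : R ≤ P₂ := Cfsg.Agent.helper1.subpairLE_le hle₂
  have h1 := card_defectGroup p M hM B hB _ (maximal_pair_defectGroup p hM B _ _ hmax₂)
  have h2 := card_defectGroup p M hM B hB _ hPD
  have hcard : Nat.card P₂ ≤ Nat.card P := by rw [h1, h2]
  have hPP₂ : P = P₂ := Subgroup.eq_of_le_of_card_ge (hPR.trans hRP₂) hcard
  apply le_antisymm _ hPR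
  rw [hPP₂]
  exact hRP₂

set_option maxHeartbeats 1600000 in
/-- the stabilizer of a maximal pair with commutative subgroup has index prime to `p` over the
centralizer -/
theorem maximal_abelian_index (hM : IsPModular p M) (B : Set (IrrCharacter G))
    {P T : Subgroup G} {e : Set (IrrCharacter (Subgroup.centralizer (P : Set G)))}
    (hmax : IsMaximalBrauerPair p M B P e) (hab : ∀ x ∈ P, ∀ y ∈ P, x * y = y * x)
    (hT : ∀ y : G, y ∈ T ↔ y ∈ Subgroup.normalizer (P : Set G) ∧
      StabilizesBlock (Subgroup.centralizer (P : Set G)) e y) :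
    ¬ p ∣ ((Subgroup.centralizer (P : Set G)).subgroupOf T).index := by
  classical
  have hPe : IsBrauerPair p M P e := hmax.1.1
  have hP : IsPGroup p P := hPe.1
  have hf : IsPBlock M e := hPe.2
  have := Fintype.ofFinite ↥T
  obtain ⟨F, hF, hcoef, hdef⟩ := maximal_stab_defectGroup hM B hmax hT
  have hTeq : T = stabSubgroup P e := by
    ext y
    rw [hT y, mem_stabSubgroup]
  have hLT : P ⊔ Subgroup.centralizer (P : Set G) ≤ T := by
    rw [hTeq]
    exact qc_le_stab P e
  have hPT : P ≤ T := le_sup_left.trans hLT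
  have hCT : Subgroup.centralizer (P : Set G) ≤ T := le_sup_right.trans hLT
  have hTN : T ≤ Subgroup.normalizer (P : Set G) := fun t ht => ((hT t).1 ht).1
  have hstT : ∀ t ∈ T, StabilizesBlock (Subgroup.centralizer (P : Set G)) e t :=
    fun t ht => ((hT t).1 ht).2
  obtain ⟨hidx, -⟩ := stab_fong hM hP hPT hTN hCT e hf hstT F hF hcoef _ hdef
  have hCeq : Subgroup.centralizer ((P.subgroupOf T : Subgroup ↥T) : Set ↥T)
      = (Subgroup.centralizer (P : Set G)).subgroupOf T := by
    ext z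
    rw [mem_centralizer_subgroupOf_iff hPT, Subgroup.mem_subgroupOf]
  have hsup : P.subgroupOf T ⊔ Subgroup.centralizer ((P.subgroupOf T : Subgroup ↥T) : Set ↥T)
      = (Subgroup.centralizer (P : Set G)).subgroupOf T := by
    rw [hCeq]
    apply sup_eq_right.2
    intro z hz
    rw [Subgroup.mem_subgroupOf, Subgroup.mem_centralizer_iff]
    intro q hq
    exact hab q hq (z : G) (Subgroup.mem_subgroupOf.1 hz)
  rw [hsup] at hidx
  exact hidx

set_option maxHeartbeats 1600000 in
/-- the inertial quotient of a block with a cyclic defect group -/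
theorem cyclic_inertial_quotient (hM : IsPModular p M) (B : Set (IrrCharacter G))
    (P : Subgroup G) (hPD : IsDefectGroup p M B P) (hP1 : P ≠ ⊥) (hcyc : IsCyclic P)
    (c : Set (IrrCharacter (Subgroup.centralizer (P : Set G))))
    (hc : IsInducedBlock M (Subgroup.centralizer (P : Set G)) c B) (T : Subgroup G)
    (hT : ∀ g : G, g ∈ T ↔ (g ∈ Subgroup.normalizer (P : Set G) ∧
      StabilizesBlock (Subgroup.centralizer (P : Set G)) c g))
    [hn : ((Subgroup.centralizer (P : Set G)).subgroupOf T).Normal] :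
    IsCyclic (T ⧸ (Subgroup.centralizer (P : Set G)).subgroupOf T) ∧
      (Subgroup.centralizer (P : Set G)).relIndex T ∣ p - 1 ∧
      ∀ g ∈ T, ∀ x ∈ P, x ≠ 1 → g * x * g⁻¹ = x → g ∈ Subgroup.centralizer (P : Set G) := by
  classical
  have hpp : p.Prime := Fact.out
  have hmax := maximal_of_induced_defect hM B P hPD c hc
  have hPp : IsPGroup p P := hmax.1.1.1
  obtain ⟨g₀, hg₀⟩ := hcyc.exists_generator
  have hab : ∀ x ∈ P, ∀ y ∈ P, x * y = y * x := by
    intro x hx y hy
    obtain ⟨i, hi⟩ := Subgroup.mem_zpowers_iff.1 (hg₀ ⟨x, hx⟩)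
    obtain ⟨j, hj⟩ := Subgroup.mem_zpowers_iff.1 (hg₀ ⟨y, hy⟩)
    have h1 : (⟨x, hx⟩ : ↥P) * ⟨y, hy⟩ = ⟨y, hy⟩ * ⟨x, hx⟩ := by
      rw [← hi, ← hj, ← zpow_add, ← zpow_add, add_comm]
    exact congrArg Subtype.val h1
  have hidx := maximal_abelian_index hM B hmax hab hT
  have hTN : T ≤ Subgroup.normalizer (P : Set G) := fun t ht => ((hT t).1 ht).1
  have hTeq : T = stabSubgroup P c := by
    ext y
    rw [hT y, mem_stabSubgroup]
  have hLT : P ⊔ Subgroup.centralizer (P : Set G) ≤ T := by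
    rw [hTeq]
    exact qc_le_stab P c
  have hPT : P ≤ T := le_sup_left.trans hLT
  obtain ⟨n, hcard⟩ := IsPGroup.iff_card.1 hPp
  have hn1 : 1 ≤ n := by
    rcases Nat.eq_zero_or_pos n with h0 | h0
    · exfalso
      apply hP1
      rw [h0, pow_zero] at hcard
      exact Subgroup.card_eq_one.1 hcard
    · exact h0
  have hmemP : ∀ x ∈ P, x ∈ Subgroup.zpowers (g₀ : G) := by
    intro x hx
    obtain ⟨i, hi⟩ := Subgroup.mem_zpowers_iff.1 (hg₀ ⟨x, hx⟩)
    refine Subgroup.mem_zpowers_iff.2 ⟨i, ?_⟩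
    have h1 := congrArg Subtype.val hi
    rw [Subgroup.coe_zpow] at h1
    exact h1
  have hord : orderOf (g₀ : G) = p ^ n := by
    rw [Subgroup.orderOf_coe, orderOf_eq_card_of_forall_mem_zpowers hg₀, hcard]
  -- the free action
  have hfree : ∀ g ∈ T, ∀ x ∈ P, x ≠ 1 → g * x * g⁻¹ = x →
      g ∈ Subgroup.centralizer (P : Set G) := by
    intro t ht x hx hx1 hfix
    have htg : t * (g₀ : G) * t⁻¹ ∈ Subgroup.zpowers (g₀ : G) := by
      apply hmemP
      exact (Subgroup.mem_normalizer_iff.1 (hTN ht) _).1 g₀.2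
    have h1 := cyclic_fix_pow36 hn1 hord htg (hmemP x hx) hx1 hfix
    have h2 : t ^ (p ^ (n - 1)) ∈ Subgroup.centralizer (P : Set G) := by
      rw [Subgroup.mem_centralizer_iff]
      intro y hy
      obtain ⟨i, hi⟩ := Subgroup.mem_zpowers_iff.1 (hmemP y hy)
      have h3 : (g₀ : G) * t ^ (p ^ (n - 1)) = t ^ (p ^ (n - 1)) * (g₀ : G) := by
        calc (g₀ : G) * t ^ (p ^ (n - 1))
            = (t ^ (p ^ (n - 1)) * (g₀ : G) * (t ^ (p ^ (n - 1)))⁻¹) * t ^ (p ^ (n - 1)) := by
              rw [h1]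
          _ = t ^ (p ^ (n - 1)) * (g₀ : G) := by group
      have h4 : Commute (g₀ : G) (t ^ (p ^ (n - 1))) := h3
      rw [← hi]
      exact (h4.zpow_left i)
    have h5 : (⟨t, ht⟩ : ↥T) ^ (p ^ (n - 1))
        ∈ (Subgroup.centralizer (P : Set G)).subgroupOf T := by
      rw [Subgroup.mem_subgroupOf, Subgroup.coe_pow]
      exact h2
    have h6 := mem_of_pow_mem_of_index36 _ hidx (⟨t, ht⟩ : ↥T) (n - 1) h5
    exact Subgroup.mem_subgroupOf.1 h6
  -- the map to the units
  have hfinP : Finite ↥P := inferInstance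
  obtain ⟨ψ, hψ⟩ := exists_hom_mulAut_cyclic36 (p := p) ↥P hn1 hcard
  obtain ⟨Φ, hΦ⟩ : ∃ Φ : ↥T →* (ZMod p)ˣ, Φ = ψ.comp (conjAutHom P T hTN) := ⟨_, rfl⟩
  have hCeq : Subgroup.centralizer ((P.subgroupOf T : Subgroup ↥T) : Set ↥T)
      = (Subgroup.centralizer (P : Set G)).subgroupOf T := by
    ext z
    rw [mem_centralizer_subgroupOf_iff hPT, Subgroup.mem_subgroupOf]
  have hker0 : (conjAutHom P T hTN).ker = (Subgroup.centralizer (P : Set G)).subgroupOf T := by
    rw [conjAutHom_ker P T hPT hTN, hCeq]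
  have hker : Φ.ker = (Subgroup.centralizer (P : Set G)).subgroupOf T := by
    rw [← hker0]
    apply le_antisymm
    · intro t ht
      rw [MonoidHom.mem_ker] at ht ⊢
      have h1 : conjAutHom P T hTN t ∈ ψ.ker := by
        rw [MonoidHom.mem_ker]
        rw [hΦ] at ht
        exact ht
      have h2 : orderOf (conjAutHom P T hTN t) ∣ p ^ (n - 1) := by
        have h3 : orderOf (⟨conjAutHom P T hTN t, h1⟩ : ↥ψ.ker) ∣ Nat.card ↥ψ.ker :=
          orderOf_dvd_natCard _
        rw [hψ, Subgroup.orderOf_mk] at h3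
        exact h3
      have h4 : orderOf (conjAutHom P T hTN t)
          ∣ ((Subgroup.centralizer (P : Set G)).subgroupOf T).index := by
        rw [← hker0, Subgroup.index_ker]
        have hmr : conjAutHom P T hTN t ∈ (conjAutHom P T hTN).range :=
          MonoidHom.mem_range.2 ⟨t, rfl⟩
        have h5 : orderOf (⟨conjAutHom P T hTN t, hmr⟩ : ↥(conjAutHom P T hTN).range)
            ∣ Nat.card ↥(conjAutHom P T hTN).range := orderOf_dvd_natCard _
        rw [Subgroup.orderOf_mk] at h5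
        exact h5
      have hcop : Nat.Coprime (p ^ (n - 1))
          ((Subgroup.centralizer (P : Set G)).subgroupOf T).index :=
        Nat.Coprime.pow_left _ ((Nat.Prime.coprime_iff_not_dvd hpp).2 hidx)
      exact orderOf_eq_one_iff.1 (Nat.eq_one_of_dvd_coprimes hcop h2 h4)
    · intro t ht
      rw [MonoidHom.mem_ker] at ht ⊢
      rw [hΦ, MonoidHom.comp_apply, ht, map_one]
  have hcycU : IsCyclic (ZMod p)ˣ := inferInstance
  have hcycR : IsCyclic ↥Φ.range := inferInstance
  have hnk : Φ.ker.Normal := inferInstance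
  obtain ⟨E, -⟩ : ∃ E : ↥Φ.range ≃* ↥T ⧸ (Subgroup.centralizer (P : Set G)).subgroupOf T,
      True := ⟨(QuotientGroup.quotientKerEquivRange Φ).symm.trans
        (QuotientGroup.quotientMulEquivOfEq hker), trivial⟩
  refine ⟨isCyclic_of_surjective E E.surjective, ?_, hfree⟩
  have h1 : (Subgroup.centralizer (P : Set G)).relIndex T = Nat.card ↥Φ.range := by
    rw [← Subgroup.index_ker, hker]
    rfl
  rw [h1]
  have h2 : Nat.card ↥Φ.range ∣ Nat.card (ZMod p)ˣ := Subgroup.card_subgroup_dvd_card _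
  rw [Nat.card_eq_fintype_card (α := (ZMod p)ˣ), ZMod.card_units_eq_totient,
    Nat.totient_prime hpp] at h2
  exact h2

end MaxInd36

end Cfsg.Agent.helper24
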