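import Mathlib
import Cfsg.Agent.Lib_helper24_BPair36
import Cfsg.Agent.Lib_helper24_CoverInd
import Cfsg.Agent.Lib_helper24_ExtFirstMain2
import Cfsg.Agent.S0970
import Cfsg.Agent.Lib_helper24_BrauerCorr2

/-!
helper1: a block `b` of `H` with defect group `D₀` and `C_G(D₀) ≤ H` induces a block of `G`
having a defect group `D ≥ D₀` with `C_D(D₀) ≤ D₀`.
-/

set_option autoImplicit false
set_option linter.unusedVariables false
set_option linter.unusedSectionVars false
set_option linter.style.haveILetI false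

namespace Cfsg.Agent.helper1

open Cfsg
open scoped ComplexConjugate

universe u

section CovDefect

variable {X : Type u} [Group X] [Fintype X]

/-- a block with normal defect group `Q` is induced by a block of a normal subgroup `Y ≥ C(Q)`
on which `X` acts trivially on characters; that block has defect `|Q ∩ Y|` -/
theorem cov_defect (p : ℕ) [Fact p.Prime] (M : Ideal AlgInt) (hM : IsPModular p M)
    (Q Y : Subgroup X) [hQn : Q.Normal] [hYn : Y.Normal] [Fintype Y] (hQ : IsPGroup p Q)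
    (hCY : Subgroup.centralizer (Q : Set X) ≤ Y)
    (hinn : ∀ (g : X) (θ : IrrCharacter Y) (n : Y),
      (θ : Y → ℂ) ⟨g * n * g⁻¹, hYn.conj_mem n n.2 g⟩ = (θ : Y → ℂ) n)
    (b₁ : Set (IrrCharacter X)) (hb₁ : IsPBlock M b₁) (hD : IsDefectGroup p M b₁ Q) :
    ∃ c : Set (IrrCharacter Y), IsInducedBlock M Y c b₁ ∧
      p ^ blockDefect p c = Nat.card ↥(Q ⊓ Y) := by
  classical
  have hMp : M.IsPrime := hM.2.1.isPrime
  have hMtop : M ≠ ⊤ := hMp.ne_top
  obtain ⟨ψ₁, hψ₁⟩ := helper24.isPBlock_nonempty hb₁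
  obtain ⟨θ₁, hθ₁⟩ := helper8.Cover.exists_under Y ψ₁.2
  have hθ₁c : θ₁ ∈ blockOf M (θ₁ : Y → ℂ) := helper24.sameBlock_refl M hMtop _
  have hc : IsPBlock M (blockOf M (θ₁ : Y → ℂ)) := ⟨θ₁, rfl⟩
  have hcov : ∃ χ ∈ b₁, ∃ θ ∈ blockOf M (θ₁ : Y → ℂ),
      classInner (fun n : Y => (χ : X → ℂ) n) (θ : Y → ℂ) ≠ 0 := ⟨ψ₁, hψ₁, θ₁, hθ₁c, hθ₁⟩
  have hind := helper24.induced_of_covering p M hM Q Y hQ hCY _ hc b₁ hb₁ hcov
  refine ⟨blockOf M (θ₁ : Y → ℂ), hind, ?_⟩
  have hinv : ∀ g : X, ∀ θ ∈ blockOf M (θ₁ : Y → ℂ), ∀ θ' : IrrCharacter Y,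
      (∀ n : Y, (θ' : Y → ℂ) n = (θ : Y → ℂ) ⟨g * n * g⁻¹, hYn.conj_mem n n.2 g⟩) →
      θ' ∈ blockOf M (θ₁ : Y → ℂ) := by
    intro g θ hθ θ' h
    have : θ' = θ := by
      apply Subtype.ext
      funext n
      rw [h n, hinn g θ n]
    rw [this]
    exact hθ
  have hmax : ∀ B' : Set (IrrCharacter X), IsPBlock M B' →
      (∃ χ ∈ B', ∃ θ ∈ blockOf M (θ₁ : Y → ℂ),
        classInner (fun n : Y => (χ : X → ℂ) n) (θ : Y → ℂ) ≠ 0) →
      blockDefect p B' ≤ blockDefect p b₁ := by
    intro B' hB' hcov'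
    have hind' := helper24.induced_of_covering p M hM Q Y hQ hCY _ hc B' hB' hcov'
    have : B' = b₁ := helper24.induced_block_unique Y hind' hind
    rw [this]
  have hS := Cfsg.Agent.S0970.result p M hM Y (blockOf M (θ₁ : Y → ℂ)) hc hinv b₁ hb₁ hcov hmax Q hD
  have hcard := helper24.card_defectGroup p M hM _ hc _ hS.2.1
  rw [← hcard]
  exact Nat.card_congr (Subgroup.subgroupOfEquivOfLe (inf_le_right : Q ⊓ Y ≤ Y)).toEquiv
end CovDefect

section Main

variable {G : Type u} [Group G] [Fintype G]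

/-- the root of the extended first main theorem, along an equality of subgroups -/
theorem ext_first_main_exists_eq (p : ℕ) [Fact p.Prime] (M : Ideal AlgInt) (hM : IsPModular p M)
    (B : Set (IrrCharacter G)) (hB : IsPBlock M B) (P : Subgroup G) (hP : IsDefectGroup p M B P)
    (K : Subgroup G) (hK : K = P ⊔ Subgroup.centralizer (P : Set G)) :
    ∃ b : Set (IrrCharacter ↥K), IsDefectGroup p M b (P.subgroupOf K) ∧
      IsInducedBlock M K b B := by
  subst hK
  exact helper24.ext_first_main_exists p M hM B hB P hP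

set_option maxHeartbeats 1600000 in
/-- a block `b` of `H` with defect group `D₀` and `C_G(D₀) ≤ H` induces a block of `G` with a
defect group `P₁ ≥ D₀` such that `C_{P₁}(D₀) ≤ D₀` -/
theorem induced_cent_main (p : ℕ) [Fact p.Prime] (M : Ideal AlgInt) (hM : IsPModular p M)
    (H : Subgroup G) (b : Set (IrrCharacter ↥H)) (hb : IsPBlock M b) (D₀ : Subgroup ↥H)
    (hD₀ : IsDefectGroup p M b D₀)
    (hC : Subgroup.centralizer ((D₀.map H.subtype : Subgroup G) : Set G) ≤ H) :
    ∃ B₁ : Set (IrrCharacter G), IsInducedBlock M H b B₁ ∧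
      ∃ P₁ : Subgroup G, IsDefectGroup p M B₁ P₁ ∧ D₀.map H.subtype ≤ P₁ ∧
        P₁ ⊓ Subgroup.centralizer ((D₀.map H.subtype : Subgroup G) : Set G)
          ≤ D₀.map H.subtype := by
  classical
  have hMp : M.IsPrime := hM.2.1.isPrime
  have hMtop : M ≠ ⊤ := hMp.ne_top
  haveI : Fintype ↥H := Fintype.ofFinite _
  obtain ⟨D, hDdef⟩ : ∃ D : Subgroup G, D = D₀.map H.subtype := ⟨_, rfl⟩
  rw [← hDdef] at hC ⊢
  have hDp : IsPGroup p D := by
    rw [hDdef]
    exact (helper24.defectGroup_isPGroup p M b D₀ hD₀).map _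
  have hDH : D ≤ H := by
    rw [hDdef]
    rintro _ ⟨x, -, rfl⟩
    exact x.2
  obtain ⟨L, hL⟩ : ∃ L : Subgroup G, L = D ⊔ Subgroup.centralizer (D : Set G) := ⟨_, rfl⟩
  have hDL : D ≤ L := by rw [hL]; exact le_sup_left
  have hCL : Subgroup.centralizer (D : Set G) ≤ L := by rw [hL]; exact le_sup_right
  have hLH : L ≤ H := by rw [hL]; exact sup_le hDH hC
  have hLN : L ≤ Subgroup.normalizer (D : Set G) := by
    rw [hL]
    exact helper24.sup_centralizer_le_normalizer D
  haveI : Fintype ↥L := Fintype.ofFinite _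
  haveI : Fintype ↥(L.subgroupOf H) := Fintype.ofFinite _
  haveI : Fintype ↥(Subgroup.centralizer (D : Set G)) := Fintype.ofFinite _
  have hD₀eq : D₀ = D.subgroupOf H := helper24.eq_subgroupOf_of_map_eq hDdef.symm
  have hLsub : L.subgroupOf H = D₀ ⊔ Subgroup.centralizer (D₀ : Set ↥H) := by
    rw [hD₀eq, helper24.centralizer_subgroupOf_eq hDH, hL]
    exact Subgroup.subgroupOf_sup hDH hC
  obtain ⟨β₀, hβ₀D, hβ₀ind⟩ :=
    ext_first_main_exists_eq p M hM b hb D₀ hD₀ (L.subgroupOf H) hLsub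
  obtain ⟨b₁, hb₁def⟩ : ∃ b₁ : Set (IrrCharacter ↥L),
      b₁ = helper24.transportSet (Subgroup.subgroupOfEquivOfLe hLH).symm β₀ := ⟨_, rfl⟩
  have hb₁ : IsPBlock M b₁ := by
    rw [hb₁def]
    exact helper24.isPBlock_transportSet _ β₀ hβ₀ind.1
  have htr : helper24.transportSet (Subgroup.subgroupOfEquivOfLe hLH) b₁ = β₀ := by
    rw [hb₁def]
    exact helper24.transportSet_symm _ β₀
  obtain ⟨ξ₁, hξ₁⟩ := helper24.isPBlock_nonempty hb₁
  obtain ⟨χ₁, -, hind₁⟩ := helper24.brauer_block_exists p M hM hDp hDL hCL hLN ξ₁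
  rw [helper24.blockOf_eq_of_mem hb₁ hξ₁] at hind₁
  have hindH : IsInducedBlock M H b (blockOf M (χ₁ : G → ℂ)) :=
    helper24.induced_trans_transport hLH b₁ b _ hind₁ (by rw [htr]; exact hβ₀ind)
  refine ⟨blockOf M (χ₁ : G → ℂ), hindH, ?_⟩
  -- the defect group of `b₁`
  have hdefb₁ : IsDefectGroup p M b₁ (D.subgroupOf L) := by
    obtain ⟨D₁, hD₁⟩ := helper24.exists_defectGroup p M hM b₁ hb₁
    have hle := helper24.subgroupOf_le_defectGroup p M hM hDp hLN b₁ hb₁ D₁ hD₁
    have hc1 := helper24.card_defectGroup p M hM b₁ hb₁ D₁ hD₁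
    have hc2 := helper24.card_defectGroup p M hM β₀ hβ₀ind.1 _ hβ₀D
    have hdef : blockDefect p b₁ = blockDefect p β₀ := by
      rw [hb₁def]
      exact helper24.blockDefect_transportSet p _ β₀
    have hD₀K : D₀ ≤ L.subgroupOf H := by rw [hLsub]; exact le_sup_left
    have hcardD : Nat.card (D.subgroupOf L) = Nat.card D₁ := by
      rw [hc1, hdef, ← hc2, Nat.card_congr (Subgroup.subgroupOfEquivOfLe hDL).toEquiv,
        Nat.card_congr (Subgroup.subgroupOfEquivOfLe hD₀K).toEquiv, hDdef,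
        Subgroup.card_map_of_injective (Subgroup.subtype_injective _)]
    have : D.subgroupOf L = D₁ := Subgroup.eq_of_le_of_card_ge hle hcardD.ge
    rw [this]
    exact hD₁
  -- pass to the centralizer
  haveI hQn : (D.subgroupOf L).Normal := Subgroup.normal_subgroupOf_of_le_normalizer hLN
  have hLNC : L ≤ Subgroup.normalizer
      ((Subgroup.centralizer (D : Set G) : Subgroup G) : Set G) :=
    fun x hx => helper1.normalizer_le_normalizer_centralizer D (hLN hx)
  haveI hYn : ((Subgroup.centralizer (D : Set G)).subgroupOf L).Normal :=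
    Subgroup.normal_subgroupOf_of_le_normalizer hLNC
  haveI : Fintype ↥((Subgroup.centralizer (D : Set G)).subgroupOf L) := Fintype.ofFinite _
  have hCY : Subgroup.centralizer ((D.subgroupOf L : Subgroup ↥L) : Set ↥L) ≤
      (Subgroup.centralizer (D : Set G)).subgroupOf L := by
    rw [helper24.centralizer_subgroupOf_eq hDL]
  have hinn : ∀ (g : ↥L) (θ : IrrCharacter ↥((Subgroup.centralizer (D : Set G)).subgroupOf L))
      (n : ↥((Subgroup.centralizer (D : Set G)).subgroupOf L)),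
      (θ : ↥((Subgroup.centralizer (D : Set G)).subgroupOf L) → ℂ)
        ⟨g * n * g⁻¹, hYn.conj_mem n n.2 g⟩
      = (θ : ↥((Subgroup.centralizer (D : Set G)).subgroupOf L) → ℂ) n := by
    intro g θ n
    obtain ⟨q, hq, c, hc, hqc⟩ := helper24.qc_decomp D (g : G) (by rw [← hL]; exact g.2)
    have hcf := helper24.char_isClassFunction (helper24.irr_isCharacter θ.2)
    have hy : (⟨c, hCL hc⟩ : ↥L) ∈ (Subgroup.centralizer (D : Set G)).subgroupOf L :=
      Subgroup.mem_subgroupOf.2 hc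
    have hn : ((n : ↥L) : G) ∈ Subgroup.centralizer (D : Set G) := Subgroup.mem_subgroupOf.1 n.2
    have hz : c * ((n : ↥L) : G) * c⁻¹ ∈ Subgroup.centralizer (D : Set G) :=
      mul_mem (mul_mem hc hn) (inv_mem hc)
    have hqz := Subgroup.mem_centralizer_iff.1 hz q hq
    have key : (⟨g * n * g⁻¹, hYn.conj_mem n n.2 g⟩ :
        ↥((Subgroup.centralizer (D : Set G)).subgroupOf L))
        = ⟨⟨c, hCL hc⟩, hy⟩ * n * ⟨⟨c, hCL hc⟩, hy⟩⁻¹ := by
      apply Subtype.ext
      apply Subtype.ext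
      show (g : G) * ((n : ↥L) : G) * (g : G)⁻¹ = c * ((n : ↥L) : G) * c⁻¹
      rw [← hqc]
      calc q * c * ((n : ↥L) : G) * (q * c)⁻¹ = q * (c * ((n : ↥L) : G) * c⁻¹) * q⁻¹ := by group
        _ = (c * ((n : ↥L) : G) * c⁻¹) * q * q⁻¹ := by rw [hqz]
        _ = c * ((n : ↥L) : G) * c⁻¹ := by group
    rw [key]
    exact hcf n _
  obtain ⟨c, hcind, hcdef⟩ := cov_defect p M hM (D.subgroupOf L)
    ((Subgroup.centralizer (D : Set G)).subgroupOf L) hDp.comap_subtype hCY hinn b₁ hb₁ hdefb₁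
  obtain ⟨f, hfdef⟩ : ∃ f : Set (IrrCharacter ↥(Subgroup.centralizer (D : Set G))),
      f = helper24.transportSet (Subgroup.subgroupOfEquivOfLe hCL).symm c := ⟨_, rfl⟩
  have hf : IsPBlock M f := by
    rw [hfdef]
    exact helper24.isPBlock_transportSet _ c hcind.1
  have htrf : helper24.transportSet (Subgroup.subgroupOfEquivOfLe hCL) f = c := by
    rw [hfdef]
    exact helper24.transportSet_symm _ c
  have hfdefect : blockDefect p f = blockDefect p c := by
    rw [hfdef]
    exact helper24.blockDefect_transportSet p _ c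
  have hfind : IsInducedBlock M (Subgroup.centralizer (D : Set G)) f
      (blockOf M (χ₁ : G → ℂ)) :=
    helper24.induced_trans_transport' hCL f hf b₁ _ (by rw [htrf]; exact hcind) hind₁
  have hpair : IsBrauerPair p M D f := ⟨hDp, hf⟩
  obtain ⟨B', hB', -⟩ := helper24.brauer_pair_unique_block p M hM D f hpair
  have hBB' : B' = blockOf M (χ₁ : G → ℂ) :=
    helper24.induced_block_unique _ (helper24.induced_of_brauerPair hM hB') hfind
  rw [hBB'] at hB'
  obtain ⟨P₁, e₁, hmax, hle⟩ := helper24.exists_maximal_above (blockOf M (χ₁ : G → ℂ)) hB'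
  have hP₁ := helper24.maximal_pair_defectGroup p hM _ P₁ e₁ hmax
  have hDP₁ : D ≤ P₁ := helper1.subpairLE_le hle
  refine ⟨P₁, hP₁, hDP₁, ?_⟩
  obtain ⟨Df, hDf, hPDf⟩ := helper24.cent_le_defectGroup hM hmax.1.1 hDP₁ hf hle
  -- the defect group of `f` is `Z(D)`
  have hZp : IsPGroup p (D ⊓ Subgroup.centralizer (D : Set G) : Subgroup G) :=
    hDp.to_le inf_le_left
  have hZN : Subgroup.centralizer (D : Set G) ≤ Subgroup.normalizer
      ((D ⊓ Subgroup.centralizer (D : Set G) : Subgroup G) : Set G) := by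
    intro x hx
    have hfix : ∀ m ∈ D, x * m * x⁻¹ = m := by
      intro m hm
      have := Subgroup.mem_centralizer_iff.1 hx m hm
      rw [← this, mul_inv_cancel_right]
    have hfix' : ∀ m ∈ D, x⁻¹ * m * x = m := by
      intro m hm
      have := Subgroup.mem_centralizer_iff.1 hx m hm
      rw [mul_assoc, this, inv_mul_cancel_left]
    rw [Subgroup.mem_normalizer_iff]
    intro m
    constructor
    · intro hm
      rw [hfix m hm.1]
      exact hm
    · intro hm
      have h1 := hfix' _ hm.1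
      have e : x⁻¹ * (x * m * x⁻¹) * x = m := by group
      rw [e] at h1
      rw [h1]
      exact hm
  have hZle := helper24.subgroupOf_le_defectGroup p M hM hZp hZN f hf Df hDf
  have hcardDf := helper24.card_defectGroup p M hM f hf Df hDf
  have hinfeq : (D.subgroupOf L ⊓ (Subgroup.centralizer (D : Set G)).subgroupOf L : Subgroup ↥L)
      = (D ⊓ Subgroup.centralizer (D : Set G)).subgroupOf L := by
    ext x
    simp only [Subgroup.mem_inf, Subgroup.mem_subgroupOf]
  have hZL : D ⊓ Subgroup.centralizer (D : Set G) ≤ L := inf_le_left.trans hDL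
  have hcardZ : Nat.card ((D ⊓ Subgroup.centralizer (D : Set G)).subgroupOf
      (Subgroup.centralizer (D : Set G))) = Nat.card Df := by
    rw [hcardDf, hfdefect, hcdef, hinfeq,
      Nat.card_congr (Subgroup.subgroupOfEquivOfLe hZL).toEquiv,
      Nat.card_congr (Subgroup.subgroupOfEquivOfLe
        (inf_le_right : D ⊓ Subgroup.centralizer (D : Set G) ≤ _)).toEquiv]
  have hZD : (D ⊓ Subgroup.centralizer (D : Set G)).subgroupOf
      (Subgroup.centralizer (D : Set G)) = Df :=
    Subgroup.eq_of_le_of_card_ge hZle hcardZ.ge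
  intro x hx
  have h1 : (⟨x, hx.2⟩ : ↥(Subgroup.centralizer (D : Set G))) ∈
      (P₁ ⊓ Subgroup.centralizer (D : Set G)).subgroupOf (Subgroup.centralizer (D : Set G)) :=
    Subgroup.mem_subgroupOf.2 hx
  have h2 := hPDf h1
  rw [← hZD] at h2
  exact (Subgroup.mem_subgroupOf.1 h2).1

end Main

end Cfsg.Agent.helper1
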