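import Mathlib
import Cfsg.Agent.Lib_helper24_CharConv
import Cfsg.Agent.Lib_helper24_BlockIdem
import Cfsg.Agent.Lib_helper1_ConjChar
import Cfsg.Agent.Lib_helper8_Ind

/-!
Frobenius–Schur indicators of induced characters, part 1: a twisted orthogonality relation
(helper1).
-/

set_option autoImplicit false

namespace Cfsg.Agent.helper1

open Cfsg
open scoped ComplexConjugate

universe u

section Twisted

variable {H : Type u} [Group H] [Fintype H]

/-- splitting formula `φ(xy) = φ(1)/|H| ∑_z φ(x z⁻¹) φ(z y)` -/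
theorem irr_split {φ : H → ℂ} (hφ : IsIrrCharacter H φ) (x y : H) :
    φ (x * y) = φ 1 / (Nat.card H : ℂ) * ∑ z : H, φ (x * z⁻¹) * φ (z * y) := by
  have h := helper24.irr_generalized_orthogonality hφ hφ (x * y)
  rw [if_pos rfl] at h
  have hG : (Nat.card H : ℂ) ≠ 0 := by exact_mod_cast Nat.card_pos.ne'
  have h1 := helper24.irr_apply_one_ne_zero hφ
  have h2 : ∑ z : H, φ (x * z⁻¹) * φ (z * y) = ∑ g : H, φ g * φ (x * y * g⁻¹) := by
    rw [← Fintype.sum_equiv (Equiv.mulRight y) (fun z : H => φ (x * z⁻¹) * φ (z * y))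
      (fun g : H => φ g * φ (x * y * g⁻¹)) (fun z => ?_)]
    show φ (x * z⁻¹) * φ (z * y) = φ (z * y) * φ (x * y * (z * y)⁻¹)
    have e : x * y * (z * y)⁻¹ = x * z⁻¹ := by group
    rw [e, mul_comm]
  rw [h2, h]
  field_simp

/-- twisted orthogonality: if `φ ∘ α ≠ φ̄` then `∑_n φ(a α(n) n) = 0` -/
theorem twisted_orth {φ : H → ℂ} (hφ : IsIrrCharacter H φ) (α : H ≃* H)
    (hne : (fun n => φ (α n)) ≠ fun n => conj (φ n)) (a : H) :
    ∑ n : H, φ (a * α n * n) = 0 := by
  have hcf := helper24.char_isClassFunction (helper24.irr_isCharacter hφ)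
  have hφ' : IsIrrCharacter H (fun n => φ (α n)) :=
    helper8.isIrrCharacter_comp_mulEquiv α hφ
  have hφc : IsIrrCharacter H (fun n => conj (φ n)) := isIrrCharacter_conj hφ
  -- inner sums vanish
  have hinner : ∀ z : H, ∑ n : H, φ (a * α n * z⁻¹) * φ (z * n) = 0 := by
    intro z
    set b : H := α.symm (z⁻¹ * a) with hb
    have e1 : ∀ n : H, φ (a * α n * z⁻¹) = φ (α (b * n)) := by
      intro n
      rw [map_mul, hb, MulEquiv.apply_symm_apply]
      have := hcf (a * α n * z⁻¹) z⁻¹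
      rw [← this]
      congr 1
      group
    have e2 : ∀ n : H, φ (z * n) = conj (φ (b * z⁻¹ * (b * n)⁻¹)) := by
      intro n
      rw [← helper24.char_inv (helper24.irr_isCharacter hφ)]
      have := hcf (z * n) (b * n)
      rw [← this]
      congr 1
      group
    have h := helper24.irr_generalized_orthogonality hφ' hφc (b * z⁻¹)
    rw [if_neg hne] at h
    rw [← h]
    rw [← Fintype.sum_equiv (Equiv.mulLeft b) (fun n : H => φ (a * α n * z⁻¹) * φ (z * n))
      (fun g : H => (fun n => φ (α n)) g * (fun n => conj (φ n)) (b * z⁻¹ * g⁻¹)) (fun n => ?_)]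
    show φ (a * α n * z⁻¹) * φ (z * n) = φ (α (b * n)) * conj (φ (b * z⁻¹ * (b * n)⁻¹))
    rw [e1 n, e2 n]
  calc ∑ n : H, φ (a * α n * n)
      = ∑ n : H, φ 1 / (Nat.card H : ℂ) * ∑ z : H, φ (a * α n * z⁻¹) * φ (z * n) :=
        Finset.sum_congr rfl (fun n _ => irr_split hφ (a * α n) n)
    _ = φ 1 / (Nat.card H : ℂ) * ∑ z : H, ∑ n : H, φ (a * α n * z⁻¹) * φ (z * n) := by
        rw [← Finset.mul_sum, Finset.sum_comm]
    _ = 0 := by
        rw [Finset.sum_eq_zero (fun z _ => hinner z), mul_zero]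

end Twisted

end Cfsg.Agent.helper1
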