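import Mathlib
import Cfsg.Agent.Lib_helper1_IndFS1
import Cfsg.Agent.Lib_helper24_CharOrth

/-!
Frobenius–Schur indicators of induced characters, part 2: vanishing coset sums (helper1).
-/

set_option autoImplicit false

namespace Cfsg.Agent.helper1

open Cfsg
open scoped ComplexConjugate

universe u

section Coset

variable {G : Type u} [Group G] (N I : Subgroup G) [hN : N.Normal] [Fintype N] [Fintype I]
  (hNI : N ≤ I)

/-- shift formula: `∑_k conj φ(k) θ(x k) = |N|/θ(1) θ(x)` when `θ_N = φ` is irreducible -/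
theorem shift_formula {θ : I → ℂ} (hθ : IsIrrCharacter I θ)
    (hφ : IsIrrCharacter N (fun n : N => θ (Subgroup.inclusion hNI n))) (x : I) :
    ∑ k : N, conj (θ (Subgroup.inclusion hNI k)) * θ (x * Subgroup.inclusion hNI k) =
      (Nat.card N : ℂ) / θ 1 * θ x := by
  classical
  have hcf := helper24.char_isClassFunction (helper24.irr_isCharacter hθ)
  have hinj : Function.Injective (Subgroup.inclusion hNI) := Subgroup.inclusion_injective hNI
  -- the class function v
  set v : I → ℂ := fun y => if (y : G) ∈ N then conj (θ y) else 0 with hv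
  have hvcf : IsClassFunction I v := by
    intro g k
    show (if ((k * g * k⁻¹ : I) : G) ∈ N then conj (θ (k * g * k⁻¹)) else 0) =
      if (g : G) ∈ N then conj (θ g) else 0
    have hiff : ((k * g * k⁻¹ : I) : G) ∈ N ↔ (g : G) ∈ N := by
      constructor
      · intro h
        have := hN.conj_mem _ h (k : G)⁻¹
        have e : (k : G)⁻¹ * ((k * g * k⁻¹ : I) : G) * ((k : G)⁻¹)⁻¹ = (g : G) := by
          push_cast; group
        rwa [e] at this
      · intro h
        have := hN.conj_mem _ h (k : G)
        have e : (k : G) * (g : G) * (k : G)⁻¹ = ((k * g * k⁻¹ : I) : G) := by push_cast; rfl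
        rwa [e] at this
    by_cases h : (g : G) ∈ N
    · rw [if_pos (hiff.mpr h), if_pos h, hcf g k]
    · rw [if_neg (fun h' => h (hiff.mp h')), if_neg h]
  have key : ∀ f : I → ℂ, ∑ y : I, v y * f y =
      ∑ k : N, conj (θ (Subgroup.inclusion hNI k)) * f (Subgroup.inclusion hNI k) := by
    intro f
    have h1 : ∑ y : I, v y * f y =
        ∑ y ∈ Finset.univ.map ⟨Subgroup.inclusion hNI, hinj⟩, v y * f y := by
      symm
      apply Finset.sum_subset (Finset.subset_univ _)
      intro y _ hy
      have hyN : (y : G) ∉ N := by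
        intro h
        apply hy
        rw [Finset.mem_map]
        exact ⟨⟨(y : G), h⟩, Finset.mem_univ _, Subtype.ext rfl⟩
      show (if (y : G) ∈ N then conj (θ y) else 0) * f y = 0
      rw [if_neg hyN, zero_mul]
    rw [h1, Finset.sum_map]
    refine Finset.sum_congr rfl (fun k _ => ?_)
    show (if ((Subgroup.inclusion hNI k : I) : G) ∈ N then _ else 0) * _ = _
    rw [if_pos (by exact k.2)]
    rfl
  have h2 := helper24.sum_mul_char_shift hθ hvcf x
  rw [key (fun y => θ (x * y))] at h2
  rw [h2]
  congr 1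
  unfold helper24.omegaFn
  rw [key θ]
  congr 1
  have h3 := helper24.irr_classInner_self hφ
  unfold classInner at h3
  have hG : (Nat.card N : ℂ) ≠ 0 := by exact_mod_cast Nat.card_pos.ne'
  have h4 : ∑ g : N, θ (Subgroup.inclusion hNI g) * conj (θ (Subgroup.inclusion hNI g)) =
      (Nat.card N : ℂ) := by
    field_simp at h3
    rw [h3]
  rw [← h4]
  refine Finset.sum_congr rfl (fun k _ => ?_)
  ring

/-- the coset sum vanishes -/
theorem coset_sum_eq_zero {θ : I → ℂ} (hθ : IsIrrCharacter I θ)
    (hφ : IsIrrCharacter N (fun n : N => θ (Subgroup.inclusion hNI n))) (α : N ≃* N)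
    (hne : (fun n : N => θ (Subgroup.inclusion hNI (α n))) ≠
      fun n => conj (θ (Subgroup.inclusion hNI n))) (x : I) :
    ∑ n : N, θ (x * Subgroup.inclusion hNI (α n) * Subgroup.inclusion hNI n) = 0 := by
  classical
  have hG : (Nat.card N : ℂ) ≠ 0 := by exact_mod_cast Nat.card_pos.ne'
  have h1 := helper24.irr_apply_one_ne_zero hθ
  have hc : (Nat.card N : ℂ) / θ 1 ≠ 0 := div_ne_zero hG h1
  have hφc := helper24.irr_isCharacter hφ
  -- expansion
  have hexp : ∀ m : N, (Nat.card N : ℂ) / θ 1 * θ (x * Subgroup.inclusion hNI m) =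
      ∑ k : N, θ (x * Subgroup.inclusion hNI k) * θ (Subgroup.inclusion hNI (k⁻¹ * m)) := by
    intro m
    rw [← shift_formula N I hNI hθ hφ (x * Subgroup.inclusion hNI m)]
    rw [← Fintype.sum_equiv (Equiv.mulLeft m⁻¹)
      (fun k : N => θ (x * Subgroup.inclusion hNI k) * θ (Subgroup.inclusion hNI (k⁻¹ * m)))
      (fun k : N => conj (θ (Subgroup.inclusion hNI k)) *
        θ (x * Subgroup.inclusion hNI m * Subgroup.inclusion hNI k)) (fun k => ?_)]
    show θ (x * Subgroup.inclusion hNI k) * θ (Subgroup.inclusion hNI (k⁻¹ * m)) =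
      conj (θ (Subgroup.inclusion hNI (m⁻¹ * k))) *
        θ (x * Subgroup.inclusion hNI m * Subgroup.inclusion hNI (m⁻¹ * k))
    have e1 : x * Subgroup.inclusion hNI m * Subgroup.inclusion hNI (m⁻¹ * k) =
        x * Subgroup.inclusion hNI k := by
      rw [mul_assoc, ← map_mul]
      congr 2
      group
    have e2 : conj (θ (Subgroup.inclusion hNI (m⁻¹ * k))) =
        θ (Subgroup.inclusion hNI (k⁻¹ * m)) := by
      have := helper24.char_inv hφc (m⁻¹ * k)
      rw [← this]
      congr 2
      group
    rw [e1, e2, mul_comm]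
  have hsum : (Nat.card N : ℂ) / θ 1 *
      ∑ n : N, θ (x * Subgroup.inclusion hNI (α n) * Subgroup.inclusion hNI n) = 0 := by
    rw [Finset.mul_sum]
    have h2 : ∀ n : N, (Nat.card N : ℂ) / θ 1 *
        θ (x * Subgroup.inclusion hNI (α n) * Subgroup.inclusion hNI n) =
        ∑ k : N, θ (x * Subgroup.inclusion hNI k) *
          θ (Subgroup.inclusion hNI (k⁻¹ * α n * n)) := by
      intro n
      have := hexp (α n * n)
      rw [map_mul, ← mul_assoc] at this
      rw [this]
      refine Finset.sum_congr rfl (fun k _ => ?_)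
      rw [mul_assoc k⁻¹]
    rw [Finset.sum_congr rfl (fun n _ => h2 n), Finset.sum_comm]
    apply Finset.sum_eq_zero
    intro k _
    rw [← Finset.mul_sum]
    have := twisted_orth hφ α hne k⁻¹
    rw [this, mul_zero]
  exact (mul_eq_zero.mp hsum).resolve_left hc

end Coset

end Cfsg.Agent.helper1
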