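import Mathlib
import Cfsg.Agent.Lib_helper1_IndFS2
import Cfsg.Agent.Lib_helper22_FS
import Cfsg.Agent.Lib_helper5_Ind

/-!
Frobenius–Schur indicators of induced characters, part 3: `ν(Ind θ) = ν(θ)` (helper1).
-/

set_option autoImplicit false

namespace Cfsg.Agent.helper1

open Cfsg
open scoped ComplexConjugate

universe u

section IndFS

variable {G : Type u} [Group G] [Fintype G] (N I : Subgroup G) [hN : N.Normal] [Fintype N]
  [Fintype I] (hNI : N ≤ I)

/-- the sum of `θ°(g²)` over a coset of `N` outside `I` vanishes -/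
theorem coset_sq_sum_eq_zero {θ : I → ℂ} (hθ : IsIrrCharacter I θ)
    (hφ : IsIrrCharacter N (fun n : N => θ (Subgroup.inclusion hNI n)))
    (htw : ∀ g : G, g ∉ I → (fun n : N => θ (Subgroup.inclusion hNI (MulAut.conjNormal g⁻¹ n))) ≠
      fun n => conj (θ (Subgroup.inclusion hNI n)))
    (s : G) (hs : s ∉ I) :
    ∑ n : N, extendByZero I θ (s * n * (s * n)) = 0 := by
  classical
  have hprod : ∀ n : N, s * (n : G) * (s * n) =
      s * s * ((MulAut.conjNormal s⁻¹ n : N) : G) * (n : G) := by
    intro n
    rw [MulAut.conjNormal_apply]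
    group
  by_cases hss : s * s ∈ I
  · have h := coset_sum_eq_zero N I hNI hθ hφ (MulAut.conjNormal s⁻¹) (htw s hs) ⟨s * s, hss⟩
    rw [← h]
    refine Finset.sum_congr rfl (fun n _ => ?_)
    rw [hprod n]
    exact helper5.extendByZero_coe I θ
      (⟨s * s, hss⟩ * Subgroup.inclusion hNI (MulAut.conjNormal s⁻¹ n) * Subgroup.inclusion hNI n)
  · apply Finset.sum_eq_zero
    intro n _
    apply helper5.extendByZero_of_not_mem
    intro h
    apply hss
    rw [hprod n] at h
    have h1 : ((MulAut.conjNormal s⁻¹ n : N) : G) * (n : G) ∈ I :=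
      I.mul_mem (hNI (MulAut.conjNormal s⁻¹ n).2) (hNI n.2)
    have h2 := I.mul_mem h (I.inv_mem h1)
    have e : s * s * ((MulAut.conjNormal s⁻¹ n : N) : G) * (n : G) *
        (((MulAut.conjNormal s⁻¹ n : N) : G) * (n : G))⁻¹ = s * s := by group
    rwa [e] at h2

/-- **Frobenius–Schur indicator of an induced character**, in the Clifford situation -/
theorem fsInd_indFun {θ : I → ℂ} (hθ : IsIrrCharacter I θ)
    (hφ : IsIrrCharacter N (fun n : N => θ (Subgroup.inclusion hNI n)))
    (htw : ∀ g : G, g ∉ I → (fun n : N => θ (Subgroup.inclusion hNI (MulAut.conjNormal g⁻¹ n))) ≠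
      fun n => conj (θ (Subgroup.inclusion hNI n))) :
    helper22.fsInd (indFun I θ) = helper22.fsInd θ := by
  classical
  have hG : (Nat.card G : ℂ) ≠ 0 := by exact_mod_cast Nat.card_pos.ne'
  have hI : (Nat.card I : ℂ) ≠ 0 := by exact_mod_cast Nat.card_pos.ne'
  have hNc : (Nat.card N : ℂ) ≠ 0 := by exact_mod_cast Nat.card_pos.ne'
  set T : ℂ := ∑ s : G, extendByZero I θ (s * s) with hT
  -- step 1
  have h1 : ∑ s : G, indFun I θ (s * s) = (Nat.card I : ℂ)⁻¹ * ((Nat.card G : ℂ) * T) := by
    unfold indFun
    rw [← Finset.mul_sum, Finset.sum_comm]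
    congr 1
    have : ∀ x : G, ∑ s : G, extendByZero I θ (x⁻¹ * (s * s) * x) = T := by
      intro x
      rw [hT]
      apply Fintype.sum_equiv (MulAut.conj x⁻¹).toEquiv
      intro s
      congr 1
      show x⁻¹ * (s * s) * x = x⁻¹ * s * x⁻¹⁻¹ * (x⁻¹ * s * x⁻¹⁻¹)
      group
    rw [Finset.sum_congr rfl (fun x _ => this x), Finset.sum_const, Finset.card_univ,
      nsmul_eq_mul, Nat.card_eq_fintype_card]
  -- step 2
  have h2 : T = ∑ y : I, θ (y * y) +
      ∑ s : G, (if s ∈ I then 0 else extendByZero I θ (s * s)) := by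
    have e1 := helper5.sum_extendByZero I (fun y : I => θ (y * y)) (fun _ => True)
    simp only [if_true] at e1
    rw [← e1, hT, ← Finset.sum_add_distrib]
    refine Finset.sum_congr rfl (fun s _ => ?_)
    by_cases h : s ∈ I
    · rw [if_pos h, add_zero, helper5.extendByZero_of_mem I _ s h,
        helper5.extendByZero_of_mem I θ (s * s) (I.mul_mem h h)]
      rfl
    · rw [if_neg h, helper5.extendByZero_of_not_mem I _ s h, zero_add]
  -- step 3
  have h3 : ∑ s : G, (if s ∈ I then 0 else extendByZero I θ (s * s)) = 0 := by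
    set R : ℂ := ∑ s : G, (if s ∈ I then 0 else extendByZero I θ (s * s)) with hR
    have e1 : (Nat.card N : ℂ) * R = ∑ n : N, ∑ s : G,
        (if s ∈ I then 0 else extendByZero I θ (s * n * (s * n))) := by
      have : ∀ n : N, ∑ s : G, (if s ∈ I then 0 else extendByZero I θ (s * n * (s * n))) = R := by
        intro n
        rw [hR]
        apply Fintype.sum_equiv (Equiv.mulRight (n : G))
        intro s
        have hiff : s * (n : G) ∈ I ↔ s ∈ I := by
          constructor
          · intro h
            have := I.mul_mem h (I.inv_mem (hNI n.2))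
            rwa [mul_inv_cancel_right] at this
          · intro h
            exact I.mul_mem h (hNI n.2)
        show (if s ∈ I then 0 else extendByZero I θ (s * n * (s * n))) =
          if s * (n : G) ∈ I then 0 else extendByZero I θ (s * n * (s * n))
        by_cases h : s ∈ I
        · rw [if_pos h, if_pos (hiff.mpr h)]
        · rw [if_neg h, if_neg (fun h' => h (hiff.mp h'))]
      rw [Finset.sum_congr rfl (fun n _ => this n), Finset.sum_const, Finset.card_univ,
        nsmul_eq_mul, Nat.card_eq_fintype_card]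
    have e2 : ∑ n : N, ∑ s : G,
        (if s ∈ I then 0 else extendByZero I θ (s * n * (s * n))) = 0 := by
      rw [Finset.sum_comm]
      apply Finset.sum_eq_zero
      intro s _
      by_cases h : s ∈ I
      · simp [h]
      · simp only [if_neg h]
        exact coset_sq_sum_eq_zero N I hNI hθ hφ htw s h
    rw [e2] at e1
    exact (mul_eq_zero.mp e1).resolve_left hNc
  unfold helper22.fsInd
  rw [h1, h2, h3, add_zero]
  field_simp

end IndFS

end Cfsg.Agent.helper1
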