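import Mathlib
import Cfsg.Prelude.Def_Characters
import Cfsg.Agent.Lib_helper1_Commutant
import Cfsg.Agent.Lib_helper24_Char

set_option autoImplicit false
set_option linter.unusedVariables false
set_option linter.unusedSectionVars false
set_option linter.style.longLine false
set_option linter.style.haveILetI false

namespace Cfsg.Agent.helper1

open Representation Module Cfsg
open scoped ComplexConjugate

section IsoProj

variable {G : Type*} [Group G] [Fintype G]
variable {V : Type*} [AddCommGroup V] [Module ℂ V] [FiniteDimensional ℂ V]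

/-- the isotypic projection attached to a class function `ψ` -/
noncomputable def isoProj (ρ : Representation ℂ G V) (ψ : G → ℂ) : Module.End ℂ V :=
  (ψ 1 * (Nat.card G : ℂ)⁻¹) • ∑ g : G, conj (ψ g) • ρ g

theorem isoProj_comm (ρ : Representation ℂ G V) (ψ : G → ℂ) (S : Module.End ℂ V)
    (hS : ∀ g, S ∘ₗ ρ g = ρ g ∘ₗ S) : S * isoProj ρ ψ = isoProj ρ ψ * S := by
  unfold isoProj
  rw [mul_smul_comm, smul_mul_assoc, Finset.mul_sum, Finset.sum_mul]
  congr 1
  refine Finset.sum_congr rfl (fun g _ => ?_)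
  rw [mul_smul_comm, smul_mul_assoc]
  congr 1
  exact hS g

theorem isoProj_mem_commutant (ρ : Representation ℂ G V) {ψ : G → ℂ}
    (hψ : IsClassFunction G ψ) (h : G) : isoProj ρ ψ ∘ₗ ρ h = ρ h ∘ₗ isoProj ρ ψ := by
  show isoProj ρ ψ * ρ h = ρ h * isoProj ρ ψ
  unfold isoProj
  rw [mul_smul_comm, smul_mul_assoc, Finset.mul_sum, Finset.sum_mul]
  congr 1
  refine Fintype.sum_equiv (MulAut.conj h⁻¹).toEquiv _ _ ?_
  intro g
  show conj (ψ g) • ρ g * ρ h = ρ h * conj (ψ (h⁻¹ * g * h⁻¹⁻¹)) • ρ (h⁻¹ * g * h⁻¹⁻¹)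
  rw [smul_mul_assoc, mul_smul_comm, ← map_mul, ← map_mul, hψ g h⁻¹]
  congr 2
  group

theorem isoProj_trace (ρ : Representation ℂ G V) (ψ : G → ℂ) :
    LinearMap.trace ℂ V (isoProj ρ ψ) = ψ 1 * classInner ρ.character ψ := by
  unfold isoProj classInner
  rw [map_smul, map_sum, smul_eq_mul, mul_assoc]
  congr 2
  refine Finset.sum_congr rfl (fun g _ => ?_)
  rw [map_smul, smul_eq_mul, mul_comm]
  rfl

/-- orthogonality of the isotypic projections -/
theorem isoProj_mul (ρ : Representation ℂ G V) {ψ φ : G → ℂ} (hψ : IsIrrCharacter G ψ)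
    (hφ : IsIrrCharacter G φ) :
    isoProj ρ ψ * isoProj ρ φ = if ψ = φ then isoProj ρ ψ else 0 := by
  have hG : (Nat.card G : ℂ) ≠ 0 := by exact_mod_cast (Nat.card_pos (α := G)).ne'
  have hψ1 : ψ 1 ≠ 0 := helper24.irr_apply_one_ne_zero hψ
  have hψ1c : conj (ψ 1) = ψ 1 := by
    obtain ⟨n, _, hn⟩ := helper24.irr_apply_one hψ
    rw [hn, Complex.conj_natCast]
  have key : (∑ g : G, conj (ψ g) • ρ g) * (∑ h : G, conj (φ h) • ρ h) =
      ∑ z : G, (∑ g : G, conj (ψ g) * conj (φ (g⁻¹ * z))) • ρ z := by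
    rw [Finset.sum_mul]
    have h1 : ∀ g : G, (conj (ψ g) • ρ g) * (∑ h : G, conj (φ h) • ρ h) =
        ∑ z : G, (conj (ψ g) * conj (φ (g⁻¹ * z))) • ρ z := by
      intro g
      rw [Finset.mul_sum]
      refine Fintype.sum_equiv (Equiv.mulLeft g) _ _ ?_
      intro h
      show (conj (ψ g) • ρ g) * (conj (φ h) • ρ h) =
        (conj (ψ g) * conj (φ (g⁻¹ * (g * h)))) • ρ (g * h)
      rw [inv_mul_cancel_left, smul_mul_assoc, mul_smul_comm, smul_smul, map_mul]
    rw [Finset.sum_congr rfl (fun g _ => h1 g), Finset.sum_comm]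
    refine Finset.sum_congr rfl (fun z _ => ?_)
    rw [Finset.sum_smul]
  have hconv : ∀ z : G, ∑ g : G, conj (ψ g) * conj (φ (g⁻¹ * z)) =
      if ψ = φ then (Nat.card G : ℂ) / ψ 1 * conj (ψ z) else 0 := by
    intro z
    have h2 := helper24.irr_generalized_orthogonality hψ hφ z
    have h3 : ∑ g : G, conj (ψ g) * conj (φ (g⁻¹ * z)) =
        conj (∑ g : G, ψ g * φ (z * g⁻¹)) := by
      rw [map_sum]
      refine Finset.sum_congr rfl (fun g _ => ?_)
      rw [map_mul, helper24.char_mul_comm (helper24.irr_isCharacter hφ) g⁻¹ z]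
    rw [h3, h2]
    split_ifs
    · rw [map_mul, map_div₀, Complex.conj_natCast, hψ1c]
    · exact map_zero _
  unfold isoProj
  rw [smul_mul_smul_comm, key]
  by_cases heq : ψ = φ
  · subst heq
    rw [if_pos rfl]
    simp only [hconv, if_true]
    have : ∀ z : G, ((Nat.card G : ℂ) / ψ 1 * conj (ψ z)) • ρ z =
        ((Nat.card G : ℂ) / ψ 1) • (conj (ψ z) • ρ z) := fun z => by rw [smul_smul]
    simp only [this]
    rw [← Finset.smul_sum, smul_smul]
    have hc : ψ 1 * (↑(Nat.card G))⁻¹ * (ψ 1 * (↑(Nat.card G))⁻¹) * ((Nat.card G : ℂ) / ψ 1) =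
        ψ 1 * (↑(Nat.card G))⁻¹ := by
      field_simp
    rw [hc]
  · rw [if_neg heq]
    simp only [hconv, if_neg heq, zero_smul, Finset.sum_const_zero, smul_zero]

end IsoProj

section MultFree

variable {G : Type*} [Group G] [Fintype G]
variable {V : Type*} [AddCommGroup V] [Module ℂ V] [FiniteDimensional ℂ V]
variable {ι : Type*} [Fintype ι]

theorem classInner_sum_irr (ρ : Representation ℂ G V) (ψ : ι → G → ℂ)
    (hirr : ∀ i, IsIrrCharacter G (ψ i)) (hinj : Function.Injective ψ)
    (hchar : ρ.character = ∑ i, ψ i) (j : ι) : classInner ρ.character (ψ j) = 1 := by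
  classical
  rw [hchar, helper24.classInner_sum_left]
  have : ∀ i ∈ (Finset.univ : Finset ι), classInner (ψ i) (ψ j) = if i = j then 1 else 0 := by
    intro i _
    rw [helper24.irr_classInner (hirr i) (hirr j)]
    by_cases h : i = j
    · rw [if_pos h, if_pos (congrArg ψ h)]
    · rw [if_neg h, if_neg (fun h' => h (hinj h'))]
  rw [Finset.sum_congr rfl this, Finset.sum_ite_eq' Finset.univ j]
  simp

theorem classInner_self_sum_irr (ρ : Representation ℂ G V) (ψ : ι → G → ℂ)
    (hirr : ∀ i, IsIrrCharacter G (ψ i)) (hinj : Function.Injective ψ)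
    (hchar : ρ.character = ∑ i, ψ i) :
    classInner ρ.character ρ.character = (Fintype.card ι : ℂ) := by
  have h1 : ∀ i, classInner (ψ i) ρ.character = 1 := by
    intro i
    rw [← helper24.classInner_conj_symm, classInner_sum_irr ρ ψ hirr hinj hchar i, map_one]
  conv_lhs => arg 1; rw [hchar]
  rw [helper24.classInner_sum_left, Finset.sum_congr rfl (fun i _ => h1 i)]
  simp

theorem isoProj_ne_zero (ρ : Representation ℂ G V) (ψ : ι → G → ℂ)
    (hirr : ∀ i, IsIrrCharacter G (ψ i)) (hinj : Function.Injective ψ)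
    (hchar : ρ.character = ∑ i, ψ i) (j : ι) : isoProj ρ (ψ j) ≠ 0 := by
  intro h0
  have := isoProj_trace ρ (ψ j)
  rw [h0, map_zero, classInner_sum_irr ρ ψ hirr hinj hchar j, mul_one] at this
  exact helper24.irr_apply_one_ne_zero (hirr j) this.symm

/-- in a multiplicity free representation the commutant is spanned by the isotypic projections -/
theorem commutant_eq_sum_isoProj (ρ : Representation ℂ G V) (ψ : ι → G → ℂ)
    (hirr : ∀ i, IsIrrCharacter G (ψ i)) (hinj : Function.Injective ψ)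
    (hchar : ρ.character = ∑ i, ψ i) (S : Module.End ℂ V) (hS : ∀ g, S ∘ₗ ρ g = ρ g ∘ₗ S) :
    ∃ θ : ι → ℂ, S = ∑ i, θ i • isoProj ρ (ψ i) := by
  classical
  let W : Submodule ℂ (V →ₗ[ℂ] V) := (ρ.linHom ρ).invariants
  have hfr : finrank ℂ W = Fintype.card ι := by
    have h1 : finrank ℂ W = finrank ℂ (IntertwiningMap ρ ρ) :=
      (Representation.invariantsEquivIntertwiningMap ρ ρ).finrank_eq
    have h2 := classInner_character_eq_finrank ρ ρ
    rw [classInner_self_sum_irr ρ ψ hirr hinj hchar] at h2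
    rw [h1]
    exact_mod_cast h2.symm
  let e : ι → W := fun i => ⟨isoProj ρ (ψ i), (mem_linHom_invariants_iff_comm ρ _).mpr
    (fun g => isoProj_mem_commutant ρ
      (helper24.char_isClassFunction (helper24.irr_isCharacter (hirr i))) g)⟩
  have hli : LinearIndependent ℂ e := by
    rw [Fintype.linearIndependent_iff]
    intro c hc j
    have hc' : ∑ i, c i • isoProj ρ (ψ i) = 0 := by
      have := congrArg (fun w : W => (w : V →ₗ[ℂ] V)) hc
      simp only [Submodule.coe_sum, Submodule.coe_smul, Submodule.coe_zero] at this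
      exact this
    have h3 : (∑ i, c i • isoProj ρ (ψ i)) * isoProj ρ (ψ j) = c j • isoProj ρ (ψ j) := by
      rw [Finset.sum_mul]
      have : ∀ i ∈ (Finset.univ : Finset ι), (c i • isoProj ρ (ψ i)) * isoProj ρ (ψ j) =
          if i = j then c j • isoProj ρ (ψ j) else 0 := by
        intro i _
        rw [smul_mul_assoc, isoProj_mul ρ (hirr i) (hirr j)]
        by_cases h : i = j
        · subst h
          rw [if_pos rfl, if_pos rfl]
        · rw [if_neg h, if_neg (fun h' => h (hinj h')), smul_zero]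
      rw [Finset.sum_congr rfl this, Finset.sum_ite_eq' Finset.univ j]
      simp
    rw [hc', zero_mul] at h3
    rcases smul_eq_zero.mp h3.symm with h | h
    · exact h
    · exact absurd h (isoProj_ne_zero ρ ψ hirr hinj hchar j)
  have hspan := hli.span_eq_top_of_card_eq_finrank' hfr.symm
  have hSW : (⟨S, (mem_linHom_invariants_iff_comm ρ S).mpr hS⟩ : W) ∈
      Submodule.span ℂ (Set.range e) := by
    rw [hspan]
    trivial
  obtain ⟨c, hc⟩ := (Submodule.mem_span_range_iff_exists_fun ℂ).mp hSW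
  refine ⟨c, ?_⟩
  have := congrArg (fun w : W => (w : V →ₗ[ℂ] V)) hc
  simp only [Submodule.coe_sum, Submodule.coe_smul] at this
  exact this.symm

/-- the isotypic projections of a multiplicity free representation sum to the identity -/
theorem sum_isoProj_eq_one (ρ : Representation ℂ G V) (ψ : ι → G → ℂ)
    (hirr : ∀ i, IsIrrCharacter G (ψ i)) (hinj : Function.Injective ψ)
    (hchar : ρ.character = ∑ i, ψ i) : ∑ i, isoProj ρ (ψ i) = 1 := by
  classical
  obtain ⟨θ, hθ⟩ := commutant_eq_sum_isoProj ρ ψ hirr hinj hchar 1 (fun g => by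
    show LinearMap.id ∘ₗ ρ g = ρ g ∘ₗ LinearMap.id
    rw [LinearMap.id_comp, LinearMap.comp_id])
  have hθ1 : ∀ j, θ j = 1 := by
    intro j
    have h3 : (∑ i, θ i • isoProj ρ (ψ i)) * isoProj ρ (ψ j) = θ j • isoProj ρ (ψ j) := by
      rw [Finset.sum_mul]
      have : ∀ i ∈ (Finset.univ : Finset ι), (θ i • isoProj ρ (ψ i)) * isoProj ρ (ψ j) =
          if i = j then θ j • isoProj ρ (ψ j) else 0 := by
        intro i _
        rw [smul_mul_assoc, isoProj_mul ρ (hirr i) (hirr j)]
        by_cases h : i = j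
        · subst h
          rw [if_pos rfl, if_pos rfl]
        · rw [if_neg h, if_neg (fun h' => h (hinj h')), smul_zero]
      rw [Finset.sum_congr rfl this, Finset.sum_ite_eq' Finset.univ j]
      simp
    rw [← hθ, one_mul] at h3
    have h4 : (1 - θ j) • isoProj ρ (ψ j) = 0 := by
      rw [sub_smul, one_smul, ← h3, sub_self]
    rcases smul_eq_zero.mp h4 with h | h
    · exact (sub_eq_zero.mp h).symm
    · exact absurd h (isoProj_ne_zero ρ ψ hirr hinj hchar j)
  rw [hθ]
  refine Finset.sum_congr rfl (fun i _ => ?_)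
  rw [hθ1 i, one_smul]

/-- spectral form of a commuting operator on a multiplicity free representation:
`S = ∑ θ i • e i`, and `trace (S ^ n) = ∑ θ i ^ n * ψ i 1`. -/
theorem commutant_spectral (ρ : Representation ℂ G V) (ψ : ι → G → ℂ)
    (hirr : ∀ i, IsIrrCharacter G (ψ i)) (hinj : Function.Injective ψ)
    (hchar : ρ.character = ∑ i, ψ i) (S : Module.End ℂ V) (hS : ∀ g, S ∘ₗ ρ g = ρ g ∘ₗ S) :
    ∃ θ : ι → ℂ, (∀ i, S * isoProj ρ (ψ i) = θ i • isoProj ρ (ψ i)) ∧
      ∀ n : ℕ, LinearMap.trace ℂ V (S ^ n) = ∑ i, θ i ^ n * ψ i 1 := by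
  classical
  obtain ⟨θ, hθ⟩ := commutant_eq_sum_isoProj ρ ψ hirr hinj hchar S hS
  have hmul : ∀ (c : ι → ℂ) (j : ι), (∑ i, c i • isoProj ρ (ψ i)) * isoProj ρ (ψ j) =
      c j • isoProj ρ (ψ j) := by
    intro c j
    rw [Finset.sum_mul]
    have : ∀ i ∈ (Finset.univ : Finset ι), (c i • isoProj ρ (ψ i)) * isoProj ρ (ψ j) =
        if i = j then c j • isoProj ρ (ψ j) else 0 := by
      intro i _
      rw [smul_mul_assoc, isoProj_mul ρ (hirr i) (hirr j)]
      by_cases h : i = j
      · subst h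
        rw [if_pos rfl, if_pos rfl]
      · rw [if_neg h, if_neg (fun h' => h (hinj h')), smul_zero]
    rw [Finset.sum_congr rfl this, Finset.sum_ite_eq' Finset.univ j]
    simp
  have hSe : ∀ i, S * isoProj ρ (ψ i) = θ i • isoProj ρ (ψ i) := by
    intro i
    rw [hθ]
    exact hmul θ i
  have hpow : ∀ n : ℕ, S ^ n = ∑ i, θ i ^ n • isoProj ρ (ψ i) := by
    intro n
    induction n with
    | zero =>
      simp only [pow_zero, one_smul]
      exact (sum_isoProj_eq_one ρ ψ hirr hinj hchar).symm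
    | succ n ih =>
      rw [pow_succ', ih, Finset.mul_sum]
      refine Finset.sum_congr rfl (fun i _ => ?_)
      rw [mul_smul_comm, hSe i, smul_smul, pow_succ]
  refine ⟨θ, hSe, fun n => ?_⟩
  rw [hpow n, map_sum]
  refine Finset.sum_congr rfl (fun i _ => ?_)
  rw [map_smul, isoProj_trace, classInner_sum_irr ρ ψ hirr hinj hchar i, mul_one, smul_eq_mul]

end MultFree

end Cfsg.Agent.helper1
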