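import Mathlib
import Cfsg.Agent.Lib_helper8_Virtual
import Cfsg.Agent.Lib_helper24_Char

set_option autoImplicit false
set_option linter.unusedSectionVars false
set_option linter.unusedVariables false
set_option linter.style.longLine false
set_option linter.style.haveILetI false

/-!
Differences of irreducible characters and the isometry lemma behind exceptional characters
(helper1).
-/

namespace Cfsg.Agent.helper1

open Cfsg
open scoped ComplexConjugate

variable {G : Type*} [Group G]

/-- A generalized character of norm 2 vanishing at 1 is a difference of two distinct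
irreducible characters. -/
theorem diff_of_norm_two [Fintype G] {θ : G → ℂ} (hθ : IsGeneralizedCharacter G θ)
    (h2 : classInner θ θ = 2) (h1 : θ 1 = 0) :
    ∃ a b : IrrCharacter G, a ≠ b ∧ θ = (a : G → ℂ) - (b : G → ℂ) := by
  obtain ⟨e₀, e₁, ψ₀, ψ₁, he₀, he₁, hψ₀, hψ₁, hne, hθeq⟩ := Cfsg.Agent.helper8.virt_norm_two hθ h2
  obtain ⟨d₀, hd₀pos, hd₀⟩ := Cfsg.Agent.helper24.irr_apply_one hψ₀
  obtain ⟨d₁, hd₁pos, hd₁⟩ := Cfsg.Agent.helper24.irr_apply_one hψ₁
  have hval : e₀ * d₀ + e₁ * d₁ = 0 := by
    have := congrFun hθeq 1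
    rw [h1] at this
    simp only [Pi.add_apply, Pi.smul_apply, smul_eq_mul, hd₀, hd₁] at this
    exact this.symm
  have hne' : (⟨ψ₀, hψ₀⟩ : IrrCharacter G) ≠ ⟨ψ₁, hψ₁⟩ := fun h => hne (congrArg Subtype.val h)
  rcases he₀ with rfl | rfl <;> rcases he₁ with rfl | rfl
  · exfalso
    have : ((d₀ + d₁ : ℕ) : ℂ) = 0 := by push_cast; linear_combination hval
    have h3 : d₀ + d₁ = 0 := by exact_mod_cast this
    omega
  · refine ⟨⟨ψ₀, hψ₀⟩, ⟨ψ₁, hψ₁⟩, hne', ?_⟩
    rw [hθeq]; funext g; simp [sub_eq_add_neg]
  · refine ⟨⟨ψ₁, hψ₁⟩, ⟨ψ₀, hψ₀⟩, hne'.symm, ?_⟩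
    rw [hθeq]; funext g; simp [sub_eq_add_neg, add_comm]
  · exfalso
    have : ((d₀ + d₁ : ℕ) : ℂ) = 0 := by push_cast; linear_combination -hval
    have h3 : d₀ + d₁ = 0 := by exact_mod_cast this
    omega

open scoped Classical in
/-- Inner product of two differences of irreducible characters. -/
theorem classInner_diff [Fintype G] (a b c d : IrrCharacter G) :
    classInner ((a : G → ℂ) - (b : G → ℂ)) ((c : G → ℂ) - (d : G → ℂ))
      = (if a = c then 1 else 0) - (if a = d then 1 else 0) - (if b = c then 1 else 0)
        + (if b = d then 1 else 0) := by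
  have key : ∀ x y : IrrCharacter G, classInner (x : G → ℂ) (y : G → ℂ) = if x = y then 1 else 0 := by
    intro x y
    rw [Cfsg.Agent.helper24.irr_classInner x.2 y.2]
    by_cases h : x = y
    · rw [if_pos h, if_pos (congrArg Subtype.val h)]
    · rw [if_neg h, if_neg (fun h' => h (Subtype.ext h'))]
  rw [Cfsg.Agent.helper24.classInner_sub_left, Cfsg.Agent.helper8.classInner_sub_right,
    Cfsg.Agent.helper8.classInner_sub_right, key, key, key, key]
  ring

/-- The isometry lemma behind exceptional characters. -/
theorem isometry_lemma [Fintype G] (n : ℕ) (i₀ : Fin n) (τ : Fin n → (G → ℂ)) (h0 : τ i₀ = 0)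
    (hgen : ∀ i, IsGeneralizedCharacter G (τ i)) (hone : ∀ i, τ i 1 = 0)
    (hgram : ∀ i j, i ≠ i₀ → j ≠ i₀ → classInner (τ i) (τ j) = if i = j then 2 else 1) :
    ∃ ε : ℂ, (ε = 1 ∨ ε = -1) ∧ ∃ μ : Fin n → (G → ℂ), (∀ i, IsIrrCharacter G (μ i)) ∧
      Function.Injective μ ∧ ∀ i, τ i = ε • (μ i - μ i₀) := by
  classical
  -- decompositions
  have hdec : ∀ i, i ≠ i₀ → ∃ a b : IrrCharacter G, a ≠ b ∧ τ i = (a : G → ℂ) - (b : G → ℂ) := by
    intro i hi
    apply diff_of_norm_two (hgen i) _ (hone i)
    rw [hgram i i hi hi, if_pos rfl]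
  let triv : IrrCharacter G := ⟨fun _ => 1, Cfsg.Agent.helper24.isIrrCharacter_one⟩
  let A : Fin n → IrrCharacter G := fun i =>
    if hi : i ≠ i₀ then Classical.choose (hdec i hi) else triv
  let B : Fin n → IrrCharacter G := fun i =>
    if hi : i ≠ i₀ then Classical.choose (Classical.choose_spec (hdec i hi)) else triv
  have hAB : ∀ i, i ≠ i₀ → A i ≠ B i ∧ τ i = (A i : G → ℂ) - (B i : G → ℂ) := by
    intro i hi
    simp only [A, B, dif_pos hi]
    exact Classical.choose_spec (Classical.choose_spec (hdec i hi))
  -- pairwise relations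
  have hpair : ∀ i j, i ≠ i₀ → j ≠ i₀ → i ≠ j →
      (A i = A j ∧ B i ≠ B j) ∨ (B i = B j ∧ A i ≠ A j) := by
    intro i j hi hj hij
    have h := hgram i j hi hj
    rw [if_neg hij, (hAB i hi).2, (hAB j hj).2, classInner_diff] at h
    have hi' := (hAB i hi).1
    have hj' := (hAB j hj).1
    by_cases h1 : A i = A j
    · by_cases h2 : B i = B j
      · exfalso
        rw [if_pos h1, if_pos h2, if_neg (by rw [h1]; exact hj'), if_neg (by rw [h2]; exact hj'.symm)] at h
        norm_num at h
      · exact Or.inl ⟨h1, h2⟩
    · by_cases h2 : B i = B j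
      · exact Or.inr ⟨h2, h1⟩
      · exfalso
        rw [if_neg h1, if_neg h2] at h
        by_cases h3 : A i = B j <;> by_cases h4 : B i = A j
        · rw [if_pos h3, if_pos h4] at h; norm_num at h
        · rw [if_pos h3, if_neg h4] at h; norm_num at h
        · rw [if_neg h3, if_pos h4] at h; norm_num at h
        · rw [if_neg h3, if_neg h4] at h; norm_num at h
  -- case analysis: all B equal, or all A equal
  by_cases hallB : ∀ i j, i ≠ i₀ → j ≠ i₀ → B i = B j
  · -- common negative part
    by_cases hex : ∃ i₁, i₁ ≠ i₀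
    · obtain ⟨i₁, hi₁⟩ := hex
      refine ⟨1, Or.inl rfl, fun i => if i = i₀ then (B i₁ : G → ℂ) else (A i : G → ℂ), ?_, ?_, ?_⟩
      · intro i
        by_cases hi : i = i₀
        · simp only [if_pos hi]; exact (B i₁).2
        · simp only [if_neg hi]; exact (A i).2
      · intro i j hij
        by_contra hne
        by_cases hi : i = i₀
        · have hj : j ≠ i₀ := fun h => hne (hi.trans h.symm)
          simp only [if_pos hi, if_neg hj] at hij
          have : B j = A j := by rw [← hallB i₁ j hi₁ hj]; exact Subtype.ext hij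
          exact (hAB j hj).1 this.symm
        · by_cases hj : j = i₀
          · simp only [if_neg hi, if_pos hj] at hij
            have : A i = B i := by rw [hallB i i₁ hi hi₁]; exact Subtype.ext hij
            exact (hAB i hi).1 this
          · simp only [if_neg hi, if_neg hj] at hij
            have hAeq : A i = A j := Subtype.ext hij
            rcases hpair i j hi hj hne with h | h
            · exact h.2 (hallB i j hi hj)
            · exact h.2 hAeq
      · intro i
        by_cases hi : i = i₀
        · rw [hi, h0]; simp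
        · simp only [if_neg hi, one_smul]
          rw [(hAB i hi).2, hallB i i₁ hi hi₁]
          simp
    · push Not at hex
      refine ⟨1, Or.inl rfl, fun _ => (triv : G → ℂ), fun _ => triv.2, ?_, ?_⟩
      · intro i j _
        rw [hex i, hex j]
      · intro i
        rw [hex i, h0]; simp
  · -- then all A are equal
    push Not at hallB
    obtain ⟨i₁, i₂, hi₁, hi₂, h12⟩ := hallB
    have hne12 : i₁ ≠ i₂ := fun h => h12 (by rw [h])
    have hA12 : A i₁ = A i₂ := by
      rcases hpair i₁ i₂ hi₁ hi₂ hne12 with h | h
      · exact h.1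
      · exact absurd h.1 h12
    have hallA : ∀ k, k ≠ i₀ → A k = A i₁ := by
      intro k hk
      by_cases hk1 : k = i₁
      · rw [hk1]
      · by_cases hk2 : k = i₂
        · rw [hk2, hA12]
        · rcases hpair k i₁ hk hi₁ hk1 with h | h
          · exact h.1
          · rcases hpair k i₂ hk hi₂ hk2 with h' | h'
            · rw [h'.1, hA12]
            · exfalso
              exact h12 (h.1.symm.trans h'.1)
    refine ⟨-1, Or.inr rfl, fun i => if i = i₀ then (A i₁ : G → ℂ) else (B i : G → ℂ), ?_, ?_, ?_⟩
    · intro i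
      by_cases hi : i = i₀
      · simp only [if_pos hi]; exact (A i₁).2
      · simp only [if_neg hi]; exact (B i).2
    · intro i j hij
      by_contra hne
      by_cases hi : i = i₀
      · have hj : j ≠ i₀ := fun h => hne (hi.trans h.symm)
        simp only [if_pos hi, if_neg hj] at hij
        have : A j = B j := by rw [hallA j hj]; exact Subtype.ext hij
        exact (hAB j hj).1 this
      · by_cases hj : j = i₀
        · simp only [if_neg hi, if_pos hj] at hij
          have : B i = A i := by rw [hallA i hi]; exact Subtype.ext hij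
          exact (hAB i hi).1 this.symm
        · simp only [if_neg hi, if_neg hj] at hij
          have hBeq : B i = B j := Subtype.ext hij
          rcases hpair i j hi hj hne with h | h
          · exact h.2 hBeq
          · exact h.2 ((hallA i hi).trans (hallA j hj).symm)
    · intro i
      by_cases hi : i = i₀
      · rw [hi, h0]; simp
      · simp only [if_neg hi]
        rw [(hAB i hi).2, hallA i hi]
        funext g
        simp
end Cfsg.Agent.helper1
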