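import Mathlib
import Cfsg.Agent.Lib_lead_Fusion

set_option autoImplicit false
set_option linter.unusedSectionVars false
set_option linter.unusedVariables false
set_option linter.style.longLine false
set_option linter.style.haveILetI false

/-!
Groups with Klein four Sylow 2-subgroups: classes of involutions (helper1).
-/

namespace Cfsg.Agent.helper1

variable {G : Type*} [Group G]

/-- Elementwise structure of a Klein four subgroup. -/
theorem klein_structure (P : Subgroup G) (hP : IsKleinFour P) :
    ∃ a b : G, a ∈ P ∧ b ∈ P ∧ a ≠ 1 ∧ b ≠ 1 ∧ a ≠ b ∧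
      (∀ x ∈ P, x = 1 ∨ x = a ∨ x = b ∨ x = a * b) ∧ (∀ x ∈ P, x * x = 1) ∧
      (∀ x ∈ P, ∀ y ∈ P, x * y = y * x) := by
  classical
  haveI : Finite P := IsKleinFour.instFinite
  haveI := Fintype.ofFinite P
  have hcard : Fintype.card P = 4 := IsKleinFour.card_four'
  have h3 : 2 < Fintype.card P := by omega
  obtain ⟨x, y, z, hxy, hxz, hyz⟩ := Fintype.two_lt_card_iff.mp h3
  -- choose two distinct non-identity elements among x, y, z
  have hex : ∃ a b : P, a ≠ 1 ∧ b ≠ 1 ∧ a ≠ b := by
    by_cases hx : x = 1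
    · refine ⟨y, z, ?_, ?_, hyz⟩
      · rw [← hx]; exact hxy.symm
      · rw [← hx]; exact hxz.symm
    · by_cases hy : y = 1
      · refine ⟨x, z, hx, ?_, hxz⟩
        rw [← hy]; exact hyz.symm
      · exact ⟨x, y, hx, hy, hxy⟩
  obtain ⟨a, b, ha, hb, hab⟩ := hex
  have huniv := IsKleinFour.eq_finset_univ ha hb hab
  have hmulself : ∀ x ∈ P, x * x = 1 := by
    intro x hx
    have := IsKleinFour.mul_self (⟨x, hx⟩ : P)
    exact congrArg Subtype.val this
  refine ⟨a, b, a.2, b.2, ?_, ?_, ?_, ?_, hmulself, ?_⟩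
  · intro h; exact ha (Subtype.ext h)
  · intro h; exact hb (Subtype.ext h)
  · intro h; exact hab (Subtype.ext h)
  · intro x hx
    have hmem : (⟨x, hx⟩ : P) ∈ ({a * b, a, b, (1 : P)} : Finset P) := by
      rw [huniv]; exact Finset.mem_univ _
    simp only [Finset.mem_insert, Finset.mem_singleton] at hmem
    rcases hmem with h | h | h | h
    · right; right; right
      have := congrArg Subtype.val h
      simpa using this
    · right; left; exact congrArg Subtype.val h
    · right; right; left; exact congrArg Subtype.val h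
    · left; exact congrArg Subtype.val h
  · intro x hx y hy
    have := (IsKleinFour.isMulCommutative (G := P)).is_comm.comm ⟨x, hx⟩ ⟨y, hy⟩
    exact congrArg Subtype.val this

/-- A 2-element normalising a Sylow 2-subgroup lies in it. -/
theorem mem_sylow_of_mem_normalizer_of_two_pow [Finite G] (P : Sylow 2 G) (n : G)
    (hn : n ∈ Subgroup.normalizer ((P : Subgroup G) : Set G)) (k : ℕ) (hk : orderOf n = 2 ^ k) :
    n ∈ (P : Subgroup G) := by
  have hQ : IsPGroup 2 (Subgroup.zpowers n) := by
    apply IsPGroup.of_card (n := k)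
    rw [Nat.card_zpowers, hk]
  have hPN : (P : Subgroup G) ≤ Subgroup.normalizer ((P : Subgroup G) : Set G) :=
    Subgroup.le_normalizer
  have hQN : Subgroup.zpowers n ≤ Subgroup.normalizer ((P : Subgroup G) : Set G) := by
    rw [Subgroup.zpowers_le]; exact hn
  obtain ⟨m, hm, hmq⟩ := Cfsg.Agent.lead.exists_conj_le_sylow P _ hPN _ hQ hQN
  have h1 := hmq n (Subgroup.mem_zpowers n)
  -- m n m⁻¹ ∈ P and m⁻¹ normalises P
  have hm' : m⁻¹ ∈ Subgroup.normalizer ((P : Subgroup G) : Set G) := Subgroup.inv_mem _ hm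
  have h2 := (Subgroup.mem_normalizer_iff.mp hm' (m * n * m⁻¹)).mp h1
  have e : m⁻¹ * (m * n * m⁻¹) * m⁻¹⁻¹ = n := by group
  rwa [e] at h2

/-- No element of the normaliser of an abelian Sylow 2-subgroup swaps two of its elements. -/
theorem no_swap [Finite G] (P : Sylow 2 G)
    (comm : ∀ x ∈ (P : Subgroup G), ∀ y ∈ (P : Subgroup G), x * y = y * x)
    (a b : G) (ha : a ∈ (P : Subgroup G)) (hab : a ≠ b) (n : G)
    (hn : n ∈ Subgroup.normalizer ((P : Subgroup G) : Set G))
    (h1 : n * a * n⁻¹ = b) (h2 : n * b * n⁻¹ = a) : False := by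
  obtain ⟨k, m, hm, hkm⟩ := Nat.exists_eq_two_pow_mul_odd (orderOf_pos n).ne'
  -- action of powers
  have hpow : ∀ j : ℕ, n ^ j * a * (n ^ j)⁻¹ = if Even j then a else b := by
    intro j
    induction j with
    | zero => simp
    | succ j ih =>
      have e : n ^ (j + 1) * a * (n ^ (j + 1))⁻¹ = n * (n ^ j * a * (n ^ j)⁻¹) * n⁻¹ := by
        rw [pow_succ']; group
      rw [e, ih]
      by_cases hj : Even j
      · rw [if_pos hj, if_neg (by rw [Nat.even_add_one]; exact not_not.mpr hj), h1]
      · rw [if_neg hj, if_pos (by rw [Nat.even_add_one]; exact hj), h2]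
  have hm' : ¬ Even m := Nat.not_even_iff_odd.mpr hm
  have h3 := hpow m
  rw [if_neg hm'] at h3
  -- n^m is a 2-element of the normaliser
  have hord : orderOf (n ^ m) = 2 ^ k := by
    rw [orderOf_pow, hkm, Nat.gcd_eq_right (Dvd.intro_left _ rfl), Nat.mul_div_cancel _ hm.pos]
  have hnm : n ^ m ∈ Subgroup.normalizer ((P : Subgroup G) : Set G) := Subgroup.pow_mem _ hn m
  have hnmP := mem_sylow_of_mem_normalizer_of_two_pow P (n ^ m) hnm k hord
  have h4 : n ^ m * a * (n ^ m)⁻¹ = a := by
    rw [comm _ hnmP a ha]; group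
  rw [h4] at h3
  exact hab h3


/-- Any two distinct nonidentity elements of a Klein four subgroup cover it. -/
theorem klein_cover (P : Subgroup G) (hP : IsKleinFour P) (x y : G) (hx : x ∈ P) (hy : y ∈ P)
    (hx1 : x ≠ 1) (hy1 : y ≠ 1) (hxy : x ≠ y) :
    ∀ w ∈ P, w = 1 ∨ w = x ∨ w = y ∨ w = x * y := by
  classical
  haveI : Finite P := IsKleinFour.instFinite
  haveI := Fintype.ofFinite P
  have huniv := IsKleinFour.eq_finset_univ (G := P) (x := ⟨x, hx⟩) (y := ⟨y, hy⟩)
    (fun h => hx1 (congrArg Subtype.val h)) (fun h => hy1 (congrArg Subtype.val h))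
    (fun h => hxy (congrArg Subtype.val h))
  intro w hw
  have hmem : (⟨w, hw⟩ : P) ∈ ({(⟨x, hx⟩ : P) * ⟨y, hy⟩, ⟨x, hx⟩, ⟨y, hy⟩, (1 : P)} : Finset P) := by
    rw [huniv]; exact Finset.mem_univ _
  simp only [Finset.mem_insert, Finset.mem_singleton] at hmem
  rcases hmem with h | h | h | h
  · right; right; right
    have := congrArg Subtype.val h
    simpa using this
  · right; left; exact congrArg Subtype.val h
  · right; right; left; exact congrArg Subtype.val h
  · left; exact congrArg Subtype.val h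

/-- If two distinct involutions of a Klein four Sylow 2-subgroup are fused, so is the third. -/
theorem klein_fusion [Finite G] (P : Sylow 2 G) (hP : IsKleinFour (P : Subgroup G))
    (x y : G) (hx : x ∈ (P : Subgroup G)) (hy : y ∈ (P : Subgroup G))
    (hx1 : x ≠ 1) (hy1 : y ≠ 1) (hxy : x ≠ y) (hconj : IsConj x y) : IsConj x (x * y) := by
  obtain ⟨-, -, -, -, -, -, -, -, hsq, comm⟩ := klein_structure (P : Subgroup G) hP
  have hcover := klein_cover (P : Subgroup G) hP x y hx hy hx1 hy1 hxy
  obtain ⟨u, hu⟩ := isConj_iff.mp hconj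
  obtain ⟨n, hn, hnx⟩ := Cfsg.Agent.lead.burnside_fusion' P comm x hx u (by rw [hu]; exact hy)
  rw [hu] at hnx
  -- hnx : n x n⁻¹ = y
  have hz : x * y ∈ (P : Subgroup G) := Subgroup.mul_mem _ hx hy
  have hnz : n * (x * y) * n⁻¹ ∈ (P : Subgroup G) :=
    (Subgroup.mem_normalizer_iff.mp hn (x * y)).mp hz
  have hinj : ∀ s t : G, n * s * n⁻¹ = n * t * n⁻¹ → s = t := by
    intro s t h
    exact mul_left_cancel (mul_right_cancel h)
  rcases hcover _ hnz with h | h | h | h
  · -- = 1 : impossible
    exfalso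
    have : x * y = 1 := by
      apply hinj; rw [h]; group
    have hyx : y = x := by
      have h2 := hsq x hx
      have : x * y = x * x := by rw [this, h2]
      exact (mul_left_cancel this)
    exact hxy hyx.symm
  · -- = x : z ~ x
    exact (isConj_iff.mpr ⟨n, h⟩).symm
  · -- = y = n x n⁻¹ : impossible
    exfalso
    have : x * y = x := by
      apply hinj; rw [h, hnx]
    have : y = 1 := by
      have h2 : x * y = x * 1 := by rw [this, mul_one]
      exact mul_left_cancel h2
    exact hy1 this
  · -- = z : then n y n⁻¹ = x, a swap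
    exfalso
    have hny : n * y * n⁻¹ ∈ (P : Subgroup G) :=
      (Subgroup.mem_normalizer_iff.mp hn y).mp hy
    rcases hcover _ hny with h' | h' | h' | h'
    · have : y = 1 := by apply hinj; rw [h']; group
      exact hy1 this
    · exact no_swap P comm x y hx hxy n hn hnx h'
    · have : y = x := by apply hinj; rw [h', hnx]
      exact hxy this.symm
    · have : y = x * y := by apply hinj; rw [h', h]
      have : x = 1 := by
        have h2 : 1 * y = x * y := by rw [one_mul]; exact this
        exact (mul_right_cancel h2).symm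
      exact hx1 this

/-- Every involution is conjugate to a nonidentity element of a Sylow 2-subgroup. -/
theorem involution_conj_into_sylow [Finite G] (P : Sylow 2 G) (t : G) (ht : orderOf t = 2) :
    ∃ w ∈ (P : Subgroup G), w ≠ 1 ∧ IsConj t w := by
  obtain ⟨g, hg⟩ := Cfsg.Agent.lead.exists_conj_mem_sylow P t ⟨1, by rw [ht, pow_one]⟩
  refine ⟨g * t * g⁻¹, hg, ?_, isConj_iff.mpr ⟨g, rfl⟩⟩
  intro h
  have : t = 1 := by
    have e : t = g⁻¹ * (g * t * g⁻¹) * g := by group
    rw [e, h]; group
  rw [this, orderOf_one] at ht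
  omega

/-- The type of conjugacy classes of involutions. -/
abbrev InvClasses (G : Type*) [Group G] : Type _ :=
  {C : ConjClasses G // ∃ t : G, orderOf t = 2 ∧ ConjClasses.mk t = C}

theorem orderOf_eq_two_of_mul_self {x : G} (h : x * x = 1) (h1 : x ≠ 1) : orderOf x = 2 :=
  orderOf_eq_prime (by rw [pow_two]; exact h) h1

/-- Dichotomy and class count for Klein four Sylow 2-subgroups. -/
theorem klein_classes [Finite G] (P : Sylow 2 G) (hP : IsKleinFour (P : Subgroup G)) :
    ∃ a b : G, a ∈ (P : Subgroup G) ∧ b ∈ (P : Subgroup G) ∧ a ≠ 1 ∧ b ≠ 1 ∧ a ≠ b ∧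
      ((IsConj a b ∧ IsConj a (a * b) ∧ Nat.card (InvClasses G) = 1) ∨
       (¬ IsConj a b ∧ ¬ IsConj a (a * b) ∧ ¬ IsConj b (a * b) ∧ Nat.card (InvClasses G) = 3)) := by
  classical
  obtain ⟨a, b, ha, hb, ha1, hb1, hab, hcov, hsq, comm⟩ := klein_structure (P : Subgroup G) hP
  refine ⟨a, b, ha, hb, ha1, hb1, hab, ?_⟩
  set c := a * b with hc
  have hcP : c ∈ (P : Subgroup G) := Subgroup.mul_mem _ ha hb
  have hc1 : c ≠ 1 := by
    intro h
    have h2 := hsq a ha
    have : a * b = a * a := by rw [← hc, h, h2]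
    exact hab (mul_left_cancel this).symm
  have hca : c ≠ a := by
    intro h
    have : a * b = a * 1 := by rw [← hc, h, mul_one]
    exact hb1 (mul_left_cancel this)
  have hcb : c ≠ b := by
    intro h
    have : a * b = 1 * b := by rw [← hc, h, one_mul]
    exact ha1 (mul_right_cancel this)
  have hoa : orderOf a = 2 := orderOf_eq_two_of_mul_self (hsq a ha) ha1
  have hob : orderOf b = 2 := orderOf_eq_two_of_mul_self (hsq b hb) hb1
  have hoc : orderOf c = 2 := orderOf_eq_two_of_mul_self (hsq c hcP) hc1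
  -- every involution class is one of mk a, mk b, mk c
  have hclass : ∀ C : InvClasses G, C.1 = ConjClasses.mk a ∨ C.1 = ConjClasses.mk b ∨
      C.1 = ConjClasses.mk c := by
    rintro ⟨C, t, ht, rfl⟩
    obtain ⟨w, hw, hw1, hconj⟩ := involution_conj_into_sylow P t ht
    have hmk : ConjClasses.mk t = ConjClasses.mk w := ConjClasses.mk_eq_mk_iff_isConj.mpr hconj
    show ConjClasses.mk t = ConjClasses.mk a ∨ ConjClasses.mk t = ConjClasses.mk b ∨
      ConjClasses.mk t = ConjClasses.mk c
    rcases hcov w hw with h | h | h | h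
    · exact absurd h hw1
    · left; rw [hmk, h]
    · right; left; rw [hmk, h]
    · right; right; rw [hmk, h]
  -- b * c = a etc.
  have hbc : b * c = a := by
    rw [hc, comm a ha b hb, ← mul_assoc, hsq b hb, one_mul]
  have hac : a * c = b := by
    rw [hc, ← mul_assoc, hsq a ha, one_mul]
  by_cases h1 : IsConj a b
  · left
    have h2 : IsConj a c := klein_fusion P hP a b ha hb ha1 hb1 hab h1
    refine ⟨h1, h2, ?_⟩
    rw [Nat.card_eq_one_iff_unique]
    refine ⟨⟨fun C D => ?_⟩, ⟨⟨ConjClasses.mk a, a, hoa, rfl⟩⟩⟩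
    have hb' : ConjClasses.mk b = ConjClasses.mk a :=
      (ConjClasses.mk_eq_mk_iff_isConj.mpr h1).symm
    have hc' : ConjClasses.mk c = ConjClasses.mk a :=
      (ConjClasses.mk_eq_mk_iff_isConj.mpr h2).symm
    have hall : ∀ E : InvClasses G, E.1 = ConjClasses.mk a := by
      intro E
      rcases hclass E with h | h | h
      · exact h
      · rw [h, hb']
      · rw [h, hc']
    exact Subtype.ext ((hall C).trans (hall D).symm)
  · right
    have h2 : ¬ IsConj a c := by
      intro h
      have := klein_fusion P hP a c ha hcP ha1 hc1 hca.symm h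
      rw [hac] at this
      exact h1 this
    have h3 : ¬ IsConj b c := by
      intro h
      have := klein_fusion P hP b c hb hcP hb1 hc1 hcb.symm h
      rw [hbc] at this
      exact h1 this.symm
    refine ⟨h1, h2, h3, ?_⟩
    haveI : Fintype (ConjClasses G) := Fintype.ofFinite _
    have hfs : Fintype.card (InvClasses G) =
        ({ConjClasses.mk a, ConjClasses.mk b, ConjClasses.mk c} : Finset (ConjClasses G)).card := by
      apply Fintype.card_of_subtype
      intro C
      simp only [Finset.mem_insert, Finset.mem_singleton]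
      constructor
      · rintro (h | h | h)
        · exact ⟨a, hoa, h.symm⟩
        · exact ⟨b, hob, h.symm⟩
        · exact ⟨c, hoc, h.symm⟩
      · intro hC
        exact hclass ⟨C, hC⟩
    rw [Nat.card_eq_fintype_card, hfs, Finset.card_eq_three]
    refine ⟨_, _, _, ?_, ?_, ?_, rfl⟩
    · intro h; exact h1 (ConjClasses.mk_eq_mk_iff_isConj.mp h)
    · intro h; exact h2 (ConjClasses.mk_eq_mk_iff_isConj.mp h)
    · intro h; exact h3 (ConjClasses.mk_eq_mk_iff_isConj.mp h)

end Cfsg.Agent.helper1
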