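import Mathlib
import Cfsg.Agent.Lib_helper22_HtZero6
import Cfsg.Statements.S4491
-- import your own Cfsg.Agent.* helpers here

set_option autoImplicit false
open Cfsg

namespace Cfsg.Agent.S4491

/-- Let B be a p-block of defect d of the finite group G (relative to a maximal ideal M of the algebraic integers containing p), and let p^a be the p-part of the order of G. Then the exact power of p dividing the sum of the squares of the degrees of the irreducible characters in B is p^(2a − d). -/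
theorem result {G : Type*} [Group G] [Finite G] (p : ℕ) [Fact p.Prime] (M : Ideal Cfsg.AlgInt) (hM : Cfsg.IsPModular p M) (B : Set (Cfsg.IrrCharacter G)) (hB : Cfsg.IsPBlock M B) : (∑ᶠ χ ∈ B, Cfsg.charDegree (χ : G → ℂ) ^ 2).factorization p = 2 * (Nat.card G).factorization p - Cfsg.blockDefect p B := by
  classical
  haveI := Fintype.ofFinite G
  haveI := Fintype.ofFinite (Cfsg.IrrCharacter G)
  have hp : p.Prime := Fact.out
  have hMp : M.IsPrime := hM.2.1.isPrime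
  have hMtop := hMp.ne_top
  obtain ⟨χ₀, hχ₀⟩ := hB
  have hχ₀B : χ₀ ∈ B := by rw [hχ₀]; exact Cfsg.Agent.helper24.sameBlock_refl M hMtop _
  obtain ⟨S, hS⟩ : ∃ S : Set ℕ,
    S = (fun ψ : Cfsg.IrrCharacter G => (Cfsg.charDegree (ψ : G → ℂ)).factorization p) '' B := ⟨_, rfl⟩
  have hne : S.Nonempty := by rw [hS]; exact ⟨_, χ₀, hχ₀B, rfl⟩
  have h1 := Nat.sInf_mem hne
  have h1' := h1
  rw [hS] at h1'
  obtain ⟨ψ₀, hψ₀B, hψ₀e⟩ := h1'
  have hψ₀e' : (Cfsg.charDegree (ψ₀ : G → ℂ)).factorization p = sInf S := by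
    rw [hS]; exact hψ₀e
  have hmem : ∀ ψ : Cfsg.IrrCharacter G, ψ ∈ B ↔ Cfsg.SameBlock M (ψ₀ : G → ℂ) (ψ : G → ℂ) :=
    fun ψ => Cfsg.Agent.helper22.mem_block_iff hMp ⟨χ₀, hχ₀⟩ hψ₀B ψ
  have hmin : ∀ ψ : Cfsg.IrrCharacter G, Cfsg.SameBlock M (ψ₀ : G → ℂ) (ψ : G → ℂ) →
      (Cfsg.charDegree (ψ₀ : G → ℂ)).factorization p ≤ (Cfsg.charDegree (ψ : G → ℂ)).factorization p := by
    intro ψ hψ
    rw [hψ₀e']
    apply Nat.sInf_le
    rw [hS]
    exact ⟨ψ, (hmem ψ).mpr hψ, rfl⟩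
  have hmain := Cfsg.Agent.helper22.block_sq_sum_val p hM ψ₀ hmin
  have hsum : ∑ᶠ χ ∈ B, Cfsg.charDegree (χ : G → ℂ) ^ 2 =
      ∑ χ ∈ Finset.univ.filter (fun χ : Cfsg.IrrCharacter G => χ ∈ Cfsg.blockOf M (ψ₀ : G → ℂ)),
        Cfsg.charDegree (χ : G → ℂ) ^ 2 := by
    rw [finsum_mem_eq_finite_toFinset_sum _ (Set.toFinite _)]
    apply Finset.sum_congr
    · ext χ
      simp only [Set.Finite.mem_toFinset, Finset.mem_filter, Finset.mem_univ, true_and]
      exact hmem χ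
    · intro _ _
      rfl
  rw [hsum, hmain]
  unfold Cfsg.blockDefect
  rw [← hS, ← hψ₀e']
  have hle : (Cfsg.charDegree (ψ₀ : G → ℂ)).factorization p ≤ (Nat.card G).factorization p := by
    have hdvd := Cfsg.Agent.helper24.irr_degree_dvd_card ψ₀.2
    exact (Nat.factorization_le_iff_dvd (Cfsg.Agent.helper24.irr_charDegree_pos ψ₀.2).ne'
      Nat.card_pos.ne').mpr hdvd p
  omega

end Cfsg.Agent.S4491
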