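import Mathlib
import Cfsg.Agent.Lib_helper22_HtZero9
import Cfsg.Statements.S4710
-- import your own Cfsg.Agent.* helpers here

set_option autoImplicit false
open Cfsg

namespace Cfsg.Agent.S4710

/-- Let p be a prime, M a maximal ideal of the algebraic integers containing p, and B a p-block of defect d of the finite group G containing k irreducible characters. If B contains a character of positive height then 2k ≤ p^(2d − 2); and every character in B has height 0 when d ≤ 1 and height at most d − 2 when d ≥ 2. -/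
theorem result {G : Type*} [Group G] [Finite G] (p : ℕ) [Fact p.Prime] (M : Ideal Cfsg.AlgInt) (hM : Cfsg.IsPModular p M) (B : Set (Cfsg.IrrCharacter G)) (hB : Cfsg.IsPBlock M B) (d : ℕ) (hd : Cfsg.blockDefect p B = d) : ((∃ χ ∈ B, 0 < Cfsg.blockHeight p B (χ : G → ℂ)) → 2 * Nat.card B ≤ p ^ (2 * d - 2)) ∧ ∀ χ ∈ B, (d ≤ 1 → Cfsg.blockHeight p B (χ : G → ℂ) = 0) ∧ (2 ≤ d → Cfsg.blockHeight p B (χ : G → ℂ) ≤ d - 2) := by
  classical
  haveI := Fintype.ofFinite G
  have hp : p.Prime := Fact.out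
  subst hd
  obtain ⟨Bf, hBf⟩ : ∃ Bf : Finset (IrrCharacter G), Bf = (Set.toFinite B).toFinset := ⟨_, rfl⟩
  have hBfmem : ∀ ξ, ξ ∈ Bf ↔ ξ ∈ B := by
    intro ξ; rw [hBf]; exact Set.Finite.mem_toFinset _
  have hcard : Nat.card B = Bf.card := by
    rw [Nat.card_coe_set_eq, Set.ncard_eq_toFinset_card B (Set.toFinite B), hBf]
  refine ⟨?_, ?_⟩
  · rintro ⟨χ, hχ, hpos⟩
    have h1 := Cfsg.Agent.helper22.bf_pos_count p hM B hB Bf hBfmem hχ hpos.ne'
    rw [hcard]
    exact h1
  · intro χ hχ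
    by_cases h0 : Cfsg.blockHeight p B (χ : G → ℂ) = 0
    · exact ⟨fun _ => h0, fun _ => by rw [h0]; exact Nat.zero_le _⟩
    · have h1 := Cfsg.Agent.helper22.pos_height_bound p hM B hB hχ h0
      exact ⟨fun h => by omega, fun _ => by omega⟩

end Cfsg.Agent.S4710
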