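import Mathlib
import Cfsg.Agent.S4710
import Cfsg.Agent.S4491
import Cfsg.Agent.S4494
import Cfsg.Agent.Lib_helper24_DefectOrder
import Cfsg.Agent.Lib_helper24_CharBasic
import Cfsg.Agent.Lib_helper24_FongRey2

/-!
Klein four defect groups (helper1), part 1: a 2-block with defect group of order 4 has exactly
four irreducible characters.
-/

set_option autoImplicit false

namespace Cfsg.Agent.helper1

open Cfsg Cfsg.Agent.helper24

universe u

theorem odd_sq_mod_eight (o : ℕ) (ho : ¬ 2 ∣ o) : o ^ 2 % 8 = 1 := by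
  have h : o % 8 = 1 ∨ o % 8 = 3 ∨ o % 8 = 5 ∨ o % 8 = 7 := by omega
  rw [Nat.pow_mod]
  rcases h with h | h | h | h <;> rw [h]

theorem klein_card_block {G : Type u} [Group G] [Finite G] (M : Ideal AlgInt)
    (hM : IsPModular 2 M) (B : Set (IrrCharacter G)) (hB : IsPBlock M B) (P : Subgroup G)
    (hPD : IsDefectGroup 2 M B P) (hcard : Nat.card P = 4) : Nat.card B = 4 := by
  classical
  haveI : Fact (Nat.Prime 2) := ⟨Nat.prime_two⟩
  have := Fintype.ofFinite G
  have hd : blockDefect 2 B = 2 := by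
    have h1 := card_defectGroup 2 M hM B hB P hPD
    rw [hcard] at h1
    have h2 : (2 : ℕ) ^ 2 = 2 ^ blockDefect 2 B := by rw [← h1]; norm_num
    exact (Nat.pow_right_injective (le_refl 2) h2).symm
  obtain ⟨m, hm⟩ : ∃ m : ℕ, m = sInf ((fun χ : IrrCharacter G =>
      (charDegree (χ : G → ℂ)).factorization 2) '' B) := ⟨_, rfl⟩
  obtain ⟨a, ha⟩ : ∃ a : ℕ, a = (Nat.card G).factorization 2 := ⟨_, rfl⟩
  have hda : a - m = 2 := by
    rw [ha, hm]
    exact hd
  have hht := (Cfsg.Agent.S4710.result 2 M hM B hB 2 hd).2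
  have hdeg : ∀ χ ∈ B, (charDegree (χ : G → ℂ)).factorization 2 = m := by
    intro χ hχ
    have h1 := (hht χ hχ).2 (le_refl 2)
    unfold blockHeight at h1
    rw [← hm] at h1
    have h2 : m ≤ (charDegree (χ : G → ℂ)).factorization 2 := by
      rw [hm]
      exact Nat.sInf_le ⟨χ, hχ, rfl⟩
    omega
  have hfin : B.Finite := Set.toFinite B
  have hsum : ∑ᶠ χ ∈ B, charDegree (χ : G → ℂ) ^ 2 =
      ∑ χ ∈ hfin.toFinset, charDegree (χ : G → ℂ) ^ 2 := by
    rw [finsum_mem_eq_finite_toFinset_sum _ hfin]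
  have h91 := Cfsg.Agent.S4491.result 2 M hM B hB
  rw [hd, ← ha, hsum] at h91
  have hcardB : Nat.card B = hfin.toFinset.card := by
    rw [Nat.card_coe_set_eq, Set.ncard_eq_toFinset_card B hfin]
  obtain ⟨o, ho⟩ : ∃ o : IrrCharacter G → ℕ, o = fun χ : IrrCharacter G => ordCompl[2] (charDegree (χ : G → ℂ)) :=
    ⟨_, rfl⟩
  have hdecomp : ∀ χ ∈ hfin.toFinset, charDegree (χ : G → ℂ) ^ 2 = 4 ^ m * (o χ) ^ 2 := by
    intro χ hχ
    have hχB : χ ∈ B := hfin.mem_toFinset.1 hχ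
    have h1 := Nat.ordProj_mul_ordCompl_eq_self (charDegree (χ : G → ℂ)) 2
    rw [hdeg χ hχB] at h1
    rw [ho]
    show charDegree (χ : G → ℂ) ^ 2 = 4 ^ m * (ordCompl[2] (charDegree (χ : G → ℂ))) ^ 2
    have h4 : (4 : ℕ) ^ m = (2 ^ m) ^ 2 := by
      rw [← pow_mul, mul_comm, pow_mul]
      norm_num
    rw [h4, ← mul_pow, hdeg χ hχB, h1]
  have hodd : ∀ χ ∈ hfin.toFinset, ¬ 2 ∣ o χ := by
    intro χ hχ
    rw [ho]
    exact Nat.not_dvd_ordCompl Nat.prime_two (irr_charDegree_pos χ.2).ne'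
  rw [Finset.sum_congr rfl hdecomp, ← Finset.mul_sum] at h91
  obtain ⟨S', hS'⟩ : ∃ S' : ℕ, S' = ∑ χ ∈ hfin.toFinset, (o χ) ^ 2 := ⟨_, rfl⟩
  rw [← hS'] at h91
  have hmod : S' % 8 = hfin.toFinset.card % 8 := by
    rw [hS', Finset.sum_nat_mod, Finset.sum_congr rfl (fun χ hχ => odd_sq_mod_eight (o χ) (hodd χ hχ)),
      Finset.sum_const, smul_eq_mul, mul_one]
  have hne : hfin.toFinset.Nonempty := by
    haveI : M.IsPrime := hM.2.1.isPrime
    obtain ⟨χ, hχ⟩ := isPBlock_nonempty hB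
    exact ⟨χ, hfin.mem_toFinset.2 hχ⟩
  have hS'pos : S' ≠ 0 := by
    obtain ⟨χ, hχ⟩ := hne
    rw [hS']
    intro h0
    have h1 := (Finset.sum_eq_zero_iff.1 h0) χ hχ
    have h2 : o χ = 0 := by
      rcases Nat.eq_zero_or_pos (o χ) with h | h
      · exact h
      · exact absurd h1 (pow_pos h 2).ne'
    exact hodd χ hχ (h2 ▸ dvd_zero 2)
  have hfac : S'.factorization 2 = 2 := by
    have h4 : (4 : ℕ) ^ m = 2 ^ (2 * m) := by
      rw [pow_mul]
      norm_num
    rw [h4, Nat.factorization_mul (pow_ne_zero _ (by norm_num)) hS'pos] at h91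
    simp only [Finsupp.coe_add, Pi.add_apply, Nat.Prime.factorization_pow Nat.prime_two,
      Finsupp.single_eq_same] at h91
    omega
  have h4dvd : 4 ∣ S' := by
    have := Nat.ordProj_dvd S' 2
    rw [hfac] at this
    exact this
  have h8ndvd : ¬ 8 ∣ S' := by
    have := Nat.pow_succ_factorization_not_dvd hS'pos Nat.prime_two
    rw [hfac] at this
    exact this
  have h94 := Cfsg.Agent.S4494.result 2 M hM B hB
  rw [hd, hcardB] at h94
  rw [hcardB]
  omega

end Cfsg.Agent.helper1
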