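import Mathlib
import Cfsg.Agent.Lib_helper24_BPair27

/-!
Klein four defect groups (helper1), part 2: automorphisms of odd order of a Klein four group,
and the conjugation action of a subgroup of the normalizer.
-/

set_option autoImplicit false

namespace Cfsg.Agent.helper1

open Cfsg Cfsg.Agent.helper24

universe u

section Abstract

variable {V : Type u} [Group V] [IsKleinFour V]

/-- an automorphism of odd order of a Klein four group fixing a nonidentity element is trivial -/
theorem klein_aut_fix (α : MulAut V) (m : ℕ) (hm : Odd m) (hαm : α ^ m = 1) (u : V)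
    (hu : u ≠ 1) (hfix : α u = u) : α = 1 := by
  by_contra hne
  have hex : ∃ v : V, α v ≠ v := by
    by_contra hall
    push Not at hall
    apply hne
    ext v
    exact hall v
  obtain ⟨v, hv⟩ := hex
  have hv1 : v ≠ 1 := by
    rintro rfl
    exact hv (map_one α)
  have hvu : v ≠ u := by
    rintro rfl
    exact hv hfix
  have hav1 : α v ≠ 1 := by
    intro h
    apply hv1
    exact α.injective (h.trans (map_one α).symm)
  have havu : α v ≠ u := by
    intro h
    apply hvu
    exact α.injective (h.trans hfix.symm)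
  have h1 : α v = u * v := IsKleinFour.eq_mul_of_ne_all hu hv1 (Ne.symm hvu) hav1 havu hv
  have h2 : α (α v) = v := by
    rw [h1, map_mul, hfix, h1, ← mul_assoc, IsKleinFour.mul_self, one_mul]
  have h2' : α (α v) = v := h2
  obtain ⟨k, rfl⟩ := hm
  have h3 : ∀ j : ℕ, ((α ^ 2) ^ j) v = v := by
    intro j
    induction j with
    | zero => simp
    | succ j ih =>
      rw [pow_succ, MulAut.mul_apply]
      have h5 : (α ^ 2) v = v := by rw [pow_two, MulAut.mul_apply, h2']
      rw [h5, ih]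
  have h4 : (α ^ (2 * k + 1)) v = α v := by
    rw [pow_succ', MulAut.mul_apply, pow_mul, h3]
  rw [hαm] at h4
  exact hv h4.symm

/-- a nontrivial automorphism of order dividing three of a Klein four group is transitive on the
nonidentity elements -/
theorem klein_aut_trans (α : MulAut V) (hα : α ≠ 1) (hα3 : α ^ 3 = 1) (u : V) (hu : u ≠ 1)
    (y : V) (hy : y ≠ 1) : y = u ∨ y = α u ∨ y = α (α u) := by
  classical
  have : Finite V := IsKleinFour.instFinite
  have := Fintype.ofFinite V
  have hodd : Odd 3 := by decide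
  have h1 : α u ≠ u := fun h => hα (klein_aut_fix α 3 hodd hα3 u hu h)
  have hα2 : α ^ 2 ≠ 1 := by
    intro h
    apply hα
    have : α ^ 3 = α ^ 2 * α := pow_succ α 2
    rw [hα3, h, one_mul] at this
    exact this.symm
  have hα23 : (α ^ 2) ^ 3 = 1 := by
    rw [← pow_mul, mul_comm, pow_mul, hα3, one_pow]
  have h2 : α (α u) ≠ u := by
    intro h
    apply hα2
    apply klein_aut_fix (α ^ 2) 3 hodd hα23 u hu
    rw [pow_two, MulAut.mul_apply]
    exact h
  have h3 : α (α u) ≠ α u := fun h => h1 (α.injective h)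
  have hau1 : α u ≠ 1 := by
    intro h
    exact hu (α.injective (h.trans (map_one α).symm))
  have haau1 : α (α u) ≠ 1 := by
    intro h
    exact hau1 (α.injective (h.trans (map_one α).symm))
  have h4 : α (α u) = u * α u :=
    IsKleinFour.eq_mul_of_ne_all hu hau1 (Ne.symm h1) haau1 h2 h3
  have huniv := IsKleinFour.eq_finset_univ hu hau1 (Ne.symm h1)
  have hymem : y ∈ ({u * α u, u, α u, 1} : Finset V) := by
    rw [huniv]
    exact Finset.mem_univ y
  simp only [Finset.mem_insert, Finset.mem_singleton] at hymem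
  rcases hymem with h | h | h | h
  · right; right
    rw [h4, h]
  · left
    exact h
  · right; left
    exact h
  · exact absurd h hy

end Abstract

section Concrete

variable {G : Type u} [Group G] [Finite G]

theorem klein_ker_index (P T : Subgroup G) (hPT : P ≤ T)
    (hTN : T ≤ Subgroup.normalizer (P : Set G)) :
    (conjAutHom P T hTN).ker.index = (Subgroup.centralizer (P : Set G)).relIndex T := by
  rw [conjAutHom_ker P T hPT hTN]
  unfold Subgroup.relIndex
  congr 1
  ext z
  rw [mem_centralizer_subgroupOf_iff hPT, Subgroup.mem_subgroupOf]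

theorem klein_relIndex_dvd (P T : Subgroup G) [IsKleinFour P] (hPT : P ≤ T)
    (hTN : T ≤ Subgroup.normalizer (P : Set G)) :
    (Subgroup.centralizer (P : Set G)).relIndex T ∣ 24 := by
  classical
  have := Fintype.ofFinite ↥P
  rw [← klein_ker_index P T hPT hTN]
  obtain ⟨ψ, hψ⟩ : ∃ ψ : ↥T →* Equiv.Perm ↥P, ψ = (MulAut.toPerm ↥P).comp (conjAutHom P T hTN) :=
    ⟨_, rfl⟩
  have hker : ψ.ker = (conjAutHom P T hTN).ker := by
    ext t
    rw [MonoidHom.mem_ker, MonoidHom.mem_ker, hψ, MonoidHom.comp_apply]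
    constructor
    · intro h
      ext x
      have h1 := congrArg (fun σ : Equiv.Perm ↥P => σ x) h
      exact congrArg Subtype.val h1
    · intro h
      rw [h, map_one]
  rw [← hker, Subgroup.index_ker]
  have h1 : Nat.card ↥ψ.range ∣ Nat.card (Equiv.Perm ↥P) := Subgroup.card_subgroup_dvd_card _
  have h2 : Nat.card (Equiv.Perm ↥P) = 24 := by
    rw [Nat.card_eq_fintype_card, Fintype.card_perm, ← Nat.card_eq_fintype_card,
      IsKleinFour.card_four]
    rfl
  rw [h2] at h1
  exact h1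

theorem klein_inertial_cases (P T : Subgroup G) [IsKleinFour P] (hPT : P ≤ T)
    (hTN : T ≤ Subgroup.normalizer (P : Set G))
    (hodd : ¬ 2 ∣ (Subgroup.centralizer (P : Set G)).relIndex T) :
    (Subgroup.centralizer (P : Set G)).relIndex T = 1 ∨
      (Subgroup.centralizer (P : Set G)).relIndex T = 3 := by
  have h1 := klein_relIndex_dvd P T hPT hTN
  obtain ⟨e, he⟩ : ∃ e : ℕ, e = (Subgroup.centralizer (P : Set G)).relIndex T := ⟨_, rfl⟩
  rw [← he] at h1 hodd ⊢
  have h2 : e ≤ 24 := Nat.le_of_dvd (by norm_num) h1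
  interval_cases e <;> omega

theorem klein_fix_mem_centralizer (P T : Subgroup G) [IsKleinFour P] (hPT : P ≤ T)
    (hTN : T ≤ Subgroup.normalizer (P : Set G))
    (hodd : ¬ 2 ∣ (Subgroup.centralizer (P : Set G)).relIndex T)
    {t u : G} (ht : t ∈ T) (hu : u ∈ P) (hu1 : u ≠ 1) (hfix : t * u * t⁻¹ = u) :
    t ∈ Subgroup.centralizer (P : Set G) := by
  obtain ⟨φ, hφ⟩ : ∃ φ : ↥T →* MulAut ↥P, φ = conjAutHom P T hTN := ⟨_, rfl⟩
  have hidx : φ.ker.index = (Subgroup.centralizer (P : Set G)).relIndex T := by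
    rw [hφ]
    exact klein_ker_index P T hPT hTN
  obtain ⟨m, hm⟩ : ∃ m : ℕ, m = φ.ker.index := ⟨_, rfl⟩
  have hmodd : Odd m := by
    rw [hm, hidx]
    exact Nat.odd_iff.2 (by omega)
  have hpow : (φ ⟨t, ht⟩) ^ m = 1 := by
    rw [← map_pow, hm]
    exact MonoidHom.mem_ker.1 (Subgroup.pow_index_mem φ.ker _)
  have hfix' : φ ⟨t, ht⟩ ⟨u, hu⟩ = ⟨u, hu⟩ := by
    apply Subtype.ext
    rw [hφ, conjAutHom_coe]
    exact hfix
  have hu1' : (⟨u, hu⟩ : ↥P) ≠ 1 := by
    intro h
    exact hu1 (congrArg Subtype.val h)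
  have h1 := klein_aut_fix (φ ⟨t, ht⟩) m hmodd hpow ⟨u, hu⟩ hu1' hfix'
  have h2 : (⟨t, ht⟩ : ↥T) ∈ φ.ker := MonoidHom.mem_ker.2 h1
  rw [hφ, conjAutHom_ker P T hPT hTN, mem_centralizer_subgroupOf_iff hPT] at h2
  exact h2

theorem klein_trans (P T : Subgroup G) [IsKleinFour P] (hPT : P ≤ T)
    (hTN : T ≤ Subgroup.normalizer (P : Set G))
    (h3 : (Subgroup.centralizer (P : Set G)).relIndex T = 3)
    {u : G} (hu : u ∈ P) (hu1 : u ≠ 1) {y : G} (hy : y ∈ P) (hy1 : y ≠ 1) :
    ∃ t ∈ T, t * u * t⁻¹ = y := by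
  obtain ⟨φ, hφ⟩ : ∃ φ : ↥T →* MulAut ↥P, φ = conjAutHom P T hTN := ⟨_, rfl⟩
  have hidx : φ.ker.index = 3 := by
    rw [hφ, klein_ker_index P T hPT hTN, h3]
  have hne : φ.ker ≠ ⊤ := by
    intro h
    rw [h, Subgroup.index_top] at hidx
    omega
  obtain ⟨t₀, ht₀⟩ : ∃ t₀ : ↥T, t₀ ∉ φ.ker := by
    by_contra hall
    push Not at hall
    exact hne (eq_top_iff.2 (fun x _ => hall x))
  have hα : φ t₀ ≠ 1 := fun h => ht₀ (MonoidHom.mem_ker.2 h)
  have hα3 : (φ t₀) ^ 3 = 1 := by
    rw [← map_pow, ← hidx]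
    exact MonoidHom.mem_ker.1 (Subgroup.pow_index_mem φ.ker _)
  have hu1' : (⟨u, hu⟩ : ↥P) ≠ 1 := by
    intro h
    exact hu1 (congrArg Subtype.val h)
  have hy1' : (⟨y, hy⟩ : ↥P) ≠ 1 := by
    intro h
    exact hy1 (congrArg Subtype.val h)
  rcases klein_aut_trans (φ t₀) hα hα3 ⟨u, hu⟩ hu1' ⟨y, hy⟩ hy1' with h | h | h
  · refine ⟨1, Subgroup.one_mem _, ?_⟩
    have := congrArg Subtype.val h
    simp only at this
    rw [this]
    group
  · refine ⟨t₀, t₀.2, ?_⟩
    have := congrArg Subtype.val h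
    rw [hφ, conjAutHom_coe] at this
    exact this.symm
  · refine ⟨t₀ * t₀, Subgroup.mul_mem _ t₀.2 t₀.2, ?_⟩
    have := congrArg Subtype.val h
    rw [hφ, conjAutHom_coe, conjAutHom_coe] at this
    simp only at this
    rw [this]
    group

end Concrete

end Cfsg.Agent.helper1
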