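import Mathlib
import Cfsg.Agent.Lib_helper24_BPair23
import Cfsg.Agent.Lib_helper24_BPair26
import Cfsg.Agent.Lib_helper24_BPair36

/-!
Klein four defect groups (helper1), part 3: subsections `(x, b)` as Brauer pairs on `zpowers x`.
-/

set_option autoImplicit false

namespace Cfsg.Agent.helper1

open Cfsg Cfsg.Agent.helper24 Cfsg.Agent.helper5 Cfsg.Agent.helper8

universe u

section Rank

variable {H₁ H₂ : Type u} [Group H₁] [Group H₂]

theorem pRegularPart_comp_mulEquiv (p : ℕ) (e : H₁ ≃* H₂) (θ : H₂ → ℂ) :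
    pRegularPart p (fun x => θ (e x)) = fun x => pRegularPart p θ (e x) := by
  classical
  funext x
  unfold pRegularPart IsPRegular
  simp only
  rw [MulEquiv.orderOf_eq e x]
  congr

theorem blockRank_transportSet (p : ℕ) (e : H₁ ≃* H₂) (b : Set (IrrCharacter H₂)) :
    blockRank p (transportSet e b) = blockRank p b := by
  unfold blockRank
  obtain ⟨L, hL⟩ : ∃ L : (H₂ → ℂ) ≃ₗ[ℂ] (H₁ → ℂ), L = LinearEquiv.funCongrLeft ℂ ℂ e.toEquiv :=
    ⟨_, rfl⟩
  have hLapp : ∀ f : H₂ → ℂ, L f = fun x => f (e x) := by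
    intro f
    rw [hL]
    rfl
  have himg : ((fun χ : IrrCharacter H₁ => pRegularPart p (χ : H₁ → ℂ)) '' transportSet e b)
      = L '' ((fun χ : IrrCharacter H₂ => pRegularPart p (χ : H₂ → ℂ)) '' b) := by
    ext f
    constructor
    · rintro ⟨φ, ⟨θ, hθ, hφ⟩, rfl⟩
      refine ⟨pRegularPart p (θ : H₂ → ℂ), ⟨θ, hθ, rfl⟩, ?_⟩
      rw [hLapp]
      show _ = pRegularPart p (φ : H₁ → ℂ)
      rw [hφ, pRegularPart_comp_mulEquiv]
    · rintro ⟨_, ⟨θ, hθ, rfl⟩, rfl⟩
      refine ⟨irrTransport e θ, (mem_transportSet_iff e b θ).2 hθ, ?_⟩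
      rw [hLapp]
      show pRegularPart p (fun x => (θ : H₂ → ℂ) (e x)) = _
      rw [pRegularPart_comp_mulEquiv]
  rw [himg]
  have h1 : Submodule.span ℂ (⇑L '' ((fun χ : IrrCharacter H₂ => pRegularPart p (χ : H₂ → ℂ)) '' b))
      = (Submodule.span ℂ ((fun χ : IrrCharacter H₂ => pRegularPart p (χ : H₂ → ℂ)) '' b)).map
        (L : (H₂ → ℂ) →ₗ[ℂ] (H₁ → ℂ)) := by
    rw [Submodule.map_span]
    rfl
  rw [h1]
  exact LinearEquiv.finrank_map_eq L _

end Rank

section Sec

variable {G : Type u} [Group G]

theorem centralizer_zpowers_eq (x : G) :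
    Subgroup.centralizer ((Subgroup.zpowers x : Subgroup G) : Set G)
      = Subgroup.centralizer ({x} : Set G) := by
  ext c
  rw [Subgroup.mem_centralizer_iff, Subgroup.mem_centralizer_iff]
  constructor
  · intro h y hy
    rw [Set.mem_singleton_iff] at hy
    subst hy
    exact h y (Subgroup.mem_zpowers y)
  · intro h y hy
    obtain ⟨n, rfl⟩ := Subgroup.mem_zpowers_iff.1 hy
    have h1 : Commute x c := h x (Set.mem_singleton x)
    exact (h1.zpow_left n).eq

/-- the identification of the two forms of the centralizer of an element -/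
noncomputable def secEquiv (x : G) :
    ↥(Subgroup.centralizer ((Subgroup.zpowers x : Subgroup G) : Set G)) ≃*
      ↥(Subgroup.centralizer ({x} : Set G)) :=
  MulEquiv.subgroupCongr (centralizer_zpowers_eq x)

theorem secEquiv_coe (x : G)
    (c : ↥(Subgroup.centralizer ((Subgroup.zpowers x : Subgroup G) : Set G))) :
    ((secEquiv x c : ↥(Subgroup.centralizer ({x} : Set G))) : G) = (c : G) := rfl

/-- a subsection as a pair on `zpowers x` -/
noncomputable def secPair (x : G) (b : Set (IrrCharacter ↥(Subgroup.centralizer ({x} : Set G)))) :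
    BrauerPairIdx G :=
  ⟨Subgroup.zpowers x, transportSet (secEquiv x) b⟩

theorem secPair_fst (x : G) (b : Set (IrrCharacter ↥(Subgroup.centralizer ({x} : Set G)))) :
    (secPair x b).1 = Subgroup.zpowers x := rfl

theorem transportSet_symm' {H₁ H₂ : Type u} [Group H₁] [Group H₂] (e : H₁ ≃* H₂)
    (b : Set (IrrCharacter H₂)) : transportSet e.symm (transportSet e b) = b := by
  have h := transportSet_symm e.symm b
  rw [MulEquiv.symm_symm] at h
  exact h

theorem exists_secPair_eq (x : G) (a : BrauerPairIdx G) (h : a.1 = Subgroup.zpowers x) :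
    ∃ b, a = secPair x b := by
  obtain ⟨Q, f⟩ := a
  have h' : Q = Subgroup.zpowers x := h
  subst h'
  refine ⟨transportSet (secEquiv x).symm f, ?_⟩
  unfold secPair
  rw [transportSet_symm]

theorem secPair_injective (x : G) {b b' : Set (IrrCharacter ↥(Subgroup.centralizer ({x} : Set G)))}
    (h : secPair x b = secPair x b') : b = b' := by
  unfold secPair at h
  have h1 := eq_of_heq (Sigma.mk.inj_iff.1 h).2
  have h2 := congrArg (transportSet (secEquiv x).symm) h1
  rw [transportSet_symm', transportSet_symm'] at h2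
  exact h2

/-- the rank of the block of a pair -/
noncomputable def pairRank (p : ℕ) (a : BrauerPairIdx G) : ℕ := blockRank p a.2

theorem pairRank_secPair (p : ℕ) (x : G)
    (b : Set (IrrCharacter ↥(Subgroup.centralizer ({x} : Set G)))) :
    pairRank p (secPair x b) = blockRank p b := by
  unfold pairRank secPair
  exact blockRank_transportSet p _ b

theorem pairRank_cjPair (p : ℕ) (g : G) (a : BrauerPairIdx G) :
    pairRank p (cjPair g a) = pairRank p a := by
  obtain ⟨Q, f⟩ := a
  unfold pairRank cjPair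
  show blockRank p (conjBlock Q g f) = blockRank p f
  rw [conjBlock_eq_transportSet]
  exact blockRank_transportSet p _ f

end Sec

end Cfsg.Agent.helper1
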