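import Mathlib
import Cfsg.Agent.Lib_helper1_Klein3

/-!
Klein four defect groups (helper1), part 4: fusion of subsections for abelian defect groups.
-/

set_option autoImplicit false

namespace Cfsg.Agent.helper1

open Cfsg Cfsg.Agent.helper24 Cfsg.Agent.helper5 Cfsg.Agent.helper8

universe u

section Fus

variable {G : Type u} [Group G] [Fintype G] {M : Ideal AlgInt} {p : ℕ} [Fact p.Prime]

theorem isPGroup_zpowers_of_orderOf {x : G} (hx : ∃ k : ℕ, orderOf x = p ^ k) :
    IsPGroup p (Subgroup.zpowers x) := by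
  obtain ⟨k, hk⟩ := hx
  apply IsPGroup.of_card (n := k)
  rw [Nat.card_zpowers, hk]

theorem induced_congr {H K : Subgroup G} (h : H = K) (b : Set (IrrCharacter ↥K))
    (B : Set (IrrCharacter G)) :
    IsInducedBlock M H (transportSet (MulEquiv.subgroupCongr h) b) B ↔
      IsInducedBlock M K b B := by
  subst h
  have h1 : MulEquiv.subgroupCongr (rfl : H = H) = MulEquiv.refl ↥H := by
    ext c
    rfl
  rw [h1, transportSet_refl]

theorem sec_induced_iff (hM : IsPModular p M) {x : G} (hx : ∃ k : ℕ, orderOf x = p ^ k)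
    (b : Set (IrrCharacter ↥(Subgroup.centralizer ({x} : Set G)))) (B : Set (IrrCharacter G)) :
    IsInducedBlock M (Subgroup.centralizer ({x} : Set G)) b B ↔
      IsBrauerPairOf p M B (secPair x b).1 (secPair x b).2 := by
  classical
  have hMp : M.IsPrime := hM.2.1.isPrime
  have := Fintype.ofFinite ↥(Subgroup.centralizer ((Subgroup.zpowers x : Subgroup G) : Set G))
  have hcongr := induced_congr (M := M) (centralizer_zpowers_eq x) b
  constructor
  · intro hind
    have hpair : IsBrauerPair p M (Subgroup.zpowers x) (transportSet (secEquiv x) b) :=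
      ⟨isPGroup_zpowers_of_orderOf hx, isPBlock_transportSet _ b hind.1⟩
    obtain ⟨B', hB', -⟩ := brauer_pair_unique_block p M hM _ _ hpair
    have h1 := induced_of_brauerPair hM hB'
    have h2 : IsInducedBlock M (Subgroup.centralizer ((Subgroup.zpowers x : Subgroup G) : Set G))
        (transportSet (secEquiv x) b) B := (hcongr B).2 hind
    have h3 : B' = B := induced_block_unique _ h1 h2
    rw [h3] at hB'
    exact hB'
  · intro hB'
    have h1 := induced_of_brauerPair hM hB'
    exact (hcongr B).1 h1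

set_option maxHeartbeats 1600000 in
/-- abelian defect groups: conjugation between pairs below a maximal pair is induced by the
stabilizer of the maximal pair, up to the centralizer -/
theorem abelian_fusion_control (hM : IsPModular p M) (B : Set (IrrCharacter G))
    {P : Subgroup G} {e : Set (IrrCharacter (Subgroup.centralizer (P : Set G)))}
    (hmax : IsMaximalBrauerPair p M B P e) (hab : ∀ x ∈ P, ∀ y ∈ P, x * y = y * x)
    (TP : Subgroup G) (hTP : ∀ y : G, y ∈ TP ↔ y ∈ Subgroup.normalizer (P : Set G) ∧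
      StabilizesBlock (Subgroup.centralizer (P : Set G)) e y)
    {a a' : BrauerPairIdx G}
    (ha : Relation.ReflTransGen (NormalSubpairRel p M) a ⟨P, e⟩)
    (ha' : Relation.ReflTransGen (NormalSubpairRel p M) a' ⟨P, e⟩)
    (x : G) (hx : cjPair x a = a') :
    ∃ c₀ ∈ Subgroup.centralizer (a'.1 : Set G), c₀ * x ∈ TP := by
  classical
  obtain ⟨Q, f⟩ := a
  obtain ⟨Q', f'⟩ := a'
  have hMp : M.IsPrime := hM.2.1.isPrime
  have hPe : IsBrauerPair p M P e := hmax.1.1
  have hQ'eq : Q.map (MulAut.conj x).toMonoidHom = Q' := congrArg Sigma.fst hx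
  have hle : SubpairLE p M Q f P e := ha
  have hle' : SubpairLE p M Q' f' P e := ha'
  have hQP : Q ≤ P := Cfsg.Agent.helper1.subpairLE_le hle
  have hQ'P : Q' ≤ P := Cfsg.Agent.helper1.subpairLE_le hle'
  have hPC : P ≤ Subgroup.centralizer (Q : Set G) := by
    intro u hu
    rw [Subgroup.mem_centralizer_iff]
    intro q hq
    exact hab q (hQP hq) u hu
  have hPC' : P ≤ Subgroup.centralizer (Q' : Set G) := by
    intro u hu
    rw [Subgroup.mem_centralizer_iff]
    intro q hq
    exact hab q (hQ'P hq) u hu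
  have hQ'C : Q' ≤ Subgroup.centralizer (Q' : Set G) := hQ'P.trans hPC'
  have hn : IsNormalSubpair p M Q f P e :=
    normalSubpair_of_subpairLE hM hle hPe (hPC.trans (Subgroup.centralizer_le_normalizer _))
  have hn₂ : IsNormalSubpair p M Q' f' P e :=
    normalSubpair_of_subpairLE hM hle' hPe (hPC'.trans (Subgroup.centralizer_le_normalizer _))
  have hQ'f' : IsBrauerPairOf p M B Q' f' := (brauerPairOf_iff_of_subpairLE hM hle' B).1 hmax.1
  have hf' : IsPBlock M f' := hQ'f'.1.2
  have hQ'p : IsPGroup p Q' := hQ'f'.1.1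
  have hn₁ : IsNormalSubpair p M Q' f' (P.map (MulAut.conj x).toMonoidHom)
      (conjBlock P x e) := by
    have h' : NormalSubpairRel p M (cjPair x (⟨Q, f⟩ : BrauerPairIdx G))
        (cjPair x (⟨P, e⟩ : BrauerPairIdx G)) := normalSubpair_conj hn x
    rw [hx] at h'
    exact h'
  have hPxC : P.map (MulAut.conj x).toMonoidHom ≤ Subgroup.centralizer (Q' : Set G) := by
    rintro _ ⟨u, hu, rfl⟩
    rw [Subgroup.mem_centralizer_iff]
    intro q' hq'
    rw [← hQ'eq] at hq'
    obtain ⟨q, hq, rfl⟩ := hq'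
    have h1 := hab q (hQP hq) u hu
    show (x * q * x⁻¹) * (x * u * x⁻¹) = (x * u * x⁻¹) * (x * q * x⁻¹)
    calc (x * q * x⁻¹) * (x * u * x⁻¹) = x * (q * u) * x⁻¹ := by group
      _ = x * (u * q) * x⁻¹ := by rw [h1]
      _ = (x * u * x⁻¹) * (x * q * x⁻¹) := by group
  have hcard : ∀ (S : Subgroup G)
      (gS : Set (IrrCharacter ↥(Subgroup.centralizer (S : Set G)))),
      IsNormalSubpair p M Q' f' S gS → S ≤ Subgroup.centralizer (Q' : Set G) →
      Nat.card S ≤ Nat.card P :=
    fun S gS hn _ => card_le_of_normalSubpair hM B hmax hQ'f' hn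
  obtain ⟨c, hc, hlec⟩ := relative_sylow hM hQ'p hQ'C (Subgroup.centralizer_le_normalizer _)
    le_rfl f' hf' (fun t ht => stabilizesBlock_of_mem_self f' ht) hn₁ hn₂ hPxC hPC' hcard
  have hchain : Relation.ReflTransGen (NormalSubpairRel p M)
      (cjPair c (cjPair x (⟨P, e⟩ : BrauerPairIdx G))) ⟨P, e⟩ := hlec
  rw [cjPair_mul] at hchain
  have heq1 : (cjPair (c * x) (⟨P, e⟩ : BrauerPairIdx G)).1 = P := by
    have h1 : P.map (MulAut.conj (c * x)).toMonoidHom ≤ P :=
      Cfsg.Agent.helper1.subpairLE_le hchain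
    have h2 : Nat.card P ≤ Nat.card ↥(P.map (MulAut.conj (c * x)).toMonoidHom) := by
      have h3 : Nat.card ↥(P.map (MulAut.conj (c * x)).toMonoidHom) = Nat.card P :=
        Subgroup.card_map_of_injective (MulAut.conj (c * x)).injective
      rw [h3]
    exact Subgroup.eq_of_le_of_card_ge h1 h2
  have heq : cjPair (c * x) (⟨P, e⟩ : BrauerPairIdx G) = ⟨P, e⟩ :=
    subpairLE_eq_of_eq hchain heq1
  exact ⟨c, hc, (hTP _).2 ((stab_mem_iff_cjPair _).2 heq)⟩

/-- conjugating a pair on `zpowers y` only depends on the image of `y` -/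
theorem cjPair_eq_of_conj_eq {y : G}
    (f : Set (IrrCharacter ↥(Subgroup.centralizer ((Subgroup.zpowers y : Subgroup G) : Set G))))
    {g g' : G} (h : g * y * g⁻¹ = g' * y * g'⁻¹) :
    cjPair g (⟨Subgroup.zpowers y, f⟩ : BrauerPairIdx G) = cjPair g' ⟨Subgroup.zpowers y, f⟩ := by
  have hz : g'⁻¹ * g ∈ Subgroup.centralizer ((Subgroup.zpowers y : Subgroup G) : Set G) := by
    rw [centralizer_zpowers_eq, Subgroup.mem_centralizer_iff]
    intro w hw
    rw [Set.mem_singleton_iff] at hw
    subst hw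
    calc w * (g'⁻¹ * g) = g'⁻¹ * (g' * w * g'⁻¹) * g := by group
      _ = g'⁻¹ * (g * w * g⁻¹) * g := by rw [h]
      _ = g'⁻¹ * g * w := by group
  have h1 : cjPair (g'⁻¹ * g) (⟨Subgroup.zpowers y, f⟩ : BrauerPairIdx G)
      = ⟨Subgroup.zpowers y, f⟩ :=
    cjPair_eq_of_stabilizes (Subgroup.centralizer_le_normalizer _ hz)
      (stabilizesBlock_of_mem_self f hz) (stabilizesBlock_of_mem_self f (Subgroup.inv_mem _ hz))
  have h2 : g = g' * (g'⁻¹ * g) := by group
  rw [h2, ← cjPair_mul, h1]

end Fus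

end Cfsg.Agent.helper1
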