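import Mathlib
import Cfsg.Agent.Lib_helper1_Klein4
import Cfsg.Agent.S4511

/-!
Klein four defect groups (helper1), part 5: counting the characters of a block with abelian
defect group by the orbits of the inertial group on the defect group.
-/

set_option autoImplicit false

namespace Cfsg.Agent.helper1

open Cfsg Cfsg.Agent.helper24 Cfsg.Agent.helper5 Cfsg.Agent.helper8

universe u

section Count

variable {G : Type u} [Group G] [Fintype G] {M : Ideal AlgInt} {p : ℕ} [Fact p.Prime]

omit [Fintype G] [Fact p.Prime] in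
theorem cjPair_zpowers_fst {g y x : G} (h : g * y * g⁻¹ = x)
    (f : Set (IrrCharacter ↥(Subgroup.centralizer ((Subgroup.zpowers y : Subgroup G) : Set G)))) :
    (cjPair g (⟨Subgroup.zpowers y, f⟩ : BrauerPairIdx G)).1 = Subgroup.zpowers x := by
  show (Subgroup.zpowers y).map (MulAut.conj g).toMonoidHom = Subgroup.zpowers x
  rw [MonoidHom.map_zpowers]
  congr 1

/-- the block of `C({x})` attached to the pair `(⟨y⟩, f)` and a conjugate `x` of `y` -/
noncomputable def secBlock (x y : G)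
    (f : Set (IrrCharacter ↥(Subgroup.centralizer ((Subgroup.zpowers y : Subgroup G) : Set G)))) :
    Set (IrrCharacter ↥(Subgroup.centralizer ({x} : Set G))) := by
  classical
  exact if h : ∃ g : G, g * y * g⁻¹ = x then
    Classical.choose (exists_secPair_eq x (cjPair (Classical.choose h) ⟨Subgroup.zpowers y, f⟩)
      (cjPair_zpowers_fst (Classical.choose_spec h) f))
  else ∅

omit [Fact p.Prime] in
theorem secBlock_spec (x y : G)
    (f : Set (IrrCharacter ↥(Subgroup.centralizer ((Subgroup.zpowers y : Subgroup G) : Set G))))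
    (g : G) (hg : g * y * g⁻¹ = x) :
    cjPair g (⟨Subgroup.zpowers y, f⟩ : BrauerPairIdx G) = secPair x (secBlock x y f) := by
  classical
  have h : ∃ g : G, g * y * g⁻¹ = x := ⟨g, hg⟩
  unfold secBlock
  rw [dif_pos h]
  have h1 := Classical.choose_spec (exists_secPair_eq x
    (cjPair (Classical.choose h) ⟨Subgroup.zpowers y, f⟩)
      (cjPair_zpowers_fst (Classical.choose_spec h) f))
  rw [← h1]
  exact cjPair_eq_of_conj_eq f (hg.trans (Classical.choose_spec h).symm)

set_option maxHeartbeats 1600000 in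
/-- the subsections with first component `x`, for a block with abelian defect group -/
theorem subsection_sum_at (hM : IsPModular p M) (B : Set (IrrCharacter G))
    {P : Subgroup G} {e : Set (IrrCharacter (Subgroup.centralizer (P : Set G)))}
    (hmax : IsMaximalBrauerPair p M B P e) (hab : ∀ x ∈ P, ∀ y ∈ P, x * y = y * x)
    (TP : Subgroup G) (hTP : ∀ y : G, y ∈ TP ↔ y ∈ Subgroup.normalizer (P : Set G) ∧
      StabilizesBlock (Subgroup.centralizer (P : Set G)) e y)
    (β : ∀ y : G, Set (IrrCharacter ↥(Subgroup.centralizer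
      ((Subgroup.zpowers y : Subgroup G) : Set G))))
    (hβ : ∀ y ∈ P, Relation.ReflTransGen (NormalSubpairRel p M)
      (⟨Subgroup.zpowers y, β y⟩ : BrauerPairIdx G) ⟨P, e⟩)
    (Y : Finset G) (hYP : ∀ y ∈ Y, y ∈ P)
    (hYrep : ∀ y ∈ P, ∃ y₀ ∈ Y, ∃ t ∈ TP, t * y₀ * t⁻¹ = y)
    (hYinj : ∀ y₁ ∈ Y, ∀ y₂ ∈ Y, ∀ t ∈ TP, t * y₁ * t⁻¹ = y₂ → y₁ = y₂)
    (x : G) (hx : ∃ k : ℕ, orderOf x = p ^ k) [DecidablePred (fun y : G => IsConj y x)] :
    ∑ᶠ b ∈ {b : Set (IrrCharacter ↥(Subgroup.centralizer ({x} : Set G))) |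
        IsInducedBlock M (Subgroup.centralizer ({x} : Set G)) b B}, blockRank p b
      = ∑ y ∈ Y.filter (fun y => IsConj y x), blockRank p (β y) := by
  classical
  have hMp : M.IsPrime := hM.2.1.isPrime
  have hPe : IsBrauerPair p M P e := hmax.1.1
  rw [← finsum_mem_coe_finset]
  symm
  apply finsum_mem_eq_of_bijOn (fun y => secBlock x y (β y))
  · refine ⟨?_, ?_, ?_⟩
    · intro y hy
      rw [Finset.mem_coe, Finset.mem_filter] at hy
      obtain ⟨g, hg⟩ := isConj_iff.1 hy.2
      have hspec := secBlock_spec x y (β y) g hg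
      have hyB : IsBrauerPairOf p M B (Subgroup.zpowers y) (β y) :=
        (brauerPairOf_iff_of_subpairLE hM (hβ y (hYP y hy.1)) B).1 hmax.1
      show IsInducedBlock M _ (secBlock x y (β y)) B
      rw [sec_induced_iff hM hx, ← hspec]
      exact brauerPairOf_conj B hyB g
    · intro y hy y' hy' heq
      rw [Finset.mem_coe, Finset.mem_filter] at hy hy'
      obtain ⟨g, hg⟩ := isConj_iff.1 hy.2
      obtain ⟨g', hg'⟩ := isConj_iff.1 hy'.2
      have hspec := secBlock_spec x y (β y) g hg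
      have hspec' := secBlock_spec x y' (β y') g' hg'
      have heq' : secBlock x y (β y) = secBlock x y' (β y') := heq
      have h1 : cjPair g (⟨Subgroup.zpowers y, β y⟩ : BrauerPairIdx G)
          = cjPair g' ⟨Subgroup.zpowers y', β y'⟩ := by
        rw [hspec, hspec', heq']
      have h2 : cjPair (g'⁻¹ * g) (⟨Subgroup.zpowers y, β y⟩ : BrauerPairIdx G)
          = ⟨Subgroup.zpowers y', β y'⟩ := by
        rw [← cjPair_mul, h1, cjPair_mul, inv_mul_cancel, cjPair_one]
      obtain ⟨c₀, hc₀, ht⟩ := abelian_fusion_control hM B hmax hab TP hTP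
        (hβ y (hYP y hy.1)) (hβ y' (hYP y' hy'.1)) (g'⁻¹ * g) h2
      apply hYinj y hy.1 y' hy'.1 _ ht
      have hc₀' : y' * c₀ = c₀ * y' :=
        (Subgroup.mem_centralizer_iff.1 hc₀) y' (Subgroup.mem_zpowers y')
      have h3 : g'⁻¹ * (g * y * g⁻¹) * g' = y' := by
        rw [hg, ← hg']
        group
      calc c₀ * (g'⁻¹ * g) * y * (c₀ * (g'⁻¹ * g))⁻¹
          = c₀ * (g'⁻¹ * (g * y * g⁻¹) * g') * c₀⁻¹ := by group
        _ = c₀ * y' * c₀⁻¹ := by rw [h3]
        _ = y' * c₀ * c₀⁻¹ := by rw [hc₀']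
        _ = y' := by group
    · intro b hb
      have hb' : IsInducedBlock M (Subgroup.centralizer ({x} : Set G)) b B := hb
      have hbp : IsBrauerPairOf p M B (secPair x b).1 (secPair x b).2 :=
        (sec_induced_iff hM hx b B).1 hb'
      obtain ⟨g₀, hle₀⟩ := pair_conj_below_maximal hM B P _ e _ hmax hbp
      have hchain₀ : Relation.ReflTransGen (NormalSubpairRel p M)
          (cjPair g₀ (secPair x b)) ⟨P, e⟩ := hle₀
      have hfst₀ : (cjPair g₀ (secPair x b)).1 = Subgroup.zpowers (g₀ * x * g₀⁻¹) :=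
        cjPair_zpowers_fst rfl _
      have hy₀P : g₀ * x * g₀⁻¹ ∈ P := by
        have h1 : (cjPair g₀ (secPair x b)).1 ≤ P := Cfsg.Agent.helper1.subpairLE_le hle₀
        rw [hfst₀] at h1
        exact h1 (Subgroup.mem_zpowers _)
      obtain ⟨y, hyY, t, ht, hty⟩ := hYrep _ hy₀P
      have hstab : cjPair t (⟨P, e⟩ : BrauerPairIdx G) = ⟨P, e⟩ :=
        (stab_mem_iff_cjPair t).1 ((hTP t).1 ht)
      have hchain₁ : Relation.ReflTransGen (NormalSubpairRel p M)
          (cjPair t (⟨Subgroup.zpowers y, β y⟩ : BrauerPairIdx G)) ⟨P, e⟩ := by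
        have h1 := subpairLE_conj (hβ y (hYP y hyY)) t
        rw [hstab] at h1
        exact h1
      have hfst₁ : (cjPair t (⟨Subgroup.zpowers y, β y⟩ : BrauerPairIdx G)).1
          = Subgroup.zpowers (g₀ * x * g₀⁻¹) := cjPair_zpowers_fst hty _
      have hpairs : cjPair t (⟨Subgroup.zpowers y, β y⟩ : BrauerPairIdx G)
          = cjPair g₀ (secPair x b) :=
        subpair_unique_sigma hM hPe (hfst₁.trans hfst₀.symm) hchain₁ hchain₀
      have hconj : (g₀⁻¹ * t) * y * (g₀⁻¹ * t)⁻¹ = x := by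
        calc (g₀⁻¹ * t) * y * (g₀⁻¹ * t)⁻¹ = g₀⁻¹ * (t * y * t⁻¹) * g₀ := by group
          _ = g₀⁻¹ * (g₀ * x * g₀⁻¹) * g₀ := by rw [hty]
          _ = x := by group
      have hspec := secBlock_spec x y (β y) (g₀⁻¹ * t) hconj
      have h5 : secPair x b = cjPair (g₀⁻¹ * t) (⟨Subgroup.zpowers y, β y⟩ : BrauerPairIdx G) := by
        rw [← cjPair_mul, hpairs, cjPair_mul, inv_mul_cancel, cjPair_one]
      refine ⟨y, ?_, ?_⟩
      · rw [Finset.mem_coe, Finset.mem_filter]
        exact ⟨hyY, isConj_iff.2 ⟨g₀⁻¹ * t, hconj⟩⟩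
      · show secBlock x y (β y) = b
        apply secPair_injective x
        rw [← hspec, h5]
  · intro y hy
    rw [Finset.mem_coe, Finset.mem_filter] at hy
    obtain ⟨g, hg⟩ := isConj_iff.1 hy.2
    have hspec := secBlock_spec x y (β y) g hg
    have h1 := congrArg (pairRank p) hspec
    rw [pairRank_cjPair, pairRank_secPair] at h1
    exact h1

end Count

end Cfsg.Agent.helper1
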