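import Mathlib
import Cfsg.Agent.Lib_helper1_Klein5
import Cfsg.Agent.Lib_helper24_BrauerMap
import Cfsg.Agent.Lib_helper24_FongRey2

/-!
Klein four defect groups (helper1), part 6: the count of characters of a block with abelian defect
group by orbit representatives; blocks of the whole group seen as a subgroup.
-/

set_option autoImplicit false

namespace Cfsg.Agent.helper1

open Cfsg Cfsg.Agent.helper24 Cfsg.Agent.helper5 Cfsg.Agent.helper8

universe u

section Reps

theorem exists_pclass_reps (G : Type u) [Group G] [Finite G] (p : ℕ) :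
    ∃ X : Finset G, (∀ x ∈ X, ∃ k : ℕ, orderOf x = p ^ k) ∧
      ∀ g : G, (∃ k : ℕ, orderOf g = p ^ k) → ∃! x, x ∈ X ∧ IsConj g x := by
  classical
  have := Fintype.ofFinite G
  obtain ⟨r, hr⟩ : ∃ r : G → G, r = fun g => (ConjClasses.mk g).out := ⟨_, rfl⟩
  have hrc : ∀ g : G, IsConj (r g) g := by
    intro g
    apply ConjClasses.mk_eq_mk_iff_isConj.1
    rw [hr]
    exact Quotient.out_eq _
  have hord : ∀ a b : G, IsConj a b → orderOf a = orderOf b := by
    intro a b hab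
    obtain ⟨c, hc⟩ := isConj_iff.1 hab
    rw [← hc]
    have := MulEquiv.orderOf_eq (MulAut.conj c) a
    rw [MulAut.conj_apply] at this
    exact this.symm
  refine ⟨(Finset.univ.filter (fun g : G => ∃ k : ℕ, orderOf g = p ^ k)).image r, ?_, ?_⟩
  · intro x hx
    obtain ⟨g, hg, rfl⟩ := Finset.mem_image.1 hx
    rw [Finset.mem_filter] at hg
    obtain ⟨k, hk⟩ := hg.2
    exact ⟨k, by rw [hord _ _ (hrc g), hk]⟩
  · intro g hg
    refine ⟨r g, ⟨Finset.mem_image.2 ⟨g, Finset.mem_filter.2 ⟨Finset.mem_univ _, hg⟩, rfl⟩,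
      (hrc g).symm⟩, ?_⟩
    rintro x' ⟨hx'X, hx'c⟩
    obtain ⟨g', -, rfl⟩ := Finset.mem_image.1 hx'X
    have h1 : IsConj g' g := (hrc g').symm.trans hx'c.symm
    have h2 : ConjClasses.mk g' = ConjClasses.mk g := ConjClasses.mk_eq_mk_iff_isConj.2 h1
    rw [hr]
    show (ConjClasses.mk g').out = (ConjClasses.mk g).out
    rw [h2]

end Reps

section Count

variable {G : Type u} [Group G] [Fintype G] {M : Ideal AlgInt} {p : ℕ} [Fact p.Prime]

set_option maxHeartbeats 1600000 in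
/-- the number of characters of a block with abelian defect group `P`: a sum over
representatives of the orbits of the inertial group on `P` -/
theorem abelian_subsection_count (hM : IsPModular p M) (B : Set (IrrCharacter G))
    {P : Subgroup G} {e : Set (IrrCharacter (Subgroup.centralizer (P : Set G)))}
    (hmax : IsMaximalBrauerPair p M B P e) (hab : ∀ x ∈ P, ∀ y ∈ P, x * y = y * x)
    (TP : Subgroup G) (hTP : ∀ y : G, y ∈ TP ↔ y ∈ Subgroup.normalizer (P : Set G) ∧
      StabilizesBlock (Subgroup.centralizer (P : Set G)) e y)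
    (β : ∀ y : G, Set (IrrCharacter ↥(Subgroup.centralizer
      ((Subgroup.zpowers y : Subgroup G) : Set G))))
    (hβ : ∀ y ∈ P, Relation.ReflTransGen (NormalSubpairRel p M)
      (⟨Subgroup.zpowers y, β y⟩ : BrauerPairIdx G) ⟨P, e⟩)
    (Y : Finset G) (hYP : ∀ y ∈ Y, y ∈ P)
    (hYrep : ∀ y ∈ P, ∃ y₀ ∈ Y, ∃ t ∈ TP, t * y₀ * t⁻¹ = y)
    (hYinj : ∀ y₁ ∈ Y, ∀ y₂ ∈ Y, ∀ t ∈ TP, t * y₁ * t⁻¹ = y₂ → y₁ = y₂) :
    Nat.card B = ∑ y ∈ Y, blockRank p (β y) := by
  classical
  have hB : IsPBlock M B := hmax.1.2.1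
  have hP : IsPGroup p P := hmax.1.1.1
  obtain ⟨X, hX, hXrep⟩ := exists_pclass_reps G p
  rw [Cfsg.Agent.S4511.result p M hM B hB X hX hXrep]
  rw [Finset.sum_congr rfl (fun x hx => subsection_sum_at hM B hmax hab TP hTP β hβ Y hYP hYrep
    hYinj x (hX x hx))]
  rw [Finset.sum_congr rfl (fun x _ => Finset.sum_filter _ _), Finset.sum_comm]
  refine Finset.sum_congr rfl (fun y hy => ?_)
  have hyP := hYP y hy
  have hyord : ∃ k : ℕ, orderOf y = p ^ k := by
    obtain ⟨k, hk⟩ := (IsPGroup.iff_orderOf.1 hP) ⟨y, hyP⟩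
    refine ⟨k, ?_⟩
    rw [← hk]
    exact (Subgroup.orderOf_mk y hyP).symm
  obtain ⟨x₀, ⟨hx₀X, hx₀c⟩, hx₀u⟩ := hXrep y hyord
  rw [Finset.sum_eq_single x₀]
  · rw [if_pos hx₀c]
  · intro x' hx' hne
    rw [if_neg]
    intro hc
    exact hne (hx₀u x' ⟨hx', hc⟩)
  · intro h
    exact absurd hx₀X h

end Count

section Top

variable {G : Type u} [Group G] [Fintype G] {M : Ideal AlgInt}

/-- a block of the whole group, seen as a subgroup, inducing `B` has the rank of `B` -/
theorem blockRank_of_induced_top [hMp : M.IsPrime] (p : ℕ) {H : Subgroup G} (hH : H = ⊤)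
    (b : Set (IrrCharacter ↥H)) (B : Set (IrrCharacter G))
    (hind : IsInducedBlock M H b B) : blockRank p b = blockRank p B := by
  classical
  have := Fintype.ofFinite ↥H
  have hMtop := hMp.ne_top
  obtain ⟨E, hE⟩ : ∃ E : ↥H ≃* G, E = (MulEquiv.subgroupCongr hH).trans Subgroup.topEquiv :=
    ⟨_, rfl⟩
  have hEc : ∀ c : ↥H, E c = (c : G) := by
    intro c
    rw [hE]
    rfl
  have key : ∀ (χ' : IrrCharacter G) (g : G),
      inducedCentralChar H (fun c : ↥H => (χ' : G → ℂ) (E c)) g = centralChar (χ' : G → ℂ) g := by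
    intro χ' g
    rw [inducedCentralChar_eq_omegaFn, ← omegaFn_classInd (irr_isCharacter χ'.2) g]
    unfold omegaFn
    show (∑ h : ↥H, classInd g (h : G) * (χ' : G → ℂ) (E h)) / (χ' : G → ℂ) (E 1) = _
    rw [map_one]
    congr 1
    refine Fintype.sum_equiv E.toEquiv _ _ (fun h => ?_)
    show classInd g (h : G) * (χ' : G → ℂ) (E h) = classInd g (E h) * (χ' : G → ℂ) (E h)
    rw [hEc]
  obtain ⟨ξ₀, hξ₀⟩ := isPBlock_nonempty hind.1
  obtain ⟨χ, hχ⟩ := isPBlock_nonempty hind.2.1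
  obtain ⟨χ', hχ'⟩ : ∃ χ' : IrrCharacter G, χ' = irrTransport E.symm ξ₀ := ⟨_, rfl⟩
  have hfun : (fun c : ↥H => (χ' : G → ℂ) (E c)) = (ξ₀ : ↥H → ℂ) := by
    funext c
    rw [hχ', irrTransport_apply, MulEquiv.symm_apply_apply]
  have hsame : SameBlock M (χ' : G → ℂ) (χ : G → ℂ) := by
    intro g
    have h1 := hind.2.2 ξ₀ hξ₀ χ hχ g
    rw [← hfun, key] at h1
    exact h1
  have hχ'B : χ' ∈ B := by
    have h1 : χ ∈ blockOf M (χ' : G → ℂ) := hsame
    have h2 : B = blockOf M (χ' : G → ℂ) := isPBlock_eq_of_mem hind.2.1 ⟨χ', rfl⟩ hχ h1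
    rw [h2]
    exact sameBlock_refl M hMtop _
  have hmem : ξ₀ ∈ transportSet E B := ⟨χ', hχ'B, hfun.symm⟩
  have heq : b = transportSet E B :=
    isPBlock_eq_of_mem hind.1 (isPBlock_transportSet E B hind.2.1) hξ₀ hmem
  rw [heq]
  exact blockRank_transportSet p E B

theorem blockRank_pos' [hMp : M.IsPrime] (p : ℕ) (hp : p ≠ 1) (B : Set (IrrCharacter G))
    (hB : IsPBlock M B) : 0 < blockRank p B := by
  classical
  obtain ⟨χ, hχ⟩ := isPBlock_nonempty hB
  unfold blockRank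
  rw [Module.finrank_pos_iff_exists_ne_zero]
  refine ⟨⟨pRegularPart p (χ : G → ℂ), Submodule.subset_span ⟨χ, hχ, rfl⟩⟩, ?_⟩
  intro h
  have h1 : pRegularPart p (χ : G → ℂ) = 0 := congrArg Subtype.val h
  have h2 := congrFun h1 1
  unfold pRegularPart IsPRegular at h2
  simp only [orderOf_one, Nat.dvd_one] at h2
  rw [if_pos hp] at h2
  exact irr_apply_one_ne_zero χ.2 h2

end Top

end Cfsg.Agent.helper1
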