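import Mathlib
import Cfsg.Agent.Lib_helper24_BPair36

/-!
Brauer pairs (helper24), part 37: induction of blocks between centralizers and normal inclusion of
pairs; abelian defect groups, free inertial action and nilpotent local blocks.
-/

set_option autoImplicit false

namespace Cfsg.Agent.helper24

open Cfsg Cfsg.Agent.helper5 Cfsg.Agent.helper8
open scoped ComplexConjugate

universe u

section Gen37

/-- the `p'`-part power of an element is `p`-regular -/
theorem pow_ordProj_pregular37 {H : Type*} [Group H] [Finite H] (p : ℕ) [Fact p.Prime] (g : H) :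
    ¬ p ∣ orderOf (g ^ (p ^ (orderOf g).factorization p)) := by
  have hpp : p.Prime := Fact.out
  have hpos : 0 < orderOf g := orderOf_pos g
  rw [orderOf_pow' _ (pow_ne_zero _ hpp.ne_zero), Nat.gcd_eq_right (Nat.ordProj_dvd _ _)]
  exact Nat.not_dvd_ordCompl hpp hpos.ne'

variable {G : Type u} [Group G]

/-- uniqueness of the block induced inside a subgroup -/
theorem inducedIn_unique {M : Ideal AlgInt} [hMp : M.IsPrime] (H K : Subgroup G)
    [Fintype H] [Fintype K] {e : Set (IrrCharacter K)} {f₁ f₂ : Set (IrrCharacter H)}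
    (h1 : IsInducedBlockIn M H K e f₁) (h2 : IsInducedBlockIn M H K e f₂) : f₁ = f₂ := by
  have hMtop := hMp.ne_top
  obtain ⟨ξ₀, hbeq⟩ := h1.1
  obtain ⟨χ₁, hB1⟩ := h1.2.1
  obtain ⟨χ₂, hB2⟩ := h2.2.1
  have hξ₀ : ξ₀ ∈ e := by rw [hbeq]; exact sameBlock_refl M hMtop _
  have hχ₁ : χ₁ ∈ f₁ := by rw [hB1]; exact sameBlock_refl M hMtop _
  have hχ₂ : χ₂ ∈ f₂ := by rw [hB2]; exact sameBlock_refl M hMtop _
  have hsame : SameBlock M (χ₁ : H → ℂ) (χ₂ : H → ℂ) := by
    intro g
    have e1 := h1.2.2 ξ₀ hξ₀ χ₁ hχ₁ g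
    have e2 := h2.2.2 ξ₀ hξ₀ χ₂ hχ₂ g
    have e3 := memLocalIdeal_sub e2 e1
    have e4 : inducedCentralCharIn H K (ξ₀ : K → ℂ) (g : G) - centralChar (χ₂ : H → ℂ) g -
        (inducedCentralCharIn H K (ξ₀ : K → ℂ) (g : G) - centralChar (χ₁ : H → ℂ) g) =
        centralChar (χ₁ : H → ℂ) g - centralChar (χ₂ : H → ℂ) g := by ring
    rwa [e4] at e3
  have hmem : χ₂ ∈ f₁ := by rw [hB1]; exact hsame
  rw [← blockOf_eq_of_mem h1.2.1 hmem, hB2]

/-- the stabilizer of a pair inside a subgroup containing the centralizer -/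
theorem lift_stabilizes {R L : Subgroup G} (hRL : R ≤ L)
    (hCL : Subgroup.centralizer (R : Set G) ≤ L)
    (e : Set (IrrCharacter (Subgroup.centralizer (R : Set G)))) {y : G} (hyL : y ∈ L)
    (hyN : y ∈ Subgroup.normalizer (R : Set G))
    (hyst : StabilizesBlock (Subgroup.centralizer (R : Set G)) e y) :
    (⟨y, hyL⟩ : ↥L) ∈ Subgroup.normalizer ((R.subgroupOf L : Subgroup ↥L) : Set ↥L) ∧
      StabilizesBlock (Subgroup.centralizer ((R.subgroupOf L : Subgroup ↥L) : Set ↥L))
        (transportSet (centSubEquiv R L hRL hCL) e) (⟨y, hyL⟩ : ↥L) := by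
  have hN : (⟨y, hyL⟩ : ↥L) ∈ Subgroup.normalizer ((R.subgroupOf L : Subgroup ↥L) : Set ↥L) := by
    rw [Subgroup.mem_normalizer_iff]
    intro z
    show (z : G) ∈ R ↔ y * (z : G) * y⁻¹ ∈ R
    exact Subgroup.mem_normalizer_iff.1 hyN (z : G)
  refine ⟨hN, Cfsg.Agent.helper1.normalizer_le_normalizer_centralizer _ hN, ?_⟩
  rintro χ' ⟨χ, hχ, hχχ'⟩
  obtain ⟨χ₂, hχ₂, hconj⟩ := hyst.2 χ hχ
  refine ⟨irrTransport (centSubEquiv R L hRL hCL) χ₂, (mem_transportSet_iff _ _ _).2 hχ₂, ?_⟩
  intro k k' hk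
  rw [irrTransport_apply, hχχ']
  show (χ₂ : _ → ℂ) (centSubEquiv R L hRL hCL k') = (χ : _ → ℂ) (centSubEquiv R L hRL hCL k)
  apply hconj
  rw [centSubEquiv_coe, centSubEquiv_coe]
  exact congrArg Subtype.val hk

end Gen37

section Link37

variable {G : Type u} [Group G] [Fintype G] {M : Ideal AlgInt} {p : ℕ} [Fact p.Prime]

set_option maxHeartbeats 1600000 in
/-- the lift of `(P, c)` to `C(Q)` is a pair of `f` when `(Q, f)` is normally below `(P, c)` and
`P` centralizes `Q` -/
theorem lift_pairOf_of_normalSubpair (hM : IsPModular p M) {P Q : Subgroup G}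
    {c : Set (IrrCharacter (Subgroup.centralizer (P : Set G)))}
    {f : Set (IrrCharacter (Subgroup.centralizer (Q : Set G)))}
    (hn : IsNormalSubpair p M Q f P c) (hPC : P ≤ Subgroup.centralizer (Q : Set G))
    (hCPL : Subgroup.centralizer (P : Set G) ≤ Subgroup.centralizer (Q : Set G)) :
    IsBrauerPairOf p M f (P.subgroupOf (Subgroup.centralizer (Q : Set G)))
      (transportSet (centSubEquiv P (Subgroup.centralizer (Q : Set G)) hPC hCPL) c) := by
  classical
  have hQP : Q ≤ P := hn.2.2.1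
  have hQL : Q ≤ Subgroup.centralizer (Q : Set G) := hQP.trans hPC
  have hf : IsPBlock M f := hn.1.2
  have := Fintype.ofFinite ↥(Subgroup.centralizer (Q : Set G))
  have hdn : dnPair (Subgroup.centralizer (Q : Set G))
      (liftPair (Subgroup.centralizer (Q : Set G)) hPC hCPL c) = ⟨P, c⟩ :=
    dnPair_liftPair _ hPC hCPL c
  have hQa : Q.subgroupOf (Subgroup.centralizer (Q : Set G))
      ≤ (liftPair (Subgroup.centralizer (Q : Set G)) hPC hCPL c).1 := by
    show Q.subgroupOf (Subgroup.centralizer (Q : Set G))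
      ≤ P.subgroupOf (Subgroup.centralizer (Q : Set G))
    intro y hy
    exact Subgroup.mem_subgroupOf.2 (hQP (Subgroup.mem_subgroupOf.1 hy))
  have hbp : IsBrauerPair p M (liftPair (Subgroup.centralizer (Q : Set G)) hPC hCPL c).1
      (liftPair (Subgroup.centralizer (Q : Set G)) hPC hCPL c).2 :=
    ⟨hn.2.1.1.comap_subtype, isPBlock_transportSet _ _ hn.2.1.2⟩
  have hcoef : ∀ t : ↥(Subgroup.centralizer (Q : Set G)), blockCoeff f t
      = subgroupBlockCoeff (Subgroup.centralizer (Q : Set G)) f (t : G) := by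
    intro t
    rw [sbc_of_mem _ _ t.2]
  have hpair : IsBrauerPairOf p M f
      (liftPair (Subgroup.centralizer (Q : Set G)) hPC hCPL c).1
      (liftPair (Subgroup.centralizer (Q : Set G)) hPC hCPL c).2 := by
    apply pairOf_of_normalSubpair_dn hQL le_rfl f f hf hcoef _ hQa hbp
    rw [hdn]
    exact hn
  exact hpair

set_option maxHeartbeats 1600000 in
/-- normal inclusion of pairs gives induction of blocks between the centralizers -/
theorem inducedIn_of_normalSubpair (hM : IsPModular p M) {P Q : Subgroup G}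
    {c : Set (IrrCharacter (Subgroup.centralizer (P : Set G)))}
    {f : Set (IrrCharacter (Subgroup.centralizer (Q : Set G)))}
    (hn : IsNormalSubpair p M Q f P c) (hPC : P ≤ Subgroup.centralizer (Q : Set G)) :
    IsInducedBlockIn M (Subgroup.centralizer (Q : Set G)) (Subgroup.centralizer (P : Set G))
      c f := by
  classical
  have hQP : Q ≤ P := hn.2.2.1
  have hCPL : Subgroup.centralizer (P : Set G) ≤ Subgroup.centralizer (Q : Set G) :=
    Subgroup.centralizer_le hQP
  have hf : IsPBlock M f := hn.1.2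
  have := Fintype.ofFinite ↥(Subgroup.centralizer (Q : Set G))
  have hpair := lift_pairOf_of_normalSubpair hM hn hPC hCPL
  have hind := induced_of_brauerPair hM hpair
  refine ⟨hn.2.1.2, hf, ?_⟩
  intro ξ hξ χ hχ h
  have hξ' : irrTransport (centSubEquiv P (Subgroup.centralizer (Q : Set G)) hPC hCPL) ξ
      ∈ transportSet (centSubEquiv P (Subgroup.centralizer (Q : Set G)) hPC hCPL) c :=
    (mem_transportSet_iff _ _ _).2 hξ
  have h1 := hind.2.2 _ hξ' χ hχ h
  have key : inducedCentralChar (Subgroup.centralizer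
      ((P.subgroupOf (Subgroup.centralizer (Q : Set G)) :
        Subgroup ↥(Subgroup.centralizer (Q : Set G))) : Set ↥(Subgroup.centralizer (Q : Set G))))
      ((irrTransport (centSubEquiv P (Subgroup.centralizer (Q : Set G)) hPC hCPL) ξ :
        IrrCharacter _) : _ → ℂ) h
      = inducedCentralCharIn (Subgroup.centralizer (Q : Set G))
        (Subgroup.centralizer (P : Set G)) (ξ : _ → ℂ) (h : G) := by
    unfold inducedCentralChar inducedCentralCharIn
    apply finsum_mem_eq_of_bijOn
      (fun k' => centSubEquiv P (Subgroup.centralizer (Q : Set G)) hPC hCPL k')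
    · refine ⟨?_, ?_, ?_⟩
      · intro k' hk'
        obtain ⟨x, hx⟩ := isConj_iff.1 hk'
        refine ⟨x⁻¹, ?_⟩
        rw [centSubEquiv_coe]
        have hx' : (x : G) * (h : G) * (x : G)⁻¹
            = ((k' : ↥(Subgroup.centralizer (Q : Set G))) : G) := congrArg Subtype.val hx
        rw [← hx']
        show (x : G)⁻¹ * ((x : G) * (h : G) * (x : G)⁻¹) * ((x : G)⁻¹)⁻¹ = (h : G)
        group
      · exact (centSubEquiv P (Subgroup.centralizer (Q : Set G)) hPC hCPL).injective.injOn
      · intro k hk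
        obtain ⟨x, hx⟩ := hk
        refine ⟨(centSubEquiv P (Subgroup.centralizer (Q : Set G)) hPC hCPL).symm k, ?_,
          MulEquiv.apply_symm_apply _ k⟩
        show IsConj h (((centSubEquiv P (Subgroup.centralizer (Q : Set G)) hPC hCPL).symm k :
          ↥(Subgroup.centralizer ((P.subgroupOf (Subgroup.centralizer (Q : Set G)) :
            Subgroup ↥(Subgroup.centralizer (Q : Set G))) :
              Set ↥(Subgroup.centralizer (Q : Set G))))) :
          ↥(Subgroup.centralizer (Q : Set G)))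
        rw [isConj_iff]
        refine ⟨x⁻¹, ?_⟩
        apply Subtype.ext
        show (x : G)⁻¹ * (h : G) * ((x : G)⁻¹)⁻¹ = (k : G)
        rw [← hx]
        group
    · intro k' _
      show (ξ : ↥(Subgroup.centralizer (P : Set G)) → ℂ)
            (centSubEquiv P (Subgroup.centralizer (Q : Set G)) hPC hCPL k')
          / (ξ : ↥(Subgroup.centralizer (P : Set G)) → ℂ)
            (centSubEquiv P (Subgroup.centralizer (Q : Set G)) hPC hCPL 1)
        = (ξ : ↥(Subgroup.centralizer (P : Set G)) → ℂ)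
            (centSubEquiv P (Subgroup.centralizer (Q : Set G)) hPC hCPL k')
          / (ξ : ↥(Subgroup.centralizer (P : Set G)) → ℂ) 1
      rw [map_one]
  rw [← key]
  exact h1

end Link37

section Main37

variable {G : Type u} [Group G] [Fintype G] {M : Ideal AlgInt} {p : ℕ} [Fact p.Prime]

set_option maxHeartbeats 3200000 in
/-- abelian defect groups: the inertial quotient acts freely iff the local blocks are nilpotent -/
theorem abelian_free_iff_local_nilpotent (hM : IsPModular p M) (B : Set (IrrCharacter G))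
    (P : Subgroup G) (hPD : IsDefectGroup p M B P)
    (hPab : ∀ x ∈ P, ∀ y ∈ P, x * y = y * x)
    (c : Set (IrrCharacter (Subgroup.centralizer (P : Set G))))
    (hc : IsInducedBlock M (Subgroup.centralizer (P : Set G)) c B) (T : Subgroup G)
    (hT : ∀ g : G, g ∈ T ↔ (g ∈ Subgroup.normalizer (P : Set G) ∧
      StabilizesBlock (Subgroup.centralizer (P : Set G)) c g)) :
    (∀ g ∈ T, ∀ x ∈ P, x ≠ 1 → g * x * g⁻¹ = x → g ∈ Subgroup.centralizer (P : Set G)) ↔
      ∀ Q : Subgroup G, Q ≤ P → Q ≠ ⊥ →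
        ∀ f : Set (IrrCharacter (Subgroup.centralizer (Q : Set G))),
          IsInducedBlockIn M (Subgroup.centralizer (Q : Set G))
            (Subgroup.centralizer (P : Set G)) c f → IsNilpotentBlock p M f := by
  classical
  have hpp : p.Prime := Fact.out
  have hMp : M.IsPrime := hM.2.1.isPrime
  have hmax := maximal_of_induced_defect hM B P hPD c hc
  have hPc : IsBrauerPair p M P c := hmax.1.1
  have hPp : IsPGroup p P := hPc.1
  have hidx := maximal_abelian_index hM B hmax hPab hT
  have hTN : T ≤ Subgroup.normalizer (P : Set G) := fun t ht => ((hT t).1 ht).1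
  -- the pair below `(P, c)` on a subgroup of `P`
  have hsub : ∀ Q : Subgroup G, Q ≤ P →
      ∃ f' : Set (IrrCharacter (Subgroup.centralizer (Q : Set G))),
        IsNormalSubpair p M Q f' P c ∧ P ≤ Subgroup.centralizer (Q : Set G) ∧
        IsInducedBlockIn M (Subgroup.centralizer (Q : Set G))
          (Subgroup.centralizer (P : Set G)) c f' := by
    intro Q hQP
    have hPC : P ≤ Subgroup.centralizer (Q : Set G) := by
      intro u hu
      rw [Subgroup.mem_centralizer_iff]
      intro q hq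
      exact hPab q (hQP hq) u hu
    obtain ⟨f', hf', hle'⟩ := exists_subpair hM P c hPc _ Q hQP le_rfl
    have hn' : IsNormalSubpair p M Q f' P c :=
      normalSubpair_of_subpairLE hM hle' hPc (hPC.trans (Subgroup.centralizer_le_normalizer _))
    exact ⟨f', hn', hPC, inducedIn_of_normalSubpair hM hn' hPC⟩
  constructor
  · -- free action gives nilpotent local blocks
    intro hfree Q hQP hQ1 f hind
    obtain ⟨f', hn', hPC, hind'⟩ := hsub Q hQP
    have := Fintype.ofFinite ↥(Subgroup.centralizer (Q : Set G))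
    have := Fintype.ofFinite ↥(Subgroup.centralizer (P : Set G))
    have hff' : f = f' := inducedIn_unique _ _ hind hind'
    rw [hff']
    have hQf : IsBrauerPairOf p M B Q f' := brauerPairOf_of_normalSubpair' hM hn' B hmax.1
    refine ⟨hn'.1.2, ?_⟩
    intro R' g' hR' y' hy'N hy'st hy'reg
    have hn := cd_normalSubpair hQf.1.1 f' R' g' hR'
    have hSg := brauerPairOf_of_normalSubpair hM hn B hQf
    obtain ⟨hyN, hyst⟩ := cd_stabilizes Q R' g' hy'N hy'st
    obtain ⟨S, hS⟩ : ∃ S : Subgroup G,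
        S = Q ⊔ R'.map (Subgroup.centralizer (Q : Set G)).subtype := ⟨_, rfl⟩
    obtain ⟨x, hlex⟩ := pair_conj_below_maximal hM B P _ c _ hmax hSg
    have hS₁P : (Q ⊔ R'.map (Subgroup.centralizer (Q : Set G)).subtype).map
        (MulAut.conj x).toMonoidHom ≤ P := Cfsg.Agent.helper1.subpairLE_le hlex
    obtain ⟨y₁, hy₁⟩ : ∃ y₁ : G, y₁ = x * (y' : G) * x⁻¹ := ⟨_, rfl⟩
    have hy₁stab : y₁ ∈ stabSubgroup ((Q ⊔ R'.map (Subgroup.centralizer (Q : Set G)).subtype).map
        (MulAut.conj x).toMonoidHom)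
        (conjBlock (Q ⊔ R'.map (Subgroup.centralizer (Q : Set G)).subtype) x
          (transportSet (cdEquiv Q R').symm g')) := by
      rw [mem_stabSubgroup, stab_conj_mem_iff]
      have e1 : x⁻¹ * y₁ * x = (y' : G) := by
        rw [hy₁]
        group
      rw [e1]
      exact ⟨hyN, hyst⟩
    obtain ⟨t, ht, c₀, hc₀, hyt⟩ := abelian_stab_factor hM B hmax hPab hS₁P
      (brauerPair_conj hSg.1 x).2 hlex _ (mem_stabSubgroup _ _) T hT y₁ hy₁stab
    obtain ⟨q, hq1⟩ := (Subgroup.ne_bot_iff_exists_ne_one).1 hQ1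
    have hq1' : (q : G) ≠ 1 := fun h => hq1 (Subtype.ext h)
    obtain ⟨q₁, hq₁⟩ : ∃ q₁ : G, q₁ = x * (q : G) * x⁻¹ := ⟨_, rfl⟩
    have hq₁S : q₁ ∈ (Q ⊔ R'.map (Subgroup.centralizer (Q : Set G)).subtype).map
        (MulAut.conj x).toMonoidHom := by
      rw [hq₁]
      exact ⟨(q : G), (le_sup_left : Q ≤ Q ⊔ _) q.2, rfl⟩
    have hq₁ne : q₁ ≠ 1 := by
      intro h
      apply hq1'
      have e1 : (q : G) = x⁻¹ * q₁ * x := by
        rw [hq₁]
        group
      rw [e1, h]
      group
    have hyq : (y' : G) * (q : G) * (y' : G)⁻¹ = (q : G) := by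
      have h1 : (q : G) * (y' : G) = (y' : G) * (q : G) :=
        Subgroup.mem_centralizer_iff.1 y'.2 (q : G) q.2
      rw [← h1]
      group
    have hy₁q : y₁ * q₁ * y₁⁻¹ = q₁ := by
      rw [hy₁, hq₁]
      calc x * (y' : G) * x⁻¹ * (x * (q : G) * x⁻¹) * (x * (y' : G) * x⁻¹)⁻¹
          = x * ((y' : G) * (q : G) * (y' : G)⁻¹) * x⁻¹ := by group
        _ = x * (q : G) * x⁻¹ := by rw [hyq]
    have hcq : c₀⁻¹ * q₁ * c₀ = q₁ := by
      have h1 : q₁ * c₀ = c₀ * q₁ := Subgroup.mem_centralizer_iff.1 hc₀ q₁ hq₁S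
      rw [mul_assoc, h1]
      group
    have htt : t = y₁ * c₀⁻¹ := by
      rw [hyt]
      group
    have htq : t * q₁ * t⁻¹ = q₁ := by
      rw [htt]
      calc y₁ * c₀⁻¹ * q₁ * (y₁ * c₀⁻¹)⁻¹ = y₁ * (c₀⁻¹ * q₁ * c₀) * y₁⁻¹ := by group
        _ = y₁ * q₁ * y₁⁻¹ := by rw [hcq]
        _ = q₁ := hy₁q
    have htC : t ∈ Subgroup.centralizer (P : Set G) :=
      hfree t ht.1 q₁ (hS₁P hq₁S) hq₁ne htq
    have hy₁C : y₁ ∈ Subgroup.centralizer
        (((Q ⊔ R'.map (Subgroup.centralizer (Q : Set G)).subtype).map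
          (MulAut.conj x).toMonoidHom : Subgroup G) : Set G) := by
      rw [hyt]
      exact Subgroup.mul_mem _ (Subgroup.centralizer_le hS₁P htC) hc₀
    have hyC : (y' : G) ∈ Subgroup.centralizer
        ((Q ⊔ R'.map (Subgroup.centralizer (Q : Set G)).subtype : Subgroup G) : Set G) := by
      rw [Subgroup.mem_centralizer_iff]
      intro r hr
      have hr₁ : x * r * x⁻¹ ∈ (Q ⊔ R'.map (Subgroup.centralizer (Q : Set G)).subtype).map
          (MulAut.conj x).toMonoidHom := ⟨r, hr, rfl⟩
      have h1 : x * r * x⁻¹ * y₁ = y₁ * (x * r * x⁻¹) :=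
        Subgroup.mem_centralizer_iff.1 hy₁C _ hr₁
      rw [hy₁] at h1
      have h2 : x * (r * (y' : G)) * x⁻¹ = x * ((y' : G) * r) * x⁻¹ := by
        calc x * (r * (y' : G)) * x⁻¹ = x * r * x⁻¹ * (x * (y' : G) * x⁻¹) := by group
          _ = x * (y' : G) * x⁻¹ * (x * r * x⁻¹) := h1
          _ = x * ((y' : G) * r) * x⁻¹ := by group
      exact mul_left_cancel (mul_right_cancel h2)
    rw [Subgroup.mem_centralizer_iff]
    intro r' hr'
    apply Subtype.ext
    exact Subgroup.mem_centralizer_iff.1 hyC (r' : G)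
      ((show R'.map (Subgroup.centralizer (Q : Set G)).subtype
        ≤ Q ⊔ R'.map (Subgroup.centralizer (Q : Set G)).subtype from le_sup_right)
        ⟨r', hr', rfl⟩)
  · -- nilpotent local blocks give the free action
    intro hnil g hgT x hxP hx1 hfix
    obtain ⟨Q, hQ⟩ : ∃ Q : Subgroup G, Q = Subgroup.zpowers x := ⟨_, rfl⟩
    have hQP : Q ≤ P := by
      rw [hQ]
      exact (Subgroup.zpowers_le).2 hxP
    have hQ1 : Q ≠ ⊥ := by
      rw [hQ]
      exact Subgroup.zpowers_ne_bot.2 hx1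
    obtain ⟨f', hn', hPC, hind'⟩ := hsub Q hQP
    have hnil' := hnil Q hQP hQ1 f' hind'
    have hCPL : Subgroup.centralizer (P : Set G) ≤ Subgroup.centralizer (Q : Set G) :=
      Subgroup.centralizer_le hQP
    have hpair := lift_pairOf_of_normalSubpair hM hn' hPC hCPL
    have hcomm : Commute g x := by
      have h1 : g * x = x * g := by
        calc g * x = (g * x * g⁻¹) * g := by group
          _ = x * g := by rw [hfix]
      exact h1
    have hgC : g ∈ Subgroup.centralizer (Q : Set G) := by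
      rw [Subgroup.mem_centralizer_iff]
      intro q hq
      rw [hQ] at hq
      obtain ⟨i, rfl⟩ := Subgroup.mem_zpowers_iff.1 hq
      exact ((hcomm.zpow_right i).eq).symm
    obtain ⟨k, hk⟩ : ∃ k : ℕ, k = (orderOf g).factorization p := ⟨_, rfl⟩
    have hreg : ¬ p ∣ orderOf (g ^ (p ^ k)) := by
      rw [hk]
      exact pow_ordProj_pregular37 p g
    have hg₂T : g ^ (p ^ k) ∈ T := T.pow_mem hgT _
    have hg₂C : g ^ (p ^ k) ∈ Subgroup.centralizer (Q : Set G) := Subgroup.pow_mem _ hgC _
    obtain ⟨hg₂N, hg₂st⟩ := (hT _).1 hg₂T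
    obtain ⟨hN', hst'⟩ := lift_stabilizes hPC hCPL c hg₂C hg₂N hg₂st
    have hreg' : IsPRegular p (⟨g ^ (p ^ k), hg₂C⟩ : ↥(Subgroup.centralizer (Q : Set G))) := by
      unfold IsPRegular
      rw [Subgroup.orderOf_mk]
      exact hreg
    have h1 := hnil'.2 _ _ hpair _ hN' hst' hreg'
    have h2 : g ^ (p ^ k) ∈ Subgroup.centralizer (P : Set G) :=
      (mem_centralizer_subgroupOf_iff hPC _).1 h1
    have hnorm : ((Subgroup.centralizer (P : Set G)).subgroupOf T).Normal :=
      Subgroup.normal_subgroupOf_of_le_normalizer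
        (fun t ht => Cfsg.Agent.helper1.normalizer_le_normalizer_centralizer P (hTN ht))
    have h3 : (⟨g, hgT⟩ : ↥T) ^ (p ^ k) ∈ (Subgroup.centralizer (P : Set G)).subgroupOf T := by
      rw [Subgroup.mem_subgroupOf, Subgroup.coe_pow]
      exact h2
    have h4 := mem_of_pow_mem_of_index36 _ hidx (⟨g, hgT⟩ : ↥T) k h3
    exact Subgroup.mem_subgroupOf.1 h4

end Main37

end Cfsg.Agent.helper24
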