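import Mathlib
import Cfsg.Agent.Lib_helper1_Klein1
import Cfsg.Agent.Lib_helper1_Klein2
import Cfsg.Agent.Lib_helper1_Klein6
import Cfsg.Agent.Lib_helper24_BPair37

/-!
Klein four defect groups (helper1), part 7: the number of irreducible Brauer characters.
-/

set_option autoImplicit false

namespace Cfsg.Agent.helper1

open Cfsg Cfsg.Agent.helper24 Cfsg.Agent.helper5 Cfsg.Agent.helper8

universe u

section Final

variable {G : Type u} [Group G] [Fintype G] {M : Ideal AlgInt}

omit [Fintype G] in
theorem klein_abelian (P : Subgroup G) [IsKleinFour P] : ∀ x ∈ P, ∀ y ∈ P, x * y = y * x := by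
  intro x hx y hy
  have h := mul_comm_of_exponent_two (G := ↥P) IsKleinFour.exponent_two ⟨x, hx⟩ ⟨y, hy⟩
  exact congrArg Subtype.val h

theorem exists_beta {p : ℕ} [Fact p.Prime] (hM : IsPModular p M) {P : Subgroup G}
    {e : Set (IrrCharacter (Subgroup.centralizer (P : Set G)))} (hPe : IsBrauerPair p M P e) :
    ∃ β : ∀ y : G, Set (IrrCharacter ↥(Subgroup.centralizer
      ((Subgroup.zpowers y : Subgroup G) : Set G))),
      ∀ y ∈ P, Relation.ReflTransGen (NormalSubpairRel p M)
        (⟨Subgroup.zpowers y, β y⟩ : BrauerPairIdx G) ⟨P, e⟩ := by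
  classical
  refine ⟨fun y => if h : y ∈ P then Classical.choose
    (existsUnique_subpair hM P (Subgroup.zpowers y) e hPe ((Subgroup.zpowers_le).2 h)).exists
    else ∅, ?_⟩
  intro y hy
  simp only [dif_pos hy]
  exact (Classical.choose_spec
    (existsUnique_subpair hM P (Subgroup.zpowers y) e hPe ((Subgroup.zpowers_le).2 hy)).exists).2

omit [Fintype G] in
theorem centralizer_zpowers_one :
    Subgroup.centralizer ((Subgroup.zpowers (1 : G) : Subgroup G) : Set G) = ⊤ := by
  rw [centralizer_zpowers_eq]
  ext c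
  simp [Subgroup.mem_centralizer_iff]

set_option maxHeartbeats 1600000 in
/-- a 2-block with Klein four defect group and trivial inertial quotient has one irreducible
Brauer character -/
theorem klein_rank_one (hM : IsPModular 2 M) (B : Set (IrrCharacter G)) (P : Subgroup G)
    [IsKleinFour P] (hPD : IsDefectGroup 2 M B P)
    (c : Set (IrrCharacter (Subgroup.centralizer (P : Set G))))
    (hc : IsInducedBlock M (Subgroup.centralizer (P : Set G)) c B)
    (T : Subgroup G) (hT : ∀ g : G, g ∈ T ↔ (g ∈ Subgroup.normalizer (P : Set G) ∧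
      StabilizesBlock (Subgroup.centralizer (P : Set G)) c g))
    (h1 : T ≤ Subgroup.centralizer (P : Set G)) : blockRank 2 B = 1 := by
  classical
  haveI : Fact (Nat.Prime 2) := ⟨Nat.prime_two⟩
  have hMp : M.IsPrime := hM.2.1.isPrime
  have hB : IsPBlock M B := hc.2.1
  have hmax := maximal_of_induced_defect hM B P hPD c hc
  have hab := klein_abelian P
  obtain ⟨β, hβ⟩ := exists_beta hM hmax.1.1
  have := Fintype.ofFinite ↥P
  obtain ⟨Y, hYdef⟩ : ∃ Y : Finset G, Y = (Finset.univ : Finset ↥P).map
      ⟨Subtype.val, Subtype.val_injective⟩ := ⟨_, rfl⟩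
  have hY : ∀ y : G, y ∈ Y ↔ y ∈ P := by
    intro y
    rw [hYdef, Finset.mem_map]
    constructor
    · rintro ⟨a, -, rfl⟩
      exact a.2
    · intro hy
      exact ⟨⟨y, hy⟩, Finset.mem_univ _, rfl⟩
  have hYcard : Y.card = 4 := by
    rw [hYdef, Finset.card_map, Finset.card_univ, ← Nat.card_eq_fintype_card,
      IsKleinFour.card_four]
  have hcount := abelian_subsection_count hM B hmax hab T hT β hβ Y (fun y hy => (hY y).1 hy)
    (fun y hy => ⟨y, (hY y).2 hy, 1, Subgroup.one_mem _, by group⟩)
    (by
      intro y₁ hy₁ y₂ _ t ht hty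
      have htc := h1 ht
      have h2 : y₁ * t = t * y₁ := (Subgroup.mem_centralizer_iff.1 htc) y₁ ((hY y₁).1 hy₁)
      rw [← hty, ← h2]
      group)
  have hk : Nat.card B = 4 := klein_card_block M hM B hB P hPD IsKleinFour.card_four
  have hpos : ∀ y ∈ Y, 1 ≤ blockRank 2 (β y) := by
    intro y hy
    have := Fintype.ofFinite ↥(Subgroup.centralizer ((Subgroup.zpowers y : Subgroup G) : Set G))
    have hbp := brauerPair_of_subpairLE (hβ y ((hY y).1 hy)) hmax.1.1
    exact blockRank_pos' (M := M) 2 (by norm_num) (β y) hbp.2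
  have h1Y : (1 : G) ∈ Y := (hY 1).2 (Subgroup.one_mem _)
  have hsum : ∑ y ∈ Y, blockRank 2 (β y) = blockRank 2 (β 1) + ∑ y ∈ Y.erase 1, blockRank 2 (β y) :=
    (Finset.add_sum_erase Y _ h1Y).symm
  have hge : (Y.erase 1).card ≤ ∑ y ∈ Y.erase 1, blockRank 2 (β y) := by
    have h2 := Finset.card_nsmul_le_sum (Y.erase 1) (fun y => blockRank 2 (β y)) 1
      (fun y hy => hpos y (Finset.mem_of_mem_erase hy))
    simpa using h2
  have hcard3 : (Y.erase 1).card = 3 := by
    rw [Finset.card_erase_of_mem h1Y, hYcard]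
  have hl1 : blockRank 2 (β 1) = blockRank 2 B := by
    apply blockRank_of_induced_top (M := M) 2 centralizer_zpowers_one (β 1) B
    exact induced_of_brauerPair hM
      ((brauerPairOf_iff_of_subpairLE hM (hβ 1 (Subgroup.one_mem _)) B).1 hmax.1)
  have hBpos : 0 < blockRank 2 B := blockRank_pos' (M := M) 2 (by norm_num) B hB
  omega

omit [Fintype G] in
theorem isKleinFour_subgroupOf {P H : Subgroup G} [IsKleinFour P] (hPH : P ≤ H) :
    IsKleinFour ↥(P.subgroupOf H) where
  card_four := by
    rw [card_subgroupOf_of_le hPH]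
    exact IsKleinFour.card_four
  exponent_two := by
    rw [Monoid.exponent_eq_of_mulEquiv (Subgroup.subgroupOfEquivOfLe hPH)]
    exact IsKleinFour.exponent_two

set_option maxHeartbeats 3200000 in
/-- a 2-block with Klein four defect group and inertial index three has three irreducible
Brauer characters -/
theorem klein_rank_three (hM : IsPModular 2 M) (B : Set (IrrCharacter G)) (P : Subgroup G)
    [IsKleinFour P] (hPD : IsDefectGroup 2 M B P)
    (c : Set (IrrCharacter (Subgroup.centralizer (P : Set G))))
    (hc : IsInducedBlock M (Subgroup.centralizer (P : Set G)) c B)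
    (T : Subgroup G) (hT : ∀ g : G, g ∈ T ↔ (g ∈ Subgroup.normalizer (P : Set G) ∧
      StabilizesBlock (Subgroup.centralizer (P : Set G)) c g))
    (h3 : (Subgroup.centralizer (P : Set G)).relIndex T = 3) : blockRank 2 B = 3 := by
  classical
  haveI : Fact (Nat.Prime 2) := ⟨Nat.prime_two⟩
  have hMp : M.IsPrime := hM.2.1.isPrime
  have hB : IsPBlock M B := hc.2.1
  have hmax := maximal_of_induced_defect hM B P hPD c hc
  have hPe : IsBrauerPair 2 M P c := hmax.1.1
  have hab := klein_abelian P
  obtain ⟨β, hβ⟩ := exists_beta hM hPe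
  obtain ⟨hPT, hTN, -, -⟩ := stab_basic hT
  obtain ⟨u, hu, hu1⟩ : ∃ u ∈ P, u ≠ 1 := by
    by_contra hcon
    push Not at hcon
    have hbot : P = ⊥ := (Subgroup.eq_bot_iff_forall P).2 hcon
    have h4 : Nat.card ↥P = 4 := IsKleinFour.card_four
    rw [hbot, Subgroup.card_bot] at h4
    omega
  have hcount := abelian_subsection_count hM B hmax hab T hT β hβ {1, u}
    (by
      intro y hy
      rw [Finset.mem_insert, Finset.mem_singleton] at hy
      rcases hy with rfl | rfl
      · exact Subgroup.one_mem _
      · exact hu)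
    (by
      intro y hy
      by_cases hy1 : y = 1
      · refine ⟨1, by simp, 1, Subgroup.one_mem _, ?_⟩
        rw [hy1]
        group
      · obtain ⟨t, ht, hty⟩ := klein_trans P T hPT hTN h3 hu hu1 hy hy1
        exact ⟨u, by simp, t, ht, hty⟩)
    (by
      intro y₁ hy₁ y₂ hy₂ t _ hty
      rw [Finset.mem_insert, Finset.mem_singleton] at hy₁ hy₂
      rcases hy₁ with rfl | rfl <;> rcases hy₂ with rfl | rfl
      · rfl
      · exfalso
        apply hu1
        rw [← hty]
        group
      · exfalso
        apply hu1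
        have h5 : y₁ = t⁻¹ * (t * y₁ * t⁻¹) * t := by group
        rw [h5, hty]
        group
      · rfl)
  rw [Finset.sum_pair (Ne.symm hu1)] at hcount
  have hk : Nat.card B = 4 := klein_card_block M hM B hB P hPD IsKleinFour.card_four
  have hl1 : blockRank 2 (β 1) = blockRank 2 B := by
    apply blockRank_of_induced_top (M := M) 2 centralizer_zpowers_one (β 1) B
    exact induced_of_brauerPair hM
      ((brauerPairOf_iff_of_subpairLE hM (hβ 1 (Subgroup.one_mem _)) B).1 hmax.1)
  -- the block of the centralizer of `u`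
  obtain ⟨H, hH⟩ : ∃ H : Subgroup G,
      H = Subgroup.centralizer ((Subgroup.zpowers u : Subgroup G) : Set G) := ⟨_, rfl⟩
  have hQP : Subgroup.zpowers u ≤ P := (Subgroup.zpowers_le).2 hu
  have hPC : P ≤ Subgroup.centralizer ((Subgroup.zpowers u : Subgroup G) : Set G) := by
    intro v hv
    rw [Subgroup.mem_centralizer_iff]
    intro q hq
    exact hab q (hQP hq) v hv
  have hCPL : Subgroup.centralizer (P : Set G)
      ≤ Subgroup.centralizer ((Subgroup.zpowers u : Subgroup G) : Set G) :=
    Subgroup.centralizer_le hQP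
  have hle : SubpairLE 2 M (Subgroup.zpowers u) (β u) P c := hβ u hu
  have hQf : IsBrauerPairOf 2 M B (Subgroup.zpowers u) (β u) :=
    (brauerPairOf_iff_of_subpairLE hM hle B).1 hmax.1
  have hf : IsPBlock M (β u) := hQf.1.2
  have hn : IsNormalSubpair 2 M (Subgroup.zpowers u) (β u) P c :=
    normalSubpair_of_subpairLE hM hle hPe (hPC.trans (Subgroup.centralizer_le_normalizer _))
  have := Fintype.ofFinite ↥(Subgroup.centralizer ((Subgroup.zpowers u : Subgroup G) : Set G))
  have hpair' := lift_pairOf_of_normalSubpair hM hn hPC hCPL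
  have hc' := induced_of_brauerPair hM hpair'
  have hindu : IsInducedBlock M _ (β u) B := induced_of_brauerPair hM hQf
  haveI hK' : IsKleinFour ↥(P.subgroupOf
      (Subgroup.centralizer ((Subgroup.zpowers u : Subgroup G) : Set G))) :=
    isKleinFour_subgroupOf hPC
  have hPD' : IsDefectGroup 2 M (β u) (P.subgroupOf
      (Subgroup.centralizer ((Subgroup.zpowers u : Subgroup G) : Set G))) := by
    obtain ⟨D, hD, hPle⟩ := cent_le_defectGroup hM hPe hQP hf hle
    obtain ⟨E, hE, hDE⟩ := defectGroup_induced_le 2 M hM _ (β u) B hindu D hD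
    have hcE : Nat.card E = Nat.card P := by
      rw [card_defectGroup 2 M hM B hB E hE, card_defectGroup 2 M hM B hB P hPD]
    have hcD : Nat.card D ≤ Nat.card P := by
      rw [← hcE, ← Subgroup.card_map_of_injective (Subgroup.subtype_injective _)]
      exact Subgroup.card_le_of_le hDE
    have hinf : P ⊓ Subgroup.centralizer ((Subgroup.zpowers u : Subgroup G) : Set G) = P :=
      inf_of_le_left hPC
    rw [hinf] at hPle
    have heq : P.subgroupOf (Subgroup.centralizer
        ((Subgroup.zpowers u : Subgroup G) : Set G)) = D := by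
      apply Subgroup.eq_of_le_of_card_ge hPle
      rw [card_subgroupOf_of_le hPC]
      exact hcD
    rw [heq]
    exact hD
  obtain ⟨T', hT'⟩ : ∃ T' : Subgroup ↥(Subgroup.centralizer
      ((Subgroup.zpowers u : Subgroup G) : Set G)), T' = stabSubgroup _
        (transportSet (centSubEquiv P _ hPC hCPL) c) := ⟨_, rfl⟩
  have hT'mem : ∀ g, g ∈ T' ↔ (g ∈ Subgroup.normalizer ((P.subgroupOf
      (Subgroup.centralizer ((Subgroup.zpowers u : Subgroup G) : Set G)) : Subgroup _) : Set _) ∧
      StabilizesBlock (Subgroup.centralizer ((P.subgroupOf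
      (Subgroup.centralizer ((Subgroup.zpowers u : Subgroup G) : Set G)) : Subgroup _) : Set _))
        (transportSet (centSubEquiv P _ hPC hCPL) c) g) := by
    intro g
    rw [hT', mem_stabSubgroup]
  have hmax' := maximal_of_induced_defect hM (β u) _ hPD' _ hc'
  have hab' := klein_abelian (P.subgroupOf
      (Subgroup.centralizer ((Subgroup.zpowers u : Subgroup G) : Set G)))
  have hodd' := maximal_abelian_index hM (β u) hmax' hab' hT'mem
  obtain ⟨hPT', hTN', -, -⟩ := stab_basic hT'mem
  have h1' : T' ≤ Subgroup.centralizer ((P.subgroupOf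
      (Subgroup.centralizer ((Subgroup.zpowers u : Subgroup G) : Set G)) : Subgroup _) : Set _) := by
    intro t ht
    have huH : u ∈ Subgroup.centralizer ((Subgroup.zpowers u : Subgroup G) : Set G) := hPC hu
    apply klein_fix_mem_centralizer _ T' hPT' hTN' hodd' ht
      (u := ⟨u, huH⟩) (Subgroup.mem_subgroupOf.2 hu)
    · intro h
      exact hu1 (congrArg Subtype.val h)
    · apply Subtype.ext
      have h6 : u * (t : G) = (t : G) * u :=
        (Subgroup.mem_centralizer_iff.1 t.2) u (Subgroup.mem_zpowers u)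
      show (t : G) * u * (t : G)⁻¹ = u
      rw [← h6]
      group
  have hlu : blockRank 2 (β u) = 1 :=
    klein_rank_one hM (β u) _ hPD' _ hc' T' hT'mem h1'
  omega

end Final

end Cfsg.Agent.helper1
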