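import Mathlib
import Cfsg.Agent.Lib_helper1_Knorr4

/-!
Harris–Knörr (helper1), part 5: induction inside a subgroup and central functions; the covering
lemma for induced blocks.
-/

set_option autoImplicit false

namespace Cfsg.Agent.helper1

open Cfsg Cfsg.Agent.helper5 Cfsg.Agent.helper8 Cfsg.Agent.helper24
open scoped ComplexConjugate

universe u

section inducedIn

variable {G : Type u} [Group G]

open Classical in
theorem inducedCentralCharIn_eq_sum (N L : Subgroup G) [Fintype L] (ξ : L → ℂ) (h : G) :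
    inducedCentralCharIn N L ξ h =
      ∑ k : L, if (∃ x : N, (x : G) * (k : G) * (x : G)⁻¹ = h) then ξ k / ξ 1 else 0 := by
  unfold inducedCentralCharIn
  rw [finsum_mem_eq_finite_toFinset_sum _ (Set.toFinite _), ← Finset.sum_filter]
  apply Finset.sum_congr
  · ext k
    simp
  · intro _ _
    rfl

open Classical in
theorem omegaFn_restrictIn_eq_sum (N L : Subgroup G) [Fintype N] [Fintype L]
    [Fintype (ConjClasses N)] (hLN : L ≤ N)
    (ξ : L → ℂ) {a : N → ℂ} (ha : IsClassFunction N a) :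
    omegaFn ξ (fun l : L => a ⟨(l : G), hLN l.2⟩) =
      ∑ C : ConjClasses N, a (Quotient.out C) *
        inducedCentralCharIn N L ξ ((Quotient.out C : N) : G) := by
  unfold omegaFn
  rw [Finset.sum_div]
  have hfib := Finset.sum_fiberwise (s := (Finset.univ : Finset L))
    (g := fun l : L => ConjClasses.mk (⟨(l : G), hLN l.2⟩ : N))
    (f := fun l : L => a ⟨(l : G), hLN l.2⟩ * ξ l / ξ 1)
  rw [← hfib]
  refine Finset.sum_congr rfl (fun C _ => ?_)
  rw [inducedCentralCharIn_eq_sum, Finset.mul_sum, Finset.sum_filter]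
  refine Finset.sum_congr rfl (fun l _ => ?_)
  by_cases hc : ConjClasses.mk (⟨(l : G), hLN l.2⟩ : N) = C
  · have hconj : IsConj (Quotient.out C) (⟨(l : G), hLN l.2⟩ : N) := by
      rw [← ConjClasses.mk_eq_mk_iff_isConj, hc]
      exact Quotient.out_eq C
    have hex : ∃ x : N, (x : G) * (l : G) * (x : G)⁻¹ = ((Quotient.out C : N) : G) := by
      obtain ⟨x, hx⟩ := isConj_iff.1 hconj.symm
      exact ⟨x, congrArg Subtype.val hx⟩
    rw [if_pos hc, if_pos hex, isClassFunction_iff_isConj.mp ha _ _ hconj]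
    ring
  · have hex : ¬ ∃ x : N, (x : G) * (l : G) * (x : G)⁻¹ = ((Quotient.out C : N) : G) := by
      rintro ⟨x, hx⟩
      apply hc
      have hcj : IsConj (⟨(l : G), hLN l.2⟩ : N) (Quotient.out C) :=
        isConj_iff.2 ⟨x, Subtype.ext hx⟩
      rw [← ConjClasses.mk_eq_mk_iff_isConj] at hcj
      rw [hcj]
      exact Quotient.out_eq C
    rw [if_neg hc, if_neg hex, mul_zero]

/-- a block induced inside `N` has the same central character on central elements of `N` with
local coefficients -/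
theorem kn_inducedIn_omega {M : Ideal AlgInt} [hMp : M.IsPrime] (N L : Subgroup G) [Fintype N]
    [Fintype L] (hLN : L ≤ N) {e : Set (IrrCharacter L)} {d : Set (IrrCharacter N)}
    (hind : IsInducedBlockIn M N L e d) {ξ : IrrCharacter L} (hξ : ξ ∈ e)
    {θ : IrrCharacter N} (hθ : θ ∈ d) {a : N → ℂ} (ha : IsClassFunction N a)
    (hl : ∀ n, MemLocalRing M (a n)) :
    MemLocalIdeal M (omegaFn (ξ : L → ℂ) (fun l : L => a ⟨(l : G), hLN l.2⟩)
      - omegaFn (θ : N → ℂ) a) := by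
  classical
  obtain ⟨I, hI⟩ : ∃ I : Fintype (ConjClasses N), omegaFn (θ : N → ℂ) a =
      @Finset.sum (ConjClasses N) ℂ _ (@Finset.univ _ I)
        (fun C => a (Quotient.out C) * centralChar (θ : N → ℂ) (Quotient.out C)) :=
    ⟨_, omegaFn_eq_sum_classes (irr_isCharacter θ.2) ha⟩
  rw [hI, @omegaFn_restrictIn_eq_sum G _ N L _ _ I hLN _ _ ha, ← Finset.sum_sub_distrib]
  apply memLocalIdeal_sum
  intro C _
  rw [← mul_sub]
  exact memLocalIdeal_mul_left (hl _) (hind.2.2 ξ hξ θ hθ _)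

end inducedIn

section lemmaX

variable {G : Type u} [Group G] [Fintype G] {M : Ideal AlgInt}
  (N : Subgroup G) [hN : N.Normal] [Fintype N]

set_option maxHeartbeats 1600000 in
/-- **covering lemma**: if `c` induces `B`, `c` covers the block `e'` of `H ∩ N` and `e'` induces
`d'` inside `N`, then `B` covers `d'` -/
theorem kn_lemmaX (p : ℕ) [Fact p.Prime] (hM : IsPModular p M)
    (H : Subgroup G) [Fintype H] [Fintype ↥(H ⊓ N)]
    (c : Set (IrrCharacter H)) (B : Set (IrrCharacter G)) (hind : IsInducedBlock M H c B)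
    (e' : Set (IrrCharacter ↥(H ⊓ N))) (d' : Set (IrrCharacter N))
    (hed : IsInducedBlockIn M N (H ⊓ N) e' d')
    (hcov : ∃ ψ ∈ c, ∃ ξ ∈ e', classInner
      (fun l : ↥(H ⊓ N) => (ψ : H → ℂ) (Subgroup.inclusion inf_le_left l))
      (ξ : ↥(H ⊓ N) → ℂ) ≠ 0) :
    ∃ χ ∈ B, ∃ θ ∈ d', classInner (fun n : N => (χ : G → ℂ) n) (θ : N → ℂ) ≠ 0 := by
  classical
  have hMp : M.IsPrime := hM.2.1.isPrime
  obtain ⟨ψ, hψ, ξ, hξ, hne⟩ := hcov
  obtain ⟨χ, hχ⟩ := isPBlock_nonempty hind.2.1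
  obtain ⟨θ', hθ'⟩ := Cover.exists_under N χ.2
  obtain ⟨θ, hθ⟩ := isPBlock_nonempty hed.2.1
  have s1 := orbU_omega (M := M) N d' χ.2 (θ := θ') hθ'
  have s2 := induced_omegaFn_sub H hind hψ hχ (orbU_isClassFunction N d')
    (orbU_memLocalRing N d' hed.2.1)
  -- the step inside `H`
  have := Fintype.ofFinite ↥((H ⊓ N).subgroupOf H)
  have hL'n : ((H ⊓ N).subgroupOf H).Normal := by
    rw [Subgroup.inf_subgroupOf_left]
    infer_instance
  obtain ⟨ε, hε⟩ : ∃ ε : ↥((H ⊓ N).subgroupOf H) ≃* ↥(H ⊓ N),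
      ε = Subgroup.subgroupOfEquivOfLe (inf_le_left : H ⊓ N ≤ H) := ⟨_, rfl⟩
  have hεcoe : ∀ y : ↥((H ⊓ N).subgroupOf H), ((ε y : ↥(H ⊓ N)) : G) = ((y : H) : G) := by
    intro y
    rw [hε]
    rfl
  have hunder : classInner (res ((H ⊓ N).subgroupOf H) (ψ : H → ℂ))
      ((irrTransport ε ξ : IrrCharacter ↥((H ⊓ N).subgroupOf H)) :
        ↥((H ⊓ N).subgroupOf H) → ℂ) ≠ 0 := by
    rw [← Cfsg.Agent.helper12.classInner_comp_mulEquiv ε] at hne
    rw [hε] at hne ⊢
    exact hne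
  have hU0 : ∀ h : H, h ∉ (H ⊓ N).subgroupOf H →
      (fun h : H => extendByZero N (blockCoeff (orbU N d')) (h : G)) h = 0 := by
    intro h hh
    apply extendByZero_of_not_mem
    intro hN'
    exact hh (Subgroup.mem_subgroupOf.2 ⟨h.2, hN'⟩)
  have s3 := Cover.omegaFn_of_under ((H ⊓ N).subgroupOf H)
    (restrict_isClassFunction H (orbU_isClassFunction N d')) hU0 ψ.2
    (irrTransport ε ξ).2 hunder
  have s3' : omegaFn ((irrTransport ε ξ : IrrCharacter ↥((H ⊓ N).subgroupOf H)) :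
        ↥((H ⊓ N).subgroupOf H) → ℂ)
      (res ((H ⊓ N).subgroupOf H)
        (fun h : H => extendByZero N (blockCoeff (orbU N d')) (h : G))) =
      omegaFn (ξ : ↥(H ⊓ N) → ℂ)
        (fun l : ↥(H ⊓ N) => blockCoeff (orbU N d') ⟨(l : G), l.2.2⟩) := by
    unfold omegaFn
    rw [irrTransport_apply, map_one]
    congr 1
    refine Fintype.sum_equiv ε.toEquiv _ _ (fun y => ?_)
    rw [irrTransport_apply]
    show extendByZero N (blockCoeff (orbU N d')) ((y : H) : G) * _ = _
    have hyN : ((y : H) : G) ∈ N := (Subgroup.mem_subgroupOf.1 y.2).2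
    rw [extendByZero_of_mem N _ _ hyN]
    show _ = blockCoeff (orbU N d') ⟨((ε y : ↥(H ⊓ N)) : G), _⟩ * (ξ : ↥(H ⊓ N) → ℂ) (ε y)
    congr 2
    apply Subtype.ext
    exact (hεcoe y).symm
  have s4 := kn_inducedIn_omega (M := M) N (H ⊓ N) inf_le_right hed hξ hθ
    (blockCoeff_isClassFunction (orbU N d'))
    (kn_blockCoeff_local_of_union _ (orbU_union N d' hed.2.1))
  have s5 : omegaFn (θ : N → ℂ) (blockCoeff (orbU N d')) = 1 := by
    rw [omegaFn_blockCoeff, if_pos (subset_orbU N d' hθ)]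
  rw [s3, s3', s1] at s2
  rw [s5] at s4
  have hmem : θ' ∈ orbU N d' := by
    by_contra hcon
    rw [if_neg hcon, sub_zero] at s2
    have := memLocalIdeal_sub s2 s4
    rw [sub_sub_cancel] at this
    exact not_memLocalIdeal_one this
  obtain ⟨g, hg⟩ := hmem
  exact ⟨χ, hχ, kn_cover_conj N d' χ g θ' hg hθ'⟩

end lemmaX

end Cfsg.Agent.helper1
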