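import Mathlib
import Cfsg.Agent.Lib_helper1_Knorr5

/-!
Harris–Knörr (helper1), part 6: transport of defect groups, the Brauer correspondence over a
subgroup containing the normalizer in terms of induced blocks, and induction inside a subgroup.
-/

set_option autoImplicit false

namespace Cfsg.Agent.helper1

open Cfsg Cfsg.Agent.helper5 Cfsg.Agent.helper8 Cfsg.Agent.helper24
open scoped ComplexConjugate

universe u

section transport

variable {H₁ H₂ : Type u} [Group H₁] [Group H₂] [Fintype H₁] [Fintype H₂] {M : Ideal AlgInt}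

/-- transport of defect groups along an isomorphism -/
theorem kn_isDefectGroup_transport (p : ℕ) [Fact p.Prime] (hM : IsPModular p M) (e : H₁ ≃* H₂)
    (b : Set (IrrCharacter H₂)) (hb : IsPBlock M b) (R : Subgroup H₂)
    (hR : IsDefectGroup p M b R) :
    IsDefectGroup p M (transportSet e b) (R.comap e.toMonoidHom) := by
  have hRp : IsPGroup p R := defectGroup_isPGroup p M b R hR
  have hmap : R.comap e.toMonoidHom = R.map e.symm.toMonoidHom := by
    ext x
    rw [Subgroup.mem_comap, Subgroup.mem_map_equiv]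
    rfl
  apply kn_isDefectGroup_of_card p hM _ (isPBlock_transportSet e b hb)
  · rw [hmap]
    exact hRp.map _
  · rw [hmap, Subgroup.card_map_of_injective e.symm.injective, blockDefect_transportSet,
      card_defectGroup p M hM b hb R hR]
  · obtain ⟨g, hgR, hgJ, c, hconj, hc⟩ := kn_coeff_of_isDefectGroup p hM b hb R hR
    refine ⟨e.symm g, ?_, ?_, e.symm c, e.symm.toMonoidHom.map_isConj hconj, ?_⟩
    · rw [blockCoeff_transportSet, MulEquiv.apply_symm_apply]
      exact hgR
    · rw [blockCoeff_transportSet, MulEquiv.apply_symm_apply]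
      exact hgJ
    · rw [Subgroup.mem_centralizer_iff]
      intro s hs
      have hs' : e s ∈ R := hs
      have h1 := Subgroup.mem_centralizer_iff.1 hc (e s) hs'
      have h2 := congrArg e.symm h1
      rw [map_mul, map_mul, MulEquiv.symm_apply_apply] at h2
      exact h2

end transport

section corr

variable {G : Type u} [Group G] [Fintype G]

/-- the Brauer correspondence, backward direction, with the induced block -/
theorem kn_corr_back (p : ℕ) [Fact p.Prime] (M : Ideal AlgInt) (hM : IsPModular p M)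
    (P H : Subgroup G) [Fintype H] (hP : IsPGroup p P)
    (hH : Subgroup.normalizer (P : Set G) ≤ H) (c : Set (IrrCharacter H)) (hc : IsPBlock M c)
    (hcP : IsDefectGroup p M c (P.subgroupOf H)) :
    ∃ B : Set (IrrCharacter G), IsPBlock M B ∧ IsDefectGroup p M B P ∧ IsInducedBlock M H c B ∧
      ∀ x : G, x ∈ Subgroup.centralizer (P : Set G) →
        MemLocalIdeal M (blockCoeff B x - subgroupBlockCoeff H c x) := by
  classical
  have hMp : M.IsPrime := hM.2.1.isPrime
  have hMtop := hMp.ne_top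
  have := Fintype.ofFinite ↥(Subgroup.normalizer (P : Set G))
  have := Fintype.ofFinite ↥((Subgroup.normalizer (P : Set G)).subgroupOf H)
  have hPN : P ≤ Subgroup.normalizer (P : Set G) := Subgroup.le_normalizer
  have hPH : P ≤ H := hPN.trans hH
  have hP' : IsPGroup p (P.subgroupOf H) := hP.comap_subtype
  have F2 : P.subgroupOf H ≤ (Subgroup.normalizer (P : Set G)).subgroupOf H :=
    Subgroup.subgroupOf_mono H hPN
  have F3 : Subgroup.centralizer ((P.subgroupOf H : Subgroup H) : Set H) ≤
      (Subgroup.normalizer (P : Set G)).subgroupOf H := by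
    rw [centralizer_subgroupOf_eq hPH]
    exact Subgroup.subgroupOf_mono H (Subgroup.centralizer_le_normalizer _)
  have F4 := subgroupOf_normalizer_le P H
  obtain ⟨β'', hind''⟩ := (induced_from_local_iff p M hM (P.subgroupOf H)
    ((Subgroup.normalizer (P : Set G)).subgroupOf H) hP' (sup_le F2 F3) F4 c hc).2
    ⟨P.subgroupOf H, hcP, 1, by
      rintro _ ⟨s, hs, rfl⟩
      simpa using hs⟩
  have e1 := transportSet_symm (Subgroup.subgroupOfEquivOfLe hH) β''
  obtain ⟨β, hβdef⟩ : ∃ β, β = transportSet (Subgroup.subgroupOfEquivOfLe hH).symm β'' :=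
    ⟨_, rfl⟩
  rw [← hβdef] at e1
  have hβ : IsPBlock M β := by
    rw [hβdef]
    exact isPBlock_transportSet _ β'' hind''.1
  obtain ⟨Dβ, hDβ⟩ := exists_defectGroup p M hM β hβ
  have hsub := subgroupOf_le_defectGroup p M hM hP le_rfl β hβ Dβ hDβ
  obtain ⟨Dβ'', hDβ''⟩ := exists_defectGroup p M hM β'' hind''.1
  have hmap := defectGroup_of_induced_local p M hM F2 F4 β'' c hind'' hcP Dβ'' hDβ''
  have hcard : Nat.card Dβ ≤ Nat.card (P.subgroupOf (Subgroup.normalizer (P : Set G))) := by
    have c1 : Nat.card Dβ = Nat.card Dβ'' := by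
      rw [card_defectGroup p M hM β hβ Dβ hDβ, card_defectGroup p M hM β'' hind''.1 Dβ'' hDβ'',
        ← e1, blockDefect_transportSet]
    have c2 : Nat.card Dβ'' = Nat.card (P.subgroupOf H) := by
      rw [← hmap, Subgroup.card_map_of_injective (Subgroup.subtype_injective _)]
    rw [c1, c2, Cfsg.Agent.helper24.card_subgroupOf_of_le hPH,
      Cfsg.Agent.helper24.card_subgroupOf_of_le hPN]
  have hDeq : P.subgroupOf (Subgroup.normalizer (P : Set G)) = Dβ :=
    Subgroup.eq_of_le_of_card_ge hsub hcard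
  rw [← hDeq] at hDβ
  obtain ⟨B, hB, hBP, hβB⟩ := first_main_exists p M hM P hP β hβ hDβ
  have huniq : ∀ b', IsInducedBlock M (Subgroup.normalizer (P : Set G)) b' B → b' = β :=
    fun b' hb' => (first_main_unique p M hM P hP B β b' hDβ hβB hb').symm
  have hβc : IsInducedBlock M ((Subgroup.normalizer (P : Set G)).subgroupOf H)
      (transportSet (Subgroup.subgroupOfEquivOfLe hH) β) c := by
    rw [e1]
    exact hind''
  refine ⟨B, hB, hBP, induced_trans_transport hH β c B hβB hβc, ?_⟩
  intro x hx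
  have hxH : x ∈ H := hH (Subgroup.centralizer_le_normalizer _ hx)
  have h5 := brauer_corr_congr p M hM hP hH β B c hβB huniq hβc x hx
  unfold subgroupBlockCoeff
  rw [dif_pos hxH]
  exact h5

/-- two blocks of `H ≥ N_G(P)` with defect group `P` inducing the same block coincide -/
theorem kn_corr_unique (p : ℕ) [Fact p.Prime] (M : Ideal AlgInt) (hM : IsPModular p M)
    (P H : Subgroup G) [Fintype H] (hP : IsPGroup p P)
    (hH : Subgroup.normalizer (P : Set G) ≤ H) (c₁ c₂ : Set (IrrCharacter H))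
    (hc₁ : IsPBlock M c₁) (hc₂ : IsPBlock M c₂)
    (hP₁ : IsDefectGroup p M c₁ (P.subgroupOf H)) (hP₂ : IsDefectGroup p M c₂ (P.subgroupOf H))
    (B : Set (IrrCharacter G)) (h₁ : IsInducedBlock M H c₁ B) (h₂ : IsInducedBlock M H c₂ B) :
    c₁ = c₂ := by
  have hMp : M.IsPrime := hM.2.1.isPrime
  obtain ⟨B₁, hB₁, hB₁P, hi₁, hg₁⟩ := kn_corr_back p M hM P H hP hH c₁ hc₁ hP₁
  obtain ⟨B₂, hB₂, hB₂P, hi₂, hg₂⟩ := kn_corr_back p M hM P H hP hH c₂ hc₂ hP₂
  have e₁ : B₁ = B := induced_block_unique H hi₁ h₁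
  have e₂ : B₂ = B := induced_block_unique H hi₂ h₂
  rw [e₁] at hB₁ hB₁P hg₁
  rw [e₂] at hg₂
  obtain ⟨c, -, hcu⟩ := (brauer_correspondence p M hM P H hP hH).1 B hB₁ hB₁P
  rw [hcu c₁ ⟨hc₁, hP₁, hg₁⟩, hcu c₂ ⟨hc₂, hP₂, hg₂⟩]

end corr

section inducedIn

variable {G : Type u} [Group G] {M : Ideal AlgInt}

/-- the central character induced inside `N`, computed in the group `N` -/
theorem kn_inducedCentralChar_in (N L : Subgroup G) (hLN : L ≤ N) (ξ : L → ℂ) (n : N) :
    inducedCentralChar (L.subgroupOf N)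
      (fun y : ↥(L.subgroupOf N) => ξ (Subgroup.subgroupOfEquivOfLe hLN y)) n =
      inducedCentralCharIn N L ξ (n : G) := by
  unfold inducedCentralChar inducedCentralCharIn
  apply finsum_mem_eq_of_bijOn (fun k' => Subgroup.subgroupOfEquivOfLe hLN k')
  · refine ⟨?_, ?_, ?_⟩
    · intro k' hk'
      obtain ⟨x, hx⟩ := isConj_iff.1 hk'
      refine ⟨x⁻¹, ?_⟩
      have hx' : (x : G) * (n : G) * (x : G)⁻¹ = ((k' : N) : G) := congrArg Subtype.val hx
      show ((x⁻¹ : N) : G) * (((k' : N) : G)) * ((x⁻¹ : N) : G)⁻¹ = (n : G)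
      rw [← hx']
      push_cast
      group
    · exact (Subgroup.subgroupOfEquivOfLe hLN).injective.injOn
    · intro k hk
      obtain ⟨x, hx⟩ := hk
      refine ⟨(Subgroup.subgroupOfEquivOfLe hLN).symm k, ?_, MulEquiv.apply_symm_apply _ k⟩
      show IsConj n (((Subgroup.subgroupOfEquivOfLe hLN).symm k : ↥(L.subgroupOf N)) : N)
      rw [isConj_iff]
      refine ⟨x⁻¹, ?_⟩
      apply Subtype.ext
      show ((x⁻¹ : N) : G) * (n : G) * ((x⁻¹ : N) : G)⁻¹ = (k : G)
      rw [← hx]
      push_cast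
      group
  · intro k' _
    show ξ (Subgroup.subgroupOfEquivOfLe hLN k') / ξ (Subgroup.subgroupOfEquivOfLe hLN 1) =
      ξ (Subgroup.subgroupOfEquivOfLe hLN k') / ξ 1
    rw [map_one]

/-- induction inside `N` is induction in the group `N` -/
theorem kn_inducedIn_iff (N L : Subgroup G) (hLN : L ≤ N)
    (e : Set (IrrCharacter L)) (d : Set (IrrCharacter N)) :
    IsInducedBlockIn M N L e d ↔
      IsInducedBlock M (L.subgroupOf N) (transportSet (Subgroup.subgroupOfEquivOfLe hLN) e) d := by
  constructor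
  · rintro ⟨he, hd, h⟩
    refine ⟨isPBlock_transportSet _ e he, hd, ?_⟩
    rintro φ ⟨ξ, hξ, hφ⟩ θ hθ n
    rw [hφ, kn_inducedCentralChar_in N L hLN]
    exact h ξ hξ θ hθ n
  · rintro ⟨he, hd, h⟩
    have he' : IsPBlock M e := by
      have h1 := isPBlock_transportSet (M := M) (Subgroup.subgroupOfEquivOfLe hLN).symm _ he
      have h2 := transportSet_symm (Subgroup.subgroupOfEquivOfLe hLN).symm e
      rw [MulEquiv.symm_symm] at h2
      rwa [h2] at h1
    refine ⟨he', hd, ?_⟩
    intro ξ hξ θ hθ n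
    have h1 := h (irrTransport (Subgroup.subgroupOfEquivOfLe hLN) ξ)
      ((mem_transportSet_iff _ e ξ).2 hξ) θ hθ n
    rw [← kn_inducedCentralChar_in N L hLN]
    exact h1

end inducedIn

end Cfsg.Agent.helper1
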