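import Mathlib
import Cfsg.Agent.Lib_helper1_Knorr6

/-!
Harris–Knörr (helper1), part 7: conjugation of blocks of a subgroup by a normalizing element,
compatibility with induction inside `N`, and the first half of the theorem.
-/

set_option autoImplicit false

namespace Cfsg.Agent.helper1

open Cfsg Cfsg.Agent.helper5 Cfsg.Agent.helper8 Cfsg.Agent.helper24
open scoped ComplexConjugate

universe u

section cjsec

variable {G : Type u} [Group G]

/-- conjugation by a normalizing element as an automorphism of the subgroup -/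
def cjE (Y : Subgroup G) (x : G) (hx : x ∈ Subgroup.normalizer (Y : Set G)) : Y ≃* Y where
  toFun y := ⟨x * (y : G) * x⁻¹, (Subgroup.mem_normalizer_iff.1 hx y).1 y.2⟩
  invFun y := ⟨x⁻¹ * (y : G) * x⁻¹⁻¹, (Subgroup.mem_normalizer_iff.1 (inv_mem hx) y).1 y.2⟩
  left_inv y := by
    apply Subtype.ext
    show x⁻¹ * (x * (y : G) * x⁻¹) * x⁻¹⁻¹ = (y : G)
    group
  right_inv y := by
    apply Subtype.ext
    show x * (x⁻¹ * (y : G) * x⁻¹⁻¹) * x⁻¹ = (y : G)
    group
  map_mul' y z := by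
    apply Subtype.ext
    show x * ((y : G) * (z : G)) * x⁻¹ = (x * (y : G) * x⁻¹) * (x * (z : G) * x⁻¹)
    group

theorem cjE_coe (Y : Subgroup G) (x : G) (hx : x ∈ Subgroup.normalizer (Y : Set G)) (y : Y) :
    ((cjE Y x hx y : Y) : G) = x * (y : G) * x⁻¹ := rfl

theorem cjE_symm_coe (Y : Subgroup G) (x : G) (hx : x ∈ Subgroup.normalizer (Y : Set G))
    (y : Y) : (((cjE Y x hx).symm y : Y) : G) = x⁻¹ * (y : G) * x := by
  show x⁻¹ * (y : G) * x⁻¹⁻¹ = _
  rw [inv_inv]

variable {M : Ideal AlgInt}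

/-- inner automorphisms fix every set of irreducible characters -/
theorem kn_transport_inner (N : Subgroup G) [hN : N.Normal] (b : Set (IrrCharacter N)) (n : G)
    (hn : n ∈ N) : transportSet (MulAut.conjNormal n : N ≃* N) b = b := by
  have key : ∀ θ : IrrCharacter N, (fun m : N => (θ : N → ℂ) ((MulAut.conjNormal n : N ≃* N) m))
      = (θ : N → ℂ) := by
    intro θ
    funext m
    have hcl : IsClassFunction N (θ : N → ℂ) := char_isClassFunction (irr_isCharacter θ.2)
    have h1 := hcl m ⟨n, hn⟩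
    rw [← h1]
    refine congrArg (θ : N → ℂ) (Subtype.ext ?_)
    rw [MulAut.conjNormal_apply]
    rfl
  ext φ
  constructor
  · rintro ⟨θ, hθ, hφ⟩
    rw [key θ] at hφ
    have : φ = θ := Subtype.ext hφ
    rw [this]
    exact hθ
  · intro hφ
    exact ⟨φ, hφ, (key φ).symm⟩

/-- induction inside `N` commutes with conjugation -/
theorem kn_inducedIn_conj (N L : Subgroup G) [hN : N.Normal] (x : G)
    (hx : x ∈ Subgroup.normalizer (L : Set G))
    (e : Set (IrrCharacter L)) (d : Set (IrrCharacter N)) (h : IsInducedBlockIn M N L e d) :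
    IsInducedBlockIn M N L (transportSet (cjE L x hx) e)
      (transportSet (MulAut.conjNormal x : N ≃* N) d) := by
  refine ⟨isPBlock_transportSet _ e h.1, isPBlock_transportSet _ d h.2.1, ?_⟩
  rintro φ ⟨ξ, hξ, hφ⟩ ψ ⟨θ, hθ, hψ⟩ n
  rw [hφ, hψ, centralChar_comp_mulEquiv]
  have k1 : inducedCentralCharIn N L (fun y : L => (ξ : L → ℂ) (cjE L x hx y)) (n : G) =
      inducedCentralCharIn N L (ξ : L → ℂ) (((MulAut.conjNormal x : N ≃* N) n : N) : G) := by
    unfold inducedCentralCharIn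
    apply finsum_mem_eq_of_bijOn (fun k => cjE L x hx k)
    · refine ⟨?_, ?_, ?_⟩
      · rintro k ⟨a, ha⟩
        refine ⟨(MulAut.conjNormal x : N ≃* N) a, ?_⟩
        rw [MulAut.conjNormal_apply, MulAut.conjNormal_apply, cjE_coe, ← ha]
        group
      · exact (cjE L x hx).injective.injOn
      · rintro k' ⟨a', ha'⟩
        refine ⟨(cjE L x hx).symm k', ⟨(MulAut.conjNormal x⁻¹ : N ≃* N) a', ?_⟩,
          MulEquiv.apply_symm_apply _ k'⟩
        rw [MulAut.conjNormal_apply, cjE_symm_coe]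
        have h1 : (a' : G) * (k' : G) * (a' : G)⁻¹ = x * (n : G) * x⁻¹ := by
          rw [ha', MulAut.conjNormal_apply]
        have h2 : (n : G) = x⁻¹ * ((a' : G) * (k' : G) * (a' : G)⁻¹) * x := by
          rw [h1]
          group
        rw [h2]
        group
    · intro k _
      show (ξ : L → ℂ) (cjE L x hx k) / (ξ : L → ℂ) (cjE L x hx 1) =
        (ξ : L → ℂ) (cjE L x hx k) / (ξ : L → ℂ) 1
      rw [map_one]
  rw [k1]
  exact h.2.2 ξ hξ θ hθ _

/-- covering by a block of `H` is invariant under conjugation by elements of `H` -/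
theorem kn_cover_conj_sub (H L : Subgroup G) [Fintype H] [Fintype L] (hLH : L ≤ H) (x : G)
    (hxH : x ∈ H) (hx : x ∈ Subgroup.normalizer (L : Set G)) (e : Set (IrrCharacter L))
    (ψ : IrrCharacter H) (φ : IrrCharacter L) (hφ : φ ∈ transportSet (cjE L x hx) e)
    (hne : classInner (fun l : L => (ψ : H → ℂ) (Subgroup.inclusion hLH l)) (φ : L → ℂ) ≠ 0) :
    ∃ ξ ∈ e, classInner (fun l : L => (ψ : H → ℂ) (Subgroup.inclusion hLH l)) (ξ : L → ℂ) ≠ 0 := by
  obtain ⟨ξ, hξ, hφξ⟩ := hφ
  refine ⟨ξ, hξ, ?_⟩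
  have hcl : IsClassFunction H (ψ : H → ℂ) := char_isClassFunction (irr_isCharacter ψ.2)
  have h1 : (fun l : L => (ψ : H → ℂ) (Subgroup.inclusion hLH l)) =
      fun l : L => (fun m : L => (ψ : H → ℂ) (Subgroup.inclusion hLH m)) (cjE L x hx l) := by
    funext l
    have h2 := hcl (Subgroup.inclusion hLH l) ⟨x, hxH⟩
    rw [← h2]
    refine congrArg (ψ : H → ℂ) (Subtype.ext ?_)
    rfl
  have h3 := Cfsg.Agent.helper12.classInner_comp_mulEquiv (cjE L x hx)
    (fun m : L => (ψ : H → ℂ) (Subgroup.inclusion hLH m)) (ξ : L → ℂ)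
  rw [h1, hφξ] at hne
  intro h0
  exact hne (h3.trans h0)

end cjsec

end Cfsg.Agent.helper1
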