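import Mathlib
import Cfsg.Agent.Lib_helper1_Knorr7

/-!
Harris–Knörr (helper1), part 8: induction from `N_G(Q)` is defined and covers `d`; injectivity.
-/

set_option autoImplicit false

namespace Cfsg.Agent.helper1

open Cfsg Cfsg.Agent.helper5 Cfsg.Agent.helper8 Cfsg.Agent.helper24
open scoped ComplexConjugate

universe u

section facts

variable {G : Type u} [Group G] [Finite G]

theorem hk_normalizer_le (N : Subgroup G) [hN : N.Normal] {P Q : Subgroup G} (h : P ⊓ N = Q) :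
    Subgroup.normalizer (P : Set G) ≤ Subgroup.normalizer (Q : Set G) := by
  intro x hx
  apply Subgroup.mem_normalizer_fintype
  intro q hq
  have hq' : q ∈ P ⊓ N := by rw [h]; exact hq
  have : x * q * x⁻¹ ∈ P ⊓ N :=
    ⟨(Subgroup.mem_normalizer_iff.1 hx q).1 hq'.1, hN.conj_mem q hq'.2 x⟩
  rw [h] at this
  exact this

theorem hk_mem_normalizer_inf (N : Subgroup G) [hN : N.Normal] (Q : Subgroup G) {h : G}
    (hh : h ∈ Subgroup.normalizer (Q : Set G)) :
    h ∈ Subgroup.normalizer ((Subgroup.normalizer (Q : Set G) ⊓ N : Subgroup G) : Set G) := by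
  apply Subgroup.mem_normalizer_fintype
  intro l hl
  exact ⟨(Subgroup.normalizer (Q : Set G)).mul_mem
    ((Subgroup.normalizer (Q : Set G)).mul_mem hh hl.1)
    ((Subgroup.normalizer (Q : Set G)).inv_mem hh), hN.conj_mem l hl.2 h⟩

end facts

section partA

variable {G : Type u} [Group G] [Fintype G] {M : Ideal AlgInt}
  (N : Subgroup G) [hN : N.Normal] [Fintype N]

/-- **Harris–Knörr, first half**: a block of `N_G(Q)` covering `e` induces a block of `G`
covering `d` -/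
theorem hk_partA (p : ℕ) [Fact p.Prime] (hM : IsPModular p M) (Q : Subgroup G)
    (hQ : IsPGroup p Q) [Fintype ↥(Subgroup.normalizer (Q : Set G))]
    [Fintype ↥(Subgroup.normalizer (Q : Set G) ⊓ N)]
    (d : Set (IrrCharacter N))
    (e : Set (IrrCharacter ↥(Subgroup.normalizer (Q : Set G) ⊓ N)))
    (hed : IsInducedBlockIn M N (Subgroup.normalizer (Q : Set G) ⊓ N) e d)
    (c : Set (IrrCharacter ↥(Subgroup.normalizer (Q : Set G)))) (hc : IsPBlock M c)
    (hcov : ∃ ψ ∈ c, ∃ ξ ∈ e, classInner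
      (fun l : ↥(Subgroup.normalizer (Q : Set G) ⊓ N) =>
        (ψ : ↥(Subgroup.normalizer (Q : Set G)) → ℂ) (Subgroup.inclusion inf_le_left l))
      (ξ : ↥(Subgroup.normalizer (Q : Set G) ⊓ N) → ℂ) ≠ 0) :
    ∃ B : Set (IrrCharacter G), IsInducedBlock M (Subgroup.normalizer (Q : Set G)) c B ∧
      ∃ χ ∈ B, ∃ θ ∈ d, classInner (fun n : N => (χ : G → ℂ) n) (θ : N → ℂ) ≠ 0 := by
  obtain ⟨ξ₀, hξ₀⟩ := hc
  obtain ⟨χ, -, hχ⟩ := brauer_block_exists p M hM hQ Subgroup.le_normalizer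
    (Subgroup.centralizer_le_normalizer _) le_rfl ξ₀
  rw [← hξ₀] at hχ
  exact ⟨_, hχ, kn_lemmaX N p hM _ c _ hχ e d hed hcov⟩

end partA

section uniq

variable {G : Type u} [Group G] [Fintype G] {M : Ideal AlgInt}
  (N : Subgroup G) [hN : N.Normal] [Fintype N]

set_option maxHeartbeats 1600000 in
/-- a block of `H = N_G(Q)` covering the block `e` of `H ∩ N` with defect group `Q` has a defect
group meeting `N` in `Q` -/
theorem hk_defect_inf (p : ℕ) [Fact p.Prime] (hM : IsPModular p M) (Q : Subgroup G)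
    (hQ : IsPGroup p Q) (hQN : Q ≤ N) [Fintype ↥(Subgroup.normalizer (Q : Set G))]
    [Fintype ↥(Subgroup.normalizer (Q : Set G) ⊓ N)]
    (e : Set (IrrCharacter ↥(Subgroup.normalizer (Q : Set G) ⊓ N))) (he : IsPBlock M e)
    (heQ : IsDefectGroup p M e (Q.subgroupOf (Subgroup.normalizer (Q : Set G) ⊓ N)))
    (c : Set (IrrCharacter ↥(Subgroup.normalizer (Q : Set G)))) (hc : IsPBlock M c)
    (hcov : ∃ ψ ∈ c, ∃ ξ ∈ e, classInner
      (fun l : ↥(Subgroup.normalizer (Q : Set G) ⊓ N) =>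
        (ψ : ↥(Subgroup.normalizer (Q : Set G)) → ℂ) (Subgroup.inclusion inf_le_left l))
      (ξ : ↥(Subgroup.normalizer (Q : Set G) ⊓ N) → ℂ) ≠ 0) :
    ∃ P : Subgroup G, P ≤ Subgroup.normalizer (Q : Set G) ∧
      IsDefectGroup p M c (P.subgroupOf (Subgroup.normalizer (Q : Set G))) ∧ P ⊓ N = Q := by
  classical
  have hMp : M.IsPrime := hM.2.1.isPrime
  obtain ⟨H, hHdef⟩ : ∃ H : Subgroup G, H = Subgroup.normalizer (Q : Set G) := ⟨_, rfl⟩
  have hQH : Q ≤ Subgroup.normalizer (Q : Set G) := Subgroup.le_normalizer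
  have := Fintype.ofFinite ↥((Subgroup.normalizer (Q : Set G) ⊓ N).subgroupOf
    (Subgroup.normalizer (Q : Set G)))
  have hL'n : ((Subgroup.normalizer (Q : Set G) ⊓ N).subgroupOf
      (Subgroup.normalizer (Q : Set G))).Normal := by
    rw [Subgroup.inf_subgroupOf_left]
    infer_instance
  obtain ⟨ε, hε⟩ : ∃ ε : ↥((Subgroup.normalizer (Q : Set G) ⊓ N).subgroupOf
      (Subgroup.normalizer (Q : Set G))) ≃* ↥(Subgroup.normalizer (Q : Set G) ⊓ N),
      ε = Subgroup.subgroupOfEquivOfLe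
        (inf_le_left : Subgroup.normalizer (Q : Set G) ⊓ N ≤ Subgroup.normalizer (Q : Set G)) :=
    ⟨_, rfl⟩
  have hεcoe : ∀ y, ((ε y : ↥(Subgroup.normalizer (Q : Set G) ⊓ N)) : G) =
      ((y : ↥(Subgroup.normalizer (Q : Set G))) : G) := by
    intro y
    rw [hε]
    rfl
  have hbt : IsPBlock M (transportSet ε e) := isPBlock_transportSet ε e he
  have hcov' : ∃ ψ ∈ c, ∃ φ ∈ transportSet ε e, classInner
      (fun y : ↥((Subgroup.normalizer (Q : Set G) ⊓ N).subgroupOf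
        (Subgroup.normalizer (Q : Set G))) =>
        (ψ : ↥(Subgroup.normalizer (Q : Set G)) → ℂ) y)
      (φ : ↥((Subgroup.normalizer (Q : Set G) ⊓ N).subgroupOf
        (Subgroup.normalizer (Q : Set G))) → ℂ) ≠ 0 := by
    obtain ⟨ψ, hψ, ξ, hξ, hne⟩ := hcov
    refine ⟨ψ, hψ, irrTransport ε ξ, (mem_transportSet_iff ε e ξ).2 hξ, ?_⟩
    rw [← Cfsg.Agent.helper12.classInner_comp_mulEquiv ε] at hne
    rw [hε] at hne ⊢
    exact hne
  obtain ⟨P', hP', -, hP'L⟩ := kn_main ((Subgroup.normalizer (Q : Set G) ⊓ N).subgroupOf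
    (Subgroup.normalizer (Q : Set G))) (transportSet ε e) p hM hbt c hc hcov'
  -- the normal `p`-subgroup `Q` lies in every defect group of `ẽ`
  have hQ' : IsPGroup p (Q.subgroupOf (Subgroup.normalizer (Q : Set G))) := hQ.comap_subtype
  have hLnorm : (Subgroup.normalizer (Q : Set G) ⊓ N).subgroupOf (Subgroup.normalizer (Q : Set G))
      ≤ Subgroup.normalizer ((Q.subgroupOf (Subgroup.normalizer (Q : Set G)) :
        Subgroup ↥(Subgroup.normalizer (Q : Set G))) :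
          Set ↥(Subgroup.normalizer (Q : Set G))) := by
    intro y _
    exact subgroupOf_normalizer_le Q _ (Subgroup.mem_subgroupOf.2 y.2)
  have hle := subgroupOf_le_defectGroup p M hM hQ' hLnorm (transportSet ε e) hbt _ hP'L
  have hcardD := card_defectGroup p M hM (transportSet ε e) hbt _ hP'L
  rw [blockDefect_transportSet, ← card_defectGroup p M hM e he _ heQ] at hcardD
  have hcardQ : Nat.card ((Q.subgroupOf (Subgroup.normalizer (Q : Set G))).subgroupOf
      ((Subgroup.normalizer (Q : Set G) ⊓ N).subgroupOf (Subgroup.normalizer (Q : Set G)))) =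
      Nat.card (Q.subgroupOf (Subgroup.normalizer (Q : Set G) ⊓ N)) := by
    have hQL : Q ≤ Subgroup.normalizer (Q : Set G) ⊓ N := le_inf hQH hQN
    rw [Cfsg.Agent.helper24.card_subgroupOf_of_le hQL,
      Cfsg.Agent.helper24.card_subgroupOf_of_le (Subgroup.subgroupOf_mono _ hQL),
      Cfsg.Agent.helper24.card_subgroupOf_of_le hQH]
  have heq := Subgroup.eq_of_le_of_card_ge hle (by rw [hcardD, hcardQ])
  refine ⟨P'.map (Subgroup.normalizer (Q : Set G)).subtype, ?_, ?_, ?_⟩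
  · rintro _ ⟨u, -, rfl⟩
    exact u.2
  · rw [Subgroup.subgroupOf, Subgroup.comap_map_eq_self_of_injective
      (Subgroup.subtype_injective _)]
    exact hP'
  · ext z
    constructor
    · rintro ⟨⟨u, hu, rfl⟩, hzN⟩
      have hu' : u ∈ (Subgroup.normalizer (Q : Set G) ⊓ N).subgroupOf
          (Subgroup.normalizer (Q : Set G)) := Subgroup.mem_subgroupOf.2 ⟨u.2, hzN⟩
      have h1 : (⟨u, hu'⟩ : ↥((Subgroup.normalizer (Q : Set G) ⊓ N).subgroupOf
          (Subgroup.normalizer (Q : Set G)))) ∈ (P' ⊓ (Subgroup.normalizer (Q : Set G) ⊓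
            N).subgroupOf (Subgroup.normalizer (Q : Set G))).subgroupOf
            ((Subgroup.normalizer (Q : Set G) ⊓ N).subgroupOf
              (Subgroup.normalizer (Q : Set G))) :=
        Subgroup.mem_subgroupOf.2 ⟨hu, hu'⟩
      rw [← heq] at h1
      exact h1
    · intro hz
      have hzH : z ∈ Subgroup.normalizer (Q : Set G) := hQH hz
      have hzN : z ∈ N := hQN hz
      have hu' : (⟨z, hzH⟩ : ↥(Subgroup.normalizer (Q : Set G))) ∈
          (Subgroup.normalizer (Q : Set G) ⊓ N).subgroupOf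
          (Subgroup.normalizer (Q : Set G)) := Subgroup.mem_subgroupOf.2 ⟨hzH, hzN⟩
      have h1 : (⟨⟨z, hzH⟩, hu'⟩ : ↥((Subgroup.normalizer (Q : Set G) ⊓ N).subgroupOf
          (Subgroup.normalizer (Q : Set G)))) ∈
          (Q.subgroupOf (Subgroup.normalizer (Q : Set G))).subgroupOf
          ((Subgroup.normalizer (Q : Set G) ⊓ N).subgroupOf
            (Subgroup.normalizer (Q : Set G))) := by
        rw [Subgroup.mem_subgroupOf, Subgroup.mem_subgroupOf]
        exact hz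
      rw [heq] at h1
      have h2 := (Subgroup.mem_subgroupOf.1 h1).1
      exact ⟨⟨⟨z, hzH⟩, h2, rfl⟩, hzN⟩

set_option maxHeartbeats 1600000 in
/-- **Harris–Knörr, injectivity** -/
theorem hk_unique (p : ℕ) [Fact p.Prime] (hM : IsPModular p M) (Q : Subgroup G)
    (hQ : IsPGroup p Q) (hQN : Q ≤ N) [Fintype ↥(Subgroup.normalizer (Q : Set G))]
    [Fintype ↥(Subgroup.normalizer (Q : Set G) ⊓ N)]
    (e : Set (IrrCharacter ↥(Subgroup.normalizer (Q : Set G) ⊓ N))) (he : IsPBlock M e)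
    (heQ : IsDefectGroup p M e (Q.subgroupOf (Subgroup.normalizer (Q : Set G) ⊓ N)))
    (B : Set (IrrCharacter G))
    (c₁ c₂ : Set (IrrCharacter ↥(Subgroup.normalizer (Q : Set G))))
    (hc₁ : IsPBlock M c₁) (hc₂ : IsPBlock M c₂)
    (hcov₁ : ∃ ψ ∈ c₁, ∃ ξ ∈ e, classInner
      (fun l : ↥(Subgroup.normalizer (Q : Set G) ⊓ N) =>
        (ψ : ↥(Subgroup.normalizer (Q : Set G)) → ℂ) (Subgroup.inclusion inf_le_left l))
      (ξ : ↥(Subgroup.normalizer (Q : Set G) ⊓ N) → ℂ) ≠ 0)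
    (hcov₂ : ∃ ψ ∈ c₂, ∃ ξ ∈ e, classInner
      (fun l : ↥(Subgroup.normalizer (Q : Set G) ⊓ N) =>
        (ψ : ↥(Subgroup.normalizer (Q : Set G)) → ℂ) (Subgroup.inclusion inf_le_left l))
      (ξ : ↥(Subgroup.normalizer (Q : Set G) ⊓ N) → ℂ) ≠ 0)
    (h₁ : IsInducedBlock M (Subgroup.normalizer (Q : Set G)) c₁ B)
    (h₂ : IsInducedBlock M (Subgroup.normalizer (Q : Set G)) c₂ B) : c₁ = c₂ := by
  classical
  have hMp : M.IsPrime := hM.2.1.isPrime
  obtain ⟨P₁, hP₁H, hP₁c, hP₁N⟩ := hk_defect_inf N p hM Q hQ hQN e he heQ c₁ hc₁ hcov₁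
  obtain ⟨P₂, hP₂H, hP₂c, hP₂N⟩ := hk_defect_inf N p hM Q hQ hQN e he heQ c₂ hc₂ hcov₂
  have hP₁p : IsPGroup p P₁ := by
    have := (defectGroup_isPGroup p M c₁ _ hP₁c).map (Subgroup.normalizer (Q : Set G)).subtype
    rwa [Subgroup.subgroupOf_map_subtype, inf_eq_left.2 hP₁H] at this
  have hP₂p : IsPGroup p P₂ := by
    have := (defectGroup_isPGroup p M c₂ _ hP₂c).map (Subgroup.normalizer (Q : Set G)).subtype
    rwa [Subgroup.subgroupOf_map_subtype, inf_eq_left.2 hP₂H] at this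
  have hn₁ := hk_normalizer_le N hP₁N
  have hn₂ := hk_normalizer_le N hP₂N
  obtain ⟨B₁, hB₁, hB₁P, hi₁, -⟩ := kn_corr_back p M hM P₁ _ hP₁p hn₁ c₁ hc₁ hP₁c
  obtain ⟨B₂, hB₂, hB₂P, hi₂, -⟩ := kn_corr_back p M hM P₂ _ hP₂p hn₂ c₂ hc₂ hP₂c
  have e₁ : B₁ = B := induced_block_unique _ hi₁ h₁
  have e₂ : B₂ = B := induced_block_unique _ hi₂ h₂
  rw [e₁] at hB₁ hB₁P
  rw [e₂] at hB₂P
  obtain ⟨g, hg⟩ := defectGroups_conj p hM B hB₁ hB₁P hB₂P
  have hgH : g ∈ Subgroup.normalizer (Q : Set G) := by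
    apply Subgroup.mem_normalizer_fintype
    intro q hq
    have hq' : q ∈ P₁ ⊓ N := by rw [hP₁N]; exact hq
    have h1 : g * q * g⁻¹ ∈ P₂ := by
      rw [← hg]
      exact ⟨q, hq'.1, rfl⟩
    have h2 : g * q * g⁻¹ ∈ P₂ ⊓ N := ⟨h1, hN.conj_mem q hq'.2 g⟩
    rw [hP₂N] at h2
    exact h2
  have hP₁c' := isDefectGroup_conj p M c₁ hP₁c
    (⟨g, hgH⟩ : ↥(Subgroup.normalizer (Q : Set G)))
  have hmapeq : (P₁.subgroupOf (Subgroup.normalizer (Q : Set G))).map
      (MulAut.conj (⟨g, hgH⟩ : ↥(Subgroup.normalizer (Q : Set G)))).toMonoidHom =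
      P₂.subgroupOf (Subgroup.normalizer (Q : Set G)) := by
    ext z
    constructor
    · rintro ⟨u, hu, rfl⟩
      rw [Subgroup.mem_subgroupOf, ← hg]
      exact ⟨(u : G), Subgroup.mem_subgroupOf.1 hu, rfl⟩
    · intro hz
      rw [Subgroup.mem_subgroupOf, ← hg] at hz
      obtain ⟨u, hu, huz⟩ := hz
      refine ⟨⟨u, hP₁H hu⟩, Subgroup.mem_subgroupOf.2 hu, ?_⟩
      apply Subtype.ext
      exact huz
  rw [hmapeq] at hP₁c'
  exact kn_corr_unique p M hM P₂ _ hP₂p hn₂ c₁ c₂ hc₁ hc₂ hP₁c' hP₂c B h₁ h₂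

end uniq

end Cfsg.Agent.helper1
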