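import Cfsg.Statements.S4438
import Mathlib
import Cfsg.Agent.Lib_helper1_Knorr3

set_option autoImplicit false
set_option linter.style.haveILetI false
set_option linter.unusedVariables false
open Cfsg

namespace Cfsg.Agent.S4438

/-- Let N be a normal subgroup of the finite group G, b a block of N with defect group Q, and B a block of G covering b (some member of B has a constituent in b on restriction to N), all relative to a maximal ideal M of the algebraic integers containing p. Then B has a defect group P with P ⊓ N = Q. -/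
theorem result {G : Type*} [Group G] [Fintype G] (p : ℕ) [Fact p.Prime] (M : Ideal Cfsg.AlgInt) (hM : Cfsg.IsPModular p M) (N : Subgroup G) [hN : N.Normal] [Fintype N] (b : Set (Cfsg.IrrCharacter N)) (hb : Cfsg.IsPBlock M b) (Q : Subgroup G) (hQN : Q ≤ N) (hQ : Cfsg.IsDefectGroup p M b (Q.subgroupOf N)) (B : Set (Cfsg.IrrCharacter G)) (hB : Cfsg.IsPBlock M B) (hcov : (∃ χ ∈ B, ∃ θ ∈ b, Cfsg.classInner (fun n : N => (χ : G → ℂ) n) (θ : N → ℂ) ≠ 0)) : ∃ P : Subgroup G, Cfsg.IsDefectGroup p M B P ∧ P ⊓ N = Q := by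
  classical
  have hMp : M.IsPrime := hM.2.1.isPrime
  obtain ⟨P₀, hP₀, -, hP₀N⟩ := Cfsg.Agent.helper1.kn_main N b p hM hb B hB hcov
  obtain ⟨x, hx⟩ := Cfsg.Agent.helper24.defectGroups_conj p hM b hb hP₀N hQ
  refine ⟨P₀.map (MulAut.conj (x : G)).toMonoidHom,
    Cfsg.Agent.helper24.isDefectGroup_conj p M B hP₀ (x : G), ?_⟩
  ext y
  constructor
  · rintro ⟨⟨s, hs, rfl⟩, hyN⟩
    have hsN : s ∈ N := by
      have h1 := hN.conj_mem _ hyN (x : G)⁻¹
      have h2 : (x : G)⁻¹ * ((MulAut.conj (x : G)).toMonoidHom s) * ((x : G)⁻¹)⁻¹ = s := by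
        show (x : G)⁻¹ * ((x : G) * s * (x : G)⁻¹) * ((x : G)⁻¹)⁻¹ = s
        group
      rwa [h2] at h1
    have h3 : (⟨s, hsN⟩ : N) ∈ (P₀ ⊓ N).subgroupOf N := by
      rw [Subgroup.mem_subgroupOf]
      exact ⟨hs, hsN⟩
    have h4 : (MulAut.conj x).toMonoidHom (⟨s, hsN⟩ : N) ∈ Q.subgroupOf N := by
      rw [← hx]
      exact ⟨_, h3, rfl⟩
    have h5 := Subgroup.mem_subgroupOf.1 h4
    exact h5
  · intro hy
    have hyN : y ∈ N := hQN hy
    have h1 : (⟨y, hyN⟩ : N) ∈ Q.subgroupOf N := Subgroup.mem_subgroupOf.2 hy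
    rw [← hx] at h1
    obtain ⟨s, hs, hsy⟩ := h1
    have hs' := Subgroup.mem_subgroupOf.1 hs
    refine ⟨⟨(s : G), hs'.1, ?_⟩, hyN⟩
    have := congrArg (fun n : N => (n : G)) hsy
    exact this

end Cfsg.Agent.S4438
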