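import Mathlib
import Cfsg.Agent.Lib_helper1_Knorr8
import Cfsg.Agent.S4438

/-!
Harris–Knörr (helper1), part 9: surjectivity.
-/

set_option autoImplicit false

namespace Cfsg.Agent.helper1

open Cfsg Cfsg.Agent.helper5 Cfsg.Agent.helper8 Cfsg.Agent.helper24
open scoped ComplexConjugate

universe u

section exist

variable {G : Type u} [Group G] [Fintype G] {M : Ideal AlgInt}
  (N : Subgroup G) [hN : N.Normal] [Fintype N]

/-- an irreducible character of `H` lies over an irreducible character of `H ∩ N` -/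
theorem hk_exists_under_inf (H : Subgroup G) [Fintype H] [Fintype ↥(H ⊓ N)] (ψ : IrrCharacter H) :
    ∃ ξ : IrrCharacter ↥(H ⊓ N), classInner
      (fun l : ↥(H ⊓ N) => (ψ : H → ℂ) (Subgroup.inclusion inf_le_left l))
      (ξ : ↥(H ⊓ N) → ℂ) ≠ 0 := by
  classical
  have := Fintype.ofFinite ↥((H ⊓ N).subgroupOf H)
  have hL'n : ((H ⊓ N).subgroupOf H).Normal := by
    rw [Subgroup.inf_subgroupOf_left]
    infer_instance
  obtain ⟨θ, hθ⟩ := Cover.exists_under ((H ⊓ N).subgroupOf H) ψ.2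
  refine ⟨irrTransport (Subgroup.subgroupOfEquivOfLe (inf_le_left : H ⊓ N ≤ H)).symm θ, ?_⟩
  rw [← Cfsg.Agent.helper12.classInner_comp_mulEquiv
    (Subgroup.subgroupOfEquivOfLe (inf_le_left : H ⊓ N ≤ H))]
  have h2 : (fun y : ↥((H ⊓ N).subgroupOf H) =>
      ((irrTransport (Subgroup.subgroupOfEquivOfLe (inf_le_left : H ⊓ N ≤ H)).symm θ :
        IrrCharacter ↥(H ⊓ N)) : ↥(H ⊓ N) → ℂ)
        (Subgroup.subgroupOfEquivOfLe (inf_le_left : H ⊓ N ≤ H) y)) =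
      (θ : ↥((H ⊓ N).subgroupOf H) → ℂ) := by
    funext y
    rw [irrTransport_apply, MulEquiv.symm_apply_apply]
  rw [h2]
  exact hθ

/-- a block of `N_N(Q)` induces a block of `N` -/
theorem hk_induce_in (p : ℕ) [Fact p.Prime] (hM : IsPModular p M) (Q : Subgroup G)
    (hQ : IsPGroup p Q) (hQN : Q ≤ N) (H : Subgroup G)
    (hHQ : H = Subgroup.normalizer (Q : Set G)) [Fintype ↥(H ⊓ N)]
    (e' : Set (IrrCharacter ↥(H ⊓ N))) (he' : IsPBlock M e') :
    ∃ d' : Set (IrrCharacter N), IsInducedBlockIn M N (H ⊓ N) e' d' := by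
  classical
  have hMp : M.IsPrime := hM.2.1.isPrime
  have := Fintype.ofFinite ↥((H ⊓ N).subgroupOf N)
  obtain ⟨ξ', hξ'⟩ := isPBlock_nonempty he'
  have hLN : H ⊓ N ≤ N := inf_le_right
  have hP : IsPGroup p (Q.subgroupOf N) := hQ.comap_subtype
  have hPH : Q.subgroupOf N ≤ (H ⊓ N).subgroupOf N := by
    intro y hy
    rw [Subgroup.mem_subgroupOf] at hy ⊢
    refine ⟨?_, y.2⟩
    rw [hHQ]
    exact Subgroup.le_normalizer hy
  have hCH : Subgroup.centralizer ((Q.subgroupOf N : Subgroup N) : Set N) ≤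
      (H ⊓ N).subgroupOf N := by
    rw [centralizer_subgroupOf_eq hQN]
    intro y hy
    rw [Subgroup.mem_subgroupOf] at hy ⊢
    refine ⟨?_, y.2⟩
    rw [hHQ]
    exact (Subgroup.centralizer_le_normalizer _) hy
  have hHN : (H ⊓ N).subgroupOf N ≤
      Subgroup.normalizer ((Q.subgroupOf N : Subgroup N) : Set N) := by
    intro y hy
    apply subgroupOf_normalizer_le Q N
    rw [Subgroup.mem_subgroupOf] at hy ⊢
    rw [← hHQ]
    exact hy.1
  obtain ⟨θ₁, -, hind⟩ := brauer_block_exists p M hM hP hPH hCH hHN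
    (irrTransport (Subgroup.subgroupOfEquivOfLe hLN) ξ')
  have hbl : blockOf M ((irrTransport (Subgroup.subgroupOfEquivOfLe hLN) ξ' :
      IrrCharacter ↥((H ⊓ N).subgroupOf N)) : ↥((H ⊓ N).subgroupOf N) → ℂ) =
      transportSet (Subgroup.subgroupOfEquivOfLe hLN) e' :=
    isPBlock_eq_of_mem ⟨_, rfl⟩ (isPBlock_transportSet _ e' he')
      (sameBlock_refl M hMp.ne_top _) ((mem_transportSet_iff _ e' ξ').2 hξ')
  rw [hbl] at hind
  exact ⟨_, (kn_inducedIn_iff N (H ⊓ N) hLN e' _).2 hind⟩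

set_option maxHeartbeats 800000 in
/-- defect groups of a block of `N_N(Q)` inducing a block of `N` of defect `|Q|` -/
theorem hk_defect_data (p : ℕ) [Fact p.Prime] (hM : IsPModular p M) (Q : Subgroup G)
    (hQ : IsPGroup p Q) (hQN : Q ≤ N) (H : Subgroup G)
    (hHQ : H = Subgroup.normalizer (Q : Set G)) [Fintype ↥(H ⊓ N)]
    (e' : Set (IrrCharacter ↥(H ⊓ N))) (d' : Set (IrrCharacter N))
    (hed' : IsInducedBlockIn M N (H ⊓ N) e' d') (hcard : p ^ blockDefect p d' = Nat.card Q) :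
    IsDefectGroup p M e' (Q.subgroupOf (H ⊓ N)) ∧ IsDefectGroup p M d' (Q.subgroupOf N) := by
  classical
  have hMp : M.IsPrime := hM.2.1.isPrime
  have := Fintype.ofFinite ↥((H ⊓ N).subgroupOf N)
  have hLN : H ⊓ N ≤ N := inf_le_right
  have hQL : Q ≤ H ⊓ N := le_inf (by rw [hHQ]; exact Subgroup.le_normalizer) hQN
  have he' := hed'.1
  have hd' := hed'.2.1
  obtain ⟨D', hD'⟩ := exists_defectGroup p M hM e' he'
  have hLnorm : H ⊓ N ≤ Subgroup.normalizer (Q : Set G) := by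
    rw [← hHQ]
    exact inf_le_left
  have hle := subgroupOf_le_defectGroup p M hM hQ hLnorm e' he' D' hD'
  obtain ⟨ε, hε⟩ : ∃ ε : ↥((H ⊓ N).subgroupOf N) ≃* ↥(H ⊓ N),
      ε = Subgroup.subgroupOfEquivOfLe hLN := ⟨_, rfl⟩
  have hind := (kn_inducedIn_iff N (H ⊓ N) hLN e' d').1 hed'
  rw [← hε] at hind
  have hD := kn_isDefectGroup_transport p hM ε e' he' D' hD'
  obtain ⟨E, hE, hDE⟩ := defectGroup_induced_le p M hM ((H ⊓ N).subgroupOf N) _ d' hind _ hD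
  have hcE := card_defectGroup p M hM d' hd' E hE
  have hc1 := card_defectGroup p M hM e' he' D' hD'
  have hc2 := card_defectGroup p M hM _ (isPBlock_transportSet ε e' he') _ hD
  rw [blockDefect_transportSet, ← hc1] at hc2
  have hcD' : Nat.card D' ≤ Nat.card Q := by
    rw [← hcard, ← hcE, ← hc2,
      ← Subgroup.card_map_of_injective (Subgroup.subtype_injective ((H ⊓ N).subgroupOf N))]
    exact Subgroup.card_le_of_le hDE
  have heqD : Q.subgroupOf (H ⊓ N) = D' :=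
    Subgroup.eq_of_le_of_card_ge hle (by
      rw [Cfsg.Agent.helper24.card_subgroupOf_of_le hQL]
      exact hcD')
  have hQE : Q.subgroupOf N ≤ E := by
    intro z hz
    apply hDE
    have hzQ : (z : G) ∈ Q := Subgroup.mem_subgroupOf.1 hz
    have hzL : z ∈ (H ⊓ N).subgroupOf N := Subgroup.mem_subgroupOf.2 (hQL hzQ)
    refine ⟨⟨z, hzL⟩, ?_, rfl⟩
    show ε ⟨z, hzL⟩ ∈ D'
    rw [← heqD, Subgroup.mem_subgroupOf, hε]
    exact hzQ
  have heqE : Q.subgroupOf N = E :=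
    Subgroup.eq_of_le_of_card_ge hQE (by
      rw [Cfsg.Agent.helper24.card_subgroupOf_of_le hQN, hcE, hcard])
  rw [heqD, heqE]
  exact ⟨hD', hE⟩

/-- adjusting the conjugating element into `N_G(Q)` -/
theorem hk_conj_elt (p : ℕ) [Fact p.Prime] (hM : IsPModular p M) (Q : Subgroup G)
    (hQN : Q ≤ N) (d : Set (IrrCharacter N)) (hd : IsPBlock M d)
    (hdQ : IsDefectGroup p M d (Q.subgroupOf N)) (g : G)
    (hd'Q : IsDefectGroup p M (transportSet (MulAut.conjNormal g : N ≃* N) d)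
      (Q.subgroupOf N)) :
    ∃ h : G, h ∈ Subgroup.normalizer (Q : Set G) ∧
      transportSet (MulAut.conjNormal h : N ≃* N) d =
        transportSet (MulAut.conjNormal g : N ≃* N) d := by
  classical
  have hd' := isPBlock_transportSet (M := M) (MulAut.conjNormal g : N ≃* N) d hd
  have h1 := kn_isDefectGroup_transport p hM (MulAut.conjNormal g : N ≃* N) d hd _ hdQ
  obtain ⟨n, hn⟩ := defectGroups_conj p hM _ hd' h1 hd'Q
  have hh' : (n : G) * g⁻¹ ∈ Subgroup.normalizer (Q : Set G) := by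
    apply Subgroup.mem_normalizer_fintype
    intro q hq
    have hmN : g⁻¹ * q * g ∈ N := by
      have := hN.conj_mem q (hQN hq) g⁻¹
      rwa [inv_inv] at this
    have hm : (⟨g⁻¹ * q * g, hmN⟩ : N) ∈
        (Q.subgroupOf N).comap (MulAut.conjNormal g : N ≃* N).toMonoidHom := by
      rw [Subgroup.mem_comap, Subgroup.mem_subgroupOf]
      show (((MulAut.conjNormal g : N ≃* N) ⟨g⁻¹ * q * g, hmN⟩ : N) : G) ∈ Q
      rw [MulAut.conjNormal_apply]
      have : g * (g⁻¹ * q * g) * g⁻¹ = q := by group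
      rw [this]
      exact hq
    have h2 : (MulAut.conj n).toMonoidHom ⟨g⁻¹ * q * g, hmN⟩ ∈ Q.subgroupOf N := by
      rw [← hn]
      exact ⟨_, hm, rfl⟩
    have h3 := Subgroup.mem_subgroupOf.1 h2
    have h4 : (((MulAut.conj n).toMonoidHom ⟨g⁻¹ * q * g, hmN⟩ : N) : G) =
        (n : G) * g⁻¹ * q * ((n : G) * g⁻¹)⁻¹ := by
      show (n : G) * (g⁻¹ * q * g) * (n : G)⁻¹ = _
      group
    rw [h4] at h3
    exact h3
  refine ⟨g * (n : G)⁻¹, ?_, ?_⟩
  · have := (Subgroup.normalizer (Q : Set G)).inv_mem hh'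
    rwa [mul_inv_rev, inv_inv] at this
  · rw [map_mul, MulAut.mul_def, transportSet_trans]
    exact kn_transport_inner N _ (n : G)⁻¹ (N.inv_mem n.2)

set_option maxHeartbeats 800000 in
/-- uniqueness of the Brauer correspondent inside `N` -/
theorem hk_corr_eq (p : ℕ) [Fact p.Prime] (hM : IsPModular p M) (Q : Subgroup G)
    (hQ : IsPGroup p Q) (hQN : Q ≤ N) (H : Subgroup G)
    (hHQ : H = Subgroup.normalizer (Q : Set G)) [Fintype ↥(H ⊓ N)]
    (e₁ e₂ : Set (IrrCharacter ↥(H ⊓ N))) (d' : Set (IrrCharacter N))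
    (h₁ : IsInducedBlockIn M N (H ⊓ N) e₁ d') (h₂ : IsInducedBlockIn M N (H ⊓ N) e₂ d')
    (hQ₁ : IsDefectGroup p M e₁ (Q.subgroupOf (H ⊓ N)))
    (hQ₂ : IsDefectGroup p M e₂ (Q.subgroupOf (H ⊓ N))) : e₁ = e₂ := by
  classical
  have := Fintype.ofFinite ↥((H ⊓ N).subgroupOf N)
  have hLN : H ⊓ N ≤ N := inf_le_right
  obtain ⟨ε, hε⟩ : ∃ ε : ↥((H ⊓ N).subgroupOf N) ≃* ↥(H ⊓ N),
      ε = Subgroup.subgroupOfEquivOfLe hLN := ⟨_, rfl⟩
  have i₁ := (kn_inducedIn_iff N (H ⊓ N) hLN e₁ d').1 h₁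
  have i₂ := (kn_inducedIn_iff N (H ⊓ N) hLN e₂ d').1 h₂
  rw [← hε] at i₁ i₂
  have D₁ := kn_isDefectGroup_transport p hM ε e₁ h₁.1 _ hQ₁
  have D₂ := kn_isDefectGroup_transport p hM ε e₂ h₂.1 _ hQ₂
  have hcomap : (Q.subgroupOf (H ⊓ N)).comap ε.toMonoidHom =
      (Q.subgroupOf N).subgroupOf ((H ⊓ N).subgroupOf N) := by
    ext y
    rw [Subgroup.mem_comap, Subgroup.mem_subgroupOf, Subgroup.mem_subgroupOf,
      Subgroup.mem_subgroupOf, hε]
    rfl
  rw [hcomap] at D₁ D₂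
  have hnorm : Subgroup.normalizer ((Q.subgroupOf N : Subgroup N) : Set N) ≤
      (H ⊓ N).subgroupOf N := by
    intro y hy
    rw [Subgroup.mem_subgroupOf]
    refine ⟨?_, y.2⟩
    rw [hHQ]
    apply Subgroup.mem_normalizer_fintype
    intro q hq
    have h1 : (⟨q, hQN hq⟩ : N) ∈ Q.subgroupOf N := Subgroup.mem_subgroupOf.2 hq
    have h2 := (Subgroup.mem_normalizer_iff.1 hy ⟨q, hQN hq⟩).1 h1
    exact Subgroup.mem_subgroupOf.1 h2
  have heq := kn_corr_unique p M hM (Q.subgroupOf N) ((H ⊓ N).subgroupOf N) hQ.comap_subtype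
    hnorm _ _ i₁.1 i₂.1 D₁ D₂ d' i₁ i₂
  have s₁ := transportSet_symm ε.symm e₁
  have s₂ := transportSet_symm ε.symm e₂
  rw [MulEquiv.symm_symm] at s₁ s₂
  rw [← s₁, ← s₂, heq]

set_option maxHeartbeats 1600000 in
/-- **Harris–Knörr, surjectivity** -/
theorem hk_exist (p : ℕ) [Fact p.Prime] (hM : IsPModular p M) (Q : Subgroup G)
    (hQ : IsPGroup p Q) (hQN : Q ≤ N) (H : Subgroup G)
    (hHQ : H = Subgroup.normalizer (Q : Set G)) [Fintype H] [Fintype ↥(H ⊓ N)]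
    (d : Set (IrrCharacter N)) (hd : IsPBlock M d)
    (hdQ : IsDefectGroup p M d (Q.subgroupOf N))
    (e : Set (IrrCharacter ↥(H ⊓ N))) (he : IsPBlock M e)
    (heQ : IsDefectGroup p M e (Q.subgroupOf (H ⊓ N)))
    (hed : IsInducedBlockIn M N (H ⊓ N) e d)
    (B : Set (IrrCharacter G)) (hB : IsPBlock M B)
    (hcov : ∃ χ ∈ B, ∃ θ ∈ d, classInner (fun n : N => (χ : G → ℂ) n) (θ : N → ℂ) ≠ 0) :
    ∃ c : Set (IrrCharacter H), IsPBlock M c ∧
      (∃ ψ ∈ c, ∃ ξ ∈ e, classInner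
        (fun l : ↥(H ⊓ N) => (ψ : H → ℂ) (Subgroup.inclusion inf_le_left l))
        (ξ : ↥(H ⊓ N) → ℂ) ≠ 0) ∧ IsInducedBlock M H c B := by
  classical
  have hMp : M.IsPrime := hM.2.1.isPrime
  obtain ⟨P, hBP, hPN⟩ := Cfsg.Agent.S4438.result p M hM N d hd Q hQN hdQ B hB hcov
  have hPp : IsPGroup p P := defectGroup_isPGroup p M B P hBP
  have hnP : Subgroup.normalizer (P : Set G) ≤ H := by
    rw [hHQ]
    exact hk_normalizer_le N hPN
  obtain ⟨c, hc, -, hind⟩ := kn_brauer_corr p M hM P H hPp hnP B hB hBP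
  obtain ⟨ψ, hψ⟩ := isPBlock_nonempty hc
  obtain ⟨ξ', hξ'⟩ := hk_exists_under_inf N H ψ
  have he' : IsPBlock M (blockOf M (ξ' : ↥(H ⊓ N) → ℂ)) := ⟨ξ', rfl⟩
  have hξ'mem : ξ' ∈ blockOf M (ξ' : ↥(H ⊓ N) → ℂ) := sameBlock_refl M hMp.ne_top _
  obtain ⟨d', hed'⟩ := hk_induce_in N p hM Q hQ hQN H hHQ _ he'
  obtain ⟨χ', hχ', θ', hθ', hne'⟩ := kn_lemmaX N p hM H c B hind _ d' hed'
    ⟨ψ, hψ, ξ', hξ'mem, hξ'⟩
  obtain ⟨g, hg⟩ := kn_cover_orbit N p hM d hd B hB hcov χ' hχ' θ' hne'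
  have hd'eq : d' = transportSet (MulAut.conjNormal g : N ≃* N) d :=
    isPBlock_eq_of_mem hed'.2.1 (isPBlock_transportSet _ d hd) hθ' hg
  have hcard : p ^ blockDefect p d' = Nat.card Q := by
    rw [hd'eq, blockDefect_transportSet, ← card_defectGroup p M hM d hd _ hdQ,
      Cfsg.Agent.helper24.card_subgroupOf_of_le hQN]
  obtain ⟨he'Q, hd'Q⟩ := hk_defect_data N p hM Q hQ hQN H hHQ _ d' hed' hcard
  rw [hd'eq] at hd'Q
  obtain ⟨h, hhH, hheq⟩ := hk_conj_elt N p hM Q hQN d hd hdQ g hd'Q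
  have hhH' : h ∈ H := by
    rw [hHQ]
    exact hhH
  have hhL : h ∈ Subgroup.normalizer ((H ⊓ N : Subgroup G) : Set G) := by
    rw [hHQ]
    exact hk_mem_normalizer_inf N Q hhH
  have hed'' := kn_inducedIn_conj (M := M) N (H ⊓ N) h hhL e d hed
  rw [hheq, ← hd'eq] at hed''
  have he''Q : IsDefectGroup p M (transportSet (cjE (H ⊓ N) h hhL) e)
      (Q.subgroupOf (H ⊓ N)) := by
    have h1 := kn_isDefectGroup_transport p hM (cjE (H ⊓ N) h hhL) e he _ heQ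
    have h2 : (Q.subgroupOf (H ⊓ N)).comap (cjE (H ⊓ N) h hhL).toMonoidHom =
        Q.subgroupOf (H ⊓ N) := by
      ext y
      rw [Subgroup.mem_comap, Subgroup.mem_subgroupOf, Subgroup.mem_subgroupOf]
      show ((cjE (H ⊓ N) h hhL y : ↥(H ⊓ N)) : G) ∈ Q ↔ _
      rw [cjE_coe]
      exact ((Subgroup.mem_normalizer_iff.1 hhH (y : G))).symm
    rwa [h2] at h1
  have heq := hk_corr_eq N p hM Q hQ hQN H hHQ _ _ d' hed'' hed' he''Q he'Q
  have hξ'mem' : ξ' ∈ transportSet (cjE (H ⊓ N) h hhL) e := by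
    rw [heq]
    exact hξ'mem
  obtain ⟨ξ, hξ, hne⟩ := kn_cover_conj_sub H (H ⊓ N) inf_le_left h hhH' hhL e ψ ξ' hξ'mem' hξ'
  exact ⟨c, hc, ⟨ψ, hψ, ξ, hξ, hne⟩, hind⟩

end exist

end Cfsg.Agent.helper1
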