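import Mathlib
import Cfsg.Agent.Lib_helper1_MG1

set_option autoImplicit false
set_option linter.unusedSectionVars false
set_option linter.unusedVariables false
set_option linter.style.longLine false
set_option linter.style.haveILetI false

/-!
Irreducible characters of a finite power of a group (helper1).
-/

namespace Cfsg.Agent.helper1

open Cfsg
open scoped ComplexConjugate

universe u

section Pi

/-- product function on a Pi type -/
def piProd {ι : Type*} [Fintype ι] {M : Type*} (φ : ι → M → ℂ) : (ι → M) → ℂ :=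
  fun f => ∏ i, φ i (f i)

/-- splitting off the first coordinate -/
def finSuccMulEquiv (M : Type*) [Group M] (n : ℕ) : (Fin (n + 1) → M) ≃* M × (Fin n → M) where
  toFun f := (f 0, fun i => f i.succ)
  invFun x := Fin.cons x.1 x.2
  left_inv f := by
    funext i
    refine Fin.cases ?_ (fun j => ?_) i <;> simp
  right_inv x := by
    ext <;> simp
  map_mul' f g := rfl

theorem mg_pi_irr_fin : ∀ (n : ℕ) {M : Type u} [Group M] [Finite M] (ψ : (Fin n → M) → ℂ),
    IsIrrCharacter (Fin n → M) ψ →
    ∃ φ : Fin n → M → ℂ, (∀ i, IsIrrCharacter M (φ i)) ∧ ψ = piProd φ := by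
  intro n
  induction n with
  | zero =>
    intro M _ _ ψ hψ
    classical
    haveI : Fintype M := Fintype.ofFinite M
    refine ⟨fun i => Fin.elim0 i, fun i => Fin.elim0 i, ?_⟩
    funext f
    unfold piProd
    rw [Finset.univ_eq_empty, Finset.prod_empty]
    have hf : f = 1 := Subsingleton.elim _ _
    rw [hf]
    have h1 := helper24.irr_classInner_self hψ
    unfold classInner at h1
    rw [Nat.card_unique, Fintype.sum_unique] at h1
    have hd : (default : Fin 0 → M) = 1 := Subsingleton.elim _ _
    rw [hd, ← helper24.char_charDegree_cast (helper24.irr_isCharacter hψ), Complex.conj_natCast] at h1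
    rw [← helper24.char_charDegree_cast (helper24.irr_isCharacter hψ)]
    have h2 : charDegree ψ * charDegree ψ = 1 := by
      have : ((charDegree ψ * charDegree ψ : ℕ) : ℂ) = ((1 : ℕ) : ℂ) := by
        push_cast
        simpa using h1
      exact_mod_cast this
    have h3 : charDegree ψ = 1 := Nat.eq_one_of_mul_eq_one_left h2
    rw [h3, Nat.cast_one]
  | succ n ih =>
    intro M _ _ ψ hψ
    classical
    haveI : Fintype M := Fintype.ofFinite M
    let e := finSuccMulEquiv M n
    have hψ' : IsIrrCharacter (M × (Fin n → M)) (fun x => ψ (e.symm x)) :=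
      helper8.isIrrCharacter_comp_mulEquiv e.symm hψ
    obtain ⟨⟨a, b⟩, hab⟩ := irrProd_surjective ⟨_, hψ'⟩
    have hab' : extProd (a : M → ℂ) (b : (Fin n → M) → ℂ) = fun x => ψ (e.symm x) :=
      congrArg Subtype.val hab
    obtain ⟨φ', hφ', hb⟩ := ih (b : (Fin n → M) → ℂ) b.2
    refine ⟨Fin.cons (a : M → ℂ) φ', ?_, ?_⟩
    · intro i
      refine Fin.cases ?_ (fun j => ?_) i
      · simpa using a.2
      · simpa using hφ' j
    · funext f
      have h1 := congrFun hab' (e f)
      rw [MulEquiv.symm_apply_apply] at h1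
      rw [← h1]
      unfold extProd piProd
      rw [Fin.prod_univ_succ, hb]
      unfold piProd
      simp only [Fin.cons_zero, Fin.cons_succ]
      rfl

/-- reindexing a power -/
def piCongrMulEquiv {ι κ : Type*} (M : Type*) [Group M] (e : ι ≃ κ) : (ι → M) ≃* (κ → M) where
  toFun f := f ∘ e.symm
  invFun g := g ∘ e
  left_inv f := by funext i; simp
  right_inv g := by funext i; simp
  map_mul' f g := rfl

theorem mg_pi_irr {ι : Type*} [Fintype ι] {M : Type u} [Group M] [Finite M] (ψ : (ι → M) → ℂ)
    (hψ : IsIrrCharacter (ι → M) ψ) :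
    ∃ φ : ι → M → ℂ, (∀ i, IsIrrCharacter M (φ i)) ∧ ψ = piProd φ := by
  classical
  let e := Fintype.equivFin ι
  let E := piCongrMulEquiv M e
  have hψ' : IsIrrCharacter (Fin (Fintype.card ι) → M) (fun g => ψ (E.symm g)) :=
    helper8.isIrrCharacter_comp_mulEquiv E.symm hψ
  obtain ⟨φ', hφ', h1⟩ := mg_pi_irr_fin _ _ hψ'
  refine ⟨fun i => φ' (e i), fun i => hφ' (e i), ?_⟩
  funext f
  have h2 := congrFun h1 (E f)
  simp only [MulEquiv.symm_apply_apply] at h2
  rw [h2]
  unfold piProd
  rw [← Equiv.prod_comp e]
  apply Finset.prod_congr rfl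
  intro i _
  show φ' (e i) ((f ∘ e.symm) (e i)) = _
  simp

end Pi

end Cfsg.Agent.helper1
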