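import Mathlib
import Cfsg.Agent.Lib_helper1_MG2

set_option autoImplicit false
set_option linter.unusedSectionVars false
set_option linter.unusedVariables false
set_option linter.style.longLine false
set_option linter.style.haveILetI false

/-!
Subgroups of a regular wreath product and their linear characters (helper1).
-/

namespace Cfsg.Agent.helper1

open Cfsg RegularWreathProduct
open scoped ComplexConjugate

universe u

section Wreath
variable {M Q : Type u} [Group M] [Group Q]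

/-- the base group of the wreath product -/
def wrBase (M Q : Type u) [Group M] [Group Q] : Subgroup (M ≀ᵣ Q) :=
  (rightHom : M ≀ᵣ Q →* Q).ker

instance wrBase_normal : (wrBase M Q).Normal := by
  unfold wrBase; infer_instance

theorem mem_wrBase {w : M ≀ᵣ Q} : w ∈ wrBase M Q ↔ w.right = 1 := MonoidHom.mem_ker

/-- the base group is the power of `M` -/
def wrBaseEquiv (M Q : Type u) [Group M] [Group Q] : (Q → M) ≃* wrBase M Q where
  toFun f := ⟨⟨f, 1⟩, mem_wrBase.mpr rfl⟩
  invFun b := b.1.left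
  left_inv f := rfl
  right_inv b := by
    apply Subtype.ext
    apply RegularWreathProduct.ext
    · rfl
    · exact (mem_wrBase.mp b.2).symm
  map_mul' f g := by
    apply Subtype.ext
    apply RegularWreathProduct.ext
    · funext x
      show (f * g) x = f x * g ((1 : Q)⁻¹ * x)
      rw [inv_one, one_mul]; rfl
    · show (1 : Q) = 1 * 1
      rw [one_mul]

theorem wrBaseEquiv_apply_left (f : Q → M) : ((wrBaseEquiv M Q f : wrBase M Q) : M ≀ᵣ Q).left = f := rfl

theorem wrBase_index [Finite Q] : (wrBase M Q).index = Nat.card Q := by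
  unfold wrBase
  rw [Subgroup.index_ker]
  have : (rightHom : M ≀ᵣ Q →* Q).range = ⊤ := by
    rw [MonoidHom.range_eq_top]
    intro q
    exact ⟨inl q, rfl⟩
  rw [this, Subgroup.card_top]

/-- the product subgroup of the base group -/
def wrY (J : Q → Subgroup M) : Subgroup (M ≀ᵣ Q) where
  carrier := {w | w.right = 1 ∧ ∀ q, w.left q ∈ J q}
  one_mem' := ⟨rfl, fun q => (J q).one_mem⟩
  mul_mem' := by
    rintro a b ⟨ha1, ha2⟩ ⟨hb1, hb2⟩
    refine ⟨?_, fun q => ?_⟩
    · rw [mul_right, ha1, hb1, one_mul]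
    · show a.left q * b.left (a.right⁻¹ * q) ∈ J q
      rw [ha1, inv_one, one_mul]
      exact (J q).mul_mem (ha2 q) (hb2 q)
  inv_mem' := by
    rintro a ⟨ha1, ha2⟩
    refine ⟨?_, fun q => ?_⟩
    · rw [inv_right, ha1, inv_one]
    · show (a.left⁻¹) (a.right * q) ∈ J q
      rw [ha1, one_mul, Pi.inv_apply]
      exact (J q).inv_mem (ha2 q)

theorem mem_wrY {J : Q → Subgroup M} {w : M ≀ᵣ Q} :
    w ∈ wrY J ↔ w.right = 1 ∧ ∀ q, w.left q ∈ J q := Iff.rfl

theorem wrY_le_wrBase (J : Q → Subgroup M) : wrY J ≤ wrBase M Q :=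
  fun w hw => mem_wrBase.mpr hw.1

/-- the subgroup `J ≀ Q` -/
def wrL (Q : Type u) [Group Q] (J₀ : Subgroup M) : Subgroup (M ≀ᵣ Q) where
  carrier := {w | ∀ q, w.left q ∈ J₀}
  one_mem' := fun q => J₀.one_mem
  mul_mem' := by
    intro a b ha hb q
    show a.left q * b.left (a.right⁻¹ * q) ∈ J₀
    exact J₀.mul_mem (ha q) (hb _)
  inv_mem' := by
    intro a ha q
    show (a.left⁻¹) (a.right * q) ∈ J₀
    rw [Pi.inv_apply]
    exact J₀.inv_mem (ha _)

theorem mem_wrL {J₀ : Subgroup M} {w : M ≀ᵣ Q} : w ∈ wrL Q J₀ ↔ ∀ q, w.left q ∈ J₀ := Iff.rfl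

theorem wrY_le_wrL (J₀ : Subgroup M) : wrY (fun _ : Q => J₀) ≤ wrL Q J₀ :=
  fun w hw => hw.2

variable [Fintype Q]

/-- the product linear character -/
noncomputable def wrNu (J : Q → Subgroup M) (μ : ∀ q, J q →* ℂˣ) : wrY J →* ℂˣ where
  toFun w := ∏ q, μ q ⟨w.1.left q, w.2.2 q⟩
  map_one' := by
    apply Finset.prod_eq_one
    intro q _
    exact map_one (μ q)
  map_mul' a b := by
    rw [← Finset.prod_mul_distrib]
    apply Finset.prod_congr rfl
    intro q _
    rw [← map_mul]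
    congr 1
    apply Subtype.ext
    show a.1.left q * b.1.left (a.1.right⁻¹ * q) = a.1.left q * b.1.left q
    rw [a.2.1, inv_one, one_mul]

/-- the symmetric linear character of `J ≀ Q` -/
noncomputable def wrMuHat (J₀ : Subgroup M) (μ₀ : J₀ →* ℂˣ) : wrL Q J₀ →* ℂˣ where
  toFun w := ∏ q, μ₀ ⟨w.1.left q, w.2 q⟩
  map_one' := by
    apply Finset.prod_eq_one
    intro q _
    exact map_one μ₀
  map_mul' a b := by
    have h1 : ∏ q, μ₀ ⟨b.1.left q, b.2 q⟩ = ∏ q, μ₀ ⟨b.1.left (a.1.right⁻¹ * q), b.2 _⟩ :=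
      (Equiv.prod_comp (Equiv.mulLeft a.1.right⁻¹) (fun q => μ₀ ⟨b.1.left q, b.2 q⟩)).symm
    rw [h1, ← Finset.prod_mul_distrib]
    apply Finset.prod_congr rfl
    intro q _
    rw [← map_mul]
    congr 1

/-- twist by a character of the top group -/
noncomputable def wrKappa (J₀ : Subgroup M) (μ₀ : J₀ →* ℂˣ) (lam : Q →* ℂˣ) : wrL Q J₀ →* ℂˣ :=
  (lam.comp ((rightHom : M ≀ᵣ Q →* Q).comp (wrL Q J₀).subtype)) * wrMuHat J₀ μ₀

theorem wrKappa_apply (J₀ : Subgroup M) (μ₀ : J₀ →* ℂˣ) (lam : Q →* ℂˣ) (l : wrL Q J₀) :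
    wrKappa J₀ μ₀ lam l = lam l.1.right * wrMuHat J₀ μ₀ l := rfl

end Wreath

end Cfsg.Agent.helper1
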