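import Mathlib
import Cfsg.Agent.Lib_helper1_MG3

set_option autoImplicit false
set_option linter.unusedSectionVars false
set_option linter.unusedVariables false
set_option linter.style.longLine false
set_option linter.style.haveILetI false

/-!
Indices and inner products in a regular wreath product (helper1).
-/

namespace Cfsg.Agent.helper1

open Cfsg RegularWreathProduct
open scoped ComplexConjugate

universe u

section WreathCard
variable {M Q : Type u} [Group M] [Group Q] [Fintype M] [Fintype Q] [DecidableEq Q]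

/-- coordinates on the product subgroup -/
def wrYEquiv (J : Q → Subgroup M) : wrY J ≃ (∀ q, J q) where
  toFun y q := ⟨y.1.left q, y.2.2 q⟩
  invFun g := ⟨⟨fun q => g q, 1⟩, rfl, fun q => (g q).2⟩
  left_inv y := by
    apply Subtype.ext
    apply RegularWreathProduct.ext
    · rfl
    · exact y.2.1.symm
  right_inv g := rfl

theorem wrY_card (J : Q → Subgroup M) : Nat.card (wrY J) = ∏ q, Nat.card (J q) := by
  rw [Nat.card_congr (wrYEquiv J), Nat.card_pi]

theorem wrY_index (J : Q → Subgroup M) : (wrY J).index = Nat.card Q * ∏ q, (J q).index := by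
  have h1 := Subgroup.card_mul_index (wrY J)
  rw [wrY_card, RegularWreathProduct.card] at h1
  have h2 : Nat.card M ^ Nat.card Q = (∏ q, Nat.card (J q)) * ∏ q, (J q).index := by
    rw [← Finset.prod_mul_distrib,
      Finset.prod_congr rfl (fun q _ => Subgroup.card_mul_index (J q)), Finset.prod_const,
      Finset.card_univ, Nat.card_eq_fintype_card (α := Q)]
  rw [h2] at h1
  have hpos : 0 < ∏ q, Nat.card (J q) := Finset.prod_pos (fun q _ => Nat.card_pos)
  apply Nat.eq_of_mul_eq_mul_left hpos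
  rw [h1]; ring

/-- coordinates on `J ≀ Q` -/
def wrLEquiv (J₀ : Subgroup M) : wrL Q J₀ ≃ (Q → J₀) × Q where
  toFun l := (fun q => ⟨l.1.left q, l.2 q⟩, l.1.right)
  invFun x := ⟨⟨fun q => x.1 q, x.2⟩, fun q => (x.1 q).2⟩
  left_inv l := rfl
  right_inv x := rfl

theorem wrL_card (J₀ : Subgroup M) : Nat.card (wrL Q J₀) = Nat.card J₀ ^ Nat.card Q * Nat.card Q := by
  rw [Nat.card_congr (wrLEquiv J₀), Nat.card_prod, Nat.card_fun]

theorem wrL_index (J₀ : Subgroup M) : (wrL Q J₀).index = J₀.index ^ Nat.card Q := by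
  have h1 := Subgroup.card_mul_index (wrL Q J₀)
  rw [wrL_card, RegularWreathProduct.card, ← Subgroup.card_mul_index J₀, mul_pow] at h1
  have hpos : 0 < Nat.card J₀ ^ Nat.card Q * Nat.card Q :=
    Nat.mul_pos (pow_pos Nat.card_pos _) Nat.card_pos
  apply Nat.eq_of_mul_eq_mul_left hpos
  rw [h1]; ring

end WreathCard

section IP
variable {M Q : Type u} [Group M] [Group Q] [Fintype M] [Fintype Q] [DecidableEq Q]

/-- the product linear character lies under the product character -/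
theorem mg_ip (J : Q → Subgroup M) (μ : ∀ q, J q →* ℂˣ) (φ : Q → M → ℂ)
    (hφ : ∀ q, IsIrrCharacter M (φ q))
    (hind : ∀ q, φ q = indFun (J q) (fun j => ((μ q j : ℂˣ) : ℂ)))
    [Fintype (wrY J)] (F : wrY J → ℂ) (hF : ∀ y : wrY J, F y = ∏ q, φ q (y.1.left q)) :
    classInner F (fun y => ((wrNu J μ y : ℂˣ) : ℂ)) = 1 := by
  classical
  haveI : ∀ q, Fintype (J q) := fun q => Fintype.ofFinite _
  have hq : ∀ q, (Nat.card (J q) : ℂ)⁻¹ * ∑ j : J q, φ q j * conj ((μ q j : ℂˣ) : ℂ) = 1 := by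
    intro q
    have h1 := helper5.classInner_indFun_irr (J q) (fun j => ((μ q j : ℂˣ) : ℂ))
      (helper24.irr_isCharacter (hφ q))
    rw [← hind q, helper24.irr_classInner_self (hφ q)] at h1
    have h2 := helper24.classInner_conj_symm (fun j : J q => ((μ q j : ℂˣ) : ℂ))
      (helper5.res (J q) (φ q))
    rw [← h1, map_one] at h2
    exact h2.symm
  unfold classInner
  rw [wrY_card]
  rw [← Equiv.sum_comp (wrYEquiv J).symm
    (fun y : wrY J => F y * conj (((wrNu J μ y : ℂˣ) : ℂ)))]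
  have h3 : ∀ g : (∀ q, J q), F ((wrYEquiv J).symm g) *
      conj (((wrNu J μ ((wrYEquiv J).symm g) : ℂˣ) : ℂ)) =
        ∏ q, (φ q (g q) * conj ((μ q (g q) : ℂˣ) : ℂ)) := by
    intro g
    rw [hF, Finset.prod_mul_distrib]
    congr 1
    show conj (((∏ q, μ q ⟨_, _⟩ : ℂˣ) : ℂ)) = _
    rw [Units.coe_prod, map_prod]
    rfl
  rw [Finset.sum_congr rfl (fun g _ => h3 g)]
  have h4 := Finset.prod_univ_sum (fun q => (Finset.univ : Finset (J q)))
    (fun q j => φ q j * conj ((μ q j : ℂˣ) : ℂ))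
  rw [Fintype.piFinset_univ] at h4
  rw [← h4]
  push_cast
  rw [← Finset.prod_inv_distrib, ← Finset.prod_mul_distrib]
  exact Finset.prod_eq_one (fun q _ => hq q)

end IP

section ExtSum
variable {M Q : Type u} [Group M] [Group Q] [Fintype M] [Fintype Q] [DecidableEq Q]

/-- some extension of the symmetric linear character lies under `χ` -/
theorem mg_ext_sum (p : ℕ) (hp : p.Prime) (hQ : Nat.card Q = p) (J₀ : Subgroup M) (μ₀ : J₀ →* ℂˣ)
    (χ : M ≀ᵣ Q → ℂ) [Fintype (wrL Q J₀)] [Fintype (wrY (fun _ : Q => J₀))]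
    (hne : classInner (fun y : wrY (fun _ : Q => J₀) => χ y)
      (fun y => ((wrNu (fun _ : Q => J₀) (fun _ => μ₀) y : ℂˣ) : ℂ)) ≠ 0) :
    ∃ lam : Q →* ℂˣ, classInner (fun l : wrL Q J₀ => χ l)
      (fun l => ((wrKappa J₀ μ₀ lam l : ℂˣ) : ℂ)) ≠ 0 := by
  classical
  haveI : Fintype (Q →* ℂˣ) := Fintype.ofFinite _
  by_contra hcon
  push Not at hcon
  apply hne
  have h0 : ∑ lam : Q →* ℂˣ, classInner (fun l : wrL Q J₀ => χ l)
      (fun l => ((wrKappa J₀ μ₀ lam l : ℂˣ) : ℂ)) = 0 :=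
    Finset.sum_eq_zero (fun lam _ => hcon lam)
  unfold classInner at h0 ⊢
  rw [← Finset.mul_sum, Finset.sum_comm] at h0
  have h1 : ∀ l : wrL Q J₀, ∑ lam : Q →* ℂˣ, χ l * conj (((wrKappa J₀ μ₀ lam l : ℂˣ) : ℂ)) =
      if l.1.right = 1 then (p : ℂ) * (χ l * conj (((wrMuHat J₀ μ₀ l : ℂˣ) : ℂ))) else 0 := by
    intro l
    have h2 : ∀ lam : Q →* ℂˣ, χ l * conj (((wrKappa J₀ μ₀ lam l : ℂˣ) : ℂ)) =
        conj (((lam l.1.right : ℂˣ) : ℂ)) * (χ l * conj (((wrMuHat J₀ μ₀ l : ℂˣ) : ℂ))) := by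
      intro lam
      rw [wrKappa_apply, Units.val_mul, map_mul]; ring
    rw [Finset.sum_congr rfl (fun lam _ => h2 lam), ← Finset.sum_mul, ← map_sum,
      mg_hom_sum p hp hQ]
    split_ifs <;> simp
  rw [Finset.sum_congr rfl (fun l _ => h1 l)] at h0
  have h3 : ∑ l : wrL Q J₀, (if l.1.right = 1 then
        (p : ℂ) * (χ l * conj (((wrMuHat J₀ μ₀ l : ℂˣ) : ℂ))) else 0)
      = (p : ℂ) * ∑ y : wrY (fun _ : Q => J₀),
        χ y * conj (((wrNu (fun _ : Q => J₀) (fun _ => μ₀) y : ℂˣ) : ℂ)) := by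
    rw [← Finset.sum_filter, Finset.mul_sum]
    symm
    apply Finset.sum_bij (fun (y : wrY (fun _ : Q => J₀)) _ => (⟨y.1, y.2.2⟩ : wrL Q J₀))
    · intro y _
      simp only [Finset.mem_filter, Finset.mem_univ, true_and]
      exact y.2.1
    · intro a _ b _ h
      apply Subtype.ext
      exact congrArg (fun l : wrL Q J₀ => (l : M ≀ᵣ Q)) h
    · intro l hl
      simp only [Finset.mem_filter, Finset.mem_univ, true_and] at hl
      exact ⟨⟨l.1, hl, l.2⟩, Finset.mem_univ _, rfl⟩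
    · intro y _; rfl
  rw [h3] at h0
  have hp0 : (p : ℂ) ≠ 0 := by exact_mod_cast hp.pos.ne'
  have hL0 : ((Nat.card (wrL Q J₀) : ℂ))⁻¹ ≠ 0 :=
    inv_ne_zero (by exact_mod_cast (Nat.card_pos (α := wrL Q J₀)).ne')
  have h4 : ∑ y : wrY (fun _ : Q => J₀),
      χ y * conj (((wrNu (fun _ : Q => J₀) (fun _ => μ₀) y : ℂˣ) : ℂ)) = 0 := by
    rcases mul_eq_zero.mp h0 with h | h
    · exact absurd h hL0
    · exact (mul_eq_zero.mp h).resolve_left hp0
  rw [h4, mul_zero]

end ExtSum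

end Cfsg.Agent.helper1
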