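import Mathlib
import Cfsg.Agent.Lib_helper1_MG4
import Cfsg.Agent.Lib_helper8_Cover

set_option autoImplicit false
set_option linter.unusedSectionVars false
set_option linter.unusedVariables false
set_option linter.style.longLine false
set_option linter.style.haveILetI false

/-!
`M ≀ C_p` is an M-group when `M` is (helper1).
-/

namespace Cfsg.Agent.helper1

open Cfsg RegularWreathProduct
open scoped ComplexConjugate

universe u

section Main
variable {M Q : Type u} [Group M] [Group Q] [Fintype M] [Fintype Q] [DecidableEq Q]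

theorem mg_conj_left (q : Q) (f : Q → M) (x : Q) :
    ((inl q : M ≀ᵣ Q) * ⟨f, 1⟩ * (inl q : M ≀ᵣ Q)⁻¹).left x = f (q⁻¹ * x) := by
  simp [mul_left, inv_left]

theorem mg_wreath (p : ℕ) (hp : p.Prime) (hQ : Nat.card Q = p)
    (hM : ∀ φ : M → ℂ, IsIrrCharacter M φ →
      ∃ (J : Subgroup M) (μ : J →* ℂˣ), φ = indFun J (fun j => ((μ j : ℂˣ) : ℂ)))
    [Fintype (M ≀ᵣ Q)] (χ : M ≀ᵣ Q → ℂ) (hχ : IsIrrCharacter (M ≀ᵣ Q) χ) :
    ∃ (H : Subgroup (M ≀ᵣ Q)) (lam : H →* ℂˣ), χ = indFun H (fun h => ((lam h : ℂˣ) : ℂ)) := by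
  classical
  haveI : Fintype (wrBase M Q) := Fintype.ofFinite _
  have hidx : (wrBase M Q).index = p := by rw [wrBase_index, hQ]
  obtain ⟨ψ', hψ1⟩ := helper8.Cover.exists_under (wrBase M Q) hχ
  obtain ⟨ψ, hψ, hψeq⟩ : ∃ ψ : wrBase M Q → ℂ, IsIrrCharacter _ ψ ∧ (ψ' : wrBase M Q → ℂ) = ψ :=
    ⟨_, ψ'.2, rfl⟩
  rw [hψeq] at hψ1
  have hψe : IsIrrCharacter (Q → M) (fun f => ψ (wrBaseEquiv M Q f)) :=
    helper8.isIrrCharacter_comp_mulEquiv (wrBaseEquiv M Q) hψ
  obtain ⟨φ, hφ, hprod⟩ := mg_pi_irr _ hψe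
  have hψval : ∀ b : wrBase M Q, ψ b = ∏ q, φ q (b.1.left q) := by
    intro b
    have h1 := congrFun hprod ((wrBaseEquiv M Q).symm b)
    simp only [MulEquiv.apply_symm_apply] at h1
    rw [h1]; rfl
  have hdeg1 : ∀ (q : Q) (J : Subgroup M) (μ : J →* ℂˣ),
      φ q = indFun J (fun j => ((μ j : ℂˣ) : ℂ)) → φ q 1 = (J.index : ℂ) := by
    intro q J μ h
    rw [h, helper5.indFun_one, map_one, Units.val_one, mul_one]
  have hφ0 : ∀ q, φ q 1 ≠ 0 := by
    intro q
    rw [← helper24.char_charDegree_cast (helper24.irr_isCharacter (hφ q))]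
    exact_mod_cast (helper24.irr_charDegree_pos (hφ q)).ne'
  by_cases hinv : ∀ w : M ≀ᵣ Q, helper8.conjFunN (wrBase M Q) w ψ = ψ
  · -- invariant case
    have hres := mg_prime_ext (wrBase M Q) p hp hidx hχ hψ hinv hψ1
    have hall : ∀ q, φ q = φ 1 := by
      intro q
      have key : ∀ m : M, φ q m * ∏ x ∈ Finset.univ.erase q, φ x 1 =
          φ 1 m * ∏ x ∈ Finset.univ.erase (1 : Q), φ x 1 := by
        intro m
        have h1 := congrFun (hinv (inl q)) (wrBaseEquiv M Q (Pi.mulSingle 1 m))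
        rw [helper8.conjFunN_apply, hψval, hψval] at h1
        have h2 : ∀ x : Q, φ x (((inl q : M ≀ᵣ Q) * ((wrBaseEquiv M Q (Pi.mulSingle 1 m) : wrBase M Q) : M ≀ᵣ Q) *
            (inl q : M ≀ᵣ Q)⁻¹).left x) = φ x ((Pi.mulSingle (1 : Q) m : Q → M) (q⁻¹ * x)) := by
          intro x
          congr 1
          exact mg_conj_left q _ x
        rw [Finset.prod_congr rfl (fun x _ => h2 x)] at h1
        rw [← Finset.mul_prod_erase Finset.univ _ (Finset.mem_univ q),
          ← Finset.mul_prod_erase Finset.univ _ (Finset.mem_univ (1 : Q))] at h1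
        have h3 : ∀ x ∈ Finset.univ.erase q, φ x ((Pi.mulSingle (1 : Q) m : Q → M) (q⁻¹ * x)) = φ x 1 := by
          intro x hx
          have hxq : x ≠ q := Finset.ne_of_mem_erase hx
          rw [Pi.mulSingle_apply, if_neg]
          intro h
          apply hxq
          rw [inv_mul_eq_one] at h
          exact h.symm
        have h4 : ∀ x ∈ Finset.univ.erase (1 : Q),
            φ x (((wrBaseEquiv M Q (Pi.mulSingle 1 m) : wrBase M Q) : M ≀ᵣ Q).left x) = φ x 1 := by
          intro x hx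
          have hx1 : x ≠ 1 := Finset.ne_of_mem_erase hx
          rw [wrBaseEquiv_apply_left, Pi.mulSingle_apply, if_neg hx1]
        rw [Finset.prod_congr rfl h3, Finset.prod_congr rfl h4, inv_mul_cancel, Pi.mulSingle_eq_same,
          wrBaseEquiv_apply_left, Pi.mulSingle_eq_same] at h1
        exact h1
      have hE1 : ∏ x ∈ Finset.univ.erase q, φ x 1 ≠ 0 := Finset.prod_ne_zero_iff.mpr (fun x _ => hφ0 x)
      have hE2 : ∏ x ∈ Finset.univ.erase (1 : Q), φ x 1 ≠ 0 :=
        Finset.prod_ne_zero_iff.mpr (fun x _ => hφ0 x)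
      have h5 : φ q = ((∏ x ∈ Finset.univ.erase (1 : Q), φ x 1) / (∏ x ∈ Finset.univ.erase q, φ x 1)) • φ 1 := by
        funext m
        rw [Pi.smul_apply, smul_eq_mul]
        field_simp
        linear_combination key m
      have h6 : classInner (φ q) (φ 1) ≠ 0 := by
        rw [h5, helper24.classInner_smul_left, helper24.irr_classInner_self (hφ 1), mul_one]
        exact div_ne_zero hE2 hE1
      rw [helper24.irr_classInner (hφ q) (hφ 1)] at h6
      by_contra hne
      rw [if_neg hne] at h6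
      exact h6 rfl
    obtain ⟨J₀, μ₀, hJ⟩ := hM (φ 1) (hφ 1)
    haveI : Fintype (wrL Q J₀) := Fintype.ofFinite _
    haveI : Fintype (wrY (fun _ : Q => J₀)) := Fintype.ofFinite _
    have hχB : ∀ b : wrBase M Q, χ b = ψ b := fun b => congrFun hres b
    have hip := mg_ip (fun _ : Q => J₀) (fun _ => μ₀) φ hφ (fun q => by rw [hall q]; exact hJ)
      (fun y => χ y) (fun y => by
        have := hχB ⟨y.1, wrY_le_wrBase _ y.2⟩
        rw [this, hψval])
    obtain ⟨lam, hlam⟩ := mg_ext_sum p hp hQ J₀ μ₀ χ (by rw [hip]; exact one_ne_zero)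
    refine ⟨wrL Q J₀, wrKappa J₀ μ₀ lam, ?_⟩
    symm
    apply helper22.indFun_eq_of_degree (wrL Q J₀) hχ
      (helper24.irr_isCharacter (helper22.hom_isIrrCharacter _)) hlam
    have hk1 : charDegree (fun l : wrL Q J₀ => ((wrKappa J₀ μ₀ lam l : ℂˣ) : ℂ)) = 1 := by
      apply helper24.charDegree_natCast
      rw [map_one, Units.val_one, Nat.cast_one]
    rw [hk1, mul_one, wrL_index]
    apply helper24.charDegree_natCast
    have := hχB 1
    rw [show ((1 : wrBase M Q) : M ≀ᵣ Q) = 1 from rfl] at this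
    rw [this, hψval]
    push_cast
    have h7 : ∀ x ∈ (Finset.univ : Finset Q), φ x ((1 : M ≀ᵣ Q).left x) = (J₀.index : ℂ) := by
      intro x _
      rw [one_left, Pi.one_apply]
      exact hdeg1 x J₀ μ₀ (by rw [hall x]; exact hJ)
    rw [Finset.prod_congr rfl h7, Finset.prod_const, Finset.card_univ, Nat.card_eq_fintype_card]
  · -- non-invariant case
    choose J μ hJμ using fun q => hM (φ q) (hφ q)
    haveI : Fintype (wrY J) := Fintype.ofFinite _
    have hip := mg_ip J μ φ hφ hJμ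
      (fun y => ψ (Subgroup.inclusion (wrY_le_wrBase J) y)) (fun y => hψval _)
    have hdeg := mg_prime_ind (wrBase M Q) p hp hidx hχ hψ hinv hψ1
    have hνc : IsCharacter (wrY J) (fun y => ((wrNu J μ y : ℂˣ) : ℂ)) :=
      helper24.irr_isCharacter (helper22.hom_isIrrCharacter _)
    have htr := mg_under_trans (wrY J) (wrBase M Q) (wrY_le_wrBase J)
      (helper24.irr_isCharacter hχ) hψ hψ1 hνc (by rw [hip]; exact one_ne_zero)
    refine ⟨wrY J, wrNu J μ, ?_⟩
    symm
    apply helper22.indFun_eq_of_degree (wrY J) hχ hνc htr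
    have hk1 : charDegree (fun y : wrY J => ((wrNu J μ y : ℂˣ) : ℂ)) = 1 := by
      apply helper24.charDegree_natCast
      rw [map_one, Units.val_one, Nat.cast_one]
    rw [hk1, mul_one, wrY_index, hdeg, hQ]
    congr 1
    apply helper24.charDegree_natCast
    rw [hψval]
    push_cast
    apply Finset.prod_congr rfl
    intro x _
    rw [one_left, Pi.one_apply]
    exact hdeg1 x (J x) (μ x) (hJμ x)

end Main

end Cfsg.Agent.helper1
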