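import Mathlib
import Cfsg.Agent.Lib_helper1_MG5
import Cfsg.Agent.Lib_helper24_CodPrime

set_option autoImplicit false
set_option linter.unusedSectionVars false
set_option linter.unusedVariables false
set_option linter.style.longLine false
set_option linter.style.haveILetI false

/-!
Every finite solvable group embeds in an M-group (Dade) (helper1).
-/

namespace Cfsg.Agent.helper1

open Cfsg RegularWreathProduct
open scoped ComplexConjugate

universe u

section Embed

/-- the Kaloujnine–Krasner embedding -/
noncomputable def kkHom {G : Type u} [Group G] (H : Subgroup G) [hH : H.Normal] :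
    G →* (H ≀ᵣ (G ⧸ H)) :=
  MonoidHom.mk'
    (fun g => ⟨fun q => ⟨(Quotient.out q : G)⁻¹ * g * (Quotient.out ((g : G ⧸ H)⁻¹ * q) : G), by
        rw [← QuotientGroup.eq_one_iff]
        simp only [QuotientGroup.mk_mul, QuotientGroup.mk_inv, QuotientGroup.out_eq']
        group⟩, (g : G ⧸ H)⟩)
    (by
      intro a b
      apply RegularWreathProduct.ext
      · funext q
        apply Subtype.ext
        show (Quotient.out q : G)⁻¹ * (a * b) * (Quotient.out (((a * b : G) : G ⧸ H)⁻¹ * q) : G) =
          ((Quotient.out q : G)⁻¹ * a * (Quotient.out ((a : G ⧸ H)⁻¹ * q) : G)) *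
            ((Quotient.out ((a : G ⧸ H)⁻¹ * q) : G)⁻¹ * b *
              (Quotient.out ((b : G ⧸ H)⁻¹ * ((a : G ⧸ H)⁻¹ * q)) : G))
        rw [QuotientGroup.mk_mul, _root_.mul_inv_rev, mul_assoc ((b : G ⧸ H)⁻¹)]
        group
      · rfl)

theorem kkHom_injective {G : Type u} [Group G] (H : Subgroup G) [hH : H.Normal] :
    Function.Injective (kkHom H) := by
  rw [injective_iff_map_eq_one]
  intro g hg
  have h1 : ((kkHom H g).left 1 : G) = 1 := by rw [hg]; rfl
  have h2 : (kkHom H g).right = 1 := by rw [hg]; rfl
  have h3 : (g : G ⧸ H) = 1 := h2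
  have h4 : (Quotient.out (1 : G ⧸ H) : G)⁻¹ * g * (Quotient.out ((g : G ⧸ H)⁻¹ * 1) : G) = 1 := h1
  rw [h3, inv_one, one_mul] at h4
  rw [mul_assoc, inv_mul_eq_one] at h4
  exact (mul_eq_right.mp h4.symm)

/-- functoriality of the wreath product in the base -/
def wrMap {H M Q : Type u} [Group H] [Group M] [Group Q] (f : H →* M) : (H ≀ᵣ Q) →* (M ≀ᵣ Q) :=
  MonoidHom.mk' (fun w => ⟨fun q => f (w.left q), w.right⟩)
    (by
      intro a b
      apply RegularWreathProduct.ext
      · funext q
        show f (a.left q * b.left (a.right⁻¹ * q)) = f (a.left q) * f (b.left (a.right⁻¹ * q))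
        rw [map_mul]
      · rfl)

theorem wrMap_injective {H M Q : Type u} [Group H] [Group M] [Group Q] (f : H →* M)
    (hf : Function.Injective f) : Function.Injective (wrMap (Q := Q) f) := by
  intro a b hab
  have h1 : (fun q => f (a.left q)) = fun q => f (b.left q) :=
    congrArg (fun w : M ≀ᵣ Q => w.left) hab
  have h2 : a.right = b.right := congrArg (fun w : M ≀ᵣ Q => w.right) hab
  apply RegularWreathProduct.ext
  · funext q
    exact hf (congrFun h1 q)
  · exact h2

end Embed

section Dade

theorem mg_embed : ∀ (n : ℕ) (G : Type u) [Group G] [Finite G], Group.IsSolvable G →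
    Nat.card G ≤ n →
    ∃ (M : Type u) (_ : Group M) (_ : Fintype M),
      (∀ χ : M → ℂ, IsIrrCharacter M χ →
        ∃ (H : Subgroup M) (lam : ↥H →* ℂˣ), χ = indFun H (fun h => ((lam h : ℂˣ) : ℂ))) ∧
      ∃ f : G →* M, Function.Injective f := by
  intro n
  induction n with
  | zero =>
    intro G _ _ _ hle
    exact absurd hle (by have := Nat.card_pos (α := G); omega)
  | succ n ih =>
    intro G _ _ hsolv hle
    classical
    by_cases htriv : Subsingleton G
    · haveI := htriv
      haveI : Fintype G := Fintype.ofFinite G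
      refine ⟨G, inferInstance, inferInstance, ?_, MonoidHom.id G, Function.injective_id⟩
      intro χ hχ
      exact helper22.nilpotent_monomial _ G rfl χ hχ
    · haveI : Nontrivial G := not_subsingleton_iff_nontrivial.mp htriv
      haveI := hsolv
      have hcomm : commutator G ≠ ⊤ := (Group.IsSolvable.commutator_lt_top_of_nontrivial G).ne
      obtain ⟨H, hHn, hHp⟩ := helper24.exists_normal_prime_index hcomm
      haveI := hHn
      have hHsolv : Group.IsSolvable H := inferInstance
      have hHcard : Nat.card H ≤ n := by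
        have h1 := Subgroup.card_mul_index H
        have h2 : 2 ≤ H.index := hHp.two_le
        have h3 : 0 < Nat.card H := Nat.card_pos
        nlinarith
      obtain ⟨M₀, iG, iF, hmono, f, hf⟩ := ih H hHsolv hHcard
      haveI : Fintype (G ⧸ H) := Fintype.ofFinite _
      haveI : Fintype (M₀ ≀ᵣ (G ⧸ H)) := Fintype.ofFinite _
      refine ⟨M₀ ≀ᵣ (G ⧸ H), inferInstance, inferInstance, ?_,
        (wrMap f).comp (kkHom H), (wrMap_injective f hf).comp (kkHom_injective H)⟩
      intro χ hχ
      have hQ : Nat.card (G ⧸ H) = H.index := (Subgroup.index_eq_card H).symm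
      exact mg_wreath H.index hHp hQ hmono χ hχ

end Dade

end Cfsg.Agent.helper1
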