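import Mathlib
import Cfsg.Prelude
import Cfsg.Agent.Lib_helper24_HeightCut
import Cfsg.Agent.Lib_helper24_CharCount
import Cfsg.Agent.Lib_helper1_GalChar
import Cfsg.Agent.Lib_helper23_Central

set_option autoImplicit false
set_option linter.unusedVariables false
set_option linter.unusedSectionVars false
set_option linter.style.longLine false
set_option linter.style.haveILetI false

namespace Cfsg.Agent.helper1

open Cfsg
open scoped ComplexConjugate

universe u

section PConj

variable {G : Type u} [Group G] [Fintype G]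

/-- Parseval for class functions -/
theorem classInner_self_parseval [Fintype (IrrCharacter G)] {f : G → ℂ}
    (hf : IsClassFunction G f) :
    classInner f f = ∑ ψ : IrrCharacter G,
      classInner f (ψ : G → ℂ) * conj (classInner f (ψ : G → ℂ)) := by
  conv_lhs => arg 1; rw [helper24.classFunction_expansion hf]
  rw [helper24.classInner_sum_left]
  refine Finset.sum_congr rfl fun ψ _ => ?_
  rw [helper24.classInner_smul_left, helper24.classInner_conj_symm]

/-- the inner product of a generalized character with a character is an integer -/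
theorem classInner_genChar_int {θ ψ : G → ℂ} (hθ : IsGeneralizedCharacter G θ)
    (hψ : IsCharacter G ψ) : ∃ z : ℤ, classInner θ ψ = z := by
  obtain ⟨α, β, hα, hβ, rfl⟩ := hθ
  obtain ⟨a, ha⟩ := helper12.classInner_char_nat hα hψ
  obtain ⟨b, hb⟩ := helper12.classInner_char_nat hβ hψ
  refine ⟨(a : ℤ) - b, ?_⟩
  rw [helper24.classInner_sub_left, ha, hb]
  push_cast
  rfl

/-- a ring automorphism of `ℂ` fixing `exp(2πi/m)` fixes the character values at elements of
order dividing `m` -/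
theorem aut_char_fixed_of_pow (σ : ℂ ≃+* ℂ) (m : ℕ) (hm : m ≠ 0)
    (hσ : σ (Complex.exp (2 * Real.pi * Complex.I / m)) = Complex.exp (2 * Real.pi * Complex.I / m))
    {χ : G → ℂ} (hχ : IsCharacter G χ) (g : G) (hg : g ^ m = 1) : σ (χ g) = χ g := by
  obtain ⟨n, ρ, rfl⟩ := hχ
  have hf : (ρ g) ^ m = 1 := by rw [← map_pow, hg, map_one]
  obtain ⟨S, mult, hS, h⟩ := trace_pow_eq_sum (ρ g) m (Nat.pos_of_ne_zero hm) hf
  have h1 := h 1
  rw [pow_one] at h1
  have hchar : ρ.character g = ∑ μ ∈ S, (mult μ : ℂ) * μ := by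
    simp only [pow_one] at h1
    rw [← h1]
    rfl
  rw [hchar, map_sum]
  refine Finset.sum_congr rfl fun μ hμ => ?_
  rw [map_mul, map_natCast]
  congr 1
  have hprim : IsPrimitiveRoot (Complex.exp (2 * Real.pi * Complex.I / m)) m :=
    Complex.isPrimitiveRoot_exp m hm
  haveI : NeZero m := ⟨hm⟩
  obtain ⟨i, _, hi⟩ := hprim.eq_pow_of_pow_eq_one (hS μ hμ)
  rw [← hi, map_pow, hσ]

end PConj

section Main

variable {G : Type u} [Group G] [Fintype G]

/-- the scaled cut-off of `χ` to the `p`-regular elements -/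
noncomputable def pcut (p e : ℕ) (χ : G → ℂ) : G → ℂ :=
  fun x => if p ∣ orderOf x then 0 else ((p ^ e : ℕ) : ℂ) * χ x

theorem classInner_pcut_of_agree (p e : ℕ) (χ ψ : G → ℂ)
    (h : ∀ x, ¬ p ∣ orderOf x → ψ x = χ x) :
    classInner (pcut p e χ) ψ = classInner (pcut p e χ) χ := by
  unfold classInner
  congr 1
  refine Finset.sum_congr rfl fun x _ => ?_
  unfold pcut
  split_ifs with hx
  · simp
  · rw [h x hx]

theorem classInner_pcut_self (p e : ℕ) (χ : G → ℂ) :
    classInner (pcut p e χ) (pcut p e χ) = ((p ^ e : ℕ) : ℂ) * classInner (pcut p e χ) χ := by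
  unfold classInner
  rw [mul_left_comm ((p ^ e : ℕ) : ℂ)]
  congr 1
  rw [Finset.mul_sum]
  refine Finset.sum_congr rfl fun x _ => ?_
  unfold pcut
  split_ifs with hx
  · simp
  · rw [map_mul, map_natCast]; ring

theorem classInner_pcut_pos (p e : ℕ) (hp : p.Prime) (χ : G → ℂ) (h1 : χ 1 ≠ 0) :
    ∃ t : ℝ, 0 < t ∧ classInner (pcut p e χ) χ = (t : ℂ) := by
  refine ⟨(Nat.card G : ℝ)⁻¹ * ∑ x : G, (if p ∣ orderOf x then 0 else
    ((p ^ e : ℕ) : ℝ) * Complex.normSq (χ x)), ?_, ?_⟩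
  · apply mul_pos
    · exact inv_pos.mpr (by exact_mod_cast Nat.card_pos)
    · apply Finset.sum_pos'
      · intro x _
        split_ifs
        · exact le_rfl
        · exact mul_nonneg (Nat.cast_nonneg _) (Complex.normSq_nonneg _)
      · refine ⟨1, Finset.mem_univ _, ?_⟩
        rw [if_neg (by rw [orderOf_one]; exact hp.not_dvd_one)]
        apply mul_pos
        · exact_mod_cast pow_pos hp.pos e
        · exact Complex.normSq_pos.mpr h1
  · unfold classInner
    rw [Complex.ofReal_mul, Complex.ofReal_inv, Complex.ofReal_natCast, Complex.ofReal_sum]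
    congr 1
    refine Finset.sum_congr rfl fun x _ => ?_
    unfold pcut
    split_ifs with hx
    · simp
    · rw [Complex.ofReal_mul, Complex.ofReal_natCast, mul_assoc, Complex.mul_conj]

theorem genChar_isClassFunction {θ : G → ℂ} (hθ : IsGeneralizedCharacter G θ) :
    IsClassFunction G θ := by
  obtain ⟨α, β, hα, hβ, rfl⟩ := hθ
  intro g h
  rw [Pi.sub_apply, Pi.sub_apply, helper24.char_isClassFunction hα g h,
    helper24.char_isClassFunction hβ g h]

theorem pconj_count (p : ℕ) [Fact p.Prime] (χ : IrrCharacter G) (m : ℕ)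
    (hm : m = Nat.card G / p ^ (Nat.card G).factorization p) (r : ℕ)
    (hr : Nat.card {ψ : IrrCharacter G // ∃ σ : ℂ ≃+* ℂ,
      σ (Complex.exp (2 * Real.pi * Complex.I / m)) = Complex.exp (2 * Real.pi * Complex.I / m) ∧
        (ψ : G → ℂ) = fun g => σ ((χ : G → ℂ) g)} = r) :
    (r * charDegree (χ : G → ℂ)).factorization p ≤ (Nat.card G).factorization p ∧
    (p ^ (Nat.card G).factorization p ∣ r * charDegree (χ : G → ℂ) →
      p ^ (Nat.card G).factorization p ∣ charDegree (χ : G → ℂ)) := by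
  classical
  have hpp : p.Prime := Fact.out
  haveI : Fintype (IrrCharacter G) := Fintype.ofFinite _
  set a := (Nat.card G).factorization p with ha
  set d := charDegree (χ : G → ℂ) with hd
  set b := d.factorization p with hb
  have hχc : IsCharacter G (χ : G → ℂ) := helper24.irr_isCharacter χ.2
  have hdpos : 0 < d := helper24.irr_charDegree_pos χ.2
  have hdcast : ((d : ℕ) : ℂ) = (χ : G → ℂ) 1 := helper24.char_charDegree_cast hχc
  have hdvd : d ∣ Nat.card G := helper23.irr_degree_dvd_card χ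
  have hba : b ≤ a := (Nat.factorization_le_iff_dvd hdpos.ne' Nat.card_pos.ne').2 hdvd p
  have hcard : Nat.card G = p ^ a * m := by
    rw [hm]; exact (Nat.mul_div_cancel' (Nat.ordProj_dvd _ _)).symm
  have hm0 : m ≠ 0 := by
    rintro rfl
    rw [mul_zero] at hcard
    exact Nat.card_pos.ne' hcard
  set Θ : G → ℂ := pcut p (a - b) (χ : G → ℂ) with hΘ
  have hΘg : IsGeneralizedCharacter G Θ := helper24.isGeneralizedCharacter_height_cut p χ
  have hΘcf : IsClassFunction G Θ := genChar_isClassFunction hΘg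
  -- the set of `p`-conjugates
  set Sset : Finset (IrrCharacter G) := Finset.univ.filter (fun ψ => ∃ σ : ℂ ≃+* ℂ,
      σ (Complex.exp (2 * Real.pi * Complex.I / m)) = Complex.exp (2 * Real.pi * Complex.I / m) ∧
        (ψ : G → ℂ) = fun g => σ ((χ : G → ℂ) g)) with hSset
  have hrS : Sset.card = r := by
    rw [← hr, Nat.card_eq_fintype_card, Fintype.card_subtype]
  have hχS : χ ∈ Sset := by
    rw [hSset, Finset.mem_filter]
    exact ⟨Finset.mem_univ _, RingEquiv.refl ℂ, rfl, rfl⟩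
  have hr1 : 1 ≤ r := by
    rw [← hrS]; exact Finset.card_pos.mpr ⟨χ, hχS⟩
  -- agreement on `p`-regular elements
  have hagree : ∀ ψ ∈ Sset, ∀ x : G, ¬ p ∣ orderOf x → (ψ : G → ℂ) x = (χ : G → ℂ) x := by
    intro ψ hψ x hx
    rw [hSset, Finset.mem_filter] at hψ
    obtain ⟨-, σ, hσ, hψσ⟩ := hψ
    rw [hψσ]
    apply aut_char_fixed_of_pow σ m hm0 hσ hχc x
    have h1 : orderOf x ∣ p ^ a * m := by rw [← hcard]; exact orderOf_dvd_natCard x
    have h2 : (orderOf x).Coprime (p ^ a) :=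
      Nat.Coprime.pow_right a ((Nat.Prime.coprime_iff_not_dvd hpp).2 hx).symm
    exact orderOf_dvd_iff_pow_eq_one.mp (h2.dvd_of_dvd_mul_left h1)
  -- integer coefficients
  choose z hz using fun ψ : IrrCharacter G =>
    classInner_genChar_int hΘg (helper24.irr_isCharacter ψ.2)
  have hzS : ∀ ψ ∈ Sset, z ψ = z χ := by
    intro ψ hψ
    have h1 := classInner_pcut_of_agree p (a - b) (χ : G → ℂ) (ψ : G → ℂ) (hagree ψ hψ)
    rw [← hΘ, hz ψ, hz χ] at h1
    exact_mod_cast h1
  have hz0 : 1 ≤ z χ := by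
    obtain ⟨t, ht, hteq⟩ := classInner_pcut_pos p (a - b) hpp (χ : G → ℂ)
      (helper24.irr_apply_one_ne_zero χ.2)
    rw [← hΘ, hz χ] at hteq
    have : ((z χ : ℝ) : ℂ) = (t : ℂ) := by rw [← hteq]; push_cast; rfl
    have h2 : (z χ : ℝ) = t := Complex.ofReal_injective this
    have h3 : (0 : ℝ) < (z χ : ℝ) := by rw [h2]; exact ht
    have h4 : 0 < z χ := by exact_mod_cast h3
    omega
  -- Parseval
  have hpars : ∑ ψ : IrrCharacter G, (z ψ) ^ 2 = (p : ℤ) ^ (a - b) * z χ := by
    have h1 := classInner_self_parseval hΘcf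
    rw [hΘ, classInner_pcut_self, ← hΘ, hz χ] at h1
    have h2 : (∑ ψ : IrrCharacter G, classInner Θ (ψ : G → ℂ) * conj (classInner Θ (ψ : G → ℂ)))
        = ((∑ ψ : IrrCharacter G, (z ψ) ^ 2 : ℤ) : ℂ) := by
      rw [Int.cast_sum]
      refine Finset.sum_congr rfl fun ψ _ => ?_
      rw [hz ψ, map_intCast]
      push_cast
      ring
    rw [h2] at h1
    have h3 : (((p : ℤ) ^ (a - b) * z χ : ℤ) : ℂ) = ((∑ ψ : IrrCharacter G, (z ψ) ^ 2 : ℤ) : ℂ) := by
      rw [← h1]; push_cast; rfl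
    exact_mod_cast h3.symm
  have hsumS : ∑ ψ ∈ Sset, (z ψ) ^ 2 = (r : ℤ) * (z χ) ^ 2 := by
    rw [Finset.sum_congr rfl (fun ψ hψ => by rw [hzS ψ hψ]), Finset.sum_const, hrS, nsmul_eq_mul]
  have hle : ∑ ψ ∈ Sset, (z ψ) ^ 2 ≤ ∑ ψ : IrrCharacter G, (z ψ) ^ 2 :=
    Finset.sum_le_sum_of_subset_of_nonneg (Finset.subset_univ _) (fun ψ _ _ => sq_nonneg _)
  have hrz : (r : ℤ) * z χ ≤ (p : ℤ) ^ (a - b) := by
    rw [hsumS, hpars] at hle
    have h0 : (0 : ℤ) < z χ := by omega
    have : (r : ℤ) * z χ * z χ ≤ (p : ℤ) ^ (a - b) * z χ := by nlinarith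
    exact le_of_mul_le_mul_right this h0
  have hrle : r ≤ p ^ (a - b) := by
    have h1 : (r : ℤ) ≤ (r : ℤ) * z χ := by nlinarith
    have h2 : (r : ℤ) ≤ (p : ℤ) ^ (a - b) := le_trans h1 hrz
    exact_mod_cast h2
  have hr0 : r ≠ 0 := by omega
  have hvr : r.factorization p ≤ a - b := by
    have h1 : p ^ r.factorization p ≤ r := Nat.le_of_dvd (by omega) (Nat.ordProj_dvd r p)
    exact (Nat.pow_le_pow_iff_right hpp.one_lt).1 (le_trans h1 hrle)
  have hfac : (r * d).factorization p = r.factorization p + b := by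
    rw [Nat.factorization_mul hr0 hdpos.ne']
    rfl
  refine ⟨by rw [hfac]; omega, ?_⟩
  intro hdiv
  have h1 : a ≤ (r * d).factorization p :=
    (Nat.Prime.pow_dvd_iff_le_factorization hpp (Nat.mul_ne_zero hr0 hdpos.ne')).1 hdiv
  rw [hfac] at h1
  have hvr' : r.factorization p = a - b := by omega
  have hreq : r = p ^ (a - b) := by
    apply le_antisymm hrle
    have : p ^ (a - b) ∣ r := by rw [← hvr']; exact Nat.ordProj_dvd r p
    exact Nat.le_of_dvd (by omega) this
  have hz1 : z χ = 1 := by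
    have hrpos : (0 : ℤ) < (r : ℤ) := by exact_mod_cast (by omega : 0 < r)
    have h2 : (r : ℤ) * z χ ≤ (r : ℤ) := by
      have : ((p : ℤ) ^ (a - b)) = (r : ℤ) := by rw [hreq]; push_cast; rfl
      exact hrz.trans (le_of_eq this)
    have : z χ ≤ 1 := by nlinarith
    omega
  -- the coefficients off `Sset` vanish
  have hzoff : ∀ ψ : IrrCharacter G, ψ ∉ Sset → z ψ = 0 := by
    have hsplit := Finset.sum_add_sum_compl Sset (fun ψ => (z ψ) ^ 2)
    rw [hpars, hsumS, hz1] at hsplit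
    have hrp : (r : ℤ) = (p : ℤ) ^ (a - b) := by rw [hreq]; push_cast; rfl
    have h0 : ∑ ψ ∈ Ssetᶜ, (z ψ) ^ 2 = 0 := by
      rw [hrp] at hsplit
      linarith
    intro ψ hψ
    have := (Finset.sum_eq_zero_iff_of_nonneg (fun ψ _ => sq_nonneg (z ψ))).1 h0 ψ
      (Finset.mem_compl.mpr hψ)
    exact pow_eq_zero_iff (two_ne_zero) |>.1 this
  have hΘsum : Θ = ∑ ψ ∈ Sset, (ψ : G → ℂ) := by
    rw [helper24.classFunction_expansion hΘcf]
    rw [← Finset.sum_subset (Finset.subset_univ Sset)]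
    · refine Finset.sum_congr rfl fun ψ hψ => ?_
      rw [hz ψ, hzS ψ hψ, hz1]
      simp
    · intro ψ _ hψ
      rw [hz ψ, hzoff ψ hψ]
      simp
  -- restrict to a Sylow `p`-subgroup
  obtain ⟨P⟩ : Nonempty (Sylow p G) := inferInstance
  haveI : Fintype (P : Subgroup G) := Fintype.ofFinite _
  have hPcard : Nat.card (P : Subgroup G) = p ^ a := P.card_eq_multiplicity
  have hone : IsCharacter (P : Subgroup G) (fun _ : (P : Subgroup G) => (1 : ℂ)) :=
    helper24.irr_isCharacter helper24.isIrrCharacter_one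
  obtain ⟨k, hk⟩ := helper12.classInner_char_nat
    (helper12.isCharacter_restrict (P : Subgroup G) hχc) hone
  have hsumχ : ∑ y : (P : Subgroup G), (χ : G → ℂ) (y : G) = ((p ^ a : ℕ) : ℂ) * k := by
    unfold classInner at hk
    rw [hPcard] at hk
    have hne : ((p ^ a : ℕ) : ℂ) ≠ 0 := by exact_mod_cast (pow_pos hpp.pos a).ne'
    have h2 : ∑ y : (P : Subgroup G), (χ : G → ℂ) (y : G) * conj (1 : ℂ) =
        ∑ y : (P : Subgroup G), (χ : G → ℂ) (y : G) := by simp
    rw [h2] at hk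
    rw [← hk, ← mul_assoc, mul_inv_cancel₀ hne, one_mul]
  have hsumψ : ∀ ψ ∈ Sset, ∑ y : (P : Subgroup G), (ψ : G → ℂ) (y : G) = ((p ^ a : ℕ) : ℂ) * k := by
    intro ψ hψ
    rw [hSset, Finset.mem_filter] at hψ
    obtain ⟨-, σ, hσ, hψσ⟩ := hψ
    rw [hψσ]
    show ∑ y : (P : Subgroup G), σ ((χ : G → ℂ) (y : G)) = _
    rw [← map_sum, hsumχ, map_mul, map_natCast, map_natCast]
  have hsumΘ : ∑ y : (P : Subgroup G), Θ (y : G) = ((p ^ (a - b) : ℕ) : ℂ) * (d : ℂ) := by
    rw [Finset.sum_eq_single (1 : (P : Subgroup G))]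
    · rw [hΘ]
      unfold pcut
      rw [OneMemClass.coe_one, if_neg (by rw [orderOf_one]; exact hpp.not_dvd_one), hdcast]
    · intro y _ hy
      rw [hΘ]
      unfold pcut
      rw [if_pos]
      obtain ⟨j, hj⟩ := P.2 y
      have h1 : orderOf y ∣ p ^ j := orderOf_dvd_of_pow_eq_one hj
      obtain ⟨i, -, hi⟩ := (Nat.dvd_prime_pow hpp).1 h1
      have hi0 : i ≠ 0 := by
        rintro rfl
        rw [pow_zero, orderOf_eq_one_iff] at hi
        exact hy hi
      rw [Subgroup.orderOf_coe, hi]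
      exact dvd_pow_self p hi0
    · intro h; exact absurd (Finset.mem_univ _) h
  have hfinal : ((p ^ (a - b) : ℕ) : ℂ) * (d : ℂ) = ((p ^ (a - b) : ℕ) : ℂ) * (((p ^ a * k : ℕ)) : ℂ) := by
    rw [← hsumΘ, hΘsum]
    have : ∑ y : (P : Subgroup G), (∑ ψ ∈ Sset, (ψ : G → ℂ)) (y : G) =
        ∑ ψ ∈ Sset, ∑ y : (P : Subgroup G), (ψ : G → ℂ) (y : G) := by
      rw [Finset.sum_comm]
      refine Finset.sum_congr rfl fun y _ => ?_
      rw [Finset.sum_apply]
    rw [this, Finset.sum_congr rfl hsumψ, Finset.sum_const, hrS, hreq, nsmul_eq_mul]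
    push_cast
    ring
  have hne : ((p ^ (a - b) : ℕ) : ℂ) ≠ 0 := by exact_mod_cast (pow_pos hpp.pos (a - b)).ne'
  have hdk : (d : ℂ) = ((p ^ a * k : ℕ) : ℂ) := mul_left_cancel₀ hne hfinal
  have hdk' : d = p ^ a * k := by exact_mod_cast hdk
  exact ⟨k, hdk'⟩

end Main

end Cfsg.Agent.helper1
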