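import Mathlib

set_option autoImplicit false
set_option linter.style.haveILetI false
set_option linter.unusedSectionVars false
set_option linter.unusedVariables false

namespace Cfsg.Agent.helper1

open scoped Pointwise

/-- A finite `p`-group is not the union of at most `p` proper subgroups. -/
theorem pgroup_cover_top {P : Type*} [Group P] [Finite P] (p : ℕ) [hp : Fact p.Prime]
    (hP : IsPGroup p P) {ι : Type*} [Fintype ι] (H : ι → Subgroup P)
    (hcov : ∀ x : P, ∃ i, x ∈ H i) (hι : Fintype.card ι ≤ p) : ∃ i, H i = ⊤ := by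
  classical
  by_contra hcon
  push Not at hcon
  haveI := Fintype.ofFinite P
  set N := Nat.card P with hN
  have hle : ∀ i, p * Nat.card (H i) ≤ N := by
    intro i
    have hidx : (H i).index ≠ 1 := fun h => hcon i (Subgroup.index_eq_one.mp h)
    obtain ⟨k, hk⟩ := hP.index (H i)
    have hk0 : k ≠ 0 := by
      rintro rfl
      rw [pow_zero] at hk
      exact hidx hk
    have hpd : p ∣ (H i).index := by rw [hk]; exact dvd_pow_self p hk0
    have hmul := Subgroup.card_mul_index (H i)
    obtain ⟨m, hm⟩ := hpd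
    have hm0 : 0 < m := by
      rcases Nat.eq_zero_or_pos m with h | h
      · subst h
        rw [mul_zero] at hm
        exact absurd hm Subgroup.index_ne_zero_of_finite
      · exact h
    rw [hm] at hmul
    rw [hN, ← hmul]
    nlinarith [Nat.card_pos (α := H i)]
  have hpos : ∀ i, 0 < Nat.card (H i) := fun i => Nat.card_pos
  have h1 : (Finset.univ.erase (1 : P)) ⊆
      Finset.univ.biUnion (fun i => (Finset.univ.filter (fun x => x ∈ H i)).erase 1) := by
    intro x hx
    obtain ⟨i, hi⟩ := hcov x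
    simp only [Finset.mem_erase, Finset.mem_univ, and_true] at hx
    simp only [Finset.mem_biUnion, Finset.mem_univ, true_and, Finset.mem_erase, Finset.mem_filter]
    exact ⟨i, hx, hi⟩
  have h2 := Finset.card_le_card h1
  have h3 := Finset.card_biUnion_le (s := (Finset.univ : Finset ι))
    (t := fun i => (Finset.univ.filter (fun x => x ∈ H i)).erase (1 : P))
  have h4 : ∀ i, ((Finset.univ.filter (fun x => x ∈ H i)).erase (1 : P)).card
      = Nat.card (H i) - 1 := by
    intro i
    rw [Finset.card_erase_of_mem (by simp [(H i).one_mem])]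
    congr 1
    rw [Nat.card_eq_fintype_card, Fintype.card_subtype]
  have h5 : (Finset.univ.erase (1 : P)).card = N - 1 := by
    rw [Finset.card_erase_of_mem (Finset.mem_univ _), Finset.card_univ, hN,
      Nat.card_eq_fintype_card]
  rw [h5] at h2
  have h6 : ∑ i : ι, ((Finset.univ.filter (fun x => x ∈ H i)).erase (1 : P)).card
      = ∑ i : ι, (Nat.card (H i) - 1) := Finset.sum_congr rfl (fun i _ => h4 i)
  rw [h6] at h3
  have h7 : p * ∑ i : ι, (Nat.card (H i) - 1) ≤ Fintype.card ι * (N - p) := by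
    rw [Finset.mul_sum]
    calc ∑ i : ι, p * (Nat.card (H i) - 1) ≤ ∑ i : ι, (N - p) := by
          apply Finset.sum_le_sum
          intro i _
          have := hle i
          have := hpos i
          rw [Nat.mul_sub, mul_one]
          omega
      _ = Fintype.card ι * (N - p) := by
          rw [Finset.sum_const, Finset.card_univ, smul_eq_mul]
  obtain ⟨i₀, -⟩ := hcov 1
  have hNp : p ≤ N := by
    have := hle i₀
    have := hpos i₀
    nlinarith
  have hp2 := hp.out.two_le
  have h8 : Fintype.card ι * (N - p) ≤ p * (N - p) := Nat.mul_le_mul_right _ hι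
  have h9 : p * (N - 1) ≤ p * (N - p) :=
    le_trans (Nat.mul_le_mul_left p (le_trans h2 h3)) (le_trans h7 h8)
  have h10 : N - 1 ≤ N - p := Nat.le_of_mul_le_mul_left h9 hp.out.pos
  omega

universe u v

/-- Covering the `p`-elements of a `p`-generated group needs at least `p + 1` proper subgroups. -/
theorem cover_p_elements_aux (p : ℕ) [hp : Fact p.Prime] {ι : Type v} [Fintype ι] :
    ∀ (N : ℕ) (G : Type u) [Group G] [Finite G], Nat.card G = N →
      Subgroup.closure {g : G | ∃ k : ℕ, orderOf g = p ^ k} = ⊤ →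
      ∀ K : ι → Subgroup G, (∀ i, K i ≠ ⊤) →
        (∀ g : G, (∃ k : ℕ, orderOf g = p ^ k) → ∃ i, g ∈ K i) →
      p + 1 ≤ Fintype.card ι := by
  intro N
  induction N using Nat.strong_induction_on with
  | _ N ih =>
  intro G _ _ hN hgen K hK hcov
  by_contra hlt
  have hι : Fintype.card ι ≤ p := by omega
  classical
  set pe : Set G := {g | ∃ k : ℕ, orderOf g = p ^ k} with hpe
  let L : ι → Subgroup G := fun i => Subgroup.closure (pe ∩ K i)
  have hLK : ∀ i, L i ≤ K i := fun i => (Subgroup.closure_le _).mpr Set.inter_subset_right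
  have hLtop : ∀ i, L i ≠ ⊤ := fun i h => hK i (top_le_iff.mp (h ▸ hLK i))
  have hLcov : ∀ g ∈ pe, ∃ i, g ∈ L i := fun g hg => by
    obtain ⟨i, hi⟩ := hcov g hg
    exact ⟨i, Subgroup.subset_closure ⟨hg, hi⟩⟩
  -- every proper subgroup generated by p-elements lies in some `L j`
  have hstar : ∀ T : Set G, T ⊆ pe → Subgroup.closure T ≠ ⊤ →
      ∃ j, Subgroup.closure T ≤ L j := by
    intro T hT hne
    set H := Subgroup.closure T with hH
    have hcard : Nat.card H < N := by
      rw [← hN]
      have h1 := Subgroup.card_le_card_group H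
      have h2 : Nat.card H ≠ Nat.card G := fun h => hne ((Subgroup.card_eq_iff_eq_top H).mp h)
      omega
    have hgenH : Subgroup.closure {g : H | ∃ k : ℕ, orderOf g = p ^ k} = ⊤ := by
      rw [eq_top_iff, ← Subgroup.closure_closure_coe_preimage (k := T)]
      apply Subgroup.closure_mono
      intro t ht
      obtain ⟨k, hk⟩ := hT ht
      exact ⟨k, by rw [← Subgroup.orderOf_coe]; exact hk⟩
    by_contra hcon
    push Not at hcon
    have := ih (Nat.card H) hcard H rfl hgenH (fun j => (L j).subgroupOf H)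
      (fun j h => hcon j (Subgroup.subgroupOf_eq_top.mp h))
      (fun g hg => by
        obtain ⟨k, hk⟩ := hg
        obtain ⟨i, hi⟩ := hLcov (g : G) ⟨k, by rw [Subgroup.orderOf_coe]; exact hk⟩
        exact ⟨i, Subgroup.mem_subgroupOf.mpr hi⟩)
    omega
  -- maximal members
  set R : Set (Subgroup G) := Set.range L with hR
  have hRfin : R.Finite := Set.finite_range L
  set MM : Set (Subgroup G) := {M | Maximal (· ∈ R) M} with hMM
  have hMMsub : MM ⊆ R := fun M hM => hM.prop
  have hMMfin : MM.Finite := hRfin.subset hMMsub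
  have hMMcard : MM.ncard ≤ p := by
    calc MM.ncard ≤ R.ncard := Set.ncard_le_ncard hMMsub hRfin
      _ ≤ Fintype.card ι := by
          rw [hR, ← Set.image_univ]
          refine le_trans (Set.ncard_image_le (Set.finite_univ)) ?_
          rw [Set.ncard_univ, Nat.card_eq_fintype_card]
      _ ≤ p := hι
  have hup : ∀ i, ∃ M ∈ MM, L i ≤ M := by
    intro i
    obtain ⟨M, hle, hM⟩ := hRfin.exists_le_maximal (Set.mem_range_self i)
    exact ⟨M, hM, hle⟩
  have hMMtop : ∀ M ∈ MM, M ≠ ⊤ := by
    intro M hM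
    obtain ⟨i, rfl⟩ := hMMsub hM
    exact hLtop i
  -- conjugates of members lie below maximal members
  have hconj_le : ∀ i (g : G), ∃ M ∈ MM, MulAut.conj g • L i ≤ M := by
    intro i g
    have h1 : MulAut.conj g • L i = Subgroup.closure ((MulAut.conj g) '' (pe ∩ K i)) := by
      show MulAut.conj g • Subgroup.closure (pe ∩ K i) = _
      rw [Subgroup.smul_closure]
      rfl
    have hne : MulAut.conj g • L i ≠ ⊤ := by
      intro h
      apply hLtop i
      have h2 : (MulAut.conj g)⁻¹ • (MulAut.conj g • L i) = (MulAut.conj g)⁻¹ • (⊤ : Subgroup G) := by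
        rw [h]
      rw [inv_smul_smul] at h2
      rw [h2]
      rw [eq_top_iff]
      intro y _
      have : y = (MulAut.conj g)⁻¹ • ((MulAut.conj g) • y) := by rw [inv_smul_smul]
      rw [this]
      exact Subgroup.smul_mem_pointwise_smul _ _ _ (Subgroup.mem_top _)
    have hsub : ((MulAut.conj g) '' (pe ∩ K i)) ⊆ pe := by
      rintro _ ⟨y, ⟨⟨k, hk⟩, _⟩, rfl⟩
      refine ⟨k, ?_⟩
      rw [← hk]
      exact MulEquiv.orderOf_eq (MulAut.conj g) y
    obtain ⟨j, hj⟩ := hstar _ hsub (h1 ▸ hne)
    rw [← h1] at hj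
    obtain ⟨M', hM', hjM'⟩ := hup j
    exact ⟨M', hM', hj.trans hjM'⟩
  have hconj : ∀ M ∈ MM, ∀ g : G, MulAut.conj g • M ∈ MM := by
    intro M hM g
    obtain ⟨i, hi⟩ := hMMsub hM
    obtain ⟨M', hM', h1⟩ := hconj_le i g
    obtain ⟨i', hi'⟩ := hMMsub hM'
    obtain ⟨M'', hM'', h2⟩ := hconj_le i' g⁻¹
    rw [hi] at h1
    rw [hi'] at h2
    have h3 : M ≤ M'' := by
      have : M = MulAut.conj g⁻¹ • (MulAut.conj g • M) := by
        rw [map_inv, inv_smul_smul]
      rw [this]
      exact (Subgroup.pointwise_smul_le_pointwise_smul_iff.mpr h1).trans h2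
    have h4 : M'' ≤ M := hM.2 (hMMsub hM'') h3
    have h5 : M' ≤ MulAut.conj g • M := by
      have h6 : MulAut.conj g⁻¹ • M' ≤ M := h2.trans h4
      have : M' = MulAut.conj g • (MulAut.conj g⁻¹ • M') := by
        rw [map_inv, smul_inv_smul]
      rw [this]
      exact Subgroup.pointwise_smul_le_pointwise_smul_iff.mpr h6
    have : MulAut.conj g • M = M' := le_antisymm h1 h5
    rw [this]
    exact hM'
  -- every p-element normalizes every maximal member
  have hfix : ∀ x ∈ pe, ∀ M ∈ MM, MulAut.conj x • M = M := by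
    intro x hx M hM
    by_contra hne
    obtain ⟨i₀, hi₀⟩ := hLcov x hx
    obtain ⟨M₀, hM₀, hle₀⟩ := hup i₀
    have hxM₀ : x ∈ M₀ := hle₀ hi₀
    have hM₀fix : MulAut.conj x • M₀ = M₀ := Subgroup.conj_smul_eq_self_of_mem hxM₀
    let Q : Subgroup (MulAut G) := Subgroup.zpowers (MulAut.conj x)
    have hQ : IsPGroup p Q := by
      have h1 : IsPGroup p (Subgroup.zpowers x) := by
        obtain ⟨k, hk⟩ := hx
        exact IsPGroup.of_card (n := k) (by rw [Nat.card_zpowers, hk])
      have h2 := h1.map (MulAut.conj : G →* MulAut G)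
      rw [MonoidHom.map_zpowers] at h2
      exact h2
    have hQfix : ∀ q ∈ Q, q • M₀ = M₀ := by
      intro q hq
      have hle : Q ≤ MulAction.stabilizer (MulAut G) M₀ := by
        rw [Subgroup.zpowers_le]
        exact hM₀fix
      exact hle hq
    have hQconj : ∀ q ∈ Q, q • M ∈ MM := by
      intro q hq
      obtain ⟨k, rfl⟩ := Subgroup.mem_zpowers_iff.mp hq
      rw [← map_zpow]
      exact hconj M hM _
    have horb_sub : MulAction.orbit Q M ⊆ MM := by
      rintro _ ⟨⟨q, hq⟩, rfl⟩
      exact hQconj q hq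
    have hM₀notin : M₀ ∉ MulAction.orbit Q M := by
      rintro ⟨⟨q, hq⟩, hqM⟩
      have hqM' : q • M = M₀ := hqM
      have h1 : M = q⁻¹ • M₀ := by rw [← hqM', inv_smul_smul]
      have h2 : q⁻¹ • M₀ = M₀ := hQfix _ (Q.inv_mem hq)
      apply hne
      rw [h1, h2]
      exact hM₀fix
    haveI : Finite (MulAction.orbit Q M) := (hMMfin.subset horb_sub).to_subtype
    obtain ⟨k, hk⟩ := hQ.card_orbit M
    have hk0 : k ≠ 0 := by
      rintro rfl
      rw [pow_zero] at hk
      have hss : Subsingleton (MulAction.orbit Q M) :=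
        (Finite.card_le_one_iff_subsingleton).mp hk.le
      have h1 : (⟨M, MulAction.mem_orbit_self M⟩ : MulAction.orbit Q M) =
          ⟨(⟨MulAut.conj x, Subgroup.mem_zpowers _⟩ : Q) • M, MulAction.mem_orbit _ _⟩ :=
        Subsingleton.elim _ _
      apply hne
      exact (congrArg Subtype.val h1).symm
    have hcard : p + 1 ≤ MM.ncard := by
      have h1 : p ≤ p ^ k := by
        calc p = p ^ 1 := (pow_one p).symm
          _ ≤ p ^ k := Nat.pow_le_pow_right hp.out.pos (Nat.one_le_iff_ne_zero.mpr hk0)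
      have h2 : (insert M₀ (MulAction.orbit Q M)).ncard = p ^ k + 1 := by
        rw [Set.ncard_insert_of_notMem hM₀notin (hMMfin.subset horb_sub),
          ← Nat.card_coe_set_eq, hk]
      have h3 : (insert M₀ (MulAction.orbit Q M)).ncard ≤ MM.ncard :=
        Set.ncard_le_ncard (Set.insert_subset hM₀ horb_sub) hMMfin
      omega
    omega
  have hnormal : ∀ M ∈ MM, M.Normal := by
    intro M hM
    have h1 : Subgroup.normalizer (M : Set G) = ⊤ := by
      rw [eq_top_iff, ← hgen, Subgroup.closure_le]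
      intro x hx
      rw [SetLike.mem_coe, Subgroup.mem_normalizer_iff]
      intro h
      have hx' := hfix x hx M hM
      constructor
      · intro hh
        have : MulAut.conj x • h ∈ MulAut.conj x • M :=
          Subgroup.smul_mem_pointwise_smul _ _ _ hh
        rw [hx'] at this
        exact this
      · intro hh
        have h2 : MulAut.conj x • h ∈ MulAut.conj x • M := by
          rw [hx']
          exact hh
        exact Subgroup.smul_mem_pointwise_smul_iff.mp h2
    exact Subgroup.normalizer_eq_top_iff.mp h1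
  -- a Sylow subgroup lies in some member
  obtain ⟨P⟩ : Nonempty (Sylow p G) := inferInstance
  have hPpe : ∀ y ∈ (P : Subgroup G), y ∈ pe := by
    intro y hy
    obtain ⟨k, hk⟩ := (IsPGroup.iff_orderOf.mp P.isPGroup') ⟨y, hy⟩
    exact ⟨k, by rw [← hk]; exact (Subgroup.orderOf_coe (⟨y, hy⟩ : (P : Subgroup G)))⟩
  obtain ⟨i, hi⟩ := pgroup_cover_top p P.isPGroup' (fun i => (K i).subgroupOf (P : Subgroup G))
    (fun y => by
      obtain ⟨i, hi⟩ := hcov (y : G) (hPpe _ y.2)
      exact ⟨i, Subgroup.mem_subgroupOf.mpr hi⟩) hι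
  have hPK : (P : Subgroup G) ≤ K i := Subgroup.subgroupOf_eq_top.mp hi
  have hPL : (P : Subgroup G) ≤ L i := fun y hy =>
    Subgroup.subset_closure ⟨hPpe y hy, hPK hy⟩
  obtain ⟨M, hM, hLM⟩ := hup i
  haveI := hnormal M hM
  have hPM : (P : Subgroup G) ≤ M := hPL.trans hLM
  apply hMMtop M hM
  rw [eq_top_iff, ← hgen, Subgroup.closure_le]
  intro g hg
  obtain ⟨k, hk⟩ := hg
  rw [SetLike.mem_coe, ← QuotientGroup.eq_one_iff]
  have h1 : orderOf (QuotientGroup.mk g : G ⧸ M) ∣ p ^ k := by
    rw [← hk]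
    exact orderOf_map_dvd (QuotientGroup.mk' M) g
  have h2 : orderOf (QuotientGroup.mk g : G ⧸ M) ∣ M.index := by
    rw [Subgroup.index_eq_card]
    exact orderOf_dvd_natCard _
  have h3 : ¬ p ∣ (P : Subgroup G).index := Sylow.not_dvd_index P
  have h4 : M.index ∣ (P : Subgroup G).index := Subgroup.index_dvd_of_le hPM
  have h5 : Nat.Coprime (p ^ k) ((P : Subgroup G).index) :=
    Nat.Coprime.pow_left k ((Nat.Prime.coprime_iff_not_dvd hp.out).mpr h3)
  have h6 : orderOf (QuotientGroup.mk g : G ⧸ M) = 1 :=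
    Nat.eq_one_of_dvd_coprimes h5 h1 (h2.trans h4)
  exact orderOf_eq_one_iff.mp h6

end Cfsg.Agent.helper1
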