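import Mathlib
import Cfsg.Agent.Lib_helper1_AD8

set_option autoImplicit false
set_option linter.unusedSectionVars false
set_option linter.unusedVariables false
set_option linter.style.longLine false
set_option linter.style.haveILetI false

/-!
p-rational extension in the principal block (helper1), part 1: the subgroup `N C_G(Q)` and the
generalized twisting hypothesis.
-/

namespace Cfsg.Agent.helper1

open Cfsg Cfsg.Agent.helper24
open scoped ComplexConjugate

universe u

section PRatGroup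
variable {G : Type u} [Group G] [Finite G] (N : Subgroup G) [hN : N.Normal]

/-- `N C_G(Q)` is normal in `G` (Frattini) -/
theorem prat_L_normal (p : ℕ) [Fact p.Prime] (Q : Sylow p ↥N) :
    (N ⊔ Subgroup.centralizer (((Q : Subgroup ↥N).map N.subtype : Subgroup G) : Set G)).Normal := by
  obtain ⟨Q', hQ'⟩ : ∃ Q' : Subgroup G, Q' = (Q : Subgroup ↥N).map N.subtype := ⟨_, rfl⟩
  rw [← hQ']
  obtain ⟨L, hL⟩ : ∃ L : Subgroup G, L = N ⊔ Subgroup.centralizer (Q' : Set G) := ⟨_, rfl⟩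
  rw [← hL]
  have hfr : Subgroup.normalizer (Q' : Set G) ⊔ N = ⊤ := by
    rw [hQ']
    exact Sylow.normalizer_sup_eq_top Q
  have hNL : N ≤ L := hL ▸ le_sup_left
  have hCL : Subgroup.centralizer (Q' : Set G) ≤ L := hL ▸ le_sup_right
  -- the normalizer of `Q'` normalizes the centralizer
  have hcen : ∀ h ∈ Subgroup.normalizer (Q' : Set G), ∀ c ∈ Subgroup.centralizer (Q' : Set G),
      h * c * h⁻¹ ∈ Subgroup.centralizer (Q' : Set G) := by
    intro h hh c hc
    rw [Subgroup.mem_centralizer_iff]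
    intro q hq
    have hq' : h⁻¹ * q * h ∈ Q' := by
      have := (Subgroup.mem_normalizer_iff.mp ((Subgroup.normalizer (Q' : Set G)).inv_mem hh) q).mp hq
      simpa using this
    have h1 := (Subgroup.mem_centralizer_iff.mp hc) (h⁻¹ * q * h) hq'
    calc q * (h * c * h⁻¹) = h * ((h⁻¹ * q * h) * c) * h⁻¹ := by group
      _ = h * (c * (h⁻¹ * q * h)) * h⁻¹ := by rw [h1]
      _ = h * c * h⁻¹ * q := by group
  have key : ∀ h ∈ Subgroup.normalizer (Q' : Set G), ∀ x ∈ L, h * x * h⁻¹ ∈ L := by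
    intro h hh
    have hle : L ≤ L.comap (MulAut.conj h).toMonoidHom := by
      rw [hL]
      apply sup_le
      · intro n hn
        rw [Subgroup.mem_comap]
        show h * n * h⁻¹ ∈ _
        exact Subgroup.mem_sup_left (hN.conj_mem n hn h)
      · intro c hc
        rw [Subgroup.mem_comap]
        show h * c * h⁻¹ ∈ _
        exact Subgroup.mem_sup_right (hcen h hh c hc)
    intro x hx
    exact hle hx
  have hnorm : Subgroup.normalizer (L : Set G) = ⊤ := by
    rw [eq_top_iff, ← hfr]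
    apply sup_le
    · intro h hh
      rw [Subgroup.mem_normalizer_iff]
      intro x
      constructor
      · exact key h hh x
      · intro hx
        have := key h⁻¹ ((Subgroup.normalizer (Q' : Set G)).inv_mem hh) _ hx
        simpa [mul_assoc] using this
    · exact hNL.trans Subgroup.le_normalizer
  exact Subgroup.normalizer_eq_top_iff.mp hnorm

/-- a subgroup of `p'`-index over `N` lies in any normal subgroup of `p`-power index containing `N` -/
theorem prat_le_L (p : ℕ) [Fact p.Prime] (L : Subgroup G) [L.Normal] (hNL : N ≤ L) (a : ℕ)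
    (hidx : L.index = p ^ a) (J : Subgroup G) (hJ : ¬ p ∣ N.relIndex J) : J ≤ L := by
  rw [← Subgroup.relIndex_eq_one]
  have h1 : L.relIndex J ∣ N.relIndex J := Subgroup.relIndex_dvd_of_le_left J hNL
  have h2 : L.relIndex J ∣ p ^ a := hidx ▸ Subgroup.relIndex_dvd_index_of_normal L J
  obtain ⟨i, hi, hi'⟩ := (Nat.dvd_prime_pow (Fact.out : p.Prime)).mp h2
  rcases Nat.eq_zero_or_pos i with h0 | hpos
  · rw [hi', h0, pow_zero]
  · exfalso
    apply hJ
    refine dvd_trans ?_ h1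
    rw [hi']
    exact dvd_pow_self p hpos.ne'

/-- Dedekind: `N ≤ J ≤ N C` gives `J = N (J ∩ C)` -/
theorem prat_sub_sup (C : Subgroup G) (J : Subgroup G) (hNJ : N ≤ J) (hJL : J ≤ N ⊔ C) :
    N.subgroupOf J ⊔ C.subgroupOf J = ⊤ := by
  rw [eq_top_iff]
  intro x _
  have hx : (x : G) ∈ ((N ⊔ C : Subgroup G) : Set G) := hJL x.2
  rw [Subgroup.normal_mul] at hx
  obtain ⟨n, hn, c, hc, hnc⟩ := Set.mem_mul.mp hx
  have hcJ : c ∈ J := by
    have : c = n⁻¹ * (x : G) := by rw [← hnc]; group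
    rw [this]
    exact J.mul_mem (J.inv_mem (hNJ hn)) x.2
  have hx' : x = (⟨n, hNJ hn⟩ : ↥J) * ⟨c, hcJ⟩ := Subtype.ext hnc.symm
  rw [hx']
  apply Subgroup.mul_mem_sup
  · exact (Subgroup.mem_subgroupOf).mpr hn
  · exact (Subgroup.mem_subgroupOf).mpr hc

end PRatGroup

section PRatTwist
variable {G : Type u} [Group G] [Fintype G] (N : Subgroup G) [hN : N.Normal] [Fintype N]

/-- Lemma A (generalized): the linear twist over an intermediate subgroup of `p'`-index over `N`
contained in `N C_G(P)` -/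
theorem prat_twist_J (p : ℕ) [Fact p.Prime] {M : Ideal AlgInt} (hM : IsPModular p M)
    (P : Sylow p ↥N)
    (θ : IrrCharacter ↥N) (hθ : θ ∈ principalBlock M ↥N)
    {ψ : G → ℂ} (hψ : IsCharacter G ψ) (hres : ∀ x : ↥N, ψ x = (θ : ↥N → ℂ) x)
    (J : Subgroup G) (hNJ : N ≤ J) (hidx : ¬ p ∣ N.relIndex J)
    (hJL : J ≤ N ⊔ Subgroup.centralizer (((P : Subgroup ↥N).map N.subtype : Subgroup G) : Set G)) :
    ∃ lam : ↥J → ℂ, IsCharacter ↥J lam ∧ lam 1 = 1 ∧
      ∀ y : ↥J, lam y * adF p N ψ (y : G) = adF p N ψ 1 := by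
  classical
  haveI : Fintype ↥J := Fintype.ofFinite _
  haveI : Fintype ↥(N.subgroupOf J) := Fintype.ofFinite _
  obtain ⟨Q, hQ⟩ : ∃ Q : Subgroup G, Q = (P : Subgroup ↥N).map N.subtype := ⟨_, rfl⟩
  rw [← hQ] at hJL
  have hQN : Q ≤ N := by rw [hQ]; exact Subgroup.map_subtype_le _
  have hidx' : ¬ p ∣ (N.subgroupOf J).index := hidx
  have hcard : Nat.card ↥(Q.subgroupOf J) = p ^ (Nat.card ↥J).factorization p := by
    have h1 : Nat.card ↥(Q.subgroupOf J) = Nat.card Q :=
      Nat.card_congr (Subgroup.subgroupOfEquivOfLe (hQN.trans hNJ)).toEquiv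
    have h2 : Nat.card Q = Nat.card (P : Subgroup ↥N) := by
      rw [hQ]; exact Subgroup.card_map_of_injective N.subtype_injective
    have h3 := P.card_eq_multiplicity
    have h4 : Nat.card ↥(N.subgroupOf J) = Nat.card N :=
      Nat.card_congr (Subgroup.subgroupOfEquivOfLe hNJ).toEquiv
    have h5 : Nat.card ↥(N.subgroupOf J) * (N.subgroupOf J).index = Nat.card ↥J :=
      Subgroup.card_mul_index _
    rw [h1, h2, h3, ← h5, h4, Nat.factorization_mul Nat.card_pos.ne' Subgroup.index_ne_zero_of_finite,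
      Finsupp.add_apply, Nat.factorization_eq_zero_of_not_dvd hidx', add_zero]
  obtain ⟨PJ, hPJ⟩ : ∃ PJ : Sylow p ↥J, (PJ : Subgroup ↥J) = Q.subgroupOf J :=
    ⟨Sylow.ofCard (Q.subgroupOf J) hcard, rfl⟩
  have hsupJ : N.subgroupOf J ⊔ Subgroup.centralizer ((PJ : Subgroup ↥J) : Set ↥J) = ⊤ := by
    have h1 := prat_sub_sup N (Subgroup.centralizer (Q : Set G)) J hNJ hJL
    rw [eq_top_iff, ← h1]
    apply sup_le_sup_left
    intro c hc
    rw [Subgroup.mem_subgroupOf] at hc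
    rw [Subgroup.mem_centralizer_iff]
    intro q hq
    have hq' : (q : G) ∈ Q := by
      have : q ∈ (PJ : Subgroup ↥J) := hq
      rw [hPJ, Subgroup.mem_subgroupOf] at this
      exact this
    apply Subtype.ext
    exact (Subgroup.mem_centralizer_iff.mp hc) (q : G) hq'
  have hψJ : IsCharacter ↥J (fun y : ↥J => ψ y) := helper12.isCharacter_restrict J hψ
  obtain ⟨θ', hθ'⟩ : ∃ θ' : IrrCharacter ↥(N.subgroupOf J),
      θ' = ⟨fun h => (θ : ↥N → ℂ) (Subgroup.subgroupOfEquivOfLe hNJ h),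
        helper8.isIrrCharacter_comp_mulEquiv (Subgroup.subgroupOfEquivOfLe hNJ) θ.2⟩ := ⟨_, rfl⟩
  have hθ'B : θ' ∈ principalBlock M ↥(N.subgroupOf J) := by
    rw [hθ']
    exact comp_mulEquiv_mem_principalBlock (Subgroup.subgroupOfEquivOfLe hNJ) p M hM θ hθ
  have hresJ : helper5.res (N.subgroupOf J) (fun y : ↥J => ψ y) = (θ' : ↥(N.subgroupOf J) → ℂ) := by
    funext k
    rw [hθ']
    exact hres (Subgroup.subgroupOfEquivOfLe hNJ k)
  have hψJirr : IsIrrCharacter ↥J (fun y : ↥J => ψ y) :=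
    ad_irr_of_res (N.subgroupOf J) hψJ (hresJ ▸ θ'.2)
  obtain ⟨lam, h1, h2, h3⟩ := ad_lin_twist (N.subgroupOf J) p hM hidx' PJ hsupJ hψJirr θ' hθ'B hresJ
  refine ⟨lam, h1, h2, fun y => ?_⟩
  have key : ∀ y : ↥J, adF p (N.subgroupOf J) (fun y : ↥J => ψ y) y = adF p N ψ (y : G) := by
    intro y
    unfold adF
    apply Fintype.sum_equiv (Subgroup.subgroupOfEquivOfLe hNJ).toEquiv
    intro k
    have e1 : (((Subgroup.subgroupOfEquivOfLe hNJ).toEquiv k : N) : G) = ((k : ↥J) : G) := rfl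
    have e2 : orderOf (y * (k : ↥J)) = orderOf ((y : G) * ((k : ↥J) : G)) := by
      rw [← Subgroup.coe_mul, Subgroup.orderOf_coe]
    show (if ¬ p ∣ orderOf (y * (k : ↥J)) then ψ ((y * (k : ↥J) : ↥J) : G) else 0) =
      if ¬ p ∣ orderOf ((y : G) * (((Subgroup.subgroupOfEquivOfLe hNJ).toEquiv k : N) : G)) then
        ψ ((y : G) * (((Subgroup.subgroupOfEquivOfLe hNJ).toEquiv k : N) : G)) else 0
    rw [e1, e2, Subgroup.coe_mul]
  have := h3 y
  rw [key y, key 1, Subgroup.coe_one] at this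
  exact this

theorem prat_twist_all (p : ℕ) [Fact p.Prime] {M : Ideal AlgInt} (hM : IsPModular p M)
    (P : Sylow p ↥N)
    (hcov : ∀ J : Subgroup G, N ≤ J → ¬ p ∣ N.relIndex J →
      J ≤ N ⊔ Subgroup.centralizer (((P : Subgroup ↥N).map N.subtype : Subgroup G) : Set G))
    (θ : IrrCharacter ↥N) (hθ : θ ∈ principalBlock M ↥N)
    {ψ : G → ℂ} (hψ : IsCharacter G ψ) (hres : ∀ x : ↥N, ψ x = (θ : ↥N → ℂ) x) :
    ADTw p N ψ := by
  intro J hNJ hidx
  obtain ⟨lam, h1, h2, h3⟩ := prat_twist_J N p hM P θ hθ hψ hres J hNJ hidx (hcov J hNJ hidx)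
  obtain ⟨φ, hφ⟩ := (helper22.linear_iff_hom (χ := lam)).mp ⟨h1, h2⟩
  refine ⟨lam, h1, h2, fun y => ?_, h3⟩
  rw [← char_inv h1 y, hφ, hφ, map_inv]
  simp

end PRatTwist

end Cfsg.Agent.helper1
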