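import Mathlib
import Cfsg.Prelude
import Cfsg.Agent.Lib_helper1_GalChar
import Cfsg.Agent.Lib_helper1_ProdChar
import Cfsg.Agent.Lib_helper24_CharValues
import Cfsg.Agent.Lib_helper24_PSection
import Cfsg.Agent.Lib_helper24_FrobCongr
import Cfsg.Agent.Lib_helper23_Block

set_option autoImplicit false
set_option linter.unusedVariables false
set_option linter.unusedSectionVars false
set_option linter.style.longLine false
set_option linter.style.haveILetI false

namespace Cfsg.Agent.helper1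

open Cfsg
open scoped ComplexConjugate

universe u

section SumRange

/-- block decomposition of a sum over `range (p * Q)` -/
theorem sum_range_mul_blocks {M : Type*} [AddCommMonoid M] (f : ℕ → M) (p Q : ℕ) :
    ∑ k ∈ Finset.range (p * Q), f k = ∑ k' ∈ Finset.range Q, ∑ i ∈ Finset.range p, f (p * k' + i) := by
  induction Q with
  | zero => simp
  | succ Q ih =>
    rw [Nat.mul_succ, Finset.sum_range_add, ih, Finset.sum_range_succ]

end SumRange

section Galois

variable {G : Type u} [Group G] [Finite G]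

/-- a character with values in `ℚ(ζ_r)`, `p ∤ r`, is invariant under `p'`-powers on `p`-elements -/
theorem char_pow_eq_of_cyclotomic (p : ℕ) (hp : p.Prime) {χ : G → ℂ} (hχ : IsCharacter G χ)
    (r : ℕ) (hr : 0 < r) (hpr : ¬ p ∣ r)
    (hrat : ∀ g : G, χ g ∈ IntermediateField.adjoin ℚ
      ({Complex.exp (2 * Real.pi * Complex.I / r)} : Set ℂ))
    (x : G) (j : ℕ) (hx : x ^ (p ^ j) = 1) (t : ℕ) (ht : ¬ p ∣ t) : χ (x ^ t) = χ x := by
  classical
  set a := (Nat.card G).factorization p with ha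
  set m := Nat.card G / p ^ a with hm
  have hcard : Nat.card G = p ^ a * m := by
    rw [hm]; exact (Nat.mul_div_cancel' (Nat.ordProj_dvd _ _)).symm
  have hm0 : m ≠ 0 := by
    rintro h0
    rw [h0, mul_zero] at hcard
    exact Nat.card_pos.ne' hcard
  have hpm : ¬ p ∣ m := by
    rw [hm]; exact Nat.not_dvd_ordCompl hp Nat.card_pos.ne'
  have hcop : Nat.Coprime (p ^ (a + j + 1)) (r * m) := by
    apply Nat.Coprime.pow_left
    exact Nat.Coprime.mul_right ((Nat.Prime.coprime_iff_not_dvd hp).2 hpr)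
      ((Nat.Prime.coprime_iff_not_dvd hp).2 hpm)
  obtain ⟨k, hk1, hk2⟩ := Nat.chineseRemainder hcop t 1
  set N := r * Nat.card G with hN
  have hN0 : N ≠ 0 := Nat.mul_ne_zero hr.ne' Nat.card_pos.ne'
  have hkp : ¬ p ∣ k := by
    intro hd
    have h1 : k ≡ t [MOD p] := hk1.of_dvd (dvd_pow_self p (Nat.succ_ne_zero _))
    exact ht ((Nat.modEq_zero_iff_dvd.1 (h1.symm.trans (Nat.modEq_zero_iff_dvd.2 hd))))
  have hkrm : Nat.Coprime k (r * m) := by
    have h1 : Nat.gcd k (r * m) = Nat.gcd 1 (r * m) := hk2.gcd_eq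
    rw [Nat.gcd_one_left] at h1
    exact h1
  have hkN : Nat.Coprime k N := by
    rw [hN, hcard, ← mul_assoc, mul_comm r, mul_assoc]
    exact Nat.Coprime.mul_right (Nat.Coprime.pow_right a ((Nat.Prime.coprime_iff_not_dvd hp).2 hkp).symm) hkrm
  obtain ⟨τ, hτ⟩ := exists_aut_pow N hN0 k hkN
  -- `τ` fixes `ζ_r`
  set ζ := Complex.exp (2 * Real.pi * Complex.I / r) with hζ
  have hζr : ζ ^ r = 1 := (Complex.isPrimitiveRoot_exp r hr.ne').pow_eq_one
  have hτζ : τ ζ = ζ := by
    rw [hτ ζ (by rw [hN, pow_mul, hζr, one_pow])]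
    have h1 : k ≡ 1 [MOD r] := hk2.of_dvd (dvd_mul_right r m)
    rw [pow_eq_pow_mod k hζr, h1, ← pow_eq_pow_mod 1 hζr, pow_one]
  have hfix : ∀ z ∈ IntermediateField.adjoin ℚ ({ζ} : Set ℂ), τ z = z := by
    intro z hz
    induction hz using IntermediateField.adjoin_induction with
    | mem z hz => rw [Set.mem_singleton_iff] at hz; rw [hz]; exact hτζ
    | algebraMap q => exact map_ratCast τ q
    | add z w _ _ hz hw => rw [map_add, hz, hw]
    | inv z _ hz => rw [map_inv₀, hz]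
    | mul z w _ _ hz hw => rw [map_mul, hz, hw]
  have h1 : τ (χ x) = χ (x ^ k) := by
    apply aut_char_eq τ k _ hχ x
    intro μ hμ
    exact hτ μ (by rw [hN, mul_comm, pow_mul, hμ, one_pow])
  rw [hfix _ (hrat x)] at h1
  rw [h1]
  congr 1
  have h2 : k ≡ t [MOD p ^ j] := hk1.of_dvd (pow_dvd_pow p (by omega))
  rw [pow_eq_pow_mod k hx, pow_eq_pow_mod t hx, h2]

end Galois

section PowSums

variable {P : Type u} [Group P] [Finite P]

/-- the sum of a character over `q` consecutive powers of `y`, `y ^ q = 1`, is `q` times a natural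
number at most the degree (the dimension of the fixed space) -/
theorem sum_pow_char {ψ : P → ℂ} (hψ : IsCharacter P ψ) (n : ℕ) (hn : ψ 1 = n) (y : P) (q : ℕ)
    (hq : 0 < q) (hy : y ^ q = 1) :
    ∃ w : ℕ, w ≤ n ∧ ∑ k ∈ Finset.range q, ψ (y ^ k) = (q : ℂ) * w := by
  classical
  obtain ⟨d, ρ, rfl⟩ := hψ
  have hf : (ρ y) ^ q = 1 := by rw [← map_pow, hy, map_one]
  obtain ⟨S, m, hS, h⟩ := trace_pow_eq_sum (ρ y) q hq hf
  have hval : ∀ k : ℕ, ρ.character (y ^ k) = ∑ μ ∈ S, (m μ : ℂ) * μ ^ k := by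
    intro k
    rw [← h k, ← map_pow]
    rfl
  have hdeg : (n : ℂ) = ∑ μ ∈ S, (m μ : ℂ) := by
    have := hval 0
    rw [pow_zero, hn] at this
    rw [this]
    exact Finset.sum_congr rfl fun μ _ => by rw [pow_zero, mul_one]
  have hdegN : n = ∑ μ ∈ S, m μ := by exact_mod_cast hdeg
  have hgeom : ∀ μ ∈ S, ∑ k ∈ Finset.range q, μ ^ k = if μ = 1 then (q : ℂ) else 0 := by
    intro μ hμ
    split_ifs with h1
    · rw [h1]; simp
    · have h2 := geom_sum_mul μ q
      rw [hS μ hμ, sub_self] at h2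
      rcases mul_eq_zero.mp h2 with h3 | h3
      · exact h3
      · exact absurd (sub_eq_zero.mp h3) h1
  refine ⟨if (1 : ℂ) ∈ S then m 1 else 0, ?_, ?_⟩
  · split_ifs with h1
    · rw [hdegN]
      exact Finset.single_le_sum (fun _ _ => Nat.zero_le _) h1
    · exact Nat.zero_le _
  · rw [Finset.sum_congr rfl (fun k _ => hval k), Finset.sum_comm]
    rw [Finset.sum_congr rfl (fun μ hμ => by rw [← Finset.mul_sum, hgeom μ hμ])]
    split_ifs with h1
    · rw [Finset.sum_eq_single (1 : ℂ)]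
      · rw [if_pos rfl]; ring
      · intro μ _ hμ1; rw [if_neg hμ1, mul_zero]
      · intro h; exact absurd h1 h
    · rw [Finset.sum_eq_zero]
      · simp
      · intro μ hμ
        have : μ ≠ 1 := fun h => h1 (h ▸ hμ)
        rw [if_neg this, mul_zero]

/-- the fixed point relation: if `ψ (x ^ k) = c` for all `k` prime to `p` then
`p * w₀ = w₁ + (p - 1) * c` with naturals `w₀`, `w₁ ≤ n` -/
theorem fixed_relation (p : ℕ) (hp : p.Prime) {ψ : P → ℂ} (hψ : IsCharacter P ψ) (n : ℕ)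
    (hn : ψ 1 = n) (x : P) (j : ℕ) (hx : x ^ (p ^ (j + 1)) = 1) (c : ℂ)
    (hc : ∀ k : ℕ, ¬ p ∣ k → ψ (x ^ k) = c) :
    ∃ w₀ w₁ : ℕ, w₁ ≤ n ∧ (p : ℂ) * w₀ = w₁ + ((p : ℂ) - 1) * c := by
  obtain ⟨w₀, -, h0⟩ := sum_pow_char hψ n hn x (p ^ (j + 1)) (pow_pos hp.pos _) hx
  have hxp : (x ^ p) ^ (p ^ j) = 1 := by rw [← pow_mul, ← pow_succ']; exact hx
  obtain ⟨w₁, hw₁, h1⟩ := sum_pow_char hψ n hn (x ^ p) (p ^ j) (pow_pos hp.pos _) hxp
  refine ⟨w₀, w₁, hw₁, ?_⟩
  rw [pow_succ', sum_range_mul_blocks] at h0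
  have hinner : ∀ k' : ℕ, ∑ i ∈ Finset.range p, ψ (x ^ (p * k' + i)) =
      ψ ((x ^ p) ^ k') + ((p : ℂ) - 1) * c := by
    intro k'
    obtain ⟨p', hp'⟩ : ∃ p', p = p' + 1 := ⟨p - 1, by have := hp.pos; omega⟩
    have : ∑ i ∈ Finset.range p, ψ (x ^ (p * k' + i)) =
        ∑ i ∈ Finset.range (p' + 1), ψ (x ^ (p * k' + i)) := by rw [← hp']
    rw [this, Finset.sum_range_succ', add_zero, pow_mul, add_comm]
    congr 1
    rw [Finset.sum_congr rfl (fun i hi => hc (p * k' + (i + 1)) (by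
      rw [Finset.mem_range] at hi
      intro hd
      have h2 : p ∣ i + 1 := (Nat.dvd_add_right (dvd_mul_right p k')).1 hd
      have h3 := Nat.le_of_dvd (by omega) h2
      omega)), Finset.sum_const, Finset.card_range, nsmul_eq_mul, hp']
    push_cast
    ring
  rw [Finset.sum_congr rfl (fun k' _ => hinner k'), Finset.sum_add_distrib, h1, Finset.sum_const,
    Finset.card_range, nsmul_eq_mul] at h0
  have hne : ((p ^ j : ℕ) : ℂ) ≠ 0 := by exact_mod_cast (pow_pos hp.pos j).ne'
  apply mul_left_cancel₀ hne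
  push_cast at h0 ⊢
  linear_combination -h0

end PowSums

section Values

variable {P : Type u} [Group P] [Fintype P]

theorem isCharacter_pow' {ψ : P → ℂ} (hψ : IsCharacter P ψ) (k : ℕ) :
    IsCharacter P (fun x => ψ x ^ k) := by
  induction k with
  | zero =>
    simp only [pow_zero]
    exact helper24.irr_isCharacter helper24.isIrrCharacter_one
  | succ k ih =>
    have := isCharacter_mul ih hψ
    have h2 : (fun x => ψ x ^ (k + 1)) = (fun x => ψ x ^ k) * ψ := by
      funext x; rw [Pi.mul_apply, pow_succ]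
    rw [h2]; exact this

/-- sums of integer polynomials in the values of a character are divisible by the group order -/
theorem sum_aeval_char {ψ : P → ℂ} (hψ : IsCharacter P ψ) (f : Polynomial ℤ) :
    ∃ z : ℤ, ∑ x : P, Polynomial.aeval (ψ x) f = (Nat.card P : ℂ) * z := by
  induction f using Polynomial.induction_on' with
  | add f g hf hg =>
    obtain ⟨zf, hzf⟩ := hf
    obtain ⟨zg, hzg⟩ := hg
    refine ⟨zf + zg, ?_⟩
    simp only [map_add]
    rw [Finset.sum_add_distrib, hzf, hzg]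
    push_cast
    ring
  | monomial k a =>
    have hone : IsCharacter P (fun _ : P => (1 : ℂ)) :=
      helper24.irr_isCharacter helper24.isIrrCharacter_one
    obtain ⟨w, hw⟩ := helper12.classInner_char_nat (isCharacter_pow' hψ k) hone
    refine ⟨a * w, ?_⟩
    unfold classInner at hw
    have hne : (Nat.card P : ℂ) ≠ 0 := by exact_mod_cast Nat.card_pos.ne'
    have h2 : ∑ x : P, ψ x ^ k = (Nat.card P : ℂ) * w := by
      rw [← hw, ← mul_assoc, mul_inv_cancel₀ hne, one_mul]
      exact Finset.sum_congr rfl fun x _ => by simp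
    simp only [Polynomial.aeval_monomial]
    rw [← Finset.mul_sum, h2]
    push_cast
    simp only [eq_intCast]
    ring

/-- the values of a faithful `p'`-power invariant character of a `p`-group at nonidentity elements -/
theorem pgroup_char_value (p : ℕ) (hp : p.Prime) (hP : IsPGroup p P) {ψ : P → ℂ}
    (hψ : IsCharacter P ψ) (n : ℕ) (hn : ψ 1 = n) (hfaith : ∀ x : P, ψ x = ψ 1 → x = 1)
    (hinv : ∀ (x : P) (t : ℕ), ¬ p ∣ t → ψ (x ^ t) = ψ x) (x : P) (hx1 : x ≠ 1) :
    ∃ s : ℕ, 1 ≤ s ∧ (p - 1) * s ≤ n ∧ ψ x = (n : ℂ) - (p : ℂ) * s := by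
  classical
  obtain ⟨j, hj⟩ := hP x
  have hx : x ^ (p ^ (j + 1)) = 1 := by rw [pow_succ, pow_mul, hj, one_pow]
  obtain ⟨w₀, w₁, hw₁, hrel⟩ := fixed_relation p hp hψ n hn x j hx (ψ x) (fun k hk => hinv x k hk)
  have hp1 : ((p : ℂ) - 1) ≠ 0 := by
    have : (1 : ℕ) < p := hp.one_lt
    have h2 : ((p : ℂ) - 1) = ((p - 1 : ℕ) : ℂ) := by
      rw [Nat.cast_sub hp.one_lt.le]; simp
    rw [h2]
    exact_mod_cast (by omega : p - 1 ≠ 0)
  -- integrality
  have hint : IsIntegral ℤ (ψ x) := helper24.char_isIntegral hψ x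
  have hq : ψ x = algebraMap ℚ ℂ (((p : ℚ) * w₀ - w₁) / ((p : ℚ) - 1)) := by
    have : ψ x = ((p : ℂ) * w₀ - w₁) / ((p : ℂ) - 1) := by
      field_simp
      linear_combination -hrel
    rw [this]
    push_cast
    rfl
  rw [hq] at hint
  have hintQ : IsIntegral ℤ (((p : ℚ) * w₀ - w₁) / ((p : ℚ) - 1)) :=
    (isIntegral_algebraMap_iff (algebraMap ℚ ℂ).injective).mp hint
  obtain ⟨z, hz⟩ := IsIntegrallyClosed.isIntegral_iff.mp hintQ
  have hzc : ψ x = (z : ℂ) := by
    rw [hq, ← hz]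
    simp
  -- the integer relation
  have hrelZ : (p : ℤ) * w₀ = w₁ + ((p : ℤ) - 1) * z := by
    rw [hzc] at hrel
    exact_mod_cast hrel
  -- congruence
  obtain ⟨M, hM⟩ := helper24.exists_isPModular hp
  have hcong := helper24.char_congr_pregular_part hM hψ x 1 (Commute.one_right x) hj
  rw [mul_one, hn, hzc] at hcong
  obtain ⟨e, heM, hez⟩ := hcong
  have hdvd : (p : ℤ) ∣ z - n := by
    by_contra hnd
    have hnd' : ¬ p ∣ (z - n).natAbs := fun h => hnd (Int.natCast_dvd.mpr h)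
    obtain ⟨d, hd, hpd⟩ : ∃ d : ℕ, (z - n = (d : ℤ) ∨ z - n = -(d : ℤ)) ∧ ¬ p ∣ d :=
      ⟨(z - n).natAbs, Int.natAbs_eq _, hnd'⟩
    have h1 := helper23.natCast_not_mem_of_not_dvd hM d hpd
    apply h1
    have he : e = ((z - n : ℤ) : AlgInt) := by
      apply Subtype.ext
      rw [hez]
      push_cast
      rfl
    rcases hd with h2 | h2
    · have : ((d : ℕ) : AlgInt) = e := by
        rw [he, h2]
        simp
      rw [this]; exact heM
    · have : ((d : ℕ) : AlgInt) = -e := by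
        rw [he, h2]
        simp
      rw [this]; exact M.neg_mem heM
  -- bounds
  have hzn : z ≠ n := by
    intro h
    apply hx1
    apply hfaith
    rw [hzc, hn, h]
    push_cast
    rfl
  have hzle : z ≤ n := by
    have h1 := helper24.char_norm_le hψ x
    rw [hzc, hn] at h1
    have h2 : ‖(z : ℂ)‖ = |(z : ℝ)| := by
      rw [← Complex.ofReal_intCast, Complex.norm_real, Real.norm_eq_abs]
    have h3 : ‖(n : ℂ)‖ = (n : ℝ) := by
      rw [← Complex.ofReal_natCast, Complex.norm_real, Real.norm_eq_abs, abs_of_nonneg (Nat.cast_nonneg n)]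
    rw [h2, h3] at h1
    have h4 : (z : ℝ) ≤ n := le_trans (le_abs_self _) h1
    exact_mod_cast h4
  obtain ⟨s', hs'⟩ := hdvd
  have hppos : (0 : ℤ) < p := by exact_mod_cast hp.pos
  have hs'neg : s' < 0 := by
    by_contra h
    push Not at h
    have : (0 : ℤ) ≤ (p : ℤ) * s' := mul_nonneg hppos.le h
    have h5 : z < n := lt_of_le_of_ne hzle hzn
    omega
  obtain ⟨s, hs⟩ : ∃ s : ℕ, (s : ℤ) = -s' := ⟨(-s').toNat, Int.toNat_of_nonneg (by omega)⟩
  refine ⟨s, by omega, ?_, ?_⟩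
  · -- (p-1) s ≤ n
    have h1 : (p : ℤ) * (((p : ℤ) - 1) * s) ≤ (p : ℤ) * n := by
      have h2 : (p : ℤ) * s = n - z := by rw [hs]; linarith
      have h3 : ((p : ℤ) - 1) * ((p : ℤ) * s) = ((p : ℤ) - 1) * n - (p : ℤ) * w₀ + w₁ := by
        rw [h2, hrelZ]; ring
      have h4 : (0 : ℤ) ≤ (p : ℤ) * w₀ := by positivity
      have h5 : (w₁ : ℤ) ≤ n := by exact_mod_cast hw₁
      nlinarith
    have h2 : ((p : ℤ) - 1) * s ≤ n := le_of_mul_le_mul_left h1 hppos
    have h3 : (((p - 1) * s : ℕ) : ℤ) = ((p : ℤ) - 1) * s := by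
      rw [Nat.cast_mul, Nat.cast_sub hp.one_lt.le]; simp
    have h4 : (((p - 1) * s : ℕ) : ℤ) ≤ (n : ℤ) := by rw [h3]; exact h2
    exact_mod_cast h4
  · rw [hzc]
    have h2 : z = n - (p : ℤ) * s := by rw [hs]; linarith
    rw [h2]
    push_cast
    ring

end Values

section Main

variable {G : Type u} [Group G] [Fintype G]

open Polynomial in
/-- **Schur's bound** for the `p`-part of the order of a finite group with a faithful
`p`-rational character of degree `n`. -/
theorem schur_bound (p : ℕ) (hp : p.Prime) (χ : G → ℂ) (hχ : IsCharacter G χ)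
    (hfaith : ∀ g : G, χ g = χ 1 → g = 1)
    (hrat : ∃ r : ℕ, 0 < r ∧ ¬ p ∣ r ∧ ∀ g : G, χ g ∈ IntermediateField.adjoin ℚ
      ({Complex.exp (2 * Real.pi * Complex.I / r)} : Set ℂ))
    (n : ℕ) (hn : charDegree χ = n) :
    (Nat.card G).factorization p ≤ ∑ i ∈ Finset.range (n + 1), n / ((p - 1) * p ^ i) := by
  classical
  haveI : Fact p.Prime := ⟨hp⟩
  obtain ⟨r, hr, hpr, hrat⟩ := hrat
  obtain ⟨P⟩ : Nonempty (Sylow p G) := inferInstance
  haveI : Fintype (P : Subgroup G) := Fintype.ofFinite _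
  set a := (Nat.card G).factorization p with ha
  have hPcard : Nat.card (P : Subgroup G) = p ^ a := P.card_eq_multiplicity
  set ψ : ↥(P : Subgroup G) → ℂ := fun y => χ (y : G) with hψdef
  have hψ : IsCharacter (P : Subgroup G) ψ := helper12.isCharacter_restrict (P : Subgroup G) hχ
  have hn1 : ψ 1 = n := by
    rw [hψdef]
    show χ ((1 : (P : Subgroup G)) : G) = n
    rw [OneMemClass.coe_one, ← hn, helper24.char_charDegree_cast hχ]
  have hfaithP : ∀ x : (P : Subgroup G), ψ x = ψ 1 → x = 1 := by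
    intro x hx
    apply Subtype.ext
    apply hfaith
    exact hx
  have hinv : ∀ (x : (P : Subgroup G)) (t : ℕ), ¬ p ∣ t → ψ (x ^ t) = ψ x := by
    intro x t ht
    obtain ⟨j, hj⟩ := P.2 x
    have hj' : (x : G) ^ (p ^ j) = 1 := by
      have := congrArg (Subtype.val) hj
      simpa using this
    have := char_pow_eq_of_cyclotomic p hp hχ r hr hpr hrat (x : G) j hj' t ht
    show χ ((x ^ t : (P : Subgroup G)) : G) = χ (x : G)
    rw [SubgroupClass.coe_pow]
    exact this
  set M := n / (p - 1) with hM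
  have hp1 : 0 < p - 1 := by have := hp.one_lt; omega
  set f : Polynomial ℤ := ∏ s ∈ Finset.range M, (X - C ((n : ℤ) - (p : ℤ) * ((s : ℤ) + 1))) with hf
  have heval : ∀ c : ℂ, Polynomial.aeval c f =
      ∏ s ∈ Finset.range M, (c - ((n : ℂ) - (p : ℂ) * ((s : ℂ) + 1))) := by
    intro c
    rw [hf, map_prod]
    refine Finset.prod_congr rfl fun s _ => ?_
    simp
  have hvan : ∀ x : (P : Subgroup G), x ≠ 1 → Polynomial.aeval (ψ x) f = 0 := by
    intro x hx
    obtain ⟨s, hs1, hs2, hs3⟩ := pgroup_char_value p hp P.2 hψ n hn1 hfaithP hinv x hx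
    rw [heval]
    apply Finset.prod_eq_zero (i := s - 1)
    · rw [Finset.mem_range, hM]
      have : s ≤ n / (p - 1) := (Nat.le_div_iff_mul_le hp1).2 (by rw [mul_comm]; exact hs2)
      omega
    · rw [hs3]
      have : ((s - 1 : ℕ) : ℂ) + 1 = s := by
        rw [Nat.cast_sub hs1]; simp
      rw [this]
      ring
  obtain ⟨z, hz⟩ := sum_aeval_char hψ f
  have hsum : ∑ x : (P : Subgroup G), Polynomial.aeval (ψ x) f = ((p ^ M * M.factorial : ℕ) : ℂ) := by
    rw [Finset.sum_eq_single (1 : (P : Subgroup G)) (fun x _ hx => hvan x hx)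
      (fun h => absurd (Finset.mem_univ _) h), heval, hn1]
    have : ∀ s ∈ Finset.range M, ((n : ℂ) - ((n : ℂ) - (p : ℂ) * ((s : ℂ) + 1))) =
        (p : ℂ) * ((s + 1 : ℕ) : ℂ) := by
      intro s _
      push_cast
      ring
    rw [Finset.prod_congr rfl this, Finset.prod_mul_distrib, Finset.prod_const, Finset.card_range,
      ← Nat.cast_prod, Finset.prod_range_add_one_eq_factorial]
    push_cast
    rfl
  rw [hsum, hPcard] at hz
  have hdvd : p ^ a ∣ p ^ M * M.factorial := by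
    have h1 : (((p ^ M * M.factorial : ℕ) : ℤ) : ℂ) = (((p ^ a : ℕ) : ℤ) * z : ℤ) := by
      push_cast
      push_cast at hz
      exact hz
    have h2 : ((p ^ M * M.factorial : ℕ) : ℤ) = ((p ^ a : ℕ) : ℤ) * z := by exact_mod_cast h1
    exact Int.natCast_dvd_natCast.mp ⟨z, h2⟩
  have hle : a ≤ (p ^ M * M.factorial).factorization p :=
    (Nat.Prime.pow_dvd_iff_le_factorization hp
      (Nat.mul_ne_zero (pow_pos hp.pos M).ne' (Nat.factorial_ne_zero M))).1 hdvd
  rw [Nat.factorization_mul (pow_pos hp.pos M).ne' (Nat.factorial_ne_zero M)] at hle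
  have h3 : (p ^ M).factorization p = M := by
    rw [Nat.factorization_pow]
    simp [Nat.Prime.factorization_self hp]
  have hlog : Nat.log p M < n + 1 := by
    have h4 : Nat.log p M ≤ M := Nat.log_le_self p M
    have h5 : M ≤ n := Nat.div_le_self n (p - 1)
    omega
  have h4 : (M.factorial).factorization p = ∑ i ∈ Finset.Ico 1 (n + 1), M / p ^ i :=
    Nat.factorization_factorial hp hlog
  have h5 : ∑ i ∈ Finset.range (n + 1), n / ((p - 1) * p ^ i) =
      M + ∑ i ∈ Finset.Ico 1 (n + 1), M / p ^ i := by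
    rw [Finset.range_eq_Ico, Finset.sum_eq_sum_Ico_succ_bot (Nat.succ_pos n)]
    congr 1
    · rw [pow_zero, mul_one]
    · refine Finset.sum_congr rfl fun i _ => ?_
      rw [hM, Nat.div_div_eq_div_mul]
  rw [h5]
  rw [Finsupp.coe_add, Pi.add_apply, h3, h4] at hle
  exact hle

end Main

end Cfsg.Agent.helper1
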