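import Mathlib
import Cfsg.Agent.Lib_helper1_SchurBound
import Cfsg.Agent.Lib_helper22_Glaub2

set_option autoImplicit false
set_option linter.unusedSectionVars false
set_option linter.unusedVariables false
set_option linter.style.longLine false
set_option linter.style.haveILetI false

/-!
p-rational extension in the principal block (helper1), part 2: cyclotomic fields and power maps.
-/

namespace Cfsg.Agent.helper1

open Cfsg
open scoped ComplexConjugate

universe u

section PRatIn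
variable {H : Type u} [Group H] [Finite H]

/-- a character with values in `ℚ(ζ_r)` is invariant under power maps `t ≡ 1 mod gcd(|H|, r)` -/
theorem prat_char_pow_eq {χ : H → ℂ} (hχ : IsCharacter H χ) (r : ℕ) (hr : 0 < r)
    (hrat : ∀ g : H, χ g ∈ IntermediateField.adjoin ℚ
      ({Complex.exp (2 * Real.pi * Complex.I / r)} : Set ℂ))
    (t : ℕ) (ht : Nat.Coprime t (Nat.card H)) (ht1 : t ≡ 1 [MOD Nat.gcd (Nat.card H) r]) (x : H) :
    χ (x ^ t) = χ x := by
  classical
  obtain ⟨k, hk1, hk2⟩ := Nat.chineseRemainder' ht1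
  obtain ⟨N, hN⟩ : ∃ N, N = r * Nat.card H := ⟨_, rfl⟩
  have hN0 : N ≠ 0 := hN ▸ Nat.mul_ne_zero hr.ne' Nat.card_pos.ne'
  have hkH : Nat.Coprime k (Nat.card H) := by
    have h1 := hk1.gcd_eq
    unfold Nat.Coprime
    rw [h1]
    exact ht
  have hkr : Nat.Coprime k r := by
    have h1 := hk2.gcd_eq
    unfold Nat.Coprime
    rw [h1]
    exact Nat.gcd_one_left _
  have hkN : Nat.Coprime k N := hN ▸ Nat.Coprime.mul_right hkr hkH
  obtain ⟨τ, hτ⟩ := exists_aut_pow N hN0 k hkN
  obtain ⟨ζ, hζ⟩ : ∃ ζ, ζ = Complex.exp (2 * Real.pi * Complex.I / r) := ⟨_, rfl⟩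
  rw [← hζ] at hrat
  have hζr : ζ ^ r = 1 := hζ ▸ (Complex.isPrimitiveRoot_exp r hr.ne').pow_eq_one
  have hτζ : τ ζ = ζ := by
    rw [hτ ζ (by rw [hN, pow_mul, hζr, one_pow])]
    rw [pow_eq_pow_mod k hζr, hk2, ← pow_eq_pow_mod 1 hζr, pow_one]
  have hfix : ∀ z ∈ IntermediateField.adjoin ℚ ({ζ} : Set ℂ), τ z = z := by
    intro z hz
    induction hz using IntermediateField.adjoin_induction with
    | mem z hz => rw [Set.mem_singleton_iff] at hz; rw [hz]; exact hτζ
    | algebraMap q => exact map_ratCast τ q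
    | add z w _ _ hz hw => rw [map_add, hz, hw]
    | inv z _ hz => rw [map_inv₀, hz]
    | mul z w _ _ hz hw => rw [map_mul, hz, hw]
  have h1 : τ (χ x) = χ (x ^ k) := by
    apply aut_char_eq τ k _ hχ x
    intro μ hμ
    exact hτ μ (by rw [hN, mul_comm, pow_mul, hμ, one_pow])
  rw [hfix _ (hrat x)] at h1
  rw [h1]
  congr 1
  have h2 : k ≡ t [MOD orderOf x] := hk1.of_dvd (orderOf_dvd_natCard x)
  exact (pow_eq_pow_iff_modEq.mpr h2).symm

end PRatIn

section PRatDet
variable {H : Type u} [Group H] [Fintype H]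

/-- the determinantal character of a power-invariant character is power-invariant -/
theorem prat_det_pow {θ : H → ℂ} (hθ : IsIrrCharacter H θ) (t : ℕ) (ht : t.Coprime (Nat.card H))
    (hinv : ∀ x, θ (x ^ t) = θ x) (x : H) : detChar θ x ^ t = detChar θ x := by
  obtain ⟨τ, hτ⟩ := exists_aut_pow (Nat.card H) Nat.card_pos.ne' t ht
  have h1 : (fun g => (τ : ℂ →+* ℂ) (θ g)) = θ := by
    funext g
    show τ (θ g) = θ g
    rw [aut_char_eq τ t hτ (helper24.irr_isCharacter hθ) g, hinv]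
  have h2 := helper22.detChar_galConj (τ : ℂ →+* ℂ) hθ x
  rw [h1] at h2
  obtain ⟨D, hD⟩ := helper22.exists_detHom hθ
  have h3 : detChar θ x ^ Nat.card H = 1 := by
    rw [hD x, ← Units.val_pow_eq_pow_val, ← map_pow, pow_card_eq_one', map_one]
    rfl
  have h4 := hτ _ h3
  rw [← h4]
  exact h2.symm

/-- `p`-rationality forces the determinantal order to divide `2c` (`p` odd) -/
theorem prat_det_order (p : ℕ) (hp : p.Prime) (hp2 : p ≠ 2) (n B c : ℕ) (hn : n = p ^ B * c)
    (hpc : ¬ p ∣ c) (hH : Nat.card H ∣ n) {θ : H → ℂ} (hθ : IsIrrCharacter H θ)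
    (hinv : ∀ t : ℕ, t.Coprime n → t ≡ 1 [MOD c] → ∀ x, θ (x ^ t) = θ x) (x : H) :
    detChar θ x ^ (2 * c) = 1 := by
  obtain ⟨D, hD⟩ := helper22.exists_detHom hθ
  have hne : detChar θ x ≠ 0 := by rw [hD x]; exact Units.ne_zero _
  have key : ∀ j : ℕ, ¬ p ∣ 1 + c * j → detChar θ x ^ (c * j) = 1 := by
    intro j hj
    have h1 : (1 + c * j) ≡ 1 [MOD c] := by
      have : c * j ≡ 0 [MOD c] := (Nat.modEq_zero_iff_dvd).mpr (dvd_mul_right c j)
      have h5 := Nat.ModEq.add_left 1 this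
      simp only [add_zero] at h5
      exact h5
    have hcop : Nat.Coprime (1 + c * j) n := by
      rw [hn]
      apply Nat.Coprime.mul_right
      · exact Nat.Coprime.pow_right B ((Nat.Prime.coprime_iff_not_dvd hp).2 hj).symm
      · unfold Nat.Coprime
        rw [h1.gcd_eq]
        exact Nat.gcd_one_left _
    have h2 := prat_det_pow hθ (1 + c * j) (Nat.Coprime.coprime_dvd_right hH hcop)
      (hinv _ hcop h1) x
    rw [pow_add, pow_one] at h2
    have h3 : detChar θ x * detChar θ x ^ (c * j) = detChar θ x * 1 := by rw [h2, mul_one]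
    exact mul_left_cancel₀ hne h3
  by_cases h1 : p ∣ 1 + c * 1
  · have h2 : ¬ p ∣ 1 + c * 2 := by
      intro h2
      apply hpc
      have h3 : p ∣ (1 + c * 2) - (1 + c * 1) := Nat.dvd_sub h2 h1
      have h4 : (1 + c * 2) - (1 + c * 1) = c := by omega
      rwa [h4] at h3
    have := key 2 h2
    rwa [mul_comm c 2] at this
  · have := key 1 h1
    rw [mul_one] at this
    rw [mul_comm, pow_mul, this, one_pow]

end PRatDet

section PRatOut

/-- roots of unity lie in the cyclotomic field -/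
theorem prat_root_mem (m : ℕ) (hm : m ≠ 0) (μ : ℂ) (hμ : μ ^ m = 1) :
    μ ∈ IntermediateField.adjoin ℚ ({Complex.exp (2 * Real.pi * Complex.I / (m : ℂ))} : Set ℂ) := by
  have hprim := Complex.isPrimitiveRoot_exp m hm
  haveI : NeZero m := ⟨hm⟩
  obtain ⟨k, -, hk⟩ := hprim.eq_pow_of_pow_eq_one hμ
  rw [← hk]
  exact pow_mem (IntermediateField.subset_adjoin ℚ _ (Set.mem_singleton _)) k

/-- geometric sums of roots of unity are rational integers -/
theorem prat_geom_mem (F : IntermediateField ℚ ℂ) (ν : ℂ) (q : ℕ) (hν : ν ^ q = 1) :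
    ∑ k ∈ Finset.range q, ν ^ k ∈ F := by
  by_cases h1 : ν = 1
  · rw [h1]
    simp only [one_pow, Finset.sum_const, Finset.card_range, nsmul_eq_mul, mul_one]
    exact natCast_mem F q
  · have h2 := geom_sum_mul ν q
    rw [hν, sub_self] at h2
    rcases mul_eq_zero.mp h2 with h3 | h3
    · rw [h3]; exact zero_mem F
    · exact absurd (sub_eq_zero.mp h3) h1

/-- the Ramanujan-type sum over exponents prime to `p` -/
theorem prat_ramanujan_mem (F : IntermediateField ℚ ℂ) (p q' : ℕ) (hp : 0 < p) (ν : ℂ)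
    (hν : ν ^ (p * q') = 1) :
    ∑ s ∈ Finset.range (p * q'), (if p ∣ s then 0 else ν ^ s) ∈ F := by
  have h1 : ∀ s, (if p ∣ s then (0 : ℂ) else ν ^ s) = ν ^ s - (if p ∣ s then ν ^ s else 0) := by
    intro s
    split_ifs <;> simp
  rw [Finset.sum_congr rfl (fun s _ => h1 s), Finset.sum_sub_distrib]
  apply sub_mem (prat_geom_mem F ν _ hν)
  rw [sum_range_mul_blocks (fun s => if p ∣ s then ν ^ s else 0) p q']
  have h2 : ∀ k' ∈ Finset.range q', ∑ i ∈ Finset.range p,
      (if p ∣ p * k' + i then ν ^ (p * k' + i) else 0) = (ν ^ p) ^ k' := by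
    intro k' _
    rw [Finset.sum_eq_single 0]
    · rw [add_zero, if_pos (dvd_mul_right p k'), pow_mul]
    · intro i hi hi0
      rw [if_neg]
      intro hd
      have h3 : p ∣ i := (Nat.dvd_add_right (dvd_mul_right p k')).mp hd
      have h4 : i < p := Finset.mem_range.mp hi
      exact hi0 (Nat.eq_zero_of_dvd_of_lt h3 h4)
    · intro h0
      exact absurd (Finset.mem_range.mpr hp) h0
  rw [Finset.sum_congr rfl h2]
  apply prat_geom_mem F (ν ^ p) q'
  rw [← pow_mul, hν]

variable {G : Type u} [Group G] [Finite G]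

/-- Galois descent: a character invariant under the power maps `t ≡ 1 mod c` (`c` the `p'`-part of
`|G|`) has its values in `ℚ(ζ_c)` -/
theorem prat_mem_adjoin (p : ℕ) (hp : p.Prime) {χ : G → ℂ} (hχ : IsCharacter G χ) (B c : ℕ)
    (hn : Nat.card G = p ^ B * c) (hpc : ¬ p ∣ c)
    (hinv : ∀ t : ℕ, t.Coprime (Nat.card G) → t ≡ 1 [MOD c] → ∀ g, χ (g ^ t) = χ g) (g : G) :
    χ g ∈ IntermediateField.adjoin ℚ ({Complex.exp (2 * Real.pi * Complex.I / c)} : Set ℂ) := by
  classical
  have hc0 : c ≠ 0 := by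
    rintro rfl
    rw [mul_zero] at hn
    exact Nat.card_pos.ne' hn
  obtain ⟨F, hF⟩ : ∃ F : IntermediateField ℚ ℂ, F = IntermediateField.adjoin ℚ
    ({Complex.exp (2 * Real.pi * Complex.I / c)} : Set ℂ) := ⟨_, rfl⟩
  rw [← hF]
  have hroot : ∀ μ : ℂ, μ ^ c = 1 → μ ∈ F := fun μ hμ => hF ▸ prat_root_mem c hc0 μ hμ
  obtain ⟨n, ρ, rfl⟩ := hχ
  obtain ⟨S, m, hS, hsum⟩ := char_pow_eq_sum ρ g
  rcases Nat.eq_zero_or_pos B with hB | hB
  · -- `p ∤ |G|`
    have h1 := hsum 1
    rw [pow_one] at h1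
    rw [h1]
    apply sum_mem
    intro μ hμ
    apply mul_mem (natCast_mem F _)
    rw [pow_one]
    apply hroot
    have := hS μ hμ
    rwa [hn, hB, pow_zero, one_mul] at this
  · obtain ⟨q', hq'⟩ : ∃ q', q' = p ^ (B - 1) := ⟨_, rfl⟩
    have hq : p ^ B = p * q' := by
      rw [hq', ← pow_succ']
      congr 1
      omega
    have hcop : Nat.Coprime (p * q') c := by
      rw [← hq]
      exact Nat.Coprime.pow_left B ((Nat.Prime.coprime_iff_not_dvd hp).2 hpc)
    obtain ⟨e₁, he₁q, he₁c⟩ := Nat.chineseRemainder hcop 1 0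
    obtain ⟨e₂, he₂q, he₂c⟩ := Nat.chineseRemainder hcop 0 1
    have hcard : Nat.card G = p * q' * c := by rw [hn, hq]
    -- the admissible exponents
    have hts : ∀ s : ℕ, ¬ p ∣ s → ρ.character g = ∑ μ ∈ S, (m μ : ℂ) * ((μ ^ e₁) ^ s * μ ^ e₂) := by
      intro s hs
      have hmq : s * e₁ + e₂ ≡ s [MOD p * q'] := by
        have := Nat.ModEq.add (Nat.ModEq.mul_left s he₁q) he₂q
        simpa using this
      have hmc : s * e₁ + e₂ ≡ 1 [MOD c] := by
        have := Nat.ModEq.add (Nat.ModEq.mul_left s he₁c) he₂c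
        simpa using this
      have hnd : ¬ p ∣ s * e₁ + e₂ := by
        intro hd
        exact hs ((hmq.dvd_iff (dvd_mul_right p q')).mp hd)
      have hcop' : Nat.Coprime (s * e₁ + e₂) (Nat.card G) := by
        rw [hn]
        apply Nat.Coprime.mul_right
        · exact Nat.Coprime.pow_right B ((Nat.Prime.coprime_iff_not_dvd hp).2 hnd).symm
        · unfold Nat.Coprime
          rw [hmc.gcd_eq]
          exact Nat.gcd_one_left _
      rw [← hinv _ hcop' hmc g, hsum]
      apply Finset.sum_congr rfl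
      intro μ _
      rw [pow_add, pow_mul']
    -- the weights
    obtain ⟨Wn, hWn⟩ : ∃ Wn : ℕ, Wn = ∑ s ∈ Finset.range (p * q'), (if p ∣ s then 0 else 1) :=
      ⟨_, rfl⟩
    have hWpos : 1 ≤ Wn := by
      rw [hWn]
      have h1 : (1 : ℕ) ∈ Finset.range (p * q') := by
        rw [Finset.mem_range, ← hq]
        exact Nat.one_lt_pow hB.ne' hp.one_lt
      have h2 := Finset.single_le_sum (f := fun s => if p ∣ s then 0 else 1)
        (fun _ _ => Nat.zero_le _) h1
      have h3 : ¬ p ∣ 1 := hp.one_lt.ne' ∘ Nat.dvd_one.mp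
      simpa [h3] using h2
    have hWsum : (Wn : ℂ) * ρ.character g = ∑ s ∈ Finset.range (p * q'),
        (if p ∣ s then 0 else ∑ μ ∈ S, (m μ : ℂ) * ((μ ^ e₁) ^ s * μ ^ e₂)) := by
      rw [hWn, Nat.cast_sum, Finset.sum_mul]
      apply Finset.sum_congr rfl
      intro s _
      by_cases hs : p ∣ s
      · rw [if_pos hs, if_pos hs]; simp
      · rw [if_neg hs, if_neg hs, Nat.cast_one, one_mul]
        exact hts s hs
    have hswap : ∑ s ∈ Finset.range (p * q'),
        (if p ∣ s then 0 else ∑ μ ∈ S, (m μ : ℂ) * ((μ ^ e₁) ^ s * μ ^ e₂)) =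
        ∑ μ ∈ S, (m μ : ℂ) * (μ ^ e₂ *
          ∑ s ∈ Finset.range (p * q'), (if p ∣ s then 0 else (μ ^ e₁) ^ s)) := by
      have h1 : ∀ s, (if p ∣ s then (0 : ℂ) else ∑ μ ∈ S, (m μ : ℂ) * ((μ ^ e₁) ^ s * μ ^ e₂)) =
          ∑ μ ∈ S, (m μ : ℂ) * (μ ^ e₂ * (if p ∣ s then 0 else (μ ^ e₁) ^ s)) := by
        intro s
        by_cases hs : p ∣ s
        · simp [hs]
        · simp only [hs, if_false]
          apply Finset.sum_congr rfl
          intro μ _
          ring
      rw [Finset.sum_congr rfl (fun s _ => h1 s), Finset.sum_comm]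
      apply Finset.sum_congr rfl
      intro μ _
      rw [← Finset.mul_sum, ← Finset.mul_sum]
    have hmem : (Wn : ℂ) * ρ.character g ∈ F := by
      rw [hWsum, hswap]
      apply sum_mem
      intro μ hμ
      have hμn : μ ^ (p * q' * c) = 1 := hcard ▸ hS μ hμ
      apply mul_mem (natCast_mem F _)
      apply mul_mem
      · apply hroot
        obtain ⟨k, hk⟩ := (Nat.modEq_zero_iff_dvd).mp he₂q
        rw [← pow_mul, hk, mul_assoc, mul_comm k c, ← mul_assoc, pow_mul, hμn, one_pow]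
      · apply prat_ramanujan_mem F p q' hp.pos
        obtain ⟨k, hk⟩ := (Nat.modEq_zero_iff_dvd).mp he₁c
        rw [← pow_mul, hk, mul_comm c k, mul_assoc, mul_comm c, mul_comm k, pow_mul, hμn, one_pow]
    have hW0 : (Wn : ℂ) ≠ 0 := Nat.cast_ne_zero.mpr (by omega)
    have : ρ.character g = (Wn : ℂ)⁻¹ * ((Wn : ℂ) * ρ.character g) := by
      rw [← mul_assoc, inv_mul_cancel₀ hW0, one_mul]
    rw [this]
    exact mul_mem (inv_mem (natCast_mem F _)) hmem

end PRatOut

end Cfsg.Agent.helper1
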