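import Mathlib
import Cfsg.Agent.Lib_helper22_ExtLin
import Cfsg.Agent.S0865
import Cfsg.Statements.S0864

set_option autoImplicit false
set_option linter.unusedSectionVars false
set_option linter.unusedVariables false
open Cfsg

namespace Cfsg.Agent.S0864

open Cfsg.Agent.helper22

theorem result {G : Type*} [Group G] [Finite G] (N : Subgroup G) [hN : N.Normal] (lam : N → ℂ) (hlam : Cfsg.IsCharacter N lam ∧ lam 1 = 1) (hinv : ∀ (g : G) (n : N), lam ⟨g * n * g⁻¹, hN.conj_mem (n : G) n.2 g⟩ = lam n) (hsyl : ∀ p : ℕ, p.Prime → p ∣ orderOf lam → ∃ (H : Subgroup G) (hNH : N ≤ H) (ν : H → ℂ), Nat.Coprime H.index p ∧ (∃ k : ℕ, N.relIndex H = p ^ k) ∧ Cfsg.IsCharacter H ν ∧ ν 1 = 1 ∧ ∀ n : N, ν ⟨(n : G), hNH n.2⟩ = lam n) : ∃ μ : G → ℂ, Cfsg.IsCharacter G μ ∧ μ 1 = 1 ∧ ∀ n : N, μ n = lam n := by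
  classical
  obtain ⟨φ, hφ⟩ := linear_iff_hom.mp hlam
  obtain ⟨r, hrdef⟩ : ∃ r, r = orderOf lam := ⟨_, rfl⟩
  have hr : ∀ n : N, φ n ^ r = 1 := fun n => hrdef ▸ Cfsg.Agent.S0865.fun_pow_orderOf φ hφ n
  have hrpos : 0 < r := hrdef ▸ Cfsg.Agent.S0865.orderOf_fun_pos φ hφ
  have hinv' : ∀ (g : G) (n : N),
      φ ⟨g * n * g⁻¹, hN.conj_mem (n : G) n.2 g⟩ = φ n := by
    intro g n
    apply Units.ext
    rw [← hφ, ← hφ, hinv g n]
  -- the exponents `k` such that `lam ^ k` extends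
  let S : AddSubgroup ℤ :=
    { carrier := {k | ∃ μ : G →* ℂˣ, ∀ n : N, μ (n : G) = φ n ^ k}
      zero_mem' := ⟨1, fun n => by simp⟩
      add_mem' := by
        rintro a b ⟨μ₁, h₁⟩ ⟨μ₂, h₂⟩
        exact ⟨μ₁ * μ₂, fun n => by rw [MonoidHom.mul_apply, h₁ n, h₂ n, zpow_add]⟩
      neg_mem' := by
        rintro a ⟨μ₁, h₁⟩
        exact ⟨μ₁⁻¹, fun n => by rw [MonoidHom.inv_apply, h₁ n, zpow_neg]⟩ }
  have hSmem : ∀ k : ℤ, k ∈ S ↔ ∃ μ : G →* ℂˣ, ∀ n : N, μ (n : G) = φ n ^ k := fun k => Iff.rfl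
  have hrS : (r : ℤ) ∈ S := ⟨1, fun n => by rw [zpow_natCast, hr n]; rfl⟩
  have hprime : ∀ q : ℕ, q.Prime → ∃ k ∈ S, ¬ (q : ℤ) ∣ k := by
    intro q hq
    by_cases hqr : q ∣ r
    · obtain ⟨H, hNH, ν, hcop, -, hνc, hν1, hνN⟩ := hsyl q hq (hrdef ▸ hqr)
      obtain ⟨ν', hν'⟩ := linear_iff_hom.mp ⟨hνc, hν1⟩
      have hνN' : ∀ n : N, ν' ⟨(n : G), hNH n.2⟩ = φ n := by
        intro n
        apply Units.ext
        rw [← hν', hνN n, hφ n]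
      obtain ⟨μ, hμ⟩ := exists_extend_pow N H hNH φ hinv' ν' hνN'
      refine ⟨(H.index : ℤ), ⟨μ, fun n => by rw [hμ n, zpow_natCast]⟩, ?_⟩
      intro hdvd
      have h1 : q ∣ H.index := Int.natCast_dvd_natCast.mp hdvd
      have h2 : q ∣ Nat.gcd H.index q := Nat.dvd_gcd h1 (dvd_refl q)
      rw [hcop.gcd_eq_one] at h2
      exact hq.one_lt.ne' (Nat.dvd_one.mp h2)
    · exact ⟨(r : ℤ), hrS, fun hdvd => hqr (Int.natCast_dvd_natCast.mp hdvd)⟩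
  obtain ⟨a, ha⟩ := Int.subgroup_cyclic S
  have hall : ∀ k ∈ S, a ∣ k := by
    intro k hk
    rw [ha, AddSubgroup.mem_closure_singleton] at hk
    obtain ⟨m, hm⟩ := hk
    exact ⟨m, by rw [← hm, smul_eq_mul, mul_comm]⟩
  have haS : a ∈ S := by
    rw [ha]
    exact AddSubgroup.mem_closure_singleton_self a
  have hnat : a.natAbs = 1 := by
    by_contra hne
    obtain ⟨q, hq, hqa⟩ := Nat.exists_prime_and_dvd hne
    obtain ⟨k, hkS, hqk⟩ := hprime q hq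
    apply hqk
    exact (Int.natCast_dvd.mpr hqa).trans (hall k hkS)
  have h1S : (1 : ℤ) ∈ S := by
    rcases Int.natAbs_eq a with h | h
    · rw [hnat] at h
      rw [← show a = 1 by simpa using h]
      exact haS
    · rw [hnat] at h
      have : -a = 1 := by rw [h]; simp
      rw [← this]
      exact S.neg_mem haS
  obtain ⟨μ, hμ⟩ := (hSmem 1).mp h1S
  have hμchar := (linear_iff_hom (χ := fun g => ((μ g : ℂˣ) : ℂ))).mpr ⟨μ, fun g => rfl⟩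
  refine ⟨fun g => ((μ g : ℂˣ) : ℂ), hμchar.1, hμchar.2, fun n => ?_⟩
  show ((μ (n : G) : ℂˣ) : ℂ) = lam n
  rw [hμ n, zpow_one, hφ n]

end Cfsg.Agent.S0864
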