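import Mathlib
import Cfsg.Agent.Lib_helper22_RepGroup
import Cfsg.Agent.Lib_helper22_ExtLin
import Cfsg.Agent.Lib_helper24_CharCentral
import Cfsg.Agent.S0864

set_option autoImplicit false
set_option linter.unusedSectionVars false
set_option linter.unusedVariables false

/-!
Representation groups II (helper22): Isaacs 11.31 — an invariant irreducible character of a normal
subgroup which extends to the Sylow subgroups (mod `N`) extends to `G`.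
-/

namespace Cfsg.Agent.helper22

open Cfsg
open scoped ComplexConjugate

universe u

section Compare

/-- two characters with the same irreducible restriction to a normal subgroup differ by a linear
character of the quotient -/
theorem exists_hom_of_res_eq {H : Type u} [Group H] [Fintype H] (N₁ : Subgroup H) [N₁.Normal]
    [Fintype N₁] {ψ₁ ψ₂ : H → ℂ} (h1 : IsCharacter H ψ₁) (h2 : IsCharacter H ψ₂)
    (hirr : IsIrrCharacter N₁ (helper5.res N₁ ψ₁))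
    (heq : helper5.res N₁ ψ₂ = helper5.res N₁ ψ₁) :
    ∃ φ : H →* ℂˣ, (∀ h, ψ₂ h = ((φ h : ℂˣ) : ℂ) * ψ₁ h) ∧ ∀ a ∈ N₁, φ a = 1 := by
  classical
  haveI : Fintype (IrrCharacter (H ⧸ N₁)) := Fintype.ofFinite _
  have hψ₁ : IsIrrCharacter H ψ₁ := isIrrCharacter_of_res_irr N₁ h1 hirr
  have hψ₂ : IsIrrCharacter H ψ₂ := isIrrCharacter_of_res_irr N₁ h2 (heq ▸ hirr)
  have hcon : classInner (helper5.res N₁ ψ₂) (helper5.res N₁ ψ₁) ≠ 0 := by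
    rw [heq, helper24.irr_classInner_self hirr]
    exact one_ne_zero
  obtain ⟨β, hβ⟩ := (gallagher N₁ hψ₁ hirr).2.2 ψ₂ hψ₂ hcon
  have h11 : ψ₂ 1 = ψ₁ 1 := by
    have := congrFun heq 1
    rw [helper5.res_apply, helper5.res_apply] at this
    exact this
  have hβ1 : (β : H ⧸ N₁ → ℂ) 1 = 1 := by
    have h3 := congrFun hβ 1
    rw [Pi.mul_apply, infl_apply, QuotientGroup.mk_one, h11] at h3
    have h4 : ψ₁ 1 ≠ 0 := helper24.irr_apply_one_ne_zero hψ₁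
    have h5 : ((β : H ⧸ N₁ → ℂ) 1 - 1) * ψ₁ 1 = 0 := by rw [sub_mul, ← h3, one_mul, sub_self]
    rcases mul_eq_zero.mp h5 with h6 | h6
    · exact sub_eq_zero.mp h6
    · exact absurd h6 h4
  have hlin : IsCharacter H (infl N₁ (β : H ⧸ N₁ → ℂ)) ∧ infl N₁ (β : H ⧸ N₁ → ℂ) 1 = 1 := by
    refine ⟨helper24.char_inflation N₁ (helper24.irr_isCharacter β.2), ?_⟩
    rw [infl_apply, QuotientGroup.mk_one, hβ1]
  obtain ⟨φ, hφ⟩ := linear_iff_hom.mp hlin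
  refine ⟨φ, fun h => ?_, fun a ha => ?_⟩
  · have h3 := congrFun hβ h
    rw [Pi.mul_apply, hφ h] at h3
    exact h3
  · apply Units.ext
    rw [← hφ a, infl_apply, (QuotientGroup.eq_one_iff a).mpr ha, hβ1, Units.val_one]

end Compare

section Datum2
variable {G : Type u} [Group G] [Fintype G] (N : Subgroup G) [hN : N.Normal] [Fintype N]
  {Γ : Type u} [Group Γ] [Fintype Γ] (p : Γ →* G) (s : N →* Γ) (ϑ' : Γ → ℂ) (ϑ : N → ℂ)

theorem datum_range_le_comap (hps : ∀ n, p (s n) = n) (P : Subgroup G) (hNP : N ≤ P) :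
    s.range ≤ P.comap p := by
  rintro _ ⟨n, rfl⟩
  rw [Subgroup.mem_comap, hps]
  exact hNP n.2

theorem datum_compare [hsn : s.range.Normal] (hps : ∀ n, p (s n) = n) (hϑ' : IsCharacter Γ ϑ')
    (hϑs : ∀ n, ϑ' (s n) = ϑ n) (hϑ : IsIrrCharacter N ϑ)
    (P : Subgroup G) (hNP : N ≤ P) (η : P → ℂ) (hη : IsCharacter P η)
    (hηϑ : ∀ n : N, η ⟨n, hNP n.2⟩ = ϑ n) :
    ∃ φ : ↥(P.comap p) →* ℂˣ, (∀ h : P.comap p, η ⟨p h, h.2⟩ = ((φ h : ℂˣ) : ℂ) * ϑ' h) ∧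
      ∀ n : N, φ ⟨s n, datum_range_le_comap N p s hps P hNP ⟨n, rfl⟩⟩ = 1 := by
  classical
  have hle := datum_range_le_comap N p s hps P hNP
  haveI : (s.range.subgroupOf (P.comap p)).Normal := Subgroup.normal_subgroupOf
  obtain ⟨ι, hι⟩ : ∃ ι : s.range.subgroupOf (P.comap p) ≃* N,
      ι = (Subgroup.subgroupOfEquivOfLe hle).trans (datumEquiv N p s hps).symm := ⟨_, rfl⟩
  have hιs : ∀ a : s.range.subgroupOf (P.comap p), s (ι a) = ((a : P.comap p) : Γ) := by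
    intro a
    rw [hι, MulEquiv.trans_apply, datumEquiv_symm_spec]
    rfl
  have hirr0 : IsIrrCharacter (s.range.subgroupOf (P.comap p)) (fun a => ϑ (ι a)) :=
    helper8.isIrrCharacter_comp_mulEquiv ι hϑ
  have hr1 : helper5.res (s.range.subgroupOf (P.comap p)) (helper5.res (P.comap p) ϑ') =
      fun a => ϑ (ι a) := by
    funext a
    rw [helper5.res_apply, helper5.res_apply, ← hιs, hϑs]
  have hr2 : helper5.res (s.range.subgroupOf (P.comap p)) (fun h : P.comap p => η ⟨p h, h.2⟩) =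
      fun a => ϑ (ι a) := by
    funext a
    rw [helper5.res_apply, ← hηϑ]
    congr 1
    apply Subtype.ext
    show p ((a : P.comap p) : Γ) = ((ι a : N) : G)
    rw [← hιs, hps]
  have hc1 : IsCharacter (P.comap p) (helper5.res (P.comap p) ϑ') := helper5.isCharacter_res _ hϑ'
  have hc2 : IsCharacter (P.comap p) (fun h : P.comap p => η ⟨p h, h.2⟩) :=
    helper8.isCharacter_comp_monoidHom (p.subgroupComap P) hη
  obtain ⟨φ, hφ1, hφ2⟩ := exists_hom_of_res_eq (s.range.subgroupOf (P.comap p)) hc1 hc2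
    (hr1 ▸ hirr0) (hr2.trans hr1.symm)
  refine ⟨φ, fun h => ?_, fun n => ?_⟩
  · have := hφ1 h
    rw [helper5.res_apply] at this
    exact this
  · apply hφ2
    rw [Subgroup.mem_subgroupOf]
    exact ⟨n, rfl⟩

end Datum2

section Main
variable {G : Type u} [Group G] [Fintype G] (N : Subgroup G) [hN : N.Normal] [Fintype N]
  {Γ : Type u} [Group Γ] [Fintype Γ] (p : Γ →* G) (s : N →* Γ) (ϑ' : Γ → ℂ) (ϑ : N → ℂ)

/-- decomposition of `p⁻¹(N)` as `s(N) · ker p` -/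
theorem datum_decomp (hps : ∀ n, p (s n) = n) (k : Γ) (hk : k ∈ N.comap p) :
    ∃ z ∈ p.ker, k = s ⟨p k, hk⟩ * z := by
  refine ⟨(s ⟨p k, hk⟩)⁻¹ * k, ?_, by group⟩
  rw [MonoidHom.mem_ker, map_mul, map_inv, hps]
  exact inv_mul_cancel _

/-- the value at a kernel element of a comparison character -/
theorem datum_compare_ker (hps : ∀ n, p (s n) = n) (hϑs : ∀ n, ϑ' (s n) = ϑ n)
    (P : Subgroup G) (hNP : N ≤ P) (η : P → ℂ) (hηϑ : ∀ n : N, η ⟨n, hNP n.2⟩ = ϑ n)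
    (φ : ↥(P.comap p) →* ℂˣ) (hφ : ∀ h : P.comap p, η ⟨p h, h.2⟩ = ((φ h : ℂˣ) : ℂ) * ϑ' h)
    (z : Γ) (hz : z ∈ p.ker) (hzP : z ∈ P.comap p) :
    ((φ ⟨z, hzP⟩ : ℂˣ) : ℂ) * ϑ' z = ϑ 1 := by
  rw [← hφ ⟨z, hzP⟩, ← hηϑ 1]
  congr 1
  apply Subtype.ext
  exact hz

/-- **Isaacs 11.31, given a representation group.** -/
theorem extends_of_sylow_of_datum [hsn : s.range.Normal] (hp : Function.Surjective p)
    (hker : p.ker ≤ Subgroup.center Γ) (hps : ∀ n, p (s n) = n) (hϑ' : IsCharacter Γ ϑ')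
    (hϑs : ∀ n, ϑ' (s n) = ϑ n) (hϑ : IsIrrCharacter N ϑ)
    (hsyl : ∀ q : ℕ, q.Prime → ∃ (P : Subgroup G) (hNP : N ≤ P) (η : P → ℂ),
      Nat.Coprime P.index q ∧ (∃ k : ℕ, N.relIndex P = q ^ k) ∧ IsIrrCharacter P η ∧
        ∀ n : N, η ⟨(n : G), hNP n.2⟩ = ϑ n) :
    ∃ χ : G → ℂ, IsIrrCharacter G χ ∧ ∀ n : N, χ n = ϑ n := by
  classical
  have hϑ1 : ϑ 1 ≠ 0 := helper24.irr_apply_one_ne_zero hϑ
  have hϑ'irr : IsIrrCharacter Γ ϑ' := datum_irr N p s ϑ' ϑ hps hϑ' hϑs hϑ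
  haveI hKn : (N.comap p).Normal := inferInstance
  -- the linear character `lam0` of `K = p⁻¹(N)`
  obtain ⟨lam0, hlam1, hlam2⟩ := datum_compare N p s ϑ' ϑ hps hϑ' hϑs hϑ N le_rfl ϑ
    (helper24.irr_isCharacter hϑ) (fun n => rfl)
  have hkerK : ∀ z ∈ p.ker, z ∈ N.comap p := by
    intro z hz
    rw [Subgroup.mem_comap, MonoidHom.mem_ker.mp hz]
    exact N.one_mem
  have hsK : ∀ n : N, s n ∈ N.comap p := fun n =>
    datum_range_le_comap N p s hps N le_rfl ⟨n, rfl⟩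
  -- general comparison: any comparison character agrees with `lam0` on `K`
  have hagree : ∀ (P : Subgroup G) (hNP : N ≤ P) (η : P → ℂ)
      (hηϑ : ∀ n : N, η ⟨n, hNP n.2⟩ = ϑ n) (φ : ↥(P.comap p) →* ℂˣ)
      (hφ : ∀ h : P.comap p, η ⟨p h, h.2⟩ = ((φ h : ℂˣ) : ℂ) * ϑ' h)
      (hφs : ∀ n : N, φ ⟨s n, datum_range_le_comap N p s hps P hNP ⟨n, rfl⟩⟩ = 1)
      (k : N.comap p), φ ⟨k, Subgroup.comap_mono hNP k.2⟩ = lam0 k := by
    intro P hNP η hηϑ φ hφ hφs k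
    obtain ⟨z, hz, hkz⟩ := datum_decomp N p s hps k k.2
    have hzP : z ∈ P.comap p := Subgroup.comap_mono hNP (hkerK z hz)
    have e1 : (⟨k, Subgroup.comap_mono hNP k.2⟩ : P.comap p) =
        ⟨s ⟨p k, k.2⟩, datum_range_le_comap N p s hps P hNP ⟨_, rfl⟩⟩ * ⟨z, hzP⟩ :=
      Subtype.ext hkz
    have e2 : k = ⟨s ⟨p k, k.2⟩, hsK _⟩ * ⟨z, hkerK z hz⟩ := Subtype.ext hkz
    have e3 : φ ⟨z, hzP⟩ = lam0 ⟨z, hkerK z hz⟩ := by
      have h1 := datum_compare_ker N p s ϑ' ϑ hps hϑs P hNP η hηϑ φ hφ z hz hzP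
      have h2 := datum_compare_ker N p s ϑ' ϑ hps hϑs N le_rfl ϑ (fun n => rfl) lam0 hlam1 z hz
        (hkerK z hz)
      have h3 : ϑ' z ≠ 0 := by
        intro h0
        rw [h0, mul_zero] at h1
        exact hϑ1 h1.symm
      apply Units.ext
      exact mul_right_cancel₀ h3 (h1.trans h2.symm)
    rw [e1, map_mul, hφs, one_mul, e3]
    conv_rhs => rw [e2, map_mul, hlam2, one_mul]
  obtain ⟨lam, hlamdef⟩ : ∃ lam : N.comap p → ℂ, lam = fun k => ((lam0 k : ℂˣ) : ℂ) := ⟨_, rfl⟩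
  have hlam : IsCharacter (N.comap p) lam ∧ lam 1 = 1 :=
    linear_iff_hom.mpr ⟨lam0, fun k => by rw [hlamdef]⟩
  -- invariance
  have hinv : ∀ (γ : Γ) (k : N.comap p),
      lam ⟨γ * k * γ⁻¹, hKn.conj_mem (k : Γ) k.2 γ⟩ = lam k := by
    intro γ k
    rw [hlamdef]
    show ((lam0 _ : ℂˣ) : ℂ) = ((lam0 k : ℂˣ) : ℂ)
    congr 1
    obtain ⟨z, hz, hkz⟩ := datum_decomp N p s hps k k.2
    obtain ⟨n0, hn0⟩ : ∃ n0 : N, n0 = ⟨p k, k.2⟩ := ⟨_, rfl⟩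
    rw [← hn0] at hkz
    obtain ⟨n', hn'⟩ : ∃ n' : N, s n' = γ * s n0 * γ⁻¹ :=
      hsn.conj_mem _ ⟨_, rfl⟩ γ
    have e2 : k = ⟨s n0, hsK _⟩ * ⟨z, hkerK z hz⟩ := Subtype.ext hkz
    have e4 : (⟨γ * k * γ⁻¹, hKn.conj_mem (k : Γ) k.2 γ⟩ : N.comap p) =
        ⟨s n', hsK _⟩ * ⟨z, hkerK z hz⟩ := by
      apply Subtype.ext
      show γ * (k : Γ) * γ⁻¹ = s n' * z
      rw [hn', hkz]
      have hzc := Subgroup.mem_center_iff.mp (hker hz)
      rw [mul_assoc γ, mul_assoc (s _), ← hzc γ⁻¹]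
      group
    rw [e4, map_mul, hlam2, one_mul]
    conv_rhs => rw [e2, map_mul, hlam2, one_mul]
  -- Sylow-wise extension of `lam`
  have hsyl' : ∀ q : ℕ, q.Prime → q ∣ orderOf lam → ∃ (H : Subgroup Γ) (hKH : N.comap p ≤ H)
      (ν : H → ℂ), Nat.Coprime H.index q ∧ (∃ k : ℕ, (N.comap p).relIndex H = q ^ k) ∧
        IsCharacter H ν ∧ ν 1 = 1 ∧ ∀ k : N.comap p, ν ⟨(k : Γ), hKH k.2⟩ = lam k := by
    intro q hq _
    obtain ⟨P, hNP, η, hcop, ⟨k, hk⟩, hη, hηϑ⟩ := hsyl q hq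
    obtain ⟨φ, hφ1, hφ2⟩ := datum_compare N p s ϑ' ϑ hps hϑ' hϑs hϑ P hNP η
      (helper24.irr_isCharacter hη) hηϑ
    have hlin : IsCharacter (P.comap p) (fun h => ((φ h : ℂˣ) : ℂ)) ∧
        (fun h : P.comap p => ((φ h : ℂˣ) : ℂ)) 1 = 1 := linear_iff_hom.mpr ⟨φ, fun _ => rfl⟩
    refine ⟨P.comap p, Subgroup.comap_mono hNP, fun h => ((φ h : ℂˣ) : ℂ), ?_, ⟨k, ?_⟩,
      hlin.1, hlin.2, ?_⟩
    · rw [Subgroup.index_comap_of_surjective P hp]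
      exact hcop
    · rw [Subgroup.relIndex_comap, Subgroup.map_comap_eq_self_of_surjective hp]
      exact hk
    · intro k
      rw [hlamdef]
      show ((φ _ : ℂˣ) : ℂ) = ((lam0 k : ℂˣ) : ℂ)
      rw [hagree P hNP η hηϑ φ hφ1 hφ2 k]
  obtain ⟨μ, hμc, hμ1, hμK⟩ := Cfsg.Agent.S0864.result (N.comap p) lam hlam hinv hsyl'
  obtain ⟨φΓ, hφΓ⟩ := linear_iff_hom.mp ⟨hμc, hμ1⟩
  have hψ : IsIrrCharacter Γ (fun γ => ((φΓ γ : ℂˣ) : ℂ) * ϑ' γ) := twist_isIrr φΓ hϑ'irr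
  have hψs : ∀ n : N, ((φΓ (s n) : ℂˣ) : ℂ) * ϑ' (s n) = ϑ n := by
    intro n
    rw [← hφΓ, hμK ⟨s n, hsK n⟩, hlamdef]
    show ((lam0 _ : ℂˣ) : ℂ) * _ = _
    rw [hlam2, Units.val_one, one_mul, hϑs]
  have hψker : ∀ z ∈ p.ker, (fun γ => ((φΓ γ : ℂˣ) : ℂ) * ϑ' γ) z =
      (fun γ => ((φΓ γ : ℂˣ) : ℂ) * ϑ' γ) 1 := by
    intro z hz
    show ((φΓ z : ℂˣ) : ℂ) * ϑ' z = ((φΓ 1 : ℂˣ) : ℂ) * ϑ' 1
    have h1 := hψs 1
    rw [map_one] at h1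
    rw [h1, ← hφΓ, hμK ⟨z, hkerK z hz⟩, hlamdef]
    exact datum_compare_ker N p s ϑ' ϑ hps hϑs N le_rfl ϑ (fun n => rfl) lam0 hlam1 z hz
      (hkerK z hz)
  obtain ⟨ψ', hψ', hψeq⟩ := helper24.irr_deflation p.ker hψ hψker
  obtain ⟨e, he⟩ : ∃ e : Γ ⧸ p.ker ≃* G, e = QuotientGroup.quotientKerEquivOfSurjective p hp :=
    ⟨_, rfl⟩
  refine ⟨fun g => ψ' (e.symm g), helper8.isIrrCharacter_comp_mulEquiv e.symm hψ', fun n => ?_⟩
  have h1 : e.symm (n : G) = ((s n : Γ) : Γ ⧸ p.ker) := by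
    rw [MulEquiv.symm_apply_eq, he]
    exact (hps n).symm
  show ψ' (e.symm (n : G)) = ϑ n
  rw [h1, ← hψs n]
  exact (congrFun hψeq (s n)).symm

end Main

end Cfsg.Agent.helper22
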