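import Mathlib
import Cfsg.Agent.Lib_helper1_PRat1
import Cfsg.Agent.Lib_helper22_DetExt
import Cfsg.Agent.S0888
import Cfsg.Agent.S4551
import Cfsg.Agent.S0867

set_option autoImplicit false
set_option linter.unusedSectionVars false
set_option linter.unusedVariables false
set_option linter.style.longLine false
set_option linter.style.haveILetI false

/-!
p-rational extension in the principal block (helper1), part 3: existence of some extension.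
-/

namespace Cfsg.Agent.helper1

open Cfsg Cfsg.Agent.helper24
open scoped ComplexConjugate

universe u

section PRatExt
variable {G : Type u} [Group G] [Fintype G] (N : Subgroup G) [hN : N.Normal] [Fintype N]

/-- extension over a subgroup of `p'`-index over `N` contained in `N C_G(P)` (Alperin–Dade) -/
theorem prat_ext_J (p : ℕ) [Fact p.Prime] {M : Ideal AlgInt} (hM : IsPModular p M)
    (P : Sylow p ↥N)
    (θ : IrrCharacter ↥N) (hθ : θ ∈ principalBlock M ↥N)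
    (J : Subgroup G) (hNJ : N ≤ J) (hidx : ¬ p ∣ N.relIndex J)
    (hJL : J ≤ N ⊔ Subgroup.centralizer (((P : Subgroup ↥N).map N.subtype : Subgroup G) : Set G)) :
    ∃ η : ↥J → ℂ, IsIrrCharacter ↥J η ∧ ∀ n : N, η ⟨(n : G), hNJ n.2⟩ = (θ : ↥N → ℂ) n := by
  classical
  haveI : Fintype ↥J := Fintype.ofFinite _
  haveI : Fintype ↥(N.subgroupOf J) := Fintype.ofFinite _
  obtain ⟨Q, hQ⟩ : ∃ Q : Subgroup G, Q = (P : Subgroup ↥N).map N.subtype := ⟨_, rfl⟩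
  rw [← hQ] at hJL
  have hQN : Q ≤ N := by rw [hQ]; exact Subgroup.map_subtype_le _
  have hidx' : ¬ p ∣ (N.subgroupOf J).index := hidx
  have hcard : Nat.card ↥(Q.subgroupOf J) = p ^ (Nat.card ↥J).factorization p := by
    have h1 : Nat.card ↥(Q.subgroupOf J) = Nat.card Q :=
      Nat.card_congr (Subgroup.subgroupOfEquivOfLe (hQN.trans hNJ)).toEquiv
    have h2 : Nat.card Q = Nat.card (P : Subgroup ↥N) := by
      rw [hQ]; exact Subgroup.card_map_of_injective N.subtype_injective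
    have h3 := P.card_eq_multiplicity
    have h4 : Nat.card ↥(N.subgroupOf J) = Nat.card N :=
      Nat.card_congr (Subgroup.subgroupOfEquivOfLe hNJ).toEquiv
    have h5 : Nat.card ↥(N.subgroupOf J) * (N.subgroupOf J).index = Nat.card ↥J :=
      Subgroup.card_mul_index _
    rw [h1, h2, h3, ← h5, h4, Nat.factorization_mul Nat.card_pos.ne' Subgroup.index_ne_zero_of_finite,
      Finsupp.add_apply, Nat.factorization_eq_zero_of_not_dvd hidx', add_zero]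
  obtain ⟨PJ, hPJ⟩ : ∃ PJ : Sylow p ↥J, (PJ : Subgroup ↥J) = Q.subgroupOf J :=
    ⟨Sylow.ofCard (Q.subgroupOf J) hcard, rfl⟩
  have hsupJ : N.subgroupOf J ⊔ Subgroup.centralizer ((PJ : Subgroup ↥J) : Set ↥J) = ⊤ := by
    have h1 := prat_sub_sup N (Subgroup.centralizer (Q : Set G)) J hNJ hJL
    rw [eq_top_iff, ← h1]
    apply sup_le_sup_left
    intro c hc
    rw [Subgroup.mem_subgroupOf] at hc
    rw [Subgroup.mem_centralizer_iff]
    intro q hq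
    have hq' : (q : G) ∈ Q := by
      have : q ∈ (PJ : Subgroup ↥J) := hq
      rw [hPJ, Subgroup.mem_subgroupOf] at this
      exact this
    apply Subtype.ext
    exact (Subgroup.mem_centralizer_iff.mp hc) (q : G) hq'
  obtain ⟨θ', hθ'⟩ : ∃ θ' : IrrCharacter ↥(N.subgroupOf J),
      θ' = ⟨fun h => (θ : ↥N → ℂ) (Subgroup.subgroupOfEquivOfLe hNJ h),
        helper8.isIrrCharacter_comp_mulEquiv (Subgroup.subgroupOfEquivOfLe hNJ) θ.2⟩ := ⟨_, rfl⟩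
  have hθ'B : θ' ∈ principalBlock M ↥(N.subgroupOf J) := by
    rw [hθ']
    exact comp_mulEquiv_mem_principalBlock (Subgroup.subgroupOfEquivOfLe hNJ) p M hM θ hθ
  obtain ⟨χ, ⟨-, hχext⟩, -⟩ :=
    (Cfsg.Agent.S4551.result p M hM (N.subgroupOf J) hidx' PJ hsupJ).2 θ' hθ'B
  refine ⟨(χ : ↥J → ℂ), χ.2, fun n => ?_⟩
  have hk : (⟨(n : G), hNJ n.2⟩ : ↥J) ∈ N.subgroupOf J := Subgroup.mem_subgroupOf.mpr n.2
  have h1 := hχext ⟨⟨(n : G), hNJ n.2⟩, hk⟩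
  rw [hθ'] at h1
  exact h1

/-- extension over a subgroup of `p`-power index over `N` -/
theorem prat_ext_p (p : ℕ) [Fact p.Prime] (θ : ↥N → ℂ) (hθ : IsIrrCharacter N θ)
    (hinv : ∀ (g : G) (n : N), θ ⟨g * n * g⁻¹, hN.conj_mem (n : G) n.2 g⟩ = θ n)
    (d : ℕ) (hd : θ 1 = d) (hpd : ¬ p ∣ d) (c₂ : ℕ) (hc₂ : ¬ p ∣ c₂)
    (hdet : ∀ x : N, detChar θ x ^ c₂ = 1)
    (J : Subgroup G) (hNJ : N ≤ J) (j : ℕ) (hrel : N.relIndex J = p ^ j) :
    ∃ η : ↥J → ℂ, IsIrrCharacter ↥J η ∧ ∀ n : N, η ⟨(n : G), hNJ n.2⟩ = θ n := by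
  classical
  haveI : Fintype ↥J := Fintype.ofFinite _
  obtain ⟨N', hN'def⟩ : ∃ N' : Subgroup ↥J, N' = N.subgroupOf J := ⟨_, rfl⟩
  have hN'n : N'.Normal := by
    rw [hN'def]
    exact Subgroup.normal_subgroupOf
  haveI : Fintype ↥N' := Fintype.ofFinite _
  have hN'idx : N'.index = p ^ j := by
    rw [hN'def]
    exact hrel
  have hmemN' : ∀ a : ↥J, a ∈ N' ↔ (a : G) ∈ N := by
    intro a
    rw [hN'def, Subgroup.mem_subgroupOf]
  obtain ⟨ε, hε⟩ : ∃ ε : ↥N' ≃* ↥N, ∀ a : ↥N', ((ε a : N) : G) = ((a : ↥J) : G) := by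
    subst hN'def
    exact ⟨Subgroup.subgroupOfEquivOfLe hNJ, fun a => rfl⟩
  obtain ⟨θ', hθ'def⟩ : ∃ θ' : ↥N' → ℂ, θ' = fun a => θ (ε a) := ⟨_, rfl⟩
  have hθ'irr : IsIrrCharacter ↥N' θ' := by
    rw [hθ'def]
    exact helper8.isIrrCharacter_comp_mulEquiv ε hθ
  have hθ'inv : ∀ (h : ↥J) (a : ↥N'),
      θ' ⟨h * a * h⁻¹, hN'n.conj_mem (a : ↥J) a.2 h⟩ = θ' a := by
    intro h a
    rw [hθ'def]
    show θ (ε ⟨h * a * h⁻¹, hN'n.conj_mem (a : ↥J) a.2 h⟩) = θ (ε a)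
    have h1 : ε ⟨h * a * h⁻¹, hN'n.conj_mem (a : ↥J) a.2 h⟩ =
        ⟨(h : G) * ((ε a : N) : G) * (h : G)⁻¹, hN.conj_mem _ (ε a).2 (h : G)⟩ := by
      apply Subtype.ext
      show ((ε ⟨h * a * h⁻¹, hN'n.conj_mem (a : ↥J) a.2 h⟩ : N) : G) =
        (h : G) * ((ε a : N) : G) * (h : G)⁻¹
      rw [hε, hε]
      rfl
    rw [h1]
    exact hinv (h : G) (ε a)
  have hd' : θ' 1 = d := by
    rw [hθ'def]
    show θ (ε 1) = d
    rw [map_one, hd]
  have hdetdvd : detOrder θ' ∣ c₂ := by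
    unfold detOrder
    apply orderOf_dvd_of_pow_eq_one
    funext a
    rw [Pi.pow_apply, hθ'def, helper22.detChar_comp_mulEquiv ε hθ a, hdet]
    rfl
  have hcop : Nat.Coprime N'.index (detOrder θ' * d) := by
    rw [hN'idx]
    apply Nat.Coprime.pow_left
    rw [Nat.Prime.coprime_iff_not_dvd (Fact.out : p.Prime)]
    intro hdvd
    rcases (Nat.Prime.dvd_mul (Fact.out : p.Prime)).mp hdvd with h | h
    · exact hc₂ (h.trans hdetdvd)
    · exact hpd h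
  obtain ⟨χ, ⟨hχ, hχN, -⟩, -⟩ := Cfsg.Agent.S0867.result N' θ' hθ'irr hθ'inv d hd' hcop
  refine ⟨χ, hχ, fun m => ?_⟩
  have hmN' : (⟨(m : G), hNJ m.2⟩ : ↥J) ∈ N' := by
    rw [hmemN']
    exact m.2
  have h2 : χ ⟨(m : G), hNJ m.2⟩ = θ' ⟨⟨(m : G), hNJ m.2⟩, hmN'⟩ :=
    hχN ⟨⟨(m : G), hNJ m.2⟩, hmN'⟩
  rw [h2, hθ'def]
  show θ (ε ⟨⟨(m : G), hNJ m.2⟩, hmN'⟩) = θ m
  congr 1
  apply Subtype.ext
  rw [hε]

/-- existence of an extension -/
theorem prat_exists_ext (p : ℕ) [Fact p.Prime] {M : Ideal AlgInt} (hM : IsPModular p M)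
    (P : Sylow p ↥N)
    (hcov : ∀ J : Subgroup G, N ≤ J → ¬ p ∣ N.relIndex J →
      J ≤ N ⊔ Subgroup.centralizer (((P : Subgroup ↥N).map N.subtype : Subgroup G) : Set G))
    (θ : IrrCharacter ↥N) (hθ : θ ∈ principalBlock M ↥N)
    (hinv : ∀ (g : G) (n : N),
      (θ : ↥N → ℂ) ⟨g * n * g⁻¹, hN.conj_mem (n : G) n.2 g⟩ = (θ : ↥N → ℂ) n)
    (d : ℕ) (hd : (θ : ↥N → ℂ) 1 = d) (hpd : ¬ p ∣ d) (c₂ : ℕ) (hc₂ : ¬ p ∣ c₂)
    (hdet : ∀ x : N, detChar (θ : ↥N → ℂ) x ^ c₂ = 1) :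
    ∃ ψ : G → ℂ, IsIrrCharacter G ψ ∧ ∀ n : N, ψ n = (θ : ↥N → ℂ) n := by
  classical
  apply Cfsg.Agent.S0888.result N (θ : ↥N → ℂ) θ.2 hinv
  intro q hq
  have : Fact q.Prime := ⟨hq⟩
  obtain ⟨S⟩ : Nonempty (Sylow q (G ⧸ N)) := inferInstance
  obtain ⟨J, hJdef⟩ : ∃ J : Subgroup G,
      J = (S : Subgroup (G ⧸ N)).comap (QuotientGroup.mk' N) := ⟨_, rfl⟩
  have hNJ : N ≤ J := by
    intro x hx
    rw [hJdef, Subgroup.mem_comap, QuotientGroup.mk'_apply, (QuotientGroup.eq_one_iff x).2 hx]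
    exact (S : Subgroup (G ⧸ N)).one_mem
  have hJidx : J.index = (S : Subgroup (G ⧸ N)).index := by
    rw [hJdef, Subgroup.index_comap_of_surjective _ (QuotientGroup.mk'_surjective N)]
  have hcop : Nat.Coprime J.index q := by
    rw [hJidx]
    exact ((Nat.Prime.coprime_iff_not_dvd hq).2 S.not_dvd_index).symm
  obtain ⟨j, hj⟩ := IsPGroup.iff_card.1 S.isPGroup'
  have hrel : N.relIndex J = q ^ j := by
    have h1 := Subgroup.relIndex_mul_index hNJ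
    have h2 := (S : Subgroup (G ⧸ N)).card_mul_index
    rw [← Subgroup.index_eq_card N, ← h1, hJidx, hj] at h2
    have hpos : 0 < (S : Subgroup (G ⧸ N)).index := by
      have h3 : (S : Subgroup (G ⧸ N)).index ≠ 0 := Subgroup.index_ne_zero_of_finite
      omega
    exact (Nat.eq_of_mul_eq_mul_right hpos h2).symm
  by_cases hqp : q = p
  · subst hqp
    obtain ⟨η, h1, h2⟩ := prat_ext_p N q (θ : ↥N → ℂ) θ.2 hinv d hd hpd c₂ hc₂ hdet J hNJ j hrel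
    exact ⟨J, hNJ, η, hcop, ⟨j, hrel⟩, h1, h2⟩
  · have hidx : ¬ p ∣ N.relIndex J := by
      rw [hrel]
      intro h
      exact hqp ((Nat.prime_dvd_prime_iff_eq (Fact.out : p.Prime) hq).mp
        ((Fact.out : p.Prime).dvd_of_dvd_pow h)).symm
    obtain ⟨η, h1, h2⟩ := prat_ext_J N p hM P θ hθ J hNJ hidx (hcov J hNJ hidx)
    exact ⟨J, hNJ, η, hcop, ⟨j, hrel⟩, h1, h2⟩

end PRatExt

end Cfsg.Agent.helper1
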