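import Mathlib
import Cfsg.Agent.Lib_helper1_PRat1
import Cfsg.Agent.Lib_helper22_Glaub2

set_option autoImplicit false
set_option linter.unusedSectionVars false
set_option linter.unusedVariables false
set_option linter.style.longLine false
set_option linter.style.haveILetI false

/-!
p-rational extension in the principal block (helper1), part 4: the good extensions, uniqueness
and construction.
-/

namespace Cfsg.Agent.helper1

open Cfsg Cfsg.Agent.helper24
open scoped ComplexConjugate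

universe u

section Arith

theorem prat_exists_w (q e : ℕ) (hq : 0 < q) (h : Nat.Coprime e q) : ∃ w, q ∣ w * e + 1 := by
  refine ⟨(q - 1) * e ^ (Nat.totient q - 1), ?_⟩
  have hφ : 1 ≤ Nat.totient q := Nat.totient_pos.mpr hq
  have h1 : (q - 1) * e ^ (Nat.totient q - 1) * e + 1 = (q - 1) * e ^ (Nat.totient q) + 1 := by
    rw [mul_assoc, ← pow_succ]
    congr 3
    omega
  rw [h1]
  have h2 : e ^ Nat.totient q ≡ 1 [MOD q] := Nat.ModEq.pow_totient h
  have h3 : (q - 1) * e ^ (Nat.totient q) + 1 ≡ (q - 1) * 1 + 1 [MOD q] :=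
    Nat.ModEq.add_right 1 (Nat.ModEq.mul_left (q - 1) h2)
  have h4 : (q - 1) * 1 + 1 = q := by omega
  rw [h4] at h3
  exact (Nat.modEq_zero_iff_dvd).mp (h3.trans (Nat.modEq_zero_iff_dvd.mpr (dvd_refl q)))

end Arith

section Good
variable {G : Type u} [Group G] [Fintype G] (N : Subgroup G) [hN : N.Normal] [Fintype N]

/-- the good extensions: constant coset sums on `p`-regular elements -/
def PRatGood (p : ℕ) (N : Subgroup G) [Fintype N] (χ : G → ℂ) : Prop :=
  adF p N χ 1 ≠ 0 ∧ ∀ y : G, ¬ p ∣ orderOf y → adF p N χ y = adF p N χ 1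

/-- twisting by a homomorphism trivial on `N` -/
theorem prat_adF_twist (p : ℕ) (φ : G →* ℂˣ) (hφ : ∀ n : N, φ (n : G) = 1) (χ : G → ℂ) (y : G) :
    adF p N (fun g => ((φ g : ℂˣ) : ℂ) * χ g) y = ((φ y : ℂˣ) : ℂ) * adF p N χ y := by
  unfold adF
  rw [Finset.mul_sum]
  apply Finset.sum_congr rfl
  intro k _
  by_cases h : ¬ p ∣ orderOf (y * (k : G))
  · rw [if_pos h, if_pos h]
    show ((φ (y * (k : G)) : ℂˣ) : ℂ) * χ (y * (k : G)) = _
    rw [map_mul, hφ k, mul_one]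
  · rw [if_neg h, if_neg h, mul_zero]

/-- twisting by a homomorphism trivial on `p`-regular elements -/
theorem prat_adF_twist_reg (p : ℕ) (φ : G →* ℂˣ) (hφ : ∀ x : G, ¬ p ∣ orderOf x → φ x = 1)
    (χ : G → ℂ) (y : G) :
    adF p N (fun g => ((φ g : ℂˣ) : ℂ) * χ g) y = adF p N χ y := by
  unfold adF
  apply Finset.sum_congr rfl
  intro k _
  by_cases h : ¬ p ∣ orderOf (y * (k : G))
  · rw [if_pos h, if_pos h]
    show ((φ (y * (k : G)) : ℂˣ) : ℂ) * χ (y * (k : G)) = _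
    rw [hφ _ h, Units.val_one, one_mul]
  · rw [if_neg h, if_neg h]

/-- power maps fixing `p`-regular elements -/
theorem prat_adF_pow (p : ℕ) (t : ℕ) (ht : ∀ x : G, ¬ p ∣ orderOf x → x ^ t = x) (χ : G → ℂ) (y : G) :
    adF p N (fun g => χ (g ^ t)) y = adF p N χ y := by
  unfold adF
  apply Finset.sum_congr rfl
  intro k _
  by_cases h : ¬ p ∣ orderOf (y * (k : G))
  · rw [if_pos h, if_pos h]
    show χ ((y * (k : G)) ^ t) = _
    rw [ht _ h]
  · rw [if_neg h, if_neg h]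

theorem prat_good_pow (p : ℕ) (t : ℕ) (ht : ∀ x : G, ¬ p ∣ orderOf x → x ^ t = x) {χ : G → ℂ}
    (h : PRatGood p N χ) : PRatGood p N (fun g => χ (g ^ t)) := by
  refine ⟨?_, fun y hy => ?_⟩
  · rw [prat_adF_pow N p t ht]; exact h.1
  · rw [prat_adF_pow N p t ht, prat_adF_pow N p t ht]; exact h.2 y hy

/-- uniqueness of the good extension with `p'`-determinantal order -/
theorem prat_unique (p : ℕ) [hp : Fact p.Prime] (θ : ↥N → ℂ) (hθ : IsIrrCharacter N θ) (d : ℕ)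
    (hd : θ 1 = d) (hpd : ¬ p ∣ d) {χ χ' : G → ℂ} (hχ : IsIrrCharacter G χ)
    (hχ' : IsIrrCharacter G χ') (e : ∀ n : N, χ n = θ n) (e' : ∀ n : N, χ' n = θ n)
    (hg : PRatGood p N χ) (hg' : PRatGood p N χ') (hdet : ¬ p ∣ detOrder χ)
    (hdet' : ¬ p ∣ detOrder χ') : χ' = χ := by
  classical
  haveI : Fintype (IrrCharacter (G ⧸ N)) := Fintype.ofFinite _
  haveI : Fintype (G ⧸ N) := Fintype.ofFinite _
  have hres : helper5.res N χ = θ := funext e
  have hres' : helper5.res N χ' = θ := funext e'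
  obtain ⟨-, -, g3⟩ := helper22.gallagher N hχ (hres.symm ▸ hθ)
  obtain ⟨β, hβ⟩ := g3 χ' hχ' (by rw [hres, hres', irr_classInner_self hθ]; exact one_ne_zero)
  have hd0 : (d : ℂ) ≠ 0 := by
    rw [← hd]
    exact irr_apply_one_ne_zero hθ
  have hχ1 : χ 1 = d := by
    have := e 1
    rw [Subgroup.coe_one] at this
    rw [this, hd]
  have hχ'1 : χ' 1 = d := by
    have := e' 1
    rw [Subgroup.coe_one] at this
    rw [this, hd]
  have hβ1 : (β : G ⧸ N → ℂ) 1 = 1 := by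
    have h2 : χ' 1 = (β : G ⧸ N → ℂ) 1 * χ 1 := by rw [hβ]; rfl
    rw [hχ'1, hχ1] at h2
    have h3 : (1 : ℂ) * d = (β : G ⧸ N → ℂ) 1 * d := by rw [one_mul]; exact h2
    exact (mul_right_cancel₀ hd0 h3).symm
  obtain ⟨φβ, hφβ⟩ := (helper22.linear_iff_hom (χ := (β : G ⧸ N → ℂ))).mp
    ⟨irr_isCharacter β.2, hβ1⟩
  obtain ⟨φ, hφdef⟩ : ∃ φ : G →* ℂˣ, φ = φβ.comp (QuotientGroup.mk' N) := ⟨_, rfl⟩
  have hφN : ∀ n : N, φ (n : G) = 1 := by
    intro n
    rw [hφdef]
    show φβ ((n : G) : G ⧸ N) = 1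
    rw [(QuotientGroup.eq_one_iff (n : G)).mpr n.2, map_one]
  have hχ'eq : χ' = fun g => ((φ g : ℂˣ) : ℂ) * χ g := by
    funext g
    rw [hβ, hφdef]
    show helper22.infl N (β : G ⧸ N → ℂ) g * χ g = _
    rw [helper22.infl_apply, hφβ]
    rfl
  -- `φ` is trivial on `p`-regular elements
  have hreg : ∀ y : G, ¬ p ∣ orderOf y → ((φ y : ℂˣ) : ℂ) = 1 := by
    intro y hy
    have h1 := hg'.2 y hy
    rw [hχ'eq, prat_adF_twist N p φ hφN χ y, prat_adF_twist N p φ hφN χ 1, map_one, Units.val_one,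
      one_mul, hg.2 y hy] at h1
    have h2 : ((φ y : ℂˣ) : ℂ) * adF p N χ 1 = 1 * adF p N χ 1 := by rw [one_mul]; exact h1
    exact mul_right_cancel₀ hg.1 h2
  -- the `p`-part of the group order
  obtain ⟨B, hB⟩ : ∃ B, B = (Nat.card G).factorization p := ⟨_, rfl⟩
  obtain ⟨c, hc⟩ : ∃ c, c = Nat.card G / p ^ B := ⟨_, rfl⟩
  have hcard : p ^ B * c = Nat.card G := by
    rw [hc, hB]; exact Nat.ordProj_mul_ordCompl_eq_self _ p
  have hpc : ¬ p ∣ c := by
    rw [hc, hB]; exact Nat.not_dvd_ordCompl hp.out Nat.card_pos.ne'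
  have hq : ∀ g : G, ((φ g : ℂˣ) : ℂ) ^ (p ^ B) = 1 := by
    intro g
    rw [← Units.val_pow_eq_pow_val, ← map_pow]
    apply hreg
    intro hdiv
    apply hpc
    refine hdiv.trans (orderOf_dvd_of_pow_eq_one ?_)
    rw [← pow_mul, hcard, pow_card_eq_one']
  obtain ⟨D, hD⟩ := helper22.exists_detHom hχ
  have hdetχ : ∀ g, detChar χ g ^ detOrder χ = 1 := by
    intro g
    have h1 : detChar χ ^ detOrder χ = 1 := pow_orderOf_eq_one _
    have := congrFun h1 g
    rwa [Pi.pow_apply, Pi.one_apply] at this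
  have hdetχ' : ∀ g, detChar χ' g ^ detOrder χ' = 1 := by
    intro g
    have h1 : detChar χ' ^ detOrder χ' = 1 := pow_orderOf_eq_one _
    have := congrFun h1 g
    rwa [Pi.pow_apply, Pi.one_apply] at this
  have htw : ∀ g, detChar χ' g = ((φ g : ℂˣ) : ℂ) ^ d * detChar χ g := by
    intro g
    rw [hχ'eq]
    exact helper22.detChar_twist φ hχ d hχ1 g
  have hpow : ∀ g : G, ((φ g : ℂˣ) : ℂ) ^ (d * (detOrder χ * detOrder χ')) = 1 := by
    intro g
    have h1 : (detChar χ' g) ^ (detOrder χ * detOrder χ') = 1 := by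
      rw [mul_comm, pow_mul, hdetχ', one_pow]
    have h2 : (detChar χ g) ^ (detOrder χ * detOrder χ') = 1 := by
      rw [pow_mul, hdetχ, one_pow]
    rw [htw g, mul_pow, h2, mul_one, ← pow_mul] at h1
    exact h1
  have hcop : Nat.Coprime (d * (detOrder χ * detOrder χ')) (p ^ B) := by
    apply Nat.Coprime.pow_right
    apply Nat.Coprime.symm
    rw [Nat.Prime.coprime_iff_not_dvd hp.out]
    intro hdvd
    rcases (Nat.Prime.dvd_mul hp.out).mp hdvd with h | h
    · exact hpd h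
    · rcases (Nat.Prime.dvd_mul hp.out).mp h with h | h
      · exact hdet h
      · exact hdet' h
  funext g
  rw [hχ'eq]
  have h1 : orderOf ((φ g : ℂˣ) : ℂ) ∣ Nat.gcd (d * (detOrder χ * detOrder χ')) (p ^ B) :=
    Nat.dvd_gcd (orderOf_dvd_of_pow_eq_one (hpow g)) (orderOf_dvd_of_pow_eq_one (hq g))
  rw [hcop] at h1
  have h2 : ((φ g : ℂˣ) : ℂ) = 1 := orderOf_eq_one_iff.mp (Nat.dvd_one.mp h1)
  show ((φ g : ℂˣ) : ℂ) * χ g = χ g
  rw [h2, one_mul]

end Good

end Cfsg.Agent.helper1
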