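import Mathlib
import Cfsg.Agent.Lib_helper1_PRat4

set_option autoImplicit false
set_option linter.unusedSectionVars false
set_option linter.unusedVariables false
set_option linter.style.longLine false
set_option linter.style.haveILetI false

/-!
p-rational extension in the principal block (helper1), part 5: construction of the good extension
with `p'`-determinantal order.
-/

namespace Cfsg.Agent.helper1

open Cfsg Cfsg.Agent.helper24
open scoped ComplexConjugate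

universe u

section Construct
variable {G : Type u} [Group G] [Fintype G] (N : Subgroup G) [hN : N.Normal] [Fintype N]

theorem prat_construct (p : ℕ) [hp : Fact p.Prime] {ψ : G → ℂ} (hψ : IsIrrCharacter G ψ)
    (θ : ↥N → ℂ) (hθ : IsIrrCharacter N θ) (hres : ∀ n : N, ψ n = θ n) (htw : ADTw p N ψ)
    (hs : adF p N ψ 1 ≠ 0) (d : ℕ) (hd : θ 1 = d) (hpd : ¬ p ∣ d) (c₂ : ℕ) (hc₂ : ¬ p ∣ c₂)
    (hdet : ∀ x : N, detChar θ x ^ c₂ = 1) :
    ∃ χ : G → ℂ, IsIrrCharacter G χ ∧ (∀ n : N, χ n = θ n) ∧ PRatGood p N χ ∧ ¬ p ∣ detOrder χ ∧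
      ∑ x ∈ Finset.univ.filter (fun x : G => ¬ p ∣ orderOf x), χ x ≠ 0 := by
  classical
  obtain ⟨k, hk1, hk0, hk2, hk3⟩ := ad_exists_k G p
  have hψc : IsCharacter G ψ := irr_isCharacter hψ
  have hcf : IsClassFunction G ψ := char_isClassFunction hψc
  obtain ⟨φ₀, hφ₀⟩ := ad_nu_hom N p htw hs hcf k hk1 hk2 hk3
  have hφ₀N : ∀ n : N, φ₀ (n : G) = 1 := by
    intro n
    apply Units.ext
    rw [← hφ₀, ad_nu_N N p hs k n]
    rfl
  obtain ⟨χ₀, hχ₀def⟩ : ∃ χ₀ : G → ℂ, χ₀ = fun g => ((φ₀ g : ℂˣ) : ℂ) * ψ g := ⟨_, rfl⟩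
  have hχ₀ : IsIrrCharacter G χ₀ := hχ₀def ▸ helper22.twist_isIrr φ₀ hψ
  have hχ₀N : ∀ n : N, χ₀ n = θ n := by
    intro n
    rw [hχ₀def]
    show ((φ₀ (n : G) : ℂˣ) : ℂ) * ψ n = _
    rw [hφ₀N, Units.val_one, one_mul, hres]
  have hχ₀1 : χ₀ 1 = d := by
    have := hχ₀N 1
    rw [Subgroup.coe_one] at this
    rw [this, hd]
  obtain ⟨D₀, hD₀⟩ := helper22.exists_detHom hχ₀
  obtain ⟨B, hB⟩ : ∃ B, B = (Nat.card G).factorization p := ⟨_, rfl⟩
  obtain ⟨c, hc⟩ : ∃ c, c = Nat.card G / p ^ B := ⟨_, rfl⟩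
  have hcard : p ^ B * c = Nat.card G := by
    rw [hc, hB]; exact Nat.ordProj_mul_ordCompl_eq_self _ p
  have hpc : ¬ p ∣ c := by
    rw [hc, hB]; exact Nat.not_dvd_ordCompl hp.out Nat.card_pos.ne'
  have hres₀ : helper5.res N χ₀ = θ := funext hχ₀N
  have hD₀N : ∀ n : N, ((D₀ (n : G) : ℂˣ) : ℂ) ^ c₂ = 1 := by
    intro n
    rw [← hD₀, ← helper22.detChar_res N hχ₀ (hres₀.symm ▸ hθ) n, hres₀]
    exact hdet n
  have hcop : Nat.Coprime (c * c₂ * d) (p ^ B) := by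
    apply Nat.Coprime.pow_right
    apply Nat.Coprime.symm
    rw [Nat.Prime.coprime_iff_not_dvd hp.out]
    intro hdvd
    rcases (Nat.Prime.dvd_mul hp.out).mp hdvd with h | h
    · rcases (Nat.Prime.dvd_mul hp.out).mp h with h | h
      · exact hpc h
      · exact hc₂ h
    · exact hpd h
  obtain ⟨w, hw⟩ := prat_exists_w (p ^ B) (c * c₂ * d) (pow_pos hp.out.pos B) hcop
  obtain ⟨u, hu⟩ : ∃ u, u = w * (c * c₂) := ⟨_, rfl⟩
  have hud : p ^ B ∣ u * d + 1 := by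
    have : u * d + 1 = w * (c * c₂ * d) + 1 := by rw [hu]; ring
    rw [this]
    exact hw
  obtain ⟨μ, hμ⟩ : ∃ μ : G →* ℂˣ, μ = D₀ ^ u := ⟨_, rfl⟩
  have hμreg : ∀ x : G, ¬ p ∣ orderOf x → μ x = 1 := by
    intro x hx
    rw [hμ, MonoidHom.pow_apply, ← map_pow]
    have hxu : x ^ u = 1 := by
      apply orderOf_dvd_iff_pow_eq_one.mp
      have h1 : orderOf x ∣ p ^ B * c := hcard ▸ orderOf_dvd_natCard x
      have h2 : Nat.Coprime (orderOf x) (p ^ B) :=
        Nat.Coprime.pow_right B ((Nat.Prime.coprime_iff_not_dvd hp.out).mpr hx).symm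
      have h3 : orderOf x ∣ c := h2.dvd_of_dvd_mul_left h1
      rw [hu]
      exact h3.trans ((dvd_mul_right c c₂).trans (dvd_mul_left _ w))
    rw [hxu, map_one]
  have hμN : ∀ n : N, μ (n : G) = 1 := by
    intro n
    apply Units.ext
    rw [hμ, MonoidHom.pow_apply, Units.val_pow_eq_pow_val, Units.val_one]
    have : u = c₂ * (c * w) := by rw [hu]; ring
    rw [this, pow_mul, hD₀N, one_pow]
  obtain ⟨χ, hχdef⟩ : ∃ χ : G → ℂ, χ = fun g => ((μ g : ℂˣ) : ℂ) * χ₀ g := ⟨_, rfl⟩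
  have hχ : IsIrrCharacter G χ := hχdef ▸ helper22.twist_isIrr μ hχ₀
  refine ⟨χ, hχ, ?_, ?_, ?_, ?_⟩
  · intro n
    rw [hχdef]
    show ((μ (n : G) : ℂˣ) : ℂ) * χ₀ n = _
    rw [hμN, Units.val_one, one_mul, hχ₀N]
  · have hF : ∀ y, adF p N χ y = ((φ₀ y : ℂˣ) : ℂ) * adF p N ψ y := by
      intro y
      rw [hχdef, prat_adF_twist_reg N p μ hμreg χ₀ y, hχ₀def, prat_adF_twist N p φ₀ hφ₀N ψ y]
    have hF1 : adF p N χ 1 = adF p N ψ 1 := by rw [hF, map_one, Units.val_one, one_mul]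
    refine ⟨by rw [hF1]; exact hs, fun y hy => ?_⟩
    rw [hF1, hF, ← hφ₀]
    have hne : adF p N ψ y ≠ 0 := by
      intro h0
      have h1 := hφ₀ y
      unfold adNu at h1
      rw [hk0 y hy, h0, div_zero] at h1
      exact Units.ne_zero _ h1.symm
    unfold adNu
    rw [hk0 y hy, div_mul_cancel₀ _ hne]
  · have hdetχ : ∀ g, detChar χ g = ((D₀ g : ℂˣ) : ℂ) ^ (u * d + 1) := by
      intro g
      rw [hχdef, helper22.detChar_twist μ hχ₀ d hχ₀1 g, hD₀, hμ, MonoidHom.pow_apply,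
        Units.val_pow_eq_pow_val, ← pow_mul, ← pow_succ]
    have hord : detOrder χ ∣ c := by
      unfold detOrder
      apply orderOf_dvd_of_pow_eq_one
      funext g
      rw [Pi.pow_apply, hdetχ, ← pow_mul, ← Units.val_pow_eq_pow_val, ← map_pow]
      have hg1 : g ^ ((u * d + 1) * c) = 1 := by
        obtain ⟨z, hz⟩ := hud
        rw [hz, mul_assoc, mul_comm z, ← mul_assoc, hcard, pow_mul, pow_card_eq_one', one_pow]
      rw [hg1, map_one]
      rfl
    exact fun h => hpc (h.trans hord)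
  · have h1 := ad_sum_J N p (ψ := ψ) k hk0 hs ⊤ le_top
    rw [Finset.sum_filter]
    intro h0
    apply h1
    refine Eq.trans ?_ h0
    apply Finset.sum_congr rfl
    intro x _
    by_cases hx : ¬ p ∣ orderOf x
    · rw [if_pos ⟨Subgroup.mem_top x, hx⟩, if_pos hx, hχdef]
      show _ = ((μ x : ℂˣ) : ℂ) * χ₀ x
      rw [hμreg x hx, Units.val_one, one_mul, hχ₀def, hφ₀]
    · rw [if_neg (fun h => hx h.2), if_neg hx]

end Construct

end Cfsg.Agent.helper1
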