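import Mathlib
import Cfsg.Prelude
import Cfsg.Agent.Lib_helper1_Core
import Cfsg.Agent.Lib_helper1_Compl
import Cfsg.Agent.Lib_helper15_DualHH
import Cfsg.Agent.Lib_helper23_PSolv
import Cfsg.Agent.Lib_helper19_CN3
import Cfsg.Agent.Lib_lead_Coprime
import Cfsg.Agent.Lib_helper7_SN

set_option autoImplicit false
set_option linter.unusedVariables false
set_option linter.unusedSectionVars false
set_option linter.style.longLine false
set_option linter.style.haveILetI false

/-!
helper1: group-theoretic part of the Schur-type bound for `p`-solvable linear groups: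
a `p'`-subgroup `K0` normalised by a `p`-subgroup `P0` with `[P0 : C_{P0}(K0)] ≥ [G : O_p(G)]_p`.
-/

namespace Cfsg.Agent.helper1

open Cfsg
open Cfsg.Agent.helper7

universe u v

theorem psolv_gp_aux {G : Type u} [Group G] [Finite G] {Gb : Type v} [Group Gb] [Finite Gb]
    {p : ℕ} [hp : Fact p.Prime] (π : G →* Gb) (hsurj : Function.Surjective π)
    (Q : Subgroup G) [hQn : Q.Normal] (hker : π.ker = Q) (hQp : IsPGroup p Q)
    (Kb : Subgroup Gb) [hKbn : Kb.Normal] (hKbc : (Nat.card Kb).Coprime p)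
    (hHH : Subgroup.centralizer (Kb : Set Gb) ≤ Kb) :
    ∃ K0 P0 : Subgroup G, (Nat.card K0).Coprime p ∧ IsPGroup p P0 ∧
      P0 ≤ Subgroup.normalizer (K0 : Set G) ∧
      (Q.index).factorization p +
        (Nat.card (P0 ⊓ Subgroup.centralizer (K0 : Set G) : Subgroup G)).factorization p
        ≤ (Nat.card P0).factorization p := by
  classical
  have hpp : p.Prime := hp.out
  obtain ⟨K, hK⟩ : ∃ K : Subgroup G, K = Kb.comap π := ⟨_, rfl⟩
  haveI hKn : K.Normal := by rw [hK]; exact hKbn.comap π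
  have hQK : Q ≤ K := by
    rw [hK, ← hker]; exact Subgroup.ker_le_comap _ _
  have hKmap : K.map π = Kb := by
    rw [hK]; exact Subgroup.map_comap_eq_self_of_surjective hsurj _
  have hidx0 : Q.relIndex K = Nat.card Kb := by
    have h3 : Q.relIndex K = (Q.map π).relIndex (K.map π) := by
      rw [← Subgroup.relIndex_comap, Subgroup.comap_map_eq, hker, sup_idem]
    rw [h3, ← hker, (Subgroup.map_eq_bot_iff _).2 le_rfl, Subgroup.relIndex_bot_left, hKmap]
  -- Schur–Zassenhaus complement of Q in K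
  haveI hQKn : (Q.subgroupOf K).Normal := hQn.subgroupOf K
  obtain ⟨k, hk⟩ := IsPGroup.iff_card.1 hQp
  have hidx : (Q.subgroupOf K).index = Nat.card Kb := hidx0
  have hcopK : Nat.Coprime (Nat.card (Q.subgroupOf K)) (Q.subgroupOf K).index := by
    rw [lead.card_subgroupOf_of_le hQK, hidx, hk]
    exact Nat.Coprime.pow_left _ hKbc.symm
  obtain ⟨H', hH'⟩ := Subgroup.exists_right_complement'_of_coprime hcopK
  obtain ⟨K0, hK0⟩ : ∃ K0 : Subgroup G, K0 = H'.map K.subtype := ⟨_, rfl⟩
  have hK0K : K0 ≤ K := by rw [hK0]; exact Subgroup.map_subtype_le _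
  have hK0card : Nat.card K0 = Nat.card Kb := by
    rw [hK0, Subgroup.card_map_of_injective K.subtype_injective, ← hidx]
    exact hH'.symm.index_eq_card.symm
  have hK0c : (Nat.card K0).Coprime p := hK0card ▸ hKbc
  have hsup : Q ⊔ K0 = K := by
    have h1 : (Q.subgroupOf K) ⊔ H' = ⊤ := hH'.sup_eq_top
    have h2 := congrArg (Subgroup.map K.subtype) h1
    rw [Subgroup.map_sup, Subgroup.subgroupOf_map_subtype, inf_eq_left.2 hQK, ← hK0,
      ← MonoidHom.range_eq_map, Subgroup.range_subtype] at h2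
    exact h2
  -- Frattini
  haveI : Group.IsNilpotent Q := hQp.isNilpotent
  have hQsolv : Group.IsSolvable Q := inferInstance
  have hcop0 : (Nat.card K0).Coprime (Nat.card Q) := by
    rw [hk]; exact Nat.Coprime.pow_right _ hK0c
  have hfrat : ∀ g : G, ∃ d ∈ Q, d * g ∈ Subgroup.normalizer (K0 : Set G) := by
    intro g
    have hB : cj g K0 ≤ Q ⊔ K0 := by
      rw [hsup]
      intro x hx
      rw [mem_cj] at hx
      have h1 := hKn.conj_mem _ (hK0K hx) g
      have e : g * (g⁻¹ * x * g) * g⁻¹ = x := by group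
      rwa [e] at h1
    obtain ⟨d, hd, hdB⟩ := lead.sz_conj_semidirect K0 Q
      (by rw [Subgroup.normalizer_eq_top_iff.mpr hQn]; exact le_top) hcop0 (Or.inr hQsolv)
      (cj g K0) hB (card_cj g K0)
    refine ⟨d, hd, ?_⟩
    apply mem_normalizer_of_cj_eq
    rw [← cj_cj]
    exact hdB
  obtain ⟨N, hN⟩ : ∃ N : Subgroup G, N = Subgroup.normalizer (K0 : Set G) := ⟨_, rfl⟩
  have hQN : Q ⊔ N = ⊤ := by
    rw [eq_top_iff]
    intro g _
    obtain ⟨d, hd, hdg⟩ := hfrat g
    have e : g = d⁻¹ * (d * g) := by group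
    rw [e]
    exact Subgroup.mul_mem _ (Subgroup.mem_sup_left (Q.inv_mem hd))
      (Subgroup.mem_sup_right (hN ▸ hdg))
  -- the Sylow subgroup of N
  obtain ⟨S⟩ : Nonempty (Sylow p N) := inferInstance
  obtain ⟨P0, hP0⟩ : ∃ P0 : Subgroup G, P0 = (S : Subgroup N).map N.subtype := ⟨_, rfl⟩
  have hP0N : P0 ≤ N := by rw [hP0]; exact Subgroup.map_subtype_le _
  have hP0p : IsPGroup p P0 := by rw [hP0]; exact S.isPGroup'.map _
  have hP0card : Nat.card P0 = p ^ (Nat.card N).factorization p := by
    rw [hP0, Subgroup.card_map_of_injective N.subtype_injective]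
    exact S.card_eq_multiplicity
  -- counting
  have hcount : Nat.card N = Nat.card (Q ⊓ N : Subgroup G) * Q.index := by
    have h1 := card_sup_eq_of_normal Q N
    rw [hQN, Subgroup.card_top] at h1
    have h2 := Subgroup.card_mul_index Q
    have h3 : Q.index = Q.relIndex N := by
      have : Nat.card Q * Q.index = Nat.card Q * Q.relIndex N := by rw [h2, h1]
      exact Nat.eq_of_mul_eq_mul_left Nat.card_pos this
    have h4 := Subgroup.relIndex_mul_relIndex ⊥ (Q ⊓ N) N bot_le inf_le_right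
    rw [Subgroup.relIndex_bot_left, Subgroup.relIndex_bot_left, Subgroup.inf_relIndex_right] at h4
    rw [h3, h4]
  -- the key inclusion
  have hincl : P0 ⊓ Subgroup.centralizer (K0 : Set G) ≤ Q ⊓ N := by
    intro x hx
    obtain ⟨hx1, hx2⟩ := Subgroup.mem_inf.1 hx
    refine Subgroup.mem_inf.2 ⟨?_, hP0N hx1⟩
    rw [Subgroup.mem_centralizer_iff] at hx2
    have hπx : π x ∈ Subgroup.centralizer (Kb : Set Gb) := by
      rw [Subgroup.mem_centralizer_iff]
      intro y hy
      rw [← hKmap] at hy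
      obtain ⟨k', hk', rfl⟩ := hy
      rw [← hsup] at hk'
      obtain ⟨q, hq, k0, hk0, rfl⟩ := Subgroup.mem_sup_of_normal_left.1 hk'
      have hq1 : π q = 1 := by
        rw [← MonoidHom.mem_ker, hker]; exact hq
      rw [map_mul, hq1, one_mul, ← map_mul, ← map_mul, hx2 k0 hk0]
    have hπxK : π x ∈ Kb := hHH hπx
    obtain ⟨j, hj⟩ := (IsPGroup.iff_orderOf.1 hP0p) ⟨x, hx1⟩
    rw [Subgroup.orderOf_mk] at hj
    have h1 : orderOf (π x) ∣ p ^ j := by
      rw [← hj]; exact orderOf_map_dvd π x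
    have h2 : orderOf (π x) ∣ Nat.card Kb := Subgroup.orderOf_dvd_natCard _ hπxK
    have h3 : orderOf (π x) = 1 :=
      Nat.eq_one_of_dvd_coprimes (Nat.Coprime.pow_left j hKbc.symm) h1 h2
    rw [orderOf_eq_one_iff] at h3
    rw [← hker, MonoidHom.mem_ker]
    exact h3
  refine ⟨K0, P0, hK0c, hP0p, hN ▸ hP0N, ?_⟩
  have hd : Nat.card (P0 ⊓ Subgroup.centralizer (K0 : Set G) : Subgroup G) ∣
      Nat.card (Q ⊓ N : Subgroup G) := Subgroup.card_dvd_of_le hincl
  have h5 : (Nat.card (P0 ⊓ Subgroup.centralizer (K0 : Set G) : Subgroup G)).factorization p ≤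
      (Nat.card (Q ⊓ N : Subgroup G)).factorization p :=
    (Nat.factorization_le_iff_dvd Nat.card_pos.ne' Nat.card_pos.ne').2 hd p
  have hidxpos : Q.index ≠ 0 := Subgroup.index_ne_zero_of_finite
  have h6 : (Nat.card N).factorization p =
      (Nat.card (Q ⊓ N : Subgroup G)).factorization p + (Q.index).factorization p := by
    rw [hcount, Nat.factorization_mul Nat.card_pos.ne' hidxpos]
    rfl
  have h7 : (Nat.card P0).factorization p = (Nat.card N).factorization p := by
    rw [hP0card, Nat.factorization_pow]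
    simp [Nat.Prime.factorization_self hpp]
  rw [h7, h6]
  omega

theorem psolv_gp {G : Type u} [Group G] [Finite G] {p : ℕ} [hp : Fact p.Prime]
    (hsolv : Cfsg.IsPSolvable p G) :
    ∃ K0 P0 : Subgroup G, (Nat.card K0).Coprime p ∧ IsPGroup p P0 ∧
      P0 ≤ Subgroup.normalizer (K0 : Set G) ∧
      ((Cfsg.pCore p G).index).factorization p +
        (Nat.card (P0 ⊓ Subgroup.centralizer (K0 : Set G) : Subgroup G)).factorization p
        ≤ (Nat.card P0).factorization p := by
  classical
  have hpp : p.Prime := hp.out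
  haveI hQn : (pCore p G).Normal := helper1.pCore_normal p
  have hQp : IsPGroup p (pCore p G) := helper1.pCore_isPGroup p
  have hsurj : Function.Surjective (QuotientGroup.mk' (pCore p G)) := QuotientGroup.mk'_surjective _
  have hker : (QuotientGroup.mk' (pCore p G)).ker = pCore p G := QuotientGroup.ker_mk' _
  have hsolv' : IsPSolvable p (G ⧸ pCore p G) :=
    helper23.isPSolvable_of_surjective hpp _ hsurj hsolv
  have hO : pCore p (G ⧸ pCore p G) = ⊥ := helper19.CN.pCore_quot_pCore
  have hHH := helper15.DualHH.hall_higman_dual (helper23.isPSolvable_iff_psreach.mp hsolv') hO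
  haveI hKbn : (pPrimeCore p (G ⧸ pCore p G)).Normal := helper1.pPrimeCore_normal p
  have hKbc : (Nat.card (pPrimeCore p (G ⧸ pCore p G))).Coprime p := helper1.pPrimeCore_coprime p
  exact psolv_gp_aux (QuotientGroup.mk' (pCore p G)) hsurj (pCore p G) hker hQp
    (pPrimeCore p (G ⧸ pCore p G)) hKbc hHH

end Cfsg.Agent.helper1
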