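import Mathlib
import Cfsg.Prelude.Def_Characters
import Cfsg.Agent.Lib_helper24_Char
import Cfsg.Agent.Lib_helper12_CharOps
import Cfsg.Agent.Lib_helper23_Central
import Cfsg.Agent.Lib_helper23_Linear
import Cfsg.Agent.Lib_helper1_RepBridge
import Cfsg.Agent.Lib_helper1_Scalar

set_option autoImplicit false
set_option linter.style.haveILetI false
set_option linter.unusedSectionVars false
set_option linter.unusedVariables false

namespace Cfsg.Agent.helper1

open Cfsg

/-- A character of a `p`-group of degree less than `p` is a sum of linear characters, hence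
takes its degree as value on the commutator subgroup. -/
theorem pgroup_small_char_commutator {P : Type*} [Group P] [Finite P] (p a : ℕ) (hp : p.Prime)
    (hP : Nat.card P = p ^ a) {ψ : P → ℂ} (hψ : IsCharacter P ψ) (d : ℕ) (hd : ψ 1 = d)
    (hdp : d < p) (c : P) (hc : c ∈ commutator P) : ψ c = ψ 1 := by
  classical
  haveI := Fintype.ofFinite P
  haveI : Fintype (IrrCharacter P) := Fintype.ofFinite _
  obtain ⟨n, hdec, -, -⟩ := Cfsg.Agent.helper12.char_decomp hψ
  have hdeg : ∀ θ : IrrCharacter P, ((charDegree (θ : P → ℂ) : ℕ) : ℂ) = (θ : P → ℂ) 1 :=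
    fun θ => Cfsg.Agent.helper24.char_charDegree_cast (Cfsg.Agent.helper24.irr_isCharacter θ.2)
  have hsum : d = ∑ θ : IrrCharacter P, n θ * charDegree (θ : P → ℂ) := by
    have h1 : (d : ℂ) = ∑ θ : IrrCharacter P, (n θ : ℂ) * (θ : P → ℂ) 1 := by
      rw [← hd]
      conv_lhs => rw [hdec]
      simp [Finset.sum_apply]
    have h2 : (d : ℂ) = ((∑ θ : IrrCharacter P, n θ * charDegree (θ : P → ℂ) : ℕ) : ℂ) := by
      rw [h1]
      push_cast
      apply Finset.sum_congr rfl
      intro θ _
      rw [hdeg]
    exact_mod_cast h2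
  have key : ∀ θ : IrrCharacter P, n θ ≠ 0 → (θ : P → ℂ) c = (θ : P → ℂ) 1 := by
    intro θ hθ
    have hle : charDegree (θ : P → ℂ) ≤ d := by
      rw [hsum]
      calc charDegree (θ : P → ℂ) ≤ n θ * charDegree (θ : P → ℂ) :=
            Nat.le_mul_of_pos_left _ (Nat.pos_of_ne_zero hθ)
        _ ≤ _ := Finset.single_le_sum (f := fun θ : IrrCharacter P => n θ * charDegree (θ : P → ℂ))
            (fun _ _ => Nat.zero_le _) (Finset.mem_univ θ)
    have hdvd : charDegree (θ : P → ℂ) ∣ p ^ a := by
      rw [← hP]; exact Cfsg.Agent.helper23.irr_degree_dvd_card θ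
    obtain ⟨k, hk, hk'⟩ := (Nat.dvd_prime_pow hp).mp hdvd
    have hk0 : k = 0 := by
      by_contra hk0
      have : p ≤ p ^ k := by
        calc p = p ^ 1 := (pow_one p).symm
          _ ≤ p ^ k := Nat.pow_le_pow_right hp.pos (Nat.one_le_iff_ne_zero.mpr hk0)
      omega
    subst hk0
    have h1 : (θ : P → ℂ) 1 = 1 := by rw [← hdeg, hk']; simp
    have := Cfsg.Agent.helper23.linear_char_mul_commutator
      (Cfsg.Agent.helper24.irr_isCharacter θ.2) h1 1 c hc
    rw [one_mul] at this
    exact this
  rw [hdec]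
  simp only [Finset.sum_apply, Pi.smul_apply, smul_eq_mul]
  apply Finset.sum_congr rfl
  intro θ _
  by_cases hθ : n θ = 0
  · simp [hθ]
  · rw [key θ hθ]

/-- A group element acting as a scalar in a faithful representation is central. -/
theorem mem_center_of_scalar {G : Type*} [Group G] {V : Type*} [AddCommGroup V] [Module ℂ V]
    (ρ : Representation ℂ G V) (hinj : Function.Injective ρ) (x : G) (ω : ℂ)
    (hω : ρ x = ω • LinearMap.id) : x ∈ Subgroup.center G := by
  rw [Subgroup.mem_center_iff]
  intro g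
  apply hinj
  rw [map_mul, map_mul, hω]
  ext v
  simp

end Cfsg.Agent.helper1
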