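import Mathlib
import Cfsg.Agent.Lib_helper1_PrincColumn
import Cfsg.Agent.Lib_helper24_SecondMain2
import Cfsg.Agent.Lib_helper24_BlockOrth3
import Cfsg.Agent.Lib_helper24_CharOrth
import Cfsg.Agent.Lib_helper24_ThirdMain

/-!
Brauer's vanishing of principal block columns at an involution (helper1).
-/

set_option autoImplicit false
set_option linter.unusedVariables false
set_option linter.unusedSectionVars false
set_option linter.style.longLine false
set_option linter.style.haveILetI false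

namespace Cfsg.Agent.helper1

open Cfsg Cfsg.Agent.helper24
open scoped ComplexConjugate

universe u

section SignLemma

/-- three weighted relations with at most one positive weight force proportionality -/
theorem sign_lemma {ι : Type*} [DecidableEq ι] (s : Finset ι) (α u v : ι → ℝ)
    (hu : ∀ i ∈ s, 0 < u i)
    (R1 : ∑ i ∈ s, α i * (v i ^ 2 / u i) = 0) (R2 : ∑ i ∈ s, α i * u i = 0)
    (R3 : ∑ i ∈ s, α i * v i = 0) (j : ι) (hj : j ∈ s)
    (hneg : ∀ i ∈ s, i ≠ j → α i ≤ 0) :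
    ∀ i ∈ s, α i ≠ 0 → v i * u j = v j * u i := by
  obtain ⟨ρ, hρ⟩ : ∃ ρ : ℝ, ρ = v j / u j := ⟨_, rfl⟩
  have huj : u j ≠ 0 := (hu j hj).ne'
  have hρj : ρ * u j = v j := by rw [hρ]; field_simp
  have hQ : ∑ i ∈ s, α i * ((v i - ρ * u i) ^ 2 / u i) = 0 := by
    have h1 : ∀ i ∈ s, α i * ((v i - ρ * u i) ^ 2 / u i) =
        α i * (v i ^ 2 / u i) - 2 * ρ * (α i * v i) + ρ ^ 2 * (α i * u i) := by
      intro i hi
      have hui : u i ≠ 0 := (hu i hi).ne'
      field_simp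
      ring
    rw [Finset.sum_congr rfl h1, Finset.sum_add_distrib, Finset.sum_sub_distrib,
      ← Finset.mul_sum, ← Finset.mul_sum, R1, R2, R3]
    ring
  rw [← Finset.add_sum_erase s _ hj] at hQ
  have h0 : v j - ρ * u j = 0 := by rw [hρj, sub_self]
  rw [h0] at hQ
  have hQ' : ∑ i ∈ s.erase j, α i * ((v i - ρ * u i) ^ 2 / u i) = 0 := by
    rw [← hQ]
    simp
  have hall := (Finset.sum_eq_zero_iff_of_nonpos (fun i hi => by
    have hi' := Finset.mem_erase.1 hi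
    have h1 : α i ≤ 0 := hneg i hi'.2 hi'.1
    have h2 : 0 ≤ (v i - ρ * u i) ^ 2 / u i := div_nonneg (sq_nonneg _) (hu i hi'.2).le
    exact mul_nonpos_of_nonpos_of_nonneg h1 h2)).1 hQ'
  intro i hi hαi
  by_cases hij : i = j
  · rw [hij]
  · have h1 := hall i (Finset.mem_erase.2 ⟨hij, hi⟩)
    have hui : u i ≠ 0 := (hu i hi).ne'
    have h2 : (v i - ρ * u i) ^ 2 / u i = 0 := by
      rcases mul_eq_zero.1 h1 with h | h
      · exact absurd h hαi
      · exact h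
    have h3 : (v i - ρ * u i) ^ 2 = 0 := by
      rcases div_eq_zero_iff.1 h2 with h | h
      · exact h
      · exact absurd h hui
    have h4 : v i = ρ * u i := by
      have := pow_eq_zero_iff (two_ne_zero) |>.1 h3
      linarith
    rw [h4, hρ]
    field_simp

/-- the final deduction: some nontrivial index has `v = u` -/
theorem sign_final {ι : Type*} [DecidableEq ι] (s : Finset ι) (α u v : ι → ℝ)
    (hu : ∀ i ∈ s, 0 < u i)
    (R1 : ∑ i ∈ s, α i * (v i ^ 2 / u i) = 0) (R2 : ∑ i ∈ s, α i * u i = 0)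
    (R3 : ∑ i ∈ s, α i * v i = 0) (i₀ : ι) (hi₀ : i₀ ∈ s) (hα₀ : α i₀ ≠ 0)
    (hv₀ : v i₀ = u i₀)
    (hcard : (s.filter (fun i => 0 < α i)).card ≤ 1) :
    ∃ i ∈ s, i ≠ i₀ ∧ v i = u i := by
  -- choose the exceptional index
  obtain ⟨j, hj, hneg⟩ : ∃ j ∈ s, ∀ i ∈ s, i ≠ j → α i ≤ 0 := by
    by_cases hpos : ∃ j ∈ s, 0 < α j
    · obtain ⟨j, hj, hjp⟩ := hpos
      refine ⟨j, hj, ?_⟩
      intro i hi hij
      by_contra hc
      rw [not_le] at hc
      apply hij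
      exact Finset.card_le_one.1 hcard i (Finset.mem_filter.2 ⟨hi, hc⟩) j
        (Finset.mem_filter.2 ⟨hj, hjp⟩)
    · refine ⟨i₀, hi₀, ?_⟩
      intro i hi _
      by_contra hc
      rw [not_le] at hc
      exact hpos ⟨i, hi, hc⟩
  have hprop := sign_lemma s α u v hu R1 R2 R3 j hj hneg
  have h1 := hprop i₀ hi₀ hα₀
  rw [hv₀] at h1
  have hu0 : u i₀ ≠ 0 := (hu i₀ hi₀).ne'
  have huj : u j ≠ 0 := (hu j hj).ne'
  have hvj : v j = u j := by
    have : u i₀ * u j = u i₀ * v j := by linarith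
    exact (mul_left_cancel₀ hu0 this).symm
  -- a nontrivial index with nonzero weight
  obtain ⟨i, hi, hii₀, hαi⟩ : ∃ i ∈ s, i ≠ i₀ ∧ α i ≠ 0 := by
    by_contra hc
    push Not at hc
    have h2 : ∑ i ∈ s, α i * u i = α i₀ * u i₀ := by
      apply Finset.sum_eq_single i₀
      · intro i hi hii₀
        rw [hc i hi hii₀, zero_mul]
      · intro h
        exact absurd hi₀ h
    rw [R2] at h2
    exact mul_ne_zero hα₀ hu0 h2.symm
  refine ⟨i, hi, hii₀, ?_⟩
  have h3 := hprop i hi hαi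
  rw [hvj] at h3
  exact mul_right_cancel₀ huj (by linarith)

end SignLemma

section Invol

variable {G : Type u} [Group G]

/-- Brauer's column vanishing at an involution -/
theorem princ_column_invol [Finite G] (M : Ideal AlgInt) (hM : IsPModular 2 M)
    (P : Subgroup G) (hP : IsPGroup 2 P) (U : Set G) (t : G) (ht : orderOf t = 2)
    (hinv : ∀ u ∈ U, ∀ g : G, (g * t * g⁻¹) * u * (g * t * g⁻¹)⁻¹ ≠ u⁻¹)
    (θ : ↥P → ℂ) (hθ : IsGeneralizedCharacter ↥P θ)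
    (hθU : ∀ y : ↥P, (y : G) ∉ U → θ y = 0) :
    (∑ᶠ χ ∈ principalBlock M G, ((Nat.card ↥P : ℂ)⁻¹ * ∑ᶠ y : ↥P, (χ : G → ℂ) (y : G) * θ y⁻¹) *
      (χ : G → ℂ) t ^ 2 / (χ : G → ℂ) 1 = 0) ∧
    (∑ᶠ χ ∈ principalBlock M G, ((Nat.card ↥P : ℂ)⁻¹ * ∑ᶠ y : ↥P, (χ : G → ℂ) (y : G) * θ y⁻¹) *
      (χ : G → ℂ) 1 = 0) ∧
    (∑ᶠ χ ∈ principalBlock M G, ((Nat.card ↥P : ℂ)⁻¹ * ∑ᶠ y : ↥P, (χ : G → ℂ) (y : G) * θ y⁻¹) *
      (χ : G → ℂ) t = 0) ∧
    ((Nat.card ↥P : ℂ)⁻¹ * ∑ᶠ y : ↥P, θ y ≠ 0 →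
      (2 ≤ Nat.card {χ : IrrCharacter G // χ ∈ principalBlock M G ∧
          0 < (((Nat.card ↥P : ℂ)⁻¹ * ∑ᶠ y : ↥P, (χ : G → ℂ) (y : G) * θ y⁻¹)).re} ∧
        2 ≤ Nat.card {χ : IrrCharacter G // χ ∈ principalBlock M G ∧
          (((Nat.card ↥P : ℂ)⁻¹ * ∑ᶠ y : ↥P, (χ : G → ℂ) (y : G) * θ y⁻¹)).re < 0}) ∨
      ∃ K : Subgroup G, K.Normal ∧ K ≠ ⊤ ∧ pPrimeCore 2 G ≤ K ∧ t ∈ K) := by
  classical
  haveI : Fact (Nat.Prime 2) := ⟨Nat.prime_two⟩
  have hp : Nat.Prime 2 := Nat.prime_two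
  have hMp : M.IsPrime := hM.2.1.isPrime
  have hMtop : M ≠ ⊤ := hMp.ne_top
  letI := Fintype.ofFinite G
  letI : Fintype (IrrCharacter G) := Fintype.ofFinite _
  obtain ⟨SB, hSB⟩ : ∃ SB : Finset (IrrCharacter G),
    SB = Finset.univ.filter (fun χ : IrrCharacter G => χ ∈ principalBlock M G) := ⟨_, rfl⟩
  have hSBmem : ∀ χ, χ ∈ SB ↔ χ ∈ principalBlock M G := by
    intro χ
    rw [hSB, Finset.mem_filter]
    exact ⟨fun h => h.2, fun h => ⟨Finset.mem_univ _, h⟩⟩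
  have hfs : ∀ F : IrrCharacter G → ℂ, ∑ᶠ χ ∈ principalBlock M G, F χ = ∑ χ ∈ SB, F χ := by
    intro F
    rw [finsum_mem_eq_sum_filter', hSB]
  rw [hfs, hfs, hfs]
  simp only [finsum_eq_sum_of_fintype]
  obtain ⟨a, ha⟩ : ∃ a : IrrCharacter G → ℂ,
    a = fun χ : IrrCharacter G => (Nat.card ↥P : ℂ)⁻¹ * ∑ y : ↥P, (χ : G → ℂ) (y : G) * θ y⁻¹ := ⟨_, rfl⟩
  have ha' : ∀ χ : IrrCharacter G, (Nat.card ↥P : ℂ)⁻¹ * ∑ y : ↥P, (χ : G → ℂ) (y : G) * θ y⁻¹ = a χ := by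
    intro χ
    rw [ha]
  simp only [ha']
  -- `t` is an involution
  have ht2 : t * t = 1 := by
    have := pow_orderOf_eq_one t
    rw [ht, pow_two] at this
    exact this
  have htinv : t⁻¹ = t := inv_eq_of_mul_eq_one_left ht2
  have ht1 : t ≠ 1 := by
    intro h
    rw [h, orderOf_one] at ht
    omega
  -- `1 ∉ U`
  have h1U : (1 : G) ∉ U := by
    intro h
    have := hinv 1 h 1
    simp at this
  -- `2`-elements
  have hpel : ∀ y : ↥P, ∃ k : ℕ, orderOf (y : G) = 2 ^ k := by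
    intro y
    obtain ⟨k, hk⟩ := IsPGroup.iff_orderOf.1 hP y
    exact ⟨k, by rw [Subgroup.orderOf_coe, hk]⟩
  -- the general vanishing
  have hvan : ∀ h : G, (∀ y : ↥P, (y : G)⁻¹ ∈ U → ∀ π : G, IsPPart 2 h π → ¬ IsConj (y : G) π) →
      ∑ χ ∈ SB, a χ * conj ((χ : G → ℂ) h) = 0 := by
    intro h hh
    obtain ⟨π, hπ⟩ := exists_isPPart 2 h
    have h1 : ∀ χ ∈ SB, a χ * conj ((χ : G → ℂ) h) = (Nat.card ↥P : ℂ)⁻¹ *
        ∑ y : ↥P, θ y⁻¹ * ((χ : G → ℂ) (y : G) * conj ((χ : G → ℂ) h)) := by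
      intro χ _
      rw [ha]
      simp only
      rw [mul_assoc, Finset.sum_mul]
      congr 1
      refine Finset.sum_congr rfl (fun y _ => ?_)
      ring
    rw [Finset.sum_congr rfl h1, ← Finset.mul_sum, Finset.sum_comm]
    rw [Finset.sum_eq_zero, mul_zero]
    intro y _
    rw [← Finset.mul_sum]
    by_cases hyU : ((y⁻¹ : ↥P) : G) ∈ U
    · rw [← hfs, princ_orth_finsum 2 M hM (y : G) h (y : G) π (isPPart_self hp _ (hpel y)) hπ
        (hh y (by rwa [Subgroup.coe_inv] at hyU) π hπ), mul_zero]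
    · rw [hθU _ hyU, zero_mul]
  -- values at `1` and `t` are self-conjugate
  have hconj1 : ∀ χ : IrrCharacter G, conj ((χ : G → ℂ) 1) = (χ : G → ℂ) 1 := by
    intro χ
    rw [← char_inv (irr_isCharacter χ.2), inv_one]
  have hconjt : ∀ χ : IrrCharacter G, conj ((χ : G → ℂ) t) = (χ : G → ℂ) t := by
    intro χ
    rw [← char_inv (irr_isCharacter χ.2), htinv]
  -- relation 2
  have hR2 : ∑ χ ∈ SB, a χ * (χ : G → ℂ) 1 = 0 := by
    rw [← hvan 1]
    · refine Finset.sum_congr rfl (fun χ _ => ?_)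
      rw [hconj1]
    · intro y hyU π hπ hcj
      have hπ1 : π = 1 := isPPart_unique hp hπ (isPPart_self hp 1 ⟨0, by simp⟩)
      rw [hπ1] at hcj
      have hy1 : (y : G) = 1 := by
        obtain ⟨g, hg⟩ := isConj_iff.1 hcj
        have : (y : G) = g⁻¹ * 1 * g := by rw [← hg]; group
        rw [this]; group
      apply h1U
      rw [hy1, inv_one] at hyU
      exact hyU
  -- relation 3
  have hnotconj_t : ∀ y : ↥P, (y : G)⁻¹ ∈ U → ¬ IsConj (y : G) t := by
    intro y hyU hcj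
    obtain ⟨g, hg⟩ := isConj_iff.1 hcj
    have hy : (y : G) = g⁻¹ * t * g := by rw [← hg]; group
    have hyy : (y : G) * (y : G) = 1 := by
      rw [hy]
      calc g⁻¹ * t * g * (g⁻¹ * t * g) = g⁻¹ * (t * t) * g := by group
        _ = 1 := by rw [ht2]; group
    have hyinv : (y : G)⁻¹ = (y : G) := inv_eq_of_mul_eq_one_left hyy
    apply hinv _ hyU g⁻¹
    rw [inv_inv, ← hy, hyinv, hyinv, hyy, one_mul]
  have hR3 : ∑ χ ∈ SB, a χ * (χ : G → ℂ) t = 0 := by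
    rw [← hvan t]
    · refine Finset.sum_congr rfl (fun χ _ => ?_)
      rw [hconjt]
    · intro y hyU π hπ hcj
      have hπt : π = t := isPPart_unique hp hπ (isPPart_self hp t ⟨1, by rw [ht, pow_one]⟩)
      rw [hπt] at hcj
      exact hnotconj_t y hyU hcj
  -- relation 1
  have hR1 : ∑ χ ∈ SB, a χ * (χ : G → ℂ) t ^ 2 / (χ : G → ℂ) 1 = 0 := by
    have hG0 : (Nat.card G : ℂ) ≠ 0 := by exact_mod_cast Nat.card_pos.ne'
    have h1 : ∀ χ ∈ SB, a χ * (χ : G → ℂ) t ^ 2 / (χ : G → ℂ) 1 =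
        (Nat.card G : ℂ)⁻¹ * ∑ g : G, a χ * conj ((χ : G → ℂ) ((g * t * g⁻¹ * t)⁻¹)) := by
      intro χ _
      have h2 := helper23.irr_sum_conj_mul χ t t
      have h3 : ∀ g : G, conj ((χ : G → ℂ) ((g * t * g⁻¹ * t)⁻¹)) =
          (χ : G → ℂ) (g * t * g⁻¹ * t) := by
        intro g
        rw [char_inv (irr_isCharacter χ.2), Complex.conj_conj]
      simp only [h3]
      rw [← Finset.mul_sum, h2]
      field_simp
    rw [Finset.sum_congr rfl h1, ← Finset.mul_sum, Finset.sum_comm]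
    rw [Finset.sum_eq_zero, mul_zero]
    intro g _
    apply hvan
    intro y hyU π hπ hcj
    -- `t` inverts `s⁻¹`, hence `π`
    obtain ⟨s, hs⟩ : ∃ s : G, s = (g * t * g⁻¹ * t)⁻¹ := ⟨_, rfl⟩
    rw [← hs] at hπ
    have hts : t * s * t⁻¹ = s⁻¹ := by
      rw [hs, htinv, inv_inv]
      have e1 : (g * t * g⁻¹ * t)⁻¹ = t⁻¹ * (g * t⁻¹ * g⁻¹) := by group
      rw [e1, htinv]
      calc t * (t * (g * t * g⁻¹)) * t = (t * t) * (g * t * g⁻¹ * t) := by group
        _ = g * t * g⁻¹ * t := by rw [ht2, one_mul]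
    obtain ⟨n, hn⟩ := ppart_eq_zpow hp hπ
    have htπ : t * π * t⁻¹ = π⁻¹ := by
      rw [hn]
      have : t * s ^ n * t⁻¹ = (t * s * t⁻¹) ^ n := by
        have := map_zpow (MulAut.conj t).toMonoidHom s n
        simp only [MulEquiv.coe_toMonoidHom, MulAut.conj_apply] at this
        exact this
      rw [this, hts, inv_zpow]
    obtain ⟨c, hc⟩ := isConj_iff.1 hcj
    apply hinv _ hyU c⁻¹
    rw [inv_inv]
    have e2 : (c⁻¹ * t * c) * (y : G)⁻¹ * (c⁻¹ * t * c)⁻¹ =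
        c⁻¹ * (t * (c * (y : G) * c⁻¹)⁻¹ * t⁻¹) * c := by group
    rw [e2, hc]
    have e3 : t * π⁻¹ * t⁻¹ = (t * π * t⁻¹)⁻¹ := by group
    rw [e3, htπ, inv_inv, inv_inv, ← hc]
    group
  refine ⟨hR1, hR2, hR3, ?_⟩
  -- the sign statement
  intro hne
  rw [or_iff_not_imp_left]
  intro hnot
  -- real quantities
  obtain ⟨α, hα⟩ : ∃ α : IrrCharacter G → ℝ, α = fun χ => (a χ).re := ⟨_, rfl⟩
  obtain ⟨uu, huu⟩ : ∃ uu : IrrCharacter G → ℝ, uu = fun χ : IrrCharacter G => ((χ : G → ℂ) 1).re := ⟨_, rfl⟩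
  obtain ⟨vv, hvv⟩ : ∃ vv : IrrCharacter G → ℝ, vv = fun χ : IrrCharacter G => ((χ : G → ℂ) t).re := ⟨_, rfl⟩
  have hu1 : ∀ χ : IrrCharacter G, (χ : G → ℂ) 1 = ((uu χ : ℝ) : ℂ) := by
    intro χ
    rw [huu]
    exact (Complex.conj_eq_iff_re.1 (hconj1 χ)).symm
  have hvt : ∀ χ : IrrCharacter G, (χ : G → ℂ) t = ((vv χ : ℝ) : ℂ) := by
    intro χ
    rw [hvv]
    exact (Complex.conj_eq_iff_re.1 (hconjt χ)).symm
  have hupos : ∀ χ ∈ SB, 0 < uu χ := by
    intro χ _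
    obtain ⟨n, hn0, hn⟩ := irr_apply_one χ.2
    rw [huu]
    simp only
    rw [hn]
    simp only [Complex.natCast_re]
    exact_mod_cast hn0
  have hr1 : ∑ χ ∈ SB, α χ * (vv χ ^ 2 / uu χ) = 0 := by
    have := congrArg Complex.re hR1
    rw [Complex.re_sum, Complex.zero_re] at this
    rw [← this]
    refine Finset.sum_congr rfl (fun χ _ => ?_)
    rw [hu1 χ, hvt χ, hα]
    have e : a χ * ((vv χ : ℝ) : ℂ) ^ 2 / ((uu χ : ℝ) : ℂ) = a χ * (((vv χ ^ 2 / uu χ : ℝ)) : ℂ) := by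
      push_cast
      ring
    rw [e, Complex.re_mul_ofReal]
  have hr2 : ∑ χ ∈ SB, α χ * uu χ = 0 := by
    have := congrArg Complex.re hR2
    rw [Complex.re_sum, Complex.zero_re] at this
    rw [← this]
    refine Finset.sum_congr rfl (fun χ _ => ?_)
    rw [hu1 χ, hα, Complex.re_mul_ofReal]
  have hr3 : ∑ χ ∈ SB, α χ * vv χ = 0 := by
    have := congrArg Complex.re hR3
    rw [Complex.re_sum, Complex.zero_re] at this
    rw [← this]
    refine Finset.sum_congr rfl (fun χ _ => ?_)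
    rw [hvt χ, hα, Complex.re_mul_ofReal]
  -- the trivial character
  have h1mem : oneIrr G ∈ SB := (hSBmem _).2 (oneIrr_mem_principalBlock hMtop)
  have hone : ∀ g : G, ((oneIrr G : IrrCharacter G) : G → ℂ) g = 1 := fun g => rfl
  have ha1 : a (oneIrr G) = (Nat.card ↥P : ℂ)⁻¹ * ∑ y : ↥P, θ y := by
    rw [ha]
    simp only
    congr 1
    apply Fintype.sum_equiv (Equiv.inv ↥P)
    intro y
    rw [hone, one_mul]
    rfl
  have hreal : conj ((Nat.card ↥P : ℂ)⁻¹ * ∑ y : ↥P, θ y) = (Nat.card ↥P : ℂ)⁻¹ * ∑ y : ↥P, θ y := by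
    obtain ⟨χ₁, χ₂, h1, h2, rfl⟩ := hθ
    rw [map_mul, map_inv₀, Complex.conj_natCast, map_sum]
    congr 1
    apply Fintype.sum_equiv (Equiv.inv ↥P)
    intro y
    simp only [Pi.sub_apply, map_sub, Equiv.inv_apply]
    rw [char_inv h1, char_inv h2]
  have hα1 : α (oneIrr G) ≠ 0 := by
    rw [hα]
    simp only
    rw [ha1]
    intro h0
    apply hne
    rw [← Complex.conj_eq_iff_re.1 hreal, h0, Complex.ofReal_zero]
  have hv1 : vv (oneIrr G) = uu (oneIrr G) := by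
    rw [hvv, huu]
    simp only [hone]
  -- the cardinalities
  have hcardpos : Nat.card {χ : IrrCharacter G // χ ∈ principalBlock M G ∧ 0 < (a χ).re} =
      (SB.filter (fun χ => 0 < α χ)).card := by
    rw [Nat.card_eq_fintype_card, Fintype.card_subtype]
    congr 1
    ext χ
    simp only [Finset.mem_filter, Finset.mem_univ, true_and, hSBmem, hα]
  have hcardneg : Nat.card {χ : IrrCharacter G // χ ∈ principalBlock M G ∧ (a χ).re < 0} =
      (SB.filter (fun χ => 0 < (-α) χ)).card := by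
    rw [Nat.card_eq_fintype_card, Fintype.card_subtype]
    congr 1
    ext χ
    simp only [Finset.mem_filter, Finset.mem_univ, true_and, hSBmem, hα, Pi.neg_apply,
      Left.neg_pos_iff]
  rw [hcardpos, hcardneg] at hnot
  -- get a nontrivial character with `χ t = χ 1`
  obtain ⟨χ, hχ, hχ1, hχv⟩ : ∃ χ ∈ SB, χ ≠ oneIrr G ∧ vv χ = uu χ := by
    have hcases : (SB.filter (fun χ => 0 < α χ)).card ≤ 1 ∨
        (SB.filter (fun χ => 0 < (-α) χ)).card ≤ 1 := by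
      by_contra hc
      push Not at hc
      exact hnot ⟨hc.1, hc.2⟩
    rcases hcases with hc | hc
    · exact sign_final SB α uu vv hupos hr1 hr2 hr3 (oneIrr G) h1mem hα1 hv1 hc
    · refine sign_final SB (-α) uu vv hupos ?_ ?_ ?_ (oneIrr G) h1mem ?_ hv1 hc
      · simp only [Pi.neg_apply, neg_mul, Finset.sum_neg_distrib, hr1, neg_zero]
      · simp only [Pi.neg_apply, neg_mul, Finset.sum_neg_distrib, hr2, neg_zero]
      · simp only [Pi.neg_apply, neg_mul, Finset.sum_neg_distrib, hr3, neg_zero]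
      · simp only [Pi.neg_apply, ne_eq, neg_eq_zero]
        exact hα1
  have hχt : (χ : G → ℂ) t = (χ : G → ℂ) 1 := by rw [hvt, hu1, hχv]
  have hχc := irr_isCharacter χ.2
  refine ⟨charKer hχc, inferInstance, ?_, ?_, ?_⟩
  · intro htop
    have hall : ∀ g : G, (χ : G → ℂ) g = (χ : G → ℂ) 1 := by
      intro g
      rw [← mem_charKer hχc, htop]
      exact Subgroup.mem_top g
    have hne' : (χ : G → ℂ) ≠ ((oneIrr G : IrrCharacter G) : G → ℂ) := by
      intro h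
      exact hχ1 (Subtype.ext h)
    have h0 := irr_classInner_ne χ.2 (oneIrr G).2 hne'
    unfold classInner at h0
    have h1 : ∑ g : G, (χ : G → ℂ) g * conj (((oneIrr G : IrrCharacter G) : G → ℂ) g) =
        (Nat.card G : ℂ) * (χ : G → ℂ) 1 := by
      rw [Finset.sum_congr rfl (fun g _ => by rw [hall g, hone, map_one, mul_one]),
        Finset.sum_const, Finset.card_univ, nsmul_eq_mul, Fintype.card_eq_nat_card]
    rw [h1] at h0
    have hG0 : (Nat.card G : ℂ) ≠ 0 := by exact_mod_cast Nat.card_pos.ne'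
    have := irr_apply_one_ne_zero χ.2
    field_simp at h0
    exact this h0
  · intro n hn
    rw [mem_charKer hχc]
    haveI : (pPrimeCore 2 G).Normal := pPrimeCore_normal 2
    letI : Fintype ↥(pPrimeCore 2 G) := Fintype.ofFinite _
    exact principal_ker (pPrimeCore 2 G) 2 M hM (pPrimeCore_coprime 2) χ ((hSBmem χ).1 hχ) n hn
  · rw [mem_charKer hχc]
    exact hχt

end Invol

end Cfsg.Agent.helper1
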