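import Mathlib
import Cfsg.Prelude
import Cfsg.Agent.Lib_helper24_MinMax
import Cfsg.Agent.Lib_helper24_NormalP
import Cfsg.Agent.Lib_helper24_Fong1
import Cfsg.Agent.Lib_helper24_DefectOrder
import Cfsg.Agent.Lib_helper24_CharNormal
import Cfsg.Agent.Lib_helper24_BPair9
import Cfsg.Agent.Lib_helper1_PrincQuot
import Cfsg.Agent.Lib_helper1_BlockRank
import Cfsg.Agent.Lib_helper1_IdemSupport
import Cfsg.Agent.Lib_helper1_OneBlock

set_option autoImplicit false
set_option linter.unusedVariables false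
set_option linter.unusedSectionVars false
set_option linter.style.longLine false
set_option linter.style.haveILetI false

namespace Cfsg.Agent.helper1

open Cfsg
open scoped ComplexConjugate

universe u

section QPD

variable {G : Type u} [Group G] [Fintype G] (N : Subgroup G) [N.Normal]

/-- coset sums of an irreducible character over a normal subgroup -/
theorem irr_coset_sum_eq [DecidablePred (· ∈ N)] (χ : IrrCharacter G) (g : G) :
    ∑ h : G, (if h ∈ N then (χ : G → ℂ) (g * h) else 0) =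
      if (∀ n ∈ N, (χ : G → ℂ) n = (χ : G → ℂ) 1) then (Nat.card N : ℂ) * (χ : G → ℂ) g
      else 0 := by
  classical
  by_cases hker : ∀ n ∈ N, (χ : G → ℂ) n = (χ : G → ℂ) 1
  · rw [if_pos hker]
    obtain ⟨ψ, hψ, hχψ⟩ := helper24.irr_deflation N χ.2 hker
    have h1 : ∀ h : G, (if h ∈ N then (χ : G → ℂ) (g * h) else 0) =
        if h ∈ N then (χ : G → ℂ) g else 0 := by
      intro h
      split_ifs with hh
      · rw [hχψ]
        simp only [Function.comp_apply]
        congr 1
        rw [QuotientGroup.mk_mul, (QuotientGroup.eq_one_iff h).2 hh, mul_one]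
      · rfl
    rw [Finset.sum_congr rfl (fun h _ => h1 h), ← Finset.sum_filter, Finset.sum_const,
      nsmul_eq_mul]
    congr 2
    rw [Nat.card_eq_fintype_card]
    exact (Fintype.card_of_subtype (Finset.univ.filter (· ∈ N)) (by simp)).symm
  · rw [if_neg hker]
    rcases helper24.irr_normal_dichotomy χ.2 N with h | h
    · exact h g
    · exact absurd h hker

/-- the coefficient of the image of the block idempotent in the quotient -/
theorem blockCoeff_quot [DecidablePred (· ∈ N)] (B : Set (IrrCharacter G)) (g : G) :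
    blockCoeff {ψ : IrrCharacter (G ⧸ N) | inflIrr N ψ ∈ B} (QuotientGroup.mk g : G ⧸ N) =
      ∑ h : G, (if h ∈ N then blockCoeff B (g * h) else 0) := by
  classical
  haveI : Fintype (IrrCharacter G) := Fintype.ofFinite _
  haveI : Fintype (G ⧸ N) := Fintype.ofFinite _
  haveI : Fintype (IrrCharacter (G ⧸ N)) := Fintype.ofFinite _
  set S : Set (IrrCharacter (G ⧸ N)) := {ψ | inflIrr N ψ ∈ B} with hS
  set K : Set (IrrCharacter G) :=
    {χ | χ ∈ B ∧ ∀ n ∈ N, (χ : G → ℂ) n = (χ : G → ℂ) 1} with hK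
  -- right hand side
  have hR : ∑ h : G, (if h ∈ N then blockCoeff B (g * h) else 0) =
      (Nat.card G : ℂ)⁻¹ * ((Nat.card N : ℂ) *
        ∑ᶠ χ ∈ K, (χ : G → ℂ) 1 * conj ((χ : G → ℂ) g)) := by
    unfold blockCoeff
    have e1 : ∀ h : G, (if h ∈ N then (Nat.card G : ℂ)⁻¹ *
        ∑ᶠ χ ∈ B, (χ : G → ℂ) 1 * conj ((χ : G → ℂ) (g * h)) else 0) =
        (Nat.card G : ℂ)⁻¹ * ∑ χ : IrrCharacter G, (if χ ∈ B then (χ : G → ℂ) 1 *
          conj (if h ∈ N then (χ : G → ℂ) (g * h) else 0) else 0) := by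
      intro h
      rw [finsum_mem_eq_finite_toFinset_sum _ (Set.toFinite B)]
      split_ifs with hh
      · congr 1
        rw [← Finset.sum_filter]
        apply Finset.sum_congr
        · ext χ; simp
        · intros; rfl
      · simp
    rw [Finset.sum_congr rfl (fun h _ => e1 h), ← Finset.mul_sum, Finset.sum_comm]
    congr 1
    have e2 : ∀ χ : IrrCharacter G, ∑ h : G, (if χ ∈ B then (χ : G → ℂ) 1 *
          conj (if h ∈ N then (χ : G → ℂ) (g * h) else 0) else 0) =
        if χ ∈ K then (Nat.card N : ℂ) * ((χ : G → ℂ) 1 * conj ((χ : G → ℂ) g)) else 0 := by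
      intro χ
      by_cases hχB : χ ∈ B
      · simp only [if_pos hχB]
        rw [← Finset.mul_sum, ← map_sum, irr_coset_sum_eq N χ g]
        by_cases hker : ∀ n ∈ N, (χ : G → ℂ) n = (χ : G → ℂ) 1
        · rw [if_pos hker, if_pos (show χ ∈ K from ⟨hχB, hker⟩)]
          rw [map_mul, map_natCast]
          ring
        · rw [if_neg hker, if_neg (show χ ∉ K from fun h => hker h.2)]
          simp
      · simp only [if_neg hχB, Finset.sum_const_zero]
        rw [if_neg (show χ ∉ K from fun h => hχB h.1)]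
    rw [Finset.sum_congr rfl (fun χ _ => e2 χ), ← Finset.sum_filter, ← Finset.mul_sum,
      finsum_mem_eq_finite_toFinset_sum _ (Set.toFinite K)]
    congr 1
    apply Finset.sum_congr
    · ext χ; simp [hK]
    · intros; rfl
  rw [hR]
  -- left hand side
  unfold blockCoeff
  have hL : ∑ᶠ ψ ∈ S, (ψ : G ⧸ N → ℂ) 1 * conj ((ψ : G ⧸ N → ℂ) (QuotientGroup.mk g : G ⧸ N)) =
      ∑ᶠ χ ∈ K, (χ : G → ℂ) 1 * conj ((χ : G → ℂ) g) := by
    apply finsum_mem_eq_of_bijOn (inflIrr N)
    · refine ⟨?_, ?_, ?_⟩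
      · intro ψ hψ
        refine ⟨hψ, ?_⟩
        intro n hn
        rw [inflIrr_apply, inflIrr_apply, (QuotientGroup.eq_one_iff n).2 hn, QuotientGroup.mk_one]
      · intro a _ b _ h
        exact inflIrr_injective N h
      · rintro χ ⟨hχB, hker⟩
        obtain ⟨ψ, hψ, hχψ⟩ := helper24.irr_deflation N χ.2 hker
        have h1 : inflIrr N ⟨ψ, hψ⟩ = χ := Subtype.ext hχψ.symm
        refine ⟨⟨ψ, hψ⟩, ?_, h1⟩
        show inflIrr N ⟨ψ, hψ⟩ ∈ B
        rw [h1]; exact hχB
    · intro ψ _
      rw [inflIrr_apply, inflIrr_apply, QuotientGroup.mk_one]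
  rw [hL, ← mul_assoc]
  congr 1
  have hcard : Nat.card G = Nat.card (G ⧸ N) * Nat.card N :=
    Subgroup.card_eq_card_quotient_mul_card_subgroup N
  have hq : (Nat.card (G ⧸ N) : ℂ) ≠ 0 := by
    exact_mod_cast (Nat.card_pos (α := G ⧸ N)).ne'
  have hn : (Nat.card N : ℂ) ≠ 0 := by
    exact_mod_cast (Nat.card_pos (α := N)).ne'
  rw [hcard]
  push_cast
  field_simp

/-- a set of irreducible characters closed under `SameBlock`, all of whose blocks have idempotent
coefficient at `x` in the local ideal, has its own coefficient at `x` in the local ideal -/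
theorem blockCoeff_union_memLocalIdeal {H : Type u} [Group H] [Fintype H] (p : ℕ)
    (M : Ideal AlgInt) (hM : IsPModular p M) (S : Set (IrrCharacter H))
    (hcl : ∀ χ ∈ S, ∀ ψ : IrrCharacter H, SameBlock M (χ : H → ℂ) (ψ : H → ℂ) → ψ ∈ S)
    (x : H) (hx : ∀ χ ∈ S, MemLocalIdeal M (blockCoeff (blockOf M (χ : H → ℂ)) x)) :
    MemLocalIdeal M (blockCoeff S x) := by
  classical
  haveI : Fintype (IrrCharacter H) := Fintype.ofFinite _
  haveI hMp : M.IsPrime := hM.2.1.isPrime
  have hMtop := hMp.ne_top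
  obtain ⟨T, hT⟩ : ∃ T : Finset (IrrCharacter H), T = Finset.univ.filter (· ∈ S) := ⟨_, rfl⟩
  have hmemT : ∀ χ, χ ∈ T ↔ χ ∈ S := by intro χ; rw [hT]; simp
  obtain ⟨blk, hblk⟩ : ∃ blk : IrrCharacter H → Set (IrrCharacter H),
    blk = fun χ : IrrCharacter H => blockOf M (χ : H → ℂ) := ⟨_, rfl⟩
  have h1 : blockCoeff S x = ∑ j ∈ T.image blk, blockCoeff j x := by
    unfold blockCoeff
    rw [finsum_mem_eq_finite_toFinset_sum _ (Set.toFinite S)]
    have hTS : (Set.toFinite S).toFinset = T := by ext χ; rw [hmemT]; simp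
    rw [hTS, ← Finset.sum_fiberwise_of_maps_to (g := blk) (t := T.image blk)
      (fun i hi => Finset.mem_image_of_mem _ hi), Finset.mul_sum]
    apply Finset.sum_congr rfl
    intro j hj
    obtain ⟨χ', hχ'T, rfl⟩ := Finset.mem_image.1 hj
    congr 1
    rw [finsum_mem_eq_finite_toFinset_sum _ (Set.toFinite _)]
    apply Finset.sum_congr
    · ext i
      simp only [Finset.mem_filter, Set.Finite.mem_toFinset]
      constructor
      · rintro ⟨hiT, hij⟩
        rw [← hij, hblk]
        exact helper24.sameBlock_refl M hMtop _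
      · intro hi
        rw [hblk] at hi
        refine ⟨?_, ?_⟩
        · rw [hmemT]
          exact hcl χ' ((hmemT χ').1 hχ'T) i hi
        · rw [hblk]
          exact (block_eq_blockOf_of_mem hM ⟨χ', rfl⟩ hi).symm
    · intros; rfl
  rw [h1]
  apply helper24.memLocalIdeal_sum
  intro j hj
  obtain ⟨χ', hχ'T, rfl⟩ := Finset.mem_image.1 hj
  rw [hblk]
  exact hx χ' ((hmemT χ').1 hχ'T)

/-- if the index of `C_G(h)` in the preimage of `C_{G/N}(hN)` is prime to `p`, the image of a
Sylow `p`-subgroup of `C_G(h)` is a Sylow `p`-subgroup of `C_{G/N}(hN)` -/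
theorem sylow_centralizer_image (p : ℕ) [Fact p.Prime] (h : G) (C : Subgroup G)
    (hC : C = Subgroup.centralizer ({h} : Set G))
    (hidx : ¬ p ∣ C.relIndex
      ((Subgroup.centralizer ({(QuotientGroup.mk h : G ⧸ N)} : Set (G ⧸ N))).comap
        (QuotientGroup.mk' N)))
    (Sy : Sylow p C) :
    ∃ Sbar : Sylow p (Subgroup.centralizer ({(QuotientGroup.mk h : G ⧸ N)} : Set (G ⧸ N))),
      (Sbar : Subgroup (Subgroup.centralizer ({(QuotientGroup.mk h : G ⧸ N)} : Set (G ⧸ N)))).map
        (Subgroup.centralizer ({(QuotientGroup.mk h : G ⧸ N)} : Set (G ⧸ N))).subtype =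
      ((Sy : Subgroup C).map C.subtype).map (QuotientGroup.mk' N) := by
  classical
  set Cbar : Subgroup (G ⧸ N) :=
    Subgroup.centralizer ({(QuotientGroup.mk h : G ⧸ N)} : Set (G ⧸ N)) with hCbar
  obtain ⟨L, hL⟩ : ∃ L : Subgroup G, L = Cbar.comap (QuotientGroup.mk' N) := ⟨_, rfl⟩
  rw [← hL] at hidx
  have hCL : C ≤ L := by
    intro t ht
    rw [hL, Subgroup.mem_comap, hCbar, Subgroup.mem_centralizer_iff]
    intro z hz
    rw [Set.mem_singleton_iff] at hz
    subst hz
    rw [hC] at ht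
    have h1 := Subgroup.mem_centralizer_iff.1 ht h (Set.mem_singleton h)
    show (QuotientGroup.mk h : G ⧸ N) * (QuotientGroup.mk t : G ⧸ N) =
      (QuotientGroup.mk t : G ⧸ N) * (QuotientGroup.mk h : G ⧸ N)
    rw [← QuotientGroup.mk_mul, ← QuotientGroup.mk_mul, h1]
  obtain ⟨D, hD⟩ : ∃ D : Subgroup G, D = (Sy : Subgroup C).map C.subtype := ⟨_, rfl⟩
  have hDC : D ≤ C := by
    rw [hD]; exact Subgroup.map_subtype_le _
  have hDp : IsPGroup p D := by
    rw [hD]; exact Sy.isPGroup'.map _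
  have hDLp : IsPGroup p (D.subgroupOf L) :=
    hDp.comap_of_injective _ (Subgroup.subtype_injective _)
  have hidx' : ¬ p ∣ (D.subgroupOf L).index := by
    show ¬ p ∣ D.relIndex L
    rw [← Subgroup.relIndex_mul_relIndex D C L hDC hCL]
    intro hd
    rcases (Nat.Prime.dvd_mul (Fact.out : p.Prime)).1 hd with hd | hd
    · have e : D.subgroupOf C = (Sy : Subgroup C) := by
        rw [hD]
        exact Subgroup.comap_map_eq_self_of_injective (Subgroup.subtype_injective _) _
      have : D.relIndex C = (Sy : Subgroup C).index := by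
        show (D.subgroupOf C).index = _
        rw [e]
      rw [this] at hd
      exact Sy.not_dvd_index hd
    · exact hidx hd
  have hf : Function.Surjective ((QuotientGroup.mk' N).subgroupComap Cbar) :=
    MonoidHom.subgroupComap_surjective_of_surjective _ _ (QuotientGroup.mk'_surjective N)
  obtain ⟨SL, hSL⟩ : ∃ SL : Sylow p (Cbar.comap (QuotientGroup.mk' N)),
      (SL : Subgroup (Cbar.comap (QuotientGroup.mk' N))) =
        D.subgroupOf (Cbar.comap (QuotientGroup.mk' N)) := by
    rw [← hL]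
    exact ⟨hDLp.toSylow hidx', rfl⟩
  refine ⟨SL.mapSurjective hf, ?_⟩
  rw [← hD, Sylow.coe_mapSurjective, hSL]
  ext z
  constructor
  · rintro ⟨q, ⟨l, hl, rfl⟩, rfl⟩
    exact ⟨(l : G), Subgroup.mem_subgroupOf.1 hl, rfl⟩
  · rintro ⟨d, hd, rfl⟩
    have hdL : d ∈ Cbar.comap (QuotientGroup.mk' N) := by
      rw [← hL]; exact hCL (hDC hd)
    exact ⟨_, ⟨⟨d, hdL⟩, Subgroup.mem_subgroupOf.2 hd, rfl⟩, rfl⟩

end QPD

end Cfsg.Agent.helper1
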