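import Mathlib
import Cfsg.Prelude
import Cfsg.Agent.Lib_helper1_PermChar
import Cfsg.Agent.Lib_helper1_PermRank2
import Cfsg.Agent.Lib_helper1_IsoProj

set_option autoImplicit false
set_option linter.unusedVariables false
set_option linter.unusedSectionVars false
set_option linter.style.longLine false
set_option linter.style.haveILetI false

namespace Cfsg.Agent.helper1

open Cfsg MulAction Module

section Rank3

variable {G : Type*} [Group G] [Fintype G] {Ω : Type*} [Fintype Ω] [MulAction G Ω]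

theorem trace_matToEnd [DecidableEq Ω] (N : Matrix Ω Ω ℤ) :
    LinearMap.trace ℂ (Ω → ℂ) (matToEnd Ω N) = ((N.trace : ℤ) : ℂ) := by
  show LinearMap.trace ℂ _ (Matrix.toLin' ((Int.castRingHom ℂ).mapMatrix N)) = _
  rw [Matrix.trace_toLin'_eq]
  simp [Matrix.trace]

theorem orbMat_congr (a b a' b' : Ω) (h : ∃ g : G, g • a = a' ∧ g • b = b') :
    orbMat G a b = orbMat G a' b' := by
  classical
  obtain ⟨g₀, rfl, rfl⟩ := h
  ext ω ω'
  unfold orbMat
  congr 1
  apply propext
  constructor
  · rintro ⟨g, h1, h2⟩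
    exact ⟨g * g₀⁻¹, by rw [mul_smul, inv_smul_smul, h1], by rw [mul_smul, inv_smul_smul, h2]⟩
  · rintro ⟨g, h1, h2⟩
    exact ⟨g * g₀, by rw [mul_smul, h1], by rw [mul_smul, h2]⟩

theorem orbMat_transpose (a b : Ω) : (orbMat G a b).transpose = orbMat G b a := by
  classical
  ext ω ω'
  show orbMat G a b ω' ω = orbMat G b a ω ω'
  unfold orbMat
  congr 1
  apply propext
  constructor <;> rintro ⟨g, h1, h2⟩ <;> exact ⟨g, h2, h1⟩

theorem orbMat_sq (a b ω ω' : Ω) : orbMat G a b ω ω' * orbMat G a b ω ω' = orbMat G a b ω ω' := by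
  classical
  unfold orbMat
  split_ifs <;> simp

/-- paired subdegrees are equal -/
theorem card_orbit_paired [IsPretransitive G Ω] (a b : Ω) :
    Nat.card (orbit (stabilizer G b) a) = Nat.card (orbit (stabilizer G a) b) := by
  classical
  have h1 : ∑ ω, ∑ ω', orbMat G a b ω ω' =
      (Fintype.card Ω : ℤ) * (Nat.card (orbit (stabilizer G a) b) : ℤ) := by
    rw [Finset.sum_congr rfl (fun ω _ => orbMat_row_sum a b ω), Finset.sum_const, Finset.card_univ,
      nsmul_eq_mul]
  have h2 : ∑ ω', ∑ ω, orbMat G a b ω ω' =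
      (Fintype.card Ω : ℤ) * (Nat.card (orbit (stabilizer G b) a) : ℤ) := by
    have : ∀ ω' ω : Ω, orbMat G a b ω ω' = orbMat G b a ω' ω := by
      intro ω' ω
      rw [← orbMat_transpose b a, Matrix.transpose_apply]
    simp only [this]
    rw [Finset.sum_congr rfl (fun ω _ => orbMat_row_sum b a ω), Finset.sum_const, Finset.card_univ,
      nsmul_eq_mul]
  have hswap : ∑ ω, ∑ ω', orbMat G a b ω ω' = ∑ ω', ∑ ω, orbMat G a b ω ω' := Finset.sum_comm
  have h1 := h2.symm.trans (hswap.symm.trans h1)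
  have hpos : (Fintype.card Ω : ℤ) ≠ 0 := by
    have : 0 < Fintype.card Ω := Fintype.card_pos_iff.mpr ⟨a⟩
    exact_mod_cast this.ne'
  have := mul_left_cancel₀ hpos h1
  exact_mod_cast this

/-- the structure of the suborbits of a rank 3 group -/
theorem rank3_suborbits (a₀ b : Ω) (hb : b ≠ a₀)
    (hrank : Nat.card (orbitRel.Quotient (stabilizer G a₀) Ω) = 3) :
    ∃ b' : Ω, b' ≠ a₀ ∧ b' ∉ orbit (stabilizer G a₀) b ∧
      Fintype.card Ω = 1 + Nat.card (orbit (stabilizer G a₀) b) +
        Nat.card (orbit (stabilizer G a₀) b') ∧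
      ∀ c : Ω, c = a₀ ∨ c ∈ orbit (stabilizer G a₀) b ∨ c ∈ orbit (stabilizer G a₀) b' := by
  classical
  haveI : Fintype (orbitRel.Quotient (stabilizer G a₀) Ω) := Fintype.ofFinite _
  set Q := orbitRel.Quotient (stabilizer G a₀) Ω with hQ
  have hcard : Fintype.card Q = 3 := by rw [← Nat.card_eq_fintype_card]; exact hrank
  let q₀ : Q := Quotient.mk'' a₀
  let q₁ : Q := Quotient.mk'' b
  have horb0 : ∀ c : Ω, c ∈ orbit (stabilizer G a₀) a₀ → c = a₀ := by
    rintro c ⟨h, rfl⟩
    exact h.2
  have hq01 : q₁ ≠ q₀ := by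
    intro h
    have h' : b ∈ orbit (stabilizer G a₀) a₀ := Quotient.exact' h
    exact hb (horb0 b h')
  obtain ⟨q₂, _, hq₂⟩ := Finset.exists_mem_notMem_of_card_lt_card
    (s := ({q₀, q₁} : Finset Q)) (t := Finset.univ) (by
      rw [Finset.card_univ, hcard]
      exact lt_of_le_of_lt (Finset.card_le_two) (by norm_num))
  have hq20 : q₂ ≠ q₀ := fun h => hq₂ (by rw [h]; simp)
  have hq21 : q₂ ≠ q₁ := fun h => hq₂ (by rw [h]; simp)
  have huniv : (Finset.univ : Finset Q).erase q₀ = {q₁, q₂} := by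
    symm
    apply Finset.eq_of_subset_of_card_le
    · intro q hq
      simp only [Finset.mem_insert, Finset.mem_singleton] at hq
      rw [Finset.mem_erase]
      rcases hq with rfl | rfl
      · exact ⟨hq01, Finset.mem_univ _⟩
      · exact ⟨hq20, Finset.mem_univ _⟩
    · rw [Finset.card_erase_of_mem (Finset.mem_univ _), Finset.card_univ, hcard,
        Finset.card_pair (Ne.symm hq21)]
  have hout : ∀ (q : Q) (c : Ω), q = Quotient.mk'' c →
      orbit (stabilizer G a₀) q.out = orbit (stabilizer G a₀) c := by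
    intro q c hqc
    apply orbit_eq_iff.mpr
    have : (Quotient.mk'' q.out : Q) = Quotient.mk'' c := by rw [Quotient.out_eq']; exact hqc
    exact Quotient.exact' this
  refine ⟨q₂.out, ?_, ?_, ?_, ?_⟩
  · intro h
    apply hq20
    rw [← Quotient.out_eq' q₂, h]
  · intro h
    apply hq21
    rw [← Quotient.out_eq' q₂]
    exact Quotient.sound' h
  · have := card_eq_one_add_sum_orbits (G := G) a₀
    rw [this, huniv, Finset.sum_pair (Ne.symm hq21), hout q₁ b rfl, add_assoc]
  · intro c
    have hc : (Quotient.mk'' c : Q) ∈ (Finset.univ : Finset Q) := Finset.mem_univ _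
    by_cases h0 : (Quotient.mk'' c : Q) = q₀
    · left
      exact horb0 c (Quotient.exact' h0)
    · right
      have : (Quotient.mk'' c : Q) ∈ (Finset.univ : Finset Q).erase q₀ :=
        Finset.mem_erase.mpr ⟨h0, hc⟩
      rw [huniv] at this
      simp only [Finset.mem_insert, Finset.mem_singleton] at this
      rcases this with h | h
      · left
        exact Quotient.exact' h
      · right
        have h' : (Quotient.mk'' c : Q) = Quotient.mk'' q₂.out := by rw [Quotient.out_eq']; exact h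
        exact Quotient.exact' h'

/-- in a rank 3 group of even degree every orbital is self-paired -/
theorem exists_swap_of_rank3 [IsPretransitive G Ω] (a₀ b : Ω) (hb : b ≠ a₀)
    (hrank : Nat.card (orbitRel.Quotient (stabilizer G a₀) Ω) = 3)
    (heven : Even (Fintype.card Ω)) : ∃ g : G, g • a₀ = b ∧ g • b = a₀ := by
  classical
  obtain ⟨b', hb'0, hb'b, hsum, hall⟩ := rank3_suborbits a₀ b hb hrank
  obtain ⟨g₁, hg₁⟩ := exists_smul_eq G b a₀
  set c := g₁ • a₀ with hc
  have hca : c ≠ a₀ := by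
    intro h
    apply hb
    have : g₁ • a₀ = g₁ • b := h.trans hg₁.symm
    exact ((MulAction.injective g₁) this).symm
  have hkc : Nat.card (orbit (stabilizer G a₀) c) = Nat.card (orbit (stabilizer G a₀) b) := by
    have hM : orbMat G b a₀ = orbMat G a₀ c := orbMat_congr b a₀ a₀ c ⟨g₁, hg₁, rfl⟩
    have h1 := orbMat_row_sum (G := G) a₀ c a₀
    have h2 := orbMat_row_sum (G := G) b a₀ a₀
    rw [hM, h1] at h2
    have h3 := card_orbit_paired (G := G) a₀ b
    have h4 : Nat.card (orbit (stabilizer G a₀) c) = Nat.card (orbit (stabilizer G b) a₀) := by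
      exact_mod_cast h2
    rw [h4, h3]
  rcases hall c with h | h | h
  · exact absurd h hca
  · obtain ⟨h', hh'⟩ := h
    have hh'' : (h' : G) • b = c := hh'
    refine ⟨(h' : G)⁻¹ * g₁, ?_, ?_⟩
    · rw [mul_smul, ← hc, ← hh'', inv_smul_smul]
    · rw [mul_smul, hg₁, inv_smul_eq_iff]
      exact h'.2.symm
  · exfalso
    have : orbit (stabilizer G a₀) c = orbit (stabilizer G a₀) b' := orbit_eq_iff.mpr h
    rw [this] at hkc
    rw [hkc] at hsum
    obtain ⟨r, hr⟩ := heven
    omega

theorem orbMat_symm_of_swap (a b : Ω) (g₀ : G) (h1 : g₀ • a = b) (h2 : g₀ • b = a) (ω ω' : Ω) :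
    orbMat G a b ω' ω = orbMat G a b ω ω' := by
  have e1 : orbMat G a b = orbMat G b a := orbMat_congr a b b a ⟨g₀, h1, h2⟩
  have e2 := orbMat_transpose (G := G) a b
  have : (orbMat G a b).transpose ω ω' = orbMat G a b ω ω' := by rw [e2, ← e1]
  exact this

theorem orbMat_trace [DecidableEq Ω] (a b : Ω) (hab : b ≠ a) : (orbMat G a b).trace = 0 := by
  unfold Matrix.trace
  refine Finset.sum_eq_zero (fun ω _ => ?_)
  rw [Matrix.diag_apply, orbMat_diag a b hab]

theorem orbMat_sq_trace [DecidableEq Ω] [IsPretransitive G Ω] (a b : Ω) (g₀ : G)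
    (h1 : g₀ • a = b) (h2 : g₀ • b = a) :
    (orbMat G a b ^ 2).trace =
      (Fintype.card Ω : ℤ) * (Nat.card (orbit (stabilizer G a) b) : ℤ) := by
  rw [sq]
  unfold Matrix.trace
  have : ∀ ω : Ω, (orbMat G a b * orbMat G a b).diag ω =
      (Nat.card (orbit (stabilizer G a) b) : ℤ) := by
    intro ω
    rw [Matrix.diag_apply, Matrix.mul_apply, ← orbMat_row_sum a b ω]
    refine Finset.sum_congr rfl (fun ω' _ => ?_)
    rw [orbMat_symm_of_swap a b g₀ h1 h2 ω ω', orbMat_sq]
  rw [Finset.sum_congr rfl (fun ω _ => this ω), Finset.sum_const, Finset.card_univ, nsmul_eq_mul]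

theorem trace_matToEnd_pow [DecidableEq Ω] (N : Matrix Ω Ω ℤ) (n : ℕ) :
    LinearMap.trace ℂ (Ω → ℂ) (matToEnd Ω N ^ n) = (((N ^ n).trace : ℤ) : ℂ) := by
  rw [← map_pow, trace_matToEnd]

/-- in a primitive group a point stabilizer fixing a second point fixes every point -/
theorem stabilizer_le_of_fixed [IsPreprimitive G Ω] (a₀ c : Ω) (hc : c ≠ a₀)
    (hfix : stabilizer G a₀ ≤ stabilizer G c) (ω : Ω) : stabilizer G a₀ ≤ stabilizer G ω := by
  haveI : Nontrivial Ω := ⟨⟨c, a₀, hc⟩⟩
  haveI : IsPretransitive G Ω := IsPreprimitive.toIsPretransitive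
  have hco : IsCoatom (stabilizer G a₀) :=
    IsPreprimitive.isCoatom_stabilizer_of_isPreprimitive G a₀
  have hGc : stabilizer G c ≠ ⊤ := by
    intro htop
    obtain ⟨g, hg⟩ := exists_smul_eq G c a₀
    have : g ∈ stabilizer G c := htop ▸ Subgroup.mem_top g
    exact hc (this.symm.trans hg)
  have heq : stabilizer G c = stabilizer G a₀ := by
    rcases eq_or_lt_of_le hfix with h | h
    · exact h.symm
    · exact absurd (hco.2 _ h) hGc
  obtain ⟨g, hg⟩ := exists_smul_eq G a₀ c
  have hconj : (stabilizer G a₀).map (MulAut.conj g).toMonoidHom = stabilizer G a₀ := by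
    rw [← stabilizer_smul_eq_stabilizer_map_conj, hg, heq]
  have hgN : g ∈ Subgroup.normalizer ((stabilizer G a₀ : Subgroup G) : Set G) :=
    Subgroup.mem_normalizer_iff_map_conj_eq.mpr hconj
  have hgH : g ∉ stabilizer G a₀ := fun h => hc (hg.symm.trans h)
  have hNtop : Subgroup.normalizer ((stabilizer G a₀ : Subgroup G) : Set G) = ⊤ := by
    have hle : stabilizer G a₀ ≤ Subgroup.normalizer ((stabilizer G a₀ : Subgroup G) : Set G) :=
      Subgroup.le_normalizer
    rcases eq_or_lt_of_le hle with h | h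
    · exfalso
      apply hgH
      rw [h]
      exact hgN
    · exact hco.2 _ h
  have hnormal : (stabilizer G a₀).Normal := Subgroup.normalizer_eq_top_iff.mp hNtop
  obtain ⟨x, rfl⟩ := exists_smul_eq G a₀ ω
  rw [stabilizer_smul_eq_stabilizer_map_conj]
  intro h hh
  refine ⟨x⁻¹ * h * x, ?_, ?_⟩
  · have := hnormal.conj_mem h hh x⁻¹
    rwa [inv_inv] at this
  · show x * (x⁻¹ * h * x) * x⁻¹ = h
    group

/-- a primitive rank 3 group of even degree has no subdegree `1` -/
theorem subdegree_ne_one_of_rank3 [IsPreprimitive G Ω] (a₀ c : Ω) (hc : c ≠ a₀)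
    (hrank : Nat.card (orbitRel.Quotient (stabilizer G a₀) Ω) = 3)
    (heven : Even (Fintype.card Ω)) : Nat.card (orbit (stabilizer G a₀) c) ≠ 1 := by
  classical
  intro h1
  have hsing : ∀ x : Ω, x ∈ orbit (stabilizer G a₀) c → x = c := by
    intro x hx
    haveI : Subsingleton (orbit (stabilizer G a₀) c) :=
      (Nat.card_eq_one_iff_unique.mp h1).1
    have := Subsingleton.elim (⟨x, hx⟩ : orbit (stabilizer G a₀) c) ⟨c, mem_orbit_self c⟩
    exact congrArg Subtype.val this
  have hfix : stabilizer G a₀ ≤ stabilizer G c := by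
    intro h hh
    have : (⟨h, hh⟩ : stabilizer G a₀) • c ∈ orbit (stabilizer G a₀) c := mem_orbit _ _
    exact hsing _ this
  have hall := stabilizer_le_of_fixed a₀ c hc hfix
  have hone : ∀ x : Ω, Nat.card (orbit (stabilizer G a₀) x) = 1 := by
    intro x
    have : orbit (stabilizer G a₀) x = {x} := by
      ext y
      constructor
      · rintro ⟨h, rfl⟩
        exact hall x h.2
      · rintro rfl
        exact mem_orbit_self _
    rw [this]
    simp
  obtain ⟨b', _, _, hsum, _⟩ := rank3_suborbits a₀ c hc hrank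
  rw [hone, hone] at hsum
  obtain ⟨r, hr⟩ := heven
  omega

end Rank3

end Cfsg.Agent.helper1
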