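import Mathlib
import Cfsg.Agent.Lib_helper1_PrincCover
import Cfsg.Agent.Lib_helper1_PrincFusion
import Cfsg.Agent.Lib_helper1_PrincQuot
import Cfsg.Agent.Lib_helper1_BlockRank
import Cfsg.Agent.Lib_helper24_BrauerMap
import Cfsg.Agent.Lib_helper24_CharCount

/-!
A Galois-stable `2`-block of full defect is the principal block (helper1).
-/

set_option autoImplicit false
set_option linter.unusedVariables false
set_option linter.unusedSectionVars false
set_option linter.style.longLine false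
set_option linter.style.haveILetI false

namespace Cfsg.Agent.helper1

open Cfsg Cfsg.Agent.helper24
open scoped ComplexConjugate

universe u

section RealTwo

variable {G : Type u} [Group G] [Fintype G]

omit [Fintype G] in
theorem isConj_inv_of_isConj {a b : G} (h : IsConj a b) : IsConj a⁻¹ b⁻¹ := by
  obtain ⟨c, hc⟩ := isConj_iff.1 h
  exact isConj_iff.2 ⟨c, by rw [← hc]; group⟩

/-- a nontrivial real element of odd order has a conjugacy class of even size -/
theorem even_index_centralizer_of_real {x : G} (hodd : Odd (orderOf x)) (hx1 : x ≠ 1)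
    (hreal : IsConj x x⁻¹) : Even (Subgroup.centralizer ({x} : Set G)).index := by
  classical
  rw [← helper24.card_conj_eq_index x]
  have hinv : ∀ y : G, IsConj y x → IsConj y⁻¹ x := by
    intro y hy
    exact (isConj_inv_of_isConj hy).trans hreal.symm
  obtain ⟨f, hf⟩ : ∃ f : Function.End {y : G // IsConj y x},
      f = fun y => ⟨y.1⁻¹, hinv y.1 y.2⟩ := ⟨_, rfl⟩
  have hf2 : f ^ 2 ^ 1 = 1 := by
    rw [pow_one, pow_two]
    funext y
    show f (f y) = y
    rw [hf]
    exact Subtype.ext (inv_inv _)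
  haveI : Fact (Nat.Prime 2) := ⟨Nat.prime_two⟩
  have h1 := Equiv.Perm.card_fixedPoints_modEq (p := 2) (n := 1) hf2
  have h2 : IsEmpty (Function.fixedPoints f) := by
    constructor
    rintro ⟨y, hy⟩
    have h3 : f y = y := hy
    rw [hf] at h3
    have h4 : (y : G)⁻¹ = y := congrArg Subtype.val h3
    have h5 : (y : G) ^ 2 = 1 := by
      rw [pow_two]
      nth_rewrite 1 [← h4]
      exact inv_mul_cancel _
    have h6 : orderOf (y : G) = orderOf x := by
      obtain ⟨c, hc⟩ := isConj_iff.1 y.2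
      have h6' := MulEquiv.orderOf_eq (MulAut.conj c) (y : G)
      rw [MulAut.conj_apply, hc] at h6'
      exact h6'.symm
    have h7 : orderOf (y : G) ∣ 2 := orderOf_dvd_of_pow_eq_one h5
    rw [h6] at h7
    have h8 : orderOf x = 1 := by
      rcases (Nat.dvd_prime Nat.prime_two).1 h7 with h | h
      · exact h
      · rw [h] at hodd
        exact absurd hodd (by decide)
    exact hx1 (orderOf_eq_one_iff.1 h8)
  haveI := h2
  simp only [Fintype.card_eq_zero] at h1
  rw [Nat.card_eq_fintype_card]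
  exact Nat.even_iff.2 (by simpa [Nat.ModEq] using h1)

/-- **a Galois-stable `2`-block of full defect is principal** -/
theorem galois_stable_full_defect_principal (M : Ideal AlgInt) (hM : IsPModular 2 M) (k : ℕ)
    (hk₂ : ∀ g : G, Odd (orderOf g) → g ^ k = g⁻¹)
    (B : Set (IrrCharacter G)) (hB : IsPBlock M B)
    (hdef : blockDefect 2 B = (Nat.card G).factorization 2)
    (hstab : ∀ χ ∈ B, ∃ ψ ∈ B, ∀ g : G, (ψ : G → ℂ) g = (χ : G → ℂ) (g ^ k)) :
    B = principalBlock M G := by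
  classical
  haveI : Fact (Nat.Prime 2) := ⟨Nat.prime_two⟩
  have hMp : M.IsPrime := hM.2.1.isPrime
  have hMtop := hMp.ne_top
  -- a character of odd degree in `B`
  obtain ⟨χ, hχB, hχodd⟩ : ∃ χ ∈ B, ¬ 2 ∣ charDegree (χ : G → ℂ) := by
    obtain ⟨χ₀, hχ₀⟩ := block_nonempty hM hB
    have hBne : B.Nonempty := ⟨χ₀, hχ₀⟩
    have hne : ((fun χ : IrrCharacter G => (charDegree (χ : G → ℂ)).factorization 2) '' B).Nonempty :=
      hBne.image _
    have hmem := Nat.sInf_mem hne
    have hle : sInf ((fun χ : IrrCharacter G => (charDegree (χ : G → ℂ)).factorization 2) '' B) ≤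
        (Nat.card G).factorization 2 := by
      have hmem0 : (charDegree (χ₀ : G → ℂ)).factorization 2 ∈
          ((fun χ : IrrCharacter G => (charDegree (χ : G → ℂ)).factorization 2) '' B) :=
        ⟨χ₀, hχ₀, rfl⟩
      exact le_trans (Nat.sInf_le hmem0) (factorization_degree_le 2 χ₀)
    unfold blockDefect at hdef
    have h0 : sInf ((fun χ : IrrCharacter G => (charDegree (χ : G → ℂ)).factorization 2) '' B) = 0 := by
      omega
    rw [h0] at hmem
    obtain ⟨χ, hχ, hχ0⟩ := hmem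
    refine ⟨χ, hχ, ?_⟩
    intro hd
    have hpos := helper24.irr_charDegree_pos χ.2
    have h1 : 0 < (charDegree (χ : G → ℂ)).factorization 2 :=
      Nat.Prime.factorization_pos_of_dvd Nat.prime_two hpos.ne' hd
    have h2 : (charDegree (χ : G → ℂ)).factorization 2 = 0 := hχ0
    omega
  obtain ⟨ψ, hψB, hψ⟩ := hstab χ hχB
  have hχc := helper24.irr_isCharacter χ.2
  have hχ1 : (χ : G → ℂ) 1 ≠ 0 := helper24.irr_apply_one_ne_zero χ.2
  have hψ1 : (ψ : G → ℂ) 1 = (χ : G → ℂ) 1 := by rw [hψ 1, one_pow]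
  have hsame : SameBlock M (ψ : G → ℂ) (χ : G → ℂ) := by
    rw [block_eq_blockOf_of_mem hM hB hψB] at hχB
    exact hχB
  -- a linear order on the conjugacy classes
  obtain ⟨lo⟩ : Nonempty (LinearOrder (ConjClasses G)) := ⟨linearOrderOfSTO WellOrderingRel⟩
  letI := lo
  have hodd_iff : ∀ g : G, ¬ 2 ∣ orderOf g ↔ Odd (orderOf g) := fun g => by
    rw [← Nat.not_even_iff_odd, even_iff_two_dvd]
  have hoinv : ∀ g : G, orderOf g⁻¹ = orderOf g := fun g => orderOf_inv g
  have hmkconj : ∀ g c : G, ConjClasses.mk (c * g * c⁻¹) = ConjClasses.mk g := by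
    intro g c
    rw [ConjClasses.mk_eq_mk_iff_isConj]
    exact (isConj_iff.2 ⟨c, rfl⟩).symm
  have hoconj : ∀ g c : G, orderOf (c * g * c⁻¹) = orderOf g := by
    intro g c
    have := MulEquiv.orderOf_eq (MulAut.conj c) g
    rwa [MulAut.conj_apply] at this
  obtain ⟨u₁, hu₁⟩ : ∃ u₁ : G → ℂ, u₁ = fun g =>
      if ¬ 2 ∣ orderOf g ∧ ConjClasses.mk g < ConjClasses.mk g⁻¹ then 1 else 0 := ⟨_, rfl⟩
  obtain ⟨u₂, hu₂⟩ : ∃ u₂ : G → ℂ, u₂ = fun g =>
      if ¬ 2 ∣ orderOf g ∧ ConjClasses.mk g⁻¹ < ConjClasses.mk g then 1 else 0 := ⟨_, rfl⟩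
  obtain ⟨u₃, hu₃⟩ : ∃ u₃ : G → ℂ, u₃ = fun g =>
      if ¬ 2 ∣ orderOf g ∧ g ≠ 1 ∧ ConjClasses.mk g = ConjClasses.mk g⁻¹ then 1 else 0 := ⟨_, rfl⟩
  have hinvconj : ∀ g c : G, (c * g * c⁻¹)⁻¹ = c * g⁻¹ * c⁻¹ := by
    intro g c
    group
  have hcf₁ : IsClassFunction G u₁ := by
    intro g c
    rw [hu₁]
    show (if ¬ 2 ∣ orderOf (c * g * c⁻¹) ∧
      ConjClasses.mk (c * g * c⁻¹) < ConjClasses.mk (c * g * c⁻¹)⁻¹ then (1 : ℂ) else 0) = _
    rw [hoconj, hinvconj, hmkconj, hmkconj]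
  have hcf₃ : IsClassFunction G u₃ := by
    intro g c
    rw [hu₃]
    show (if ¬ 2 ∣ orderOf (c * g * c⁻¹) ∧ c * g * c⁻¹ ≠ 1 ∧
      ConjClasses.mk (c * g * c⁻¹) = ConjClasses.mk (c * g * c⁻¹)⁻¹ then (1 : ℂ) else 0) = _
    rw [hoconj, hinvconj, hmkconj, hmkconj]
    have h1 : c * g * c⁻¹ ≠ 1 ↔ g ≠ 1 := by
      constructor
      · intro h hg
        apply h
        rw [hg]
        group
      · intro h hg
        apply h
        have : g = c⁻¹ * (c * g * c⁻¹) * c := by group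
        rw [this, hg]
        group
    simp only [h1]
  have hl₁ : ∀ g, MemLocalRing M (u₁ g) := by
    intro g
    rw [hu₁]
    show MemLocalRing M (if _ then (1 : ℂ) else 0)
    split_ifs
    · exact memLocalRing_one hMtop
    · exact memLocalRing_zero hMtop
  have hl₃ : ∀ g, MemLocalRing M (u₃ g) := by
    intro g
    rw [hu₃]
    show MemLocalRing M (if _ then (1 : ℂ) else 0)
    split_ifs
    · exact memLocalRing_one hMtop
    · exact memLocalRing_zero hMtop
  -- decomposition of the indicator of the odd order elements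
  have hdecomp : pregInd G 2 = deltaOne G + u₁ + u₂ + u₃ := by
    funext g
    rw [hu₁, hu₂, hu₃]
    show pregInd G 2 g = deltaOne G g +
      (if ¬ 2 ∣ orderOf g ∧ ConjClasses.mk g < ConjClasses.mk g⁻¹ then (1 : ℂ) else 0) +
      (if ¬ 2 ∣ orderOf g ∧ ConjClasses.mk g⁻¹ < ConjClasses.mk g then (1 : ℂ) else 0) +
      (if ¬ 2 ∣ orderOf g ∧ g ≠ 1 ∧ ConjClasses.mk g = ConjClasses.mk g⁻¹ then (1 : ℂ) else 0)
    unfold pregInd deltaOne
    by_cases hg : 2 ∣ orderOf g
    · have hg1 : g ≠ 1 := by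
        rintro rfl
        rw [orderOf_one] at hg
        exact absurd hg (by decide)
      simp [hg, hg1]
    · by_cases hg1 : g = 1
      · subst hg1
        simp
      · rcases lt_trichotomy (ConjClasses.mk g) (ConjClasses.mk g⁻¹) with h | h | h
        · simp [hg, hg1, h, not_lt_of_gt h, ne_of_lt h]
        · simp [hg, hg1, h]
        · simp [hg, hg1, h, not_lt_of_gt h, ne_of_gt h]
  -- the second half is the first half twisted
  have hω₂ : omegaFn (χ : G → ℂ) u₂ = omegaFn (ψ : G → ℂ) u₁ := by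
    unfold omegaFn
    rw [hψ1]
    congr 1
    rw [← Equiv.sum_comp (Equiv.inv G)]
    refine Finset.sum_congr rfl (fun g _ => ?_)
    show u₂ g⁻¹ * (χ : G → ℂ) g⁻¹ = u₁ g * (ψ : G → ℂ) g
    rw [hu₁, hu₂]
    show (if ¬ 2 ∣ orderOf g⁻¹ ∧ ConjClasses.mk g⁻¹⁻¹ < ConjClasses.mk g⁻¹ then (1 : ℂ) else 0) *
      (χ : G → ℂ) g⁻¹ =
      (if ¬ 2 ∣ orderOf g ∧ ConjClasses.mk g < ConjClasses.mk g⁻¹ then (1 : ℂ) else 0) *
        (ψ : G → ℂ) g
    rw [hoinv, inv_inv]
    by_cases hc : ¬ 2 ∣ orderOf g ∧ ConjClasses.mk g < ConjClasses.mk g⁻¹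
    · rw [if_pos hc, hψ g, hk₂ g ((hodd_iff g).1 hc.1)]
    · rw [if_neg hc, zero_mul, zero_mul]
  have h12 : MemLocalIdeal M (omegaFn (χ : G → ℂ) u₁ + omegaFn (χ : G → ℂ) u₂) := by
    rw [hω₂]
    have h1 := omegaFn_sub_memLocalIdeal (M := M) hsame hcf₁ hl₁
    have h2 : MemLocalIdeal M ((2 : ℂ) * omegaFn (χ : G → ℂ) u₁) := by
      rw [mul_comm]
      apply memLocalIdeal_mul_left (omegaFn_memLocalRing χ hcf₁ hl₁)
      have := natCast_memLocalIdeal_of_dvd hM (dvd_refl 2)
      exact_mod_cast this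
    have h3 : omegaFn (χ : G → ℂ) u₁ + omegaFn (ψ : G → ℂ) u₁ =
        (2 : ℂ) * omegaFn (χ : G → ℂ) u₁ +
          (omegaFn (ψ : G → ℂ) u₁ - omegaFn (χ : G → ℂ) u₁) := by ring
    rw [h3]
    exact memLocalIdeal_add h2 h1
  -- the real part
  have hdeg_unit : MemLocalRing M ((χ : G → ℂ) 1)⁻¹ := by
    refine ⟨1, (charDegree (χ : G → ℂ) : AlgInt), helper23.natCast_not_mem_of_not_dvd hM _ hχodd, ?_⟩
    have h4 : ((charDegree (χ : G → ℂ) : AlgInt) : ℂ) = (χ : G → ℂ) 1 := by
      rw [← helper24.char_charDegree_cast hχc]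
      push_cast
      rfl
    rw [h4]
    simp
  have h3 : MemLocalIdeal M (omegaFn (χ : G → ℂ) u₃) := by
    rw [omegaFn_eq_sum_classes hχc hcf₃]
    apply memLocalIdeal_sum
    intro C _
    obtain ⟨x, hx⟩ : ∃ x : G, x = Quotient.out C := ⟨_, rfl⟩
    rw [← hx]
    by_cases hc : ¬ 2 ∣ orderOf x ∧ x ≠ 1 ∧ ConjClasses.mk x = ConjClasses.mk x⁻¹
    · have hu3x : u₃ x = 1 := by
        rw [hu₃]
        show (if ¬ 2 ∣ orderOf x ∧ x ≠ 1 ∧ ConjClasses.mk x = ConjClasses.mk x⁻¹ then (1 : ℂ)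
          else 0) = 1
        rw [if_pos hc]
      rw [hu3x, one_mul]
      have heven := even_index_centralizer_of_real ((hodd_iff x).1 hc.1) hc.2.1
        (ConjClasses.mk_eq_mk_iff_isConj.1 hc.2.2)
      obtain ⟨m, hm⟩ := heven
      unfold centralChar
      have h5 : ((Subgroup.centralizer ({x} : Set G)).index : ℂ) * (χ : G → ℂ) x /
          (χ : G → ℂ) 1 = ((χ : G → ℂ) 1)⁻¹ * ((2 : ℂ) * ((m : ℂ) * (χ : G → ℂ) x)) := by
        rw [hm]
        push_cast
        field_simp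
        ring
      rw [h5]
      apply memLocalIdeal_mul_left hdeg_unit
      rw [mul_comm]
      apply memLocalIdeal_mul_left
      · apply memLocalRing_of_integral hMtop
        exact (isIntegral_natCast (R := ℤ) (B := ℂ) m).mul (irr_isIntegral' χ x)
      · have := natCast_memLocalIdeal_of_dvd hM (dvd_refl 2)
        exact_mod_cast this
    · have hu3x : u₃ x = 0 := by
        rw [hu₃]
        show (if ¬ 2 ∣ orderOf x ∧ x ≠ 1 ∧ ConjClasses.mk x = ConjClasses.mk x⁻¹ then (1 : ℂ)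
          else 0) = 0
        rw [if_neg hc]
      rw [hu3x, zero_mul]
      exact memLocalIdeal_zero hMtop
  -- conclusion
  have hχprinc : χ ∈ principalBlock M G := by
    by_contra hne
    have h0 := omegaFn_pregInd_eq_zero 2 M hM χ hne
    rw [hdecomp, omegaFn_add, omegaFn_add, omegaFn_add, omegaFn_deltaOne hχ1] at h0
    have h4 : (1 : ℂ) = -((omegaFn (χ : G → ℂ) u₁ + omegaFn (χ : G → ℂ) u₂) +
        omegaFn (χ : G → ℂ) u₃) := by
      linear_combination h0
    apply not_memLocalIdeal_one (M := M)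
    rw [h4]
    exact memLocalIdeal_neg (memLocalIdeal_add h12 h3)
  rw [block_eq_blockOf_of_mem hM hB hχB,
    block_eq_blockOf_of_mem hM (isPBlock_principalBlock M) hχprinc]

end RealTwo

end Cfsg.Agent.helper1
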