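import Mathlib
import Cfsg.Agent.Lib_helper22_Clifford
import Cfsg.Agent.Lib_helper22_Glaub7
import Cfsg.Agent.Lib_helper24_BlockOrth3
import Cfsg.Agent.Lib_helper24_FirstMain
import Cfsg.Agent.Lib_helper1_PrincColumn
import Cfsg.Agent.Lib_helper8_Ind
import Cfsg.Agent.Lib_helper12_CharOps

/-!
Relative height-zero counts over a character of a normal subgroup (helper1).
-/

set_option autoImplicit false

namespace Cfsg.Agent.helper1

open Cfsg
open scoped ComplexConjugate

universe u

section RelK0

variable {G : Type u} [Group G] [Fintype G]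

/-- the block part of a character induced from a normal subgroup vanishes at `p`-elements outside
the normal subgroup -/
theorem blockPart_indFun_pelement_eq_zero (p : ℕ) [Fact p.Prime] (M : Ideal AlgInt)
    (hM : IsPModular p M) (B : Set (IrrCharacter G)) (hB : IsPBlock M B) (N : Subgroup G)
    [hN : N.Normal] (θ : N → ℂ) (x : G) (hx : ∃ k : ℕ, orderOf x = p ^ k) (hxN : x ∉ N) :
    blockPart B (indFun N θ) x = 0 := by
  have hp : p.Prime := Fact.out
  refine helper24.blockPart_vanish p M hM (indFun N θ) x ?_ B hB x x (isPPart_self hp x hx)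
    (IsConj.refl x)
  intro u z huz hxz
  apply helper8.indFun_of_not_mem_normal
  intro hu
  obtain ⟨n, hn⟩ := helper24.ppart_eq_zpow hp huz
  have hz : z ∈ N := by rw [hn]; exact N.zpow_mem hu n
  obtain ⟨c, hc⟩ := isConj_iff.mp hxz
  apply hxN
  have e : x = c⁻¹ * z * c⁻¹⁻¹ := by rw [← hc]; group
  rw [e]
  exact hN.conj_mem z hz c⁻¹

/-- Clifford: the degree of `χ` over `θ` is `[G : T] e θ(1)` -/
theorem degree_eq_orbit (N : Subgroup G) [hN : N.Normal] [Fintype N] {χ : G → ℂ}
    (hχ : IsIrrCharacter G χ) (θ : IrrCharacter N) (e : ℕ)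
    (he : classInner (helper5.res N χ) (θ : N → ℂ) = e) (he0 : e ≠ 0) :
    charDegree χ = (helper22.inertia N θ).index * e * charDegree (θ : N → ℂ) := by
  classical
  haveI : Fintype (IrrCharacter N) := Fintype.ofFinite _
  obtain ⟨n, hexp, hn, -⟩ :=
    helper12.char_decomp (helper5.isCharacter_res N (helper24.irr_isCharacter hχ))
  have hdeg : charDegree χ = ∑ μ : IrrCharacter N, n μ * charDegree (μ : N → ℂ) := by
    have h1 : (χ 1 : ℂ) = ∑ μ : IrrCharacter N, (n μ : ℂ) * (μ : N → ℂ) 1 := by
      have := congrFun hexp 1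
      rw [helper5.res_apply] at this
      rw [show ((1 : N) : G) = 1 from rfl] at this
      rw [this, Finset.sum_apply]
      rfl
    have h2 : ((charDegree χ : ℕ) : ℂ) =
        ((∑ μ : IrrCharacter N, n μ * charDegree (μ : N → ℂ) : ℕ) : ℂ) := by
      rw [helper24.char_charDegree_cast (helper24.irr_isCharacter hχ), h1]
      push_cast
      refine Finset.sum_congr rfl (fun μ _ => ?_)
      rw [helper24.char_charDegree_cast (helper24.irr_isCharacter μ.2)]
    exact_mod_cast h2
  have hfin : (MulAction.orbit G θ).Finite := Set.toFinite _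
  have hterm : ∀ μ ∈ hfin.toFinset, n μ * charDegree (μ : N → ℂ) =
      e * charDegree (θ : N → ℂ) := by
    intro μ hμ
    rw [Set.Finite.mem_toFinset] at hμ
    obtain ⟨g, rfl⟩ := hμ
    have h1 : (n (g • θ) : ℂ) = e := by
      rw [← hn, ← he]
      exact helper5.classInner_res_conjFunN N χ
        (helper24.char_isClassFunction (helper24.irr_isCharacter hχ)) g⁻¹ (θ : N → ℂ)
    have h2 : n (g • θ) = e := by exact_mod_cast h1
    rw [h2]
    congr 1
    exact helper22.charDegree_conjFunN N g⁻¹ (θ : N → ℂ)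
  have hout : ∀ μ ∈ (Finset.univ : Finset (IrrCharacter N)), μ ∉ hfin.toFinset →
      n μ * charDegree (μ : N → ℂ) = 0 := by
    intro μ _ hμ
    have hnμ : n μ = 0 := by
      by_contra hne
      apply hμ
      rw [Set.Finite.mem_toFinset]
      have h1 : classInner (helper5.res N χ) (θ : N → ℂ) ≠ 0 := by
        rw [he]; exact_mod_cast he0
      have h2 : classInner (helper5.res N χ) (μ : N → ℂ) ≠ 0 := by
        rw [hn μ]; exact_mod_cast hne
      obtain ⟨g, hg⟩ := helper5.clifford_conj N hχ θ.2 μ.2 h1 h2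
      refine ⟨g⁻¹, ?_⟩
      apply Subtype.ext
      show ((g⁻¹ • θ : IrrCharacter N) : N → ℂ) = (μ : N → ℂ)
      rw [helper22.conjIrr_smul_coe, inv_inv, hg]
    rw [hnμ, zero_mul]
  calc charDegree χ = ∑ μ : IrrCharacter N, n μ * charDegree (μ : N → ℂ) := hdeg
    _ = ∑ μ ∈ hfin.toFinset, n μ * charDegree (μ : N → ℂ) :=
        (Finset.sum_subset (Finset.subset_univ _) hout).symm
    _ = hfin.toFinset.card * (e * charDegree (θ : N → ℂ)) := by
        rw [Finset.sum_congr rfl hterm, Finset.sum_const, smul_eq_mul]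
    _ = (helper22.inertia N θ).index * e * charDegree (θ : N → ℂ) := by
        rw [helper22.inertia, MulAction.index_stabilizer, Set.ncard_eq_toFinset_card _ hfin,
          mul_assoc]

end RelK0

end Cfsg.Agent.helper1
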