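import Mathlib

set_option autoImplicit false

namespace Cfsg.Agent.helper1.S2531x

open Matrix

variable {F : Type*} [Field F] [Finite F] {n : ℕ}

theorem card_dot_zero_two (w w' : Fin n → F) (hw : w ≠ 0) (hind : ∀ c : F, w' ≠ c • w) :
    Set.ncard {v : Fin n → F | w ⬝ᵥ v = 0 ∧ w' ⬝ᵥ v = 0} * Nat.card F ^ 2 = Nat.card F ^ n := by
  classical
  obtain ⟨φ, hφ⟩ : ∃ φ : (Fin n → F) →ₗ[F] (F × F), ∀ v, φ v = (w ⬝ᵥ v, w' ⬝ᵥ v) :=
    ⟨{ toFun := fun v => (w ⬝ᵥ v, w' ⬝ᵥ v)
       map_add' := by intro a b; simp [dotProduct_add]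
       map_smul' := by intro c a; simp [dotProduct_smul] }, fun v => rfl⟩
  have hsurj : Function.Surjective φ := by
    rw [← LinearMap.range_eq_top]
    by_contra hne
    obtain ⟨f, hf0, hf⟩ := Submodule.exists_le_ker_of_lt_top _ (lt_top_iff_ne_top.mpr hne)
    have hfv : ∀ v, f (φ v) = 0 := fun v => hf (LinearMap.mem_range_self φ v)
    obtain ⟨a, ha⟩ : ∃ a, a = f (1, 0) := ⟨_, rfl⟩
    obtain ⟨b, hb⟩ : ∃ b, b = f (0, 1) := ⟨_, rfl⟩
    have hfxy : ∀ x y : F, f (x, y) = x * a + y * b := by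
      intro x y
      have : (x, y) = x • ((1 : F), (0 : F)) + y • ((0 : F), (1 : F)) := by
        ext <;> simp
      rw [this, map_add, map_smul, map_smul, ha, hb]
      simp
    have hzero : a • w + b • w' = 0 := by
      have h1 : ∀ v, (a • w + b • w') ⬝ᵥ v = 0 := by
        intro v
        have := hfv v
        rw [hφ, hfxy] at this
        rw [add_dotProduct, smul_dotProduct, smul_dotProduct, smul_eq_mul, smul_eq_mul]
        rw [← this]; ring
      funext i
      have := h1 (Pi.single i 1)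
      rw [dotProduct_single, mul_one] at this
      exact this
    by_cases hb0 : b = 0
    · have ha0 : a ≠ 0 := by
        intro ha0
        apply hf0
        apply LinearMap.ext
        rintro ⟨x, y⟩
        rw [hfxy, ha0, hb0]; simp
      rw [hb0, zero_smul, add_zero] at hzero
      exact hw ((smul_eq_zero.mp hzero).resolve_left ha0)
    · apply hind (-(a / b))
      have h2 : b • w' = -(a • w) := eq_neg_of_add_eq_zero_right hzero
      have h3 : w' = b⁻¹ • (b • w') := by rw [smul_smul, inv_mul_cancel₀ hb0, one_smul]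
      rw [h3, h2, smul_neg, smul_smul, neg_smul]
      congr 2
      field_simp
  have hset : {v : Fin n → F | w ⬝ᵥ v = 0 ∧ w' ⬝ᵥ v = 0} = (LinearMap.ker φ : Set (Fin n → F)) := by
    ext v
    simp only [Set.mem_ofPred_eq, SetLike.mem_coe, LinearMap.mem_ker, hφ, Prod.mk_eq_zero]
  rw [hset, ← Nat.card_coe_set_eq]
  have h1 := Submodule.card_eq_card_quotient_mul_card (LinearMap.ker φ)
  have h2 : Nat.card ((Fin n → F) ⧸ LinearMap.ker φ) = Nat.card (F × F) :=
    Nat.card_congr (LinearMap.quotKerEquivOfSurjective φ hsurj).toEquiv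
  have h3 : Nat.card (Fin n → F) = Nat.card F ^ n := by
    rw [Nat.card_fun, Nat.card_fin]
  have h4 : Nat.card (F × F) = Nat.card F ^ 2 := by
    rw [Nat.card_prod, sq]
  rw [← h3, h1, h2, h4]
  rfl

end Cfsg.Agent.helper1.S2531x
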