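import Mathlib
import Cfsg.Agent.Lib_helper6_S2670x
import Cfsg.Agent.Lib_helper16_S2670t

/-! S2670 pieces B1 and B3 (helper1). -/

set_option autoImplicit false
open Polynomial

namespace Cfsg.Agent.helper1.S2670b

/-- B1: the count for c = 1 without the r scalar polynomials -/
theorem pieceB1 {F : Type*} [Field F] [Fintype F] (n r : ℕ) (hn : 1 ≤ n) (hr : r.Prime)
    (hrq : r ∣ Fintype.card F - 1) :
    Nat.card {f : F[X] // f.Monic ∧ f.natDegree = n ∧ f ∣ (X ^ r - C 1) ^ n ∧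
      ∀ a : F, f ≠ (X - C a) ^ n} + r = Nat.choose (n + r - 1) (r - 1) := by
  rw [← Cfsg.Agent.helper16.S2670t.pieceT3 (F := F) n r hn hr hrq]
  congr 1
  apply Nat.card_congr
  apply Equiv.subtypeEquivRight
  intro f
  rw [not_exists]

/-- B3: c not an r-th power -/
theorem pieceB3 {F : Type*} [Field F] [Fintype F] (n r : ℕ) (hn : 1 ≤ n) (hr : r.Prime) (c : F)
    (hc : ∀ b : F, b ^ r ≠ c) :
    Nat.card {f : F[X] // f.Monic ∧ f.natDegree = n ∧ f ∣ (X ^ r - C c) ^ n ∧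
      ∀ a : F, f ≠ (X - C a) ^ n} = if r ∣ n then 1 else 0 := by
  have hmon : (X ^ r - C c : F[X]).Monic := monic_X_pow_sub_C c hr.ne_zero
  have hdeg : (X ^ r - C c : F[X]).natDegree = r := natDegree_X_pow_sub_C
  by_cases hrn : r ∣ n
  · rw [if_pos hrn]
    have hk : 1 ≤ n / r := Nat.div_pos (Nat.le_of_dvd (by omega) hrn) hr.pos
    have hmem : ((X ^ r - C c : F[X]) ^ (n / r)).Monic ∧
        ((X ^ r - C c : F[X]) ^ (n / r)).natDegree = n ∧
        (X ^ r - C c : F[X]) ^ (n / r) ∣ (X ^ r - C c) ^ n ∧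
        ∀ a : F, (X ^ r - C c : F[X]) ^ (n / r) ≠ (X - C a) ^ n := by
      refine ⟨hmon.pow _, ?_, pow_dvd_pow _ (Nat.div_le_self n r), ?_⟩
      · rw [hmon.natDegree_pow, hdeg, Nat.div_mul_cancel hrn]
      · intro a h
        have h2 := congrArg (eval a) h
        rw [eval_pow, eval_pow, eval_sub, eval_sub, eval_pow, eval_X, eval_C, eval_C, sub_self,
          zero_pow (by omega)] at h2
        have h3 := pow_eq_zero_iff (by omega : n / r ≠ 0) |>.mp h2
        exact hc a (sub_eq_zero.mp h3)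
    rw [Nat.card_eq_one_iff_unique]
    refine ⟨⟨fun x y => ?_⟩, ⟨⟨_, hmem⟩⟩⟩
    apply Subtype.ext
    rw [(Cfsg.Agent.helper6.S2670x.pieceS4 n r hr c hc x.1 x.2.1 x.2.2.1 x.2.2.2.1).2,
      (Cfsg.Agent.helper6.S2670x.pieceS4 n r hr c hc y.1 y.2.1 y.2.2.1 y.2.2.2.1).2]
  · rw [if_neg hrn, Nat.card_eq_zero]
    left
    constructor
    rintro ⟨f, hf, hd, hdvd, -⟩
    exact hrn (Cfsg.Agent.helper6.S2670x.pieceS4 n r hr c hc f hf hd hdvd).1

end Cfsg.Agent.helper1.S2670b
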