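import Mathlib
import Cfsg.Prelude.Def_LieClassical
import Cfsg.Agent.Lib_helper25_SUcountC
import Cfsg.Agent.Lib_helper14_SUReg
import Cfsg.Agent.S2587
import Cfsg.Agent.S2588

/-! Piece Iu of S2671 (helper1, hedge): classes of elements of order `r` of `GU_n(q)` (and the
class of `1`) correspond to the conjugate-self-reciprocal monic divisors of degree `n` of
`(X ^ r - 1) ^ n`. -/

set_option autoImplicit false
set_option linter.unusedSectionVars false

namespace Cfsg.Agent.helper1.S2671i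

open Polynomial Matrix Cfsg.Agent.helper14.GUConj Cfsg.Agent.helper25.SUcount
  Cfsg.Agent.helper25.SSimple Cfsg.Agent.helper25.SUss

section gen
variable {F : Type*} [Field F] {ι : Type*} [Fintype ι] [DecidableEq ι]

/-- if `A ^ r = 1` then the characteristic polynomial of `A` divides `(X ^ r - 1) ^ card`. -/
theorem cp_dvd_of_pow_eq_one (A : Matrix ι ι F) (r : ℕ) (hA : A ^ r = 1) :
    A.charpoly ∣ (X ^ r - 1) ^ Fintype.card ι := by
  have hcomm : Commute (Matrix.scalar ι (X : F[X])) (C.mapMatrix A) :=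
    Matrix.scalar_commute _ (fun _ => Commute.all _ _) _
  have h1 := hcomm.geom_sum₂_mul r
  have h2 : (C.mapMatrix A) ^ r = 1 := by
    rw [← map_pow, hA, map_one]
  have h3 : (Matrix.scalar ι (X : F[X])) ^ r - (C.mapMatrix A) ^ r =
      Matrix.scalar ι (X ^ r - 1 : F[X]) := by
    rw [h2, ← map_pow, map_sub, map_one]
  rw [h3] at h1
  have h4 := congrArg Matrix.det h1
  have hdet : (Matrix.scalar ι (X ^ r - 1 : F[X])).det = (X ^ r - 1) ^ Fintype.card ι := by
    rw [Matrix.scalar_apply, Matrix.det_diagonal, Finset.prod_const, Finset.card_univ]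
  rw [Matrix.det_mul, hdet] at h4
  have hcp : A.charpoly = (Matrix.scalar ι (X : F[X]) - C.mapMatrix A).det := rfl
  rw [← h4, hcp]
  exact Dvd.intro_left _ rfl

end gen

section gu
variable {K : Type*} [Field K] [Fintype K] {n : ℕ}

/-- for an element of `GL_n` of order prime to `p`, `g ^ r = 1` iff the characteristic polynomial
divides `(X ^ r - 1) ^ n`. -/
theorem pow_eq_one_iff_gl (p : ℕ) [Fact p.Prime] [CharP K p] (r : ℕ)
    (g : GL (Fin n) K) (hg : (orderOf g).Coprime p) :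
    g ^ r = 1 ↔ g.val.charpoly ∣ (X ^ r - 1) ^ n := by
  constructor
  · intro h
    have h1 : g.val ^ r = 1 := by
      rw [← Units.val_pow_eq_pow_val, h, Units.val_one]
    have h2 := cp_dvd_of_pow_eq_one g.val r h1
    rwa [Fintype.card_fin] at h2
  · intro h
    rcases Nat.eq_zero_or_pos n with hn | hn
    · subst hn
      apply Units.ext
      apply Matrix.ext
      intro a
      exact a.elim0
    obtain ⟨A, hAdef⟩ : ∃ A : Matrix (Fin n) (Fin n) K, A = g.val := ⟨_, rfl⟩
    obtain ⟨N, hNdef⟩ : ∃ N : ℕ, N = orderOf g := ⟨_, rfl⟩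
    have hN : A ^ N = 1 := by
      rw [hAdef, ← Units.val_pow_eq_pow_val, hNdef, pow_orderOf_eq_one, Units.val_one]
    have hNF : ((N : ℕ) : K) ≠ 0 := by
      intro h0
      rw [CharP.cast_eq_zero_iff K p] at h0
      rw [hNdef] at h0
      have h4 : p = 1 := Nat.Coprime.eq_one_of_dvd hg.symm h0
      exact (Fact.out : p.Prime).one_lt.ne' h4
    have hsep : (X ^ N - C (1 : K) : K[X]).Separable :=
      Polynomial.separable_X_pow_sub_C 1 hNF one_ne_zero
    have hdvd : minpoly K A ∣ X ^ N - C (1 : K) := by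
      apply minpoly.dvd
      rw [map_sub, map_pow, aeval_X, aeval_C, map_one, hN, sub_self]
    have hsq : Squarefree (minpoly K A) := hsep.squarefree.squarefree_of_dvd hdvd
    have h1 : minpoly K A ∣ (X ^ r - 1 : K[X]) ^ n :=
      dvd_trans (Matrix.minpoly_dvd_charpoly A) (hAdef ▸ h)
    have h2 : minpoly K A ∣ (X ^ r - 1 : K[X]) :=
      (hsq.dvd_pow_iff_dvd (by omega)).mp h1
    obtain ⟨c, hc⟩ := h2
    have h3 : aeval A (X ^ r - 1 : K[X]) = 0 := by
      rw [hc, map_mul, minpoly.aeval, zero_mul]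
    rw [map_sub, map_pow, aeval_X, map_one, sub_eq_zero] at h3
    apply Units.ext
    rw [Units.val_pow_eq_pow_val, ← hAdef, h3, Units.val_one]

/-- the inverse of the conjugate transpose of an invertible matrix with self
conjugate-reciprocal characteristic polynomial has the same characteristic polynomial. -/
theorem charpoly_st_inv_gen (σ : K ≃+* K) (hσ : ∀ a, σ (σ a) = a) (M : Matrix (Fin n) (Fin n) K)
    (hUM : IsUnit M) (hs : USym σ n M.charpoly) :
    ((st σ M)⁻¹).charpoly = M.charpoly := by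
  have hσneg : σ ((-1 : K) ^ n) = (-1) ^ n := by
    rw [map_pow, map_neg, map_one]
  have hd0 : M.det ≠ 0 := ((Matrix.isUnit_iff_isUnit_det _).mp hUM).ne_zero
  have hσd0 : σ M.det ≠ 0 := by
    intro h
    exact hd0 ((map_eq_zero σ).mp h)
  have hdet' : (st σ M).det = σ M.det := det_st σ M
  have hU : IsUnit (st σ M) := by
    rw [Matrix.isUnit_iff_isUnit_det, hdet']
    exact isUnit_iff_ne_zero.mpr hσd0
  have h3 := Matrix.det_eq_sign_charpoly_coeff M
  rw [Fintype.card_fin] at h3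
  have h4 : M.charpoly.coeff 0 = (-1) ^ n * M.det := by
    rw [h3, ← mul_assoc, neg_one_pow_mul_self, one_mul]
  have hdeg1 : ((st σ M)⁻¹).charpoly.natDegree = n := by
    rw [Matrix.charpoly_natDegree_eq_dim, Fintype.card_fin]
  have hdeg2 : M.charpoly.natDegree = n := by
    rw [Matrix.charpoly_natDegree_eq_dim, Fintype.card_fin]
  ext i
  by_cases hi : i ≤ n
  · rw [coeff_charpoly_inv _ hU i hi, hdet', charpoly_st, coeff_map]
    have h5 : (σ : K →+* K) (M.charpoly.coeff (n - i)) = σ (M.charpoly.coeff (n - i)) := rfl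
    rw [h5, hs i hi, h4, map_mul, map_mul, hσneg, hσ]
    have : (-1 : K) ^ n * (σ M.det)⁻¹ * ((-1) ^ n * σ M.det * M.charpoly.coeff i)
        = ((-1) ^ n * (-1) ^ n) * ((σ M.det)⁻¹ * σ M.det) * M.charpoly.coeff i := by ring
    rw [this, neg_one_pow_mul_self, inv_mul_cancel₀ hσd0, one_mul, one_mul]
  · push Not at hi
    rw [coeff_eq_zero_of_natDegree_lt (by rw [hdeg1]; exact hi),
      coeff_eq_zero_of_natDegree_lt (by rw [hdeg2]; exact hi)]

theorem sigma_invol {q : ℕ} (hK : Fintype.card K = q ^ 2) (σ : K ≃+* K)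
    (hσq : ∀ a, σ a = a ^ q) (a : K) : σ (σ a) = a := by
  rw [hσq, hσq, ← pow_mul, ← pow_two, ← hK, FiniteField.pow_card]

/-- existence of `p'`-elements of `GU_n(q)` with a given conjugate-self-reciprocal
characteristic polynomial. -/
theorem exists_GU_of_charpoly {q : ℕ} (hK : Fintype.card K = q ^ 2)
    (p : ℕ) [Fact p.Prime] [CharP K p] (σ : K ≃+* K) (hσq : ∀ a, σ a = a ^ q)
    (f : K[X]) (hm : f.Monic) (hd : f.natDegree = n) (hs : USym σ n f) :
    ∃ g : ↥(Cfsg.GU n K q), (orderOf g).Coprime p ∧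
      ((g : GL (Fin n) K)).val.charpoly = f := by
  classical
  have hσ := sigma_invol hK σ hσq
  have h0ne : f.coeff 0 ≠ 0 := by
    intro h0
    have h1 := hs 0 (Nat.zero_le n)
    rw [Nat.sub_zero, h0, zero_mul] at h1
    have h2 : f.coeff n = 1 := by
      have := hm.coeff_natDegree
      rwa [hd] at this
    rw [h2] at h1
    exact one_ne_zero h1
  obtain ⟨A, hAo, hAc⟩ := exists_GL_of_charpoly p f hm hd h0ne
  have hAs : USym σ n A.val.charpoly := by rw [hAc]; exact hs
  have hc' := charpoly_st_inv_gen σ hσ A.val A.isUnit hAs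
  have hUst : IsUnit (st σ A.val) := by
    rw [Matrix.isUnit_iff_isUnit_det, det_st]
    have h1 : IsUnit A.val.det := (Matrix.isUnit_iff_isUnit_det _).mp A.isUnit
    exact h1.map σ
  obtain ⟨A', hA'⟩ : ∃ A' : GL (Fin n) K, A'.val = (st σ A.val)⁻¹ := by
    refine ⟨hUst.unit⁻¹, ?_⟩
    rw [Matrix.coe_units_inv, IsUnit.unit_spec]
  have hA'o : (orderOf A').Coprime p := by
    apply Nat.Coprime.coprime_dvd_left _ hAo
    apply orderOf_dvd_of_pow_eq_one
    apply Units.ext
    rw [Units.val_pow_eq_pow_val, hA', Matrix.inv_pow', ← Cfsg.Agent.helper14.GUConj.st_pow, ← Units.val_pow_eq_pow_val,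
      pow_orderOf_eq_one, Units.val_one, st_one, inv_one]
  have hconj : IsConj A A' := isConj_of_charpoly_eq p A A' hAo hA'o (by rw [hA', hc'])
  have hconjM : IsConj (A : Matrix (Fin n) (Fin n) K)
      (((A : Matrix (Fin n) (Fin n) K).map (fun x : K => x ^ q)).transpose)⁻¹ := by
    obtain ⟨c, hc⟩ := isConj_iff.mp hconj
    rw [mul_inv_eq_iff_eq_mul] at hc
    have h1 : c.val * A.val = A'.val * c.val := by
      have := congrArg Units.val hc
      rwa [Units.val_mul, Units.val_mul] at this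
    have h2 : (A.val.map (fun x : K => x ^ q)).transpose = st σ A.val := by
      unfold st
      congr 1
      ext i j
      exact (hσq _).symm
    rw [h2, ← hA']
    exact ⟨c, h1⟩
  obtain ⟨B, hB⟩ := (Cfsg.Agent.S2588.result hK A).mpr hconjM
  have hBc : (B : GL (Fin n) K).val.charpoly = f := by
    rw [← hAc]
    exact (charpoly_eq_of_isConj A B hB).symm
  have hBo : (orderOf (B : GL (Fin n) K)).Coprime p := by
    apply Nat.Coprime.coprime_dvd_left _ hAo
    apply orderOf_dvd_of_pow_eq_one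
    obtain ⟨c, hc⟩ := isConj_iff.mp hB
    rw [← hc, conj_pow, pow_orderOf_eq_one, mul_one, mul_inv_cancel]
  refine ⟨B, ?_, hBc⟩
  rw [← Subgroup.orderOf_coe]
  exact hBo

theorem cp_props_gu {q : ℕ} (σ : K ≃+* K) (hσq : ∀ a, σ a = a ^ q) (g : ↥(Cfsg.GU n K q)) :
    (g : GL (Fin n) K).val.charpoly.Monic ∧ (g : GL (Fin n) K).val.charpoly.natDegree = n ∧
    ∀ k, k ≤ n → (g : GL (Fin n) K).val.charpoly.coeff (n - k) =
      (g : GL (Fin n) K).val.charpoly.coeff 0 * σ ((g : GL (Fin n) K).val.charpoly.coeff k) := by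
  refine ⟨Matrix.charpoly_monic _, ?_, ?_⟩
  · rw [Matrix.charpoly_natDegree_eq_dim, Fintype.card_fin]
  · exact usym_charpoly σ _ ((mem_GU_iff_st σ hσq (g : GL (Fin n) K)).mp g.2)

theorem isConj_gu_of_charpoly {q : ℕ} (hK : Fintype.card K = q ^ 2)
    (p : ℕ) [Fact p.Prime] [CharP K p] (g g' : ↥(Cfsg.GU n K q))
    (hg : (orderOf g).Coprime p) (hg' : (orderOf g').Coprime p)
    (h : (g : GL (Fin n) K).val.charpoly = (g' : GL (Fin n) K).val.charpoly) : IsConj g g' := by
  rw [Cfsg.Agent.S2587.result hK]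
  apply isConj_of_charpoly_eq p _ _ _ _ h
  · rw [Subgroup.orderOf_coe]; exact hg
  · rw [Subgroup.orderOf_coe]; exact hg'

theorem charpoly_eq_of_isConj_gu {q : ℕ} (hK : Fintype.card K = q ^ 2)
    (g g' : ↥(Cfsg.GU n K q)) (h : IsConj g g') :
    (g : GL (Fin n) K).val.charpoly = (g' : GL (Fin n) K).val.charpoly :=
  charpoly_eq_of_isConj _ _ ((Cfsg.Agent.S2587.result hK g g').mp h)

theorem pow_eq_one_iff_gu {q : ℕ} (p : ℕ) [Fact p.Prime] [CharP K p] (r : ℕ)
    (g : ↥(Cfsg.GU n K q)) (hg : (orderOf g).Coprime p) :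
    g ^ r = 1 ↔ (g : GL (Fin n) K).val.charpoly ∣ (X ^ r - 1) ^ n := by
  rw [← pow_eq_one_iff_gl p r (g : GL (Fin n) K) (by rw [Subgroup.orderOf_coe]; exact hg)]
  rw [Subtype.ext_iff, Subgroup.coe_pow, Subgroup.coe_one]

/-- PIECE Iu -/
theorem pieceIu {q : ℕ} (hK : Fintype.card K = q ^ 2)
    (σ : K ≃+* K) (hσq : ∀ a, σ a = a ^ q) (p : ℕ) [Fact p.Prime] [CharP K p] (n r : ℕ)
    (hr : r.Prime) (hrp : r ≠ p) :
    Nat.card {c : ConjClasses ↥(Cfsg.GU n K q) //
      ∃ g : ↥(Cfsg.GU n K q), ConjClasses.mk g = c ∧ orderOf g = r} + 1 =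
    Nat.card {f : K[X] // f.Monic ∧ f.natDegree = n ∧
      (∀ k, k ≤ n → f.coeff (n - k) = f.coeff 0 * σ (f.coeff k)) ∧ f ∣ (X ^ r - 1) ^ n} := by
  classical
  have hpp : p.Prime := Fact.out
  have hrpc : r.Coprime p := (Nat.coprime_primes hr hpp).mpr hrp
  have hex : ∀ f : K[X], f.Monic → f.natDegree = n →
      (∀ k, k ≤ n → f.coeff (n - k) = f.coeff 0 * σ (f.coeff k)) →
      ∃ g : ↥(Cfsg.GU n K q), (orderOf g).Coprime p ∧
        (g : GL (Fin n) K).val.charpoly = f :=
    fun f hfm hfd hfs => exists_GU_of_charpoly hK p σ hσq f hfm hfd hfs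
  have hord : ∀ g : ↥(Cfsg.GU n K q), g ^ r = 1 → (orderOf g).Coprime p := by
    intro g hg
    exact Nat.Coprime.coprime_dvd_left (orderOf_dvd_of_pow_eq_one hg) hrpc
  have h1 : Nat.card {c : ConjClasses ↥(Cfsg.GU n K q) //
      ∃ g : ↥(Cfsg.GU n K q), ConjClasses.mk g = c ∧ g ^ r = 1} =
      Nat.card {f : K[X] // f.Monic ∧ f.natDegree = n ∧
      (∀ k, k ≤ n → f.coeff (n - k) = f.coeff 0 * σ (f.coeff k)) ∧ f ∣ (X ^ r - 1) ^ n} := by
    symm
    apply Nat.card_congr
    have hex' : ∀ f : {f : K[X] // f.Monic ∧ f.natDegree = n ∧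
        (∀ k, k ≤ n → f.coeff (n - k) = f.coeff 0 * σ (f.coeff k)) ∧ f ∣ (X ^ r - 1) ^ n},
        ∃ g : ↥(Cfsg.GU n K q), (orderOf g).Coprime p ∧
          (g : GL (Fin n) K).val.charpoly = f.1 :=
      fun f => hex f.1 f.2.1 f.2.2.1 f.2.2.2.1
    have hpow : ∀ f, (Classical.choose (hex' f)) ^ r = 1 := by
      intro f
      rw [pow_eq_one_iff_gu p r _ (Classical.choose_spec (hex' f)).1,
        (Classical.choose_spec (hex' f)).2]
      exact f.2.2.2.2
    refine Equiv.ofBijective (fun f => ⟨ConjClasses.mk (Classical.choose (hex' f)), _, rfl,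
      hpow f⟩) ⟨?_, ?_⟩
    · intro f f' h
      have h2 : ConjClasses.mk (Classical.choose (hex' f)) =
          ConjClasses.mk (Classical.choose (hex' f')) := congrArg Subtype.val h
      rw [ConjClasses.mk_eq_mk_iff_isConj] at h2
      have h3 := charpoly_eq_of_isConj_gu hK _ _ h2
      rw [(Classical.choose_spec (hex' f)).2, (Classical.choose_spec (hex' f')).2] at h3
      exact Subtype.ext h3
    · rintro ⟨c, g, rfl, hg⟩
      have hgo := hord g hg
      have hcp := cp_props_gu σ hσq g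
      have hdvd := (pow_eq_one_iff_gu p r g hgo).mp hg
      refine ⟨⟨_, hcp.1, hcp.2.1, hcp.2.2, hdvd⟩, ?_⟩
      apply Subtype.ext
      show ConjClasses.mk (Classical.choose (hex' ⟨_, hcp.1, hcp.2.1, hcp.2.2, hdvd⟩)) =
        ConjClasses.mk g
      rw [ConjClasses.mk_eq_mk_iff_isConj]
      exact isConj_gu_of_charpoly hK p _ g
        (Classical.choose_spec (hex' ⟨_, hcp.1, hcp.2.1, hcp.2.2, hdvd⟩)).1 hgo
        (Classical.choose_spec (hex' ⟨_, hcp.1, hcp.2.1, hcp.2.2, hdvd⟩)).2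
  rw [← h1]
  have hset : {c : ConjClasses ↥(Cfsg.GU n K q) |
      ∃ g : ↥(Cfsg.GU n K q), ConjClasses.mk g = c ∧ g ^ r = 1} =
      insert (ConjClasses.mk 1) {c : ConjClasses ↥(Cfsg.GU n K q) |
      ∃ g : ↥(Cfsg.GU n K q), ConjClasses.mk g = c ∧ orderOf g = r} := by
    ext c
    simp only [Set.mem_ofPred_eq, Set.mem_insert_iff]
    constructor
    · rintro ⟨g, rfl, hg⟩
      have h2 := orderOf_dvd_of_pow_eq_one hg
      rcases (Nat.dvd_prime hr).mp h2 with h3 | h3
      · left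
        rw [orderOf_eq_one_iff.mp h3]
      · right
        exact ⟨g, rfl, h3⟩
    · rintro (rfl | ⟨g, rfl, hg⟩)
      · exact ⟨1, rfl, one_pow r⟩
      · exact ⟨g, rfl, by rw [← hg, pow_orderOf_eq_one]⟩
  have hnot : ConjClasses.mk (1 : ↥(Cfsg.GU n K q)) ∉
      {c : ConjClasses ↥(Cfsg.GU n K q) |
      ∃ g : ↥(Cfsg.GU n K q), ConjClasses.mk g = c ∧ orderOf g = r} := by
    rintro ⟨g, hg1, hg2⟩
    rw [ConjClasses.mk_eq_mk_iff_isConj, isConj_one_left] at hg1
    rw [hg1, orderOf_one] at hg2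
    exact hr.one_lt.ne hg2
  have h2 := Set.ncard_insert_of_notMem hnot (Set.toFinite _)
  rw [← hset] at h2
  rw [← Nat.card_coe_set_eq, ← Nat.card_coe_set_eq] at h2
  exact h2.symm

end gu

end Cfsg.Agent.helper1.S2671i
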