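import Mathlib
import Cfsg.Prelude
import Cfsg.Agent.Lib_helper1_SchurBound

set_option autoImplicit false
set_option linter.unusedVariables false
set_option linter.unusedSectionVars false
set_option linter.style.longLine false
set_option linter.style.haveILetI false

/-!
helper1: Schur's bound in power-invariance form, for a possibly non-faithful character of a
`p`-group: `v_p |R| ≤ Σ_i ⌊n/((p-1)p^i)⌋ + v_p |ker ψ|`.
-/

namespace Cfsg.Agent.helper1

open Cfsg
open scoped ComplexConjugate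

universe u

section Values2

variable {P : Type u} [Group P] [Fintype P]

/-- the values of a faithful `p'`-power invariant character of a `p`-group at nonidentity elements -/
theorem pgroup_char_value' (p : ℕ) (hp : p.Prime) (hP : IsPGroup p P) {ψ : P → ℂ}
    (hψ : IsCharacter P ψ) (n : ℕ) (hn : ψ 1 = n)
    (hinv : ∀ (x : P) (t : ℕ), ¬ p ∣ t → ψ (x ^ t) = ψ x) (x : P) (hx1 : ψ x ≠ ψ 1) :
    ∃ s : ℕ, 1 ≤ s ∧ (p - 1) * s ≤ n ∧ ψ x = (n : ℂ) - (p : ℂ) * s := by
  classical
  obtain ⟨j, hj⟩ := hP x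
  have hx : x ^ (p ^ (j + 1)) = 1 := by rw [pow_succ, pow_mul, hj, one_pow]
  obtain ⟨w₀, w₁, hw₁, hrel⟩ := fixed_relation p hp hψ n hn x j hx (ψ x) (fun k hk => hinv x k hk)
  have hp1 : ((p : ℂ) - 1) ≠ 0 := by
    have : (1 : ℕ) < p := hp.one_lt
    have h2 : ((p : ℂ) - 1) = ((p - 1 : ℕ) : ℂ) := by
      rw [Nat.cast_sub hp.one_lt.le]; simp
    rw [h2]
    exact_mod_cast (by omega : p - 1 ≠ 0)
  -- integrality
  have hint : IsIntegral ℤ (ψ x) := helper24.char_isIntegral hψ x
  have hq : ψ x = algebraMap ℚ ℂ (((p : ℚ) * w₀ - w₁) / ((p : ℚ) - 1)) := by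
    have : ψ x = ((p : ℂ) * w₀ - w₁) / ((p : ℂ) - 1) := by
      field_simp
      linear_combination -hrel
    rw [this]
    push_cast
    rfl
  rw [hq] at hint
  have hintQ : IsIntegral ℤ (((p : ℚ) * w₀ - w₁) / ((p : ℚ) - 1)) :=
    (isIntegral_algebraMap_iff (algebraMap ℚ ℂ).injective).mp hint
  obtain ⟨z, hz⟩ := IsIntegrallyClosed.isIntegral_iff.mp hintQ
  have hzc : ψ x = (z : ℂ) := by
    rw [hq, ← hz]
    simp
  -- the integer relation
  have hrelZ : (p : ℤ) * w₀ = w₁ + ((p : ℤ) - 1) * z := by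
    rw [hzc] at hrel
    exact_mod_cast hrel
  -- congruence
  obtain ⟨M, hM⟩ := helper24.exists_isPModular hp
  have hcong := helper24.char_congr_pregular_part hM hψ x 1 (Commute.one_right x) hj
  rw [mul_one, hn, hzc] at hcong
  obtain ⟨e, heM, hez⟩ := hcong
  have hdvd : (p : ℤ) ∣ z - n := by
    by_contra hnd
    have hnd' : ¬ p ∣ (z - n).natAbs := fun h => hnd (Int.natCast_dvd.mpr h)
    obtain ⟨d, hd, hpd⟩ : ∃ d : ℕ, (z - n = (d : ℤ) ∨ z - n = -(d : ℤ)) ∧ ¬ p ∣ d :=
      ⟨(z - n).natAbs, Int.natAbs_eq _, hnd'⟩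
    have h1 := helper23.natCast_not_mem_of_not_dvd hM d hpd
    apply h1
    have he : e = ((z - n : ℤ) : AlgInt) := by
      apply Subtype.ext
      rw [hez]
      push_cast
      rfl
    rcases hd with h2 | h2
    · have : ((d : ℕ) : AlgInt) = e := by
        rw [he, h2]
        simp
      rw [this]; exact heM
    · have : ((d : ℕ) : AlgInt) = -e := by
        rw [he, h2]
        simp
      rw [this]; exact M.neg_mem heM
  -- bounds
  have hzn : z ≠ n := by
    intro h
    apply hx1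
    rw [hzc, hn, h]
    push_cast
    rfl
  have hzle : z ≤ n := by
    have h1 := helper24.char_norm_le hψ x
    rw [hzc, hn] at h1
    have h2 : ‖(z : ℂ)‖ = |(z : ℝ)| := by
      rw [← Complex.ofReal_intCast, Complex.norm_real, Real.norm_eq_abs]
    have h3 : ‖(n : ℂ)‖ = (n : ℝ) := by
      rw [← Complex.ofReal_natCast, Complex.norm_real, Real.norm_eq_abs, abs_of_nonneg (Nat.cast_nonneg n)]
    rw [h2, h3] at h1
    have h4 : (z : ℝ) ≤ n := le_trans (le_abs_self _) h1
    exact_mod_cast h4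
  obtain ⟨s', hs'⟩ := hdvd
  have hppos : (0 : ℤ) < p := by exact_mod_cast hp.pos
  have hs'neg : s' < 0 := by
    by_contra h
    push Not at h
    have : (0 : ℤ) ≤ (p : ℤ) * s' := mul_nonneg hppos.le h
    have h5 : z < n := lt_of_le_of_ne hzle hzn
    omega
  obtain ⟨s, hs⟩ : ∃ s : ℕ, (s : ℤ) = -s' := ⟨(-s').toNat, Int.toNat_of_nonneg (by omega)⟩
  refine ⟨s, by omega, ?_, ?_⟩
  · -- (p-1) s ≤ n
    have h1 : (p : ℤ) * (((p : ℤ) - 1) * s) ≤ (p : ℤ) * n := by
      have h2 : (p : ℤ) * s = n - z := by rw [hs]; linarith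
      have h3 : ((p : ℤ) - 1) * ((p : ℤ) * s) = ((p : ℤ) - 1) * n - (p : ℤ) * w₀ + w₁ := by
        rw [h2, hrelZ]; ring
      have h4 : (0 : ℤ) ≤ (p : ℤ) * w₀ := by positivity
      have h5 : (w₁ : ℤ) ≤ n := by exact_mod_cast hw₁
      nlinarith
    have h2 : ((p : ℤ) - 1) * s ≤ n := le_of_mul_le_mul_left h1 hppos
    have h3 : (((p - 1) * s : ℕ) : ℤ) = ((p : ℤ) - 1) * s := by
      rw [Nat.cast_mul, Nat.cast_sub hp.one_lt.le]; simp
    have h4 : (((p - 1) * s : ℕ) : ℤ) ≤ (n : ℤ) := by rw [h3]; exact h2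
    exact_mod_cast h4
  · rw [hzc]
    have h2 : z = n - (p : ℤ) * s := by rw [hs]; linarith
    rw [h2]
    push_cast
    ring


end Values2

section Main2

variable {R : Type u} [Group R] [Fintype R]

open Polynomial in
/-- **Schur's bound**, power-invariance form: `ψ` a character of the `p`-group `R` of degree `n`
with `ψ (x ^ t) = ψ x` for `p ∤ t`, `K` its kernel. -/
theorem schur_bound_inv (p : ℕ) (hp : p.Prime) (hR : IsPGroup p R) (ψ : R → ℂ)
    (hψ : IsCharacter R ψ) (n : ℕ) (hn1 : ψ 1 = n)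
    (hinv : ∀ (x : R) (t : ℕ), ¬ p ∣ t → ψ (x ^ t) = ψ x)
    (K : Subgroup R) (hK : ∀ x : R, x ∈ K ↔ ψ x = ψ 1) :
    (Nat.card R).factorization p ≤
      (∑ i ∈ Finset.range (n + 1), n / ((p - 1) * p ^ i)) + (Nat.card K).factorization p := by
  classical
  haveI : Fact p.Prime := ⟨hp⟩
  obtain ⟨a, hPcard⟩ := IsPGroup.iff_card.1 hR
  obtain ⟨b, hKcard⟩ := IsPGroup.iff_card.1 (hR.to_subgroup K)
  set M := n / (p - 1) with hM
  have hp1 : 0 < p - 1 := by have := hp.one_lt; omega
  set f : Polynomial ℤ := ∏ s ∈ Finset.range M, (X - C ((n : ℤ) - (p : ℤ) * ((s : ℤ) + 1))) with hf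
  have heval : ∀ c : ℂ, Polynomial.aeval c f =
      ∏ s ∈ Finset.range M, (c - ((n : ℂ) - (p : ℂ) * ((s : ℂ) + 1))) := by
    intro c
    rw [hf, map_prod]
    refine Finset.prod_congr rfl fun s _ => ?_
    simp
  have hvan : ∀ x : R, x ∉ K → Polynomial.aeval (ψ x) f = 0 := by
    intro x hx
    have hx' : ψ x ≠ ψ 1 := fun h => hx ((hK x).2 h)
    obtain ⟨s, hs1, hs2, hs3⟩ := pgroup_char_value' p hp hR hψ n hn1 hinv x hx'
    rw [heval]
    apply Finset.prod_eq_zero (i := s - 1)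
    · rw [Finset.mem_range, hM]
      have : s ≤ n / (p - 1) := (Nat.le_div_iff_mul_le hp1).2 (by rw [mul_comm]; exact hs2)
      omega
    · rw [hs3]
      have : ((s - 1 : ℕ) : ℂ) + 1 = s := by
        rw [Nat.cast_sub hs1]; simp
      rw [this]
      ring
  obtain ⟨z, hz⟩ := sum_aeval_char hψ f
  have hfn : Polynomial.aeval (n : ℂ) f = ((p ^ M * M.factorial : ℕ) : ℂ) := by
    rw [heval]
    have : ∀ s ∈ Finset.range M, ((n : ℂ) - ((n : ℂ) - (p : ℂ) * ((s : ℂ) + 1))) =
        (p : ℂ) * ((s + 1 : ℕ) : ℂ) := by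
      intro s _
      push_cast
      ring
    rw [Finset.prod_congr rfl this, Finset.prod_mul_distrib, Finset.prod_const, Finset.card_range,
      ← Nat.cast_prod, Finset.prod_range_add_one_eq_factorial]
    push_cast
    rfl
  have hsum : ∑ x : R, Polynomial.aeval (ψ x) f = ((p ^ b * (p ^ M * M.factorial) : ℕ) : ℂ) := by
    have h1 : ∑ x : R, Polynomial.aeval (ψ x) f =
        ∑ x ∈ Finset.univ.filter (fun x : R => x ∈ K), Polynomial.aeval (ψ x) f := by
      symm
      apply Finset.sum_subset (Finset.filter_subset _ _)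
      intro x _ hx
      apply hvan
      intro h
      exact hx (Finset.mem_filter.2 ⟨Finset.mem_univ _, h⟩)
    rw [h1]
    have h2 : ∀ x ∈ Finset.univ.filter (fun x : R => x ∈ K), Polynomial.aeval (ψ x) f =
        ((p ^ M * M.factorial : ℕ) : ℂ) := by
      intro x hx
      rw [(hK x).1 (Finset.mem_filter.1 hx).2, hn1, hfn]
    rw [Finset.sum_congr rfl h2, Finset.sum_const, nsmul_eq_mul]
    have h3 : (Finset.univ.filter (fun x : R => x ∈ K)).card = p ^ b := by
      rw [← hKcard, Nat.card_eq_fintype_card, Fintype.card_subtype]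
    rw [h3]
    push_cast
    rfl
  rw [hsum, hPcard] at hz
  have hdvd : p ^ a ∣ p ^ b * (p ^ M * M.factorial) := by
    have h1 : (((p ^ b * (p ^ M * M.factorial) : ℕ) : ℤ) : ℂ) = (((p ^ a : ℕ) : ℤ) * z : ℤ) := by
      push_cast
      push_cast at hz
      exact hz
    have h2 : ((p ^ b * (p ^ M * M.factorial) : ℕ) : ℤ) = ((p ^ a : ℕ) : ℤ) * z := by exact_mod_cast h1
    exact Int.natCast_dvd_natCast.mp ⟨z, h2⟩
  have hne : p ^ b * (p ^ M * M.factorial) ≠ 0 :=
    Nat.mul_ne_zero (pow_pos hp.pos b).ne'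
      (Nat.mul_ne_zero (pow_pos hp.pos M).ne' (Nat.factorial_ne_zero M))
  have hle : a ≤ (p ^ b * (p ^ M * M.factorial)).factorization p :=
    (Nat.Prime.pow_dvd_iff_le_factorization hp hne).1 hdvd
  rw [Nat.factorization_mul (pow_pos hp.pos b).ne'
      (Nat.mul_ne_zero (pow_pos hp.pos M).ne' (Nat.factorial_ne_zero M)),
    Nat.factorization_mul (pow_pos hp.pos M).ne' (Nat.factorial_ne_zero M)] at hle
  have h3 : (p ^ M).factorization p = M := by
    rw [Nat.factorization_pow]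
    simp [Nat.Prime.factorization_self hp]
  have h3b : (p ^ b).factorization p = b := by
    rw [Nat.factorization_pow]
    simp [Nat.Prime.factorization_self hp]
  have hlog : Nat.log p M < n + 1 := by
    have h4 : Nat.log p M ≤ M := Nat.log_le_self p M
    have h5 : M ≤ n := Nat.div_le_self n (p - 1)
    omega
  have h4 : (M.factorial).factorization p = ∑ i ∈ Finset.Ico 1 (n + 1), M / p ^ i :=
    Nat.factorization_factorial hp hlog
  have h5 : ∑ i ∈ Finset.range (n + 1), n / ((p - 1) * p ^ i) =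
      M + ∑ i ∈ Finset.Ico 1 (n + 1), M / p ^ i := by
    rw [Finset.range_eq_Ico, Finset.sum_eq_sum_Ico_succ_bot (Nat.succ_pos n)]
    congr 1
    · rw [pow_zero, mul_one]
    · refine Finset.sum_congr rfl fun i _ => ?_
      rw [hM, Nat.div_div_eq_div_mul]
  rw [h5, hPcard, hKcard, h3b]
  have ha : (p ^ a).factorization p = a := by
    rw [Nat.factorization_pow]
    simp [Nat.Prime.factorization_self hp]
  rw [ha]
  simp only [Finsupp.coe_add, Pi.add_apply] at hle
  rw [h3, h3b, h4] at hle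
  omega

end Main2

end Cfsg.Agent.helper1
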