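import Mathlib
import Cfsg.Prelude
import Cfsg.Agent.Lib_helper1_RepEquiv

set_option autoImplicit false
set_option linter.unusedVariables false
set_option linter.unusedSectionVars false
set_option linter.style.longLine false
set_option linter.style.haveILetI false

/-!
helper1: Brauer's splitting field theorem, part 1: representations over a subfield `K` of `ℂ`,
their `ℂ`-valued characters and complexification in a basis.
-/

namespace Cfsg.Agent.helper1

open Cfsg Module

universe u v w

section KRep

variable {K : Type w} [Field K] [Algebra K ℂ]
variable {G : Type u} [Group G]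

/-- the `ℂ`-valued character of a representation over `K` -/
noncomputable def kchar {W : Type v} [AddCommGroup W] [Module K W] (τ : Representation K G W)
    (g : G) : ℂ :=
  algebraMap K ℂ (LinearMap.trace K W (τ g))

/-- complexification of a `K`-representation in a basis -/
noncomputable def kcomplex {W : Type v} [AddCommGroup W] [Module K W]
    (τ : Representation K G W) {a : ℕ} (b : Basis (Fin a) K W) :
    Representation ℂ G (Fin a → ℂ) where
  toFun g := Matrix.toLin' ((LinearMap.toMatrix b b (τ g)).map (algebraMap K ℂ))
  map_one' := by
    rw [map_one, Module.End.one_eq_id, LinearMap.toMatrix_id, Matrix.map_one _ (map_zero _) (map_one _),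
      Matrix.toLin'_one]
    rfl
  map_mul' g h := by
    rw [map_mul, Module.End.mul_eq_comp, LinearMap.toMatrix_comp b b b, Matrix.map_mul,
      Matrix.toLin'_mul]
    rfl

theorem kcomplex_apply {W : Type v} [AddCommGroup W] [Module K W]
    (τ : Representation K G W) {a : ℕ} (b : Basis (Fin a) K W) (g : G) :
    kcomplex τ b g = Matrix.toLin' ((LinearMap.toMatrix b b (τ g)).map (algebraMap K ℂ)) := rfl

theorem kcomplex_character {W : Type v} [AddCommGroup W] [Module K W]
    (τ : Representation K G W) {a : ℕ} (b : Basis (Fin a) K W) (g : G) :
    (kcomplex τ b).character g = kchar τ g := by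
  show LinearMap.trace ℂ _ (kcomplex τ b g) = _
  rw [kcomplex_apply, LinearMap.trace_eq_matrix_trace ℂ (Pi.basisFun ℂ (Fin a)),
    LinearMap.toMatrix_eq_toMatrix', LinearMap.toMatrix'_toLin', kchar,
    LinearMap.trace_eq_matrix_trace K b]
  simp only [Matrix.trace, Matrix.diag_apply, Matrix.map_apply, map_sum]

theorem kchar_isCharacter {W : Type v} [AddCommGroup W] [Module K W]
    (τ : Representation K G W) {a : ℕ} (b : Basis (Fin a) K W) :
    IsCharacter G (kchar τ) :=
  ⟨a, kcomplex τ b, funext fun g => kcomplex_character τ b g⟩

theorem kchar_one {W : Type v} [AddCommGroup W] [Module K W] [Module.Finite K W]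
    (τ : Representation K G W) : kchar τ 1 = (Module.finrank K W : ℂ) := by
  rw [kchar, map_one, LinearMap.trace_one, map_natCast]

/-- Theorem B: a `K`-representation with the character of `ρ` gives a realization of `ρ`
with matrix entries in the image of `K`. -/
theorem realize_of_kchar [Finite G] {W : Type v} [AddCommGroup W] [Module K W] [Module.Finite K W]
    (τ : Representation K G W) (n : ℕ) (ρ : Representation ℂ G (Fin n → ℂ))
    (h : ∀ g, kchar τ g = ρ.character g) :
    ∃ σ : Representation ℂ G (Fin n → ℂ), Nonempty (ρ.Equiv σ) ∧
      ∀ g : G, ∀ i j : Fin n, LinearMap.toMatrix' (σ g) i j ∈ Set.range (algebraMap K ℂ) := by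
  have h1 := h 1
  rw [kchar_one] at h1
  have h2 : ρ.character 1 = (n : ℂ) := by
    show LinearMap.trace ℂ _ (ρ 1) = _
    rw [map_one, LinearMap.trace_one, Module.finrank_fin_fun]
  rw [h2] at h1
  have hfr : Module.finrank K W = n := by exact_mod_cast h1
  let b : Basis (Fin n) K W := Module.finBasisOfFinrankEq K W hfr
  refine ⟨kcomplex τ b, ?_, ?_⟩
  · apply equiv_of_character_eq
    funext g
    rw [kcomplex_character, h g]
  · intro g i j
    rw [kcomplex_apply, LinearMap.toMatrix'_toLin', Matrix.map_apply]
    exact ⟨_, rfl⟩

end KRep

end Cfsg.Agent.helper1
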