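import Mathlib
import Cfsg.Prelude
import Cfsg.Agent.Lib_helper1_Split1

set_option autoImplicit false
set_option linter.unusedVariables false
set_option linter.unusedSectionVars false
set_option linter.style.longLine false
set_option linter.style.haveILetI false

/-!
helper1: Brauer's splitting field theorem, part 2: nonzero intertwiners from characters.
-/

namespace Cfsg.Agent.helper1

open Cfsg Module

universe u v w

section Intertwiner

variable {K : Type w} [Field K]
variable {G : Type u} [Group G] [Fintype G]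

theorem exists_intertwiner {Wp Wm : Type v} [AddCommGroup Wp] [Module K Wp] [Module.Finite K Wp]
    [AddCommGroup Wm] [Module K Wm] [Module.Finite K Wm]
    (τp : Representation K G Wp) (τm : Representation K G Wm)
    (hne : ∑ g : G, LinearMap.trace K Wp (τp g) * LinearMap.trace K Wm (τm g⁻¹) ≠ 0) :
    ∃ T : Wm →ₗ[K] Wp, T ≠ 0 ∧ ∀ g, (τp g) ∘ₗ T = T ∘ₗ (τm g) := by
  classical
  by_contra hcon
  push Not at hcon
  obtain ⟨a, ⟨bm⟩⟩ : ∃ a : ℕ, Nonempty (Basis (Fin a) K Wm) := ⟨_, ⟨Module.finBasis K Wm⟩⟩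
  obtain ⟨b, ⟨bp⟩⟩ : ∃ b : ℕ, Nonempty (Basis (Fin b) K Wp) := ⟨_, ⟨Module.finBasis K Wp⟩⟩
  obtain ⟨A, hA⟩ : ∃ A : G → Matrix (Fin b) (Fin b) K, ∀ g, A g = LinearMap.toMatrix bp bp (τp g) :=
    ⟨_, fun _ => rfl⟩
  obtain ⟨B, hB⟩ : ∃ B : G → Matrix (Fin a) (Fin a) K, ∀ g, B g = LinearMap.toMatrix bm bm (τm g) :=
    ⟨_, fun _ => rfl⟩
  have hAmul : ∀ g h, A (g * h) = A g * A h := by
    intro g h
    rw [hA, hA, hA, map_mul, Module.End.mul_eq_comp, LinearMap.toMatrix_comp bp bp bp]
  have hBmul : ∀ g h, B (g * h) = B g * B h := by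
    intro g h
    rw [hB, hB, hB, map_mul, Module.End.mul_eq_comp, LinearMap.toMatrix_comp bm bm bm]
  obtain ⟨X, hX⟩ : ∃ X : Fin b → Fin a → Matrix (Fin b) (Fin a) K,
      ∀ i j, X i j = ∑ g : G, A g * Matrix.single i j (1 : K) * B g⁻¹ := ⟨_, fun _ _ => rfl⟩
  have hinter : ∀ i j h, A h * X i j = X i j * B h := by
    intro i j h
    rw [hX, Matrix.mul_sum, Matrix.sum_mul]
    apply Fintype.sum_equiv (Equiv.mulLeft h)
    intro g
    simp only [Equiv.coe_mulLeft]
    rw [hAmul, mul_inv_rev, Matrix.mul_assoc (A h * A g * Matrix.single i j 1),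
      ← hBmul, inv_mul_cancel_right]
    simp only [Matrix.mul_assoc]
  have hzero : ∀ i j, X i j = 0 := by
    intro i j
    have h1 := hcon (Matrix.toLin bm bp (X i j))
    have h2 : Matrix.toLin bm bp (X i j) = 0 := by
      by_contra hne0
      obtain ⟨g, hg⟩ := h1 hne0
      apply hg
      have e1 : τp g = Matrix.toLin bp bp (A g) := by rw [hA, Matrix.toLin_toMatrix]
      have e2 : τm g = Matrix.toLin bm bm (B g) := by rw [hB, Matrix.toLin_toMatrix]
      rw [e1, e2, ← Matrix.toLin_mul bm bp bp, ← Matrix.toLin_mul bm bm bp, hinter]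
    have h3 := (Matrix.toLin bm bp).injective (a₁ := X i j) (a₂ := 0) (by rw [h2, map_zero])
    exact h3
  apply hne
  have hentry : ∀ i j, (X i j) i j = ∑ g : G, A g i i * B g⁻¹ j j := by
    intro i j
    rw [hX, Matrix.sum_apply]
    apply Finset.sum_congr rfl
    intro g _
    rw [Matrix.mul_apply, Finset.sum_eq_single j]
    · rw [Matrix.mul_single_apply_same (1 : K) i j i (A g), mul_one]
    · intro l _ hl
      rw [Matrix.mul_single_apply_of_ne (1 : K) i j i l hl (A g), zero_mul]
    · intro h; exact absurd (Finset.mem_univ _) h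
  have htot : ∑ i, ∑ j, (X i j) i j = 0 := by
    apply Finset.sum_eq_zero; intro i _
    apply Finset.sum_eq_zero; intro j _
    rw [hzero]; rfl
  rw [← htot]
  simp only [hentry]
  rw [Finset.sum_congr rfl (fun i _ => Finset.sum_comm)]
  rw [Finset.sum_comm]
  apply Finset.sum_congr rfl
  intro g _
  rw [LinearMap.trace_eq_matrix_trace K bp, LinearMap.trace_eq_matrix_trace K bm, ← hA, ← hB,
    Matrix.trace, Matrix.trace, Finset.sum_mul_sum]
  rfl

end Intertwiner

end Cfsg.Agent.helper1
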