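import Mathlib
import Cfsg.Prelude
import Cfsg.Agent.Lib_helper1_Split2
import Cfsg.Agent.Lib_helper8_Clifford
import Cfsg.Agent.Lib_helper24_CharBasic

set_option autoImplicit false
set_option linter.unusedVariables false
set_option linter.unusedSectionVars false
set_option linter.style.longLine false
set_option linter.style.haveILetI false

/-!
helper1: Brauer's splitting field theorem, part 3: cancellation for representations over `K`.
-/

namespace Cfsg.Agent.helper1

open Cfsg Module
open scoped ComplexConjugate

universe u v w

section Pos

variable {G : Type u} [Group G] [Fintype G]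

theorem trace_sum_ne_zero {ψm ψp χ : G → ℂ} (hm : IsCharacter G ψm) (hχ : IsCharacter G χ)
    (h1 : ψm 1 ≠ 0) (hp : ∀ g, ψp g = ψm g + χ g) : ∑ g, ψp g * ψm g⁻¹ ≠ 0 := by
  obtain ⟨a1, ha1⟩ := helper12.classInner_char_nat hm hm
  obtain ⟨a2, ha2⟩ := helper12.classInner_char_nat hχ hm
  have hpos : 1 ≤ a1 := helper8.one_le_norm_of_char hm h1 a1 ha1
  have hG0 : (Nat.card G : ℂ) ≠ 0 := by exact_mod_cast (Nat.card_pos (α := G)).ne'
  have e : ∑ g, ψp g * ψm g⁻¹ = (Nat.card G : ℂ) * ((a1 : ℂ) + a2) := by
    rw [← ha1, ← ha2]
    unfold classInner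
    rw [← mul_add, ← mul_assoc, mul_inv_cancel₀ hG0, one_mul, ← Finset.sum_add_distrib]
    apply Finset.sum_congr rfl
    intro g _
    rw [hp, helper24.char_inv hm]
    ring
  rw [e]
  apply mul_ne_zero hG0
  have : ((a1 : ℂ) + a2) = ((a1 + a2 : ℕ) : ℂ) := by push_cast; rfl
  rw [this]
  exact_mod_cast (by omega : a1 + a2 ≠ 0)

end Pos

section Cancel

variable {K : Type w} [Field K] [Algebra K ℂ]
variable {G : Type u} [Group G]

theorem trace_eq_add_of_isCompl {W : Type v} [AddCommGroup W] [Module K W] [Module.Finite K W]
    (τ : Representation K G W) (U U' : Subrepresentation τ)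
    (h : IsCompl U.toSubmodule U'.toSubmodule) (g : G) :
    LinearMap.trace K W (τ g) = LinearMap.trace K _ (U.toRepresentation g) +
      LinearMap.trace K _ (U'.toRepresentation g) := by
  let e := Submodule.prodEquivOfIsCompl U.toSubmodule U'.toSubmodule h
  have h1 : τ g = e.conj (LinearMap.prodMap (U.toRepresentation g) (U'.toRepresentation g)) := by
    apply LinearMap.ext
    intro v
    obtain ⟨⟨u, u'⟩, rfl⟩ := e.surjective v
    rw [LinearEquiv.conj_apply_apply, LinearEquiv.symm_apply_apply]
    simp only [e, Submodule.coe_prodEquivOfIsCompl', LinearMap.prodMap_apply, map_add]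
    rfl
  rw [h1, LinearMap.trace_conj', LinearMap.trace_prodMap']

theorem kchar_eq_add_of_isCompl {W : Type v} [AddCommGroup W] [Module K W] [Module.Finite K W]
    (τ : Representation K G W) (U U' : Subrepresentation τ)
    (h : IsCompl U.toSubmodule U'.toSubmodule) (g : G) :
    kchar τ g = kchar U.toRepresentation g + kchar U'.toRepresentation g := by
  unfold kchar
  rw [trace_eq_add_of_isCompl τ U U' h g, map_add]

theorem exists_subrep_isCompl' [Finite G] {W : Type v} [AddCommGroup W] [Module K W]
    (τ : Representation K G W) (U : Subrepresentation τ) :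
    ∃ U' : Subrepresentation τ, IsCompl U.toSubmodule U'.toSubmodule := by
  haveI : CharZero K := (algebraMap K ℂ).charZero
  haveI : NeZero (Nat.card G : K) := ⟨by exact_mod_cast (Nat.card_pos (α := G)).ne'⟩
  obtain ⟨U', hU'⟩ := exists_isCompl U
  refine ⟨U', ?_, ?_⟩
  · rw [disjoint_iff]
    have := congrArg Subrepresentation.toSubmodule (disjoint_iff.mp hU'.1)
    exact this
  · rw [codisjoint_iff]
    have := congrArg Subrepresentation.toSubmodule (codisjoint_iff.mp hU'.2)
    exact this

/-- Theorem A: cancellation. -/
theorem realize_aux [Finite G] (n : ℕ) (ρ : Representation ℂ G (Fin n → ℂ)) :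
    ∀ k : ℕ, ∀ (Wp Wm : Type v) [AddCommGroup Wp] [Module K Wp] [Module.Finite K Wp]
      [AddCommGroup Wm] [Module K Wm] [Module.Finite K Wm]
      (τp : Representation K G Wp) (τm : Representation K G Wm),
      Module.finrank K Wm = k → (∀ g, kchar τp g = kchar τm g + ρ.character g) →
      ∃ (U : Type v) (_ : AddCommGroup U) (_ : Module K U) (_ : Module.Finite K U)
        (τ : Representation K G U), ∀ g, kchar τ g = ρ.character g := by
  classical
  haveI : Fintype G := Fintype.ofFinite G
  intro k
  induction k using Nat.strong_induction_on with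
  | _ k ih =>
    intro Wp Wm _ _ _ _ _ _ τp τm hk hchar
    by_cases hk0 : k = 0
    · rw [hk0] at hk
      haveI : Subsingleton Wm := Module.finrank_zero_iff.mp hk
      refine ⟨Wp, inferInstance, inferInstance, inferInstance, τp, ?_⟩
      intro g
      rw [hchar g]
      have : kchar τm g = 0 := by
        unfold kchar
        rw [Subsingleton.elim (τm g) 0, map_zero, map_zero]
      rw [this, zero_add]
    · have hkpos : 0 < k := Nat.pos_of_ne_zero hk0
      have hm : IsCharacter G (kchar τm) := kchar_isCharacter τm (Module.finBasis K Wm)
      have hχ : IsCharacter G ρ.character := ⟨n, ρ, rfl⟩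
      have h1 : kchar τm 1 ≠ 0 := by
        rw [kchar_one, hk]
        exact_mod_cast hk0
      have hsum := trace_sum_ne_zero hm hχ h1 hchar
      have hsumK : ∑ g : G, LinearMap.trace K Wp (τp g) * LinearMap.trace K Wm (τm g⁻¹) ≠ 0 := by
        intro h0
        apply hsum
        have := congrArg (algebraMap K ℂ) h0
        rw [map_sum, map_zero] at this
        rw [← this]
        apply Finset.sum_congr rfl
        intro g _
        rw [map_mul]
        rfl
      obtain ⟨T, hT0, hT⟩ := exists_intertwiner τp τm hsumK
      have hTg : ∀ g v, τp g (T v) = T (τm g v) := fun g v => LinearMap.congr_fun (hT g) v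
      -- the kernel
      let U₀ : Subrepresentation τm :=
        { toSubmodule := LinearMap.ker T
          apply_mem_toSubmodule := by
            intro g v hv
            rw [LinearMap.mem_ker] at hv ⊢
            rw [← hTg, hv, map_zero] }
      obtain ⟨U₁, hU₁⟩ := exists_subrep_isCompl' τm U₀
      -- the restriction of T to U₁
      let T₁ : U₁.toSubmodule →ₗ[K] Wp := T ∘ₗ U₁.toSubmodule.subtype
      have hinj : Function.Injective T₁ := by
        rw [← LinearMap.ker_eq_bot, LinearMap.ker_eq_bot']
        intro u hu
        have h2 : (u : Wm) ∈ U₀.toSubmodule ⊓ U₁.toSubmodule :=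
          ⟨LinearMap.mem_ker.2 hu, u.2⟩
        rw [hU₁.1.eq_bot, Submodule.mem_bot] at h2
        exact Subtype.ext h2
      let I : Subrepresentation τp :=
        { toSubmodule := LinearMap.range T₁
          apply_mem_toSubmodule := by
            rintro g _ ⟨u, rfl⟩
            refine ⟨⟨τm g u, U₁.apply_mem_toSubmodule g u.2⟩, ?_⟩
            show T (τm g u) = τp g (T u)
            rw [hTg] }
      obtain ⟨C, hC⟩ := exists_subrep_isCompl' τp I
      let e : U₁.toSubmodule ≃ₗ[K] LinearMap.range T₁ := LinearEquiv.ofInjective T₁ hinj
      have htr : ∀ g, LinearMap.trace K _ (I.toRepresentation g) =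
          LinearMap.trace K _ (U₁.toRepresentation g) := by
        intro g
        have h3 : I.toRepresentation g = e.conj (U₁.toRepresentation g) := by
          apply LinearMap.ext
          intro y
          obtain ⟨u, rfl⟩ := e.surjective y
          rw [LinearEquiv.conj_apply_apply, LinearEquiv.symm_apply_apply]
          apply Subtype.ext
          show τp g (T u) = T (τm g u)
          rw [hTg]
        rw [h3, LinearMap.trace_conj']
      have hchar' : ∀ g, kchar C.toRepresentation g = kchar U₀.toRepresentation g + ρ.character g := by
        intro g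
        have e1 := kchar_eq_add_of_isCompl τm U₀ U₁ hU₁ g
        have e2 := kchar_eq_add_of_isCompl τp I C hC g
        have e3 : kchar I.toRepresentation g = kchar U₁.toRepresentation g := by
          unfold kchar; rw [htr]
        have e4 := hchar g
        rw [e1, e2, e3] at e4
        linear_combination e4
      have hlt : Module.finrank K U₀.toSubmodule < k := by
        rw [← hk]
        apply Submodule.finrank_lt
        intro htop
        apply hT0
        apply LinearMap.ext
        intro v
        have : v ∈ LinearMap.ker T := by
          show v ∈ U₀.toSubmodule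
          rw [htop]; exact Submodule.mem_top
        rw [LinearMap.mem_ker.1 this]
        rfl
      exact ih _ hlt C.toSubmodule U₀.toSubmodule C.toRepresentation U₀.toRepresentation rfl hchar'

end Cancel

end Cfsg.Agent.helper1
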