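import Mathlib
import Cfsg.Prelude
import Cfsg.Agent.Lib_helper1_Split1
import Cfsg.Agent.Lib_helper5_Ind

set_option autoImplicit false
set_option linter.unusedVariables false
set_option linter.unusedSectionVars false
set_option linter.style.longLine false
set_option linter.style.haveILetI false

/-!
helper1: Brauer's splitting field theorem, part 4: induced representations over `K`
(images of idempotents on a free module) and their characters.
-/

namespace Cfsg.Agent.helper1

open Cfsg Module

universe u v w

section TraceIdem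

variable {K : Type w} [Field K]

theorem trace_restrict_range_of_idem {M : Type v} [AddCommGroup M] [Module K M] [Module.Finite K M]
    (f P : M →ₗ[K] M) (hP : ∀ m, P (P m) = P m) (hcomm : ∀ m, f (P m) = P (f m))
    (W : Submodule K M) (hW : W = LinearMap.range P) (fW : W →ₗ[K] W)
    (hfW : ∀ w : W, (fW w : M) = f w) :
    LinearMap.trace K W fW = LinearMap.trace K M (f ∘ₗ P) := by
  let P' : M →ₗ[K] W := P.codRestrict W (fun m => by rw [hW]; exact LinearMap.mem_range_self P m)
  have h1 : fW = P' ∘ₗ (f ∘ₗ W.subtype) := by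
    apply LinearMap.ext
    intro w
    apply Subtype.ext
    rw [hfW]
    show f w = P (f w)
    obtain ⟨m, hm⟩ : (w : M) ∈ LinearMap.range P := hW ▸ w.2
    rw [← hm, hcomm, hP]
  have h2 : (f ∘ₗ W.subtype) ∘ₗ P' = f ∘ₗ P := by
    apply LinearMap.ext
    intro m
    rfl
  rw [h1, LinearMap.trace_comp_comm', h2]

end TraceIdem

section Induced

open Classical

variable {K : Type w} [Field K] [Algebra K ℂ]
variable {G : Type u} [Group G] [Fintype G]
variable {ι : Type v} [Fintype ι]

/-- the left regular representation on `ι` copies of the functions on `G` -/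
noncomputable def lreg (K : Type w) [Field K] (G : Type u) [Group G] (ι : Type v) :
    Representation K G ((ι × G) → K) where
  toFun g :=
    { toFun := fun f p => f (p.1, g⁻¹ * p.2)
      map_add' := fun _ _ => rfl
      map_smul' := fun _ _ => rfl }
  map_one' := by
    apply LinearMap.ext
    intro f
    funext p
    show f (p.1, 1⁻¹ * p.2) = f p
    rw [inv_one, one_mul]
  map_mul' g h := by
    apply LinearMap.ext
    intro f
    funext p
    show f (p.1, (g * h)⁻¹ * p.2) = f (p.1, h⁻¹ * (g⁻¹ * p.2))
    rw [mul_inv_rev, mul_assoc]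

theorem lreg_apply (g : G) (f : (ι × G) → K) (p : ι × G) :
    lreg K G ι g f p = f (p.1, g⁻¹ * p.2) := rfl

/-- the projection onto the sum of the induced modules -/
noncomputable def indProj (E : ι → Subgroup G) (μ : (i : ι) → (E i →* K)) :
    ((ι × G) → K) →ₗ[K] ((ι × G) → K) where
  toFun f := fun p => (Nat.card (E p.1) : K)⁻¹ * ∑ h : E p.1, μ p.1 h * f (p.1, p.2 * (h : G))
  map_add' := by
    intro f f'
    funext p
    simp only [Pi.add_apply, mul_add, Finset.sum_add_distrib]
  map_smul' := by
    intro c f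
    funext p
    simp only [Pi.smul_apply, smul_eq_mul, RingHom.id_apply, Finset.mul_sum]
    apply Finset.sum_congr rfl
    intro h _
    ring

theorem indProj_apply (E : ι → Subgroup G) (μ : (i : ι) → (E i →* K)) (f : (ι × G) → K)
    (p : ι × G) : indProj E μ f p =
      (Nat.card (E p.1) : K)⁻¹ * ∑ h : E p.1, μ p.1 h * f (p.1, p.2 * (h : G)) := rfl

theorem indProj_idem (E : ι → Subgroup G) (μ : (i : ι) → (E i →* K)) (f : (ι × G) → K) :
    indProj E μ (indProj E μ f) = indProj E μ f := by
  haveI : CharZero K := (algebraMap K ℂ).charZero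
  funext p
  rw [indProj_apply, indProj_apply]
  have hc : (Nat.card (E p.1) : K) ≠ 0 := by exact_mod_cast (Nat.card_pos (α := E p.1)).ne'
  have h1 : ∀ h : E p.1, μ p.1 h * indProj E μ f (p.1, p.2 * (h : G)) =
      (Nat.card (E p.1) : K)⁻¹ * ∑ k : E p.1, μ p.1 k * f (p.1, p.2 * (k : G)) := by
    intro h
    rw [indProj_apply, ← mul_assoc, mul_comm (μ p.1 h), mul_assoc, Finset.mul_sum]
    congr 1
    apply Fintype.sum_equiv (Equiv.mulLeft h)
    intro h'
    simp only [Equiv.coe_mulLeft]
    rw [map_mul, Subgroup.coe_mul, ← mul_assoc, ← mul_assoc]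
  rw [Finset.sum_congr rfl (fun h _ => h1 h), Finset.sum_const, Finset.card_univ, nsmul_eq_mul,
    ← Nat.card_eq_fintype_card, ← mul_assoc, ← mul_assoc, inv_mul_cancel₀ hc, one_mul]

theorem indProj_comm (E : ι → Subgroup G) (μ : (i : ι) → (E i →* K)) (g : G) (f : (ι × G) → K) :
    lreg K G ι g (indProj E μ f) = indProj E μ (lreg K G ι g f) := by
  funext p
  rw [lreg_apply, indProj_apply, indProj_apply]
  congr 1
  apply Finset.sum_congr rfl
  intro h _
  rw [lreg_apply, mul_assoc]

/-- the sum of the induced representations -/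
noncomputable def indSub (E : ι → Subgroup G) (μ : (i : ι) → (E i →* K)) :
    Subrepresentation (lreg K G ι) where
  toSubmodule := LinearMap.range (indProj E μ)
  apply_mem_toSubmodule := by
    rintro g _ ⟨f, rfl⟩
    exact ⟨lreg K G ι g f, (indProj_comm E μ g f).symm⟩

theorem indSub_diag (E : ι → Subgroup G) (μ : (i : ι) → (E i →* K)) (g : G) (i : ι) (x : G) :
    algebraMap K ℂ (∑ h : E i, μ i h *
      (Pi.single ((i, x) : ι × G) (1 : K) : ι × G → K) (i, g⁻¹ * x * (h : G))) =
    extendByZero (E i) (fun h => algebraMap K ℂ (μ i h)) (x⁻¹ * g * x) := by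
  simp only [Pi.single_apply]
  by_cases hmem : x⁻¹ * g * x ∈ E i
  · rw [helper5.extendByZero_of_mem _ _ _ hmem]
    congr 1
    rw [Finset.sum_eq_single (⟨x⁻¹ * g * x, hmem⟩ : E i)]
    · rw [if_pos, mul_one]
      show (i, g⁻¹ * x * (x⁻¹ * g * x)) = (i, x)
      congr 1
      group
    · intro h _ hne
      rw [if_neg, mul_zero]
      intro heq
      apply hne
      apply Subtype.ext
      have h2 : g⁻¹ * x * (h : G) = x := (Prod.mk.injEq _ _ _ _ ▸ heq).2
      show (h : G) = x⁻¹ * g * x
      calc (h : G) = x⁻¹ * g * (g⁻¹ * x * (h : G)) := by group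
        _ = x⁻¹ * g * x := by rw [h2]
    · intro h; exact absurd (Finset.mem_univ _) h
  · rw [helper5.extendByZero_of_not_mem _ _ _ hmem]
    rw [Finset.sum_eq_zero, map_zero]
    intro h _
    rw [if_neg, mul_zero]
    intro heq
    apply hmem
    have h2 : g⁻¹ * x * (h : G) = x := (Prod.mk.injEq _ _ _ _ ▸ heq).2
    have h3 : x⁻¹ * g * x = (h : G) := by
      calc x⁻¹ * g * x = x⁻¹ * g * (g⁻¹ * x * (h : G)) := by rw [h2]
        _ = (h : G) := by group
    rw [h3]
    exact h.2

theorem indSub_kchar (E : ι → Subgroup G) (μ : (i : ι) → (E i →* K)) (g : G) :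
    kchar (indSub E μ).toRepresentation g =
      ∑ i, indFun (E i) (fun h => algebraMap K ℂ (μ i h)) g := by
  unfold kchar
  rw [trace_restrict_range_of_idem (lreg K G ι g) (indProj E μ) (indProj_idem E μ)
    (fun m => indProj_comm E μ g m) (indSub E μ).toSubmodule rfl _ (fun w => rfl)]
  rw [LinearMap.trace_eq_matrix_trace K (Pi.basisFun K (ι × G)), LinearMap.toMatrix_eq_toMatrix',
    Matrix.trace, Fintype.sum_prod_type, map_sum]
  apply Finset.sum_congr rfl
  intro i _
  unfold indFun
  rw [map_sum, Finset.mul_sum]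
  apply Finset.sum_congr rfl
  intro x _
  rw [Matrix.diag_apply, LinearMap.toMatrix'_apply, LinearMap.comp_apply, lreg_apply,
    indProj_apply, map_mul, map_inv₀, map_natCast]
  congr 1
  exact indSub_diag E μ g i x

end Induced

end Cfsg.Agent.helper1
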