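import Mathlib
import Cfsg.Prelude
import Cfsg.Agent.Lib_helper1_Split3
import Cfsg.Agent.Lib_helper1_Split4
import Cfsg.Agent.Lib_helper24_BrauerLinear

set_option autoImplicit false
set_option linter.unusedVariables false
set_option linter.unusedSectionVars false
set_option linter.style.longLine false
set_option linter.style.haveILetI false

/-!
helper1: Brauer's splitting field theorem, part 5: assembly.
-/

namespace Cfsg.Agent.helper1

open Cfsg Module

universe u

theorem list_sum_eq_fin_sum {α M : Type*} [AddCommMonoid M] (l : List α) (f : α → M) :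
    (l.map f).sum = ∑ i : Fin l.length, f (l.get i) := by
  induction l with
  | nil => simp
  | cons a l ih =>
    rw [List.map_cons, List.sum_cons, ih]
    simp [Fin.sum_univ_succ]

section Assembly

variable {G : Type u} [Group G] [Fintype G]

/-- values of linear characters lie in the cyclotomic field of the exponent -/
theorem lin_value_mem (E : Subgroup G) (lam : E →* ℂˣ) (h : E) :
    ((lam h : ℂˣ) : ℂ) ∈ IntermediateField.adjoin ℚ
      ({Complex.exp (2 * Real.pi * Complex.I / (Monoid.exponent G : ℂ))} : Set ℂ) := by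
  have he : Monoid.exponent G ≠ 0 := Monoid.exponent_ne_zero_of_finite
  have hprim := Complex.isPrimitiveRoot_exp (Monoid.exponent G) he
  have h1 : ((lam h : ℂˣ) : ℂ) ^ Monoid.exponent G = 1 := by
    rw [← Units.val_pow_eq_pow_val, ← map_pow]
    have : h ^ Monoid.exponent G = 1 := by
      apply Subtype.ext
      rw [SubgroupClass.coe_pow, Monoid.pow_exponent_eq_one]
      rfl
    rw [this, map_one]
    rfl
  obtain ⟨i, -, hi⟩ := hprim.eq_pow_of_pow_eq_one h1
  rw [← hi]
  apply pow_mem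
  exact IntermediateField.subset_adjoin ℚ _ (Set.mem_singleton _)

theorem splitting_of_values (K : IntermediateField ℚ ℂ)
    (hK : ∀ (E : Subgroup G) (lam : E →* ℂˣ) (h : E), ((lam h : ℂˣ) : ℂ) ∈ K)
    (n : ℕ) (ρ : Representation ℂ G (Fin n → ℂ)) :
    ∃ σ : Representation ℂ G (Fin n → ℂ), Nonempty (ρ.Equiv σ) ∧
      ∀ g : G, ∀ i j : Fin n, LinearMap.toMatrix' (σ g) i j ∈ K := by
  classical
  have hχ : IsCharacter G ρ.character := ⟨n, ρ, rfl⟩
  obtain ⟨l, -, hl⟩ := helper24.brauer_induction hχ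
  rw [list_sum_eq_fin_sum] at hl
  obtain ⟨E, hE⟩ : ∃ E : Fin l.length → Subgroup G, E = fun i => (l.get i).1 := ⟨_, rfl⟩
  subst hE
  obtain ⟨lam, hlam⟩ : ∃ lam : (i : Fin l.length) → ((l.get i).1 →* ℂˣ), lam = fun i => (l.get i).2.1 :=
    ⟨_, rfl⟩
  obtain ⟨a, ha⟩ : ∃ a : Fin l.length → ℤ, a = fun i => (l.get i).2.2 := ⟨_, rfl⟩
  have hl' : ∀ g, ρ.character g = ∑ i : Fin l.length, (a i : ℂ) *
      indFun (l.get i).1 (fun e => ((lam i e : ℂˣ) : ℂ)) g := by
    intro g
    rw [hl, Finset.sum_apply, ha, hlam]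
    rfl
  let μ : (i : Fin l.length) → ((l.get i).1 →* K) := fun i =>
    { toFun := fun h => ⟨((lam i h : ℂˣ) : ℂ), hK _ (lam i) h⟩
      map_one' := Subtype.ext (by simp)
      map_mul' := fun x y => Subtype.ext (by simp) }
  have hμ : ∀ i (h : (l.get i).1), algebraMap K ℂ (μ i h) = ((lam i h : ℂˣ) : ℂ) := fun i h => rfl
  -- the two families
  let τp := (indSub (K := K) (ι := Σ i : Fin l.length, Fin (a i).toNat)
    (fun x => (l.get x.1).1) (fun x => μ x.1)).toRepresentation
  let τm := (indSub (K := K) (ι := Σ i : Fin l.length, Fin (-a i).toNat)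
    (fun x => (l.get x.1).1) (fun x => μ x.1)).toRepresentation
  have hp : ∀ g, kchar τp g = ∑ i : Fin l.length, ((a i).toNat : ℂ) *
      indFun (l.get i).1 (fun e => ((lam i e : ℂˣ) : ℂ)) g := by
    intro g
    rw [indSub_kchar, Fintype.sum_sigma]
    apply Finset.sum_congr rfl
    intro i _
    show ∑ y : Fin (a i).toNat, indFun (l.get i).1 (fun e => ((lam i e : ℂˣ) : ℂ)) g = _
    rw [Finset.sum_const, Finset.card_univ, Fintype.card_fin, nsmul_eq_mul]
  have hm : ∀ g, kchar τm g = ∑ i : Fin l.length, ((-a i).toNat : ℂ) *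
      indFun (l.get i).1 (fun e => ((lam i e : ℂˣ) : ℂ)) g := by
    intro g
    rw [indSub_kchar, Fintype.sum_sigma]
    apply Finset.sum_congr rfl
    intro i _
    show ∑ y : Fin (-a i).toNat, indFun (l.get i).1 (fun e => ((lam i e : ℂˣ) : ℂ)) g = _
    rw [Finset.sum_const, Finset.card_univ, Fintype.card_fin, nsmul_eq_mul]
  have hchar : ∀ g, kchar τp g = kchar τm g + ρ.character g := by
    intro g
    rw [hp, hm, hl', ← Finset.sum_add_distrib]
    apply Finset.sum_congr rfl
    intro i _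
    have h1 : ((a i : ℤ) : ℂ) = (((a i).toNat : ℤ) : ℂ) - (((-a i).toNat : ℤ) : ℂ) := by
      rw [← Int.cast_sub, Int.toNat_sub_toNat_neg]
    rw [h1]
    push_cast
    ring
  obtain ⟨U, _, _, _, τ, hτ⟩ := realize_aux (K := K) n ρ _ _ _ τp τm rfl hchar
  obtain ⟨σ, hσ, hent⟩ := realize_of_kchar τ n ρ hτ
  refine ⟨σ, hσ, ?_⟩
  intro g i j
  obtain ⟨c, hc⟩ := hent g i j
  rw [← hc]
  exact c.2

end Assembly

end Cfsg.Agent.helper1
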