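import Mathlib
import Cfsg.Prelude
import Cfsg.Agent.Lib_helper1_Rank3
import Cfsg.Agent.Lib_helper1_WielandtArith
import Cfsg.Agent.Lib_helper1_Spectral
import Cfsg.Agent.Lib_helper1_PermRank

set_option autoImplicit false
set_option linter.unusedVariables false
set_option linter.unusedSectionVars false
set_option linter.style.longLine false
set_option linter.style.haveILetI false

namespace Cfsg.Agent.helper1

open Cfsg MulAction Module

section Wielandt3

variable {G : Type*} [Group G] [Fintype G] {Ω : Type*} [Fintype Ω] [MulAction G Ω]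

theorem wielandt_rank3_aux (hprim : IsPreprimitive G Ω) {m : ℕ} (hm : Fintype.card Ω = 2 * m)
    (a₀ : Ω) (hrank : Nat.card (orbitRel.Quotient (stabilizer G a₀) Ω) = 3)
    (χ₁ χ₂ : G → ℂ) (h₁ : IsIrrCharacter G χ₁) (h₂ : IsIrrCharacter G χ₂)
    (hπ : (fun g : G => (Nat.card (fixedBy Ω g) : ℂ)) = fun g => 1 + χ₁ g + χ₂ g)
    (hd₁ : χ₁ 1 = (m : ℂ) - 1) (hd₂ : χ₂ 1 = m) (b : Ω) (hb : b ≠ a₀) :
    ∃ a : ℕ, 0 < a ∧ m = 2 * a ^ 2 + 2 * a + 1 ∧
      (Nat.card (orbit (stabilizer G a₀) b) = a * (2 * a + 1) ∨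
        Nat.card (orbit (stabilizer G a₀) b) = (a + 1) * (2 * a + 1)) := by
  classical
  haveI : IsPretransitive G Ω := hprim.toIsPretransitive
  haveI : Nonempty Ω := ⟨a₀⟩
  have heven : Even (Fintype.card Ω) := ⟨m, by omega⟩
  obtain ⟨b', hb'0, hb'b, hsum, hall⟩ := rank3_suborbits a₀ b hb hrank
  have hkne1 := subdegree_ne_one_of_rank3 a₀ b hb hrank heven
  have hk'ne1 := subdegree_ne_one_of_rank3 a₀ b' hb'0 hrank heven
  have hk1 : 1 ≤ Nat.card (orbit (stabilizer G a₀) b) := by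
    haveI : Nonempty (orbit (stabilizer G a₀) b) := ⟨⟨b, mem_orbit_self b⟩⟩
    exact Nat.card_pos
  have hk'1 : 1 ≤ Nat.card (orbit (stabilizer G a₀) b') := by
    haveI : Nonempty (orbit (stabilizer G a₀) b') := ⟨⟨b', mem_orbit_self b'⟩⟩
    exact Nat.card_pos
  set k := Nat.card (orbit (stabilizer G a₀) b) with hk
  set k' := Nat.card (orbit (stabilizer G a₀) b') with hk'
  have hm2 : 2 ≤ m := by omega
  obtain ⟨g₀, hg1, hg2⟩ := exists_swap_of_rank3 a₀ b hb hrank heven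
  -- the characters
  have hone : IsIrrCharacter G (fun _ : G => (1 : ℂ)) := helper24.isIrrCharacter_one
  have hp1 := classInner_perm_one (G := G) (Ω := Ω)
  rw [hπ] at hp1
  have hsplit : classInner (fun g : G => 1 + χ₁ g + χ₂ g) (fun _ => (1 : ℂ)) =
      1 + classInner χ₁ (fun _ => (1 : ℂ)) + classInner χ₂ (fun _ => (1 : ℂ)) := by
    have : (fun g : G => 1 + χ₁ g + χ₂ g) = (fun _ : G => (1 : ℂ)) + χ₁ + χ₂ := by
      funext g; rfl
    rw [this, helper24.classInner_add_left, helper24.classInner_add_left,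
      helper24.irr_classInner_self hone]
  rw [hsplit, helper24.irr_classInner h₁ hone, helper24.irr_classInner h₂ hone] at hp1
  have hχ₁1 : χ₁ ≠ fun _ => (1 : ℂ) := by
    intro h
    rw [if_pos h] at hp1
    split_ifs at hp1 <;> norm_num at hp1
  have hχ₂1 : χ₂ ≠ fun _ => (1 : ℂ) := by
    intro h
    rw [if_pos h] at hp1
    split_ifs at hp1 <;> norm_num at hp1
  have hχ₁₂ : χ₁ ≠ χ₂ := by
    intro h
    have := congrFun h 1
    rw [hd₁, hd₂] at this
    have h' : (m : ℂ) - 1 - m = 0 := by rw [this]; ring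
    norm_num at h'
  let ψ : Fin 3 → G → ℂ := ![fun _ => 1, χ₁, χ₂]
  have hψ0 : ψ 0 = fun _ => 1 := rfl
  have hψ1 : ψ 1 = χ₁ := rfl
  have hψ2 : ψ 2 = χ₂ := rfl
  have hirr : ∀ i, IsIrrCharacter G (ψ i) := by
    intro i
    fin_cases i
    · exact hone
    · exact h₁
    · exact h₂
  have hinj : Function.Injective ψ := by
    intro i j hij
    fin_cases i <;> fin_cases j <;> first | rfl | (exfalso; simp only [Fin.zero_eta, Fin.mk_one, Fin.reduceFinMk] at hij; first | exact hχ₁1 hij | exact hχ₁1 hij.symm | exact hχ₂1 hij | exact hχ₂1 hij.symm | exact hχ₁₂ hij | exact hχ₁₂ hij.symm)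
  have hchar : (permRep ℂ G Ω).character = ∑ i, ψ i := by
    funext g
    rw [permRep_character, Fin.sum_univ_three, hψ0, hψ1, hψ2]
    exact congrFun hπ g
  -- the orbital operator
  set M := orbMat G a₀ b with hM
  set A := matToEnd Ω M with hA
  obtain ⟨θ, hθe, hθtr⟩ := commutant_spectral (permRep ℂ G Ω) ψ hirr hinj hchar A
    (fun g => orbOp_comm a₀ b g)
  -- θ 0 = k
  let v₀ : Ω → ℂ := fun _ => 1
  have hAv₀ : A v₀ = (k : ℂ) • v₀ := by
    funext ω
    rw [hA, matToEnd_apply]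
    simp only [v₀, mul_one, Pi.smul_apply, smul_eq_mul]
    rw [← Int.cast_sum, orbMat_row_sum]
    simp [hk]
  have hG : (Nat.card G : ℂ) ≠ 0 := by exact_mod_cast (Nat.card_pos (α := G)).ne'
  have he₀ : isoProj (permRep ℂ G Ω) (ψ 0) v₀ = v₀ := by
    unfold isoProj
    rw [hψ0]
    simp only [map_one, one_smul, one_mul, LinearMap.smul_apply, LinearMap.sum_apply]
    have : ∀ g : G, permRep ℂ G Ω g v₀ = v₀ := fun g => rfl
    rw [Finset.sum_congr rfl (fun g _ => this g), Finset.sum_const, Finset.card_univ,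
      ← Nat.card_eq_fintype_card, ← Nat.cast_smul_eq_nsmul ℂ, smul_smul, inv_mul_cancel₀ hG, one_smul]
  have hθ0 : θ 0 = k := by
    have h1 := congrArg (fun f : Module.End ℂ (Ω → ℂ) => f v₀ a₀) (hθe 0)
    simp only [Module.End.mul_apply, LinearMap.smul_apply, he₀, hAv₀, Pi.smul_apply] at h1
    simp only [v₀, smul_eq_mul, mul_one] at h1
    exact h1.symm
  -- integrality
  have hint : ∀ i, IsIntegral ℤ (θ i) := by
    intro i
    have hne := isoProj_ne_zero (permRep ℂ G Ω) ψ hirr hinj hchar i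
    obtain ⟨v, hv⟩ : ∃ v, isoProj (permRep ℂ G Ω) (ψ i) v ≠ 0 := by
      by_contra hcon
      push Not at hcon
      exact hne (LinearMap.ext hcon)
    have hev : A (isoProj (permRep ℂ G Ω) (ψ i) v) = θ i • isoProj (permRep ℂ G Ω) (ψ i) v := by
      have := congrArg (fun f : Module.End ℂ (Ω → ℂ) => f v) (hθe i)
      exact this
    have hhas : A.HasEigenvalue (θ i) :=
      Module.End.hasEigenvalue_of_hasEigenvector ⟨Module.End.mem_eigenspace_iff.mpr hev, hv⟩
    exact isIntegral_of_hasEigenvalue A M.charpoly (Matrix.charpoly_monic _)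
      (aeval_matToEnd_charpoly _) (θ i) hhas
  -- trace equations
  have htr : ∀ n : ℕ, (((M ^ n).trace : ℤ) : ℂ) =
      (k : ℂ) ^ n + θ 1 ^ n * ((m : ℂ) - 1) + θ 2 ^ n * m := by
    intro n
    rw [← trace_matToEnd_pow, ← hA, hθtr n, Fin.sum_univ_three, hψ0, hψ1, hψ2, hθ0, hd₁, hd₂, mul_one]
  have e1 : ((m : ℂ) - 1) * θ 1 + m * θ 2 = ((-(k : ℤ) : ℤ) : ℂ) := by
    have h := htr 1
    rw [pow_one, orbMat_trace a₀ b hb] at h
    push_cast at h ⊢
    linear_combination -h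
  have e2 : ((m : ℂ) - 1) * θ 1 ^ 2 + m * θ 2 ^ 2 = ((2 * (m : ℤ) * k - (k : ℤ) ^ 2 : ℤ) : ℂ) := by
    have h := htr 2
    rw [orbMat_sq_trace a₀ b g₀ hg1 hg2, hm] at h
    push_cast at h ⊢
    linear_combination -h
  have e3 : ((m : ℂ) - 1) * θ 1 ^ 3 + m * θ 2 ^ 3 = (((M ^ 3).trace - (k : ℤ) ^ 3 : ℤ) : ℂ) := by
    have h := htr 3
    push_cast at h ⊢
    linear_combination -h
  obtain ⟨T, hT⟩ := sum_isInt_of_power_sums m hm2 (θ 1) (θ 2) (hint 1) (hint 2) ⟨_, e1⟩ ⟨_, e2⟩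
    ⟨_, e3⟩
  have hx : θ 1 = (m : ℂ) * T + k := by
    push_cast at e1
    linear_combination (m : ℂ) * hT - e1
  have hy : θ 2 = -(((m : ℂ) - 1) * T + k) := by
    linear_combination hT - hx
  have hE : ((m : ℤ) - 1) * (m * T + k) ^ 2 + m * ((m - 1) * T + k) ^ 2 + (k : ℤ) ^ 2 = 2 * m * k := by
    have h := e2
    rw [hx, hy] at h
    have h' : (((((m : ℤ) - 1) * (m * T + k) ^ 2 + m * ((m - 1) * T + k) ^ 2 + (k : ℤ) ^ 2 : ℤ)) : ℂ) =
        ((2 * (m : ℤ) * k : ℤ) : ℂ) := by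
      push_cast at h ⊢
      linear_combination h
    exact_mod_cast h'
  have hk2 : k ≤ 2 * m - 2 := by omega
  rcases wielandt_arith m k T hm2 hk1 hk2 hE with h | h | h
  · exact absurd h hkne1
  · exfalso
    apply hk'ne1
    omega
  · exact h

/-- **Wielandt**: parameters of a primitive rank 3 group of degree `2m` with character degrees
`1, m - 1, m`. -/
theorem wielandt_rank3 (hprim : IsPreprimitive G Ω) {m : ℕ} (hm : Fintype.card Ω = 2 * m)
    (a₀ : Ω) (hrank : Nat.card (orbitRel.Quotient (stabilizer G a₀) Ω) = 3)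
    (χ₁ χ₂ : G → ℂ) (h₁ : IsIrrCharacter G χ₁) (h₂ : IsIrrCharacter G χ₂)
    (hπ : (fun g : G => (Nat.card (fixedBy Ω g) : ℂ)) = fun g => 1 + χ₁ g + χ₂ g)
    (hd₁ : χ₁ 1 = (m : ℂ) - 1) (hd₂ : χ₂ 1 = m) :
    ∃ a : ℕ, 0 < a ∧ m = 2 * a ^ 2 + 2 * a + 1 ∧ ∀ b : Ω, b ≠ a₀ →
      Nat.card (orbit (stabilizer G a₀) b) = a * (2 * a + 1) ∨
        Nat.card (orbit (stabilizer G a₀) b) = (a + 1) * (2 * a + 1) := by
  classical
  have hex : ∃ b : Ω, b ≠ a₀ := by
    by_contra hcon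
    push Not at hcon
    haveI : Subsingleton Ω := ⟨fun x y => (hcon x).trans (hcon y).symm⟩
    haveI : Subsingleton (orbitRel.Quotient (stabilizer G a₀) Ω) := by
      refine ⟨fun q q' => ?_⟩
      induction q using Quotient.inductionOn' with
      | h x =>
        induction q' using Quotient.inductionOn' with
        | h y => rw [Subsingleton.elim x y]
    have : Nat.card (orbitRel.Quotient (stabilizer G a₀) Ω) ≤ 1 := Finite.card_le_one_iff_subsingleton.mpr inferInstance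
    omega
  obtain ⟨b₁, hb₁⟩ := hex
  obtain ⟨a, ha0, hma, _⟩ := wielandt_rank3_aux hprim hm a₀ hrank χ₁ χ₂ h₁ h₂ hπ hd₁ hd₂ b₁ hb₁
  refine ⟨a, ha0, hma, fun b hb => ?_⟩
  obtain ⟨a', ha'0, hma', hk⟩ := wielandt_rank3_aux hprim hm a₀ hrank χ₁ χ₂ h₁ h₂ hπ hd₁ hd₂ b hb
  have haa : a' = a := by
    have h : 2 * a' ^ 2 + 2 * a' + 1 = 2 * a ^ 2 + 2 * a + 1 := hma'.symm.trans hma
    rcases lt_trichotomy a' a with hlt | heq | hgt
    · exfalso
      have : a' ^ 2 < a ^ 2 := Nat.pow_lt_pow_left hlt (by norm_num)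
      omega
    · exact heq
    · exfalso
      have : a ^ 2 < a' ^ 2 := Nat.pow_lt_pow_left hgt (by norm_num)
      omega
  rw [haa] at hk
  exact hk

end Wielandt3

end Cfsg.Agent.helper1
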