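import Mathlib

/-! Simple groups of order 360, part A: subgroups of small index, the number of Sylow
`3`-subgroups, and the trivial-intersection property (helper20). -/

set_option autoImplicit false
set_option linter.unusedSectionVars false
set_option linter.style.haveILetI false
set_option linter.deprecated false

namespace Cfsg.Agent.helper20.A6

open Subgroup MulAction

variable {G : Type*} [Group G] [Finite G] [IsSimpleGroup G]

/-- A simple group of order 360 has no proper subgroup of index at most 5. -/
theorem six_le_index (h : Nat.card G = 360) (H : Subgroup G) (hH : H ≠ ⊤) : 6 ≤ H.index := by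
  classical
  by_contra hlt
  push Not at hlt
  have hidx0 : H.index ≠ 0 := Subgroup.index_ne_zero_of_finite
  let θ := MulAction.toPermHom G (G ⧸ H)
  have hθker : θ.ker = ⊥ := by
    rcases θ.normal_ker.eq_bot_or_eq_top with h' | h'
    · exact h'
    · exfalso
      apply hH
      rw [eq_top_iff, ← h', ← Subgroup.normalCore_eq_ker]
      exact Subgroup.normalCore_le H
  have hθinj : Function.Injective θ := (MonoidHom.ker_eq_bot_iff θ).mp hθker
  have hcardq : Nat.card (G ⧸ H) = H.index := (Subgroup.index_eq_card H).symm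
  have : Finite (G ⧸ H) := Nat.finite_of_card_ne_zero (by rw [hcardq]; exact hidx0)
  have : Fintype (G ⧸ H) := Fintype.ofFinite _
  have hdvd : Nat.card G ∣ Nat.card (Equiv.Perm (G ⧸ H)) :=
    Subgroup.card_dvd_of_injective θ hθinj
  rw [Nat.card_eq_fintype_card (α := Equiv.Perm (G ⧸ H)), Fintype.card_perm,
    ← Nat.card_eq_fintype_card, hcardq, h] at hdvd
  have : H.index = 1 ∨ H.index = 2 ∨ H.index = 3 ∨ H.index = 4 ∨ H.index = 5 := by omega
  rcases this with e | e | e | e | e <;> rw [e] at hdvd <;> revert hdvd <;> decide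

theorem card_sylow3 (h : Nat.card G = 360) (P : Sylow 3 G) : Nat.card (P : Subgroup G) = 9 := by
  have : Fact (Nat.Prime 3) := ⟨by norm_num⟩
  rw [Sylow.card_eq_multiplicity, h]
  have : (360 : ℕ).factorization 3 = 2 := by
    have : (360 : ℕ) = 3 ^ 2 * 40 := by norm_num
    rw [this, Nat.factorization_mul (by norm_num) (by norm_num), Nat.Prime.factorization_pow (by norm_num)]
    simp
    rw [Nat.factorization_eq_zero_of_not_dvd (by norm_num)]
  rw [this]; norm_num

theorem card_sylow2 (h : Nat.card G = 360) (P : Sylow 2 G) : Nat.card (P : Subgroup G) = 8 := by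
  have : Fact (Nat.Prime 2) := ⟨by norm_num⟩
  rw [Sylow.card_eq_multiplicity, h]
  have : (360 : ℕ).factorization 2 = 3 := by
    have : (360 : ℕ) = 2 ^ 3 * 45 := by norm_num
    rw [this, Nat.factorization_mul (by norm_num) (by norm_num), Nat.Prime.factorization_pow (by norm_num)]
    simp
    rw [Nat.factorization_eq_zero_of_not_dvd (by norm_num)]
  rw [this]; norm_num


instance fact3 : Fact (Nat.Prime 3) := ⟨by norm_num⟩
instance fact2 : Fact (Nat.Prime 2) := ⟨by norm_num⟩

theorem sylow3_comm (h : Nat.card G = 360) (P : Sylow 3 G) (a b : G) (ha : a ∈ P) (hb : b ∈ P) :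
    a * b = b * a := by
  have := IsPGroup.commutative_of_card_eq_prime_sq (p := 3) (G := (P : Subgroup G))
    (by rw [card_sylow3 h P]; norm_num) ⟨a, ha⟩ ⟨b, hb⟩
  exact congrArg Subtype.val this

/-- The number of Sylow 3-subgroups is 10. -/
theorem card_sylow_three (h : Nat.card G = 360) : Nat.card (Sylow 3 G) = 10 := by
  obtain ⟨P⟩ : Nonempty (Sylow 3 G) := inferInstance
  have hP9 := card_sylow3 h P
  have hmod := card_sylow_modEq_one 3 G
  have hdvd := P.card_dvd_index
  have hidx : (P : Subgroup G).index = 40 := by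
    have := Subgroup.card_mul_index (P : Subgroup G)
    rw [hP9, h] at this
    omega
  rw [hidx] at hdvd
  have hnorm : Nat.card (Sylow 3 G) = (normalizer ((P : Subgroup G) : Set G)).index :=
    P.card_eq_index_normalizer
  set n := Nat.card (Sylow 3 G) with hn
  have hle : n ≤ 40 := Nat.le_of_dvd (by norm_num) hdvd
  have hmod' : n % 3 = 1 := hmod
  have hcases : n = 1 ∨ n = 4 ∨ n = 10 ∨ n = 40 := by
    have h40 : 40 % n = 0 := Nat.mod_eq_zero_of_dvd hdvd
    clear hdvd hmod hnorm hn
    interval_cases n <;> omega
  rcases hcases with e | e | e | e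
  · -- normalizer = top
    exfalso
    have h1 : (normalizer ((P : Subgroup G) : Set G)) = ⊤ := by
      by_contra hne
      have := six_le_index h _ hne
      omega
    have hPn : (P : Subgroup G).Normal := Subgroup.normalizer_eq_top_iff.mp h1
    rcases hPn.eq_bot_or_eq_top with hb | ht
    · rw [hb, Subgroup.card_bot] at hP9; omega
    · rw [ht, Subgroup.card_top, h] at hP9; omega
  · exfalso
    have hne : (normalizer ((P : Subgroup G) : Set G)) ≠ ⊤ := by
      intro ht
      rw [ht, Subgroup.index_top] at hnorm
      omega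
    have := six_le_index h _ hne
    omega
  · exact e
  · exfalso
    -- N(P) = P
    have hNcard : Nat.card (normalizer ((P : Subgroup G) : Set G)) = 9 := by
      have := Subgroup.card_mul_index (normalizer ((P : Subgroup G) : Set G))
      rw [← hnorm, e, h] at this
      omega
    have hNP : normalizer ((P : Subgroup G) : Set G) = P := by
      symm
      apply Subgroup.eq_of_le_of_card_ge le_normalizer
      rw [hNcard, hP9]
    have hPc : normalizer ((P : Subgroup G) : Set G) ≤ centralizer ((P : Subgroup G) : Set G) := by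
      rw [hNP]
      intro x hx y hy
      exact sylow3_comm h P y x hy hx
    have hcomp := MonoidHom.ker_transferSylow_isComplement' P hPc
    have hcard := hcomp.card_mul
    rw [hP9, h] at hcard
    have hK : Nat.card (MonoidHom.transferSylow P hPc).ker = 40 := by omega
    rcases (MonoidHom.normal_ker (MonoidHom.transferSylow P hPc)).eq_bot_or_eq_top with hb | ht
    · rw [hb, Subgroup.card_bot] at hK; omega
    · rw [ht, Subgroup.card_top, h] at hK; omega

theorem card_normalizer3 (h : Nat.card G = 360) (P : Sylow 3 G) :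
    Nat.card (normalizer ((P : Subgroup G) : Set G)) = 36 := by
  have hnorm : Nat.card (Sylow 3 G) = (normalizer ((P : Subgroup G) : Set G)).index :=
    P.card_eq_index_normalizer
  rw [card_sylow_three h] at hnorm
  have := Subgroup.card_mul_index (normalizer ((P : Subgroup G) : Set G))
  rw [← hnorm, h] at this
  omega


omit [Finite G] [IsSimpleGroup G] in
theorem le_normalizer_of_comm (A D : Subgroup G) (hA : ∀ a b : G, a ∈ A → b ∈ A → a * b = b * a)
    (hDA : D ≤ A) : A ≤ normalizer (D : Set G) := by
  intro x hx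
  rw [Subgroup.mem_normalizer_iff]
  intro d
  constructor
  · intro hd
    have : x * d * x⁻¹ = d := by
      rw [hA x d hx (hDA hd), mul_inv_cancel_right]
    rw [this]; exact hd
  · intro hd
    have hc := hA x⁻¹ (x * d * x⁻¹) (inv_mem hx) (hDA hd)
    have : d = x * d * x⁻¹ := by
      have h2 : d * x⁻¹ = x * d * x⁻¹ * x⁻¹ := by rw [← hc]; group
      exact mul_right_cancel h2
    rw [this]; exact hd

/-- Distinct Sylow 3-subgroups intersect trivially. -/
theorem sylow3_TI (h : Nat.card G = 360) (P P' : Sylow 3 G) (hne : P ≠ P') :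
    (P : Subgroup G) ⊓ (P' : Subgroup G) = ⊥ := by
  by_contra hD
  set D : Subgroup G := (P : Subgroup G) ⊓ P' with hDdef
  set Y : Subgroup G := normalizer (D : Set G) with hYdef
  have hPY : (P : Subgroup G) ≤ Y :=
    le_normalizer_of_comm _ _ (sylow3_comm h P) inf_le_left
  have hP'Y : (P' : Subgroup G) ≤ Y :=
    le_normalizer_of_comm _ _ (sylow3_comm h P') inf_le_right
  have hP9 := card_sylow3 h P
  have hYne : Y ≠ ⊤ := by
    intro ht
    have hDn : D.Normal := Subgroup.normalizer_eq_top_iff.mp ht
    rcases hDn.eq_bot_or_eq_top with hb | ht'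
    · exact hD hb
    · have : Nat.card D ∣ Nat.card (P : Subgroup G) := Subgroup.card_dvd_of_le inf_le_left
      rw [ht', Subgroup.card_top, h, hP9] at this
      omega
  have hYidx := six_le_index h Y hYne
  have hYmul := Subgroup.card_mul_index Y
  rw [h] at hYmul
  have h9Y : 9 ∣ Nat.card Y := by
    have := Subgroup.card_dvd_of_le hPY
    rwa [hP9] at this
  -- Sylow subgroups of Y
  set PY : Sylow 3 Y := P.subtype hPY with hPYdef
  set P'Y : Sylow 3 Y := P'.subtype hP'Y with hP'Ydef
  have hPYne : PY ≠ P'Y := fun e => hne (Sylow.subtype_injective e)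
  have hPYcard : Nat.card (PY : Subgroup Y) = 9 := by
    rw [hPYdef, Sylow.coe_subtype, ← hP9]
    exact Nat.card_congr (Subgroup.subgroupOfEquivOfLe hPY).toEquiv
  have hn2 : 2 ≤ Nat.card (Sylow 3 Y) := by
    have : Nontrivial (Sylow 3 Y) := ⟨⟨PY, P'Y, hPYne⟩⟩
    exact Finite.one_lt_card_iff_nontrivial.mpr this
  have hmod : Nat.card (Sylow 3 Y) % 3 = 1 := card_sylow_modEq_one 3 Y
  have hdvd := PY.card_dvd_index
  have hnorm : Nat.card (Sylow 3 Y) = (normalizer ((PY : Subgroup Y) : Set Y)).index :=
    PY.card_eq_index_normalizer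
  have hPYmul := Subgroup.card_mul_index (PY : Subgroup Y)
  rw [hPYcard] at hPYmul
  set m := (PY : Subgroup Y).index with hm
  set n := Nat.card (Sylow 3 Y) with hn
  have hYcard : Nat.card Y = 36 ∧ n = 4 := by
    have hm6 : m ≤ 6 := by
      by_contra hc
      push Not at hc
      have : 6 * Nat.card Y ≤ Y.index * Nat.card Y := Nat.mul_le_mul_right _ hYidx
      nlinarith
    have hm0 : m ≠ 0 := by
      intro h0; rw [h0] at hPYmul; have := Nat.card_pos (α := Y); omega
    have hnm : n ≤ m := Nat.le_of_dvd (Nat.pos_of_ne_zero hm0) hdvd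
    have hmd : 360 % (9 * m) = 0 := by
      apply Nat.mod_eq_zero_of_dvd
      rw [hPYmul]
      exact ⟨Y.index, hYmul.symm⟩
    have hnd : m % n = 0 := Nat.mod_eq_zero_of_dvd hdvd
    clear_value m n
    have : m = 4 ∧ n = 4 := by
      interval_cases m <;> interval_cases n <;> omega
    omega
  obtain ⟨hY36, hn4⟩ := hYcard
  -- N_Y(PY) = PY
  have hNcard : Nat.card (normalizer ((PY : Subgroup Y) : Set Y)) = 9 := by
    have := Subgroup.card_mul_index (normalizer ((PY : Subgroup Y) : Set Y))
    rw [← hnorm, hn4, hY36] at this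
    omega
  have hNP : normalizer ((PY : Subgroup Y) : Set Y) = PY := by
    symm
    apply Subgroup.eq_of_le_of_card_ge le_normalizer
    rw [hNcard, hPYcard]
  have hPYmem : ∀ x : Y, x ∈ (PY : Subgroup Y) → (x : G) ∈ (P : Subgroup G) := by
    intro x hx
    rw [hPYdef, Sylow.coe_subtype] at hx
    exact Subgroup.mem_subgroupOf.mp hx
  have hPc : normalizer ((PY : Subgroup Y) : Set Y) ≤ centralizer ((PY : Subgroup Y) : Set Y) := by
    rw [hNP]
    intro x hx y hy
    apply Subtype.ext
    exact sylow3_comm h P y x (hPYmem y hy) (hPYmem x hx)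
  have hcomp := MonoidHom.ker_transferSylow_isComplement' PY hPc
  have hcard := hcomp.card_mul
  rw [hPYcard, hY36] at hcard
  set K : Subgroup Y := (MonoidHom.transferSylow PY hPc).ker with hK
  have hK4 : Nat.card K = 4 := by omega
  have hKn : K.Normal := MonoidHom.normal_ker _
  set K' : Subgroup G := K.map Y.subtype with hK'
  have hK'4 : Nat.card K' = 4 := by
    rw [hK', Subgroup.card_map_of_injective Y.subtype_injective, hK4]
  have hYN : Y ≤ normalizer (K' : Set G) := by
    have := Subgroup.le_normalizer_map (H := K) Y.subtype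
    rw [Subgroup.normalizer_eq_top_iff.mpr hKn, ← MonoidHom.range_eq_map, Subgroup.range_subtype] at this
    exact this
  have hK'p : IsPGroup 2 K' := IsPGroup.of_card (n := 2) (by rw [hK'4]; norm_num)
  obtain ⟨S, hKS⟩ := hK'p.exists_le_sylow
  have hS8 := card_sylow2 h S
  have hidx2 : (K'.subgroupOf S).index = 2 := by
    have h1 := Subgroup.card_mul_index (K'.subgroupOf (S : Subgroup G))
    have h2 : Nat.card (K'.subgroupOf (S : Subgroup G)) = 4 := by
      rw [← hK'4]
      exact Nat.card_congr (Subgroup.subgroupOfEquivOfLe hKS).toEquiv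
    rw [h2, hS8] at h1
    omega
  have hnS : (K'.subgroupOf (S : Subgroup G)).Normal := Subgroup.normal_of_index_eq_two hidx2
  have hSN : (S : Subgroup G) ≤ normalizer (K' : Set G) :=
    Subgroup.le_normalizer_of_normal_subgroupOf hKS
  have h36 : 36 ∣ Nat.card (normalizer (K' : Set G)) := by
    have := Subgroup.card_dvd_of_le hYN
    rwa [hY36] at this
  have h8 : 8 ∣ Nat.card (normalizer (K' : Set G)) := by
    have := Subgroup.card_dvd_of_le hSN
    rwa [hS8] at this
  have hNtop : normalizer (K' : Set G) = ⊤ := by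
    by_contra hne'
    have h6 := six_le_index h _ hne'
    have hmul := Subgroup.card_mul_index (normalizer (K' : Set G))
    rw [h] at hmul
    have h72 : 72 ∣ Nat.card (normalizer (K' : Set G)) := by omega
    obtain ⟨c, hc⟩ := h72
    rw [hc] at hmul
    have hc0 : c ≠ 0 := by
      rintro rfl
      simp at hmul
    have : 6 * (72 * c) ≤ (normalizer (K' : Set G)).index * (72 * c) := Nat.mul_le_mul_right _ h6
    nlinarith [Nat.pos_of_ne_zero hc0]
  have hK'n : K'.Normal := Subgroup.normalizer_eq_top_iff.mp hNtop
  rcases hK'n.eq_bot_or_eq_top with hb | ht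
  · rw [hb, Subgroup.card_bot] at hK'4; omega
  · rw [ht, Subgroup.card_top, h] at hK'4; omega

end Cfsg.Agent.helper20.A6
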