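import Mathlib
import Cfsg.Agent.Lib_helper20_A6A

/-! Simple groups of order 360, part B: the action on the ten Sylow `3`-subgroups is sharply
2-transitive-like (a Zassenhaus group): regular action of a Sylow `3`-subgroup on the other nine,
the two point stabilizer is cyclic of order four and its involution inverts the Sylow subgroup
(helper20). -/

set_option autoImplicit false
set_option linter.unusedSectionVars false
set_option linter.style.haveILetI false
set_option linter.deprecated false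

namespace Cfsg.Agent.helper20.A6

open Subgroup MulAction

variable {G : Type*} [Group G] [Finite G] [IsSimpleGroup G]

theorem sylow_smul_mem (P : Sylow 3 G) (x : G) (hx : x ∈ (P : Subgroup G)) : x • P = P :=
  Sylow.smul_eq_iff_mem_normalizer.mpr (Subgroup.le_normalizer hx)

/-- the action of `P₀` on the other Sylow subgroups is free -/
theorem smul_inj (h : Nat.card G = 360) (P₀ P₁ : Sylow 3 G) (hne : P₀ ≠ P₁)
    (x y : G) (hx : x ∈ (P₀ : Subgroup G)) (hy : y ∈ (P₀ : Subgroup G))
    (hxy : x • P₁ = y • P₁) : x = y := by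
  have h1 : (y⁻¹ * x) • P₁ = P₁ := by
    rw [mul_smul, hxy, inv_smul_smul]
  have h2 : y⁻¹ * x ∈ normalizer ((P₁ : Subgroup G) : Set G) := Sylow.smul_eq_iff_mem_normalizer.mp h1
  have h3 : y⁻¹ * x ∈ (P₀ : Subgroup G) := mul_mem (inv_mem hy) hx
  have h4 : y⁻¹ * x ∈ (P₀ : Subgroup G) ⊓ normalizer ((P₁ : Subgroup G) : Set G) := ⟨h3, h2⟩
  have h5 : (P₀ : Subgroup G) ⊓ normalizer ((P₁ : Subgroup G) : Set G) = (P₀ : Subgroup G) ⊓ P₁ :=
    P₀.isPGroup'.inf_normalizer_sylow P₁
  rw [h5, sylow3_TI h P₀ P₁ hne, Subgroup.mem_bot] at h4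
  exact (inv_mul_eq_one.mp h4).symm ▸ rfl

theorem smul_ne (P₀ P₁ : Sylow 3 G) (hne : P₀ ≠ P₁)
    (x : G) (hx : x ∈ (P₀ : Subgroup G)) : x • P₁ ≠ P₀ := by
  intro hc
  apply hne
  have : x⁻¹ • (x • P₁) = x⁻¹ • P₀ := by rw [hc]
  rw [inv_smul_smul, sylow_smul_mem P₀ x⁻¹ (inv_mem hx)] at this
  exact this.symm

/-- every Sylow subgroup other than `P₀` is `x • P₁` for a unique `x ∈ P₀` -/
theorem exists_smul_eq' (h : Nat.card G = 360) (P₀ P₁ : Sylow 3 G) (hne : P₀ ≠ P₁)
    (Q : Sylow 3 G) (hQ : Q ≠ P₀) : ∃ x : G, x ∈ (P₀ : Subgroup G) ∧ x • P₁ = Q := by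
  classical
  let f : ↥(P₀ : Subgroup G) → {Q : Sylow 3 G // Q ≠ P₀} :=
    fun x => ⟨(x : G) • P₁, smul_ne P₀ P₁ hne x x.2⟩
  have hf : Function.Injective f := by
    intro x y hxy
    apply Subtype.ext
    exact smul_inj h P₀ P₁ hne x y x.2 y.2 (congrArg Subtype.val hxy)
  have hcard : Nat.card {Q : Sylow 3 G // Q ≠ P₀} ≤ Nat.card (P₀ : Subgroup G) := by
    rw [card_sylow3 h P₀]
    have h10 := card_sylow_three h
    haveI : Fintype (Sylow 3 G) := Fintype.ofFinite _
    rw [Nat.card_eq_fintype_card] at h10 ⊢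
    rw [Fintype.card_subtype_compl, Fintype.card_subtype_eq, h10]
  have hbij := hf.bijective_of_nat_card_le hcard
  obtain ⟨x, hx⟩ := hbij.2 ⟨Q, hQ⟩
  exact ⟨x, x.2, congrArg Subtype.val hx⟩

/-- double transitivity -/
theorem two_trans (h : Nat.card G = 360) (P₀ P₁ : Sylow 3 G) (hne : P₀ ≠ P₁)
    (R₀ R₁ : Sylow 3 G) (hR : R₀ ≠ R₁) : ∃ t : G, t • R₀ = P₀ ∧ t • R₁ = P₁ := by
  obtain ⟨t₁, ht₁⟩ := MulAction.exists_smul_eq G R₀ P₀
  have hne' : t₁ • R₁ ≠ P₀ := by
    intro hc
    apply hR
    rw [← ht₁] at hc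
    exact (MulAction.injective t₁ hc).symm
  obtain ⟨x, hx, hxe⟩ := exists_smul_eq' h P₀ P₁ hne _ hne'
  refine ⟨x⁻¹ * t₁, ?_, ?_⟩
  · rw [mul_smul, ht₁, sylow_smul_mem P₀ _ (inv_mem hx)]
  · rw [mul_smul, ← hxe, inv_smul_smul]


/-- the action on Sylow 3-subgroups is faithful -/
theorem faithful (h : Nat.card G = 360) (g : G) (hg : ∀ Q : Sylow 3 G, g • Q = Q) : g = 1 := by
  let α : G →* Equiv.Perm (Sylow 3 G) := MulAction.toPermHom G (Sylow 3 G)
  have hker : α.ker = ⊥ := by
    rcases (MonoidHom.normal_ker α).eq_bot_or_eq_top with hb | ht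
    · exact hb
    · exfalso
      have : Nontrivial (Sylow 3 G) := by
        rw [← Finite.one_lt_card_iff_nontrivial, card_sylow_three h]
        norm_num
      obtain ⟨Q1, Q2, hQ⟩ := exists_pair_ne (Sylow 3 G)
      obtain ⟨t, ht'⟩ := MulAction.exists_smul_eq G Q1 Q2
      have htk : t ∈ α.ker := by rw [ht]; trivial
      rw [MonoidHom.mem_ker] at htk
      have := DFunLike.congr_fun htk Q1
      apply hQ
      rw [← ht']
      exact this.symm
  have : g ∈ α.ker := by
    rw [MonoidHom.mem_ker]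
    ext1 Q
    exact hg Q
  rw [hker, Subgroup.mem_bot] at this
  exact this

/-- every element acts as an even permutation -/
theorem sign_eq_one (h : Nat.card G = 360) [Fintype (Sylow 3 G)] [DecidableEq (Sylow 3 G)] (g : G) :
    Equiv.Perm.sign (MulAction.toPermHom G (Sylow 3 G) g) = 1 := by
  let s : G →* ℤˣ := Equiv.Perm.sign.comp (MulAction.toPermHom G (Sylow 3 G))
  have hsker : s.ker = ⊤ := by
    rcases s.normal_ker.eq_bot_or_eq_top with h' | h'
    · exfalso
      have hsinj : Function.Injective s := (MonoidHom.ker_eq_bot_iff s).mp h'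
      have := Nat.card_le_card_of_injective s hsinj
      rw [Nat.card_eq_fintype_card (α := ℤˣ), Fintype.card_units_int, h] at this
      omega
    · exact h'
  have : g ∈ s.ker := by rw [hsker]; trivial
  exact this

theorem four_dvd_support {A : Type*} [Fintype A] [DecidableEq A] (c : Equiv.Perm A)
    (hc : c * c = 1) (hs : Equiv.Perm.sign c = 1) : 4 ∣ c.support.card := by
  by_cases h1 : c = 1
  · subst h1; simp
  have ho : orderOf c = 2 := orderOf_eq_prime (by rw [pow_two]; exact hc) h1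
  obtain ⟨n, hn⟩ := Equiv.Perm.cycleType_prime_order (by rw [ho]; exact Nat.prime_two)
  rw [ho] at hn
  have hsign := Equiv.Perm.sign_of_cycleType c
  rw [hn, hs] at hsign
  have hsum := Equiv.Perm.sum_cycleType c
  rw [hn] at hsum
  simp only [Multiset.sum_replicate, Multiset.card_replicate, smul_eq_mul] at hsign hsum
  have hev : Even ((n + 1) * 2 + (n + 1)) :=
    (neg_one_pow_eq_one_iff_even (by decide : (-1 : ℤˣ) ≠ 1)).mp hsign.symm
  rw [← hsum]
  rcases hev with ⟨k, hk⟩
  omega


theorem conj_mem_of_fix (P₀ : Sylow 3 G) (q : G) (hq : q • P₀ = P₀) (x : G)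
    (hx : x ∈ (P₀ : Subgroup G)) : q * x * q⁻¹ ∈ (P₀ : Subgroup G) := by
  have := Sylow.smul_eq_iff_mem_normalizer.mp hq
  rw [Subgroup.mem_set_normalizer_iff] at this
  exact (this x).mp hx

theorem smul_conj (P₁ : Sylow 3 G) (q : G) (hq : q • P₁ = P₁) (x : G) :
    q • (x • P₁) = (q * x * q⁻¹) • P₁ := by
  conv_rhs => rw [← hq]
  simp only [← mul_smul]
  congr 1
  group

/-- the number of fixed points of an element of the two point stabilizer -/
theorem card_fix (h : Nat.card G = 360) (P₀ P₁ : Sylow 3 G) (hne : P₀ ≠ P₁) (q : G)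
    (hq0 : q • P₀ = P₀) (hq1 : q • P₁ = P₁) :
    Nat.card {Q : Sylow 3 G // q • Q = Q} =
      Nat.card ((P₀ : Subgroup G) ⊓ centralizer ({q} : Set G) : Subgroup G) + 1 := by
  classical
  set C : Subgroup G := (P₀ : Subgroup G) ⊓ centralizer ({q} : Set G) with hC
  have hCfix : ∀ x : G, x ∈ C → q • (x • P₁) = x • P₁ := by
    intro x hx
    rw [smul_conj P₁ q hq1]
    have : x * q = q * x := Subgroup.mem_centralizer_singleton_iff.mp hx.2
    rw [← this, mul_inv_cancel_right]
  let f : Option C → {Q : Sylow 3 G // q • Q = Q} := fun o =>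
    match o with
    | none => ⟨P₀, hq0⟩
    | some x => ⟨(x : G) • P₁, hCfix x x.2⟩
  have hf : Function.Bijective f := by
    constructor
    · intro a b hab
      rcases a with _ | a <;> rcases b with _ | b
      · rfl
      · exfalso
        have := congrArg Subtype.val hab
        exact smul_ne P₀ P₁ hne b b.2.1 this.symm
      · exfalso
        have := congrArg Subtype.val hab
        exact smul_ne P₀ P₁ hne a a.2.1 this
      · have := congrArg Subtype.val hab
        have := smul_inj h P₀ P₁ hne a b a.2.1 b.2.1 this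
        rw [Subtype.ext this]
    · rintro ⟨Q, hQ⟩
      by_cases hQ0 : Q = P₀
      · exact ⟨none, Subtype.ext hQ0.symm⟩
      · obtain ⟨x, hx, hxe⟩ := exists_smul_eq' h P₀ P₁ hne Q hQ0
        have hxC : x ∈ C := by
          refine ⟨hx, ?_⟩
          show x ∈ centralizer ({q} : Set G)
          rw [Subgroup.mem_centralizer_singleton_iff]
          rw [← hxe, smul_conj P₁ q hq1] at hQ
          have := smul_inj h P₀ P₁ hne _ _ (conj_mem_of_fix P₀ q hq0 x hx) hx hQ
          calc x * q = (q * x * q⁻¹) * q := by rw [this]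
            _ = q * x := by group
        exact ⟨some ⟨x, hxC⟩, Subtype.ext hxe⟩
  rw [← Nat.card_congr (Equiv.ofBijective f hf), Finite.card_option]

/-- an involution in the two point stabilizer inverts `P₀` -/
theorem invol_inverts (h : Nat.card G = 360) (P₀ P₁ : Sylow 3 G) (hne : P₀ ≠ P₁) (q : G)
    (hq0 : q • P₀ = P₀) (hq1 : q • P₁ = P₁) (hqq : q * q = 1) (hq : q ≠ 1)
    (x : G) (hx : x ∈ (P₀ : Subgroup G)) : q * x * q⁻¹ = x⁻¹ := by
  classical
  haveI : Fintype (Sylow 3 G) := Fintype.ofFinite _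
  set C : Subgroup G := (P₀ : Subgroup G) ⊓ centralizer ({q} : Set G) with hC
  have hcf := card_fix h P₀ P₁ hne q hq0 hq1
  rw [← hC] at hcf
  set σ : Equiv.Perm (Sylow 3 G) := MulAction.toPermHom G (Sylow 3 G) q with hσ
  have hσ2 : σ * σ = 1 := by rw [hσ, ← map_mul, hqq, map_one]
  have h4 := four_dvd_support σ hσ2 (sign_eq_one h q)
  have hsplit : σ.support.card + (Finset.univ.filter (fun Q : Sylow 3 G => σ Q = Q)).card
      = Fintype.card (Sylow 3 G) := by
    have := Finset.card_filter_add_card_filter_not (s := (Finset.univ : Finset (Sylow 3 G)))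
      (fun Q : Sylow 3 G => σ Q = Q)
    rw [Finset.card_univ] at this
    rw [← this, add_comm]
    rfl
  have hfixcard : (Finset.univ.filter (fun Q : Sylow 3 G => σ Q = Q)).card
      = Nat.card {Q : Sylow 3 G // q • Q = Q} := by
    rw [Nat.card_eq_fintype_card, Fintype.card_subtype]
    rfl
  have h10 : Fintype.card (Sylow 3 G) = 10 := by
    rw [← Nat.card_eq_fintype_card, card_sylow_three h]
  rw [hfixcard, hcf, h10] at hsplit
  have hCdvd : Nat.card C ∣ 9 := by
    have := Subgroup.card_dvd_of_le (inf_le_left : C ≤ (P₀ : Subgroup G))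
    rwa [card_sylow3 h P₀] at this
  have hCle : Nat.card C ≤ 9 := Nat.le_of_dvd (by norm_num) hCdvd
  have hC19 : Nat.card C = 1 ∨ Nat.card C = 9 := by
    have h9 : 9 % Nat.card C = 0 := Nat.mod_eq_zero_of_dvd hCdvd
    obtain ⟨k, hk⟩ := h4
    have hpos : 0 < Nat.card C := Nat.card_pos
    generalize Nat.card C = c at *
    interval_cases c <;> omega
  rcases hC19 with h1 | h9
  · -- C trivial
    have hCbot : C = ⊥ := Subgroup.card_eq_one.mp h1
    have hy : x * (q * x * q⁻¹) ∈ C := by
      refine ⟨mul_mem hx (conj_mem_of_fix P₀ q hq0 x hx), ?_⟩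
      show x * (q * x * q⁻¹) ∈ centralizer ({q} : Set G)
      rw [Subgroup.mem_centralizer_singleton_iff]
      have hcomm := sylow3_comm h P₀ x (q * x * q⁻¹) hx (conj_mem_of_fix P₀ q hq0 x hx)
      have hqi : q⁻¹ = q := inv_eq_of_mul_eq_one_right hqq
      rw [hqi] at hcomm ⊢
      calc x * (q * x * q) * q = x * q * x * (q * q) := by group
        _ = x * q * x := by rw [hqq, mul_one]
        _ = q * (q * x * q * x) := by
            rw [← mul_assoc, ← mul_assoc, ← mul_assoc, hqq, one_mul]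
        _ = q * (x * (q * x * q)) := by rw [hcomm]
    rw [hCbot, Subgroup.mem_bot] at hy
    exact (eq_inv_of_mul_eq_one_right hy)
  · -- C = P₀ : q centralizes P₀, hence acts trivially
    exfalso
    apply hq
    apply faithful h
    intro Q
    have hCP : C = (P₀ : Subgroup G) := by
      apply Subgroup.eq_of_le_of_card_ge inf_le_left
      rw [h9, card_sylow3 h P₀]
    by_cases hQ0 : Q = P₀
    · rw [hQ0, hq0]
    · obtain ⟨y, hy, hye⟩ := exists_smul_eq' h P₀ P₁ hne Q hQ0
      rw [← hye, smul_conj P₁ q hq1]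
      have hyC : y ∈ C := by rw [hCP]; exact hy
      have : y * q = q * y := Subgroup.mem_centralizer_singleton_iff.mp hyC.2
      rw [← this, mul_inv_cancel_right]


/-- the two point stabilizer has order four -/
theorem card_two_stab (h : Nat.card G = 360) (P₀ P₁ : Sylow 3 G) (hne : P₀ ≠ P₁) :
    Nat.card (stabilizer G P₀ ⊓ stabilizer G P₁ : Subgroup G) = 4 := by
  classical
  set N : Subgroup G := stabilizer G P₀ with hN
  have hN36 : Nat.card N = 36 := by
    have h1 : N.index = 10 := by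
      rw [hN, MulAction.index_stabilizer_of_transitive, card_sylow_three h]
    have := Subgroup.card_mul_index N
    rw [h1, h] at this
    omega
  have hPN : (P₀ : Subgroup G) ≤ N := by
    intro x hx
    rw [hN, MulAction.mem_stabilizer_iff]
    exact sylow_smul_mem P₀ x hx
  have horb : orbit N P₁ = {Q : Sylow 3 G | Q ≠ P₀} := by
    ext Q
    constructor
    · rintro ⟨n, rfl⟩
      intro hc
      apply hne
      have hn : (n : G) • P₀ = P₀ := MulAction.mem_stabilizer_iff.mp n.2
      have hc' : (n : G) • P₁ = P₀ := hc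
      rw [← hn] at hc'
      exact (MulAction.injective (n : G) hc').symm
    · intro hQ
      obtain ⟨x, hx, hxe⟩ := exists_smul_eq' h P₀ P₁ hne Q hQ
      exact ⟨⟨x, hPN hx⟩, hxe⟩
  have h9 : (orbit N P₁).ncard = 9 := by
    rw [horb]
    have : {Q : Sylow 3 G | Q ≠ P₀} = ({P₀} : Set (Sylow 3 G))ᶜ := by
      ext Q; simp
    rw [this, Set.ncard_compl, Set.ncard_singleton, card_sylow_three h]
  have hidx : (stabilizer N P₁).index = 9 := by
    rw [MulAction.index_stabilizer, h9]
  have hcard := Subgroup.card_mul_index (stabilizer N P₁)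
  rw [hidx, hN36] at hcard
  have h4 : Nat.card (stabilizer N P₁) = 4 := by omega
  have hmap : (stabilizer N P₁).map N.subtype = stabilizer G P₀ ⊓ stabilizer G P₁ := by
    ext g
    constructor
    · rintro ⟨n, hn, rfl⟩
      exact ⟨n.2, MulAction.mem_stabilizer_iff.mp hn⟩
    · rintro ⟨hg0, hg1⟩
      exact ⟨⟨g, hg0⟩, MulAction.mem_stabilizer_iff.mpr (MulAction.mem_stabilizer_iff.mp hg1), rfl⟩
  rw [← hmap, Subgroup.card_map_of_injective N.subtype_injective, h4]

/-- the generator of the two point stabilizer -/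
theorem exists_u (h : Nat.card G = 360) (P₀ P₁ : Sylow 3 G) (hne : P₀ ≠ P₁) :
    ∃ u : G, u • P₀ = P₀ ∧ u • P₁ = P₁ ∧ orderOf u = 4 ∧
      (∀ x : G, x ∈ (P₀ : Subgroup G) → (u * u) * x * (u * u)⁻¹ = x⁻¹) ∧
      (∀ g : G, g • P₀ = P₀ → g • P₁ = P₁ → g ∈ Subgroup.zpowers u) := by
  classical
  set Q : Subgroup G := stabilizer G P₀ ⊓ stabilizer G P₁ with hQ
  have hQ4 : Nat.card Q = 4 := card_two_stab h P₀ P₁ hne
  have hQmem : ∀ g : G, g ∈ Q ↔ g • P₀ = P₀ ∧ g • P₁ = P₁ := by
    intro g
    rw [hQ, Subgroup.mem_inf, MulAction.mem_stabilizer_iff, MulAction.mem_stabilizer_iff]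
  have hpow4 : ∀ g : G, g ∈ Q → g ^ 4 = 1 := by
    intro g hg
    have : (⟨g, hg⟩ : Q) ^ Nat.card Q = 1 := pow_card_eq_one'
    rw [hQ4] at this
    exact congrArg Subtype.val this
  have hP9 := card_sylow3 h P₀
  -- a nontrivial element of P₀
  have hx0 : ∃ x : G, x ∈ (P₀ : Subgroup G) ∧ x ≠ 1 := by
    by_contra hc
    push Not at hc
    have : (P₀ : Subgroup G) = ⊥ := by
      rw [Subgroup.eq_bot_iff_forall]
      exact hc
    rw [this, Subgroup.card_bot] at hP9
    omega
  have hpow9 : ∀ x : G, x ∈ (P₀ : Subgroup G) → x ^ 9 = 1 := by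
    intro x hx
    have : (⟨x, hx⟩ : (P₀ : Subgroup G)) ^ Nat.card (P₀ : Subgroup G) = 1 := pow_card_eq_one'
    rw [hP9] at this
    exact congrArg Subtype.val this
  have hinvol : ∀ q : G, q ∈ Q → q * q = 1 → q ≠ 1 →
      ∀ x : G, x ∈ (P₀ : Subgroup G) → q * x * q⁻¹ = x⁻¹ := by
    intro q hq hqq hq1 x hx
    exact invol_inverts h P₀ P₁ hne q ((hQmem q).mp hq).1 ((hQmem q).mp hq).2 hqq hq1 x hx
  have hex : ∃ u : G, u ∈ Q ∧ orderOf u = 4 := by
    by_contra hc
    push Not at hc
    have hsq : ∀ g : G, g ∈ Q → g * g = 1 := by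
      intro g hg
      have hd : orderOf g ∣ 4 := orderOf_dvd_of_pow_eq_one (hpow4 g hg)
      have hle : orderOf g ≤ 4 := Nat.le_of_dvd (by norm_num) hd
      have hne4 := hc g hg
      have hpos : 0 < orderOf g := orderOf_pos g
      have h12 : orderOf g = 1 ∨ orderOf g = 2 := by
        have h4m : 4 % orderOf g = 0 := Nat.mod_eq_zero_of_dvd hd
        generalize orderOf g = o at *
        interval_cases o <;> omega
      rw [← pow_two]
      rcases h12 with h1 | h2
      · rw [orderOf_eq_one_iff.mp h1, one_pow]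
      · rw [← h2, pow_orderOf_eq_one]
    -- a nontrivial element a of Q
    have ha : ∃ a : G, a ∈ Q ∧ a ≠ 1 := by
      by_contra hc'
      push Not at hc'
      have : Q = ⊥ := by
        rw [Subgroup.eq_bot_iff_forall]
        exact hc'
      rw [this, Subgroup.card_bot] at hQ4
      omega
    obtain ⟨a, haQ, ha1⟩ := ha
    have hb : ∃ b : G, b ∈ Q ∧ b ∉ Subgroup.zpowers a := by
      by_contra hc'
      push Not at hc'
      have hle : Q ≤ Subgroup.zpowers a := hc'
      have := Subgroup.card_dvd_of_le hle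
      rw [hQ4, Nat.card_zpowers] at this
      have ho : orderOf a = 2 := orderOf_eq_prime (by rw [pow_two]; exact hsq a haQ) ha1
      rw [ho] at this
      omega
    obtain ⟨b, hbQ, hbn⟩ := hb
    have hb1 : b ≠ 1 := by
      rintro rfl
      exact hbn (one_mem _)
    obtain ⟨x, hx, hx1⟩ := hx0
    have hab : a * b = 1 := by
      by_contra hab1
      have habQ : a * b ∈ Q := mul_mem haQ hbQ
      have h1 := hinvol (a * b) habQ (hsq _ habQ) hab1 x hx
      have h2 : a * b * x * (a * b)⁻¹ = x := by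
        have hbx := hinvol b hbQ (hsq b hbQ) hb1 x hx
        have hax := hinvol a haQ (hsq a haQ) ha1 x⁻¹ (inv_mem hx)
        calc a * b * x * (a * b)⁻¹ = a * (b * x * b⁻¹) * a⁻¹ := by group
          _ = a * x⁻¹ * a⁻¹ := by rw [hbx]
          _ = x := by rw [hax, inv_inv]
      rw [h2] at h1
      -- x = x⁻¹ and x^9 = 1 → x = 1
      have hxx : x * x = 1 := by
        nth_rewrite 2 [h1]
        exact mul_inv_cancel x
      have h9 := hpow9 x hx
      apply hx1
      have h9' : x ^ 9 = x := by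
        rw [show (9 : ℕ) = 2 * 4 + 1 by norm_num, pow_succ, pow_mul, pow_two, hxx, one_pow, one_mul]
      rw [h9] at h9'
      exact h9'.symm
    apply hbn
    have : b = a⁻¹ := (inv_eq_of_mul_eq_one_right hab).symm
    rw [this]
    exact inv_mem (Subgroup.mem_zpowers a)
  obtain ⟨u, huQ, hu4⟩ := hex
  refine ⟨u, ((hQmem u).mp huQ).1, ((hQmem u).mp huQ).2, hu4, ?_, ?_⟩
  · intro x hx
    apply hinvol (u * u) (mul_mem huQ huQ) _ _ x hx
    · have := pow_orderOf_eq_one u
      rw [hu4] at this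
      rw [← this]
      simp only [pow_succ, pow_zero, one_mul, mul_assoc]
    · intro hc
      have : u ^ 2 = 1 := by rw [pow_two]; exact hc
      have := orderOf_dvd_of_pow_eq_one this
      rw [hu4] at this
      omega
  · intro g hg0 hg1
    have hgQ : g ∈ Q := (hQmem g).mpr ⟨hg0, hg1⟩
    have hle : Subgroup.zpowers u ≤ Q := (Subgroup.zpowers_le).mpr huQ
    have heq : Subgroup.zpowers u = Q := by
      apply Subgroup.eq_of_le_of_card_ge hle
      rw [hQ4, Nat.card_zpowers, hu4]
    rw [heq]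
    exact hgQ

end Cfsg.Agent.helper20.A6
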