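import Mathlib

/-! Simple groups of order 360, part M: the concrete model on the projective line over `F_9`,
coordinatised as `Option (ZMod 3 × ZMod 3)`, and the finite certificate that pins down the
element swapping `∞` and `0` (helper20). -/

set_option autoImplicit false
set_option linter.style.haveILetI false

namespace Cfsg.Agent.helper20.A6

abbrev V := ZMod 3 × ZMod 3
abbrev Pt := Option V

def uV (v : V) : V := (-v.2, v.1)

def fa : Pt → Pt
  | none => none
  | some v => some (v + (1, 0))

def fb : Pt → Pt
  | none => none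
  | some v => some (v + (0, 1))

def fu : Pt → Pt
  | none => none
  | some v => some (uV v)

def fw : Pt → Pt
  | none => some 0
  | some v => if v = 0 then none else
      some ((v.1 * v.1 + v.2 * v.2) * (-v.1), (v.1 * v.1 + v.2 * v.2) * v.2)

def fai : Pt → Pt
  | none => none
  | some v => some (v - (1, 0))

def fbi : Pt → Pt
  | none => none
  | some v => some (v - (0, 1))

def fui : Pt → Pt
  | none => none
  | some v => some (v.2, -v.1)

def pa : Equiv.Perm Pt := ⟨fa, fai, by decide, by decide⟩
def pb : Equiv.Perm Pt := ⟨fb, fbi, by decide, by decide⟩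
def pu : Equiv.Perm Pt := ⟨fu, fui, by decide, by decide⟩
def pw : Equiv.Perm Pt := ⟨fw, fw, by decide, by decide⟩

/-- rotation by `u^k` (`ε = true`) or `u^{-k}` (`ε = false`) -/
def rot (ε : Bool) (k : ℕ) (c : V) : V := if ε then uV^[k] c else uV^[3 * k] c

/-- the candidate for the element swapping `∞` and `0` -/
def cand (ε : Bool) (c d : V) : Pt → Pt
  | none => some 0
  | some v =>
      if v = 0 then none
      else if v = (1, 0) then some c
      else if v = (0, 1) then some (rot ε 1 c)
      else if v = (2, 0) then some (rot ε 2 c)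
      else if v = (0, 2) then some (rot ε 3 c)
      else if v = (1, 1) then some d
      else if v = (2, 1) then some (rot ε 1 d)
      else if v = (2, 2) then some (rot ε 2 d)
      else some (rot ε 3 d)

inductive Letter | f | a | b | u
  deriving DecidableEq

def evalW (g : Pt → Pt) : List Letter → Pt → Pt
  | [] => id
  | Letter.f :: w => g ∘ evalW g w
  | Letter.a :: w => fa ∘ evalW g w
  | Letter.b :: w => fb ∘ evalW g w
  | Letter.u :: w => fu ∘ evalW g w

def Good (W : Pt → Pt) : Prop :=
  Function.Injective W ∧
  (W = id ∨ (Finset.univ.filter (fun x : Pt => W x = x)).card ≤ 2) ∧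
  (W none = none → W (some 0) = some 0 → W = id ∨ W = fu ∨ W = fu ∘ fu ∨ W = fu ∘ fu ∘ fu)

instance (W : Pt → Pt) : Decidable (Good W) := by unfold Good; infer_instance

open Letter in
def testWords : List (List Letter) :=
  [[f], [f, f], [f, u], [f, a, f, a, f, a], [f, b, f, a, f, u, a, a], [f, a, f, u, b, f, b],
   [f, a, f, b, u, b], [f, a, b, f, u, b], [f, f, f, a, f, a, b], [f, f, f, a, b, f, a],
   [f, f, f, a, b, f, b], [f, f, f, b, f, a, b], [f, a, f, a, b, f, a], [f, a, f, a, b, f, b],
   [f, b, f, a, b, f, a], [f, b, f, a, b, f, b], [f, a, f, b, f, b, a, a], [f, b, a, f, b, f, a, a],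
   [f, b, f, b, a, a, f, b], [f, a, f, b, b, a, f, a], [f, a, f, u, b, a, f, a, a],
   [f, b, f, b, b, a, f, a, a]]

set_option maxRecDepth 100000 in
theorem cand_good : ∀ (ε : Bool) (c d : V), (∀ w ∈ testWords, Good (evalW (cand ε c d) w)) →
    ∃ k : Fin 4, ∀ x : Pt, cand ε c d x = fw (fu^[k] x) := by
  decide +kernel

end Cfsg.Agent.helper20.A6
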