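import Mathlib
import Cfsg.Agent.Lib_helper20_A6B
import Cfsg.Agent.Lib_helper20_A6M

/-! Simple groups of order 360, part C: coordinates on the ten Sylow `3`-subgroups (helper20). -/

set_option autoImplicit false
set_option linter.unusedSectionVars false
set_option linter.style.haveILetI false
set_option linter.deprecated false

namespace Cfsg.Agent.helper20.A6

open Subgroup MulAction

section pow

variable {G : Type*} [Group G]

theorem pow_mod3 (x : G) (hx : x ^ 3 = 1) (n : ℕ) : x ^ (n % 3) = x ^ n := by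
  conv_rhs => rw [← Nat.div_add_mod n 3, pow_add, pow_mul, hx, one_pow, one_mul]

theorem pw_add (x : G) (hx : x ^ 3 = 1) (a b : ZMod 3) :
    x ^ (a + b).val = x ^ a.val * x ^ b.val := by
  rw [ZMod.val_add, pow_mod3 x hx, pow_add]

theorem pw_zero (x : G) : x ^ (0 : ZMod 3).val = 1 := by
  rw [ZMod.val_zero, pow_zero]

theorem pw_one (x : G) : x ^ (1 : ZMod 3).val = x := by
  rw [show (1 : ZMod 3).val = 1 from rfl, pow_one]

theorem pw_neg (x : G) (hx : x ^ 3 = 1) (b : ZMod 3) : x ^ (-b).val = (x ^ b.val)⁻¹ := by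
  have := pw_add x hx (-b) b
  rw [neg_add_cancel, pw_zero] at this
  exact eq_inv_of_mul_eq_one_left this.symm

end pow


variable {G : Type*} [Group G] [Finite G] [IsSimpleGroup G]

/-- the coordinate map `V → P₀` -/
def psi (u e₁ : G) (v : V) : G := e₁ ^ v.1.val * (u * e₁ * u⁻¹) ^ v.2.val

theorem psi_mem (P₀ : Sylow 3 G) (u e₁ : G) (hu0 : u • P₀ = P₀) (he₁ : e₁ ∈ (P₀ : Subgroup G))
    (v : V) : psi u e₁ v ∈ (P₀ : Subgroup G) :=
  mul_mem (pow_mem he₁ _) (pow_mem (conj_mem_of_fix P₀ u hu0 e₁ he₁) _)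

theorem e2_pow (u e₁ : G) (h3 : e₁ ^ 3 = 1) : (u * e₁ * u⁻¹) ^ 3 = 1 := by
  rw [conj_pow, h3, mul_one, mul_inv_cancel]

theorem psi_add (h : Nat.card G = 360) (P₀ : Sylow 3 G) (u e₁ : G) (hu0 : u • P₀ = P₀)
    (he₁ : e₁ ∈ (P₀ : Subgroup G)) (h3 : e₁ ^ 3 = 1) (v w : V) :
    psi u e₁ (v + w) = psi u e₁ v * psi u e₁ w := by
  unfold psi
  rw [Prod.fst_add, Prod.snd_add, pw_add e₁ h3, pw_add _ (e2_pow u e₁ h3)]
  have hc := sylow3_comm h P₀ ((u * e₁ * u⁻¹) ^ v.2.val) (e₁ ^ w.1.val)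
    (pow_mem (conj_mem_of_fix P₀ u hu0 e₁ he₁) _) (pow_mem he₁ _)
  calc e₁ ^ v.1.val * e₁ ^ w.1.val * ((u * e₁ * u⁻¹) ^ v.2.val * (u * e₁ * u⁻¹) ^ w.2.val)
      = e₁ ^ v.1.val * (e₁ ^ w.1.val * (u * e₁ * u⁻¹) ^ v.2.val) * (u * e₁ * u⁻¹) ^ w.2.val := by
        simp only [mul_assoc]
    _ = e₁ ^ v.1.val * ((u * e₁ * u⁻¹) ^ v.2.val * e₁ ^ w.1.val) * (u * e₁ * u⁻¹) ^ w.2.val := by
        rw [hc]
    _ = _ := by simp only [mul_assoc]

theorem psi_zero (u e₁ : G) : psi u e₁ 0 = 1 := by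
  unfold psi
  simp

theorem psi_conj (h : Nat.card G = 360) (P₀ : Sylow 3 G) (u e₁ : G) (hu0 : u • P₀ = P₀)
    (he₁ : e₁ ∈ (P₀ : Subgroup G)) (h3 : e₁ ^ 3 = 1)
    (huinv : ∀ x : G, x ∈ (P₀ : Subgroup G) → (u * u) * x * (u * u)⁻¹ = x⁻¹) (v : V) :
    u * psi u e₁ v * u⁻¹ = psi u e₁ (uV v) := by
  unfold psi uV
  have h1 : u * (u * e₁ * u⁻¹) * u⁻¹ = e₁⁻¹ := by
    rw [← huinv e₁ he₁]; group
  have h2 : u * (e₁ ^ v.1.val * (u * e₁ * u⁻¹) ^ v.2.val) * u⁻¹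
      = (u * e₁ * u⁻¹) ^ v.1.val * (u * (u * e₁ * u⁻¹) * u⁻¹) ^ v.2.val := by
    have e1 : (u * e₁ * u⁻¹) ^ v.1.val = u * e₁ ^ v.1.val * u⁻¹ := conj_pow
    have e2 : (u * (u * e₁ * u⁻¹) * u⁻¹) ^ v.2.val = u * (u * e₁ * u⁻¹) ^ v.2.val * u⁻¹ := conj_pow
    rw [e1, e2]
    generalize e₁ ^ v.1.val = A
    generalize (u * e₁ * u⁻¹) ^ v.2.val = B
    group
  rw [h2, h1, inv_pow, ← pw_neg e₁ h3]
  exact sylow3_comm h P₀ _ _ (pow_mem (conj_mem_of_fix P₀ u hu0 e₁ he₁) _) (pow_mem he₁ _)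

theorem psi_ker (h : Nat.card G = 360) (P₀ : Sylow 3 G) (u e₁ : G) (hu0 : u • P₀ = P₀)
    (he₁ : e₁ ∈ (P₀ : Subgroup G)) (ho : orderOf e₁ = 3)
    (huinv : ∀ x : G, x ∈ (P₀ : Subgroup G) → (u * u) * x * (u * u)⁻¹ = x⁻¹) (v : V)
    (hv : psi u e₁ v = 1) : v = 0 := by
  have h3 : e₁ ^ 3 = 1 := by rw [← ho]; exact pow_orderOf_eq_one e₁
  have h1 : u * (u * e₁ * u⁻¹) * u⁻¹ = e₁⁻¹ := by
    rw [← huinv e₁ he₁]; group
  obtain ⟨a, b⟩ := v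
  unfold psi at hv
  simp only at hv
  have hb : b = 0 := by
    by_contra hb0
    -- e₂ ∈ zpowers e₁
    have hbb : (u * e₁ * u⁻¹) ^ (b.val * b.val) = u * e₁ * u⁻¹ := by
      have hbv : b.val = 1 ∨ b.val = 2 := by
        have := ZMod.val_lt b
        have h0 : b.val ≠ 0 := by
          intro hc; exact hb0 ((ZMod.val_eq_zero b).mp hc)
        omega
      rcases hbv with e | e <;> rw [e]
      · simp
      · rw [show 2 * 2 = 3 + 1 by norm_num, pow_add, e2_pow u e₁ h3, one_mul, pow_one]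
    have he2 : (u * e₁ * u⁻¹) ^ b.val = (e₁ ^ a.val)⁻¹ := eq_inv_of_mul_eq_one_right hv
    have hmem : u * e₁ * u⁻¹ ∈ Subgroup.zpowers e₁ := by
      rw [← hbb, pow_mul, he2]
      exact pow_mem (inv_mem (pow_mem (Subgroup.mem_zpowers e₁) _)) _
    obtain ⟨k, hk⟩ := Subgroup.mem_zpowers_iff.mp hmem
    have hk2 : e₁ ^ (k * k) = e₁⁻¹ := by
      rw [zpow_mul, hk, ← h1]
      nth_rewrite 2 [← hk]
      rw [conj_zpow]
    have hk3 : e₁ ^ (k * k + 1) = 1 := by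
      rw [zpow_add, hk2, zpow_one, inv_mul_cancel]
    have hdvd : ((orderOf e₁ : ℕ) : ℤ) ∣ k * k + 1 := orderOf_dvd_iff_zpow_eq_one.mpr hk3
    rw [ho] at hdvd
    have hz : ((k * k + 1 : ℤ) : ZMod 3) = 0 := (ZMod.intCast_zmod_eq_zero_iff_dvd _ 3).mpr hdvd
    push_cast at hz
    have : ∀ t : ZMod 3, t * t + 1 ≠ 0 := by decide
    exact this _ hz
  subst hb
  rw [ZMod.val_zero, pow_zero, mul_one] at hv
  have := orderOf_dvd_of_pow_eq_one hv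
  rw [ho] at this
  have hlt := ZMod.val_lt a
  have ha0 : a.val = 0 := by
    rcases this with ⟨c, hc⟩
    omega
  rw [(ZMod.val_eq_zero a).mp ha0]
  rfl

end Cfsg.Agent.helper20.A6
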