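import Mathlib
import Cfsg.Agent.Lib_helper20_A6C

/-! Simple groups of order 360, part D: the frame `(P₀, P₁, u, e)` and the induced action on
`Option (ZMod 3 × ZMod 3)` (helper20). -/

set_option autoImplicit false
set_option linter.unusedSectionVars false
set_option linter.unusedVariables false
set_option linter.style.haveILetI false
set_option linter.deprecated false

namespace Cfsg.Agent.helper20.A6

open Subgroup MulAction

/-- a coordinate frame: two Sylow `3`-subgroups, a generator of the two point stabilizer and an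
element of order three of the first Sylow subgroup -/
structure Frame (G : Type*) [Group G] where
  P₀ : Sylow 3 G
  P₁ : Sylow 3 G
  u : G
  e : G
  hne : P₀ ≠ P₁
  hu0 : u • P₀ = P₀
  hu1 : u • P₁ = P₁
  hu4 : orderOf u = 4
  huinv : ∀ x : G, x ∈ (P₀ : Subgroup G) → (u * u) * x * (u * u)⁻¹ = x⁻¹
  hgen : ∀ g : G, g • P₀ = P₀ → g • P₁ = P₁ → g ∈ Subgroup.zpowers u
  he : e ∈ (P₀ : Subgroup G)
  heo : orderOf e = 3

variable {G : Type*} [Group G] [Finite G] [IsSimpleGroup G]

theorem exists_frame (h : Nat.card G = 360) : Nonempty (Frame G) := by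
  have h10 := card_sylow_three h
  have hnt : Nontrivial (Sylow 3 G) := by
    rw [← Finite.one_lt_card_iff_nontrivial, h10]
    norm_num
  obtain ⟨P₀, P₁, hne⟩ := exists_pair_ne (Sylow 3 G)
  obtain ⟨u, hu0, hu1, hu4, huinv, hgen⟩ := exists_u h P₀ P₁ hne
  have h9 := card_sylow3 h P₀
  have hdvd : 3 ∣ Nat.card (P₀ : Subgroup G) := by rw [h9]; norm_num
  obtain ⟨x, hx⟩ := exists_prime_orderOf_dvd_card' 3 hdvd
  refine ⟨⟨P₀, P₁, u, (x : G), hne, hu0, hu1, hu4, huinv, hgen, x.2, ?_⟩⟩
  rw [Subgroup.orderOf_coe]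
  exact hx

namespace Frame

variable (F : Frame G)

theorem e_pow : F.e ^ 3 = 1 := by
  rw [← F.heo]; exact pow_orderOf_eq_one _

theorem u_pow : F.u ^ 4 = 1 := by
  rw [← F.hu4]; exact pow_orderOf_eq_one _

/-- the coordinates -/
def ps (v : V) : G := psi F.u F.e v

theorem ps_mem (v : V) : F.ps v ∈ (F.P₀ : Subgroup G) := psi_mem F.P₀ F.u F.e F.hu0 F.he v

theorem ps_add (h : Nat.card G = 360) (v w : V) : F.ps (v + w) = F.ps v * F.ps w :=
  psi_add h F.P₀ F.u F.e F.hu0 F.he F.e_pow v w

theorem ps_zero : F.ps 0 = 1 := psi_zero F.u F.e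

theorem ps_conj (h : Nat.card G = 360) (v : V) : F.u * F.ps v * F.u⁻¹ = F.ps (uV v) :=
  psi_conj h F.P₀ F.u F.e F.hu0 F.he F.e_pow F.huinv v

theorem ps_inj (h : Nat.card G = 360) (v w : V) (hvw : F.ps v = F.ps w) : v = w := by
  have h1 : F.ps (v - w) = 1 := by
    have := F.ps_add h (v - w) w
    rw [sub_add_cancel, hvw] at this
    exact (mul_eq_right.mp this.symm)
  have := psi_ker h F.P₀ F.u F.e F.hu0 F.he F.heo F.huinv (v - w) h1
  exact sub_eq_zero.mp this

theorem ps_surj (h : Nat.card G = 360) (x : G) (hx : x ∈ (F.P₀ : Subgroup G)) :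
    ∃ v : V, F.ps v = x := by
  let f : V → ↥(F.P₀ : Subgroup G) := fun v => ⟨F.ps v, F.ps_mem v⟩
  have hf : Function.Injective f := by
    intro v w hvw
    exact F.ps_inj h v w (congrArg Subtype.val hvw)
  have hcard : Nat.card ↥(F.P₀ : Subgroup G) ≤ Nat.card V := by
    rw [card_sylow3 h F.P₀, Nat.card_eq_fintype_card]
    decide
  obtain ⟨v, hv⟩ := (hf.bijective_of_nat_card_le hcard).2 ⟨x, hx⟩
  exact ⟨v, congrArg Subtype.val hv⟩

/-- the labelling of the ten Sylow `3`-subgroups -/
def E : Pt → Sylow 3 G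
  | none => F.P₀
  | some v => F.ps v • F.P₁

theorem E_none : F.E none = F.P₀ := rfl

theorem E_some (v : V) : F.E (some v) = F.ps v • F.P₁ := rfl

theorem E_zero : F.E (some 0) = F.P₁ := by
  rw [E_some, ps_zero, one_smul]

theorem E_inj (h : Nat.card G = 360) : Function.Injective F.E := by
  intro x y hxy
  rcases x with _ | v <;> rcases y with _ | w
  · rfl
  · exfalso
    exact smul_ne F.P₀ F.P₁ F.hne _ (F.ps_mem w) hxy.symm
  · exfalso
    exact smul_ne F.P₀ F.P₁ F.hne _ (F.ps_mem v) hxy
  · have := smul_inj h F.P₀ F.P₁ F.hne _ _ (F.ps_mem v) (F.ps_mem w) hxy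
    rw [F.ps_inj h v w this]

theorem E_bij (h : Nat.card G = 360) : Function.Bijective F.E := by
  apply (F.E_inj h).bijective_of_nat_card_le
  rw [card_sylow_three h, Nat.card_eq_fintype_card]
  decide

/-- `g` acts on the labels as the function `f` -/
def Acts (g : G) (f : Pt → Pt) : Prop := ∀ x : Pt, g • F.E x = F.E (f x)

theorem acts_one : F.Acts 1 id := fun x => one_smul _ _

variable {F} in
theorem Acts.mul {g g' : G} {f f' : Pt → Pt} (hg : F.Acts g f) (hg' : F.Acts g' f') :
    F.Acts (g * g') (f ∘ f') := by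
  intro x
  rw [mul_smul, hg' x, hg (f' x)]
  rfl

variable {F} in
theorem Acts.unique (h : Nat.card G = 360) {g : G} {f f' : Pt → Pt} (hg : F.Acts g f)
    (hg' : F.Acts g f') : f = f' := by
  funext x
  apply F.E_inj h
  rw [← hg x, ← hg' x]

variable {F} in
theorem Acts.injective (h : Nat.card G = 360) {g : G} {f : Pt → Pt} (hg : F.Acts g f) :
    Function.Injective f := by
  intro x y hxy
  apply F.E_inj h
  apply MulAction.injective g
  show g • F.E x = g • F.E y
  rw [hg x, hg y, hxy]

variable {F} in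
theorem Acts.eq_one (h : Nat.card G = 360) {g : G} (hg : F.Acts g id) : g = 1 := by
  apply faithful h
  intro Q
  obtain ⟨x, rfl⟩ := (F.E_bij h).2 Q
  exact hg x

theorem exists_acts (h : Nat.card G = 360) (g : G) : ∃ f : Pt → Pt, F.Acts g f := by
  refine ⟨fun x => (Equiv.ofBijective F.E (F.E_bij h)).symm (g • F.E x), ?_⟩
  intro x
  exact ((Equiv.ofBijective F.E (F.E_bij h)).apply_symm_apply _).symm

theorem acts_ps (h : Nat.card G = 360) (w : V) :
    F.Acts (F.ps w) (fun x => match x with | none => none | some v => some (w + v)) := by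
  intro x
  rcases x with _ | v
  · exact sylow_smul_mem F.P₀ _ (F.ps_mem w)
  · show F.ps w • F.E (some v) = F.E (some (w + v))
    rw [E_some, E_some, ← mul_smul, ← F.ps_add h]

theorem ps_10 : F.ps (1, 0) = F.e := by
  unfold ps psi
  simp only [pw_one, pw_zero, mul_one]

theorem ps_01 : F.ps (0, 1) = F.u * F.e * F.u⁻¹ := by
  unfold ps psi
  simp only [pw_one, pw_zero, one_mul]

theorem acts_e (h : Nat.card G = 360) : F.Acts F.e fa := by
  have := F.acts_ps h (1, 0)
  rw [ps_10] at this
  convert this using 1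
  funext x
  rcases x with _ | v
  · rfl
  · show some (v + (1, 0)) = some ((1, 0) + v)
    rw [add_comm]

theorem acts_e2 (h : Nat.card G = 360) : F.Acts (F.u * F.e * F.u⁻¹) fb := by
  have := F.acts_ps h (0, 1)
  rw [ps_01] at this
  convert this using 1
  funext x
  rcases x with _ | v
  · rfl
  · show some (v + (0, 1)) = some ((0, 1) + v)
    rw [add_comm]

theorem acts_u (h : Nat.card G = 360) : F.Acts F.u fu := by
  intro x
  rcases x with _ | v
  · exact F.hu0
  · show F.u • F.E (some v) = F.E (some (uV v))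
    rw [E_some, E_some, smul_conj F.P₁ F.u F.hu1, F.ps_conj h]

theorem acts_u_pow (h : Nat.card G = 360) (k : ℕ) : F.Acts (F.u ^ k) (fu^[k]) := by
  induction k with
  | zero => rw [pow_zero]; exact F.acts_one
  | succ n ih =>
    rw [pow_succ', Function.iterate_succ']
    exact (F.acts_u h).mul ih

end Frame

end Cfsg.Agent.helper20.A6
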