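import Mathlib
import Cfsg.Agent.Lib_helper20_A6D

/-! Simple groups of order 360, part E: every element acts as a `Good` function (helper20). -/

set_option autoImplicit false
set_option linter.unusedSectionVars false
set_option linter.unusedVariables false
set_option linter.style.haveILetI false
set_option linter.deprecated false

namespace Cfsg.Agent.helper20.A6

open Subgroup MulAction

variable {G : Type*} [Group G] [Finite G] [IsSimpleGroup G]

namespace Frame

variable (F : Frame G)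

/-- elements of the two point stabilizer are `u ^ j` with `j < 4` -/
theorem two_stab_eq (g : G) (h0 : g • F.P₀ = F.P₀) (h1 : g • F.P₁ = F.P₁) :
    ∃ j : ℕ, j < 4 ∧ g = F.u ^ j := by
  obtain ⟨k, hk⟩ := Subgroup.mem_zpowers_iff.mp (F.hgen g h0 h1)
  have h4 : (F.u) ^ (k % ((orderOf F.u : ℕ) : ℤ)) = F.u ^ k := zpow_mod_orderOf _ _
  rw [F.hu4] at h4
  have hnn : 0 ≤ k % ((4 : ℕ) : ℤ) := Int.emod_nonneg _ (by norm_num)
  have hlt : k % ((4 : ℕ) : ℤ) < 4 := Int.emod_lt_of_pos _ (by norm_num)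
  refine ⟨(k % ((4 : ℕ) : ℤ)).toNat, by omega, ?_⟩
  rw [← hk, ← h4, ← zpow_natCast, Int.toNat_of_nonneg hnn]

theorem u_sq_ne : F.u ^ 2 ≠ 1 := by
  intro hc
  have := orderOf_dvd_of_pow_eq_one hc
  rw [F.hu4] at this
  norm_num at this

theorem u_ne : F.u ≠ 1 := by
  intro hc
  have := F.hu4
  rw [hc, orderOf_one] at this
  norm_num at this

/-- an element of `P₀` commuting with `u ^ j`, `0 < j < 4`, is trivial -/
theorem comm_u_pow (h : Nat.card G = 360) (j : ℕ) (hj0 : 0 < j) (hj : j < 4) (x : G)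
    (hx : x ∈ (F.P₀ : Subgroup G)) (hc : F.u ^ j * x * (F.u ^ j)⁻¹ = x) : x = 1 := by
  have h2 : (F.u * F.u) * x * (F.u * F.u)⁻¹ = x := by
    have hcomm : F.u ^ j * x = x * F.u ^ j := by
      calc F.u ^ j * x = (F.u ^ j * x * (F.u ^ j)⁻¹) * F.u ^ j := by group
        _ = x * F.u ^ j := by rw [hc]
    have hcomm2 : (F.u ^ j * F.u ^ j) * x = x * (F.u ^ j * F.u ^ j) := by
      rw [mul_assoc, hcomm, ← mul_assoc, hcomm, mul_assoc]
    have hpow : F.u ^ j * F.u ^ j = F.u * F.u ∨ F.u ^ j = F.u * F.u := by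
      have h4 := F.u_pow
      interval_cases j
      · left; simp
      · right; rw [pow_two]
      · left
        rw [← pow_add, show 3 + 3 = 4 + 2 by norm_num, pow_add, h4, one_mul, pow_two]
    rcases hpow with hp | hp
    · rw [hp] at hcomm2
      rw [hcomm2]; group
    · rw [hp] at hcomm
      rw [hcomm]; group
  rw [F.huinv x hx] at h2
  -- `x⁻¹ = x` and `x ^ 9 = 1`
  have hx2 : x ^ 2 = 1 := by
    rw [pow_two]
    nth_rewrite 1 [← h2]
    exact inv_mul_cancel x
  have hx9 : x ^ 9 = 1 := by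
    have : (⟨x, hx⟩ : ↥(F.P₀ : Subgroup G)) ^ Nat.card ↥(F.P₀ : Subgroup G) = 1 := pow_card_eq_one'
    rw [card_sylow3 h F.P₀] at this
    exact congrArg Subtype.val this
  calc x = x ^ 9 * ((x ^ 2) ^ 4)⁻¹ := by
        rw [← pow_mul]; group
    _ = 1 := by rw [hx9, hx2]; simp

/-- an element fixing three Sylow subgroups is trivial -/
theorem fix_three (h : Nat.card G = 360) (t : G) (h0 : t • F.P₀ = F.P₀) (h1 : t • F.P₁ = F.P₁)
    (R : Sylow 3 G) (hR0 : R ≠ F.P₀) (hR1 : R ≠ F.P₁) (hR : t • R = R) : t = 1 := by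
  obtain ⟨j, hj, rfl⟩ := F.two_stab_eq t h0 h1
  rcases Nat.eq_zero_or_pos j with rfl | hj0
  · exact pow_zero _
  exfalso
  obtain ⟨x, hx, hxR⟩ := exists_smul_eq' h F.P₀ F.P₁ F.hne R hR0
  have hx1 : x ≠ 1 := by
    rintro rfl
    rw [one_smul] at hxR
    exact hR1 hxR.symm
  apply hx1
  apply F.comm_u_pow h j hj0 hj x hx
  rw [← hxR, smul_conj F.P₁ _ h1] at hR
  exact smul_inj h F.P₀ F.P₁ F.hne _ _ (conj_mem_of_fix F.P₀ _ h0 x hx) hx hR

theorem fu_iter (j : ℕ) (hj : j < 4) :
    fu^[j] = id ∨ fu^[j] = fu ∨ fu^[j] = fu ∘ fu ∨ fu^[j] = fu ∘ fu ∘ fu := by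
  interval_cases j
  · left; rfl
  · right; left; rfl
  · right; right; left; rfl
  · right; right; right; rfl

theorem acts_good (h : Nat.card G = 360) (t : G) (W : Pt → Pt) (ht : F.Acts t W) : Good W := by
  classical
  refine ⟨ht.injective h, ?_, ?_⟩
  · by_contra hcon
    push Not at hcon
    obtain ⟨hne, hcard⟩ := hcon
    obtain ⟨a, ha, b, hb, c, hc, hab, hac, hbc⟩ := Finset.two_lt_card.mp hcard
    rw [Finset.mem_filter] at ha hb hc
    have hta : t • F.E a = F.E a := by rw [ht a, ha.2]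
    have htb : t • F.E b = F.E b := by rw [ht b, hb.2]
    have htc : t • F.E c = F.E c := by rw [ht c, hc.2]
    have hEab : F.E a ≠ F.E b := fun hh => hab (F.E_inj h hh)
    obtain ⟨s, hs0, hs1⟩ := two_trans h F.P₀ F.P₁ F.hne (F.E a) (F.E b) hEab
    have hs0' : s⁻¹ • F.P₀ = F.E a := by rw [← hs0, inv_smul_smul]
    have hs1' : s⁻¹ • F.P₁ = F.E b := by rw [← hs1, inv_smul_smul]
    have h0 : (s * t * s⁻¹) • F.P₀ = F.P₀ := by
      rw [mul_smul, mul_smul, hs0', hta, hs0]
    have h1 : (s * t * s⁻¹) • F.P₁ = F.P₁ := by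
      rw [mul_smul, mul_smul, hs1', htb, hs1]
    have hR : (s * t * s⁻¹) • (s • F.E c) = s • F.E c := by
      rw [mul_smul, mul_smul, inv_smul_smul, htc]
    have hR0 : s • F.E c ≠ F.P₀ := by
      intro hh
      rw [← hs0] at hh
      exact hac (F.E_inj h (MulAction.injective s hh)).symm
    have hR1 : s • F.E c ≠ F.P₁ := by
      intro hh
      rw [← hs1] at hh
      exact hbc (F.E_inj h (MulAction.injective s hh)).symm
    have hone := F.fix_three h _ h0 h1 _ hR0 hR1 hR
    have ht1 : t = 1 := by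
      have : t = s⁻¹ * (s * t * s⁻¹) * s := by group
      rw [this, hone]; group
    subst ht1
    exact hne (ht.unique h F.acts_one)
  · intro hn h0
    have h0' : t • F.P₀ = F.P₀ := by
      have := ht none
      rw [hn] at this
      exact this
    have h1' : t • F.P₁ = F.P₁ := by
      have := ht (some 0)
      rw [h0, E_zero] at this
      exact this
    obtain ⟨j, hj, rfl⟩ := F.two_stab_eq t h0' h1'
    have := ht.unique h (F.acts_u_pow h j)
    rw [this]
    exact fu_iter j hj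

end Frame

end Cfsg.Agent.helper20.A6
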