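import Mathlib
import Cfsg.Agent.Lib_helper20_A6E

/-! Simple groups of order 360, part F: the element swapping `P₀` and `P₁` acts as `fw`
up to a power of `u`; generation; the embedding into `Perm (Option (ZMod 3 × ZMod 3))`
(helper20). -/

set_option autoImplicit false
set_option linter.unusedSectionVars false
set_option linter.unusedVariables false
set_option linter.style.haveILetI false
set_option linter.deprecated false

namespace Cfsg.Agent.helper20.A6

open Subgroup MulAction

/-- a function commuting with `fu` up to inversion is determined by four values -/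
theorem eq_cand (W : Pt → Pt) (ε : Bool) (c d : V)
    (hcomm : ∀ x, W (fu x) = fu^[if ε then 1 else 3] (W x))
    (h0 : W none = some 0) (h1 : W (some 0) = none)
    (hc : W (some (1, 0)) = some c) (hd : W (some (1, 1)) = some d) : W = cand ε c d := by
  have hv : ∀ v : V, v = 0 ∨ v = (1, 0) ∨ v = (0, 1) ∨ v = (2, 0) ∨ v = (0, 2) ∨ v = (1, 1) ∨
      v = (2, 1) ∨ v = (2, 2) ∨ v = (1, 2) := by decide
  have e01 : (some (0, 1) : Pt) = fu (some (1, 0)) := by decide
  have e20 : (some (2, 0) : Pt) = fu (fu (some (1, 0))) := by decide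
  have e02 : (some (0, 2) : Pt) = fu (fu (fu (some (1, 0)))) := by decide
  have e21 : (some (2, 1) : Pt) = fu (some (1, 1)) := by decide
  have e22 : (some (2, 2) : Pt) = fu (fu (some (1, 1))) := by decide
  have e12 : (some (1, 2) : Pt) = fu (fu (fu (some (1, 1)))) := by decide
  funext x
  rcases x with _ | v
  · exact h0
  rcases hv v with rfl | rfl | rfl | rfl | rfl | rfl | rfl | rfl | rfl
  · exact h1
  · exact hc
  · have : W (some (0, 1)) = fu^[if ε then 1 else 3] (some c) := by rw [e01, hcomm, hc]
    rw [this]; cases ε <;> rfl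
  · have : W (some (2, 0)) = fu^[if ε then 1 else 3] (fu^[if ε then 1 else 3] (some c)) := by
      rw [e20, hcomm, hcomm, hc]
    rw [this]; cases ε <;> rfl
  · have : W (some (0, 2)) = fu^[if ε then 1 else 3] (fu^[if ε then 1 else 3]
        (fu^[if ε then 1 else 3] (some c))) := by
      rw [e02, hcomm, hcomm, hcomm, hc]
    rw [this]; cases ε <;> rfl
  · exact hd
  · have : W (some (2, 1)) = fu^[if ε then 1 else 3] (some d) := by rw [e21, hcomm, hd]
    rw [this]; cases ε <;> rfl
  · have : W (some (2, 2)) = fu^[if ε then 1 else 3] (fu^[if ε then 1 else 3] (some d)) := by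
      rw [e22, hcomm, hcomm, hd]
    rw [this]; cases ε <;> rfl
  · have : W (some (1, 2)) = fu^[if ε then 1 else 3] (fu^[if ε then 1 else 3]
        (fu^[if ε then 1 else 3] (some d))) := by
      rw [e12, hcomm, hcomm, hcomm, hd]
    rw [this]; cases ε <;> rfl

theorem fu_iter_four (x : Pt) : fu^[4] x = x := by
  revert x; decide

variable {G : Type*} [Group G] [Finite G] [IsSimpleGroup G]

namespace Frame

variable (F : Frame G)

/-- evaluation of a word in the group -/
def evalG (g : G) : List Letter → G
  | [] => 1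
  | Letter.f :: w => g * evalG g w
  | Letter.a :: w => F.e * evalG g w
  | Letter.b :: w => (F.u * F.e * F.u⁻¹) * evalG g w
  | Letter.u :: w => F.u * evalG g w

theorem acts_evalG (h : Nat.card G = 360) (g : G) (W : Pt → Pt) (hg : F.Acts g W)
    (w : List Letter) : F.Acts (F.evalG g w) (evalW W w) := by
  induction w with
  | nil => exact F.acts_one
  | cons l w ih =>
    cases l
    · exact hg.mul ih
    · exact (F.acts_e h).mul ih
    · exact (F.acts_e2 h).mul ih
    · exact (F.acts_u h).mul ih

/-- there is an element acting as `fw` -/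
theorem exists_w (h : Nat.card G = 360) : ∃ w₀ : G, F.Acts w₀ fw := by
  obtain ⟨g, hg1, hg0⟩ := two_trans h F.P₀ F.P₁ F.hne F.P₁ F.P₀ F.hne.symm
  -- `g • P₁ = P₀` and `g • P₀ = P₁`
  have hgi0 : g⁻¹ • F.P₀ = F.P₁ := by rw [← hg1, inv_smul_smul]
  have hgi1 : g⁻¹ • F.P₁ = F.P₀ := by rw [← hg0, inv_smul_smul]
  have hc0 : (g * F.u * g⁻¹) • F.P₀ = F.P₀ := by
    rw [mul_smul, mul_smul, hgi0, F.hu1, hg1]
  have hc1 : (g * F.u * g⁻¹) • F.P₁ = F.P₁ := by
    rw [mul_smul, mul_smul, hgi1, F.hu0, hg0]
  obtain ⟨j, hj, hju⟩ := F.two_stab_eq _ hc0 hc1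
  have hu4 := F.u_pow
  have hj13 : j = 1 ∨ j = 3 := by
    interval_cases j
    · exfalso
      rw [pow_zero] at hju
      apply F.u_ne
      have : F.u = g⁻¹ * (g * F.u * g⁻¹) * g := by group
      rw [this, hju]; group
    · left; rfl
    · exfalso
      have h2 : (g * F.u * g⁻¹) ^ 2 = 1 := by
        rw [hju, ← pow_mul]; exact hu4
      apply F.u_sq_ne
      have : F.u ^ 2 = g⁻¹ * (g * F.u * g⁻¹) ^ 2 * g := by
        rw [conj_pow]; group
      rw [this, h2]; group
    · right; rfl
  obtain ⟨W, hW⟩ := F.exists_acts h g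
  have hWinj := hW.injective h
  have hW0 : W none = some 0 := by
    apply F.E_inj h
    rw [← hW none, E_zero, E_none, hg0]
  have hW1 : W (some 0) = none := by
    apply F.E_inj h
    rw [← hW (some 0), E_zero, E_none, hg1]
  -- the commutation rule
  have hcomm : ∃ ε : Bool, ∀ x, W (fu x) = fu^[if ε then 1 else 3] (W x) := by
    rcases hj13 with rfl | rfl
    · refine ⟨true, ?_⟩
      have hgu : g * F.u = F.u ^ 1 * g := by
        rw [← hju]; group
      have h1 := hW.mul (F.acts_u h)
      have h2 := (F.acts_u_pow h 1).mul hW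
      rw [hgu] at h1
      intro x
      exact congrFun (h1.unique h h2) x
    · refine ⟨false, ?_⟩
      have hgu : g * F.u = F.u ^ 3 * g := by
        rw [← hju]; group
      have h1 := hW.mul (F.acts_u h)
      have h2 := (F.acts_u_pow h 3).mul hW
      rw [hgu] at h1
      intro x
      exact congrFun (h1.unique h h2) x
  obtain ⟨ε, hε⟩ := hcomm
  have hc : ∃ c : V, W (some (1, 0)) = some c := by
    rw [← Option.ne_none_iff_exists']
    intro hn
    have := hWinj (hn.trans hW1.symm)
    revert this; decide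
  have hd : ∃ d : V, W (some (1, 1)) = some d := by
    rw [← Option.ne_none_iff_exists']
    intro hn
    have := hWinj (hn.trans hW1.symm)
    revert this; decide
  obtain ⟨c, hc⟩ := hc
  obtain ⟨d, hd⟩ := hd
  have hWc : W = cand ε c d := eq_cand W ε c d hε hW0 hW1 hc hd
  have hgood : ∀ w ∈ testWords, Good (evalW (cand ε c d) w) := by
    intro w _
    rw [← hWc]
    exact F.acts_good h _ _ (F.acts_evalG h g W hW w)
  obtain ⟨k, hk⟩ := cand_good ε c d hgood
  refine ⟨g * F.u ^ (4 - (k : ℕ)), ?_⟩
  have := hW.mul (F.acts_u_pow h (4 - (k : ℕ)))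
  convert this using 1
  funext x
  show fw x = W (fu^[4 - (k : ℕ)] x)
  rw [hWc, hk, ← Function.iterate_add_apply]
  have : (k : ℕ) + (4 - (k : ℕ)) = 4 := by
    have := k.2
    omega
  rw [this, fu_iter_four]

end Frame

end Cfsg.Agent.helper20.A6
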