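import Mathlib
import Cfsg.Agent.Lib_helper20_A6F

/-! Simple groups of order 360, part G: generation and the isomorphism with the model group
(helper20). -/

set_option autoImplicit false
set_option linter.unusedSectionVars false
set_option linter.unusedVariables false
set_option linter.style.haveILetI false
set_option linter.deprecated false

namespace Cfsg.Agent.helper20.A6

open Subgroup MulAction

/-- the model group -/
def Model : Subgroup (Equiv.Perm Pt) := Subgroup.closure {pa, pb, pu, pw}

variable {G : Type*} [Group G] [Finite G] [IsSimpleGroup G]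

namespace Frame

variable (F : Frame G)

/-- the four elements generate -/
theorem closure_eq_top (h : Nat.card G = 360) (w₀ : G) (hw : F.Acts w₀ fw) :
    Subgroup.closure ({F.e, F.u * F.e * F.u⁻¹, F.u, w₀} : Set G) = ⊤ := by
  set K : Subgroup G := Subgroup.closure ({F.e, F.u * F.e * F.u⁻¹, F.u, w₀} : Set G) with hK
  have heK : F.e ∈ K := Subgroup.subset_closure (by simp)
  have he2K : F.u * F.e * F.u⁻¹ ∈ K := Subgroup.subset_closure (by simp)
  have huK : F.u ∈ K := Subgroup.subset_closure (by simp)
  have hwK : w₀ ∈ K := Subgroup.subset_closure (by simp)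
  have hPK : (F.P₀ : Subgroup G) ≤ K := by
    intro x hx
    obtain ⟨v, rfl⟩ := F.ps_surj h x hx
    exact mul_mem (pow_mem heK _) (pow_mem he2K _)
  have h36 : ∀ L : Subgroup G, (F.P₀ : Subgroup G) ≤ L → F.u ∈ L → 36 ∣ Nat.card L := by
    intro L hPL huL
    have h9 : 9 ∣ Nat.card L := by
      have := Subgroup.card_dvd_of_le hPL
      rwa [card_sylow3 h F.P₀] at this
    have h4 : 4 ∣ Nat.card L := by
      have := L.orderOf_dvd_natCard huL
      rwa [F.hu4] at this
    exact Nat.Coprime.mul_dvd_of_dvd_of_dvd (by norm_num) h9 h4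
  by_contra hKt
  have h6 := six_le_index h K hKt
  have hmul := Subgroup.card_mul_index K
  rw [h] at hmul
  obtain ⟨c, hc⟩ := h36 K hPK huK
  have hcK : Nat.card K = 36 := by
    rw [hc] at hmul ⊢
    have h10 : c * K.index = 10 := by
      have : 36 * (c * K.index) = 360 := by rw [← mul_assoc]; exact hmul
      omega
    have hc1 : c = 1 := by
      rcases c with _ | _ | c
      · simp at h10
      · rfl
      · exfalso; nlinarith
    rw [hc1]
  -- `K ⊓ stabilizer P₀` has order at least `36`
  set L : Subgroup G := K ⊓ stabilizer G F.P₀ with hL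
  have hPL : (F.P₀ : Subgroup G) ≤ L := by
    intro x hx
    exact ⟨hPK hx, MulAction.mem_stabilizer_iff.mpr (sylow_smul_mem F.P₀ x hx)⟩
  have huL : F.u ∈ L := ⟨huK, MulAction.mem_stabilizer_iff.mpr F.hu0⟩
  have hL36 := h36 L hPL huL
  have hLK : L = K := by
    apply Subgroup.eq_of_le_of_card_ge inf_le_left
    rw [hcK]
    exact Nat.le_of_dvd Nat.card_pos hL36
  have hwL : w₀ ∈ L := by rw [hLK]; exact hwK
  have := MulAction.mem_stabilizer_iff.mp hwL.2
  have h2 := hw none
  rw [E_none, this] at h2
  exact F.hne (h2.trans F.E_zero)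

/-- the labelling as an equivalence -/
noncomputable def eE (h : Nat.card G = 360) : Pt ≃ Sylow 3 G := Equiv.ofBijective F.E (F.E_bij h)

/-- the permutation representation on the labels -/
noncomputable def gam (h : Nat.card G = 360) : G →* Equiv.Perm Pt :=
  ((F.eE h).symm.permCongrHom.toMonoidHom).comp (MulAction.toPermHom G (Sylow 3 G))

theorem gam_apply (h : Nat.card G = 360) (g : G) (x : Pt) :
    F.gam h g x = (F.eE h).symm (g • F.E x) := rfl

theorem gam_of_acts (h : Nat.card G = 360) (g : G) (W : Pt → Pt) (hg : F.Acts g W) (x : Pt) :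
    F.gam h g x = W x := by
  rw [gam_apply, hg x]
  exact (F.eE h).symm_apply_apply (W x)

theorem gam_injective (h : Nat.card G = 360) : Function.Injective (F.gam h) := by
  rw [injective_iff_map_eq_one]
  intro g hg
  apply Acts.eq_one (F := F) h
  intro x
  have := DFunLike.congr_fun hg x
  rw [gam_apply, Equiv.Perm.one_apply, Equiv.symm_apply_eq] at this
  exact this

theorem model_iso_aux (F : Frame G) (h : Nat.card G = 360) : Nonempty (G ≃* ↥Model) := by
  obtain ⟨w₀, hw⟩ := F.exists_w h
  have hrange : (F.gam h).range = Model := by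
    rw [MonoidHom.range_eq_map, ← F.closure_eq_top h w₀ hw, MonoidHom.map_closure]
    unfold Model
    congr 1
    have e1 : F.gam h F.e = pa := Equiv.ext fun x => F.gam_of_acts h _ _ (F.acts_e h) x
    have e2 : F.gam h (F.u * F.e * F.u⁻¹) = pb :=
      Equiv.ext fun x => F.gam_of_acts h _ _ (F.acts_e2 h) x
    have e3 : F.gam h F.u = pu := Equiv.ext fun x => F.gam_of_acts h _ _ (F.acts_u h) x
    have e4 : F.gam h w₀ = pw := Equiv.ext fun x => F.gam_of_acts h _ _ hw x
    simp only [Set.image_insert_eq, Set.image_singleton]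
    rw [e1, e3, e4]
    rw [e2]
  exact ⟨(MonoidHom.ofInjective (F.gam_injective h)).trans (MulEquiv.subgroupCongr hrange)⟩

end Frame

/-- every simple group of order `360` is isomorphic to the model group -/
theorem model_iso (h : Nat.card G = 360) : Nonempty (G ≃* ↥Model) := by
  obtain ⟨F⟩ := exists_frame h
  exact F.model_iso_aux h

end Cfsg.Agent.helper20.A6
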