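import Mathlib

set_option autoImplicit false
set_option linter.style.haveILetI false

/-! Generators of the common kernel of independent integer characters on a central,
finitely generated subgroup. -/

namespace Cfsg.Agent.helper20.AbRank

open Subgroup

variable {Γ : Type*} [Group Γ]

/-- integer value of a character. -/
def val (χ : Γ →* Multiplicative ℤ) (b : Γ) : ℤ := Multiplicative.toAdd (χ b)

theorem val_mul (χ : Γ →* Multiplicative ℤ) (a b : Γ) : val χ (a * b) = val χ a + val χ b := by
  simp [val]

theorem val_one (χ : Γ →* Multiplicative ℤ) : val χ 1 = 0 := by simp [val]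

theorem val_inv (χ : Γ →* Multiplicative ℤ) (a : Γ) : val χ a⁻¹ = - val χ a := by simp [val]

theorem val_zpow (χ : Γ →* Multiplicative ℤ) (a : Γ) (k : ℤ) :
    val χ (a ^ k) = k * val χ a := by simp [val]

theorem val_eq_zero (χ : Γ →* Multiplicative ℤ) (a : Γ) : val χ a = 0 ↔ a ∈ χ.ker := by
  rw [MonoidHom.mem_ker, val]
  constructor
  · intro h
    exact Multiplicative.toAdd.injective h
  · intro h
    rw [h]; rfl

theorem mem_closure_insert_central (s : Γ) (S' : Set Γ) (hS' : S' ⊆ center Γ) (x : Γ)
    (hx : x ∈ closure (insert s S')) : ∃ k : ℤ, ∃ b ∈ closure S', x = s ^ k * b := by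
  have hcen : closure S' ≤ center Γ := (closure_le _).mpr hS'
  induction hx using closure_induction with
  | mem y hy =>
    rcases hy with rfl | hy
    · exact ⟨1, 1, one_mem _, by simp⟩
    · exact ⟨0, y, subset_closure hy, by simp⟩
  | one => exact ⟨0, 1, one_mem _, by simp⟩
  | mul y z _ _ ihy ihz =>
    obtain ⟨k, b, hb, rfl⟩ := ihy
    obtain ⟨l, c, hc, rfl⟩ := ihz
    refine ⟨k + l, b * c, mul_mem hb hc, ?_⟩
    have := mem_center_iff.mp (hcen hb) (s ^ l)
    rw [zpow_add, mul_assoc, mul_assoc, ← mul_assoc b, ← this, mul_assoc]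
  | inv y _ ih =>
    obtain ⟨k, b, hb, rfl⟩ := ih
    refine ⟨-k, b⁻¹, inv_mem hb, ?_⟩
    have := mem_center_iff.mp (hcen (inv_mem hb)) (s ^ (-k))
    rw [mul_inv_rev, ← zpow_neg, this]

/-- the kernel of a nontrivial integer character on a central subgroup generated by `S`
is generated by `|S| - 1` elements. -/
theorem exists_gens_ker (χ : Γ →* Multiplicative ℤ) (S : Finset Γ)
    (hS : ∀ s ∈ S, s ∈ center Γ) (hne : ∃ b ∈ closure (S : Set Γ), val χ b ≠ 0) :
    ∃ T : Finset Γ, T.card + 1 ≤ S.card ∧
      closure (T : Set Γ) = closure (S : Set Γ) ⊓ χ.ker := by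
  classical
  induction S using Finset.induction_on with
  | empty =>
    obtain ⟨b, hb, hχ⟩ := hne
    rw [Finset.coe_empty, Subgroup.closure_empty, mem_bot] at hb
    rw [hb, val_one] at hχ
    exact absurd rfl hχ
  | insert s S' hs ih =>
    have hS'c : ∀ x ∈ S', x ∈ center Γ := fun x hx => hS x (Finset.mem_insert_of_mem hx)
    have hS'sub : (S' : Set Γ) ⊆ center Γ := fun x hx => hS'c x hx
    have hcen' : closure (S' : Set Γ) ≤ center Γ := (closure_le _).mpr hS'sub
    have hdec : ∀ x ∈ closure ((insert s S' : Finset Γ) : Set Γ),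
        ∃ k : ℤ, ∃ b ∈ closure (S' : Set Γ), x = s ^ k * b := by
      intro x hx
      rw [Finset.coe_insert] at hx
      exact mem_closure_insert_central s _ hS'sub x hx
    have hle : closure (S' : Set Γ) ≤ closure ((insert s S' : Finset Γ) : Set Γ) :=
      closure_mono (by rw [Finset.coe_insert]; exact Set.subset_insert _ _)
    have hsmem : s ∈ closure ((insert s S' : Finset Γ) : Set Γ) :=
      subset_closure (by rw [Finset.coe_insert]; exact Set.mem_insert _ _)
    by_cases hB : ∃ b ∈ closure (S' : Set Γ), val χ b ≠ 0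
    · obtain ⟨T', hT'c, hT'⟩ := ih hS'c hB
      set c := val χ s with hc
      -- the subgroup of exponents
      let I : AddSubgroup ℤ :=
        { carrier := {k | ∃ b ∈ closure (S' : Set Γ), val χ b = k * c}
          zero_mem' := ⟨1, one_mem _, by rw [val_one, zero_mul]⟩
          add_mem' := by
            rintro k l ⟨b, hb, hbk⟩ ⟨b', hb', hbl⟩
            exact ⟨b * b', mul_mem hb hb', by rw [val_mul, hbk, hbl, add_mul]⟩
          neg_mem' := by
            rintro k ⟨b, hb, hbk⟩
            exact ⟨b⁻¹, inv_mem hb, by rw [val_inv, hbk, neg_mul]⟩ }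
      obtain ⟨k₀, hk₀⟩ := Int.subgroup_cyclic I
      have hk₀mem : k₀ ∈ I := by
        rw [hk₀]; exact AddSubgroup.subset_closure (Set.mem_singleton _)
      obtain ⟨b₀, hb₀, hb₀v⟩ := hk₀mem
      set t := s ^ k₀ * b₀⁻¹ with ht
      have htv : val χ t = 0 := by
        rw [ht, val_mul, val_zpow, val_inv, hb₀v, ← hc]; ring
      have htmem : t ∈ closure ((insert s S' : Finset Γ) : Set Γ) :=
        mul_mem (zpow_mem hsmem _) (inv_mem (hle hb₀))
      refine ⟨insert t T', ?_, ?_⟩
      · have h1 := Finset.card_insert_le t T'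
        rw [Finset.card_insert_of_notMem hs]
        omega
      · apply le_antisymm
        · rw [closure_le]
          intro y hy
          rw [Finset.coe_insert] at hy
          rcases hy with rfl | hy
          · exact mem_inf.mpr ⟨htmem, (val_eq_zero χ _).mp htv⟩
          · have : y ∈ closure (T' : Set Γ) := subset_closure hy
            rw [hT'] at this
            exact mem_inf.mpr ⟨hle (mem_inf.mp this).1, (mem_inf.mp this).2⟩
        · intro x hx
          obtain ⟨hx1, hx2⟩ := mem_inf.mp hx
          obtain ⟨k, b', hb', rfl⟩ := hdec x hx1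
          have hv : val χ (s ^ k * b') = 0 := (val_eq_zero χ _).mpr hx2
          rw [val_mul, val_zpow, ← hc] at hv
          have hkI : k ∈ I := ⟨b'⁻¹, inv_mem hb', by rw [val_inv]; linarith⟩
          rw [hk₀, AddSubgroup.mem_closure_singleton] at hkI
          obtain ⟨j, hj⟩ := hkI
          have hj' : k = k₀ * j := by rw [← hj, smul_eq_mul, mul_comm]
          -- y := b' * b₀ ^ j
          have hy1 : b' * b₀ ^ j ∈ closure (S' : Set Γ) := mul_mem hb' (zpow_mem hb₀ _)
          have hy2 : val χ (b' * b₀ ^ j) = 0 := by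
            rw [val_mul, val_zpow, hb₀v]
            have : val χ b' = - (k * c) := by linarith
            rw [this, hj']; ring
          have hy3 : b' * b₀ ^ j ∈ closure (T' : Set Γ) := by
            rw [hT']; exact mem_inf.mpr ⟨hy1, (val_eq_zero χ _).mp hy2⟩
          have hT'le : closure (T' : Set Γ) ≤ closure ((insert t T' : Finset Γ) : Set Γ) :=
            closure_mono (by rw [Finset.coe_insert]; exact Set.subset_insert _ _)
          have htm : t ∈ closure ((insert t T' : Finset Γ) : Set Γ) :=
            subset_closure (by rw [Finset.coe_insert]; exact Set.mem_insert _ _)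
          have hb₀c : b₀ ∈ center Γ := hcen' hb₀
          have hcomm : Commute (s ^ k₀) b₀⁻¹ :=
            (mem_center_iff.mp (inv_mem hb₀c) (s ^ k₀))
          have hxeq : s ^ k * b' = t ^ j * (b' * b₀ ^ j) := by
            rw [ht, hcomm.mul_zpow, ← zpow_mul, ← hj', inv_zpow]
            have h1 := mem_center_iff.mp (zpow_mem hb₀c j) b'
            rw [mul_assoc, ← mul_assoc (b₀ ^ j)⁻¹, mul_assoc (b₀ ^ j)⁻¹, h1, inv_mul_cancel_left]
          rw [hxeq]
          exact mul_mem (zpow_mem htm _) (hT'le hy3)
    · -- χ vanishes on the closure of S'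
      have hB' : ∀ b ∈ closure (S' : Set Γ), val χ b = 0 := by
        intro b hb
        by_contra h
        exact hB ⟨b, hb, h⟩
      have hcs : val χ s ≠ 0 := by
        intro h0
        obtain ⟨b, hb, hχ⟩ := hne
        obtain ⟨k, b', hb', rfl⟩ := hdec b hb
        apply hχ
        rw [val_mul, val_zpow, h0, hB' b' hb']; ring
      refine ⟨S', by rw [Finset.card_insert_of_notMem hs], ?_⟩
      apply le_antisymm
      · intro x hx
        exact mem_inf.mpr ⟨hle hx, (val_eq_zero χ _).mp (hB' x hx)⟩
      · intro x hx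
        obtain ⟨hx1, hx2⟩ := mem_inf.mp hx
        obtain ⟨k, b', hb', rfl⟩ := hdec x hx1
        have hv : val χ (s ^ k * b') = 0 := (val_eq_zero χ _).mpr hx2
        rw [val_mul, val_zpow, hB' b' hb', add_zero] at hv
        have hk : k = 0 := by
          rcases mul_eq_zero.mp hv with h | h
          · exact h
          · exact absurd h hcs
        rw [hk, zpow_zero, one_mul]
        exact hb'

/-- the common kernel of `n` independent integer characters on a central subgroup
generated by `S` is generated by `|S| - n` elements. -/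
theorem exists_gens_iInf_ker (n : ℕ) : ∀ (χ : Fin n → (Γ →* Multiplicative ℤ)) (S : Finset Γ),
    (∀ s ∈ S, s ∈ center Γ) →
    (∀ c : Fin n → ℤ, (∀ b ∈ closure (S : Set Γ), ∑ i, c i * val (χ i) b = 0) → ∀ i, c i = 0) →
    ∃ T : Finset Γ, T.card + n ≤ S.card ∧
      closure (T : Set Γ) = closure (S : Set Γ) ⊓ ⨅ i, (χ i).ker := by
  induction n with
  | zero =>
    intro χ S _ _
    refine ⟨S, le_rfl, ?_⟩
    rw [iInf_of_empty, inf_top_eq]
  | succ n ih =>
    intro χ S hS hind
    -- the last character is nontrivial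
    have hne : ∃ b ∈ closure (S : Set Γ), val (χ (Fin.last n)) b ≠ 0 := by
      by_contra hcon0
      have hcon : ∀ b ∈ closure (S : Set Γ), val (χ (Fin.last n)) b = 0 := by
        intro b hb
        by_contra h
        exact hcon0 ⟨b, hb, h⟩
      have := hind (fun i => if i = Fin.last n then 1 else 0) (by
        intro b hb
        rw [Finset.sum_eq_single (Fin.last n)]
        · simp [hcon b hb]
        · intro i _ hi; simp [hi]
        · intro h; exact absurd (Finset.mem_univ _) h) (Fin.last n)
      simp at this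
    obtain ⟨T₁, hT₁c, hT₁⟩ := exists_gens_ker (χ (Fin.last n)) S hS hne
    have hT₁cen : ∀ s ∈ T₁, s ∈ center Γ := by
      intro s hs
      have h1 : s ∈ closure (T₁ : Set Γ) := subset_closure hs
      rw [hT₁] at h1
      exact ((closure_le _).mpr (fun x hx => hS x hx)) (mem_inf.mp h1).1
    obtain ⟨b₀, hb₀, hd⟩ := hne
    set d := val (χ (Fin.last n)) b₀ with hdd
    have hcenS : closure (S : Set Γ) ≤ center Γ := (closure_le _).mpr (fun x hx => hS x hx)
    have hind' : ∀ c : Fin n → ℤ,
        (∀ b ∈ closure (T₁ : Set Γ), ∑ i, c i * val (χ (Fin.castSucc i)) b = 0) →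
        ∀ i, c i = 0 := by
      intro c hc
      -- λ b := ∑ c i * χ_i b
      have hlin : ∀ b ∈ closure (S : Set Γ),
          d * (∑ i, c i * val (χ (Fin.castSucc i)) b) =
            val (χ (Fin.last n)) b * (∑ i, c i * val (χ (Fin.castSucc i)) b₀) := by
        intro b hb
        have hmem : b ^ d * b₀ ^ (- val (χ (Fin.last n)) b) ∈ closure (T₁ : Set Γ) := by
          rw [hT₁]
          refine mem_inf.mpr ⟨mul_mem (zpow_mem hb _) (zpow_mem hb₀ _), ?_⟩
          rw [← val_eq_zero, val_mul, val_zpow, val_zpow, ← hdd]; ring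
        have h1 := hc _ hmem
        have h2 : ∀ i : Fin n, c i * val (χ (Fin.castSucc i))
            (b ^ d * b₀ ^ (- val (χ (Fin.last n)) b)) =
            d * (c i * val (χ (Fin.castSucc i)) b) -
              val (χ (Fin.last n)) b * (c i * val (χ (Fin.castSucc i)) b₀) := by
          intro i
          rw [val_mul, val_zpow, val_zpow]; ring
        rw [Finset.sum_congr rfl (fun i _ => h2 i), Finset.sum_sub_distrib,
          ← Finset.mul_sum, ← Finset.mul_sum] at h1
        linarith
      set e := ∑ i, c i * val (χ (Fin.castSucc i)) b₀ with he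
      have := hind (fun i => Fin.lastCases (-e) (fun j => d * c j) i) (by
        intro b hb
        rw [Fin.sum_univ_castSucc]
        simp only [Fin.lastCases_last, Fin.lastCases_castSucc]
        have h3 := hlin b hb
        rw [Finset.mul_sum] at h3
        have h4 : ∑ i : Fin n, d * c i * val (χ (Fin.castSucc i)) b =
            ∑ i : Fin n, d * (c i * val (χ (Fin.castSucc i)) b) :=
          Finset.sum_congr rfl (fun i _ => by ring)
        rw [h4, h3]; ring)
      intro i
      have h5 := this (Fin.castSucc i)
      simp only [Fin.lastCases_castSucc] at h5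
      rcases mul_eq_zero.mp h5 with h | h
      · exact absurd h hd
      · exact h
    obtain ⟨T, hTc, hT⟩ := ih (fun i => χ (Fin.castSucc i)) T₁ hT₁cen hind'
    refine ⟨T, by omega, ?_⟩
    rw [hT, hT₁]
    ext x
    simp only [mem_inf, mem_iInf]
    constructor
    · rintro ⟨⟨h1, h2⟩, h3⟩
      refine ⟨h1, ?_⟩
      intro i
      refine Fin.lastCases h2 (fun j => h3 j) i
    · rintro ⟨h1, h2⟩
      exact ⟨⟨h1, h2 _⟩, fun i => h2 _⟩

end Cfsg.Agent.helper20.AbRank
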