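import Cfsg.Agent.S0035
import Cfsg.Agent.S0039
import Cfsg.Agent.S0040
import Cfsg.Agent.S0068
import Cfsg.Agent.S0069
import Cfsg.Agent.Lib_lead_Coprime
import Cfsg.Agent.Lib_lead_SZ
import Cfsg.Agent.Lib_helper23_Hall
import Cfsg.Agent.Lib_helper21_FrobCount

set_option autoImplicit false
set_option linter.style.haveILetI false
set_option linter.deprecated false

universe u

namespace Cfsg.Agent.lead

open Cfsg.Agent.helper7

/-- Basic data of a Frobenius complement: its kernel. -/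
theorem frob_data {G : Type*} [Group G] [Finite G] (H : Subgroup G)
    (hH : Cfsg.IsFrobeniusComplement H) :
    ∃ K : Subgroup G, K.Normal ∧ Subgroup.IsComplement' K H ∧ K ≠ ⊥ ∧
      (∀ h ∈ H, h ≠ 1 → K ⊓ Subgroup.centralizer {h} = ⊥) ∧
      (∀ x, x ∉ K → ∃ g : G, g⁻¹ * x * g ∈ H) ∧ (Nat.card H).Coprime (Nat.card K) := by
  obtain ⟨K, hKset, hKn, hc⟩ := Cfsg.Agent.S0035.result H hH
  haveI := hKn
  have hKne : K ≠ ⊥ := by
    intro h
    have := hc.sup_eq_top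
    rw [h, bot_sup_eq] at this
    exact hH.2.1 this
  have hfpf := (Cfsg.Agent.S0039.result K H hc hKne hH.1).mp hH
  refine ⟨K, hKn, hc, hKne, hfpf, ?_, ?_⟩
  · intro x hx
    have hx' : x ∉ Cfsg.frobeniusKernel H := by
      rw [← hKset]; exact hx
    simp only [Cfsg.frobeniusKernel, Set.mem_setOf_eq, not_or, not_forall, not_not] at hx'
    obtain ⟨-, g, hg⟩ := hx'
    exact ⟨g, (Cfsg.Agent.helper21.frobc_mem_conj H g x).mp hg⟩
  · have hdvd := Cfsg.Agent.helper21.frobc_card_dvd H hH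
    have hidx : H.index = Nat.card K := hc.index_eq_card
    rw [hidx] at hdvd
    have hKpos : 0 < Nat.card K := Nat.card_pos
    have h1 : Nat.gcd (Nat.card H) (Nat.card K) ∣ Nat.card K - (Nat.card K - 1) :=
      Nat.dvd_sub (Nat.gcd_dvd_right _ _) ((Nat.gcd_dvd_left _ _).trans hdvd)
    have h2 : Nat.card K - (Nat.card K - 1) = 1 := by omega
    rw [h2] at h1
    exact Nat.dvd_one.mp h1

/-- A normal subgroup not contained in the Frobenius kernel contains it. -/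
theorem frob_kernel_le {G : Type*} [Group G] [Finite G] (K H K₀ : Subgroup G) [hKn : K.Normal]
    [hK₀n : K₀.Normal]
    (hfpf : ∀ h ∈ H, h ≠ 1 → K ⊓ Subgroup.centralizer {h} = ⊥)
    (hconj : ∀ x, x ∉ K → ∃ g : G, g⁻¹ * x * g ∈ H) (hnle : ¬ K₀ ≤ K) : K ≤ K₀ := by
  obtain ⟨x, hxK₀, hxK⟩ := SetLike.not_le_iff_exists.mp hnle
  obtain ⟨g, hg⟩ := hconj x hxK
  obtain ⟨h, hh⟩ : ∃ h, h = g⁻¹ * x * g := ⟨_, rfl⟩
  rw [← hh] at hg
  have hhK₀ : h ∈ K₀ := by
    have := hK₀n.conj_mem x hxK₀ g⁻¹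
    rw [hh]; simpa using this
  have hh1 : h ≠ 1 := by
    intro h1
    apply hxK
    have : x = 1 := by
      have : x = g * h * g⁻¹ := by rw [hh]; group
      rw [this, h1]; group
    rw [this]; exact K.one_mem
  let φ : K → K := fun k => ⟨(k : G) * h * (k : G)⁻¹ * h⁻¹, by
    have h1 : h * (k : G)⁻¹ * h⁻¹ ∈ K := hKn.conj_mem _ (K.inv_mem k.2) h
    have h2 := K.mul_mem k.2 h1
    have e : (k : G) * h * (k : G)⁻¹ * h⁻¹ = (k : G) * (h * (k : G)⁻¹ * h⁻¹) := by group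
    rw [e]; exact h2⟩
  have hinj : Function.Injective φ := by
    intro a b hab
    have h1 : (a : G) * h * (a : G)⁻¹ * h⁻¹ = (b : G) * h * (b : G)⁻¹ * h⁻¹ :=
      congrArg Subtype.val hab
    have h2 : (a : G) * h * (a : G)⁻¹ = (b : G) * h * (b : G)⁻¹ := mul_right_cancel h1
    have h3 : ((b : G)⁻¹ * a) ∈ K ⊓ Subgroup.centralizer {h} := by
      refine Subgroup.mem_inf.mpr ⟨K.mul_mem (K.inv_mem b.2) a.2, ?_⟩
      rw [Subgroup.mem_centralizer_singleton_iff]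
      calc ((b : G)⁻¹ * a) * h = (b : G)⁻¹ * ((a : G) * h * (a : G)⁻¹) * a := by group
        _ = (b : G)⁻¹ * ((b : G) * h * (b : G)⁻¹) * a := by rw [h2]
        _ = h * ((b : G)⁻¹ * a) := by group
    rw [hfpf h hg hh1, Subgroup.mem_bot] at h3
    apply Subtype.ext
    exact (inv_mul_eq_one.mp h3).symm
  have hsurj := Finite.surjective_of_injective hinj
  intro k hk
  obtain ⟨a, ha⟩ := hsurj ⟨k, hk⟩
  have : (a : G) * h * (a : G)⁻¹ * h⁻¹ = k := congrArg Subtype.val ha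
  rw [← this]
  exact K₀.mul_mem (hK₀n.conj_mem h hhK₀ a) (K₀.inv_mem hhK₀)

/-- In a Frobenius group `K ⋊ H`, a subgroup meeting `K` trivially is `K`-conjugate into `H`
(given solvability of `K` or `H`). -/
theorem frob_conj_into {G : Type u} [Group G] [Finite G] (K H : Subgroup G) [K.Normal]
    (hc : Subgroup.IsComplement' K H) (hcop : (Nat.card H).Coprime (Nat.card K))
    (hsolv : Group.IsSolvable K ∨ Group.IsSolvable H) (U : Subgroup G) (hU : K ⊓ U = ⊥) :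
    ∃ d ∈ K, cj d U ≤ H := by
  set A : Subgroup G := (K ⊔ U) ⊓ H with hA
  have hAH : A ≤ H := inf_le_right
  have hKA : K ⊓ A = ⊥ := by
    rw [eq_bot_iff, ← hc.disjoint.eq_bot]; exact inf_le_inf_left _ hAH
  have hsup : K ⊔ A = K ⊔ U := by
    apply le_antisymm (sup_le le_sup_left inf_le_left)
    intro x hx
    obtain ⟨⟨k, h⟩, hkh⟩ := hc.2 x
    have hkh' : (k : G) * (h : G) = x := hkh
    have hhΓ : (h : G) ∈ K ⊔ U := by
      have : (h : G) = (k : G)⁻¹ * x := by rw [← hkh']; group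
      rw [this]
      exact (K ⊔ U).mul_mem ((K ⊔ U).inv_mem (le_sup_left (a := K) k.2)) hx
    rw [← hkh']
    exact (K ⊔ A).mul_mem (le_sup_left (a := K) k.2) (le_sup_right (b := A) ⟨hhΓ, h.2⟩)
  have hcard : Nat.card U = Nat.card A := by
    have h1 := Cfsg.Agent.helper23.card_sup_mul_card_inf U K
    have h2 := Cfsg.Agent.helper23.card_sup_mul_card_inf A K
    rw [hU, Subgroup.card_bot, mul_one, sup_comm] at h1
    rw [hKA, Subgroup.card_bot, mul_one, sup_comm, hsup, h1] at h2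
    exact Nat.eq_of_mul_eq_mul_right Nat.card_pos h2
  have hAK : A ≤ Subgroup.normalizer (K : Set G) := by
    rw [Subgroup.normalizer_eq_top]; exact le_top
  have hcopA : (Nat.card A).Coprime (Nat.card K) :=
    hcop.coprime_dvd_left (Subgroup.card_dvd_of_le hAH)
  have hsolv' : Group.IsSolvable A ∨ Group.IsSolvable K := by
    rcases hsolv with h | h
    · exact Or.inr h
    · exact Or.inl (solvable_of_le hAH h)
  obtain ⟨d, hd, hdU⟩ := sz_conj_semidirect A K hAK hcopA hsolv' U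
    (by rw [hsup]; exact le_sup_right) hcard
  exact ⟨d, hd, hdU.le.trans hAH⟩

/-- An odd-order Frobenius complement is a Z-group. -/
theorem frob_isZGroup {G : Type*} [Group G] [Finite G] (K H : Subgroup G) [K.Normal]
    (hc : Subgroup.IsComplement' K H) (hK : K ≠ ⊥)
    (hfpf : ∀ h ∈ H, h ≠ 1 → K ⊓ Subgroup.centralizer {h} = ⊥) (hodd : ¬ 2 ∣ Nat.card H) :
    IsZGroup H := by
  refine ⟨fun p hp P => ?_⟩
  haveI : Fact p.Prime := ⟨hp⟩
  rcases Cfsg.Agent.S0040.result K H hc hK hfpf p P with h | ⟨n, ⟨e⟩⟩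
  · exact h
  · exfalso
    apply hodd
    have h1 : Nat.card (P : Subgroup H) = 4 * 2 ^ n := by
      rw [Nat.card_congr e.toEquiv, Nat.card_eq_fintype_card, QuaternionGroup.card]
    have h2 : Nat.card (P : Subgroup H) ∣ Nat.card H := Subgroup.card_subgroup_dvd_card _
    rw [h1] at h2
    exact (Dvd.intro _ (by ring : 2 * (2 * 2 ^ n) = 4 * 2 ^ n)).trans h2

theorem frob_solvable {G : Type*} [Group G] [Finite G] (K H : Subgroup G) [K.Normal]
    (hc : Subgroup.IsComplement' K H) (hK : K ≠ ⊥)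
    (hfpf : ∀ h ∈ H, h ≠ 1 → K ⊓ Subgroup.centralizer {h} = ⊥) :
    Group.IsSolvable K ∨ Group.IsSolvable H := by
  by_cases heven : 2 ∣ Nat.card H
  · left
    obtain ⟨-, hcomm⟩ := Cfsg.Agent.S0068.result K H hc hK hfpf heven
    exact Group.isSolvable_of_comm (fun a b => hcomm.is_comm.comm a b)
  · right
    haveI := frob_isZGroup K H hc hK hfpf heven
    infer_instance

/-- Main lemma: for Frobenius complements `H₀`, `H` with `|H₀| ≤ |H|`, the kernel `K` of `H` lies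
in the kernel `K₀` of `H₀`, and `H₀` is `K`-conjugate into `H`. -/
theorem frob_main {G : Type u} [Group G] [Finite G] (H H₀ : Subgroup G)
    (K K₀ : Subgroup G) [K.Normal] [K₀.Normal]
    (hc : Subgroup.IsComplement' K H) (hK : K ≠ ⊥)
    (hfpf : ∀ h ∈ H, h ≠ 1 → K ⊓ Subgroup.centralizer {h} = ⊥)
    (hcop : (Nat.card H).Coprime (Nat.card K))
    (hc₀ : Subgroup.IsComplement' K₀ H₀)
    (hfpf₀ : ∀ h ∈ H₀, h ≠ 1 → K₀ ⊓ Subgroup.centralizer {h} = ⊥)
    (hconj₀ : ∀ x, x ∉ K₀ → ∃ g : G, g⁻¹ * x * g ∈ H₀)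
    (hle : Nat.card H₀ ≤ Nat.card H) :
    K ≤ K₀ ∧ ∃ d ∈ K, cj d H₀ ≤ H := by
  have hKK₀ : K ≤ K₀ := by
    by_contra hn
    have h1 : K₀ ≤ K := frob_kernel_le K₀ H₀ K hfpf₀ hconj₀ hn
    have e1 : Nat.card K * Nat.card H = Nat.card G := hc.card_mul
    have e2 : Nat.card K₀ * Nat.card H₀ = Nat.card G := hc₀.card_mul
    have h2 : Nat.card K ≤ Nat.card K₀ := by
      by_contra hlt
      push Not at hlt
      have hpos : 0 < Nat.card H₀ := Nat.card_pos
      have : Nat.card K₀ * Nat.card H₀ < Nat.card K * Nat.card H :=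
        calc Nat.card K₀ * Nat.card H₀ < Nat.card K * Nat.card H₀ :=
              Nat.mul_lt_mul_of_pos_right hlt hpos
          _ ≤ Nat.card K * Nat.card H := Nat.mul_le_mul_left _ hle
      omega
    have h3 : K₀ = K := Subgroup.eq_of_le_of_card_ge h1 h2
    exact hn h3.ge
  refine ⟨hKK₀, ?_⟩
  have hU : K ⊓ H₀ = ⊥ := by
    rw [eq_bot_iff, ← hc₀.disjoint.eq_bot]; exact inf_le_inf_right _ hKK₀
  exact frob_conj_into K H hc hcop (frob_solvable K H hc hK hfpf) H₀ hU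

/-- If `H₀` is conjugate into `H` (both Frobenius complements, `K ≤ K₀`), then `|H₀| = |H|`. -/
theorem frob_card_eq {G : Type u} [Group G] [Finite G] (H H₀ : Subgroup G)
    (K K₀ : Subgroup G) [hKn : K.Normal] [hK₀n : K₀.Normal]
    (hc : Subgroup.IsComplement' K H) (hK : K ≠ ⊥) (hHne : H ≠ ⊥)
    (hfpf : ∀ h ∈ H, h ≠ 1 → K ⊓ Subgroup.centralizer {h} = ⊥)
    (hc₀ : Subgroup.IsComplement' K₀ H₀) (hH₀ne : H₀ ≠ ⊥)
    (hfpf₀ : ∀ h ∈ H₀, h ≠ 1 → K₀ ⊓ Subgroup.centralizer {h} = ⊥)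
    (hconj₀ : ∀ x, x ∉ K₀ → ∃ g : G, g⁻¹ * x * g ∈ H₀)
    (hKK₀ : K ≤ K₀) (d : G) (hd : cj d H₀ ≤ H) : Nat.card H₀ = Nat.card H := by
  have hM : K₀ ⊓ H = ⊥ := by
    by_contra hM
    obtain ⟨⟨m, hmM⟩, hm1⟩ := (Subgroup.ne_bot_iff_exists_ne_one).mp hM
    have hm1' : m ≠ 1 := fun h => hm1 (Subtype.ext h)
    have hZ := Cfsg.Agent.S0069.result K H hc hK hHne hfpf
    obtain ⟨⟨⟨z, hzH⟩, hzc⟩, hz1⟩ := (Subgroup.ne_bot_iff_exists_ne_one).mp hZ
    have hz1'' : z ≠ 1 := fun h => hz1 (Subtype.ext (Subtype.ext h))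
    have hzcomm : ∀ y ∈ H, y * z = z * y := by
      intro y hy
      have := Subgroup.mem_center_iff.mp hzc ⟨y, hy⟩
      exact congrArg Subtype.val this
    by_cases hzK₀ : z ∈ K₀
    · obtain ⟨⟨h₀, hh₀H⟩, hh₀1⟩ := (Subgroup.ne_bot_iff_exists_ne_one).mp hH₀ne
      have hh₀1' : h₀ ≠ 1 := fun h => hh₀1 (Subtype.ext h)
      have h1 : d * h₀ * d⁻¹ ∈ H := by
        apply hd
        rw [mem_cj]
        have : d⁻¹ * (d * h₀ * d⁻¹) * d = h₀ := by group
        rw [this]; exact hh₀H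
      have h2 := hzcomm _ h1
      have h3 : d⁻¹ * z * d ∈ K₀ ⊓ Subgroup.centralizer {h₀} := by
        refine Subgroup.mem_inf.mpr ⟨by have := hK₀n.conj_mem z hzK₀ d⁻¹; simpa using this, ?_⟩
        rw [Subgroup.mem_centralizer_singleton_iff]
        calc d⁻¹ * z * d * h₀ = d⁻¹ * (z * (d * h₀ * d⁻¹)) * d := by group
          _ = d⁻¹ * ((d * h₀ * d⁻¹) * z) * d := by rw [h2]
          _ = h₀ * (d⁻¹ * z * d) := by group
      rw [hfpf₀ h₀ hh₀H hh₀1', Subgroup.mem_bot] at h3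
      apply hz1''
      have : z = d * (d⁻¹ * z * d) * d⁻¹ := by group
      rw [this, h3]; group
    · obtain ⟨g, hg⟩ := hconj₀ z hzK₀
      have hz'1 : g⁻¹ * z * g ≠ 1 := by
        intro h
        apply hz1''
        have : z = g * (g⁻¹ * z * g) * g⁻¹ := by group
        rw [this, h]; group
      have h2 := hzcomm m hmM.2
      have h3 : g⁻¹ * m * g ∈ K₀ ⊓ Subgroup.centralizer {g⁻¹ * z * g} := by
        refine Subgroup.mem_inf.mpr ⟨by have := hK₀n.conj_mem m hmM.1 g⁻¹; simpa using this, ?_⟩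
        rw [Subgroup.mem_centralizer_singleton_iff]
        calc g⁻¹ * m * g * (g⁻¹ * z * g) = g⁻¹ * (m * z) * g := by group
          _ = g⁻¹ * (z * m) * g := by rw [h2]
          _ = g⁻¹ * z * g * (g⁻¹ * m * g) := by group
      rw [hfpf₀ _ hg hz'1, Subgroup.mem_bot] at h3
      apply hm1'
      have : m = g * (g⁻¹ * m * g) * g⁻¹ := by group
      rw [this, h3]; group
  have hK₀K : K₀ ≤ K := by
    intro x hx
    obtain ⟨⟨k, h⟩, hkh⟩ := hc.2 x
    have hkh' : (k : G) * (h : G) = x := hkh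
    have hh : (h : G) ∈ K₀ ⊓ H := by
      refine ⟨?_, h.2⟩
      have : (h : G) = (k : G)⁻¹ * x := by rw [← hkh']; group
      rw [this]
      exact K₀.mul_mem (K₀.inv_mem (hKK₀ k.2)) hx
    rw [hM, Subgroup.mem_bot] at hh
    rw [← hkh', hh, mul_one]
    exact k.2
  have hKeq : K₀ = K := le_antisymm hK₀K hKK₀
  have e1 : Nat.card K * Nat.card H = Nat.card G := hc.card_mul
  have e2 : Nat.card K₀ * Nat.card H₀ = Nat.card G := hc₀.card_mul
  rw [hKeq, ← e1] at e2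
  exact Nat.eq_of_mul_eq_mul_left Nat.card_pos e2

end Cfsg.Agent.lead
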