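import Cfsg.Statements.S0042
import Cfsg.Agent.Lib_helper23_FpfPrime4
import Cfsg.Agent.Lib_helper1_FrobThm

set_option autoImplicit false
open Cfsg

namespace Cfsg.Agent.S0042

open scoped Pointwise

/-- In a finite Frobenius group, the Frobenius kernel is (the carrier of) a normal subgroup which is nilpotent. -/
theorem result {G : Type*} [Group G] [Finite G] (H : Subgroup G) (hH : Cfsg.IsFrobeniusComplement H) :
    ∃ N : Subgroup G, (N : Set G) = Cfsg.frobeniusKernel H ∧ N.Normal ∧ Group.IsNilpotent N := by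
  classical
  obtain ⟨hHbot, hHtop, hHTI⟩ := hH
  have hTI : ∀ g : G, g ∉ H → ∀ t ∈ H, g * t * g⁻¹ ∈ H → t = 1 := by
    intro g hg t ht hgt
    have h1 : g * t * g⁻¹ ∈ MulAut.conj g • H := by
      have := Subgroup.smul_mem_pointwise_smul t (MulAut.conj g) H ht
      rwa [MulAut.smul_def, MulAut.conj_apply] at this
    have h2 : g * t * g⁻¹ ∈ H ⊓ (MulAut.conj g • H) := Subgroup.mem_inf.mpr ⟨hgt, h1⟩
    rw [hHTI g hg, Subgroup.mem_bot] at h2
    have h3 : t = g⁻¹ * (g * t * g⁻¹) * g := by group
    rw [h3, h2, mul_one, inv_mul_cancel]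
  obtain ⟨N, hNn, hNH, hNmem⟩ := Cfsg.Agent.helper1.frobenius_kernel_exists H hTI
  haveI := hNn
  refine ⟨N, ?_, hNn, ?_⟩
  · ext x
    rw [SetLike.mem_coe, hNmem x]
    show _ ↔ (x = 1 ∨ ∀ g : G, x ∉ MulAut.conj g • H)
    have e : ∀ g : G, (x ∈ MulAut.conj g • H ↔ g⁻¹ * x * g ∈ H) := by
      intro g
      rw [Subgroup.mem_pointwise_smul_iff_inv_smul_mem, MulAut.smul_def, ← map_inv,
        MulAut.conj_apply, inv_inv]
    constructor
    · rintro (h | h)
      · exact Or.inl h
      · exact Or.inr (fun g => by rw [e g]; exact h g)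
    · rintro (h | h)
      · exact Or.inl h
      · exact Or.inr (fun g => by rw [← e g]; exact h g)
  · -- an element of prime order in H
    have hcH : Nat.card H ≠ 1 := fun h => hHbot (Subgroup.card_eq_one.mp h)
    obtain ⟨r, hr, hrd⟩ := Nat.exists_prime_and_dvd hcH
    haveI : Fact r.Prime := ⟨hr⟩
    obtain ⟨h, hh⟩ := exists_prime_orderOf_dvd_card' (G := H) r hrd
    have hh0 : orderOf (h : G) = r := by rw [Subgroup.orderOf_coe]; exact hh
    have hh1 : (h : G) ≠ 1 := by
      intro h1
      rw [h1, orderOf_one] at hh0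
      exact hr.one_lt.ne hh0
    have hinv : ∀ u ∈ N, (MulAut.conj (h : G)) u ∈ N := by
      intro u hu
      rw [MulAut.conj_apply]
      exact hNn.conj_mem u hu _
    have hpow : (MulAut.conj (h : G)) ^ r = 1 := by
      rw [← map_pow, ← hh0, pow_orderOf_eq_one, map_one]
    have hf : ∀ g : G, (MulAut.conj (h : G)) g = g → g ∈ N → g = 1 := by
      intro g hg hgN
      by_contra hg1
      have hgH : g ∉ H := by
        intro hgH
        have : g ∈ N ⊓ H := Subgroup.mem_inf.mpr ⟨hgN, hgH⟩
        rw [hNH, Subgroup.mem_bot] at this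
        exact hg1 this
      rw [MulAut.conj_apply] at hg
      have h2 : g * (h : G) * g⁻¹ = (h : G) := by
        have h3 : (h : G) * g = g * (h : G) := by
          calc (h : G) * g = ((h : G) * g * (h : G)⁻¹) * (h : G) := by group
            _ = g * (h : G) := by rw [hg]
        rw [← h3, mul_inv_cancel_right]
      exact hh1 (hTI g hgH (h : G) h.2 (by rw [h2]; exact h.2))
    apply Cfsg.Agent.helper23.fpf_prime_nilpotent
      (Cfsg.Agent.helper23.resAut (MulAut.conj (h : G)) N hinv) ?_ r hr
      (Cfsg.Agent.helper23.resAut_pow_eq_one _ N hinv r hpow)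
    intro u hu
    apply Subtype.ext
    apply hf (u : G) ?_ u.2
    have := congrArg Subtype.val hu
    rwa [Cfsg.Agent.helper23.resAut_apply] at this

end Cfsg.Agent.S0042
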