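import Mathlib
import Cfsg.Agent.Lib_lead_FrobConj
import Cfsg.Agent.S0042

set_option autoImplicit false
set_option linter.style.haveILetI false

/-! Frobenius pairs (kernel, complement), nilpotent groups and a fixed point lemma, towards the
structure of 2-Frobenius groups. -/

namespace Cfsg.Agent.helper20.Frob2

open Cfsg

/-- a Frobenius group given by its kernel `N` and a complement `C`. -/
structure FrobPair {X : Type*} [Group X] (N C : Subgroup X) : Prop where
  normal : N.Normal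
  compl : N.IsComplement' C
  N_ne : N ≠ ⊥
  C_ne : C ≠ ⊥
  fpf : ∀ h ∈ C, h ≠ 1 → N ⊓ Subgroup.centralizer {h} = ⊥
  conj : ∀ x, x ∉ N → ∃ g : X, g⁻¹ * x * g ∈ C
  cop : (Nat.card C).Coprime (Nat.card N)
  nil : Group.IsNilpotent N

section Basic

variable {X : Type*} [Group X] [Finite X]

theorem frobPair_of_kernel (C N : Subgroup X) (hC : Cfsg.IsFrobeniusComplement C)
    (hN : Cfsg.frobeniusKernel C = (N : Set X)) : FrobPair N C := by
  obtain ⟨N', hN'set, hN'n, hc⟩ := Cfsg.Agent.S0035.result C hC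
  have hNN' : N' = N := SetLike.coe_injective (hN'set.trans hN)
  subst hNN'
  haveI := hN'n
  have hKne : N' ≠ ⊥ := by
    intro h
    have := hc.sup_eq_top
    rw [h, bot_sup_eq] at this
    exact hC.2.1 this
  have hfpf := (Cfsg.Agent.S0039.result N' C hc hKne hC.1).mp hC
  obtain ⟨N'', hN''set, -, hnil⟩ := Cfsg.Agent.S0042.result C hC
  have hNN'' : N'' = N' := SetLike.coe_injective (hN''set.trans hN'set.symm)
  subst hNN''
  refine ⟨hN'n, hc, hKne, hC.1, hfpf, ?_, ?_, hnil⟩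
  · intro x hx
    have hx' : x ∉ Cfsg.frobeniusKernel C := by
      rw [← hN'set]; exact hx
    simp only [Cfsg.frobeniusKernel, Set.mem_ofPred_eq, not_or, not_forall, not_not] at hx'
    obtain ⟨-, g, hg⟩ := hx'
    exact ⟨g, (Cfsg.Agent.helper21.frobc_mem_conj C g x).mp hg⟩
  · have hdvd := Cfsg.Agent.helper21.frobc_card_dvd C hC
    have hidx : C.index = Nat.card N'' := hc.index_eq_card
    rw [hidx] at hdvd
    have hKpos : 0 < Nat.card N'' := Nat.card_pos
    have h1 : Nat.gcd (Nat.card C) (Nat.card N'') ∣ Nat.card N'' - (Nat.card N'' - 1) :=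
      Nat.dvd_sub (Nat.gcd_dvd_right _ _) ((Nat.gcd_dvd_left _ _).trans hdvd)
    have h2 : Nat.card N'' - (Nat.card N'' - 1) = 1 := by omega
    rw [h2] at h1
    exact Nat.dvd_one.mp h1

/-- an element outside the kernel commutes with no non-identity element of the kernel. -/
theorem FrobPair.no_commute {N C : Subgroup X} (h : FrobPair N C) (x : X) (hx : x ∉ N) (n : X)
    (hn : n ∈ N) (hcomm : n * x = x * n) : n = 1 := by
  haveI := h.normal
  obtain ⟨g, hg⟩ := h.conj x hx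
  have hc1 : g⁻¹ * x * g ≠ 1 := by
    intro h1
    apply hx
    have : x = g * (g⁻¹ * x * g) * g⁻¹ := by group
    rw [this, h1, mul_one, mul_inv_cancel]
    exact one_mem _
  have hn' : g⁻¹ * n * g ∈ N := by
    have := h.normal.conj_mem n hn g⁻¹
    rwa [inv_inv] at this
  have hcomm' : g⁻¹ * n * g * (g⁻¹ * x * g) = g⁻¹ * x * g * (g⁻¹ * n * g) := by
    calc g⁻¹ * n * g * (g⁻¹ * x * g) = g⁻¹ * (n * x) * g := by group
      _ = g⁻¹ * (x * n) * g := by rw [hcomm]
      _ = _ := by group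
  have h2 : g⁻¹ * n * g ∈ N ⊓ Subgroup.centralizer {g⁻¹ * x * g} :=
    Subgroup.mem_inf.mpr ⟨hn', Subgroup.mem_centralizer_singleton_iff.mpr hcomm'⟩
  rw [h.fpf _ hg hc1, Subgroup.mem_bot] at h2
  have : n = g * (g⁻¹ * n * g) * g⁻¹ := by group
  rw [this, h2, mul_one, mul_inv_cancel]

theorem FrobPair.exists_mul {N C : Subgroup X} (h : FrobPair N C) (x : X) :
    ∃ n ∈ N, ∃ c ∈ C, x = n * c := by
  obtain ⟨⟨⟨n, hn⟩, ⟨c, hc⟩⟩, hnc⟩ := h.compl.2 x
  exact ⟨n, hn, c, hc, hnc.symm⟩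

theorem FrobPair.inf_eq_bot {N C : Subgroup X} (h : FrobPair N C) : N ⊓ C = ⊥ :=
  h.compl.disjoint.eq_bot

end Basic

section Nilp

variable {X : Type*} [Group X] [Finite X]

theorem sylow_normal_of_nilpotent [hX : Group.IsNilpotent X] (r : ℕ) [Fact r.Prime]
    (R : Sylow r X) : (R : Subgroup X).Normal := by
  have h : Group.IsNilpotent X ↔ ∀ (p : ℕ), Fact (Nat.Prime p) → ∀ (P : Sylow p X),
      (P : Subgroup X).Normal := (Group.isNilpotent_of_finite_tfae (G := X)).out 0 3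
  exact h.mp hX r inferInstance R

/-- a nilpotent group has elements of order `p * q`. -/
theorem exists_orderOf_mul_of_nilpotent [hX : Group.IsNilpotent X] (p q : ℕ) (hp : p.Prime)
    (hq : q.Prime) (hpq : p ≠ q) (hpX : p ∣ Nat.card X) (hqX : q ∣ Nat.card X) :
    ∃ x : X, orderOf x = p * q := by
  haveI : Fact p.Prime := ⟨hp⟩
  haveI : Fact q.Prime := ⟨hq⟩
  obtain ⟨x, hx⟩ := exists_prime_orderOf_dvd_card' p hpX
  obtain ⟨y, hy⟩ := exists_prime_orderOf_dvd_card' q hqX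
  have hPx : IsPGroup p (Subgroup.zpowers x) :=
    IsPGroup.of_card (n := 1) (by rw [Nat.card_zpowers, hx, pow_one])
  have hQy : IsPGroup q (Subgroup.zpowers y) :=
    IsPGroup.of_card (n := 1) (by rw [Nat.card_zpowers, hy, pow_one])
  obtain ⟨P, hP⟩ := hPx.exists_le_sylow
  obtain ⟨Q, hQ⟩ := hQy.exists_le_sylow
  have hcomm : Commute x y :=
    Subgroup.commute_of_normal_of_disjoint (P : Subgroup X) (Q : Subgroup X)
      (sylow_normal_of_nilpotent p P) (sylow_normal_of_nilpotent q Q)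
      (IsPGroup.disjoint_of_ne p q hpq _ _ P.isPGroup' Q.isPGroup') x y
      (hP (Subgroup.mem_zpowers x)) (hQ (Subgroup.mem_zpowers y))
  refine ⟨x * y, ?_⟩
  rw [hcomm.orderOf_mul_eq_mul_orderOf_of_coprime (by
    rw [hx, hy]; exact (Nat.coprime_primes hp hq).mpr hpq), hx, hy]

/-- the centre of a nilpotent group has an element of order `p` for each prime divisor. -/
theorem exists_center_orderOf_prime [hX : Group.IsNilpotent X] (p : ℕ) (hp : p.Prime)
    (hpX : p ∣ Nat.card X) : ∃ z ∈ Subgroup.center X, orderOf z = p := by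
  haveI : Fact p.Prime := ⟨hp⟩
  let P : Sylow p X := default
  have hcardP : Nat.card (P : Subgroup X) = p ^ (Nat.card X).factorization p :=
    P.card_eq_multiplicity
  have hXpos : Nat.card X ≠ 0 := Nat.card_pos.ne'
  have hfac : 1 ≤ (Nat.card X).factorization p :=
    (hp.dvd_iff_one_le_factorization hXpos).mp hpX
  haveI : Nontrivial (P : Subgroup X) := by
    rw [← Finite.one_lt_card_iff_nontrivial, hcardP]
    exact Nat.one_lt_pow (by omega) hp.one_lt
  haveI := IsPGroup.center_nontrivial (P.isPGroup')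
  have hpc : p ∣ Nat.card (Subgroup.center (P : Subgroup X)) := by
    have hZp : IsPGroup p (Subgroup.center (P : Subgroup X)) :=
      (P.isPGroup').to_subgroup _
    obtain ⟨n, hn⟩ := IsPGroup.iff_card.mp hZp
    have h1 : 1 < Nat.card (Subgroup.center (P : Subgroup X)) := Finite.one_lt_card
    rw [hn] at h1 ⊢
    have hn0 : n ≠ 0 := by
      rintro rfl
      simp at h1
    exact dvd_pow_self p hn0
  obtain ⟨z₁, hz₁⟩ := exists_prime_orderOf_dvd_card' p hpc
  have hz : orderOf (((z₁ : (P : Subgroup X)) : X)) = p := by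
    rw [Subgroup.orderOf_coe, Subgroup.orderOf_coe, hz₁]
  refine ⟨((z₁ : (P : Subgroup X)) : X), ?_, hz⟩
  -- the centraliser of `z` contains every Sylow subgroup
  have hle : ∀ (r : ℕ) [Fact r.Prime], ((default : Sylow r X) : Subgroup X) ≤
      Subgroup.centralizer {((z₁ : (P : Subgroup X)) : X)} := by
    intro r hr g hg
    rw [Subgroup.mem_centralizer_singleton_iff]
    by_cases hrp : r = p
    · subst hrp
      have hgP : g ∈ (P : Subgroup X) := by
        convert hg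
      have h1 := Subgroup.mem_center_iff.mp z₁.2 ⟨g, hgP⟩
      have h2 := congrArg (fun t : (P : Subgroup X) => (t : X)) h1
      exact h2
    · have hcomm : Commute g ((z₁ : (P : Subgroup X)) : X) :=
        Subgroup.commute_of_normal_of_disjoint ((default : Sylow r X) : Subgroup X)
          (P : Subgroup X) (sylow_normal_of_nilpotent r _) (sylow_normal_of_nilpotent p P)
          (IsPGroup.disjoint_of_ne r p hrp _ _ (Sylow.isPGroup' _) P.isPGroup') g _ hg
          (z₁ : (P : Subgroup X)).2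
      exact hcomm.eq
  have hdvd : Nat.card X ∣ Nat.card (Subgroup.centralizer {((z₁ : (P : Subgroup X)) : X)}) := by
    rw [← Nat.factorization_le_iff_dvd hXpos Nat.card_pos.ne']
    intro r
    by_cases hr : r.Prime
    · haveI : Fact r.Prime := ⟨hr⟩
      have h1 := Subgroup.card_dvd_of_le (hle r)
      rw [Sylow.card_eq_multiplicity] at h1
      exact (hr.pow_dvd_iff_le_factorization Nat.card_pos.ne').mp h1
    · rw [Nat.factorization_eq_zero_of_not_prime _ hr]
      exact Nat.zero_le _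
  have htop : Subgroup.centralizer {((z₁ : (P : Subgroup X)) : X)} = ⊤ :=
    Subgroup.eq_top_of_card_eq _ (Nat.dvd_antisymm (Subgroup.card_subgroup_dvd_card _) hdvd)
  rw [Subgroup.mem_center_iff]
  intro g
  have hg : g ∈ Subgroup.centralizer {((z₁ : (P : Subgroup X)) : X)} := by
    rw [htop]; exact Subgroup.mem_top g
  exact (Subgroup.mem_centralizer_singleton_iff.mp hg)

end Nilp

section FixedPoint

/-- If a Frobenius-like group `N ⋊ A` acts on a non-trivial abelian group `V` of order coprime to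
`|N|` so that some element of `N` has no non-trivial fixed point, then `A` has a non-trivial
fixed point. -/
theorem exists_fixed_of_frobenius {Γ : Type*} [Group Γ] [Finite Γ] {V : Type*} [CommGroup V]
    [Nontrivial V] (ρ : Γ →* MulAut V) (N A : Subgroup Γ) [hNn : N.Normal]
    (hfpf : ∀ a ∈ A, a ≠ 1 → ∀ n ∈ N, n * a = a * n → n = 1)
    (hN : ∃ n ∈ N, ∀ v : V, ρ n v = v → v = 1)
    (hcop : ∀ v : V, v ^ Nat.card N = 1 → v = 1) :
    ∃ v : V, v ≠ 1 ∧ ∀ a ∈ A, ρ a v = v := by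
  classical
  by_contra hcon
  push Not at hcon
  have h0 : ∀ v : V, (∀ a ∈ A, ρ a v = v) → v = 1 := by
    intro v hv
    by_contra hv1
    obtain ⟨a, ha, hav⟩ := hcon v hv1
    exact hav (hv a ha)
  haveI : Fintype N := Fintype.ofFinite N
  haveI : Fintype A := Fintype.ofFinite A
  have hρmul : ∀ (g h : Γ) (v : V), ρ (g * h) v = ρ g (ρ h v) := by
    intro g h v
    rw [map_mul]; rfl
  -- products over `N` are trivial
  have c1 : ∀ w : V, ∏ n : N, ρ (n : Γ) w = 1 := by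
    intro w
    obtain ⟨n₀, hn₀, hn₀v⟩ := hN
    apply hn₀v
    rw [map_prod]
    have : ∀ n : N, ρ n₀ (ρ (n : Γ) w) = ρ (((⟨n₀, hn₀⟩ : N) * n : N) : Γ) w := by
      intro n
      rw [Subgroup.coe_mul, hρmul]
    simp_rw [this]
    exact Fintype.prod_equiv (Equiv.mulLeft (⟨n₀, hn₀⟩ : N)) _ _ (fun n => rfl)
  -- products over `A` are trivial
  have c2 : ∀ w : V, ∏ a : A, ρ (a : Γ) w = 1 := by
    intro w
    apply h0
    intro a₀ ha₀
    rw [map_prod]
    have : ∀ a : A, ρ a₀ (ρ (a : Γ) w) = ρ (((⟨a₀, ha₀⟩ : A) * a : A) : Γ) w := by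
      intro a
      rw [Subgroup.coe_mul, hρmul]
    simp_rw [this]
    exact Fintype.prod_equiv (Equiv.mulLeft (⟨a₀, ha₀⟩ : A)) _ _ (fun a => rfl)
  have c3 : ∀ (k : N) (v : V), ∏ a : A, ρ ((k : Γ) * (a : Γ) * (k : Γ)⁻¹) v = 1 := by
    intro k v
    have : ∀ a : A, ρ ((k : Γ) * (a : Γ) * (k : Γ)⁻¹) v =
        ρ (k : Γ) (ρ (a : Γ) (ρ ((k : Γ)⁻¹) v)) := by
      intro a
      rw [hρmul, hρmul]
    simp_rw [this]
    rw [← map_prod, c2, map_one]
  obtain ⟨v, hv⟩ := exists_ne (1 : V)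
  apply hv
  apply hcop
  have h1 : ∏ k : N, ∏ a : A, ρ ((k : Γ) * (a : Γ) * (k : Γ)⁻¹) v = 1 := by
    apply Finset.prod_eq_one
    intro k _
    exact c3 k v
  rw [Finset.prod_comm] at h1
  have h2 : ∀ a : A, a ≠ 1 → ∏ k : N, ρ ((k : Γ) * (a : Γ) * (k : Γ)⁻¹) v = 1 := by
    intro a ha
    have ha' : (a : Γ) ≠ 1 := fun h => ha (Subtype.ext h)
    let β : N → N := fun k => ⟨(k : Γ) * (a : Γ) * (k : Γ)⁻¹ * (a : Γ)⁻¹, by
      have h3 : (a : Γ) * (k : Γ)⁻¹ * (a : Γ)⁻¹ ∈ N :=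
        hNn.conj_mem _ (N.inv_mem k.2) (a : Γ)
      have h4 := N.mul_mem k.2 h3
      have h5 : (k : Γ) * ((a : Γ) * (k : Γ)⁻¹ * (a : Γ)⁻¹) =
          (k : Γ) * (a : Γ) * (k : Γ)⁻¹ * (a : Γ)⁻¹ := by group
      rw [h5] at h4
      exact h4⟩
    have hβinj : Function.Injective β := by
      intro k₁ k₂ h12
      have h3 : (k₁ : Γ) * (a : Γ) * (k₁ : Γ)⁻¹ * (a : Γ)⁻¹ =
          (k₂ : Γ) * (a : Γ) * (k₂ : Γ)⁻¹ * (a : Γ)⁻¹ := congrArg Subtype.val h12
      have h4 : (k₁ : Γ) * (a : Γ) * (k₁ : Γ)⁻¹ = (k₂ : Γ) * (a : Γ) * (k₂ : Γ)⁻¹ :=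
        mul_right_cancel h3
      have h5 : (k₂ : Γ)⁻¹ * (k₁ : Γ) * (a : Γ) = (a : Γ) * ((k₂ : Γ)⁻¹ * (k₁ : Γ)) := by
        calc (k₂ : Γ)⁻¹ * (k₁ : Γ) * (a : Γ)
            = (k₂ : Γ)⁻¹ * ((k₁ : Γ) * (a : Γ) * (k₁ : Γ)⁻¹) * (k₁ : Γ) := by group
          _ = (k₂ : Γ)⁻¹ * ((k₂ : Γ) * (a : Γ) * (k₂ : Γ)⁻¹) * (k₁ : Γ) := by rw [h4]
          _ = _ := by group
      have h6 := hfpf (a : Γ) a.2 ha' ((k₂ : Γ)⁻¹ * (k₁ : Γ))
        (N.mul_mem (N.inv_mem k₂.2) k₁.2) h5
      apply Subtype.ext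
      have : (k₁ : Γ) = (k₂ : Γ) * ((k₂ : Γ)⁻¹ * (k₁ : Γ)) := by group
      rw [this, h6, mul_one]
    have hβbij : Function.Bijective β := Finite.injective_iff_bijective.mp hβinj
    rw [Fintype.prod_bijective β hβbij (fun k : N => ρ ((k : Γ) * (a : Γ) * (k : Γ)⁻¹) v)
      (fun k' : N => ρ (k' : Γ) (ρ (a : Γ) v)) (by
        intro k
        rw [← hρmul]
        have h7 : (k : Γ) * (a : Γ) * (k : Γ)⁻¹ = ((β k : N) : Γ) * (a : Γ) := by
          show (k : Γ) * (a : Γ) * (k : Γ)⁻¹ =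
            (k : Γ) * (a : Γ) * (k : Γ)⁻¹ * (a : Γ)⁻¹ * (a : Γ)
          group
        rw [h7])]
    exact c1 _
  rw [Fintype.prod_eq_single (1 : A) h2] at h1
  have h3 : ∀ k : N, ρ ((k : Γ) * ((1 : A) : Γ) * (k : Γ)⁻¹) v = v := by
    intro k
    rw [Subgroup.coe_one, mul_one, mul_inv_cancel, map_one]; rfl
  simp_rw [h3] at h1
  rw [Finset.prod_const, Finset.card_univ, ← Nat.card_eq_fintype_card] at h1
  exact h1

end FixedPoint

end Cfsg.Agent.helper20.Frob2
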