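import Mathlib
import Cfsg.Agent.Lib_helper20_Higman
import Cfsg.Agent.Lib_helper20_Frob2a

set_option autoImplicit false
set_option linter.style.haveILetI false
set_option linter.unusedSectionVars false

/-! Groups in which every element has prime power order (CP-groups): non-solvable case. -/

namespace Cfsg.Agent.helper20.CP

open Cfsg

universe u

/-- every non-identity element has prime power order. -/
def IsCP (G : Type*) [Group G] : Prop := ∀ g : G, g ≠ 1 → IsPrimePow (orderOf g)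

theorem not_isPrimePow_of_two_primes {n p q : ℕ} (hp : p.Prime) (hq : q.Prime) (hpq : p ≠ q)
    (hpn : p ∣ n) (hqn : q ∣ n) : ¬ IsPrimePow n := by
  intro h
  obtain ⟨r, -, huniq⟩ := (isPrimePow_iff_unique_prime_dvd.mp h)
  exact hpq ((huniq p ⟨hp, hpn⟩).trans (huniq q ⟨hq, hqn⟩).symm)

section Basic

variable {G : Type*} [Group G]

theorem IsCP.commute [Finite G] (hG : IsCP G) {x y : G} (hc : Commute x y)
    (hcop : (orderOf x).Coprime (orderOf y)) : x = 1 ∨ y = 1 := by
  by_contra hcon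
  push Not at hcon
  obtain ⟨hx, hy⟩ := hcon
  have hox : orderOf x ≠ 1 := fun h => hx (orderOf_eq_one_iff.mp h)
  have hoy : orderOf y ≠ 1 := fun h => hy (orderOf_eq_one_iff.mp h)
  have hxy := hc.orderOf_mul_eq_mul_orderOf_of_coprime hcop
  have hxy1 : x * y ≠ 1 := by
    intro h
    rw [h, orderOf_one] at hxy
    exact hox (Nat.dvd_one.mp ⟨orderOf y, hxy⟩)
  have hpp := hG _ hxy1
  rw [hxy] at hpp
  have hp := Nat.minFac_prime hox
  have hq := Nat.minFac_prime hoy
  refine not_isPrimePow_of_two_primes hp hq ?_ (dvd_mul_of_dvd_left (Nat.minFac_dvd _) _)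
    (dvd_mul_of_dvd_right (Nat.minFac_dvd _) _) hpp
  intro h
  have h1 : (orderOf x).minFac ∣ Nat.gcd (orderOf x) (orderOf y) :=
    Nat.dvd_gcd (Nat.minFac_dvd _) (h ▸ Nat.minFac_dvd _)
  rw [Nat.Coprime.gcd_eq_one hcop] at h1
  exact hp.one_lt.ne' (Nat.dvd_one.mp h1)

theorem IsCP.subgroup (hG : IsCP G) (H : Subgroup G) : IsCP H := by
  intro h hh
  have := hG (h : G) (fun e => hh (Subtype.ext e))
  rwa [Subgroup.orderOf_coe] at this

theorem IsCP.quotient [Finite G] (hG : IsCP G) (N : Subgroup G) [N.Normal] : IsCP (G ⧸ N) := by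
  intro y hy
  obtain ⟨g, rfl⟩ := QuotientGroup.mk_surjective y
  have hg : g ≠ 1 := by
    rintro rfl
    exact hy rfl
  have h1 := hG g hg
  have h2 : orderOf (QuotientGroup.mk g : G ⧸ N) ∣ orderOf g :=
    orderOf_map_dvd (QuotientGroup.mk' N) g
  exact h1.dvd h2 (fun h => hy (orderOf_eq_one_iff.mp h))

theorem IsCP.exists_pow_of_commute [Finite G] (hG : IsCP G) {t c : G} {q : ℕ} (hq : q.Prime)
    (ht : orderOf t = q) (hc : Commute c t) : ∃ k : ℕ, c ^ (q ^ k) = 1 := by
  by_cases hc1 : c = 1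
  · exact ⟨0, by rw [hc1, one_pow]⟩
  obtain ⟨r, k, hr, hk, hrk⟩ := (isPrimePow_nat_iff _).mp (hG c hc1)
  by_cases hrq : r = q
  · refine ⟨k, ?_⟩
    rw [← hrq, hrk]; exact pow_orderOf_eq_one c
  · exfalso
    have hcop : (orderOf c).Coprime (orderOf t) := by
      rw [← hrk, ht]; exact Nat.Coprime.pow_left _ ((Nat.coprime_primes hr hq).mpr hrq)
    rcases hG.commute hc hcop with h | h
    · exact hc1 h
    · rw [h, orderOf_one] at ht; exact hq.one_lt.ne ht

theorem IsCP.exists_of_not_isPGroup (hG : IsCP G) (p : ℕ) (H : Subgroup G)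
    (h : ¬ IsPGroup p H) :
    ∃ y ∈ H, y ≠ 1 ∧ ∃ r k : ℕ, r.Prime ∧ r ≠ p ∧ orderOf y = r ^ k := by
  unfold IsPGroup at h
  push Not at h
  obtain ⟨⟨y, hyH⟩, hy⟩ := h
  have hy1 : y ≠ 1 := by
    rintro rfl
    exact hy 0 (Subtype.ext (by simp))
  obtain ⟨r, k, hr, hk, hrk⟩ := (isPrimePow_nat_iff _).mp (hG y hy1)
  refine ⟨y, hyH, hy1, r, k, hr, ?_, hrk.symm⟩
  rintro rfl
  apply hy k
  apply Subtype.ext
  rw [Subgroup.coe_pow, hrk]
  exact pow_orderOf_eq_one y

theorem isSolvable_of_quot (R : Subgroup G) [R.Normal] (h1 : Group.IsSolvable R)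
    (h2 : Group.IsSolvable (G ⧸ R)) : Group.IsSolvable G :=
  Group.isSolvable_of_ker_le_range R.subtype (QuotientGroup.mk' R)
    (by rw [QuotientGroup.ker_mk', Subgroup.range_subtype])

theorem le_normalizer_of_conj_mem (K T : Subgroup G)
    (h : ∀ g ∈ K, ∀ t ∈ T, g * t * g⁻¹ ∈ T) : K ≤ Subgroup.normalizer (T : Set G) := by
  intro g hg
  rw [Subgroup.mem_normalizer_iff]
  intro t
  constructor
  · exact h g hg t
  · intro ht
    have h1 := h g⁻¹ (K.inv_mem hg) _ ht
    rw [inv_inv] at h1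
    have e : g⁻¹ * (g * t * g⁻¹) * g = t := by group
    rwa [e] at h1

theorem mem_map_conj_iff (T : Subgroup G) (g y : G) :
    y ∈ T.map (MulAut.conj g).toMonoidHom ↔ g⁻¹ * y * g ∈ T := by
  constructor
  · rintro ⟨t, ht, rfl⟩
    have : g⁻¹ * ((MulAut.conj g).toMonoidHom t) * g = t := by
      show g⁻¹ * (g * t * g⁻¹) * g = t
      group
    rw [this]; exact ht
  · intro h
    refine ⟨g⁻¹ * y * g, h, ?_⟩
    show g * (g⁻¹ * y * g) * g⁻¹ = y
    group

theorem normal_pgroup_le_sylow [Finite G] {p : ℕ} [Fact p.Prime] (U : Subgroup G) [U.Normal]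
    (hU : IsPGroup p U) (P : Sylow p G) : U ≤ P := by
  have h1 : IsPGroup p (U ⊔ (P : Subgroup G) : Subgroup G) :=
    hU.to_sup_of_normal_left P.isPGroup'
  have h2 := P.is_maximal' h1 le_sup_right
  calc U ≤ U ⊔ (P : Subgroup G) := le_sup_left
    _ = P := h2

theorem mem_zpowers_of_orderOf_eq_prime {E : Type*} [CommGroup E] [Finite E] [IsCyclic E]
    (q : ℕ) (hq : q.Prime) (z y : E) (hz : orderOf z = q) (hy : orderOf y = q) :
    y ∈ Subgroup.zpowers z := by
  have hker := IsCyclic.card_powMonoidHom_ker (G := E) q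
  have hz'ker : Subgroup.zpowers z ≤ (powMonoidHom q : E →* E).ker := by
    rw [Subgroup.zpowers_le, MonoidHom.mem_ker, powMonoidHom_apply, ← hz]
    exact pow_orderOf_eq_one z
  have hy'ker : y ∈ (powMonoidHom q : E →* E).ker := by
    rw [MonoidHom.mem_ker, powMonoidHom_apply, ← hy]
    exact pow_orderOf_eq_one y
  have hcardz : Nat.card (Subgroup.zpowers z) = q := by
    rw [Nat.card_zpowers, hz]
  have heq : Subgroup.zpowers z = (powMonoidHom q : E →* E).ker := by
    apply Subgroup.eq_of_le_of_card_ge hz'ker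
    rw [hker, hcardz]
    exact Nat.le_of_dvd hq.pos (Nat.gcd_dvd_right _ _)
  rw [heq]; exact hy'ker

theorem mem_zpowers_of_orderOf_eq_prime' {E : Type*} [Group E] [Finite E] [IsCyclic E]
    (q : ℕ) (hq : q.Prime) (z y : E) (hz : orderOf z = q) (hy : orderOf y = q) :
    y ∈ Subgroup.zpowers z := by
  letI : CommGroup E := IsCyclic.commGroup
  exact mem_zpowers_of_orderOf_eq_prime q hq z y hz hy

end Basic

/-- solvable subgroups of CP-groups involve at most two primes. -/
theorem IsCP.card_primeFactors_le {G : Type u} [Group G] [Finite G] (hG : IsCP G)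
    (H : Subgroup G) (hH : Group.IsSolvable H) : (Nat.card H).primeFactors.card ≤ 2 := by
  by_contra hcon
  push Not at hcon
  obtain ⟨p, hp, q, hq, r, hr, hpq, hpr, hqr⟩ := Finset.two_lt_card.mp hcon
  have hp' := Nat.prime_of_mem_primeFactors hp
  have hq' := Nat.prime_of_mem_primeFactors hq
  have hr' := Nat.prime_of_mem_primeFactors hr
  obtain ⟨g, hg⟩ := Cfsg.Agent.helper20.higman_three_primes hH p q r hp' hq' hr' hpq hpr hqr
    (Nat.dvd_of_mem_primeFactors hp) (Nat.dvd_of_mem_primeFactors hq)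
    (Nat.dvd_of_mem_primeFactors hr)
  have hg1 : g ≠ 1 := by
    rintro rfl
    rw [orderOf_one] at hg
    rcases hg with h | h | h
    · exact hp'.one_lt.ne' (Nat.dvd_one.mp ⟨q, h⟩)
    · exact hp'.one_lt.ne' (Nat.dvd_one.mp ⟨r, h⟩)
    · exact hq'.one_lt.ne' (Nat.dvd_one.mp ⟨r, h⟩)
  have hpp := (hG.subgroup H) g hg1
  rcases hg with h | h | h <;> rw [h] at hpp
  · exact not_isPrimePow_of_two_primes hp' hq' hpq (dvd_mul_right _ _) (dvd_mul_left _ _) hpp
  · exact not_isPrimePow_of_two_primes hp' hr' hpr (dvd_mul_right _ _) (dvd_mul_left _ _) hpp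
  · exact not_isPrimePow_of_two_primes hq' hr' hqr (dvd_mul_right _ _) (dvd_mul_left _ _) hpp

section Radical

variable {G : Type*} [Group G]

theorem exists_abelian_normal [Finite G] (R : Subgroup G) [hRn : R.Normal]
    (hRs : Group.IsSolvable R) (hR : R ≠ ⊥) :
    ∃ A : Subgroup G, A.Normal ∧ A ≠ ⊥ ∧ A ≤ R ∧ IsMulCommutative A := by
  classical
  have hex : ∃ n, derivedSeries ↥R n = ⊥ := hRs.solvable
  have h0 : Nat.find hex ≠ 0 := by
    intro h
    have h1 := Nat.find_spec hex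
    rw [h, derivedSeries_zero] at h1
    apply hR
    rw [eq_bot_iff]
    intro x hx
    have h2 : (⟨x, hx⟩ : ↥R) ∈ (⊤ : Subgroup ↥R) := Subgroup.mem_top _
    rw [h1, Subgroup.mem_bot] at h2
    rw [Subgroup.mem_bot]
    exact congrArg Subtype.val h2
  obtain ⟨m, hm⟩ := Nat.exists_eq_succ_of_ne_zero h0
  have hm1 : derivedSeries ↥R m ≠ ⊥ := Nat.find_min hex (by omega)
  have hm2 : ⁅derivedSeries ↥R m, derivedSeries ↥R m⁆ = ⊥ := by
    have h1 := Nat.find_spec hex
    rw [hm] at h1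
    exact h1
  refine ⟨(derivedSeries ↥R m).map R.subtype, inferInstance, ?_, Subgroup.map_subtype_le _, ?_⟩
  · rw [Ne, Subgroup.map_eq_bot_iff_of_injective _ R.subtype_injective]; exact hm1
  · refine ⟨⟨?_⟩⟩
    rintro ⟨a, a', ha', rfl⟩ ⟨b, b', hb', rfl⟩
    apply Subtype.ext
    show R.subtype a' * R.subtype b' = R.subtype b' * R.subtype a'
    have h1 := Subgroup.commutator_mem_commutator ha' hb'
    rw [hm2, Subgroup.mem_bot, commutatorElement_eq_one_iff_mul_comm] at h1
    rw [← map_mul, h1, map_mul]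

/-- the solvable radical of a non-solvable CP-group is a `p`-group. -/
theorem radical_isPGroup [Finite G] (hG : IsCP G) (hns : ¬ Group.IsSolvable G) (R : Subgroup G)
    [hRn : R.Normal] (hRs : Group.IsSolvable R) : ∃ p : ℕ, p.Prime ∧ IsPGroup p R := by
  classical
  by_cases hR : R = ⊥
  · subst hR
    exact ⟨2, Nat.prime_two, IsPGroup.of_bot⟩
  obtain ⟨A, hAn, hAne, hAR, hAc⟩ := exists_abelian_normal R hRs hR
  have hcardA : Nat.card A ≠ 1 := fun h => hAne (Subgroup.card_eq_one.mp h)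
  obtain ⟨p, hpdef⟩ : ∃ p, p = (Nat.card A).minFac := ⟨_, rfl⟩
  have hp : p.Prime := hpdef ▸ Nat.minFac_prime hcardA
  haveI : Fact p.Prime := ⟨hp⟩
  obtain ⟨x₀, hx₀⟩ := exists_prime_orderOf_dvd_card' p (hpdef ▸ Nat.minFac_dvd (Nat.card A))
  have hx₀' : orderOf (x₀ : G) = p := by rw [Subgroup.orderOf_coe, hx₀]
  have hAp : ∀ a ∈ A, ∃ k, orderOf a = p ^ k := by
    intro a ha
    by_cases ha1 : a = 1
    · exact ⟨0, by rw [ha1, orderOf_one, pow_zero]⟩
    obtain ⟨r, k, hr, hk, hrk⟩ := (isPrimePow_nat_iff _).mp (hG a ha1)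
    by_cases hrp : r = p
    · exact ⟨k, by rw [← hrk, hrp]⟩
    exfalso
    have hcomm : Commute a (x₀ : G) := by
      have h1 := hAc.is_comm.comm (⟨a, ha⟩ : A) x₀
      exact congrArg Subtype.val h1
    have hcop : (orderOf a).Coprime (orderOf (x₀ : G)) := by
      rw [hx₀', ← hrk]
      exact Nat.Coprime.pow_left _ ((Nat.coprime_primes hr hp).mpr hrp)
    rcases hG.commute hcomm hcop with h | h
    · exact ha1 h
    · rw [h, orderOf_one] at hx₀'
      exact hp.one_lt.ne hx₀'
  refine ⟨p, hp, ?_⟩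
  by_contra hnp
  obtain ⟨y, hyR, hy1, q, k, hq, hqp, hqk⟩ := hG.exists_of_not_isPGroup p R hnp
  haveI : Fact q.Prime := ⟨hq⟩
  have hk0 : k ≠ 0 := by
    rintro rfl
    rw [pow_zero] at hqk
    exact hy1 (orderOf_eq_one_iff.mp hqk)
  have hqR : q ∣ Nat.card R := by
    have h1 : orderOf (⟨y, hyR⟩ : ↥R) ∣ Nat.card R := orderOf_dvd_natCard _
    rw [Subgroup.orderOf_mk, hqk] at h1
    exact (dvd_pow_self q hk0).trans h1
  -- Sylow q-subgroup of R
  obtain ⟨S⟩ : Nonempty (Sylow q ↥R) := inferInstance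
  have hqS : q ∣ Nat.card S := by
    rw [Sylow.card_eq_multiplicity]
    exact dvd_pow_self q ((hq.factorization_pos_of_dvd Nat.card_pos.ne' hqR).ne')
  haveI : Group.IsNilpotent S := S.isPGroup'.isNilpotent
  obtain ⟨z₀, hz₀c, hz₀o⟩ :=
    Cfsg.Agent.helper20.Frob2.exists_center_orderOf_prime (X := ↥S) q hq hqS
  obtain ⟨S₁, hS₁⟩ : ∃ S₁ : Subgroup G, S₁ = (S : Subgroup ↥R).map R.subtype := ⟨_, rfl⟩
  obtain ⟨z, hz⟩ : ∃ z : G, z = ((z₀ : ↥R) : G) := ⟨_, rfl⟩
  have hzS : z ∈ S₁ := by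
    rw [hS₁, hz]; exact ⟨(z₀ : ↥R), z₀.2, rfl⟩
  have hzo : orderOf z = q := by rw [hz, Subgroup.orderOf_coe, Subgroup.orderOf_coe, hz₀o]
  have hzc : ∀ s ∈ S₁, z * s = s * z := by
    intro s hs
    rw [hS₁] at hs
    obtain ⟨s', hs', rfl⟩ := hs
    have h1 := Subgroup.mem_center_iff.mp hz₀c ⟨s', hs'⟩
    have h2 : s' * (z₀ : ↥R) = (z₀ : ↥R) * s' := congrArg Subtype.val h1
    have h3 := congrArg (R.subtype) h2
    rw [map_mul, map_mul] at h3
    rw [hz]
    exact h3.symm
  have hSq : ∀ s ∈ S₁, ∃ k, orderOf s = q ^ k := by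
    intro s hs
    rw [hS₁] at hs
    obtain ⟨s', hs', rfl⟩ := hs
    obtain ⟨k, hk⟩ := S.isPGroup' ⟨s', hs'⟩
    have h1 : s' ^ (q ^ k) = 1 := by
      have := congrArg Subtype.val hk
      rwa [Subgroup.coe_pow] at this
    have h2 : orderOf (R.subtype s') ∣ q ^ k := by
      rw [Subgroup.coe_subtype, Subgroup.orderOf_coe]; exact orderOf_dvd_of_pow_eq_one h1
    obtain ⟨j, -, hj⟩ := (Nat.dvd_prime_pow hq).mp h2
    exact ⟨j, hj⟩
  have hfpf : ∀ s ∈ S₁, s ≠ 1 → A ⊓ Subgroup.centralizer {s} = ⊥ := by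
    intro s hs hs1
    rw [eq_bot_iff]
    intro a ha
    obtain ⟨haA, hac⟩ := Subgroup.mem_inf.mp ha
    rw [Subgroup.mem_centralizer_singleton_iff] at hac
    obtain ⟨i, hi⟩ := hAp a haA
    obtain ⟨j, hj⟩ := hSq s hs
    have hcop : (orderOf a).Coprime (orderOf s) := by
      rw [hi, hj]; exact Nat.Coprime.pow _ _ ((Nat.coprime_primes hp hq).mpr hqp.symm)
    rcases hG.commute (show Commute a s from hac) hcop with h | h
    · rw [Subgroup.mem_bot]; exact h
    · exact absurd h hs1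
  have huniq : ∀ y ∈ S₁, orderOf y = q → y ∈ Subgroup.zpowers z := by
    intro y hyS hyo
    have hES : Subgroup.closure {z, y} ≤ S₁ := (Subgroup.closure_le _).mpr (by
      intro t ht
      rcases ht with rfl | rfl
      · exact hzS
      · exact hyS)
    have hcommE : ∀ a ∈ ({z, y} : Set G), ∀ b ∈ ({z, y} : Set G), a * b = b * a := by
      intro a ha b hb
      rcases ha with rfl | rfl <;> rcases hb with rfl | rfl
      · rfl
      · exact hzc _ hyS
      · exact (hzc _ hyS).symm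
      · rfl
    haveI hEc : IsMulCommutative (Subgroup.closure {z, y}) :=
      Subgroup.isMulCommutative_closure hcommE
    haveI := hAc
    haveI hEcyc : IsCyclic (Subgroup.closure {z, y}) :=
      Cfsg.Agent.S0041.result (Subgroup.closure {z, y}) A hAne
        (by rw [Subgroup.normalizer_eq_top]; exact le_top)
        (fun a ha => hfpf a (hES ha)) (Or.inl hEc)
    have hmem := mem_zpowers_of_orderOf_eq_prime' (E := Subgroup.closure {z, y}) q hq
      ⟨z, Subgroup.subset_closure (Set.mem_insert _ _)⟩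
      ⟨y, Subgroup.subset_closure (Set.mem_insert_of_mem _ rfl)⟩
      (by rw [Subgroup.orderOf_mk, hzo]) (by rw [Subgroup.orderOf_mk, hyo])
    obtain ⟨i, hi⟩ := Subgroup.mem_zpowers_iff.mp hmem
    refine Subgroup.mem_zpowers_iff.mpr ⟨i, ?_⟩
    have := congrArg Subtype.val hi
    rwa [Subgroup.coe_zpow] at this
  have hnorm : Subgroup.normalizer (S₁ : Set G) ≤
      Subgroup.normalizer ((Subgroup.zpowers z : Subgroup G) : Set G) := by
    apply le_normalizer_of_conj_mem
    intro g hg t ht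
    obtain ⟨i, rfl⟩ := Subgroup.mem_zpowers_iff.mp ht
    have h1 : g * z * g⁻¹ ∈ S₁ := (Subgroup.mem_normalizer_iff.mp hg z).mp hzS
    have h2 : orderOf (g * z * g⁻¹) = q := by
      rw [← hzo]
      exact orderOf_injective (MulAut.conj g).toMonoidHom (MulAut.conj g).injective z
    have h3 := huniq _ h1 h2
    rw [← conj_zpow]
    exact Subgroup.zpow_mem _ h3 i
  have hNTsolv : Group.IsSolvable
      (Subgroup.normalizer ((Subgroup.zpowers z : Subgroup G) : Set G)) := by
    haveI : Group.IsSolvable (MulAut (Subgroup.zpowers z)) :=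
      Group.isSolvable_of_isSolvable_injective
        (f := (IsCyclic.mulAutMulEquiv (Subgroup.zpowers z)).toMonoidHom)
        (IsCyclic.mulAutMulEquiv (Subgroup.zpowers z)).injective
    have hKp : IsPGroup q ((Subgroup.centralizer ((Subgroup.zpowers z : Subgroup G) : Set G)).subgroupOf
        (Subgroup.normalizer ((Subgroup.zpowers z : Subgroup G) : Set G))) := by
      intro x
      have hx := x.2
      rw [Subgroup.mem_subgroupOf, Subgroup.mem_centralizer_iff] at hx
      have hcomm : Commute ((x : ↥(Subgroup.normalizer ((Subgroup.zpowers z : Subgroup G) : Set G))) : G) z :=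
        (hx z (Subgroup.mem_zpowers z)).symm
      obtain ⟨k, hk⟩ := hG.exists_pow_of_commute hq hzo hcomm
      refine ⟨k, ?_⟩
      apply Subtype.ext
      apply Subtype.ext
      rw [Subgroup.coe_pow, Subgroup.coe_pow]
      exact hk
    haveI := hKp.isNilpotent
    exact Group.isSolvable_of_ker_le_range (Subgroup.subtype _)
      (Subgroup.zpowers z).normalizerMonoidHom
      (by rw [Subgroup.normalizerMonoidHom_ker, Subgroup.range_subtype])
  have hsup : Subgroup.normalizer ((Subgroup.zpowers z : Subgroup G) : Set G) ⊔ R = ⊤ := by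
    have h1 := Sylow.normalizer_sup_eq_top S
    rw [← hS₁] at h1
    rw [eq_top_iff, ← h1]
    exact sup_le_sup_right hnorm R
  apply hns
  haveI := hNTsolv
  haveI : Group.IsSolvable (G ⧸ R) := by
    refine Group.isSolvable_of_surjective
      (f := (QuotientGroup.mk' R).comp
        (Subgroup.normalizer ((Subgroup.zpowers z : Subgroup G) : Set G)).subtype) ?_
    intro y
    obtain ⟨g, rfl⟩ := QuotientGroup.mk_surjective y
    have hg : g ∈ Subgroup.normalizer ((Subgroup.zpowers z : Subgroup G) : Set G) ⊔ R := by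
      rw [hsup]; exact Subgroup.mem_top g
    obtain ⟨n, hn, r, hr, rfl⟩ := Subgroup.mem_sup_of_normal_right.mp hg
    refine ⟨⟨n, hn⟩, ?_⟩
    show (QuotientGroup.mk n : G ⧸ R) = QuotientGroup.mk (n * r)
    rw [QuotientGroup.mk_mul, (QuotientGroup.eq_one_iff r).mpr hr, mul_one]
  exact isSolvable_of_quot R hRs inferInstance

/-- the quotient by the solvable radical has no non-trivial solvable normal subgroup. -/
theorem eq_bot_of_solvable_normal (R : Subgroup G) [R.Normal] (hRs : Group.IsSolvable R)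
    (hRmax : ∀ N : Subgroup G, N.Normal → Group.IsSolvable N → N ≤ R)
    (Nb : Subgroup (G ⧸ R)) (hn : Nb.Normal) (hs : Group.IsSolvable Nb) : Nb = ⊥ := by
  have hNn : (Nb.comap (QuotientGroup.mk' R)).Normal := hn.comap _
  have hRN : R ≤ Nb.comap (QuotientGroup.mk' R) := by
    intro x hx
    show QuotientGroup.mk' R x ∈ Nb
    have : QuotientGroup.mk' R x = 1 := (QuotientGroup.eq_one_iff x).mpr hx
    rw [this]; exact Nb.one_mem
  have hNs : Group.IsSolvable (Nb.comap (QuotientGroup.mk' R)) := by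
    refine Group.isSolvable_of_ker_le_range (Subgroup.inclusion hRN)
      ((QuotientGroup.mk' R).subgroupComap Nb) ?_
    intro x hx
    rw [MonoidHom.mem_ker] at hx
    have h1 : (QuotientGroup.mk (x : G) : G ⧸ R) = 1 := congrArg Subtype.val hx
    have h2 : (x : G) ∈ R := (QuotientGroup.eq_one_iff _).mp h1
    exact ⟨⟨x, h2⟩, Subtype.ext rfl⟩
  have h3 := hRmax _ hNn hNs
  rw [eq_bot_iff]
  intro y hy
  obtain ⟨g, rfl⟩ := QuotientGroup.mk_surjective y
  have : g ∈ R := h3 hy
  rw [Subgroup.mem_bot]; exact (QuotientGroup.eq_one_iff g).mpr this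

end Radical

end Cfsg.Agent.helper20.CP
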