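import Mathlib
import Cfsg.Agent.Lib_helper20_CP

set_option autoImplicit false
set_option linter.style.haveILetI false
set_option linter.unusedSectionVars false

/-! CP-groups with trivial solvable radical have a unique minimal normal subgroup, which is
non-abelian simple. -/

namespace Cfsg.Agent.helper20.CP

open Cfsg

theorem exists_unique_minimal {Q : Type*} [Group Q] [Finite Q] [Nontrivial Q] (hQ : IsCP Q)
    (hrad : ∀ N : Subgroup Q, N.Normal → Group.IsSolvable N → N = ⊥) :
    ∃ M : Subgroup Q, M.Normal ∧ IsSimpleGroup M ∧ ¬ IsMulCommutative M ∧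
      ∀ N : Subgroup Q, N.Normal → N ≠ ⊥ → M ≤ N := by
  classical
  obtain ⟨M, hMn, hMne, hMmin⟩ := Cfsg.Agent.helper20.exists_minimal_normal Q
  have hpgrp : ∀ (p : ℕ) [Fact p.Prime] (N : Subgroup Q), N.Normal → IsPGroup p N → N = ⊥ := by
    intro p _ N hN hNp
    haveI := hNp.isNilpotent
    exact hrad N hN inferInstance
  -- a prime-order element of a non-trivial subgroup
  have hcauchy : ∀ U : Subgroup Q, U ≠ ⊥ → ∃ p : ℕ, p.Prime ∧ ∃ x ∈ U, orderOf x = p := by
    intro U hU
    have hcard : Nat.card U ≠ 1 := fun h => hU (Subgroup.card_eq_one.mp h)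
    have hp : (Nat.card U).minFac.Prime := Nat.minFac_prime hcard
    haveI : Fact (Nat.card U).minFac.Prime := ⟨hp⟩
    obtain ⟨x, hx⟩ := exists_prime_orderOf_dvd_card' (Nat.card U).minFac
      (Nat.minFac_dvd (Nat.card U))
    exact ⟨_, hp, (x : Q), x.2, by rw [Subgroup.orderOf_coe, hx]⟩
  -- minimal `M`-invariant subgroup
  let Inv : Subgroup Q → Prop := fun U => ∀ m ∈ M, ∀ t ∈ U, m * t * m⁻¹ ∈ U
  have hwf : WellFounded ((· < ·) : Subgroup Q → Subgroup Q → Prop) := wellFounded_lt
  let 𝒮 : Set (Subgroup Q) := {U | U ≠ ⊥ ∧ U ≤ M ∧ Inv U}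
  have hM𝒮 : M ∈ 𝒮 := ⟨hMne, le_refl M, fun m hm t ht => M.mul_mem (M.mul_mem hm ht) (M.inv_mem hm)⟩
  obtain ⟨T, hT, hTmin⟩ := hwf.has_min 𝒮 ⟨M, hM𝒮⟩
  obtain ⟨hT1, hT2, hT3⟩ := hT
  have hTM : T = M := by
    obtain ⟨p, hp, x, hxT, hxo⟩ := hcauchy T hT1
    haveI : Fact p.Prime := ⟨hp⟩
    have hx1 : x ≠ 1 := by
      rintro rfl
      rw [orderOf_one] at hxo
      exact hp.one_lt.ne hxo
    -- conjugates of `T`
    have hTgM : ∀ g : Q, T.map (MulAut.conj g).toMonoidHom ≤ M := by
      intro g y hy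
      rw [mem_map_conj_iff] at hy
      have h1 := hMn.conj_mem _ (hT2 hy) g
      have e : g * (g⁻¹ * y * g) * g⁻¹ = y := by group
      rwa [e] at h1
    have hTgInv : ∀ g : Q, Inv (T.map (MulAut.conj g).toMonoidHom) := by
      intro g m hm y hy
      rw [mem_map_conj_iff] at hy ⊢
      have h1 : g⁻¹ * m * g ∈ M := by
        have := hMn.conj_mem m hm g⁻¹
        rwa [inv_inv] at this
      have h2 := hT3 _ h1 _ hy
      have e : g⁻¹ * m * g * (g⁻¹ * y * g) * (g⁻¹ * m * g)⁻¹ = g⁻¹ * (m * y * m⁻¹) * g := by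
        group
      rwa [e] at h2
    have hTgcard : ∀ g : Q, Nat.card (T.map (MulAut.conj g).toMonoidHom) = Nat.card T :=
      fun g => Subgroup.card_map_of_injective (MulAut.conj g).injective
    -- `T` is not a `p`-group
    have hTnp : ¬ IsPGroup p T := by
      intro hTp
      obtain ⟨P⟩ : Nonempty (Sylow p ↥M) := inferInstance
      have hle : ∀ g : Q, T.map (MulAut.conj g).toMonoidHom ≤
          (P : Subgroup ↥M).map M.subtype := by
        intro g
        haveI hUn : ((T.map (MulAut.conj g).toMonoidHom).subgroupOf M).Normal := by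
          constructor
          intro u hu m
          rw [Subgroup.mem_subgroupOf] at hu ⊢
          have := hTgInv g (m : Q) m.2 _ hu
          simpa using this
        have hUp : IsPGroup p ((T.map (MulAut.conj g).toMonoidHom).subgroupOf M) := by
          intro u
          have hu := u.2
          rw [Subgroup.mem_subgroupOf, mem_map_conj_iff] at hu
          obtain ⟨k, hk⟩ := hTp ⟨_, hu⟩
          refine ⟨k, ?_⟩
          have h1 : (g⁻¹ * ((u : ↥M) : Q) * g) ^ (p ^ k) = 1 := by
            have := congrArg Subtype.val hk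
            rwa [Subgroup.coe_pow] at this
          have h2 : g⁻¹ * ((u : ↥M) : Q) ^ (p ^ k) * g = 1 := by
            have e : g⁻¹ * ((u : ↥M) : Q) ^ (p ^ k) * g =
                g⁻¹ * ((u : ↥M) : Q) ^ (p ^ k) * g⁻¹⁻¹ := by rw [inv_inv]
            rw [e, ← conj_pow, inv_inv]
            exact h1
          have h3 : ((u : ↥M) : Q) ^ (p ^ k) = 1 := by
            have e : ((u : ↥M) : Q) ^ (p ^ k) =
                g * (g⁻¹ * ((u : ↥M) : Q) ^ (p ^ k) * g) * g⁻¹ := by group
            rw [e, h2, mul_one, mul_inv_cancel]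
          apply Subtype.ext
          apply Subtype.ext
          rw [Subgroup.coe_pow, Subgroup.coe_pow]
          exact h3
        have hUP := normal_pgroup_le_sylow _ hUp P
        intro y hy
        have hyM := hTgM g hy
        have h1 : (⟨y, hyM⟩ : ↥M) ∈ (T.map (MulAut.conj g).toMonoidHom).subgroupOf M := by
          rw [Subgroup.mem_subgroupOf]; exact hy
        exact ⟨⟨y, hyM⟩, hUP h1, rfl⟩
      have hP₀ : IsPGroup p ((P : Subgroup ↥M).map M.subtype) := P.isPGroup'.map M.subtype
      have hcore : IsPGroup p ((P : Subgroup ↥M).map M.subtype).normalCore :=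
        hP₀.to_le (Subgroup.normalCore_le _)
      have hTcore : T ≤ ((P : Subgroup ↥M).map M.subtype).normalCore := by
        intro t ht b
        apply hle b
        rw [mem_map_conj_iff]
        have e : b⁻¹ * (b * t * b⁻¹) * b = t := by group
        rw [e]; exact ht
      have hbot := hpgrp p _ (Subgroup.normalCore_normal _) hcore
      rw [hbot] at hTcore
      exact hT1 (le_bot_iff.mp hTcore)
    obtain ⟨y₀, hy₀T, hy₀1, r, k, hr, hrp, hy₀o⟩ := hQ.exists_of_not_isPGroup p T hTnp
    by_cases hconj : ∀ g : Q, T.map (MulAut.conj g).toMonoidHom = T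
    · have hTn : T.Normal := by
        constructor
        intro t ht g
        have h1 : g * t * g⁻¹ ∈ T.map (MulAut.conj g).toMonoidHom := by
          rw [mem_map_conj_iff]
          have e : g⁻¹ * (g * t * g⁻¹) * g = t := by group
          rw [e]; exact ht
        rwa [hconj g] at h1
      rcases hMmin T hTn hT2 with h | h
      · exact absurd h hT1
      · exact h
    · exfalso
      push Not at hconj
      obtain ⟨g, hg⟩ := hconj
      have hW : T ⊓ T.map (MulAut.conj g).toMonoidHom = ⊥ := by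
        by_contra hW
        have hW𝒮 : T ⊓ T.map (MulAut.conj g).toMonoidHom ∈ 𝒮 := by
          refine ⟨hW, inf_le_left.trans hT2, ?_⟩
          intro m hm t ht
          obtain ⟨h1, h2⟩ := Subgroup.mem_inf.mp ht
          exact Subgroup.mem_inf.mpr ⟨hT3 m hm t h1, hTgInv g m hm t h2⟩
        have h1 : ¬ (T ⊓ T.map (MulAut.conj g).toMonoidHom < T) := hTmin _ hW𝒮
        have h2 : T ⊓ T.map (MulAut.conj g).toMonoidHom = T := by
          by_contra hne
          exact h1 (lt_of_le_of_ne inf_le_left hne)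
        have h3 : T ≤ T.map (MulAut.conj g).toMonoidHom := inf_eq_left.mp h2
        exact hg (Subgroup.eq_of_le_of_card_ge h3 (hTgcard g).le).symm
      -- commuting elements
      have hyTg : g * y₀ * g⁻¹ ∈ T.map (MulAut.conj g).toMonoidHom := by
        rw [mem_map_conj_iff]
        have e : g⁻¹ * (g * y₀ * g⁻¹) * g = y₀ := by group
        rw [e]; exact hy₀T
      have hyM : g * y₀ * g⁻¹ ∈ M := hTgM g hyTg
      have hxM : x ∈ M := hT2 hxT
      have hc : x * (g * y₀ * g⁻¹) * x⁻¹ * (g * y₀ * g⁻¹)⁻¹ ∈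
          T ⊓ T.map (MulAut.conj g).toMonoidHom := by
        refine Subgroup.mem_inf.mpr ⟨?_, ?_⟩
        · have h1 : (g * y₀ * g⁻¹) * x⁻¹ * (g * y₀ * g⁻¹)⁻¹ ∈ T := hT3 _ hyM _ (T.inv_mem hxT)
          have h2 := T.mul_mem hxT h1
          have e : x * ((g * y₀ * g⁻¹) * x⁻¹ * (g * y₀ * g⁻¹)⁻¹) =
              x * (g * y₀ * g⁻¹) * x⁻¹ * (g * y₀ * g⁻¹)⁻¹ := by group
          rwa [e] at h2
        · have h1 := hTgInv g x hxM _ hyTg
          exact Subgroup.mul_mem _ h1 (Subgroup.inv_mem _ hyTg)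
      rw [hW, Subgroup.mem_bot] at hc
      have hcomm : Commute x (g * y₀ * g⁻¹) := by
        show x * (g * y₀ * g⁻¹) = (g * y₀ * g⁻¹) * x
        have e : x * (g * y₀ * g⁻¹) =
            (x * (g * y₀ * g⁻¹) * x⁻¹ * (g * y₀ * g⁻¹)⁻¹) * ((g * y₀ * g⁻¹) * x) := by group
        rw [e, hc, one_mul]
      have hyo : orderOf (g * y₀ * g⁻¹) = r ^ k := by
        rw [← hy₀o]
        exact orderOf_injective (MulAut.conj g).toMonoidHom (MulAut.conj g).injective y₀
      have hcop : (orderOf x).Coprime (orderOf (g * y₀ * g⁻¹)) := by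
        rw [hxo, hyo]
        exact Nat.Coprime.pow_right _ ((Nat.coprime_primes hp hr).mpr hrp.symm)
      rcases hQ.commute hcomm hcop with h | h
      · exact hx1 h
      · apply hy₀1
        have e : y₀ = g⁻¹ * (g * y₀ * g⁻¹) * g := by group
        rw [e, h, mul_one, inv_mul_cancel]
  subst hTM
  refine ⟨T, hMn, ?_, ?_, ?_⟩
  · haveI : Nontrivial T := (Subgroup.nontrivial_iff_ne_bot T).mpr hT1
    refine ⟨?_⟩
    intro U' hU'
    by_cases hU0 : U' = ⊥
    · exact Or.inl hU0
    right
    have hU𝒮 : U'.map T.subtype ∈ 𝒮 := by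
      refine ⟨?_, Subgroup.map_subtype_le _, ?_⟩
      · rw [Ne, Subgroup.map_eq_bot_iff_of_injective _ T.subtype_injective]; exact hU0
      · rintro m hm t ⟨t', ht', rfl⟩
        exact ⟨(⟨m, hm⟩ : T) * t' * (⟨m, hm⟩ : T)⁻¹, hU'.conj_mem t' ht' ⟨m, hm⟩, rfl⟩
    have h1 : ¬ (U'.map T.subtype < T) := hTmin _ hU𝒮
    have h2 : U'.map T.subtype = T := by
      by_contra hne
      exact h1 (lt_of_le_of_ne (Subgroup.map_subtype_le _) hne)
    rw [eq_top_iff]
    intro x _
    have hx : (x : Q) ∈ U'.map T.subtype := by rw [h2]; exact x.2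
    obtain ⟨x', hx', hxx'⟩ := hx
    have : x' = x := Subtype.ext hxx'
    rw [← this]; exact hx'
  · intro hcomm
    haveI := hcomm
    have : Group.IsSolvable T := by
      letI : CommGroup T := { (inferInstance : Group T) with mul_comm := hcomm.is_comm.comm }
      infer_instance
    exact hT1 (hrad T hMn this)
  · intro N hNn hNne
    haveI := hMn
    haveI := hNn
    rcases hMmin (T ⊓ N) inferInstance inf_le_left with h | h
    · exfalso
      obtain ⟨p, hp, x, hxT, hxo⟩ := hcauchy T hT1
      haveI : Fact p.Prime := ⟨hp⟩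
      have hNnp : ¬ IsPGroup p N := fun hNp => hNne (hpgrp p N hNn hNp)
      obtain ⟨y, hyN, hy1, r, k, hr, hrp, hyo⟩ := hQ.exists_of_not_isPGroup p N hNnp
      have hcomm : Commute x y :=
        Subgroup.commute_of_normal_of_disjoint T N hMn hNn (disjoint_iff.mpr h) x y hxT hyN
      have hcop : (orderOf x).Coprime (orderOf y) := by
        rw [hxo, hyo]
        exact Nat.Coprime.pow_right _ ((Nat.coprime_primes hp hr).mpr hrp.symm)
      rcases hQ.commute hcomm hcop with h' | h'
      · rw [h', orderOf_one] at hxo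
        exact hp.one_lt.ne hxo
      · exact hy1 h'
    · exact inf_eq_left.mp h

end Cfsg.Agent.helper20.CP
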