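import Mathlib

set_option autoImplicit false

namespace Cfsg.Agent.helper20

/-- iterated conjugation of an element that is sent to a power of itself -/
theorem conj_pow_iter {G : Type*} [Group G] (z c : G) (r : ℕ) (hr : c * z * c⁻¹ = z ^ r) (k : ℕ) :
    c ^ k * z * (c ^ k)⁻¹ = z ^ (r ^ k) := by
  induction k with
  | zero => simp
  | succ k ih =>
    calc c ^ (k + 1) * z * (c ^ (k + 1))⁻¹ = c * (c ^ k * z * (c ^ k)⁻¹) * c⁻¹ := by
          rw [pow_succ']; group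
      _ = c * z ^ (r ^ k) * c⁻¹ := by rw [ih]
      _ = (c * z * c⁻¹) ^ (r ^ k) := by rw [conj_pow]
      _ = z ^ (r ^ (k + 1)) := by rw [hr, ← pow_mul, pow_succ']

/-- A `p'`-element normalizing `⟨z⟩` (`z` of order `p ^ a`) and acting as `z ↦ z ^ r` with
`r ≡ 1 [MOD p]` centralizes `z`. -/
theorem conj_eq_self_of_coprime {G : Type*} [Group G] (z c : G) (p a m r : ℕ) [Fact p.Prime]
    (hz : orderOf z = p ^ a) (hc : c ^ m = 1) (hm : Nat.Coprime m p)
    (hr : c * z * c⁻¹ = z ^ r) (hr1 : r ≡ 1 [MOD p]) : c * z * c⁻¹ = z := by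
  rcases Nat.eq_zero_or_pos a with ha | ha
  · rw [ha, pow_zero, orderOf_eq_one_iff] at hz
    rw [hz]; group
  have h1 := conj_pow_iter z c r hr m
  rw [hc, one_mul, inv_one, mul_one] at h1
  have h2 : r ^ m ≡ 1 [MOD p ^ a] := by
    rw [← hz, ← pow_eq_pow_iff_modEq, pow_one]
    exact h1.symm
  set R : ZMod (p ^ a) := (r : ZMod (p ^ a)) with hR
  have hRm : R ^ m = 1 := by
    have := (ZMod.natCast_eq_natCast_iff (r ^ m) 1 (p ^ a)).mpr h2
    push_cast at this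
    exact this
  have hdvd : (p : ZMod (p ^ a)) ∣ R - 1 := by
    have h3 : (p : ℤ) ∣ (r : ℤ) - 1 := by
      have := (Nat.modEq_iff_dvd.mp hr1.symm)
      push_cast at this
      exact this
    obtain ⟨t, ht⟩ := h3
    refine ⟨(t : ZMod (p ^ a)), ?_⟩
    have : ((r : ℤ) - 1 : ℤ) = (p : ℤ) * t := ht
    have h4 := congrArg (fun x : ℤ => (x : ZMod (p ^ a))) this
    simp only [Int.cast_sub, Int.cast_natCast, Int.cast_one, Int.cast_mul] at h4
    exact h4
  have hRp : R ^ (p ^ (a - 1)) = 1 := by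
    have h5 := dvd_sub_pow_of_dvd_sub hdvd (a - 1)
    rw [Nat.sub_add_cancel ha, one_pow] at h5
    have h6 : ((p : ZMod (p ^ a)) ^ a) = 0 := by
      have := ZMod.natCast_self (p ^ a)
      push_cast at this
      exact this
    rw [h6, zero_dvd_iff, sub_eq_zero] at h5
    exact h5
  have ho1 : orderOf R ∣ m := orderOf_dvd_of_pow_eq_one hRm
  have ho2 : orderOf R ∣ p ^ (a - 1) := orderOf_dvd_of_pow_eq_one hRp
  have hcop : Nat.Coprime m (p ^ (a - 1)) := Nat.Coprime.pow_right _ hm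
  have ho : orderOf R = 1 := Nat.eq_one_of_dvd_coprimes hcop ho1 ho2
  rw [orderOf_eq_one_iff] at ho
  have h7 : r ≡ 1 [MOD p ^ a] := by
    rw [← ZMod.natCast_eq_natCast_iff]
    push_cast
    exact ho
  rw [hr]
  have : z ^ r = z ^ 1 := by
    rw [pow_eq_pow_iff_modEq, hz]; exact h7
  rw [this, pow_one]

/-- If `c` acts on `⟨z⟩` (`z` of order `p ^ a`) as `z ↦ z ^ r` and fixes a nontrivial power of
`z`, then `r ≡ 1 [MOD p]`. -/
theorem modEq_one_of_fix {G : Type*} [Group G] (z c : G) (p a r j : ℕ) [Fact p.Prime]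
    (hz : orderOf z = p ^ a) (hr : c * z * c⁻¹ = z ^ r) (hj : z ^ j ≠ 1)
    (hfix : c * z ^ j * c⁻¹ = z ^ j) : r ≡ 1 [MOD p] := by
  have hp : p.Prime := Fact.out
  have h1 : z ^ (r * j) = z ^ j := by
    rw [pow_mul, ← hr, conj_pow, hfix]
  rw [pow_eq_pow_iff_modEq, hz] at h1
  have h2 := Nat.modEq_iff_dvd.mp h1
  by_contra hne
  have h3 : ¬ (p : ℤ) ∣ (1 : ℤ) - r := by
    intro h
    apply hne
    rw [Nat.modEq_iff_dvd]
    push_cast
    exact h
  have hpi : Prime (p : ℤ) := Nat.prime_iff_prime_int.mp hp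
  have hcop : IsCoprime ((p : ℤ) ^ a) ((1 : ℤ) - r) :=
    IsCoprime.pow_left (hpi.coprime_iff_not_dvd.mpr h3)
  have h4 : ((p : ℤ) ^ a) ∣ (j : ℤ) * ((1 : ℤ) - r) := by
    have : (j : ℤ) * ((1 : ℤ) - r) = (j : ℤ) - ((r * j : ℕ) : ℤ) := by push_cast; ring
    rw [this]
    have h5 : (((p ^ a : ℕ)) : ℤ) = (p : ℤ) ^ a := by push_cast; rfl
    rw [← h5]
    exact h2
  have h6 : ((p : ℤ) ^ a) ∣ (j : ℤ) := hcop.dvd_of_dvd_mul_right h4
  apply hj
  have h7 : p ^ a ∣ j := by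
    have : (((p ^ a : ℕ)) : ℤ) ∣ (j : ℤ) := by push_cast; exact h6
    exact Int.natCast_dvd_natCast.mp this
  rw [← hz] at h7
  exact orderOf_dvd_iff_pow_eq_one.mp h7

end Cfsg.Agent.helper20
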