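import Cfsg.Statements.S0606
import Cfsg.Agent.Lib_helper3_EA
import Mathlib

set_option autoImplicit false
open Cfsg
open scoped commutatorElement

namespace Cfsg.Agent.S0606

theorem card_mul_relIndex_of_le' {G : Type*} [Group G] {H K : Subgroup G} (h : H ≤ K) :
    Nat.card H * H.relIndex K = Nat.card K := by
  have := Subgroup.relIndex_mul_relIndex (⊥ : Subgroup G) H K bot_le h
  rwa [Subgroup.relIndex_bot_left, Subgroup.relIndex_bot_left] at this

/-- `|H| |K| ≤ |H ⊔ K| |H ⊓ K|` for subgroups of a finite group. -/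
theorem card_mul_card_le {G : Type*} [Group G] [Finite G] (H K : Subgroup G) :
    Nat.card H * Nat.card K ≤ Nat.card (H ⊔ K : Subgroup G) * Nat.card (H ⊓ K : Subgroup G) := by
  have h1 : K.relIndex H ≤ K.relIndex (H ⊔ K) :=
    Subgroup.relIndex_le_of_le_right le_sup_left
      (fun h0 => by
        have h4 := card_mul_relIndex_of_le' (le_sup_right : K ≤ H ⊔ K)
        rw [h0, mul_zero] at h4
        exact Nat.card_pos.ne' h4.symm)
  have h2 : (H ⊓ K).relIndex H = K.relIndex H := Subgroup.inf_relIndex_left H K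
  have h3 : (H ⊓ K).relIndex H * Nat.card (H ⊓ K : Subgroup G) = Nat.card H := by
    rw [mul_comm]
    exact card_mul_relIndex_of_le' inf_le_left
  have h4 : K.relIndex (H ⊔ K) * Nat.card K = Nat.card (H ⊔ K : Subgroup G) := by
    rw [mul_comm]
    exact card_mul_relIndex_of_le' le_sup_right
  calc Nat.card H * Nat.card K = (H ⊓ K).relIndex H * Nat.card (H ⊓ K : Subgroup G) * Nat.card K := by rw [h3]
    _ = K.relIndex H * Nat.card K * Nat.card (H ⊓ K : Subgroup G) := by rw [h2]; ring
    _ ≤ K.relIndex (H ⊔ K) * Nat.card K * Nat.card (H ⊓ K : Subgroup G) :=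
        Nat.mul_le_mul_right _ (Nat.mul_le_mul_right _ h1)
    _ = Nat.card (H ⊔ K : Subgroup G) * Nat.card (H ⊓ K : Subgroup G) := by rw [h4]


/-- Elementary abelian p-subgroups of maximal order are best offenders on any normal elementary abelian p-subgroup. -/
theorem result {G : Type*} [Group G] [Finite G] {p : ℕ} [Fact p.Prime] (V : Subgroup G) [V.Normal] (hV : Cfsg.IsElementaryAbelian p V) (A : Subgroup G) (hA : A ∈ Cfsg.maxElementaryAbelianSubgroups p G) : Cfsg.IsBestOffenderOn p V A := by
  refine ⟨?_, ?_, ?_⟩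
  · intro B hBA
    have hB : Cfsg.IsElementaryAbelian p B := helper3.ea_mono hA.1 hBA
    set C : Subgroup G := V ⊓ Subgroup.centralizer (B : Set G) with hC
    have hCe : Cfsg.IsElementaryAbelian p C := helper3.ea_mono hV inf_le_left
    have hcomm : ∀ b ∈ B, ∀ c ∈ C, b * c = c * b := by
      intro b hb c hc
      exact Subgroup.mem_centralizer_iff.mp hc.2 b hb
    have hsup : Cfsg.IsElementaryAbelian p (B ⊔ C) := helper3.ea_sup hB hCe hcomm
    have h1 : Nat.card (B ⊔ C : Subgroup G) ≤ Nat.card A := hA.2 _ hsup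
    have h2 : Nat.card B * Nat.card C ≤ Nat.card (B ⊔ C : Subgroup G) * Nat.card (B ⊓ C : Subgroup G) :=
      card_mul_card_le B C
    have h3 : B ⊓ C ≤ V ⊓ Subgroup.centralizer (A : Set G) := by
      intro x hx
      refine ⟨hx.2.1, ?_⟩
      show x ∈ Subgroup.centralizer (A : Set G)
      rw [Subgroup.mem_centralizer_iff]
      intro a ha
      exact helper3.ea_comm hA.1 ha (hBA hx.1)
    have h4 : Nat.card (B ⊓ C : Subgroup G) ≤ Nat.card ↥(V ⊓ Subgroup.centralizer (A : Set G)) :=
      Subgroup.card_le_of_le h3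
    calc Nat.card B * Nat.card C ≤ Nat.card (B ⊔ C : Subgroup G) * Nat.card (B ⊓ C : Subgroup G) := h2
      _ ≤ Nat.card A * Nat.card ↥(V ⊓ Subgroup.centralizer (A : Set G)) := Nat.mul_le_mul h1 h4
  · rw [Subgroup.commutator_le]
    intro a ha b hb
    have : ⁅a, b⁆ = 1 := by
      rw [commutatorElement_eq_one_iff_mul_comm]
      exact helper3.ea_comm hA.1 ha hb
    rw [this]
    exact Subgroup.one_mem _
  · intro a ha
    rw [hA.1.2 a ha]
    exact Subgroup.one_mem _

end Cfsg.Agent.S0606
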