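import Mathlib
import Cfsg.Statements.S3982
import Cfsg.Agent.Lib_helper5_Sylow

set_option autoImplicit false
open Cfsg
open scoped Pointwise

namespace Cfsg.Agent.S3982

theorem mem_normalizer_of_finite {G : Type*} [Group G] (H : Subgroup G) [Finite H] (g : G)
    (h : ∀ x ∈ H, g * x * g⁻¹ ∈ H) : g ∈ Subgroup.normalizer (H : Set G) := by
  let φ : H → H := fun x => ⟨g * x * g⁻¹, h x x.2⟩
  have hinj : Function.Injective φ := by
    intro a b hab
    have := congrArg Subtype.val hab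
    simp only [φ] at this
    apply Subtype.ext
    have h2 : (a : G) = g⁻¹ * (g * a * g⁻¹) * g := by group
    rw [h2, this]; group
  have hsurj : Function.Surjective φ := Finite.surjective_of_injective hinj
  rw [Subgroup.mem_normalizer_iff]
  intro x
  constructor
  · exact h x
  · intro hx
    obtain ⟨s, hs⟩ := hsurj ⟨g * x * g⁻¹, hx⟩
    have := congrArg Subtype.val hs
    simp only [φ] at this
    have h2 : x = g⁻¹ * (g * x * g⁻¹) * g := by group
    rw [h2, ← this]
    have h3 : g⁻¹ * (g * (s : G) * g⁻¹) * g = s := by group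
    rw [h3]; exact s.2

/-- A fixed-point-free involution acting on a finite subgroup inverts it. -/
theorem inverts_of_fpf {G : Type*} [Group G] (R : Subgroup G) [Finite R] (t : G) (ht : t * t = 1)
    (hN : ∀ g ∈ R, t * g * t⁻¹ ∈ R) (hfpf : ∀ g ∈ R, t * g = g * t → g = 1) :
    ∀ g ∈ R, t * g * t⁻¹ = g⁻¹ := by
  have htinv : t⁻¹ = t := inv_eq_of_mul_eq_one_right ht
  let φ : R → R := fun g => ⟨(g : G)⁻¹ * (t * g * t⁻¹), R.mul_mem (R.inv_mem g.2) (hN g g.2)⟩
  have hinj : Function.Injective φ := by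
    intro a b hab
    have h1 := congrArg Subtype.val hab
    simp only [φ] at h1
    have h2 : t * ((a : G) * (b : G)⁻¹) = ((a : G) * (b : G)⁻¹) * t := by
      have h3 : t * (a : G) = (a : G) * ((a : G)⁻¹ * (t * a * t⁻¹)) * t := by group
      rw [h1] at h3
      calc t * ((a : G) * (b : G)⁻¹) = (t * (a : G)) * (b : G)⁻¹ := by group
        _ = ((a : G) * ((b : G)⁻¹ * (t * b * t⁻¹)) * t) * (b : G)⁻¹ := by rw [h3]
        _ = ((a : G) * (b : G)⁻¹) * t := by group
    have h4 := hfpf _ (R.mul_mem a.2 (R.inv_mem b.2)) h2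
    apply Subtype.ext
    exact mul_inv_eq_one.mp h4
  have hsurj := Finite.surjective_of_injective hinj
  intro g hg
  obtain ⟨a, ha⟩ := hsurj ⟨g, hg⟩
  have h1 := congrArg Subtype.val ha
  simp only [φ] at h1
  subst h1
  have e1 : t * ((a : G)⁻¹ * (t * a * t⁻¹)) * t⁻¹ = t * (a : G)⁻¹ * t * a * (t * t)⁻¹ := by group
  have e2 : ((a : G)⁻¹ * (t * a * t⁻¹))⁻¹ = t * (a : G)⁻¹ * t⁻¹ * a := by group
  rw [e1, e2, ht, htinv]
  simp

/-- Main step. -/
theorem mem_centralizer_of_inverting {G : Type*} [Group G] [Finite G] (p : ℕ) [Fact p.Prime]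
    (R : Subgroup G) (t : G) (ht : t * t = 1)
    (hinv : ∀ g ∈ R, t * g * t⁻¹ = g⁻¹)
    (hCodd : Odd (Nat.card (Subgroup.centralizer (R : Set G))))
    (hCt : ∀ c : G, t * c = c * t → (orderOf c).Coprime p)
    (s : G) (hs : s ∈ Subgroup.normalizer (R : Set G)) (k : ℕ) (hsk : s ^ (p ^ k) = 1) :
    s ∈ Subgroup.centralizer (R : Set G) := by
  have htinv : t⁻¹ = t := inv_eq_of_mul_eq_one_right ht
  have hsN : ∀ g ∈ R, s * g * s⁻¹ ∈ R := fun g hg => (Subgroup.mem_normalizer_iff.mp hs g).mp hg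
  have hsN' : ∀ g ∈ R, s⁻¹ * g * s ∈ R := fun g hg => (Subgroup.mem_normalizer_iff''.mp hs g).mp hg
  set t' := s * t * s⁻¹ with ht'def
  have ht' : t' * t' = 1 := by
    have : t' * t' = s * (t * t) * s⁻¹ := by rw [ht'def]; group
    rw [this, ht]; group
  have ht'inv : t'⁻¹ = t' := inv_eq_of_mul_eq_one_right ht'
  have hinv' : ∀ g ∈ R, t' * g * t'⁻¹ = g⁻¹ := by
    intro g hg
    have h1 := hinv _ (hsN' g hg)
    have h2 : t' * g * t'⁻¹ = s * (t * (s⁻¹ * g * s) * t⁻¹) * s⁻¹ := by rw [ht'def]; group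
    rw [h2, h1]; group
  set u := t * t' with hudef
  have hu : ∀ g ∈ R, u * g * u⁻¹ = g := by
    intro g hg
    have h1 : u * g * u⁻¹ = t * (t' * g * t'⁻¹) * t⁻¹ := by rw [hudef]; group
    rw [h1, hinv' g hg, hinv _ (R.inv_mem hg), inv_inv]
  have huC : u ∈ Subgroup.centralizer (R : Set G) := by
    rw [Subgroup.mem_centralizer_iff]
    intro g hg
    have h1 := hu g hg
    calc g * u = (u * g * u⁻¹) * u := by rw [h1]
      _ = u * g := by group
  have hodd : Odd (orderOf u) :=
    Odd.of_dvd_nat hCodd (Subgroup.orderOf_dvd_natCard _ huC)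
  obtain ⟨j, hj⟩ := hodd
  have htu : t * u = u⁻¹ * t := by
    have h1 : u⁻¹ = t' * t := by
      rw [hudef, mul_inv_rev, htinv, ht'inv]
    rw [h1, hudef]
    calc t * (t * t') = (t * t) * t' := by group
      _ = t' := by rw [ht, one_mul]
      _ = t' * (t * t) := by rw [ht, mul_one]
      _ = t' * t * t := by group
  have htd : ∀ n : ℕ, t * u ^ n = (u ^ n)⁻¹ * t := by
    intro n
    induction n with
    | zero => simp
    | succ n ih =>
      calc t * u ^ (n + 1) = (t * u ^ n) * u := by rw [pow_succ]; group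
        _ = (u ^ n)⁻¹ * (t * u) := by rw [ih]; group
        _ = (u ^ n)⁻¹ * (u⁻¹ * t) := by rw [htu]
        _ = (u ^ (n + 1))⁻¹ * t := by rw [pow_succ]; group
  set d := u ^ j with hddef
  have hdC : d ∈ Subgroup.centralizer (R : Set G) := Subgroup.pow_mem _ huC j
  have hdt : d * t * d⁻¹ = t' := by
    have h1 : t * d = d⁻¹ * t := htd j
    have h2 : t * d⁻¹ = d * t := by
      calc t * d⁻¹ = d * (d⁻¹ * t) * d⁻¹ := by group
        _ = d * (t * d) * d⁻¹ := by rw [h1]
        _ = d * t := by group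
    have h3 : u ^ (2 * j) * u = 1 := by
      rw [← pow_succ, ← hj, pow_orderOf_eq_one]
    have h4 : d * d = u⁻¹ := by
      have : d * d = u ^ (2 * j) := by rw [hddef, ← pow_add, two_mul]
      rw [this]
      exact eq_inv_of_mul_eq_one_left h3
    calc d * t * d⁻¹ = d * (t * d⁻¹) := by group
      _ = d * (d * t) := by rw [h2]
      _ = (d * d) * t := by group
      _ = u⁻¹ * t := by rw [h4]
      _ = t * u := htu.symm
      _ = (t * t) * t' := by rw [hudef]; group
      _ = t' := by rw [ht, one_mul]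
  set c := d⁻¹ * s with hcdef
  have hct : t * c = c * t := by
    have h1 : t = c * t * c⁻¹ := by
      have : c * t * c⁻¹ = d⁻¹ * (s * t * s⁻¹) * d := by rw [hcdef]; group
      rw [this, ← ht'def, ← hdt]; group
    calc t * c = (c * t * c⁻¹) * c := by rw [← h1]
      _ = c * t := by group
  have hcop := hCt c hct
  have hagree : ∀ g ∈ R, c * g * c⁻¹ = s * g * s⁻¹ := by
    intro g hg
    have h1 := hsN g hg
    have h2 : (s * g * s⁻¹) * d = d * (s * g * s⁻¹) := (Subgroup.mem_centralizer_iff.mp hdC) _ h1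
    calc c * g * c⁻¹ = d⁻¹ * ((s * g * s⁻¹) * d) := by rw [hcdef]; group
      _ = d⁻¹ * (d * (s * g * s⁻¹)) := by rw [h2]
      _ = s * g * s⁻¹ := by group
  have hpow : ∀ n : ℕ, ∀ g ∈ R, c ^ n * g * (c ^ n)⁻¹ = s ^ n * g * (s ^ n)⁻¹ ∧
      s ^ n * g * (s ^ n)⁻¹ ∈ R := by
    intro n
    induction n with
    | zero => intro g hg; simpa using hg
    | succ n ih =>
      intro g hg
      obtain ⟨h1, h2⟩ := ih g hg
      have h3 : s ^ (n + 1) * g * (s ^ (n + 1))⁻¹ = s * (s ^ n * g * (s ^ n)⁻¹) * s⁻¹ := by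
        rw [pow_succ']; group
      refine ⟨?_, ?_⟩
      · calc c ^ (n + 1) * g * (c ^ (n + 1))⁻¹ = c * (c ^ n * g * (c ^ n)⁻¹) * c⁻¹ := by
              rw [pow_succ']; group
          _ = c * (s ^ n * g * (s ^ n)⁻¹) * c⁻¹ := by rw [h1]
          _ = s * (s ^ n * g * (s ^ n)⁻¹) * s⁻¹ := hagree _ h2
          _ = s ^ (n + 1) * g * (s ^ (n + 1))⁻¹ := h3.symm
      · rw [h3]; exact hsN _ h2
  have hcpk : c ^ (p ^ k) ∈ Subgroup.centralizer (R : Set G) := by
    rw [Subgroup.mem_centralizer_iff]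
    intro g hg
    have h1 := (hpow (p ^ k) g hg).1
    rw [hsk] at h1
    simp only [one_mul, inv_one, mul_one] at h1
    calc g * c ^ (p ^ k) = (c ^ (p ^ k) * g * (c ^ (p ^ k))⁻¹) * c ^ (p ^ k) := by rw [h1]
      _ = c ^ (p ^ k) * g := by group
  have hcop' : (p ^ k).Coprime (orderOf c) := (Nat.Coprime.pow_right k hcop).symm
  obtain ⟨m, hm⟩ := exists_pow_eq_self_of_coprime hcop'
  have hcC : c ∈ Subgroup.centralizer (R : Set G) := by
    rw [← hm]; exact Subgroup.pow_mem _ hcpk m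
  have : s = d * c := by rw [hcdef]; group
  rw [this]
  exact Subgroup.mul_mem _ hdC hcC

theorem result {G : Type*} [Group G] [Finite G] (p : ℕ) [Fact p.Prime] (hp2 : p ≠ 2) (hpG : p ∣ Nat.card G) (h2G : 2 ∣ Nat.card G) (hC : ∀ g : G, g ≠ 1 → (∃ k : ℕ, orderOf g = p ^ k) → Odd (Nat.card ↥(Subgroup.centralizer ({g} : Set G)))) (Q : Subgroup G) (hQ : IsPGroup p ↥Q) (hQ1 : Q ≠ ⊥) (hev : Even (Nat.card ↥(Subgroup.normalizer (Q : Set G)))) (P : Sylow p G) : Even (Nat.card ↥(Subgroup.normalizer ((P : Subgroup G) : Set G))) := by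
  have hpp : p.Prime := Fact.out
  -- no involution commutes with a nontrivial p-element
  have no_comm : ∀ t g : G, orderOf t = 2 → g ≠ 1 → (∃ k : ℕ, orderOf g = p ^ k) →
      t * g ≠ g * t := by
    intro t g ht hg hgk hcomm
    have h1 := hC g hg hgk
    have h2 : t ∈ Subgroup.centralizer ({g} : Set G) := by
      rw [Subgroup.mem_centralizer_singleton_iff]; exact hcomm
    have h3 := Subgroup.orderOf_dvd_natCard _ h2
    rw [ht] at h3
    exact (Nat.not_even_iff_odd.mpr h1) (even_iff_two_dvd.mpr h3)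
  -- the family
  let 𝒮 : Set (Subgroup G) := {R | IsPGroup p R ∧ R ≠ ⊥ ∧
    Even (Nat.card (Subgroup.normalizer (R : Set G)))}
  have hne : Nonempty 𝒮 := ⟨⟨Q, hQ, hQ1, hev⟩⟩
  obtain ⟨⟨R₀, hR₀p, hR₀1, hR₀ev⟩, hmax⟩ := Finite.exists_max (fun R : 𝒮 => Nat.card (R : Subgroup G))
  have hmax' : ∀ R : Subgroup G, IsPGroup p R → R ≠ ⊥ →
      Even (Nat.card (Subgroup.normalizer (R : Set G))) → Nat.card R ≤ Nat.card R₀ :=
    fun R h1 h2 h3 => hmax ⟨R, h1, h2, h3⟩
  -- R₀ is a Sylow subgroup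
  obtain ⟨P₀, hle⟩ := hR₀p.exists_le_sylow
  have hEq : R₀ = (P₀ : Subgroup G) := by
    by_contra hneq
    have hlt : R₀ < (P₀ : Subgroup G) := lt_of_le_of_ne hle hneq
    obtain ⟨x, hxP, hxR, hxN⟩ :=
      Cfsg.Agent.helper5.exists_mem_normalizer_not_mem p (P₀ : Subgroup G) R₀ P₀.isPGroup' hlt
    -- an involution in the normalizer
    obtain ⟨t₀, ht₀⟩ := exists_prime_orderOf_dvd_card' (G := Subgroup.normalizer (R₀ : Set G)) 2
      (even_iff_two_dvd.mp hR₀ev)
    set t : G := (t₀ : G) with htdef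
    have hto : orderOf t = 2 := by rw [htdef, Subgroup.orderOf_coe]; exact ht₀
    have htN : t ∈ Subgroup.normalizer (R₀ : Set G) := t₀.2
    have ht : t * t = 1 := by
      have := pow_orderOf_eq_one t
      rw [hto, sq] at this; exact this
    have hpel : ∀ g ∈ R₀, ∃ k : ℕ, orderOf g = p ^ k := by
      intro g hg
      obtain ⟨k, hk⟩ := (IsPGroup.iff_orderOf.mp hR₀p) ⟨g, hg⟩
      exact ⟨k, by rw [← hk, Subgroup.orderOf_mk]⟩
    have hfpf : ∀ g ∈ R₀, t * g = g * t → g = 1 := by
      intro g hg hcomm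
      by_contra hg1
      exact no_comm t g hto hg1 (hpel g hg) hcomm
    have htNR : ∀ g ∈ R₀, t * g * t⁻¹ ∈ R₀ :=
      fun g hg => (Subgroup.mem_normalizer_iff.mp htN g).mp hg
    have hinv := inverts_of_fpf R₀ t ht htNR hfpf
    -- nontrivial element of R₀
    obtain ⟨g₀, hg₀R, hg₀1⟩ : ∃ g ∈ R₀, g ≠ 1 := by
      by_contra hcon
      push Not at hcon
      exact hR₀1 ((Subgroup.eq_bot_iff_forall _).mpr hcon)
    set C := Subgroup.centralizer (R₀ : Set G) with hCdef
    have hCodd : Odd (Nat.card C) := by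
      have h1 : C ≤ Subgroup.centralizer ({g₀} : Set G) :=
        Subgroup.centralizer_le (by
          intro y hy
          rw [Set.mem_singleton_iff] at hy
          rw [hy]; exact hg₀R)
      exact Odd.of_dvd_nat (hC g₀ hg₀1 (hpel g₀ hg₀R)) (Subgroup.card_dvd_of_le h1)
    have hCt : ∀ c : G, t * c = c * t → (orderOf c).Coprime p := by
      intro c hc
      rw [Nat.coprime_comm, Nat.Prime.coprime_iff_not_dvd hpp]
      intro hdvd
      have ho : orderOf c ≠ 0 := (orderOf_pos c).ne'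
      have h1 : orderOf (c ^ (orderOf c / p)) = p := orderOf_pow_orderOf_div ho hdvd
      have h2 : c ^ (orderOf c / p) ≠ 1 := by
        intro h
        rw [h, orderOf_one] at h1
        exact hpp.one_lt.ne h1
      have h3 : t * c ^ (orderOf c / p) = c ^ (orderOf c / p) * t :=
        (Commute.pow_right (show Commute t c from hc) _).eq
      exact no_comm t _ hto h2 ⟨1, by rw [h1, pow_one]⟩ h3
    -- S
    set S : Subgroup G := (P₀ : Subgroup G) ⊓ Subgroup.normalizer (R₀ : Set G) with hSdef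
    have hSC : S ≤ C := by
      intro s hs
      obtain ⟨hsP, hsN⟩ := Subgroup.mem_inf.mp hs
      obtain ⟨k, hk⟩ := P₀.isPGroup' ⟨s, hsP⟩
      have hk' : s ^ (p ^ k) = 1 := by
        have := congrArg Subtype.val hk
        simpa using this
      exact mem_centralizer_of_inverting p R₀ t ht hinv hCodd hCt s hsN k hk'
    have hRS : R₀ ≤ S := le_inf hle Subgroup.le_normalizer
    have hxS : x ∈ S := Subgroup.mem_inf.mpr ⟨hxP, hxN⟩
    have hRSlt : R₀ < S := lt_of_le_of_ne hRS (fun h => hxR (h ▸ hxS))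
    have hSp : IsPGroup p S := P₀.isPGroup'.to_le inf_le_left
    -- Sylow subgroup of C containing S
    obtain ⟨S₁, hS₁⟩ := (hSp.comap_subtype (K := C)).exists_le_sylow
    set Sst : Subgroup G := (S₁ : Subgroup C).map C.subtype with hSstdef
    have hSstC : Sst ≤ C := Subgroup.map_subtype_le _
    have hSstp : IsPGroup p Sst := S₁.isPGroup'.map _
    have hSSst : S ≤ Sst := by
      intro s hs
      have h1 : (⟨s, hSC hs⟩ : C) ∈ S.subgroupOf C := by
        rw [Subgroup.mem_subgroupOf]; exact hs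
      exact Subgroup.mem_map.mpr ⟨⟨s, hSC hs⟩, hS₁ h1, rfl⟩
    have hcard : Nat.card Sst = p ^ (Nat.card C).factorization p := by
      rw [hSstdef, Subgroup.card_subtype]
      exact S₁.card_eq_multiplicity
    -- t normalizes C
    have htC : ∀ c ∈ C, t * c * t⁻¹ ∈ C := by
      intro c hc
      rw [hCdef, Subgroup.mem_centralizer_iff]
      intro g hg
      have h1 : t⁻¹ * g * t ∈ R₀ := (Subgroup.mem_normalizer_iff''.mp htN g).mp hg
      have h2 : (t⁻¹ * g * t) * c = c * (t⁻¹ * g * t) := (Subgroup.mem_centralizer_iff.mp hc) _ h1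
      calc g * (t * c * t⁻¹) = t * ((t⁻¹ * g * t) * c) * t⁻¹ := by group
        _ = t * (c * (t⁻¹ * g * t)) * t⁻¹ := by rw [h2]
        _ = t * c * t⁻¹ * g := by group
    set T : Subgroup G := Sst.map (MulAut.conj t).toMonoidHom with hTdef
    have hTp : IsPGroup p T := hSstp.map _
    have hTC : T ≤ C := by
      intro y hy
      obtain ⟨x', hx', rfl⟩ := Subgroup.mem_map.mp hy
      simp only [MulEquiv.coe_toMonoidHom, MulAut.conj_apply]
      exact htC x' (hSstC hx')
    obtain ⟨z, hzC, hz⟩ :=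
      Cfsg.Agent.helper5.exists_conj_le_of_card p C Sst hSstC hcard T hTp hTC
    set w := z⁻¹ * t with hwdef
    have hwN : w ∈ Subgroup.normalizer (Sst : Set G) := by
      apply mem_normalizer_of_finite
      intro y hy
      have h1 : t * y * t⁻¹ ∈ T := Subgroup.mem_map.mpr ⟨y, hy, by simp⟩
      have h2 := hz _ h1
      have h3 : w * y * w⁻¹ = z⁻¹ * (t * y * t⁻¹) * z := by rw [hwdef]; group
      rw [h3]; exact h2
    have htnotC : t ∉ C := by
      intro htC'
      have h1 : g₀ * t = t * g₀ := (Subgroup.mem_centralizer_iff.mp htC') g₀ hg₀R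
      exact hg₀1 (hfpf g₀ hg₀R h1.symm)
    have hw2 : 2 ∣ orderOf w := by
      by_contra hnd
      have hoddw : Odd (orderOf w) := by
        rw [← Nat.not_even_iff_odd, even_iff_two_dvd]; exact hnd
      obtain ⟨j, hj⟩ := hoddw
      have hwsq : w * w ∈ C := by
        have h1 : w * w = z⁻¹ * (t * z⁻¹ * t⁻¹) * (t * t) := by rw [hwdef]; group
        rw [h1, ht, mul_one]
        exact Subgroup.mul_mem _ (Subgroup.inv_mem _ hzC) (htC _ (Subgroup.inv_mem _ hzC))
      have h2 : w = (w * w) ^ (j + 1) := by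
        have : (w * w) ^ (j + 1) = w ^ (2 * j + 1) * w := by
          rw [← sq, ← pow_mul, ← pow_succ]; congr 1
        rw [this, ← hj, pow_orderOf_eq_one, one_mul]
      have hwC : w ∈ C := by rw [h2]; exact Subgroup.pow_mem _ hwsq _
      have : t = z * w := by rw [hwdef]; group
      exact htnotC (this ▸ Subgroup.mul_mem _ hzC hwC)
    have hSstev : Even (Nat.card (Subgroup.normalizer (Sst : Set G))) := by
      rw [even_iff_two_dvd]
      exact dvd_trans hw2 (Subgroup.orderOf_dvd_natCard _ hwN)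
    have hSst1 : Sst ≠ ⊥ := by
      intro h
      have : g₀ ∈ Sst := hSSst (hRS hg₀R)
      rw [h, Subgroup.mem_bot] at this
      exact hg₀1 this
    have h1 := hmax' Sst hSstp hSst1 hSstev
    have h2 : Nat.card R₀ < Nat.card S := Cfsg.Agent.helper5.card_lt_of_lt hRSlt
    have h3 : Nat.card S ≤ Nat.card Sst := Subgroup.card_le_of_le hSSst
    omega
  -- transfer to P
  have hidx : (Subgroup.normalizer ((P : Subgroup G) : Set G)).index =
      (Subgroup.normalizer ((P₀ : Subgroup G) : Set G)).index := by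
    exact (Sylow.card_eq_index_normalizer P).symm.trans (Sylow.card_eq_index_normalizer P₀)
  have h1 := Subgroup.card_mul_index (Subgroup.normalizer ((P : Subgroup G) : Set G))
  have h2 := Subgroup.card_mul_index (Subgroup.normalizer ((P₀ : Subgroup G) : Set G))
  have hidx0 : (Subgroup.normalizer ((P₀ : Subgroup G) : Set G)).index ≠ 0 :=
    Subgroup.index_ne_zero_of_finite
  have h3 : Nat.card (Subgroup.normalizer ((P : Subgroup G) : Set G)) =
      Nat.card (Subgroup.normalizer ((P₀ : Subgroup G) : Set G)) := by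
    rw [hidx, ← h2] at h1
    exact Nat.eq_of_mul_eq_mul_right (Nat.pos_of_ne_zero hidx0) h1
  rw [h3, ← hEq]
  exact hR₀ev

end Cfsg.Agent.S3982
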