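import Mathlib
import Cfsg.Agent.S0606
import Cfsg.Agent.S3982
import Cfsg.Agent.Lib_helper1_PGroup

set_option autoImplicit false

/-! 2-groups with a cyclic subgroup of index at most 2: automorphisms of odd order prime to 3 are trivial
(elementwise version inside an ambient finite group). -/

namespace Cfsg.Agent.helper20

/-- conjugation by `g` acting on a cyclic group `⟨c⟩` as `c ↦ c ^ m` -/
theorem conj_pow_iter_cyc2 {G : Type*} [Group G] (g c : G) (m : ℕ) (h : g * c * g⁻¹ = c ^ m) (j : ℕ) :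
    g ^ j * c * (g ^ j)⁻¹ = c ^ (m ^ j) := by
  induction j with
  | zero => simp
  | succ j ih =>
    have h1 : g ^ (j + 1) * c * (g ^ (j + 1))⁻¹ = g * (g ^ j * c * (g ^ j)⁻¹) * g⁻¹ := by
      rw [pow_succ']; group
    rw [h1, ih]
    have h2 : g * c ^ (m ^ j) * g⁻¹ = (g * c * g⁻¹) ^ (m ^ j) := (conj_pow).symm
    rw [h2, h, ← pow_mul, pow_succ']

/-- an element normalizing `⟨c⟩` whose order is prime to `φ(|c|)` centralizes `c` -/
theorem commute_of_normalizes_zpowers {G : Type*} [Group G] [Finite G] (g c : G)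
    (hN : g * c * g⁻¹ ∈ Subgroup.zpowers c)
    (hco : Nat.Coprime (Nat.totient (orderOf c)) (orderOf g)) : g * c = c * g := by
  have hfin : IsOfFinOrder c := isOfFinOrder_of_finite c
  rw [← mem_powers_iff_mem_zpowers, Submonoid.mem_powers_iff] at hN
  obtain ⟨m, hm⟩ := hN
  have hord : orderOf (c ^ m) = orderOf c := by
    rw [hm]
    have := MulEquiv.orderOf_eq (MulAut.conj g) c
    simpa [MulAut.conj_apply] using this
  have hcop : Nat.Coprime m (orderOf c) := by
    rw [orderOf_pow] at hord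
    have hpos : 0 < orderOf c := orderOf_pos c
    have hg1 : Nat.gcd (orderOf c) m = 1 := by
      have h3 : orderOf c / Nat.gcd (orderOf c) m * Nat.gcd (orderOf c) m = orderOf c :=
        Nat.div_mul_cancel (Nat.gcd_dvd_left _ _)
      rw [hord] at h3
      have h4 : orderOf c * Nat.gcd (orderOf c) m = orderOf c * 1 := by rw [mul_one]; exact h3
      exact Nat.eq_of_mul_eq_mul_left hpos h4
    rw [Nat.coprime_comm]; exact hg1
  have hpow := Nat.ModEq.pow_totient hcop
  have hj := conj_pow_iter_cyc2 g c m hm.symm (Nat.totient (orderOf c))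
  have hc1 : c ^ (m ^ Nat.totient (orderOf c)) = c := by
    have := pow_eq_pow_iff_modEq.mpr hpow
    rw [this, pow_one]
  rw [hc1] at hj
  -- g^φ commutes with c
  have hcomm : Commute (g ^ Nat.totient (orderOf c)) c := by
    have : g ^ Nat.totient (orderOf c) * c = c * g ^ Nat.totient (orderOf c) := by
      have := congrArg (fun t => t * g ^ Nat.totient (orderOf c)) hj
      simpa [mul_assoc] using this
    exact this
  obtain ⟨t, ht⟩ := exists_pow_eq_self_of_coprime hco
  have : Commute g c := by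
    rw [← ht]
    exact hcomm.pow_left t
  exact this.eq

/-- index two subgroups behave like kernels of maps to `ℤ/2` -/
theorem idx2_mul_mem {G : Type*} [Group G] [Finite G] (Q M : Subgroup G) (hMQ : M ≤ Q)
    (hcard : Nat.card M * 2 = Nat.card Q) (a b : G) (ha : a ∈ Q) (hb : b ∈ Q) :
    a * b ∈ M ↔ (a ∈ M ↔ b ∈ M) := by
  have hidx : (M.subgroupOf Q).index = 2 := by
    have h1 := Subgroup.card_mul_index (M.subgroupOf Q)
    have h2 : Nat.card (M.subgroupOf Q) = Nat.card M :=
      Nat.card_congr (Subgroup.subgroupOfEquivOfLe hMQ).toEquiv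
    rw [h2, ← hcard] at h1
    exact Nat.eq_of_mul_eq_mul_left Nat.card_pos h1
  have := Subgroup.mul_mem_iff_of_index_two hidx (a := (⟨a, ha⟩ : Q)) (b := ⟨b, hb⟩)
  simpa [Subgroup.mem_subgroupOf] using this

theorem idx2_inv_mem {G : Type*} [Group G] (M : Subgroup G) (a : G) : a⁻¹ ∈ M ↔ a ∈ M := inv_mem_iff

/-- an index-two subgroup of a group generated by `c, d` is determined by its pattern on `c, d` -/
theorem idx2_eq_of_pattern {G : Type*} [Group G] [Finite G] (Q M M' : Subgroup G) (hMQ : M ≤ Q)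
    (hM'Q : M' ≤ Q) (hcard : Nat.card M * 2 = Nat.card Q) (hcard' : Nat.card M' * 2 = Nat.card Q)
    (c d : G) (hc : c ∈ Q) (hd : d ∈ Q) (hgen : Q ≤ Subgroup.closure {c, d})
    (hpc : c ∈ M ↔ c ∈ M') (hpd : d ∈ M ↔ d ∈ M') : M = M' := by
  let K : Subgroup G :=
    { carrier := {w | w ∈ Q ∧ (w ∈ M ↔ w ∈ M')}
      one_mem' := ⟨Q.one_mem, by simp [M.one_mem, M'.one_mem]⟩
      mul_mem' := by
        rintro a b ⟨ha, ha'⟩ ⟨hb, hb'⟩
        refine ⟨Q.mul_mem ha hb, ?_⟩
        rw [idx2_mul_mem Q M hMQ hcard a b ha hb, idx2_mul_mem Q M' hM'Q hcard' a b ha hb, ha', hb']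
      inv_mem' := by
        rintro a ⟨ha, ha'⟩
        refine ⟨Q.inv_mem ha, ?_⟩
        rw [inv_mem_iff, inv_mem_iff]; exact ha' }
  have hK : Subgroup.closure {c, d} ≤ K := by
    rw [Subgroup.closure_le]
    intro w hw
    rcases hw with rfl | hw
    · exact ⟨hc, hpc⟩
    · rw [Set.mem_singleton_iff] at hw
      rw [hw]; exact ⟨hd, hpd⟩
  apply le_antisymm
  · intro w hw
    exact ((hK (hgen (hMQ hw))).2).mp hw
  · intro w hw
    exact ((hK (hgen (hM'Q hw))).2).mpr hw

/-- if a power `g ^ t` with `t` prime to the order of `g` normalizes `M` so does `g` -/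
theorem mem_normalizer_of_pow_mem {G : Type*} [Group G] (M : Subgroup G) (g : G) (t : ℕ)
    (hco : Nat.Coprime t (orderOf g)) (h : g ^ t ∈ Subgroup.normalizer (M : Set G)) :
    g ∈ Subgroup.normalizer (M : Set G) := by
  obtain ⟨s, hs⟩ := exists_pow_eq_self_of_coprime hco
  rw [← hs]
  exact Subgroup.pow_mem _ h s

/-- in a finite 2-group `Q`, an element not generating `Q` lies in a subgroup of index two -/
theorem exists_idx2_containing {G : Type*} [Group G] [Finite G] (Q : Subgroup G) (hQ : IsPGroup 2 Q)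
    (y : G) (hy : y ∈ Q) (hne : Subgroup.zpowers y ≠ Q) :
    ∃ M : Subgroup G, M ≤ Q ∧ y ∈ M ∧ Nat.card M * 2 = Nat.card Q := by
  have : Fact (Nat.Prime 2) := ⟨Nat.prime_two⟩
  have hne' : Subgroup.zpowers (⟨y, hy⟩ : Q) ≠ ⊤ := by
    intro htop
    apply hne
    have h1 : (Subgroup.zpowers (⟨y, hy⟩ : Q)).map Q.subtype = Subgroup.zpowers y := by
      rw [MonoidHom.map_zpowers]; rfl
    rw [← h1, htop, ← MonoidHom.range_eq_map, Subgroup.range_subtype]
  obtain ⟨M', hM', hle⟩ := (eq_top_or_exists_le_coatom (Subgroup.zpowers (⟨y, hy⟩ : Q))).resolve_left hne'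
  have hidx := Cfsg.Agent.helper1.coatom_index_of_isPGroup hQ hM'
  refine ⟨M'.map Q.subtype, Subgroup.map_subtype_le M', ?_, ?_⟩
  · refine ⟨⟨y, hy⟩, hle (Subgroup.mem_zpowers _), rfl⟩
  · have h1 : Nat.card (M'.map Q.subtype) = Nat.card M' :=
      (Nat.card_congr (M'.equivMapOfInjective Q.subtype Q.subtype_injective).toEquiv).symm
    rw [h1, ← hidx]
    exact Subgroup.card_mul_index M'

end Cfsg.Agent.helper20
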