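import Mathlib

set_option autoImplicit false
set_option linter.style.haveILetI false
set_option linter.unusedSectionVars false
set_option maxRecDepth 100000

/-! Transitive groups of degree 7: function-level certificates on `ZMod 7`. -/

namespace Cfsg.Agent.helper20.D7

abbrev Z7 := ZMod 7

/-- lookup function of a list -/
def ofL (l : List Z7) : Z7 → Z7 := fun x => l.getD x.val 0

def t1 : Z7 → Z7 := ofL [0, 3, 6, 1, 5, 4, 2]
def t2 : Z7 → Z7 := ofL [0, 5, 3, 2, 6, 1, 4]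

/-- third point of the line through `a`, `b` in the plane given by `t` -/
def third (t : Z7 → Z7) (a b : Z7) : Z7 := a + t (b - a)

def fanoF (t : Z7 → Z7) (v : Z7 → Z7) : Prop :=
  ∀ a b : Z7, a ≠ b → v (third t a b) = third t (v a) (v b)

instance (t v : Z7 → Z7) : Decidable (fanoF t v) := by unfold fanoF; infer_instance

def affF (v : Z7 → Z7) : Prop := ∀ x : Z7, v x = (v 1 - v 0) * x + v 0

instance (v : Z7 → Z7) : Decidable (affF v) := by unfold affF; infer_instance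

def moved (w : Z7 → Z7) : ℕ := (Finset.univ.filter (fun x => w x ≠ x)).card

def jordanF (w : Z7 → Z7) : Prop := moved w = 2 ∨ moved w = 3

instance (w : Z7 → Z7) : Decidable (jordanF w) := by unfold jordanF; infer_instance

/-- evaluation of the word `v T^{a_n} ... v T^{a_1}` -/
def ev (v : Z7 → Z7) : List Z7 → Z7 → Z7
  | [], x => x
  | a :: as, x => ev v as (v (x + a))

def mk (a1 a2 a3 a4 a5 a6 : Z7) : Z7 → Z7 := ofL [0, a1, a2, a3, a4, a5, a6]

/-- quantification over all permutations fixing `0` -/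
def AllPerm0 (P : (Z7 → Z7) → Prop) : Prop :=
  ∀ a1 : Z7, a1 ≠ 0 →
  ∀ a2 : Z7, a2 ≠ 0 → a2 ≠ a1 →
  ∀ a3 : Z7, a3 ≠ 0 → a3 ≠ a1 → a3 ≠ a2 →
  ∀ a4 : Z7, a4 ≠ 0 → a4 ≠ a1 → a4 ≠ a2 → a4 ≠ a3 →
  ∀ a5 : Z7, a5 ≠ 0 → a5 ≠ a1 → a5 ≠ a2 → a5 ≠ a3 → a5 ≠ a4 →
  ∀ a6 : Z7, a6 ≠ 0 → a6 ≠ a1 → a6 ≠ a2 → a6 ≠ a3 → a6 ≠ a4 → a6 ≠ a5 →
    P (mk a1 a2 a3 a4 a5 a6)

set_option synthInstance.maxHeartbeats 2000000 in
set_option synthInstance.maxSize 4096 in
instance (P : (Z7 → Z7) → Prop) [DecidablePred P] : Decidable (AllPerm0 P) := by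
  unfold AllPerm0; infer_instance

theorem eq_mk (v : Z7 → Z7) (h0 : v 0 = 0) : v = mk (v 1) (v 2) (v 3) (v 4) (v 5) (v 6) := by
  funext x
  fin_cases x
  · exact h0
  all_goals rfl

theorem AllPerm0.elim {P : (Z7 → Z7) → Prop} (h : AllPerm0 P) (v : Z7 → Z7)
    (hv : Function.Injective v) (h0 : v 0 = 0) : P v := by
  rw [eq_mk v h0]
  have ne : ∀ a b : Z7, a ≠ b → v a ≠ v b := fun a b hab h => hab (hv h)
  have ne0 : ∀ a : Z7, a ≠ 0 → v a ≠ 0 := fun a ha h => ha (hv (h.trans h0.symm))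
  exact h (v 1) (ne0 1 (by decide))
    (v 2) (ne0 2 (by decide)) (ne 2 1 (by decide))
    (v 3) (ne0 3 (by decide)) (ne 3 1 (by decide)) (ne 3 2 (by decide))
    (v 4) (ne0 4 (by decide)) (ne 4 1 (by decide)) (ne 4 2 (by decide)) (ne 4 3 (by decide))
    (v 5) (ne0 5 (by decide)) (ne 5 1 (by decide)) (ne 5 2 (by decide)) (ne 5 3 (by decide))
      (ne 5 4 (by decide))
    (v 6) (ne0 6 (by decide)) (ne 6 1 (by decide)) (ne 6 2 (by decide)) (ne 6 3 (by decide))
      (ne 6 4 (by decide)) (ne 6 5 (by decide))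

def fam : List (List Z7) :=
  [[1], [2], [4], [1, 2], [1, 5], [4, 5], [0], [0, 4], [1, 6], [0, 2], [2, 6], [0, 3], [0, 5],
   [5, 6], [2, 3], [3], [5], [6], [0, 1], [2, 5]]

def exps : List ℕ := [1, 2, 3, 4, 5]

def certF (v : Z7 → Z7) : Prop := ∃ as ∈ fam, ∃ e ∈ exps, jordanF ((ev v as)^[e])

instance (v : Z7 → Z7) : Decidable (certF v) := by unfold certF; infer_instance

set_option maxHeartbeats 4000000 in
theorem classify : AllPerm0 (fun v => affF v ∨ fanoF t1 v ∨ fanoF t2 v ∨ certF v) := by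
  decide +kernel


set_option maxHeartbeats 4000000 in
theorem inter_aff : AllPerm0 (fun v => fanoF t1 v → fanoF t2 v → affF v) := by
  decide +kernel

/-- every element of the point stabilizer is a normalized word of length 3 in `T` and `v` -/
def genF (t : Z7 → Z7) : Prop :=
  AllPerm0 (fun v => fanoF t v → ¬ affF v → AllPerm0 (fun k => fanoF t k →
    ∃ a b c : Z7, ∀ x : Z7, k x = ev v [a, b, c] x - ev v [a, b, c] 0))

instance (t : Z7 → Z7) : Decidable (genF t) := by unfold genF; infer_instance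

set_option maxHeartbeats 4000000 in
theorem gen1 : genF t1 := by decide +kernel

set_option maxHeartbeats 4000000 in
theorem gen2 : genF t2 := by decide +kernel

def rigidF (t : Z7 → Z7) : Prop :=
  AllPerm0 (fun v => fanoF t v → v 1 = 1 → v 2 = 2 → ∀ x : Z7, v x = x)

instance (t : Z7 → Z7) : Decidable (rigidF t) := by unfold rigidF; infer_instance

theorem rigid1 : rigidF t1 := by decide +kernel
theorem rigid2 : rigidF t2 := by decide +kernel

def ext1 (a b c : Z7) : Z7 → Z7 :=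
  ofL [a, b, c, third t1 a b, third t1 b c, third t1 c (third t1 a b), third t1 a c]
def ext2 (a b c : Z7) : Z7 → Z7 :=
  ofL [a, b, c, third t2 a c, third t2 b (third t2 a c), third t2 a b, third t2 b c]

def goodT (t : Z7 → Z7) (a b c : Z7) : Prop := a ≠ b ∧ c ≠ a ∧ c ≠ b ∧ c ≠ third t a b

instance (t : Z7 → Z7) (a b c : Z7) : Decidable (goodT t a b c) := by
  unfold goodT; infer_instance

def injF (v : Z7 → Z7) : Prop := ∀ x y : Z7, v x = v y → x = y

instance (v : Z7 → Z7) : Decidable (injF v) := by unfold injF; infer_instance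

def extOK (t : Z7 → Z7) (ext : Z7 → Z7 → Z7 → Z7 → Z7) : Prop :=
  ∀ a b c : Z7, goodT t a b c → injF (ext a b c) ∧ fanoF t (ext a b c)

instance (t : Z7 → Z7) (ext : Z7 → Z7 → Z7 → Z7 → Z7) : Decidable (extOK t ext) := by
  unfold extOK; infer_instance

set_option maxHeartbeats 4000000 in
theorem ext1_ok : extOK t1 ext1 := by decide +kernel
set_option maxHeartbeats 4000000 in
theorem ext2_ok : extOK t2 ext2 := by decide +kernel

theorem card_good1 : Fintype.card {p : Z7 × Z7 × Z7 // goodT t1 p.1 p.2.1 p.2.2} = 168 := by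
  decide +kernel
theorem card_good2 : Fintype.card {p : Z7 × Z7 × Z7 // goodT t2 p.1 p.2.1 p.2.2} = 168 := by
  decide +kernel

theorem aff7 : ∀ a b : Z7, (∀ x : Z7, (fun y => a * y + b)^[7] x = x) → a = 1 := by
  decide +kernel

/-- the data of a plane -/
structure Plane (t : Z7 → Z7) (ext : Z7 → Z7 → Z7 → Z7 → Z7) : Prop where
  gen : genF t
  rigid : rigidF t
  ext_ok : extOK t ext
  ext0 : ∀ a b c : Z7, ext a b c 0 = a
  ext1 : ∀ a b c : Z7, ext a b c 1 = b
  ext2 : ∀ a b c : Z7, ext a b c 2 = c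
  nc : third t 0 1 ≠ 2
  card : Fintype.card {p : Z7 × Z7 × Z7 // goodT t p.1 p.2.1 p.2.2} = 168

theorem plane1 : Plane t1 ext1 :=
  ⟨gen1, rigid1, ext1_ok, fun _ _ _ => rfl, fun _ _ _ => rfl, fun _ _ _ => rfl, by decide,
    card_good1⟩

theorem plane2 : Plane t2 ext2 :=
  ⟨gen2, rigid2, ext2_ok, fun _ _ _ => rfl, fun _ _ _ => rfl, fun _ _ _ => rfl, by decide,
    card_good2⟩

end Cfsg.Agent.helper20.D7
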