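import Mathlib
import Cfsg.Agent.Lib_helper20_D7A

set_option autoImplicit false
set_option linter.style.haveILetI false
set_option linter.unusedSectionVars false
set_option maxRecDepth 100000

/-! Transitive groups of degree 7: group-level glue on `Perm (ZMod 7)`. -/

namespace Cfsg.Agent.helper20.D7

open Equiv MulAction

theorem fact7 : Fact (Nat.Prime 7) := ⟨by norm_num⟩

attribute [local instance] fact7

abbrev S7 := Equiv.Perm Z7

/-- translation by `c` -/
def trc (c : Z7) : S7 := Equiv.addRight c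

@[simp] theorem trc_apply (c x : Z7) : trc c x = x + c := rfl

theorem trc_mul (c d : Z7) : trc c * trc d = trc (c + d) := by
  ext x : 1
  simp only [Perm.mul_apply, trc_apply]
  ring

theorem trc_zero : trc 0 = 1 := by
  ext x : 1
  simp

theorem trc_inv (c : Z7) : (trc c)⁻¹ = trc (-c) := by
  apply inv_eq_of_mul_eq_one_right
  rw [trc_mul, add_neg_cancel, trc_zero]

theorem trc_one_pow (n : ℕ) : trc 1 ^ n = trc (n : Z7) := by
  induction n with
  | zero => simp [trc_zero]
  | succ n ih => rw [pow_succ, ih, trc_mul]; push_cast; rfl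

theorem trc_mem (H : Subgroup S7) (h : trc 1 ∈ H) (c : Z7) : trc c ∈ H := by
  have : trc c = trc 1 ^ c.val := by rw [trc_one_pow, ZMod.natCast_zmod_val]
  rw [this]
  exact H.pow_mem h _

/-- a multiplicatively closed subset of the finite group `S7` containing `1` is a subgroup -/
def sgOf (S : Set S7) (h1 : (1 : S7) ∈ S) (hm : ∀ a b, a ∈ S → b ∈ S → a * b ∈ S) :
    Subgroup S7 where
  carrier := S
  mul_mem' := hm _ _
  one_mem' := h1
  inv_mem' := by
    intro a ha
    have hpow : ∀ n : ℕ, a ^ n ∈ S := by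
      intro n
      induction n with
      | zero => simpa using h1
      | succ n ih => rw [pow_succ]; exact hm _ _ ih ha
    have : a⁻¹ = a ^ (orderOf a - 1) := by
      apply inv_eq_of_mul_eq_one_right
      rw [← pow_succ', Nat.sub_add_cancel (orderOf_pos a), pow_orderOf_eq_one]
    rw [this]
    exact hpow _

theorem affF_iff (v : Z7 → Z7) : affF v ↔ ∃ A B : Z7, ∀ y, v y = A * y + B := by
  constructor
  · intro h
    exact ⟨_, _, h⟩
  · rintro ⟨A, B, h⟩ x
    rw [h x, h 1, h 0]
    ring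

/-- the affine group -/
def Aff : Subgroup S7 :=
  sgOf {g | affF ⇑g}
    (by
      show affF ⇑(1 : S7)
      rw [affF_iff]
      exact ⟨1, 0, fun y => by simp⟩)
    (by
      intro a b ha hb
      rw [Set.mem_setOf_eq, affF_iff] at ha hb ⊢
      obtain ⟨A, B, ha⟩ := ha
      obtain ⟨C, D, hb⟩ := hb
      refine ⟨A * C, A * D + B, fun y => ?_⟩
      rw [Perm.mul_apply, hb, ha]
      ring)

theorem mem_Aff (g : S7) : g ∈ Aff ↔ affF ⇑g := Iff.rfl

/-- the automorphism group of the plane given by `t` -/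
def L (t : Z7 → Z7) : Subgroup S7 :=
  sgOf {g | fanoF t ⇑g}
    (by
      intro a b _
      rfl)
    (by
      intro g h hg hh a b hab
      rw [Perm.mul_apply, Perm.mul_apply, Perm.mul_apply, hh a b hab,
        hg _ _ (fun e => hab (h.injective e))])

theorem mem_L (t : Z7 → Z7) (g : S7) : g ∈ L t ↔ fanoF t ⇑g := Iff.rfl

theorem trc_mem_Aff (c : Z7) : trc c ∈ Aff := by
  rw [mem_Aff, affF_iff]
  exact ⟨1, c, fun y => by simp⟩

theorem trc_mem_L (t : Z7 → Z7) (c : Z7) : trc c ∈ L t := by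
  rw [mem_L]
  intro a b _
  simp only [trc_apply, third, add_sub_add_right_eq_sub]
  ring

/-- normalization: make `g` fix `0` -/
def nz (g : S7) : S7 := trc (-(g 0)) * g

theorem nz_zero (g : S7) : nz g 0 = 0 := by
  simp [nz]

theorem nz_apply (g : S7) (x : Z7) : nz g x = g x - g 0 := by
  simp [nz, sub_eq_add_neg]

theorem eq_trc_nz (g : S7) : g = trc (g 0) * nz g := by
  rw [nz, ← mul_assoc, trc_mul, add_neg_cancel, trc_zero, one_mul]

theorem nz_mem (H : Subgroup S7) (hT : trc 1 ∈ H) {g : S7} (hg : g ∈ H) : nz g ∈ H :=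
  H.mul_mem (trc_mem H hT _) hg

theorem mem_of_nz_mem (H : Subgroup S7) (hT : trc 1 ∈ H) {g : S7} (hg : nz g ∈ H) : g ∈ H := by
  rw [eq_trc_nz g]
  exact H.mul_mem (trc_mem H hT _) hg

theorem nz_mem_iff (H : Subgroup S7) (hT : trc 1 ∈ H) {g : S7} : nz g ∈ H ↔ g ∈ H :=
  ⟨mem_of_nz_mem H hT, nz_mem H hT⟩

/-- group-level word evaluation -/
def evP (g : S7) : List Z7 → S7
  | [] => 1
  | a :: as => evP g as * g * trc a

theorem ev_eq (g : S7) (as : List Z7) : ev ⇑g as = ⇑(evP g as) := by
  induction as with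
  | nil => rfl
  | cons a as ih =>
    funext x
    simp only [ev, evP, Perm.mul_apply, trc_apply, ih]

theorem evP_mem (H : Subgroup S7) (hT : trc 1 ∈ H) {g : S7} (hg : g ∈ H) (as : List Z7) :
    evP g as ∈ H := by
  induction as with
  | nil => exact H.one_mem
  | cons a as ih => exact H.mul_mem (H.mul_mem ih hg) (trc_mem H hT a)

theorem moved_eq (σ : S7) : moved ⇑σ = σ.support.card := by
  unfold moved Perm.support
  congr

theorem T_mem_Aff : trc 1 ∈ Aff := trc_mem_Aff 1
theorem T_mem_L (t : Z7 → Z7) : trc 1 ∈ L t := trc_mem_L t 1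

section main

variable (G : Subgroup S7) (hT : trc 1 ∈ G) (hA : ¬ alternatingGroup Z7 ≤ G)

include hT in
theorem pretrans : IsPretransitive G Z7 := by
  refine ⟨fun x y => ⟨⟨trc (y - x), trc_mem G hT _⟩, ?_⟩⟩
  show trc (y - x) x = y
  simp

include hT in
theorem prim : IsPreprimitive G Z7 := by
  haveI := pretrans G hT
  apply IsPreprimitive.of_prime_card
  rw [Nat.card_zmod]
  norm_num

include hT hA in
theorem noJ (σ : S7) (hσ : σ ∈ G) : ¬ jordanF ⇑σ := by
  intro h
  have hp := prim G hT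
  rcases h with h | h
  · rw [moved_eq, Perm.card_support_eq_two] at h
    have := Equiv.Perm.subgroup_eq_top_of_isPreprimitive_of_isSwap_mem hp σ h hσ
    exact hA (this ▸ le_top)
  · rw [moved_eq, card_support_eq_three_iff] at h
    exact hA (Equiv.Perm.alternatingGroup_le_of_isPreprimitive_of_isThreeCycle_mem hp h hσ)

include hT hA in
theorem cls (g : S7) (hg : g ∈ G) : g ∈ Aff ∨ g ∈ L t1 ∨ g ∈ L t2 := by
  have hg' := nz_mem G hT hg
  rcases classify.elim ⇑(nz g) (nz g).injective (nz_zero g) with h | h | h | h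
  · exact Or.inl (mem_of_nz_mem Aff T_mem_Aff h)
  · exact Or.inr (Or.inl (mem_of_nz_mem (L t1) (T_mem_L t1) h))
  · exact Or.inr (Or.inr (mem_of_nz_mem (L t2) (T_mem_L t2) h))
  · exfalso
    obtain ⟨as, -, e, -, hj⟩ := h
    rw [ev_eq, Perm.iterate_eq_pow] at hj
    exact noJ G hT hA _ (G.pow_mem (evP_mem G hT hg' as) e) hj

theorem inter_le (g : S7) (h1 : g ∈ L t1) (h2 : g ∈ L t2) : g ∈ Aff := by
  have h1' := nz_mem (L t1) (T_mem_L t1) h1
  have h2' := nz_mem (L t2) (T_mem_L t2) h2
  exact mem_of_nz_mem Aff T_mem_Aff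
    (inter_aff.elim ⇑(nz g) (nz g).injective (nz_zero g) h1' h2')

theorem aff_of_shift (v : Z7 → Z7) (B : Z7) (hB : B ≠ 0) (hs : ∀ x, v (x + B) = v x + 1) :
    affF v := by
  have hn : ∀ n : ℕ, v ((n : Z7) * B) = v 0 + n := by
    intro n
    induction n with
    | zero => simp
    | succ n ih =>
      have : ((n + 1 : ℕ) : Z7) * B = (n : Z7) * B + B := by push_cast; ring
      rw [this, hs, ih]
      push_cast
      ring
  have hx : ∀ x : Z7, v x = v 0 + x * B⁻¹ := by
    intro x
    have : x = (((x * B⁻¹).val : ℕ) : Z7) * B := by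
      rw [ZMod.natCast_zmod_val, mul_assoc, inv_mul_cancel₀ hB, mul_one]
    conv_lhs => rw [this]
    rw [hn, ZMod.natCast_zmod_val]
  intro x
  rw [hx x, hx 1]
  ring

theorem trc_one_pow_seven : trc 1 ^ 7 = 1 := by
  rw [trc_one_pow]
  have : ((7 : ℕ) : Z7) = 0 := by decide
  rw [this, trc_zero]

theorem conj_tr_aff (h : S7) (hk : h⁻¹ * trc 1 * h ∈ Aff) : h ∈ Aff := by
  set k := h⁻¹ * trc 1 * h with hkdef
  rw [mem_Aff, affF_iff] at hk
  obtain ⟨A, B, hAB⟩ := hk
  have hk7 : k ^ 7 = 1 := by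
    have : k = h⁻¹ * trc 1 * h⁻¹⁻¹ := by rw [inv_inv]
    rw [this, conj_pow, trc_one_pow_seven, mul_one, inv_inv, inv_mul_cancel]
  have hfun : ⇑k = fun y => A * y + B := funext hAB
  have hA1 : A = 1 := by
    apply aff7 A B
    intro x
    rw [← hfun, Perm.iterate_eq_pow, hk7]
    rfl
  subst hA1
  have hrel : h * k = trc 1 * h := by
    rw [hkdef]; group
  have hs : ∀ x, h (x + B) = h x + 1 := by
    intro x
    have := DFunLike.congr_fun hrel x
    simp only [Perm.mul_apply, trc_apply, hAB, one_mul] at this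
    exact this
  have hB : B ≠ 0 := by
    intro hB0
    have := hs 0
    rw [hB0, add_zero] at this
    have h01 : (0 : Z7) = 1 := by
      have := add_left_cancel (a := h 0) (b := 0) (c := 1) (by rw [add_zero]; exact this)
      exact this
    exact absurd h01 (by decide)
  rw [mem_Aff]
  exact aff_of_shift ⇑h B hB hs

include hT hA in
theorem no_mixed (t t' : Z7 → Z7)
    (hcl : ∀ g ∈ G, g ∈ Aff ∨ g ∈ L t ∨ g ∈ L t')
    (hint : ∀ g, g ∈ L t → g ∈ L t' → g ∈ Aff)
    (g : S7) (hg : g ∈ G) (hg1 : g ∈ L t) (hgA : g ∉ Aff)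
    (h : S7) (hh : h ∈ G) (hh2 : h ∈ L t') (hhA : h ∉ Aff) : False := by
  have key : ∀ c : Z7, g * (trc c * h) ∈ Aff := by
    intro c
    have hh' : trc c * h ∈ G := G.mul_mem (trc_mem G hT c) hh
    have hh2' : trc c * h ∈ L t' := (L t').mul_mem (trc_mem_L t' c) hh2
    have hhA' : trc c * h ∉ Aff := by
      intro hc
      apply hhA
      have : h = (trc c)⁻¹ * (trc c * h) := by group
      rw [this]
      exact Aff.mul_mem (Aff.inv_mem (trc_mem_Aff c)) hc
    rcases hcl _ (G.mul_mem hg hh') with h1 | h1 | h1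
    · exact h1
    · exfalso
      apply hhA'
      apply hint _ _ hh2'
      have : trc c * h = g⁻¹ * (g * (trc c * h)) := by group
      rw [this]
      exact (L t).mul_mem ((L t).inv_mem hg1) h1
    · exfalso
      apply hgA
      apply hint _ hg1
      have : g = (g * (trc c * h)) * (trc c * h)⁻¹ := by group
      rw [this]
      exact (L t').mul_mem h1 ((L t').inv_mem hh2')
  have h0 := key 0
  have h1 := key 1
  rw [trc_zero, one_mul] at h0
  apply hhA
  apply conj_tr_aff
  have : h⁻¹ * trc 1 * h = (g * h)⁻¹ * (g * (trc 1 * h)) := by group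
  rw [this]
  exact Aff.mul_mem (Aff.inv_mem h0) h1

end main

end Cfsg.Agent.helper20.D7
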