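import Mathlib
import Cfsg.Agent.Lib_helper20_D7B

set_option autoImplicit false
set_option linter.style.haveILetI false
set_option linter.unusedSectionVars false
set_option maxRecDepth 100000

/-! Transitive groups of degree 7: the main theorem on `Perm (ZMod 7)`. -/

namespace Cfsg.Agent.helper20.D7

open Equiv MulAction

attribute [local instance] fact7

/-- the linear part of an affine map -/
def linHom : Aff →* Z7 where
  toFun g := (g : S7) 1 - (g : S7) 0
  map_one' := by simp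
  map_mul' := by
    intro g h
    have hg := g.2
    rw [mem_Aff, affF_iff] at hg
    obtain ⟨A, B, hAB⟩ := hg
    show ((g : S7) * (h : S7)) 1 - ((g : S7) * (h : S7)) 0 = _
    simp only [Perm.mul_apply, hAB]
    ring

theorem ker_apply (g : Aff) (hg : g ∈ linHom.toHomUnits.ker) (y : Z7) :
    (g : S7) y = y + (g : S7) 0 := by
  rw [MonoidHom.mem_ker, Units.ext_iff, MonoidHom.coe_toHomUnits] at hg
  have h1 : (g : S7) 1 - (g : S7) 0 = 1 := hg
  have h2 := g.2 y
  rw [h2, h1, one_mul]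

instance solv_ker : Group.IsSolvable linHom.toHomUnits.ker := by
  apply Group.isSolvable_of_comm
  intro a b
  apply Subtype.ext
  apply Subtype.ext
  ext y : 1
  show (a.1 : S7) ((b.1 : S7) y) = (b.1 : S7) ((a.1 : S7) y)
  rw [ker_apply a.1 a.2 ((b.1 : S7) y), ker_apply b.1 b.2 y,
    ker_apply b.1 b.2 ((a.1 : S7) y), ker_apply a.1 a.2 y]
  ring

instance solv_Aff : Group.IsSolvable Aff := by
  apply Group.isSolvable_of_ker_le_range linHom.toHomUnits.ker.subtype linHom.toHomUnits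
  rw [Subgroup.range_subtype]

theorem solv_of_le (G : Subgroup S7) (h : ∀ g ∈ G, g ∈ Aff) : Group.IsSolvable G :=
  Group.isSolvable_of_isSolvable_injective (f := Subgroup.inclusion (show G ≤ Aff from h))
    (Subgroup.inclusion_injective _)

theorem le_L (G : Subgroup S7) (t t' : Z7 → Z7)
    (hcl : ∀ g ∈ G, g ∈ Aff ∨ g ∈ L t ∨ g ∈ L t')
    (hmix : ∀ g, g ∈ G → g ∈ L t → g ∉ Aff → ∀ h, h ∈ G → h ∈ L t' → h ∉ Aff → False)
    (g₁ : S7) (hg₁ : g₁ ∈ G) (h1 : g₁ ∈ L t) (hA1 : g₁ ∉ Aff) : G ≤ L t := by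
  have nonaff : ∀ g ∈ G, g ∉ Aff → g ∈ L t := by
    intro g hg hgA
    rcases hcl g hg with a | a | a
    · exact absurd a hgA
    · exact a
    · exact (hmix g₁ hg₁ h1 hA1 g hg a hgA).elim
  intro g hg
  by_cases hgA : g ∈ Aff
  · have hprod : g * g₁ ∈ G := G.mul_mem hg hg₁
    have hprodA : g * g₁ ∉ Aff := by
      intro hc
      apply hA1
      have : g₁ = g⁻¹ * (g * g₁) := by group
      rw [this]
      exact Aff.mul_mem (Aff.inv_mem hgA) hc
    have h3 := nonaff _ hprod hprodA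
    have e : g = (g * g₁) * g₁⁻¹ := by group
    rw [e]
    exact (L t).mul_mem h3 ((L t).inv_mem h1)
  · exact nonaff g hg hgA

theorem gen_le {t : Z7 → Z7} {ext : Z7 → Z7 → Z7 → Z7 → Z7} (P : Plane t ext)
    (H : Subgroup S7) (hT : trc 1 ∈ H) (g : S7) (hg : g ∈ H) (hgL : g ∈ L t) (hgA : g ∉ Aff) :
    L t ≤ H := by
  intro k hk
  have hg' : nz g ∈ H := nz_mem H hT hg
  have hgL' : fanoF t ⇑(nz g) := nz_mem (L t) (T_mem_L t) hgL
  have hgA' : ¬ affF ⇑(nz g) := fun h => hgA (mem_of_nz_mem Aff T_mem_Aff h)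
  have hkL' : fanoF t ⇑(nz k) := nz_mem (L t) (T_mem_L t) hk
  obtain ⟨a, b, c, habc⟩ :=
    AllPerm0.elim (AllPerm0.elim P.gen ⇑(nz g) (nz g).injective (nz_zero g) hgL' hgA')
      ⇑(nz k) (nz k).injective (nz_zero k) hkL'
  apply mem_of_nz_mem H hT
  have hwH : evP (nz g) [a, b, c] ∈ H := evP_mem H hT hg' _
  have : nz k = trc (-(evP (nz g) [a, b, c] 0)) * evP (nz g) [a, b, c] := by
    ext x : 1
    rw [habc x, ev_eq]
    simp [sub_eq_add_neg]
  rw [this]
  exact H.mul_mem (trc_mem H hT _) hwH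

theorem card_L {t : Z7 → Z7} {ext : Z7 → Z7 → Z7 → Z7 → Z7} (P : Plane t ext) :
    Nat.card (L t) = 168 := by
  have hgood : ∀ g : L t, goodT t ((g : S7) 0, (g : S7) 1, (g : S7) 2).1
      ((g : S7) 0, (g : S7) 1, (g : S7) 2).2.1 ((g : S7) 0, (g : S7) 1, (g : S7) 2).2.2 := by
    intro g
    have hne : ∀ a b : Z7, a ≠ b → (g : S7) a ≠ (g : S7) b :=
      fun a b hab e => hab ((g : S7).injective e)
    refine ⟨hne 0 1 (by decide), hne 2 0 (by decide), hne 2 1 (by decide), ?_⟩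
    show (g : S7) 2 ≠ third t ((g : S7) 0) ((g : S7) 1)
    rw [← g.2 0 1 (by decide)]
    exact hne _ _ (Ne.symm P.nc)
  let φ : L t → {p : Z7 × Z7 × Z7 // goodT t p.1 p.2.1 p.2.2} :=
    fun g => ⟨((g : S7) 0, (g : S7) 1, (g : S7) 2), hgood g⟩
  have hinj : Function.Injective φ := by
    intro g h hgh
    have e := Subtype.ext_iff.mp hgh
    simp only [φ, Prod.mk.injEq] at e
    obtain ⟨e0, e1, e2⟩ := e
    have hk : (h : S7)⁻¹ * (g : S7) ∈ L t := (L t).mul_mem ((L t).inv_mem h.2) g.2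
    have k0 : ((h : S7)⁻¹ * (g : S7)) 0 = 0 := by
      rw [Perm.mul_apply, e0]; exact Perm.inv_eq_iff_eq.mpr rfl
    have k1 : ((h : S7)⁻¹ * (g : S7)) 1 = 1 := by
      rw [Perm.mul_apply, e1]; exact Perm.inv_eq_iff_eq.mpr rfl
    have k2 : ((h : S7)⁻¹ * (g : S7)) 2 = 2 := by
      rw [Perm.mul_apply, e2]; exact Perm.inv_eq_iff_eq.mpr rfl
    have hid := AllPerm0.elim P.rigid ⇑((h : S7)⁻¹ * (g : S7))
      ((h : S7)⁻¹ * (g : S7)).injective k0 hk k1 k2
    have : (h : S7)⁻¹ * (g : S7) = 1 := by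
      ext x : 1
      exact hid x
    apply Subtype.ext
    exact (inv_mul_eq_one.mp this).symm
  have hsurj : Function.Surjective φ := by
    rintro ⟨⟨a, b, c⟩, hp⟩
    obtain ⟨hi, hf⟩ := P.ext_ok a b c hp
    have hbij : Function.Bijective (ext a b c) :=
      Finite.injective_iff_bijective.mp (fun x y => hi x y)
    refine ⟨⟨Equiv.ofBijective (ext a b c) hbij, hf⟩, ?_⟩
    apply Subtype.ext
    show ((ext a b c) 0, (ext a b c) 1, (ext a b c) 2) = (a, b, c)
    rw [P.ext0, P.ext1, P.ext2]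
  rw [Nat.card_congr (Equiv.ofBijective φ ⟨hinj, hsurj⟩), Nat.card_eq_fintype_card]
  exact P.card

theorem orderOf_T : orderOf (trc 1) = 7 := by
  apply orderOf_eq_prime trc_one_pow_seven
  intro h
  have := DFunLike.congr_fun h 0
  simp only [trc_apply, Perm.one_apply] at this
  exact absurd this (by decide)

theorem simple_L {t : Z7 → Z7} {ext : Z7 → Z7 → Z7 → Z7 → Z7} (P : Plane t ext)
    (g₁ : S7) (hg₁ : g₁ ∈ L t) (hg₁A : g₁ ∉ Aff) : IsSimpleGroup (L t) := by
  have hcard := card_L P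
  haveI : Nontrivial (L t) := by
    rw [← Finite.one_lt_card_iff_nontrivial, hcard]
    norm_num
  refine ⟨fun M hM => ?_⟩
  by_contra hcon
  push Not at hcon
  obtain ⟨hbot, htop⟩ := hcon
  haveI : IsPreprimitive (L t) Z7 := prim (L t) (T_mem_L t)
  haveI : IsPretransitive M Z7 := by
    apply IsQuasiPreprimitive.isPretransitive_of_normal
    intro hfix
    apply hbot
    rw [Subgroup.eq_bot_iff_forall]
    intro m hm
    apply Subtype.ext
    ext x : 1
    have hx : x ∈ fixedPoints M Z7 := by rw [hfix]; trivial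
    exact hx ⟨m, hm⟩
  have h7 : 7 ∣ Nat.card M := by
    have := MulAction.index_stabilizer_of_transitive (G := M) (X := Z7) (x := 0)
    rw [Nat.card_zmod] at this
    rw [← this]
    exact Subgroup.index_dvd_card _
  obtain ⟨m7, hm7⟩ := exists_prime_orderOf_dvd_card' 7 h7
  let tL : L t := ⟨trc 1, T_mem_L t⟩
  have hfac : (Nat.card (L t)).factorization 7 = 1 := by rw [hcard]; decide +kernel
  have hoT : orderOf tL = 7 := by
    rw [← Subgroup.orderOf_coe]
    exact orderOf_T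
  have hcT : Nat.card (Subgroup.zpowers tL) = 7 ^ (Nat.card (L t)).factorization 7 := by
    rw [hfac, pow_one, Nat.card_zpowers, hoT]
  have hcM : Nat.card (Subgroup.zpowers (m7 : L t)) = 7 ^ (Nat.card (L t)).factorization 7 := by
    rw [hfac, pow_one, Nat.card_zpowers, Subgroup.orderOf_coe, hm7]
  obtain ⟨x, hx⟩ := MulAction.exists_smul_eq (L t) (Sylow.ofCard _ hcM) (Sylow.ofCard _ hcT)
  have htM : tL ∈ M := by
    have h1 : tL ∈ ((Sylow.ofCard _ hcT : Sylow 7 (L t)) : Subgroup (L t)) :=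
      Subgroup.mem_zpowers tL
    rw [← hx, Sylow.coe_subgroup_smul, Subgroup.mem_pointwise_smul_iff_inv_smul_mem] at h1
    have h2 : (MulAut.conj x)⁻¹ • tL ∈ Subgroup.zpowers (m7 : L t) := h1
    have h3 : (MulAut.conj x)⁻¹ • tL ∈ M := by
      have hle : Subgroup.zpowers (m7 : L t) ≤ M := by
        rw [Subgroup.zpowers_le]
        exact m7.2
      exact hle h2
    have h4 : MulAut.conj x⁻¹ tL ∈ M := by
      rw [map_inv]; exact h3
    rw [MulAut.conj_apply, inv_inv] at h4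
    have h5 := hM.conj_mem _ h4 x
    have e : x * (x⁻¹ * tL * x) * x⁻¹ = tL := by group
    rwa [e] at h5
  have hTM' : trc 1 ∈ M.map (L t).subtype := ⟨tL, htM, rfl⟩
  have hex : ∃ m ∈ M.map (L t).subtype, m ∉ Aff := by
    by_contra hno
    push Not at hno
    apply hg₁A
    apply conj_tr_aff
    apply hno
    let gL : L t := ⟨g₁, hg₁⟩
    refine ⟨gL⁻¹ * tL * gL, ?_, rfl⟩
    have := hM.conj_mem tL htM gL⁻¹
    rwa [inv_inv] at this
  obtain ⟨m, hmM', hmA⟩ := hex
  have hmL : m ∈ L t := by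
    obtain ⟨y, _, rfl⟩ := hmM'
    exact y.2
  have hle := gen_le P (M.map (L t).subtype) hTM' m hmM' hmL hmA
  apply htop
  rw [eq_top_iff]
  intro y _
  obtain ⟨z, hz, hzy⟩ := hle y.2
  have : z = y := Subtype.ext hzy
  rwa [← this]

theorem main (G : Subgroup S7) (hT : trc 1 ∈ G) (hns : ¬ Group.IsSolvable G)
    (hA : ¬ alternatingGroup Z7 ≤ G) : Nat.card G = 168 ∧ IsSimpleGroup G := by
  have hex : ∃ g ∈ G, g ∉ Aff := by
    by_contra hno
    push Not at hno
    exact hns (solv_of_le G hno)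
  obtain ⟨g₁, hg₁, hg₁A⟩ := hex
  have hcl := cls G hT hA
  rcases hcl g₁ hg₁ with h | h | h
  · exact absurd h hg₁A
  · have hle : G ≤ L t1 :=
      le_L G t1 t2 hcl (no_mixed G hT hA t1 t2 hcl inter_le) g₁ hg₁ h hg₁A
    have hge : L t1 ≤ G := gen_le plane1 G hT g₁ hg₁ h hg₁A
    have heq : G = L t1 := le_antisymm hle hge
    rw [heq]
    exact ⟨card_L plane1, simple_L plane1 g₁ h hg₁A⟩
  · have hcl' : ∀ g ∈ G, g ∈ Aff ∨ g ∈ L t2 ∨ g ∈ L t1 := by
      intro g hg
      rcases hcl g hg with a | a | a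
      · exact Or.inl a
      · exact Or.inr (Or.inr a)
      · exact Or.inr (Or.inl a)
    have hle : G ≤ L t2 :=
      le_L G t2 t1 hcl' (no_mixed G hT hA t2 t1 hcl' (fun g a b => inter_le g b a))
        g₁ hg₁ h hg₁A
    have hge : L t2 ≤ G := gen_le plane2 G hT g₁ hg₁ h hg₁A
    have heq : G = L t2 := le_antisymm hle hge
    rw [heq]
    exact ⟨card_L plane2, simple_L plane2 g₁ h hg₁A⟩

end Cfsg.Agent.helper20.D7
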