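import Mathlib
import Cfsg.Agent.Lib_helper20_DerLen

set_option autoImplicit false
set_option linter.style.haveILetI false
set_option linter.unusedSectionVars false

/-! Derived length of Sylow subgroups of symmetric groups. -/

namespace Cfsg.Agent.helper20.DerLen

open scoped commutatorElement

universe u

theorem derivedSeries_iterated_ne_bot (G : Type u) [CommGroup G] (hG : ∃ g : G, g ≠ 1) :
    ∀ k : ℕ, derivedSeries (IteratedWreathProduct G (k + 1)) k ≠ ⊥ := by
  intro k
  induction k with
  | zero =>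
    obtain ⟨g, hg⟩ := hG
    rw [derivedSeries_zero]
    haveI : Nontrivial (IteratedWreathProduct G (0 + 1)) := by
      refine ⟨⟨(RegularWreathProduct.inl g : IteratedWreathProduct G 0 ≀ᵣ G), 1, ?_⟩⟩
      intro h
      exact hg (congrArg RegularWreathProduct.right h)
    exact top_ne_bot
  | succ k ih =>
    exact derivedSeries_wreath_ne_bot (D := IteratedWreathProduct G (k + 1)) (Q := G) hG k ih

theorem exists_pgroup_perm (p : ℕ) [hp : Fact p.Prime] (n k : ℕ) (hk : p ^ (k + 1) ≤ n) :
    ∃ R : Subgroup (Equiv.Perm (Fin n)), IsPGroup p R ∧ dser R k ≠ ⊥ := by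
  classical
  haveI : NeZero p := ⟨hp.out.ne_zero⟩
  let G := Multiplicative (ZMod p)
  have hcardG : Nat.card G = p := by
    show Nat.card (Multiplicative (ZMod p)) = p
    rw [Nat.card_eq_fintype_card, Fintype.card_multiplicative, ZMod.card]
  have hGne : ∃ g : G, g ≠ 1 := by
    haveI : Nontrivial G := by
      rw [← Finite.one_lt_card_iff_nontrivial, hcardG]
      exact hp.out.one_lt
    exact exists_ne 1
  have hW := derivedSeries_iterated_ne_bot G hGne k
  have hWp : IsPGroup p (IteratedWreathProduct G (k + 1)) :=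
    IsPGroup.of_card (n := ∑ i ∈ Finset.range (k + 1), p ^ i) (by
      rw [IteratedWreathProduct.card, hcardG])
  have hcard : Nat.card (Fin (k + 1) → G) ≤ Nat.card (Fin n) := by
    rw [Nat.card_fun, Nat.card_fin, Nat.card_fin, hcardG]
    exact hk
  obtain ⟨ι⟩ : Nonempty ((Fin (k + 1) → G) ↪ Fin n) :=
    Function.Embedding.nonempty_of_card_le (by
      rw [← Nat.card_eq_fintype_card, ← Nat.card_eq_fintype_card]; exact hcard)
  let f : IteratedWreathProduct G (k + 1) →* Equiv.Perm (Fin n) :=
    (Equiv.Perm.viaEmbeddingHom ι).comp (iteratedWreathToPermHom G (k + 1))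
  have hf : Function.Injective f :=
    (Equiv.Perm.viaEmbeddingHom_injective ι).comp (iteratedWreathToPermHomInj G (k + 1))
  refine ⟨f.range, ?_, ?_⟩
  · rw [MonoidHom.range_eq_map]
    exact (IsPGroup.to_subgroup hWp ⊤).map f
  · have h1 : (derivedSeries (IteratedWreathProduct G (k + 1)) k).map f = dser f.range k := by
      rw [← dser_top, map_dser, ← MonoidHom.range_eq_map]
    rw [← h1, Ne, Subgroup.map_eq_bot_iff_of_injective _ hf]
    exact hW

theorem sylow_perm_derivedSeries (p : ℕ) [hp : Fact p.Prime] (n : ℕ) (hn : 1 ≤ n)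
    (P : Sylow p (Equiv.Perm (Fin n))) :
    derivedSeries ↥(P : Subgroup (Equiv.Perm (Fin n))) (Nat.log p n) = ⊥ ∧
      (1 ≤ Nat.log p n →
        derivedSeries ↥(P : Subgroup (Equiv.Perm (Fin n))) (Nat.log p n - 1) ≠ ⊥) := by
  constructor
  · exact derivedSeries_perm_eq_bot (Nat.log p n)
      (Nat.lt_pow_succ_log_self hp.out.one_lt n) _ P.isPGroup'
  · intro hk
    obtain ⟨k, hk'⟩ : ∃ k, Nat.log p n = k + 1 := ⟨Nat.log p n - 1, by omega⟩
    have hpk : p ^ (k + 1) ≤ n := by
      rw [← hk']; exact Nat.pow_log_le_self p (by omega)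
    obtain ⟨R, hRp, hR⟩ := exists_pgroup_perm p n k hpk
    obtain ⟨P₀, hRP₀⟩ := hRp.exists_le_sylow
    obtain ⟨g, hg⟩ := MulAction.exists_smul_eq (Equiv.Perm (Fin n)) P₀ P
    have h1 : dser (P₀ : Subgroup (Equiv.Perm (Fin n))) k ≠ ⊥ := by
      intro h0
      apply hR
      rw [eq_bot_iff, ← h0]
      exact dser_mono hRP₀ k
    have h2 : (P : Subgroup (Equiv.Perm (Fin n))) =
        (P₀ : Subgroup (Equiv.Perm (Fin n))).map (MulAut.conj g).toMonoidHom := by
      rw [← hg]
      rfl
    have h3 : dser (P : Subgroup (Equiv.Perm (Fin n))) k ≠ ⊥ := by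
      rw [h2, ← map_dser, Ne, Subgroup.map_eq_bot_iff_of_injective _ (MulAut.conj g).injective]
      exact h1
    have hk'' : Nat.log p n - 1 = k := by omega
    rw [hk'', Ne, derivedSeries_eq_bot_iff]
    exact h3

end Cfsg.Agent.helper20.DerLen
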