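import Mathlib

set_option autoImplicit false

namespace Cfsg.Agent.helper20

open MulAction

/-- Arithmetic core of the Frobenius-partition counting argument. -/
theorem sum_ne_of_half {Ω : Type*} [Fintype Ω] (f : Ω → ℤ) (n : ℤ) (hn : 2 ≤ n)
    (hf : ∀ ω, (f ω = 0 ∨ n ≤ 2 * f ω) ∧ f ω ≤ n - 2) : ∑ ω, f ω ≠ n - 1 := by
  classical
  have hnonneg : ∀ ω, 0 ≤ f ω := by
    intro ω
    rcases (hf ω).1 with h | h <;> omega
  by_cases hall : ∀ ω, f ω = 0
  · simp only [hall, Finset.sum_const_zero]
    omega
  · push Not at hall
    obtain ⟨ω0, hω0⟩ := hall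
    have h0 : n ≤ 2 * f ω0 := by
      rcases (hf ω0).1 with h | h
      · exact absurd h hω0
      · exact h
    rw [← Finset.add_sum_erase Finset.univ f (Finset.mem_univ ω0)]
    have hR : 0 ≤ ∑ ω ∈ Finset.univ.erase ω0, f ω := Finset.sum_nonneg (fun ω _ => hnonneg ω)
    by_cases hR0 : ∑ ω ∈ Finset.univ.erase ω0, f ω = 0
    · have := (hf ω0).2
      omega
    · have hex : ∃ ω1 ∈ Finset.univ.erase ω0, f ω1 ≠ 0 := by
        by_contra hcon
        push Not at hcon
        exact hR0 (Finset.sum_eq_zero hcon)
      obtain ⟨ω1, hω1, hfω1⟩ := hex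
      have h1 : n ≤ 2 * f ω1 := by
        rcases (hf ω1).1 with h | h
        · exact absurd h hfω1
        · exact h
      have h2 : f ω1 ≤ ∑ ω ∈ Finset.univ.erase ω0, f ω :=
        Finset.single_le_sum (fun ω _ => hnonneg ω) hω1
      omega

/-- If every non-identity element of a finite group `K` acting on a finite nonempty set `X` has exactly
one fixed point, then `K` has a global fixed point. -/
theorem exists_fixed_of_unique_fixed {K X : Type*} [Group K] [Finite K] [MulAction K X] [Finite X]
    [Nonempty X] (h : ∀ k : K, k ≠ 1 → Nat.card (fixedBy X k) = 1) :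
    ∃ x : X, ∀ k : K, k • x = x := by
  classical
  by_contra hno
  push Not at hno
  have := Fintype.ofFinite K
  have := Fintype.ofFinite X
  have : Fintype (Quotient (orbitRel K X)) := Fintype.ofFinite _
  -- class formula
  have h1 : Fintype.card X = ∑ ω : Quotient (orbitRel K X), (stabilizer K ω.out).index := by
    rw [Fintype.card_congr (selfEquivSigmaOrbitsQuotientStabilizer K X), Fintype.card_sigma]
    refine Finset.sum_congr rfl (fun ω _ => ?_)
    rw [Subgroup.index_eq_card, Nat.card_eq_fintype_card]
  -- Burnside
  have h2 : ∑ k : K, Fintype.card (fixedBy X k) = Fintype.card (Quotient (orbitRel K X)) * Fintype.card K :=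
    sum_card_fixedBy_eq_card_orbits_mul_card_group K X
  have h3 : ∑ k : K, Fintype.card (fixedBy X k) = Fintype.card X + (Fintype.card K - 1) := by
    rw [← Finset.add_sum_erase Finset.univ _ (Finset.mem_univ (1 : K))]
    congr 1
    · rw [← Fintype.card_congr (Equiv.Set.univ X)]
      apply Fintype.card_congr
      apply Equiv.setCongr
      ext x
      simp
    · rw [Finset.sum_congr rfl (g := fun _ => 1)]
      · simp [Finset.card_erase_of_mem]
      · intro k hk
        have hk1 : k ≠ 1 := (Finset.mem_erase.mp hk).1
        have := h k hk1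
        rwa [Nat.card_eq_fintype_card] at this
  obtain ⟨x0⟩ := ‹Nonempty X›
  -- properties of indices
  have hidx : ∀ ω : Quotient (orbitRel K X), (stabilizer K ω.out).index ∣ Fintype.card K ∧
      2 ≤ (stabilizer K ω.out).index := by
    intro ω
    have hd : (stabilizer K ω.out).index ∣ Fintype.card K := by
      have := Subgroup.index_dvd_card (stabilizer K ω.out)
      rwa [Nat.card_eq_fintype_card] at this
    refine ⟨hd, ?_⟩
    have hne0 : (stabilizer K ω.out).index ≠ 0 := Subgroup.index_ne_zero_of_finite
    have hne1 : (stabilizer K ω.out).index ≠ 1 := by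
      intro h1
      rw [Subgroup.index_eq_one] at h1
      obtain ⟨k, hk⟩ := hno ω.out
      apply hk
      have : k ∈ stabilizer K ω.out := by rw [h1]; trivial
      exact this
    omega
  have hn2 : 2 ≤ Fintype.card K := by
    have := hidx (Quotient.mk'' x0)
    exact le_trans this.2 (Nat.le_of_dvd Fintype.card_pos this.1)
  have key := sum_ne_of_half (fun ω : Quotient (orbitRel K X) =>
      (Fintype.card K : ℤ) - ((stabilizer K ω.out).index : ℤ)) (Fintype.card K : ℤ) (by exact_mod_cast hn2) ?_
  · apply key
    rw [Finset.sum_sub_distrib]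
    simp only [Finset.sum_const, Finset.card_univ, nsmul_eq_mul]
    have h4 : (Fintype.card X : ℤ) = ∑ ω : Quotient (orbitRel K X), ((stabilizer K ω.out).index : ℤ) := by
      rw [h1]; push_cast; rfl
    rw [← h4]
    have h5 : (Fintype.card X : ℤ) + ((Fintype.card K : ℤ) - 1) =
        (Fintype.card (Quotient (orbitRel K X)) : ℤ) * (Fintype.card K : ℤ) := by
      have := h2.symm.trans h3
      have h6 : (Fintype.card K - 1 : ℕ) = (Fintype.card K : ℤ) - 1 := by
        rw [Nat.cast_sub (by omega)]; simp
      rw [← h6]
      exact_mod_cast this.symm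
    linarith
  · intro ω
    obtain ⟨hd, h2le⟩ := hidx ω
    obtain ⟨s, hs⟩ := hd
    have hKpos : 0 < Fintype.card K := Fintype.card_pos
    refine ⟨?_, ?_⟩
    · rcases Nat.lt_or_ge s 2 with hs2 | hs2
      · left
        interval_cases s
        · omega
        · simp [hs]
      · right
        have : 2 * (stabilizer K ω.out).index ≤ Fintype.card K := by
          rw [hs]; nlinarith
        have h7 : (2 * (stabilizer K ω.out).index : ℤ) ≤ (Fintype.card K : ℤ) := by exact_mod_cast this
        linarith
    · have : ((2 : ℕ) : ℤ) ≤ ((stabilizer K ω.out).index : ℤ) := by exact_mod_cast h2le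
      push_cast at this
      linarith

end Cfsg.Agent.helper20
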