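import Mathlib
import Cfsg.Agent.Lib_helper20_Class

set_option autoImplicit false

/-! Counting lemmas towards Frobenius' theorem on the number of solutions of `x ^ m = 1`. -/

namespace Cfsg.Agent.helper20

open Finset

theorem card_zpowers_eq {G : Type*} [Group G] [Fintype G] (x0 : G)
    [DecidablePred (fun x : G => Subgroup.zpowers x = Subgroup.zpowers x0)] :
    (univ.filter (fun x : G => Subgroup.zpowers x = Subgroup.zpowers x0)).card = Nat.totient (orderOf x0) := by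
  classical
  have hcard : Fintype.card (Subgroup.zpowers x0) = orderOf x0 := by
    rw [← Nat.card_eq_fintype_card, Nat.card_zpowers]
  have h1 := IsCyclic.card_orderOf_eq_totient (α := Subgroup.zpowers x0) (d := orderOf x0)
    (by rw [hcard])
  rw [← h1]
  symm
  apply Finset.card_bij (fun (a : Subgroup.zpowers x0) _ => (a : G))
  · intro a ha
    rw [mem_filter] at ha ⊢
    refine ⟨mem_univ _, ?_⟩
    have ho : orderOf (a : G) = orderOf x0 := by
      rw [← ha.2]; exact (Subgroup.orderOf_coe a)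
    apply Subgroup.eq_of_le_of_card_ge
    · rw [Subgroup.zpowers_le]; exact a.2
    · rw [Nat.card_zpowers, Nat.card_zpowers, ho]
  · intro a _ b _ hab
    exact Subtype.ext hab
  · intro x hx
    rw [mem_filter] at hx
    have hxm : x ∈ Subgroup.zpowers x0 := by
      rw [← hx.2]; exact Subgroup.mem_zpowers x
    refine ⟨⟨x, hxm⟩, ?_, rfl⟩
    rw [mem_filter]
    refine ⟨mem_univ _, ?_⟩
    rw [Subgroup.orderOf_mk]
    have := congrArg (fun K : Subgroup G => Nat.card K) hx.2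
    simp only [Nat.card_zpowers] at this
    exact this


theorem class_sum_dvd {G : Type*} [Group G] [Fintype G] (f : G → ℕ)
    (hf : ∀ g y : G, f (g * y * g⁻¹) = f y) (s : ℕ)
    (h : ∀ y : G, s ∣ (Subgroup.centralizer ({y} : Set G)).index * f y) : s ∣ ∑ y, f y := by
  classical
  have : Fintype (ConjClasses G) := Fintype.ofFinite _
  rw [← Finset.sum_fiberwise (s := univ) (g := (ConjClasses.mk : G → ConjClasses G)) (f := f)]
  apply Finset.dvd_sum
  intro c _
  obtain ⟨y0, rfl⟩ := ConjClasses.exists_rep c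
  have hconst : ∀ y ∈ univ.filter (fun y => ConjClasses.mk y = ConjClasses.mk y0), f y = f y0 := by
    intro y hy
    rw [mem_filter, ConjClasses.mk_eq_mk_iff_isConj, isConj_iff] at hy
    obtain ⟨c, hc⟩ := hy.2
    rw [← hc, hf]
  rw [Finset.sum_congr rfl hconst, Finset.sum_const, smul_eq_mul]
  have hcard : (univ.filter (fun y => ConjClasses.mk y = ConjClasses.mk y0)).card =
      (Subgroup.centralizer ({y0} : Set G)).index := by
    rw [← ncard_carrier_eq_index, ← Set.ncard_coe_finset]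
    congr 1
    ext y
    simp only [coe_filter, mem_univ, true_and, Set.mem_ofPred_eq, ConjClasses.mem_carrier_iff_mk_eq]
  rw [hcard]
  exact h y0


theorem eq_one_of_pow_eq_one_of_coprime {C : Type*} [Group C] [Finite C] (Z : Subgroup C) (s : ℕ)
    (hs : s.Coprime (Nat.card Z)) (z : C) (hz : z ∈ Z) (hzs : z ^ s = 1) : z = 1 := by
  have h1 : orderOf z ∣ s := orderOf_dvd_of_pow_eq_one hzs
  have h2 : orderOf z ∣ Nat.card Z := Subgroup.orderOf_dvd_natCard Z hz
  have := Nat.dvd_gcd h1 h2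
  rw [hs.gcd_eq_one, Nat.dvd_one] at this
  exact orderOf_eq_one_iff.mp this

theorem exists_root_of_coprime {C : Type*} [Group C] [Finite C] (Z : Subgroup C) (s : ℕ)
    (hs : s.Coprime (Nat.card Z)) (w : C) (hw : w ∈ Z) : ∃ z ∈ Z, z ^ s = w := by
  have hb := Int.gcd_eq_gcd_ab s (Nat.card Z)
  have hg : Int.gcd (s : ℤ) (Nat.card Z : ℤ) = 1 := by
    rw [Int.gcd_natCast_natCast]; exact hs
  rw [hg] at hb
  have hwZ : w ^ (Nat.card Z : ℤ) = 1 := by
    have h0 : (⟨w, hw⟩ : Z) ^ Nat.card Z = 1 := pow_card_eq_one'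
    have h00 : w ^ Nat.card Z = 1 := by
      have := congrArg Subtype.val h0
      rwa [Subgroup.coe_pow, Subgroup.coe_one] at this
    rw [zpow_natCast]; exact h00
  refine ⟨w ^ (Int.gcdA s (Nat.card Z)), Z.zpow_mem hw _, ?_⟩
  have h1 : w = w ^ ((s : ℤ) * Int.gcdA s (Nat.card Z) + (Nat.card Z : ℤ) * Int.gcdB s (Nat.card Z)) := by
    rw [← hb]; simp
  rw [zpow_add, zpow_mul w (Nat.card Z : ℤ), hwZ, one_zpow, mul_one] at h1
  rw [← zpow_natCast, ← zpow_mul, mul_comm]
  exact h1.symm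

theorem card_pow_eq_one_quotient {C : Type*} [Group C] [Finite C] (Z : Subgroup C) [Z.Normal]
    (hZ : Z ≤ Subgroup.center C) (s : ℕ) (hs : s.Coprime (Nat.card Z)) :
    Nat.card {c : C // c ^ s = 1} = Nat.card {q : C ⧸ Z // q ^ s = 1} := by
  apply Nat.card_congr
  refine Equiv.ofBijective (fun c => ⟨(c.1 : C ⧸ Z), by rw [← QuotientGroup.mk_pow, c.2]; rfl⟩) ⟨?_, ?_⟩
  · rintro ⟨c1, h1⟩ ⟨c2, h2⟩ h12
    simp only [Subtype.mk.injEq] at h12
    have hz : c1⁻¹ * c2 ∈ Z := QuotientGroup.eq.mp h12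
    have hzc : c1⁻¹ * c2 ∈ Subgroup.center C := hZ hz
    have hcomm : Commute c1 (c1⁻¹ * c2) := (Subgroup.mem_center_iff.mp hzc c1)
    have hpow : (c1⁻¹ * c2) ^ s = 1 := by
      have h3 : (c1 * (c1⁻¹ * c2)) ^ s = c1 ^ s * (c1⁻¹ * c2) ^ s := hcomm.mul_pow s
      rw [mul_inv_cancel_left, h2, h1, one_mul] at h3
      exact h3.symm
    have := eq_one_of_pow_eq_one_of_coprime Z s hs _ hz hpow
    apply Subtype.ext
    show c1 = c2
    exact inv_mul_eq_one.mp this
  · rintro ⟨q, hq⟩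
    obtain ⟨c, rfl⟩ := QuotientGroup.mk_surjective q
    have hcs : c ^ s ∈ Z := by
      rw [← QuotientGroup.eq_one_iff, QuotientGroup.mk_pow]; exact hq
    obtain ⟨z, hz, hzs⟩ := exists_root_of_coprime Z s hs (c ^ s)⁻¹ (Z.inv_mem hcs)
    have hcomm : Commute c z := (Subgroup.mem_center_iff.mp (hZ hz) c)
    refine ⟨⟨c * z, ?_⟩, ?_⟩
    · rw [hcomm.mul_pow, hzs, mul_inv_cancel]
    · apply Subtype.ext
      show ((c * z : C) : C ⧸ Z) = (c : C ⧸ Z)
      rw [eq_comm, QuotientGroup.eq]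
      simpa using hz


theorem pow_eq_of_modEq {G : Type*} [Group G] {x : G} {n a b : ℕ} (hx : x ^ n = 1)
    (h : a ≡ b [MOD n]) : x ^ a = x ^ b :=
  pow_eq_pow_iff_modEq.mpr (h.of_dvd (orderOf_dvd_of_pow_eq_one hx))

theorem pow_eq_one_of_dvd' {G : Type*} [Group G] {x : G} {n a : ℕ} (hx : x ^ n = 1)
    (h : n ∣ a) : x ^ a = 1 := by
  obtain ⟨k, rfl⟩ := h
  rw [pow_mul, hx, one_pow]

theorem card_decomp {G : Type*} [Group G] [Fintype G] [DecidableEq G] (p : ℕ) [hp : Fact p.Prime]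
    (a s : ℕ) (hps : ¬ p ∣ s) :
    (univ.filter (fun x : G => x ^ (p ^ (a + 1) * s) = 1 ∧ x ^ (p ^ a * s) ≠ 1)).card =
      ∑ y ∈ univ.filter (fun y : G => orderOf y = p ^ (a + 1)),
        (univ.filter (fun z : G => z * y = y * z ∧ z ^ s = 1)).card := by
  have co : Nat.Coprime (p ^ (a + 1)) s :=
    Nat.Coprime.pow_left _ ((Nat.Prime.coprime_iff_not_dvd hp.out).mpr hps)
  obtain ⟨u, hu1, hu0⟩ := Nat.chineseRemainder co 1 0
  obtain ⟨v, hv0, hv1⟩ := Nat.chineseRemainder co 0 1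
  have hsu : s ∣ u := (Nat.modEq_zero_iff_dvd).mp hu0
  have hPv : p ^ (a + 1) ∣ v := (Nat.modEq_zero_iff_dvd).mp hv0
  have huv : u + v ≡ 1 [MOD p ^ (a + 1) * s] := by
    rw [← Nat.modEq_and_modEq_iff_modEq_mul co]
    exact ⟨by simpa using hu1.add hv0, by simpa using hu0.add hv1⟩
  rw [← Finset.card_sigma]
  apply Finset.card_nbij' (fun x => (⟨x ^ u, x ^ v⟩ : Σ _ : G, G)) (fun yz => yz.1 * yz.2)
  · intro x hx
    simp only [coe_filter, mem_univ, true_and, Set.mem_ofPred_eq] at hx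
    obtain ⟨hx1, hx2⟩ := hx
    simp only [coe_sigma, Set.mem_sigma_iff, coe_filter, mem_univ, true_and, Set.mem_ofPred_eq]
    have hyP : (x ^ u) ^ (p ^ (a + 1)) = 1 := by
      rw [← pow_mul]
      apply pow_eq_one_of_dvd' hx1
      obtain ⟨k, rfl⟩ := hsu
      exact ⟨k, by ring⟩
    have hvm : x ^ (v * (p ^ a * s)) = 1 := by
      apply pow_eq_one_of_dvd' hx1
      obtain ⟨k, rfl⟩ := hPv
      exact ⟨k * p ^ a, by ring⟩
    refine ⟨?_, ?_, ?_⟩
    · apply orderOf_eq_prime_pow _ hyP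
      intro hcon
      apply hx2
      have h1 : x ^ (p ^ a * s) = x ^ ((u + v) * (p ^ a * s)) := by
        apply pow_eq_of_modEq hx1
        simpa using (huv.mul_right (p ^ a * s)).symm
      rw [h1, add_mul, pow_add, hvm, mul_one, pow_mul, pow_mul, hcon, one_pow]
    · exact ((Commute.refl x).pow_pow v u).eq
    · rw [← pow_mul]
      apply pow_eq_one_of_dvd' hx1
      obtain ⟨k, rfl⟩ := hPv
      exact ⟨k, by ring⟩
  · rintro ⟨y, z⟩ hyz
    simp only [coe_sigma, Set.mem_sigma_iff, coe_filter, mem_univ, true_and, Set.mem_ofPred_eq] at hyz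
    obtain ⟨hy, hc, hz⟩ := hyz
    simp only [coe_filter, mem_univ, true_and, Set.mem_ofPred_eq]
    have hcomm : Commute y z := hc.symm
    have hyP : y ^ (p ^ (a + 1)) = 1 := by rw [← hy]; exact pow_orderOf_eq_one y
    refine ⟨?_, ?_⟩
    · rw [hcomm.mul_pow, pow_mul, hyP, one_pow, one_mul, mul_comm, pow_mul, hz, one_pow]
    · rw [hcomm.mul_pow, mul_comm (p ^ a) s, pow_mul z, hz, one_pow, mul_one]
      intro hcon
      have := orderOf_dvd_of_pow_eq_one hcon
      rw [hy, pow_succ, mul_comm s, Nat.mul_dvd_mul_iff_left (pow_pos hp.out.pos a)] at this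
      exact hps this
  · intro x hx
    simp only [coe_filter, mem_univ, true_and, Set.mem_ofPred_eq] at hx
    obtain ⟨hx1, hx2⟩ := hx
    show x ^ u * x ^ v = x
    rw [← pow_add]
    have := pow_eq_of_modEq hx1 huv
    rw [this, pow_one]
  · rintro ⟨y, z⟩ hyz
    simp only [coe_sigma, Set.mem_sigma_iff, coe_filter, mem_univ, true_and, Set.mem_ofPred_eq] at hyz
    obtain ⟨hy, hc, hz⟩ := hyz
    have hcomm : Commute y z := hc.symm
    have hyP : y ^ (p ^ (a + 1)) = 1 := by rw [← hy]; exact pow_orderOf_eq_one y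
    show (⟨(y * z) ^ u, (y * z) ^ v⟩ : Σ _ : G, G) = ⟨y, z⟩
    have h1 : (y * z) ^ u = y := by
      rw [hcomm.mul_pow, pow_eq_one_of_dvd' hz hsu, mul_one]
      have := pow_eq_of_modEq hyP hu1
      rw [this, pow_one]
    have h2 : (y * z) ^ v = z := by
      rw [hcomm.mul_pow, pow_eq_one_of_dvd' hyP hPv, one_mul]
      have := pow_eq_of_modEq hz hv1
      rw [this, pow_one]
    rw [h1, h2]


theorem prime_pow_dvd_of_dvd_of_not_dvd (p : ℕ) (hp : p.Prime) (a s o : ℕ) (ho0 : o ≠ 0)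
    (h1 : o ∣ p ^ (a + 1) * s) (h2 : ¬ o ∣ p ^ a * s) : p ^ (a + 1) ∣ o := by
  obtain ⟨b, t, hpt, ho⟩ := Nat.exists_eq_pow_mul_and_not_dvd ho0 p hp.ne_one
  rcases Nat.lt_or_ge a b with hb | hb
  · rw [ho]
    exact dvd_mul_of_dvd_left (pow_dvd_pow p hb) t
  · exfalso
    apply h2
    have ht : t ∣ p ^ (a + 1) * s := dvd_trans (Dvd.intro_left _ ho.symm) h1
    have hco : Nat.Coprime t (p ^ (a + 1)) :=
      Nat.Coprime.pow_right _ ((Nat.Prime.coprime_iff_not_dvd hp).mpr hpt).symm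
    have hts : t ∣ s := hco.dvd_of_dvd_mul_left ht
    rw [ho]
    exact Nat.mul_dvd_mul (pow_dvd_pow p hb) hts

theorem ppart_dvd {G : Type*} [Group G] [Fintype G] [DecidableEq G] (p : ℕ) [hp : Fact p.Prime]
    (a s : ℕ) :
    p ^ a ∣ (univ.filter (fun x : G => x ^ (p ^ (a + 1) * s) = 1 ∧ x ^ (p ^ a * s) ≠ 1)).card := by
  classical
  rw [Finset.card_eq_sum_card_image (fun x : G => Subgroup.zpowers x)]
  apply Finset.dvd_sum
  intro C hC
  rw [mem_image] at hC
  obtain ⟨x0, hx0, rfl⟩ := hC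
  rw [mem_filter] at hx0
  obtain ⟨_, hx1, hx2⟩ := hx0
  have hfib : (univ.filter (fun x : G => x ^ (p ^ (a + 1) * s) = 1 ∧ x ^ (p ^ a * s) ≠ 1)).filter
      (fun x => Subgroup.zpowers x = Subgroup.zpowers x0) =
      univ.filter (fun x : G => Subgroup.zpowers x = Subgroup.zpowers x0) := by
    ext x
    simp only [mem_filter, mem_univ, true_and, and_iff_right_iff_imp]
    intro hx
    have ho : orderOf x = orderOf x0 := by
      have := congrArg (fun K : Subgroup G => Nat.card K) hx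
      simp only [Nat.card_zpowers] at this
      exact this
    rw [Ne, ← orderOf_dvd_iff_pow_eq_one] at hx2
    rw [← orderOf_dvd_iff_pow_eq_one] at hx1
    rw [Ne, ← orderOf_dvd_iff_pow_eq_one, ← orderOf_dvd_iff_pow_eq_one, ho]
    exact ⟨hx1, hx2⟩
  rw [hfib, card_zpowers_eq]
  have hd : p ^ (a + 1) ∣ orderOf x0 := by
    apply prime_pow_dvd_of_dvd_of_not_dvd p hp.out a s _ (orderOf_pos x0).ne'
    · exact orderOf_dvd_of_pow_eq_one hx1
    · intro h
      exact hx2 (orderOf_dvd_iff_pow_eq_one.mp h)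
  have := Nat.totient_dvd_of_dvd hd
  rw [Nat.totient_prime_pow_succ hp.out] at this
  exact dvd_trans (Dvd.intro _ rfl) this


end Cfsg.Agent.helper20
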