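import Mathlib
import Cfsg.Statements.S3993
import Cfsg.Agent.Lib_helper20_PowCount

set_option autoImplicit false
open Cfsg

namespace Cfsg.Agent.S3993

open Cfsg.Agent.helper20 Finset

universe u

theorem arith_aux (s idx cbar P L N : ℕ) (hN : idx * cbar * P = N) (hsN : s ∣ N)
    (hco : Nat.Coprime s P) (hL : Nat.gcd s cbar ∣ L) : s ∣ idx * L := by
  have h1 : s ∣ idx * cbar := hco.dvd_of_dvd_mul_right (hN ▸ hsN)
  have h2 : s ∣ idx * s := Dvd.intro_left _ rfl
  have h3 : s ∣ Nat.gcd (idx * cbar) (idx * s) := Nat.dvd_gcd h1 h2
  rw [Nat.gcd_mul_left, Nat.gcd_comm] at h3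
  exact dvd_trans h3 (Nat.mul_dvd_mul_left idx hL)

/-- the number of `z` commuting with `y` with `z ^ s = 1` is the number of solutions in the centralizer -/
theorem card_comm_eq {G : Type u} [Group G] [Fintype G] [DecidableEq G] (y : G) (s : ℕ) :
    (univ.filter (fun z : G => z * y = y * z ∧ z ^ s = 1)).card =
      Nat.card {c : ↥(Subgroup.centralizer ({y} : Set G)) // c ^ s = 1} := by
  rw [← Fintype.card_subtype, ← Nat.card_eq_fintype_card]
  apply Nat.card_congr
  refine ⟨fun z => ⟨⟨z.1, Subgroup.mem_centralizer_singleton_iff.mpr z.2.1⟩, Subtype.ext z.2.2⟩,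
    fun c => ⟨c.1.1, Subgroup.mem_centralizer_singleton_iff.mp c.1.2, ?_⟩, ?_, ?_⟩
  · have := congrArg Subtype.val c.2
    simpa using this
  · intro z; rfl
  · intro c; rfl

theorem frobenius_aux : ∀ (N : ℕ) (G : Type u) [Group G] [Finite G], Nat.card G = N →
    ∀ m : ℕ, Nat.gcd m N ∣ Nat.card {g : G // g ^ m = 1} := by
  intro N
  induction N using Nat.strong_induction_on with
  | _ N IH =>
  intro G _ _ hN m
  classical
  have := Fintype.ofFinite G
  have hNpos : 0 < N := hN ▸ Nat.card_pos
  have hpowN : ∀ g : G, g ^ N = 1 := fun g => hN ▸ pow_card_eq_one'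
  -- reduce to divisors
  have hred : Nat.card {g : G // g ^ m = 1} = Nat.card {g : G // g ^ (Nat.gcd m N) = 1} := by
    apply Nat.card_congr
    apply Equiv.subtypeEquivRight
    intro g
    rw [pow_gcd_eq_one]
    exact ⟨fun h => ⟨h, hpowN g⟩, fun h => h.1⟩
  rw [hred]
  have hdiv : Nat.gcd m N ∣ N := Nat.gcd_dvd_right m N
  generalize Nat.gcd m N = m' at hdiv
  clear hred m
  -- inner induction
  have inner : ∀ d : ℕ, ∀ m : ℕ, m * d = N → m ∣ Nat.card {g : G // g ^ m = 1} := by
    intro d
    induction d using Nat.strong_induction_on with
    | _ d IHd =>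
    intro m hmd
    have hm0 : m ≠ 0 := by rintro rfl; simp at hmd; omega
    have hd0 : d ≠ 0 := by rintro rfl; simp at hmd; omega
    by_cases hd1 : d = 1
    · subst hd1
      rw [mul_one] at hmd
      subst hmd
      have : Nat.card {g : G // g ^ m = 1} = Nat.card G :=
        Nat.card_congr (Equiv.subtypeUnivEquiv hpowN)
      rw [this, hN]
    · have hp : d.minFac.Prime := Nat.minFac_prime hd1
      set p := d.minFac with hpdef
      have : Fact p.Prime := ⟨hp⟩
      obtain ⟨d', hd'⟩ := Nat.minFac_dvd d
      rw [← hpdef] at hd'
      have hd'0 : d' ≠ 0 := by rintro rfl; simp at hd'; exact hd0 hd'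
      have hd'lt : d' < d := by
        rw [hd']
        have := hp.two_le
        nlinarith [Nat.pos_of_ne_zero hd'0]
      have hmp : m * p * d' = N := by rw [← hmd, hd']; ring
      have IH1 := IHd d' hd'lt (m * p) hmp
      obtain ⟨a, s, hps, hm⟩ := Nat.exists_eq_pow_mul_and_not_dvd hm0 p hp.ne_one
      have hmp' : m * p = p ^ (a + 1) * s := by rw [hm]; ring
      -- cards as finset cards
      have hL : ∀ k : ℕ, Nat.card {g : G // g ^ k = 1} = (univ.filter (fun g : G => g ^ k = 1)).card := by
        intro k
        rw [Nat.card_eq_fintype_card, Fintype.card_subtype]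
      rw [hL] at IH1 ⊢
      have hsplit : (univ.filter (fun g : G => g ^ (m * p) = 1)).card =
          (univ.filter (fun g : G => g ^ m = 1)).card +
          (univ.filter (fun x : G => x ^ (p ^ (a + 1) * s) = 1 ∧ x ^ (p ^ a * s) ≠ 1)).card := by
        rw [← card_filter_add_card_filter_not (s := univ.filter (fun g : G => g ^ (m * p) = 1))
          (fun g : G => g ^ m = 1), filter_filter, filter_filter]
        congr 2
        · ext g
          simp only [mem_filter, mem_univ, true_and, and_iff_right_iff_imp]
          intro h
          rw [pow_mul, h, one_pow]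
        · ext g
          simp only [mem_filter, mem_univ, true_and, ne_eq]
          rw [hmp']
          rw [hm]
      -- the key divisibility
      have hX : m ∣ (univ.filter (fun x : G => x ^ (p ^ (a + 1) * s) = 1 ∧ x ^ (p ^ a * s) ≠ 1)).card := by
        have h1 := ppart_dvd (G := G) p a s
        have h2 : s ∣ (univ.filter (fun x : G => x ^ (p ^ (a + 1) * s) = 1 ∧ x ^ (p ^ a * s) ≠ 1)).card := by
          rw [card_decomp p a s hps, Finset.sum_filter]
          apply class_sum_dvd
          · intro g y
            have ho : orderOf (g * y * g⁻¹) = orderOf y := by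
              have := MulEquiv.orderOf_eq (MulAut.conj g) y
              simpa [MulAut.conj_apply] using this
            rw [ho]
            congr 1
            apply Finset.card_nbij' (fun z => g⁻¹ * z * g) (fun z => g * z * g⁻¹)
            · intro z hz
              simp only [coe_filter, mem_univ, true_and, Set.mem_ofPred_eq] at hz ⊢
              refine ⟨?_, ?_⟩
              · have h3 : g⁻¹ * (z * (g * y * g⁻¹)) * g = g⁻¹ * ((g * y * g⁻¹) * z) * g := by rw [hz.1]
                calc g⁻¹ * z * g * y = g⁻¹ * (z * (g * y * g⁻¹)) * g := by group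
                  _ = g⁻¹ * ((g * y * g⁻¹) * z) * g := h3
                  _ = y * (g⁻¹ * z * g) := by group
              · have h4 : (g⁻¹ * z * g) ^ s = g⁻¹ * z ^ s * g := by
                  have := conj_pow (a := g⁻¹) (b := z) (i := s)
                  simpa using this
                rw [h4, hz.2]; group
            · intro z hz
              simp only [coe_filter, mem_univ, true_and, Set.mem_ofPred_eq] at hz ⊢
              refine ⟨?_, ?_⟩
              · calc g * z * g⁻¹ * (g * y * g⁻¹) = g * (z * y) * g⁻¹ := by group
                  _ = g * (y * z) * g⁻¹ := by rw [hz.1]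
                  _ = g * y * g⁻¹ * (g * z * g⁻¹) := by group
              · rw [conj_pow, hz.2]; group
            · intro z _; group
            · intro z _; group
          · intro y
            by_cases hy : orderOf y = p ^ (a + 1)
            · rw [if_pos hy, card_comm_eq]
              -- the centralizer and its quotient
              set C := Subgroup.centralizer ({y} : Set G) with hC
              have hyC : y ∈ C := Subgroup.mem_centralizer_singleton_iff.mpr rfl
              set Zy : Subgroup ↥C := Subgroup.zpowers (⟨y, hyC⟩ : ↥C) with hZy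
              have hcen : Zy ≤ Subgroup.center ↥C := by
                rw [hZy, Subgroup.zpowers_le, Subgroup.mem_center_iff]
                intro c
                apply Subtype.ext
                exact Subgroup.mem_centralizer_singleton_iff.mp c.2
              have hnorm : Zy.Normal := by
                constructor
                intro n hn c
                have := Subgroup.mem_center_iff.mp (hcen hn) c
                rw [this, mul_inv_cancel_right]
                exact hn
              have hcardZ : Nat.card Zy = p ^ (a + 1) := by
                rw [hZy, Nat.card_zpowers, Subgroup.orderOf_mk, hy]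
              have hcoZ : s.Coprime (Nat.card Zy) := by
                rw [hcardZ]
                exact Nat.Coprime.pow_right _ ((Nat.Prime.coprime_iff_not_dvd hp).mpr hps).symm
              rw [card_pow_eq_one_quotient Zy hcen s hcoZ]
              have hcards : C.index * Nat.card (↥C ⧸ Zy) * p ^ (a + 1) = N := by
                rw [← hcardZ, mul_assoc, ← Subgroup.card_eq_card_quotient_mul_card_subgroup, mul_comm,
                  Subgroup.card_mul_index, hN]
              have hquotpos : 0 < Nat.card (↥C ⧸ Zy) := Nat.card_pos
              have hlt : Nat.card (↥C ⧸ Zy) < N := by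
                have h2 : 2 ≤ p ^ (a + 1) := by
                  calc 2 ≤ p := hp.two_le
                    _ = p ^ 1 := (pow_one p).symm
                    _ ≤ p ^ (a + 1) := Nat.pow_le_pow_right hp.pos (by omega)
                have hidx : 0 < C.index := Nat.pos_of_ne_zero Subgroup.index_ne_zero_of_finite
                rw [← hcards]
                have h6 : Nat.card (↥C ⧸ Zy) * 2 ≤ (C.index * Nat.card (↥C ⧸ Zy)) * p ^ (a + 1) :=
                  Nat.mul_le_mul (Nat.le_mul_of_pos_left _ hidx) h2
                omega
              have IH2 := IH (Nat.card (↥C ⧸ Zy)) hlt (↥C ⧸ Zy) rfl s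
              have hsN : s ∣ N := by
                rw [← hmd, hm]
                exact dvd_mul_of_dvd_left (Dvd.intro_left _ rfl) d
              have hcoP : Nat.Coprime s (p ^ (a + 1)) :=
                Nat.Coprime.pow_right _ ((Nat.Prime.coprime_iff_not_dvd hp).mpr hps).symm
              exact arith_aux s C.index (Nat.card (↥C ⧸ Zy)) (p ^ (a + 1)) _ N hcards hsN hcoP IH2
            · rw [if_neg hy, mul_zero]
              exact dvd_zero s
        have hco : Nat.Coprime (p ^ a) s :=
          Nat.Coprime.pow_left _ ((Nat.Prime.coprime_iff_not_dvd hp).mpr hps)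
        rw [hm]
        exact hco.mul_dvd_of_dvd_of_dvd h1 h2
      have h5 : m ∣ (univ.filter (fun g : G => g ^ (m * p) = 1)).card := dvd_trans (Dvd.intro _ rfl) IH1
      rw [hsplit] at h5
      exact (Nat.dvd_add_left hX).mp h5
  obtain ⟨d, hd⟩ := hdiv
  exact inner d m' hd.symm

theorem result {G : Type*} [Group G] [Finite G] (m : ℕ) (hm : m ∣ Nat.card G) :
    m ∣ Nat.card {g : G // g ^ m = 1} := by
  have := frobenius_aux (Nat.card G) G rfl m
  rwa [Nat.gcd_eq_left hm] at this

end Cfsg.Agent.S3993
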