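import Mathlib
import Cfsg.Agent.S3993
import Cfsg.Agent.Lib_helper11_QuatPres

set_option autoImplicit false
set_option linter.style.haveILetI false

/-! Groups in which the numbers of elements of each order take few values: counting tools. -/

namespace Cfsg.Agent.helper20.OrdCount

/-- the number of elements of order `m`. -/
noncomputable def cnt (G : Type*) [Group G] (m : ℕ) : ℕ := Nat.card {g : G // orderOf g = m}

section Basic

variable {G : Type*} [Group G] [Finite G]

theorem cnt_def (m : ℕ) : cnt G m = Nat.card {g : G // orderOf g = m} := rfl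

theorem cnt_one : cnt G 1 = 1 := by
  rw [cnt_def, Nat.card_eq_one_iff_unique]
  refine ⟨⟨?_⟩, ⟨⟨1, orderOf_one⟩⟩⟩
  rintro ⟨a, ha⟩ ⟨b, hb⟩
  apply Subtype.ext
  show a = b
  rw [orderOf_eq_one_iff.mp ha, orderOf_eq_one_iff.mp hb]

theorem cnt_pos (g : G) : 0 < cnt G (orderOf g) := by
  rw [cnt_def]
  haveI : Nonempty {h : G // orderOf h = orderOf g} := ⟨⟨g, rfl⟩⟩
  exact Nat.card_pos

theorem cnt_eq_zero {m : ℕ} (h : ∀ g : G, orderOf g ≠ m) : cnt G m = 0 := by
  rw [cnt_def]
  haveI : IsEmpty {g : G // orderOf g = m} := ⟨fun x => h x.1 x.2⟩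
  exact Nat.card_of_isEmpty

theorem exists_of_cnt_ne_zero {m : ℕ} (h : cnt G m ≠ 0) : ∃ g : G, orderOf g = m := by
  by_contra hcon
  push Not at hcon
  exact h (cnt_eq_zero hcon)

/-- an order with a single element is `1` or `2`. -/
theorem le_two_of_cnt_eq_one (g : G) (h : cnt G (orderOf g) = 1) : orderOf g ≤ 2 := by
  by_contra hcon
  push Not at hcon
  rw [cnt_def, Nat.card_eq_one_iff_unique] at h
  obtain ⟨hs, -⟩ := h
  have h1 : (⟨g, rfl⟩ : {h : G // orderOf h = orderOf g}) = ⟨g⁻¹, orderOf_inv g⟩ :=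
    Subsingleton.elim _ _
  have h2 : g = g⁻¹ := congrArg Subtype.val h1
  have h3 : g ^ 2 = 1 := by
    rw [pow_two]
    nth_rewrite 2 [h2]
    exact mul_inv_cancel g
  have h4 := orderOf_le_of_pow_eq_one (by norm_num) h3
  omega

/-- the number of solutions of `g ^ a = 1` as a sum over the occurring orders. -/
theorem card_pow_eq_one_eq_sum (a : ℕ) (D : Finset ℕ)
    (hD : ∀ g : G, g ^ a = 1 ↔ orderOf g ∈ D) :
    Nat.card {g : G // g ^ a = 1} = ∑ d ∈ D, cnt G d := by
  classical
  haveI : Fintype G := Fintype.ofFinite G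
  rw [Nat.card_eq_fintype_card, Fintype.card_subtype]
  rw [Finset.card_eq_sum_card_fiberwise (f := fun g : G => orderOf g) (t := D)]
  · apply Finset.sum_congr rfl
    intro d hd
    rw [cnt_def, Nat.card_eq_fintype_card, Fintype.card_subtype]
    congr 1
    ext g
    simp only [Finset.mem_filter, Finset.mem_univ, true_and]
    constructor
    · rintro ⟨-, h2⟩; exact h2
    · intro h2
      refine ⟨?_, h2⟩
      rw [hD, h2]; exact hd
  · intro g hg
    simp only [Finset.coe_filter, Finset.mem_univ, true_and, Set.mem_ofPred_eq] at hg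
    exact Finset.mem_coe.mpr ((hD g).mp hg)

/-- Frobenius' theorem in terms of the order counts. -/
theorem dvd_sum_cnt (a : ℕ) (ha : a ∣ Nat.card G) (D : Finset ℕ)
    (hD : ∀ g : G, g ^ a = 1 ↔ orderOf g ∈ D) : a ∣ ∑ d ∈ D, cnt G d := by
  rw [← card_pow_eq_one_eq_sum a D hD]
  exact Cfsg.Agent.S3993.result a ha

theorem prime_dvd_succ {q n : ℕ} (hq : q.Prime) (hqG : q ∣ Nat.card G) (hcq : cnt G q = n) :
    q ∣ 1 + n := by
  have h1 := dvd_sum_cnt (G := G) q hqG {1, q} (by
    intro g
    rw [← orderOf_dvd_iff_pow_eq_one, Nat.dvd_prime hq]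
    simp)
  rw [Finset.sum_pair hq.one_lt.ne, cnt_one, hcq] at h1
  exact h1

theorem no_prime_sq {q n : ℕ} (hq : q.Prime) (hqn : q ∣ 1 + n) (hcq : cnt G q = n)
    (hcq2 : cnt G (q ^ 2) = n) (hq2G : q ^ 2 ∣ Nat.card G) : False := by
  have hq1 : 1 < q := hq.one_lt
  have hne1 : (1 : ℕ) ≠ q := hq1.ne
  have hne2 : (1 : ℕ) ≠ q ^ 2 := by
    have : 1 < q ^ 2 := Nat.one_lt_pow (by norm_num) hq1
    omega
  have hne3 : q ≠ q ^ 2 := by
    intro h
    have : q ^ 1 = q ^ 2 := by rw [pow_one]; exact h
    have := Nat.pow_right_injective hq1 this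
    omega
  have h1 := dvd_sum_cnt (G := G) (q ^ 2) hq2G {1, q, q ^ 2} (by
    intro g
    rw [← orderOf_dvd_iff_pow_eq_one, Nat.dvd_prime_pow hq]
    simp only [Finset.mem_insert, Finset.mem_singleton]
    constructor
    · rintro ⟨k, hk, hkk⟩
      interval_cases k
      · left; rw [hkk, pow_zero]
      · right; left; rw [hkk, pow_one]
      · right; right; exact hkk
    · rintro (h | h | h)
      · exact ⟨0, by norm_num, by rw [h, pow_zero]⟩
      · exact ⟨1, by norm_num, by rw [h, pow_one]⟩
      · exact ⟨2, le_refl _, h⟩)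
  rw [Finset.sum_insert (by simp [hne1, hne2]), Finset.sum_pair hne3, cnt_one, hcq, hcq2] at h1
  have h2 : q ∣ 1 + (n + n) := dvd_trans (dvd_pow_self q (by norm_num)) h1
  have h3 : q ∣ n := by
    have : 1 + (n + n) = (1 + n) + n := by ring
    rw [this] at h2
    exact (Nat.dvd_add_right hqn).mp h2
  have h4 : q ∣ 1 := (Nat.dvd_add_left h3).mp hqn
  exact hq.one_lt.ne' (Nat.dvd_one.mp h4)

theorem no_two_primes {q r n : ℕ} (hq : q.Prime) (hr : r.Prime) (hqr : q ≠ r) (hqn : q ∣ 1 + n)
    (hrn : r ∣ 1 + n) (hcq : cnt G q = n) (hcr : cnt G r = n) (hG : q * r ∣ Nat.card G)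
    (hcqr : cnt G (q * r) = 0 ∨ cnt G (q * r) = n) : False := by
  have hq1 : 1 < q := hq.one_lt
  have hr1 : 1 < r := hr.one_lt
  have hne1 : (1 : ℕ) ≠ q := hq1.ne
  have hne2 : (1 : ℕ) ≠ r := hr1.ne
  have hne3 : (1 : ℕ) ≠ q * r := by nlinarith
  have hne4 : q ≠ q * r := by nlinarith
  have hne5 : r ≠ q * r := by nlinarith
  have h1 := dvd_sum_cnt (G := G) (q * r) hG {1, q, r, q * r} (by
    intro g
    rw [← orderOf_dvd_iff_pow_eq_one, Nat.dvd_mul]
    simp only [Finset.mem_insert, Finset.mem_singleton]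
    constructor
    · rintro ⟨y, z, hy, hz, hyz⟩
      rcases (Nat.dvd_prime hq).mp hy with rfl | rfl <;>
        rcases (Nat.dvd_prime hr).mp hz with rfl | rfl
      · left; rw [← hyz]
      · right; right; left; rw [← hyz, one_mul]
      · right; left; rw [← hyz, mul_one]
      · right; right; right; exact hyz.symm
    · rintro (h | h | h | h)
      · exact ⟨1, 1, one_dvd _, one_dvd _, by rw [h]⟩
      · exact ⟨q, 1, dvd_refl _, one_dvd _, by rw [h, mul_one]⟩
      · exact ⟨1, r, one_dvd _, dvd_refl _, by rw [h, one_mul]⟩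
      · exact ⟨q, r, dvd_refl _, dvd_refl _, h.symm⟩)
  rw [Finset.sum_insert (by simp [hne1, hne2, hne3]),
    Finset.sum_insert (by simp [hqr, hne4]), Finset.sum_pair hne5, cnt_one, hcq, hcr] at h1
  have hq3 : q ∣ 1 + (n + (n + cnt G (q * r))) := dvd_trans (Dvd.intro _ rfl) h1
  have hr3 : r ∣ 1 + (n + (n + cnt G (q * r))) := dvd_trans (Dvd.intro_left _ rfl) h1
  rcases hcqr with h0 | h0
  · rw [h0, add_zero] at hq3
    have h3 : q ∣ n := by
      have : 1 + (n + n) = (1 + n) + n := by ring
      rw [this] at hq3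
      exact (Nat.dvd_add_right hqn).mp hq3
    have h4 : q ∣ 1 := (Nat.dvd_add_left h3).mp hqn
    exact hq.one_lt.ne' (Nat.dvd_one.mp h4)
  · rw [h0] at hq3 hr3
    have key : ∀ s : ℕ, s.Prime → s ∣ 1 + n → s ∣ 1 + (n + (n + n)) → s = 2 := by
      intro s hs hsn hs3
      have h3 : s ∣ 2 * n := by
        have : 1 + (n + (n + n)) = (1 + n) + 2 * n := by ring
        rw [this] at hs3
        exact (Nat.dvd_add_right hsn).mp hs3
      rcases (Nat.Prime.dvd_mul hs).mp h3 with h4 | h4
      · exact (Nat.prime_dvd_prime_iff_eq hs Nat.prime_two).mp h4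
      · exfalso
        have h5 : s ∣ 1 := (Nat.dvd_add_left h4).mp hsn
        exact hs.one_lt.ne' (Nat.dvd_one.mp h5)
    exact hqr ((key q hq hqn hq3).trans (key r hr hrn hr3).symm)

end Basic

section CaseA

variable {G : Type*} [Group G] [Finite G]

/-- an element whose order is divisible by `a` has a power of order `a`. -/
theorem exists_orderOf_eq_of_dvd (g : G) {a : ℕ} (ha : a ∣ orderOf g) :
    ∃ h : G, orderOf h = a := by
  obtain ⟨b, hb⟩ := ha
  have hpos : 0 < orderOf g := orderOf_pos g
  have hb0 : b ≠ 0 := by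
    rintro rfl
    rw [mul_zero] at hb
    omega
  have ha0 : a ≠ 0 := by
    rintro rfl
    rw [zero_mul] at hb
    omega
  refine ⟨g ^ b, ?_⟩
  rw [orderOf_pow_of_dvd hb0 (Dvd.intro_left _ hb.symm), hb]
  exact Nat.mul_div_cancel _ (Nat.pos_of_ne_zero hb0)

/-- all non-identity orders have the same count: a `p`-group of exponent `p`. -/
theorem pgroup_of_const (n : ℕ) [Nontrivial G]
    (hc : ∀ g : G, g ≠ 1 → cnt G (orderOf g) = n) :
    ∃ p : ℕ, p.Prime ∧ IsPGroup p G ∧ Monoid.exponent G = p := by
  have hcard1 : 1 < Nat.card G := Finite.one_lt_card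
  -- primes dividing the order
  have hprime : ∀ q : ℕ, q.Prime → q ∣ Nat.card G → cnt G q = n ∧ q ∣ 1 + n := by
    intro q hq hqG
    haveI : Fact q.Prime := ⟨hq⟩
    obtain ⟨x, hx⟩ := exists_prime_orderOf_dvd_card' q hqG
    have hx1 : x ≠ 1 := by
      rintro rfl
      rw [orderOf_one] at hx
      exact hq.one_lt.ne hx
    have h1 := hc x hx1
    rw [hx] at h1
    exact ⟨h1, prime_dvd_succ hq hqG h1⟩
  have hcnt : ∀ m : ℕ, m ≠ 1 → (∃ g : G, orderOf g = m) → cnt G m = n := by
    rintro m hm ⟨g, rfl⟩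
    apply hc
    rintro rfl
    exact hm orderOf_one
  -- every non-identity element has prime order
  have hord : ∀ g : G, g ≠ 1 → (orderOf g).Prime := by
    intro g hg
    have hm1 : orderOf g ≠ 1 := fun h => hg (orderOf_eq_one_iff.mp h)
    set m := orderOf g with hm
    have hq : (Nat.minFac m).Prime := Nat.minFac_prime hm1
    obtain ⟨m', hm'⟩ := Nat.minFac_dvd m
    by_cases h1 : m' = 1
    · rw [h1, mul_one] at hm'
      rw [hm']; exact hq
    · exfalso
      have hr : (Nat.minFac m').Prime := Nat.minFac_prime h1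
      obtain ⟨m'', hm''⟩ := Nat.minFac_dvd m'
      have hdvd : Nat.minFac m * Nat.minFac m' ∣ orderOf g := by
        rw [← hm]
        refine ⟨m'', ?_⟩
        rw [mul_assoc, ← hm'', ← hm']
      obtain ⟨y, hy⟩ := exists_orderOf_eq_of_dvd g hdvd
      have hqG : Nat.minFac m ∣ Nat.card G :=
        dvd_trans (Dvd.intro _ rfl) (dvd_trans hdvd (orderOf_dvd_natCard g))
      have hrG : Nat.minFac m' ∣ Nat.card G :=
        dvd_trans (Dvd.intro_left _ rfl) (dvd_trans hdvd (orderOf_dvd_natCard g))
      have hqrG : Nat.minFac m * Nat.minFac m' ∣ Nat.card G :=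
        dvd_trans hdvd (orderOf_dvd_natCard g)
      obtain ⟨hcq, hqn⟩ := hprime _ hq hqG
      obtain ⟨hcr, hrn⟩ := hprime _ hr hrG
      have hne1 : Nat.minFac m * Nat.minFac m' ≠ 1 := by
        have := hq.one_lt
        have := hr.one_lt
        nlinarith
      have hcqr := hcnt _ hne1 ⟨y, hy⟩
      by_cases hqr : Nat.minFac m = Nat.minFac m'
      · rw [← hqr, ← pow_two] at hcqr hqrG
        exact no_prime_sq hq hqn hcq hcqr hqrG
      · exact no_two_primes hq hr hqr hqn hrn hcq hcr hqrG (Or.inr hcqr)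
  -- only one prime divides the order
  set p := Nat.minFac (Nat.card G) with hp
  have hpp : p.Prime := Nat.minFac_prime hcard1.ne'
  have hpG : p ∣ Nat.card G := Nat.minFac_dvd _
  have huniq : ∀ {d : ℕ}, d.Prime → d ∣ Nat.card G → d = p := by
    intro d hd hdG
    by_contra hdp
    obtain ⟨hcq, hqn⟩ := hprime _ hd hdG
    obtain ⟨hcr, hrn⟩ := hprime _ hpp hpG
    have hco : Nat.Coprime d p := (Nat.coprime_primes hd hpp).mpr hdp
    have hG : d * p ∣ Nat.card G := hco.mul_dvd_of_dvd_of_dvd hdG hpG
    refine no_two_primes hd hpp hdp hqn hrn hcq hcr hG (Or.inl ?_)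
    apply cnt_eq_zero
    intro g hg
    have hg1 : g ≠ 1 := by
      rintro rfl
      rw [orderOf_one] at hg
      have := hd.one_lt
      have := hpp.one_lt
      nlinarith
    have := hord g hg1
    rw [hg] at this
    exact Nat.not_prime_mul hd.one_lt.ne' hpp.one_lt.ne' this
  have hcard : Nat.card G = p ^ (Nat.card G).primeFactorsList.length :=
    Nat.eq_prime_pow_of_unique_prime_dvd (by omega) huniq
  refine ⟨p, hpp, IsPGroup.of_card hcard, ?_⟩
  rw [Monoid.exponent_eq_prime_iff hpp]
  intro g hg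
  exact huniq (hord g hg) (orderOf_dvd_natCard g)

end CaseA

section CaseB

variable {G : Type*} [Group G] [Finite G]

theorem dvd_four_iff {k : ℕ} : k ∣ 4 ↔ k = 1 ∨ k = 2 ∨ k = 4 := by
  constructor
  · intro h
    have := Nat.le_of_dvd (by norm_num) h
    interval_cases k <;> omega
  · rintro (h | h | h) <;> rw [h] <;> norm_num

theorem dvd_eight_iff {k : ℕ} : k ∣ 8 ↔ k = 1 ∨ k = 2 ∨ k = 4 ∨ k = 8 := by
  constructor
  · intro h
    have := Nat.le_of_dvd (by norm_num) h
    interval_cases k <;> omega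
  · rintro (h | h | h | h) <;> rw [h] <;> norm_num

/-- a unique involution is central. -/
theorem exists_central_invol (h2 : cnt G 2 = 1) :
    ∃ z : G, orderOf z = 2 ∧ (∀ g : G, orderOf g = 2 → g = z) ∧ ∀ g : G, g * z = z * g := by
  rw [cnt_def, Nat.card_eq_one_iff_unique] at h2
  obtain ⟨hs, ⟨⟨z, hz⟩⟩⟩ := h2
  have huniq : ∀ g : G, orderOf g = 2 → g = z := fun g hg =>
    congrArg Subtype.val (Subsingleton.elim (⟨g, hg⟩ : {g : G // orderOf g = 2}) ⟨z, hz⟩)
  refine ⟨z, hz, huniq, ?_⟩
  intro g
  have h1 : orderOf (g * z * g⁻¹) = 2 := by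
    rw [← hz]
    exact orderOf_injective (MulAut.conj g).toMonoidHom (MulAut.conj g).injective z
  have h3 := huniq _ h1
  calc g * z = (g * z * g⁻¹) * g := by group
    _ = z * g := by rw [h3]

/-- unique involution and an element of order four. -/
theorem quat_or_cyclic (n : ℕ) (h2 : cnt G 2 = 1)
    (hc : ∀ g : G, 3 ≤ orderOf g → cnt G (orderOf g) = n) (x : G) (hx : orderOf x = 4) :
    Nonempty (G ≃* QuaternionGroup 2) ∨ (IsCyclic G ∧ Nat.card G = 4) := by
  obtain ⟨z, hz, hzu, hzc⟩ := exists_central_invol h2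
  have hc4 : cnt G 4 = n := by
    have := hc x (by omega)
    rwa [hx] at this
  have h4G : 4 ∣ Nat.card G := by
    rw [← hx]; exact orderOf_dvd_natCard x
  have hs4 : 4 ∣ 1 + (1 + n) := by
    have h1 := dvd_sum_cnt (G := G) 4 h4G {1, 2, 4} (by
      intro g
      rw [← orderOf_dvd_iff_pow_eq_one, dvd_four_iff]
      simp only [Finset.mem_insert, Finset.mem_singleton])
    rw [Finset.sum_insert (by simp), Finset.sum_pair (by norm_num), cnt_one, h2, hc4] at h1
    exact h1
  -- no odd prime divides the order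
  have hodd : ∀ p : ℕ, p.Prime → p ∣ Nat.card G → p = 2 := by
    intro p hp hpG
    by_contra hp2
    have hp3 : 3 ≤ p := by
      have := hp.two_le
      omega
    have hp4 : p ≠ 4 := by
      rintro rfl
      norm_num at hp
    haveI : Fact p.Prime := ⟨hp⟩
    obtain ⟨y, hy⟩ := exists_prime_orderOf_dvd_card' p hpG
    have hcp : cnt G p = n := by
      have := hc y (by omega)
      rwa [hy] at this
    have hpn := prime_dvd_succ hp hpG hcp
    have hcop2 : Nat.Coprime 2 p := (Nat.coprime_primes Nat.prime_two hp).mpr (Ne.symm hp2)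
    have hzy : orderOf (z * y) = 2 * p := by
      rw [(show Commute z y from (hzc y).symm).orderOf_mul_eq_mul_orderOf_of_coprime
        (by rw [hz, hy]; exact hcop2), hz, hy]
    have hc2p : cnt G (2 * p) = n := by
      have := hc (z * y) (by omega)
      rwa [hzy] at this
    have hcop4 : Nat.Coprime 4 p := by
      have : (4 : ℕ) = 2 ^ 2 := by norm_num
      rw [this]
      exact Nat.Coprime.pow_left 2 hcop2
    have h4pG : 4 * p ∣ Nat.card G := hcop4.mul_dvd_of_dvd_of_dvd h4G hpG
    have hc4p : cnt G (4 * p) = 0 ∨ cnt G (4 * p) = n := by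
      by_cases h : ∃ g : G, orderOf g = 4 * p
      · obtain ⟨g, hg⟩ := h
        right
        have := hc g (by omega)
        rwa [hg] at this
      · left
        push Not at h
        exact cnt_eq_zero h
    have h1 := dvd_sum_cnt (G := G) (4 * p) h4pG {1, 2, 4, p, 2 * p, 4 * p} (by
      intro g
      rw [← orderOf_dvd_iff_pow_eq_one, Nat.dvd_mul]
      simp only [Finset.mem_insert, Finset.mem_singleton]
      constructor
      · rintro ⟨a, b, ha, hb, hab⟩
        rcases dvd_four_iff.mp ha with rfl | rfl | rfl <;>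
          rcases (Nat.dvd_prime hp).mp hb with rfl | rfl
        · left; rw [← hab]
        · right; right; right; left; rw [← hab, one_mul]
        · right; left; rw [← hab]
        · right; right; right; right; left; rw [← hab]
        · right; right; left; rw [← hab]
        · right; right; right; right; right; rw [← hab]
      · rintro (h | h | h | h | h | h)
        · exact ⟨1, 1, by norm_num, one_dvd _, by rw [h]⟩
        · exact ⟨2, 1, by norm_num, one_dvd _, by rw [h]⟩
        · exact ⟨4, 1, by norm_num, one_dvd _, by rw [h]⟩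
        · exact ⟨1, p, by norm_num, dvd_refl _, by rw [h, one_mul]⟩
        · exact ⟨2, p, by norm_num, dvd_refl _, by rw [h]⟩
        · exact ⟨4, p, by norm_num, dvd_refl _, by rw [h]⟩)
    rw [Finset.sum_insert (by simp only [Finset.mem_insert, Finset.mem_singleton]; omega),
      Finset.sum_insert (by simp only [Finset.mem_insert, Finset.mem_singleton]; omega),
      Finset.sum_insert (by simp only [Finset.mem_insert, Finset.mem_singleton]; omega),
      Finset.sum_insert (by simp only [Finset.mem_insert, Finset.mem_singleton]; omega),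
      Finset.sum_pair (by omega), cnt_one, h2, hc4, hcp, hc2p] at h1
    have h3 : p ∣ 1 + (1 + (n + (n + (n + cnt G (4 * p))))) := dvd_trans (Dvd.intro_left _ rfl) h1
    rcases hc4p with h0 | h0
    · rw [h0, add_zero] at h3
      have h5 : p ∣ 3 * (1 + n) - (1 + (1 + (n + (n + n)))) :=
        Nat.dvd_sub (Dvd.dvd.mul_left hpn 3) h3
      have h6 : 3 * (1 + n) - (1 + (1 + (n + (n + n)))) = 1 := by omega
      rw [h6] at h5
      exact hp.one_lt.ne' (Nat.dvd_one.mp h5)
    · rw [h0] at h3
      have h5 : p ∣ 4 * (1 + n) - (1 + (1 + (n + (n + (n + n))))) :=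
        Nat.dvd_sub (Dvd.dvd.mul_left hpn 4) h3
      have h6 : 4 * (1 + n) - (1 + (1 + (n + (n + (n + n))))) = 2 := by omega
      rw [h6] at h5
      have := Nat.le_of_dvd (by norm_num) h5
      omega
  have hcard : Nat.card G = 2 ^ (Nat.card G).primeFactorsList.length :=
    Nat.eq_prime_pow_of_unique_prime_dvd Nat.card_pos.ne' (fun {d} hd hdG => hodd d hd hdG)
  have h8 : ∀ g : G, orderOf g ≠ 8 := by
    intro g hg
    have hc8 : cnt G 8 = n := by
      have := hc g (by omega)
      rwa [hg] at this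
    have h8G : 8 ∣ Nat.card G := by
      rw [← hg]; exact orderOf_dvd_natCard g
    have h1 := dvd_sum_cnt (G := G) 8 h8G {1, 2, 4, 8} (by
      intro g
      rw [← orderOf_dvd_iff_pow_eq_one, dvd_eight_iff]
      simp only [Finset.mem_insert, Finset.mem_singleton])
    rw [Finset.sum_insert (by simp), Finset.sum_insert (by simp), Finset.sum_pair (by norm_num),
      cnt_one, h2, hc4, hc8] at h1
    omega
  have hord : ∀ g : G, orderOf g = 1 ∨ orderOf g = 2 ∨ orderOf g = 4 := by
    intro g
    have h1 : orderOf g ∣ 2 ^ (Nat.card G).primeFactorsList.length := by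
      rw [← hcard]; exact orderOf_dvd_natCard g
    obtain ⟨j, -, hj⟩ := (Nat.dvd_prime_pow Nat.prime_two).mp h1
    by_cases hj3 : 3 ≤ j
    · exfalso
      have h8d : 8 ∣ orderOf g := by
        rw [hj]
        have : (8 : ℕ) = 2 ^ 3 := by norm_num
        rw [this]
        exact pow_dvd_pow 2 hj3
      obtain ⟨y, hy⟩ := exists_orderOf_eq_of_dvd g h8d
      exact h8 y hy
    · have hj' : j = 0 ∨ j = 1 ∨ j = 2 := by omega
      rcases hj' with rfl | rfl | rfl
      · left; rw [hj]; norm_num
      · right; left; rw [hj]; norm_num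
      · right; right; rw [hj]; norm_num
  have hsq4 : ∀ g : G, orderOf g = 4 → g ^ 2 = z := by
    intro g hg
    apply hzu
    rw [orderOf_pow_of_dvd (by norm_num) (by rw [hg]; norm_num), hg]
  have hz2 : z * z = 1 := by
    rw [← pow_two, ← hz, pow_orderOf_eq_one]
  have hsq : ∀ g : G, g * g = 1 ∨ g * g = z := by
    intro g
    rcases hord g with h | h | h
    · left; rw [orderOf_eq_one_iff.mp h, one_mul]
    · left; rw [← pow_two, ← h, pow_orderOf_eq_one]
    · right; rw [← pow_two]; exact hsq4 g h
  have hxz : x * x = z := by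
    rw [← pow_two]; exact hsq4 x hx
  have hxinv : x⁻¹ = x * z := by
    apply inv_eq_of_mul_eq_one_right
    rw [← mul_assoc, hxz, hz2]
  have hconj : ∀ g : G, g * x * g⁻¹ = x ∨ g * x * g⁻¹ = x⁻¹ := by
    intro g
    have key : g * x * g = x⁻¹ ∨ g * x * g = z * x⁻¹ := by
      rcases hsq (g * x) with h | h
      · left
        apply eq_inv_of_mul_eq_one_left
        rw [mul_assoc]; exact h
      · right
        apply eq_mul_inv_of_mul_eq
        rw [mul_assoc]; exact h
    have ginv : g⁻¹ = g ∨ g⁻¹ = g * z := by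
      rcases hsq g with h | h
      · left; exact inv_eq_of_mul_eq_one_right h
      · right
        apply inv_eq_of_mul_eq_one_right
        rw [← mul_assoc, h, hz2]
    have hzx : z * x⁻¹ = x := by
      rw [hxinv, ← mul_assoc, ← hzc x, mul_assoc, hz2, mul_one]
    rcases ginv with hg | hg <;> rcases key with hk | hk
    · right; rw [hg, hk]
    · left; rw [hg, hk, hzx]
    · left
      rw [hg, ← mul_assoc, hk, hzc, hzx]
    · right
      rw [hg, ← mul_assoc, hk, hzc, ← mul_assoc, hz2, one_mul]
  have hcent : ∀ g : G, g * x = x * g → g ∈ Subgroup.zpowers x := by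
    intro g hgx
    rcases hord g with h | h | h
    · rw [orderOf_eq_one_iff.mp h]; exact one_mem _
    · rw [hzu g h, ← hxz]
      exact Subgroup.mul_mem _ (Subgroup.mem_zpowers x) (Subgroup.mem_zpowers x)
    · have h1 : (x * g) ^ 2 = 1 := by
        rw [(show Commute x g from hgx.symm).mul_pow, pow_two, pow_two, hxz, ← pow_two, hsq4 g h,
          hz2]
      have h2' : x * g = 1 ∨ x * g = z := by
        have h3 := orderOf_dvd_of_pow_eq_one h1
        rcases (Nat.dvd_prime Nat.prime_two).mp h3 with h4 | h4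
        · left; exact orderOf_eq_one_iff.mp h4
        · right; exact hzu _ h4
      rcases h2' with h5 | h5
      · have : g = x⁻¹ := eq_inv_of_mul_eq_one_right h5
        rw [this]; exact Subgroup.inv_mem _ (Subgroup.mem_zpowers x)
      · have : g = x := by
          have h6 : x * g = x * x := by rw [h5, hxz]
          exact mul_left_cancel h6
        rw [this]; exact Subgroup.mem_zpowers x
  have hcardH : Nat.card (Subgroup.zpowers x) = 4 := by
    rw [Nat.card_zpowers, hx]
  by_cases htop : Subgroup.zpowers x = ⊤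
  · right
    have hcard4 : Nat.card G = 4 := by
      rw [← hcardH, htop, Subgroup.card_top]
    exact ⟨isCyclic_of_orderOf_eq_card x (hx.trans hcard4.symm), hcard4⟩
  · left
    obtain ⟨y, hy⟩ : ∃ y : G, y ∉ Subgroup.zpowers x := by
      by_contra hcon
      push Not at hcon
      exact htop (eq_top_iff.mpr (fun g _ => hcon g))
    have hinv_of_not : ∀ b : G, b ∉ Subgroup.zpowers x → b * x * b⁻¹ = x⁻¹ := by
      intro b hb
      rcases hconj b with h | h
      · exfalso
        apply hb
        apply hcent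
        calc b * x = (b * x * b⁻¹) * b := by group
          _ = x * b := by rw [h]
      · exact h
    have hidx : (Subgroup.zpowers x).index = 2 := by
      rw [Subgroup.index_eq_two_iff]
      refine ⟨y, fun b => ?_⟩
      by_cases hb : b ∈ Subgroup.zpowers x
      · refine Or.inr ⟨hb, ?_⟩
        intro hby
        apply hy
        have := Subgroup.mul_mem _ (Subgroup.inv_mem _ hb) hby
        rwa [inv_mul_cancel_left] at this
      · refine Or.inl ⟨?_, hb⟩
        apply hcent
        have h1 := hinv_of_not b hb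
        have h2' := hinv_of_not y hy
        have h3 : y * x = x⁻¹ * y := by
          calc y * x = (y * x * y⁻¹) * y := by group
            _ = x⁻¹ * y := by rw [h2']
        have h4 : b * x⁻¹ = x * b := by
          have h5 : b * x⁻¹ * b⁻¹ = x := by
            have h6 : (b * x * b⁻¹)⁻¹ = x⁻¹⁻¹ := by rw [h1]
            rw [inv_inv, mul_inv_rev, mul_inv_rev, inv_inv, ← mul_assoc] at h6
            exact h6
          calc b * x⁻¹ = (b * x⁻¹ * b⁻¹) * b := by group
            _ = x * b := by rw [h5]
        calc b * y * x = b * (y * x) := mul_assoc _ _ _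
          _ = b * (x⁻¹ * y) := by rw [h3]
          _ = (b * x⁻¹) * y := (mul_assoc _ _ _).symm
          _ = x * b * y := by rw [h4]
          _ = x * (b * y) := mul_assoc _ _ _
    have hcard8 : Nat.card G = 8 := by
      rw [← Subgroup.card_mul_index (Subgroup.zpowers x), hcardH, hidx]
    have hy4 : orderOf y = 4 := by
      rcases hord y with h | h | h
      · exfalso; apply hy; rw [orderOf_eq_one_iff.mp h]; exact one_mem _
      · exfalso; apply hy; rw [hzu y h, ← hxz]
        exact Subgroup.mul_mem _ (Subgroup.mem_zpowers x) (Subgroup.mem_zpowers x)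
      · exact h
    have hyy : y ^ 2 = x ^ 2 := by rw [hsq4 y hy4, hsq4 x hx]
    have hxy := hinv_of_not y hy
    have hinj := Cfsg.Agent.helper11.QuatPres.quatHom_injective (n := 2) (x := x) (y := y)
      (le_refl 2) (by rw [hx]) hyy hxy
    have hbij := hinj.bijective_of_nat_card_le (by
      rw [hcard8, Nat.card_eq_fintype_card, QuaternionGroup.card])
    exact ⟨(MulEquiv.ofBijective _ hbij).symm⟩

end CaseB

section CaseB2

variable {G : Type*} [Group G] [Finite G]

/-- unique involution and no element of order four. -/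
theorem prod_of_no_four (n : ℕ) (h2 : cnt G 2 = 1)
    (hc : ∀ g : G, 3 ≤ orderOf g → cnt G (orderOf g) = n) (hex : ∃ g : G, 3 ≤ orderOf g)
    (h4 : ∀ g : G, orderOf g ≠ 4) :
    ∃ (p : ℕ) (P : Type) (_ : Group P) (_ : Finite P), p.Prime ∧ p ≠ 2 ∧ IsPGroup p P ∧
      Monoid.exponent P = p ∧ Nonempty (G ≃* Multiplicative (ZMod 2) × P) := by
  obtain ⟨z, hz, hzu, hzc⟩ := exists_central_invol h2
  have h2G : 2 ∣ Nat.card G := by
    rw [← hz]; exact orderOf_dvd_natCard z
  have h4G : ¬ 4 ∣ Nat.card G := by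
    intro h
    have h1 := dvd_sum_cnt (G := G) 4 h {1, 2} (by
      intro g
      rw [← orderOf_dvd_iff_pow_eq_one, dvd_four_iff]
      simp only [Finset.mem_insert, Finset.mem_singleton]
      constructor
      · rintro (h | h | h)
        · left; exact h
        · right; exact h
        · exact absurd h (h4 g)
      · rintro (h | h)
        · left; exact h
        · right; left; exact h)
    rw [Finset.sum_pair (by norm_num), cnt_one, h2] at h1
    omega
  obtain ⟨m, hm⟩ := h2G
  have hmodd : ¬ 2 ∣ m := by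
    rintro ⟨m', rfl⟩
    apply h4G
    exact ⟨m', by rw [hm]; ring⟩
  -- odd primes
  have hprime : ∀ q : ℕ, q.Prime → q ≠ 2 → q ∣ Nat.card G → cnt G q = n ∧ q ∣ 1 + n := by
    intro q hq hq2 hqG
    have hq3 : 3 ≤ q := by
      have := hq.two_le
      omega
    haveI : Fact q.Prime := ⟨hq⟩
    obtain ⟨y, hy⟩ := exists_prime_orderOf_dvd_card' q hqG
    have hcq : cnt G q = n := by
      have := hc y (by omega)
      rwa [hy] at this
    exact ⟨hcq, prime_dvd_succ hq hqG hcq⟩
  have hm1 : m ≠ 1 := by
    rintro rfl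
    obtain ⟨g₀, hg₀⟩ := hex
    have := Nat.le_of_dvd (by omega) (orderOf_dvd_natCard g₀)
    omega
  have hm0 : m ≠ 0 := by
    rintro rfl
    have : 0 < Nat.card G := Nat.card_pos
    omega
  set q := Nat.minFac m with hqdef
  have hq : q.Prime := Nat.minFac_prime hm1
  have hqm : q ∣ m := Nat.minFac_dvd m
  have hq2 : q ≠ 2 := by
    intro h
    rw [h] at hqm
    exact hmodd hqm
  have hmG : m ∣ Nat.card G := ⟨2, by rw [hm]; ring⟩
  obtain ⟨hcq, hqn⟩ := hprime q hq hq2 (dvd_trans hqm hmG)
  have huniq : ∀ {d : ℕ}, d.Prime → d ∣ m → d = q := by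
    intro d hd hdm
    by_contra hdq
    have hd2 : d ≠ 2 := by
      intro h
      rw [h] at hdm
      exact hmodd hdm
    obtain ⟨hcd, hdn⟩ := hprime d hd hd2 (dvd_trans hdm hmG)
    have hco : Nat.Coprime d q := (Nat.coprime_primes hd hq).mpr hdq
    have hG : d * q ∣ Nat.card G :=
      dvd_trans (hco.mul_dvd_of_dvd_of_dvd hdm hqm) hmG
    refine no_two_primes hd hq hdq hdn hqn hcd hcq hG ?_
    by_cases h : ∃ g : G, orderOf g = d * q
    · obtain ⟨g, hg⟩ := h
      right
      have h3 : 3 ≤ orderOf g := by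
        rw [hg]
        have := hd.two_le
        have := hq.two_le
        nlinarith
      have := hc g h3
      rwa [hg] at this
    · left
      push Not at h
      exact cnt_eq_zero h
  have hmq : m = q ^ m.primeFactorsList.length :=
    Nat.eq_prime_pow_of_unique_prime_dvd hm0 huniq
  have hnosq : ∀ g : G, orderOf g ≠ q ^ 2 := by
    intro g hg
    have h3 : 3 ≤ orderOf g := by
      rw [hg]
      have := hq.two_le
      nlinarith
    have hcq2 : cnt G (q ^ 2) = n := by
      have := hc g h3
      rwa [hg] at this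
    have hq2G : q ^ 2 ∣ Nat.card G := by
      rw [← hg]; exact orderOf_dvd_natCard g
    exact no_prime_sq hq hqn hcq hcq2 hq2G
  -- the central subgroup of order two and its complement
  have hZc : ∀ a ∈ Subgroup.zpowers z, ∀ g : G, g * a = a * g := by
    intro a ha g
    obtain ⟨k, rfl⟩ := Subgroup.mem_zpowers_iff.mp ha
    exact ((show Commute g z from hzc g).zpow_right k).eq
  haveI hZn : (Subgroup.zpowers z).Normal := by
    constructor
    intro a ha g
    rw [hZc a ha g, mul_inv_cancel_right]
    exact ha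
  have hcardZ : Nat.card (Subgroup.zpowers z) = 2 := by
    rw [Nat.card_zpowers, hz]
  have hidx : (Subgroup.zpowers z).index = m := by
    have h1 := Subgroup.card_mul_index (Subgroup.zpowers z)
    rw [hcardZ, hm] at h1
    exact Nat.eq_of_mul_eq_mul_left (by norm_num) h1
  have hcop : Nat.Coprime (Nat.card (Subgroup.zpowers z)) (Subgroup.zpowers z).index := by
    rw [hcardZ, hidx]
    exact (Nat.coprime_primes Nat.prime_two hq).mpr (Ne.symm hq2) |>.pow_right _ |> fun h => by
      rw [hmq]; exact h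
  obtain ⟨K, hK⟩ := Subgroup.exists_right_complement'_of_coprime hcop
  have hcardK : Nat.card K = m := by
    have h1 := hK.card_mul_card
    rw [hcardZ, hm] at h1
    exact Nat.eq_of_mul_eq_mul_left (by norm_num) h1
  have hKp : IsPGroup q K := IsPGroup.of_card (hcardK.trans hmq)
  haveI : Nontrivial K := by
    rw [← Finite.one_lt_card_iff_nontrivial, hcardK]
    omega
  have hexp : Monoid.exponent K = q := by
    rw [Monoid.exponent_eq_prime_iff hq]
    intro k hk
    have h1 : orderOf k ∣ q ^ m.primeFactorsList.length := by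
      rw [← hmq, ← hcardK]; exact orderOf_dvd_natCard k
    obtain ⟨j, -, hj⟩ := (Nat.dvd_prime_pow hq).mp h1
    by_cases hj2 : 2 ≤ j
    · exfalso
      have h3 : q ^ 2 ∣ orderOf (k : G) := by
        rw [Subgroup.orderOf_coe, hj]
        exact pow_dvd_pow q hj2
      obtain ⟨y, hy⟩ := exists_orderOf_eq_of_dvd (k : G) h3
      exact hnosq y hy
    · have hj' : j = 0 ∨ j = 1 := by omega
      rcases hj' with rfl | rfl
      · exfalso
        rw [pow_zero] at hj
        exact hk (orderOf_eq_one_iff.mp hj)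
      · rw [hj, pow_one]
  -- the isomorphism
  let φ : (Subgroup.zpowers z) × K →* G :=
    { toFun := fun u => (u.1 : G) * (u.2 : G)
      map_one' := by simp
      map_mul' := by
        intro u v
        show ((u.1 * v.1 : Subgroup.zpowers z) : G) * ((u.2 * v.2 : K) : G) = _
        rw [Subgroup.coe_mul, Subgroup.coe_mul]
        have h1 := hZc (v.1 : G) v.1.2 (u.2 : G)
        calc (u.1 : G) * (v.1 : G) * ((u.2 : G) * (v.2 : G))
            = (u.1 : G) * ((v.1 : G) * (u.2 : G)) * (v.2 : G) := by group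
          _ = (u.1 : G) * ((u.2 : G) * (v.1 : G)) * (v.2 : G) := by rw [h1]
          _ = _ := by group }
  have hbij : Function.Bijective φ := hK
  let e₁ : G ≃* (Subgroup.zpowers z) × K := (MulEquiv.ofBijective φ hbij).symm
  let e₂ : (Subgroup.zpowers z) ≃* Multiplicative (ZMod 2) :=
    mulEquivOfPrimeCardEq (p := 2) hcardZ (by
      rw [Nat.card_eq_fintype_card, Fintype.card_multiplicative, ZMod.card])
  let e₃ : K ≃* Shrink.{0} K := (Shrink.mulEquiv).symm
  exact ⟨q, Shrink.{0} K, inferInstance, Finite.of_equiv K e₃.toEquiv, hq, hq2,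
    hKp.of_equiv e₃, (Monoid.exponent_eq_of_mulEquiv e₃).symm.trans hexp,
    ⟨e₁.trans (MulEquiv.prodCongr e₂ e₃)⟩⟩

end CaseB2

end Cfsg.Agent.helper20.OrdCount
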