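import Mathlib
import Cfsg.Agent.Lib_helper20_Frob2a
import Cfsg.Agent.S0041
import Cfsg.Agent.S0068
import Cfsg.Agent.Lib_helper20_OrdCount

set_option autoImplicit false
set_option linter.style.haveILetI false
set_option linter.unusedSectionVars false

/-! Structure of 2-Frobenius groups: the middle factor is cyclic of odd order, the top factor is
cyclic, the group is solvable. -/

namespace Cfsg.Agent.helper20.Frob2

open Cfsg

section TwoFrob

variable {G : Type*} [Group G] [Finite G] (H K : Subgroup G) [hHn : H.Normal] [hKn : K.Normal]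
  (C : Subgroup ↥K) (C' : Subgroup (G ⧸ H))

/-- the complement `C` maps isomorphically onto `K / H`. -/
theorem exists_iso (h1 : FrobPair (H.subgroupOf K) C) :
    ∃ φ : C ≃* (K.map (QuotientGroup.mk' H)),
      ∀ c : C, ((φ c : K.map (QuotientGroup.mk' H)) : G ⧸ H) = QuotientGroup.mk (((c : ↥K) : G)) := by
  let f : C →* (K.map (QuotientGroup.mk' H)) :=
    (((QuotientGroup.mk' H).comp K.subtype).comp C.subtype).codRestrict
      (K.map (QuotientGroup.mk' H)) (fun c => Subgroup.mem_map_of_mem _ (c : ↥K).2)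
  have hf : ∀ c : C, ((f c : K.map (QuotientGroup.mk' H)) : G ⧸ H) =
      QuotientGroup.mk (((c : ↥K) : G)) := fun c => rfl
  have hinj : Function.Injective f := by
    rw [injective_iff_map_eq_one]
    intro c hc
    have h3 : (QuotientGroup.mk (((c : ↥K) : G)) : G ⧸ H) = 1 := by
      rw [← hf, hc]; rfl
    have h4 : ((c : ↥K) : G) ∈ H := (QuotientGroup.eq_one_iff _).mp h3
    have h5 : (c : ↥K) ∈ H.subgroupOf K ⊓ C :=
      Subgroup.mem_inf.mpr ⟨Subgroup.mem_subgroupOf.mpr h4, c.2⟩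
    rw [h1.inf_eq_bot, Subgroup.mem_bot] at h5
    exact Subtype.ext h5
  have hsurj : Function.Surjective f := by
    rintro ⟨y, k, hk, rfl⟩
    obtain ⟨n, hn, c, hc, hnc⟩ := h1.exists_mul (⟨k, hk⟩ : ↥K)
    refine ⟨⟨c, hc⟩, Subtype.ext ?_⟩
    rw [hf]
    show (QuotientGroup.mk ((c : ↥K) : G) : G ⧸ H) = QuotientGroup.mk k
    have h3 : k = (n : G) * (c : G) := congrArg Subtype.val hnc
    rw [h3, QuotientGroup.mk_mul,
      (QuotientGroup.eq_one_iff (n : G)).mpr (Subgroup.mem_subgroupOf.mp hn), one_mul]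
  exact ⟨MulEquiv.ofBijective f ⟨hinj, hsurj⟩, hf⟩

theorem card_map_eq (h1 : FrobPair (H.subgroupOf K) C) :
    Nat.card (K.map (QuotientGroup.mk' H)) = Nat.card C := by
  obtain ⟨φ, -⟩ := exists_iso H K C h1
  exact (Nat.card_congr φ.toEquiv).symm

/-- the middle factor has odd order. -/
theorem card_C_odd (h1 : FrobPair (H.subgroupOf K) C)
    (h2 : FrobPair (K.map (QuotientGroup.mk' H)) C') : ¬ 2 ∣ Nat.card C := by
  intro heven
  haveI := h1.normal
  haveI := h2.normal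
  obtain ⟨⟨s, hsC, hs2, hsu, -⟩, -⟩ :=
    Cfsg.Agent.S0068.result (H.subgroupOf K) C h1.compl h1.N_ne h1.fpf heven
  obtain ⟨φ, hφ⟩ := exists_iso H K C h1
  have hz2 : orderOf (φ ⟨s, hsC⟩) = 2 := by
    rw [MulEquiv.orderOf_eq, ← hs2]
    exact Subgroup.orderOf_mk s hsC
  obtain ⟨⟨h, hh⟩, hh1⟩ := (Subgroup.ne_bot_iff_exists_ne_one).mp h2.C_ne
  have hh1' : h ≠ 1 := fun e => hh1 (Subtype.ext e)
  have hmem : h * ((φ ⟨s, hsC⟩ : K.map (QuotientGroup.mk' H)) : G ⧸ H) * h⁻¹ ∈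
      K.map (QuotientGroup.mk' H) := h2.normal.conj_mem _ (φ ⟨s, hsC⟩).2 h
  have hord : orderOf (⟨_, hmem⟩ : K.map (QuotientGroup.mk' H)) = 2 := by
    rw [Subgroup.orderOf_mk, ← hz2, ← Subgroup.orderOf_coe]
    exact orderOf_injective (MulAut.conj h).toMonoidHom (MulAut.conj h).injective _
  have hc2 : orderOf (φ.symm ⟨_, hmem⟩) = 2 := by
    rw [MulEquiv.orderOf_eq]; exact hord
  have h3 : ((φ.symm ⟨_, hmem⟩ : C) : ↥K) = s := by
    apply hsu _ (φ.symm ⟨_, hmem⟩).2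
    rw [Subgroup.orderOf_coe]; exact hc2
  have h4 : φ.symm ⟨_, hmem⟩ = ⟨s, hsC⟩ := Subtype.ext h3
  have h5 : (⟨_, hmem⟩ : K.map (QuotientGroup.mk' H)) = φ ⟨s, hsC⟩ := by
    have h5' := congrArg φ h4
    rwa [MulEquiv.apply_symm_apply] at h5'
  have h6 : h * ((φ ⟨s, hsC⟩ : K.map (QuotientGroup.mk' H)) : G ⧸ H) * h⁻¹ =
      ((φ ⟨s, hsC⟩ : K.map (QuotientGroup.mk' H)) : G ⧸ H) := congrArg Subtype.val h5
  have h7 : ((φ ⟨s, hsC⟩ : K.map (QuotientGroup.mk' H)) : G ⧸ H) ∈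
      K.map (QuotientGroup.mk' H) ⊓ Subgroup.centralizer {h} := by
    refine Subgroup.mem_inf.mpr ⟨(φ ⟨s, hsC⟩).2, ?_⟩
    rw [Subgroup.mem_centralizer_singleton_iff]
    calc ((φ ⟨s, hsC⟩ : K.map (QuotientGroup.mk' H)) : G ⧸ H) * h
        = (h * ((φ ⟨s, hsC⟩ : K.map (QuotientGroup.mk' H)) : G ⧸ H) * h⁻¹) * h := by rw [h6]
      _ = _ := by group
  rw [h2.fpf h hh hh1', Subgroup.mem_bot] at h7
  have h8 : φ ⟨s, hsC⟩ = 1 := Subtype.ext h7
  rw [h8, orderOf_one] at hz2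
  omega

theorem isCyclic_C (h1 : FrobPair (H.subgroupOf K) C)
    (h2 : FrobPair (K.map (QuotientGroup.mk' H)) C') : IsCyclic C := by
  haveI := h1.normal
  have hodd := card_C_odd H K C C' h1 h2
  haveI : IsZGroup C :=
    Cfsg.Agent.lead.frob_isZGroup (H.subgroupOf K) C h1.compl h1.N_ne h1.fpf hodd
  obtain ⟨φ, -⟩ := exists_iso H K C h1
  haveI := h2.nil
  haveI : Group.IsNilpotent C := Group.nilpotent_of_mulEquiv φ.symm
  infer_instance

theorem isCyclic_C' (h1 : FrobPair (H.subgroupOf K) C)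
    (h2 : FrobPair (K.map (QuotientGroup.mk' H)) C') : IsCyclic C' := by
  haveI := h2.normal
  haveI := isCyclic_C H K C C' h1 h2
  obtain ⟨φ, -⟩ := exists_iso H K C h1
  haveI hcyc : IsCyclic (K.map (QuotientGroup.mk' H)) := isCyclic_of_surjective φ φ.surjective
  obtain ⟨k₀, hk₀⟩ := IsCyclic.exists_generator (α := K.map (QuotientGroup.mk' H))
  have hk₀1 : (k₀ : G ⧸ H) ≠ 1 := by
    intro h
    apply h2.N_ne
    rw [eq_bot_iff]
    intro x hx
    obtain ⟨i, hi⟩ := Subgroup.mem_zpowers_iff.mp (hk₀ ⟨x, hx⟩)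
    have h3 : (k₀ : G ⧸ H) ^ i = x := by
      have := congrArg Subtype.val hi
      rwa [Subgroup.coe_zpow] at this
    rw [Subgroup.mem_bot, ← h3, h, one_zpow]
  have hpow : ∀ a : G ⧸ H, ∃ i : ℤ, a * (k₀ : G ⧸ H) * a⁻¹ = (k₀ : G ⧸ H) ^ i := by
    intro a
    have hmem : a * (k₀ : G ⧸ H) * a⁻¹ ∈ K.map (QuotientGroup.mk' H) :=
      h2.normal.conj_mem _ k₀.2 a
    obtain ⟨i, hi⟩ := Subgroup.mem_zpowers_iff.mp (hk₀ ⟨_, hmem⟩)
    refine ⟨i, ?_⟩
    have := congrArg Subtype.val hi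
    rw [Subgroup.coe_zpow] at this
    exact this.symm
  have hcomm : ∀ a ∈ C', ∀ b ∈ C', a * b = b * a := by
    intro a ha b hb
    obtain ⟨i, hi⟩ := hpow a
    obtain ⟨j, hj⟩ := hpow b
    have hab : (a * b) * (k₀ : G ⧸ H) * (a * b)⁻¹ = (k₀ : G ⧸ H) ^ (i * j) := by
      calc (a * b) * (k₀ : G ⧸ H) * (a * b)⁻¹ = a * (b * (k₀ : G ⧸ H) * b⁻¹) * a⁻¹ := by group
        _ = a * (k₀ : G ⧸ H) ^ j * a⁻¹ := by rw [hj]
        _ = (a * (k₀ : G ⧸ H) * a⁻¹) ^ j := (conj_zpow).symm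
        _ = _ := by rw [hi, ← zpow_mul]
    have hba : (b * a) * (k₀ : G ⧸ H) * (b * a)⁻¹ = (k₀ : G ⧸ H) ^ (i * j) := by
      calc (b * a) * (k₀ : G ⧸ H) * (b * a)⁻¹ = b * (a * (k₀ : G ⧸ H) * a⁻¹) * b⁻¹ := by group
        _ = b * (k₀ : G ⧸ H) ^ i * b⁻¹ := by rw [hi]
        _ = (b * (k₀ : G ⧸ H) * b⁻¹) ^ i := (conj_zpow).symm
        _ = _ := by rw [hj, ← zpow_mul, mul_comm]
    by_contra hne
    have hw1 : (b * a)⁻¹ * (a * b) ≠ 1 := by
      intro h
      apply hne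
      have : a * b = (b * a) * ((b * a)⁻¹ * (a * b)) := by group
      rw [this, h, mul_one]
    have hwC : (b * a)⁻¹ * (a * b) ∈ C' :=
      C'.mul_mem (C'.inv_mem (C'.mul_mem hb ha)) (C'.mul_mem ha hb)
    have hcen : (k₀ : G ⧸ H) ∈ K.map (QuotientGroup.mk' H) ⊓
        Subgroup.centralizer {(b * a)⁻¹ * (a * b)} := by
      refine Subgroup.mem_inf.mpr ⟨k₀.2, ?_⟩
      rw [Subgroup.mem_centralizer_singleton_iff]
      have h3 : (a * b) * (k₀ : G ⧸ H) * (a * b)⁻¹ = (b * a) * (k₀ : G ⧸ H) * (b * a)⁻¹ := by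
        rw [hab, hba]
      calc (k₀ : G ⧸ H) * ((b * a)⁻¹ * (a * b))
          = (b * a)⁻¹ * ((b * a) * (k₀ : G ⧸ H) * (b * a)⁻¹) * (a * b) := by group
        _ = (b * a)⁻¹ * ((a * b) * (k₀ : G ⧸ H) * (a * b)⁻¹) * (a * b) := by rw [h3]
        _ = _ := by group
    rw [h2.fpf _ hwC hw1, Subgroup.mem_bot] at hcen
    exact hk₀1 hcen
  haveI : IsMulCommutative C' := ⟨⟨fun a b => Subtype.ext (hcomm a a.2 b b.2)⟩⟩
  haveI : IsMulCommutative (K.map (QuotientGroup.mk' H)) := by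
    letI := IsCyclic.commGroup (α := K.map (QuotientGroup.mk' H))
    exact ⟨⟨fun a b => mul_comm a b⟩⟩
  exact Cfsg.Agent.S0041.result C' (K.map (QuotientGroup.mk' H)) h2.N_ne
    (by rw [Subgroup.normalizer_eq_top]; exact le_top) h2.fpf (Or.inl inferInstance)

theorem surjective_to_quot (hHK : H ≤ K) (h2 : FrobPair (K.map (QuotientGroup.mk' H)) C') :
    Function.Surjective ((QuotientGroup.map H K (MonoidHom.id G)
      (fun _ hx => hHK hx)).comp C'.subtype) := by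
  intro y
  obtain ⟨g, rfl⟩ := QuotientGroup.mk_surjective y
  obtain ⟨n, hn, c, hc, hnc⟩ := h2.exists_mul (QuotientGroup.mk g : G ⧸ H)
  refine ⟨⟨c, hc⟩, ?_⟩
  obtain ⟨k, hk, rfl⟩ := hn
  obtain ⟨c₀, rfl⟩ := QuotientGroup.mk_surjective c
  have h3 := congrArg (QuotientGroup.map H K (MonoidHom.id G) (fun _ hx => hHK hx)) hnc
  rw [map_mul] at h3
  have h4 : QuotientGroup.map H K (MonoidHom.id G) (fun _ hx => hHK hx)
      ((QuotientGroup.mk' H) k) = 1 := by
    show (QuotientGroup.mk k : G ⧸ K) = 1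
    exact (QuotientGroup.eq_one_iff k).mpr hk
  rw [h4, one_mul] at h3
  exact h3.symm

theorem isCyclic_quot (hHK : H ≤ K) (h1 : FrobPair (H.subgroupOf K) C)
    (h2 : FrobPair (K.map (QuotientGroup.mk' H)) C') : IsCyclic (G ⧸ K) := by
  haveI := isCyclic_C' H K C C' h1 h2
  exact isCyclic_of_surjective _ (surjective_to_quot H K C' hHK h2)

theorem isSolvable_of_twoFrob (hHK : H ≤ K) (h1 : FrobPair (H.subgroupOf K) C)
    (h2 : FrobPair (K.map (QuotientGroup.mk' H)) C') : Group.IsSolvable G := by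
  haveI := h2.normal
  haveI := h1.nil
  haveI : Group.IsSolvable (H.subgroupOf K) := inferInstance
  haveI : Group.IsSolvable H :=
    Group.isSolvable_of_surjective (f := (Subgroup.subgroupOfEquivOfLe hHK).toMonoidHom)
      (Subgroup.subgroupOfEquivOfLe hHK).surjective
  haveI := isCyclic_C H K C C' h1 h2
  haveI hcycC' := isCyclic_C' H K C C' h1 h2
  obtain ⟨φ, -⟩ := exists_iso H K C h1
  haveI hcyc : IsCyclic (K.map (QuotientGroup.mk' H)) := isCyclic_of_surjective φ φ.surjective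
  haveI : Group.IsSolvable (K.map (QuotientGroup.mk' H)) := by
    letI := IsCyclic.commGroup (α := K.map (QuotientGroup.mk' H))
    exact Group.isSolvable_of_comm (fun a b => mul_comm a b)
  haveI : Group.IsSolvable C' := by
    letI := IsCyclic.commGroup (α := C')
    exact Group.isSolvable_of_comm (fun a b => mul_comm a b)
  haveI : Group.IsSolvable ((G ⧸ H) ⧸ K.map (QuotientGroup.mk' H)) :=
    Group.isSolvable_of_surjective (f := (h2.compl.symm.QuotientMulEquiv).symm.toMonoidHom)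
      (h2.compl.symm.QuotientMulEquiv).symm.surjective
  haveI : Group.IsSolvable (G ⧸ H) :=
    Group.isSolvable_of_ker_le_range (K.map (QuotientGroup.mk' H)).subtype
      (QuotientGroup.mk' (K.map (QuotientGroup.mk' H))) (by
        rw [QuotientGroup.ker_mk', Subgroup.range_subtype])
  exact Group.isSolvable_of_ker_le_range H.subtype (QuotientGroup.mk' H) (by
    rw [QuotientGroup.ker_mk', Subgroup.range_subtype])

theorem card_quot_K₀ (h1 : FrobPair (H.subgroupOf K) C) :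
    Nat.card (↥K ⧸ H.subgroupOf K) = Nat.card C :=
  h1.compl.symm.index_eq_card

theorem card_quot_K (hHK : H ≤ K) (h2 : FrobPair (K.map (QuotientGroup.mk' H)) C') :
    Nat.card (G ⧸ K) = Nat.card C' := by
  have h3 : (K.map (QuotientGroup.mk' H)).index = K.index :=
    Subgroup.index_map_eq K (QuotientGroup.mk'_surjective H) (by
      rw [QuotientGroup.ker_mk']; exact hHK)
  have h4 : (K.map (QuotientGroup.mk' H)).index = Nat.card C' := h2.compl.symm.index_eq_card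
  show K.index = _
  rw [← h3, h4]

end TwoFrob

end Cfsg.Agent.helper20.Frob2
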