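import Mathlib
import Cfsg.Agent.Lib_helper20_Frob2b

set_option autoImplicit false
set_option linter.style.haveILetI false
set_option linter.unusedSectionVars false

/-! The prime graph of a 2-Frobenius group. -/

namespace Cfsg.Agent.helper20.Frob2

open Cfsg

section Gen

variable {X : Type*} [Group X] [Finite X]

theorem mem_of_coprime_index (N : Subgroup X) [N.Normal] (x : X)
    (h : (orderOf x).Coprime N.index) : x ∈ N := by
  rw [← QuotientGroup.eq_one_iff, ← orderOf_eq_one_iff]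
  have h1 : orderOf (QuotientGroup.mk x : X ⧸ N) ∣ orderOf x :=
    orderOf_map_dvd (QuotientGroup.mk' N) x
  have h2 : orderOf (QuotientGroup.mk x : X ⧸ N) ∣ N.index := by
    rw [Subgroup.index_eq_card]; exact orderOf_dvd_natCard _
  have h3 := Nat.dvd_gcd h1 h2
  rw [Nat.Coprime.gcd_eq_one h] at h3
  exact Nat.dvd_one.mp h3

theorem exists_orderOf_eq_of_map {Y : Type*} [Group Y] (f : X →* Y) (x : X) :
    ∃ i : ℕ, orderOf (x ^ i) = orderOf (f x) := by
  have h1 : orderOf (f x) ∣ orderOf x := orderOf_map_dvd f x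
  have hpos : 0 < orderOf x := orderOf_pos x
  obtain ⟨b, hb⟩ := h1
  have hb0 : b ≠ 0 := by
    rintro rfl
    rw [mul_zero] at hb
    omega
  have ha0 : orderOf (f x) ≠ 0 := by
    intro h
    rw [h, zero_mul] at hb
    omega
  refine ⟨b, ?_⟩
  rw [orderOf_pow_of_dvd hb0 ⟨orderOf (f x), by rw [hb, mul_comm]⟩, hb]
  exact Nat.mul_div_cancel _ (Nat.pos_of_ne_zero hb0)

/-- the `p`-torsion of the centre of a subgroup `H`, as a subgroup of the ambient group. -/
def omegaCenter (H : Subgroup X) (p : ℕ) : Subgroup X where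
  carrier := {g | g ∈ H ∧ (∀ h ∈ H, h * g = g * h) ∧ g ^ p = 1}
  mul_mem' := by
    rintro a b ⟨ha, hac, hap⟩ ⟨hb, hbc, hbp⟩
    refine ⟨H.mul_mem ha hb, fun h hh => ?_, ?_⟩
    · rw [← mul_assoc, hac h hh, mul_assoc, hbc h hh, mul_assoc]
    · have hab : Commute a b := hbc a ha
      rw [hab.mul_pow, hap, hbp, one_mul]
  one_mem' := ⟨H.one_mem, fun h _ => by rw [mul_one, one_mul], one_pow p⟩
  inv_mem' := by
    rintro a ⟨ha, hac, hap⟩
    refine ⟨H.inv_mem ha, fun h hh => ?_, by rw [inv_pow, hap, inv_one]⟩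
    have h3 := hac h hh
    calc h * a⁻¹ = a⁻¹ * (a * h) * a⁻¹ := by group
      _ = a⁻¹ * (h * a) * a⁻¹ := by rw [h3]
      _ = a⁻¹ * h := by group

theorem mem_omegaCenter (H : Subgroup X) (p : ℕ) (g : X) :
    g ∈ omegaCenter H p ↔ g ∈ H ∧ (∀ h ∈ H, h * g = g * h) ∧ g ^ p = 1 := Iff.rfl

instance omegaCenter_normal (H : Subgroup X) [hH : H.Normal] (p : ℕ) :
    (omegaCenter H p).Normal := by
  constructor
  rintro a ⟨ha, hac, hap⟩ g
  refine ⟨hH.conj_mem a ha g, fun h hh => ?_, ?_⟩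
  · have h3 : g⁻¹ * h * g ∈ H := by
      have := hH.conj_mem h hh g⁻¹
      rwa [inv_inv] at this
    have h4 := hac _ h3
    calc h * (g * a * g⁻¹) = g * ((g⁻¹ * h * g) * a) * g⁻¹ := by group
      _ = g * (a * (g⁻¹ * h * g)) * g⁻¹ := by rw [h4]
      _ = _ := by group
  · rw [conj_pow, hap, mul_one, mul_inv_cancel]

theorem omegaCenter_comm (H : Subgroup X) (p : ℕ) (a b : omegaCenter H p) : a * b = b * a := by
  obtain ⟨a, ha, hac, hap⟩ := a
  obtain ⟨b, hb, hbc, hbp⟩ := b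
  exact Subtype.ext (hbc a ha)

theorem exists_fixed_of_frobenius' {Γ : Type*} [Group Γ] [Finite Γ] {V : Type*} [Group V]
    (hV : ∀ a b : V, a * b = b * a)
    [Nontrivial V] (ρ : Γ →* MulAut V) (N A : Subgroup Γ) [hNn : N.Normal]
    (hfpf : ∀ a ∈ A, a ≠ 1 → ∀ n ∈ N, n * a = a * n → n = 1)
    (hN : ∃ n ∈ N, ∀ v : V, ρ n v = v → v = 1)
    (hcop : ∀ v : V, v ^ Nat.card N = 1 → v = 1) :
    ∃ v : V, v ≠ 1 ∧ ∀ a ∈ A, ρ a v = v := by
  letI : CommGroup V := { (inferInstance : Group V) with mul_comm := hV }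
  exact exists_fixed_of_frobenius ρ N A hfpf hN hcop

end Gen

section TwoFrob

variable {G : Type*} [Group G] [Finite G] (H K : Subgroup G) [hHn : H.Normal] [hKn : K.Normal]
  (C : Subgroup ↥K) (C' : Subgroup (G ⧸ H))

theorem card_K₀ (hHK : H ≤ K) : Nat.card (H.subgroupOf K) = Nat.card H :=
  Nat.card_congr (Subgroup.subgroupOfEquivOfLe hHK).toEquiv

theorem card_K_eq (hHK : H ≤ K) (h1 : FrobPair (H.subgroupOf K) C) :
    Nat.card K = Nat.card H * Nat.card C := by
  rw [← h1.compl.card_mul_card, card_K₀ H K hHK]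

theorem card_G_eq (hHK : H ≤ K) (h1 : FrobPair (H.subgroupOf K) C)
    (h2 : FrobPair (K.map (QuotientGroup.mk' H)) C') :
    Nat.card G = Nat.card H * Nat.card C * Nat.card C' := by
  rw [Subgroup.card_eq_card_quotient_mul_card_subgroup H, ← h2.compl.card_mul_card,
    card_map_eq H K C h1]
  ring

theorem coprime_C_H (hHK : H ≤ K) (h1 : FrobPair (H.subgroupOf K) C) :
    (Nat.card C).Coprime (Nat.card H) := by
  have := h1.cop
  rwa [card_K₀ H K hHK] at this

theorem coprime_C'_C (h1 : FrobPair (H.subgroupOf K) C)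
    (h2 : FrobPair (K.map (QuotientGroup.mk' H)) C') :
    (Nat.card C').Coprime (Nat.card C) := by
  have := h2.cop
  rwa [card_map_eq H K C h1] at this

theorem mem_K_of_mk_mem (hHK : H ≤ K) (b : G)
    (hb : (QuotientGroup.mk b : G ⧸ H) ∈ K.map (QuotientGroup.mk' H)) : b ∈ K := by
  obtain ⟨k, hk, hkb⟩ := hb
  have h3 : k⁻¹ * b ∈ H := QuotientGroup.eq.mp hkb
  have h4 : b = k * (k⁻¹ * b) := by group
  rw [h4]
  exact K.mul_mem hk (hHK h3)

/-- an element of order `p * q` with `p ∣ |C|` forces `q ∣ |C|`. -/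
theorem dvd_C_of_orderOf (hHK : H ≤ K) (h1 : FrobPair (H.subgroupOf K) C)
    (h2 : FrobPair (K.map (QuotientGroup.mk' H)) C') (p q : ℕ) (hp : p.Prime) (hq : q.Prime)
    (hpq : p ≠ q) (g : G) (hg : orderOf g = p * q) (hpC : p ∣ Nat.card C) :
    q ∣ Nat.card C := by
  by_contra hqC
  haveI := h1.normal
  have hoa : orderOf (g ^ q) = p := by
    rw [orderOf_pow_of_dvd hq.ne_zero (by rw [hg]; exact dvd_mul_left q p), hg]
    exact Nat.mul_div_cancel _ hq.pos
  have hob : orderOf (g ^ p) = q := by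
    rw [orderOf_pow_of_dvd hp.ne_zero (by rw [hg]; exact dvd_mul_right p q), hg]
    exact Nat.mul_div_cancel_left _ hp.pos
  have hcomm : g ^ p * g ^ q = g ^ q * g ^ p := by
    rw [← pow_add, ← pow_add, add_comm]
  -- `a = g ^ q` lies in `K`
  have hpC' : ¬ p ∣ Nat.card C' := by
    intro h
    have h3 := Nat.dvd_gcd h hpC
    rw [Nat.Coprime.gcd_eq_one (coprime_C'_C H K C C' h1 h2)] at h3
    exact hp.one_lt.ne' (Nat.dvd_one.mp h3)
  have haK : g ^ q ∈ K := by
    apply mem_of_coprime_index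
    rw [hoa, Subgroup.index_eq_card, card_quot_K H K C' hHK h2]
    exact (Nat.Prime.coprime_iff_not_dvd hp).mpr hpC'
  have hpH : ¬ p ∣ Nat.card H := by
    intro h
    have h3 := Nat.dvd_gcd hpC h
    rw [Nat.Coprime.gcd_eq_one (coprime_C_H H K C hHK h1)] at h3
    exact hp.one_lt.ne' (Nat.dvd_one.mp h3)
  have haH : g ^ q ∉ H := by
    intro h
    apply hpH
    have h3 : orderOf (⟨g ^ q, h⟩ : H) = p := by rw [Subgroup.orderOf_mk, hoa]
    rw [← h3]
    exact orderOf_dvd_natCard _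
  have hamk : (QuotientGroup.mk (g ^ q) : G ⧸ H) ≠ 1 := by
    intro h
    exact haH ((QuotientGroup.eq_one_iff _).mp h)
  have hbK : g ^ p ∈ K := by
    apply mem_K_of_mk_mem H K hHK
    by_contra hb
    apply hamk
    apply h2.no_commute (QuotientGroup.mk (g ^ p)) hb (QuotientGroup.mk (g ^ q))
      (Subgroup.mem_map_of_mem _ haK)
    rw [← QuotientGroup.mk_mul, ← QuotientGroup.mk_mul, hcomm]
  have hbH : (⟨g ^ p, hbK⟩ : ↥K) ∈ H.subgroupOf K := by
    apply mem_of_coprime_index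
    rw [Subgroup.orderOf_mk, hob, Subgroup.index_eq_card, card_quot_K₀ H K C h1]
    exact (Nat.Prime.coprime_iff_not_dvd hq).mpr hqC
  have h5 : (⟨g ^ p, hbK⟩ : ↥K) = 1 := by
    apply h1.no_commute (⟨g ^ q, haK⟩ : ↥K) (fun h => haH (Subgroup.mem_subgroupOf.mp h))
      _ hbH
    exact Subtype.ext hcomm
  have h6 : g ^ p = 1 := congrArg Subtype.val h5
  rw [h6, orderOf_one] at hob
  exact hq.one_lt.ne hob

/-- the mixed case: `p ∣ |H|`, `q ∣ |G/K|`. -/
theorem exists_orderOf_mixed (hlt : H < K) (h1 : FrobPair (H.subgroupOf K) C)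
    (h2 : FrobPair (K.map (QuotientGroup.mk' H)) C') (p q : ℕ) (hp : p.Prime) (hq : q.Prime)
    (hpq : p ≠ q) (hpH : p ∣ Nat.card H) (hqC' : q ∣ Nat.card C') :
    ∃ g : G, orderOf g = p * q := by
  have hHK : H ≤ K := hlt.le
  haveI := h1.nil
  haveI := h1.normal
  haveI := h2.normal
  haveI : Fact p.Prime := ⟨hp⟩
  haveI : Fact q.Prime := ⟨hq⟩
  haveI : Group.IsNilpotent H := Group.nilpotent_of_mulEquiv (Subgroup.subgroupOfEquivOfLe hHK)
  obtain ⟨z, hzc, hzo⟩ := exists_center_orderOf_prime (X := ↥H) p hp hpH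
  have hzV : (z : G) ∈ omegaCenter H p := by
    refine ⟨z.2, fun h hh => ?_, ?_⟩
    · have := Subgroup.mem_center_iff.mp hzc ⟨h, hh⟩
      exact congrArg Subtype.val this
    · have : z ^ p = 1 := by rw [← hzo]; exact pow_orderOf_eq_one z
      have h3 := congrArg Subtype.val this
      rwa [Subgroup.coe_pow] at h3
  have hz1 : (z : G) ≠ 1 := by
    intro h
    have : z = 1 := Subtype.ext h
    rw [this, orderOf_one] at hzo
    exact hp.one_lt.ne hzo
  haveI : Nontrivial (omegaCenter H p) :=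
    ⟨⟨⟨(z : G), hzV⟩, 1, fun h => hz1 (congrArg Subtype.val h)⟩⟩
  let ρ : G →* MulAut (omegaCenter H p) := MulAut.conjNormal
  have hρ : ∀ (g : G) (v : omegaCenter H p), ((ρ g v : omegaCenter H p) : G) = g * v * g⁻¹ :=
    fun g v => MulAut.conjNormal_apply g v
  have hker : H ≤ ρ.ker := by
    intro x hx
    rw [MonoidHom.mem_ker]
    ext v
    rw [hρ]
    obtain ⟨v, hv, hvc, hvp⟩ := v
    show x * v * x⁻¹ = v
    rw [hvc x hx, mul_assoc, mul_inv_cancel, mul_one]
  let ρ' : G ⧸ H →* MulAut (omegaCenter H p) := QuotientGroup.lift H ρ hker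
  have hρ' : ∀ (g : G) (v : omegaCenter H p),
      ((ρ' (QuotientGroup.mk g) v : omegaCenter H p) : G) = g * v * g⁻¹ := by
    intro g v
    have : ρ' (QuotientGroup.mk g) = ρ g := QuotientGroup.lift_mk' H hker g
    rw [this, hρ]
  obtain ⟨k, hkK, hkH⟩ := SetLike.exists_of_lt hlt
  obtain ⟨v, hv1, hvfix⟩ := exists_fixed_of_frobenius' (omegaCenter_comm H p) ρ'
    (K.map (QuotientGroup.mk' H)) C'
    (by
      intro a ha ha1 n hn hna
      have h3 : n ∈ K.map (QuotientGroup.mk' H) ⊓ Subgroup.centralizer {a} :=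
        Subgroup.mem_inf.mpr ⟨hn, Subgroup.mem_centralizer_singleton_iff.mpr hna⟩
      rw [h2.fpf a ha ha1, Subgroup.mem_bot] at h3
      exact h3)
    (by
      refine ⟨QuotientGroup.mk k, Subgroup.mem_map_of_mem _ hkK, ?_⟩
      intro v hv
      have h3 : k * (v : G) * k⁻¹ = v := by rw [← hρ', hv]
      have h4 : (v : G) * k = k * v := by
        calc (v : G) * k = (k * (v : G) * k⁻¹) * k := by rw [h3]
          _ = _ := by group
      have hvH : (v : G) ∈ H := v.2.1
      have h5 : (⟨(v : G), hHK hvH⟩ : ↥K) = 1 := by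
        apply h1.no_commute (⟨k, hkK⟩ : ↥K) (fun h => hkH (Subgroup.mem_subgroupOf.mp h))
          _ (Subgroup.mem_subgroupOf.mpr hvH)
        exact Subtype.ext h4
      exact Subtype.ext (congrArg (fun t : ↥K => (t : G)) h5))
    (by
      intro v hv
      rw [card_map_eq H K C h1] at hv
      have hvp : v ^ p = 1 := Subtype.ext (by rw [Subgroup.coe_pow]; exact v.2.2.2)
      have h3 : orderOf v ∣ Nat.gcd (Nat.card C) p :=
        Nat.dvd_gcd (orderOf_dvd_of_pow_eq_one hv) (orderOf_dvd_of_pow_eq_one hvp)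
      have h4 : (Nat.card C).Coprime p :=
        Nat.Coprime.coprime_dvd_right hpH (coprime_C_H H K C hHK h1)
      rw [Nat.Coprime.gcd_eq_one h4] at h3
      exact orderOf_eq_one_iff.mp (Nat.dvd_one.mp h3))
  obtain ⟨c, hc⟩ := exists_prime_orderOf_dvd_card' q hqC'
  obtain ⟨x, hx⟩ := QuotientGroup.mk_surjective (c : G ⧸ H)
  obtain ⟨i, hi⟩ := exists_orderOf_eq_of_map (QuotientGroup.mk' H) x
  have hxo : orderOf (x ^ i) = q := by
    rw [hi]
    show orderOf (QuotientGroup.mk x : G ⧸ H) = q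
    rw [hx, Subgroup.orderOf_coe, hc]
  have hmem : (QuotientGroup.mk (x ^ i) : G ⧸ H) ∈ C' := by
    rw [QuotientGroup.mk_pow, hx]
    exact C'.pow_mem c.2 i
  have h3 : x ^ i * (v : G) * (x ^ i)⁻¹ = v := by rw [← hρ', hvfix _ hmem]
  have hcomm : Commute (v : G) (x ^ i) := by
    show (v : G) * x ^ i = x ^ i * v
    calc (v : G) * x ^ i = (x ^ i * (v : G) * (x ^ i)⁻¹) * x ^ i := by rw [h3]
      _ = _ := by group
  have hvo : orderOf (v : G) = p :=
    orderOf_eq_prime v.2.2.2 (fun h => hv1 (Subtype.ext h))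
  refine ⟨(v : G) * x ^ i, ?_⟩
  rw [hcomm.orderOf_mul_eq_mul_orderOf_of_coprime (by
    rw [hvo, hxo]; exact (Nat.coprime_primes hp hq).mpr hpq), hvo, hxo]

theorem exists_orderOf_of_cyclic {Y : Type*} [Group Y] [Finite Y] [IsCyclic Y] (p q : ℕ)
    (hp : p.Prime) (hq : q.Prime) (hpq : p ≠ q) (hpY : p ∣ Nat.card Y) (hqY : q ∣ Nat.card Y) :
    ∃ y : Y, orderOf y = p * q := by
  obtain ⟨g, hg⟩ := IsCyclic.exists_ofOrder_eq_natCard (α := Y)
  apply Cfsg.Agent.helper20.OrdCount.exists_orderOf_eq_of_dvd g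
  rw [hg]
  exact Nat.Coprime.mul_dvd_of_dvd_of_dvd ((Nat.coprime_primes hp hq).mpr hpq) hpY hqY

/-- the prime graph statement. -/
theorem prime_graph (hlt : H < K) (h1 : FrobPair (H.subgroupOf K) C)
    (h2 : FrobPair (K.map (QuotientGroup.mk' H)) C') (p q : ℕ) (hp : p.Prime) (hq : q.Prime)
    (hpq : p ≠ q) (hpG : p ∣ Nat.card G) (hqG : q ∣ Nat.card G) :
    (∃ g : G, orderOf g = p * q) ↔ (p ∣ Nat.card C ↔ q ∣ Nat.card C) := by
  have hHK : H ≤ K := hlt.le
  constructor
  · rintro ⟨g, hg⟩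
    exact ⟨fun h => dvd_C_of_orderOf H K C C' hHK h1 h2 p q hp hq hpq g hg h,
      fun h => dvd_C_of_orderOf H K C C' hHK h1 h2 q p hq hp hpq.symm g
        (by rw [hg, mul_comm]) h⟩
  · intro hiff
    by_cases hpC : p ∣ Nat.card C
    · have hqC := hiff.mp hpC
      haveI := isCyclic_C H K C C' h1 h2
      obtain ⟨y, hy⟩ := exists_orderOf_of_cyclic (Y := C) p q hp hq hpq hpC hqC
      refine ⟨((y : ↥K) : G), ?_⟩
      rw [Subgroup.orderOf_coe, Subgroup.orderOf_coe, hy]
    · have hqC : ¬ q ∣ Nat.card C := fun h => hpC (hiff.mpr h)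
      have hcard := card_G_eq H K C C' hHK h1 h2
      have hp' : p ∣ Nat.card H ∨ p ∣ Nat.card C' := by
        rw [hcard] at hpG
        rcases (Nat.Prime.dvd_mul hp).mp hpG with h | h
        · rcases (Nat.Prime.dvd_mul hp).mp h with h | h
          · exact Or.inl h
          · exact absurd h hpC
        · exact Or.inr h
      have hq' : q ∣ Nat.card H ∨ q ∣ Nat.card C' := by
        rw [hcard] at hqG
        rcases (Nat.Prime.dvd_mul hq).mp hqG with h | h
        · rcases (Nat.Prime.dvd_mul hq).mp h with h | h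
          · exact Or.inl h
          · exact absurd h hqC
        · exact Or.inr h
      rcases hp' with hpH | hpC' <;> rcases hq' with hqH | hqC'
      · haveI := h1.nil
        haveI : Group.IsNilpotent H :=
          Group.nilpotent_of_mulEquiv (Subgroup.subgroupOfEquivOfLe hHK)
        obtain ⟨y, hy⟩ := exists_orderOf_mul_of_nilpotent (X := ↥H) p q hp hq hpq hpH hqH
        exact ⟨(y : G), by rw [Subgroup.orderOf_coe, hy]⟩
      · exact exists_orderOf_mixed H K C C' hlt h1 h2 p q hp hq hpq hpH hqC'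
      · obtain ⟨g, hg⟩ := exists_orderOf_mixed H K C C' hlt h1 h2 q p hq hp hpq.symm hqH hpC'
        exact ⟨g, by rw [hg, mul_comm]⟩
      · haveI := isCyclic_C' H K C C' h1 h2
        obtain ⟨y, hy⟩ := exists_orderOf_of_cyclic (Y := C') p q hp hq hpq hpC' hqC'
        obtain ⟨x, hx⟩ := QuotientGroup.mk_surjective (y : G ⧸ H)
        obtain ⟨i, hi⟩ := exists_orderOf_eq_of_map (QuotientGroup.mk' H) x
        refine ⟨x ^ i, ?_⟩
        rw [hi]
        show orderOf (QuotientGroup.mk x : G ⧸ H) = p * q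
        rw [hx, Subgroup.orderOf_coe, hy]

end TwoFrob

end Cfsg.Agent.helper20.Frob2
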