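import Mathlib
import Cfsg.Agent.Lib_helper2_ZFus
import Cfsg.Agent.Lib_helper10_NPC
import Cfsg.Agent.Lib_helper10_Sylow
import Cfsg.Agent.Lib_helper12_BS4

set_option autoImplicit false
set_option linter.style.haveILetI false
set_option linter.unusedSectionVars false

/-!
Classes of 2-elements (helper20): counting lemmas for quotients, isolated elements.
-/

namespace Cfsg.Agent.helper20.K2

open Cfsg

universe u

section basic

variable {G : Type u} [Group G]

theorem orderOf_conj_eq (g a : G) : orderOf (g * a * g⁻¹) = orderOf a := by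
  have := (MulAut.conj g).orderOf_eq a
  rwa [MulAut.conj_apply] at this

/-- the type of classes of 2-elements -/
abbrev K2 (G : Type u) [Group G] :=
  {c : ConjClasses G // ∀ x ∈ c.carrier, ∃ k : ℕ, orderOf x = 2 ^ k}

theorem isTwo_mk_iff (a : G) :
    (∀ x ∈ (ConjClasses.mk a).carrier, ∃ k : ℕ, orderOf x = 2 ^ k) ↔ ∃ k : ℕ, orderOf a = 2 ^ k := by
  constructor
  · intro h; exact h a ConjClasses.mem_carrier_mk
  · rintro ⟨k, hk⟩ x hx
    rw [ConjClasses.mem_carrier_iff_mk_eq, ConjClasses.mk_eq_mk_iff_isConj, isConj_iff] at hx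
    obtain ⟨c, hc⟩ := hx
    refine ⟨k, ?_⟩
    rw [← hk, ← hc, orderOf_conj_eq]

theorem two_pow_of_dvd {m k : ℕ} (h : m ∣ 2 ^ k) : ∃ j : ℕ, m = 2 ^ j := by
  obtain ⟨j, -, hj⟩ := (Nat.dvd_prime_pow Nat.prime_two).1 h
  exact ⟨j, hj⟩

theorem exists_rep (c : K2 G) : ∃ a : G, ConjClasses.mk a = c.1 ∧ ∃ k : ℕ, orderOf a = 2 ^ k := by
  obtain ⟨a, ha⟩ := ConjClasses.mk_surjective c.1
  refine ⟨a, ha, ?_⟩
  have := c.2
  rw [← ha] at this
  exact (isTwo_mk_iff a).1 this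

/-- the map on classes of 2-elements induced by a quotient map -/
noncomputable def quotMap (N : Subgroup G) [N.Normal] (c : K2 G) : K2 (G ⧸ N) :=
  ⟨ConjClasses.map (QuotientGroup.mk' N) c.1, by
    obtain ⟨a, ha, k, hk⟩ := exists_rep c
    rw [← ha]
    show ∀ x ∈ (ConjClasses.mk (QuotientGroup.mk' N a)).carrier, ∃ k : ℕ, orderOf x = 2 ^ k
    rw [isTwo_mk_iff]
    have h1 := orderOf_map_dvd (QuotientGroup.mk' N) a
    rw [hk] at h1
    exact two_pow_of_dvd h1⟩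

theorem quotMap_mk (N : Subgroup G) [N.Normal] (c : K2 G) (a : G) (ha : ConjClasses.mk a = c.1) :
    (quotMap N c).1 = ConjClasses.mk (QuotientGroup.mk' N a) := by
  show ConjClasses.map (QuotientGroup.mk' N) c.1 = _
  rw [← ha]
  rfl

end basic

section fin

variable {G : Type u} [Group G] [Finite G]

instance : Finite (K2 G) := by
  haveI : Finite (ConjClasses G) := Quotient.finite _
  exact Subtype.finite

/-- fibre bound: `k₂(G) ≤ |Z| k₂(G/Z)` -/
theorem card_le_mul_quot (Z : Subgroup G) [Z.Normal] :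
    Nat.card (K2 G) ≤ Nat.card Z * Nat.card (K2 (G ⧸ Z)) := by
  classical
  have hrep : ∀ d : K2 (G ⧸ Z), ∃ r : G, ConjClasses.mk (QuotientGroup.mk' Z r) = d.1 := by
    intro d
    obtain ⟨rb, hrb⟩ := ConjClasses.mk_surjective d.1
    obtain ⟨r, rfl⟩ := QuotientGroup.mk'_surjective Z rb
    exact ⟨r, hrb⟩
  choose rep hrep' using hrep
  have hz : ∀ c : K2 G, ∃ z : Z, ConjClasses.mk (rep (quotMap Z c) * (z : G)) = c.1 := by
    intro c
    obtain ⟨b, hb, -⟩ := exists_rep c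
    have h1 := hrep' (quotMap Z c)
    rw [quotMap_mk Z c b hb, ConjClasses.mk_eq_mk_iff_isConj, isConj_iff] at h1
    obtain ⟨gb, hgb⟩ := h1
    obtain ⟨g, rfl⟩ := QuotientGroup.mk'_surjective Z gb
    -- g * r * g⁻¹ ≡ b
    set r := rep (quotMap Z c) with hr
    have h2 : r⁻¹ * (g⁻¹ * b * g) ∈ Z := by
      rw [← QuotientGroup.eq_one_iff, ← QuotientGroup.mk'_apply]
      simp only [map_mul, map_inv]
      rw [← hgb]
      group
    refine ⟨⟨r⁻¹ * (g⁻¹ * b * g), h2⟩, ?_⟩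
    rw [← hb, ConjClasses.mk_eq_mk_iff_isConj, isConj_iff]
    refine ⟨g, ?_⟩
    show g * (r * (r⁻¹ * (g⁻¹ * b * g))) * g⁻¹ = b
    group
  choose zf hzf using hz
  have hinj : Function.Injective (fun c : K2 G => (zf c, quotMap Z c)) := by
    intro c c' h
    simp only [Prod.mk.injEq] at h
    apply Subtype.ext
    rw [← hzf c, ← hzf c', h.1, h.2]
  have := Nat.card_le_card_of_injective _ hinj
  rwa [Nat.card_prod] at this

/-- two 2-elements conjugate modulo an odd-order normal subgroup are conjugate -/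
theorem isConj_of_quot {N : Subgroup G} [N.Normal] (hN : Odd (Nat.card N)) {a b : G}
    (ha : ∃ k : ℕ, orderOf a = 2 ^ k) (hb : ∃ k : ℕ, orderOf b = 2 ^ k)
    (h : IsConj (QuotientGroup.mk' N a) (QuotientGroup.mk' N b)) : IsConj a b := by
  obtain ⟨S⟩ : Nonempty (Sylow 2 G) := inferInstance
  rw [isConj_iff] at h
  obtain ⟨cb, hcb⟩ := h
  obtain ⟨c, rfl⟩ := QuotientGroup.mk'_surjective N cb
  have h1 : b⁻¹ * (c * a * c⁻¹) ∈ N := by
    rw [← QuotientGroup.eq_one_iff, ← QuotientGroup.mk'_apply]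
    simp only [map_mul, map_inv]
    rw [hcb]
    group
  obtain ⟨kb, hkb⟩ := hb
  obtain ⟨ka, hka⟩ := ha
  obtain ⟨h, hh⟩ := Cfsg.Agent.helper12.bs_two_elt_conj_into_sylow S b kb hkb
  set b' := h * b * h⁻¹ with hb'
  set a' := h * (c * a * c⁻¹) * h⁻¹ with ha'
  have h2 : b'⁻¹ * a' ∈ N := by
    have e : b'⁻¹ * a' = h * (b⁻¹ * (c * a * c⁻¹)) * h⁻¹ := by rw [hb', ha']; group
    rw [e]
    exact ‹N.Normal›.conj_mem _ h1 h
  have hU : IsPGroup 2 (Subgroup.zpowers a') := by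
    apply IsPGroup.of_card (n := ka)
    rw [Nat.card_zpowers, ha', orderOf_conj_eq, orderOf_conj_eq, hka]
  have hle : Subgroup.zpowers a' ≤ (S : Subgroup G) ⊔ N := by
    rw [Subgroup.zpowers_le]
    have e : a' = b' * (b'⁻¹ * a') := by group
    rw [e]
    exact Subgroup.mul_mem_sup hh h2
  obtain ⟨n, hn, hnU⟩ := Cfsg.Agent.helper2.ZFus.conj_into_sylow_of_le_sup S N _ hU hle
  have h3 : n * a' * n⁻¹ ∈ S := hnU a' (Subgroup.mem_zpowers a')
  have h4 : b'⁻¹ * (n * a' * n⁻¹) ∈ N := by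
    have e : b'⁻¹ * (n * a' * n⁻¹) = (b'⁻¹ * n * b'⁻¹⁻¹) * (b'⁻¹ * a') * n⁻¹ := by group
    rw [e]
    exact N.mul_mem (N.mul_mem (‹N.Normal›.conj_mem _ hn _) h2) (N.inv_mem hn)
  have h5 := Cfsg.Agent.helper2.ZFus.eq_of_mem_sylow_of_mem_odd S hN hh h3 h4
  rw [isConj_iff]
  refine ⟨h⁻¹ * n * h * c, ?_⟩
  have e : h⁻¹ * n * h * c * a * (h⁻¹ * n * h * c)⁻¹ = h⁻¹ * (n * a' * n⁻¹) * h := by
    rw [ha']; group
  rw [e, ← h5, hb']
  group

theorem quotMap_injective_of_odd {N : Subgroup G} [N.Normal] (hN : Odd (Nat.card N)) :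
    Function.Injective (quotMap N : K2 G → K2 (G ⧸ N)) := by
  intro c c' h
  obtain ⟨a, ha, hka⟩ := exists_rep c
  obtain ⟨b, hb, hkb⟩ := exists_rep c'
  have h1 : (quotMap N c).1 = (quotMap N c').1 := by rw [h]
  rw [quotMap_mk N c a ha, quotMap_mk N c' b hb, ConjClasses.mk_eq_mk_iff_isConj] at h1
  have h2 := isConj_of_quot hN hka hkb h1
  apply Subtype.ext
  rw [← ha, ← hb, ConjClasses.mk_eq_mk_iff_isConj]
  exact h2

theorem card_le_quot_of_odd {N : Subgroup G} [N.Normal] (hN : Odd (Nat.card N)) :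
    Nat.card (K2 G) ≤ Nat.card (K2 (G ⧸ N)) :=
  Nat.card_le_card_of_injective _ (quotMap_injective_of_odd hN)

end fin

end Cfsg.Agent.helper20.K2
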