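import Mathlib
import Cfsg.Agent.Lib_helper20_K2a

set_option autoImplicit false
set_option linter.style.haveILetI false
set_option linter.unusedSectionVars false
set_option linter.dupNamespace false

/-!
Isolated 2-elements and lifting of normal 2-complements through central 2-subgroups (helper20).
-/

namespace Cfsg.Agent.helper20.K2

open Cfsg Cfsg.Agent.lead

universe u

variable {G : Type u} [Group G] [Finite G]

/-- `x` is isolated in the Sylow 2-subgroup `S` -/
def Iso (S : Sylow 2 G) (x : G) : Prop := ∀ g : G, g * x * g⁻¹ ∈ S → g * x * g⁻¹ = x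

theorem Iso.comm {S : Sylow 2 G} {x : G} (hxS : x ∈ S) (hx : Iso S x) :
    ∀ s ∈ S, s * x = x * s := by
  intro s hs
  have h1 := hx s ((S : Subgroup G).mul_mem ((S : Subgroup G).mul_mem hs hxS)
    ((S : Subgroup G).inv_mem hs))
  calc s * x = (s * x * s⁻¹) * s := by group
    _ = x * s := by rw [h1]

theorem Iso.pow {S : Sylow 2 G} {x : G} (hxS : x ∈ S) (hx : Iso S x) (i : ℕ) : Iso S (x ^ i) := by
  intro g hg
  obtain ⟨u, hu⟩ : ∃ u, u = g * x ^ i * g⁻¹ := ⟨_, rfl⟩
  rw [← hu] at hg ⊢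
  have hxc := hx.comm hxS
  have hxu : u * x = x * u := hxc u hg
  have hgS : ((g • S : Sylow 2 G) : Subgroup G) ≤ Subgroup.centralizer ({u} : Set G) := by
    intro y hy
    rw [Cfsg.Agent.helper10.sylow_smul_eq_map_conj, Cfsg.Agent.helper10.mem_map_conj_iff] at hy
    rw [Subgroup.mem_centralizer_iff]
    intro w hw
    rw [Set.mem_singleton_iff] at hw
    subst hw
    have h1 : (g⁻¹ * y * g) * x ^ i = x ^ i * (g⁻¹ * y * g) := by
      have := hxc _ hy
      exact (Commute.pow_right this i)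
    rw [hu]
    calc g * x ^ i * g⁻¹ * y = g * (x ^ i * (g⁻¹ * y * g)) * g⁻¹ := by group
      _ = g * ((g⁻¹ * y * g) * x ^ i) * g⁻¹ := by rw [h1]
      _ = y * (g * x ^ i * g⁻¹) := by group
  have hxH : x ∈ Subgroup.centralizer ({u} : Set G) := by
    rw [Subgroup.mem_centralizer_iff]
    intro w hw
    rw [Set.mem_singleton_iff] at hw
    subst hw
    exact hxu
  obtain ⟨h, hh, hhx⟩ := Cfsg.Agent.helper10.pelement_conj_into_sylow_in_subgroup (g • S)
    (Subgroup.centralizer ({u} : Set G)) hgS (S : Subgroup G) S.isPGroup' x hxS hxH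
  rw [Cfsg.Agent.helper10.sylow_smul_eq_map_conj, Cfsg.Agent.helper10.mem_map_conj_iff] at hhx
  have e : g⁻¹ * (h * x * h⁻¹) * g = (g⁻¹ * h) * x * (g⁻¹ * h)⁻¹ := by group
  rw [e] at hhx
  have h1 := hx _ hhx
  have h2 : h * x * h⁻¹ = g * x * g⁻¹ := by
    calc h * x * h⁻¹ = g * ((g⁻¹ * h) * x * (g⁻¹ * h)⁻¹) * g⁻¹ := by group
      _ = g * x * g⁻¹ := by rw [h1]
  have h3 : h * x ^ i * h⁻¹ = u := by
    rw [hu, ← conj_pow, ← conj_pow, h2]
  have h4 : u * h = h * u := by
    rw [Subgroup.mem_centralizer_iff] at hh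
    exact hh u rfl
  calc u = h⁻¹ * (h * u) * 1 := by group
    _ = h⁻¹ * (u * h) * 1 := by rw [h4]
    _ = h⁻¹ * (h * x ^ i * h⁻¹ * h) * 1 := by rw [h3]
    _ = x ^ i := by group

theorem Iso.wc {S : Sylow 2 G} {x : G} (hxS : x ∈ S) (hx : Iso S x) :
    Cfsg.Agent.helper2.ZFus.WC S (Subgroup.zpowers x) := by
  intro y hy g hg
  rw [← mem_powers_iff_mem_zpowers] at hy
  obtain ⟨i, rfl⟩ := hy
  exact hx.pow hxS i g hg

/-- generalized Z*: an isolated 2-element is central modulo the odd core -/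
theorem Iso.comm_mem_oddCore {S : Sylow 2 G} {x : G} (hxS : x ∈ S) (hx : Iso S x) (g : G) :
    x * g * x⁻¹ * g⁻¹ ∈ oddCore G :=
  Cfsg.Agent.helper2.ZFus.wc_main _ G rfl S (Subgroup.zpowers x)
    (by rw [Subgroup.zpowers_le]; exact hxS) (hx.wc hxS) x (Subgroup.mem_zpowers x) g

/-- lifting a normal 2-complement through a central 2-subgroup -/
theorem npc_of_quotient_central (Z : Subgroup G) [Z.Normal] (hZc : Z ≤ Subgroup.center G)
    (hZ2 : IsPGroup 2 Z) (h : Cfsg.HasNormalPComplement 2 (G ⧸ Z)) :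
    Cfsg.HasNormalPComplement 2 G := by
  haveI : Fact (Nat.Prime 2) := ⟨Nat.prime_two⟩
  have hF := Cfsg.Agent.helper10.frobCond_of_npc h
  apply Cfsg.Agent.helper10.npc_of_frobCond
  intro Q hQ g hg hcop
  have h1 : (QuotientGroup.mk' Z) g ∈ Subgroup.normalizer
      (((Q.map (QuotientGroup.mk' Z) : Subgroup (G ⧸ Z))) : Set (G ⧸ Z)) :=
    Subgroup.le_normalizer_map (QuotientGroup.mk' Z) ⟨g, hg, rfl⟩
  have h2 := hF (Q.map (QuotientGroup.mk' Z)) (hQ.map _) _ h1
    (Nat.Coprime.coprime_dvd_left (orderOf_map_dvd _ g) hcop)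
  rw [Subgroup.mem_centralizer_iff]
  intro q hq
  have h3 := (Subgroup.mem_centralizer_iff.mp h2) ((QuotientGroup.mk' Z) q) ⟨q, hq, rfl⟩
  have h4 : g * q * g⁻¹ * q⁻¹ ∈ Z := by
    rw [← QuotientGroup.eq_one_iff, ← QuotientGroup.mk'_apply]
    simp only [map_mul, map_inv]
    rw [← h3]; group
  obtain ⟨z, hz⟩ : ∃ z, z = g * q * g⁻¹ * q⁻¹ := ⟨_, rfl⟩
  rw [← hz] at h4
  have hzc : ∀ y : G, y * z = z * y := fun y => (Subgroup.mem_center_iff.mp (hZc h4)) y
  have hgq : g * q * g⁻¹ = z * q := by rw [hz]; group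
  have key : ∀ n : ℕ, g ^ n * q * (g ^ n)⁻¹ = z ^ n * q := by
    intro n
    induction n with
    | zero => simp
    | succ n ih =>
      have hzn : ∀ y : G, y * z ^ n = z ^ n * y := fun y =>
        (Commute.pow_right (hzc y) n)
      calc g ^ (n + 1) * q * (g ^ (n + 1))⁻¹ = g * (g ^ n * q * (g ^ n)⁻¹) * g⁻¹ := by
            rw [pow_succ']; group
        _ = g * (z ^ n * q) * g⁻¹ := by rw [ih]
        _ = (g * z ^ n) * q * g⁻¹ := by group
        _ = (z ^ n * g) * q * g⁻¹ := by rw [hzn g]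
        _ = z ^ n * (g * q * g⁻¹) := by group
        _ = z ^ n * (z * q) := by rw [hgq]
        _ = z ^ (n + 1) * q := by rw [pow_succ]; group
  have h5 := key (orderOf g)
  rw [pow_orderOf_eq_one] at h5
  have h6 : z ^ orderOf g = 1 := by
    have : q = z ^ orderOf g * q := by simpa using h5
    calc z ^ orderOf g = (z ^ orderOf g * q) * q⁻¹ := by group
      _ = q * q⁻¹ := by rw [← this]
      _ = 1 := by group
  have h7 : orderOf z ∣ orderOf g := orderOf_dvd_of_pow_eq_one h6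
  obtain ⟨j, hj⟩ := hZ2 ⟨z, h4⟩
  have h8 : z ^ 2 ^ j = 1 := by simpa using congrArg Subtype.val hj
  have h9 : orderOf z ∣ 2 ^ j := orderOf_dvd_of_pow_eq_one h8
  have h10 : orderOf z = 1 :=
    Nat.eq_one_of_dvd_coprimes (Nat.Coprime.pow_right j hcop) h7 h9
  have hz1 : z = 1 := orderOf_eq_one_iff.mp h10
  rw [hz1, one_mul] at hgq
  calc q * g = (g * q * g⁻¹) * g := by rw [hgq]
    _ = g * q := by group

end Cfsg.Agent.helper20.K2
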