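import Mathlib

set_option autoImplicit false
set_option linter.unusedSimpArgs false

/-! Rank one relations and the resulting homomorphism from `SL₂(F)` (helper5). -/

namespace Cfsg.Agent.helper5.SL2

open Matrix

variable {F : Type*} [Field F] {G : Type*} [Group G]

/-- `n(t) = x₊(t) x₋(-t⁻¹) x₊(t)` -/
def r1n (xp xm : F → G) (t : F) : G := xp t * xm (-t⁻¹) * xp t

/-- `h(t) = n(t) n(1)⁻¹` -/
def r1h (xp xm : F → G) (t : F) : G := r1n xp xm t * (r1n xp xm 1)⁻¹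

/-- the rank one relations -/
structure Rank1Rel (xp xm : F → G) : Prop where
  addp : ∀ t u, xp t * xp u = xp (t + u)
  addm : ∀ t u, xm t * xm u = xm (t + u)
  np : ∀ u, r1n xp xm 1 * xp u = xm (-u) * r1n xp xm 1
  nm : ∀ u, r1n xp xm 1 * xm u = xp (-u) * r1n xp xm 1
  hp : ∀ t u, t ≠ 0 → r1h xp xm t * xp u = xp (t ^ 2 * u) * r1h xp xm t
  hm : ∀ t u, t ≠ 0 → r1h xp xm t * xm u = xm ((t ^ 2)⁻¹ * u) * r1h xp xm t
  hmul : ∀ t u, t ≠ 0 → u ≠ 0 → r1h xp xm t * r1h xp xm u = r1h xp xm (t * u)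

namespace Rank1Rel

variable {xp xm : F → G} (R : Rank1Rel xp xm)

include R

theorem xp_zero : xp 0 = 1 := by
  have h := R.addp 0 0
  rw [add_zero] at h
  exact mul_left_cancel (a := xp 0) (by rw [h, mul_one])

theorem xm_zero : xm 0 = 1 := by
  have h := R.addm 0 0
  rw [add_zero] at h
  exact mul_left_cancel (a := xm 0) (by rw [h, mul_one])

theorem xp_inv (t : F) : (xp t)⁻¹ = xp (-t) :=
  inv_eq_of_mul_eq_one_right (by rw [R.addp, add_neg_cancel, R.xp_zero])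

theorem xm_inv (t : F) : (xm t)⁻¹ = xm (-t) :=
  inv_eq_of_mul_eq_one_right (by rw [R.addm, add_neg_cancel, R.xm_zero])

theorem n_inv (t : F) : (r1n xp xm t)⁻¹ = r1n xp xm (-t) := by
  unfold r1n
  rw [_root_.mul_inv_rev, _root_.mul_inv_rev, R.xp_inv, R.xm_inv, inv_neg, neg_neg, mul_assoc]

omit R in
theorem nn_eq (t : F) : r1n xp xm t = r1h xp xm t * r1n xp xm 1 := by
  unfold r1h
  rw [inv_mul_cancel_right]

omit R in
theorem hh_one : r1h xp xm (1 : F) = 1 := by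
  unfold r1h
  rw [mul_inv_cancel]

theorem nn_p (s u : F) (hs : s ≠ 0) :
    r1n xp xm s * xp u = xm (-((s ^ 2)⁻¹ * u)) * r1n xp xm s := by
  rw [nn_eq s, mul_assoc, R.np, ← mul_assoc, R.hm _ _ hs, mul_assoc, mul_neg]

theorem nn_m (s u : F) (hs : s ≠ 0) :
    r1n xp xm s * xm u = xp (-(s ^ 2 * u)) * r1n xp xm s := by
  rw [nn_eq s, mul_assoc, R.nm, ← mul_assoc, R.hp _ _ hs, mul_assoc, mul_neg]

/-- `n(s) = x₋(-s⁻¹) x₊(s) x₋(-s⁻¹)` -/
theorem nn_alt (s : F) (hs : s ≠ 0) :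
    r1n xp xm s = xm (-s⁻¹) * xp s * xm (-s⁻¹) := by
  have h : r1n xp xm s * r1n xp xm s = xm (-s⁻¹) * xp s * xm (-s⁻¹) * r1n xp xm s := by
    have e : r1n xp xm s * r1n xp xm s = r1n xp xm s * xp s * xm (-s⁻¹) * xp s := by
      conv_lhs => rw [show r1n xp xm s = xp s * xm (-s⁻¹) * xp s from rfl]
      simp only [← mul_assoc]
      rfl
    rw [e, R.nn_p s s hs, mul_assoc (xm _), R.nn_m s _ hs, ← mul_assoc, mul_assoc (xm _ * xp _),
      R.nn_p s s hs, ← mul_assoc]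
    have e1 : (s ^ 2)⁻¹ * s = s⁻¹ := by field_simp
    have e2 : -(s ^ 2 * -s⁻¹) = s := by field_simp
    rw [e1, e2]
  exact mul_right_cancel h

theorem nh (t : F) (ht : t ≠ 0) :
    r1n xp xm 1 * r1h xp xm t = r1h xp xm t⁻¹ * r1n xp xm 1 := by
  have h1 : r1n xp xm 1 * r1n xp xm t = r1n xp xm t⁻¹ * r1n xp xm 1 := by
    have e : r1n xp xm 1 * r1n xp xm t = r1n xp xm 1 * xp t * xm (-t⁻¹) * xp t := by
      conv_lhs => rw [show r1n xp xm t = xp t * xm (-t⁻¹) * xp t from rfl]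
      simp only [← mul_assoc]
    rw [e, R.np, mul_assoc (xm _), R.nm, ← mul_assoc, mul_assoc (xm _ * xp _), R.np, ← mul_assoc,
      R.nn_alt t⁻¹ (inv_ne_zero ht), inv_inv, neg_neg]
  unfold r1h
  rw [← mul_assoc, h1, mul_assoc, mul_inv_cancel, mul_one, inv_mul_cancel_right]

theorem n_sq : r1n xp xm 1 * r1n xp xm 1 = (r1h xp xm (-1 : F))⁻¹ := by
  unfold r1h
  rw [← R.n_inv, _root_.mul_inv_rev, inv_inv]

theorem hh_neg (t : F) (ht : t ≠ 0) : r1h xp xm (-t) = r1h xp xm t * r1h xp xm (-1) := by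
  rw [R.hmul t (-1) ht (by norm_num), mul_neg_one]

/-- `n(1) n(-c⁻¹) = h(c)` -/
theorem n_nn (c : F) (hc : c ≠ 0) : r1n xp xm 1 * r1n xp xm (-c⁻¹) = r1h xp xm c := by
  have h1 : (-c⁻¹) ≠ 0 := neg_ne_zero.mpr (inv_ne_zero hc)
  rw [nn_eq (-c⁻¹), ← mul_assoc, R.nh _ h1, mul_assoc, R.n_sq, inv_neg, inv_inv, R.hh_neg c hc,
    mul_inv_cancel_right]

theorem h_nn (s u : F) (hs : s ≠ 0) (hu : u ≠ 0) :
    r1h xp xm s * r1n xp xm u = r1n xp xm (s * u) := by
  rw [nn_eq u, ← mul_assoc, R.hmul s u hs hu, ← nn_eq]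

end Rank1Rel


/-! ### The special linear group -/

/-- upper unitriangular -/
def sU (t : F) : SpecialLinearGroup (Fin 2) F := ⟨!![1, t; 0, 1], by simp [Matrix.det_fin_two_of]⟩

/-- lower unitriangular -/
def sL (t : F) : SpecialLinearGroup (Fin 2) F := ⟨!![1, 0; t, 1], by simp [Matrix.det_fin_two_of]⟩

/-- diagonal -/
def sH (s : F) (hs : s ≠ 0) : SpecialLinearGroup (Fin 2) F :=
  ⟨!![s, 0; 0, s⁻¹], by simp [Matrix.det_fin_two_of, hs]⟩

/-- the Weyl element -/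
def sW : SpecialLinearGroup (Fin 2) F := ⟨!![0, 1; -1, 0], by simp [Matrix.det_fin_two_of]⟩

theorem sl_det (g : SpecialLinearGroup (Fin 2) F) :
    g.1 0 0 * g.1 1 1 - g.1 0 1 * g.1 1 0 = 1 := by
  have h := g.2
  rw [Matrix.det_fin_two] at h
  exact h

theorem sl_ext (g g' : SpecialLinearGroup (Fin 2) F) (h00 : g.1 0 0 = g'.1 0 0)
    (h01 : g.1 0 1 = g'.1 0 1) (h10 : g.1 1 0 = g'.1 1 0) (h11 : g.1 1 1 = g'.1 1 1) : g = g' := by
  apply Subtype.ext
  ext i j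
  fin_cases i <;> fin_cases j
  · exact h00
  · exact h01
  · exact h10
  · exact h11

theorem sl_mul_apply (g g' : SpecialLinearGroup (Fin 2) F) (i j : Fin 2) :
    (g * g').1 i j = g.1 i 0 * g'.1 0 j + g.1 i 1 * g'.1 1 j := by
  have : (g * g').1 = g.1 * g'.1 := rfl
  rw [this, Matrix.mul_apply, Fin.sum_univ_two]

@[simp] theorem sU_00 (t : F) : (sU t).1 0 0 = 1 := rfl
@[simp] theorem sU_01 (t : F) : (sU t).1 0 1 = t := rfl
@[simp] theorem sU_10 (t : F) : (sU t).1 1 0 = 0 := rfl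
@[simp] theorem sU_11 (t : F) : (sU t).1 1 1 = 1 := rfl
@[simp] theorem sL_00 (t : F) : (sL t).1 0 0 = 1 := rfl
@[simp] theorem sL_01 (t : F) : (sL t).1 0 1 = 0 := rfl
@[simp] theorem sL_10 (t : F) : (sL t).1 1 0 = t := rfl
@[simp] theorem sL_11 (t : F) : (sL t).1 1 1 = 1 := rfl
@[simp] theorem sH_00 (s : F) (hs : s ≠ 0) : (sH s hs).1 0 0 = s := rfl
@[simp] theorem sH_01 (s : F) (hs : s ≠ 0) : (sH s hs).1 0 1 = 0 := rfl
@[simp] theorem sH_10 (s : F) (hs : s ≠ 0) : (sH s hs).1 1 0 = 0 := rfl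
@[simp] theorem sH_11 (s : F) (hs : s ≠ 0) : (sH s hs).1 1 1 = s⁻¹ := rfl
@[simp] theorem sW_00 : (sW : SpecialLinearGroup (Fin 2) F).1 0 0 = 0 := rfl
@[simp] theorem sW_01 : (sW : SpecialLinearGroup (Fin 2) F).1 0 1 = 1 := rfl
@[simp] theorem sW_10 : (sW : SpecialLinearGroup (Fin 2) F).1 1 0 = -1 := rfl
@[simp] theorem sW_11 : (sW : SpecialLinearGroup (Fin 2) F).1 1 1 = 0 := rfl

/-- the candidate homomorphism, through the Bruhat decomposition -/
noncomputable def psi (xp xm : F → G) (g : SpecialLinearGroup (Fin 2) F) : G :=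
  open Classical in
  if g.1 1 0 = 0 then r1h xp xm (g.1 0 0) * xp (g.1 0 1 / g.1 0 0)
  else xp (g.1 0 0 / g.1 1 0) * r1n xp xm (-(g.1 1 0)⁻¹) * xp (g.1 1 1 / g.1 1 0)

theorem sl_a_ne (g : SpecialLinearGroup (Fin 2) F) (hc : g.1 1 0 = 0) : g.1 0 0 ≠ 0 := by
  intro h
  have := sl_det g
  rw [hc, h] at this
  simp at this

theorem sl_d_eq (g : SpecialLinearGroup (Fin 2) F) (hc : g.1 1 0 = 0) : g.1 1 1 = (g.1 0 0)⁻¹ := by
  have := sl_det g
  rw [hc, mul_zero, sub_zero] at this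
  exact eq_inv_of_mul_eq_one_right this

namespace Rank1Rel

variable {xp xm : F → G} (R : Rank1Rel xp xm)

include R

theorem psi_U (t : F) (g : SpecialLinearGroup (Fin 2) F) :
    psi xp xm (sU t * g) = xp t * psi xp xm g := by
  have e00 : (sU t * g).1 0 0 = g.1 0 0 + t * g.1 1 0 := by rw [sl_mul_apply]; simp
  have e01 : (sU t * g).1 0 1 = g.1 0 1 + t * g.1 1 1 := by rw [sl_mul_apply]; simp
  have e10 : (sU t * g).1 1 0 = g.1 1 0 := by rw [sl_mul_apply]; simp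
  have e11 : (sU t * g).1 1 1 = g.1 1 1 := by rw [sl_mul_apply]; simp
  unfold psi
  rw [e00, e01, e10, e11]
  by_cases hc : g.1 1 0 = 0
  · have ha := sl_a_ne g hc
    have hd := sl_d_eq g hc
    rw [if_pos hc, if_pos hc, hc, mul_zero, add_zero, hd]
    have h1 := R.hp (g.1 0 0) (((g.1 0 0) ^ 2)⁻¹ * t) ha
    have e1 : (g.1 0 0) ^ 2 * (((g.1 0 0) ^ 2)⁻¹ * t) = t := by field_simp
    rw [e1] at h1
    rw [← mul_assoc, ← h1, mul_assoc, R.addp]
    congr 2
    field_simp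
    ring
  · rw [if_neg hc, if_neg hc, ← mul_assoc, ← mul_assoc, R.addp]
    congr 3
    field_simp
    ring

theorem psi_H (s : F) (hs : s ≠ 0) (g : SpecialLinearGroup (Fin 2) F) :
    psi xp xm (sH s hs * g) = r1h xp xm s * psi xp xm g := by
  have e00 : (sH s hs * g).1 0 0 = s * g.1 0 0 := by rw [sl_mul_apply]; simp
  have e01 : (sH s hs * g).1 0 1 = s * g.1 0 1 := by rw [sl_mul_apply]; simp
  have e10 : (sH s hs * g).1 1 0 = s⁻¹ * g.1 1 0 := by rw [sl_mul_apply]; simp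
  have e11 : (sH s hs * g).1 1 1 = s⁻¹ * g.1 1 1 := by rw [sl_mul_apply]; simp
  unfold psi
  rw [e00, e01, e10, e11]
  by_cases hc : g.1 1 0 = 0
  · have ha := sl_a_ne g hc
    have hc' : s⁻¹ * g.1 1 0 = 0 := by rw [hc, mul_zero]
    rw [if_pos hc, if_pos hc', ← R.hmul s _ hs ha, mul_assoc]
    congr 2
    field_simp
  · have hc' : s⁻¹ * g.1 1 0 ≠ 0 := mul_ne_zero (inv_ne_zero hs) hc
    rw [if_neg hc, if_neg hc']
    have h1 : (-(g.1 1 0)⁻¹) ≠ 0 := neg_ne_zero.mpr (inv_ne_zero hc)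
    have key : r1h xp xm s * (xp (g.1 0 0 / g.1 1 0) * r1n xp xm (-(g.1 1 0)⁻¹) *
        xp (g.1 1 1 / g.1 1 0)) = xp (s ^ 2 * (g.1 0 0 / g.1 1 0)) * r1n xp xm (s * -(g.1 1 0)⁻¹) *
          xp (g.1 1 1 / g.1 1 0) := by
      rw [← mul_assoc, ← mul_assoc, R.hp s _ hs, mul_assoc (xp _) (r1h xp xm s), R.h_nn s _ hs h1]
    rw [key]
    have e1 : s * g.1 0 0 / (s⁻¹ * g.1 1 0) = s ^ 2 * (g.1 0 0 / g.1 1 0) := by field_simp
    have e2 : -(s⁻¹ * g.1 1 0)⁻¹ = s * -(g.1 1 0)⁻¹ := by field_simp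
    have e3 : s⁻¹ * g.1 1 1 / (s⁻¹ * g.1 1 0) = g.1 1 1 / g.1 1 0 := by field_simp
    rw [e1, e2, e3]

theorem psi_W (g : SpecialLinearGroup (Fin 2) F) :
    psi xp xm (sW * g) = r1n xp xm 1 * psi xp xm g := by
  have e00 : (sW * g).1 0 0 = g.1 1 0 := by rw [sl_mul_apply]; simp
  have e01 : (sW * g).1 0 1 = g.1 1 1 := by rw [sl_mul_apply]; simp
  have e10 : (sW * g).1 1 0 = -g.1 0 0 := by rw [sl_mul_apply]; simp
  have e11 : (sW * g).1 1 1 = -g.1 0 1 := by rw [sl_mul_apply]; simp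
  unfold psi
  rw [e00, e01, e10, e11]
  by_cases hc : g.1 1 0 = 0
  · have ha := sl_a_ne g hc
    have ha' : -g.1 0 0 ≠ 0 := neg_ne_zero.mpr ha
    have key : r1n xp xm 1 * (r1h xp xm (g.1 0 0) * xp (g.1 0 1 / g.1 0 0)) =
        r1n xp xm (g.1 0 0)⁻¹ * xp (g.1 0 1 / g.1 0 0) := by
      rw [← mul_assoc, R.nh _ ha, ← nn_eq]
    rw [if_pos hc, if_neg ha', hc, zero_div, R.xp_zero, one_mul, key]
    have e1 : -(-g.1 0 0)⁻¹ = (g.1 0 0)⁻¹ := by rw [inv_neg, neg_neg]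
    have e2 : -g.1 0 1 / -g.1 0 0 = g.1 0 1 / g.1 0 0 := by rw [neg_div_neg_eq]
    rw [e1, e2]
  · by_cases ha : g.1 0 0 = 0
    · have ha' : -g.1 0 0 = 0 := by rw [ha, neg_zero]
      rw [if_neg hc, if_pos ha', ha, zero_div, R.xp_zero, one_mul, ← mul_assoc, R.n_nn _ hc]
    · have ha' : -g.1 0 0 ≠ 0 := neg_ne_zero.mpr ha
      rw [if_neg hc, if_neg ha']
      have hdet := sl_det g
      set a := g.1 0 0 with hadef
      set b := g.1 0 1 with hbdef
      set c := g.1 1 0 with hcdef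
      set d := g.1 1 1 with hddef
      have hca : c / a ≠ 0 := div_ne_zero hc ha
      -- the right hand side
      have r1 : r1n xp xm 1 * (xp (a / c) * r1n xp xm (-c⁻¹) * xp (d / c)) =
          xm (-(a / c)) * r1h xp xm c * xp (d / c) := by
        rw [← mul_assoc, ← mul_assoc, R.np, mul_assoc (xm _), R.n_nn _ hc]
      -- express the negative root element
      have r2 : xm (-(a / c)) = xp (-(c / a)) * r1n xp xm (c / a) * xp (-(c / a)) := by
        have : r1n xp xm (c / a) = xp (c / a) * xm (-(c / a)⁻¹) * xp (c / a) := rfl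
        rw [this, ← mul_assoc, ← mul_assoc, R.addp, neg_add_cancel, R.xp_zero, one_mul, mul_assoc,
          R.addp, add_neg_cancel, R.xp_zero, mul_one, inv_div]
      have r3 : xp (-(c / a)) * r1h xp xm c = r1h xp xm c * xp ((c ^ 2)⁻¹ * -(c / a)) := by
        rw [R.hp c _ hc]
        congr 2
        field_simp
      have r4 : r1n xp xm (c / a) * r1h xp xm c = r1n xp xm a⁻¹ := by
        rw [nn_eq (c / a), mul_assoc, R.nh c hc, ← mul_assoc, R.hmul _ _ hca (inv_ne_zero hc), ← nn_eq]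
        congr 1
        field_simp
      have key : xp (-(c / a)) * r1n xp xm (c / a) * xp (-(c / a)) * r1h xp xm c * xp (d / c) =
          xp (-(c / a)) * r1n xp xm a⁻¹ * xp ((c ^ 2)⁻¹ * -(c / a) + d / c) := by
        rw [mul_assoc (xp (-(c / a)) * r1n xp xm (c / a)) (xp (-(c / a))) (r1h xp xm c), r3,
          ← mul_assoc (xp (-(c / a)) * r1n xp xm (c / a)) (r1h xp xm c),
          mul_assoc (xp (-(c / a))) (r1n xp xm (c / a)) (r1h xp xm c), r4, mul_assoc, R.addp]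
      rw [r1, r2, key]
      have e1 : c / -a = -(c / a) := by rw [div_neg]
      have e2 : -(-a)⁻¹ = a⁻¹ := by rw [inv_neg, neg_neg]
      have e3 : -b / -a = (c ^ 2)⁻¹ * -(c / a) + d / c := by
        field_simp
        linear_combination (-1 : F) * hdet
      rw [e1, e2, e3]

end Rank1Rel


/-- Bruhat decomposition, `c = 0` -/
theorem sl_dec0 (g : SpecialLinearGroup (Fin 2) F) (hc : g.1 1 0 = 0) :
    g = sH (g.1 0 0) (sl_a_ne g hc) * sU (g.1 0 1 / g.1 0 0) := by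
  have ha := sl_a_ne g hc
  have hd := sl_d_eq g hc
  apply sl_ext
  · rw [sl_mul_apply]; simp
  · rw [sl_mul_apply]; simp; field_simp
  · rw [sl_mul_apply]; simp [hc]
  · rw [sl_mul_apply]; simp [hd]

/-- Bruhat decomposition, `c ≠ 0` -/
theorem sl_dec1 (g : SpecialLinearGroup (Fin 2) F) (hc : g.1 1 0 ≠ 0) :
    g = sU (g.1 0 0 / g.1 1 0) * (sH (-(g.1 1 0)⁻¹) (neg_ne_zero.mpr (inv_ne_zero hc)) *
      (sW * sU (g.1 1 1 / g.1 1 0))) := by
  have hdet := sl_det g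
  apply sl_ext
  · simp only [sl_mul_apply, sU_00, sU_01, sU_10, sU_11, sH_00, sH_01, sH_10, sH_11, sW_00, sW_01,
      sW_10, sW_11]
    field_simp
    ring
  · simp only [sl_mul_apply, sU_00, sU_01, sU_10, sU_11, sH_00, sH_01, sH_10, sH_11, sW_00, sW_01,
      sW_10, sW_11]
    field_simp
    linear_combination (-(g.1 1 0)) * hdet
  · simp only [sl_mul_apply, sU_00, sU_01, sU_10, sU_11, sH_00, sH_01, sH_10, sH_11, sW_00, sW_01,
      sW_10, sW_11]
    field_simp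
    ring
  · simp only [sl_mul_apply, sU_00, sU_01, sU_10, sU_11, sH_00, sH_01, sH_10, sH_11, sW_00, sW_01,
      sW_10, sW_11]
    field_simp
    ring

namespace Rank1Rel

variable {xp xm : F → G} (R : Rank1Rel xp xm)

include R

theorem psi_one : psi xp xm (1 : SpecialLinearGroup (Fin 2) F) = 1 := by
  unfold psi
  have e10 : (1 : SpecialLinearGroup (Fin 2) F).1 1 0 = 0 := by simp
  have e00 : (1 : SpecialLinearGroup (Fin 2) F).1 0 0 = 1 := by simp
  have e01 : (1 : SpecialLinearGroup (Fin 2) F).1 0 1 = 0 := by simp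
  rw [if_pos e10, e00, e01, zero_div, R.xp_zero, hh_one, mul_one]

theorem psi_mul (g g' : SpecialLinearGroup (Fin 2) F) :
    psi xp xm (g * g') = psi xp xm g * psi xp xm g' := by
  by_cases hc : g.1 1 0 = 0
  · have e : g * g' = sH (g.1 0 0) (sl_a_ne g hc) * (sU (g.1 0 1 / g.1 0 0) * g') := by
      rw [← mul_assoc, ← sl_dec0 g hc]
    rw [e, R.psi_H, R.psi_U, ← mul_assoc]
    congr 1
    unfold psi
    rw [if_pos hc]
  · have e : g * g' = sU (g.1 0 0 / g.1 1 0) * (sH (-(g.1 1 0)⁻¹) (neg_ne_zero.mpr (inv_ne_zero hc)) *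
        (sW * (sU (g.1 1 1 / g.1 1 0) * g'))) := by
      conv_lhs => rw [sl_dec1 g hc]
      simp only [mul_assoc]
    rw [e, R.psi_U, R.psi_H, R.psi_W, R.psi_U, ← mul_assoc, ← mul_assoc, ← mul_assoc]
    congr 1
    unfold psi
    rw [if_neg hc, nn_eq (-(g.1 1 0)⁻¹), ← mul_assoc]

/-- the homomorphism from `SL₂(F)` -/
noncomputable def psiHom : SpecialLinearGroup (Fin 2) F →* G where
  toFun := psi xp xm
  map_one' := R.psi_one
  map_mul' := R.psi_mul

theorem psiHom_U (t : F) : R.psiHom (sU t) = xp t := by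
  have h : R.psiHom (sU t) = psi xp xm (sU t * 1) := by rw [mul_one]; rfl
  rw [h, R.psi_U, R.psi_one, mul_one]

theorem psiHom_L (t : F) : R.psiHom (sL t) = xm t := by
  have h : R.psiHom (sL t) = psi xp xm (sL t) := rfl
  rw [h]
  unfold psi
  by_cases ht : t = 0
  · subst ht
    rw [if_pos (by simp), sL_00, sL_01, zero_div, R.xp_zero, hh_one, mul_one, R.xm_zero]
  · have h10 : ¬ (sL t).1 1 0 = 0 := by simpa using ht
    rw [if_neg h10, sL_00, sL_10, sL_11]
    have e : r1n xp xm (-t⁻¹) = xp (-t⁻¹) * xm t * xp (-t⁻¹) := by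
      unfold r1n
      rw [inv_neg, inv_inv, neg_neg]
    rw [e, ← mul_assoc, ← mul_assoc, R.addp, mul_assoc, R.addp]
    have e1 : 1 / t + -t⁻¹ = 0 := by rw [one_div, add_neg_cancel]
    have e2 : -t⁻¹ + 1 / t = 0 := by rw [one_div, neg_add_cancel]
    rw [e1, e2, R.xp_zero, one_mul, mul_one]

end Rank1Rel

/-! ### Generation of `SL₂(F)` and the sign twist -/

theorem sl_gen_aux (g : SpecialLinearGroup (Fin 2) F) (hc : g.1 1 0 ≠ 0) :
    g ∈ Subgroup.closure (Set.range (sU (F := F)) ∪ Set.range (sL (F := F))) := by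
  have hdet := sl_det g
  have e : g = sU ((g.1 0 0 - 1) / g.1 1 0) * (sL (g.1 1 0) * sU ((g.1 1 1 - 1) / g.1 1 0)) := by
    apply sl_ext
    · rw [sl_mul_apply, sl_mul_apply, sl_mul_apply]
      simp
      field_simp
      ring
    · rw [sl_mul_apply, sl_mul_apply, sl_mul_apply]
      simp
      field_simp
      linear_combination (-1 : F) * hdet
    · rw [sl_mul_apply, sl_mul_apply, sl_mul_apply]
      simp
    · rw [sl_mul_apply, sl_mul_apply, sl_mul_apply]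
      simp
      field_simp
      ring
  rw [e]
  refine Subgroup.mul_mem _ (Subgroup.subset_closure (Or.inl ⟨_, rfl⟩))
    (Subgroup.mul_mem _ (Subgroup.subset_closure (Or.inr ⟨_, rfl⟩))
      (Subgroup.subset_closure (Or.inl ⟨_, rfl⟩)))

theorem sl_gen :
    Subgroup.closure (Set.range (sU (F := F)) ∪ Set.range (sL (F := F))) = ⊤ := by
  rw [eq_top_iff]
  intro g _
  by_cases hc : g.1 1 0 = 0
  · have ha := sl_a_ne g hc
    have h1 : (sL 1 * g).1 1 0 ≠ 0 := by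
      rw [sl_mul_apply]
      simpa [hc] using ha
    have h2 := sl_gen_aux (sL 1 * g) h1
    have h3 : sL (1 : F) ∈ Subgroup.closure (Set.range (sU (F := F)) ∪ Set.range (sL (F := F))) :=
      Subgroup.subset_closure (Or.inr ⟨_, rfl⟩)
    have h4 := Subgroup.mul_mem _ (Subgroup.inv_mem _ h3) h2
    rwa [inv_mul_cancel_left] at h4
  · exact sl_gen_aux g hc

/-- the sign twist of a matrix -/
def tauFun (ε : F) (hε : ε * ε = 1) (g : SpecialLinearGroup (Fin 2) F) :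
    SpecialLinearGroup (Fin 2) F :=
  ⟨!![g.1 0 0, ε * g.1 0 1; ε * g.1 1 0, g.1 1 1], by
    rw [Matrix.det_fin_two_of]
    have h := sl_det g
    linear_combination h - g.1 0 1 * g.1 1 0 * hε⟩

@[simp] theorem tauFun_00 (ε : F) (hε : ε * ε = 1) (g : SpecialLinearGroup (Fin 2) F) :
    (tauFun ε hε g).1 0 0 = g.1 0 0 := rfl
@[simp] theorem tauFun_01 (ε : F) (hε : ε * ε = 1) (g : SpecialLinearGroup (Fin 2) F) :
    (tauFun ε hε g).1 0 1 = ε * g.1 0 1 := rfl
@[simp] theorem tauFun_10 (ε : F) (hε : ε * ε = 1) (g : SpecialLinearGroup (Fin 2) F) :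
    (tauFun ε hε g).1 1 0 = ε * g.1 1 0 := rfl
@[simp] theorem tauFun_11 (ε : F) (hε : ε * ε = 1) (g : SpecialLinearGroup (Fin 2) F) :
    (tauFun ε hε g).1 1 1 = g.1 1 1 := rfl

/-- the sign twist automorphism of `SL₂(F)` -/
def tau (ε : F) (hε : ε * ε = 1) : SpecialLinearGroup (Fin 2) F →* SpecialLinearGroup (Fin 2) F where
  toFun := tauFun ε hε
  map_one' := by
    apply sl_ext <;> simp
  map_mul' g g' := by
    apply sl_ext
    · simp only [tauFun_00, tauFun_01, tauFun_10, tauFun_11, sl_mul_apply]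
      linear_combination (-(g.1 0 1 * g'.1 1 0)) * hε
    · simp only [tauFun_00, tauFun_01, tauFun_10, tauFun_11, sl_mul_apply]
      ring
    · simp only [tauFun_00, tauFun_01, tauFun_10, tauFun_11, sl_mul_apply]
      ring
    · simp only [tauFun_00, tauFun_01, tauFun_10, tauFun_11, sl_mul_apply]
      linear_combination (-(g.1 1 0 * g'.1 0 1)) * hε

theorem tau_apply (ε : F) (hε : ε * ε = 1) (g : SpecialLinearGroup (Fin 2) F) :
    tau ε hε g = tauFun ε hε g := rfl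

theorem tau_U (ε : F) (hε : ε * ε = 1) (t : F) : tau ε hε (sU t) = sU (ε * t) := by
  rw [tau_apply]
  apply sl_ext <;> simp

theorem tau_L (ε : F) (hε : ε * ε = 1) (t : F) : tau ε hε (sL t) = sL (ε * t) := by
  rw [tau_apply]
  apply sl_ext <;> simp

/-- the range of a homomorphism from `SL₂(F)` -/
theorem range_eq {G : Type*} [Group G] (φ : SpecialLinearGroup (Fin 2) F →* G) :
    φ.range = Subgroup.closure (Set.range (fun t => φ (sU t)) ∪ Set.range (fun t => φ (sL t))) := by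
  rw [MonoidHom.range_eq_map, ← sl_gen, MonoidHom.map_closure]
  congr 1
  rw [Set.image_union]
  congr 1
  · ext x
    simp
  · ext x
    simp

end Cfsg.Agent.helper5.SL2
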