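import Mathlib
import Cfsg.Agent.Lib_helper5_SL2Hom

set_option autoImplicit false
set_option linter.style.haveILetI false

/-! Moebius action of `SL(2,K)` on `Option K` (the projective line), kernel = centre. -/

namespace Cfsg.Agent.helper20.L27

open Matrix

set_option linter.unusedSectionVars false

variable {K : Type*} [Field K] [DecidableEq K]

/-- the point of the projective line `Option K` represented by a vector -/
def pt (v : Fin 2 → K) : Option K := if v 1 = 0 then none else some (v 0 / v 1)

/-- standard representative of a point -/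
def vec : Option K → (Fin 2 → K)
  | none => ![1, 0]
  | some x => ![x, 1]

theorem pt_vec (x : Option K) : pt (vec x) = x := by
  cases x with
  | none => simp [pt, vec]
  | some x => simp [pt, vec]

theorem vec_ne_zero (x : Option K) : vec x ≠ 0 := by
  cases x with
  | none =>
    intro h
    have := congrFun h 0
    simp [vec] at this
  | some x =>
    intro h
    have := congrFun h 1
    simp [vec] at this

theorem pt_smul (c : K) (hc : c ≠ 0) (v : Fin 2 → K) : pt (c • v) = pt v := by
  unfold pt
  simp only [Pi.smul_apply, smul_eq_mul]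
  by_cases h : v 1 = 0
  · simp [h]
  · rw [if_neg (mul_ne_zero hc h), if_neg h, mul_div_mul_left _ _ hc]

theorem exists_smul_vec_pt (v : Fin 2 → K) (hv : v ≠ 0) :
    ∃ c : K, c ≠ 0 ∧ v = c • vec (pt v) := by
  by_cases h : v 1 = 0
  · have h0 : v 0 ≠ 0 := by
      intro h0
      apply hv
      funext i
      fin_cases i
      · exact h0
      · exact h
    refine ⟨v 0, h0, ?_⟩
    funext i
    fin_cases i
    · simp [pt, vec, h]
    · simp [pt, vec, h]
  · refine ⟨v 1, h, ?_⟩
    funext i
    fin_cases i
    · simp [pt, vec, h]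
      field_simp
    · simp [pt, vec, h]

/-- Moebius action of a matrix on the projective line -/
def mob (A : Matrix (Fin 2) (Fin 2) K) (x : Option K) : Option K := pt (A *ᵥ vec x)

theorem mob_one (x : Option K) : mob (1 : Matrix (Fin 2) (Fin 2) K) x = x := by
  unfold mob
  rw [Matrix.one_mulVec, pt_vec]

theorem mob_mul (A B : Matrix (Fin 2) (Fin 2) K) (hB : B.det ≠ 0) (x : Option K) :
    mob (A * B) x = mob A (mob B x) := by
  unfold mob
  have hne : B *ᵥ vec x ≠ 0 := by
    intro h0
    apply vec_ne_zero x
    have hu : IsUnit B.det := isUnit_iff_ne_zero.mpr hB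
    have := congrArg (fun w => B⁻¹ *ᵥ w) h0
    simp only [Matrix.mulVec_mulVec, Matrix.mulVec_zero] at this
    rwa [Matrix.nonsing_inv_mul _ hu, Matrix.one_mulVec] at this
  obtain ⟨c, hc, hv⟩ := exists_smul_vec_pt (B *ᵥ vec x) hne
  rw [← Matrix.mulVec_mulVec]
  conv_lhs => rw [hv]
  rw [Matrix.mulVec_smul, pt_smul c hc]

theorem sl_det_ne_zero (A : Matrix.SpecialLinearGroup (Fin 2) K) :
    (A : Matrix (Fin 2) (Fin 2) K).det ≠ 0 := by
  rw [A.det_coe]
  exact one_ne_zero

/-- the Moebius action as a homomorphism `SL(2,K) → Perm (Option K)` -/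
def mobHom : Matrix.SpecialLinearGroup (Fin 2) K →* Equiv.Perm (Option K) where
  toFun A :=
    { toFun := mob (A : Matrix (Fin 2) (Fin 2) K)
      invFun := mob ((A⁻¹ : Matrix.SpecialLinearGroup (Fin 2) K) : Matrix (Fin 2) (Fin 2) K)
      left_inv := by
        intro x
        rw [← mob_mul _ _ (sl_det_ne_zero A), ← Matrix.SpecialLinearGroup.coe_mul, inv_mul_cancel]
        exact mob_one x
      right_inv := by
        intro x
        rw [← mob_mul _ _ (sl_det_ne_zero A⁻¹), ← Matrix.SpecialLinearGroup.coe_mul, mul_inv_cancel]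
        exact mob_one x }
  map_one' := by
    ext x : 1
    exact mob_one x
  map_mul' A B := by
    ext x : 1
    exact mob_mul _ _ (sl_det_ne_zero B) x

theorem mobHom_apply (A : Matrix.SpecialLinearGroup (Fin 2) K) (x : Option K) :
    mobHom A x = mob (A : Matrix (Fin 2) (Fin 2) K) x := rfl

theorem mob_none (A : Matrix (Fin 2) (Fin 2) K) :
    mob A none = if A 1 0 = 0 then none else some (A 0 0 / A 1 0) := by
  simp [mob, pt, vec, Matrix.mulVec, dotProduct, Fin.sum_univ_two]

theorem mob_some (A : Matrix (Fin 2) (Fin 2) K) (x : K) :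
    mob A (some x) = if A 1 0 * x + A 1 1 = 0 then none
      else some ((A 0 0 * x + A 0 1) / (A 1 0 * x + A 1 1)) := by
  simp [mob, pt, vec, Matrix.mulVec, dotProduct, Fin.sum_univ_two]

theorem mobHom_ker :
    (mobHom (K := K)).ker = Subgroup.center (Matrix.SpecialLinearGroup (Fin 2) K) := by
  ext A
  rw [MonoidHom.mem_ker, Matrix.SpecialLinearGroup.mem_center_iff]
  constructor
  · intro h
    have h1 : mob (A : Matrix (Fin 2) (Fin 2) K) none = none := by
      rw [← mobHom_apply, h]; rfl
    have h2 : mob (A : Matrix (Fin 2) (Fin 2) K) (some 0) = some 0 := by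
      rw [← mobHom_apply, h]; rfl
    have h3 : mob (A : Matrix (Fin 2) (Fin 2) K) (some 1) = some 1 := by
      rw [← mobHom_apply, h]; rfl
    rw [mob_none] at h1
    rw [mob_some] at h2 h3
    have e10 : A.1 1 0 = 0 := by
      by_contra hne
      rw [if_neg hne] at h1
      exact Option.some_ne_none _ h1
    rw [e10] at h2 h3
    simp only [zero_add, mul_zero, mul_one] at h2 h3
    have e11 : A.1 1 1 ≠ 0 := by
      intro h0
      rw [if_pos h0] at h2
      exact Option.some_ne_none _ h2.symm
    rw [if_neg e11] at h2 h3
    have e01 : A.1 0 1 = 0 := by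
      have := Option.some_injective _ h2
      rcases div_eq_zero_iff.mp this with h | h
      · exact h
      · exact absurd h e11
    have e00 : A.1 0 0 = A.1 1 1 := by
      have := Option.some_injective _ h3
      rw [e01, add_zero, div_eq_one_iff_eq e11] at this
      exact this
    refine ⟨A.1 1 1, ?_, ?_⟩
    · have hdet := A.2
      rw [Matrix.det_fin_two, e10, e01, e00] at hdet
      simp only [Fintype.card_fin]
      rw [sq]
      simpa using hdet
    · ext i j
      fin_cases i <;> fin_cases j <;> simp [e10, e01, e00]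
  · rintro ⟨r, hr, hA⟩
    have hr0 : r ≠ 0 := by
      intro h0
      rw [h0] at hr
      simp at hr
    ext x : 1
    rw [mobHom_apply]
    show mob (A : Matrix (Fin 2) (Fin 2) K) x = x
    unfold mob
    rw [← hA]
    have : (Matrix.scalar (Fin 2) r) *ᵥ vec x = r • vec x := by
      funext i
      simp [Matrix.mulVec, dotProduct, Matrix.scalar, Matrix.diagonal_apply]
    rw [this, pt_smul r hr0, pt_vec]

end Cfsg.Agent.helper20.L27
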