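import Mathlib

set_option autoImplicit false
set_option linter.style.haveILetI false

/-! Combinatorial core for "simple of order 168 is PSL(2,7)": a simple transitive subgroup of
order 168 of `Perm (Option (ZMod 7))` containing `x ↦ x+1` contains `x ↦ -1/x`. -/

namespace Cfsg.Agent.helper20.L27

open MulAction

abbrev Om := Option (ZMod 7)

/-- affine permutation `x ↦ a x + b` of the projective line over `ZMod 7`, fixing `∞` -/
def affP (a a' b : ZMod 7) (h : a' * a = 1) : Equiv.Perm Om where
  toFun := Option.map (fun x => a * x + b)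
  invFun := Option.map (fun x => a' * (x - b))
  left_inv := by
    intro x
    cases x with
    | none => rfl
    | some x =>
      simp only [Option.map_some]
      congr 1
      linear_combination x * h
  right_inv := by
    intro x
    cases x with
    | none => rfl
    | some x =>
      simp only [Option.map_some]
      congr 1
      have h' : a * a' = 1 := by rw [mul_comm]; exact h
      linear_combination (x - b) * h'

def T7 : Equiv.Perm Om := affP 1 1 1 (by decide)
def q7 : Equiv.Perm Om := affP 2 4 0 (by decide)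

def inv7 (x : ZMod 7) : ZMod 7 := x * x * x * x * x

def invF (c : ZMod 7) : Om → Om
  | none => some 0
  | some x => if x = 0 then none else some (c * inv7 x)

theorem invF_invF : ∀ c : ZMod 7, c ≠ 0 → ∀ x : Om, invF c (invF c x) = x := by decide

def invP (c : ZMod 7) (hc : c ≠ 0) : Equiv.Perm Om where
  toFun := invF c
  invFun := invF c
  left_inv := invF_invF c hc
  right_inv := invF_invF c hc

def W7 : Equiv.Perm Om := invP 6 (by decide)

theorem T7_none : T7 none = none := rfl
theorem T7_some (x : ZMod 7) : T7 (some x) = some (x + 1) := by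
  show Option.map (fun x => (1 : ZMod 7) * x + 1) (some x) = _
  simp
theorem q7_none : q7 none = none := rfl
theorem q7_some (x : ZMod 7) : q7 (some x) = some (2 * x) := by
  show Option.map (fun x => (2 : ZMod 7) * x + 0) (some x) = _
  simp

theorem T7_pow_none (n : ℕ) : (T7 ^ n) none = none := by
  induction n with
  | zero => rfl
  | succ n ih => rw [pow_succ, Equiv.Perm.mul_apply, T7_none, ih]

theorem T7_pow_some (n : ℕ) (x : ZMod 7) : (T7 ^ n) (some x) = some (x + n) := by
  induction n generalizing x with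
  | zero => simp
  | succ n ih =>
    rw [pow_succ, Equiv.Perm.mul_apply, T7_some, ih]
    congr 1
    push_cast
    ring

theorem q7_cube : q7 * q7 * q7 = 1 := by decide
theorem q7_ne_one : q7 ≠ 1 := by decide
theorem T7_pow_seven : T7 ^ 7 = 1 := by decide
theorem T7_ne_one : T7 ≠ 1 := by decide

theorem orderOf_T7 : orderOf T7 = 7 :=
  haveI : Fact (Nat.Prime 7) := ⟨by norm_num⟩
  orderOf_eq_prime T7_pow_seven T7_ne_one

theorem orderOf_q7 : orderOf q7 = 3 :=
  haveI : Fact (Nat.Prime 3) := ⟨by norm_num⟩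
  orderOf_eq_prime (by rw [pow_succ, pow_two]; exact q7_cube) q7_ne_one

theorem card_Om : Nat.card Om = 8 := by
  rw [Nat.card_eq_fintype_card]; decide

section core

variable (H : Subgroup (Equiv.Perm Om)) (hcard : Nat.card H = 168)
  (htr : ∀ x y : Om, ∃ h ∈ H, h x = y) (hT : T7 ∈ H)

include hcard htr in
theorem card_stab (x : Om) : Nat.card (stabilizer H x) = 21 := by
  have h1 := Subgroup.card_mul_index (stabilizer H x)
  rw [index_stabilizer, hcard] at h1
  have h2 : orbit H x = Set.univ := by
    ext y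
    simp only [Set.mem_univ, iff_true]
    obtain ⟨h, hh, hxy⟩ := htr x y
    exact ⟨⟨h, hh⟩, hxy⟩
  rw [h2, Set.ncard_univ, card_Om] at h1
  omega

include hcard htr in
theorem fix_pow (h : Equiv.Perm Om) (hh : h ∈ H) (x : Om) (hx : h x = x) : h ^ 21 = 1 := by
  let h' : stabilizer H x := ⟨⟨h, hh⟩, hx⟩
  have h1 : h' ^ 21 = 1 := by
    rw [← card_stab H hcard htr x]
    exact pow_card_eq_one'
  have h2 := congrArg (fun z : stabilizer H x => ((z : H) : Equiv.Perm Om)) h1
  simpa using h2

include hcard htr hT in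
theorem card_stab2 : Nat.card (stabilizer H ((none, some 0) : Om × Om)) = 3 := by
  have h1 := Subgroup.card_mul_index (stabilizer H ((none, some 0) : Om × Om))
  rw [index_stabilizer, hcard] at h1
  have h2 : orbit H ((none, some 0) : Om × Om) =
      ↑(Finset.univ.filter (fun p : Om × Om => p.1 ≠ p.2)) := by
    ext ⟨x, y⟩
    simp only [Finset.coe_filter, Finset.mem_univ, true_and, Set.mem_ofPred_eq]
    constructor
    · rintro ⟨h, hxy⟩
      have e1 : h.1 none = x := congrArg Prod.fst hxy
      have e2 : h.1 (some 0) = y := congrArg Prod.snd hxy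
      intro hxy'
      rw [← e1, ← e2] at hxy'
      exact Option.some_ne_none _ (h.1.injective hxy').symm
    · intro hxy
      obtain ⟨g, hg, hgx⟩ := htr none x
      have hne : g⁻¹ y ≠ none := by
        intro h0
        apply hxy
        rw [← hgx, ← h0]
        simp
      obtain ⟨b, hb⟩ := Option.ne_none_iff_exists'.mp hne
      refine ⟨⟨g * T7 ^ b.val, H.mul_mem hg (H.pow_mem hT _)⟩, ?_⟩
      show ((g * T7 ^ b.val) none, (g * T7 ^ b.val) (some 0)) = (x, y)
      rw [Equiv.Perm.mul_apply, Equiv.Perm.mul_apply, T7_pow_none, T7_pow_some, hgx,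
        ZMod.natCast_zmod_val, zero_add, ← hb]
      simp
  rw [h2, Set.ncard_coe_finset] at h1
  have h3 : (Finset.univ.filter (fun p : Om × Om => p.1 ≠ p.2)).card = 56 := by decide
  rw [h3] at h1
  omega

include hcard htr hT in
theorem conj_T7 (s : Equiv.Perm Om) (hs : s ∈ H) (hs0 : s none = none) :
    ∃ n : ℕ, s * T7 * s⁻¹ = T7 ^ n := by
  let S : Subgroup H := stabilizer H (none : Om)
  have hS : Nat.card S = 21 := card_stab H hcard htr none
  let Tt : H := ⟨T7, hT⟩
  have hTt : Tt ∈ S := T7_none
  let Z : Subgroup H := Subgroup.zpowers Tt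
  have hZS : Z ≤ S := by
    rw [Subgroup.zpowers_le]; exact hTt
  have hZ : Nat.card Z = 7 := by
    rw [Nat.card_zpowers, ← Subgroup.orderOf_coe]
    exact orderOf_T7
  have hidx : (Z.subgroupOf S).index = 3 := by
    have h1 := Subgroup.card_mul_index (Z.subgroupOf S)
    rw [Nat.card_congr (Subgroup.subgroupOfEquivOfLe hZS).toEquiv, hZ, hS] at h1
    omega
  have hnorm : (Z.subgroupOf S).Normal := by
    apply Subgroup.normal_of_index_eq_minFac_card
    rw [hidx, hS]
    norm_num
  rw [Subgroup.normal_subgroupOf_iff_le_normalizer hZS] at hnorm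
  have hs' : (⟨s, hs⟩ : H) ∈ S := hs0
  have h2 := hnorm hs'
  rw [Subgroup.mem_normalizer_iff] at h2
  have h3 := (h2 Tt).mp (Subgroup.mem_zpowers Tt)
  rw [← mem_powers_iff_mem_zpowers] at h3
  obtain ⟨n, hn⟩ := h3
  refine ⟨n, ?_⟩
  have h4 := congrArg (fun z : H => (z : Equiv.Perm Om)) hn
  simp only [Subgroup.coe_pow, Subgroup.coe_mul, Subgroup.coe_inv] at h4
  exact h4.symm

theorem lin_of_conj (r : Equiv.Perm Om) (h0 : r (some 0) = some 0) (n : ℕ)
    (hn : r * T7 * r⁻¹ = T7 ^ n) (x : ZMod 7) : r (some x) = some ((n : ZMod 7) * x) := by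
  have hstep : ∀ y, r (T7 y) = (T7 ^ n) (r y) := by
    intro y
    have : r * T7 = T7 ^ n * r := by rw [← hn]; group
    exact DFunLike.congr_fun this y
  have key : ∀ m : ℕ, r (some (m : ZMod 7)) = some ((n : ZMod 7) * m) := by
    intro m
    induction m with
    | zero => simpa using h0
    | succ m ih =>
      have : some (((m + 1 : ℕ) : ZMod 7)) = T7 (some (m : ZMod 7)) := by
        rw [T7_some]; push_cast; rfl
      rw [this, hstep, ih, T7_pow_some]
      congr 1
      push_cast
      ring
  have := key x.val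
  rwa [ZMod.natCast_zmod_val] at this

theorem kappa_cases : ∀ κ : ZMod 7, κ * (κ * (κ * 1)) = 1 → κ ≠ 1 → κ = 2 ∨ κ = 4 := by decide

include hcard htr hT in
theorem q7_mem : q7 ∈ H := by
  let D : Subgroup H := stabilizer H ((none, some 0) : Om × Om)
  have hD : Nat.card D = 3 := card_stab2 H hcard htr hT
  have hnt : Nontrivial D := by
    rw [← Finite.one_lt_card_iff_nontrivial, hD]; norm_num
  obtain ⟨r', hr'⟩ := exists_ne (1 : D)
  let r : Equiv.Perm Om := ((r' : H) : Equiv.Perm Om)
  have hrH : r ∈ H := (r' : H).2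
  have hfix : (r none, r (some 0)) = ((none, some 0) : Om × Om) := r'.2
  have hr0 : r none = none := congrArg Prod.fst hfix
  have hr1 : r (some 0) = some 0 := congrArg Prod.snd hfix
  have hr3 : r ^ 3 = 1 := by
    have h1 : r' ^ 3 = 1 := by
      rw [← hD]; exact pow_card_eq_one'
    have h2 := congrArg (fun z : D => ((z : H) : Equiv.Perm Om)) h1
    simpa using h2
  have hrne : r ≠ 1 := by
    intro h1
    apply hr'
    apply Subtype.ext
    apply Subtype.ext
    exact h1
  obtain ⟨n, hn⟩ := conj_T7 H hcard htr hT r hrH hr0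
  have hlin := lin_of_conj r hr1 n hn
  have hk3 : (n : ZMod 7) * ((n : ZMod 7) * ((n : ZMod 7) * 1)) = 1 := by
    have h1 : (r ^ 3) (some 1) = some 1 := by rw [hr3]; rfl
    rw [pow_succ, pow_two, Equiv.Perm.mul_apply, Equiv.Perm.mul_apply, hlin, hlin, hlin] at h1
    exact Option.some_injective _ h1
  have hk1 : (n : ZMod 7) ≠ 1 := by
    intro h1
    apply hrne
    ext x : 1
    cases x with
    | none => exact hr0
    | some x => rw [hlin, h1, one_mul]; rfl
  rcases kappa_cases _ hk3 hk1 with h2 | h4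
  · have : r = q7 := by
      ext x : 1
      cases x with
      | none => exact hr0
      | some x => rw [hlin, h2, q7_some]
    rw [← this]; exact hrH
  · have : r * r = q7 := by
      ext x : 1
      cases x with
      | none => rw [Equiv.Perm.mul_apply, hr0, hr0]; rfl
      | some x =>
        rw [Equiv.Perm.mul_apply, hlin, hlin, h4, q7_some, ← mul_assoc]
        have : (4 : ZMod 7) * 4 = 2 := by decide
        rw [this]
    rw [← this]; exact H.mul_mem hrH hrH

include hcard htr hT in
theorem stab2_elems (h : Equiv.Perm Om) (hh : h ∈ H) (h0 : h none = none)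
    (h1 : h (some 0) = some 0) : h = 1 ∨ h = q7 ∨ h = q7 * q7 := by
  let D : Subgroup H := stabilizer H ((none, some 0) : Om × Om)
  have hD : Nat.card D = 3 := card_stab2 H hcard htr hT
  have hq := q7_mem H hcard htr hT
  let qq : D := ⟨⟨q7, hq⟩, rfl⟩
  have hoq : orderOf qq = 3 := by
    rw [← Subgroup.orderOf_coe, ← Subgroup.orderOf_coe]
    exact orderOf_q7
  have htop : Subgroup.zpowers qq = ⊤ := by
    apply Subgroup.eq_top_of_card_eq
    rw [Nat.card_zpowers, hoq, hD]
  let h' : D := ⟨⟨h, hh⟩, by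
    show (h none, h (some 0)) = ((none, some 0) : Om × Om)
    rw [h0, h1]⟩
  have hm : h' ∈ Subgroup.zpowers qq := by rw [htop]; trivial
  rw [← mem_powers_iff_mem_zpowers] at hm
  obtain ⟨k, hk⟩ := hm
  have hk' : q7 ^ k = h := by
    have := congrArg (fun z : D => ((z : H) : Equiv.Perm Om)) hk
    simpa using this
  have hq3 : q7 ^ 3 = 1 := by rw [pow_succ, pow_two]; exact q7_cube
  rw [pow_eq_pow_mod k hq3] at hk'
  have hlt : k % 3 < 3 := Nat.mod_lt _ (by norm_num)
  interval_cases (k % 3)
  · left; rw [← hk']; rfl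
  · right; left; rw [← hk', pow_one]
  · right; right; rw [← hk', pow_two]

end core

/-- Burnside's transfer theorem applied to a simple group. -/
theorem not_normalizer_le_centralizer {Γ : Type*} [Group Γ] [Finite Γ] [IsSimpleGroup Γ]
    {p : ℕ} [Fact p.Prime] (P : Sylow p Γ) (h1 : 1 < Nat.card P) (h2 : Nat.card P < Nat.card Γ) :
    ¬ Subgroup.normalizer (P : Set Γ) ≤ Subgroup.centralizer (P : Set Γ) := by
  intro hP
  have hc := MonoidHom.ker_transferSylow_isComplement' P hP
  have hmul := hc.card_mul_card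
  rcases (MonoidHom.normal_ker (MonoidHom.transferSylow P hP)).eq_bot_or_eq_top with h | h
  · rw [h, Subgroup.card_bot, one_mul] at hmul
    omega
  · rw [h, Subgroup.card_top] at hmul
    have hpos : 0 < Nat.card Γ := Nat.card_pos
    have : Nat.card Γ * Nat.card P = Nat.card Γ * 1 := by rw [hmul, mul_one]
    have := Nat.eq_of_mul_eq_mul_left hpos this
    omega

theorem fix_q7sq : ∀ x : Om, q7 (q7 x) = x → x = none ∨ x = some 0 := by decide

theorem cover3 : ∀ x : Om, x = none ∨ x = some 0 ∨ x = some 1 ∨ x = q7 (some 1) ∨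
    x = q7 (q7 (some 1)) ∨ x = some 3 ∨ x = q7 (some 3) ∨ x = q7 (q7 (some 3)) := by decide
theorem cover5 : ∀ x : Om, x = none ∨ x = some 0 ∨ x = some 1 ∨ x = q7 (some 1) ∨
    x = q7 (q7 (some 1)) ∨ x = some 5 ∨ x = q7 (some 5) ∨ x = q7 (q7 (some 5)) := by decide
theorem cover6 : ∀ x : Om, x = none ∨ x = some 0 ∨ x = some 1 ∨ x = q7 (some 1) ∨
    x = q7 (q7 (some 1)) ∨ x = some 6 ∨ x = q7 (some 6) ∨ x = q7 (q7 (some 6)) := by decide

theorem agree (u v : Equiv.Perm Om) (hu : ∀ x, u (q7 x) = q7 (q7 (u x)))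
    (hv : ∀ x, v (q7 x) = q7 (q7 (v x))) (hui : ∀ x, u (u x) = x) (hvi : ∀ x, v (v x) = x)
    (h0 : u none = v none) (h1 : u (some 0) = v (some 0)) (h2 : u (some 1) = v (some 1))
    (c : ZMod 7) (hvc : v (some 1) = some c)
    (hcov : ∀ x : Om, x = none ∨ x = some 0 ∨ x = some 1 ∨ x = q7 (some 1) ∨
      x = q7 (q7 (some 1)) ∨ x = some c ∨ x = q7 (some c) ∨ x = q7 (q7 (some c))) : u = v := by
  have step : ∀ x, u x = v x → u (q7 x) = v (q7 x) := by
    intro x hx
    rw [hu, hv, hx]
  have hc : u (some c) = v (some c) := by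
    rw [← hvc]
    conv_lhs => rw [← h2]
    rw [hui, hvi]
  ext x : 1
  rcases hcov x with rfl | rfl | rfl | rfl | rfl | rfl | rfl | rfl
  · exact h0
  · exact h1
  · exact h2
  · exact step _ h2
  · exact step _ (step _ h2)
  · exact hc
  · exact step _ hc
  · exact step _ (step _ hc)

theorem invP_rel : ∀ c : ZMod 7, ∀ hc : c ≠ 0, ∀ x : Om,
    invP c hc (q7 x) = q7 (q7 (invP c hc x)) := by decide

theorem W7_of_3 : q7 * q7 * invP 3 (by decide) * (q7 * q7)⁻¹ = W7 := by decide
theorem W7_of_5 : q7 * invP 5 (by decide) * q7⁻¹ = W7 := by decide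

theorem c_cases : ∀ c : ZMod 7, c = 0 ∨ c = 1 ∨ c = 2 ∨ c = 3 ∨ c = 4 ∨ c = 5 ∨ c = 6 := by decide

section main

variable (H : Subgroup (Equiv.Perm Om)) (hcard : Nat.card H = 168)
  (htr : ∀ x y : Om, ∃ h ∈ H, h x = y) (hT : T7 ∈ H)

include hcard htr hT in
/-- an involution of `H` swapping `∞` and `0` and inverting `q7` yields `W7 ∈ H` -/
theorem W7_mem_of_inverting (u : Equiv.Perm Om) (huH : u ∈ H) (huu : u * u = 1)
    (hu0 : u none = some 0) (hu1 : u (some 0) = none)
    (hrel : ∀ x, u (q7 x) = q7 (q7 (u x))) : W7 ∈ H := by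
  have hq := q7_mem H hcard htr hT
  have hui : ∀ x, u (u x) = x := by
    intro x
    have := DFunLike.congr_fun huu x
    simpa using this
  have hfpf : ∀ x, u x ≠ x := by
    intro x hx
    have h21 := fix_pow H hcard htr u huH x hx
    have h2 : u ^ 21 = u := by
      have : u ^ 21 = (u * u) ^ 10 * u := by
        rw [← pow_two, ← pow_mul, ← pow_succ]
      rw [this, huu, one_pow, one_mul]
    rw [h2] at h21
    rw [h21] at hu0
    exact Option.some_ne_none _ hu0.symm
  have hne : u (some 1) ≠ none := by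
    intro h
    rw [← hu1] at h
    have := u.injective h
    revert this
    decide
  obtain ⟨c, hc⟩ := Option.ne_none_iff_exists'.mp hne
  have key : ∀ (c : ZMod 7) (hc0 : c ≠ 0), u (some 1) = some c →
      (∀ x : Om, x = none ∨ x = some 0 ∨ x = some 1 ∨ x = q7 (some 1) ∨
      x = q7 (q7 (some 1)) ∨ x = some c ∨ x = q7 (some c) ∨ x = q7 (q7 (some c))) →
      u = invP c hc0 := by
    intro c hc0 huc hcov
    refine agree u (invP c hc0) hrel (invP_rel c hc0) hui (invF_invF c hc0) ?_ ?_ ?_ c ?_ hcov
    · rw [hu0]; rfl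
    · rw [hu1]; rfl
    · rw [huc]
      show some c = invF c (some 1)
      have h10 : (1 : ZMod 7) ≠ 0 := by decide
      simp [invF, inv7, h10]
    · show invF c (some 1) = some c
      have h10 : (1 : ZMod 7) ≠ 0 := by decide
      simp [invF, inv7, h10]
  rcases c_cases c with rfl | rfl | rfl | rfl | rfl | rfl | rfl
  · exfalso
    rw [← hu0] at hc
    have := u.injective hc
    exact Option.some_ne_none _ this
  · exact absurd hc (hfpf _)
  · exfalso
    have h2 : u (some 2) = some 1 := by
      have := hrel (some 1)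
      rw [hc] at this
      have e1 : q7 (some (1 : ZMod 7)) = some 2 := by decide
      have e2 : q7 (q7 (some (2 : ZMod 7))) = some 1 := by decide
      rw [e1, e2] at this
      exact this
    have h4 : u (some 4) = some 4 := by
      have := hrel (some 2)
      rw [h2] at this
      have e1 : q7 (some (2 : ZMod 7)) = some 4 := by decide
      have e2 : q7 (q7 (some (1 : ZMod 7))) = some 4 := by decide
      rw [e1, e2] at this
      exact this
    exact hfpf _ h4
  · have := key 3 (by decide) hc cover3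
    rw [← W7_of_3, ← this]
    exact H.mul_mem (H.mul_mem (H.mul_mem hq hq) huH) (H.inv_mem (H.mul_mem hq hq))
  · exfalso
    have h2 : u (some 2) = some 2 := by
      have := hrel (some 1)
      rw [hc] at this
      have e1 : q7 (some (1 : ZMod 7)) = some 2 := by decide
      have e2 : q7 (q7 (some (4 : ZMod 7))) = some 2 := by decide
      rw [e1, e2] at this
      exact this
    exact hfpf _ h2
  · have := key 5 (by decide) hc cover5
    rw [← W7_of_5, ← this]
    exact H.mul_mem (H.mul_mem hq huH) (H.inv_mem hq)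
  · have := key 6 (by decide) hc cover6
    rw [show W7 = invP 6 (by decide) from rfl, ← this]
    exact huH

end main

theorem q7_pow4 : q7 * q7 * (q7 * q7) = q7 := by decide
theorem q7sq_ne : q7 ≠ q7 * q7 := by decide

section main2

variable (H : Subgroup (Equiv.Perm Om)) (hcard : Nat.card H = 168)
  (htr : ∀ x y : Om, ∃ h ∈ H, h x = y) (hT : T7 ∈ H)

include hcard htr hT in
theorem W7_mem [IsSimpleGroup H] : W7 ∈ H := by
  have hq := q7_mem H hcard htr hT
  let D : Subgroup H := stabilizer H ((none, some 0) : Om × Om)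
  have hD : Nat.card D = 3 := card_stab2 H hcard htr hT
  haveI : Fact (Nat.Prime 3) := ⟨by norm_num⟩
  haveI : Finite H := Nat.finite_of_card_ne_zero (by rw [hcard]; norm_num)
  have hfac : (168 : ℕ).factorization 3 = 1 := by decide +kernel
  let P : Sylow 3 H := Sylow.ofCard D (by rw [hD, hcard, hfac, pow_one])
  have hPD : (P : Subgroup H) = D := Sylow.coe_ofCard _ _
  have hnot := not_normalizer_le_centralizer P (by rw [hPD, hD]; norm_num)
    (by rw [hPD, hD, hcard]; norm_num)
  rw [SetLike.not_le_iff_exists] at hnot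
  obtain ⟨n, hnN, hnC⟩ := hnot
  rw [Subgroup.mem_set_normalizer_iff] at hnN
  rw [Subgroup.mem_centralizer_iff] at hnC
  have hN : ∀ d : H, d ∈ D ↔ n * d * n⁻¹ ∈ D := fun d => hnN d
  have hC : ¬ ∀ d ∈ D, d * n = n * d := hnC
  clear hnN hnC
  -- elements of D
  have hDel : ∀ d : H, d ∈ D → (d : Equiv.Perm Om) = 1 ∨ (d : Equiv.Perm Om) = q7 ∨
      (d : Equiv.Perm Om) = q7 * q7 := by
    intro d hd
    have hfix : ((d : Equiv.Perm Om) none, (d : Equiv.Perm Om) (some 0)) =
        ((none, some 0) : Om × Om) := hd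
    exact stab2_elems H hcard htr hT d d.2 (congrArg Prod.fst hfix) (congrArg Prod.snd hfix)
  let qq : H := ⟨q7, hq⟩
  have hqqD : qq ∈ D := rfl
  have hconj := hDel _ ((hN qq).mp hqqD)
  set ν : Equiv.Perm Om := (n : Equiv.Perm Om) with hν
  have hνH : ν ∈ H := n.2
  have hconj' : ν * q7 * ν⁻¹ = 1 ∨ ν * q7 * ν⁻¹ = q7 ∨ ν * q7 * ν⁻¹ = q7 * q7 := by
    simpa [qq] using hconj
  have hmain : ν * q7 * ν⁻¹ = q7 * q7 := by
    rcases hconj' with h | h | h
    · exfalso
      apply q7_ne_one
      have : q7 = ν⁻¹ * (ν * q7 * ν⁻¹) * ν := by group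
      rw [this, h]; group
    · exfalso
      apply hC
      intro d hd
      have hνq : ν * q7 = q7 * ν := by
        have : ν * q7 = (ν * q7 * ν⁻¹) * ν := by group
        rw [this, h]
      apply Subtype.ext
      show (d : Equiv.Perm Om) * ν = ν * (d : Equiv.Perm Om)
      rcases hDel d hd with e | e | e
      · rw [e, one_mul, mul_one]
      · rw [e, hνq]
      · rw [e, mul_assoc, ← hνq, ← mul_assoc, ← hνq, mul_assoc]
    · exact h
  have hνq : ∀ x, ν (q7 x) = q7 (q7 (ν x)) := by
    intro x
    have : ν * q7 = q7 * q7 * ν := by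
      have : ν * q7 = (ν * q7 * ν⁻¹) * ν := by group
      rw [this, hmain]
    exact DFunLike.congr_fun this x
  have hν0 : ν none = none ∨ ν none = some 0 := by
    apply fix_q7sq
    rw [← hνq]; rfl
  have hν1 : ν (some 0) = none ∨ ν (some 0) = some 0 := by
    apply fix_q7sq
    rw [← hνq]; rfl
  have hswap : ν none = some 0 ∧ ν (some 0) = none := by
    rcases hν0 with h0 | h0
    · exfalso
      have h1 : ν (some 0) = some 0 := by
        rcases hν1 with h1 | h1
        · have h2 : ν (some 0) = ν none := h1.trans h0.symm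
          exact absurd (ν.injective h2) (by decide)
        · exact h1
      have hcomm : ν * q7 = q7 * ν := by
        rcases stab2_elems H hcard htr hT ν hνH h0 h1 with e | e | e
        · rw [e, one_mul, mul_one]
        · rw [e]
        · rw [e, mul_assoc]
      have : ν * q7 * ν⁻¹ = q7 := by rw [hcomm]; group
      rw [this] at hmain
      exact q7sq_ne hmain
    · refine ⟨h0, ?_⟩
      rcases hν1 with h1 | h1
      · exact h1
      · have h2 : ν (some 0) = ν none := h1.trans h0.symm
        exact absurd (ν.injective h2) (by decide)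
  obtain ⟨hs0, hs1⟩ := hswap
  have hsq0 : (ν * ν) none = none := by rw [Equiv.Perm.mul_apply, hs0, hs1]
  have hsq1 : (ν * ν) (some 0) = some 0 := by rw [Equiv.Perm.mul_apply, hs1, hs0]
  have hsq3 : (ν * ν) * (ν * ν) * (ν * ν) = 1 := by
    rcases stab2_elems H hcard htr hT (ν * ν) (H.mul_mem hνH hνH) hsq0 hsq1 with e | e | e
    · rw [e]; simp
    · rw [e]; exact q7_cube
    · rw [e]; decide
  refine W7_mem_of_inverting H hcard htr hT (ν * (ν * ν))
    (H.mul_mem hνH (H.mul_mem hνH hνH)) ?_ ?_ ?_ ?_
  · have : ν * (ν * ν) * (ν * (ν * ν)) = (ν * ν) * (ν * ν) * (ν * ν) := by group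
    rw [this, hsq3]
  · rw [Equiv.Perm.mul_apply, hsq0, hs0]
  · rw [Equiv.Perm.mul_apply, hsq1, hs1]
  · intro x
    have e : ∀ y, q7 (q7 (q7 (q7 y))) = q7 y := by
      intro y
      have := DFunLike.congr_fun q7_pow4 y
      simpa using this
    simp only [Equiv.Perm.mul_apply, hνq, e]

end main2

end Cfsg.Agent.helper20.L27
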