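import Mathlib
import Cfsg.Agent.Lib_helper20_L27A
import Cfsg.Agent.Lib_helper20_L27B
import Cfsg.Agent.Lib_helper12_Klein5

set_option autoImplicit false
set_option linter.style.haveILetI false

/-! From a simple group of order 168 to a subgroup of `Perm (Option (ZMod 7))`, and the
image of `SL(2,7)`. -/

namespace Cfsg.Agent.helper20.L27

open MulAction

theorem cycleType_of_order_seven (σ : Equiv.Perm Om) (h : orderOf σ = 7) :
    σ.cycleType = {7} := by
  have hp : (orderOf σ).Prime := by rw [h]; norm_num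
  obtain ⟨n, hn⟩ := Equiv.Perm.cycleType_prime_order hp
  apply Equiv.Perm.cycleType_of_card_le_mem_cycleType_add_two
  · decide
  · rw [hn, h]
    simp [Multiset.mem_replicate]

theorem exists_perm_subgroup {G : Type*} [Group G] [Finite G] [IsSimpleGroup G]
    (h : Nat.card G = 168) :
    ∃ H : Subgroup (Equiv.Perm Om), Nonempty (G ≃* H) ∧ (∀ x y : Om, ∃ h ∈ H, h x = y) ∧
      T7 ∈ H := by
  haveI : Fact (Nat.Prime 7) := ⟨by norm_num⟩
  let P : Sylow 7 G := default
  have hfac : (168 : ℕ).factorization 7 = 1 := by decide +kernel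
  have hP : Nat.card P = 7 := by
    rw [Sylow.card_eq_multiplicity, h, hfac, pow_one]
  have hidx : (P : Subgroup G).index = 24 := by
    have := Subgroup.card_mul_index (P : Subgroup G)
    rw [hP, h] at this
    omega
  have h1 : Nat.card (Sylow 7 G) ≡ 1 [MOD 7] := card_sylow_modEq_one 7 G
  have h2 : Nat.card (Sylow 7 G) ∣ 24 := by
    rw [← hidx]; exact Sylow.card_dvd_index P
  have hn7 : Nat.card (Sylow 7 G) = 8 := by
    have hle : Nat.card (Sylow 7 G) ≤ 24 := Nat.le_of_dvd (by norm_num) h2
    have hne1 : Nat.card (Sylow 7 G) ≠ 1 := by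
      intro h1'
      haveI : Subsingleton (Sylow 7 G) := (Nat.card_eq_one_iff_unique.mp h1').1
      have hn : (P : Subgroup G).Normal := Sylow.normal_of_subsingleton P
      rcases hn.eq_bot_or_eq_top with hb | ht
      · rw [hb, Subgroup.card_bot] at hP
        omega
      · rw [ht, Subgroup.card_top, h] at hP
        omega
    unfold Nat.ModEq at h1
    generalize Nat.card (Sylow 7 G) = n at *
    interval_cases n <;> omega
  -- the action is faithful
  let α : G →* Equiv.Perm (Sylow 7 G) := MulAction.toPermHom G (Sylow 7 G)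
  have hinj : Function.Injective α := by
    rw [← MonoidHom.ker_eq_bot_iff]
    rcases (MonoidHom.normal_ker α).eq_bot_or_eq_top with hb | ht
    · exact hb
    · exfalso
      haveI : Nontrivial (Sylow 7 G) := by
        rw [← Finite.one_lt_card_iff_nontrivial, hn7]; norm_num
      obtain ⟨Q1, Q2, hQ⟩ := exists_pair_ne (Sylow 7 G)
      obtain ⟨g, hg⟩ := MulAction.exists_smul_eq G Q1 Q2
      have hgk : g ∈ α.ker := by rw [ht]; trivial
      rw [MonoidHom.mem_ker] at hgk
      have := DFunLike.congr_fun hgk Q1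
      apply hQ
      rw [← hg]
      exact this.symm
  obtain ⟨t, ht⟩ := exists_prime_orderOf_dvd_card' (G := G) 7 (by rw [h]; norm_num)
  have hσ : orderOf (α t) = 7 := by rw [orderOf_injective α hinj]; exact ht
  have hcardeq : Nat.card (Sylow 7 G) = Nat.card Om := by rw [hn7, card_Om]
  obtain ⟨e0⟩ := Finite.card_eq.mp hcardeq
  have hσ' : orderOf (e0.permCongrHom (α t)) = 7 := by
    rw [MulEquiv.orderOf_eq]; exact hσ
  have hconj : IsConj (e0.permCongrHom (α t)) T7 := by
    rw [Equiv.Perm.isConj_iff_cycleType_eq, cycleType_of_order_seven _ hσ',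
      cycleType_of_order_seven _ orderOf_T7]
  obtain ⟨c, hc⟩ := isConj_iff.mp hconj
  let γ : G →* Equiv.Perm Om :=
    (MulAut.conj c).toMonoidHom.comp (e0.permCongrHom.toMonoidHom.comp α)
  have hγinj : Function.Injective γ := by
    intro a b hab
    apply hinj
    apply e0.permCongrHom.injective
    exact (MulAut.conj c).injective hab
  have hγ : ∀ (g : G) (x : Om), γ g x = c (e0 (g • e0.symm (c⁻¹ x))) := by
    intro g x
    rfl
  refine ⟨γ.range, ⟨MonoidHom.ofInjective hγinj⟩, ?_, ?_⟩
  · intro x y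
    obtain ⟨g, hg⟩ := MulAction.exists_smul_eq G (e0.symm (c⁻¹ x)) (e0.symm (c⁻¹ y))
    refine ⟨γ g, ⟨g, rfl⟩, ?_⟩
    rw [hγ, hg]
    simp
  · refine ⟨t, ?_⟩
    show c * e0.permCongrHom (α t) * c⁻¹ = T7
    exact hc

theorem fact_prime_seven : Fact (Nat.Prime 7) := ⟨by norm_num⟩

attribute [local instance] fact_prime_seven

/-- translation `x ↦ x + b` -/
def trP (b : ZMod 7) : Equiv.Perm Om := affP 1 1 b (by decide)

theorem trP_eq (b : ZMod 7) : trP b = T7 ^ b.val := by
  ext x : 1
  cases x with
  | none => rw [T7_pow_none]; rfl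
  | some x =>
    rw [T7_pow_some, ZMod.natCast_zmod_val]
    show Option.map (fun x => (1 : ZMod 7) * x + b) (some x) = _
    simp

theorem inv7_mul : ∀ y : ZMod 7, y ≠ 0 → y * inv7 y = 1 := by decide

theorem inv_eq_inv7 (y : ZMod 7) : y⁻¹ = inv7 y := by
  by_cases hy : y = 0
  · subst hy
    simp [inv7]
  · exact inv_eq_of_mul_eq_one_right (inv7_mul y hy)

theorem sL_none : ∀ t : ZMod 7, (W7 * trP (-t) * W7) none =
    if t = 0 then none else some (inv7 t) := by decide

theorem sL_some : ∀ t x : ZMod 7, (W7 * trP (-t) * W7) (some x) =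
    if t * x + 1 = 0 then none else some (x * inv7 (t * x + 1)) := by decide

open Cfsg.Agent.helper5.SL2 in
theorem mobHom_sU (t : ZMod 7) : mobHom (sU t) = trP t := by
  ext x : 1
  rw [mobHom_apply]
  cases x with
  | none =>
    rw [mob_none]
    simp [sU]
    rfl
  | some x =>
    rw [mob_some]
    simp [sU]
    show _ = Option.map (fun x => (1 : ZMod 7) * x + t) (some x)
    simp

open Cfsg.Agent.helper5.SL2 in
theorem mobHom_sL (t : ZMod 7) : mobHom (sL t) = W7 * trP (-t) * W7 := by
  ext x : 1
  rw [mobHom_apply]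
  cases x with
  | none =>
    rw [mob_none, sL_none]
    simp [sL, inv_eq_inv7]
  | some x =>
    rw [mob_some, sL_some]
    simp [sL, div_eq_mul_inv, inv_eq_inv7]

open Cfsg.Agent.helper5.SL2 in
theorem range_mobHom_le (H : Subgroup (Equiv.Perm Om)) (hT : T7 ∈ H) (hW : W7 ∈ H) :
    (mobHom (K := ZMod 7)).range ≤ H := by
  rw [MonoidHom.range_eq_map, Subgroup.map_le_iff_le_comap, ← sl_gen, Subgroup.closure_le]
  rintro A (⟨t, rfl⟩ | ⟨t, rfl⟩)
  · show mobHom (sU t) ∈ H
    rw [mobHom_sU, trP_eq]
    exact H.pow_mem hT _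
  · show mobHom (sL t) ∈ H
    rw [mobHom_sL, trP_eq]
    exact H.mul_mem (H.mul_mem hW (H.pow_mem hT _)) hW

theorem card_range_mobHom : Nat.card (mobHom (K := ZMod 7)).range = 168 := by
  have h1 := Subgroup.card_mul_index (mobHom (K := ZMod 7)).ker
  rw [Subgroup.index_ker, mobHom_ker, Cfsg.Agent.helper12.card_sl2_center (by decide),
    Cfsg.Agent.helper12.card_SL2, ZMod.card] at h1
  omega

/-- a ring isomorphism induces an isomorphism of `SL₂` -/
def slCongr2 {F K : Type*} [Field F] [Field K] (φ : F ≃+* K) :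
    Matrix.SpecialLinearGroup (Fin 2) F ≃* Matrix.SpecialLinearGroup (Fin 2) K where
  toFun := Matrix.SpecialLinearGroup.map φ.toRingHom
  invFun := Matrix.SpecialLinearGroup.map φ.symm.toRingHom
  left_inv A := by
    apply Subtype.ext
    ext i j
    show φ.symm (φ (A.1 i j)) = A.1 i j
    exact φ.symm_apply_apply _
  right_inv A := by
    apply Subtype.ext
    ext i j
    show φ (φ.symm (A.1 i j)) = A.1 i j
    exact φ.apply_symm_apply _
  map_mul' := map_mul _

theorem map_center_of_mulEquiv' {G H : Type*} [Group G] [Group H] (e : G ≃* H) :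
    (Subgroup.center G).map (e : G →* H) = Subgroup.center H := by
  ext x
  rw [Subgroup.mem_map, Subgroup.mem_center_iff]
  constructor
  · rintro ⟨y, hy, rfl⟩ g
    rw [Subgroup.mem_center_iff] at hy
    have := hy (e.symm g)
    have h2 := congrArg e this
    rw [map_mul, map_mul, e.apply_symm_apply] at h2
    exact h2
  · intro h
    refine ⟨e.symm x, ?_, e.apply_symm_apply x⟩
    rw [Subgroup.mem_center_iff]
    intro g
    have := h (e g)
    apply e.injective
    rw [map_mul, map_mul, e.apply_symm_apply]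
    exact this

/-- a ring isomorphism induces an isomorphism of `PSL₂` -/
noncomputable def pslCongr2 {F K : Type*} [Field F] [Field K] (φ : F ≃+* K) :
    Matrix.ProjectiveSpecialLinearGroup (Fin 2) F ≃*
      Matrix.ProjectiveSpecialLinearGroup (Fin 2) K :=
  QuotientGroup.congr _ _ (slCongr2 φ) (map_center_of_mulEquiv' (slCongr2 φ))

/-- A simple group of order 168 is isomorphic to `PSL(2,7)`. -/
theorem simple_168 {G : Type*} [Group G] [Finite G] [IsSimpleGroup G]
    (h : Nat.card G = 168) {F : Type*} [Field F] [Fintype F] (hF : Fintype.card F = 7) :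
    Nonempty (G ≃* Matrix.ProjectiveSpecialLinearGroup (Fin 2) F) := by
  obtain ⟨H, ⟨e⟩, htr, hT⟩ := exists_perm_subgroup h
  have hcard : Nat.card H = 168 := by rw [← Nat.card_congr e.toEquiv, h]
  haveI : IsSimpleGroup H := e.symm.isSimpleGroup
  have hW : W7 ∈ H := W7_mem H hcard htr hT
  have hle := range_mobHom_le H hT hW
  haveI : Finite H := Nat.finite_of_card_ne_zero (by rw [hcard]; norm_num)
  have heq : (mobHom (K := ZMod 7)).range = H := by
    apply Subgroup.eq_of_le_of_card_ge hle
    rw [hcard, card_range_mobHom]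
  have e1 : H ≃* (mobHom (K := ZMod 7)).range := MulEquiv.subgroupCongr heq.symm
  have e2 : Matrix.SpecialLinearGroup (Fin 2) (ZMod 7) ⧸ (mobHom (K := ZMod 7)).ker ≃*
      (mobHom (K := ZMod 7)).range := QuotientGroup.quotientKerEquivRange _
  have e3 : Matrix.SpecialLinearGroup (Fin 2) (ZMod 7) ⧸ (mobHom (K := ZMod 7)).ker ≃*
      Matrix.ProjectiveSpecialLinearGroup (Fin 2) (ZMod 7) :=
    QuotientGroup.quotientMulEquivOfEq mobHom_ker
  have φ : ZMod 7 ≃+* F := FiniteField.ringEquivOfCardEq (by rw [hF, ZMod.card])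
  exact ⟨((e.trans e1).trans e2.symm).trans (e3.trans (pslCongr2 φ))⟩

end Cfsg.Agent.helper20.L27
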