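import Mathlib
import Cfsg.Agent.Lib_helper20_L27B

set_option autoImplicit false
set_option linter.style.haveILetI false
set_option linter.unusedSectionVars false

/-! Generic part of the recognition of `PSL(2,p)` as a permutation group on the projective
line `Option (ZMod p)`. -/

namespace Cfsg.Agent.helper20.L2G

open MulAction

variable {p : ℕ} [hp : Fact p.Prime]

/-- affine permutation `x ↦ a x + b`, fixing `∞ = none` -/
def affP (a a' b : ZMod p) (h : a' * a = 1) : Equiv.Perm (Option (ZMod p)) where
  toFun := Option.map (fun x => a * x + b)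
  invFun := Option.map (fun x => a' * (x - b))
  left_inv := by
    intro x
    cases x with
    | none => rfl
    | some x =>
      simp only [Option.map_some]
      congr 1
      linear_combination x * h
  right_inv := by
    intro x
    cases x with
    | none => rfl
    | some x =>
      simp only [Option.map_some]
      congr 1
      have h' : a * a' = 1 := by rw [mul_comm]; exact h
      linear_combination (x - b) * h'

variable (p) in
/-- translation `x ↦ x + 1` -/
def Tp : Equiv.Perm (Option (ZMod p)) := affP 1 1 1 (mul_one 1)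

/-- multiplication `x ↦ a x` -/
def mulP (a a' : ZMod p) (h : a' * a = 1) : Equiv.Perm (Option (ZMod p)) := affP a a' 0 h

theorem Tp_none : Tp p none = none := rfl
theorem Tp_some (x : ZMod p) : Tp p (some x) = some (x + 1) := by
  show Option.map (fun x => (1 : ZMod p) * x + 1) (some x) = _
  simp
theorem mulP_none (a a' : ZMod p) (h : a' * a = 1) : mulP a a' h none = none := rfl
theorem mulP_some (a a' : ZMod p) (h : a' * a = 1) (x : ZMod p) :
    mulP a a' h (some x) = some (a * x) := by
  show Option.map (fun x => a * x + 0) (some x) = _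
  simp

theorem Tp_pow_none (n : ℕ) : (Tp p ^ n) none = none := by
  induction n with
  | zero => rfl
  | succ n ih => rw [pow_succ, Equiv.Perm.mul_apply, Tp_none, ih]

theorem Tp_pow_some (n : ℕ) (x : ZMod p) : (Tp p ^ n) (some x) = some (x + n) := by
  induction n generalizing x with
  | zero => simp
  | succ n ih =>
    rw [pow_succ, Equiv.Perm.mul_apply, Tp_some, ih]
    congr 1
    push_cast
    ring

theorem Tp_pow_p : Tp p ^ p = 1 := by
  ext x : 1
  cases x with
  | none => rw [Tp_pow_none]; rfl
  | some x => rw [Tp_pow_some, CharP.cast_eq_zero (ZMod p) p, add_zero]; rfl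

theorem Tp_ne_one : Tp p ≠ 1 := by
  intro h
  have := DFunLike.congr_fun h (some 0)
  rw [Tp_some] at this
  have h2 := Option.some_injective _ this
  simp at h2

theorem orderOf_Tp : orderOf (Tp p) = p := orderOf_eq_prime Tp_pow_p Tp_ne_one

theorem card_Om : Nat.card (Option (ZMod p)) = p + 1 := by
  rw [Nat.card_eq_fintype_card, Fintype.card_option, ZMod.card]

theorem eq_mulP (h : Equiv.Perm (Option (ZMod p))) (a a' : ZMod p) (ha : a' * a = 1)
    (h0 : h none = none) (h1 : ∀ x, h (some x) = some (a * x)) : h = mulP a a' ha := by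
  ext x : 1
  cases x with
  | none => rw [h0]; rfl
  | some x => rw [h1, mulP_some]

theorem lin_of_conj (r : Equiv.Perm (Option (ZMod p))) (b : ZMod p) (h0 : r (some 0) = some b)
    (n : ℕ) (hn : r * Tp p * r⁻¹ = Tp p ^ n) (x : ZMod p) :
    r (some x) = some ((n : ZMod p) * x + b) := by
  have hstep : ∀ y, r (Tp p y) = (Tp p ^ n) (r y) := by
    intro y
    have : r * Tp p = Tp p ^ n * r := by rw [← hn]; group
    exact DFunLike.congr_fun this y
  have key : ∀ k : ℕ, r (some (k : ZMod p)) = some ((n : ZMod p) * k + b) := by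
    intro k
    induction k with
    | zero => simpa using h0
    | succ k ih =>
      have : some (((k + 1 : ℕ) : ZMod p)) = Tp p (some (k : ZMod p)) := by
        rw [Tp_some]; push_cast; rfl
      rw [this, hstep, ih, Tp_pow_some]
      congr 1
      push_cast
      ring
  have := key x.val
  rwa [ZMod.natCast_zmod_val] at this

section core

variable (H : Subgroup (Equiv.Perm (Option (ZMod p)))) (m : ℕ) (hm : m < p)
  (hcard : Nat.card H = (p + 1) * p * m)
  (htr : ∀ x y : Option (ZMod p), ∃ h ∈ H, h x = y) (hT : Tp p ∈ H)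

include hcard htr in
theorem card_stab (x : Option (ZMod p)) : Nat.card (stabilizer H x) = p * m := by
  have h1 := Subgroup.card_mul_index (stabilizer H x)
  rw [index_stabilizer, hcard] at h1
  have h2 : orbit H x = Set.univ := by
    ext y
    simp only [Set.mem_univ, iff_true]
    obtain ⟨h, hh, hxy⟩ := htr x y
    exact ⟨⟨h, hh⟩, hxy⟩
  rw [h2, Set.ncard_univ, card_Om] at h1
  have h3 : Nat.card (stabilizer H x) * (p + 1) = (p * m) * (p + 1) := by
    rw [h1]; ring
  exact Nat.eq_of_mul_eq_mul_right (by omega) h3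

include hcard htr in
theorem fix_pow (h : Equiv.Perm (Option (ZMod p))) (hh : h ∈ H) (x : Option (ZMod p))
    (hx : h x = x) : h ^ (p * m) = 1 := by
  let h' : stabilizer H x := ⟨⟨h, hh⟩, hx⟩
  have h1 : h' ^ (p * m) = 1 := by
    rw [← card_stab H m hcard htr x]
    exact pow_card_eq_one'
  have h2 := congrArg (fun z : stabilizer H x => ((z : H) : Equiv.Perm (Option (ZMod p)))) h1
  simpa using h2

include hcard htr hT in
theorem card_stab2 :
    Nat.card (stabilizer H ((none, some 0) : Option (ZMod p) × Option (ZMod p))) = m := by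
  have h1 := Subgroup.card_mul_index
    (stabilizer H ((none, some 0) : Option (ZMod p) × Option (ZMod p)))
  rw [index_stabilizer, hcard] at h1
  have h2 : orbit H ((none, some 0) : Option (ZMod p) × Option (ZMod p)) =
      ↑((Finset.univ : Finset (Option (ZMod p))).offDiag) := by
    ext ⟨x, y⟩
    simp only [Finset.coe_offDiag, Finset.coe_univ, Set.mem_offDiag, Set.mem_univ, true_and]
    constructor
    · rintro ⟨h, hxy⟩
      have e1 : h.1 none = x := congrArg Prod.fst hxy
      have e2 : h.1 (some 0) = y := congrArg Prod.snd hxy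
      intro hxy'
      rw [← e1, ← e2] at hxy'
      exact Option.some_ne_none _ (h.1.injective hxy').symm
    · intro hxy
      obtain ⟨g, hg, hgx⟩ := htr none x
      have hne : g⁻¹ y ≠ none := by
        intro h0
        apply hxy
        rw [← hgx, ← h0]
        simp
      obtain ⟨b, hb⟩ := Option.ne_none_iff_exists'.mp hne
      refine ⟨⟨g * Tp p ^ b.val, H.mul_mem hg (H.pow_mem hT _)⟩, ?_⟩
      show ((g * Tp p ^ b.val) none, (g * Tp p ^ b.val) (some 0)) = (x, y)
      rw [Equiv.Perm.mul_apply, Equiv.Perm.mul_apply, Tp_pow_none, Tp_pow_some, hgx,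
        ZMod.natCast_zmod_val, zero_add, ← hb]
      simp
  rw [h2, Set.ncard_coe_finset, Finset.offDiag_card, Finset.card_univ, Fintype.card_option,
    ZMod.card] at h1
  have h3 : (p + 1) * (p + 1) - (p + 1) = (p + 1) * p := by
    rw [Nat.mul_succ]; omega
  rw [h3] at h1
  have h4 : Nat.card (stabilizer H ((none, some 0) : Option (ZMod p) × Option (ZMod p))) *
      ((p + 1) * p) = m * ((p + 1) * p) := by
    rw [h1]; ring
  have hpos : 0 < (p + 1) * p := Nat.mul_pos (by omega) hp.out.pos
  exact Nat.eq_of_mul_eq_mul_right hpos h4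

include hcard htr hT hm in
theorem conj_Tp (s : Equiv.Perm (Option (ZMod p))) (hs : s ∈ H) (hs0 : s none = none) :
    ∃ n : ℕ, s * Tp p * s⁻¹ = Tp p ^ n := by
  let S : Subgroup H := stabilizer H (none : Option (ZMod p))
  have hS : Nat.card S = p * m := card_stab H m hcard htr none
  haveI : Finite H := Finite.of_injective _ Subtype.val_injective
  have hm0 : 0 < m := by
    rcases Nat.eq_zero_or_pos m with h0 | h0
    · exfalso
      have := Nat.card_pos (α := H)
      rw [hcard, h0, mul_zero] at this
      omega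
    · exact h0
  let Tt : H := ⟨Tp p, hT⟩
  have hTt : Tt ∈ S := Tp_none
  let Z : Subgroup H := Subgroup.zpowers Tt
  have hZS : Z ≤ S := by
    rw [Subgroup.zpowers_le]; exact hTt
  have hZ : Nat.card Z = p := by
    rw [Nat.card_zpowers, ← Subgroup.orderOf_coe]
    exact orderOf_Tp
  have hZ' : Nat.card (Z.subgroupOf S) = p := by
    rw [Nat.card_congr (Subgroup.subgroupOfEquivOfLe hZS).toEquiv, hZ]
  have hpg : IsPGroup p (Z.subgroupOf S) := IsPGroup.of_card (n := 1) (by rw [hZ', pow_one])
  obtain ⟨P, hP⟩ := hpg.exists_le_sylow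
  have hPcard : Nat.card P = p := by
    obtain ⟨k, hk⟩ := P.2.exists_card_eq
    have hdvd : Nat.card P ∣ p * m := by
      have := Subgroup.card_subgroup_dvd_card (P : Subgroup S)
      rwa [hS] at this
    have h1 : p ∣ Nat.card P := by
      have := Subgroup.card_dvd_of_le hP
      rwa [hZ'] at this
    rw [hk] at hdvd h1 ⊢
    have hk1 : k ≠ 0 := by
      intro h0
      rw [h0, pow_zero] at h1
      exact hp.out.one_lt.ne' (Nat.dvd_one.mp h1)
    have hk2 : k < 2 := by
      by_contra hge
      push Not at hge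
      have h2 : p ^ 2 ∣ p * m := (pow_dvd_pow p hge).trans hdvd
      rw [pow_two] at h2
      have h3 : p ∣ m := (Nat.mul_dvd_mul_iff_left hp.out.pos).mp h2
      have := Nat.le_of_dvd hm0 h3
      omega
    have : k = 1 := by omega
    rw [this, pow_one]
  have hPZ : (P : Subgroup S) = Z.subgroupOf S :=
    (Subgroup.eq_of_le_of_card_ge hP (by rw [hPcard, hZ'])).symm
  have h1 : Nat.card (Sylow p S) ≡ 1 [MOD p] := card_sylow_modEq_one p S
  have h2 : Nat.card (Sylow p S) ∣ (P : Subgroup S).index := Sylow.card_dvd_index P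
  have hidx : (P : Subgroup S).index = m := by
    have h3 := Subgroup.card_mul_index (P : Subgroup S)
    rw [hPcard, hS] at h3
    exact Nat.eq_of_mul_eq_mul_left hp.out.pos h3
  have hone : Nat.card (Sylow p S) = 1 := by
    rw [hidx] at h2
    have hle : Nat.card (Sylow p S) ≤ m := Nat.le_of_dvd hm0 h2
    unfold Nat.ModEq at h1
    rw [Nat.mod_eq_of_lt (by omega), Nat.mod_eq_of_lt hp.out.one_lt] at h1
    exact h1
  haveI : Subsingleton (Sylow p S) := (Nat.card_eq_one_iff_unique.mp hone).1
  have hnorm : (P : Subgroup S).Normal := Sylow.normal_of_subsingleton P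
  rw [hPZ, Subgroup.normal_subgroupOf_iff_le_normalizer hZS] at hnorm
  have hs' : (⟨s, hs⟩ : H) ∈ S := hs0
  have h2 := hnorm hs'
  rw [Subgroup.mem_normalizer_iff] at h2
  have h3 := (h2 Tt).mp (Subgroup.mem_zpowers Tt)
  rw [← mem_powers_iff_mem_zpowers] at h3
  obtain ⟨n, hn⟩ := h3
  refine ⟨n, ?_⟩
  have h4 := congrArg (fun z : H => (z : Equiv.Perm (Option (ZMod p)))) hn
  simp only [Subgroup.coe_pow, Subgroup.coe_mul, Subgroup.coe_inv] at h4
  exact h4.symm

include hcard htr hT hm in
theorem stab_elems (h : Equiv.Perm (Option (ZMod p))) (hh : h ∈ H) (h0 : h none = none) :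
    ∃ κ b : ZMod p, κ ^ m = 1 ∧ ∀ x, h (some x) = some (κ * x + b) := by
  obtain ⟨n, hn⟩ := conj_Tp H m hm hcard htr hT h hh h0
  have hne : h (some 0) ≠ none := by
    intro h1
    have h2 : h (some 0) = h none := h1.trans h0.symm
    exact Option.some_ne_none _ (h.injective h2)
  obtain ⟨b, hb⟩ := Option.ne_none_iff_exists'.mp hne
  have hlin := lin_of_conj h b hb n hn
  refine ⟨n, b, ?_, hlin⟩
  set h' : Equiv.Perm (Option (ZMod p)) := (Tp p ^ b.val)⁻¹ * h with hh'
  have hh'H : h' ∈ H := H.mul_mem (H.inv_mem (H.pow_mem hT _)) hh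
  have h'0 : h' none = none := by
    rw [hh', Equiv.Perm.mul_apply, h0, Equiv.Perm.inv_eq_iff_eq, Tp_pow_none]
  have h'x : ∀ x, h' (some x) = some ((n : ZMod p) * x) := by
    intro x
    rw [hh', Equiv.Perm.mul_apply, hlin, Equiv.Perm.inv_eq_iff_eq, Tp_pow_some,
      ZMod.natCast_zmod_val]
  let d : stabilizer H ((none, some 0) : Option (ZMod p) × Option (ZMod p)) :=
    ⟨⟨h', hh'H⟩, by
      show (h' none, h' (some 0)) = _
      rw [h'0, h'x, mul_zero]⟩
  have hd : d ^ m = 1 := by
    rw [← card_stab2 H m hcard htr hT]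
    exact pow_card_eq_one'
  have hpow : h' ^ m = 1 := by
    have h2 := congrArg (fun z : stabilizer H ((none, some 0) :
      Option (ZMod p) × Option (ZMod p)) => ((z : H) : Equiv.Perm (Option (ZMod p)))) hd
    simpa using h2
  have hk : ∀ k : ℕ, ∀ x, (h' ^ k) (some x) = some ((n : ZMod p) ^ k * x) := by
    intro k
    induction k with
    | zero => intro x; simp
    | succ k ih =>
      intro x
      rw [pow_succ, Equiv.Perm.mul_apply, h'x, ih, pow_succ, mul_assoc]
  have := hk m 1
  rw [hpow, mul_one] at this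
  exact (Option.some_injective _ this).symm

include hcard htr hT hm in
theorem stab2_elems (h : Equiv.Perm (Option (ZMod p))) (hh : h ∈ H) (h0 : h none = none)
    (h1 : h (some 0) = some 0) :
    ∃ κ : ZMod p, κ ^ m = 1 ∧ ∀ x, h (some x) = some (κ * x) := by
  obtain ⟨κ, b, hκ, hlin⟩ := stab_elems H m hm hcard htr hT h hh h0
  have hb : b = 0 := by
    have := hlin 0
    rw [h1, mul_zero, zero_add] at this
    exact (Option.some_injective _ this).symm
  exact ⟨κ, hκ, fun x => by rw [hlin, hb, add_zero]⟩

include hcard htr hT hm in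
theorem mulP_mem (hroots : Nat.card {κ : ZMod p // κ ^ m = 1} ≤ m) (a a' : ZMod p)
    (ha : a' * a = 1) (ham : a ^ m = 1) : mulP a a' ha ∈ H := by
  let D : Subgroup H := stabilizer H ((none, some 0) : Option (ZMod p) × Option (ZMod p))
  have hD : Nat.card D = m := card_stab2 H m hcard htr hT
  have hfix : ∀ d : D, ((d : H) : Equiv.Perm (Option (ZMod p))) none = none ∧
      ((d : H) : Equiv.Perm (Option (ZMod p))) (some 0) = some 0 := by
    intro d
    have h1 : (((d : H) : Equiv.Perm (Option (ZMod p))) none,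
      ((d : H) : Equiv.Perm (Option (ZMod p))) (some 0)) =
        ((none, some 0) : Option (ZMod p) × Option (ZMod p)) := d.2
    exact ⟨congrArg Prod.fst h1, congrArg Prod.snd h1⟩
  have key : ∀ d : D, ∃ κ : ZMod p, κ ^ m = 1 ∧
      ∀ x, ((d : H) : Equiv.Perm (Option (ZMod p))) (some x) = some (κ * x) := fun d =>
    stab2_elems H m hm hcard htr hT _ (d : H).2 (hfix d).1 (hfix d).2
  choose f hf1 hf2 using key
  let F : D → {κ : ZMod p // κ ^ m = 1} := fun d => ⟨f d, hf1 d⟩
  have hinj : Function.Injective F := by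
    intro d d' hdd
    have hκ : f d = f d' := congrArg Subtype.val hdd
    apply Subtype.ext
    apply Subtype.ext
    ext x : 1
    cases x with
    | none => rw [(hfix d).1, (hfix d').1]
    | some x => rw [hf2 d, hf2 d', hκ]
  haveI : Finite H := Finite.of_injective _ Subtype.val_injective
  have hbij := hinj.bijective_of_nat_card_le (by rw [hD]; exact hroots)
  obtain ⟨d, hd⟩ := hbij.2 ⟨a, ham⟩
  have hfa : f d = a := congrArg Subtype.val hd
  have : ((d : H) : Equiv.Perm (Option (ZMod p))) = mulP a a' ha :=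
    eq_mulP _ _ _ _ (hfix d).1 (fun x => by rw [hf2 d, hfa])
  rw [← this]
  exact (d : H).2

end core

theorem agree_gen (u v q qi : Equiv.Perm (Option (ZMod p))) (hu : ∀ x, u (q x) = qi (u x))
    (hv : ∀ x, v (q x) = qi (v x))
    (hcov : ∀ x, ∃ y, u y = v y ∧ ∃ k : ℕ, x = (q ^ k) y) : u = v := by
  have key : ∀ w : Equiv.Perm (Option (ZMod p)), (∀ x, w (q x) = qi (w x)) →
      ∀ (k : ℕ) (y : Option (ZMod p)), w ((q ^ k) y) = (qi ^ k) (w y) := by
    intro w hw k y
    induction k with
    | zero => rfl
    | succ k ih => rw [pow_succ', Equiv.Perm.mul_apply, hw, ih, pow_succ', Equiv.Perm.mul_apply]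
  ext x : 1
  obtain ⟨y, hy, k, rfl⟩ := hcov x
  rw [key u hu, key v hv, hy]

theorem cycleType_of_order_p (σ : Equiv.Perm (Option (ZMod p))) (h : orderOf σ = p) :
    σ.cycleType = {p} := by
  have hp' : (orderOf σ).Prime := by rw [h]; exact hp.out
  obtain ⟨n, hn⟩ := Equiv.Perm.cycleType_prime_order hp'
  apply Equiv.Perm.cycleType_of_card_le_mem_cycleType_add_two
  · rw [Fintype.card_option, ZMod.card]; omega
  · rw [hn, h]
    simp [Multiset.mem_replicate]

/-- a simple group with `p+1` Sylow `p`-subgroups embeds as a transitive subgroup of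
`Perm (Option (ZMod p))` containing the translation -/
theorem exists_perm_subgroup {G : Type*} [Group G] [Finite G] [IsSimpleGroup G]
    (hdvd : p ∣ Nat.card G) (hn : Nat.card (Sylow p G) = p + 1) :
    ∃ H : Subgroup (Equiv.Perm (Option (ZMod p))), Nonempty (G ≃* H) ∧
      (∀ x y : Option (ZMod p), ∃ h ∈ H, h x = y) ∧ Tp p ∈ H := by
  let α : G →* Equiv.Perm (Sylow p G) := MulAction.toPermHom G (Sylow p G)
  have hinj : Function.Injective α := by
    rw [← MonoidHom.ker_eq_bot_iff]
    rcases (MonoidHom.normal_ker α).eq_bot_or_eq_top with hb | ht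
    · exact hb
    · exfalso
      haveI : Nontrivial (Sylow p G) := by
        rw [← Finite.one_lt_card_iff_nontrivial, hn]
        have := hp.out.pos
        omega
      obtain ⟨Q1, Q2, hQ⟩ := exists_pair_ne (Sylow p G)
      obtain ⟨g, hg⟩ := MulAction.exists_smul_eq G Q1 Q2
      have hgk : g ∈ α.ker := by rw [ht]; trivial
      rw [MonoidHom.mem_ker] at hgk
      have := DFunLike.congr_fun hgk Q1
      apply hQ
      rw [← hg]
      exact this.symm
  obtain ⟨t, ht⟩ := exists_prime_orderOf_dvd_card' (G := G) p hdvd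
  have hσ : orderOf (α t) = p := by rw [orderOf_injective α hinj]; exact ht
  have hcardeq : Nat.card (Sylow p G) = Nat.card (Option (ZMod p)) := by rw [hn, card_Om]
  obtain ⟨e0⟩ := Finite.card_eq.mp hcardeq
  have hσ' : orderOf (e0.permCongrHom (α t)) = p := by
    rw [MulEquiv.orderOf_eq]; exact hσ
  have hconj : IsConj (e0.permCongrHom (α t)) (Tp p) := by
    rw [Equiv.Perm.isConj_iff_cycleType_eq, cycleType_of_order_p _ hσ',
      cycleType_of_order_p _ orderOf_Tp]
  obtain ⟨c, hc⟩ := isConj_iff.mp hconj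
  let γ : G →* Equiv.Perm (Option (ZMod p)) :=
    (MulAut.conj c).toMonoidHom.comp (e0.permCongrHom.toMonoidHom.comp α)
  have hγinj : Function.Injective γ := by
    intro a b hab
    apply hinj
    apply e0.permCongrHom.injective
    exact (MulAut.conj c).injective hab
  have hγ : ∀ (g : G) (x : Option (ZMod p)), γ g x = c (e0 (g • e0.symm (c⁻¹ x))) := by
    intro g x
    rfl
  refine ⟨γ.range, ⟨MonoidHom.ofInjective hγinj⟩, ?_, ?_⟩
  · intro x y
    obtain ⟨g, hg⟩ := MulAction.exists_smul_eq G (e0.symm (c⁻¹ x)) (e0.symm (c⁻¹ y))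
    refine ⟨γ g, ⟨g, rfl⟩, ?_⟩
    rw [hγ, hg]
    simp
  · refine ⟨t, ?_⟩
    show c * e0.permCongrHom (α t) * c⁻¹ = Tp p
    exact hc

end Cfsg.Agent.helper20.L2G
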