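import Mathlib
import Cfsg.Agent.Lib_helper20_L27C
import Cfsg.Agent.Lib_helper20_L2G

set_option autoImplicit false
set_option linter.style.haveILetI false
set_option linter.unusedSectionVars false

/-! Generic `SL(2,p)` side of the recognition of `PSL(2,p)`. -/

namespace Cfsg.Agent.helper20.L2G

open Cfsg.Agent.helper20.L27 Cfsg.Agent.helper5.SL2

variable {p : ℕ} [hp : Fact p.Prime]

theorem mobHom_sU_p (t : ZMod p) : mobHom (sU t) = Tp p ^ t.val := by
  ext x : 1
  rw [mobHom_apply]
  cases x with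
  | none =>
    rw [mob_none, Tp_pow_none]
    simp [sU]
  | some x =>
    rw [mob_some, Tp_pow_some, ZMod.natCast_zmod_val]
    simp [sU]

theorem two_ne_zero_p (hp2 : p ≠ 2) : (2 : ZMod p) ≠ 0 := by
  intro h
  have h2 : ((2 : ℕ) : ZMod p) = 0 := by exact_mod_cast h
  rw [ZMod.natCast_eq_zero_iff] at h2
  have := Nat.le_of_dvd (by norm_num) h2
  have := hp.out.two_le
  omega

theorem card_range_mobHom_p (hp2 : p ≠ 2) :
    2 * Nat.card (mobHom (K := ZMod p)).range = p * (p ^ 2 - 1) := by
  have h1 := Subgroup.card_mul_index (mobHom (K := ZMod p)).ker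
  rw [Subgroup.index_ker, mobHom_ker, Cfsg.Agent.helper12.card_sl2_center (two_ne_zero_p hp2),
    Cfsg.Agent.helper12.card_SL2, ZMod.card] at h1
  exact h1

theorem finish {G : Type*} [Group G] (H : Subgroup (Equiv.Perm (Option (ZMod p))))
    (e : G ≃* H) (hT : Tp p ∈ H) (hL : ∀ t : ZMod p, mobHom (sL t) ∈ H)
    (hcard : 2 * Nat.card H = p * (p ^ 2 - 1)) (hp2 : p ≠ 2)
    {F : Type*} [Field F] [Fintype F] (hF : Fintype.card F = p) :
    Nonempty (G ≃* Matrix.ProjectiveSpecialLinearGroup (Fin 2) F) := by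
  have hle : (mobHom (K := ZMod p)).range ≤ H := by
    rw [MonoidHom.range_eq_map, Subgroup.map_le_iff_le_comap, ← sl_gen, Subgroup.closure_le]
    rintro A (⟨t, rfl⟩ | ⟨t, rfl⟩)
    · show mobHom (sU t) ∈ H
      rw [mobHom_sU_p]
      exact H.pow_mem hT _
    · exact hL t
  haveI : Finite H := Finite.of_injective _ Subtype.val_injective
  have heq : (mobHom (K := ZMod p)).range = H := by
    apply Subgroup.eq_of_le_of_card_ge hle
    have := card_range_mobHom_p (p := p) hp2
    omega
  have e1 : H ≃* (mobHom (K := ZMod p)).range := MulEquiv.subgroupCongr heq.symm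
  have e2 : Matrix.SpecialLinearGroup (Fin 2) (ZMod p) ⧸ (mobHom (K := ZMod p)).ker ≃*
      (mobHom (K := ZMod p)).range := QuotientGroup.quotientKerEquivRange _
  have e3 : Matrix.SpecialLinearGroup (Fin 2) (ZMod p) ⧸ (mobHom (K := ZMod p)).ker ≃*
      Matrix.ProjectiveSpecialLinearGroup (Fin 2) (ZMod p) :=
    QuotientGroup.quotientMulEquivOfEq mobHom_ker
  have φ : ZMod p ≃+* F := FiniteField.ringEquivOfCardEq (by rw [hF, ZMod.card])
  exact ⟨((e.trans e1).trans e2.symm).trans (e3.trans (pslCongr2 φ))⟩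

/-- Sylow count `p+1` and the resulting permutation representation. -/
theorem exists_perm_subgroup' {G : Type*} [Group G] [Finite G] [IsSimpleGroup G] (m : ℕ)
    (hcard : Nat.card G = (p + 1) * p * m) (hm0 : 0 < m)
    (hfac : (Nat.card G).factorization p = 1)
    (hnum : ∀ n, n ∣ (p + 1) * m → n % p = 1 → n = 1 ∨ n = p + 1) :
    ∃ H : Subgroup (Equiv.Perm (Option (ZMod p))), Nonempty (G ≃* H) ∧
      (∀ x y : Option (ZMod p), ∃ h ∈ H, h x = y) ∧ Tp p ∈ H := by
  have hdvd : p ∣ Nat.card G := by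
    rw [hcard]; exact Dvd.dvd.mul_right (Dvd.intro_left _ rfl) _
  apply exists_perm_subgroup hdvd
  let P : Sylow p G := default
  have hP : Nat.card P = p := by
    rw [Sylow.card_eq_multiplicity, hfac, pow_one]
  have hidx : (P : Subgroup G).index = (p + 1) * m := by
    have h3 := Subgroup.card_mul_index (P : Subgroup G)
    rw [hP, hcard] at h3
    have : p * (P : Subgroup G).index = p * ((p + 1) * m) := by rw [h3]; ring
    exact Nat.eq_of_mul_eq_mul_left hp.out.pos this
  have h1 : Nat.card (Sylow p G) ≡ 1 [MOD p] := card_sylow_modEq_one p G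
  have h2 : Nat.card (Sylow p G) ∣ (p + 1) * m := by
    rw [← hidx]; exact Sylow.card_dvd_index P
  have hmod : Nat.card (Sylow p G) % p = 1 := by
    unfold Nat.ModEq at h1
    rw [h1, Nat.mod_eq_of_lt hp.out.one_lt]
  rcases hnum _ h2 hmod with h | h
  · exfalso
    haveI : Subsingleton (Sylow p G) := (Nat.card_eq_one_iff_unique.mp h).1
    have hn : (P : Subgroup G).Normal := Sylow.normal_of_subsingleton P
    rcases hn.eq_bot_or_eq_top with hb | ht
    · rw [hb, Subgroup.card_bot] at hP
      exact hp.out.one_lt.ne hP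
    · rw [ht, Subgroup.card_top, hcard] at hP
      have h5 : 1 * p < (p + 1) * m * p := by
        apply Nat.mul_lt_mul_of_lt_of_le _ le_rfl hp.out.pos
        have h7 : (p + 1) * 1 ≤ (p + 1) * m := Nat.mul_le_mul_left _ hm0
        have h8 := hp.out.pos
        omega
      have h6 : (p + 1) * p * m = (p + 1) * m * p := by ring
      omega
  · exact h

end Cfsg.Agent.helper20.L2G
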