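import Mathlib
import Cfsg.Agent.Lib_helper20_L2H

set_option autoImplicit false
set_option linter.style.haveILetI false
set_option linter.unusedSectionVars false

/-! Simple groups of order 660 are `PSL(2,11)`. -/

namespace Cfsg.Agent.helper20.L211

open MulAction Cfsg.Agent.helper20.L2G

theorem fact11 : Fact (Nat.Prime 11) := ⟨by norm_num⟩

attribute [local instance] fact11

abbrev Om := Option (ZMod 11)

def T : Equiv.Perm Om := Tp 11
def q : Equiv.Perm Om := mulP (4 : ZMod 11) 3 (by decide)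
def qi : Equiv.Perm Om := mulP (3 : ZMod 11) 4 (by decide)

def inv11 (x : ZMod 11) : ZMod 11 := ((x * x) * (x * x)) * ((x * x) * (x * x)) * x

def invF (c : ZMod 11) : Om → Om
  | none => some 0
  | some x => if x = 0 then none else some (c * inv11 x)

theorem invF_invF : ∀ c : ZMod 11, c ≠ 0 → ∀ x : Om, invF c (invF c x) = x := by decide

def invP (c : ZMod 11) (hc : c ≠ 0) : Equiv.Perm Om where
  toFun := invF c
  invFun := invF c
  left_inv := invF_invF c hc
  right_inv := invF_invF c hc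

def W : Equiv.Perm Om := invP 10 (by decide)

theorem q_pow5 : q ^ 5 = 1 := by decide
theorem q_ne_one : q ≠ 1 := by decide
theorem q_pow4 : q ^ 4 = qi := by decide
theorem qi_inv : qi⁻¹ = q := by decide
theorem roots5 : ∀ κ : ZMod 11, κ ^ 5 = 1 → κ = 1 ∨ κ = 4 ∨ κ = 5 ∨ κ = 9 ∨ κ = 3 := by decide
theorem card_roots5 : Nat.card {κ : ZMod 11 // κ ^ 5 = 1} ≤ 5 := by
  rw [Nat.card_eq_fintype_card]; decide
theorem fix_qpow : ∀ j : Fin 5, j ≠ 0 → ∀ x : Om, (q ^ j.val) x = x → x = none ∨ x = some 0 := by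
  decide
theorem q_sq_sq : (q ^ 2) ^ 2 ≠ q := by decide
theorem q_cu_cu : (q ^ 3) ^ 3 ≠ q := by decide

theorem invP_rel : ∀ c : ZMod 11, ∀ hc : c ≠ 0, ∀ x : Om,
    invP c hc (q x) = qi (invP c hc x) := by decide

theorem fixed_of_square : ∀ c : ZMod 11, c = 1 ∨ c = 3 ∨ c = 4 ∨ c = 5 ∨ c = 9 →
    ∃ k : Fin 5, (qi ^ k.val) (some c) = (q ^ k.val) (some 1) := by decide

theorem cover_nonsq : ∀ c : ZMod 11, c = 2 ∨ c = 6 ∨ c = 7 ∨ c = 8 ∨ c = 10 → ∀ x : Om,
    x = none ∨ x = some 0 ∨ (∃ k : Fin 5, x = (q ^ k.val) (some 1)) ∨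
      (∃ k : Fin 5, x = (q ^ k.val) (some c)) := by decide

theorem W_of : ∀ c : ZMod 11, ∀ hc : c ≠ 0, c = 2 ∨ c = 6 ∨ c = 7 ∨ c = 8 ∨ c = 10 →
    ∃ j : Fin 5, q ^ j.val * invP c hc * (q ^ j.val)⁻¹ = W := by decide

theorem c_cases : ∀ c : ZMod 11, c = 0 ∨ (c = 1 ∨ c = 3 ∨ c = 4 ∨ c = 5 ∨ c = 9) ∨
    (c = 2 ∨ c = 6 ∨ c = 7 ∨ c = 8 ∨ c = 10) := by decide

section main

variable (H : Subgroup (Equiv.Perm Om)) (hcard : Nat.card H = (11 + 1) * 11 * 5)
  (htr : ∀ x y : Om, ∃ h ∈ H, h x = y) (hT : Tp 11 ∈ H)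

include hcard htr hT in
theorem q_mem : q ∈ H :=
  mulP_mem H 5 (by norm_num) hcard htr hT card_roots5 4 3 (by decide) (by decide)

include hcard htr hT in
theorem stab2_q (h : Equiv.Perm Om) (hh : h ∈ H) (h0 : h none = none)
    (h1 : h (some 0) = some 0) : ∃ j : Fin 5, h = q ^ j.val := by
  obtain ⟨κ, hκ, hlin⟩ := stab2_elems H 5 (by norm_num) hcard htr hT h hh h0 h1
  rcases roots5 κ hκ with rfl | rfl | rfl | rfl | rfl
  · refine ⟨0, ?_⟩
    rw [eq_mulP h 1 1 (by decide) h0 hlin]; decide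
  · refine ⟨1, ?_⟩
    rw [eq_mulP h 4 3 (by decide) h0 hlin]; decide
  · refine ⟨2, ?_⟩
    rw [eq_mulP h 5 9 (by decide) h0 hlin]; decide
  · refine ⟨3, ?_⟩
    rw [eq_mulP h 9 5 (by decide) h0 hlin]; decide
  · refine ⟨4, ?_⟩
    rw [eq_mulP h 3 4 (by decide) h0 hlin]; decide

include hcard htr hT in
theorem W_mem_of_inverting (u : Equiv.Perm Om) (huH : u ∈ H) (huu : u * u = 1)
    (hu0 : u none = some 0) (hu1 : u (some 0) = none)
    (hrel : ∀ x, u (q x) = qi (u x)) : W ∈ H := by
  have hq := q_mem H hcard htr hT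
  have hui : ∀ x, u (u x) = x := by
    intro x
    have := DFunLike.congr_fun huu x
    simpa using this
  have hfpf : ∀ x, u x ≠ x := by
    intro x hx
    have h55 := fix_pow H 5 hcard htr u huH x hx
    have h2 : u ^ (11 * 5) = u := by
      have : u ^ (11 * 5) = (u * u) ^ 27 * u := by
        rw [← pow_two, ← pow_mul, ← pow_succ]
      rw [this, huu, one_pow, one_mul]
    rw [h2] at h55
    rw [h55] at hu0
    exact Option.some_ne_none _ hu0.symm
  have hne : u (some 1) ≠ none := by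
    intro h
    have h2 : u (some 1) = u (some 0) := h.trans hu1.symm
    have := u.injective h2
    revert this
    decide
  obtain ⟨c, hc⟩ := Option.ne_none_iff_exists'.mp hne
  have horb : ∀ k : ℕ, u ((q ^ k) (some 1)) = (qi ^ k) (some c) := by
    intro k
    induction k with
    | zero => exact hc.symm ▸ rfl
    | succ k ih =>
      rw [pow_succ', Equiv.Perm.mul_apply, hrel, ih, pow_succ', Equiv.Perm.mul_apply]
  rcases c_cases c with rfl | hQ | hN
  · exfalso
    have h2 : u (some 1) = u none := hc.trans hu0.symm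
    exact Option.some_ne_none _ (u.injective h2)
  · exfalso
    obtain ⟨k, hk⟩ := fixed_of_square c hQ
    exact hfpf _ ((horb k.val).trans hk)
  · have hc0 : c ≠ 0 := by
      rcases hN with rfl | rfl | rfl | rfl | rfl <;> decide
    have e1 : invP c hc0 (some 1) = some c := by
      show invF c (some 1) = some c
      have h10 : (1 : ZMod 11) ≠ 0 := by decide
      simp [invF, inv11, h10]
    have e2 : invP c hc0 (some c) = some 1 := by
      rw [← e1]
      exact invF_invF c hc0 (some 1)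
    have huv : u = invP c hc0 := by
      apply agree_gen u (invP c hc0) q qi hrel (invP_rel c hc0)
      intro x
      rcases cover_nonsq c hN x with rfl | rfl | ⟨k, rfl⟩ | ⟨k, rfl⟩
      · exact ⟨none, by rw [hu0]; rfl, 0, rfl⟩
      · exact ⟨some 0, by rw [hu1]; rfl, 0, rfl⟩
      · exact ⟨some 1, by rw [hc, e1], k.val, rfl⟩
      · refine ⟨some c, ?_, k.val, rfl⟩
        rw [e2, ← hc, hui]
    obtain ⟨j, hj⟩ := W_of c hc0 hN
    rw [← hj, ← huv]
    exact H.mul_mem (H.mul_mem (H.pow_mem hq _) huH) (H.inv_mem (H.pow_mem hq _))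

include hcard htr hT in
theorem W_mem [IsSimpleGroup H] : W ∈ H := by
  have hq := q_mem H hcard htr hT
  let D : Subgroup H := stabilizer H ((none, some 0) : Om × Om)
  have hD : Nat.card D = 5 := card_stab2 H 5 hcard htr hT
  haveI : Fact (Nat.Prime 5) := ⟨by norm_num⟩
  haveI : Finite H := Finite.of_injective _ Subtype.val_injective
  have hfac : ((11 + 1) * 11 * 5 : ℕ).factorization 5 = 1 := by decide +kernel
  let P : Sylow 5 H := Sylow.ofCard D (by rw [hD, hcard, hfac, pow_one])
  have hPD : (P : Subgroup H) = D := Sylow.coe_ofCard _ _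
  have hnot := L27.not_normalizer_le_centralizer P (by rw [hPD, hD]; norm_num)
    (by rw [hPD, hD, hcard]; norm_num)
  rw [SetLike.not_le_iff_exists] at hnot
  obtain ⟨n, hnN, hnC⟩ := hnot
  rw [Subgroup.mem_set_normalizer_iff] at hnN
  rw [Subgroup.mem_centralizer_iff] at hnC
  have hN : ∀ d : H, d ∈ D ↔ n * d * n⁻¹ ∈ D := fun d => hnN d
  have hC : ¬ ∀ d ∈ D, d * n = n * d := hnC
  clear hnN hnC
  have hDel : ∀ d : H, d ∈ D → ∃ j : Fin 5, (d : Equiv.Perm Om) = q ^ j.val := by
    intro d hd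
    have hfix : ((d : Equiv.Perm Om) none, (d : Equiv.Perm Om) (some 0)) =
        ((none, some 0) : Om × Om) := hd
    exact stab2_q H hcard htr hT d d.2 (congrArg Prod.fst hfix) (congrArg Prod.snd hfix)
  let qq : H := ⟨q, hq⟩
  have hqqD : qq ∈ D := rfl
  obtain ⟨j, hj⟩ := hDel _ ((hN qq).mp hqqD)
  set ν : Equiv.Perm Om := (n : Equiv.Perm Om) with hν
  have hνH : ν ∈ H := n.2
  have hconj : ν * q * ν⁻¹ = q ^ j.val := by
    simpa [qq] using hj
  -- centralizing criterion
  have hcent : Commute ν q → False := by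
    intro hc
    apply hC
    intro d hd
    obtain ⟨i, hi⟩ := hDel d hd
    apply Subtype.ext
    show (d : Equiv.Perm Om) * ν = ν * (d : Equiv.Perm Om)
    rw [hi]
    exact ((hc.pow_right i.val).eq).symm
  have hj0 : j ≠ 0 := by
    intro h0
    rw [h0] at hconj
    apply q_ne_one
    have : q = ν⁻¹ * (ν * q * ν⁻¹) * ν := by group
    rw [this, hconj]
    simp
  have hνrel : ∀ x, ν (q x) = (q ^ j.val) (ν x) := by
    intro x
    have : ν * q = q ^ j.val * ν := by
      have : ν * q = (ν * q * ν⁻¹) * ν := by group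
      rw [this, hconj]
    exact DFunLike.congr_fun this x
  have hν0 : ν none = none ∨ ν none = some 0 := by
    apply fix_qpow j hj0
    rw [← hνrel]; rfl
  have hν1 : ν (some 0) = none ∨ ν (some 0) = some 0 := by
    apply fix_qpow j hj0
    rw [← hνrel]; rfl
  have hswap : ν none = some 0 ∧ ν (some 0) = none := by
    rcases hν0 with h0 | h0
    · exfalso
      have h1 : ν (some 0) = some 0 := by
        rcases hν1 with h1 | h1
        · have h2 : ν (some 0) = ν none := h1.trans h0.symm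
          exact absurd (ν.injective h2) (by decide)
        · exact h1
      obtain ⟨i, hi⟩ := stab2_q H hcard htr hT ν hνH h0 h1
      apply hcent
      rw [hi]
      exact (Commute.refl q).pow_left i.val
    · refine ⟨h0, ?_⟩
      rcases hν1 with h1 | h1
      · exact h1
      · have h2 : ν (some 0) = ν none := h1.trans h0.symm
        exact absurd (ν.injective h2) (by decide)
  obtain ⟨hs0, hs1⟩ := hswap
  have hsq0 : (ν * ν) none = none := by rw [Equiv.Perm.mul_apply, hs0, hs1]
  have hsq1 : (ν * ν) (some 0) = some 0 := by rw [Equiv.Perm.mul_apply, hs1, hs0]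
  obtain ⟨i, hi⟩ := stab2_q H hcard htr hT (ν * ν) (H.mul_mem hνH hνH) hsq0 hsq1
  have hsqc : Commute (ν * ν) q := by
    rw [hi]; exact (Commute.refl q).pow_left i.val
  have hjj : (q ^ j.val) ^ j.val = q := by
    have h1 : ν * (q ^ j.val) * ν⁻¹ = (q ^ j.val) ^ j.val := by
      rw [← conj_pow, hconj]
    have h2 : (ν * ν) * q * (ν * ν)⁻¹ = (q ^ j.val) ^ j.val := by
      rw [← h1, ← hconj]; group
    rw [← h2, hsqc.eq]; group
  have hj4 : j = 4 := by
    have h1 : j ≠ 1 := by
      intro h1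
      apply hcent
      rw [h1] at hconj
      have : ν * q = q * ν := by
        have : ν * q = (ν * q * ν⁻¹) * ν := by group
        rw [this, hconj]; simp
      exact this
    have h2 : j ≠ 2 := by
      intro h2
      rw [h2] at hjj
      exact q_sq_sq hjj
    have h3 : j ≠ 3 := by
      intro h3
      rw [h3] at hjj
      exact q_cu_cu hjj
    have hall : ∀ j : Fin 5, j ≠ 0 → j ≠ 1 → j ≠ 2 → j ≠ 3 → j = 4 := by decide
    exact hall j hj0 h1 h2 h3
  rw [hj4] at hνrel
  have hνq : ∀ x, ν (q x) = qi (ν x) := by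
    intro x
    rw [hνrel, show ((4 : Fin 5).val) = 4 from rfl, q_pow4]
  have hνqi : ∀ x, ν (qi x) = q (ν x) := by
    intro x
    have h1 := hνq (qi x)
    have e1 : q (qi x) = x := by
      have : q * qi = 1 := by decide
      exact DFunLike.congr_fun this x
    have e2 : ∀ y, q (qi y) = y := by
      intro y
      have : q * qi = 1 := by decide
      exact DFunLike.congr_fun this y
    rw [e1] at h1
    rw [h1, e2]
  have h5 : (ν * ν) ^ 5 = 1 := by
    rw [hi, ← pow_mul, mul_comm, pow_mul, q_pow5, one_pow]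
  refine W_mem_of_inverting H hcard htr hT (ν * ((ν * ν) * (ν * ν)))
    (H.mul_mem hνH (H.mul_mem (H.mul_mem hνH hνH) (H.mul_mem hνH hνH))) ?_ ?_ ?_ ?_
  · have : ν * ((ν * ν) * (ν * ν)) * (ν * ((ν * ν) * (ν * ν))) = (ν * ν) ^ 5 := by
      simp only [pow_succ, pow_zero, one_mul, mul_assoc]
    rw [this, h5]
  · rw [Equiv.Perm.mul_apply, Equiv.Perm.mul_apply, hsq0, hsq0, hs0]
  · rw [Equiv.Perm.mul_apply, Equiv.Perm.mul_apply, hsq1, hsq1, hs1]
  · intro x
    simp only [Equiv.Perm.mul_apply, hνq, hνqi]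

end main

theorem inv11_mul : ∀ y : ZMod 11, y ≠ 0 → y * inv11 y = 1 := by decide

theorem inv_eq_inv11 (y : ZMod 11) : y⁻¹ = inv11 y := by
  by_cases hy : y = 0
  · subst hy
    simp [inv11]
  · exact inv_eq_of_mul_eq_one_right (inv11_mul y hy)

theorem sL_none : ∀ t : ZMod 11, (W * Tp 11 ^ (-t).val * W) none =
    if t = 0 then none else some (inv11 t) := by decide

theorem sL_some : ∀ t x : ZMod 11, (W * Tp 11 ^ (-t).val * W) (some x) =
    if t * x + 1 = 0 then none else some (x * inv11 (t * x + 1)) := by decide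

open Cfsg.Agent.helper20.L27 Cfsg.Agent.helper5.SL2 in
theorem mobHom_sL (t : ZMod 11) : mobHom (sL t) = W * Tp 11 ^ (-t).val * W := by
  ext x : 1
  rw [mobHom_apply]
  cases x with
  | none =>
    rw [mob_none, sL_none]
    simp [sL, inv_eq_inv11]
  | some x =>
    rw [mob_some, sL_some]
    simp [sL, div_eq_mul_inv, inv_eq_inv11]

theorem num11 : ∀ n, n ∣ (11 + 1) * 5 → n % 11 = 1 → n = 1 ∨ n = 11 + 1 := by
  intro n h1 h2
  have hle : n ≤ 60 := Nat.le_of_dvd (by norm_num) h1
  interval_cases n <;> omega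

/-- A simple group of order 660 is isomorphic to `PSL(2,11)`. -/
theorem simple_660 {G : Type*} [Group G] [Finite G] [IsSimpleGroup G]
    (h : Nat.card G = 660) {F : Type*} [Field F] [Fintype F] (hF : Fintype.card F = 11) :
    Nonempty (G ≃* Matrix.ProjectiveSpecialLinearGroup (Fin 2) F) := by
  have hcardG : Nat.card G = (11 + 1) * 11 * 5 := by rw [h]
  have hfac : (Nat.card G).factorization 11 = 1 := by rw [h]; decide +kernel
  obtain ⟨H, ⟨e⟩, htr, hT⟩ := exists_perm_subgroup' (p := 11) 5 hcardG (by norm_num) hfac num11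
  have hcard : Nat.card H = (11 + 1) * 11 * 5 := by rw [← Nat.card_congr e.toEquiv, hcardG]
  haveI : IsSimpleGroup H := e.symm.isSimpleGroup
  have hW : W ∈ H := W_mem H hcard htr hT
  refine finish H e hT ?_ (by rw [hcard]; norm_num) (by norm_num) hF
  intro t
  rw [mobHom_sL]
  exact H.mul_mem (H.mul_mem hW (H.pow_mem hT _)) hW

end Cfsg.Agent.helper20.L211
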