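import Mathlib
import Cfsg.Agent.Lib_helper20_L2H

set_option autoImplicit false
set_option linter.style.haveILetI false
set_option linter.unusedSectionVars false

/-! Simple groups of order 1092 are `PSL(2,13)`. -/

namespace Cfsg.Agent.helper20.L213

open MulAction Cfsg.Agent.helper20.L2G

theorem fact13 : Fact (Nat.Prime 13) := ⟨by norm_num⟩

attribute [local instance] fact13

abbrev Om := Option (ZMod 13)

def q : Equiv.Perm Om := mulP (4 : ZMod 13) 10 (by decide)
def qi : Equiv.Perm Om := mulP (10 : ZMod 13) 4 (by decide)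
def z : Equiv.Perm Om := mulP (12 : ZMod 13) 12 (by decide)

def inv13 (x : ZMod 13) : ZMod 13 :=
  (((x * x) * (x * x)) * ((x * x) * (x * x))) * (x * x) * x

/-- twisted inversion: `x ↦ c/x` on squares, `x ↦ d/x` on non-squares -/
def candF (c d : ZMod 13) : Om → Om
  | none => some 0
  | some x => if x = 0 then none else
      if x ^ 6 = 1 then some (c * inv13 x) else some (d * inv13 x)

theorem candF_candF : ∀ c d : ZMod 13, c ^ 6 = 1 → d ^ 6 = 1 → ∀ x : Om,
    candF c d (candF c d x) = x := by decide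

def candP (c d : ZMod 13) (hc : c ^ 6 = 1) (hd : d ^ 6 = 1) : Equiv.Perm Om where
  toFun := candF c d
  invFun := candF c d
  left_inv := candF_candF c d hc hd
  right_inv := candF_candF c d hc hd

def invF (c : ZMod 13) : Om → Om
  | none => some 0
  | some x => if x = 0 then none else some (c * inv13 x)

theorem invF_invF : ∀ c : ZMod 13, c ≠ 0 → ∀ x : Om, invF c (invF c x) = x := by decide

def invP (c : ZMod 13) (hc : c ≠ 0) : Equiv.Perm Om where
  toFun := invF c
  invFun := invF c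
  left_inv := invF_invF c hc
  right_inv := invF_invF c hc

def W : Equiv.Perm Om := invP 12 (by decide)

def val (o : Om) : ZMod 13 := o.getD 0

theorem q_pow6 : q ^ 6 = 1 := by decide
theorem q_pow3 : q ^ 3 = z := by decide
theorem z_sq : z * z = 1 := by decide
theorem z_ne_one : z ≠ 1 := by decide
theorem q_ne_one : q ≠ 1 := by decide
theorem q_pow5 : q ^ 5 = qi := by decide
theorem q_mul_qi : q * qi = 1 := by decide
theorem q2_cube : (q ^ 2) ^ 3 = 1 := by decide
theorem q2_ne_one : q ^ 2 ≠ 1 := by decide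
theorem q2_sq_ne : (q ^ 2) ^ 2 ≠ q ^ 2 := by decide
theorem roots6 : ∀ κ : ZMod 13, κ ^ 6 = 1 →
    κ = 1 ∨ κ = 4 ∨ κ = 3 ∨ κ = 12 ∨ κ = 9 ∨ κ = 10 := by decide
theorem card_roots6 : Nat.card {κ : ZMod 13 // κ ^ 6 = 1} ≤ 6 := by
  rw [Nat.card_eq_fintype_card]; decide
theorem fix_q2pow : ∀ j : Fin 3, j ≠ 0 → ∀ x : Om, ((q ^ 2) ^ j.val) x = x →
    x = none ∨ x = some 0 := by decide
theorem j_eq_five : ∀ j : Fin 6, (q ^ j.val) ^ 2 = (q ^ 2) ^ 2 → (q ^ j.val) ^ j.val = q →
    j = 5 := by decide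
theorem qpow_cube : ∀ i : Fin 6, (q ^ i.val) ^ 3 = 1 ∨ (q ^ i.val) ^ 3 = z := by decide

theorem candP_rel : ∀ c d : ZMod 13, ∀ hc : c ^ 6 = 1, ∀ hd : d ^ 6 = 1, ∀ x : Om,
    candP c d hc hd (q x) = qi (candP c d hc hd x) := by decide
theorem invP_rel : ∀ c : ZMod 13, ∀ hc : c ≠ 0, ∀ x : Om,
    invP c hc (q x) = qi (invP c hc x) := by decide

theorem cover_nonsq : ∀ c : ZMod 13, c ≠ 0 → c ^ 6 ≠ 1 → ∀ x : Om,
    x = none ∨ x = some 0 ∨ (∃ k : Fin 6, x = (q ^ k.val) (some 1)) ∨
      (∃ k : Fin 6, x = (q ^ k.val) (some c)) := by decide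

theorem cover_two : ∀ x : Om,
    x = none ∨ x = some 0 ∨ (∃ k : Fin 6, x = (q ^ k.val) (some 1)) ∨
      (∃ k : Fin 6, x = (q ^ k.val) (some 2)) := by decide

theorem orbit_sq : ∀ c δ : ZMod 13, c ^ 6 = 1 → δ ^ 6 = 1 →
    ∃ k : Fin 6, (qi ^ k.val) (some c) = some δ := by decide
theorem two_not_orbit : ∀ k : Fin 6, (q ^ k.val) (some (1 : ZMod 13)) ≠ some 2 := by decide
theorem two_mul_nonsq : ∀ δ : ZMod 13, δ ≠ 0 → δ ^ 6 ≠ 1 → (2 * δ) ^ 6 = 1 := by decide

/-- the test word `u T^{-c} u T u` -/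
def testW (u : Equiv.Perm Om) (c : ZMod 13) : Equiv.Perm Om :=
  u * Tp 13 ^ (-c).val * u * Tp 13 * u

theorem test_nonsq : ∀ c : ZMod 13, ∀ hc : c ≠ 0, c ^ 6 ≠ 1 →
    testW (invP c hc) c none = none ∧
    ¬ ((val (testW (invP c hc) c (some 1)) - val (testW (invP c hc) c (some 0))) ^ 6 = 1) := by
  decide

theorem test_twisted : ∀ c d : ZMod 13, ∀ hc : c ^ 6 = 1, ∀ hd : d ^ 6 = 1, c ≠ d →
    testW (candP c d hc hd) c none = none ∧
    ¬ (∀ x : ZMod 13, testW (candP c d hc hd) c (some x) =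
      some ((val (testW (candP c d hc hd) c (some 1)) - val (testW (candP c d hc hd) c (some 0)))
        * x + val (testW (candP c d hc hd) c (some 0)))) := by
  decide

theorem candP_self : ∀ c : ZMod 13, ∀ hc : c ^ 6 = 1, ∀ hc0 : c ≠ 0,
    candP c c hc hc = invP c hc0 := by decide

theorem W_of : ∀ c : ZMod 13, ∀ hc : c ≠ 0, c ^ 6 = 1 →
    ∃ j : Fin 6, ∃ ε : Fin 2, z ^ ε.val * (q ^ j.val * invP c hc * (q ^ j.val)⁻¹) = W := by
  decide

/-- In a finite simple group, a Sylow subgroup for the smallest prime is not cyclic. -/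
theorem not_cyclic_sylow_minFac {Γ : Type*} [Group Γ] [Finite Γ] [IsSimpleGroup Γ]
    {p : ℕ} [Fact p.Prime] (hp : (Nat.card Γ).minFac = p) (P : Sylow p Γ)
    (h1 : 1 < Nat.card P) (h2 : Nat.card P < Nat.card Γ) : ¬ IsCyclic P :=
  fun hc => L27.not_normalizer_le_centralizer P h1 h2 (hc.normalizer_le_centralizer hp)

section main

variable (H : Subgroup (Equiv.Perm Om)) (hcard : Nat.card H = (13 + 1) * 13 * 6)
  (htr : ∀ x y : Om, ∃ h ∈ H, h x = y) (hT : Tp 13 ∈ H)

include hcard htr hT in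
theorem q_mem : q ∈ H :=
  mulP_mem H 6 (by norm_num) hcard htr hT card_roots6 4 10 (by decide) (by decide)

include hcard htr hT in
theorem stab2_q (h : Equiv.Perm Om) (hh : h ∈ H) (h0 : h none = none)
    (h1 : h (some 0) = some 0) : ∃ j : Fin 6, h = q ^ j.val := by
  obtain ⟨κ, hκ, hlin⟩ := stab2_elems H 6 (by norm_num) hcard htr hT h hh h0 h1
  rcases roots6 κ hκ with rfl | rfl | rfl | rfl | rfl | rfl
  · refine ⟨0, ?_⟩
    rw [eq_mulP h 1 1 (by decide) h0 hlin]; decide
  · refine ⟨1, ?_⟩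
    rw [eq_mulP h 4 10 (by decide) h0 hlin]; decide
  · refine ⟨2, ?_⟩
    rw [eq_mulP h 3 9 (by decide) h0 hlin]; decide
  · refine ⟨3, ?_⟩
    rw [eq_mulP h 12 12 (by decide) h0 hlin]; decide
  · refine ⟨4, ?_⟩
    rw [eq_mulP h 9 3 (by decide) h0 hlin]; decide
  · refine ⟨5, ?_⟩
    rw [eq_mulP h 10 4 (by decide) h0 hlin]; decide

include hcard htr hT in
/-- elements of `H` fixing `∞` are affine with square multiplier -/
theorem affine_test (s : Equiv.Perm Om) (hs : s ∈ H) (hs0 : s none = none) :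
    (val (s (some 1)) - val (s (some 0))) ^ 6 = 1 ∧
    ∀ x : ZMod 13, s (some x) =
      some ((val (s (some 1)) - val (s (some 0))) * x + val (s (some 0))) := by
  obtain ⟨κ, b, hκ, hlin⟩ := stab_elems H 6 (by norm_num) hcard htr hT s hs hs0
  have e0 : val (s (some 0)) = b := by
    rw [hlin]; simp [val]
  have e1 : val (s (some 1)) = κ + b := by
    rw [hlin]; simp [val]
  rw [e0, e1]
  have : κ + b - b = κ := by ring
  rw [this]
  exact ⟨hκ, hlin⟩

include hcard htr hT in
theorem W_mem_of_inverting (u : Equiv.Perm Om) (huH : u ∈ H) (huu : u * u = 1)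
    (hu0 : u none = some 0) (hu1 : u (some 0) = none)
    (hrel : ∀ x, u (q x) = qi (u x)) : W ∈ H := by
  have hq := q_mem H hcard htr hT
  have hz : z ∈ H := by rw [← q_pow3]; exact H.pow_mem hq _
  have hui : ∀ x, u (u x) = x := by
    intro x
    have := DFunLike.congr_fun huu x
    simpa using this
  have hne : u (some 1) ≠ none := by
    intro h
    have h2 : u (some 1) = u (some 0) := h.trans hu1.symm
    have := u.injective h2
    revert this
    decide
  obtain ⟨c, hc⟩ := Option.ne_none_iff_exists'.mp hne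
  have hc0 : c ≠ 0 := by
    intro h0
    rw [h0] at hc
    have h2 : u (some 1) = u none := hc.trans hu0.symm
    exact Option.some_ne_none _ (u.injective h2)
  have horb : ∀ k : ℕ, u ((q ^ k) (some 1)) = (qi ^ k) (some c) := by
    intro k
    induction k with
    | zero => exact hc.symm ▸ rfl
    | succ k ih =>
      rw [pow_succ', Equiv.Perm.mul_apply, hrel, ih, pow_succ', Equiv.Perm.mul_apply]
  have htestH : testW u c ∈ H :=
    H.mul_mem (H.mul_mem (H.mul_mem (H.mul_mem huH (H.pow_mem hT _)) huH) hT) huH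
  by_cases hcQ : c ^ 6 = 1
  · -- c a square
    have hne2 : u (some 2) ≠ none := by
      intro h
      have h2 : u (some 2) = u (some 0) := h.trans hu1.symm
      have := u.injective h2
      revert this
      decide
    obtain ⟨δ, hδ⟩ := Option.ne_none_iff_exists'.mp hne2
    have hδ0 : δ ≠ 0 := by
      intro h0
      rw [h0] at hδ
      have h2 : u (some 2) = u none := hδ.trans hu0.symm
      exact Option.some_ne_none _ (u.injective h2)
    have hδN : δ ^ 6 ≠ 1 := by
      intro hδQ
      obtain ⟨k, hk⟩ := orbit_sq c δ hcQ hδQ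
      have h2 : u (some 2) = u ((q ^ k.val) (some 1)) := by
        rw [horb, hk, hδ]
      exact two_not_orbit k (u.injective h2).symm
    have hd : (2 * δ) ^ 6 = 1 := two_mul_nonsq δ hδ0 hδN
    have e1 : candP c (2 * δ) hcQ hd (some 1) = some c := by
      show candF c (2 * δ) (some 1) = some c
      have h10 : (1 : ZMod 13) ≠ 0 := by decide
      simp [candF, inv13, h10]
    have e2 : candP c (2 * δ) hcQ hd (some 2) = some δ := by
      show candF c (2 * δ) (some 2) = some δ
      have h20 : (2 : ZMod 13) ≠ 0 := by decide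
      have h26 : (2 : ZMod 13) ^ 6 ≠ 1 := by decide
      have h2i : (2 : ZMod 13) * inv13 2 = 1 := by decide
      simp only [candF, if_neg h20, if_neg h26]
      congr 1
      calc 2 * δ * inv13 2 = δ * (2 * inv13 2) := by ring
        _ = δ := by rw [h2i, mul_one]
    have huv : u = candP c (2 * δ) hcQ hd := by
      apply agree_gen u _ q qi hrel (candP_rel c (2 * δ) hcQ hd)
      intro x
      rcases cover_two x with rfl | rfl | ⟨k, rfl⟩ | ⟨k, rfl⟩
      · exact ⟨none, by rw [hu0]; rfl, 0, rfl⟩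
      · exact ⟨some 0, by rw [hu1]; rfl, 0, rfl⟩
      · exact ⟨some 1, by rw [hc, e1], k.val, rfl⟩
      · exact ⟨some 2, by rw [hδ, e2], k.val, rfl⟩
    by_cases hcd : c = 2 * δ
    · have huv' : u = invP c hc0 := by
        rw [huv]
        have := candP_self c hcQ hc0
        rw [← this]
        congr 1
        exact hcd.symm
      obtain ⟨j, ε, hj⟩ := W_of c hc0 hcQ
      rw [← hj, ← huv']
      exact H.mul_mem (H.pow_mem hz _)
        (H.mul_mem (H.mul_mem (H.pow_mem hq _) huH) (H.inv_mem (H.pow_mem hq _)))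
    · exfalso
      obtain ⟨t1, t2⟩ := test_twisted c (2 * δ) hcQ hd hcd
      rw [← huv] at t1 t2
      exact t2 (affine_test H hcard htr hT _ htestH t1).2
  · -- c a non-square
    exfalso
    have e1 : invP c hc0 (some 1) = some c := by
      show invF c (some 1) = some c
      have h10 : (1 : ZMod 13) ≠ 0 := by decide
      simp [invF, inv13, h10]
    have e2 : invP c hc0 (some c) = some 1 := by
      rw [← e1]
      exact invF_invF c hc0 (some 1)
    have huv : u = invP c hc0 := by
      apply agree_gen u (invP c hc0) q qi hrel (invP_rel c hc0)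
      intro x
      rcases cover_nonsq c hc0 hcQ x with rfl | rfl | ⟨k, rfl⟩ | ⟨k, rfl⟩
      · exact ⟨none, by rw [hu0]; rfl, 0, rfl⟩
      · exact ⟨some 0, by rw [hu1]; rfl, 0, rfl⟩
      · exact ⟨some 1, by rw [hc, e1], k.val, rfl⟩
      · refine ⟨some c, ?_, k.val, rfl⟩
        rw [e2, ← hc, hui]
    obtain ⟨t1, t2⟩ := test_nonsq c hc0 hcQ
    rw [← huv] at t1 t2
    exact t2 (affine_test H hcard htr hT _ htestH t1).1

include hcard htr hT in
theorem W_mem [IsSimpleGroup H] : W ∈ H := by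
  have hq := q_mem H hcard htr hT
  haveI : Finite H := Finite.of_injective _ Subtype.val_injective
  haveI : Fact (Nat.Prime 3) := ⟨by norm_num⟩
  haveI : Fact (Nat.Prime 2) := ⟨by norm_num⟩
  let rr : H := ⟨q ^ 2, H.pow_mem hq 2⟩
  have horr : orderOf rr = 3 := by
    rw [← Subgroup.orderOf_coe]
    exact orderOf_eq_prime q2_cube q2_ne_one
  let D3 : Subgroup H := Subgroup.zpowers rr
  have hD3 : Nat.card D3 = 3 := by rw [Nat.card_zpowers, horr]
  have hfac : ((13 + 1) * 13 * 6 : ℕ).factorization 3 = 1 := by decide +kernel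
  let P : Sylow 3 H := Sylow.ofCard D3 (by rw [hD3, hcard, hfac, pow_one])
  have hPD : (P : Subgroup H) = D3 := Sylow.coe_ofCard _ _
  have hnot := L27.not_normalizer_le_centralizer P (by rw [hPD, hD3]; norm_num)
    (by rw [hPD, hD3, hcard]; norm_num)
  rw [SetLike.not_le_iff_exists] at hnot
  obtain ⟨n, hnN, hnC⟩ := hnot
  rw [Subgroup.mem_set_normalizer_iff] at hnN
  rw [Subgroup.mem_centralizer_iff] at hnC
  have hN : ∀ d : H, d ∈ D3 ↔ n * d * n⁻¹ ∈ D3 := fun d => hnN d
  have hC : ¬ ∀ d ∈ D3, d * n = n * d := hnC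
  clear hnN hnC
  set ν : Equiv.Perm Om := (n : Equiv.Perm Om) with hν
  have hνH : ν ∈ H := n.2
  have hmem := (hN rr).mp (Subgroup.mem_zpowers rr)
  rw [← mem_powers_iff_mem_zpowers] at hmem
  obtain ⟨k, hk⟩ := hmem
  have hk' : ν * q ^ 2 * ν⁻¹ = (q ^ 2) ^ k := by
    have := congrArg (fun z : H => (z : Equiv.Perm Om)) hk
    simp only [Subgroup.coe_pow, Subgroup.coe_mul, Subgroup.coe_inv] at this
    exact this.symm
  rw [pow_eq_pow_mod k q2_cube] at hk'
  have hcent : Commute ν (q ^ 2) → False := by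
    intro hc
    apply hC
    intro d hd
    rw [← mem_powers_iff_mem_zpowers] at hd
    obtain ⟨i, rfl⟩ := hd
    apply Subtype.ext
    show ((rr ^ i : H) : Equiv.Perm Om) * ν = ν * ((rr ^ i : H) : Equiv.Perm Om)
    rw [Subgroup.coe_pow]
    exact ((hc.pow_right i).eq).symm
  have hlt : k % 3 < 3 := Nat.mod_lt _ (by norm_num)
  have hk0 : k % 3 ≠ 0 := by
    intro h0
    rw [h0, pow_zero] at hk'
    apply q2_ne_one
    have : q ^ 2 = ν⁻¹ * (ν * q ^ 2 * ν⁻¹) * ν := by group
    rw [this, hk']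
    simp
  have hk1 : k % 3 ≠ 1 := by
    intro h1
    rw [h1, pow_one] at hk'
    apply hcent
    have : ν * q ^ 2 = q ^ 2 * ν := by
      have : ν * q ^ 2 = (ν * q ^ 2 * ν⁻¹) * ν := by group
      rw [this, hk']
    exact this
  have hk2 : k % 3 = 2 := by omega
  rw [hk2] at hk'
  have hνr : ∀ x, ν ((q ^ 2) x) = ((q ^ 2) ^ 2) (ν x) := by
    intro x
    have : ν * q ^ 2 = (q ^ 2) ^ 2 * ν := by
      have : ν * q ^ 2 = (ν * q ^ 2 * ν⁻¹) * ν := by group
      rw [this, hk']
    exact DFunLike.congr_fun this x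
  have hν0 : ν none = none ∨ ν none = some 0 := by
    apply fix_q2pow 2 (by decide)
    show ((q ^ 2) ^ 2) (ν none) = ν none
    rw [← hνr]; rfl
  have hν1 : ν (some 0) = none ∨ ν (some 0) = some 0 := by
    apply fix_q2pow 2 (by decide)
    show ((q ^ 2) ^ 2) (ν (some 0)) = ν (some 0)
    rw [← hνr]; rfl
  have hswap : ν none = some 0 ∧ ν (some 0) = none := by
    rcases hν0 with h0 | h0
    · exfalso
      have h1 : ν (some 0) = some 0 := by
        rcases hν1 with h1 | h1
        · have h2 : ν (some 0) = ν none := h1.trans h0.symm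
          exact absurd (ν.injective h2) (by decide)
        · exact h1
      obtain ⟨i, hi⟩ := stab2_q H hcard htr hT ν hνH h0 h1
      apply hcent
      rw [hi]
      exact ((Commute.refl q).pow_left i.val).pow_right 2
    · refine ⟨h0, ?_⟩
      rcases hν1 with h1 | h1
      · exact h1
      · have h2 : ν (some 0) = ν none := h1.trans h0.symm
        exact absurd (ν.injective h2) (by decide)
  obtain ⟨hs0, hs1⟩ := hswap
  -- ν normalizes the two-point stabilizer
  have hqfix0 : q none = none := rfl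
  have hqfix1 : q (some 0) = some 0 := by decide
  have hc0 : (ν * q * ν⁻¹) none = none := by
    rw [Equiv.Perm.mul_apply, Equiv.Perm.mul_apply, Equiv.Perm.inv_eq_iff_eq.mpr hs1.symm,
      hqfix1, hs1]
  have hc1 : (ν * q * ν⁻¹) (some 0) = some 0 := by
    rw [Equiv.Perm.mul_apply, Equiv.Perm.mul_apply, Equiv.Perm.inv_eq_iff_eq.mpr hs0.symm,
      hqfix0, hs0]
  obtain ⟨j, hj⟩ := stab2_q H hcard htr hT (ν * q * ν⁻¹)
    (H.mul_mem (H.mul_mem hνH hq) (H.inv_mem hνH)) hc0 hc1
  have hsq0 : (ν * ν) none = none := by rw [Equiv.Perm.mul_apply, hs0, hs1]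
  have hsq1 : (ν * ν) (some 0) = some 0 := by rw [Equiv.Perm.mul_apply, hs1, hs0]
  obtain ⟨i, hi⟩ := stab2_q H hcard htr hT (ν * ν) (H.mul_mem hνH hνH) hsq0 hsq1
  have hsqc : Commute (ν * ν) q := by
    rw [hi]; exact (Commute.refl q).pow_left i.val
  have hjj : (q ^ j.val) ^ j.val = q := by
    have h1 : ν * (q ^ j.val) * ν⁻¹ = (q ^ j.val) ^ j.val := by
      rw [← conj_pow, hj]
    have h2 : (ν * ν) * q * (ν * ν)⁻¹ = (q ^ j.val) ^ j.val := by
      rw [← h1, ← hj]; group
    rw [← h2, hsqc.eq]; group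
  have hj2 : (q ^ j.val) ^ 2 = (q ^ 2) ^ 2 := by
    rw [← hj, ← hk', conj_pow]
  have hj5 : j = 5 := j_eq_five j hj2 hjj
  rw [hj5] at hj
  have hνq : ∀ x, ν (q x) = qi (ν x) := by
    intro x
    have : ν * q = qi * ν := by
      have : ν * q = (ν * q * ν⁻¹) * ν := by group
      rw [this, hj, show ((5 : Fin 6).val) = 5 from rfl, q_pow5]
    exact DFunLike.congr_fun this x
  have hνqi : ∀ x, ν (qi x) = q (ν x) := by
    intro x
    have e2 : ∀ y, q (qi y) = y := fun y => DFunLike.congr_fun q_mul_qi y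
    have h1 := hνq (qi x)
    rw [e2] at h1
    rw [h1, e2]
  have hz : z ∈ H := by rw [← q_pow3]; exact H.pow_mem hq _
  set u : Equiv.Perm Om := ν * (ν * ν) with hu
  have huH : u ∈ H := H.mul_mem hνH (H.mul_mem hνH hνH)
  have huu' : u * u = (ν * ν) ^ 3 := by
    rw [hu]
    simp only [pow_succ, pow_zero, one_mul, mul_assoc]
  have huu : u * u = 1 := by
    rcases qpow_cube i with h3 | h3
    · rw [huu', hi, h3]
    · exfalso
      -- u has order 4: cyclic Sylow 2-subgroup
      have hu2 : u * u = z := by rw [huu', hi, h3]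
      let uu : H := ⟨u, huH⟩
      have houu : orderOf uu = 2 ^ (1 + 1) := by
        apply orderOf_eq_prime_pow
        · intro h1
          have h2 := congrArg (fun z : H => (z : Equiv.Perm Om)) h1
          simp only [Subgroup.coe_pow, Subgroup.coe_one, pow_one] at h2
          rw [pow_two] at h2
          exact z_ne_one (hu2.symm.trans h2)
        · apply Subtype.ext
          show u ^ 2 ^ (1 + 1) = 1
          have : u ^ 2 ^ (1 + 1) = (u * u) * (u * u) := by
            show u ^ 4 = (u * u) * (u * u)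
            simp only [pow_succ, pow_zero, one_mul, mul_assoc]
          rw [this, hu2, z_sq]
      have hcardZ : Nat.card (Subgroup.zpowers uu) = 4 := by
        rw [Nat.card_zpowers, houu]; norm_num
      have hfac2 : ((13 + 1) * 13 * 6 : ℕ).factorization 2 = 2 := by decide +kernel
      let P2 : Sylow 2 H := Sylow.ofCard (Subgroup.zpowers uu) (by rw [hcardZ, hcard, hfac2]; norm_num)
      have hP2 : (P2 : Subgroup H) = Subgroup.zpowers uu := Sylow.coe_ofCard _ _
      have hcyc : IsCyclic (P2 : Subgroup H) := by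
        rw [hP2]; infer_instance
      have hminFac : (Nat.card H).minFac = 2 := by rw [hcard]; norm_num
      exact not_cyclic_sylow_minFac hminFac P2 (by rw [hP2, hcardZ]; norm_num)
        (by rw [hP2, hcardZ, hcard]; norm_num) hcyc
  refine W_mem_of_inverting H hcard htr hT u huH huu ?_ ?_ ?_
  · rw [hu, Equiv.Perm.mul_apply, hsq0, hs0]
  · rw [hu, Equiv.Perm.mul_apply, hsq1, hs1]
  · intro x
    rw [hu]
    simp only [Equiv.Perm.mul_apply, hνq, hνqi]

end main

theorem inv13_mul : ∀ y : ZMod 13, y ≠ 0 → y * inv13 y = 1 := by decide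

theorem inv_eq_inv13 (y : ZMod 13) : y⁻¹ = inv13 y := by
  by_cases hy : y = 0
  · subst hy
    simp [inv13]
  · exact inv_eq_of_mul_eq_one_right (inv13_mul y hy)

theorem sL_none : ∀ t : ZMod 13, (W * Tp 13 ^ (-t).val * W) none =
    if t = 0 then none else some (inv13 t) := by decide

theorem sL_some : ∀ t x : ZMod 13, (W * Tp 13 ^ (-t).val * W) (some x) =
    if t * x + 1 = 0 then none else some (x * inv13 (t * x + 1)) := by decide

open Cfsg.Agent.helper20.L27 Cfsg.Agent.helper5.SL2 in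
theorem mobHom_sL (t : ZMod 13) : mobHom (sL t) = W * Tp 13 ^ (-t).val * W := by
  ext x : 1
  rw [mobHom_apply]
  cases x with
  | none =>
    rw [mob_none, sL_none]
    simp [sL, inv_eq_inv13]
  | some x =>
    rw [mob_some, sL_some]
    simp [sL, div_eq_mul_inv, inv_eq_inv13]

theorem num13 : ∀ n, n ∣ (13 + 1) * 6 → n % 13 = 1 → n = 1 ∨ n = 13 + 1 := by
  intro n h1 h2
  have hle : n ≤ 84 := Nat.le_of_dvd (by norm_num) h1
  interval_cases n <;> omega

/-- A simple group of order 1092 is isomorphic to `PSL(2,13)`. -/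
theorem simple_1092 {G : Type*} [Group G] [Finite G] [IsSimpleGroup G]
    (h : Nat.card G = 1092) {F : Type*} [Field F] [Fintype F] (hF : Fintype.card F = 13) :
    Nonempty (G ≃* Matrix.ProjectiveSpecialLinearGroup (Fin 2) F) := by
  have hcardG : Nat.card G = (13 + 1) * 13 * 6 := by rw [h]
  have hfac : (Nat.card G).factorization 13 = 1 := by rw [h]; decide +kernel
  obtain ⟨H, ⟨e⟩, htr, hT⟩ := exists_perm_subgroup' (p := 13) 6 hcardG (by norm_num) hfac num13
  have hcard : Nat.card H = (13 + 1) * 13 * 6 := by rw [← Nat.card_congr e.toEquiv, hcardG]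
  haveI : IsSimpleGroup H := e.symm.isSimpleGroup
  have hW : W ∈ H := W_mem H hcard htr hT
  refine finish H e hT ?_ (by rw [hcard]; norm_num) (by norm_num) hF
  intro t
  rw [mobHom_sL]
  exact H.mul_mem (H.mul_mem hW (H.pow_mem hT _)) hW

end Cfsg.Agent.helper20.L213
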