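import Mathlib
import Cfsg.Agent.Lib_helper20_L2H

set_option autoImplicit false
set_option linter.style.haveILetI false
set_option linter.unusedSectionVars false
set_option maxRecDepth 100000

/-! Simple groups of order 2448 are `PSL(2,17)`. -/

namespace Cfsg.Agent.helper20.L217

open MulAction Cfsg.Agent.helper20.L2G

theorem fact_p : Fact (Nat.Prime 17) := ⟨by norm_num⟩

attribute [local instance] fact_p

abbrev Om := Option (ZMod 17)

def q : Equiv.Perm Om := mulP (2 : ZMod 17) 9 (by decide)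

def invp (x : ZMod 17) : ZMod 17 :=
  ((((x * x) * x) * ((x * x) * x)) * x) * ((((x * x) * x) * ((x * x) * x)) * x) * x

def invF (c : ZMod 17) : Om → Om
  | none => some 0
  | some x => if x = 0 then none else some (c * invp x)

theorem invF_invF : ∀ c : ZMod 17, c ≠ 0 → ∀ x : Om, invF c (invF c x) = x := by decide

def invP (c : ZMod 17) (hc : c ≠ 0) : Equiv.Perm Om where
  toFun := invF c
  invFun := invF c
  left_inv := invF_invF c hc
  right_inv := invF_invF c hc

def W : Equiv.Perm Om := invP 16 (by decide)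

/-- candidate for an element swapping `∞` and `0` and conjugating `q` to `q^j` -/
def candF (j : ℕ) (c d : ZMod 17) : Om → Om
  | none => some 0
  | some x => if x = 0 then none else
      if x ^ 8 = 1 then some (c * x ^ j) else some (d * (x * 6) ^ j)

def val (o : Om) : ZMod 17 := o.getD 0

/-- the test word evaluated on a candidate -/
def sfunF (j : ℕ) (c d : ZMod 17) (x : Om) : Om :=
  candF j c d ((Tp 17 ^ (-c).val) (candF j c d (Tp 17 (candF j c d x))))

theorem rootsm : ∀ κ : ZMod 17, κ ^ 8 = 1 →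
    κ = 1 ∨ κ = 2 ∨ κ = 4 ∨ κ = 8 ∨ κ = 16 ∨ κ = 15 ∨ κ = 13 ∨ κ = 9 := by decide
theorem card_rootsm : Nat.card {κ : ZMod 17 // κ ^ 8 = 1} ≤ 8 := by
  rw [Nat.card_eq_fintype_card]; decide

theorem cover17 : ∀ x : ZMod 17, x ≠ 0 →
    (∃ k : Fin 8, x = 2 ^ k.val * 1) ∨ (∃ k : Fin 8, x = 2 ^ k.val * 3) := by decide

set_option maxHeartbeats 4000000 in
theorem test17 : ∀ j : Fin 8, ∀ c d : ZMod 17, c ≠ 0 → d ≠ 0 →
    (val (sfunF j.val c d (some 1)) - val (sfunF j.val c d (some 0))) ^ 8 = 1 →
    (∀ x : ZMod 17, sfunF j.val c d (some x) =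
      some ((val (sfunF j.val c d (some 1)) - val (sfunF j.val c d (some 0))) * x
        + val (sfunF j.val c d (some 0)))) →
    j = 7 ∧ c ^ 8 = 1 ∧ d = c * 6 := by
  decide

theorem cand_good : ∀ c : ZMod 17, c ^ 8 = 1 → ∀ x : Om, candF 7 c (c * 6) x = invF c x := by
  decide

theorem W_of : ∀ c : ZMod 17, ∀ hc : c ≠ 0, c ^ 8 = 1 →
    ∀ h : (16 * c) * (16 * invp c) = 1,
      mulP (16 * invp c) (16 * c) h * invP c hc = W := by decide

theorem kappa_pow : ∀ c : ZMod 17, c ^ 8 = 1 → (16 * invp c) ^ 8 = 1 := by decide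
theorem kappa_inv : ∀ c : ZMod 17, c ^ 8 = 1 → (16 * c) * (16 * invp c) = 1 := by decide
theorem ne_zero_of_pow : ∀ c : ZMod 17, c ^ 8 = 1 → c ≠ 0 := by decide

theorem mulP_pow_some (a a' : ZMod 17) (h : a' * a = 1) (n : ℕ) (x : ZMod 17) :
    ((mulP a a' h) ^ n) (some x) = some (a ^ n * x) := by
  induction n generalizing x with
  | zero => simp
  | succ n ih =>
    rw [pow_succ, Equiv.Perm.mul_apply, mulP_some, ih, pow_succ, mul_assoc]

theorem mulP_pow_none (a a' : ZMod 17) (h : a' * a = 1) (n : ℕ) :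
    ((mulP a a' h) ^ n) none = none := by
  induction n with
  | zero => rfl
  | succ n ih => rw [pow_succ, Equiv.Perm.mul_apply, mulP_none, ih]

section main

variable (H : Subgroup (Equiv.Perm Om)) (hcard : Nat.card H = (17 + 1) * 17 * 8)
  (htr : ∀ x y : Om, ∃ h ∈ H, h x = y) (hT : Tp 17 ∈ H)

include hcard htr hT in
theorem q_mem : q ∈ H :=
  mulP_mem H 8 (by norm_num) hcard htr hT card_rootsm 2 9 (by decide) (by decide)

include hcard htr hT in
theorem stab2_q (h : Equiv.Perm Om) (hh : h ∈ H) (h0 : h none = none)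
    (h1 : h (some 0) = some 0) : ∃ j : Fin 8, h = q ^ j.val := by
  obtain ⟨κ, hκ, hlin⟩ := stab2_elems H 8 (by norm_num) hcard htr hT h hh h0 h1
  rcases rootsm κ hκ with rfl | rfl | rfl | rfl | rfl | rfl | rfl | rfl
  · refine ⟨0, ?_⟩
    rw [eq_mulP h 1 1 (by decide) h0 hlin]; decide
  · refine ⟨1, ?_⟩
    rw [eq_mulP h 2 9 (by decide) h0 hlin]; decide
  · refine ⟨2, ?_⟩
    rw [eq_mulP h 4 13 (by decide) h0 hlin]; decide
  · refine ⟨3, ?_⟩
    rw [eq_mulP h 8 15 (by decide) h0 hlin]; decide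
  · refine ⟨4, ?_⟩
    rw [eq_mulP h 16 16 (by decide) h0 hlin]; decide
  · refine ⟨5, ?_⟩
    rw [eq_mulP h 15 8 (by decide) h0 hlin]; decide
  · refine ⟨6, ?_⟩
    rw [eq_mulP h 13 4 (by decide) h0 hlin]; decide
  · refine ⟨7, ?_⟩
    rw [eq_mulP h 9 2 (by decide) h0 hlin]; decide

include hcard htr hT in
theorem affine_test (s : Equiv.Perm Om) (hs : s ∈ H) (hs0 : s none = none) :
    (val (s (some 1)) - val (s (some 0))) ^ 8 = 1 ∧
    ∀ x : ZMod 17, s (some x) =
      some ((val (s (some 1)) - val (s (some 0))) * x + val (s (some 0))) := by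
  obtain ⟨κ, b, hκ, hlin⟩ := stab_elems H 8 (by norm_num) hcard htr hT s hs hs0
  have e0 : val (s (some 0)) = b := by
    rw [hlin]; simp [val]
  have e1 : val (s (some 1)) = κ + b := by
    rw [hlin]; simp [val]
  rw [e0, e1]
  have : κ + b - b = κ := by ring
  rw [this]
  exact ⟨hκ, hlin⟩

include hcard htr hT in
theorem W_mem : W ∈ H := by
  have hq := q_mem H hcard htr hT
  -- an element swapping ∞ and 0
  obtain ⟨g, hg, hg0⟩ := htr none (some 0)
  have hne : g⁻¹ none ≠ none := by
    intro h0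
    rw [Equiv.Perm.inv_eq_iff_eq] at h0
    rw [← h0] at hg0
    exact Option.some_ne_none _ hg0.symm
  obtain ⟨b, hb⟩ := Option.ne_none_iff_exists'.mp hne
  set w : Equiv.Perm Om := g * Tp 17 ^ b.val with hw
  have hwH : w ∈ H := H.mul_mem hg (H.pow_mem hT _)
  have hw0 : w none = some 0 := by
    rw [hw, Equiv.Perm.mul_apply, Tp_pow_none, hg0]
  have hw1 : w (some 0) = none := by
    rw [hw, Equiv.Perm.mul_apply, Tp_pow_some, ZMod.natCast_zmod_val, zero_add, ← hb]
    simp
  -- conjugation of q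
  have hqfix1 : q (some 0) = some 0 := by decide
  have hc0 : (w * q * w⁻¹) none = none := by
    rw [Equiv.Perm.mul_apply, Equiv.Perm.mul_apply, Equiv.Perm.inv_eq_iff_eq.mpr hw1.symm,
      hqfix1, hw1]
  have hc1 : (w * q * w⁻¹) (some 0) = some 0 := by
    have hqfix0 : q none = none := rfl
    rw [Equiv.Perm.mul_apply, Equiv.Perm.mul_apply, Equiv.Perm.inv_eq_iff_eq.mpr hw0.symm,
      hqfix0, hw0]
  obtain ⟨j, hj⟩ := stab2_q H hcard htr hT (w * q * w⁻¹)
    (H.mul_mem (H.mul_mem hwH hq) (H.inv_mem hwH)) hc0 hc1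
  have hrel : ∀ x, w (q x) = (q ^ j.val) (w x) := by
    intro x
    have : w * q = q ^ j.val * w := by
      have : w * q = (w * q * w⁻¹) * w := by group
      rw [this, hj]
    exact DFunLike.congr_fun this x
  -- values at 1 and 3
  have hsome : ∀ y : ZMod 17, y ≠ 0 → ∃ v : ZMod 17, v ≠ 0 ∧ w (some y) = some v := by
    intro y hy
    have h1 : w (some y) ≠ none := by
      intro h
      have h2 : w (some y) = w (some 0) := h.trans hw1.symm
      exact hy (Option.some_injective _ (w.injective h2))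
    obtain ⟨v, hv⟩ := Option.ne_none_iff_exists'.mp h1
    refine ⟨v, ?_, hv⟩
    intro h0
    rw [h0] at hv
    have h2 : w (some y) = w none := hv.trans hw0.symm
    exact Option.some_ne_none _ (w.injective h2)
  obtain ⟨c, hc0', hc⟩ := hsome 1 (by decide)
  obtain ⟨d, hd0', hd⟩ := hsome 3 (by decide)
  have horb : ∀ (k : ℕ) (y v : ZMod 17), w (some y) = some v →
      w (some (2 ^ k * y)) = some ((2 ^ j.val) ^ k * v) := by
    intro k
    induction k with
    | zero => intro y v h; simpa using h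
    | succ k ih =>
      intro y v h
      have e : some (2 ^ (k + 1) * y) = q (some (2 ^ k * y)) := by
        show _ = mulP (2 : ZMod 17) 9 _ (some (2 ^ k * y))
        rw [mulP_some, pow_succ]
        congr 1
        ring
      rw [e, hrel, ih y v h]
      show (mulP (2 : ZMod 17) 9 _ ^ j.val) (some ((2 ^ j.val) ^ k * v)) = _
      rw [mulP_pow_some, pow_succ]
      congr 1
      ring
  have hwc : ∀ x : Om, w x = candF j.val c d x := by
    intro x
    cases x with
    | none => rw [hw0]; rfl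
    | some x =>
      by_cases hx : x = 0
      · subst hx
        rw [hw1]
        simp [candF]
      · rcases cover17 x hx with ⟨k, rfl⟩ | ⟨k, rfl⟩
        · rw [horb k.val 1 c hc]
          have h8 : ((2 : ZMod 17) ^ k.val * 1) ^ 8 = 1 := by
            rw [mul_one, ← pow_mul, mul_comm, pow_mul]
            have : (2 : ZMod 17) ^ 8 = 1 := by decide
            rw [this, one_pow]
          have hne0 : (2 : ZMod 17) ^ k.val * 1 ≠ 0 := hx
          simp only [candF, if_neg hne0, if_pos h8]
          congr 1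
          rw [mul_one, ← pow_mul, ← pow_mul, mul_comm c, mul_comm j.val]
        · rw [horb k.val 3 d hd]
          have h8 : ((2 : ZMod 17) ^ k.val * 3) ^ 8 ≠ 1 := by
            have h28 : (2 : ZMod 17) ^ 8 = 1 := by decide
            have e : ((2 : ZMod 17) ^ k.val * 3) ^ 8 = 16 := by
              rw [mul_pow, ← pow_mul, mul_comm k.val 8, pow_mul, h28, one_pow, one_mul]
              decide
            rw [e]
            decide
          have hne0 : (2 : ZMod 17) ^ k.val * 3 ≠ 0 := hx
          simp only [candF, if_neg hne0, if_neg h8]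
          congr 1
          have e36 : (2 : ZMod 17) ^ k.val * 3 * 6 = 2 ^ k.val := by
            have : (3 : ZMod 17) * 6 = 1 := by decide
            rw [mul_assoc, this, mul_one]
          rw [e36, ← pow_mul, ← pow_mul, mul_comm d, mul_comm j.val]
  -- the test word
  set s : Equiv.Perm Om := w * Tp 17 ^ (-c).val * w * Tp 17 * w with hs
  have hsH : s ∈ H :=
    H.mul_mem (H.mul_mem (H.mul_mem (H.mul_mem hwH (H.pow_mem hT _)) hwH) hT) hwH
  have hs0 : s none = none := by
    rw [hs]
    simp only [Equiv.Perm.mul_apply]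
    rw [hw0, Tp_some, zero_add, hc, Tp_pow_some, ZMod.natCast_zmod_val, add_neg_cancel, hw1]
  have hsx : ∀ x : Om, s x = sfunF j.val c d x := by
    intro x
    rw [hs]
    simp only [Equiv.Perm.mul_apply, hwc]
    rfl
  obtain ⟨t1, t2⟩ := affine_test H hcard htr hT s hsH hs0
  simp only [hsx] at t1 t2
  obtain ⟨hj7, hc8, hd6⟩ := test17 j c d hc0' hd0' t1 t2
  have hc0 : c ≠ 0 := ne_zero_of_pow c hc8
  have hwinv : w = invP c hc0 := by
    ext x : 1
    rw [hwc, hj7, hd6]
    exact cand_good c hc8 x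
  have hW := W_of c hc0 hc8 (kappa_inv c hc8)
  rw [← hW, ← hwinv]
  exact H.mul_mem (mulP_mem H 8 (by norm_num) hcard htr hT card_rootsm _ _ _ (kappa_pow c hc8)) hwH

end main

theorem invp_mul : ∀ y : ZMod 17, y ≠ 0 → y * invp y = 1 := by decide

theorem inv_eq_invp (y : ZMod 17) : y⁻¹ = invp y := by
  by_cases hy : y = 0
  · subst hy
    simp [invp]
  · exact inv_eq_of_mul_eq_one_right (invp_mul y hy)

theorem sL_none : ∀ t : ZMod 17, (W * Tp 17 ^ (-t).val * W) none =
    if t = 0 then none else some (invp t) := by decide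

theorem sL_some : ∀ t x : ZMod 17, (W * Tp 17 ^ (-t).val * W) (some x) =
    if t * x + 1 = 0 then none else some (x * invp (t * x + 1)) := by decide

open Cfsg.Agent.helper20.L27 Cfsg.Agent.helper5.SL2 in
theorem mobHom_sL (t : ZMod 17) : mobHom (sL t) = W * Tp 17 ^ (-t).val * W := by
  ext x : 1
  rw [mobHom_apply]
  cases x with
  | none =>
    rw [mob_none, sL_none]
    simp [sL, inv_eq_invp]
  | some x =>
    rw [mob_some, sL_some]
    simp [sL, div_eq_mul_inv, inv_eq_invp]

theorem nump : ∀ n, n ∣ (17 + 1) * 8 → n % 17 = 1 → n = 1 ∨ n = 17 + 1 := by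
  intro n h1 h2
  have hle : n ≤ 144 := Nat.le_of_dvd (by norm_num) h1
  interval_cases n <;> omega

/-- A simple group of order 2448 is isomorphic to `PSL(2,17)`. -/
theorem simple_main {G : Type*} [Group G] [Finite G] [IsSimpleGroup G]
    (h : Nat.card G = 2448) {F : Type*} [Field F] [Fintype F] (hF : Fintype.card F = 17) :
    Nonempty (G ≃* Matrix.ProjectiveSpecialLinearGroup (Fin 2) F) := by
  have hcardG : Nat.card G = (17 + 1) * 17 * 8 := by rw [h]
  have hfac : (Nat.card G).factorization 17 = 1 := by rw [h]; decide +kernel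
  obtain ⟨H, ⟨e⟩, htr, hT⟩ := exists_perm_subgroup' (p := 17) 8 hcardG (by norm_num) hfac nump
  have hcard : Nat.card H = (17 + 1) * 17 * 8 := by rw [← Nat.card_congr e.toEquiv, hcardG]
  have hW : W ∈ H := W_mem H hcard htr hT
  refine finish H e hT ?_ (by rw [hcard]; norm_num) (by norm_num) hF
  intro t
  rw [mobHom_sL]
  exact H.mul_mem (H.mul_mem hW (H.pow_mem hT _)) hW

end Cfsg.Agent.helper20.L217
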