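import Mathlib

set_option autoImplicit false

/-! Linear algebra core for Laffey–MacHale (S4081): an operator `T` of prime order `q` acting
fixed-point-freely on a finite `ZMod p`-module whose "normalizer" is transitive on nonzero vectors
forces `p` to be a primitive root mod `q`. -/

namespace Cfsg.Agent.helper20.LM

open Polynomial

section Intertwine

variable {R : Type*} [CommRing R] {E : Type*} [Ring E] [Algebra R E]

theorem intertwine_pow (T S θ : E) (h : θ * T = S * θ) (n : ℕ) : θ * T ^ n = S ^ n * θ := by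
  induction n with
  | zero => simp
  | succ n ih => rw [pow_succ, ← mul_assoc, ih, mul_assoc, h, ← mul_assoc, ← pow_succ]

theorem intertwine_aeval (T S θ : E) (h : θ * T = S * θ) (g : R[X]) :
    θ * aeval T g = aeval S g * θ := by
  induction g using Polynomial.induction_on' with
  | add a b ha hb => simp [mul_add, add_mul, ha, hb]
  | monomial n c =>
    rw [aeval_monomial, aeval_monomial, ← mul_assoc, ← Algebra.commutes c θ, mul_assoc,
      intertwine_pow T S θ h n, mul_assoc]

end Intertwine

section LA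

variable {p q : ℕ} [hp : Fact p.Prime] [hq : Fact q.Prime]
variable {V : Type*} [AddCommGroup V] [Module (ZMod p) V]

/-- `Φ_q(T) = 0` when `T^q = 1` and `T` has no nonzero fixed vector. -/
theorem aeval_cyclotomic_eq_zero (T : Module.End (ZMod p) V) (hT : T ^ q = 1)
    (hfpf : ∀ v, T v = v → v = 0) : aeval T (cyclotomic q (ZMod p)) = 0 := by
  have h1 : aeval T ((X - 1) * cyclotomic q (ZMod p)) = 0 := by
    rw [mul_comm, cyclotomic_prime_mul_X_sub_one]
    simp [hT]
  rw [map_mul] at h1
  ext v
  have h2 := congrArg (fun f : Module.End (ZMod p) V => f v) h1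
  simp only [map_sub, aeval_X, map_one, Module.End.mul_apply, LinearMap.sub_apply,
    Module.End.one_apply, LinearMap.zero_apply] at h2
  exact hfpf _ (sub_eq_zero.mp h2)

/-- The cyclic `T`-submodule generated by `v`, as a set. -/
def cyc (T : Module.End (ZMod p) V) (v : V) : Set V := {u | ∃ h : (ZMod p)[X], aeval T h v = u}

theorem self_mem_cyc (T : Module.End (ZMod p) V) (v : V) : v ∈ cyc T v := ⟨1, by simp⟩

theorem cyc_subset (T : Module.End (ZMod p) V) {u v : V} (hu : u ∈ cyc T v) : cyc T u ⊆ cyc T v := by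
  rintro w ⟨h', rfl⟩
  obtain ⟨h, rfl⟩ := hu
  exact ⟨h' * h, by simp [Module.End.mul_apply]⟩

theorem neg_mem_cyc (T : Module.End (ZMod p) V) (v : V) : -v ∈ cyc T v := ⟨-1, by simp⟩

/-- main linear algebra lemma, additive form. -/
theorem primitive_root_add (hpq : p ≠ q) [Finite V] [Nontrivial V]
    (T : Module.End (ZMod p) V) (hT : T ^ q = 1) (hfpf : ∀ v, T v = v → v = 0)
    (H1 : ∀ v w : V, v ≠ 0 → w ≠ 0 → ∃ (θ : Module.End (ZMod p) V) (j : ℕ),
      Function.Injective θ ∧ θ v = w ∧ θ * T = T ^ j * θ)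
    (H2 : ∀ j, 0 < j → j < q → ∃ θ : Module.End (ZMod p) V,
      Function.Surjective θ ∧ θ * T = T ^ j * θ) :
    orderOf (p : ZMod q) = q - 1 := by
  classical
  have hΦ := aeval_cyclotomic_eq_zero T hT hfpf
  have hint : IsIntegral (ZMod p) T := ⟨cyclotomic q (ZMod p), cyclotomic.monic q _, hΦ⟩
  obtain ⟨m, hm⟩ : ∃ m, m = minpoly (ZMod p) T := ⟨_, rfl⟩
  have hm_dvd : m ∣ cyclotomic q (ZMod p) := hm ▸ minpoly.dvd _ _ hΦ
  have hm0 : m ≠ 0 := hm ▸ minpoly.ne_zero hint
  have hmT : aeval T m = 0 := hm ▸ minpoly.aeval _ _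
  have hm_of : ∀ g : (ZMod p)[X], aeval T g = 0 → m ∣ g := fun g hg => hm ▸ minpoly.dvd _ _ hg
  -- cardinalities of cyclic submodules
  have hcard_le : ∀ v w : V, v ≠ 0 → w ≠ 0 → (cyc T v).ncard ≤ (cyc T w).ncard := by
    intro v w hv hw
    obtain ⟨θ, j, hinj, hvw, hθ⟩ := H1 v w hv hw
    have hsub : θ '' (cyc T v) ⊆ cyc T w := by
      rintro _ ⟨u, ⟨h, rfl⟩, rfl⟩
      have h1 := intertwine_aeval (R := ZMod p) T (T ^ j) θ hθ h
      have h2 := congrArg (fun f : Module.End (ZMod p) V => f v) h1
      simp only [Module.End.mul_apply] at h2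
      refine ⟨h.comp (X ^ j), ?_⟩
      rw [aeval_comp, h2, hvw]
      simp
    calc (cyc T v).ncard = (θ '' (cyc T v)).ncard := (Set.ncard_image_of_injective _ hinj).symm
      _ ≤ (cyc T w).ncard := Set.ncard_le_ncard hsub (Set.toFinite _)
  -- Claim A
  have claimA : ∀ u v : V, u ≠ 0 → v ≠ 0 → u ∈ cyc T v → v ∈ cyc T u := by
    intro u v hu hv huv
    have h1 : cyc T u = cyc T v :=
      Set.eq_of_subset_of_ncard_le (cyc_subset T huv) (hcard_le v u hv hu) (Set.toFinite _)
    rw [h1]
    exact self_mem_cyc T v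
  -- Claim B
  have claimB : ∀ (v : V) (g : (ZMod p)[X]), v ≠ 0 → aeval T g v ≠ 0 →
      ∃ h : (ZMod p)[X], aeval T (h * g) v = v := by
    intro v g hv hg
    obtain ⟨h, hh⟩ := claimA (aeval T g v) v hg hv ⟨g, rfl⟩
    exact ⟨h, by simpa [Module.End.mul_apply] using hh⟩
  -- Claim C
  have claimC : ∀ (v w : V) (g : (ZMod p)[X]), v ≠ 0 → w ≠ 0 → aeval T g v = 0 →
      aeval T g w = 0 := by
    intro v w g hv hw hgv
    by_contra hgw
    by_cases hwv : w ∈ cyc T v
    · obtain ⟨h, rfl⟩ := hwv
      apply hgw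
      have : aeval T g (aeval T h v) = aeval T h (aeval T g v) := by
        rw [← Module.End.mul_apply, ← Module.End.mul_apply, ← map_mul, ← map_mul, mul_comm]
      rw [this, hgv, map_zero]
    · have hvw0 : v + w ≠ 0 := by
        intro h0
        apply hwv
        have : w = -v := by rw [add_comm] at h0; exact eq_neg_of_add_eq_zero_left h0
        rw [this]
        exact neg_mem_cyc T v
      have hg' : aeval T g (v + w) ≠ 0 := by
        rw [map_add, hgv, zero_add]
        exact hgw
      obtain ⟨h, hh⟩ := claimB (v + w) g hvw0 hg'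
      have h1 : aeval T (h * g) v = 0 := by
        rw [map_mul, Module.End.mul_apply, hgv, map_zero]
      rw [map_add, h1, zero_add] at hh
      -- v = (hg - 1)(T) w
      have hv_mem : v ∈ cyc T w := by
        refine ⟨h * g - 1, ?_⟩
        rw [map_sub, LinearMap.sub_apply, hh]
        simp
      exact hwv (claimA v w hv hw hv_mem)
  have hall : ∀ g : (ZMod p)[X], (∃ v : V, v ≠ 0 ∧ aeval T g v = 0) → aeval T g = 0 := by
    rintro g ⟨v, hv, hgv⟩
    ext w
    by_cases hw : w = 0
    · simp [hw]
    · simpa using claimC v w g hv hw hgv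
  obtain ⟨v₀, hv₀⟩ := exists_ne (0 : V)
  -- irreducibility
  have hirr : Irreducible m := by
    rw [irreducible_iff]
    refine ⟨hm ▸ minpoly.not_isUnit _ _, ?_⟩
    intro a b hab
    have key : ∀ a b : (ZMod p)[X], m = a * b → m ∣ a → IsUnit b := by
      intro a b hab ⟨c, hc⟩
      have h1 : m * (c * b) = m * 1 := by rw [← mul_assoc, ← hc, ← hab, mul_one]
      have h2 := mul_left_cancel₀ hm0 h1
      exact IsUnit.of_mul_eq_one c (by rw [mul_comm]; exact h2)
    by_cases ha : aeval T a v₀ = 0
    · right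
      exact key a b hab (hm_of a (hall a ⟨v₀, hv₀, ha⟩))
    · left
      obtain ⟨h, hh⟩ := claimB v₀ a hv₀ ha
      have hb : aeval T b v₀ = 0 := by
        have : aeval T b v₀ = aeval T (h * m) v₀ := by
          conv_lhs => rw [← hh]
          rw [← Module.End.mul_apply, ← map_mul, hab]
          congr 2
          ring
        rw [this, map_mul, hmT, mul_zero]
        rfl
      exact key b a (by rw [hab, mul_comm]) (hm_of b (hall b ⟨v₀, hv₀, hb⟩))
  -- degree of m
  have hcop : p.Coprime q := (Nat.coprime_primes hp.out hq.out).mpr hpq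
  have hdeg : m.natDegree = orderOf (p : ZMod q) := by
    have h1 := natDegree_of_dvd_cyclotomic_of_irreducible (K := ZMod p) (p := p) (f := 1) (n := q)
      (by rw [ZMod.card, pow_one]) hcop hm_dvd hirr
    rw [h1, ← orderOf_units, ZMod.coe_unitOfCoprime]
    simp
  have hdeg_le : m.natDegree ≤ q - 1 := by
    have := natDegree_le_of_dvd hm_dvd (cyclotomic_ne_zero q _)
    rwa [natDegree_cyclotomic, Nat.totient_prime hq.out] at this
  -- lower bound
  have hdeg_ge : q - 1 ≤ m.natDegree := by
    have : Fact (Irreducible m) := ⟨hirr⟩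
    obtain ⟨ζ, hζ⟩ : ∃ ζ : AdjoinRoot m, ζ = AdjoinRoot.root m := ⟨_, rfl⟩
    have hroot : aeval ζ m = 0 := by
      rw [hζ, aeval_def]; exact AdjoinRoot.eval₂_root m
    have hζΦ : aeval ζ (cyclotomic q (ZMod p)) = 0 := by
      obtain ⟨c, hc⟩ := hm_dvd
      rw [hc, map_mul, hroot, zero_mul]
    have : CharP (AdjoinRoot m) p :=
      charP_of_injective_algebraMap (algebraMap (ZMod p) (AdjoinRoot m)).injective p
    have : NeZero ((q : ℕ) : AdjoinRoot m) := by
      refine ⟨fun h0 => hpq ?_⟩
      have := (CharP.cast_eq_zero_iff (AdjoinRoot m) p q).mp h0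
      exact (Nat.prime_dvd_prime_iff_eq hp.out hq.out).mp this
    have hprim : IsPrimitiveRoot ζ q := by
      rw [← isRoot_cyclotomic_iff]
      rw [IsRoot.def, ← map_cyclotomic q (algebraMap (ZMod p) (AdjoinRoot m)), eval_map,
        ← aeval_def]
      exact hζΦ
    have hroots : ∀ j, 0 < j → j < q → aeval (ζ ^ j) m = 0 := by
      intro j hj0 hjq
      obtain ⟨θ, hsurj, hθ⟩ := H2 j hj0 hjq
      have h1 := intertwine_aeval (R := ZMod p) T (T ^ j) θ hθ m
      rw [hmT, mul_zero] at h1
      have h2 : aeval (T ^ j) m = 0 := by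
        ext w
        obtain ⟨u, rfl⟩ := hsurj w
        have := congrArg (fun f : Module.End (ZMod p) V => f u) h1
        simpa using this.symm
      have h3 : aeval T (m.comp (X ^ j)) = 0 := by
        rw [aeval_comp]; simpa using h2
      obtain ⟨c, hc⟩ := hm_of _ h3
      have h4 : aeval ζ (m.comp (X ^ j)) = 0 := by rw [hc, map_mul, hroot, zero_mul]
      rw [aeval_comp] at h4
      simpa using h4
    have hsub : ((Finset.Ico 1 q).image (fun j => ζ ^ j)).val ⊆
        (m.map (algebraMap (ZMod p) (AdjoinRoot m))).roots := by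
      intro z hz
      rw [Finset.mem_val, Finset.mem_image] at hz
      obtain ⟨j, hj, rfl⟩ := hz
      rw [Finset.mem_Ico] at hj
      rw [mem_roots (map_ne_zero hm0), IsRoot.def, eval_map, ← aeval_def]
      exact hroots j (by omega) hj.2
    have h5 := card_le_degree_of_subset_roots hsub
    rw [natDegree_map, Finset.card_image_of_injOn] at h5
    · simpa using h5
    · intro i hi j hj hij
      rw [Finset.coe_Ico, Set.mem_Ico] at hi hj
      exact hprim.pow_inj hi.2 hj.2 hij
  omega

end LA

section Mul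

variable {p q : ℕ} [hp : Fact p.Prime] [hq : Fact q.Prime]

/-- automorphisms of `A` as `ZMod p`-linear endomorphisms of `Additive A`. -/
noncomputable def toLin (p : ℕ) (A : Type*) [CommGroup A] [Module (ZMod p) (Additive A)] :
    MulAut A →* Module.End (ZMod p) (Additive A) where
  toFun θ := (MonoidHom.toAdditive θ.toMonoidHom).toZModLinearMap p
  map_one' := LinearMap.ext fun x => by
    rw [AddMonoidHom.coe_toZModLinearMap]; rfl
  map_mul' a b := LinearMap.ext fun x => by
    rw [AddMonoidHom.coe_toZModLinearMap, Module.End.mul_apply,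
      AddMonoidHom.coe_toZModLinearMap, AddMonoidHom.coe_toZModLinearMap]; rfl

theorem toLin_apply (p : ℕ) (A : Type*) [CommGroup A] [Module (ZMod p) (Additive A)]
    (θ : MulAut A) (x : Additive A) :
    toLin p A θ x = Additive.ofMul (θ (Additive.toMul x)) := by
  show (AddMonoidHom.toZModLinearMap p (MonoidHom.toAdditive θ.toMonoidHom)) x = _
  rw [AddMonoidHom.coe_toZModLinearMap]; rfl

/-- main linear algebra lemma, multiplicative form. -/
theorem primitive_root_mul (hpq : p ≠ q) {A : Type*} [CommGroup A] [Finite A] [Nontrivial A]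
    (hexp : ∀ a : A, a ^ p = 1) (T : MulAut A) (hT : T ^ q = 1) (hfpf : ∀ a, T a = a → a = 1)
    (H1 : ∀ v w : A, v ≠ 1 → w ≠ 1 → ∃ (θ : MulAut A) (j : ℕ), θ v = w ∧ θ * T = T ^ j * θ)
    (H2 : ∀ j, 0 < j → j < q → ∃ θ : MulAut A, θ * T = T ^ j * θ) :
    orderOf (p : ZMod q) = q - 1 := by
  have hexp' : ∀ x : Additive A, p • x = 0 := fun x => by
    show Additive.ofMul ((Additive.toMul x) ^ p) = 0
    rw [hexp]; rfl
  letI : Module (ZMod p) (Additive A) := AddCommGroup.zmodModule (n := p) hexp'
  obtain ⟨L, hLdef⟩ : ∃ L, L = toLin p A := ⟨_, rfl⟩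
  have hL : ∀ (θ : MulAut A) (x : Additive A), L θ x = Additive.ofMul (θ (Additive.toMul x)) :=
    fun θ x => by rw [hLdef]; exact toLin_apply p A θ x
  refine primitive_root_add hpq (L T) (by rw [← map_pow, hT, map_one]) ?_ ?_ ?_
  · intro v hv
    rw [hL] at hv
    have h1 : T (Additive.toMul v) = Additive.toMul v := by
      have := congrArg Additive.toMul hv
      simpa using this
    have h2 := hfpf _ h1
    have : v = Additive.ofMul (Additive.toMul v) := rfl
    rw [this, h2]; rfl
  · intro v w hv hw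
    have hv' : Additive.toMul v ≠ 1 := fun h => hv (by
      have : v = Additive.ofMul (Additive.toMul v) := rfl
      rw [this, h]; rfl)
    have hw' : Additive.toMul w ≠ 1 := fun h => hw (by
      have : w = Additive.ofMul (Additive.toMul w) := rfl
      rw [this, h]; rfl)
    obtain ⟨θ, j, hθ1, hθ2⟩ := H1 _ _ hv' hw'
    refine ⟨L θ, j, ?_, ?_, ?_⟩
    · intro x y hxy
      rw [hL, hL] at hxy
      have := θ.injective (Additive.ofMul.injective hxy)
      exact Additive.toMul.injective this
    · rw [hL, hθ1]; rfl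
    · rw [← map_pow, ← map_mul, ← map_mul, hθ2]
  · intro j hj0 hjq
    obtain ⟨θ, hθ⟩ := H2 j hj0 hjq
    refine ⟨L θ, ?_, ?_⟩
    · intro y
      obtain ⟨a, ha⟩ := θ.surjective (Additive.toMul y)
      exact ⟨Additive.ofMul a, by rw [hL]; simp [ha]⟩
    · rw [← map_pow, ← map_mul, ← map_mul, hθ]

end Mul

end Cfsg.Agent.helper20.LM
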