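import Mathlib
import Cfsg.Agent.Lib_helper20_LM1

set_option autoImplicit false
set_option linter.style.haveILetI false

/-! Field structure `F_p[X]/(f)` on a module killed by an irreducible `f(T)`, and the
automorphisms it provides (for S4081, converse direction). -/

namespace Cfsg.Agent.helper20.LM

open Polynomial

section FieldStruct

variable {p : ℕ} [hp : Fact p.Prime] {f : (ZMod p)[X]}

/-- the ring hom `F_p[X]/(f) → End V` given by an operator `A` with `f(A) = 0`. -/
noncomputable def actHom {V : Type*} [AddCommGroup V] [Module (ZMod p) V]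
    (A : Module.End (ZMod p) V) (hA : aeval A f = 0) : AdjoinRoot f →+* Module.End (ZMod p) V :=
  Ideal.Quotient.lift (Ideal.span {f})
    ((aeval A : (ZMod p)[X] →ₐ[ZMod p] Module.End (ZMod p) V) : (ZMod p)[X] →+* _) (by
      intro a ha
      rw [Ideal.mem_span_singleton] at ha
      obtain ⟨c, rfl⟩ := ha
      simp [hA])

theorem actHom_root {V : Type*} [AddCommGroup V] [Module (ZMod p) V]
    (A : Module.End (ZMod p) V) (hA : aeval A f = 0) : actHom A hA (AdjoinRoot.root f) = A := by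
  show Ideal.Quotient.lift _ _ _ (Ideal.Quotient.mk _ X) = A
  rw [Ideal.Quotient.lift_mk]
  simp

theorem twist_equiv [Fact (Irreducible f)] (hmonic : f.Monic)
    {V₁ V₂ : Type*} [AddCommGroup V₁] [Module (ZMod p) V₁] [AddCommGroup V₂] [Module (ZMod p) V₂]
    [Finite V₁] [Finite V₂] (hcard : Nat.card V₁ = Nat.card V₂)
    (A : Module.End (ZMod p) V₁) (B : Module.End (ZMod p) V₂)
    (hA : aeval A f = 0) (hB : aeval B f = 0) :
    ∃ θ : V₁ ≃+ V₂, ∀ v, θ (A v) = B (θ v) := by
  letI m1 : Module (AdjoinRoot f) V₁ := Module.compHom V₁ (actHom A hA)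
  letI m2 : Module (AdjoinRoot f) V₂ := Module.compHom V₂ (actHom B hB)
  have hs1 : ∀ (c : AdjoinRoot f) (v : V₁), c • v = actHom A hA c v := fun _ _ => rfl
  have hs2 : ∀ (c : AdjoinRoot f) (v : V₂), c • v = actHom B hB c v := fun _ _ => rfl
  haveI := hmonic.finite_adjoinRoot
  haveI : Finite (AdjoinRoot f) := Module.finite_of_finite (ZMod p)
  have hF : 2 ≤ Nat.card (AdjoinRoot f) := Finite.one_lt_card
  have h1 := Module.natCard_eq_pow_finrank (K := AdjoinRoot f) (V := V₁)
  have h2 := Module.natCard_eq_pow_finrank (K := AdjoinRoot f) (V := V₂)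
  have h3 : Module.finrank (AdjoinRoot f) V₁ = Module.finrank (AdjoinRoot f) V₂ := by
    apply Nat.pow_right_injective hF
    show Nat.card (AdjoinRoot f) ^ _ = Nat.card (AdjoinRoot f) ^ _
    rw [← h1, ← h2, hcard]
  let e := LinearEquiv.ofFinrankEq V₁ V₂ h3
  refine ⟨e.toAddEquiv, fun v => ?_⟩
  have hAv : A v = (AdjoinRoot.root f) • v := by rw [hs1, actHom_root]
  have hBv : B (e v) = (AdjoinRoot.root f) • (e v) := by rw [hs2, actHom_root]
  show e (A v) = B (e v)
  rw [hAv, hBv, e.map_smul]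

theorem transitive_commuting [Fact (Irreducible f)]
    {V : Type*} [AddCommGroup V] [Module (ZMod p) V] [Finite V]
    (A : Module.End (ZMod p) V) (hA : aeval A f = 0) (v w : V) (hv : v ≠ 0) (hw : w ≠ 0) :
    ∃ θ : V ≃+ V, θ v = w ∧ ∀ u, θ (A u) = A (θ u) := by
  letI m1 : Module (AdjoinRoot f) V := Module.compHom V (actHom A hA)
  have hs1 : ∀ (c : AdjoinRoot f) (v : V), c • v = actHom A hA c v := fun _ _ => rfl
  have hex : ∀ v : V, v ≠ 0 → ∃ g : Module.Dual (AdjoinRoot f) V, g v ≠ 0 := by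
    intro v hv
    by_contra h
    push Not at h
    exact hv ((Module.forall_dual_apply_eq_zero_iff (AdjoinRoot f) v).mp h)
  obtain ⟨g₁, hg₁⟩ := hex v hv
  obtain ⟨g₂, hg₂⟩ := hex w hw
  obtain ⟨g, hgv, hgw⟩ : ∃ g : Module.Dual (AdjoinRoot f) V, g v ≠ 0 ∧ g w ≠ 0 := by
    by_cases h1 : g₁ w = 0
    · by_cases h2 : g₂ v = 0
      · refine ⟨g₁ + g₂, ?_, ?_⟩
        · rw [LinearMap.add_apply, h2, add_zero]; exact hg₁
        · rw [LinearMap.add_apply, h1, zero_add]; exact hg₂
      · exact ⟨g₂, h2, hg₂⟩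
    · exact ⟨g₁, hg₁, h1⟩
  obtain ⟨g', hg'⟩ : ∃ g' : Module.Dual (AdjoinRoot f) V, g' = (g v)⁻¹ • g := ⟨_, rfl⟩
  have h1 : g' v = 1 := by rw [hg', LinearMap.smul_apply, smul_eq_mul, inv_mul_cancel₀ hgv]
  have h2 : g' w ≠ 0 := by
    rw [hg', LinearMap.smul_apply, smul_eq_mul]
    exact mul_ne_zero (inv_ne_zero hgv) hgw
  obtain ⟨θ, hθ⟩ : ∃ θ : V →ₗ[AdjoinRoot f] V, θ = LinearMap.id + g'.smulRight (w - v) := ⟨_, rfl⟩
  have hθu : ∀ u, θ u = u + g' u • (w - v) := fun u => by rw [hθ]; simp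
  have hθv : θ v = w := by rw [hθu, h1, one_smul]; abel
  have hinj : Function.Injective θ := by
    rw [← LinearMap.ker_eq_bot, LinearMap.ker_eq_bot']
    intro u hu
    rw [hθu] at hu
    have h3 := congrArg g' hu
    rw [map_add, map_smul, map_sub, h1, map_zero, smul_eq_mul] at h3
    have h4 : g' u * g' w = 0 := by linear_combination h3
    have h5 : g' u = 0 := (mul_eq_zero.mp h4).resolve_right h2
    rw [h5, zero_smul, add_zero] at hu
    exact hu
  have hsurj : Function.Surjective θ := Finite.injective_iff_surjective.mp hinj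
  refine ⟨AddEquiv.ofBijective θ.toAddMonoidHom ⟨hinj, hsurj⟩, hθv, fun u => ?_⟩
  have hAu : ∀ u, A u = (AdjoinRoot.root f) • u := fun u => by rw [hs1, actHom_root]
  show θ (A u) = A (θ u)
  rw [hAu, hAu, θ.map_smul]

end FieldStruct

section Mul2

variable {p q : ℕ} [hp : Fact p.Prime] [hq : Fact q.Prime]

theorem toLin_cyclotomic {A : Type*} [CommGroup A] [Module (ZMod p) (Additive A)]
    (T : MulAut A) (hT : T ^ q = 1) (hTf : ∀ a, T a = a → a = 1) :
    aeval (toLin p A T) (cyclotomic q (ZMod p)) = 0 := by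
  refine aeval_cyclotomic_eq_zero (toLin p A T) (by rw [← map_pow, hT, map_one]) ?_
  intro v hv
  rw [toLin_apply] at hv
  have h1 : T (Additive.toMul v) = Additive.toMul v := by
    have := congrArg Additive.toMul hv
    simpa using this
  have h2 := hTf _ h1
  have : v = Additive.ofMul (Additive.toMul v) := rfl
  rw [this, h2]; rfl

theorem twist_mul (hirr : Irreducible (cyclotomic q (ZMod p))) {A : Type*} [CommGroup A]
    [Finite A] (hexp : ∀ a : A, a ^ p = 1) (T S : MulAut A)
    (hT : T ^ q = 1) (hTf : ∀ a, T a = a → a = 1)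
    (hS : S ^ q = 1) (hSf : ∀ a, S a = a → a = 1) : ∃ θ : MulAut A, θ * T = S * θ := by
  have hexp' : ∀ x : Additive A, p • x = 0 := fun x => by
    show Additive.ofMul ((Additive.toMul x) ^ p) = 0
    rw [hexp]; rfl
  letI : Module (ZMod p) (Additive A) := AddCommGroup.zmodModule (n := p) hexp'
  haveI : Fact (Irreducible (cyclotomic q (ZMod p))) := ⟨hirr⟩
  obtain ⟨θ, hθ⟩ := twist_equiv (f := cyclotomic q (ZMod p)) (cyclotomic.monic q _)
    (V₁ := Additive A) (V₂ := Additive A) rfl (toLin p A T) (toLin p A S)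
    (toLin_cyclotomic T hT hTf) (toLin_cyclotomic S hS hSf)
  refine ⟨MulEquiv.toAdditive.symm θ, ?_⟩
  ext a
  have h1 := hθ (Additive.ofMul a)
  rw [toLin_apply, toLin_apply] at h1
  have h2 := congrArg Additive.toMul h1
  simpa using h2

theorem trans_mul (hirr : Irreducible (cyclotomic q (ZMod p))) {A : Type*} [CommGroup A]
    [Finite A] (hexp : ∀ a : A, a ^ p = 1) (T : MulAut A)
    (hT : T ^ q = 1) (hTf : ∀ a, T a = a → a = 1) (v w : A) (hv : v ≠ 1) (hw : w ≠ 1) :
    ∃ θ : MulAut A, θ v = w ∧ θ * T = T * θ := by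
  have hexp' : ∀ x : Additive A, p • x = 0 := fun x => by
    show Additive.ofMul ((Additive.toMul x) ^ p) = 0
    rw [hexp]; rfl
  letI : Module (ZMod p) (Additive A) := AddCommGroup.zmodModule (n := p) hexp'
  haveI : Fact (Irreducible (cyclotomic q (ZMod p))) := ⟨hirr⟩
  have hv' : Additive.ofMul v ≠ 0 := fun h => hv (by
    have := congrArg Additive.toMul h
    simpa using this)
  have hw' : Additive.ofMul w ≠ 0 := fun h => hw (by
    have := congrArg Additive.toMul h
    simpa using this)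
  obtain ⟨θ, hθ1, hθ⟩ := transitive_commuting (f := cyclotomic q (ZMod p))
    (V := Additive A) (toLin p A T) (toLin_cyclotomic T hT hTf) _ _ hv' hw'
  refine ⟨MulEquiv.toAdditive.symm θ, ?_, ?_⟩
  · have := congrArg Additive.toMul hθ1
    simpa using this
  · ext a
    have h1 := hθ (Additive.ofMul a)
    rw [toLin_apply, toLin_apply] at h1
    have h2 := congrArg Additive.toMul h1
    simpa using h2

end Mul2

end Cfsg.Agent.helper20.LM
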