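import Mathlib

set_option autoImplicit false
set_option linter.style.haveILetI false

/-! Group-theoretic lemmas for S4081: restriction of automorphisms, conjugacy of elements acting
fixed-point-freely, extension of automorphisms from a normal complemented subgroup. -/

namespace Cfsg.Agent.helper20.LM

section Mon

variable {M : Type*} [Monoid M]

theorem intertwine_pow_monoid (T S θ : M) (h : θ * T = S * θ) (n : ℕ) :
    θ * T ^ n = S ^ n * θ := by
  induction n with
  | zero => simp
  | succ n ih => rw [pow_succ, ← mul_assoc, ih, mul_assoc, h, ← mul_assoc, ← pow_succ]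

end Mon

section Grp

variable {G : Type*} [Group G]

/-- restriction of an automorphism to an invariant subgroup. -/
def restrAut (φ : MulAut G) (P : Subgroup G) (h : ∀ u, u ∈ P ↔ φ u ∈ P) : MulAut P where
  toFun u := ⟨φ u, (h u).1 u.2⟩
  invFun u := ⟨φ.symm u, (h _).2 (by rw [MulEquiv.apply_symm_apply]; exact u.2)⟩
  left_inv u := by ext; simp
  right_inv u := by ext; simp
  map_mul' a b := by ext; simp

theorem restrAut_apply (φ : MulAut G) (P : Subgroup G) (h : ∀ u, u ∈ P ↔ φ u ∈ P) (u : P) :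
    ((restrAut φ P h u : P) : G) = φ u := rfl

/-- If `k` acts without fixed points on the normal subgroup `P`, every element of the coset
`P k` is a `P`-conjugate of `k`. -/
theorem conj_of_fpf [Finite G] (P : Subgroup G) [hn : P.Normal] (k : G)
    (hk : ∀ y ∈ P, k * y * k⁻¹ = y → y = 1) (u : G) (hu : u ∈ P) :
    ∃ y ∈ P, u * k = y * k * y⁻¹ := by
  let c : P → P := fun y =>
    ⟨(y : G) * (k * (y : G)⁻¹ * k⁻¹), P.mul_mem y.2 (hn.conj_mem _ (P.inv_mem y.2) k)⟩
  have hinj : Function.Injective c := by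
    intro y y' h
    have h1 : (y : G) * (k * (y : G)⁻¹ * k⁻¹) = y' * (k * (y' : G)⁻¹ * k⁻¹) :=
      congrArg Subtype.val h
    have h2 : (y : G) * k * (y : G)⁻¹ = y' * k * (y' : G)⁻¹ := by
      have := congrArg (· * k) h1
      simpa [mul_assoc] using this
    have h4 : (y' : G)⁻¹ * y * k = k * ((y' : G)⁻¹ * y) := by
      calc (y' : G)⁻¹ * y * k = (y' : G)⁻¹ * ((y : G) * k * (y : G)⁻¹) * y := by group
        _ = (y' : G)⁻¹ * ((y' : G) * k * (y' : G)⁻¹) * y := by rw [h2]
        _ = k * ((y' : G)⁻¹ * y) := by group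
    have h3 : k * ((y' : G)⁻¹ * y) * k⁻¹ = (y' : G)⁻¹ * y := by
      rw [← h4]; group
    have h5 := hk _ (P.mul_mem (P.inv_mem y'.2) y.2) h3
    ext
    exact (inv_mul_eq_one.mp h5).symm
  obtain ⟨y, hy⟩ := (Finite.injective_iff_surjective.mp hinj) ⟨u, hu⟩
  refine ⟨y, y.2, ?_⟩
  have h1 : (y : G) * (k * (y : G)⁻¹ * k⁻¹) = u := congrArg Subtype.val hy
  rw [← h1]; group

theorem complement_of_card [Finite G] (P : Subgroup G) (x : G) (q : ℕ) (hx : orderOf x = q)
    (hcard : Nat.card G = Nat.card P * q) (hcop : (Nat.card P).Coprime q) :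
    P.IsComplement' (Subgroup.zpowers x) :=
  Subgroup.isComplement'_of_coprime (by rw [Nat.card_zpowers, hx, hcard])
    (by rw [Nat.card_zpowers, hx]; exact hcop)

theorem decomp_of_complement [Finite G] (P : Subgroup G) (x : G)
    (hc : P.IsComplement' (Subgroup.zpowers x)) (g : G) :
    ∃ u ∈ P, ∃ i : ℕ, g = u * x ^ i := by
  obtain ⟨⟨u, k⟩, h, -⟩ := (Subgroup.isComplement_iff_existsUnique.mp hc) g
  have hk : (k : G) ∈ Submonoid.powers x := mem_powers_iff_mem_zpowers.mpr k.2
  obtain ⟨i, hi⟩ := (Submonoid.mem_powers_iff _ _).mp hk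
  exact ⟨u, u.2, i, by rw [hi]; exact h.symm⟩

theorem extend_aut [Finite G] (P : Subgroup G) [hn : P.Normal] (x : G)
    (hc : P.IsComplement' (Subgroup.zpowers x))
    (θ : MulAut P) (j : ℕ) (hj : (orderOf x).Coprime j)
    (hθ : θ * MulAut.conjNormal x = (MulAut.conjNormal x) ^ j * θ) :
    ∃ φ : MulAut G, φ x = x ^ j ∧ ∀ u : P, φ u = θ u := by
  classical
  have key : ∀ (k : Subgroup.zpowers x) (u : P),
      ((θ (MulAut.conjNormal (k : G) u) : P) : G) = (k : G) ^ j * θ u * ((k : G) ^ j)⁻¹ := by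
    intro k u
    have hk : (k : G) ∈ Submonoid.powers x := mem_powers_iff_mem_zpowers.mpr k.2
    obtain ⟨i, hi⟩ := (Submonoid.mem_powers_iff _ _).mp hk
    have h1 := intertwine_pow_monoid _ _ _ hθ i
    have h2 := congrArg (fun f : MulAut P => ((f u : P) : G)) h1
    simp only [MulAut.mul_apply] at h2
    rw [← hi, map_pow, h2, ← pow_mul, ← map_pow, MulAut.conjNormal_apply, pow_mul, pow_right_comm]
  let fg : Subgroup.zpowers x →* G :=
    { toFun := fun k => (k : G) ^ j
      map_one' := by simp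
      map_mul' := fun a b => by
        have hcomm : Commute (a : G) (b : G) := by
          obtain ⟨m, hm⟩ := Subgroup.mem_zpowers_iff.mp a.2
          obtain ⟨n, hn⟩ := Subgroup.mem_zpowers_iff.mp b.2
          rw [← hm, ← hn]; exact (Commute.refl x).zpow_zpow m n
        show ((a * b : Subgroup.zpowers x) : G) ^ j = _
        rw [Subgroup.coe_mul, hcomm.mul_pow] }
  let fn : P →* G := P.subtype.comp θ.toMonoidHom
  obtain ⟨ψ, hψ1, hψ2⟩ : ∃ ψ : G →* G, (∀ u : P, ψ u = θ u) ∧
      (∀ k : Subgroup.zpowers x, ψ k = (k : G) ^ j) := by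
    let e := SemidirectProduct.mulEquivSubgroup hc
    refine ⟨(SemidirectProduct.lift fn fg ?_).comp e.symm.toMonoidHom, ?_, ?_⟩
    · intro k
      ext u
      simp only [MonoidHom.comp_apply, MulEquiv.coe_toMonoidHom, MulAut.conj_apply]
      exact key k u
    · intro u
      have : e.symm (u : G) = SemidirectProduct.inl u := by
        rw [MulEquiv.symm_apply_eq]; simp [e]
      simp [this, fn]
    · intro k
      have : e.symm (k : G) = SemidirectProduct.inr k := by
        rw [MulEquiv.symm_apply_eq]; simp [e]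
      simp [this, fg]
  have hdisj : Disjoint P (Subgroup.zpowers x) := hc.disjoint
  have hinj : Function.Injective ψ := by
    rw [injective_iff_map_eq_one]
    intro g hg
    obtain ⟨⟨u, k⟩, h, -⟩ := (Subgroup.isComplement_iff_existsUnique.mp hc) g
    simp only at h
    rw [← h, map_mul, hψ1, hψ2] at hg
    -- k^j ∈ P ∩ K
    have h1 : (k : G) ^ j ∈ P := by
      have : (k : G) ^ j = ((θ u : P) : G)⁻¹ := eq_inv_of_mul_eq_one_right hg
      rw [this]; exact P.inv_mem (θ u).2
    have h2 : (k : G) ^ j ∈ Subgroup.zpowers x := Subgroup.pow_mem _ k.2 j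
    have h3 : (k : G) ^ j = 1 := by
      have := (Subgroup.disjoint_def.mp hdisj) h1 h2
      exact this
    have h4 : (k : G) = 1 := by
      have hd1 : orderOf (k : G) ∣ j := orderOf_dvd_of_pow_eq_one h3
      have hd2 : orderOf (k : G) ∣ orderOf x := orderOf_dvd_of_mem_zpowers k.2
      have := Nat.dvd_gcd hd2 hd1
      rw [hj.gcd_eq_one, Nat.dvd_one] at this
      exact orderOf_eq_one_iff.mp this
    rw [h3, mul_one] at hg
    have h5 : θ u = 1 := Subtype.ext hg
    have h6 : u = 1 := by
      have := congrArg θ.symm h5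
      simpa using this
    rw [← h, h4, h6]; simp
  refine ⟨MulEquiv.ofBijective ψ ⟨hinj, Finite.injective_iff_surjective.mp hinj⟩, ?_, ?_⟩
  · have := hψ2 ⟨x, Subgroup.mem_zpowers x⟩
    exact this
  · intro u
    exact hψ1 u

end Grp

end Cfsg.Agent.helper20.LM
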