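import Mathlib

set_option autoImplicit false

namespace Cfsg.Agent.helper4

/-- A finite `p`-group acting linearly on a vector space over a field of characteristic `p` fixes a
non-zero vector in every non-zero invariant subspace. -/
theorem exists_fixed_vector_of_isPGroup {p : ℕ} [Fact p.Prime] {K V : Type*} [Field K] [CharP K p]
    [AddCommGroup V] [Module K V] {P : Type*} [Group P] [Finite P] (hP : IsPGroup p P)
    (ρ : P →* (V →ₗ[K] V)) (W : Submodule K V) (hW : ∀ g, ∀ w ∈ W, ρ g w ∈ W) (hne : W ≠ ⊥) :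
    ∃ w ∈ W, w ≠ 0 ∧ ∀ g, ρ g w = w := by
  classical
  haveI : Fintype P := Fintype.ofFinite P
  obtain ⟨f, hfW, hf0⟩ := Submodule.exists_mem_ne_zero_of_ne_bot hne
  let ι : ZMod p →+* K := ZMod.castHom (dvd_refl p) K
  let Φ : (P → ZMod p) →+ V :=
    { toFun := fun c => ∑ g, ι (c g) • ρ g f
      map_zero' := by simp
      map_add' := by
        intro c d
        simp only [Pi.add_apply, map_add, add_smul, Finset.sum_add_distrib] }
  have hΦ : ∀ c, Φ c = ∑ g, ι (c g) • ρ g f := fun c => rfl
  let S : AddSubgroup V := Φ.range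
  have hSW : ∀ v ∈ S, v ∈ W := by
    rintro v ⟨c, rfl⟩
    rw [hΦ]
    exact W.sum_mem (fun g _ => W.smul_mem _ (hW g f hfW))
  have hSinv : ∀ (h : P), ∀ v ∈ S, ρ h v ∈ S := by
    rintro h v ⟨c, rfl⟩
    refine ⟨fun g => c (h⁻¹ * g), ?_⟩
    rw [hΦ, hΦ, map_sum]
    rw [← Equiv.sum_comp (Equiv.mulLeft h) (fun g => ι (c (h⁻¹ * g)) • (ρ g) f)]
    apply Finset.sum_congr rfl
    intro g _
    simp only [Equiv.coe_mulLeft, inv_mul_cancel_left, map_smul, map_mul, Module.End.mul_apply]
  letI : MulAction P S :=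
    { smul := fun h v => ⟨ρ h v.1, hSinv h v.1 v.2⟩
      one_smul := by
        rintro ⟨v, hv⟩
        apply Subtype.ext
        show ρ 1 v = v
        rw [map_one]; rfl
      mul_smul := by
        rintro g h ⟨v, hv⟩
        apply Subtype.ext
        show ρ (g * h) v = ρ g (ρ h v)
        rw [map_mul]; rfl }
  have hsmul : ∀ (h : P) (v : S), ((h • v : S) : V) = ρ h v.1 := fun h v => rfl
  haveI : Finite S := Finite.of_surjective Φ.rangeRestrict Φ.rangeRestrict_surjective
  have hfS : f ∈ S := by
    refine ⟨Pi.single 1 1, ?_⟩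
    rw [hΦ, Finset.sum_eq_single 1]
    · simp
    · intro g _ hg
      rw [Pi.single_eq_of_ne hg]; simp
    · intro h; exact absurd (Finset.mem_univ _) h
  have hcard : p ∣ Nat.card S := by
    have h1 : Nat.card S ∣ Nat.card (P → ZMod p) := AddSubgroup.card_range_dvd Φ
    have h2 : Nat.card (P → ZMod p) = p ^ Fintype.card P := by
      rw [Nat.card_eq_fintype_card, Fintype.card_fun, ZMod.card]
    rw [h2] at h1
    obtain ⟨j, -, hj⟩ := (Nat.dvd_prime_pow Fact.out).mp h1
    have hj0 : j ≠ 0 := by
      rintro rfl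
      rw [pow_zero] at hj
      have hsub : Subsingleton S := (Nat.card_eq_one_iff_unique.mp hj).1
      have := congrArg Subtype.val (Subsingleton.elim (⟨f, hfS⟩ : S) 0)
      exact hf0 this
    rw [hj]
    exact dvd_pow_self p hj0
  have h0 : (0 : S) ∈ MulAction.fixedPoints P S := by
    intro h
    apply Subtype.ext
    rw [hsmul]
    simp
  obtain ⟨b, hb, hb0⟩ := hP.exists_fixed_point_of_prime_dvd_card_of_fixed_point S hcard h0
  refine ⟨b.1, hSW _ b.2, ?_, ?_⟩
  · intro h
    apply hb0
    apply Subtype.ext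
    rw [h]; rfl
  · intro g
    have := hb g
    rw [← hsmul, this]

end Cfsg.Agent.helper4

namespace Cfsg.Agent.helper4

/-- If a finite group acts transitively on a set of `p`-power size, so does each of its Sylow
`p`-subgroups. -/
theorem sylow_isPretransitive_of_card_prime_pow {p f : ℕ} [Fact p.Prime] {G Ω : Type*} [Group G]
    [Finite G] [MulAction G Ω] [MulAction.IsPretransitive G Ω] (hcard : Nat.card Ω = p ^ f)
    (P : Sylow p G) : MulAction.IsPretransitive P Ω := by
  classical
  have hp : p.Prime := Fact.out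
  haveI : Finite Ω := Nat.finite_of_card_ne_zero (by rw [hcard]; exact pow_ne_zero _ hp.ne_zero)
  haveI : Nonempty Ω := by
    by_contra h
    rw [not_nonempty_iff] at h
    have : Nat.card Ω = 0 := Nat.card_of_isEmpty
    rw [hcard] at this
    exact pow_ne_zero _ hp.ne_zero this
  obtain ⟨ω⟩ := ‹Nonempty Ω›
  -- G
  have hG : Nat.card (MulAction.orbit G ω) * Nat.card (MulAction.stabilizer G ω) = Nat.card G := by
    rw [← Nat.card_prod]; exact Nat.card_congr (MulAction.orbitProdStabilizerEquivGroup G ω)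
  rw [MulAction.orbit_eq_univ, Nat.card_congr (Equiv.Set.univ Ω), hcard] at hG
  -- P
  have hPc : Nat.card (MulAction.orbit P ω) * Nat.card (MulAction.stabilizer P ω) = Nat.card P := by
    rw [← Nat.card_prod]; exact Nat.card_congr (MulAction.orbitProdStabilizerEquivGroup P ω)
  rw [Sylow.card_eq_multiplicity] at hPc
  set n := (Nat.card G).factorization p with hn
  -- stabilizer divisibility
  let φ : MulAction.stabilizer P ω →* MulAction.stabilizer G ω :=
    { toFun := fun g => ⟨g.1.1, by
        have := g.2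
        rw [MulAction.mem_stabilizer_iff] at this ⊢
        exact this⟩
      map_one' := rfl
      map_mul' := fun _ _ => rfl }
  have hφ : Function.Injective φ := by
    intro a b hab
    apply Subtype.ext
    apply Subtype.ext
    exact congrArg (fun x : MulAction.stabilizer G ω => (x : G)) hab
  have hdvd : Nat.card (MulAction.stabilizer P ω) ∣ Nat.card (MulAction.stabilizer G ω) :=
    Subgroup.card_dvd_of_injective φ hφ
  have hdvd2 : Nat.card (MulAction.stabilizer P ω) ∣ p ^ n := Dvd.intro_left _ hPc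
  obtain ⟨j, hjn, hj⟩ := (Nat.dvd_prime_pow hp).mp hdvd2
  rw [hj] at hdvd hPc
  have hfj : f + j ≤ n := by
    have h1 : p ^ (f + j) ∣ Nat.card G := by
      rw [← hG, pow_add]
      exact Nat.mul_dvd_mul_left _ hdvd
    exact (hp.pow_dvd_iff_le_factorization Nat.card_pos.ne').mp h1
  have horb : Nat.card (MulAction.orbit P ω) = p ^ (n - j) := by
    have h2 : p ^ n = p ^ (n - j) * p ^ j := by rw [← pow_add]; congr 1; omega
    rw [h2] at hPc
    exact Nat.eq_of_mul_eq_mul_right (pow_pos hp.pos j) hPc
  have huniv : MulAction.orbit P ω = Set.univ := by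
    apply Set.eq_of_subset_of_ncard_le (Set.subset_univ _) _ Set.finite_univ
    rw [Set.ncard_univ, hcard, ← Nat.card_coe_set_eq, horb]
    exact Nat.pow_le_pow_right hp.pos (by omega)
  constructor
  intro x y
  have hx : x ∈ MulAction.orbit P ω := by rw [huniv]; trivial
  have hy : y ∈ MulAction.orbit P ω := by rw [huniv]; trivial
  obtain ⟨g, rfl⟩ := hx
  obtain ⟨h, rfl⟩ := hy
  exact ⟨h * g⁻¹, by rw [mul_smul, inv_smul_smul]⟩

end Cfsg.Agent.helper4
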