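import Mathlib
import Cfsg.Agent.Lib_helper20_DerLen
import Cfsg.Agent.Lib_helper4_PFix

set_option autoImplicit false
set_option linter.unusedSectionVars false
set_option linter.unusedVariables false
set_option linter.style.longLine false
set_option linter.style.haveILetI false

/-!
Derived length of finite `p`-groups of linear maps, part 1: general set-up (`Inv`, `Triv`) and the
unipotent case (characteristic `p`) (helper20).
-/

namespace Cfsg.Agent.helper20.LinDL

open Cfsg.Agent.helper20.DerLen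
open scoped commutatorElement

variable {K V P : Type*} [Field K] [AddCommGroup V] [Module K V] [Group P]
variable (ρ : P →* Module.End K V)

/-- `W` is invariant under `T`. -/
def Inv (T : Subgroup P) (W : Submodule K V) : Prop := ∀ g ∈ T, ∀ w ∈ W, ρ g w ∈ W

/-- `T` acts trivially on `W`. -/
def Triv (T : Subgroup P) (W : Submodule K V) : Prop := ∀ g ∈ T, ∀ w ∈ W, ρ g w = w

theorem rho_mul_apply (g h : P) (v : V) : ρ (g * h) v = ρ g (ρ h v) := by
  rw [map_mul]; rfl

theorem rho_one_apply (v : V) : ρ 1 v = v := by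
  rw [map_one]; rfl

theorem rho_inv_apply (g : P) (v : V) : ρ g⁻¹ (ρ g v) = v := by
  rw [← rho_mul_apply, inv_mul_cancel, rho_one_apply]

theorem rho_apply_inv (g : P) (v : V) : ρ g (ρ g⁻¹ v) = v := by
  rw [← rho_mul_apply, mul_inv_cancel, rho_one_apply]

theorem Inv.mono {T S : Subgroup P} {W : Submodule K V} (h : Inv ρ T W) (hS : S ≤ T) :
    Inv ρ S W := fun g hg w hw => h g (hS hg) w hw

theorem Triv.mono {T S : Subgroup P} {W : Submodule K V} (h : Triv ρ T W) (hS : S ≤ T) :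
    Triv ρ S W := fun g hg w hw => h g (hS hg) w hw

theorem commutator_self_le (H : Subgroup P) : ⁅H, H⁆ ≤ H := by
  rw [Subgroup.commutator_le]
  intro a ha b hb
  rw [commutatorElement_def]
  exact H.mul_mem (H.mul_mem (H.mul_mem ha hb) (H.inv_mem ha)) (H.inv_mem hb)

theorem dser_le_self (H : Subgroup P) (n : ℕ) : dser H n ≤ H := by
  induction n with
  | zero => exact le_refl _
  | succ n ih =>
    rw [dser_succ]
    exact (Subgroup.commutator_mono ih ih).trans (commutator_self_le H)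

theorem dser_anti (H : Subgroup P) {m n : ℕ} (h : m ≤ n) : dser H n ≤ dser H m := by
  obtain ⟨k, rfl⟩ := Nat.exists_eq_add_of_le h
  rw [← dser_add]
  exact dser_le_self _ _

/-- the socle series of `W` under `T`. -/
def soc (T : Subgroup P) (W : Submodule K V) : ℕ → Submodule K V
  | 0 => ⊥
  | i + 1 => W ⊓ ⨅ (g : P) (_ : g ∈ T), Submodule.comap (ρ g - 1) (soc T W i)

theorem soc_zero (T : Subgroup P) (W : Submodule K V) : soc ρ T W 0 = ⊥ := rfl

theorem mem_soc_succ (T : Subgroup P) (W : Submodule K V) (i : ℕ) (w : V) :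
    w ∈ soc ρ T W (i + 1) ↔ w ∈ W ∧ ∀ g ∈ T, ρ g w - w ∈ soc ρ T W i := by
  show w ∈ W ⊓ ⨅ (g : P) (_ : g ∈ T), Submodule.comap (ρ g - 1) (soc ρ T W i) ↔ _
  rw [Submodule.mem_inf]
  simp only [Submodule.mem_iInf, Submodule.mem_comap, LinearMap.sub_apply, Module.End.one_apply]

theorem soc_le (T : Subgroup P) (W : Submodule K V) (i : ℕ) : soc ρ T W i ≤ W := by
  cases i with
  | zero => exact bot_le
  | succ i => exact fun w hw => ((mem_soc_succ ρ T W i w).mp hw).1

theorem soc_inv {T : Subgroup P} {W : Submodule K V} (hinv : Inv ρ T W) (i : ℕ) :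
    Inv ρ T (soc ρ T W i) := by
  induction i with
  | zero =>
    intro g _ w hw
    rw [soc_zero, Submodule.mem_bot] at hw ⊢
    rw [hw, map_zero]
  | succ i ih =>
    intro h hh w hw
    rw [mem_soc_succ] at hw ⊢
    refine ⟨hinv h hh w hw.1, fun g hg => ?_⟩
    have h1 : h⁻¹ * g * h ∈ T := T.mul_mem (T.mul_mem (T.inv_mem hh) hg) hh
    have h2 := ih h hh _ (hw.2 _ h1)
    have e : ρ h (ρ (h⁻¹ * g * h) w - w) = ρ g (ρ h w) - ρ h w := by
      rw [map_sub, ← rho_mul_apply, ← rho_mul_apply]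
      congr 2
      group
    rwa [e] at h2

theorem soc_mono (T : Subgroup P) (W : Submodule K V) (i : ℕ) :
    soc ρ T W i ≤ soc ρ T W (i + 1) := by
  induction i with
  | zero => rw [soc_zero]; exact bot_le
  | succ i ih =>
    intro w hw
    rw [mem_soc_succ] at hw ⊢
    exact ⟨hw.1, fun g hg => ih (hw.2 g hg)⟩

section CharP

variable [Finite P] {p : ℕ} [Fact p.Prime] [CharP K p]

theorem soc_exists {T : Subgroup P} {W : Submodule K V} (hP : IsPGroup p P) (hinv : Inv ρ T W)
    (i : ℕ) (hne : soc ρ T W i ≠ W) : ∃ w ∈ soc ρ T W (i + 1), w ∉ soc ρ T W i := by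
  obtain ⟨W₀, hW₀⟩ : ∃ W₀ : Submodule K V, W₀ = soc ρ T W i := ⟨_, rfl⟩
  rw [← hW₀] at hne ⊢
  have hW₀W : W₀ ≤ W := by rw [hW₀]; exact soc_le ρ T W i
  have hW₀inv : Inv ρ T W₀ := by rw [hW₀]; exact soc_inv ρ hinv i
  have hcomap : ∀ g : T, W₀ ≤ W₀.comap (ρ (g : P)) := fun g w hw => hW₀inv g g.2 w hw
  let σ : ↥T →* Module.End K (V ⧸ W₀) :=
    { toFun := fun g => W₀.mapQ W₀ (ρ (g : P)) (hcomap g)
      map_one' := by
        apply LinearMap.ext
        intro q
        obtain ⟨v, rfl⟩ := Submodule.Quotient.mk_surjective W₀ q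
        rw [Submodule.mapQ_apply]
        simp
      map_mul' := by
        intro a b
        apply LinearMap.ext
        intro q
        obtain ⟨v, rfl⟩ := Submodule.Quotient.mk_surjective W₀ q
        rw [Module.End.mul_apply, Submodule.mapQ_apply, Submodule.mapQ_apply, Submodule.mapQ_apply]
        simp }
  have hσ : ∀ (g : T) (v : V), σ g (Submodule.Quotient.mk v) = Submodule.Quotient.mk (ρ (g : P) v) :=
    fun g v => rfl
  obtain ⟨v, hvW, hvW₀⟩ := SetLike.exists_of_lt (lt_of_le_of_ne hW₀W hne)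
  have hYinv : ∀ g : T, ∀ y ∈ W.map W₀.mkQ, σ g y ∈ W.map W₀.mkQ := by
    rintro g y ⟨w, hw, rfl⟩
    exact ⟨ρ (g : P) w, hinv g g.2 w hw, rfl⟩
  have hYne : W.map W₀.mkQ ≠ ⊥ := by
    intro h
    have h1 : W₀.mkQ v ∈ W.map W₀.mkQ := ⟨v, hvW, rfl⟩
    rw [h, Submodule.mem_bot, Submodule.mkQ_apply, Submodule.Quotient.mk_eq_zero] at h1
    exact hvW₀ h1
  obtain ⟨y, ⟨w, hwW, rfl⟩, hy0, hyfix⟩ :=
    Cfsg.Agent.helper4.exists_fixed_vector_of_isPGroup (hP.to_subgroup T) σ (W.map W₀.mkQ) hYinv hYne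
  refine ⟨w, ?_, ?_⟩
  · rw [mem_soc_succ]
    refine ⟨hwW, fun g hg => ?_⟩
    have h1 := hyfix ⟨g, hg⟩
    rw [Submodule.mkQ_apply, hσ] at h1
    rw [← hW₀]
    exact (Submodule.Quotient.eq W₀).mp h1
  · intro hw
    apply hy0
    rw [Submodule.mkQ_apply, Submodule.Quotient.mk_eq_zero]
    exact hw

theorem soc_rank [FiniteDimensional K V] {T : Subgroup P} {W : Submodule K V} (hP : IsPGroup p P)
    (hinv : Inv ρ T W) (i : ℕ) :
    soc ρ T W i = W ∨ i ≤ Module.finrank K (soc ρ T W i) := by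
  induction i with
  | zero => right; exact Nat.zero_le _
  | succ i ih =>
    rcases ih with h | h
    · left
      apply le_antisymm (soc_le ρ T W (i + 1))
      have h5 := soc_mono ρ T W i
      rw [h] at h5
      exact h5
    · by_cases hne : soc ρ T W i = W
      · left
        apply le_antisymm (soc_le ρ T W (i + 1))
        have h5 := soc_mono ρ T W i
        rw [hne] at h5
        exact h5
      · right
        obtain ⟨w, hw1, hw2⟩ := soc_exists ρ hP hinv i hne
        have hlt : soc ρ T W i < soc ρ T W (i + 1) :=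
          lt_of_le_of_ne (soc_mono ρ T W i) (fun he => hw2 (by rw [he]; exact hw1))
        have := Submodule.finrank_lt_finrank_of_lt hlt
        omega

theorem soc_eq_top [FiniteDimensional K V] {T : Subgroup P} {W : Submodule K V} (hP : IsPGroup p P)
    (hinv : Inv ρ T W) (i : ℕ) (hi : Module.finrank K W ≤ i) : soc ρ T W i = W := by
  rcases soc_rank ρ hP hinv i with h | h
  · exact h
  · exact Submodule.eq_of_le_of_finrank_le (soc_le ρ T W i) (hi.trans h)

end CharP

/-- the filtration subgroups. -/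
def filt {T : Subgroup P} {W : Submodule K V} (hinv : Inv ρ T W) (k : ℕ) : Subgroup P where
  carrier := {g | g ∈ T ∧ ∀ i, ∀ w ∈ soc ρ T W i, ρ g w - w ∈ soc ρ T W (i - k)}
  one_mem' := by
    refine ⟨T.one_mem, fun i w _ => ?_⟩
    rw [rho_one_apply, sub_self]
    exact Submodule.zero_mem _
  mul_mem' := by
    rintro a b ⟨ha, ha'⟩ ⟨hb, hb'⟩
    refine ⟨T.mul_mem ha hb, fun i w hw => ?_⟩
    have e : ρ (a * b) w - w = ρ a (ρ b w - w) + (ρ a w - w) := by
      rw [rho_mul_apply, map_sub]; abel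
    rw [e]
    exact Submodule.add_mem _ (soc_inv ρ hinv _ a ha _ (hb' i w hw)) (ha' i w hw)
  inv_mem' := by
    rintro a ⟨ha, ha'⟩
    refine ⟨T.inv_mem ha, fun i w hw => ?_⟩
    have e : ρ a⁻¹ w - w = -(ρ a⁻¹ (ρ a w - w)) := by
      rw [map_sub, rho_inv_apply]; abel
    rw [e]
    exact Submodule.neg_mem _ (soc_inv ρ hinv _ a⁻¹ (T.inv_mem ha) _ (ha' i w hw))

theorem mem_filt {T : Subgroup P} {W : Submodule K V} (hinv : Inv ρ T W) (k : ℕ) (g : P) :
    g ∈ filt ρ hinv k ↔ g ∈ T ∧ ∀ i, ∀ w ∈ soc ρ T W i, ρ g w - w ∈ soc ρ T W (i - k) := Iff.rfl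

theorem le_filt_one {T : Subgroup P} {W : Submodule K V} (hinv : Inv ρ T W) :
    T ≤ filt ρ hinv 1 := by
  intro g hg
  rw [mem_filt]
  refine ⟨hg, fun i w hw => ?_⟩
  cases i with
  | zero =>
    rw [soc_zero, Submodule.mem_bot] at hw
    rw [hw, map_zero, sub_self]
    exact Submodule.zero_mem _
  | succ i =>
    rw [mem_soc_succ] at hw
    simpa using hw.2 g hg

theorem filt_comm {T : Subgroup P} {W : Submodule K V} (hinv : Inv ρ T W) (a b : ℕ) :
    ⁅filt ρ hinv a, filt ρ hinv b⁆ ≤ filt ρ hinv (a + b) := by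
  rw [Subgroup.commutator_le]
  intro x hx y hy
  rw [mem_filt] at hx hy ⊢
  obtain ⟨hxT, hx'⟩ := hx
  obtain ⟨hyT, hy'⟩ := hy
  refine ⟨?_, fun i w hw => ?_⟩
  · rw [commutatorElement_def]
    exact T.mul_mem (T.mul_mem (T.mul_mem hxT hyT) (T.inv_mem hxT)) (T.inv_mem hyT)
  · obtain ⟨u, hu⟩ : ∃ u : V, u = ρ (x⁻¹ * y⁻¹) w := ⟨_, rfl⟩
    have huS : u ∈ soc ρ T W i := by
      rw [hu]
      exact soc_inv ρ hinv i _ (T.mul_mem (T.inv_mem hxT) (T.inv_mem hyT)) w hw
    have hw' : w = ρ (y * x) u := by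
      rw [hu, ← rho_mul_apply]
      have : y * x * (x⁻¹ * y⁻¹) = 1 := by group
      rw [this, rho_one_apply]
    have h1 : ρ ⁅x, y⁆ w = ρ (x * y) u := by
      rw [hu, ← rho_mul_apply, commutatorElement_def]
      congr 2
      group
    -- A u, B u
    have hA : ρ x u - u ∈ soc ρ T W (i - a) := hx' i u huS
    have hB : ρ y u - u ∈ soc ρ T W (i - b) := hy' i u huS
    have hAB : ρ x (ρ y u - u) - (ρ y u - u) ∈ soc ρ T W (i - b - a) := hx' _ _ hB
    have hBA : ρ y (ρ x u - u) - (ρ x u - u) ∈ soc ρ T W (i - a - b) := hy' _ _ hA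
    have e1 : i - b - a = i - (a + b) := by omega
    have e2 : i - a - b = i - (a + b) := by omega
    rw [e1] at hAB
    rw [e2] at hBA
    have e : ρ ⁅x, y⁆ w - w =
        (ρ x (ρ y u - u) - (ρ y u - u)) - (ρ y (ρ x u - u) - (ρ x u - u)) := by
      rw [h1]
      conv_lhs => rw [hw']
      rw [rho_mul_apply, rho_mul_apply, map_sub, map_sub]
      abel
    rw [e]
    exact Submodule.sub_mem _ hAB hBA

theorem dser_le_filt {T : Subgroup P} {W : Submodule K V} (hinv : Inv ρ T W) (m : ℕ) :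
    dser T m ≤ filt ρ hinv (2 ^ m) := by
  induction m with
  | zero => rw [dser_zero, pow_zero]; exact le_filt_one ρ hinv
  | succ m ih =>
    rw [dser_succ]
    refine (Subgroup.commutator_mono ih ih).trans ?_
    have : 2 ^ (m + 1) = 2 ^ m + 2 ^ m := by ring
    rw [this]
    exact filt_comm ρ hinv _ _

/-- the unipotent case: in characteristic `p`, the `m`-th derived subgroup of a `p`-group acts
trivially on every invariant subspace of dimension at most `2 ^ m`. -/
theorem unip_triv [Finite P] {p : ℕ} [Fact p.Prime] [CharP K p] [FiniteDimensional K V]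
    (hP : IsPGroup p P) {T : Subgroup P} {W : Submodule K V} (hinv : Inv ρ T W) (m : ℕ)
    (hm : Module.finrank K W ≤ 2 ^ m) : Triv ρ (dser T m) W := by
  intro g hg w hw
  have h1 := dser_le_filt ρ hinv m hg
  rw [mem_filt] at h1
  have h2 : w ∈ soc ρ T W (2 ^ m) := by
    rw [soc_eq_top ρ hP hinv (2 ^ m) hm]; exact hw
  have h3 := h1.2 _ w h2
  rw [Nat.sub_self, soc_zero, Submodule.mem_bot, sub_eq_zero] at h3
  exact h3

end Cfsg.Agent.helper20.LinDL
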