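import Mathlib
import Cfsg.Agent.Lib_helper20_LinDL1

set_option autoImplicit false
set_option linter.unusedSectionVars false
set_option linter.unusedVariables false
set_option linter.style.longLine false
set_option linter.style.haveILetI false

/-!
Derived length of finite `p`-groups of linear maps, part 2: eigenspace decompositions permuted by the
group (helper20).
-/

namespace Cfsg.Agent.helper20.LinDL

open Cfsg.Agent.helper20.DerLen
open scoped commutatorElement
open Polynomial

section LinAlg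

variable {K V : Type*} [Field K] [AddCommGroup V] [Module K V]

theorem sum_finrank_le_of_indep [FiniteDimensional K V] {ι : Type*} [DecidableEq ι]
    (E : ι → Submodule K V) (hE : iSupIndep E) (W : Submodule K V) (hEW : ∀ i, E i ≤ W)
    (s : Finset ι) : ∑ i ∈ s, Module.finrank K (E i) ≤ Module.finrank K W := by
  have key : ∀ s : Finset ι, ∑ i ∈ s, Module.finrank K (E i) =
      Module.finrank K (⨆ i ∈ s, E i : Submodule K V) := by
    intro s
    induction s using Finset.induction_on with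
    | empty =>
      have h0 : (⨆ i ∈ (∅ : Finset ι), E i : Submodule K V) = ⊥ := by simp
      rw [Finset.sum_empty, h0, finrank_bot]
    | insert a s ha ih =>
      rw [Finset.sum_insert ha, ih, Finset.iSup_insert]
      have hd : Disjoint (E a) (⨆ i ∈ s, E i) := by
        have := hE.disjoint_biSup (x := a) (y := (↑s : Set ι)) (by simpa using ha)
        simpa using this
      have h1 := Submodule.finrank_sup_add_finrank_inf_eq (E a) (⨆ i ∈ s, E i)
      rw [hd.eq_bot, finrank_bot, add_zero] at h1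
      exact h1.symm
  rw [key]
  apply Submodule.finrank_mono
  exact iSup₂_le (fun i _ => hEW i)

/-- a finite-order operator (order prime to the characteristic) on a finite-dimensional space over an
algebraically closed field is diagonalisable on every invariant subspace. -/
theorem span_eigen [IsAlgClosed K] [FiniteDimensional K V] (f : Module.End K V) (m : ℕ)
    (hm : (m : K) ≠ 0) (hf : f ^ m = 1) (W : Submodule K V) (hW : ∀ w ∈ W, f w ∈ W)
    (Q : V → Prop) (hadd : ∀ a b, Q a → Q b → Q (a + b)) (h0 : Q 0)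
    (hQ : ∀ μ : K, ∀ w ∈ W, f w = μ • w → Q w) : ∀ w ∈ W, Q w := by
  have hsq : Squarefree (X ^ m - 1 : K[X]) :=
    (Polynomial.X_pow_sub_one_separable_iff.mpr hm).squarefree
  have haev : aeval f (X ^ m - 1 : K[X]) = 0 := by
    simp [hf]
  have hss : f.IsSemisimple := Module.End.isSemisimple_of_squarefree_aeval_eq_zero hsq haev
  have hWi : W ∈ f.invtSubmodule := fun w hw => hW w hw
  have hss' := hss.restrict hWi
  have htop := hss'.iSup_eigenspace_eq_top
  intro w hw
  have hmem : (⟨w, hw⟩ : W) ∈ ⨆ μ : K, Module.End.eigenspace (f.restrict hWi) μ := by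
    rw [htop]; trivial
  have := Submodule.iSup_induction (fun μ : K => Module.End.eigenspace (f.restrict hWi) μ)
    (motive := fun x : W => Q (x : V)) hmem ?_ h0 ?_
  · exact this
  · intro μ x hx
    rw [Module.End.mem_eigenspace_iff] at hx
    apply hQ μ (x : V) x.2
    have h5 := congrArg Subtype.val hx
    exact h5
  · intro x y hx hy
    exact hadd _ _ hx hy

end LinAlg

variable {K V P : Type*} [Field K] [AddCommGroup V] [Module K V] [Group P]
variable (ρ : P →* Module.End K V)

/-- the part of the `lam`-eigenspace of `ρ y` inside `W`. -/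
def eig (y : P) (W : Submodule K V) (lam : K) : Submodule K V :=
  W ⊓ Module.End.eigenspace (ρ y) lam

theorem mem_eig (y : P) (W : Submodule K V) (lam : K) (w : V) :
    w ∈ eig ρ y W lam ↔ w ∈ W ∧ ρ y w = lam • w := by
  unfold eig
  rw [Submodule.mem_inf, Module.End.mem_eigenspace_iff]

theorem eig_indep (y : P) (W : Submodule K V) : iSupIndep (eig ρ y W) :=
  (Module.End.eigenspaces_iSupIndep (ρ y)).mono (fun _ => inf_le_right)

theorem eig_unique (y : P) (W : Submodule K V) {lam mu : K} {w : V} (hw0 : w ≠ 0)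
    (h1 : w ∈ eig ρ y W lam) (h2 : w ∈ eig ρ y W mu) : lam = mu := by
  rw [mem_eig] at h1 h2
  have h3 : (lam - mu) • w = 0 := by
    rw [sub_smul, ← h1.2, ← h2.2, sub_self]
  rcases smul_eq_zero.mp h3 with h | h
  · exact sub_eq_zero.mp h
  · exact absurd h hw0

/-- the linear equivalence given by a group element. -/
def rhoEquiv (g : P) : V ≃ₗ[K] V :=
  LinearEquiv.ofLinearMap (ρ g) (ρ g⁻¹)
    (by apply LinearMap.ext; intro v; exact rho_apply_inv ρ g v)
    (by apply LinearMap.ext; intro v; exact rho_inv_apply ρ g v)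

theorem rhoEquiv_apply (g : P) (v : V) : rhoEquiv ρ g v = ρ g v := rfl

/-- the statement proved by induction on `n`. -/
def Claim (n : ℕ) : Prop :=
  ∀ (T : Subgroup P) (W : Submodule K V), Inv ρ T W → Module.finrank K W ≤ n →
    Triv ρ (dser T (Nat.log 2 n + 1)) W

theorem log_arith {a k n : ℕ} (hk : 1 ≤ k) (h : 2 ^ a * k ≤ n) :
    a + (Nat.log 2 k + 1) ≤ Nat.log 2 n + 1 := by
  have h1 : 2 ^ (a + Nat.log 2 k) ≤ n := by
    rw [pow_add]
    exact (Nat.mul_le_mul_left _ (Nat.pow_log_le_self 2 (by omega))).trans h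
  have h2 := Nat.le_log_of_pow_le (by norm_num) h1
  omega

/-- the stabiliser of an eigenspace. -/
def stabE (T : Subgroup P) (E : Submodule K V) : Subgroup P where
  carrier := {h | h ∈ T ∧ (∀ w ∈ E, ρ h w ∈ E) ∧ (∀ w ∈ E, ρ h⁻¹ w ∈ E)}
  one_mem' := by
    refine ⟨T.one_mem, fun w hw => ?_, fun w hw => ?_⟩
    · rw [rho_one_apply]; exact hw
    · rw [inv_one, rho_one_apply]; exact hw
  mul_mem' := by
    rintro a b ⟨ha, ha1, ha2⟩ ⟨hb, hb1, hb2⟩
    refine ⟨T.mul_mem ha hb, fun w hw => ?_, fun w hw => ?_⟩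
    · rw [rho_mul_apply]; exact ha1 _ (hb1 w hw)
    · rw [mul_inv_rev, rho_mul_apply]; exact hb2 _ (ha2 w hw)
  inv_mem' := by
    rintro a ⟨ha, ha1, ha2⟩
    refine ⟨T.inv_mem ha, ha2, fun w hw => ?_⟩
    rw [inv_inv]; exact ha1 w hw

theorem mem_stabE (T : Subgroup P) (E : Submodule K V) (h : P) :
    h ∈ stabE ρ T E ↔ h ∈ T ∧ (∀ w ∈ E, ρ h w ∈ E) ∧ (∀ w ∈ E, ρ h⁻¹ w ∈ E) := Iff.rfl

theorem perm_decomp [Finite P] [FiniteDimensional K V] {p : ℕ} [hp : Fact p.Prime]
    (hP : IsPGroup p P) (n : ℕ) (IH : ∀ n' < n, Claim ρ n')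
    (T : Subgroup P) (W : Submodule K V) (hinv : Inv ρ T W) (hd : Module.finrank K W ≤ n)
    (y : P) (hy : y ∈ T)
    (hperm : ∀ h ∈ T, ∀ lam : K, ∃ mu : K, ∀ w ∈ W, ρ y w = lam • w → ρ y (ρ h w) = mu • ρ h w)
    (hns : ∀ lam : K, ∃ w ∈ W, ρ y w ≠ lam • w)
    (hspan : ∀ g : P, (∀ lam : K, ∀ w ∈ W, ρ y w = lam • w → ρ g w = w) → ∀ w ∈ W, ρ g w = w) :
    Triv ρ (dser T (Nat.log 2 n + 1)) W := by
  classical
  intro g hg
  apply hspan g
  intro lam w hwW hwe
  obtain ⟨E, hE⟩ : ∃ E : Submodule K V, E = eig ρ y W lam := ⟨_, rfl⟩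
  have hwE : w ∈ E := by rw [hE, mem_eig]; exact ⟨hwW, hwe⟩
  have hEW : E ≤ W := by rw [hE]; exact inf_le_left
  by_cases hEbot : E = ⊥
  · rw [hEbot, Submodule.mem_bot] at hwE
    rw [hwE, map_zero]
  obtain ⟨w₀, hw₀E, hw₀0⟩ := Submodule.exists_mem_ne_zero_of_ne_bot hEbot
  have hw₀E' : w₀ ∈ eig ρ y W lam := by rw [← hE]; exact hw₀E
  -- dimensions
  have hnE1 : 1 ≤ Module.finrank K E := by
    rcases Nat.eq_zero_or_pos (Module.finrank K E) with h | h
    · exact absurd (Submodule.finrank_eq_zero.mp h) hEbot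
    · exact h
  have hElt : E < W := by
    refine lt_of_le_of_ne hEW ?_
    intro h
    obtain ⟨w', hw'W, hw'⟩ := hns lam
    apply hw'
    have : w' ∈ eig ρ y W lam := by rw [← hE, h]; exact hw'W
    exact ((mem_eig ρ y W lam w').mp this).2
  have hnElt : Module.finrank K E < n :=
    lt_of_lt_of_le (Submodule.finrank_lt_finrank_of_lt hElt) hd
  -- eigenvalue function
  have hperm' : ∀ h : T, ∃ mu : K, ∀ w ∈ E, ρ (h : P) w ∈ eig ρ y W mu := by
    intro h
    obtain ⟨mu, hmu⟩ := hperm h h.2 lam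
    refine ⟨mu, fun w hw => ?_⟩
    rw [hE, mem_eig] at hw
    rw [mem_eig]
    exact ⟨hinv h h.2 w hw.1, hmu w hw.1 hw.2⟩
  choose mu hmu using hperm'
  -- fibres of `mu` are cosets of the stabiliser
  have hfib : ∀ h h' : T, mu h = mu h' → ∀ w ∈ E, ρ ((h : P)⁻¹ * (h' : P)) w ∈ E := by
    intro h h' hmm w hw
    have hv : ρ (h' : P) w ∈ eig ρ y W (mu h) := by rw [hmm]; exact hmu h' w hw
    obtain ⟨nu, hnu⟩ := hperm (h : P)⁻¹ (T.inv_mem h.2) (mu h)
    have hu₀ := hmu h w₀ hw₀E
    rw [mem_eig] at hu₀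
    have h1 := hnu _ hu₀.1 hu₀.2
    rw [rho_inv_apply] at h1
    have h2 : w₀ ∈ eig ρ y W nu := by
      rw [mem_eig]; exact ⟨hEW hw₀E, h1⟩
    have hnl : nu = lam := eig_unique ρ y W hw₀0 h2 hw₀E'
    rw [mem_eig] at hv
    rw [rho_mul_apply, hE, mem_eig]
    refine ⟨hinv _ (T.inv_mem h.2) _ hv.1, ?_⟩
    rw [← hnl]
    exact hnu _ hv.1 hv.2
  obtain ⟨S, hS⟩ : ∃ S : Subgroup P, S = stabE ρ T E := ⟨_, rfl⟩
  have hST : S ≤ T := by
    rw [hS]; intro h hh; exact hh.1
  have hSinv : Inv ρ S E := by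
    rw [hS]; intro h hh w hw; exact hh.2.1 w hw
  have hfibS : ∀ h h' : T, mu h = mu h' → (h : P)⁻¹ * (h' : P) ∈ S := by
    intro h h' hmm
    rw [hS, mem_stabE]
    refine ⟨T.mul_mem (T.inv_mem h.2) h'.2, hfib h h' hmm, ?_⟩
    have e : ((h : P)⁻¹ * (h' : P))⁻¹ = (h' : P)⁻¹ * (h : P) := by group
    rw [e]
    exact hfib h' h hmm.symm
  -- counting
  haveI : Fintype T := Fintype.ofFinite T
  haveI : Fintype S := Fintype.ofFinite S
  obtain ⟨s, hs⟩ : ∃ s : Finset K, s = Finset.image mu Finset.univ := ⟨_, rfl⟩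
  have hc1 : ∀ nu ∈ s, Module.finrank K E ≤ Module.finrank K (eig ρ y W nu) := by
    intro nu hnu
    rw [hs, Finset.mem_image] at hnu
    obtain ⟨h, _, rfl⟩ := hnu
    have h1 : E.map (rhoEquiv ρ (h : P) : V →ₗ[K] V) ≤ eig ρ y W (mu h) := by
      rintro v ⟨w, hw, rfl⟩
      exact hmu h w hw
    have h2 := Submodule.finrank_mono h1
    rwa [LinearEquiv.finrank_map_eq] at h2
  have hc2 : ∑ nu ∈ s, Module.finrank K (eig ρ y W nu) ≤ Module.finrank K W :=
    sum_finrank_le_of_indep (eig ρ y W) (eig_indep ρ y W) W (fun _ => inf_le_left) s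
  have hc3 : s.card * Module.finrank K E ≤ Module.finrank K W := by
    refine le_trans ?_ hc2
    have := Finset.card_nsmul_le_sum s (fun nu => Module.finrank K (eig ρ y W nu))
      (Module.finrank K E) hc1
    simpa using this
  have hc4 : Fintype.card T ≤ Fintype.card S * s.card := by
    have := Finset.card_le_mul_card_image (f := mu) (Finset.univ : Finset T) (Fintype.card S) ?_
    · rw [← hs] at this
      simpa using this
    · intro nu hnu
      rw [Finset.mem_image] at hnu
      obtain ⟨h₀, _, rfl⟩ := hnu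
      have h1 : ((Finset.univ : Finset T).filter (fun x => mu x = mu h₀)).card ≤
          ((Finset.univ : Finset S).image (fun x : S => (x : P))).card := by
        apply Finset.card_le_card_of_injOn (fun x : T => (h₀ : P)⁻¹ * (x : P))
        · intro x hx
          have hx' : mu x = mu h₀ := (Finset.mem_filter.mp hx).2
          rw [Finset.coe_image, Set.mem_image]
          exact ⟨⟨_, hfibS h₀ x hx'.symm⟩, by simp, rfl⟩
        · intro a _ b _ hab
          have : (a : P) = (b : P) := mul_left_cancel hab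
          exact Subtype.ext this
      refine h1.trans ?_
      exact Finset.card_image_le.trans (by simp)
  -- the index
  have hidx : (S.subgroupOf T).index ≤ s.card := by
    have h1 := Subgroup.card_mul_index (S.subgroupOf T)
    have h2 : Nat.card (S.subgroupOf T) = Nat.card S :=
      Nat.card_congr (Subgroup.subgroupOfEquivOfLe hST).toEquiv
    rw [h2, Nat.card_eq_fintype_card, Nat.card_eq_fintype_card] at h1
    rw [← h1] at hc4
    exact Nat.le_of_mul_le_mul_left hc4 Fintype.card_pos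
  obtain ⟨a, ha⟩ := (hP.to_subgroup T).index (S.subgroupOf T)
  have hTa : dser T a ≤ S := by
    have h1 := derivedSeries_le_of_index_dvd (hP.to_subgroup T) a (S.subgroupOf T) (by rw [ha])
    have h2 := Subgroup.map_mono (f := T.subtype) h1
    rw [map_derivedSeries_subtype, Subgroup.subgroupOf_map_subtype] at h2
    exact h2.trans inf_le_left
  have harith : 2 ^ a * Module.finrank K E ≤ n := by
    have h1 : 2 ^ a ≤ s.card := by
      refine le_trans ?_ hidx
      rw [ha]
      exact Nat.pow_le_pow_left hp.out.two_le a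
    exact (Nat.mul_le_mul_right _ h1).trans (hc3.trans hd)
  have hle := log_arith hnE1 harith
  have h3 : g ∈ dser S (Nat.log 2 (Module.finrank K E) + 1) := by
    apply dser_mono hTa
    rw [dser_add]
    exact dser_anti T hle hg
  exact IH _ hnElt S E hSinv (le_refl _) g h3 w hwE

end Cfsg.Agent.helper20.LinDL
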