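import Mathlib
import Cfsg.Agent.Lib_helper20_LinDL2

set_option autoImplicit false
set_option linter.unusedSectionVars false
set_option linter.unusedVariables false
set_option linter.style.longLine false
set_option linter.style.haveILetI false

/-!
Derived length of finite `p`-groups of linear maps, part 3: the main induction (helper20).
-/

namespace Cfsg.Agent.helper20.LinDL

open Cfsg.Agent.helper20.DerLen
open scoped commutatorElement

variable {K V P : Type*} [Field K] [AddCommGroup V] [Module K V] [Group P]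
variable (ρ : P →* Module.End K V)

/-- the elements of `T` acting centrally on `W`. -/
def cen {T : Subgroup P} {W : Submodule K V} (hinv : Inv ρ T W) : Subgroup P where
  carrier := {g | g ∈ T ∧ ∀ h ∈ T, ∀ w ∈ W, ρ g (ρ h w) = ρ h (ρ g w)}
  one_mem' := by
    refine ⟨T.one_mem, fun h _ w _ => ?_⟩
    rw [rho_one_apply, rho_one_apply]
  mul_mem' := by
    rintro a b ⟨ha, ha'⟩ ⟨hb, hb'⟩
    refine ⟨T.mul_mem ha hb, fun h hh w hw => ?_⟩
    rw [rho_mul_apply, rho_mul_apply, hb' h hh w hw, ha' h hh _ (hinv b hb w hw)]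
  inv_mem' := by
    rintro a ⟨ha, ha'⟩
    refine ⟨T.inv_mem ha, fun h hh w hw => ?_⟩
    have h1 := ha' h hh _ (hinv a⁻¹ (T.inv_mem ha) w hw)
    rw [rho_apply_inv] at h1
    have h2 := congrArg (ρ a⁻¹) h1
    rw [rho_inv_apply] at h2
    exact h2.symm

theorem mem_cen {T : Subgroup P} {W : Submodule K V} (hinv : Inv ρ T W) (g : P) :
    g ∈ cen ρ hinv ↔ g ∈ T ∧ ∀ h ∈ T, ∀ w ∈ W, ρ g (ρ h w) = ρ h (ρ g w) := Iff.rfl

theorem cen_le {T : Subgroup P} {W : Submodule K V} (hinv : Inv ρ T W) : cen ρ hinv ≤ T :=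
  fun _ hg => hg.1

theorem cen_conj {T : Subgroup P} {W : Submodule K V} (hinv : Inv ρ T W) {z t : P}
    (hz : z ∈ cen ρ hinv) (ht : t ∈ T) : t * z * t⁻¹ ∈ cen ρ hinv := by
  rw [mem_cen] at hz ⊢
  obtain ⟨hzT, hz'⟩ := hz
  have htinv : t⁻¹ ∈ T := T.inv_mem ht
  refine ⟨T.mul_mem (T.mul_mem ht hzT) htinv, fun h hh w hw => ?_⟩
  have e1 : ρ (t * z * t⁻¹) (ρ h w) = ρ t (ρ z (ρ (t⁻¹ * h) w)) := by
    rw [rho_mul_apply, rho_mul_apply, rho_mul_apply]
  have e2 : ρ (t * z * t⁻¹) w = ρ t (ρ z (ρ t⁻¹ w)) := by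
    rw [rho_mul_apply, rho_mul_apply]
  rw [e1, e2, hz' _ (T.mul_mem htinv hh) w hw, hz' _ htinv w hw, rho_apply_inv,
    rho_mul_apply, rho_apply_inv]

/-- if every element of `T` acts centrally on `W`, the derived subgroup acts trivially. -/
theorem triv_of_cen_eq {T : Subgroup P} {W : Submodule K V} (hinv : Inv ρ T W)
    (h : cen ρ hinv = T) : Triv ρ (dser T 1) W := by
  have hle : dser T 1 ≤ cen ρ hinv ⊓ T := by
    rw [h, inf_idem, dser_succ, dser_zero]
    exact commutator_self_le T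
  -- a finer statement: commutators act trivially
  have key : ∀ g ∈ T, ∀ k ∈ T, ∀ w ∈ W, ρ ⁅g, k⁆ w = w := by
    intro g hg k hk w hw
    have hgc : g ∈ cen ρ hinv := by rw [h]; exact hg
    rw [mem_cen] at hgc
    obtain ⟨u, hu⟩ : ∃ u : V, u = ρ (g⁻¹ * k⁻¹) w := ⟨_, rfl⟩
    have huW : u ∈ W := by
      rw [hu]; exact hinv _ (T.mul_mem (T.inv_mem hg) (T.inv_mem hk)) w hw
    have e1 : ρ ⁅g, k⁆ w = ρ g (ρ k u) := by
      rw [hu, ← rho_mul_apply, ← rho_mul_apply, commutatorElement_def]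
      congr 2
      group
    have e2 : w = ρ k (ρ g u) := by
      rw [hu, ← rho_mul_apply, ← rho_mul_apply]
      have : k * g * (g⁻¹ * k⁻¹) = 1 := by group
      rw [this, rho_one_apply]
    rw [e1, hgc.2 k hk u huW, ← e2]
  -- the kernel subgroup
  let Ker : Subgroup P :=
    { carrier := {g | ∀ w ∈ W, ρ g w = w}
      one_mem' := fun w _ => rho_one_apply ρ w
      mul_mem' := by
        intro a b ha hb w hw
        rw [rho_mul_apply, hb w hw, ha w hw]
      inv_mem' := by
        intro a ha w hw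
        have := rho_inv_apply ρ a w
        rwa [ha w hw] at this }
  have hK : dser T 1 ≤ Ker := by
    rw [dser_succ, dser_zero, Subgroup.commutator_le]
    intro g hg k hk
    exact key g hg k hk
  intro g hg w hw
  exact hK hg w hw

/-- existence of an element of the second centre modulo `cen`. -/
theorem exists_second_center [Finite P] {p : ℕ} [hp : Fact p.Prime] (hP : IsPGroup p P)
    {T : Subgroup P} {W : Submodule K V} (hinv : Inv ρ T W) (hne : cen ρ hinv ≠ T) :
    ∃ x ∈ T, x ∉ cen ρ hinv ∧ ∀ h ∈ T, x⁻¹ * h⁻¹ * x * h ∈ cen ρ hinv := by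
  obtain ⟨Z, hZ⟩ : ∃ Z : Subgroup T, Z = (cen ρ hinv).subgroupOf T := ⟨_, rfl⟩
  haveI hZn : Z.Normal := by
    constructor
    intro z hz t
    rw [hZ, Subgroup.mem_subgroupOf] at hz ⊢
    have := cen_conj ρ hinv hz t.2
    simpa using this
  have hZtop : Z ≠ ⊤ := by
    intro h
    apply hne
    apply le_antisymm (cen_le ρ hinv)
    intro t ht
    have : (⟨t, ht⟩ : T) ∈ Z := by rw [h]; trivial
    rw [hZ, Subgroup.mem_subgroupOf] at this
    exact this
  haveI : Nontrivial (T ⧸ Z) := by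
    rw [← not_subsingleton_iff_nontrivial]
    intro hsub
    exact hZtop (QuotientGroup.subgroup_eq_top_of_subsingleton Z hsub)
  have hQ : IsPGroup p (T ⧸ Z) := (hP.to_subgroup T).to_quotient Z
  haveI := hQ.center_nontrivial
  obtain ⟨c, hc⟩ := exists_ne (1 : Subgroup.center (T ⧸ Z))
  obtain ⟨x, hx⟩ := QuotientGroup.mk_surjective (c : T ⧸ Z)
  have hxZ : x ∉ Z := by
    intro h
    apply hc
    apply Subtype.ext
    rw [← hx]
    exact (QuotientGroup.eq_one_iff x).mpr h
  refine ⟨(x : P), x.2, ?_, ?_⟩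
  · intro h
    apply hxZ
    rw [hZ, Subgroup.mem_subgroupOf]
    exact h
  · intro h hh
    have hcomm : (QuotientGroup.mk (⟨h, hh⟩ : T) : T ⧸ Z) * (c : T ⧸ Z) =
        (c : T ⧸ Z) * QuotientGroup.mk (⟨h, hh⟩ : T) :=
      Subgroup.mem_center_iff.mp c.2 _
    rw [← hx, ← QuotientGroup.mk_mul, ← QuotientGroup.mk_mul] at hcomm
    have h1 := QuotientGroup.eq.mp hcomm
    rw [hZ, Subgroup.mem_subgroupOf] at h1
    have e : (((⟨h, hh⟩ : T) * x)⁻¹ * (x * (⟨h, hh⟩ : T)) : T) = ((x : P)⁻¹ * h⁻¹ * (x : P) * h : P) := by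
      simp [mul_assoc]
    rw [e] at h1
    exact h1

theorem claim [IsAlgClosed K] [Finite P] [FiniteDimensional K V] {p : ℕ} [hp : Fact p.Prime]
    (hP : IsPGroup p P) : ∀ n : ℕ, Claim ρ n := by
  intro n
  induction n using Nat.strong_induction_on with
  | _ n IH =>
  intro T W hinv hd
  by_cases hchar : (p : K) = 0
  · haveI : CharP K p := (CharP.charP_iff_prime_eq_zero hp.out).mpr hchar
    apply unip_triv ρ hP hinv
    exact hd.trans (Nat.lt_pow_succ_log_self (by norm_num) n).le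
  · -- semisimple case
    have hspan : ∀ y : P, y ∈ T → ∀ g : P,
        (∀ lam : K, ∀ w ∈ W, ρ y w = lam • w → ρ g w = w) → ∀ w ∈ W, ρ g w = w := by
      intro y hy g hg
      obtain ⟨k, hk⟩ := hP y
      have hm : ((p ^ k : ℕ) : K) ≠ 0 := by
        rw [Nat.cast_pow]; exact pow_ne_zero _ hchar
      have hf : (ρ y) ^ (p ^ k) = 1 := by
        rw [← map_pow, hk, map_one]
      apply span_eigen (ρ y) (p ^ k) hm hf W (fun w hw => hinv y hy w hw) (fun w => ρ g w = w)
      · intro a b ha hb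
        rw [map_add, ha, hb]
      · exact map_zero _
      · intro mu w hw hwe
        exact hg mu w hw hwe
    by_cases hcen : cen ρ hinv = T
    · have h1 := triv_of_cen_eq ρ hinv hcen
      exact h1.mono ρ (dser_anti T (by omega))
    · by_cases hB1 : ∃ z ∈ cen ρ hinv, ∀ lam : K, ∃ w ∈ W, ρ z w ≠ lam • w
      · obtain ⟨z, hz, hzns⟩ := hB1
        have hzT : z ∈ T := cen_le ρ hinv hz
        apply perm_decomp ρ hP n IH T W hinv hd z hzT ?_ hzns (hspan z hzT)
        intro h hh lam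
        refine ⟨lam, fun w hw hwe => ?_⟩
        rw [((mem_cen ρ hinv z).mp hz).2 h hh w hw, hwe, map_smul]
      · push Not at hB1
        obtain ⟨x, hxT, hxc, hxcomm⟩ := exists_second_center ρ hP hinv hcen
        apply perm_decomp ρ hP n IH T W hinv hd x hxT ?_ ?_ (hspan x hxT)
        · intro h hh lam
          obtain ⟨c, hc⟩ := hB1 _ (hxcomm h hh)
          refine ⟨c * lam, fun w hw hwe => ?_⟩
          have e : x * h = h * x * (x⁻¹ * h⁻¹ * x * h) := by group
          rw [← rho_mul_apply, e, rho_mul_apply, rho_mul_apply, hc w hw, map_smul, hwe,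
            smul_smul, map_smul]
        · intro lam
          by_contra hcon
          push Not at hcon
          apply hxc
          rw [mem_cen]
          refine ⟨hxT, fun h hh w hw => ?_⟩
          rw [hcon _ (hinv h hh w hw), hcon w hw, map_smul]

end Cfsg.Agent.helper20.LinDL
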