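import Mathlib
import Cfsg.Agent.Lib_helper20_LinDL3

set_option autoImplicit false
set_option linter.unusedSectionVars false
set_option linter.unusedVariables false
set_option linter.style.longLine false
set_option linter.style.haveILetI false

/-!
Derived length of finite `p`-groups of linear maps, part 4: representations commuting with a
Frobenius-semilinear bijection (helper20).  Used for `p`-subgroups of `GL_n(F_q)`, `p ∤ q`.
-/

namespace Cfsg.Agent.helper20.LinDL

open Cfsg.Agent.helper20.DerLen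
open scoped commutatorElement

section SemiLin

variable {K V : Type*} [Field K] [AddCommGroup V] [Module K V]

/-- an injective semilinear map (w.r.t. a surjective ring endomorphism) does not decrease
dimensions. -/
theorem semilin_finrank_le [FiniteDimensional K V] (φ : K →+* K) (hφs : Function.Surjective φ)
    (Ψ : V →+ V) (hΨi : Function.Injective Ψ) (hΨs : ∀ (c : K) (v : V), Ψ (c • v) = φ c • Ψ v)
    (A B : Submodule K V) (hAB : ∀ v ∈ A, Ψ v ∈ B) :
    Module.finrank K A ≤ Module.finrank K B := by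
  classical
  obtain ⟨b, hb⟩ : ∃ b : Module.Basis (Fin (Module.finrank K A)) K A, b = Module.finBasis K A :=
    ⟨_, rfl⟩
  have hli : LinearIndependent K
      (fun i : Fin (Module.finrank K A) => (⟨Ψ ((b i : A) : V), hAB _ (b i).2⟩ : B)) := by
    rw [Fintype.linearIndependent_iff]
    intro g hg i
    choose c hc using fun j => hφs (g j)
    have h1 : ∑ j, g j • Ψ ((b j : A) : V) = 0 := by
      have h := congrArg (fun x : B => (x : V)) hg
      simp only [Submodule.coe_sum, Submodule.coe_smul, Submodule.coe_zero] at h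
      exact h
    have h2 : Ψ (∑ j, c j • ((b j : A) : V)) = 0 := by
      rw [map_sum, ← h1]
      apply Finset.sum_congr rfl
      intro j _
      rw [hΨs, hc]
    have h3 : ∑ j, c j • ((b j : A) : V) = 0 := hΨi (by rw [h2, map_zero])
    have h4 : ∑ j, c j • b j = 0 := by
      apply Subtype.ext
      simp only [Submodule.coe_sum, Submodule.coe_smul, Submodule.coe_zero]
      exact h3
    have h5 := (Fintype.linearIndependent_iff.mp b.linearIndependent) c h4 i
    rw [← hc i, h5, map_zero]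
  have := hli.fintype_card_le_finrank
  simpa using this

end SemiLin

/-- distinctness of the Frobenius orbit of a primitive `p`-th root of unity. -/
theorem pow_orbit_inj {K : Type*} [Field K] {p q : ℕ} [hp : Fact p.Prime] (hq : ¬ p ∣ q)
    {lam : K} (h1 : lam ≠ 1) (hp1 : lam ^ p = 1) {i j : ℕ}
    (hi : i < orderOf (q : ZMod p)) (hj : j < orderOf (q : ZMod p))
    (h : lam ^ (q ^ i) = lam ^ (q ^ j)) : i = j := by
  have ho : orderOf lam = p := orderOf_eq_prime hp1 h1
  have hl0 : lam ≠ 0 := by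
    rintro rfl
    rw [zero_pow hp.out.ne_zero] at hp1
    exact zero_ne_one hp1
  obtain ⟨u, hu⟩ : ∃ u : Kˣ, (u : K) = lam := ⟨Units.mk0 lam hl0, rfl⟩
  have hu' : u ^ (q ^ i) = u ^ (q ^ j) := by
    apply Units.ext
    rw [Units.val_pow_eq_pow_val, Units.val_pow_eq_pow_val, hu]
    exact h
  have hou : orderOf u = p := by
    rw [← orderOf_units, hu]; exact ho
  rw [pow_eq_pow_iff_modEq, hou] at hu'
  have h2 : ((q : ZMod p)) ^ i = (q : ZMod p) ^ j := by
    have := (ZMod.natCast_eq_natCast_iff _ _ _).mpr hu'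
    push_cast at this
    exact this
  have hq0 : (q : ZMod p) ≠ 0 := by
    rw [Ne, ZMod.natCast_eq_zero_iff]
    exact hq
  obtain ⟨v, hv⟩ : ∃ v : (ZMod p)ˣ, (v : ZMod p) = (q : ZMod p) := ⟨Units.mk0 _ hq0, rfl⟩
  have hv' : v ^ i = v ^ j := by
    apply Units.ext
    rw [Units.val_pow_eq_pow_val, Units.val_pow_eq_pow_val, hv]
    exact h2
  have hov : orderOf v = orderOf (q : ZMod p) := by
    rw [← orderOf_units, hv]
  rw [pow_eq_pow_iff_modEq, hov] at hv'
  exact Nat.ModEq.eq_of_lt_of_lt hv' hi hj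

variable {K V P : Type*} [Field K] [AddCommGroup V] [Module K V] [Group P]
variable (ρ : P →* Module.End K V)

theorem rho_pow_eig (z : P) (lam : K) (w : V) (h : ρ z w = lam • w) (k : ℕ) :
    ρ (z ^ k) w = lam ^ k • w := by
  induction k with
  | zero => rw [pow_zero, pow_zero, rho_one_apply, one_smul]
  | succ k ih =>
    rw [pow_succ, rho_mul_apply, h, map_smul, ih, smul_smul, pow_succ, mul_comm]

/-- the elements of `T` acting trivially on `W`. -/
def kerW (T : Subgroup P) (W : Submodule K V) : Subgroup P where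
  carrier := {g | g ∈ T ∧ ∀ w ∈ W, ρ g w = w}
  one_mem' := ⟨T.one_mem, fun w _ => rho_one_apply ρ w⟩
  mul_mem' := by
    rintro a b ⟨ha, ha'⟩ ⟨hb, hb'⟩
    refine ⟨T.mul_mem ha hb, fun w hw => ?_⟩
    rw [rho_mul_apply, hb' w hw, ha' w hw]
  inv_mem' := by
    rintro a ⟨ha, ha'⟩
    refine ⟨T.inv_mem ha, fun w hw => ?_⟩
    have := rho_inv_apply ρ a w
    rw [ha' w hw] at this
    exact this

theorem mem_kerW (T : Subgroup P) (W : Submodule K V) (g : P) :
    g ∈ kerW ρ T W ↔ g ∈ T ∧ ∀ w ∈ W, ρ g w = w := Iff.rfl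

theorem kerW_conj {T : Subgroup P} {W : Submodule K V} (hinv : Inv ρ T W) {z t : P}
    (hz : z ∈ kerW ρ T W) (ht : t ∈ T) : t * z * t⁻¹ ∈ kerW ρ T W := by
  rw [mem_kerW] at hz ⊢
  refine ⟨T.mul_mem (T.mul_mem ht hz.1) (T.inv_mem ht), fun w hw => ?_⟩
  rw [rho_mul_apply, rho_mul_apply, hz.2 _ (hinv _ (T.inv_mem ht) w hw), rho_apply_inv]

/-- in a finite `p`-group, a proper `T`-normal subgroup `Z` of `T` has an element of `T` outside
`Z` that is central modulo `Z`. -/
theorem exists_mod_center [Finite P] {p : ℕ} [hp : Fact p.Prime] (hP : IsPGroup p P)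
    (T Z0 : Subgroup P) (hZT : Z0 ≤ T) (hnorm : ∀ z ∈ Z0, ∀ t ∈ T, t * z * t⁻¹ ∈ Z0)
    (hne : Z0 ≠ T) :
    ∃ x ∈ T, x ∉ Z0 ∧ ∀ h ∈ T, x⁻¹ * h⁻¹ * x * h ∈ Z0 := by
  obtain ⟨Z, hZ⟩ : ∃ Z : Subgroup T, Z = Z0.subgroupOf T := ⟨_, rfl⟩
  haveI hZn : Z.Normal := by
    constructor
    intro z hz t
    rw [hZ, Subgroup.mem_subgroupOf] at hz ⊢
    have := hnorm _ hz _ t.2
    simpa using this
  have hZtop : Z ≠ ⊤ := by
    intro h
    apply hne
    apply le_antisymm hZT
    intro t ht
    have : (⟨t, ht⟩ : T) ∈ Z := by rw [h]; trivial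
    rw [hZ, Subgroup.mem_subgroupOf] at this
    exact this
  haveI : Nontrivial (T ⧸ Z) := by
    rw [← not_subsingleton_iff_nontrivial]
    intro hsub
    exact hZtop (QuotientGroup.subgroup_eq_top_of_subsingleton Z hsub)
  have hQ : IsPGroup p (T ⧸ Z) := (hP.to_subgroup T).to_quotient Z
  haveI := hQ.center_nontrivial
  obtain ⟨c, hc⟩ := exists_ne (1 : Subgroup.center (T ⧸ Z))
  obtain ⟨x, hx⟩ := QuotientGroup.mk_surjective (c : T ⧸ Z)
  have hxZ : x ∉ Z := by
    intro h
    apply hc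
    apply Subtype.ext
    rw [← hx]
    exact (QuotientGroup.eq_one_iff x).mpr h
  refine ⟨(x : P), x.2, ?_, ?_⟩
  · intro h
    apply hxZ
    rw [hZ, Subgroup.mem_subgroupOf]
    exact h
  · intro h hh
    have hcomm : (QuotientGroup.mk (⟨h, hh⟩ : T) : T ⧸ Z) * (c : T ⧸ Z) =
        (c : T ⧸ Z) * QuotientGroup.mk (⟨h, hh⟩ : T) :=
      Subgroup.mem_center_iff.mp c.2 _
    rw [← hx, ← QuotientGroup.mk_mul, ← QuotientGroup.mk_mul] at hcomm
    have h1 := QuotientGroup.eq.mp hcomm
    rw [hZ, Subgroup.mem_subgroupOf] at h1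
    have e : (((⟨h, hh⟩ : T) * x)⁻¹ * (x * (⟨h, hh⟩ : T)) : T) =
        ((x : P)⁻¹ * h⁻¹ * (x : P) * h : P) := by
      simp [mul_assoc]
    rw [e] at h1
    exact h1

/-- if `T` acts nontrivially on `W`, some element of `T` acts centrally on `W` with order `p`. -/
theorem exists_central_order_p [Finite P] {p : ℕ} [hp : Fact p.Prime] (hP : IsPGroup p P)
    {T : Subgroup P} {W : Submodule K V} (hinv : Inv ρ T W) (hnt : ¬ Triv ρ T W) :
    ∃ z ∈ cen ρ hinv, (∀ w ∈ W, ρ (z ^ p) w = w) ∧ ¬ (∀ w ∈ W, ρ z w = w) := by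
  classical
  have hne : kerW ρ T W ≠ T := by
    intro h
    apply hnt
    intro g hg w hw
    have : g ∈ kerW ρ T W := by rw [h]; exact hg
    exact this.2 w hw
  obtain ⟨x, hxT, hxk, hxc⟩ := exists_mod_center hP T (kerW ρ T W) (fun g hg => hg.1)
    (fun z hz t ht => kerW_conj ρ hinv hz ht) hne
  have hxcen : x ∈ cen ρ hinv := by
    rw [mem_cen]
    refine ⟨hxT, fun h hh w hw => ?_⟩
    have e : x * h = h * x * (x⁻¹ * h⁻¹ * x * h) := by group
    rw [← rho_mul_apply, e, rho_mul_apply, (hxc h hh).2 w hw, rho_mul_apply]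
  obtain ⟨k, hk⟩ := hP x
  have hex : ∃ j : ℕ, ∀ w ∈ W, ρ (x ^ (p ^ j)) w = w :=
    ⟨k, fun w _ => by rw [hk, rho_one_apply]⟩
  obtain ⟨j, hj⟩ : ∃ j, j = Nat.find hex := ⟨_, rfl⟩
  have hjspec := Nat.find_spec hex
  rw [← hj] at hjspec
  have hj0 : j ≠ 0 := by
    intro h0
    rw [h0, pow_zero, pow_one] at hjspec
    exact hxk ⟨hxT, hjspec⟩
  obtain ⟨j', rfl⟩ := Nat.exists_eq_succ_of_ne_zero hj0
  refine ⟨x ^ (p ^ j'), (cen ρ hinv).pow_mem hxcen _, ?_, ?_⟩
  · intro w hw
    rw [← pow_mul, ← pow_succ]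
    exact hjspec w hw
  · intro hcon
    have := Nat.find_min hex (m := j') (by rw [← hj]; exact Nat.lt_succ_self j')
    exact this hcon

/-- Frobenius orbit bound: for a primitive `p`-th root of unity `lam`, the eigenspace of `ρ z`
inside a Frobenius-stable subspace `W` has dimension at most `dim W / e`. -/
theorem orbit_bound [FiniteDimensional K V] {p : ℕ} [hp : Fact p.Prime] (q : ℕ) (hq : ¬ p ∣ q)
    (φ : K →+* K) (hφ : ∀ x, φ x = x ^ q) (hφs : Function.Surjective φ)
    (Φ : V →+ V) (hΦi : Function.Injective Φ) (hΦs : ∀ (c : K) (v : V), Φ (c • v) = φ c • Φ v)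
    (hΦρ : ∀ (g : P) (v : V), ρ g (Φ v) = Φ (ρ g v))
    (z : P) (W : Submodule K V) (hPhi : ∀ w ∈ W, Φ w ∈ W) (lam : K) (hl1 : lam ≠ 1)
    (hlp : lam ^ p = 1) :
    orderOf (q : ZMod p) * Module.finrank K (eig ρ z W lam) ≤ Module.finrank K W := by
  classical
  have hstep : ∀ mu : K, Module.finrank K (eig ρ z W mu) ≤
      Module.finrank K (eig ρ z W (mu ^ q)) := by
    intro mu
    apply semilin_finrank_le φ hφs Φ hΦi hΦs
    intro v hv
    rw [mem_eig] at hv ⊢
    refine ⟨hPhi v hv.1, ?_⟩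
    rw [hΦρ, hv.2, hΦs, hφ]
  have hiter : ∀ i : ℕ, Module.finrank K (eig ρ z W lam) ≤
      Module.finrank K (eig ρ z W (lam ^ (q ^ i))) := by
    intro i
    induction i with
    | zero => rw [pow_zero, pow_one]
    | succ i ih =>
      refine ih.trans ?_
      have := hstep (lam ^ q ^ i)
      rwa [← pow_mul, ← pow_succ] at this
  have hinj : Set.InjOn (fun i : ℕ => lam ^ (q ^ i))
      (↑(Finset.range (orderOf (q : ZMod p))) : Set ℕ) := by
    intro i hi j hj h
    exact pow_orbit_inj hq hl1 hlp (Finset.mem_range.mp hi) (Finset.mem_range.mp hj) h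
  have hsum := sum_finrank_le_of_indep (eig ρ z W) (eig_indep ρ z W) W (fun _ => inf_le_left)
    ((Finset.range (orderOf (q : ZMod p))).image (fun i => lam ^ q ^ i))
  rw [Finset.sum_image hinj] at hsum
  calc orderOf (q : ZMod p) * Module.finrank K (eig ρ z W lam)
      = ∑ i ∈ Finset.range (orderOf (q : ZMod p)), Module.finrank K (eig ρ z W lam) := by
        rw [Finset.sum_const, Finset.card_range, smul_eq_mul]
    _ ≤ ∑ i ∈ Finset.range (orderOf (q : ZMod p)),
          Module.finrank K (eig ρ z W (lam ^ q ^ i)) :=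
        Finset.sum_le_sum (fun i _ => hiter i)
    _ ≤ Module.finrank K W := hsum

/-- main induction for Frobenius-stable subspaces. -/
theorem claim2 [IsAlgClosed K] [Finite P] [FiniteDimensional K V] {p : ℕ} [hp : Fact p.Prime]
    (hP : IsPGroup p P) (hpK : (p : K) ≠ 0) (q : ℕ) (hq : ¬ p ∣ q)
    (φ : K →+* K) (hφ : ∀ x, φ x = x ^ q) (hφs : Function.Surjective φ)
    (Φ : V →+ V) (hΦi : Function.Injective Φ) (hΦs : ∀ (c : K) (v : V), Φ (c • v) = φ c • Φ v)
    (hΦρ : ∀ (g : P) (v : V), ρ g (Φ v) = Φ (ρ g v)) :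
    ∀ (m : ℕ) (T : Subgroup P) (W : Submodule K V), Inv ρ T W → (∀ w ∈ W, Φ w ∈ W) →
      Module.finrank K W ≤ m →
      Triv ρ (dser T (Nat.log 2 (m / orderOf (q : ZMod p)) + 1)) W := by
  intro m
  induction m using Nat.strong_induction_on with
  | _ m IH =>
  intro T W hinv hPhi hd
  have hq0 : (q : ZMod p) ≠ 0 := by
    rw [Ne, ZMod.natCast_eq_zero_iff]
    exact hq
  have hepos : 0 < orderOf (q : ZMod p) := by
    have : IsOfFinOrder (q : ZMod p) := by
      have hu : IsUnit (q : ZMod p) := isUnit_iff_ne_zero.mpr hq0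
      exact hu.isOfFinOrder
    exact this.orderOf_pos
  by_cases htriv : Triv ρ T W
  · exact htriv.mono ρ (dser_le_self T _)
  · obtain ⟨z, hzc, hzp, hz1⟩ := exists_central_order_p ρ hP hinv htriv
    have hzT : z ∈ T := cen_le ρ hinv hzc
    have hzcomm := ((mem_cen ρ hinv z).mp hzc).2
    have hspan : ∀ g : P,
        (∀ lam : K, ∀ w ∈ W, ρ z w = lam • w → ρ g w = w) → ∀ w ∈ W, ρ g w = w := by
      intro g hg
      obtain ⟨k, hk⟩ := hP z
      have hm : ((p ^ k : ℕ) : K) ≠ 0 := by
        rw [Nat.cast_pow]; exact pow_ne_zero _ hpK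
      have hf : (ρ z) ^ (p ^ k) = 1 := by
        rw [← map_pow, hk, map_one]
      apply span_eigen (ρ z) (p ^ k) hm hf W (fun w hw => hinv z hzT w hw) (fun w => ρ g w = w)
      · intro a b ha hb
        rw [map_add, ha, hb]
      · exact map_zero _
      · intro mu w hw hwe
        exact hg mu w hw hwe
    intro g hg
    apply hspan g
    intro lam w hw hwe
    by_cases hw0 : w = 0
    · rw [hw0, map_zero]
    have hlamp : lam ^ p = 1 := by
      have h1 := rho_pow_eig ρ z lam w hwe p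
      rw [hzp w hw] at h1
      have h2 : (lam ^ p - 1) • w = 0 := by
        rw [sub_smul, one_smul, ← h1, sub_self]
      rcases smul_eq_zero.mp h2 with h | h
      · exact sub_eq_zero.mp h
      · exact absurd h hw0
    have hEinv : Inv ρ T (eig ρ z W lam) := by
      intro h hh u hu
      rw [mem_eig] at hu ⊢
      exact ⟨hinv h hh u hu.1, by rw [hzcomm h hh u hu.1, hu.2, map_smul]⟩
    have hwE : w ∈ eig ρ z W lam := (mem_eig ρ z W lam w).mpr ⟨hw, hwe⟩
    by_cases hl1 : lam = 1
    · rw [hl1] at hEinv hwE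
      have hlt : eig ρ z W 1 < W := by
        refine lt_of_le_of_ne inf_le_left ?_
        intro heq
        apply hz1
        intro u hu
        have : u ∈ eig ρ z W 1 := by rw [heq]; exact hu
        rw [mem_eig] at this
        rw [this.2, one_smul]
      have hfr := Submodule.finrank_lt_finrank_of_lt hlt
      have hPhiE : ∀ u ∈ eig ρ z W 1, Φ u ∈ eig ρ z W 1 := by
        intro u hu
        rw [mem_eig] at hu ⊢
        refine ⟨hPhi u hu.1, ?_⟩
        rw [hΦρ, hu.2, one_smul, one_smul]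
      have h3 := IH (Module.finrank K (eig ρ z W 1)) (by omega) T _ hEinv hPhiE le_rfl
      have hmono : dser T (Nat.log 2 (m / orderOf (q : ZMod p)) + 1) ≤
          dser T (Nat.log 2 (Module.finrank K (eig ρ z W 1) / orderOf (q : ZMod p)) + 1) := by
        apply dser_anti T
        have h4 : Module.finrank K (eig ρ z W 1) / orderOf (q : ZMod p) ≤
            m / orderOf (q : ZMod p) := Nat.div_le_div_right (by omega)
        have h5 := Nat.log_mono_right (b := 2) h4
        omega
      exact h3 g (hmono hg) w hwE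
    · have hkey := orbit_bound ρ q hq φ hφ hφs Φ hΦi hΦs hΦρ z W hPhi lam hl1 hlamp
      have hd' : Module.finrank K (eig ρ z W lam) ≤ m / orderOf (q : ZMod p) := by
        rw [Nat.le_div_iff_mul_le hepos]
        calc Module.finrank K (eig ρ z W lam) * orderOf (q : ZMod p)
            = orderOf (q : ZMod p) * Module.finrank K (eig ρ z W lam) := mul_comm _ _
          _ ≤ Module.finrank K W := hkey
          _ ≤ m := hd
      exact claim ρ hP (m / orderOf (q : ZMod p)) T _ hEinv hd' g hg w hwE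

end Cfsg.Agent.helper20.LinDL
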