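import Mathlib
import Cfsg.Agent.Lib_helper20_LinDL4

set_option autoImplicit false
set_option linter.unusedSectionVars false
set_option linter.unusedVariables false
set_option linter.style.longLine false
set_option linter.style.haveILetI false

/-!
Derived length of finite `p`-groups of linear maps, part 5: base-`b` versions (`2 ≤ b ≤ p`) of the
main induction in cross characteristic (helper20).
-/

namespace Cfsg.Agent.helper20.LinDL

open Cfsg.Agent.helper20.DerLen
open scoped commutatorElement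

variable {K V P : Type*} [Field K] [AddCommGroup V] [Module K V] [Group P]
variable (ρ : P →* Module.End K V)

/-- the statement proved by induction on `n`, with logarithms to base `b`. -/
def ClaimB (b n : ℕ) : Prop :=
  ∀ (T : Subgroup P) (W : Submodule K V), Inv ρ T W → Module.finrank K W ≤ n →
    Triv ρ (dser T (Nat.log b n + 1)) W

theorem log_arith_b {b a k n : ℕ} (hb : 2 ≤ b) (hk : 1 ≤ k) (h : b ^ a * k ≤ n) :
    a + (Nat.log b k + 1) ≤ Nat.log b n + 1 := by
  have h1 : b ^ (a + Nat.log b k) ≤ n := by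
    rw [pow_add]
    exact (Nat.mul_le_mul_left _ (Nat.pow_log_le_self b (by omega))).trans h
  have h2 := Nat.le_log_of_pow_le (by omega) h1
  omega

theorem perm_decomp_b [Finite P] [FiniteDimensional K V] {p : ℕ} [hp : Fact p.Prime]
    (hP : IsPGroup p P) (b : ℕ) (hb2 : 2 ≤ b) (hbp : b ≤ p) (n : ℕ) (IH : ∀ n' < n, ClaimB ρ b n')
    (T : Subgroup P) (W : Submodule K V) (hinv : Inv ρ T W) (hd : Module.finrank K W ≤ n)
    (y : P) (hy : y ∈ T)
    (hperm : ∀ h ∈ T, ∀ lam : K, ∃ mu : K, ∀ w ∈ W, ρ y w = lam • w → ρ y (ρ h w) = mu • ρ h w)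
    (hns : ∀ lam : K, ∃ w ∈ W, ρ y w ≠ lam • w)
    (hspan : ∀ g : P, (∀ lam : K, ∀ w ∈ W, ρ y w = lam • w → ρ g w = w) → ∀ w ∈ W, ρ g w = w) :
    Triv ρ (dser T (Nat.log b n + 1)) W := by
  classical
  intro g hg
  apply hspan g
  intro lam w hwW hwe
  obtain ⟨E, hE⟩ : ∃ E : Submodule K V, E = eig ρ y W lam := ⟨_, rfl⟩
  have hwE : w ∈ E := by rw [hE, mem_eig]; exact ⟨hwW, hwe⟩
  have hEW : E ≤ W := by rw [hE]; exact inf_le_left
  by_cases hEbot : E = ⊥
  · rw [hEbot, Submodule.mem_bot] at hwE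
    rw [hwE, map_zero]
  obtain ⟨w₀, hw₀E, hw₀0⟩ := Submodule.exists_mem_ne_zero_of_ne_bot hEbot
  have hw₀E' : w₀ ∈ eig ρ y W lam := by rw [← hE]; exact hw₀E
  -- dimensions
  have hnE1 : 1 ≤ Module.finrank K E := by
    rcases Nat.eq_zero_or_pos (Module.finrank K E) with h | h
    · exact absurd (Submodule.finrank_eq_zero.mp h) hEbot
    · exact h
  have hElt : E < W := by
    refine lt_of_le_of_ne hEW ?_
    intro h
    obtain ⟨w', hw'W, hw'⟩ := hns lam
    apply hw'
    have : w' ∈ eig ρ y W lam := by rw [← hE, h]; exact hw'W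
    exact ((mem_eig ρ y W lam w').mp this).2
  have hnElt : Module.finrank K E < n :=
    lt_of_lt_of_le (Submodule.finrank_lt_finrank_of_lt hElt) hd
  -- eigenvalue function
  have hperm' : ∀ h : T, ∃ mu : K, ∀ w ∈ E, ρ (h : P) w ∈ eig ρ y W mu := by
    intro h
    obtain ⟨mu, hmu⟩ := hperm h h.2 lam
    refine ⟨mu, fun w hw => ?_⟩
    rw [hE, mem_eig] at hw
    rw [mem_eig]
    exact ⟨hinv h h.2 w hw.1, hmu w hw.1 hw.2⟩
  choose mu hmu using hperm'
  -- fibres of `mu` are cosets of the stabiliser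
  have hfib : ∀ h h' : T, mu h = mu h' → ∀ w ∈ E, ρ ((h : P)⁻¹ * (h' : P)) w ∈ E := by
    intro h h' hmm w hw
    have hv : ρ (h' : P) w ∈ eig ρ y W (mu h) := by rw [hmm]; exact hmu h' w hw
    obtain ⟨nu, hnu⟩ := hperm (h : P)⁻¹ (T.inv_mem h.2) (mu h)
    have hu₀ := hmu h w₀ hw₀E
    rw [mem_eig] at hu₀
    have h1 := hnu _ hu₀.1 hu₀.2
    rw [rho_inv_apply] at h1
    have h2 : w₀ ∈ eig ρ y W nu := by
      rw [mem_eig]; exact ⟨hEW hw₀E, h1⟩
    have hnl : nu = lam := eig_unique ρ y W hw₀0 h2 hw₀E'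
    rw [mem_eig] at hv
    rw [rho_mul_apply, hE, mem_eig]
    refine ⟨hinv _ (T.inv_mem h.2) _ hv.1, ?_⟩
    rw [← hnl]
    exact hnu _ hv.1 hv.2
  obtain ⟨S, hS⟩ : ∃ S : Subgroup P, S = stabE ρ T E := ⟨_, rfl⟩
  have hST : S ≤ T := by
    rw [hS]; intro h hh; exact hh.1
  have hSinv : Inv ρ S E := by
    rw [hS]; intro h hh w hw; exact hh.2.1 w hw
  have hfibS : ∀ h h' : T, mu h = mu h' → (h : P)⁻¹ * (h' : P) ∈ S := by
    intro h h' hmm
    rw [hS, mem_stabE]
    refine ⟨T.mul_mem (T.inv_mem h.2) h'.2, hfib h h' hmm, ?_⟩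
    have e : ((h : P)⁻¹ * (h' : P))⁻¹ = (h' : P)⁻¹ * (h : P) := by group
    rw [e]
    exact hfib h' h hmm.symm
  -- counting
  haveI : Fintype T := Fintype.ofFinite T
  haveI : Fintype S := Fintype.ofFinite S
  obtain ⟨s, hs⟩ : ∃ s : Finset K, s = Finset.image mu Finset.univ := ⟨_, rfl⟩
  have hc1 : ∀ nu ∈ s, Module.finrank K E ≤ Module.finrank K (eig ρ y W nu) := by
    intro nu hnu
    rw [hs, Finset.mem_image] at hnu
    obtain ⟨h, _, rfl⟩ := hnu
    have h1 : E.map (rhoEquiv ρ (h : P) : V →ₗ[K] V) ≤ eig ρ y W (mu h) := by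
      rintro v ⟨w, hw, rfl⟩
      exact hmu h w hw
    have h2 := Submodule.finrank_mono h1
    rwa [LinearEquiv.finrank_map_eq] at h2
  have hc2 : ∑ nu ∈ s, Module.finrank K (eig ρ y W nu) ≤ Module.finrank K W :=
    sum_finrank_le_of_indep (eig ρ y W) (eig_indep ρ y W) W (fun _ => inf_le_left) s
  have hc3 : s.card * Module.finrank K E ≤ Module.finrank K W := by
    refine le_trans ?_ hc2
    have := Finset.card_nsmul_le_sum s (fun nu => Module.finrank K (eig ρ y W nu))
      (Module.finrank K E) hc1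
    simpa using this
  have hc4 : Fintype.card T ≤ Fintype.card S * s.card := by
    have := Finset.card_le_mul_card_image (f := mu) (Finset.univ : Finset T) (Fintype.card S) ?_
    · rw [← hs] at this
      simpa using this
    · intro nu hnu
      rw [Finset.mem_image] at hnu
      obtain ⟨h₀, _, rfl⟩ := hnu
      have h1 : ((Finset.univ : Finset T).filter (fun x => mu x = mu h₀)).card ≤
          ((Finset.univ : Finset S).image (fun x : S => (x : P))).card := by
        apply Finset.card_le_card_of_injOn (fun x : T => (h₀ : P)⁻¹ * (x : P))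
        · intro x hx
          have hx' : mu x = mu h₀ := (Finset.mem_filter.mp hx).2
          rw [Finset.coe_image, Set.mem_image]
          exact ⟨⟨_, hfibS h₀ x hx'.symm⟩, by simp, rfl⟩
        · intro a _ b _ hab
          have : (a : P) = (b : P) := mul_left_cancel hab
          exact Subtype.ext this
      refine h1.trans ?_
      exact Finset.card_image_le.trans (by simp)
  -- the index
  have hidx : (S.subgroupOf T).index ≤ s.card := by
    have h1 := Subgroup.card_mul_index (S.subgroupOf T)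
    have h2 : Nat.card (S.subgroupOf T) = Nat.card S :=
      Nat.card_congr (Subgroup.subgroupOfEquivOfLe hST).toEquiv
    rw [h2, Nat.card_eq_fintype_card, Nat.card_eq_fintype_card] at h1
    rw [← h1] at hc4
    exact Nat.le_of_mul_le_mul_left hc4 Fintype.card_pos
  obtain ⟨a, ha⟩ := (hP.to_subgroup T).index (S.subgroupOf T)
  have hTa : dser T a ≤ S := by
    have h1 := derivedSeries_le_of_index_dvd (hP.to_subgroup T) a (S.subgroupOf T) (by rw [ha])
    have h2 := Subgroup.map_mono (f := T.subtype) h1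
    rw [map_derivedSeries_subtype, Subgroup.subgroupOf_map_subtype] at h2
    exact h2.trans inf_le_left
  have harith : b ^ a * Module.finrank K E ≤ n := by
    have h1 : b ^ a ≤ s.card := by
      refine le_trans ?_ hidx
      rw [ha]
      exact Nat.pow_le_pow_left hbp a
    exact (Nat.mul_le_mul_right _ h1).trans (hc3.trans hd)
  have hle := log_arith_b hb2 hnE1 harith
  have h3 : g ∈ dser S (Nat.log b (Module.finrank K E) + 1) := by
    apply dser_mono hTa
    rw [dser_add]
    exact dser_anti T hle hg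
  exact IH _ hnElt S E hSinv (le_refl _) g h3 w hwE


/-- cross-characteristic main induction, base `b`. -/
theorem claimB [IsAlgClosed K] [Finite P] [FiniteDimensional K V] {p : ℕ} [hp : Fact p.Prime]
    (hP : IsPGroup p P) (hpK : (p : K) ≠ 0) (b : ℕ) (hb2 : 2 ≤ b) (hbp : b ≤ p) :
    ∀ n : ℕ, ClaimB ρ b n := by
  intro n
  induction n using Nat.strong_induction_on with
  | _ n IH =>
  intro T W hinv hd
  have hspan : ∀ y : P, y ∈ T → ∀ g : P,
      (∀ lam : K, ∀ w ∈ W, ρ y w = lam • w → ρ g w = w) → ∀ w ∈ W, ρ g w = w := by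
    intro y hy g hg
    obtain ⟨k, hk⟩ := hP y
    have hm : ((p ^ k : ℕ) : K) ≠ 0 := by
      rw [Nat.cast_pow]; exact pow_ne_zero _ hpK
    have hf : (ρ y) ^ (p ^ k) = 1 := by
      rw [← map_pow, hk, map_one]
    apply span_eigen (ρ y) (p ^ k) hm hf W (fun w hw => hinv y hy w hw) (fun w => ρ g w = w)
    · intro a b ha hb
      rw [map_add, ha, hb]
    · exact map_zero _
    · intro mu w hw hwe
      exact hg mu w hw hwe
  by_cases hcen : cen ρ hinv = T
  · have h1 := triv_of_cen_eq ρ hinv hcen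
    exact h1.mono ρ (dser_anti T (by omega))
  · by_cases hB1 : ∃ z ∈ cen ρ hinv, ∀ lam : K, ∃ w ∈ W, ρ z w ≠ lam • w
    · obtain ⟨z, hz, hzns⟩ := hB1
      have hzT : z ∈ T := cen_le ρ hinv hz
      apply perm_decomp_b ρ hP b hb2 hbp n IH T W hinv hd z hzT ?_ hzns (hspan z hzT)
      intro h hh lam
      refine ⟨lam, fun w hw hwe => ?_⟩
      rw [((mem_cen ρ hinv z).mp hz).2 h hh w hw, hwe, map_smul]
    · push Not at hB1
      obtain ⟨x, hxT, hxc, hxcomm⟩ := exists_second_center ρ hP hinv hcen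
      apply perm_decomp_b ρ hP b hb2 hbp n IH T W hinv hd x hxT ?_ ?_ (hspan x hxT)
      · intro h hh lam
        obtain ⟨c, hc⟩ := hB1 _ (hxcomm h hh)
        refine ⟨c * lam, fun w hw hwe => ?_⟩
        have e : x * h = h * x * (x⁻¹ * h⁻¹ * x * h) := by group
        rw [← rho_mul_apply, e, rho_mul_apply, rho_mul_apply, hc w hw, map_smul, hwe,
          smul_smul, map_smul]
      · intro lam
        by_contra hcon
        push Not at hcon
        apply hxc
        rw [mem_cen]
        refine ⟨hxT, fun h hh w hw => ?_⟩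
        rw [hcon _ (hinv h hh w hw), hcon w hw, map_smul]

/-- main induction for Frobenius-stable subspaces, base `b`. -/
theorem claim2B [IsAlgClosed K] [Finite P] [FiniteDimensional K V] {p : ℕ} [hp : Fact p.Prime]
    (hP : IsPGroup p P) (hpK : (p : K) ≠ 0) (b : ℕ) (hb2 : 2 ≤ b) (hbp : b ≤ p)
    (q : ℕ) (hq : ¬ p ∣ q)
    (φ : K →+* K) (hφ : ∀ x, φ x = x ^ q) (hφs : Function.Surjective φ)
    (Φ : V →+ V) (hΦi : Function.Injective Φ) (hΦs : ∀ (c : K) (v : V), Φ (c • v) = φ c • Φ v)
    (hΦρ : ∀ (g : P) (v : V), ρ g (Φ v) = Φ (ρ g v)) :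
    ∀ (m : ℕ) (T : Subgroup P) (W : Submodule K V), Inv ρ T W → (∀ w ∈ W, Φ w ∈ W) →
      Module.finrank K W ≤ m →
      Triv ρ (dser T (Nat.log b (m / orderOf (q : ZMod p)) + 1)) W := by
  intro m
  induction m using Nat.strong_induction_on with
  | _ m IH =>
  intro T W hinv hPhi hd
  have hq0 : (q : ZMod p) ≠ 0 := by
    rw [Ne, ZMod.natCast_eq_zero_iff]
    exact hq
  have hepos : 0 < orderOf (q : ZMod p) := by
    have : IsOfFinOrder (q : ZMod p) := by
      have hu : IsUnit (q : ZMod p) := isUnit_iff_ne_zero.mpr hq0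
      exact hu.isOfFinOrder
    exact this.orderOf_pos
  by_cases htriv : Triv ρ T W
  · exact htriv.mono ρ (dser_le_self T _)
  · obtain ⟨z, hzc, hzp, hz1⟩ := exists_central_order_p ρ hP hinv htriv
    have hzT : z ∈ T := cen_le ρ hinv hzc
    have hzcomm := ((mem_cen ρ hinv z).mp hzc).2
    have hspan : ∀ g : P,
        (∀ lam : K, ∀ w ∈ W, ρ z w = lam • w → ρ g w = w) → ∀ w ∈ W, ρ g w = w := by
      intro g hg
      obtain ⟨k, hk⟩ := hP z
      have hm : ((p ^ k : ℕ) : K) ≠ 0 := by
        rw [Nat.cast_pow]; exact pow_ne_zero _ hpK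
      have hf : (ρ z) ^ (p ^ k) = 1 := by
        rw [← map_pow, hk, map_one]
      apply span_eigen (ρ z) (p ^ k) hm hf W (fun w hw => hinv z hzT w hw) (fun w => ρ g w = w)
      · intro a b ha hb
        rw [map_add, ha, hb]
      · exact map_zero _
      · intro mu w hw hwe
        exact hg mu w hw hwe
    intro g hg
    apply hspan g
    intro lam w hw hwe
    by_cases hw0 : w = 0
    · rw [hw0, map_zero]
    have hlamp : lam ^ p = 1 := by
      have h1 := rho_pow_eig ρ z lam w hwe p
      rw [hzp w hw] at h1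
      have h2 : (lam ^ p - 1) • w = 0 := by
        rw [sub_smul, one_smul, ← h1, sub_self]
      rcases smul_eq_zero.mp h2 with h | h
      · exact sub_eq_zero.mp h
      · exact absurd h hw0
    have hEinv : Inv ρ T (eig ρ z W lam) := by
      intro h hh u hu
      rw [mem_eig] at hu ⊢
      exact ⟨hinv h hh u hu.1, by rw [hzcomm h hh u hu.1, hu.2, map_smul]⟩
    have hwE : w ∈ eig ρ z W lam := (mem_eig ρ z W lam w).mpr ⟨hw, hwe⟩
    by_cases hl1 : lam = 1
    · rw [hl1] at hEinv hwE
      have hlt : eig ρ z W 1 < W := by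
        refine lt_of_le_of_ne inf_le_left ?_
        intro heq
        apply hz1
        intro u hu
        have : u ∈ eig ρ z W 1 := by rw [heq]; exact hu
        rw [mem_eig] at this
        rw [this.2, one_smul]
      have hfr := Submodule.finrank_lt_finrank_of_lt hlt
      have hPhiE : ∀ u ∈ eig ρ z W 1, Φ u ∈ eig ρ z W 1 := by
        intro u hu
        rw [mem_eig] at hu ⊢
        refine ⟨hPhi u hu.1, ?_⟩
        rw [hΦρ, hu.2, one_smul, one_smul]
      have h3 := IH (Module.finrank K (eig ρ z W 1)) (by omega) T _ hEinv hPhiE le_rfl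
      have hmono : dser T (Nat.log b (m / orderOf (q : ZMod p)) + 1) ≤
          dser T (Nat.log b (Module.finrank K (eig ρ z W 1) / orderOf (q : ZMod p)) + 1) := by
        apply dser_anti T
        have h4 : Module.finrank K (eig ρ z W 1) / orderOf (q : ZMod p) ≤
            m / orderOf (q : ZMod p) := Nat.div_le_div_right (by omega)
        have h5 := Nat.log_mono_right (b := b) h4
        omega
      exact h3 g (hmono hg) w hwE
    · have hkey := orbit_bound ρ q hq φ hφ hφs Φ hΦi hΦs hΦρ z W hPhi lam hl1 hlamp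
      have hd' : Module.finrank K (eig ρ z W lam) ≤ m / orderOf (q : ZMod p) := by
        rw [Nat.le_div_iff_mul_le hepos]
        calc Module.finrank K (eig ρ z W lam) * orderOf (q : ZMod p)
            = orderOf (q : ZMod p) * Module.finrank K (eig ρ z W lam) := mul_comm _ _
          _ ≤ Module.finrank K W := hkey
          _ ≤ m := hd
      exact claimB ρ hP hpK b hb2 hbp (m / orderOf (q : ZMod p)) T _ hEinv hd' g hg w hwE

end Cfsg.Agent.helper20.LinDL
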