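import Mathlib
import Cfsg.Agent.Lib_helper20_DerLen

set_option autoImplicit false
set_option linter.style.haveILetI false
set_option linter.unusedSectionVars false
set_option linter.unusedVariables false

/-! Wreath products acting linearly on direct sums, and `p`-subgroups of general linear
groups of large derived length. -/

namespace Cfsg.Agent.helper20.WrEmb

open Cfsg.Agent.helper20.DerLen RegularWreathProduct

section WrAct

variable {F : Type*} [Field F] {U : Type*} [AddCommGroup U] [Module F U]
variable {D C : Type*} [Group D] [Group C]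

/-- the imprimitive action of a regular wreath product on a direct sum of copies of a module. -/
def wrAct (f : D →* Module.End F U) : D ≀ᵣ C →* Module.End F (C → U) where
  toFun a :=
    { toFun := fun v x => f (a.left x) (v (a.right⁻¹ * x))
      map_add' := by
        intro v w
        funext x
        simp only [Pi.add_apply, map_add]
      map_smul' := by
        intro c v
        funext x
        simp only [Pi.smul_apply, map_smul, RingHom.id_apply] }
  map_one' := by
    apply LinearMap.ext
    intro v
    funext x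
    show f ((1 : D ≀ᵣ C).left x) (v ((1 : D ≀ᵣ C).right⁻¹ * x)) = v x
    rw [one_left, one_right, Pi.one_apply, map_one, inv_one, one_mul]
    rfl
  map_mul' := by
    intro a b
    apply LinearMap.ext
    intro v
    funext x
    show f ((a * b).left x) (v ((a * b).right⁻¹ * x)) =
      f (a.left x) (f (b.left (a.right⁻¹ * x)) (v (b.right⁻¹ * (a.right⁻¹ * x))))
    rw [mul_left, mul_right, Pi.mul_apply, map_mul, mul_inv_rev, mul_assoc]
    rfl

theorem wrAct_apply (f : D →* Module.End F U) (a : D ≀ᵣ C) (v : C → U) (x : C) :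
    wrAct f a v x = f (a.left x) (v (a.right⁻¹ * x)) := rfl

theorem wrAct_injective [Nontrivial U] (f : D →* Module.End F U) (hf : Function.Injective f) :
    Function.Injective (wrAct (C := C) f) := by
  classical
  rw [injective_iff_map_eq_one]
  intro a ha
  obtain ⟨u, hu⟩ := exists_ne (0 : U)
  have hfu : ∀ d : D, f d u ≠ 0 := by
    intro d h0
    have h1 : f d⁻¹ (f d u) = u := by
      rw [← Module.End.mul_apply, ← map_mul, inv_mul_cancel, map_one]
      rfl
    rw [h0, map_zero] at h1
    exact hu h1.symm
  -- right component trivial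
  have hr : a.right = 1 := by
    by_contra hne
    have h1 : wrAct f a (Pi.single 1 u) a.right =
        ((1 : Module.End F (C → U)) (Pi.single 1 u)) a.right := by rw [ha]
    rw [wrAct_apply, inv_mul_cancel, Pi.single_eq_same] at h1
    have h2 : ((1 : Module.End F (C → U)) (Pi.single 1 u)) a.right = 0 := by
      show (Pi.single (1 : C) u : C → U) a.right = 0
      rw [Pi.single_apply, if_neg hne]
    rw [h2] at h1
    exact hfu _ h1
  have hl : a.left = 1 := by
    funext x
    apply hf
    rw [Pi.one_apply, map_one]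
    apply LinearMap.ext
    intro w
    have h1 : wrAct f a (fun _ => w) x = ((1 : Module.End F (C → U)) (fun _ => w)) x := by
      rw [ha]
    rw [wrAct_apply] at h1
    exact h1
  cases a with
  | mk l r =>
    simp only at hr hl
    subst hr hl
    rfl

end WrAct

section Good

variable (F : Type*) [Field F]

/-- there is a finite `p`-group with nontrivial `j`-th derived subgroup acting faithfully
on a `d`-dimensional space. -/
def Good (p d j : ℕ) : Prop :=
  ∃ (Q : Type) (_ : Group Q) (_ : Finite Q) (U : Type) (_ : AddCommGroup U) (_ : Module F U)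
    (_ : Module.Finite F U) (_ : Nontrivial U) (f : Q →* Module.End F U),
    IsPGroup p Q ∧ derivedSeries Q j ≠ ⊥ ∧ Module.finrank F U = d ∧ Function.Injective f

variable {F}

theorem Good.step {p : ℕ} [hp : Fact p.Prime] {d j : ℕ} (h : Good F p d j) :
    Good F p (p * d) (j + 1) := by
  classical
  obtain ⟨Q, iG, iF, U, iA, iM, iMF, iN, f, hQp, hder, hrank, hf⟩ := h
  haveI : NeZero p := ⟨hp.out.ne_zero⟩
  have hcardC : Nat.card (Multiplicative (ZMod p)) = p := by
    rw [Nat.card_eq_fintype_card, Fintype.card_multiplicative, ZMod.card]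
  have hCne : ∃ g : Multiplicative (ZMod p), g ≠ 1 := by
    haveI : Nontrivial (Multiplicative (ZMod p)) := by
      rw [← Finite.one_lt_card_iff_nontrivial, hcardC]
      exact hp.out.one_lt
    exact exists_ne 1
  obtain ⟨k, hk⟩ := (IsPGroup.iff_card (p := p) (G := Q)).mp hQp
  refine ⟨Q ≀ᵣ Multiplicative (ZMod p), inferInstance, inferInstance,
    Multiplicative (ZMod p) → U, inferInstance, inferInstance, inferInstance, inferInstance,
    wrAct f, ?_, ?_, ?_, ?_⟩
  · apply IsPGroup.of_card (n := k * p + 1)
    rw [RegularWreathProduct.card, hcardC, hk, ← pow_mul, pow_succ]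
  · exact derivedSeries_wreath_ne_bot hCne j hder
  · rw [Module.finrank_pi_fintype]
    simp only [hrank, Finset.sum_const, Finset.card_univ, smul_eq_mul]
    rw [Fintype.card_multiplicative, ZMod.card]
  · exact wrAct_injective f hf

theorem Good.iter {p : ℕ} [hp : Fact p.Prime] {d : ℕ} (h : Good F p d 0) :
    ∀ k : ℕ, Good F p (p ^ k * d) k := by
  intro k
  induction k with
  | zero => rw [pow_zero, one_mul]; exact h
  | succ k ih =>
    have := ih.step
    rw [← mul_assoc, ← pow_succ'] at this
    exact this

theorem orderOf_natCast_pos {p : ℕ} [hp : Fact p.Prime] (q : ℕ) (hpq : ¬ p ∣ q) :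
    0 < orderOf (q : ZMod p) := by
  rw [orderOf_pos_iff, isOfFinOrder_iff_pow_eq_one]
  refine ⟨p - 1, Nat.sub_pos_of_lt hp.out.one_lt, ZMod.pow_card_sub_one_eq_one ?_⟩
  intro h0
  exact hpq ((ZMod.natCast_eq_zero_iff q p).mp h0)

theorem dvd_pow_orderOf_sub_one {p : ℕ} [hp : Fact p.Prime] (q : ℕ) (hq : 0 < q) :
    p ∣ q ^ orderOf (q : ZMod p) - 1 := by
  have h1 : ((q ^ orderOf (q : ZMod p) : ℕ) : ZMod p) = ((1 : ℕ) : ZMod p) := by
    rw [Nat.cast_pow, pow_orderOf_eq_one, Nat.cast_one]
  have h2 := (ZMod.natCast_eq_natCast_iff _ _ _).mp h1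
  exact (Nat.modEq_iff_dvd' (Nat.one_le_pow _ _ hq)).mp h2.symm

theorem Good.base {F : Type*} [Field F] [Finite F] {p : ℕ} [hp : Fact p.Prime] (q : ℕ)
    (hq : Nat.card F = q) (hpq : ¬ p ∣ q) : Good F p (orderOf (q : ZMod p)) 0 := by
  classical
  obtain ⟨e, he⟩ : ∃ e : ℕ, e = orderOf (q : ZMod p) := ⟨_, rfl⟩
  rw [← he]
  have hepos : 0 < e := by rw [he]; exact orderOf_natCast_pos q hpq
  haveI : NeZero e := ⟨hepos.ne'⟩
  have hqpos : 0 < q := by rw [← hq]; exact Nat.card_pos
  obtain ⟨l, hl⟩ : ∃ l : ℕ, l = ringChar F := ⟨_, rfl⟩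
  haveI hcF : CharP F l := by rw [hl]; exact ringChar.charP F
  haveI : Fintype F := Fintype.ofFinite F
  obtain ⟨f, hlp, hcard⟩ := FiniteField.card F l
  haveI : Fact l.Prime := ⟨hlp⟩
  have hdvd : p ∣ Nat.card (FiniteField.Extension F l e)ˣ := by
    rw [Nat.card_units, FiniteField.natCard_extension, hq, he]
    exact dvd_pow_orderOf_sub_one q hqpos
  obtain ⟨u, hu⟩ := exists_prime_orderOf_dvd_card' p hdvd
  have hcardQ : Nat.card ↥(Subgroup.zpowers u) = p := by rw [Nat.card_zpowers, hu]
  refine ⟨↥(Subgroup.zpowers u), inferInstance, inferInstance, FiniteField.Extension F l e,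
    inferInstance, inferInstance, inferInstance, inferInstance,
    ((Algebra.lmul F (FiniteField.Extension F l e) :
      FiniteField.Extension F l e →ₐ[F] Module.End F (FiniteField.Extension F l e)) :
      FiniteField.Extension F l e →* Module.End F (FiniteField.Extension F l e)).comp
      ((Units.coeHom (FiniteField.Extension F l e)).comp (Subgroup.zpowers u).subtype),
    ?_, ?_, ?_, ?_⟩
  · apply IsPGroup.of_card (n := 1)
    rw [hcardQ, pow_one]
  · rw [derivedSeries_zero]
    haveI : Nontrivial ↥(Subgroup.zpowers u) := by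
      rw [← Finite.one_lt_card_iff_nontrivial, hcardQ]
      exact hp.out.one_lt
    exact top_ne_bot
  · exact FiniteField.finrank_extension F l e
  · intro a b hab
    have h1 : Algebra.lmul F (FiniteField.Extension F l e)
        (((a : (FiniteField.Extension F l e)ˣ) : FiniteField.Extension F l e)) =
        Algebra.lmul F (FiniteField.Extension F l e)
        (((b : (FiniteField.Extension F l e)ˣ) : FiniteField.Extension F l e)) := hab
    have h2 := Algebra.lmul_injective h1
    exact Subtype.ext (Units.ext h2)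

theorem Good.exists_hom {F : Type*} [Field F] {p d j n : ℕ} (h : Good F p d j) (hdn : d ≤ n) :
    ∃ (Q : Type) (_ : Group Q) (_ : Finite Q) (ψ : Q →* GL (Fin n) F),
      IsPGroup p Q ∧ derivedSeries Q j ≠ ⊥ ∧ Function.Injective ψ := by
  classical
  obtain ⟨Q, iG, iF, U, iA, iM, iMF, iN, f, hQp, hder, hrank, hf⟩ := h
  have hfr : Module.finrank F (U × (Fin (n - d) → F)) = n := by
    rw [Module.finrank_prod, hrank, Module.finrank_fin_fun]
    omega
  obtain ⟨b⟩ : Nonempty (Module.Basis (Fin n) F (U × (Fin (n - d) → F))) :=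
    ⟨Module.finBasisOfFinrankEq F _ hfr⟩
  let f' : Q →* Module.End F (U × (Fin (n - d) → F)) :=
    { toFun := fun a => (f a).prodMap LinearMap.id
      map_one' := by
        rw [map_one]
        exact LinearMap.prodMap_one
      map_mul' := by
        intro a c
        rw [map_mul]
        apply LinearMap.ext
        intro v
        rfl }
  have hf' : ∀ a, f' a = (f a).prodMap LinearMap.id := fun a => rfl
  let g : Q →* Matrix (Fin n) (Fin n) F :=
    (MonoidHomClass.toMonoidHom (LinearMap.toMatrixAlgEquiv b)).comp f'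
  have hg : ∀ a, g a = LinearMap.toMatrixAlgEquiv b (f' a) := fun a => rfl
  refine ⟨Q, iG, iF, g.toHomUnits, hQp, hder, ?_⟩
  intro a c hac
  have h1 : g a = g c := by
    rw [← MonoidHom.coe_toHomUnits g a, ← MonoidHom.coe_toHomUnits g c, hac]
  rw [hg, hg] at h1
  have h2 := (LinearMap.toMatrixAlgEquiv b).injective h1
  apply hf
  apply LinearMap.ext
  intro u
  have h3 : (f' a (u, 0)).1 = (f' c (u, 0)).1 := by rw [h2]
  exact h3

end Good

section SylowEmb

theorem sylow_derivedSeries_ne_bot {G : Type*} [Group G] [Finite G] {p : ℕ} [hp : Fact p.Prime]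
    (P : Sylow p G) {Q : Type*} [Group Q] (ψ : Q →* G) (hψ : Function.Injective ψ)
    (hQ : IsPGroup p Q) (k : ℕ) (h : derivedSeries Q k ≠ ⊥) :
    derivedSeries ↥(P : Subgroup G) k ≠ ⊥ := by
  have hRp : IsPGroup p ψ.range := by
    rw [MonoidHom.range_eq_map]
    exact (IsPGroup.to_subgroup hQ ⊤).map ψ
  have hR : dser ψ.range k ≠ ⊥ := by
    have h1 : (derivedSeries Q k).map ψ = dser ψ.range k := by
      rw [← dser_top, map_dser, ← MonoidHom.range_eq_map]
    rw [← h1, Ne, Subgroup.map_eq_bot_iff_of_injective _ hψ]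
    exact h
  obtain ⟨P₀, hRP₀⟩ := hRp.exists_le_sylow
  obtain ⟨g, hg⟩ := MulAction.exists_smul_eq G P₀ P
  have h1 : dser (P₀ : Subgroup G) k ≠ ⊥ := by
    intro h0
    apply hR
    rw [eq_bot_iff, ← h0]
    exact dser_mono hRP₀ k
  have h2 : (P : Subgroup G) = (P₀ : Subgroup G).map (MulAut.conj g).toMonoidHom := by
    rw [← hg]
    rfl
  have h3 : dser (P : Subgroup G) k ≠ ⊥ := by
    rw [h2, ← map_dser, Ne, Subgroup.map_eq_bot_iff_of_injective _ (MulAut.conj g).injective]
    exact h1
  rw [Ne, derivedSeries_eq_bot_iff]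
  exact h3

end SylowEmb

end Cfsg.Agent.helper20.WrEmb
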