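import Mathlib
import Cfsg.Agent.Lib_helper20_MillF

set_option autoImplicit false
set_option linter.style.haveILetI false
set_option linter.unusedSectionVars false

/-! The special case of degree `9`: a `4`-transitive group of degree `9` contains `A_9`. -/

namespace Cfsg.Agent.helper20.Mill

open Equiv MulAction

variable {α : Type*} [Fintype α] [DecidableEq α]

theorem card_fixing (G : Subgroup (Perm α)) (Φ : Finset α) :
    Nat.card (fixingSubgroup G (Φ : Set α)) = Nat.card ↥(G ⊓ pfix Φ) := by
  have h2 : fixingSubgroup G (Φ : Set α) = (pfix Φ).subgroupOf G := by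
    ext x
    rw [mem_fixingSubgroup_iff, Subgroup.mem_subgroupOf, mem_pfix]
    constructor
    · intro h a ha
      exact h a (Finset.mem_coe.mpr ha)
    · intro h a ha
      exact h a (Finset.mem_coe.mp ha)
  rw [h2, helper5.card_subgroupOf_eq_card_inf, inf_comm]

/-- index formula in our notation -/
theorem card_inf_pfix_mul (G : Subgroup (Perm α)) {j : ℕ}
    (hG : IsMultiplyPretransitive G α j) (Φ : Finset α) (hΦ : Φ.card = j) :
    Nat.card G * (Fintype.card α - j).factorial =
      Nat.card ↥(G ⊓ pfix Φ) * (Fintype.card α).factorial := by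
  have h1 := hG.index_of_fixingSubgroup_mul (s := (Φ : Set α))
    (by rw [Set.ncard_coe_finset, hΦ])
  rw [Nat.card_eq_fintype_card] at h1
  rw [← card_fixing, ← h1, ← Subgroup.index_mul_card (fixingSubgroup G (Φ : Set α))]
  ring

theorem normal_of_card_lt_sq {𝔾 : Type*} [Group 𝔾] [Finite 𝔾] {P H : Subgroup 𝔾} {q : ℕ}
    (hq : q.Prime) (hPH : P ≤ H) (hP : Nat.card P = q) (hH : Nat.card H < q * q)
    {x : 𝔾} (hx : x ∈ H) {u : 𝔾} (hu : u ∈ P) : x * u * x⁻¹ ∈ P := by
  by_contra hcon
  set Q : Subgroup 𝔾 := P.map (MulAut.conj x).toMonoidHom with hQ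
  have hQH : Q ≤ H := by
    rintro _ ⟨v, hv, rfl⟩
    simp only [MulEquiv.coe_toMonoidHom, MulAut.conj_apply]
    exact H.mul_mem (H.mul_mem hx (hPH hv)) (H.inv_mem hx)
  have hQcard : Nat.card Q = q := by
    rw [← hP]
    exact (Nat.card_congr (Subgroup.equivMapOfInjective P _
      (MulAut.conj x).injective).toEquiv).symm
  have hPQ : P ⊓ Q = ⊥ := by
    have h1 : Nat.card ↥(P ⊓ Q) ∣ q := by
      rw [← hP]; exact Subgroup.card_dvd_of_le inf_le_left
    rcases (Nat.dvd_prime hq).mp h1 with h2 | h2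
    · exact Subgroup.card_eq_one.mp h2
    · exfalso
      have h3 : P ⊓ Q = P := Subgroup.eq_of_le_of_card_ge inf_le_left (by rw [h2, hP])
      have h4 : P ≤ Q := by rw [← h3]; exact inf_le_right
      have h5 : P = Q := Subgroup.eq_of_le_of_card_ge h4 (by rw [hQcard, hP])
      apply hcon
      rw [h5]
      exact ⟨u, hu, by simp [MulAut.conj_apply]⟩
  have hinj : Function.Injective (fun ab : P × Q => (⟨ab.1.1 * ab.2.1,
      H.mul_mem (hPH ab.1.2) (hQH ab.2.2)⟩ : H)) := by
    rintro ⟨a, b⟩ ⟨a', b'⟩ hab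
    have h1 : a.1 * b.1 = a'.1 * b'.1 := congrArg Subtype.val hab
    have h2 : a'.1⁻¹ * a.1 = b'.1 * b.1⁻¹ := by
      rw [inv_mul_eq_iff_eq_mul, ← mul_assoc, ← h1]; group
    have h3 : a'.1⁻¹ * a.1 ∈ P ⊓ Q :=
      ⟨P.mul_mem (P.inv_mem a'.2) a.2, by rw [h2]; exact Q.mul_mem b'.2 (Q.inv_mem b.2)⟩
    rw [hPQ, Subgroup.mem_bot] at h3
    have h4 : a = a' := by
      apply Subtype.ext
      rw [inv_mul_eq_one] at h3; exact h3.symm
    have h5 : b = b' := by
      apply Subtype.ext
      rw [h4] at h1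
      exact mul_left_cancel h1
    rw [h4, h5]
  have h6 := Nat.card_le_card_of_injective _ hinj
  rw [Nat.card_prod, hP, hQcard] at h6
  omega

/-- A nontrivial element moving at most `5` points, degree `9`, `4`-transitive. -/
theorem small5 (G : Subgroup (Perm α)) (hn : Fintype.card α = 9)
    (hG : IsMultiplyPretransitive G α 4) {g : Perm α} (hg : g ∈ G) (hg1 : g ≠ 1)
    (hs : g.support.card ≤ 5) : alternatingGroup α ≤ G := by
  haveI := hG
  have h2t : IsMultiplyPretransitive G α 2 :=
    isMultiplyPretransitive_of_le (n := 4) (by norm_num)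
      (by rw [Nat.card_eq_fintype_card, hn]; norm_num)
  have hord1 : orderOf g ≠ 1 := fun h => hg1 (orderOf_eq_one_iff.mp h)
  have hord0 : orderOf g ≠ 0 := (orderOf_pos g).ne'
  set q := (orderOf g).minFac with hq
  have hqp : q.Prime := Nat.minFac_prime hord1
  have hqd : q ∣ orderOf g := Nat.minFac_dvd _
  set g1 := g ^ (orderOf g / q) with hg1def
  have hg1ord : orderOf g1 = q := orderOf_pow_orderOf_div hord0 hqd
  have hg1G : g1 ∈ G := G.pow_mem hg _
  have hg1ne : g1 ≠ 1 := by
    intro h
    rw [h, orderOf_one] at hg1ord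
    exact hqp.one_lt.ne hg1ord
  have hsupp : g1.support.card ≤ 5 :=
    (Finset.card_le_card (Perm.support_pow_le g _)).trans hs
  by_cases h4 : g1.support.card ≤ 4
  · exact alt_le_of_small_support G hG (by omega) (by omega) g1 hg1G hg1ne h4
  · have h5 : g1.support.card = 5 := by omega
    by_cases hq2 : q = 2
    · exfalso
      have h6 : g1 ^ 2 = 1 := by rw [← hq2, ← hg1ord]; exact pow_orderOf_eq_one g1
      have := Perm.two_dvd_card_support h6
      omega
    · have hq3 : 3 ≤ q := by
        have := hqp.two_le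
        omega
      have hcyc : g1.IsCycle := by
        apply Perm.isCycle_of_prime_order
        · rw [hg1ord]; exact hqp
        · rw [hg1ord]; omega
      have hq5 : q = 5 := by rw [← hg1ord, hcyc.orderOf, h5]
      exact jordan_prime_cycle G h2t (p := 5) (by norm_num) hcyc h5 hg1G (by omega)

end Cfsg.Agent.helper20.Mill
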