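import Mathlib
import Cfsg.Agent.Lib_helper20_MillG

set_option autoImplicit false
set_option linter.style.haveILetI false
set_option linter.unusedSectionVars false

/-! Degree `9`: the sharply `4`-transitive case and the final statement. -/

namespace Cfsg.Agent.helper20.Mill

open Equiv MulAction

variable {α : Type*} [Fintype α] [DecidableEq α]

theorem nine_sharp (G : Subgroup (Perm α)) (hn : Fintype.card α = 9)
    (hG : IsMultiplyPretransitive G α 4) (Θ : Finset α) (hΘ : Θ.card = 4)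
    (hT : G ⊓ pfix Θ = ⊥) : alternatingGroup α ≤ G := by
  classical
  haveI := hG
  have h7 : Nat.Prime 7 := by norm_num
  haveI : Fact (Nat.Prime 7) := ⟨h7⟩
  have h7' : Prime (7 : ℤ) := Nat.prime_iff_prime_int.mp h7
  have hcardα : Nat.card α = 9 := by rw [Nat.card_eq_fintype_card, hn]
  have h3t : IsMultiplyPretransitive G α 3 :=
    isMultiplyPretransitive_of_le (n := 4) (by norm_num) (by rw [hcardα]; norm_num)
  have h2t : IsMultiplyPretransitive G α 2 :=
    isMultiplyPretransitive_of_le (n := 4) (by norm_num) (by rw [hcardα]; norm_num)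
  have hcardG : Nat.card G = 3024 := by
    have h1 := card_inf_pfix_mul G hG Θ hΘ
    rw [hT, Subgroup.card_bot, hn] at h1
    have e1 : (9 - 4).factorial = 120 := by decide
    have e2 : (9).factorial = 362880 := by decide
    rw [e1, e2] at h1
    omega
  obtain ⟨Φ, -, hΦ⟩ := Finset.exists_subset_card_eq (s := (Finset.univ : Finset α)) (n := 2)
    (by rw [Finset.card_univ, hn]; norm_num)
  have hcardH : Nat.card ↥(G ⊓ pfix Φ) = 42 := by
    have h1 := card_inf_pfix_mul G h2t Φ hΦ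
    rw [hcardG, hn] at h1
    have e1 : (9 - 2).factorial = 5040 := by decide
    have e2 : (9).factorial = 362880 := by decide
    rw [e1, e2] at h1
    omega
  obtain ⟨P, hcfg⟩ := exists_cfg G (p := 7) (k := 1) (r := 2) h7 (by rw [hn]) le_rfl
    (by norm_num) h3t Φ hΦ
  have hPH : P ≤ G ⊓ pfix Φ := le_inf hcfg.hPG hcfg.hPfix
  have hcompl : (Φᶜ).card = 7 := by rw [Finset.card_compl, hn, hΦ]
  obtain ⟨ω0, hω0⟩ : ∃ ω, ω ∉ Φ := by
    have : (Φᶜ).Nonempty := by rw [← Finset.card_pos, hcompl]; norm_num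
    obtain ⟨ω, hω⟩ := this
    exact ⟨ω, Finset.mem_compl.mp hω⟩
  have hcardP : Nat.card P = 7 := by
    obtain ⟨a, ha⟩ := IsPGroup.iff_card.mp hcfg.hPp
    have h1 : 7 ∣ Nat.card P := by
      have := Subgroup.index_dvd_card (MulAction.stabilizer P ω0)
      rwa [hcfg.index_stab hω0] at this
    have h2 : Nat.card P ∣ 42 := by rw [← hcardH]; exact Subgroup.card_dvd_of_le hPH
    rw [ha] at h1 h2 ⊢
    rcases a with _ | _ | a
    · norm_num at h1
    · norm_num
    · exfalso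
      have h3 : 7 ^ 2 ∣ 7 ^ (a + 1 + 1) := pow_dvd_pow 7 (by omega)
      have h4 : (49 : ℕ) ∣ 42 := by
        have := h3.trans h2
        norm_num at this
      omega
  have hHN : ∀ x, x ∈ G ⊓ pfix Φ → x ∈ Nz P := fun x hx =>
    mem_normalizer_of_conj_mem (fun u hu =>
      normal_of_card_lt_sq (q := 7) h7 hPH hcardP (by rw [hcardH]; norm_num) hx hu)
  have hMM : ∀ y, y ∈ Nz P → y ∈ MM P Φ := by
    intro y hy
    have := hcfg.pow_factorial_mem_MM (k := 1) (r := 2) (by rw [hn]) hΦ hy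
    simpa using this
  have hsingle : ∀ ω ω', ω ∉ Φ → ω' ∉ Φ → ω' ∈ MulAction.orbit P ω := by
    intro ω ω' hω hω'
    have h1 : orbF P ω = Φᶜ := Finset.eq_of_subset_of_card_le (hcfg.orbF_subset hω)
      (by rw [hcfg.card_orbF hω, hcompl])
    rw [← mem_orbF, h1, Finset.mem_compl]; exact hω'
  have hsc : ∀ y, y ∈ Nz P → ∃ m : ℤ, ∀ u ∈ P, y * u * y⁻¹ = u ^ m := by
    intro y hy
    obtain ⟨m, hm⟩ := hcfg.expo_exists (hMM y hy) hω0
    refine ⟨m, fun u hu => ?_⟩
    ext ω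
    by_cases hω : ω ∈ Φ
    · rw [hcfg.fix_of_mem (conj_mem_of_normalizer hy hu) hω,
        hcfg.fix_of_mem (P.zpow_mem hu m) hω]
    · exact hm u hu ω (hsingle ω0 ω hω0 hω)
  obtain ⟨u0, hu0, hu0move⟩ := hcfg.exists_moving hω0
  have hu01 : u0 ≠ 1 := by
    rintro rfl; exact hu0move rfl
  have hu0ord : orderOf u0 = 7 := orderOf_eq_prime (hcfg.pow_p_eq_one hu0) hu01
  have hdiv : ∀ e : ℤ, u0 ^ e = 1 → (7 : ℤ) ∣ e := by
    intro e he
    have := orderOf_dvd_iff_zpow_eq_one.mpr he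
    rwa [hu0ord] at this
  have hcent : ∀ (y : Perm α) (m : ℤ), (∀ u ∈ P, y * u * y⁻¹ = u ^ m) → (7 : ℤ) ∣ m - 1 →
      ∀ u ∈ P, y * u = u * y := by
    intro y m hm hd u hu
    obtain ⟨j, hj⟩ := hd
    have h1 : m = 1 + 7 * j := by omega
    have h2 : u ^ m = u := by
      rw [h1, zpow_add, zpow_one, zpow_mul]
      have : u ^ (7 : ℤ) = 1 := by
        have := hcfg.pow_p_eq_one hu
        rw [← zpow_natCast] at this
        exact_mod_cast this
      rw [this, one_zpow, mul_one]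
    have h3 := hm u hu
    rw [h2] at h3
    exact mul_inv_eq_iff_eq_mul.mp h3
  -- the involution in H
  obtain ⟨t, ht⟩ := exists_prime_orderOf_dvd_card' (G := ↥(G ⊓ pfix Φ)) 2
    (by rw [hcardH]; norm_num)
  have htN : t.1 ∈ Nz P := hHN t.1 t.2
  have ht2 : t.1 * t.1 = 1 := by
    have h1 : t ^ 2 = 1 := by rw [← ht]; exact pow_orderOf_eq_one t
    have h2 : (t ^ 2).1 = 1 := by rw [h1]; rfl
    rw [Subgroup.coe_pow, pow_two] at h2
    exact h2
  have ht1 : t.1 ≠ 1 := by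
    intro h
    have h1 : t = 1 := Subtype.ext h
    rw [h1, orderOf_one] at ht
    norm_num at ht
  obtain ⟨mt, hmt⟩ := hsc t.1 htN
  have hmt2 : (7 : ℤ) ∣ (mt - 1) * (mt + 1) := by
    apply hdiv
    have h1 : t.1 * (t.1 * u0 * t.1⁻¹) * t.1⁻¹ = u0 := by
      have : t.1 * (t.1 * u0 * t.1⁻¹) * t.1⁻¹ = (t.1 * t.1) * u0 * (t.1 * t.1)⁻¹ := by group
      rw [this, ht2]; simp
    rw [hmt u0 hu0, hmt _ (P.zpow_mem hu0 mt), ← zpow_mul] at h1
    have h2 : (mt - 1) * (mt + 1) = mt * mt - 1 := by ring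
    rw [h2, zpow_sub, h1, zpow_one, mul_inv_cancel]
  -- the Witt element
  obtain ⟨a, b, hab, hΦab⟩ := Finset.card_eq_two.mp hΦ
  have haΦ : a ∈ Φ := by rw [hΦab]; simp
  have hbΦ : b ∈ Φ := by rw [hΦab]; simp
  obtain ⟨x, hxG, hxN, hxσ⟩ := hcfg.hWitt (swap ⟨a, haΦ⟩ ⟨b, hbΦ⟩)
  have hxa : x a = b := by
    have := hxσ ⟨a, haΦ⟩
    simpa using this
  have hxb : x b = a := by
    have := hxσ ⟨b, hbΦ⟩
    simpa using this
  obtain ⟨mx, hmx⟩ := hsc x hxN
  have hx3N : x ^ 3 ∈ Nz P := pow_mem hxN 3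
  have hx3a : (x ^ 3) a = b := by
    simp [pow_succ, Perm.mul_apply, hxa, hxb]
  have hmx3 : ∀ u ∈ P, x ^ 3 * u * (x ^ 3)⁻¹ = u ^ (mx * mx * mx) := by
    intro u hu
    have e0 : x ^ 3 = x * x * x := by rw [pow_succ, pow_succ, pow_one]
    have e1 : x ^ 3 * u * (x ^ 3)⁻¹ = x * (x * (x * u * x⁻¹) * x⁻¹) * x⁻¹ := by
      rw [e0]; group
    rw [e1, hmx u hu, hmx _ (P.zpow_mem hu mx), hmx _ (P.zpow_mem (P.zpow_mem hu mx) mx),
      ← zpow_mul, ← zpow_mul]
    congr 1
    ring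
  have hcop : IsCoprime mx (7 : ℤ) := by
    rw [isCoprime_comm, h7'.coprime_iff_not_dvd]
    intro hd
    obtain ⟨j, hj⟩ := hd
    have h1 := hmx u0 hu0
    have h2 : u0 ^ mx = 1 := by
      rw [hj, zpow_mul]
      have : u0 ^ (7 : ℤ) = 1 := by
        have := hcfg.pow_p_eq_one hu0
        rw [← zpow_natCast] at this
        exact_mod_cast this
      rw [this, one_zpow]
    rw [h2] at h1
    apply hu01
    have h3 : x * u0 = x := by
      have := mul_inv_eq_one.mp h1
      exact this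
    exact mul_left_cancel (h3.trans (mul_one x).symm)
  have hfermat : (7 : ℤ) ∣ (mx * mx * mx - 1) * (mx * mx * mx + 1) := by
    have h1 := Int.ModEq.pow_card_sub_one_eq_one h7 hcop
    have h2 := (Int.modEq_iff_dvd.mp h1)
    have h3 : (mx * mx * mx - 1) * (mx * mx * mx + 1) = -(1 - mx ^ (7 - 1)) := by
      norm_num; ring
    rw [h3]
    exact dvd_neg.mpr (by exact_mod_cast h2)
  -- build the element
  have hfin : ∀ z : ↥(G ⊓ Nz P), (∀ u ∈ P, z.1 * u = u * z.1) → z.1 a = b →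
      alternatingGroup α ≤ G := by
    intro z hzc hza
    have hne : (hcfg.res z) ^ 7 ≠ 1 := by
      have hρ2 : (hcfg.res z) ^ 2 = 1 := by
        have h1 : Nat.card (Perm Φ) = 2 := by
          rw [Nat.card_perm, Nat.card_eq_fintype_card, Fintype.card_coe, hΦ]; rfl
        rw [← h1]; exact pow_card_eq_one'
      have hρ7 : (hcfg.res z) ^ 7 = hcfg.res z := by
        have : (hcfg.res z) ^ 7 = ((hcfg.res z) ^ 2) ^ 3 * hcfg.res z := by group
        rw [this, hρ2, one_pow, one_mul]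
      rw [hρ7]
      intro hcon
      have h1 : ((hcfg.res z) ⟨a, haΦ⟩ : α) = z.1 a := hcfg.res_apply z ⟨a, haΦ⟩
      rw [hcon, hza] at h1
      exact hab h1
    obtain ⟨g, hg, hg1, hfix⟩ := hcfg.finish z (hMM z.1 z.2.2) hzc hne
    exact alt_le_of_fix_compl G h3t (by rw [hn]; norm_num) (by rw [hn]; norm_num) Φ hΦ hg hg1
      hfix
  rcases h7'.dvd_or_dvd hfermat with hx1 | hx1
  · -- x^3 centralises P
    exact hfin ⟨x ^ 3, G.pow_mem hxG 3, hx3N⟩ (hcent _ _ hmx3 hx1) hx3a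
  · rcases h7'.dvd_or_dvd hmt2 with ht1' | ht1'
    · -- t centralises P: contradiction
      exfalso
      have htc := hcent _ _ hmt ht1'
      have h1 : t.1 ^ 7 = 1 := by
        ext ω
        by_cases hω : ω ∈ Φ
        · have := (pfix Φ).pow_mem t.2.2 7
          simpa using this ω hω
        · simpa using hcfg.pow_p_fix_of_comm (hMM _ htN) htc hω
      apply ht1
      have h2 : t.1 ^ 7 = (t.1 * t.1) ^ 3 * t.1 := by
        rw [← pow_two, ← pow_mul, ← pow_succ]
      rw [h2, ht2, one_pow, one_mul] at h1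
      exact h1
    · -- both invert: x^3 * t centralises
      have hprod : ∀ u ∈ P, (x ^ 3 * t.1) * u * (x ^ 3 * t.1)⁻¹ = u ^ (mt * (mx * mx * mx)) := by
        intro u hu
        have e1 : (x ^ 3 * t.1) * u * (x ^ 3 * t.1)⁻¹ = x ^ 3 * (t.1 * u * t.1⁻¹) * (x ^ 3)⁻¹ := by
          group
        rw [e1, hmt u hu, hmx3 _ (P.zpow_mem hu mt), ← zpow_mul]
      have hd : (7 : ℤ) ∣ mt * (mx * mx * mx) - 1 := by
        obtain ⟨c, hc⟩ := hx1
        obtain ⟨d, hd⟩ := ht1'
        refine ⟨7 * d * c - d - c, ?_⟩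
        have e1 : mx * mx * mx = 7 * c - 1 := by omega
        have e2 : mt = 7 * d - 1 := by omega
        rw [e1, e2]; ring
      refine hfin ⟨x ^ 3 * t.1, G.mul_mem (G.pow_mem hxG 3) t.2.1, mul_mem hx3N htN⟩
        (hcent _ _ hprod hd) ?_
      show (x ^ 3) (t.1 a) = b
      rw [t.2.2 a haΦ, hx3a]

/-- A `4`-transitive group of degree `9` contains `A_9`. -/
theorem nine (G : Subgroup (Perm α)) (hn : Fintype.card α = 9)
    (hG : IsMultiplyPretransitive G α 4) : alternatingGroup α ≤ G := by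
  obtain ⟨Θ, -, hΘ⟩ := Finset.exists_subset_card_eq (s := (Finset.univ : Finset α)) (n := 4)
    (by rw [Finset.card_univ, hn]; norm_num)
  by_cases hT : G ⊓ pfix Θ = ⊥
  · exact nine_sharp G hn hG Θ hΘ hT
  · obtain ⟨g, hg1⟩ := (Subgroup.ne_bot_iff_exists_ne_one).mp hT
    have hgm : (g : Perm α) ∈ G ⊓ pfix Θ := g.2
    apply small5 G hn hG hgm.1 (fun h => hg1 (Subtype.ext h))
    have hsub : (g : Perm α).support ⊆ Θᶜ := by
      intro ω hω
      rw [Finset.mem_compl]
      intro hc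
      exact (Perm.mem_support.mp hω) (hgm.2 ω hc)
    have := Finset.card_le_card hsub
    rw [Finset.card_compl, hn, hΘ] at this
    exact this

end Cfsg.Agent.helper20.Mill
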