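import Mathlib
import Cfsg.Agent.Lib_helper20_MillH

set_option autoImplicit false
set_option linter.style.haveILetI false
set_option linter.unusedSectionVars false

/-! Miller's theorem: a group of degree `kp + r` that is `(r+1)`-transitive contains `A_n`. -/

namespace Cfsg.Agent.helper20.Mill

open Equiv MulAction

variable {α : Type*} [Fintype α] [DecidableEq α]

set_option maxRecDepth 100000 in
theorem fin3b_ne : ((swap (0 : Fin 3) 1 * (swap 0 1 * swap 1 2) ^ Nat.factorial 2 *
    (swap 0 1)⁻¹)⁻¹ * (swap 0 1 * swap 1 2) ^ Nat.factorial 2) ≠ 1 := by decide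

set_option maxRecDepth 100000 in
theorem fin3b_pow : ((swap (0 : Fin 3) 1 * (swap 0 1 * swap 1 2) ^ Nat.factorial 2 *
    (swap 0 1)⁻¹)⁻¹ * (swap 0 1 * swap 1 2) ^ Nat.factorial 2) ^ 3 = 1 := by decide

set_option maxRecDepth 100000 in
theorem fin5b_ne : (((swap (1 : Fin 5) 4 * swap 2 3) *
    (swap 0 1 * swap 1 2 * swap 2 3 * swap 3 4) ^ Nat.factorial 2 *
    (swap 1 4 * swap 2 3)⁻¹)⁻¹ * (swap 0 1 * swap 1 2 * swap 2 3 * swap 3 4) ^ Nat.factorial 2)
    ≠ 1 := by decide

set_option maxRecDepth 100000 in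
theorem fin5b_pow : (((swap (1 : Fin 5) 4 * swap 2 3) *
    (swap 0 1 * swap 1 2 * swap 2 3 * swap 3 4) ^ Nat.factorial 2 *
    (swap 1 4 * swap 2 3)⁻¹)⁻¹ * (swap 0 1 * swap 1 2 * swap 2 3 * swap 3 4) ^ Nat.factorial 2)
    ^ 5 = 1 := by decide

set_option maxRecDepth 100000 in
theorem fin4_ne : ((swap (1 : Fin 4) 2 * (swap 0 1 * swap 1 2 * swap 2 3) ^ Nat.factorial 3 *
    (swap 1 2)⁻¹)⁻¹ * (swap 0 1 * swap 1 2 * swap 2 3) ^ Nat.factorial 3) ≠ 1 := by decide

set_option maxRecDepth 100000 in
theorem fin4_pow : ((swap (1 : Fin 4) 2 * (swap 0 1 * swap 1 2 * swap 2 3) ^ Nat.factorial 3 *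
    (swap 1 2)⁻¹)⁻¹ * (swap 0 1 * swap 1 2 * swap 2 3) ^ Nat.factorial 3) ^ 2 = 1 := by decide

/-- Miller's theorem (Wielandt 13.10). -/
theorem miller (G : Subgroup (Perm α)) {k p r : ℕ} (hp : p.Prime)
    (hn : Fintype.card α = k * p + r) (hk : 1 ≤ k) (hpk : k < p) (hrk : k < r)
    (hex : ¬ (k = 1 ∧ r = 2)) (hG : IsMultiplyPretransitive G α (r + 1)) :
    alternatingGroup α ≤ G := by
  haveI := hG
  have hr3 : 3 ≤ r := by
    by_contra hcon
    apply hex
    omega
  have hp2 := hp.two_le
  have hkp : k * p ≥ 2 := by nlinarith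
  have hcardα : Nat.card α = k * p + r := by rw [Nat.card_eq_fintype_card, hn]
  have h2t : IsMultiplyPretransitive G α 2 :=
    isMultiplyPretransitive_of_le (n := r + 1) (by omega) (by rw [hcardα]; omega)
  have hJ : ∀ v ∈ G, v.IsCycle → v.support.card = p → p + 3 ≤ Fintype.card α →
      alternatingGroup α ≤ G :=
    fun v hv hc hcard hle => jordan_prime_cycle G h2t hp hc hcard hv hle
  rcases Nat.lt_or_ge k 4 with hk4 | hk4
  · -- k ≤ 3
    have hkcases : k = 1 ∨ k = 2 ∨ k = 3 := by omega
    rcases hkcases with rfl | rfl | rfl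
    · -- k = 1
      by_cases hp2' : p = 2
      · subst hp2'
        have h1 : IsMultiplyPretransitive G α (Nat.card α - 1) := by
          rw [hcardα]
          have : 1 * 2 + r - 1 = r + 1 := by omega
          rw [this]; exact hG
        rw [Equiv.Perm.eq_top_of_isMultiplyPretransitive h1]
        exact le_top
      by_cases hp3 : p = 3
      · subst hp3
        have h1 : IsMultiplyPretransitive G α (Nat.card α - 2) := by
          rw [hcardα]
          have : 1 * 3 + r - 2 = r + 1 := by omega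
          rw [this]; exact hG
        exact IsMultiplyPretransitive.alternatingGroup_le α G h1
      exact K1 G hp hp3 hr3 hn hG
    · -- k = 2
      by_cases hp3 : p = 3
      · subst hp3
        rcases Nat.lt_or_ge r 5 with hr5 | hr5
        · have hr34 : r = 3 ∨ r = 4 := by omega
          rcases hr34 with rfl | rfl
          · exact nine G (by rw [hn]) hG
          · have h4t : IsMultiplyPretransitive G α (3 + 1) :=
              isMultiplyPretransitive_of_le (n := 4 + 1) (by omega) (by rw [hcardα]; norm_num)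
            exact K1 G (p := 7) (r := 3) (by norm_num) (by norm_num) le_rfl (by rw [hn]) h4t
        · refine main_small G hp hn hk (by norm_num) hpk hr3 hG (m0 := 5) hr5
            (swap 0 1 * swap 1 2 * swap 2 3 * swap 3 4) (swap 1 4 * swap 2 3) ?_
            (fun _ v hv hc hcard => hJ v hv hc hcard (by rw [hn]; omega))
          exact pow_ne_one_of_prime_order (by norm_num) hp (by norm_num) fin5b_ne fin5b_pow
      · refine main_small G hp hn hk (by norm_num) hpk hr3 hG (m0 := 3) hr3
          (swap 0 1 * swap 1 2) (swap 0 1) ?_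
          (fun _ v hv hc hcard => hJ v hv hc hcard (by rw [hn]; omega))
        exact pow_ne_one_of_prime_order Nat.prime_three hp (Ne.symm hp3) fin3b_ne fin3b_pow
    · -- k = 3
      have hr4 : 4 ≤ r := by omega
      refine main_small G hp hn hk (by norm_num) hpk hr3 hG (m0 := 4) hr4
        (swap 0 1 * swap 1 2 * swap 2 3) (swap 1 2) ?_
        (fun _ v hv hc hcard => hJ v hv hc hcard (by rw [hn]; omega))
      exact pow_ne_one_of_prime_order Nat.prime_two hp (by omega) fin4_ne fin4_pow
  · -- k ≥ 4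
    have hr5 : 5 ≤ r := by omega
    have hp3 : p ≠ 3 := by omega
    obtain ⟨Φ, -, hΦ⟩ := Finset.exists_subset_card_eq (s := (Finset.univ : Finset α)) (n := r)
      (by rw [Finset.card_univ]; omega)
    obtain ⟨P, hcfg⟩ := exists_cfg G hp hn hk hpk hG Φ hΦ
    obtain ⟨g, hg, hg1, hfix⟩ := hcfg.local_big hn hΦ hk hrk hr5 hp3
    exact alt_le_of_fix_compl G hG (by omega) (by omega) Φ hΦ hg hg1 hfix

end Cfsg.Agent.helper20.Mill
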