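import Mathlib
import Cfsg.Agent.S3986
import Cfsg.Agent.Lib_helper7_SN
import Cfsg.Agent.Lib_helper21_SylowNum

set_option autoImplicit false
open scoped Pointwise

/-! `π`-elements: basic facts, and the criterion for the `π`-elements to form a subgroup in an
extension. -/

namespace Cfsg.Agent.helper20

/-- `x` is a `π`-element: every prime divisor of its order lies in `π`. -/
def IsPi (π : Set ℕ) {G : Type*} [Monoid G] (x : G) : Prop :=
  ∀ p : ℕ, p.Prime → p ∣ orderOf x → p ∈ π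

section basic

variable {π : Set ℕ} {G : Type*} [Group G]

theorem isPi_one : IsPi π (1 : G) := by
  intro p hp h
  rw [orderOf_one] at h
  exact absurd (Nat.dvd_one.mp h) hp.ne_one

theorem IsPi.of_orderOf_dvd {H : Type*} [Monoid H] {x : G} {y : H} (hx : IsPi π x)
    (h : orderOf y ∣ orderOf x) : IsPi π y :=
  fun p hp hd => hx p hp (hd.trans h)

theorem IsPi.pow {x : G} (hx : IsPi π x) (k : ℕ) : IsPi π (x ^ k) :=
  hx.of_orderOf_dvd (orderOf_pow_dvd k)

theorem IsPi.inv {x : G} (hx : IsPi π x) : IsPi π x⁻¹ :=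
  hx.of_orderOf_dvd (by rw [orderOf_inv])

theorem IsPi.conj {x : G} (hx : IsPi π x) (g : G) : IsPi π (g * x * g⁻¹) := by
  apply hx.of_orderOf_dvd
  have := MulEquiv.orderOf_eq (MulAut.conj g) x
  rw [← this]; rfl

theorem IsPi.map {H : Type*} [Group H] {x : G} (hx : IsPi π x) (f : G →* H) : IsPi π (f x) :=
  hx.of_orderOf_dvd (orderOf_map_dvd f x)

theorem IsPi.of_pow_eq_one {x : G} (m : ℕ) (hm : ∀ p : ℕ, p.Prime → p ∣ m → p ∈ π)
    (h : x ^ m = 1) : IsPi π x :=
  fun p hp hd => hm p hp (hd.trans (orderOf_dvd_of_pow_eq_one h))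

/-- a `π`-element that is also a `π'`-element is trivial -/
theorem eq_one_of_isPi_of_not {x : G} (hx : IsPi π x)
    (hx' : ∀ p : ℕ, p.Prime → p ∣ orderOf x → p ∉ π) : x = 1 := by
  rw [← orderOf_eq_one_iff]
  by_contra h
  obtain ⟨p, hp, hd⟩ := Nat.exists_prime_and_dvd h
  exact hx' p hp hd (hx p hp hd)

/-- lifting `π`-elements through a normal subgroup all of whose elements are `π`-elements -/
theorem IsPi.of_quotient [Finite G] (N : Subgroup G) [N.Normal] (hN : ∀ n ∈ N, IsPi π n) {x : G}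
    (hx : IsPi π (x : G ⧸ N)) : IsPi π x := by
  set m := orderOf (x : G ⧸ N) with hm
  have h1 : x ^ m ∈ N := by
    rw [← QuotientGroup.eq_one_iff, QuotientGroup.mk_pow, hm]
    exact pow_orderOf_eq_one _
  have h2 : x ^ (m * orderOf (x ^ m)) = 1 := by
    rw [pow_mul]; exact pow_orderOf_eq_one _
  intro p hp hd
  have h3 : p ∣ m * orderOf (x ^ m) := hd.trans (orderOf_dvd_of_pow_eq_one h2)
  rcases (Nat.Prime.dvd_mul hp).mp h3 with h | h
  · exact hx p hp h
  · exact hN _ h1 p hp h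

/-- an element all of whose prime-power-order powers lie in `M` lies in `M` -/
theorem mem_of_forall_primePow [Finite G] (M : Subgroup G) (h : G)
    (hyp : ∀ k : ℕ, (∃ q b : ℕ, q.Prime ∧ orderOf (h ^ k) = q ^ b) → h ^ k ∈ M) : h ∈ M :=
  Cfsg.Agent.S3986.mem_of_primePow_powers M (orderOf h) h rfl (orderOf_pos h).ne' hyp

end basic

section central

variable {π : Set ℕ} {E : Type*} [Group E]

/-- (L1) a central `π'`-subgroup with `π`-index: the `π`-elements form a subgroup -/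
theorem exists_subgroup_of_central (Z : Subgroup E) (hZc : Z ≤ Subgroup.center E)
    (hZ : ∀ p : ℕ, p.Prime → p ∣ Nat.card Z → p ∉ π)
    (hidx : ∀ p : ℕ, p.Prime → p ∣ Z.index → p ∈ π) :
    ∃ H : Subgroup E, ∀ g : E, g ∈ H ↔ IsPi π g := by
  have hZn : Z.Normal := by
    constructor
    intro z hz g
    have := hZc hz
    rw [Subgroup.mem_center_iff] at this
    have e : g * z * g⁻¹ = z := by rw [this g]; group
    rw [e]; exact hz
  have hcop : Nat.Coprime (Nat.card Z) Z.index := by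
    rw [Nat.coprime_iff_gcd_eq_one]
    by_contra hne
    obtain ⟨p, hp, hd⟩ := Nat.exists_prime_and_dvd hne
    exact hZ p hp (hd.trans (Nat.gcd_dvd_left _ _)) (hidx p hp (hd.trans (Nat.gcd_dvd_right _ _)))
  obtain ⟨H, hH⟩ := Subgroup.exists_right_complement'_of_coprime hcop
  have hHcard : Nat.card H = Z.index := hH.symm.index_eq_card.symm
  refine ⟨H, fun g => ⟨fun hg => ?_, fun hg => ?_⟩⟩
  · apply IsPi.of_pow_eq_one (Nat.card H)
    · intro p hp hd
      rw [hHcard] at hd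
      exact hidx p hp hd
    · have h1 : (⟨g, hg⟩ : H) ^ Nat.card H = 1 := pow_card_eq_one'
      have h2 := congrArg Subtype.val h1
      rwa [Subgroup.coe_pow, Subgroup.coe_one] at h2
  · -- g = z * h
    obtain ⟨⟨⟨z, hz⟩, ⟨h, hh⟩⟩, hzh⟩ := hH.2 g
    simp only at hzh
    have hzc := hZc hz
    rw [Subgroup.mem_center_iff] at hzc
    have hcomm : Commute z h := (hzc h).symm
    obtain ⟨s, hs⟩ : ∃ s : ℕ, s = Nat.card H := ⟨_, rfl⟩
    have hhs : h ^ s = 1 := by
      have h1 : (⟨h, hh⟩ : H) ^ Nat.card H = 1 := pow_card_eq_one'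
      have h2 := congrArg Subtype.val h1
      rw [Subgroup.coe_pow, Subgroup.coe_one] at h2
      rw [hs]; exact h2
    have hgs : g ^ s = z ^ s := by
      rw [← hzh, hcomm.mul_pow, hhs, mul_one]
    have hz1 : z ^ s = 1 := by
      apply eq_one_of_isPi_of_not (π := π)
      · rw [← hgs]; exact hg.pow s
      · intro p hp hd
        apply hZ p hp
        have h1 : orderOf (z ^ s) ∣ orderOf z := orderOf_pow_dvd s
        have h2 : orderOf z ∣ Nat.card Z := by
          have := orderOf_dvd_natCard (⟨z, hz⟩ : Z)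
          rwa [Subgroup.orderOf_mk] at this
        exact hd.trans (h1.trans h2)
    have hz2 : z = 1 := by
      have h1 : orderOf z ∣ s := orderOf_dvd_of_pow_eq_one hz1
      have h2 : orderOf z ∣ Nat.card Z := by
        have := orderOf_dvd_natCard (⟨z, hz⟩ : Z)
        rwa [Subgroup.orderOf_mk] at this
      have h3 := Nat.dvd_gcd h2 h1
      rw [hs, hHcard, hcop.gcd_eq_one, Nat.dvd_one, orderOf_eq_one_iff] at h3
      exact h3
    rw [← hzh, hz2, one_mul]
    exact hh

end central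

section ext

open Cfsg.Agent.helper7

variable {π : Set ℕ} {G : Type*} [Group G]

/-- elementwise `π'`-homogeneity: elements normalizing a nontrivial `π'`-subgroup centralize it
up to a `π'`-power -/
def Hom4 (π : Set ℕ) (G : Type*) [Group G] : Prop :=
  ∀ Q : Subgroup G, Q ≠ ⊥ → (∀ p : ℕ, p.Prime → p ∣ Nat.card Q → p ∉ π) →
    ∀ n ∈ Subgroup.normalizer (Q : Set G),
      ∃ e : ℕ, (∀ p : ℕ, p.Prime → p ∣ e → p ∉ π) ∧ n ^ e ∈ Subgroup.centralizer (Q : Set G)

theorem exists_mul_modEq_one (e N : ℕ) (hN : 0 < N) (h : Nat.Coprime e N) :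
    ∃ e' : ℕ, e * e' ≡ 1 [MOD N] := by
  have hphi : 0 < Nat.totient N := Nat.totient_pos.mpr hN
  refine ⟨e ^ (Nat.totient N - 1), ?_⟩
  rw [← pow_succ', Nat.sub_add_cancel hphi]
  exact Nat.ModEq.pow_totient h

theorem exists_conj_mem_of_not_dvd_index [Finite G] (M : Subgroup G) (x : G) (p : ℕ)
    [Fact p.Prime] (a : ℕ) (hx : orderOf x = p ^ a) (h : ¬ p ∣ M.index) :
    ∃ g : G, g⁻¹ * x * g ∈ M := by
  have hP : IsPGroup p (Subgroup.zpowers x) := by
    apply IsPGroup.of_card (n := a)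
    rw [Nat.card_zpowers, hx]
  have hcard : ¬ p ∣ Nat.card (G ⧸ M) := by rwa [← Subgroup.index_eq_card]
  obtain ⟨c, hc⟩ := hP.nonempty_fixed_point_of_prime_not_dvd_card (G ⧸ M) hcard
  obtain ⟨g, rfl⟩ := QuotientGroup.mk_surjective c
  refine ⟨g, ?_⟩
  have h1 := hc ⟨x, Subgroup.mem_zpowers x⟩
  have h2 : ((x * g : G) : G ⧸ M) = (g : G ⧸ M) := h1
  rw [eq_comm, QuotientGroup.eq] at h2
  rwa [mul_assoc]

theorem comm_mem_of_prime_pow [Finite G] (hhom : Hom4 π G) (K L : Subgroup G) [hKn : K.Normal]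
    [hLn : L.Normal] (_hLK : L ≤ K) (hL : ∀ k ∈ K, k ∈ L ↔ IsPi π k) (p : ℕ) (hp : p.Prime)
    (hpπ : p ∈ π) (x : G) (a : ℕ) (hx : orderOf x = p ^ a) :
    ∀ k ∈ K, x * k * x⁻¹ * k⁻¹ ∈ L := by
  classical
  have : Fact p.Prime := ⟨hp⟩
  -- the index of L in K is a π'-number
  have hidx : ∀ r : ℕ, r.Prime → r ∣ L.relIndex K → r ∉ π := by
    intro r hr hd hrπ
    have : Fact r.Prime := ⟨hr⟩
    have hd' : r ∣ Nat.card (↥K ⧸ L.subgroupOf K) := by
      rw [← Subgroup.index_eq_card]; exact hd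
    obtain ⟨y, hy⟩ := exists_prime_orderOf_dvd_card' r hd'
    obtain ⟨y, rfl⟩ := QuotientGroup.mk_surjective y
    have h1 : IsPi π ((y : ↥K) : ↥K ⧸ L.subgroupOf K) := by
      intro r' hr' hd''
      rw [hy] at hd''
      rw [(Nat.prime_dvd_prime_iff_eq hr' hr).mp hd'']
      exact hrπ
    have h2 : IsPi π y := by
      apply IsPi.of_quotient (L.subgroupOf K) _ h1
      intro n hn
      rw [Subgroup.mem_subgroupOf] at hn
      have := (hL _ n.2).mp hn
      exact this.of_orderOf_dvd (by rw [Subgroup.orderOf_coe])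
    have h3 : (y : G) ∈ L := (hL _ y.2).mpr (h2.of_orderOf_dvd (by rw [Subgroup.orderOf_coe]))
    have h4 : ((y : ↥K) : ↥K ⧸ L.subgroupOf K) = 1 := by
      rw [QuotientGroup.eq_one_iff, Subgroup.mem_subgroupOf]; exact h3
    rw [h4, orderOf_one] at hy
    exact hr.one_lt.ne hy
  -- for every prime q a "Sylow q-subgroup of K" on which x acts trivially mod L
  have hsyl : ∀ q : ℕ, q.Prime → ∃ Q' : Subgroup G, Q' ≤ K ∧
      Nat.card Q' = q ^ (Nat.card K).factorization q ∧ ∀ u ∈ Q', x * u * x⁻¹ * u⁻¹ ∈ L := by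
    intro q hq
    have : Fact q.Prime := ⟨hq⟩
    obtain ⟨Q₀⟩ : Nonempty (Sylow q ↥K) := inferInstance
    set Q : Subgroup G := (Q₀ : Subgroup ↥K).map K.subtype with hQ
    have hQK : Q ≤ K := Subgroup.map_subtype_le _
    have hQcard : Nat.card Q = q ^ (Nat.card K).factorization q := by
      rw [hQ, Subgroup.card_map_of_injective K.subtype_injective]
      exact Q₀.card_eq_multiplicity
    have hQp : IsPGroup q Q := IsPGroup.of_card hQcard
    by_cases hqπ : q ∈ π
    · refine ⟨Q, hQK, hQcard, ?_⟩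
      intro u hu
      have huL : u ∈ L := by
        rw [hL u (hQK hu)]
        obtain ⟨b, hb⟩ := (IsPGroup.iff_orderOf.mp hQp) ⟨u, hu⟩
        rw [Subgroup.orderOf_mk] at hb
        intro r hr hd
        rw [hb] at hd
        rw [(Nat.prime_dvd_prime_iff_eq hr hq).mp (hr.dvd_of_dvd_pow hd)]
        exact hqπ
      exact L.mul_mem (hLn.conj_mem u huL x) (L.inv_mem huL)
    · by_cases hQbot : Q = ⊥
      · refine ⟨Q, hQK, hQcard, ?_⟩
        intro u hu
        rw [hQbot, Subgroup.mem_bot] at hu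
        rw [hu]
        simp
      · -- Frattini
        have hfrat : Subgroup.normalizer (Q : Set G) ⊔ K = ⊤ := Sylow.normalizer_sup_eq_top Q₀
        set M : Subgroup G := L ⊔ Subgroup.normalizer (Q : Set G) with hM
        have hKM : K ⊔ M = ⊤ := by
          rw [eq_top_iff, ← hfrat]
          exact sup_le (le_sup_right.trans le_sup_right) le_sup_left
        have hMidx : M.index ∣ L.relIndex K := by
          have h1 : M.index = M.relIndex ⊤ := (Subgroup.relIndex_top_right M).symm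
          rw [h1, ← hKM, Cfsg.Agent.helper21.relIndex_sup_normal]
          exact Subgroup.relIndex_dvd_of_le_left K le_sup_left
        have hpM : ¬ p ∣ M.index := fun h => hidx p hp (h.trans hMidx) hpπ
        obtain ⟨g, hg⟩ := exists_conj_mem_of_not_dvd_index M x p a hx hpM
        have hg' : g⁻¹ * x * g ∈ ((L ⊔ Subgroup.normalizer (Q : Set G) : Subgroup G) : Set G) := hg
        rw [Subgroup.normal_mul] at hg'
        obtain ⟨l, hl, n, hn, hln'⟩ := hg'
        have hln : l * n = g⁻¹ * x * g := hln'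
        -- conjugate back
        set Q' := cj g Q with hQ'
        have hQ'K : Q' ≤ K := by
          have h1 : cj g Q ≤ cj g K := cj_mono hQK
          have h2 : cj g K = K := cj_eq_of_mem_normalizer (by rw [Subgroup.normalizer_eq_top]; trivial)
          rwa [h2] at h1
        have hQ'card : Nat.card Q' = q ^ (Nat.card K).factorization q := by
          rw [hQ', card_cj, hQcard]
        have hQ'bot : Q' ≠ ⊥ := by
          rw [hQ', Ne, cj_eq_bot_iff]; exact hQbot
        have hn' : g * n * g⁻¹ ∈ Subgroup.normalizer (Q' : Set G) := by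
          rw [hQ', ← cj_normalizer]
          exact cj_mem_cj hn
        have hl' : g * l * g⁻¹ ∈ L := hLn.conj_mem l hl g
        have hxeq : x = (g * l * g⁻¹) * (g * n * g⁻¹) := by
          have : (g * l * g⁻¹) * (g * n * g⁻¹) = g * (l * n) * g⁻¹ := by group
          rw [this, hln]; group
        obtain ⟨e, he, hec⟩ := hhom Q' hQ'bot (by
          intro r hr hd
          rw [hQ'card] at hd
          rw [(Nat.prime_dvd_prime_iff_eq hr hq).mp (hr.dvd_of_dvd_pow hd)]
          exact hqπ) _ hn'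
        have hcop : Nat.Coprime e (p ^ a) := by
          apply Nat.Coprime.pow_right
          rw [Nat.coprime_comm, Nat.Prime.coprime_iff_not_dvd hp]
          intro hd
          exact he p hp hd hpπ
        obtain ⟨e', he'⟩ := exists_mul_modEq_one e (p ^ a) (pow_pos hp.pos a) hcop
        set c := ((g * n * g⁻¹) ^ e) ^ e' with hc
        have hcC : c ∈ Subgroup.centralizer (Q' : Set G) := Subgroup.pow_mem _ hec e'
        -- x ≡ c mod L
        have hxc : x * c⁻¹ ∈ L := by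
          have h1 : ((x : G) : G ⧸ L) = ((g * n * g⁻¹ : G) : G ⧸ L) := by
            rw [hxeq, QuotientGroup.mk_mul, (QuotientGroup.eq_one_iff _).mpr hl', one_mul]
          have h2 : x ^ (e * e') = x := by
            have := (pow_eq_pow_iff_modEq (x := x) (n := e * e') (m := 1)).mpr (by rw [hx]; exact he')
            rw [this, pow_one]
          have h3 : ((c : G) : G ⧸ L) = ((x : G) : G ⧸ L) := by
            rw [hc, ← pow_mul, QuotientGroup.mk_pow, ← h1, ← QuotientGroup.mk_pow, h2]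
          rw [← QuotientGroup.eq_one_iff, QuotientGroup.mk_mul, QuotientGroup.mk_inv, h3]
          exact mul_inv_cancel _
        refine ⟨Q', hQ'K, hQ'card, ?_⟩
        intro u hu
        have hcu : c * u * c⁻¹ = u := by
          have := (Subgroup.mem_centralizer_iff.mp hcC) u hu
          rw [← this]; group
        set w := x * c⁻¹ with hw
        have hxw : x = w * c := by rw [hw]; group
        have : x * u * x⁻¹ * u⁻¹ = w * (u * w⁻¹ * u⁻¹) := by
          rw [hxw]
          calc w * c * u * (w * c)⁻¹ * u⁻¹ = w * (c * u * c⁻¹) * w⁻¹ * u⁻¹ := by group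
            _ = w * u * w⁻¹ * u⁻¹ := by rw [hcu]
            _ = w * (u * w⁻¹ * u⁻¹) := by group
        rw [this]
        exact L.mul_mem hxc (hLn.conj_mem _ (L.inv_mem hxc) u)
  -- the subgroup of K on which x acts trivially mod L
  let Kx : Subgroup G :=
    { carrier := {k | k ∈ K ∧ x * k * x⁻¹ * k⁻¹ ∈ L}
      one_mem' := ⟨K.one_mem, by simp⟩
      mul_mem' := by
        rintro k k' ⟨hk, hkL⟩ ⟨hk', hkL'⟩
        refine ⟨K.mul_mem hk hk', ?_⟩
        have : x * (k * k') * x⁻¹ * (k * k')⁻¹ =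
            (x * k * x⁻¹ * k⁻¹) * (k * (x * k' * x⁻¹ * k'⁻¹) * k⁻¹) := by group
        rw [this]
        exact L.mul_mem hkL (hLn.conj_mem _ hkL' k)
      inv_mem' := by
        rintro k ⟨hk, hkL⟩
        refine ⟨K.inv_mem hk, ?_⟩
        have : x * k⁻¹ * x⁻¹ * k⁻¹⁻¹ = k⁻¹ * (x * k * x⁻¹ * k⁻¹)⁻¹ * k⁻¹⁻¹ := by group
        rw [this]
        exact hLn.conj_mem _ (L.inv_mem hkL) k⁻¹ }
  have hKxK : Kx ≤ K := fun k hk => hk.1
  have hdvd : Nat.card K ∣ Nat.card Kx := by
    rw [Nat.dvd_iff_prime_pow_dvd_dvd]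
    intro q b hq hqb
    obtain ⟨Q', hQ'K, hQ'card, hQ'⟩ := hsyl q hq
    have h1 : Q' ≤ Kx := fun u hu => ⟨hQ'K hu, hQ' u hu⟩
    have h2 : Nat.card Q' ∣ Nat.card Kx := Subgroup.card_dvd_of_le h1
    have h3 : b ≤ (Nat.card K).factorization q :=
      (hq.pow_dvd_iff_le_factorization Nat.card_pos.ne').1 hqb
    exact (pow_dvd_pow q h3).trans (hQ'card ▸ h2)
  have hKxeq : Kx = K := by
    apply le_antisymm hKxK
    intro k hk
    have hle : Nat.card K ≤ Nat.card Kx := Nat.le_of_dvd Nat.card_pos hdvd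
    have : (Kx : Set G) = K := Set.eq_of_subset_of_ncard_le hKxK (by
      rw [← Nat.card_coe_set_eq, ← Nat.card_coe_set_eq]; exact hle) (Set.toFinite _)
    have hk' : k ∈ (Kx : Set G) := by rw [this]; exact hk
    exact hk'
  intro k hk
  have : k ∈ Kx := by rw [hKxeq]; exact hk
  exact this.2

/-- the core extension theorem -/
theorem pi_elements_subgroup [Finite G] (hhom : Hom4 π G) (K : Subgroup G) [hKn : K.Normal]
    (hK : ∃ L : Subgroup ↥K, ∀ x : ↥K, x ∈ L ↔ IsPi π x)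
    (hQ : ∃ LQ : Subgroup (G ⧸ K), ∀ x : G ⧸ K, x ∈ LQ ↔ IsPi π x) :
    ∃ S : Subgroup G, ∀ x : G, x ∈ S ↔ IsPi π x := by
  classical
  obtain ⟨L₀, hL₀⟩ := hK
  obtain ⟨LQ, hLQ⟩ := hQ
  set L : Subgroup G := L₀.map K.subtype with hLdef
  have hLK : L ≤ K := Subgroup.map_subtype_le _
  have hL : ∀ k ∈ K, k ∈ L ↔ IsPi π k := by
    intro k hk
    constructor
    · rintro ⟨y, hy, rfl⟩
      exact ((hL₀ y).mp hy).of_orderOf_dvd (by rw [Subgroup.coe_subtype, Subgroup.orderOf_coe])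
    · intro h
      refine ⟨⟨k, hk⟩, (hL₀ _).mpr (h.of_orderOf_dvd (by rw [Subgroup.orderOf_mk])), rfl⟩
  have hLpi : ∀ l ∈ L, IsPi π l := fun l hl => (hL l (hLK hl)).mp hl
  have hLn : L.Normal := by
    constructor
    intro l hl g
    rw [hL _ (hKn.conj_mem l (hLK hl) g)]
    exact (hLpi l hl).conj g
  -- D : elements acting trivially on K / L
  let D : Subgroup G :=
    { carrier := {g | ∀ k ∈ K, g * k * g⁻¹ * k⁻¹ ∈ L}
      one_mem' := by intro k _; simp
      mul_mem' := by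
        intro g g' hg hg' k hk
        have : g * g' * k * (g * g')⁻¹ * k⁻¹ =
            (g * (g' * k * g'⁻¹ * k⁻¹) * g⁻¹) * (g * k * g⁻¹ * k⁻¹) := by group
        rw [this]
        exact L.mul_mem (hLn.conj_mem _ (hg' k hk) g) (hg k hk)
      inv_mem' := by
        intro g hg k hk
        have : g⁻¹ * k * g⁻¹⁻¹ * k⁻¹ = g⁻¹ * (g * k * g⁻¹ * k⁻¹)⁻¹ * g⁻¹⁻¹ := by group
        rw [this]
        exact hLn.conj_mem _ (L.inv_mem (hg k hk)) g⁻¹ }
  have hDmem : ∀ g : G, g ∈ D ↔ ∀ k ∈ K, g * k * g⁻¹ * k⁻¹ ∈ L := fun g => Iff.rfl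
  let T : Subgroup G := LQ.comap (QuotientGroup.mk' K)
  have hTmem : ∀ g : G, g ∈ T ↔ IsPi π ((g : G) : G ⧸ K) := by
    intro g
    show (QuotientGroup.mk' K g) ∈ LQ ↔ _
    rw [hLQ]; rfl
  set E : Subgroup G := D ⊓ T with hEdef
  have hEmem : ∀ g : G, g ∈ E ↔ (∀ k ∈ K, g * k * g⁻¹ * k⁻¹ ∈ L) ∧ IsPi π ((g : G) : G ⧸ K) := by
    intro g
    rw [hEdef, Subgroup.mem_inf, hDmem, hTmem]
  -- all π-elements lie in E
  have hpiD : ∀ x : G, IsPi π x → x ∈ D := by
    intro x hx
    apply mem_of_forall_primePow D x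
    rintro j ⟨q, b, hq, hqb⟩
    rcases Nat.eq_zero_or_pos b with hb | hb
    · rw [hb, pow_zero, orderOf_eq_one_iff] at hqb
      rw [hqb]; exact D.one_mem
    · have hqπ : q ∈ π := (hx.pow j) q hq (by rw [hqb]; exact dvd_pow_self q hb.ne')
      rw [hDmem]
      exact comm_mem_of_prime_pow hhom K L hLK hL q hq hqπ (x ^ j) b hqb
  have hpiE : ∀ x : G, IsPi π x → x ∈ E := by
    intro x hx
    rw [hEmem]
    exact ⟨(hDmem x).mp (hpiD x hx), hx.map (QuotientGroup.mk' K)⟩
  -- the quotient E / L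
  have hLEn : (L.subgroupOf E).Normal := inferInstance
  have hLEpi : ∀ n ∈ L.subgroupOf E, IsPi π n := by
    intro n hn
    rw [Subgroup.mem_subgroupOf] at hn
    exact (hLpi _ hn).of_orderOf_dvd (by rw [Subgroup.orderOf_coe])
  obtain ⟨Z, hZdef⟩ : ∃ Z : Subgroup (↥E ⧸ L.subgroupOf E),
      Z = (K.subgroupOf E).map (QuotientGroup.mk' (L.subgroupOf E)) := ⟨_, rfl⟩
  have hZmem : ∀ c : ↥E ⧸ L.subgroupOf E, c ∈ Z ↔ ∃ z : ↥E, (z : G) ∈ K ∧
      ((z : ↥E) : ↥E ⧸ L.subgroupOf E) = c := by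
    intro c
    rw [hZdef, Subgroup.mem_map]
    constructor
    · rintro ⟨z, hz, rfl⟩
      exact ⟨z, Subgroup.mem_subgroupOf.mp hz, rfl⟩
    · rintro ⟨z, hz, rfl⟩
      exact ⟨z, Subgroup.mem_subgroupOf.mpr hz, rfl⟩
  have hZc : Z ≤ Subgroup.center (↥E ⧸ L.subgroupOf E) := by
    intro c hc
    obtain ⟨z, hz, rfl⟩ := (hZmem c).mp hc
    rw [Subgroup.mem_center_iff]
    intro e
    obtain ⟨e, rfl⟩ := QuotientGroup.mk_surjective e
    rw [← QuotientGroup.mk_mul, ← QuotientGroup.mk_mul, eq_comm, QuotientGroup.eq,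
      Subgroup.mem_subgroupOf]
    have h1 : (e : G) * (z : G) * (e : G)⁻¹ * (z : G)⁻¹ ∈ L := ((hEmem _).mp e.2).1 _ hz
    have h2 : (((z * e)⁻¹ * (e * z) : ↥E) : G) =
        ((z : G) * (e : G))⁻¹ * ((e : G) * (z : G) * (e : G)⁻¹ * (z : G)⁻¹) *
          ((z : G) * (e : G))⁻¹⁻¹ := by
      simp only [Subgroup.coe_mul, Subgroup.coe_inv]
      group
    rw [h2]
    exact hLn.conj_mem _ h1 _
  have hZn : Z.Normal := by
    constructor
    intro z hz g
    have := hZc hz
    rw [Subgroup.mem_center_iff] at this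
    have e : g * z * g⁻¹ = z := by rw [this g]; group
    rw [e]; exact hz
  have hZ : ∀ r : ℕ, r.Prime → r ∣ Nat.card Z → r ∉ π := by
    intro r hr hd hrπ
    have : Fact r.Prime := ⟨hr⟩
    obtain ⟨y, hy⟩ := exists_prime_orderOf_dvd_card' r hd
    obtain ⟨z, hz, hzy⟩ := (hZmem _).mp y.2
    have hy' : orderOf ((z : ↥E) : ↥E ⧸ L.subgroupOf E) = r := by
      rw [hzy, Subgroup.orderOf_coe, hy]
    have h1 : IsPi π ((z : ↥E) : ↥E ⧸ L.subgroupOf E) := by
      intro r' hr' hd'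
      rw [hy'] at hd'
      rw [(Nat.prime_dvd_prime_iff_eq hr' hr).mp hd']
      exact hrπ
    have h2 : IsPi π z := IsPi.of_quotient (L.subgroupOf E) hLEpi h1
    have h3 : (z : G) ∈ L := (hL _ hz).mpr (h2.of_orderOf_dvd (by rw [Subgroup.orderOf_coe]))
    have h4 : ((z : ↥E) : ↥E ⧸ L.subgroupOf E) = 1 := by
      rw [QuotientGroup.eq_one_iff, Subgroup.mem_subgroupOf]; exact h3
    rw [h4, orderOf_one] at hy'
    exact hr.one_lt.ne hy'
  have hidxZ : ∀ r : ℕ, r.Prime → r ∣ Z.index → r ∈ π := by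
    intro r hr hd
    have : Fact r.Prime := ⟨hr⟩
    rw [Subgroup.index_eq_card] at hd
    obtain ⟨y, hy⟩ := exists_prime_orderOf_dvd_card' r hd
    obtain ⟨y, rfl⟩ := QuotientGroup.mk_surjective y
    obtain ⟨e, rfl⟩ := QuotientGroup.mk_surjective y
    have heT : IsPi π (((e : ↥E) : G) : G ⧸ K) := ((hEmem _).mp e.2).2
    set m := orderOf (((e : ↥E) : G) : G ⧸ K) with hm
    have h1 : ((e : ↥E) : G) ^ m ∈ K := by
      rw [← QuotientGroup.eq_one_iff, QuotientGroup.mk_pow, hm]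
      exact pow_orderOf_eq_one _
    have h2 : (((e ^ m : ↥E) : ↥E ⧸ L.subgroupOf E)) ∈ Z := by
      rw [hZmem]
      exact ⟨e ^ m, by rw [Subgroup.coe_pow]; exact h1, rfl⟩
    have h3 : ((((e : ↥E) : ↥E ⧸ L.subgroupOf E) : (↥E ⧸ L.subgroupOf E) ⧸ Z)) ^ m = 1 := by
      rw [← QuotientGroup.mk_pow, QuotientGroup.eq_one_iff, ← QuotientGroup.mk_pow]
      exact h2
    have h4 : r ∣ m := by
      rw [← hy]; exact orderOf_dvd_of_pow_eq_one h3
    exact heT r hr h4
  obtain ⟨Hbar, hHbar⟩ := exists_subgroup_of_central (π := π) Z hZc hZ hidxZ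
  -- closure under multiplication
  have hmul : ∀ x y : G, IsPi π x → IsPi π y → IsPi π (x * y) := by
    intro x y hx hy
    have hxE := hpiE x hx
    have hyE := hpiE y hy
    have hx' : IsPi π (⟨x, hxE⟩ : ↥E) := hx.of_orderOf_dvd (by rw [Subgroup.orderOf_mk])
    have hy' : IsPi π (⟨y, hyE⟩ : ↥E) := hy.of_orderOf_dvd (by rw [Subgroup.orderOf_mk])
    have hxH : (((⟨x, hxE⟩ : ↥E) : ↥E ⧸ L.subgroupOf E)) ∈ Hbar :=
      (hHbar _).mpr (hx'.map (QuotientGroup.mk' (L.subgroupOf E)))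
    have hyH : (((⟨y, hyE⟩ : ↥E) : ↥E ⧸ L.subgroupOf E)) ∈ Hbar :=
      (hHbar _).mpr (hy'.map (QuotientGroup.mk' (L.subgroupOf E)))
    have hxyH := Hbar.mul_mem hxH hyH
    rw [← QuotientGroup.mk_mul, hHbar] at hxyH
    have h1 : IsPi π ((⟨x, hxE⟩ : ↥E) * ⟨y, hyE⟩) := IsPi.of_quotient (L.subgroupOf E) hLEpi hxyH
    exact h1.of_orderOf_dvd (by rw [← Subgroup.orderOf_coe]; rfl)
  exact ⟨{ carrier := {x | IsPi π x}
           one_mem' := isPi_one
           mul_mem' := fun {x y} hx hy => hmul x y hx hy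
           inv_mem' := fun {x} hx => IsPi.inv hx }, fun x => Iff.rfl⟩

end ext

end Cfsg.Agent.helper20
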