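import Mathlib
import Cfsg.Agent.Lib_helper20_Schur4

set_option autoImplicit false
set_option linter.style.haveILetI false

/-! Projective representations and central extensions: lifting to `GL n ℂ` via the
universal central extension `E = F/[R,F]` and divisibility of `ℂˣ`. -/

namespace Cfsg.Agent.helper20.PR

open Cfsg.Agent.helper20.Schur
open scoped IsMulCommutative

universe u v w

section Divisible

/-- homs into a divisible abelian group extend from subgroups (Baer). -/
theorem exists_extend_of_divisible {X Z : Type*} [CommGroup X] [CommGroup Z]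
    (hdiv : ∀ k : ℤ, k ≠ 0 → Function.Surjective (fun z : Z => z ^ k)) (D : Subgroup X)
    (ψ : D →* Z) : ∃ δ : X →* Z, ∀ d : D, δ d = ψ d := by
  letI : DivisibleBy (Additive Z) ℤ := divisibleByOfSMulRightSurj _ _ (by
    intro k hk a
    obtain ⟨z, hz⟩ := hdiv k hk a.toMul
    exact ⟨Additive.ofMul z, by
      have := congrArg Additive.ofMul hz
      simpa using this⟩)
  have hB : Module.Baer ℤ (Additive Z) := Module.Baer.of_divisible _
  obtain ⟨h, hh⟩ := hB.extension_property_addMonoidHom (MonoidHom.toAdditive D.subtype)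
    (by intro a b hab; exact Subtype.ext hab) (MonoidHom.toAdditive ψ)
  refine ⟨MonoidHom.toAdditive.symm h, fun d => ?_⟩
  have := DFunLike.congr_fun hh (Additive.ofMul d)
  exact this

/-- extension of homs from a subgroup meeting the commutator subgroup trivially. -/
theorem exists_extend_of_inf_commutator {E Z : Type*} [Group E] [CommGroup Z]
    (hdiv : ∀ k : ℤ, k ≠ 0 → Function.Surjective (fun z : Z => z ^ k)) (C : Subgroup E)
    (hC : C ⊓ commutator E = ⊥) (ψ : C →* Z) : ∃ δ : E →* Z, ∀ c : C, δ c = ψ c := by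
  let j : C →* Abelianization E := Abelianization.of.comp C.subtype
  have hj : Function.Injective j := by
    rw [injective_iff_map_eq_one]
    intro c hc
    have h1 : (c : E) ∈ commutator E := by
      rw [← Abelianization.ker_of, MonoidHom.mem_ker]; exact hc
    have h2 : (c : E) ∈ C ⊓ commutator E := Subgroup.mem_inf.mpr ⟨c.2, h1⟩
    rw [hC, Subgroup.mem_bot] at h2
    exact Subtype.ext h2
  let e : C ≃* j.range := MonoidHom.ofInjective hj
  obtain ⟨δ', hδ'⟩ := exists_extend_of_divisible hdiv j.range (ψ.comp e.symm.toMonoidHom)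
  refine ⟨δ'.comp Abelianization.of, fun c => ?_⟩
  have h1 := hδ' (e c)
  have h2 : ((e c : j.range) : Abelianization E) = Abelianization.of (c : E) := rfl
  rw [MonoidHom.comp_apply, ← h2, h1]
  simp

theorem complex_units_zpow_surjective (k : ℤ) (hk : k ≠ 0) :
    Function.Surjective (fun z : ℂˣ => z ^ k) := by
  intro u
  have hpos : 0 < k.natAbs := Int.natAbs_pos.mpr hk
  obtain ⟨z, hz⟩ := IsAlgClosed.exists_pow_nat_eq (u : ℂ) hpos
  have hz0 : z ≠ 0 := by
    rintro rfl
    rw [zero_pow hpos.ne'] at hz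
    exact u.ne_zero hz.symm
  let v : ℂˣ := Units.mk0 z hz0
  have hv : v ^ k.natAbs = u := Units.ext (by simpa [v] using hz)
  rcases Int.natAbs_eq k with h | h
  · refine ⟨v, ?_⟩
    show v ^ k = u
    rw [h, zpow_natCast]; exact hv
  · refine ⟨v⁻¹, ?_⟩
    show v⁻¹ ^ k = u
    rw [h, zpow_neg, zpow_natCast, inv_pow, inv_inv]; exact hv

theorem center_GL_zpow_surjective (n : ℕ) (k : ℤ) (hk : k ≠ 0) :
    Function.Surjective (fun z : Subgroup.center (GL (Fin n) ℂ) => z ^ k) := by
  intro z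
  have hz : (z : GL (Fin n) ℂ) ∈ (Matrix.GeneralLinearGroup.scalar (Fin n)).range := by
    rw [← Matrix.GeneralLinearGroup.center_eq_range_scalar]; exact z.2
  obtain ⟨u, hu⟩ := hz
  obtain ⟨v, hv⟩ := complex_units_zpow_surjective k hk u
  have hmem : Matrix.GeneralLinearGroup.scalar (Fin n) v ∈ Subgroup.center (GL (Fin n) ℂ) := by
    rw [Matrix.GeneralLinearGroup.center_eq_range_scalar]; exact ⟨v, rfl⟩
  refine ⟨⟨_, hmem⟩, ?_⟩
  apply Subtype.ext
  show ((⟨_, hmem⟩ : Subgroup.center (GL (Fin n) ℂ)) ^ k : Subgroup.center (GL (Fin n) ℂ)).1 = z.1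
  rw [Subgroup.coe_zpow]
  show (Matrix.GeneralLinearGroup.scalar (Fin n) v) ^ k = z.1
  rw [← map_zpow, ← hu]
  congr 1

end Divisible

section Lift

variable {Q : Type u} [Group Q] {α : Type w} (π : FreeGroup α →* Q)

/-- every projective representation of `Q` lifts to a linear representation of `E`. -/
theorem exists_lift_GL (n : ℕ)
    (γ : Q →* (GL (Fin n) ℂ ⧸ Subgroup.center (GL (Fin n) ℂ))) :
    ∃ θ : EE π →* GL (Fin n) ℂ,
      ∀ x, QuotientGroup.mk' (Subgroup.center (GL (Fin n) ℂ)) (θ x) = γ (eps π x) := by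
  let mk := QuotientGroup.mk' (Subgroup.center (GL (Fin n) ℂ))
  let X : Subgroup (Q × GL (Fin n) ℂ) :=
    MonoidHom.eqLocus (γ.comp (MonoidHom.fst _ _)) (mk.comp (MonoidHom.snd _ _))
  have hX : ∀ x : X, γ (x : Q × GL (Fin n) ℂ).1 = mk (x : Q × GL (Fin n) ℂ).2 := fun x => x.2
  let τ : X →* Q := (MonoidHom.fst _ _).comp X.subtype
  have hτ : Function.Surjective τ := by
    intro q
    obtain ⟨g, hg⟩ := QuotientGroup.mk'_surjective (Subgroup.center (GL (Fin n) ℂ)) (γ q)
    exact ⟨⟨(q, g), hg.symm⟩, rfl⟩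
  have hc : τ.ker ≤ Subgroup.center X := by
    intro x hx
    have h1 : (x : Q × GL (Fin n) ℂ).1 = 1 := hx
    have h2 : mk (x : Q × GL (Fin n) ℂ).2 = 1 := by rw [← hX x, h1, map_one]
    have h3 : (x : Q × GL (Fin n) ℂ).2 ∈ Subgroup.center (GL (Fin n) ℂ) :=
      (QuotientGroup.eq_one_iff _).mp h2
    rw [Subgroup.mem_center_iff]
    intro y
    apply Subtype.ext
    apply Prod.ext
    · simp [h1]
    · exact Subgroup.mem_center_iff.mp h3 _
  obtain ⟨f, hf⟩ := exists_lift π τ hτ hc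
  refine ⟨(MonoidHom.snd _ _).comp (X.subtype.comp f), fun x => ?_⟩
  have h1 : τ (f x) = eps π x := by rw [← hf]; rfl
  have h2 := hX (f x)
  rw [← h1]
  exact h2.symm

/-- a lift that is moreover trivial on a given subgroup `C` of the kernel with `C ∩ E' = 1`. -/
theorem exists_lift_GL_ker (C : Subgroup (EE π))
    (hC1 : C ≤ (eps π).ker) (hC2 : C ⊓ commutator (EE π) = ⊥) (n : ℕ)
    (γ : Q →* (GL (Fin n) ℂ ⧸ Subgroup.center (GL (Fin n) ℂ))) :
    ∃ θ : EE π →* GL (Fin n) ℂ,
      (∀ x, QuotientGroup.mk' (Subgroup.center (GL (Fin n) ℂ)) (θ x) = γ (eps π x)) ∧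
      C ≤ θ.ker := by
  obtain ⟨θ₀, hθ₀⟩ := exists_lift_GL π n γ
  have hcen : ∀ c : C, (θ₀.comp C.subtype) c ∈ Subgroup.center (GL (Fin n) ℂ) := by
    intro c
    rw [← QuotientGroup.eq_one_iff]
    have := hθ₀ (c : EE π)
    rw [MonoidHom.mem_ker.mp (hC1 c.2), map_one] at this
    exact this
  let ψ₀ : C →* Subgroup.center (GL (Fin n) ℂ) := (θ₀.comp C.subtype).codRestrict _ hcen
  obtain ⟨δ, hδ⟩ := exists_extend_of_inf_commutator (center_GL_zpow_surjective n) C hC2 ψ₀⁻¹
  -- θ x = θ₀ x * δ x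
  let θ : EE π →* GL (Fin n) ℂ :=
    { toFun := fun x => θ₀ x * (δ x : GL (Fin n) ℂ)
      map_one' := by simp
      map_mul' := by
        intro x y
        have h1 := Subgroup.mem_center_iff.mp (δ x).2 (θ₀ y)
        rw [map_mul, map_mul, Subgroup.coe_mul, mul_assoc, ← mul_assoc (θ₀ y), h1]
        simp only [mul_assoc] }
  refine ⟨θ, ?_, ?_⟩
  · intro x
    show QuotientGroup.mk' _ (θ₀ x * (δ x : GL (Fin n) ℂ)) = _
    rw [map_mul, hθ₀]
    have : QuotientGroup.mk' (Subgroup.center (GL (Fin n) ℂ)) (δ x : GL (Fin n) ℂ) = 1 :=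
      (QuotientGroup.eq_one_iff _).mpr (δ x).2
    rw [this, mul_one]
  · intro c hc
    rw [MonoidHom.mem_ker]
    show θ₀ c * (δ c : GL (Fin n) ℂ) = 1
    have h1 := hδ ⟨c, hc⟩
    have h2 : (δ c : GL (Fin n) ℂ) = (θ₀ c)⁻¹ := by
      have := congrArg (fun z : Subgroup.center (GL (Fin n) ℂ) => (z : GL (Fin n) ℂ)) h1
      simpa [ψ₀] using this
    rw [h2, mul_inv_cancel]

end Lift

end Cfsg.Agent.helper20.PR
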