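import Mathlib
import Cfsg.Agent.Lib_helper20_Schur4
import Cfsg.Agent.Lib_helper20_ProjRep1

set_option autoImplicit false
set_option linter.style.haveILetI false

/-! A representation with prescribed central character, and the consequence of the
projective lifting property: `M ∩ ker f = 1`. -/

namespace Cfsg.Agent.helper20.PR

open Cfsg.Agent.helper20.Schur
open scoped IsMulCommutative

universe u v w

section Rep

variable {Δ : Type*} [Group Δ] (K : Subgroup Δ) (μ : K →* ℂˣ)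

/-- the space of `μ`-equivariant functions. -/
def eqv : Submodule ℂ (Δ → ℂ) where
  carrier := {φ | ∀ (k : K) (x : Δ), φ ((k : Δ) * x) = ((μ k : ℂˣ) : ℂ) * φ x}
  add_mem' := by
    intro a b ha hb k x
    simp only [Pi.add_apply]
    rw [ha k x, hb k x, mul_add]
  zero_mem' := by intro k x; simp
  smul_mem' := by
    intro c a ha k x
    simp only [Pi.smul_apply, smul_eq_mul]
    rw [ha k x]; ring

/-- right translation. -/
def rtr (d : Δ) : (Δ → ℂ) →ₗ[ℂ] (Δ → ℂ) where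
  toFun φ := fun x => φ (x * d)
  map_add' _ _ := rfl
  map_smul' _ _ := rfl

theorem rtr_mem (d : Δ) (φ : Δ → ℂ) (hφ : φ ∈ eqv K μ) : rtr d φ ∈ eqv K μ := by
  intro k x
  show φ ((k : Δ) * x * d) = _ * φ (x * d)
  rw [mul_assoc]; exact hφ k (x * d)

/-- the induced representation on equivariant functions. -/
def repW : Δ →* Module.End ℂ (eqv K μ) where
  toFun d := (rtr d).restrict (fun φ hφ => rtr_mem K μ d φ hφ)
  map_one' := by
    apply LinearMap.ext; intro φ; apply Subtype.ext; funext x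
    show (φ : Δ → ℂ) (x * 1) = (φ : Δ → ℂ) x
    rw [mul_one]
  map_mul' d₁ d₂ := by
    apply LinearMap.ext; intro φ; apply Subtype.ext; funext x
    show (φ : Δ → ℂ) (x * (d₁ * d₂)) = (φ : Δ → ℂ) (x * d₁ * d₂)
    rw [mul_assoc]

theorem repW_central (hK : K ≤ Subgroup.center Δ) (k : K) :
    repW K μ (k : Δ) = ((μ k : ℂˣ) : ℂ) • (1 : Module.End ℂ (eqv K μ)) := by
  apply LinearMap.ext; intro φ; apply Subtype.ext; funext x
  show (φ : Δ → ℂ) (x * k) = ((μ k : ℂˣ) : ℂ) * (φ : Δ → ℂ) x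
  have := Subgroup.mem_center_iff.mp (hK k.2) x
  rw [this]; exact φ.2 k x

theorem exists_eqv_ne_zero : ∃ φ : eqv K μ, φ ≠ 0 := by
  classical
  refine ⟨⟨fun x => if h : x ∈ K then ((μ ⟨x, h⟩ : ℂˣ) : ℂ) else 0, ?_⟩, ?_⟩
  · intro k x
    by_cases hx : x ∈ K
    · have hkx : (k : Δ) * x ∈ K := K.mul_mem k.2 hx
      simp only [dif_pos hkx, dif_pos hx]
      rw [← Units.val_mul, ← map_mul]; rfl
    · have hkx : (k : Δ) * x ∉ K := fun h => hx (by
        have := K.mul_mem (K.inv_mem k.2) h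
        simpa using this)
      simp only [dif_neg hkx, dif_neg hx, mul_zero]
  · intro h
    have := congrFun (congrArg Subtype.val h) 1
    simp only [dif_pos K.one_mem] at this
    have h1 : (⟨1, K.one_mem⟩ : K) = 1 := rfl
    rw [h1, map_one] at this
    simp at this

theorem exists_rep [Finite Δ] (hK : K ≤ Subgroup.center Δ) :
    ∃ (n : ℕ) (_ : n ≠ 0) (ρ : Δ →* GL (Fin n) ℂ),
      ∀ k : K, ρ (k : Δ) = Matrix.GeneralLinearGroup.scalar (Fin n) (μ k) := by
  classical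
  let b := Module.finBasis ℂ (eqv K μ)
  refine ⟨Module.finrank ℂ (eqv K μ), ?_, ?_⟩
  · obtain ⟨φ, hφ⟩ := exists_eqv_ne_zero K μ
    exact (Module.finrank_pos_iff_exists_ne_zero.mpr ⟨φ, hφ⟩).ne'
  · let T : Module.End ℂ (eqv K μ) →*
        Matrix (Fin (Module.finrank ℂ (eqv K μ))) (Fin (Module.finrank ℂ (eqv K μ))) ℂ :=
      ((LinearMap.toMatrixAlgEquiv b).toAlgHom : Module.End ℂ (eqv K μ) →ₐ[ℂ] _)
    refine ⟨(T.comp (repW K μ)).toHomUnits, ?_⟩
    intro k
    apply Units.ext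
    rw [MonoidHom.coe_toHomUnits, MonoidHom.comp_apply, repW_central K μ hK k]
    show LinearMap.toMatrixAlgEquiv b (((μ k : ℂˣ) : ℂ) • (1 : Module.End ℂ (eqv K μ))) = _
    rw [map_smul, map_one, Matrix.GeneralLinearGroup.coe_scalar, Matrix.scalar_apply,
      Matrix.smul_one_eq_diagonal]

end Rep

section Main

variable {Q : Type u} [Group Q] [Finite Q] {Γ : Type v} [Group Γ]

theorem scalar_eq_one {n : ℕ} (hn : n ≠ 0) (u : ℂˣ)
    (h : Matrix.GeneralLinearGroup.scalar (Fin n) u = 1) : u = 1 := by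
  have h1 := congrArg (fun g : GL (Fin n) ℂ => (g : Matrix (Fin n) (Fin n) ℂ)
    ⟨0, Nat.pos_of_ne_zero hn⟩ ⟨0, Nat.pos_of_ne_zero hn⟩) h
  simp only [Matrix.GeneralLinearGroup.coe_scalar, Matrix.scalar_apply, Matrix.diagonal_apply_eq,
    Units.val_one, Matrix.one_apply_eq] at h1
  exact Units.ext h1

/-- if all projective representations of `Q` lift along `σ`, then the lift `f : E → Γ` is
injective on the multiplier. -/
theorem MM_inf_ker_eq_bot (σ : Γ →* Q)
    (hlift : ∀ (n : ℕ) (γ : Q →* (GL (Fin n) ℂ ⧸ Subgroup.center (GL (Fin n) ℂ))),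
      ∃ ρ : Γ →* GL (Fin n) ℂ,
        (QuotientGroup.mk' (Subgroup.center (GL (Fin n) ℂ))).comp ρ = γ.comp σ)
    {α : Type w} [Finite α] (π : FreeGroup α →* Q) (hπ : Function.Surjective π)
    (f : EE π →* Γ) (hf : σ.comp f = eps π) :
    MM π ⊓ f.ker = ⊥ := by
  have hf' : ∀ x, σ (f x) = eps π x := fun x => by rw [← hf]; rfl
  rw [eq_bot_iff]
  intro m hm
  rw [Subgroup.mem_bot]
  by_contra hm1
  obtain ⟨hmM, hmf⟩ := Subgroup.mem_inf.mp hm
  obtain ⟨S, hS0, hS2, hS3⟩ := exists_compl π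
  haveI := normal_of_le_ker π S hS0
  haveI : Finite (EE π ⧸ S) := finite_cover π S hS0 hS2 hS3
  obtain ⟨hτs, hτc, -⟩ := covHom_stem π S hπ hS0 hS3
  have hmbar : (QuotientGroup.mk m : EE π ⧸ S) ≠ 1 := by
    intro h
    exact hm1 (hS2 m ((QuotientGroup.eq_one_iff m).mp h) hmM)
  have hmker : (QuotientGroup.mk m : EE π ⧸ S) ∈ (covHom π S hS0).ker :=
    (mem_ker_covHom π S hS0 m).mpr ((inf_le_left : MM π ≤ _) hmM)
  have hmc : (QuotientGroup.mk m : EE π ⧸ S) ∈ Subgroup.center (EE π ⧸ S) := hτc hmker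
  haveI : NeZero (Monoid.exponent (Subgroup.center (EE π ⧸ S))) :=
    ⟨Monoid.exponent_ne_zero_of_finite⟩
  obtain ⟨μ, hμ⟩ := CommGroup.exists_apply_ne_one_of_hasEnoughRootsOfUnity
    (Subgroup.center (EE π ⧸ S)) ℂ (a := ⟨QuotientGroup.mk m, hmc⟩)
    (by intro h; exact hmbar (congrArg Subtype.val h))
  obtain ⟨n, hn, ρ₀, hρ₀⟩ := exists_rep (Subgroup.center (EE π ⧸ S)) μ le_rfl
  have hkerle : (covHom π S hS0).ker ≤
      ((QuotientGroup.mk' (Subgroup.center (GL (Fin n) ℂ))).comp ρ₀).ker := by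
    intro z hz
    rw [MonoidHom.mem_ker, MonoidHom.comp_apply]
    have h1 := hρ₀ ⟨z, hτc hz⟩
    have h2 : ρ₀ z ∈ Subgroup.center (GL (Fin n) ℂ) := by
      rw [Matrix.GeneralLinearGroup.center_eq_range_scalar]
      exact ⟨_, h1.symm⟩
    exact (QuotientGroup.eq_one_iff _).mpr h2
  obtain ⟨ρ, hρ⟩ := hlift n ((covHom π S hS0).liftOfSurjective hτs
    ⟨(QuotientGroup.mk' (Subgroup.center (GL (Fin n) ℂ))).comp ρ₀, hkerle⟩)
  have hγ : ∀ d : EE π ⧸ S, ((covHom π S hS0).liftOfSurjective hτs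
      ⟨(QuotientGroup.mk' (Subgroup.center (GL (Fin n) ℂ))).comp ρ₀, hkerle⟩)
      (covHom π S hS0 d) = QuotientGroup.mk' (Subgroup.center (GL (Fin n) ℂ)) (ρ₀ d) := by
    intro d
    rw [MonoidHom.liftOfRightInverse_comp_apply]; rfl
  have hρ' : ∀ y, QuotientGroup.mk' (Subgroup.center (GL (Fin n) ℂ)) (ρ y) =
      ((covHom π S hS0).liftOfSurjective hτs
      ⟨(QuotientGroup.mk' (Subgroup.center (GL (Fin n) ℂ))).comp ρ₀, hkerle⟩) (σ y) :=
    fun y => DFunLike.congr_fun hρ y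
  -- the two homs from E agree modulo scalars
  have hab : ∀ x : EE π, (ρ₀ (QuotientGroup.mk x))⁻¹ * ρ (f x) ∈
      Subgroup.center (GL (Fin n) ℂ) := by
    intro x
    rw [← QuotientGroup.eq_one_iff, QuotientGroup.mk_mul, QuotientGroup.mk_inv]
    have h1 := hρ' (f x)
    rw [hf'] at h1
    have h2 := hγ (QuotientGroup.mk x)
    rw [covHom_mk] at h2
    have h3 : (QuotientGroup.mk (ρ (f x)) : GL (Fin n) ℂ ⧸ Subgroup.center (GL (Fin n) ℂ)) =
        QuotientGroup.mk (ρ₀ (QuotientGroup.mk x)) := by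
      have e1 : (QuotientGroup.mk (ρ (f x)) : GL (Fin n) ℂ ⧸ Subgroup.center (GL (Fin n) ℂ)) =
          QuotientGroup.mk' (Subgroup.center (GL (Fin n) ℂ)) (ρ (f x)) := rfl
      rw [e1, h1, h2]; rfl
    rw [h3, inv_mul_cancel]
  let δ : EE π →* Subgroup.center (GL (Fin n) ℂ) :=
    { toFun := fun x => ⟨(ρ₀ (QuotientGroup.mk x))⁻¹ * ρ (f x), hab x⟩
      map_one' := by
        apply Subtype.ext
        simp
      map_mul' := by
        intro x y
        apply Subtype.ext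
        simp only [Subgroup.coe_mul]
        have h1 := Subgroup.mem_center_iff.mp (hab x) (ρ₀ (QuotientGroup.mk y))⁻¹
        rw [QuotientGroup.mk_mul, map_mul, map_mul, map_mul, mul_inv_rev]
        calc (ρ₀ (QuotientGroup.mk y))⁻¹ * (ρ₀ (QuotientGroup.mk x))⁻¹ * (ρ (f x) * ρ (f y))
            = (ρ₀ (QuotientGroup.mk y))⁻¹ * ((ρ₀ (QuotientGroup.mk x))⁻¹ * ρ (f x)) * ρ (f y) := by
              simp only [mul_assoc]
          _ = (ρ₀ (QuotientGroup.mk x))⁻¹ * ρ (f x) * (ρ₀ (QuotientGroup.mk y))⁻¹ * ρ (f y) := by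
              rw [h1]
          _ = _ := by simp only [mul_assoc] }
  have hδm : δ m = 1 := by
    have h1 : m ∈ commutator (EE π) := (inf_le_right : MM π ≤ _) hmM
    exact Abelianization.commutator_subset_ker δ h1
  have h1 : (ρ₀ (QuotientGroup.mk m))⁻¹ * ρ (f m) = 1 := congrArg Subtype.val hδm
  rw [MonoidHom.mem_ker.mp hmf, map_one, mul_one, inv_eq_one] at h1
  have h2 := hρ₀ ⟨QuotientGroup.mk m, hmc⟩
  rw [show ((⟨QuotientGroup.mk m, hmc⟩ : Subgroup.center (EE π ⧸ S)) : EE π ⧸ S) =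
    QuotientGroup.mk m from rfl, h1] at h2
  exact hμ (scalar_eq_one hn _ h2.symm)

end Main

end Cfsg.Agent.helper20.PR
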