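import Mathlib

/-!
Piece V1 (hedge) of the S2531 swarm (helper13): the kernel of a nonzero dot-product functional
on `Fin n → F` has `q^(n-1)` elements.
-/

set_option autoImplicit false
open Matrix

namespace Cfsg.Agent.helper20.S2531x

variable {F : Type*} [Field F] [Finite F] {n : ℕ}

/-- the functional `v ↦ w ⬝ᵥ v`. -/
def dotL (w : Fin n → F) : (Fin n → F) →ₗ[F] F where
  toFun v := w ⬝ᵥ v
  map_add' := dotProduct_add w
  map_smul' c v := by simp [dotProduct_smul]

omit [Finite F] in
theorem dotL_apply (w v : Fin n → F) : dotL w v = w ⬝ᵥ v := rfl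

omit [Finite F] in
theorem dotL_surjective (w : Fin n → F) (hw : w ≠ 0) : Function.Surjective (dotL w) := by
  classical
  have : ∃ j, w j ≠ 0 := by
    by_contra h
    exact hw (funext fun j => by
      by_contra hj
      exact h ⟨j, hj⟩)
  obtain ⟨j, hj⟩ := this
  intro c
  refine ⟨Pi.single j (c / w j), ?_⟩
  rw [dotL_apply, dotProduct_single]
  field_simp

/-- PIECE V1 (exact signature of note 1016). -/
theorem card_dot_zero (w : Fin n → F) (hw : w ≠ 0) :
    Set.ncard {v : Fin n → F | w ⬝ᵥ v = 0} * Nat.card F = Nat.card F ^ n := by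
  classical
  have hset : {v : Fin n → F | w ⬝ᵥ v = 0} = ((LinearMap.ker (dotL w) : Submodule F (Fin n → F)) : Set (Fin n → F)) := by
    ext v
    simp [dotL_apply]
  have h1 : Set.ncard {v : Fin n → F | w ⬝ᵥ v = 0} = Nat.card (LinearMap.ker (dotL w)) := by
    rw [hset, ← Nat.card_coe_set_eq]
    rfl
  have h2 := Submodule.card_eq_card_quotient_mul_card (LinearMap.ker (dotL w))
  have e := (dotL w).quotKerEquivOfSurjective (dotL_surjective w hw)
  have h3 : Nat.card ((Fin n → F) ⧸ LinearMap.ker (dotL w)) = Nat.card F := Nat.card_congr e.toEquiv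
  have h4 : Nat.card (Fin n → F) = Nat.card F ^ n := by
    rw [Nat.card_fun, Nat.card_eq_fintype_card (α := Fin n), Fintype.card_fin]
  rw [h1, ← h4, h2, h3]

end Cfsg.Agent.helper20.S2531x
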