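import Mathlib
import Cfsg.Agent.Lib_helper20_S2531x

/-!
Piece V2 (hedge) of the S2531 swarm (helper13): the common kernel of two independent dot-product
functionals on `Fin n → F` has `q^(n-2)` elements.
-/

set_option autoImplicit false
open Matrix

namespace Cfsg.Agent.helper20.S2531x

variable {F : Type*} [Field F] [Finite F] {n : ℕ}

omit [Finite F] in
theorem dotL2_surjective (w w' : Fin n → F) (hw : w ≠ 0) (hind : ∀ c : F, w' ≠ c • w) :
    Function.Surjective ((dotL w).prod (dotL w')) := by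
  classical
  have h1 : ∃ j, w j ≠ 0 := by
    by_contra h
    exact hw (funext fun j => by
      by_contra hj
      exact h ⟨j, hj⟩)
  obtain ⟨j, hj⟩ := h1
  have h2 : ∃ k, w j * w' k - w k * w' j ≠ 0 := by
    by_contra h
    apply hind (w' j / w j)
    funext k
    have hk : w j * w' k - w k * w' j = 0 := by
      by_contra hk
      exact h ⟨k, hk⟩
    simp only [Pi.smul_apply, smul_eq_mul]
    field_simp
    linear_combination hk
  obtain ⟨k, hk⟩ := h2
  have hjk : j ≠ k := by
    rintro rfl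
    apply hk
    ring
  rintro ⟨a, b⟩
  obtain ⟨D, hDdef⟩ : ∃ D, D = w j * w' k - w k * w' j := ⟨_, rfl⟩
  have hD : D ≠ 0 := by rw [hDdef]; exact hk
  have e1 : w ⬝ᵥ (Pi.single j ((a * w' k - b * w k) / D) +
      Pi.single k ((b * w j - a * w' j) / D)) = a := by
    rw [dotProduct_add, dotProduct_single, dotProduct_single]
    field_simp
    rw [hDdef]
    ring
  have e2 : w' ⬝ᵥ (Pi.single j ((a * w' k - b * w k) / D) +
      Pi.single k ((b * w j - a * w' j) / D)) = b := by
    rw [dotProduct_add, dotProduct_single, dotProduct_single]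
    field_simp
    rw [hDdef]
    ring
  refine ⟨Pi.single j ((a * w' k - b * w k) / D) +
    Pi.single k ((b * w j - a * w' j) / D), ?_⟩
  show ((dotL w) _, (dotL w') _) = (a, b)
  rw [dotL_apply, dotL_apply, e1, e2]

/-- PIECE V2 (exact signature of note 1016). -/
theorem card_dot_zero_two (w w' : Fin n → F) (hw : w ≠ 0) (hind : ∀ c : F, w' ≠ c • w) :
    Set.ncard {v : Fin n → F | w ⬝ᵥ v = 0 ∧ w' ⬝ᵥ v = 0} * Nat.card F ^ 2 = Nat.card F ^ n := by
  classical
  have hset : {v : Fin n → F | w ⬝ᵥ v = 0 ∧ w' ⬝ᵥ v = 0} =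
      ((LinearMap.ker ((dotL w).prod (dotL w')) : Submodule F (Fin n → F)) : Set (Fin n → F)) := by
    ext v
    simp [dotL_apply, LinearMap.ker_prod]
  have h1 : Set.ncard {v : Fin n → F | w ⬝ᵥ v = 0 ∧ w' ⬝ᵥ v = 0} =
      Nat.card (LinearMap.ker ((dotL w).prod (dotL w'))) := by
    rw [hset, ← Nat.card_coe_set_eq]
    rfl
  have h2 := Submodule.card_eq_card_quotient_mul_card (LinearMap.ker ((dotL w).prod (dotL w')))
  have e := ((dotL w).prod (dotL w')).quotKerEquivOfSurjective (dotL2_surjective w w' hw hind)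
  have h3 : Nat.card ((Fin n → F) ⧸ LinearMap.ker ((dotL w).prod (dotL w'))) = Nat.card F ^ 2 := by
    rw [Nat.card_congr e.toEquiv, Nat.card_prod, sq]
  have h4 : Nat.card (Fin n → F) = Nat.card F ^ n := by
    rw [Nat.card_fun, Nat.card_eq_fintype_card (α := Fin n), Fintype.card_fin]
  rw [h1, ← h4, h2, h3]

end Cfsg.Agent.helper20.S2531x
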