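import Mathlib

/-!
Piece S2 of the S2670 swarm (helper15): basic facts on the scaling
`f ↦ C (μ ^ n) * f.comp (C μ⁻¹ * X)` of monic polynomials of degree `n`.
-/

set_option autoImplicit false
open Polynomial

namespace Cfsg.Agent.helper20.S2670x

variable {F : Type*} [Field F]

theorem inner_lin (μ a : F) (hμ : μ ≠ 0) :
    (C μ * (C μ⁻¹ * X - C a) : F[X]) = X - C (μ * a) := by
  rw [mul_sub, ← mul_assoc, ← C_mul, mul_inv_cancel₀ hμ, C_1, one_mul, ← C_mul]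

theorem inner_pow (μ c : F) (hμ : μ ≠ 0) (r : ℕ) :
    (C (μ ^ r) * ((C μ⁻¹ * X) ^ r - C c) : F[X]) = X ^ r - C (μ ^ r * c) := by
  rw [mul_sub, mul_pow, ← mul_assoc, ← C_pow, ← C_mul, ← mul_pow, mul_inv_cancel₀ hμ, one_pow,
    C_1, one_mul, ← C_mul]

/-- PIECE S2 (exact signature of note 1091). -/
theorem pieceS2 {F : Type*} [Field F] (n r : ℕ) (μ : F) (hμ : μ ≠ 0) (f : F[X]) (hf : f.Monic)
    (hd : f.natDegree = n) :
    (C (μ ^ n) * f.comp (C μ⁻¹ * X)).Monic ∧ (C (μ ^ n) * f.comp (C μ⁻¹ * X)).natDegree = n ∧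
    (∀ c : F, f ∣ (X ^ r - C c) ^ n →
      (C (μ ^ n) * f.comp (C μ⁻¹ * X)) ∣ (X ^ r - C (μ ^ r * c)) ^ n) ∧
    (∀ a : F, f = (X - C a) ^ n → C (μ ^ n) * f.comp (C μ⁻¹ * X) = (X - C (μ * a)) ^ n) ∧
    (∀ (c : F) (k : ℕ), f = (X ^ r - C c) ^ k → r * k = n →
      C (μ ^ n) * f.comp (C μ⁻¹ * X) = (X ^ r - C (μ ^ r * c)) ^ k) := by
  have hμi : μ⁻¹ ≠ 0 := inv_ne_zero hμ
  have hμn : μ ^ n ≠ 0 := pow_ne_zero n hμ
  have hq1 : (C μ⁻¹ * X : F[X]).natDegree = 1 := natDegree_C_mul_X μ⁻¹ hμi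
  have hqlc : (C μ⁻¹ * X : F[X]).leadingCoeff = μ⁻¹ := by
    rw [leadingCoeff_mul, leadingCoeff_C, leadingCoeff_X, mul_one]
  refine ⟨?_, ?_, ?_, ?_, ?_⟩
  · -- monic
    unfold Monic
    rw [leadingCoeff_mul, leadingCoeff_C, leadingCoeff_comp (by rw [hq1]; exact one_ne_zero),
      hf.leadingCoeff, one_mul, hqlc, hd, ← mul_pow, mul_inv_cancel₀ hμ, one_pow]
  · rw [natDegree_C_mul hμn, natDegree_comp, hq1, mul_one, hd]
  · intro c hc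
    rw [C_mul_dvd hμn]
    obtain ⟨g, hg⟩ := hc
    have h1 : ((X ^ r - C c) ^ n : F[X]).comp (C μ⁻¹ * X) =
        f.comp (C μ⁻¹ * X) * g.comp (C μ⁻¹ * X) := by
      rw [hg, mul_comp]
    have h2 : ((X ^ r - C c) ^ n : F[X]).comp (C μ⁻¹ * X) =
        C ((μ⁻¹ ^ r) ^ n) * (X ^ r - C (μ ^ r * c)) ^ n := by
      rw [pow_comp, sub_comp, pow_comp, X_comp, C_comp, C_pow, ← mul_pow]
      congr 1
      have := inner_pow μ c hμ r
      rw [← this, ← mul_assoc, ← C_mul, ← mul_pow, inv_mul_cancel₀ hμ, one_pow, C_1, one_mul]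
    have h3 : f.comp (C μ⁻¹ * X) ∣ C ((μ⁻¹ ^ r) ^ n) * (X ^ r - C (μ ^ r * c)) ^ n := by
      rw [← h2, h1]
      exact dvd_mul_right _ _
    exact (dvd_C_mul (pow_ne_zero n (pow_ne_zero r hμi))).mp h3
  · intro a ha
    rw [ha, pow_comp, sub_comp, X_comp, C_comp, C_pow, ← mul_pow, inner_lin μ a hμ]
  · intro c k hk hrk
    rw [hk, pow_comp, sub_comp, pow_comp, X_comp, C_comp, ← hrk, pow_mul, C_pow, ← mul_pow,
      inner_pow μ c hμ r]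

end Cfsg.Agent.helper20.S2670x
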