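import Mathlib

set_option autoImplicit false
open Polynomial

namespace Cfsg.Agent.helper7.S2670x

/-- PIECE S2b: the scaling is an action -/
theorem pieceS2b {F : Type*} [Field F] (n : ℕ) (f : F[X]) :
    C ((1 : F) ^ n) * f.comp (C (1 : F)⁻¹ * X) = f ∧
    ∀ μ ν : F, μ ≠ 0 → ν ≠ 0 → C ((μ * ν) ^ n) * f.comp (C (μ * ν)⁻¹ * X) =
      C (μ ^ n) * (C (ν ^ n) * f.comp (C ν⁻¹ * X)).comp (C μ⁻¹ * X) := by
  constructor
  · simp
  · intro μ ν _ _
    rw [mul_comp, C_comp, comp_assoc, mul_comp, C_comp, X_comp, ← mul_assoc, ← C_mul, ← mul_assoc,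
      ← C_mul, mul_pow, mul_inv]
    congr 3
    rw [mul_comm]

/-- PIECE S7: `r`-th powers and `r`-th roots of unity in a finite field with `r ∣ q - 1` -/
theorem pieceS7 {F : Type*} [Field F] [Fintype F] (r : ℕ) (hr : r.Prime)
    (hrq : r ∣ Fintype.card F - 1) :
    Nat.card {c : F // c ≠ 0 ∧ ∃ b : F, b ^ r = c} * r = Fintype.card F - 1 ∧
    Nat.card {μ : F // μ ^ r = 1} = r ∧ ∃ ω : F, ω ^ r = 1 ∧ ω ≠ 1 := by
  classical
  have hcard : Nat.card Fˣ = Fintype.card F - 1 := by
    rw [Nat.card_eq_fintype_card, Fintype.card_units]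
  have hgcd : (Nat.card Fˣ).gcd r = r := by
    rw [hcard]; exact Nat.gcd_eq_right hrq
  have hker : Nat.card (powMonoidHom r : Fˣ →* Fˣ).ker = r := by
    rw [IsCyclic.card_powMonoidHom_ker, hgcd]
  have hrange : Nat.card (powMonoidHom r : Fˣ →* Fˣ).range = (Fintype.card F - 1) / r := by
    rw [IsCyclic.card_powMonoidHom_range, hgcd, hcard]
  have e1 : {c : F // c ≠ 0 ∧ ∃ b : F, b ^ r = c} ≃ (powMonoidHom r : Fˣ →* Fˣ).range :=
    { toFun := fun c => ⟨Units.mk0 c.1 c.2.1, by
        obtain ⟨b, hb⟩ := c.2.2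
        have hb0 : b ≠ 0 := by
          rintro rfl
          rw [zero_pow hr.ne_zero] at hb
          exact c.2.1 hb.symm
        refine ⟨Units.mk0 b hb0, ?_⟩
        apply Units.ext
        simp [hb]⟩
      invFun := fun u => ⟨((u : Fˣ) : F), Units.ne_zero _, by
        obtain ⟨v, hv⟩ := u.2
        refine ⟨(v : F), ?_⟩
        rw [← hv]; simp⟩
      left_inv := fun c => by ext; simp
      right_inv := fun u => by ext; simp }
  have e2 : {μ : F // μ ^ r = 1} ≃ (powMonoidHom r : Fˣ →* Fˣ).ker :=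
    { toFun := fun μ => ⟨Units.mk0 μ.1 (by
          intro h0
          have := μ.2
          rw [h0, zero_pow hr.ne_zero] at this
          exact zero_ne_one this), by
        rw [MonoidHom.mem_ker]
        apply Units.ext
        simp [μ.2]⟩
      invFun := fun u => ⟨((u : Fˣ) : F), by
        have := u.2
        rw [MonoidHom.mem_ker] at this
        have h2 := congrArg (fun w : Fˣ => (w : F)) this
        simpa using h2⟩
      left_inv := fun c => by ext; simp
      right_inv := fun u => by ext; simp }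
  refine ⟨?_, ?_, ?_⟩
  · rw [Nat.card_congr e1, hrange, Nat.div_mul_cancel hrq]
  · rw [Nat.card_congr e2, hker]
  · have h2 : 1 < Nat.card (powMonoidHom r : Fˣ →* Fˣ).ker := by rw [hker]; exact hr.one_lt
    have : Nontrivial (powMonoidHom r : Fˣ →* Fˣ).ker :=
      (Finite.one_lt_card_iff_nontrivial).mp h2
    obtain ⟨u, hu⟩ := exists_ne (1 : (powMonoidHom r : Fˣ →* Fˣ).ker)
    refine ⟨((u : Fˣ) : F), ?_, ?_⟩
    · have := u.2
      rw [MonoidHom.mem_ker] at this
      have h2 := congrArg (fun w : Fˣ => (w : F)) this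
      simpa using h2
    · intro h1
      apply hu
      apply Subtype.ext
      apply Units.ext
      simpa using h1

end Cfsg.Agent.helper7.S2670x
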