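import Mathlib
import Cfsg.Agent.Lib_helper20_S2670x
import Cfsg.Agent.Lib_helper7_S2670x

/-!
Piece B2 of the S2670 Burnside sub-swarm (helper23): scaling by `b` is a bijection from the
`c = 1` set of polynomials to the `c = b ^ r` set.
-/

set_option autoImplicit false
open Polynomial

namespace Cfsg.Agent.helper20.S2670b

open Cfsg.Agent.helper20.S2670x

variable {F : Type*} [Field F]

theorem sc_inv_sc (n : ℕ) (b : F) (hb : b ≠ 0) (f : F[X]) :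
    C (b⁻¹ ^ n) * (C (b ^ n) * f.comp (C b⁻¹ * X)).comp (C b⁻¹⁻¹ * X) = f := by
  have h := (Cfsg.Agent.helper7.S2670x.pieceS2b n f).2 b⁻¹ b (inv_ne_zero hb) hb
  rw [← h, inv_mul_cancel₀ hb]
  exact (Cfsg.Agent.helper7.S2670x.pieceS2b n f).1

theorem sc_sc_inv (n : ℕ) (b : F) (hb : b ≠ 0) (f : F[X]) :
    C (b ^ n) * (C (b⁻¹ ^ n) * f.comp (C b⁻¹⁻¹ * X)).comp (C b⁻¹ * X) = f := by
  have h := (Cfsg.Agent.helper7.S2670x.pieceS2b n f).2 b b⁻¹ hb (inv_ne_zero hb)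
  rw [← h, mul_inv_cancel₀ hb]
  exact (Cfsg.Agent.helper7.S2670x.pieceS2b n f).1

/-- scaling by `μ` maps the `c`-set into the `μ ^ r * c`-set -/
theorem sc_mem (n r : ℕ) (μ : F) (hμ : μ ≠ 0) (c : F) (f : F[X])
    (hf : f.Monic ∧ f.natDegree = n ∧ f ∣ (X ^ r - C c) ^ n ∧ ∀ a : F, f ≠ (X - C a) ^ n) :
    (C (μ ^ n) * f.comp (C μ⁻¹ * X)).Monic ∧ (C (μ ^ n) * f.comp (C μ⁻¹ * X)).natDegree = n ∧
      (C (μ ^ n) * f.comp (C μ⁻¹ * X)) ∣ (X ^ r - C (μ ^ r * c)) ^ n ∧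
      ∀ a : F, C (μ ^ n) * f.comp (C μ⁻¹ * X) ≠ (X - C a) ^ n := by
  obtain ⟨h1, h2, h3, h4⟩ := hf
  obtain ⟨s1, s2, s3, _, _⟩ := pieceS2 n r μ hμ f h1 h2
  refine ⟨s1, s2, s3 c h3, ?_⟩
  intro a ha
  have hmon : ((X - C a) ^ n : F[X]).Monic := (monic_X_sub_C a).pow n
  have hdeg : ((X - C a) ^ n : F[X]).natDegree = n := by
    rw [(monic_X_sub_C a).natDegree_pow, natDegree_X_sub_C, mul_one]
  obtain ⟨_, _, _, t4, _⟩ := pieceS2 n r μ⁻¹ (inv_ne_zero hμ) ((X - C a) ^ n) hmon hdeg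
  have h5 := t4 a rfl
  rw [← ha] at h5
  rw [sc_inv_sc n μ hμ f] at h5
  exact h4 _ h5

/-- PIECE B2 (exact signature of note 1135). -/
theorem pieceB2 {F : Type*} [Field F] [Fintype F] (n r : ℕ) (b : F) (hb : b ≠ 0) :
    Nat.card {f : F[X] // f.Monic ∧ f.natDegree = n ∧ f ∣ (X ^ r - C (b ^ r)) ^ n ∧
      ∀ a : F, f ≠ (X - C a) ^ n} =
    Nat.card {f : F[X] // f.Monic ∧ f.natDegree = n ∧ f ∣ (X ^ r - C 1) ^ n ∧
      ∀ a : F, f ≠ (X - C a) ^ n} := by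
  refine Nat.card_congr
    { toFun := fun f => ⟨C (b⁻¹ ^ n) * f.1.comp (C b⁻¹⁻¹ * X), ?_⟩
      invFun := fun g => ⟨C (b ^ n) * g.1.comp (C b⁻¹ * X), ?_⟩
      left_inv := ?_
      right_inv := ?_ }
  · have h := sc_mem n r b⁻¹ (inv_ne_zero hb) (b ^ r) f.1 f.2
    have e : b⁻¹ ^ r * b ^ r = 1 := by rw [← mul_pow, inv_mul_cancel₀ hb, one_pow]
    rw [e] at h
    exact h
  · have h := sc_mem n r b hb 1 g.1 g.2
    rw [mul_one] at h
    exact h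
  · intro f
    apply Subtype.ext
    exact sc_sc_inv n b hb f.1
  · intro g
    apply Subtype.ext
    exact sc_inv_sc n b hb g.1

end Cfsg.Agent.helper20.S2670b
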