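import Mathlib
import Cfsg.Agent.Lib_helper20_S2670b

/-!
Pieces T6 (final arithmetic) and T2 (scaling bijection) of the S2670 swarm, round 2 (helper15).
-/

set_option autoImplicit false
open Polynomial

namespace Cfsg.Agent.helper20.S2670t

open Cfsg.Agent.helper20.S2670b

/-- PIECE T6 (exact signature of note 1144). -/
theorem pieceT6 (orb X q1 R N1 C r e : ℕ) (hr : 2 ≤ r) (hR : R * r = q1) (hq1 : 0 < q1)
    (he : e ≤ 1) (hB : orb * q1 = X + (r - 1) * q1 * e) (hX : X = R * N1 + (q1 - R) * e)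
    (hN : N1 + r = C) (hfix : q1 * e ≤ X) : orb = (C - r - e) / r + r * e := by
  obtain ⟨r', rfl⟩ : ∃ r', r = r' + 2 := ⟨r - 2, by omega⟩
  have hRpos : 0 < R := by
    rcases Nat.eq_zero_or_pos R with h | h
    · rw [h, zero_mul] at hR; omega
    · exact h
  subst hN
  subst hR
  have hsub : R * (r' + 2) - R = R * (r' + 1) := by
    apply Nat.sub_eq_of_eq_add; ring
  have hr1 : r' + 2 - 1 = r' + 1 := by omega
  rw [hsub] at hX
  rw [hr1] at hB
  rcases (by omega : e = 0 ∨ e = 1) with rfl | rfl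
  · -- e = 0
    simp only [mul_zero, add_zero, Nat.sub_zero] at hB hX ⊢
    rw [hX] at hB
    have h1 : R * (orb * (r' + 2)) = R * N1 := by
      calc R * (orb * (r' + 2)) = orb * (R * (r' + 2)) := by ring
        _ = R * N1 := hB
    have h2 : orb * (r' + 2) = N1 := Nat.eq_of_mul_eq_mul_left hRpos h1
    rw [Nat.add_sub_cancel, ← h2, Nat.mul_div_cancel _ (by omega : 0 < r' + 2)]
  · -- e = 1
    simp only [mul_one] at hB hX hfix ⊢
    rw [hX] at hB hfix
    have h1 : R * (orb * (r' + 2)) = R * (N1 + (r' + 1) + (r' + 1) * (r' + 2)) := by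
      calc R * (orb * (r' + 2)) = orb * (R * (r' + 2)) := by ring
        _ = R * N1 + R * (r' + 1) + (r' + 1) * (R * (r' + 2)) := hB
        _ = _ := by ring
    have h2 : orb * (r' + 2) = N1 + (r' + 1) + (r' + 1) * (r' + 2) :=
      Nat.eq_of_mul_eq_mul_left hRpos h1
    have h3 : R * 1 ≤ R * N1 := by
      have : R * (r' + 2) = R * (r' + 1) + R * 1 := by ring
      omega
    have h4 : 1 ≤ N1 := Nat.le_of_mul_le_mul_left h3 hRpos
    obtain ⟨k, rfl⟩ : ∃ k, N1 = k + 1 := ⟨N1 - 1, by omega⟩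
    have h5 : r' + 2 ≤ orb := by
      by_contra hlt
      push Not at hlt
      have : orb * (r' + 2) ≤ (r' + 1) * (r' + 2) := Nat.mul_le_mul_right _ (by omega)
      omega
    obtain ⟨o', rfl⟩ : ∃ o', orb = o' + (r' + 2) := ⟨orb - (r' + 2), by omega⟩
    have h6 : k = o' * (r' + 2) := by
      have : (o' + (r' + 2)) * (r' + 2) = o' * (r' + 2) + (r' + 2) + (r' + 1) * (r' + 2) := by ring
      omega
    have h7 : k + 1 + (r' + 2) - (r' + 2) - 1 = k := by omega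
    rw [h7, h6, Nat.mul_div_cancel _ (by omega : 0 < r' + 2)]

/-- PIECE T2 (exact signature of note 1144). -/
theorem pieceT2 {F : Type*} [Field F] (n r : ℕ) (hn : 1 ≤ n) (hr : r.Prime) (ν : F) (hν : ν ≠ 0) :
    Nat.card {f : F[X] // f.Monic ∧ f.natDegree = n ∧ f ∣ (X ^ r - C (ν ^ r)) ^ n ∧
        ¬ ∃ a : F, f = (X - C a) ^ n} =
    Nat.card {f : F[X] // f.Monic ∧ f.natDegree = n ∧ f ∣ (X ^ r - C 1) ^ n ∧
        ¬ ∃ a : F, f = (X - C a) ^ n} := by
  refine Nat.card_congr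
    { toFun := fun f => ⟨C (ν⁻¹ ^ n) * f.1.comp (C ν⁻¹⁻¹ * X), ?_⟩
      invFun := fun g => ⟨C (ν ^ n) * g.1.comp (C ν⁻¹ * X), ?_⟩
      left_inv := ?_
      right_inv := ?_ }
  · obtain ⟨h1, h2, h3, h4⟩ := f.2
    have h := sc_mem n r ν⁻¹ (inv_ne_zero hν) (ν ^ r) f.1 ⟨h1, h2, h3, not_exists.mp h4⟩
    have e : ν⁻¹ ^ r * ν ^ r = 1 := by rw [← mul_pow, inv_mul_cancel₀ hν, one_pow]
    rw [e] at h
    exact ⟨h.1, h.2.1, h.2.2.1, not_exists.mpr h.2.2.2⟩
  · obtain ⟨h1, h2, h3, h4⟩ := g.2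
    have h := sc_mem n r ν hν 1 g.1 ⟨h1, h2, h3, not_exists.mp h4⟩
    rw [mul_one] at h
    exact ⟨h.1, h.2.1, h.2.2.1, not_exists.mpr h.2.2.2⟩
  · intro f
    apply Subtype.ext
    exact sc_sc_inv n ν hν f.1
  · intro g
    apply Subtype.ext
    exact sc_inv_sc n ν hν g.1

end Cfsg.Agent.helper20.S2670t
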