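import Mathlib

/-! Mini piece P7 of the S2672 swarm (helper11): a binomial bound. -/

set_option autoImplicit false

namespace Cfsg.Agent.helper20.S2672p

theorem pieceP7 (n r : ℕ) (hn : 2 ≤ n) (hr : 2 ≤ r) :
    r + 1 ≤ Nat.choose (n + r - 1) (r - 1) := by
  have h1 : Nat.choose (r + 1) (r - 1) ≤ Nat.choose (n + r - 1) (r - 1) :=
    Nat.choose_le_choose (r - 1) (by omega)
  have h2 : Nat.choose (r + 1) (r - 1) = Nat.choose (r + 1) 2 := by
    have := Nat.choose_symm (n := r + 1) (k := 2) (by omega)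
    rw [← this]
    congr 1
  have h3 : r + 1 ≤ Nat.choose (r + 1) 2 := by
    rw [Nat.choose_two_right, Nat.add_sub_cancel]
    rw [Nat.le_div_iff_mul_le (by norm_num)]
    exact Nat.mul_le_mul_left _ hr
  calc r + 1 ≤ Nat.choose (r + 1) 2 := h3
    _ = Nat.choose (r + 1) (r - 1) := h2.symm
    _ ≤ _ := h1

end Cfsg.Agent.helper20.S2672p
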