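import Mathlib
import Cfsg.Prelude.Def_Transfer
import Cfsg.Prelude.Def_Solvable
import Cfsg.Agent.Lib_helper3_S3739x
import Cfsg.Agent.Lib_helper17_S3739x

/-!
Piece B of the S3739 plan (note 916): if `G` has no `E₈`, `C_G(O₂(G)) ≤ O₂(G)`, and `d` normalizes the
nontrivial elementary abelian 2-group `W` without fixed points, then `W = Ω₁(Z(O₂(G)))`: it is normal
in `G`, central in `O₂(G)`, and contains every involution of `O₂(G)`.
-/

set_option autoImplicit false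
set_option linter.unusedVariables false
set_option linter.style.haveILetI false

namespace Cfsg.Agent.helper20.S3739B

variable {G : Type*} [Group G]

/-- `Ω₁(Z(Q))` as a subgroup of `G`. -/
def omegaZ (Q : Subgroup G) : Subgroup G where
  carrier := {z | z ∈ Q ∧ (∀ q ∈ Q, z * q = q * z) ∧ z * z = 1}
  one_mem' := ⟨Q.one_mem, fun q _ => by rw [one_mul, mul_one], by rw [mul_one]⟩
  mul_mem' := by
    rintro a b ⟨haQ, hac, ha2⟩ ⟨hbQ, hbc, hb2⟩
    refine ⟨Q.mul_mem haQ hbQ, ?_, ?_⟩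
    · intro q hq
      calc a * b * q = a * (b * q) := by rw [mul_assoc]
        _ = a * (q * b) := by rw [hbc q hq]
        _ = (a * q) * b := by rw [mul_assoc]
        _ = (q * a) * b := by rw [hac q hq]
        _ = q * (a * b) := by rw [mul_assoc]
    · calc a * b * (a * b) = a * (b * a) * b := by simp only [mul_assoc]
        _ = a * (a * b) * b := by rw [← hac b hbQ]
        _ = (a * a) * (b * b) := by simp only [mul_assoc]
        _ = 1 := by rw [ha2, hb2, one_mul]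
  inv_mem' := by
    rintro a ⟨haQ, hac, ha2⟩
    have hinv : a⁻¹ = a := inv_eq_of_mul_eq_one_right ha2
    rw [Set.mem_setOf_eq, hinv]
    exact ⟨haQ, hac, ha2⟩

theorem mem_omegaZ {Q : Subgroup G} {z : G} :
    z ∈ omegaZ Q ↔ z ∈ Q ∧ (∀ q ∈ Q, z * q = q * z) ∧ z * z = 1 := Iff.rfl

theorem omegaZ_conj (Q : Subgroup G) (hQn : Q.Normal) (g : G) (z : G) (hz : z ∈ omegaZ Q) :
    g * z * g⁻¹ ∈ omegaZ Q := by
  obtain ⟨hzQ, hzc, hz2⟩ := hz
  refine ⟨hQn.conj_mem z hzQ g, ?_, ?_⟩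
  · intro q hq
    have hq' : g⁻¹ * q * g ∈ Q := by
      have := hQn.conj_mem q hq g⁻¹
      simpa using this
    have h := hzc _ hq'
    calc g * z * g⁻¹ * q = g * (z * (g⁻¹ * q * g)) * g⁻¹ := by group
      _ = g * ((g⁻¹ * q * g) * z) * g⁻¹ := by rw [h]
      _ = q * (g * z * g⁻¹) := by group
  · calc g * z * g⁻¹ * (g * z * g⁻¹) = g * (z * z) * g⁻¹ := by group
      _ = 1 := by rw [hz2]; group

/-- an involution centralizing the four-group `W` lies in `W` when there is no `E₈`. -/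
theorem mem_of_invol_comm [Finite G]
    (hno : ¬ ∃ E : Subgroup G, Cfsg.IsElementaryAbelian 2 E ∧ Nat.card E = 8)
    (W : Subgroup G) (hW : Cfsg.IsElementaryAbelian 2 W) (hW4 : Nat.card W = 4)
    (t : G) (ht2 : t * t = 1) (htc : ∀ w ∈ W, t * w = w * t) : t ∈ W := by
  by_contra htW
  apply hno
  refine ⟨Cfsg.Agent.helper17.S3739x.adj W t ht2 htc,
    Cfsg.Agent.helper17.S3739x.elemAb_adj W hW t ht2 htc, ?_⟩
  rw [Cfsg.Agent.helper17.S3739x.card_adj W t ht2 htc htW, hW4]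

theorem exists_invol_omegaZ [Finite G] (Q : Subgroup G) (hQ2 : IsPGroup 2 Q) (hQne : Q ≠ ⊥) :
    ∃ z ∈ omegaZ Q, z ≠ 1 := by
  haveI : Fact (Nat.Prime 2) := ⟨Nat.prime_two⟩
  haveI : Nontrivial ↥Q := (Subgroup.nontrivial_iff_ne_bot Q).mpr hQne
  haveI hCn : Nontrivial ↥(Subgroup.center ↥Q) := hQ2.center_nontrivial
  have hC2 : IsPGroup 2 ↥(Subgroup.center ↥Q) := hQ2.to_subgroup _
  obtain ⟨n, hn0, hn⟩ := hC2.nontrivial_iff_card.mp hCn
  have hdvd : 2 ∣ Nat.card ↥(Subgroup.center ↥Q) := by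
    rw [hn]; exact dvd_pow_self 2 (by omega)
  obtain ⟨c, hc⟩ := exists_prime_orderOf_dvd_card' 2 hdvd
  refine ⟨((c : ↥Q) : G), ⟨(c : ↥Q).2, ?_, ?_⟩, ?_⟩
  · intro q hq
    have h := Subgroup.mem_center_iff.mp c.2 ⟨q, hq⟩
    have h' := congrArg (fun t : ↥Q => (t : G)) h
    simpa using h'.symm
  · have h2 : c ^ 2 = 1 := by rw [← hc]; exact pow_orderOf_eq_one c
    have h' := congrArg (fun t : ↥(Subgroup.center ↥Q) => (((t : ↥Q)) : G)) h2
    simpa [pow_two] using h'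
  · intro h1
    have hc1 : c = 1 := by
      apply Subtype.ext; apply Subtype.ext
      simpa using h1
    rw [hc1, orderOf_one] at hc
    omega

/-- a 2-group `W` normalizing a nontrivial normal 2-subgroup `Z` centralizes an involution of it -/
theorem exists_fixed [Finite G] (W Z : Subgroup G) (hW2 : IsPGroup 2 W) (hZ2 : IsPGroup 2 Z)
    (hZn : ∀ g : G, ∀ z ∈ Z, g * z * g⁻¹ ∈ Z) (hZne : ∃ z ∈ Z, z ≠ 1) :
    ∃ z ∈ Z, z ≠ 1 ∧ ∀ w ∈ W, w * z * w⁻¹ = z := by
  haveI : Fact (Nat.Prime 2) := ⟨Nat.prime_two⟩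
  letI act : MulAction ↥W ↥Z :=
    { smul := fun w z => ⟨w * z * (w : G)⁻¹, hZn w z z.2⟩
      one_smul := by
        intro z
        apply Subtype.ext
        show ((1 : ↥W) : G) * z * ((1 : ↥W) : G)⁻¹ = z
        simp
      mul_smul := by
        intro a b z
        apply Subtype.ext
        show ((a * b : ↥W) : G) * z * ((a * b : ↥W) : G)⁻¹ = a * (b * z * (b : G)⁻¹) * (a : G)⁻¹
        push_cast
        group }
  have hsmul : ∀ (w : ↥W) (z : ↥Z), ((w • z : ↥Z) : G) = w * z * (w : G)⁻¹ := fun _ _ => rfl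
  haveI : Nontrivial ↥Z := by
    obtain ⟨z, hz, hz1⟩ := hZne
    exact ⟨⟨⟨z, hz⟩, 1, fun h => hz1 (congrArg Subtype.val h)⟩⟩
  obtain ⟨n, hn0, hn⟩ := hZ2.nontrivial_iff_card.mp inferInstance
  have hdvd : 2 ∣ Nat.card ↥Z := by rw [hn]; exact dvd_pow_self 2 (by omega)
  have h1 : (1 : ↥Z) ∈ MulAction.fixedPoints ↥W ↥Z := by
    intro w
    apply Subtype.ext
    rw [hsmul]
    simp
  obtain ⟨b, hb, hb1⟩ := hW2.exists_fixed_point_of_prime_dvd_card_of_fixed_point ↥Z hdvd h1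
  refine ⟨b, b.2, ?_, ?_⟩
  · intro h
    apply hb1
    apply Subtype.ext
    exact h.symm
  · intro w hw
    have := hb ⟨w, hw⟩
    have h' := congrArg (fun t : ↥Z => (t : G)) this
    simpa [hsmul] using h'

/-- PIECE B (the two facts used by the assembly). -/
theorem b2 [Finite G]
    (hno : ¬ ∃ E : Subgroup G, Cfsg.IsElementaryAbelian 2 E ∧ Nat.card E = 8)
    (hchar : Subgroup.centralizer (Cfsg.pCore 2 G : Set G) ≤ Cfsg.pCore 2 G)
    (d : G) (W : Subgroup G) (hW : Cfsg.IsElementaryAbelian 2 W) (hW1 : W ≠ ⊥)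
    (hdW : d ∈ Subgroup.normalizer (W : Set G)) (hfpf : W ⊓ Subgroup.centralizer {d} = ⊥) :
    W ≤ Cfsg.pCore 2 G ∧ (∀ w ∈ W, ∀ q ∈ Cfsg.pCore 2 G, w * q = q * w) ∧
      (∀ i ∈ Cfsg.pCore 2 G, i * i = 1 → i ∈ W) ∧ (∀ g : G, ∀ w ∈ W, g * w * g⁻¹ ∈ W) := by
  haveI : Fact (Nat.Prime 2) := ⟨Nat.prime_two⟩
  set Q : Subgroup G := Cfsg.pCore 2 G with hQ
  have hQn : Q.Normal := Subgroup.sSup_normal _ (fun _ h => h.1)
  have hQ2 : IsPGroup 2 Q := Sylow.sSup_of_normal _ (fun _ h => h.2) (fun _ h => h.1)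
  have hW4 : Nat.card W = 4 :=
    Cfsg.Agent.helper3.S3739x.card_eq_four hno d W hW hW1 hdW hfpf
  have hW2 : IsPGroup 2 W := by
    apply IsPGroup.of_card (n := 2)
    rw [hW4]; norm_num
  have hQne : Q ≠ ⊥ := by
    intro hbot
    apply hW1
    rw [eq_bot_iff]
    intro w hw
    have hwc : w ∈ Subgroup.centralizer (Q : Set G) := by
      rw [Subgroup.mem_centralizer_iff]
      intro q hq
      have hq' : q ∈ Q := hq
      rw [hbot] at hq'
      rw [Subgroup.mem_bot.mp hq', one_mul, mul_one]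
    have := hchar hwc
    rw [hbot] at this
    exact this
  set Z := omegaZ Q with hZ
  have hZQ : Z ≤ Q := fun z hz => hz.1
  have hZ2 : IsPGroup 2 Z := hQ2.to_le hZQ
  have hZn : ∀ g : G, ∀ z ∈ Z, g * z * g⁻¹ ∈ Z := fun g z hz => omegaZ_conj Q hQn g z hz
  have hZne : ∃ z ∈ Z, z ≠ 1 := exists_invol_omegaZ Q hQ2 hQne
  -- B1
  have hWQ : W ≤ Q := by
    have hdY : ∀ y ∈ W ⊓ Q, d * y * d⁻¹ ∈ W ⊓ Q := fun y hy =>
      ⟨Cfsg.Agent.helper3.S3739x.conj_mem d W hdW hy.1, hQn.conj_mem y hy.2 d⟩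
    rcases Cfsg.Agent.helper3.S3739x.invariant_eq_bot_or hno d W hW hW1 hdW hfpf (W ⊓ Q)
      inf_le_left hdY with hbot | hEq
    · exfalso
      obtain ⟨z, hzZ, hz1, hzfix⟩ := exists_fixed W Z hW2 hZ2 hZn hZne
      have htc : ∀ w ∈ W, z * w = w * z := by
        intro w hw
        have h := hzfix w hw
        calc z * w = (w * z * w⁻¹) * w := by rw [h]
          _ = w * z := by group
      have hzW : z ∈ W := mem_of_invol_comm hno W hW hW4 z hzZ.2.2 htc
      have : z ∈ W ⊓ Q := ⟨hzW, hzZ.1⟩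
      rw [hbot] at this
      exact hz1 (Subgroup.mem_bot.mp this)
    · intro w hw
      have : w ∈ W ⊓ Q := by rw [hEq]; exact hw
      exact this.2
  -- Z ≤ W
  have hZW : Z ≤ W := by
    intro z hz
    exact mem_of_invol_comm hno W hW hW4 z hz.2.2 (fun w hw => hz.2.1 w (hWQ hw))
  have hZeq : Z = W := by
    rcases Cfsg.Agent.helper3.S3739x.invariant_eq_bot_or hno d W hW hW1 hdW hfpf Z hZW
      (fun y hy => hZn d y hy) with hbot | hEq
    · exfalso
      obtain ⟨z, hz, hz1⟩ := hZne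
      rw [hbot] at hz
      exact hz1 (Subgroup.mem_bot.mp hz)
    · exact hEq
  refine ⟨hWQ, ?_, ?_, ?_⟩
  · intro w hw q hq
    have : w ∈ Z := by rw [hZeq]; exact hw
    exact this.2.1 q hq
  · intro i hi hi2
    apply mem_of_invol_comm hno W hW hW4 i hi2
    intro w hw
    have : w ∈ Z := by rw [hZeq]; exact hw
    exact (this.2.1 i hi).symm
  · intro g w hw
    rw [← hZeq] at hw ⊢
    exact hZn g w hw

end Cfsg.Agent.helper20.S3739B
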