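import Mathlib

/-!
Two standalone lemmas for S3739 (pieces F5 and F7 of the lead's plan, note 916).

Setting: `P D : Subgroup G`, `x : G` normalizing `P`, all commutators of `P` lie in `D`, `D` is
central in `P`, and `P` is generated by the commutators `x u x⁻¹ u⁻¹` (`u ∈ P`).

* `f5_sq_mem`: if `x` commutes with every square of `P`, then every square of `P` lies in `D`.
* `f7_fixed_mem`: if `x ^ 3 = 1`, then every `u ∈ P` commuting with `x` and with `u * u ∈ D` lies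
  in `D`.
-/

set_option autoImplicit false
set_option linter.style.haveILetI false

namespace Cfsg.Agent.helper20.S3739F

section typelevel

variable {P : Type*} [Group P] (D : Subgroup P) [D.Normal]

theorem quot_comm (hcomm : ∀ u v : P, u * v * u⁻¹ * v⁻¹ ∈ D) (a b : P ⧸ D) : a * b = b * a := by
  induction a using QuotientGroup.induction_on with
  | H u =>
    induction b using QuotientGroup.induction_on with
    | H v =>
      rw [← QuotientGroup.mk_mul, ← QuotientGroup.mk_mul, QuotientGroup.eq]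
      have h := hcomm v⁻¹ u⁻¹
      simpa [mul_assoc] using h

theorem rearr3 {M : Type*} [Monoid M] (h : ∀ a b : M, a * b = b * a) (a a' b b' c c' : M) :
    (a * a') * (b * b') * (c * c') = (a * b * c) * (a' * b' * c') := by
  calc (a * a') * (b * b') * (c * c')
      = a * (a' * b) * b' * (c * c') := by simp only [mul_assoc]
    _ = a * (b * a') * b' * (c * c') := by rw [h a' b]
    _ = a * b * ((a' * b') * c) * c' := by simp only [mul_assoc]
    _ = a * b * (c * (a' * b')) * c' := by rw [h (a' * b') c]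
    _ = (a * b * c) * (a' * b' * c') := by simp only [mul_assoc]

/-- The "norm" `u ↦ u · ξ u · ξ² u` modulo `D`, a homomorphism because `P ⧸ D` is commutative. -/
noncomputable def normHom (hcomm : ∀ u v : P, u * v * u⁻¹ * v⁻¹ ∈ D) (ξ : P →* P) : P →* P ⧸ D :=
  MonoidHom.mk' (fun u => (QuotientGroup.mk u : P ⧸ D) * QuotientGroup.mk (ξ u) *
      QuotientGroup.mk (ξ (ξ u))) (by
    intro u v
    simp only [map_mul, QuotientGroup.mk_mul]
    exact rearr3 (quot_comm D hcomm) _ _ _ _ _ _)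

theorem normHom_apply (hcomm : ∀ u v : P, u * v * u⁻¹ * v⁻¹ ∈ D) (ξ : P →* P) (u : P) :
    normHom D hcomm ξ u = (QuotientGroup.mk u : P ⧸ D) * QuotientGroup.mk (ξ u) *
      QuotientGroup.mk (ξ (ξ u)) := rfl

theorem normHom_xi (hcomm : ∀ u v : P, u * v * u⁻¹ * v⁻¹ ∈ D) (ξ : P →* P)
    (hξ3 : ∀ u, ξ (ξ (ξ u)) = u) (u : P) : normHom D hcomm ξ (ξ u) = normHom D hcomm ξ u := by
  rw [normHom_apply, normHom_apply, hξ3]
  have h := quot_comm D hcomm
  rw [h (QuotientGroup.mk (ξ u) * QuotientGroup.mk (ξ (ξ u))) (QuotientGroup.mk u), mul_assoc]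

/-- Squaring modulo `D`, a homomorphism because `P ⧸ D` is commutative. -/
noncomputable def sqHom (hcomm : ∀ u v : P, u * v * u⁻¹ * v⁻¹ ∈ D) : P →* P ⧸ D :=
  MonoidHom.mk' (fun u => (QuotientGroup.mk u : P ⧸ D) * QuotientGroup.mk u) (by
    intro u v
    simp only [QuotientGroup.mk_mul]
    have h := quot_comm D hcomm
    calc (QuotientGroup.mk u : P ⧸ D) * QuotientGroup.mk v * (QuotientGroup.mk u * QuotientGroup.mk v)
        = QuotientGroup.mk u * (QuotientGroup.mk v * QuotientGroup.mk u) * QuotientGroup.mk v := by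
          simp only [mul_assoc]
      _ = QuotientGroup.mk u * (QuotientGroup.mk u * QuotientGroup.mk v) * QuotientGroup.mk v := by
          rw [h (QuotientGroup.mk v) (QuotientGroup.mk u)]
      _ = _ := by simp only [mul_assoc])

theorem sqHom_apply (hcomm : ∀ u v : P, u * v * u⁻¹ * v⁻¹ ∈ D) (u : P) :
    sqHom D hcomm u = (QuotientGroup.mk (u * u) : P ⧸ D) := rfl

end typelevel

section grouplevel

variable {G : Type*} [Group G]

/-- conjugation by `x` as an endomorphism of `↥P`. -/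
def conjHom (P : Subgroup G) (x : G) (hxP : ∀ u ∈ P, x * u * x⁻¹ ∈ P) : ↥P →* ↥P :=
  MonoidHom.mk' (fun u => ⟨x * u * x⁻¹, hxP u u.2⟩) (by
    intro a b
    apply Subtype.ext
    simp [mul_assoc])

theorem conjHom_coe (P : Subgroup G) (x : G) (hxP : ∀ u ∈ P, x * u * x⁻¹ ∈ P) (u : ↥P) :
    ((conjHom P x hxP u : ↥P) : G) = x * u * x⁻¹ := rfl

theorem subgroupOf_normal_of_central (P D : Subgroup G)
    (hDc : ∀ c ∈ D, ∀ u ∈ P, c * u = u * c) : (D.subgroupOf P).Normal := by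
  constructor
  intro c hc u
  rw [Subgroup.mem_subgroupOf] at hc ⊢
  have h := hDc c hc u u.2
  have : ((u * c * u⁻¹ : ↥P) : G) = c := by
    push_cast
    rw [← h, mul_inv_cancel_right]
  rw [this]; exact hc

theorem comm_subgroupOf (P D : Subgroup G)
    (hcomm : ∀ u ∈ P, ∀ v ∈ P, u * v * u⁻¹ * v⁻¹ ∈ D) (u v : ↥P) :
    u * v * u⁻¹ * v⁻¹ ∈ D.subgroupOf P := by
  rw [Subgroup.mem_subgroupOf]
  push_cast
  exact hcomm u u.2 v v.2

/-- A homomorphism from `↥P` that kills all `x u x⁻¹ u⁻¹` kills `P`, when these generate `P`. -/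
theorem hom_trivial_of_gen {H : Type*} [Group H] (P : Subgroup G) (x : G)
    (hxP : ∀ u ∈ P, x * u * x⁻¹ ∈ P)
    (hgen : P ≤ Subgroup.closure {c : G | ∃ u ∈ P, c = x * u * x⁻¹ * u⁻¹})
    (f : ↥P →* H) (hf : ∀ u : ↥P, f (conjHom P x hxP u) = f u) (u : ↥P) : f u = 1 := by
  have key : ∀ g ∈ Subgroup.closure {c : G | ∃ u ∈ P, c = x * u * x⁻¹ * u⁻¹},
      ∃ h : g ∈ P, f ⟨g, h⟩ = 1 := by
    intro g hg
    induction hg using Subgroup.closure_induction with
    | mem c hc =>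
      obtain ⟨v, hv, rfl⟩ := hc
      refine ⟨P.mul_mem (hxP v hv) (P.inv_mem hv), ?_⟩
      have : (⟨x * v * x⁻¹ * v⁻¹, P.mul_mem (hxP v hv) (P.inv_mem hv)⟩ : ↥P)
          = conjHom P x hxP ⟨v, hv⟩ * (⟨v, hv⟩ : ↥P)⁻¹ := by
        apply Subtype.ext
        simp [conjHom_coe]
      rw [this, map_mul, map_inv, hf, mul_inv_cancel]
    | one => exact ⟨P.one_mem, by
        have : (⟨1, P.one_mem⟩ : ↥P) = 1 := rfl
        rw [this, map_one]⟩
    | mul a b _ _ iha ihb =>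
      obtain ⟨ha, ha1⟩ := iha
      obtain ⟨hb, hb1⟩ := ihb
      refine ⟨P.mul_mem ha hb, ?_⟩
      have : (⟨a * b, P.mul_mem ha hb⟩ : ↥P) = ⟨a, ha⟩ * ⟨b, hb⟩ := rfl
      rw [this, map_mul, ha1, hb1, one_mul]
    | inv a _ iha =>
      obtain ⟨ha, ha1⟩ := iha
      refine ⟨P.inv_mem ha, ?_⟩
      have : (⟨a⁻¹, P.inv_mem ha⟩ : ↥P) = (⟨a, ha⟩ : ↥P)⁻¹ := rfl
      rw [this, map_inv, ha1, inv_one]
  obtain ⟨h, h1⟩ := key u (hgen u.2)
  exact h1

/-- **F7.** `P` generated by the `x u x⁻¹ u⁻¹`, `P/D` abelian, `D` central in `P`, `x ^ 3 = 1`: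
an element of `P` that commutes with `x` and whose square lies in `D` lies in `D`. -/
theorem f7_fixed_mem (P D : Subgroup G) (x : G) (hx3 : x ^ 3 = 1)
    (hxP : ∀ u ∈ P, x * u * x⁻¹ ∈ P)
    (hcomm : ∀ u ∈ P, ∀ v ∈ P, u * v * u⁻¹ * v⁻¹ ∈ D)
    (hDc : ∀ c ∈ D, ∀ u ∈ P, c * u = u * c)
    (hgen : P ≤ Subgroup.closure {c : G | ∃ u ∈ P, c = x * u * x⁻¹ * u⁻¹}) :
    ∀ u ∈ P, x * u = u * x → u * u ∈ D → u ∈ D := by
  intro u hu hxu hsq
  haveI : (D.subgroupOf P).Normal := subgroupOf_normal_of_central P D hDc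
  have hc := comm_subgroupOf P D hcomm
  set ξ := conjHom P x hxP with hξ
  have hξ3 : ∀ v : ↥P, ξ (ξ (ξ v)) = v := by
    intro v
    apply Subtype.ext
    simp only [hξ, conjHom_coe]
    have hx3' : x * x * x = 1 := by rw [← hx3, pow_succ, pow_two]
    have hxinv : x⁻¹ * x⁻¹ * x⁻¹ = 1 := by
      rw [← mul_inv_rev, ← mul_inv_rev, ← mul_assoc, hx3', inv_one]
    calc x * (x * (x * ↑v * x⁻¹) * x⁻¹) * x⁻¹ = (x * x * x) * ↑v * (x⁻¹ * x⁻¹ * x⁻¹) := by
          simp only [mul_assoc]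
      _ = ↑v := by rw [hx3', hxinv, one_mul, mul_one]
  have h1 := hom_trivial_of_gen P x hxP hgen (normHom (D.subgroupOf P) hc ξ)
    (fun v => normHom_xi (D.subgroupOf P) hc ξ hξ3 v) ⟨u, hu⟩
  have hfix : ξ ⟨u, hu⟩ = ⟨u, hu⟩ := by
    apply Subtype.ext
    simp only [hξ, conjHom_coe]
    rw [hxu, mul_inv_cancel_right]
  rw [normHom_apply, hfix, hfix, ← QuotientGroup.mk_mul, ← QuotientGroup.mk_mul,
    QuotientGroup.eq_one_iff, Subgroup.mem_subgroupOf] at h1
  have h3 : u * u * u ∈ D := by simpa using h1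
  have : u = (u * u * u) * (u * u)⁻¹ := by group
  rw [this]
  exact D.mul_mem h3 (D.inv_mem hsq)

/-- **F5.** `P` generated by the `x u x⁻¹ u⁻¹`, `P/D` abelian, `D` central in `P`, and `x` commuting
with every square of `P`: every square of `P` lies in `D`. -/
theorem f5_sq_mem (P D : Subgroup G) (x : G)
    (hxP : ∀ u ∈ P, x * u * x⁻¹ ∈ P)
    (hcomm : ∀ u ∈ P, ∀ v ∈ P, u * v * u⁻¹ * v⁻¹ ∈ D)
    (hDc : ∀ c ∈ D, ∀ u ∈ P, c * u = u * c)
    (hxsq : ∀ u ∈ P, x * (u * u) = (u * u) * x)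
    (hgen : P ≤ Subgroup.closure {c : G | ∃ u ∈ P, c = x * u * x⁻¹ * u⁻¹}) :
    ∀ u ∈ P, u * u ∈ D := by
  intro u hu
  haveI : (D.subgroupOf P).Normal := subgroupOf_normal_of_central P D hDc
  have hc := comm_subgroupOf P D hcomm
  have h1 := hom_trivial_of_gen P x hxP hgen (sqHom (D.subgroupOf P) hc) (by
    intro v
    rw [sqHom_apply, sqHom_apply]
    congr 1
    apply Subtype.ext
    push_cast
    simp only [conjHom_coe]
    have h := hxsq v v.2
    calc x * ↑v * x⁻¹ * (x * ↑v * x⁻¹) = x * (↑v * ↑v) * x⁻¹ := by group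
      _ = ↑v * ↑v := by rw [h, mul_inv_cancel_right]) ⟨u, hu⟩
  rw [sqHom_apply, QuotientGroup.eq_one_iff, Subgroup.mem_subgroupOf] at h1
  simpa using h1

end grouplevel

end Cfsg.Agent.helper20.S3739F
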