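import Mathlib
import Cfsg.Agent.Lib_helper20_S3739F

/-!
Piece D1 of the S3739 plan (note 916), as a fallback / cross-check for the owner's own version:
a minimal `x,d`-invariant subgroup `P` of a 2-group `Q` not centralized by the element `x` of order 3
has class at most 2 with `D = ⁅P, P⁆` elementary, central, centralized by `x`, containing all
squares of `P` and all fixed points of `x` on `P`.
-/

set_option autoImplicit false
set_option linter.style.haveILetI false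
set_option linter.unusedVariables false

namespace Cfsg.Agent.helper20.S3739D

open Cfsg.Agent.helper20.S3739F
open scoped commutatorElement

variable {G : Type*} [Group G]

/-- conjugation-invariance passes from generators to the closure -/
theorem conj_mem_closure (S : Set G) (g : G)
    (h : ∀ s ∈ S, g * s * g⁻¹ ∈ Subgroup.closure S) :
    ∀ k ∈ Subgroup.closure S, g * k * g⁻¹ ∈ Subgroup.closure S := by
  intro k hk
  induction hk using Subgroup.closure_induction with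
  | mem s hs => exact h s hs
  | one => simp
  | mul a b _ _ iha ihb =>
    have : g * (a * b) * g⁻¹ = (g * a * g⁻¹) * (g * b * g⁻¹) := by group
    rw [this]; exact Subgroup.mul_mem _ iha ihb
  | inv a _ iha =>
    have : g * a⁻¹ * g⁻¹ = (g * a * g⁻¹)⁻¹ := by group
    rw [this]; exact Subgroup.inv_mem _ iha

/-- `K` is invariant under conjugation by `x` and by `d`. -/
def Inv2 (x d : G) (K : Subgroup G) : Prop :=
  (∀ u ∈ K, x * u * x⁻¹ ∈ K) ∧ (∀ u ∈ K, d * u * d⁻¹ ∈ K)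

theorem exists_min [Finite G] (Q : Subgroup G) (x d : G) (hQ : Inv2 x d Q)
    (hnt : ∃ q ∈ Q, x * q ≠ q * x) :
    ∃ P : Subgroup G, P ≤ Q ∧ Inv2 x d P ∧ (∃ u ∈ P, x * u ≠ u * x) ∧
      ∀ K : Subgroup G, K ≤ P → Inv2 x d K → K ≠ P → ∀ u ∈ K, x * u = u * x := by
  classical
  have hex : ∃ n : ℕ, ∃ P : Subgroup G, P ≤ Q ∧ Inv2 x d P ∧ (∃ u ∈ P, x * u ≠ u * x) ∧
      Nat.card P = n := ⟨_, Q, le_refl _, hQ, hnt, rfl⟩
  obtain ⟨P, hPQ, hPinv, hPnt, hPcard⟩ := Nat.find_spec hex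
  refine ⟨P, hPQ, hPinv, hPnt, ?_⟩
  intro K hKP hKinv hKne
  by_contra hcon
  push Not at hcon
  have hle : Nat.find hex ≤ Nat.card K :=
    Nat.find_min' hex ⟨K, hKP.trans hPQ, hKinv, hcon, rfl⟩
  rw [← hPcard] at hle
  exact hKne (Subgroup.eq_of_le_of_card_ge hKP hle)

/-- a nontrivial finite 2-subgroup has a proper subgroup containing all squares and commutators -/
theorem exists_index_two [Finite G] (P : Subgroup G) (hP : IsPGroup 2 P) (hne : ∃ u ∈ P, u ≠ 1) :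
    ∃ N : Subgroup G, N ≤ P ∧ N ≠ P ∧ (∀ u ∈ P, u * u ∈ N) ∧
      (∀ u ∈ P, ∀ v ∈ P, u * v * u⁻¹ * v⁻¹ ∈ N) := by
  haveI : Fact (Nat.Prime 2) := ⟨Nat.prime_two⟩
  obtain ⟨n, hn⟩ := IsPGroup.iff_card.mp hP
  have hn0 : n ≠ 0 := by
    rintro rfl
    rw [pow_zero] at hn
    obtain ⟨u, hu, hu1⟩ := hne
    haveI : Subsingleton ↥P := (Nat.card_eq_one_iff_unique.mp hn).1
    apply hu1
    have : (⟨u, hu⟩ : ↥P) = 1 := Subsingleton.elim _ _
    exact congrArg Subtype.val this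
  obtain ⟨m, rfl⟩ := Nat.exists_eq_succ_of_ne_zero hn0
  obtain ⟨N₀, hN₀⟩ := Sylow.exists_subgroup_card_pow_prime 2 (n := m)
    (show 2 ^ m ∣ Nat.card ↥P by rw [hn, pow_succ]; exact Dvd.intro _ rfl)
  have h2 : N₀.index = 2 := by
    have h := Subgroup.card_mul_index N₀
    rw [hN₀, hn, pow_succ] at h
    exact Nat.eq_of_mul_eq_mul_left (by positivity) h
  refine ⟨N₀.map P.subtype, Subgroup.map_subtype_le N₀, ?_, ?_, ?_⟩
  · intro hEq
    have htop : N₀ = ⊤ := by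
      rw [eq_top_iff]
      intro a _
      have ha : (a : G) ∈ N₀.map P.subtype := by rw [hEq]; exact a.2
      obtain ⟨b, hb, hba⟩ := Subgroup.mem_map.mp ha
      have : b = a := Subtype.ext hba
      rw [← this]; exact hb
    rw [htop, Subgroup.index_top] at h2
    omega
  · intro u hu
    exact Subgroup.mem_map.mpr ⟨⟨u, hu⟩ * ⟨u, hu⟩, Subgroup.mul_self_mem_of_index_two h2 _, rfl⟩
  · intro u hu v hv
    refine Subgroup.mem_map.mpr ⟨(⟨u, hu⟩ * ⟨v, hv⟩) * ((⟨u, hu⟩ : ↥P)⁻¹ * (⟨v, hv⟩ : ↥P)⁻¹), ?_, ?_⟩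
    · rw [Subgroup.mul_mem_iff_of_index_two h2, Subgroup.mul_mem_iff_of_index_two h2,
        Subgroup.mul_mem_iff_of_index_two h2, inv_mem_iff, inv_mem_iff]
    · simp [mul_assoc]

theorem d1 [Finite G] (Q : Subgroup G) (hQ2 : IsPGroup 2 Q) (x d : G) (hx : orderOf x = 3)
    (hxd : x * d = d * x) (hxQ : ∀ q ∈ Q, x * q * x⁻¹ ∈ Q) (hdQ : ∀ q ∈ Q, d * q * d⁻¹ ∈ Q)
    (hnt : ∃ q ∈ Q, x * q ≠ q * x) :
    ∃ P D : Subgroup G, P ≤ Q ∧ D ≤ P ∧ (∀ u ∈ P, x * u * x⁻¹ ∈ P) ∧ (∀ u ∈ P, d * u * d⁻¹ ∈ P) ∧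
      (∀ c ∈ D, d * c * d⁻¹ ∈ D) ∧ (∃ u ∈ P, x * u ≠ u * x) ∧
      (∀ u ∈ P, ∀ v ∈ P, u * v * u⁻¹ * v⁻¹ ∈ D) ∧ (∀ c ∈ D, ∀ u ∈ P, c * u = u * c) ∧
      (∀ u ∈ P, u * u ∈ D) ∧ (∀ c ∈ D, c * c = 1) ∧ (∀ c ∈ D, x * c = c * x) ∧
      (∀ u ∈ P, x * u = u * x → u ∈ D) := by
  haveI : Fact (Nat.Prime 2) := ⟨Nat.prime_two⟩
  have hx3 : x ^ 3 = 1 := by rw [← hx]; exact pow_orderOf_eq_one x
  have hx3' : x * x * x = 1 := by rw [← hx3, pow_succ, pow_two]
  have hxinv : x⁻¹ * x⁻¹ * x⁻¹ = 1 := by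
    rw [← mul_inv_rev, ← mul_inv_rev, ← mul_assoc, hx3', inv_one]
  obtain ⟨P, hPQ, ⟨hxP, hdP⟩, hPnt, hmin⟩ := exists_min Q x d ⟨hxQ, hdQ⟩ hnt
  have hP2 : IsPGroup 2 P := hQ2.to_le hPQ
  -- F1: K = [P, x]
  set S : Set G := {c : G | ∃ u ∈ P, c = x * u * x⁻¹ * u⁻¹} with hS
  have hSP : ∀ s ∈ S, s ∈ P := by
    rintro s ⟨u, hu, rfl⟩
    exact P.mul_mem (hxP u hu) (P.inv_mem hu)
  have hKP : Subgroup.closure S ≤ P := (Subgroup.closure_le P).mpr hSP
  have hKx : ∀ k ∈ Subgroup.closure S, x * k * x⁻¹ ∈ Subgroup.closure S := by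
    apply conj_mem_closure
    rintro s ⟨u, hu, rfl⟩
    exact Subgroup.subset_closure ⟨x * u * x⁻¹, hxP u hu, by group⟩
  have hdx : d * x * d⁻¹ = x := by rw [← hxd, mul_inv_cancel_right]
  have hKd : ∀ k ∈ Subgroup.closure S, d * k * d⁻¹ ∈ Subgroup.closure S := by
    apply conj_mem_closure
    rintro s ⟨u, hu, rfl⟩
    refine Subgroup.subset_closure ⟨d * u * d⁻¹, hdP u hu, ?_⟩
    calc d * (x * u * x⁻¹ * u⁻¹) * d⁻¹
        = (d * x * d⁻¹) * (d * u * d⁻¹) * (d * x * d⁻¹)⁻¹ * (d * u * d⁻¹)⁻¹ := by group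
      _ = x * (d * u * d⁻¹) * x⁻¹ * (d * u * d⁻¹)⁻¹ := by rw [hdx]
  -- F2
  have hKnot : ¬ ∀ k ∈ Subgroup.closure S, x * k = k * x := by
    intro hcen
    obtain ⟨u, hu, hxu⟩ := hPnt
    apply hxu
    set c := x * u * x⁻¹ * u⁻¹ with hc
    have hcK : c ∈ Subgroup.closure S := Subgroup.subset_closure ⟨u, hu, rfl⟩
    have hcx : x * c * x⁻¹ = c := by rw [hcen c hcK, mul_inv_cancel_right]
    have h1 : x * u * x⁻¹ = c * u := by rw [hc]; group
    have h2 : x * (c * u) * x⁻¹ = c * (c * u) := by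
      calc x * (c * u) * x⁻¹ = (x * c * x⁻¹) * (x * u * x⁻¹) := by group
        _ = c * (c * u) := by rw [hcx, h1]
    have h3 : x * (c * (c * u)) * x⁻¹ = c * (c * (c * u)) := by
      calc x * (c * (c * u)) * x⁻¹ = (x * c * x⁻¹) * (x * (c * u) * x⁻¹) := by group
        _ = c * (c * (c * u)) := by rw [hcx, h2]
    have h4 : x * (x * (x * u * x⁻¹) * x⁻¹) * x⁻¹ = u := by
      calc x * (x * (x * u * x⁻¹) * x⁻¹) * x⁻¹ = (x * x * x) * u * (x⁻¹ * x⁻¹ * x⁻¹) := by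
            simp only [mul_assoc]
        _ = u := by rw [hx3', hxinv, one_mul, mul_one]
    rw [h1, h2, h3] at h4
    have hc3 : c ^ 3 = 1 := by
      have : c * (c * (c * u)) = c ^ 3 * u := by rw [pow_succ, pow_two]; simp only [mul_assoc]
      rw [this] at h4
      exact mul_eq_right.mp h4
    have hcQ : c ∈ Q := hPQ (hKP hcK)
    obtain ⟨k, hk⟩ := hQ2 ⟨c, hcQ⟩
    have hk' : c ^ (2 ^ k) = 1 := by
      have := congrArg Subtype.val hk
      simpa using this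
    have hd1 : orderOf c ∣ 3 := orderOf_dvd_of_pow_eq_one hc3
    have hd2 : orderOf c ∣ 2 ^ k := orderOf_dvd_of_pow_eq_one hk'
    have hcop : Nat.Coprime (2 ^ k) 3 := Nat.Coprime.pow_left k (by norm_num)
    have hone : orderOf c = 1 := Nat.eq_one_of_dvd_coprimes hcop hd2 hd1
    have hc1 : c = 1 := orderOf_eq_one_iff.mp hone
    have : x * u * x⁻¹ = u := by rw [h1, hc1, one_mul]
    calc x * u = x * u * x⁻¹ * x := by group
      _ = u * x := by rw [this]
  have hKeq : Subgroup.closure S = P := by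
    by_contra hne
    exact hKnot (hmin _ hKP ⟨hKx, hKd⟩ hne)
  have hgen : P ≤ Subgroup.closure S := hKeq.ge
  -- index two subgroup
  have hPne : ∃ u ∈ P, u ≠ 1 := by
    obtain ⟨u, hu, hxu⟩ := hPnt
    refine ⟨u, hu, ?_⟩
    rintro rfl
    exact hxu (by rw [mul_one, one_mul])
  obtain ⟨N, hNP, hNne, hNsq, hNcomm⟩ := exists_index_two P hP2 hPne
  -- F3: D
  set D : Subgroup G := ⁅P, P⁆ with hD
  have hDP : D ≤ P := by
    rw [hD, Subgroup.commutator_le]
    intro a ha b hb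
    rw [commutatorElement_def]
    exact P.mul_mem (P.mul_mem (P.mul_mem ha hb) (P.inv_mem ha)) (P.inv_mem hb)
  have hcommD : ∀ u ∈ P, ∀ v ∈ P, u * v * u⁻¹ * v⁻¹ ∈ D := by
    intro u hu v hv
    have := Subgroup.commutator_mem_commutator hu hv
    rwa [commutatorElement_def] at this
  have hDN : D ≤ N := by
    rw [hD, Subgroup.commutator_le]
    intro a ha b hb
    rw [commutatorElement_def]
    exact hNcomm a ha b hb
  have hDne : D ≠ P := by
    intro hEq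
    apply hNne
    exact le_antisymm hNP (by rw [← hEq]; exact hDN)
  have hDconj : ∀ g : G, (∀ u ∈ P, g * u * g⁻¹ ∈ P) → ∀ c ∈ D, g * c * g⁻¹ ∈ D := by
    intro g hg
    rw [hD, Subgroup.commutator_def]
    apply conj_mem_closure
    rintro s ⟨a, ha, b, hb, rfl⟩
    rw [← Subgroup.commutator_def]
    have h := Subgroup.commutator_mem_commutator (hg a ha) (hg b hb)
    have : g * ⁅a, b⁆ * g⁻¹ = ⁅g * a * g⁻¹, g * b * g⁻¹⁆ := by
      simp only [commutatorElement_def]; group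
    rw [this]; exact h
  have hDx := hDconj x hxP
  have hDd := hDconj d hdP
  have hxD : ∀ c ∈ D, x * c = c * x := hmin D hDP ⟨hDx, hDd⟩ hDne
  -- F4: D central in P
  have hDc : ∀ c ∈ D, ∀ u ∈ P, c * u = u * c := by
    set X : Subgroup G := Subgroup.zpowers x with hX
    have hDX : ⁅D, X⁆ = ⊥ := by
      rw [Subgroup.commutator_eq_bot_iff_le_centralizer]
      intro c hc
      rw [Subgroup.mem_centralizer_iff]
      intro y hy
      obtain ⟨k, rfl⟩ := Subgroup.mem_zpowers_iff.mp hy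
      exact ((show Commute x c from hxD c hc).zpow_left k).eq
    have hPD : ⁅P, D⁆ ≤ D := by
      rw [Subgroup.commutator_le]
      intro a ha b hb
      exact Subgroup.commutator_mem_commutator ha (hDP hb)
    have h1 : ⁅⁅P, D⁆, X⁆ = ⊥ := by
      rw [← le_bot_iff, ← hDX]
      exact Subgroup.commutator_mono hPD (le_refl _)
    have h2 : ⁅⁅D, X⁆, P⁆ = ⊥ := by rw [hDX, Subgroup.commutator_bot_left]
    have h3 : ⁅⁅X, P⁆, D⁆ = ⊥ := Subgroup.commutator_commutator_eq_bot_of_rotate h1 h2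
    have hPXP : P ≤ ⁅X, P⁆ := by
      refine hgen.trans ((Subgroup.closure_le _).mpr ?_)
      rintro s ⟨u, hu, rfl⟩
      have := Subgroup.commutator_mem_commutator (Subgroup.mem_zpowers x) hu
      rwa [commutatorElement_def] at this
    have h4 : ⁅P, D⁆ = ⊥ := by
      rw [← le_bot_iff, ← h3]
      exact Subgroup.commutator_mono hPXP (le_refl _)
    rw [Subgroup.commutator_eq_bot_iff_le_centralizer] at h4
    intro c hc u hu
    exact (Subgroup.mem_centralizer_iff.mp (h4 hu)) c hc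
  -- F5: squares
  set T : Set G := (D : Set G) ∪ {s : G | ∃ u ∈ P, s = u * u} with hT
  have hTN : Subgroup.closure T ≤ N := by
    rw [Subgroup.closure_le]
    rintro s (hs | ⟨u, hu, rfl⟩)
    · exact hDN hs
    · exact hNsq u hu
  have hTconj : ∀ g : G, (∀ u ∈ P, g * u * g⁻¹ ∈ P) → (∀ c ∈ D, g * c * g⁻¹ ∈ D) →
      ∀ k ∈ Subgroup.closure T, g * k * g⁻¹ ∈ Subgroup.closure T := by
    intro g hgP hgD
    apply conj_mem_closure
    rintro s (hs | ⟨u, hu, rfl⟩)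
    · exact Subgroup.subset_closure (Or.inl (hgD s hs))
    · exact Subgroup.subset_closure (Or.inr ⟨g * u * g⁻¹, hgP u hu, by group⟩)
  have hTne : Subgroup.closure T ≠ P := by
    intro hEq
    apply hNne
    exact le_antisymm hNP (by rw [← hEq]; exact hTN)
  have hxT : ∀ k ∈ Subgroup.closure T, x * k = k * x :=
    hmin _ (hTN.trans hNP) ⟨hTconj x hxP hDx, hTconj d hdP hDd⟩ hTne
  have hxsq : ∀ u ∈ P, x * (u * u) = (u * u) * x := fun u hu =>
    hxT _ (Subgroup.subset_closure (Or.inr ⟨u, hu, rfl⟩))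
  have hsq : ∀ u ∈ P, u * u ∈ D := f5_sq_mem P D x hxP hcommD hDc hxsq hgen
  -- F6: D elementary
  have hD2 : ∀ c ∈ D, c * c = 1 := by
    intro c hc
    have hgenD : ∀ s ∈ {g : G | ∃ a ∈ P, ∃ b ∈ P, ⁅a, b⁆ = g}, s ∈ D ∧ s * s = 1 := by
      rintro s ⟨u, hu, v, hv, rfl⟩
      rw [commutatorElement_def]
      refine ⟨hcommD u hu v hv, ?_⟩
      set k := u * v * u⁻¹ * v⁻¹ with hk
      have hkD : k ∈ D := hcommD u hu v hv
      have hku : k * u = u * k := hDc k hkD u hu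
      have huu : (u * u) * v = v * (u * u) := hDc (u * u) (hsq u hu) v hv
      have e1 : u * u * v * u⁻¹ * u⁻¹ * v⁻¹ = 1 := by
        rw [huu]; group
      have e2 : u * u * v * u⁻¹ * u⁻¹ * v⁻¹ = k * k := by
        have : u * v * u⁻¹ = k * v := by rw [hk]; group
        calc u * u * v * u⁻¹ * u⁻¹ * v⁻¹ = u * (u * v * u⁻¹) * u⁻¹ * v⁻¹ := by group
          _ = u * (k * v) * u⁻¹ * v⁻¹ := by rw [this]
          _ = (u * k) * v * u⁻¹ * v⁻¹ := by simp only [mul_assoc]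
          _ = (k * u) * v * u⁻¹ * v⁻¹ := by rw [hku]
          _ = k * (u * v * u⁻¹ * v⁻¹) := by simp only [mul_assoc]
          _ = k * k := by rw [← hk]
      rw [← e2, e1]
    have key : ∀ g ∈ Subgroup.closure {g : G | ∃ a ∈ P, ∃ b ∈ P, ⁅a, b⁆ = g}, g ∈ D ∧ g * g = 1 := by
      intro g hg
      induction hg using Subgroup.closure_induction with
      | mem s hs => exact hgenD s hs
      | one => exact ⟨D.one_mem, by simp⟩
      | mul a b _ _ iha ihb =>
        refine ⟨D.mul_mem iha.1 ihb.1, ?_⟩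
        have hab : b * a = a * b := hDc b ihb.1 a (hDP iha.1)
        calc a * b * (a * b) = a * (b * a) * b := by simp only [mul_assoc]
          _ = a * (a * b) * b := by rw [hab]
          _ = (a * a) * (b * b) := by simp only [mul_assoc]
          _ = 1 := by rw [iha.2, ihb.2, one_mul]
      | inv a _ iha =>
        refine ⟨D.inv_mem iha.1, ?_⟩
        rw [← mul_inv_rev, iha.2, inv_one]
    have hc' : c ∈ Subgroup.closure {g : G | ∃ a ∈ P, ∃ b ∈ P, ⁅a, b⁆ = g} := by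
      rw [← Subgroup.commutator_def]; exact hc
    exact (key c hc').2
  -- F7
  have hfix : ∀ u ∈ P, x * u = u * x → u ∈ D := fun u hu hxu =>
    f7_fixed_mem P D x hx3 hxP hcommD hDc hgen u hu hxu (hsq u hu)
  exact ⟨P, D, hPQ, hDP, hxP, hdP, hDd, hPnt, hcommD, hDc, hsq, hD2, hxD, hfix⟩

end Cfsg.Agent.helper20.S3739D
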