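import Mathlib
import Cfsg.Agent.Lib_helper20_S3739F

/-!
Bridge for S3739: from subgroup-level data `(P W : Subgroup G) (x d : G)` to the type-level
hypotheses of `Cfsg.Agent.helper16.Aniso.card_eq_four` (note 910), applied to the type `↥P` with
`Z := W.subgroupOf P` and `δ, ξ :=` conjugation by `d`, `x` restricted to `P`.
-/

set_option autoImplicit false
set_option linter.style.haveILetI false

namespace Cfsg.Agent.helper20.S3739H

open Cfsg.Agent.helper20.S3739F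

variable {G : Type*} [Group G]

theorem conjHom_injective (P : Subgroup G) (g : G) (hgP : ∀ u ∈ P, g * u * g⁻¹ ∈ P) :
    Function.Injective (conjHom P g hgP) := by
  intro a b hab
  have h := congrArg (fun t : ↥P => (t : G)) hab
  simp only [conjHom_coe] at h
  apply Subtype.ext
  have h2 : g * ↑a = g * ↑b := mul_right_cancel h
  exact mul_left_cancel h2

/-- conjugation by `g` as an automorphism of `↥P` (`P` finite). -/
noncomputable def conjEquiv [Finite G] (P : Subgroup G) (g : G) (hgP : ∀ u ∈ P, g * u * g⁻¹ ∈ P) :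
    ↥P ≃* ↥P :=
  MulEquiv.ofBijective (conjHom P g hgP)
    ⟨conjHom_injective P g hgP, Finite.injective_iff_surjective.mp (conjHom_injective P g hgP)⟩

theorem conjEquiv_coe [Finite G] (P : Subgroup G) (g : G) (hgP : ∀ u ∈ P, g * u * g⁻¹ ∈ P)
    (u : ↥P) : ((conjEquiv P g hgP u : ↥P) : G) = g * u * g⁻¹ := rfl

/-- All hypotheses of `helper16.Aniso.card_eq_four` for `↥P`, `Z := W.subgroupOf P`. -/
theorem aniso_hyps [Finite G] (P W : Subgroup G) (x d : G)
    (hWP : W ≤ P) (hW4 : Nat.card W = 4) (hW2 : ∀ w ∈ W, w * w = 1)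
    (hWc : ∀ w ∈ W, ∀ u ∈ P, w * u = u * w)
    (hsq : ∀ u ∈ P, u * u ∈ W) (han : ∀ u ∈ P, u * u = 1 → u ∈ W)
    (hxP : ∀ u ∈ P, x * u * x⁻¹ ∈ P) (hdP : ∀ u ∈ P, d * u * d⁻¹ ∈ P)
    (hdW : ∀ w ∈ W, d * w * d⁻¹ ∈ W) (hdfpf : ∀ w ∈ W, w ≠ 1 → d * w * d⁻¹ ≠ w)
    (hx3 : x ^ 3 = 1) (hxW : ∀ w ∈ W, x * w = w * x)
    (hxfix : ∀ u ∈ P, x * u = u * x → u ∈ W) :
    ∃ (δ ξ : ↥P ≃* ↥P),
      (∀ u : ↥P, ((δ u : ↥P) : G) = d * u * d⁻¹) ∧ (∀ u : ↥P, ((ξ u : ↥P) : G) = x * u * x⁻¹) ∧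
      W.subgroupOf P ≤ Subgroup.center ↥P ∧ Nat.card ↥(W.subgroupOf P) = 4 ∧
      (∀ z ∈ W.subgroupOf P, z * z = 1) ∧ (∀ u : ↥P, u * u ∈ W.subgroupOf P) ∧
      (∀ u : ↥P, u * u = 1 → u ∈ W.subgroupOf P) ∧
      (∀ z ∈ W.subgroupOf P, δ z ∈ W.subgroupOf P) ∧
      (∀ z ∈ W.subgroupOf P, z ≠ 1 → δ z ≠ z) ∧
      (∀ u : ↥P, ξ (ξ (ξ u)) = u) ∧ (∀ z ∈ W.subgroupOf P, ξ z = z) ∧
      (∀ u : ↥P, ξ u = u → u ∈ W.subgroupOf P) := by
  refine ⟨conjEquiv P d hdP, conjEquiv P x hxP, fun u => rfl, fun u => rfl, ?_, ?_, ?_, ?_, ?_,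
    ?_, ?_, ?_, ?_, ?_⟩
  · intro z hz
    rw [Subgroup.mem_subgroupOf] at hz
    rw [Subgroup.mem_center_iff]
    intro u
    apply Subtype.ext
    push_cast
    exact (hWc z hz u u.2).symm
  · rw [Nat.card_congr (Subgroup.subgroupOfEquivOfLe hWP).toEquiv, hW4]
  · intro z hz
    rw [Subgroup.mem_subgroupOf] at hz
    apply Subtype.ext
    push_cast
    exact hW2 z hz
  · intro u
    rw [Subgroup.mem_subgroupOf]
    push_cast
    exact hsq u u.2
  · intro u hu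
    rw [Subgroup.mem_subgroupOf]
    apply han u u.2
    have h := congrArg (fun t : ↥P => (t : G)) hu
    simpa using h
  · intro z hz
    rw [Subgroup.mem_subgroupOf] at hz ⊢
    rw [conjEquiv_coe]
    exact hdW z hz
  · intro z hz hz1 hfix
    rw [Subgroup.mem_subgroupOf] at hz
    have h := congrArg (fun t : ↥P => (t : G)) hfix
    simp only [conjEquiv_coe] at h
    refine hdfpf z hz ?_ h
    intro h1
    apply hz1
    apply Subtype.ext
    simpa using h1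
  · intro u
    apply Subtype.ext
    simp only [conjEquiv_coe]
    have hx3' : x * x * x = 1 := by rw [← hx3, pow_succ, pow_two]
    have hxinv : x⁻¹ * x⁻¹ * x⁻¹ = 1 := by
      rw [← mul_inv_rev, ← mul_inv_rev, ← mul_assoc, hx3', inv_one]
    calc x * (x * (x * ↑u * x⁻¹) * x⁻¹) * x⁻¹ = (x * x * x) * ↑u * (x⁻¹ * x⁻¹ * x⁻¹) := by
          simp only [mul_assoc]
      _ = ↑u := by rw [hx3', hxinv, one_mul, mul_one]
  · intro z hz
    rw [Subgroup.mem_subgroupOf] at hz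
    apply Subtype.ext
    rw [conjEquiv_coe, hxW z hz, mul_inv_cancel_right]
  · intro u hu
    rw [Subgroup.mem_subgroupOf]
    apply hxfix u u.2
    have h := congrArg (fun t : ↥P => (t : G)) hu
    simp only [conjEquiv_coe] at h
    calc x * ↑u = x * ↑u * x⁻¹ * x := by group
      _ = ↑u * x := by rw [h]

end Cfsg.Agent.helper20.S3739H
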