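import Mathlib
import Cfsg.Prelude.Def_Transfer
import Cfsg.Prelude.Def_Solvable
import Cfsg.Agent.Lib_helper20_S3739D
import Cfsg.Agent.Lib_helper3_S3739x
import Cfsg.Agent.Lib_helper17_S3739x
import Cfsg.Agent.Lib_helper16_AnisoB

/-!
Assembly of S3739 from the landed pieces A (helper3), C (helper17), D1 (helper20), end-game
(helper16), with piece B (B1: `W ≤ O₂(G)`, B2: `W` central in `O₂(G)`, contains all involutions of
`O₂(G)`, normal in `G`) as hypotheses.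
-/

set_option autoImplicit false
set_option linter.unusedVariables false

namespace Cfsg.Agent.helper20.S3739Z

variable {G : Type*} [Group G] [Finite G]

theorem s3739_of_B
    (hchar : Subgroup.centralizer (Cfsg.pCore 2 G : Set G) ≤ Cfsg.pCore 2 G)
    (hsix : ∃ g : G, orderOf g = 6) (d : G) (hd : IsPGroup 3 ↥(Subgroup.zpowers d))
    (W : Subgroup G) (hW : Cfsg.IsElementaryAbelian 2 W) (hW1 : W ≠ ⊥)
    (hdW : d ∈ Subgroup.normalizer (W : Set G)) (hfpf : W ⊓ Subgroup.centralizer {d} = ⊥)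
    (hB : (¬ ∃ E : Subgroup G, Cfsg.IsElementaryAbelian 2 E ∧ Nat.card E = 8) →
      (∀ i ∈ Cfsg.pCore 2 G, i * i = 1 → i ∈ W) ∧ (∀ g : G, ∀ w ∈ W, g * w * g⁻¹ ∈ W)) :
    ∃ E : Subgroup G, Cfsg.IsElementaryAbelian 2 E ∧ Nat.card E = 8 := by
  by_contra hno
  haveI : Fact (Nat.Prime 2) := ⟨Nat.prime_two⟩
  obtain ⟨hinv, hWn⟩ := hB hno
  have hW4 : Nat.card W = 4 :=
    Cfsg.Agent.helper3.S3739x.card_eq_four hno d W hW hW1 hdW hfpf
  obtain ⟨x0, hx0, hx0W⟩ := Cfsg.Agent.helper17.S3739x.C1 hno W hW hW4 hWn hsix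
  obtain ⟨x, hx, hxW, hxd⟩ := Cfsg.Agent.helper17.S3739x.C2 W hWn x0 hx0 hx0W d hd
  set Q : Subgroup G := Cfsg.pCore 2 G with hQ
  have hQn : Q.Normal := Subgroup.sSup_normal _ (fun _ h => h.1)
  have hQ2 : IsPGroup 2 Q := Sylow.sSup_of_normal _ (fun _ h => h.2) (fun _ h => h.1)
  have hxQ : ∀ q ∈ Q, x * q * x⁻¹ ∈ Q := fun q hq => hQn.conj_mem q hq x
  have hdQ : ∀ q ∈ Q, d * q * d⁻¹ ∈ Q := fun q hq => hQn.conj_mem q hq d
  have hx3 : x ^ 3 = 1 := by rw [← hx]; exact pow_orderOf_eq_one x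
  have hnt : ∃ q ∈ Q, x * q ≠ q * x := by
    by_contra hcon
    push Not at hcon
    have hxc : x ∈ Subgroup.centralizer (Q : Set G) := by
      rw [Subgroup.mem_centralizer_iff]
      intro q hq
      exact (hcon q hq).symm
    have hxQ' : x ∈ Q := hchar hxc
    obtain ⟨k, hk⟩ := hQ2 ⟨x, hxQ'⟩
    have hk' : x ^ (2 ^ k) = 1 := by
      have := congrArg Subtype.val hk
      simpa using this
    have hd2 : orderOf x ∣ 2 ^ k := orderOf_dvd_of_pow_eq_one hk'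
    rw [hx] at hd2
    have h32 : (3 : ℕ) ∣ 2 := (Nat.Prime.dvd_of_dvd_pow Nat.prime_three hd2)
    omega
  obtain ⟨P, D, hPQ, hDP, hxP, hdP, hDd, hPnt, hcomm, hDc, hsq, hD2, hxD, hfix⟩ :=
    Cfsg.Agent.helper20.S3739D.d1 Q hQ2 x d hx hxd hxQ hdQ hnt
  have hDW : D ≤ W := fun c hc => hinv c (hPQ (hDP hc)) (hD2 c hc)
  have hdW' : ∀ w ∈ W, d * w * d⁻¹ ∈ W := fun w hw => hWn d w hw
  rcases Cfsg.Agent.helper3.S3739x.invariant_eq_bot_or hno d W hW hW1 hdW hfpf D hDW hDd with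
    hbot | hDeq
  · obtain ⟨u, hu, hxu⟩ := hPnt
    apply hxu
    have huu : u * u = 1 := by
      have := hsq u hu
      rw [hbot] at this
      exact Subgroup.mem_bot.mp this
    exact hxW u (hinv u (hPQ hu) huu)
  · rw [hDeq] at hDP hcomm hDc hsq hfix
    have hEq : W = P :=
      Cfsg.Agent.helper16.AnisoB.eq_of_aniso P W hDP hW4
        (fun w hw => Cfsg.Agent.helper3.S3739x.sq_eq_one W hW hw) hDc hsq
        (fun u hu huu => hinv u (hPQ hu) huu) x d hxP hdP hx3 hxW hdW'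
        (fun w hw hw1 hfixw => hw1 (Cfsg.Agent.helper3.S3739x.fixed_eq_one d W hfpf hw hfixw))
        hfix
    obtain ⟨u, hu, hxu⟩ := hPnt
    apply hxu
    rw [← hEq] at hu
    exact hxW u hu

end Cfsg.Agent.helper20.S3739Z
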