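import Mathlib
import Cfsg.Prelude.Def_Local
import Cfsg.Prelude.Def_CaseTheorems
import Cfsg.Agent.Lib_helper17_LemmaA
import Cfsg.Agent.Lib_helper6_S4885x
import Cfsg.Agent.Lib_helper9_Cores
import Cfsg.Agent.Lib_helper23_PSolv
import Cfsg.Agent.Lib_helper1_Core

/-!
Pieces R1 (`relA`) and R2 (`relcore`) of the S4885 swarm (helper17), hedge copy.
-/

set_option autoImplicit false
open Cfsg
open scoped commutatorElement

universe u

namespace Cfsg.Agent.helper20.S4885x

variable {G : Type u} [Group G] [Finite G]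

/-- `G ⧸ O_{p'}(G)` has no nontrivial normal `p'`-subgroup. -/
theorem hO_quot (p : ℕ) : ∀ Q : Subgroup (G ⧸ pPrimeCore p G), Q.Normal →
    (Nat.card Q).Coprime p → Q = ⊥ := by
  intro Q hQ hcop
  have h := Cfsg.Agent.helper1.le_pPrimeCore hQ hcop
  rwa [Cfsg.Agent.helper9.pPrimeCore_quotient_eq_bot, le_bot_iff] at h

theorem isPGroup_map (p : ℕ) [Fact p.Prime] (hps : Cfsg.IsPSolvable p G)
    (L : Subgroup G) [L.Normal] (hVL : Cfsg.pPrimeCore p G ≤ L)
    (hLP : ∀ P : Sylow p G, L ⊓ (P : Subgroup G) ≤ ⁅(P : Subgroup G), (P : Subgroup G)⁆) :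
    IsPGroup p (L.map (QuotientGroup.mk' (pPrimeCore p G))) := by
  have hV : (Nat.card (pPrimeCore p G)).Coprime p := Cfsg.Agent.helper1.pPrimeCore_coprime p
  have hpsQ : IsPSolvable p (G ⧸ pPrimeCore p G) :=
    Cfsg.Agent.helper23.isPSolvable_of_surjective (Fact.out) (QuotientGroup.mk' (pPrimeCore p G))
      (QuotientGroup.mk'_surjective _) hps
  haveI : (L.map (QuotientGroup.mk' (pPrimeCore p G))).Normal :=
    Subgroup.Normal.map inferInstance _ (QuotientGroup.mk'_surjective _)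
  exact Cfsg.Agent.helper17.LemmaA.isPGroup_of_inf_sylow_le_commutator p hpsQ (hO_quot p) _
    (fun Pb => Cfsg.Agent.helper6.S4885x.pieceQ p (pPrimeCore p G) L hV hVL hLP Pb)

/-- PIECE R1 (exact signature of note 1069). -/
theorem relA {G : Type u} [Group G] [Finite G] (p : ℕ) [Fact p.Prime] (hps : Cfsg.IsPSolvable p G)
    (L : Subgroup G) [L.Normal] (hVL : Cfsg.pPrimeCore p G ≤ L)
    (hLP : ∀ P : Sylow p G, L ⊓ (P : Subgroup G) ≤ ⁅(P : Subgroup G), (P : Subgroup G)⁆) :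
    ∃ k : ℕ, (Cfsg.pPrimeCore p G).relIndex L = p ^ k := by
  have hP := isPGroup_map p hps L hVL hLP
  obtain ⟨k, hk⟩ := hP.exists_card_eq
  refine ⟨k, ?_⟩
  rw [← hk]
  have h1 := Subgroup.relIndex_comap (⊥ : Subgroup (G ⧸ pPrimeCore p G))
    (QuotientGroup.mk' (pPrimeCore p G)) L
  rw [Subgroup.relIndex_bot_left, MonoidHom.comap_bot, QuotientGroup.ker_mk'] at h1
  exact h1

/-- PIECE R2 (exact signature of note 1069). -/
theorem relcore {G : Type u} [Group G] [Finite G] (p : ℕ) [Fact p.Prime]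
    (hps : Cfsg.IsPSolvable p G)
    (L : Subgroup G) [L.Normal] (hVL : Cfsg.pPrimeCore p G ≤ L)
    (hLP : ∀ P : Sylow p G, L ⊓ (P : Subgroup G) ≤ ⁅(P : Subgroup G), (P : Subgroup G)⁆)
    (T : Subgroup G) [T.Normal] (hLT : L ≤ T) (hcop : (L.relIndex T).Coprime p) : T ≤ L := by
  have hV : (Nat.card (pPrimeCore p G)).Coprime p := Cfsg.Agent.helper1.pPrimeCore_coprime p
  have hP := isPGroup_map p hps L hVL hLP
  haveI hLn : (L.map (QuotientGroup.mk' (pPrimeCore p G))).Normal :=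
    Subgroup.Normal.map inferInstance _ (QuotientGroup.mk'_surjective _)
  haveI hTn : (T.map (QuotientGroup.mk' (pPrimeCore p G))).Normal :=
    Subgroup.Normal.map inferInstance _ (QuotientGroup.mk'_surjective _)
  have hUT : L.map (QuotientGroup.mk' (pPrimeCore p G)) ≤ T.map (QuotientGroup.mk' (pPrimeCore p G)) :=
    Subgroup.map_mono hLT
  have hrel : (L.map (QuotientGroup.mk' (pPrimeCore p G))).relIndex
      (T.map (QuotientGroup.mk' (pPrimeCore p G))) = L.relIndex T := by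
    have h1 := Subgroup.relIndex_comap (L.map (QuotientGroup.mk' (pPrimeCore p G)))
      (QuotientGroup.mk' (pPrimeCore p G)) T
    rw [Subgroup.comap_map_eq, QuotientGroup.ker_mk', sup_eq_left.mpr hVL] at h1
    exact h1.symm
  have hUP : ∀ Pb : Sylow p (G ⧸ pPrimeCore p G),
      L.map (QuotientGroup.mk' (pPrimeCore p G)) ≤
        ⁅(Pb : Subgroup (G ⧸ pPrimeCore p G)), (Pb : Subgroup (G ⧸ pPrimeCore p G))⁆ := by
    intro Pb
    have h1 := Cfsg.Agent.helper6.S4885x.pieceQ p (pPrimeCore p G) L hV hVL hLP Pb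
    have h2 : L.map (QuotientGroup.mk' (pPrimeCore p G)) ≤ (Pb : Subgroup (G ⧸ pPrimeCore p G)) :=
      (Cfsg.Agent.helper1.le_pCore hLn hP).trans (Cfsg.Agent.helper1.pCore_le_sylow Pb)
    exact (le_inf le_rfl h2).trans h1
  have hcore := Cfsg.Agent.helper17.LemmaA.core p (hO_quot p)
    (L.map (QuotientGroup.mk' (pPrimeCore p G))) (T.map (QuotientGroup.mk' (pPrimeCore p G)))
    hUT hP (by rw [hrel]; exact hcop) hUP
  intro t ht
  obtain ⟨l, hl, hlt⟩ := hcore (Subgroup.mem_map_of_mem _ ht)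
  have hmem : l⁻¹ * t ∈ pPrimeCore p G := by
    rw [← QuotientGroup.ker_mk' (pPrimeCore p G), MonoidHom.mem_ker, map_mul, map_inv, hlt,
      inv_mul_cancel]
  have := L.mul_mem hl (hVL hmem)
  simpa using this

end Cfsg.Agent.helper20.S4885x
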