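import Mathlib
set_option autoImplicit false
set_option linter.style.haveILetI false
set_option linter.unusedSectionVars false
set_option linter.unusedVariables false

/-! Schur / Wielandt 25.4: primitive groups containing a regular abelian subgroup with cyclic
nontrivial Sylow `p`-subgroup (of composite order) are doubly transitive.
Part A: group algebra mod `p`, invariance of coefficients. -/

namespace Cfsg.Agent.helper20.Sch

variable {M A : Type*} [Group M] [AddCommGroup A] [MulAction M A]

/-- `T` is invariant under the stabiliser of `0`. -/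
def Inv0 (M : Type*) {A : Type*} [Group M] [AddCommGroup A] [MulAction M A] (T : Finset A) : Prop :=
  ∀ g : M, g • (0 : A) = 0 → ∀ x ∈ T, g • x ∈ T

/-- `M` contains all translations. -/
def HasTr (M : Type*) (A : Type*) [Group M] [AddCommGroup A] [MulAction M A] : Prop :=
  ∀ a : A, ∃ g : M, ∀ x : A, g • x = x + a

theorem inv_sub (htr : HasTr M A) {T : Finset A} (hT : Inv0 M T) (g : M) (a b : A)
    (h : b - a ∈ T) : g • b - g • a ∈ T := by
  obtain ⟨t1, ht1⟩ := htr a
  obtain ⟨t2, ht2⟩ := htr (-(g • a))
  have h0 : (t2 * g * t1) • (0 : A) = 0 := by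
    rw [mul_smul, mul_smul, ht1, ht2, zero_add, add_neg_cancel]
  have := hT _ h0 _ h
  rw [mul_smul, mul_smul, ht1, ht2, sub_add_cancel] at this
  rwa [sub_eq_add_neg]

theorem inv_sub_iff (htr : HasTr M A) {T : Finset A} (hT : Inv0 M T) (g : M) (a b : A) :
    g • b - g • a ∈ T ↔ b - a ∈ T := by
  constructor
  · intro h
    have := inv_sub htr hT g⁻¹ _ _ h
    rwa [inv_smul_smul, inv_smul_smul] at this
  · exact inv_sub htr hT g a b

variable (p : ℕ) [hp : Fact p.Prime]

/-- the sum of `T` in the group algebra mod `p`. -/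
noncomputable def tau (T : Finset A) : AddMonoidAlgebra (ZMod p) A :=
  ∑ t ∈ T, AddMonoidAlgebra.single t 1

instance inst_charP_grpAlg : CharP (AddMonoidAlgebra (ZMod p) A) p := by
  rw [CharP.charP_iff_prime_eq_zero hp.out]
  have : ((p : ℕ) : AddMonoidAlgebra (ZMod p) A)
      = ((p : ZMod p)) • (1 : AddMonoidAlgebra (ZMod p) A) := by
    rw [Nat.cast_smul_eq_nsmul, nsmul_one]
  rw [this, CharP.cast_eq_zero, zero_smul]

theorem frob (T : Finset A) :
    (tau p T) ^ p = ∑ t ∈ T, AddMonoidAlgebra.single (p • t) (1 : ZMod p) := by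
  unfold tau
  rw [sum_pow_char]
  refine Finset.sum_congr rfl fun t _ => ?_
  rw [AddMonoidAlgebra.single_pow, one_pow]

theorem coeff_mul_tau (η : AddMonoidAlgebra (ZMod p) A) (T : Finset A) (h : A) :
    (η * tau p T).coeff h = ∑ t ∈ T, η.coeff (h - t) := by
  unfold tau
  rw [Finset.mul_sum, AddMonoidAlgebra.coeff_sum, Finsupp.finsetSum_apply]
  refine Finset.sum_congr rfl fun t _ => ?_
  rw [AddMonoidAlgebra.coeff_mul_single_apply, mul_one, sub_eq_add_neg]

theorem coeff_frob [DecidableEq A] (T : Finset A) (h : A) :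
    ((tau p T) ^ p).coeff h = ((T.filter (fun t => p • t = h)).card : ZMod p) := by
  rw [frob, AddMonoidAlgebra.coeff_sum, Finsupp.finsetSum_apply]
  simp only [AddMonoidAlgebra.coeff_single, Finsupp.single_apply]
  rw [Finset.sum_ite, Finset.sum_const_zero, add_zero, Finset.sum_const, nsmul_eq_mul, mul_one]

theorem coeff_tau [DecidableEq A] (T : Finset A) (h : A) :
    (tau p T).coeff h = if h ∈ T then 1 else 0 := by
  unfold tau
  rw [AddMonoidAlgebra.coeff_sum, Finsupp.finsetSum_apply]
  simp only [AddMonoidAlgebra.coeff_single, Finsupp.single_apply]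
  rw [Finset.sum_ite_eq']

theorem coeff_tau_sq [DecidableEq A] (T : Finset A) (h : A) :
    (tau p T * tau p T).coeff h = ((T.filter (fun t => h - t ∈ T)).card : ZMod p) := by
  rw [coeff_mul_tau]
  simp only [coeff_tau]
  rw [Finset.sum_ite, Finset.sum_const_zero, add_zero, Finset.sum_const, nsmul_eq_mul, mul_one]

/-- coefficient function invariant under the stabiliser of `0`. -/
def FInv (M : Type*) {A : Type*} [Group M] [AddCommGroup A] [MulAction M A]
    (η : AddMonoidAlgebra (ZMod p) A) : Prop :=
  ∀ g : M, g • (0 : A) = 0 → ∀ h : A, η.coeff (g • h) = η.coeff h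

theorem finv_mul_tau (htr : HasTr M A) {T : Finset A} (hT : Inv0 M T)
    {η : AddMonoidAlgebra (ZMod p) A} (hη : FInv p M η) : FInv p M (η * tau p T) := by
  intro g hg h
  rw [coeff_mul_tau, coeff_mul_tau]
  symm
  refine Finset.sum_equiv
    ((Equiv.subLeft h).trans ((MulAction.toPerm g).trans (Equiv.subLeft (g • h)))) ?_ ?_
  · intro t
    simp only [Equiv.trans_apply, Equiv.subLeft_apply, MulAction.toPerm_apply]
    rw [inv_sub_iff htr hT, sub_sub_cancel]
  · intro t _
    simp only [Equiv.trans_apply, Equiv.subLeft_apply, MulAction.toPerm_apply]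
    rw [sub_sub_cancel, hη g hg]

theorem finv_one : FInv p M (1 : AddMonoidAlgebra (ZMod p) A) := by
  classical
  intro g hg h
  rw [AddMonoidAlgebra.one_def, AddMonoidAlgebra.coeff_single, Finsupp.single_apply,
    Finsupp.single_apply]
  have : (0 = g • h) ↔ (0 = h) := by
    constructor
    · intro h1
      have : g • (0 : A) = g • h := by rw [hg]; exact h1
      exact (MulAction.injective g) this
    · intro h1; rw [← h1, hg]
  simp only [this]

theorem finv_tau_pow (htr : HasTr M A) {T : Finset A} (hT : Inv0 M T) (j : ℕ) :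
    FInv p M ((tau p T) ^ j) := by
  induction j with
  | zero => rw [pow_zero]; exact finv_one p
  | succ j ih => rw [pow_succ]; exact finv_mul_tau p htr hT ih

/-- invariance of the number of representations `h = t + t'`, mod `p`. -/
theorem c2_inv [DecidableEq A] (htr : HasTr M A) {T : Finset A} (hT : Inv0 M T)
    (g : M) (hg : g • (0 : A) = 0) (h : A) :
    ((T.filter (fun t => g • h - t ∈ T)).card : ZMod p)
      = ((T.filter (fun t => h - t ∈ T)).card : ZMod p) := by
  have := finv_tau_pow p htr hT 2 g hg h
  rw [pow_two, coeff_tau_sq, coeff_tau_sq] at this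
  exact this

/-- invariance of the number of `p`-th roots in `T`, mod `p`. -/
theorem cp_inv [DecidableEq A] (htr : HasTr M A) {T : Finset A} (hT : Inv0 M T)
    (g : M) (hg : g • (0 : A) = 0) (h : A) :
    ((T.filter (fun t => p • t = g • h)).card : ZMod p)
      = ((T.filter (fun t => p • t = h)).card : ZMod p) := by
  have := finv_tau_pow p htr hT p g hg h
  rw [coeff_frob, coeff_frob] at this
  exact this

end Cfsg.Agent.helper20.Sch
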