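import Mathlib
import Cfsg.Agent.Lib_helper20_SchA
set_option autoImplicit false
set_option linter.style.haveILetI false
set_option linter.unusedSectionVars false
set_option linter.unusedVariables false

/-! Part B: blocks from invariant sets. -/

namespace Cfsg.Agent.helper20.Sch

open MulAction

variable {M A : Type*} [Group M] [AddCommGroup A] [MulAction M A]

theorem isBlock_of_forall (B : Set A)
    (h : ∀ g : M, ∀ a ∈ B, g • a ∈ B → ∀ x ∈ B, g • x ∈ B) : IsBlock M B := by
  rw [isBlock_iff_smul_eq_of_mem]
  intro g a ha hga
  apply Set.Subset.antisymm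
  · rintro _ ⟨x, hx, rfl⟩
    exact h g a ha hga x hx
  · intro x hx
    refine ⟨g⁻¹ • x, ?_, by simp⟩
    refine h g⁻¹ (g • a) hga ?_ x hx
    rwa [inv_smul_smul]

/-- the subgroup generated by a `0`-stabiliser-invariant set is a block. -/
theorem block_closure (htr : HasTr M A) {S : Finset A} (hS : Inv0 M S) :
    IsBlock M ((AddSubgroup.closure (S : Set A) : AddSubgroup A) : Set A) := by
  have key : ∀ x ∈ AddSubgroup.closure (S : Set A), ∀ (g : M) (a : A),
      g • (a + x) - g • a ∈ AddSubgroup.closure (S : Set A) := by
    intro x hx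
    induction hx using AddSubgroup.closure_induction with
    | mem x hx =>
      intro g a
      apply AddSubgroup.subset_closure
      have : (a + x) - a ∈ S := by rw [add_sub_cancel_left]; exact hx
      exact inv_sub htr hS g _ _ this
    | zero =>
      intro g a
      rw [add_zero, sub_self]
      exact AddSubgroup.zero_mem _
    | add x y _ _ ihx ihy =>
      intro g a
      have h1 := ihx g a
      have h2 := ihy g (a + x)
      have : g • (a + (x + y)) - g • a = (g • (a + x + y) - g • (a + x)) + (g • (a + x) - g • a) := by
        rw [add_assoc]; abel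
      rw [this]
      exact AddSubgroup.add_mem _ h2 h1
    | neg x _ ih =>
      intro g a
      have h1 := ih g (a + -x)
      have : g • (a + -x) - g • a = -(g • (a + -x + x) - g • (a + -x)) := by
        rw [neg_add_cancel_right]; abel
      rw [this]
      exact AddSubgroup.neg_mem _ h1
  apply isBlock_of_forall
  intro g a ha hga x hx
  have h1 := key (x - a) (AddSubgroup.sub_mem _ hx ha) g a
  rw [add_sub_cancel] at h1
  have := AddSubgroup.add_mem _ h1 hga
  rwa [sub_add_cancel] at this

/-- the translation stabiliser of an invariant set is a block. -/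
theorem block_stab (htr : HasTr M A) {T : Finset A} (hT : Inv0 M T) :
    IsBlock M {a : A | ∀ b : A, b - a ∈ T ↔ b ∈ T} := by
  apply isBlock_of_forall
  intro g a ha hga x hx b
  have e1 : b - g • x ∈ T ↔ g⁻¹ • b - x ∈ T := by
    have := inv_sub_iff htr hT g x (g⁻¹ • b)
    rwa [smul_inv_smul] at this
  have e2 : b - g • a ∈ T ↔ g⁻¹ • b - a ∈ T := by
    have := inv_sub_iff htr hT g a (g⁻¹ • b)
    rwa [smul_inv_smul] at this
  rw [e1, hx (g⁻¹ • b), ← ha (g⁻¹ • b), ← e2]
  exact hga b

/-- Lemma P: under primitivity, an invariant set inside a proper subgroup is `⊆ {0}`. -/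
theorem lemmaP (htr : HasTr M A) (hprim : IsPreprimitive M A) {S : Finset A} (hS : Inv0 M S)
    (L : AddSubgroup A) (hL : L ≠ ⊤) (hSL : ∀ s ∈ S, s ∈ L) : ∀ s ∈ S, s = 0 := by
  intro s hs
  have hB := block_closure htr hS
  rcases hprim.isTrivialBlock_of_isBlock hB with h | h
  · exact h (AddSubgroup.subset_closure (by exact_mod_cast hs)) (AddSubgroup.zero_mem _)
  · exfalso
    apply hL
    rw [eq_top_iff]
    intro x _
    have hx : x ∈ ((AddSubgroup.closure (S : Set A) : AddSubgroup A) : Set A) := by
      rw [h]; exact Set.mem_univ x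
    have hle : AddSubgroup.closure (S : Set A) ≤ L := by
      rw [AddSubgroup.closure_le]
      intro s hs
      exact hSL s (by exact_mod_cast hs)
    exact hle hx

end Cfsg.Agent.helper20.Sch
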