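import Mathlib
import Cfsg.Agent.Lib_helper20_SchB
set_option autoImplicit false
set_option linter.style.haveILetI false
set_option linter.unusedSectionVars false
set_option linter.unusedVariables false

/-! Part C: structure of the suborbits of a primitive group (cosets of the subgroup of order `p`). -/

namespace Cfsg.Agent.helper20.Sch

open MulAction Finset

variable {M A : Type*} [Group M] [AddCommGroup A] [MulAction M A]
variable [Fintype A] [DecidableEq A] (p : ℕ) [hp : Fact p.Prime]

theorem card_coset (x : A) :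
    (univ.filter (fun t : A => p • t = p • x)).card = (univ.filter (fun t : A => p • t = 0)).card := by
  apply Finset.card_equiv (Equiv.subRight x)
  intro t
  simp only [Finset.mem_filter, Finset.mem_univ, true_and, Equiv.subRight_apply, smul_sub,
    sub_eq_zero]

theorem dvd_card_of_Kinv (hK : (univ.filter (fun x : A => p • x = 0)).card = p) (S : Finset A)
    (hS : ∀ x ∈ S, ∀ k : A, p • k = 0 → x + k ∈ S) : p ∣ S.card := by
  rw [Finset.card_eq_sum_card_image (fun t => p • t) S]
  apply Finset.dvd_sum
  intro y hy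
  obtain ⟨x, hx, rfl⟩ := Finset.mem_image.1 hy
  have : S.filter (fun t => p • t = p • x) = univ.filter (fun t : A => p • t = p • x) := by
    ext t
    simp only [mem_filter, mem_univ, true_and, and_iff_right_iff_imp]
    intro ht
    have := hS x hx (t - x) (by rw [smul_sub, ht, sub_self])
    rwa [add_sub_cancel] at this
  rw [this, card_coset, hK]

theorem exists_K_ne_zero (hK : (univ.filter (fun x : A => p • x = 0)).card = p) :
    ∃ k : A, p • k = 0 ∧ k ≠ 0 := by
  have h1 : 1 < (univ.filter (fun x : A => p • x = 0)).card := by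
    rw [hK]; exact hp.out.one_lt
  obtain ⟨b, hb, hb0⟩ := Finset.exists_mem_ne h1 0
  exact ⟨b, (Finset.mem_filter.1 hb).2, hb0⟩

theorem coset_full (htr : HasTr M A) (hprim : IsPreprimitive M A)
    (hK : (univ.filter (fun x : A => p • x = 0)).card = p) {T : Finset A} (hT : Inv0 M T)
    (x : A) (hx : p • x ≠ 0) (y : A) (hyT : y ∈ T) (hy : p • y = p • x) :
    ∀ z : A, p • z = p • x → z ∈ T := by
  set S : Finset A :=
    univ.filter (fun h : A => ((T.filter (fun t => p • t = h)).card : ZMod p) ≠ 0) with hSdef
  have hS : Inv0 M S := by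
    intro g hg h hh
    rw [hSdef, mem_filter] at hh ⊢
    refine ⟨mem_univ _, ?_⟩
    rw [cp_inv p htr hT g hg h]
    exact hh.2
  set L : AddSubgroup A := (nsmulAddMonoidHom p : A →+ A).range with hLdef
  have hL : L ≠ ⊤ := by
    intro htop
    obtain ⟨k, hk, hk0⟩ := exists_K_ne_zero p hK
    have hsurj : Function.Surjective (nsmulAddMonoidHom p : A →+ A) := by
      rw [← AddMonoidHom.range_eq_top]; exact htop
    have hinj := Finite.injective_iff_surjective.2 hsurj
    apply hk0
    apply hinj
    rw [map_zero]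
    exact hk
  have hSL : ∀ s ∈ S, s ∈ L := by
    intro s hs
    rw [hSdef, mem_filter] at hs
    have hne : (T.filter (fun t => p • t = s)).card ≠ 0 := by
      intro h0
      apply hs.2
      rw [h0, Nat.cast_zero]
    obtain ⟨t, ht⟩ := Finset.card_pos.1 (Nat.pos_of_ne_zero hne)
    rw [mem_filter] at ht
    exact ⟨t, ht.2⟩
  have h0 := lemmaP htr hprim hS L hL hSL
  have hnot : p • x ∉ S := fun h => hx (h0 _ h)
  rw [hSdef, mem_filter, not_and, not_not] at hnot
  have hdvd : p ∣ (T.filter (fun t => p • t = p • x)).card :=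
    (ZMod.natCast_eq_zero_iff _ _).1 (hnot (mem_univ _))
  have hsub : T.filter (fun t => p • t = p • x) ⊆ univ.filter (fun t : A => p • t = p • x) := by
    intro t ht
    rw [mem_filter] at ht ⊢
    exact ⟨mem_univ _, ht.2⟩
  have hcard : (univ.filter (fun t : A => p • t = p • x)).card = p := by
    rw [card_coset, hK]
  have hpos : 0 < (T.filter (fun t => p • t = p • x)).card :=
    Finset.card_pos.2 ⟨y, mem_filter.2 ⟨hyT, hy⟩⟩
  have hle : p ≤ (T.filter (fun t => p • t = p • x)).card := Nat.le_of_dvd hpos hdvd
  have heq := Finset.eq_of_subset_of_card_le hsub (by rw [hcard]; exact hle)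
  intro z hz
  have : z ∈ univ.filter (fun t : A => p • t = p • x) := mem_filter.2 ⟨mem_univ _, hz⟩
  rw [← heq, mem_filter] at this
  exact this.1

theorem coset_iff (htr : HasTr M A) (hprim : IsPreprimitive M A)
    (hK : (univ.filter (fun x : A => p • x = 0)).card = p) {T : Finset A} (hT : Inv0 M T)
    (x k : A) (hx : p • x ≠ 0) (hk : p • k = 0) : x ∈ T ↔ x + k ∈ T := by
  have hxk : p • (x + k) = p • x := by rw [smul_add, hk, add_zero]
  constructor
  · intro h
    exact coset_full p htr hprim hK hT x hx x h rfl (x + k) hxk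
  · intro h
    exact coset_full p htr hprim hK hT x hx (x + k) h hxk x rfl

/-- (B): an invariant set not inside `{0}` contains an element outside `K`. -/
theorem exists_notK (htr : HasTr M A) (hprim : IsPreprimitive M A) (hneA : ∃ x : A, p • x ≠ 0)
    {T : Finset A} (hT : Inv0 M T) (hne0 : ∃ t ∈ T, t ≠ 0) : ∃ x ∈ T, p • x ≠ 0 := by
  by_contra hcon
  push Not at hcon
  set L : AddSubgroup A := (nsmulAddMonoidHom p : A →+ A).ker with hLdef
  have hL : L ≠ ⊤ := by
    intro htop
    obtain ⟨x, hx⟩ := hneA
    apply hx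
    have : x ∈ L := by rw [htop]; exact AddSubgroup.mem_top x
    exact this
  have hSL : ∀ s ∈ T, s ∈ L := fun s hs => hcon s hs
  obtain ⟨t, ht, ht0⟩ := hne0
  exact ht0 (lemmaP htr hprim hT L hL hSL t ht)

/-- (C): an invariant nonempty set avoiding `0` meets `K`. -/
theorem exists_K (htr : HasTr M A) (hprim : IsPreprimitive M A)
    (hK : (univ.filter (fun x : A => p • x = 0)).card = p)
    {T : Finset A} (hT : Inv0 M T) (hne : T.Nonempty) (h0 : (0 : A) ∉ T) :
    ∃ x ∈ T, p • x = 0 := by
  by_contra hcon
  push Not at hcon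
  have hB := block_stab htr hT
  obtain ⟨k, hk, hk0⟩ := exists_K_ne_zero p hK
  have hkB : k ∈ {a : A | ∀ b : A, b - a ∈ T ↔ b ∈ T} := by
    intro b
    constructor
    · intro h
      have := (coset_iff p htr hprim hK hT (b - k) k (hcon _ h) hk).1 h
      rwa [sub_add_cancel] at this
    · intro h
      have hnk : p • (-k) = 0 := by rw [smul_neg, hk, neg_zero]
      have := (coset_iff p htr hprim hK hT b (-k) (hcon _ h) hnk).1 h
      rwa [← sub_eq_add_neg] at this
  have h0B : (0 : A) ∈ {a : A | ∀ b : A, b - a ∈ T ↔ b ∈ T} := by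
    intro b; rw [sub_zero]
  rcases hprim.isTrivialBlock_of_isBlock hB with h | h
  · exact hk0 (h hkB h0B)
  · obtain ⟨t, ht⟩ := hne
    have : t ∈ {a : A | ∀ b : A, b - a ∈ T ↔ b ∈ T} := by rw [h]; exact Set.mem_univ t
    have := (this t).2 ht
    rw [sub_self] at this
    exact h0 this

end Cfsg.Agent.helper20.Sch
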