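import Mathlib
import Cfsg.Agent.Lib_helper20_SchC
set_option autoImplicit false
set_option linter.style.haveILetI false
set_option linter.unusedSectionVars false
set_option linter.unusedVariables false

/-! Part D: counting representations `h = t + t'`. -/

namespace Cfsg.Agent.helper20.Sch

open MulAction Finset

variable {M A : Type*} [Group M] [AddCommGroup A] [MulAction M A]
variable [Fintype A] [DecidableEq A] (p : ℕ) [hp : Fact p.Prime]

/-- D1 -/
theorem count_notK (htr : HasTr M A) (hprim : IsPreprimitive M A)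
    (hK : (univ.filter (fun x : A => p • x = 0)).card = p) {T : Finset A} (hT : Inv0 M T)
    (h : A) (hh : p • h ≠ 0) :
    ((T.filter (fun t => h - t ∈ T)).card : ZMod p)
      = if h ∈ T then 2 * ((T.filter (fun t => p • t = 0)).card : ZMod p) else 0 := by
  set P := T.filter (fun t => h - t ∈ T) with hP
  set P1 := P.filter (fun t => p • t = 0) with hP1
  set P2 := (P.filter (fun t => ¬ p • t = 0)).filter (fun t => p • (h - t) = 0) with hP2
  set P3 := (P.filter (fun t => ¬ p • t = 0)).filter (fun t => ¬ p • (h - t) = 0) with hP3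
  have hsum : P.card = P1.card + (P2.card + P3.card) := by
    rw [hP2, hP3, card_filter_add_card_filter_not, hP1, card_filter_add_card_filter_not]
  have h3 : p ∣ P3.card := by
    apply dvd_card_of_Kinv p hK
    intro x hx k hk
    rw [hP3, mem_filter, mem_filter, hP, mem_filter] at hx ⊢
    obtain ⟨⟨⟨hxT, hhx⟩, hx0⟩, hhx0⟩ := hx
    have hnk : p • (-k) = 0 := by rw [smul_neg, hk, neg_zero]
    refine ⟨⟨⟨(coset_iff p htr hprim hK hT x k hx0 hk).1 hxT, ?_⟩, ?_⟩, ?_⟩
    · have := (coset_iff p htr hprim hK hT (h - x) (-k) hhx0 hnk).1 hhx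
      have e : h - (x + k) = h - x + -k := by abel
      rw [e]; exact this
    · rw [smul_add, hk, add_zero]; exact hx0
    · have e : h - (x + k) = h - x + -k := by abel
      rw [e, smul_add, hnk, add_zero]; exact hhx0
  have h12 : P2.card = P1.card := by
    apply Finset.card_equiv (Equiv.subLeft h)
    intro t
    simp only [Equiv.subLeft_apply]
    rw [hP2, hP1, mem_filter, mem_filter, mem_filter, hP, mem_filter, mem_filter, sub_sub_cancel]
    constructor
    · rintro ⟨⟨⟨htT, hht⟩, ht0⟩, hht0⟩
      exact ⟨⟨hht, htT⟩, hht0⟩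
    · rintro ⟨⟨hht, htT⟩, hht0⟩
      refine ⟨⟨⟨htT, hht⟩, ?_⟩, hht0⟩
      intro ht0
      apply hh
      have : h = (h - t) + t := by abel
      rw [this, smul_add, hht0, ht0, add_zero]
  have h1 : P1 = (T.filter (fun t => p • t = 0)).filter (fun _ => h ∈ T) := by
    ext t
    rw [hP1, hP, mem_filter, mem_filter, mem_filter, mem_filter]
    constructor
    · rintro ⟨⟨htT, hht⟩, ht0⟩
      refine ⟨⟨htT, ht0⟩, ?_⟩
      have hnt : p • (-t) = 0 := by rw [smul_neg, ht0, neg_zero]
      have := (coset_iff p htr hprim hK hT h (-t) hh hnt).2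
      rw [← sub_eq_add_neg] at this
      exact this hht
    · rintro ⟨⟨htT, ht0⟩, hhT⟩
      refine ⟨⟨htT, ?_⟩, ht0⟩
      have hnt : p • (-t) = 0 := by rw [smul_neg, ht0, neg_zero]
      have := (coset_iff p htr hprim hK hT h (-t) hh hnt).1 hhT
      rwa [← sub_eq_add_neg] at this
  obtain ⟨c, hc⟩ := h3
  rw [hsum, h12, hc]
  push_cast
  rw [CharP.cast_eq_zero (ZMod p) p, zero_mul, add_zero, h1]
  by_cases hhT : h ∈ T
  · rw [if_pos hhT, Finset.filter_true_of_mem (fun _ _ => hhT)]; ring
  · rw [if_neg hhT, Finset.filter_false_of_mem (fun _ _ => hhT)]; simp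

/-- D2 -/
theorem count_K (htr : HasTr M A) (hprim : IsPreprimitive M A)
    (hK : (univ.filter (fun x : A => p • x = 0)).card = p) {T : Finset A} (hT : Inv0 M T)
    (h : A) (hh : p • h = 0) :
    ((T.filter (fun t => h - t ∈ T)).card : ZMod p)
      = (((T.filter (fun t => p • t = 0)).filter (fun t => h - t ∈ T)).card : ZMod p) := by
  set P := T.filter (fun t => h - t ∈ T) with hP
  have hsum := card_filter_add_card_filter_not (s := P) (fun t => p • t = 0)
  have h3 : p ∣ (P.filter (fun t => ¬ p • t = 0)).card := by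
    apply dvd_card_of_Kinv p hK
    intro x hx k hk
    rw [mem_filter, hP, mem_filter] at hx ⊢
    obtain ⟨⟨hxT, hhx⟩, hx0⟩ := hx
    have hnk : p • (-k) = 0 := by rw [smul_neg, hk, neg_zero]
    have hhx0 : p • (h - x) ≠ 0 := by
      rw [smul_sub, hh, zero_sub, neg_ne_zero]; exact hx0
    refine ⟨⟨(coset_iff p htr hprim hK hT x k hx0 hk).1 hxT, ?_⟩, ?_⟩
    · have := (coset_iff p htr hprim hK hT (h - x) (-k) hhx0 hnk).1 hhx
      have e : h - (x + k) = h - x + -k := by abel
      rw [e]; exact this
    · rw [smul_add, hk, add_zero]; exact hx0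
  have h1 : P.filter (fun t => p • t = 0)
      = (T.filter (fun t => p • t = 0)).filter (fun t => h - t ∈ T) := by
    rw [hP, Finset.filter_filter, Finset.filter_filter]
    apply Finset.filter_congr
    intro t _
    exact and_comm
  obtain ⟨c, hc⟩ := h3
  rw [← hsum, hc, h1]
  push_cast
  rw [CharP.cast_eq_zero (ZMod p) p, zero_mul, add_zero]

/-- D3 -/
theorem sum_count_K (T : Finset A) :
    ∑ h ∈ univ.filter (fun x : A => p • x = 0),
      ((T.filter (fun t => p • t = 0)).filter (fun t => h - t ∈ T)).card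
      = (T.filter (fun t => p • t = 0)).card * (T.filter (fun t => p • t = 0)).card := by
  simp only [Finset.card_filter (fun t => _ - t ∈ T)]
  rw [Finset.sum_comm]
  have : ∀ t ∈ T.filter (fun t => p • t = 0),
      (∑ h ∈ univ.filter (fun x : A => p • x = 0), if h - t ∈ T then 1 else 0)
        = (T.filter (fun t => p • t = 0)).card := by
    intro t ht
    rw [← Finset.card_filter]
    apply Finset.card_equiv (Equiv.subRight t)
    intro h
    simp only [Equiv.subRight_apply]
    have ht2 := (mem_filter.1 ht).2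
    simp only [mem_filter, mem_univ, true_and]
    have : p • (h - t) = p • h := by rw [smul_sub, ht2, sub_zero]
    rw [this]
    tauto
  rw [Finset.sum_congr rfl this, Finset.sum_const, smul_eq_mul]

end Cfsg.Agent.helper20.Sch
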