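import Mathlib
import Cfsg.Agent.Lib_helper20_SchD
set_option autoImplicit false
set_option linter.style.haveILetI false
set_option linter.unusedSectionVars false
set_option linter.unusedVariables false

/-! Part E: every nontrivial suborbit contains `K \ {0}`; double transitivity. -/

namespace Cfsg.Agent.helper20.Sch

open MulAction Finset

variable {M A : Type*} [Group M] [AddCommGroup A] [MulAction M A]
variable [Fintype A] [DecidableEq A] (p : ℕ) [hp : Fact p.Prime]

/-- the orbit of `h` under the stabiliser of `0`. -/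
noncomputable def orb0 (M : Type*) {A : Type*} [Group M] [AddCommGroup A] [MulAction M A]
    [Fintype A] [DecidableEq A] (h : A) : Finset A :=
  @Finset.filter A (fun y => ∃ g : M, g • (0 : A) = 0 ∧ g • h = y) (Classical.decPred _)
    Finset.univ

theorem mem_orb0 (h y : A) : y ∈ orb0 M h ↔ ∃ g : M, g • (0 : A) = 0 ∧ g • h = y := by
  unfold orb0
  simp only [Finset.mem_filter, Finset.mem_univ, true_and]

theorem orb0_inv (h : A) : Inv0 M (orb0 M h) := by
  intro g hg x hx
  rw [mem_orb0] at hx ⊢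
  obtain ⟨g', hg', rfl⟩ := hx
  exact ⟨g * g', by rw [mul_smul, hg', hg], by rw [mul_smul]⟩

theorem self_mem_orb0 (h : A) : h ∈ orb0 M h := by
  rw [mem_orb0]; exact ⟨1, one_smul _ _, one_smul _ _⟩

theorem zero_notMem_orb0 (h : A) (hh : h ≠ 0) : (0 : A) ∉ orb0 M h := by
  rw [mem_orb0]
  rintro ⟨g, hg, hgh⟩
  apply hh
  apply MulAction.injective g
  show g • h = g • 0
  rw [hgh, hg]

theorem orb0_trans (h x y : A) (hx : x ∈ orb0 M h) (hy : y ∈ orb0 M h) :
    ∃ g : M, g • (0 : A) = 0 ∧ g • x = y := by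
  rw [mem_orb0] at hx hy
  obtain ⟨g1, hg1, rfl⟩ := hx
  obtain ⟨g2, hg2, rfl⟩ := hy
  refine ⟨g2 * g1⁻¹, ?_, ?_⟩
  · rw [mul_smul]
    have : g1⁻¹ • (0 : A) = 0 := by rw [inv_smul_eq_iff, hg1]
    rw [this, hg2]
  · rw [mul_smul, inv_smul_smul]

theorem orbit_contains_K (htr : HasTr M A) (hprim : IsPreprimitive M A)
    (hK : (univ.filter (fun x : A => p • x = 0)).card = p) (hneA : ∃ x : A, p • x ≠ 0)
    (a : A) (ha : a ≠ 0) : ∀ k : A, p • k = 0 → k ≠ 0 → k ∈ orb0 M a := by
  set T := orb0 M a with hTdef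
  have hT : Inv0 M T := orb0_inv a
  have haT : a ∈ T := self_mem_orb0 a
  have h0 : (0 : A) ∉ T := zero_notMem_orb0 a ha
  have hTne : T.Nonempty := ⟨a, haT⟩
  set K := univ.filter (fun x : A => p • x = 0) with hKdef
  set TK := T.filter (fun t => p • t = 0) with hTKdef
  -- TK ⊆ K.erase 0
  have hTKsub : TK ⊆ K.erase 0 := by
    intro t ht
    rw [hTKdef, mem_filter] at ht
    rw [mem_erase, hKdef, mem_filter]
    refine ⟨?_, mem_univ _, ht.2⟩
    rintro rfl
    exact h0 ht.1
  have h0K : (0 : A) ∈ K := by rw [hKdef, mem_filter]; exact ⟨mem_univ _, smul_zero _⟩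
  have hKe : (K.erase 0).card = p - 1 := by rw [card_erase_of_mem h0K, hK]
  have hale : TK.card ≤ p - 1 := by rw [← hKe]; exact card_le_card hTKsub
  have hapos : 0 < TK.card := by
    obtain ⟨x, hx, hx0⟩ := exists_K p htr hprim hK hT hTne h0
    exact card_pos.2 ⟨x, mem_filter.2 ⟨hx, hx0⟩⟩
  have hppos : 0 < p := hp.out.pos
  have hane : (TK.card : ZMod p) ≠ 0 := by
    rw [Ne, ZMod.natCast_eq_zero_iff]
    intro hdvd
    have := Nat.le_of_dvd hapos hdvd
    omega
  -- value on T
  obtain ⟨x1, hx1T, hx1⟩ := exists_notK p htr hprim hneA hT ⟨a, haT, ha⟩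
  have hvalT : ∀ h ∈ T, ((T.filter (fun t => h - t ∈ T)).card : ZMod p) = 2 * (TK.card : ZMod p) := by
    intro h hh
    obtain ⟨g, hg, hgx⟩ := orb0_trans a x1 h hx1T hh
    have := c2_inv p htr hT g hg x1
    rw [hgx] at this
    rw [this, count_notK p htr hprim hK hT x1 hx1, if_pos hx1T]
  have hvalK : ∀ h ∈ K, h ≠ 0 → h ∉ T → ((T.filter (fun t => h - t ∈ T)).card : ZMod p) = 0 := by
    intro h hhK hh0 hhT
    obtain ⟨h', hh'T, hh'⟩ := exists_notK p htr hprim hneA (orb0_inv (M := M) h)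
      ⟨h, self_mem_orb0 h, hh0⟩
    rw [mem_orb0] at hh'T
    obtain ⟨g, hg, rfl⟩ := hh'T
    have hnot : g • h ∉ T := by
      intro hmem
      apply hhT
      have hg' : g⁻¹ • (0 : A) = 0 := by rw [inv_smul_eq_iff, hg]
      have := hT g⁻¹ hg' _ hmem
      rwa [inv_smul_smul] at this
    have := c2_inv p htr hT g hg h
    rw [← this, count_notK p htr hprim hK hT (g • h) hh', if_neg hnot]
  -- PK values
  have hPK : ∀ h ∈ K.erase 0, ((TK.filter (fun t => h - t ∈ T)).card : ZMod p)
      = if h ∈ T then 2 * (TK.card : ZMod p) else 0 := by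
    intro h hh
    rw [mem_erase] at hh
    have hhK : p • h = 0 := by
      have := hh.2; rw [hKdef, mem_filter] at this; exact this.2
    rw [← count_K p htr hprim hK hT h hhK]
    by_cases hhT : h ∈ T
    · rw [if_pos hhT, hvalT h hhT]
    · rw [if_neg hhT, hvalK h hh.2 hh.1 hhT]
  have hsum := sum_count_K p T
  have hsum' : ((TK.filter (fun t => (0 : A) - t ∈ T)).card : ZMod p)
      + ∑ h ∈ K.erase 0, ((TK.filter (fun t => h - t ∈ T)).card : ZMod p)
      = (TK.card : ZMod p) * (TK.card : ZMod p) := by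
    rw [Finset.add_sum_erase K (fun h => ((TK.filter (fun t => h - t ∈ T)).card : ZMod p)) h0K]
    have := congrArg (fun n : ℕ => (n : ZMod p)) hsum
    simp only [Nat.cast_sum, Nat.cast_mul] at this
    exact this
  have hfil : (K.erase 0).filter (fun h => h ∈ T) = TK := by
    ext h
    rw [mem_filter, mem_erase, hKdef, mem_filter, hTKdef, mem_filter]
    constructor
    · rintro ⟨⟨_, _, h1⟩, h2⟩; exact ⟨h2, h1⟩
    · rintro ⟨h2, h1⟩
      refine ⟨⟨?_, mem_univ _, h1⟩, h2⟩
      rintro rfl; exact h0 h2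
  rw [Finset.sum_congr rfl hPK, Finset.sum_ite, Finset.sum_const_zero, add_zero, Finset.sum_const,
    hfil, nsmul_eq_mul] at hsum'
  -- so #PK0 = - a^2
  have hc0 : ((TK.filter (fun t => (0 : A) - t ∈ T)).card : ZMod p)
      = - ((TK.card : ZMod p) * (TK.card : ZMod p)) := by
    have : ((TK.filter (fun t => (0 : A) - t ∈ T)).card : ZMod p)
      = (TK.card : ZMod p) * (TK.card : ZMod p)
        - (TK.card : ZMod p) * (2 * (TK.card : ZMod p)) := by
      rw [← hsum']; ring
    rw [this]; ring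
  have hc0ne : (TK.filter (fun t => (0 : A) - t ∈ T)).card ≠ 0 := by
    intro h
    rw [h, Nat.cast_zero] at hc0
    have : (TK.card : ZMod p) * (TK.card : ZMod p) = 0 := by
      rw [← neg_eq_zero, ← hc0]
    rcases mul_eq_zero.1 this with h | h <;> exact hane h
  obtain ⟨t0, ht0⟩ := card_pos.1 (Nat.pos_of_ne_zero hc0ne)
  rw [mem_filter, hTKdef, mem_filter] at ht0
  have hneg : ∀ y ∈ T, (0 : A) - y ∈ T := by
    intro y hy
    obtain ⟨g, hg, hgy⟩ := orb0_trans a t0 y ht0.1.1 hy
    have := inv_sub htr hT g t0 0 ht0.2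
    rwa [hg, hgy] at this
  have hPK0 : TK.filter (fun t => (0 : A) - t ∈ T) = TK := by
    apply Finset.filter_true_of_mem
    intro t ht
    rw [hTKdef, mem_filter] at ht
    exact hneg t ht.1
  rw [hPK0] at hc0
  have hmul : (TK.card : ZMod p) * ((TK.card : ZMod p) + 1) = 0 := by
    have : (TK.card : ZMod p) * ((TK.card : ZMod p) + 1)
        = (TK.card : ZMod p) + (TK.card : ZMod p) * (TK.card : ZMod p) := by ring
    rw [this]
    nth_rewrite 1 [hc0]
    ring
  have hp1 : ((TK.card + 1 : ℕ) : ZMod p) = 0 := by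
    push_cast
    rcases mul_eq_zero.1 hmul with h | h
    · exact absurd h hane
    · exact h
  rw [ZMod.natCast_eq_zero_iff] at hp1
  have hge : p ≤ TK.card + 1 := Nat.le_of_dvd (Nat.succ_pos _) hp1
  have hTKeq : TK = K.erase 0 := by
    apply Finset.eq_of_subset_of_card_le hTKsub
    rw [hKe]; omega
  intro k hk hk0
  have : k ∈ K.erase 0 := by
    rw [mem_erase, hKdef, mem_filter]; exact ⟨hk0, mem_univ _, hk⟩
  rw [← hTKeq, hTKdef, mem_filter] at this
  exact this.1

end Cfsg.Agent.helper20.Sch
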