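import Mathlib
import Cfsg.Agent.Lib_helper20_SchE
set_option autoImplicit false
set_option linter.style.haveILetI false
set_option linter.unusedSectionVars false
set_option linter.unusedVariables false

/-! Part F: the core theorem (Wielandt 25.4) and the cyclic case (Schur). -/

namespace Cfsg.Agent.helper20.Sch

open MulAction Finset

/-- Wielandt 25.4 (in elementary form): a primitive group on a finite abelian group `A`,
containing all translations, is doubly transitive provided the `p`-torsion of `A` has order `p`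
and is not all of `A`. -/
theorem core {M A : Type*} [Group M] [AddCommGroup A] [MulAction M A] [Finite A]
    (p : ℕ) (hp : p.Prime) (htr : HasTr M A) (hprim : IsPreprimitive M A)
    (hK : Nat.card {x : A // p • x = 0} = p) (hneA : ∃ x : A, p • x ≠ 0) :
    IsMultiplyPretransitive M A 2 := by
  classical
  haveI : Fintype A := Fintype.ofFinite A
  haveI : Fact p.Prime := ⟨hp⟩
  have hK' : (univ.filter (fun x : A => p • x = 0)).card = p := by
    have h1 : Nat.card {x : A // p • x = 0} = (univ.filter (fun x : A => p • x = 0)).card := by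
      rw [Nat.card_eq_fintype_card, Fintype.card_subtype]
    rw [← h1]; exact hK
  rw [is_two_pretransitive_iff]
  intro a b c d hab hcd
  obtain ⟨k, hk, hk0⟩ := exists_K_ne_zero p hK'
  have hu : b - a ≠ 0 := sub_ne_zero.2 (Ne.symm hab)
  have hv : d - c ≠ 0 := sub_ne_zero.2 (Ne.symm hcd)
  have h1 := orbit_contains_K p htr hprim hK' hneA (b - a) hu k hk hk0
  have h2 := orbit_contains_K p htr hprim hK' hneA (d - c) hv k hk hk0
  rw [mem_orb0] at h1 h2
  obtain ⟨g1, hg1, hg1u⟩ := h1
  obtain ⟨g2, hg2, hg2v⟩ := h2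
  obtain ⟨t1, ht1⟩ := htr (-a)
  obtain ⟨t2, ht2⟩ := htr c
  have hg2' : g2⁻¹ • (0 : A) = 0 := by rw [inv_smul_eq_iff, hg2]
  have hg2v' : g2⁻¹ • k = d - c := by rw [inv_smul_eq_iff, hg2v]
  refine ⟨t2 * (g2⁻¹ * g1) * t1, ?_, ?_⟩
  · rw [mul_smul, mul_smul, mul_smul, ht1, add_neg_cancel, hg1, hg2', ht2, zero_add]
  · rw [mul_smul, mul_smul, mul_smul, ht1, ← sub_eq_add_neg, hg1u, hg2v', ht2, sub_add_cancel]

theorem zmod_torsion_card (n p : ℕ) [NeZero n] (hp : p.Prime) (hpn : p ∣ n) :
    Nat.card {y : ZMod n // p • y = 0} = p := by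
  set Kσ : AddSubgroup (ZMod n) := (nsmulAddMonoidHom p : ZMod n →+ ZMod n).ker with hKσ
  have hmem : ∀ y : ZMod n, y ∈ Kσ ↔ p • y = 0 := by
    intro y; rw [hKσ, AddMonoidHom.mem_ker]; rfl
  have hcardeq : Nat.card {y : ZMod n // p • y = 0} = Nat.card Kσ := by
    apply Nat.card_congr
    exact Equiv.subtypeEquivRight (fun y => (hmem y).symm)
  rw [hcardeq]
  have hexp : AddMonoid.exponent Kσ ∣ p := by
    apply AddMonoid.exponent_dvd_of_forall_nsmul_eq_zero
    intro y
    apply Subtype.ext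
    rw [AddSubgroup.coe_nsmul, AddSubgroup.coe_zero]
    exact (hmem y.1).1 y.2
  rw [IsAddCyclic.exponent_eq_card] at hexp
  rcases (Nat.dvd_prime hp).1 hexp with h1 | h1
  · exfalso
    obtain ⟨m, rfl⟩ := hpn
    have hn0 : p * m ≠ 0 := NeZero.ne _
    have hm0 : m ≠ 0 := by rintro rfl; exact hn0 (mul_zero _)
    have hmK : ((m : ℕ) : ZMod (p * m)) ∈ Kσ := by
      rw [hmem, nsmul_eq_mul, ← Nat.cast_mul, ZMod.natCast_self]
    have hone : ∀ x y : Kσ, x = y := by
      haveI : Subsingleton Kσ := (Nat.card_eq_one_iff_unique.1 h1).1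
      exact fun x y => Subsingleton.elim x y
    have := congrArg Subtype.val (hone ⟨_, hmK⟩ 0)
    simp only [AddSubgroup.coe_zero] at this
    rw [ZMod.natCast_eq_zero_iff] at this
    have hle := Nat.le_of_dvd (Nat.pos_of_ne_zero hm0) this
    have : 2 * m ≤ p * m := Nat.mul_le_mul_right m hp.two_le
    omega
  · exact h1

theorem exists_equiv_zmod {M Ω : Type*} [Group M] [MulAction M Ω] [Finite Ω] (c : M) (n : ℕ)
    [NeZero n] (hn : Nat.card Ω = n) (hc : c ^ n = 1) (ω₀ : Ω)
    (hinj : ∀ i j, i < n → j < n → c ^ i • ω₀ = c ^ j • ω₀ → i = j) :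
    ∃ e : Ω ≃ ZMod n, ∀ (ω : Ω) (j : ℕ), e (c ^ j • ω) = e ω + (j : ZMod n) := by
  set φ : ZMod n → Ω := fun k => c ^ k.val • ω₀ with hφ
  have hφinj : Function.Injective φ := by
    intro k l hkl
    exact ZMod.val_injective n (hinj _ _ (ZMod.val_lt k) (ZMod.val_lt l) hkl)
  have hφbij : Function.Bijective φ := by
    apply hφinj.bijective_of_nat_card_le
    rw [hn, Nat.card_zmod]
  refine ⟨(Equiv.ofBijective φ hφbij).symm, ?_⟩
  intro ω j
  rw [Equiv.symm_apply_eq]
  obtain ⟨k, rfl⟩ := hφbij.2 ω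
  rw [Equiv.ofBijective_symm_apply_apply, Equiv.ofBijective_apply]
  simp only [hφ]
  rw [← mul_smul, ← pow_add, ZMod.val_add, ZMod.val_natCast, Nat.add_mod_mod,
    ← pow_eq_pow_mod _ hc, add_comm]

/-- Schur: a primitive group containing a regular cyclic subgroup of composite order is doubly
transitive. Elementary form: `c` acts as an `n`-cycle through `ω₀`, `n = |Ω|` composite. -/
theorem cyclic_two_trans {M Ω : Type*} [Group M] [MulAction M Ω] [Finite Ω] (c : M) (n : ℕ)
    (hn : Nat.card Ω = n) (hc : c ^ n = 1) (ω₀ : Ω)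
    (hinj : ∀ i j, i < n → j < n → c ^ i • ω₀ = c ^ j • ω₀ → i = j)
    (hn2 : 2 ≤ n) (hcomp : ¬ n.Prime) (hprim : IsPreprimitive M Ω) :
    IsMultiplyPretransitive M Ω 2 := by
  haveI : NeZero n := ⟨by omega⟩
  obtain ⟨e, he⟩ := exists_equiv_zmod c n hn hc ω₀ hinj
  set p := n.minFac with hpdef
  have hp : p.Prime := Nat.minFac_prime (by omega)
  have hpn : p ∣ n := Nat.minFac_dvd n
  have hplt : p < n := (Nat.not_prime_iff_minFac_lt hn2).1 hcomp
  letI : AddCommGroup Ω := e.addCommGroup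
  have hadd : ∀ x y : Ω, x + y = e.symm (e x + e y) := fun x y => rfl
  have hzero : e (0 : Ω) = 0 := by
    show e (e.symm 0) = 0
    rw [Equiv.apply_symm_apply]
  have hnsmul : ∀ (m : ℕ) (x : Ω), e (m • x) = m • e x := by
    intro m x
    exact map_nsmul (e.addEquiv) m x
  have htr : HasTr M Ω := by
    intro a
    refine ⟨c ^ (e a).val, fun x => ?_⟩
    rw [hadd, Equiv.eq_symm_apply, he, ZMod.natCast_zmod_val]
  have hiff : ∀ x : Ω, p • x = 0 ↔ p • e x = 0 := by
    intro x
    rw [← hnsmul, ← hzero]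
    exact e.injective.eq_iff.symm
  have hK : Nat.card {x : Ω // p • x = 0} = p := by
    exact Eq.trans (Nat.card_congr (Equiv.subtypeEquiv e hiff)) (zmod_torsion_card n p hp hpn)
  have hneA : ∃ x : Ω, p • x ≠ 0 := by
    refine ⟨e.symm 1, ?_⟩
    rw [Ne, hiff, Equiv.apply_symm_apply, nsmul_eq_mul, mul_one, ZMod.natCast_eq_zero_iff]
    intro hdvd
    have := Nat.le_of_dvd hp.pos hdvd
    omega
  exact core p hp htr hprim hK hneA

end Cfsg.Agent.helper20.Sch
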