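import Mathlib
import Cfsg.Agent.Lib_helper20_SchF
set_option autoImplicit false
set_option linter.style.haveILetI false
set_option linter.unusedSectionVars false
set_option linter.unusedVariables false

/-! Part G: elements of prime power order; the kernel on a block system. -/

namespace Cfsg.Agent.helper20.Sch

open MulAction
open scoped Pointwise

theorem pow_pred_smul_eq {M X : Type*} [Group M] [MulAction M X] (g : M) (p m j : ℕ)
    (hp : p.Prime) (hgm : g ^ (p ^ m) = 1) (x : X) (hj0 : 0 < j) (hj : j < p ^ m)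
    (hx : g ^ j • x = x) : g ^ (p ^ (m - 1)) • x = x := by
  rw [pow_smul_eq_iff_period_dvd] at hx ⊢
  have h1 : period g x ∣ p ^ m := by
    rw [← pow_smul_eq_iff_period_dvd, hgm, one_smul]
  obtain ⟨v, hv, hPv⟩ := (Nat.dvd_prime_pow hp).1 h1
  rw [hPv] at hx ⊢
  have hvm : v ≠ m := by
    rintro rfl
    have := Nat.le_of_dvd hj0 hx
    omega
  exact pow_dvd_pow p (by omega)

theorem exists_free_point {M Ω : Type*} [Group M] [MulAction M Ω] [FaithfulSMul M Ω]
    (g : M) (p m : ℕ) (hp : p.Prime) (hm : 1 ≤ m) (hg : orderOf g = p ^ m) :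
    ∃ ω₀ : Ω, ∀ i j, i < p ^ m → j < p ^ m → g ^ i • ω₀ = g ^ j • ω₀ → i = j := by
  by_contra hcon
  push Not at hcon
  have hgm : g ^ (p ^ m) = 1 := by rw [← hg]; exact pow_orderOf_eq_one g
  have key : ∀ (ω : Ω) (i j : ℕ), i < j → j < p ^ m → g ^ i • ω = g ^ j • ω →
      g ^ (p ^ (m - 1)) • ω = ω := by
    intro ω i j hij hj h
    have hd : g ^ (j - i) • ω = ω := by
      have : g ^ j = g ^ i * g ^ (j - i) := by rw [← pow_add]; congr 1; omega
      rw [this, mul_smul] at h
      exact (smul_left_cancel _ h).symm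
    exact pow_pred_smul_eq g p m (j - i) hp hgm ω (by omega) (by omega) hd
  have hall : ∀ ω : Ω, g ^ (p ^ (m - 1)) • ω = ω := by
    intro ω
    obtain ⟨i, j, hi, hj, h, hne⟩ := hcon ω
    rcases lt_or_gt_of_ne hne with hlt | hlt
    · exact key ω i j hlt hj h
    · exact key ω j i hlt hi h.symm
  have h1 : g ^ (p ^ (m - 1)) = 1 := by
    apply FaithfulSMul.eq_of_smul_eq_smul (α := Ω)
    intro ω
    rw [hall, one_smul]
  have h2 := orderOf_dvd_of_pow_eq_one h1
  rw [hg, Nat.pow_dvd_pow_iff_le_right hp.one_lt] at h2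
  omega

/-- the kernel of the action on the translates of a block. -/
def blockKer {M Ω : Type*} [Group M] [MulAction M Ω] (B : Set Ω) : Subgroup M where
  carrier := {x | ∀ h : M, x • (h • B) = h • B}
  mul_mem' := by
    intro a b ha hb h
    rw [mul_smul, hb h, ha h]
  one_mem' := fun h => one_smul _ _
  inv_mem' := by
    intro a ha h
    rw [inv_smul_eq_iff, ha h]

theorem mem_blockKer {M Ω : Type*} [Group M] [MulAction M Ω] (B : Set Ω) (x : M) :
    x ∈ blockKer (M := M) B ↔ ∀ h : M, x • (h • B) = h • B := Iff.rfl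

instance blockKer_normal {M Ω : Type*} [Group M] [MulAction M Ω] (B : Set Ω) :
    (blockKer (M := M) B).Normal := by
  constructor
  intro x hx y h
  rw [mem_blockKer] at hx
  have := hx (y⁻¹ * h)
  rw [mul_smul, mul_smul, ← mul_smul y⁻¹ h, this, mul_smul, smul_inv_smul]

/-- if `g` has order `p ^ m` and some power of `g` is transitive..., then `g ^ p ^ (m-1)` fixes
every translate of a block with at least two points. -/
theorem pow_pred_mem_blockKer {M Ω : Type*} [Group M] [MulAction M Ω] (g : M) (p m : ℕ)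
    (hp : p.Prime) (hgm : g ^ (p ^ m) = 1)
    (hreg : ∀ a b : Ω, a ≠ b → ∃ j, 0 < j ∧ j < p ^ m ∧ g ^ j • a = b)
    (B : Set Ω) (hB : IsBlock M B) (hBn : ¬ B.Subsingleton) :
    g ^ (p ^ (m - 1)) ∈ blockKer (M := M) B := by
  rw [mem_blockKer]
  intro h
  have hB' : IsBlock M (h • B) := hB.translate h
  rw [Set.not_subsingleton_iff] at hBn
  obtain ⟨a, ha, b, hb, hab⟩ := hBn
  obtain ⟨j, hj0, hj, hjab⟩ := hreg (h • a) (h • b) (fun hh => hab (smul_left_cancel h hh))
  have hfix : g ^ j • (h • B) = h • B := by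
    apply hB'.smul_eq_of_mem (Set.smul_mem_smul_set ha)
    rw [hjab]
    exact Set.smul_mem_smul_set hb
  exact pow_pred_smul_eq g p m j hp hgm (h • B) hj0 hj hfix

theorem not_pretransitive_of_le_blockKer {M Ω : Type*} [Group M] [MulAction M Ω]
    (B : Set Ω) (hBn : ¬ B.Subsingleton) (hBu : B ≠ Set.univ) (N : Subgroup M)
    (hN : N ≤ blockKer (M := M) B) : ¬ IsPretransitive N Ω := by
  intro htr
  rw [Set.not_subsingleton_iff] at hBn
  obtain ⟨a, ha, _⟩ := hBn
  obtain ⟨x, hx⟩ := (Set.ne_univ_iff_exists_notMem B).1 hBu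
  obtain ⟨y, hy⟩ := htr.exists_smul_eq a x
  have hyK := hN y.2
  rw [mem_blockKer] at hyK
  have h1 := hyK 1
  rw [one_smul] at h1
  apply hx
  rw [← hy, ← h1]
  exact Set.smul_mem_smul_set ha

end Cfsg.Agent.helper20.Sch
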