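import Mathlib
import Cfsg.Agent.Lib_helper20_Schur4
import Cfsg.Agent.Lib_helper20_Stem

set_option autoImplicit false
set_option linter.style.haveILetI false

/-! Central extensions of a direct product `Q₁ × Q₂`. -/

namespace Cfsg.Agent.helper20.Schur

universe u v w

open scoped commutatorElement

section Prod

variable {Q₁ : Type u} {Q₂ : Type v} [Group Q₁] [Group Q₂] {Δ : Type w} [Group Δ]
variable (τ : Δ →* Q₁ × Q₂)

/-- preimage of `Q₁ × 1`. -/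
def D1 : Subgroup Δ := ((MonoidHom.snd Q₁ Q₂).comp τ).ker

/-- preimage of `1 × Q₂`. -/
def D2 : Subgroup Δ := ((MonoidHom.fst Q₁ Q₂).comp τ).ker

instance D1_normal : (D1 τ).Normal := by unfold D1; infer_instance
instance D2_normal : (D2 τ).Normal := by unfold D2; infer_instance

theorem mem_D1 (d : Δ) : d ∈ D1 τ ↔ (τ d).2 = 1 := Iff.rfl
theorem mem_D2 (d : Δ) : d ∈ D2 τ ↔ (τ d).1 = 1 := Iff.rfl

theorem ker_le_D1 : τ.ker ≤ D1 τ := by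
  intro d hd
  rw [mem_D1, MonoidHom.mem_ker.mp hd]; rfl

theorem ker_le_D2 : τ.ker ≤ D2 τ := by
  intro d hd
  rw [mem_D2, MonoidHom.mem_ker.mp hd]; rfl

theorem mem_ker_of_mem_D1_D2 {d : Δ} (h1 : d ∈ D1 τ) (h2 : d ∈ D2 τ) : d ∈ τ.ker := by
  rw [MonoidHom.mem_ker]
  exact Prod.ext h2 h1

/-- the projection `Δ₁ → Q₁`. -/
def t1 : D1 τ →* Q₁ := ((MonoidHom.fst Q₁ Q₂).comp τ).comp (D1 τ).subtype

/-- the projection `Δ₂ → Q₂`. -/
def t2 : D2 τ →* Q₂ := ((MonoidHom.snd Q₁ Q₂).comp τ).comp (D2 τ).subtype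

theorem t1_apply (d : D1 τ) : t1 τ d = (τ (d : Δ)).1 := rfl
theorem t2_apply (d : D2 τ) : t2 τ d = (τ (d : Δ)).2 := rfl

theorem t1_surjective (hτ : Function.Surjective τ) : Function.Surjective (t1 τ) := by
  intro q
  obtain ⟨d, hd⟩ := hτ (q, 1)
  exact ⟨⟨d, by rw [mem_D1, hd]⟩, by rw [t1_apply]; simp [hd]⟩

theorem t2_surjective (hτ : Function.Surjective τ) : Function.Surjective (t2 τ) := by
  intro q
  obtain ⟨d, hd⟩ := hτ (1, q)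
  exact ⟨⟨d, by rw [mem_D2, hd]⟩, by rw [t2_apply]; simp [hd]⟩

theorem mem_ker_t1 (d : D1 τ) : d ∈ (t1 τ).ker ↔ (d : Δ) ∈ τ.ker := by
  rw [MonoidHom.mem_ker, MonoidHom.mem_ker, t1_apply]
  constructor
  · intro h; exact Prod.ext h d.2
  · intro h; rw [h]; rfl

theorem mem_ker_t2 (d : D2 τ) : d ∈ (t2 τ).ker ↔ (d : Δ) ∈ τ.ker := by
  rw [MonoidHom.mem_ker, MonoidHom.mem_ker, t2_apply]
  constructor
  · intro h; exact Prod.ext d.2 h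
  · intro h; rw [h]; rfl

theorem t1_ker_central (hc : τ.ker ≤ Subgroup.center Δ) :
    (t1 τ).ker ≤ Subgroup.center (D1 τ) := by
  intro d hd
  rw [Subgroup.mem_center_iff]
  intro g
  exact Subtype.ext (Subgroup.mem_center_iff.mp (hc ((mem_ker_t1 τ d).mp hd)) (g : Δ))

theorem t2_ker_central (hc : τ.ker ≤ Subgroup.center Δ) :
    (t2 τ).ker ≤ Subgroup.center (D2 τ) := by
  intro d hd
  rw [Subgroup.mem_center_iff]
  intro g
  exact Subtype.ext (Subgroup.mem_center_iff.mp (hc ((mem_ker_t2 τ d).mp hd)) (g : Δ))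

theorem D1_sup_D2 (hτ : Function.Surjective τ) : D1 τ ⊔ D2 τ = ⊤ := by
  rw [eq_top_iff]
  intro d _
  obtain ⟨d₁, hd₁⟩ := hτ ((τ d).1, 1)
  have h1 : d₁ ∈ D1 τ := by rw [mem_D1, hd₁]
  have h2 : d₁⁻¹ * d ∈ D2 τ := by
    rw [mem_D2, map_mul, map_inv, hd₁]; simp
  have : d = d₁ * (d₁⁻¹ * d) := by group
  rw [this]
  exact Subgroup.mul_mem_sup h1 h2

theorem comm_mem_ker {d₁ d₂ : Δ} (h1 : d₁ ∈ D1 τ) (h2 : d₂ ∈ D2 τ) : ⁅d₁, d₂⁆ ∈ τ.ker := by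
  rw [MonoidHom.mem_ker, map_commutatorElement, commutatorElement_def]
  rw [mem_D1] at h1
  rw [mem_D2] at h2
  apply Prod.ext
  · simp [h2]
  · simp [h1]

theorem C12_le_ker : ⁅D1 τ, D2 τ⁆ ≤ τ.ker := by
  rw [Subgroup.commutator_le]
  intro a ha b hb
  exact comm_mem_ker τ ha hb

theorem commutator_le_sup (hτ : Function.Surjective τ) :
    commutator Δ ≤ ⁅D1 τ, D1 τ⁆ ⊔ ⁅D2 τ, D2 τ⁆ ⊔ ⁅D1 τ, D2 τ⁆ := by
  apply Cfsg.Agent.helper20.commutator_le_of_gens _ ((D1 τ : Set Δ) ∪ (D2 τ : Set Δ))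
  · rw [Subgroup.closure_union, Subgroup.closure_eq, Subgroup.closure_eq]
    exact D1_sup_D2 τ hτ
  · intro a ha b hb
    rw [← commutatorElement_def]
    rcases ha with ha | ha <;> rcases hb with hb | hb
    · exact Subgroup.mem_sup_left (Subgroup.mem_sup_left
        (Subgroup.commutator_mem_commutator ha hb))
    · exact Subgroup.mem_sup_right (Subgroup.commutator_mem_commutator ha hb)
    · apply Subgroup.mem_sup_right
      rw [Subgroup.commutator_comm]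
      exact Subgroup.commutator_mem_commutator ha hb
    · exact Subgroup.mem_sup_left (Subgroup.mem_sup_right
        (Subgroup.commutator_mem_commutator ha hb))

/-- decomposition of `ker τ ∩ Δ'`. -/
theorem ker_inf_commutator_decomp (hτ : Function.Surjective τ) (z : Δ)
    (hz : z ∈ τ.ker ⊓ commutator Δ) :
    ∃ c₁ ∈ τ.ker ⊓ ⁅D1 τ, D1 τ⁆, ∃ c₂ ∈ τ.ker ⊓ ⁅D2 τ, D2 τ⁆, ∃ c₁₂ ∈ ⁅D1 τ, D2 τ⁆,
      z = c₁ * c₂ * c₁₂ := by
  rw [Subgroup.mem_inf] at hz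
  have h1 := commutator_le_sup τ hτ hz.2
  have h2 : z ∈ ((⁅D1 τ, D1 τ⁆ ⊔ ⁅D2 τ, D2 τ⁆ ⊔ ⁅D1 τ, D2 τ⁆ : Subgroup Δ) : Set Δ) := h1
  rw [Subgroup.mul_normal] at h2
  obtain ⟨y, hy, c₁₂, hc₁₂, rfl⟩ := h2
  have hy' : y ∈ ((⁅D1 τ, D1 τ⁆ ⊔ ⁅D2 τ, D2 τ⁆ : Subgroup Δ) : Set Δ) := hy
  rw [Subgroup.mul_normal] at hy'
  obtain ⟨c₁, hc₁, c₂, hc₂, rfl⟩ := hy'
  have hc₁D : c₁ ∈ D1 τ := Subgroup.commutator_le_left _ _ hc₁
  have hc₂D : c₂ ∈ D2 τ := Subgroup.commutator_le_left _ _ hc₂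
  have hk12 : c₁₂ ∈ τ.ker := C12_le_ker τ hc₁₂
  have hk : c₁ * c₂ ∈ τ.ker := by
    have := Subgroup.mul_mem _ hz.1 (Subgroup.inv_mem _ hk12)
    simpa using this
  rw [MonoidHom.mem_ker, map_mul] at hk
  rw [mem_D1] at hc₁D
  rw [mem_D2] at hc₂D
  have h3 : (τ c₁).1 = 1 := by
    have := congrArg Prod.fst hk
    simpa [hc₂D] using this
  have h4 : (τ c₂).2 = 1 := by
    have := congrArg Prod.snd hk
    simpa [hc₁D] using this
  refine ⟨c₁, Subgroup.mem_inf.mpr ⟨?_, hc₁⟩, c₂, Subgroup.mem_inf.mpr ⟨?_, hc₂⟩, c₁₂, hc₁₂, rfl⟩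
  · rw [MonoidHom.mem_ker]; exact Prod.ext h3 hc₁D
  · rw [MonoidHom.mem_ker]; exact Prod.ext hc₂D h4

end Prod

end Cfsg.Agent.helper20.Schur
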