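import Mathlib
import Cfsg.Agent.Lib_helper20_Schur6

set_option autoImplicit false
set_option linter.style.haveILetI false

/-! The commutator pairing `D₁ × D₂ → Z` in a central extension of `Q₁ × Q₂`, and the
coprime case. -/

namespace Cfsg.Agent.helper20.Schur

universe u v w

open scoped commutatorElement

section Pairing

variable {Γ : Type u} [Group Γ]

/-- `⁅x * y, e⁆ = ⁅x, e⁆ * ⁅y, e⁆` when `⁅y, e⁆` is central. -/
theorem comm_mul_left_of_central (x y e : Γ) (hy : ⁅y, e⁆ ∈ Subgroup.center Γ) :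
    ⁅x * y, e⁆ = ⁅x, e⁆ * ⁅y, e⁆ := by
  have h := Subgroup.mem_center_iff.mp hy (x⁻¹)
  -- ⁅x*y, e⁆ = x * ⁅y,e⁆ * x⁻¹ * ⁅x,e⁆
  have h1 : ⁅x * y, e⁆ = x * ⁅y, e⁆ * x⁻¹ * ⁅x, e⁆ := by
    simp only [commutatorElement_def]; group
  rw [h1]
  have h2 : x * ⁅y, e⁆ * x⁻¹ = ⁅y, e⁆ := by
    rw [mul_assoc, ← h, ← mul_assoc, mul_inv_cancel, one_mul]
  rw [h2]
  exact (Subgroup.mem_center_iff.mp hy _).symm

/-- the hom `x ↦ ⁅x, e⁆` on a subgroup `D` whose commutators with `e` are central. -/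
def commHom (D : Subgroup Γ) (e : Γ) (h : ∀ d ∈ D, ⁅d, e⁆ ∈ Subgroup.center Γ) :
    D →* Subgroup.center Γ where
  toFun x := ⟨⁅(x : Γ), e⁆, h x x.2⟩
  map_one' := by
    apply Subtype.ext
    simp
  map_mul' x y := by
    apply Subtype.ext
    simp only [Subgroup.coe_mul]
    exact comm_mul_left_of_central _ _ _ (h y y.2)

theorem commHom_apply (D : Subgroup Γ) (e : Γ) (h : ∀ d ∈ D, ⁅d, e⁆ ∈ Subgroup.center Γ)
    (x : D) : ((commHom D e h x : Subgroup.center Γ) : Γ) = ⁅(x : Γ), e⁆ := rfl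

/-- if `d ^ n ∈ Z · ⁅D, D⁆` then `⁅d, e⁆ ^ n = 1`. -/
theorem comm_pow_eq_one (D : Subgroup Γ) (e : Γ)
    (h : ∀ d ∈ D, ⁅d, e⁆ ∈ Subgroup.center Γ) (d : Γ) (hd : d ∈ D) (n : ℕ)
    (k c : Γ) (hk : k ∈ Subgroup.center Γ) (hc : c ∈ ⁅D, D⁆) (hdn : d ^ n = k * c) :
    ⁅d, e⁆ ^ n = 1 := by
  have hkD : k ∈ D := by
    have h1 : c ∈ D := Subgroup.commutator_le_self D hc
    have h2 : k = d ^ n * c⁻¹ := by rw [hdn]; group
    rw [h2]
    exact D.mul_mem (D.pow_mem hd n) (D.inv_mem h1)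
  have hcD : c ∈ D := Subgroup.commutator_le_self D hc
  set φ := commHom D e h with hφ
  have h1 : φ ⟨c, hcD⟩ = 1 := by
    have h2 : (⟨c, hcD⟩ : D) ∈ _root_.commutator D := by
      rw [← Subgroup.map_subtype_commutator] at hc
      obtain ⟨x, hx, hxc⟩ := hc
      have : x = ⟨c, hcD⟩ := Subtype.ext hxc
      rw [← this]; exact hx
    have h3 : _root_.commutator D ≤ φ.ker := by
      rw [_root_.commutator_def, Subgroup.commutator_le]
      intro a _ b _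
      rw [MonoidHom.mem_ker, map_commutatorElement, commutatorElement_eq_one_iff_commute]
      apply Subtype.ext
      exact (Subgroup.mem_center_iff.mp (φ a).2 _).symm
    exact h3 h2
  have h2 : φ ⟨k, hkD⟩ = 1 := by
    apply Subtype.ext
    rw [commHom_apply]
    simp only [OneMemClass.coe_one]
    rw [commutatorElement_eq_one_iff_commute]
    exact (Subgroup.mem_center_iff.mp hk e).symm
  have h3 : φ (⟨d, hd⟩ ^ n) = 1 := by
    have : (⟨d, hd⟩ : D) ^ n = ⟨k, hkD⟩ * ⟨c, hcD⟩ := by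
      apply Subtype.ext
      simp only [Subgroup.coe_pow, Subgroup.coe_mul]
      exact hdn
    rw [this, map_mul, h1, h2, one_mul]
  rw [map_pow] at h3
  have h4 : ((φ ⟨d, hd⟩ ^ n : Subgroup.center Γ) : Γ) = 1 := by rw [h3]; rfl
  rw [Subgroup.coe_pow] at h4
  exact h4

end Pairing

section PowAb

variable {D : Type u} [Group D] {Q : Type v} [Group Q]

/-- for surjective `τ : D → Q`, `d ^ |Q^ab| ∈ ker τ · D'`. -/
theorem exists_pow_card_ab [Finite Q] (τ : D →* Q) (hτ : Function.Surjective τ) (d : D) :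
    ∃ k ∈ τ.ker, ∃ c ∈ _root_.commutator D, d ^ Nat.card (Abelianization Q) = k * c := by
  have h1 : (τ d) ^ Nat.card (Abelianization Q) ∈ _root_.commutator Q := by
    rw [← Abelianization.ker_of, MonoidHom.mem_ker, map_pow]
    exact pow_card_eq_one'
  have h2 : _root_.commutator Q = (_root_.commutator D).map τ := by
    rw [_root_.commutator_def, _root_.commutator_def, Subgroup.map_commutator,
      ← MonoidHom.range_eq_map, MonoidHom.range_eq_top.mpr hτ]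
  rw [h2] at h1
  obtain ⟨c, hc, hce⟩ := h1
  refine ⟨d ^ Nat.card (Abelianization Q) * c⁻¹, ?_, c, hc, by group⟩
  rw [MonoidHom.mem_ker, map_mul, map_inv, hce, map_pow, mul_inv_cancel]

end PowAb

section Coprime

variable {Q₁ : Type u} {Q₂ : Type v} [Group Q₁] [Group Q₂] [Finite Q₁] [Finite Q₂]
variable {Δ : Type w} [Group Δ] (τ : Δ →* Q₁ × Q₂)

theorem exists_pow_D1 (hτ : Function.Surjective τ) (hc : τ.ker ≤ Subgroup.center Δ)
    (d : Δ) (hd : d ∈ D1 τ) :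
    ∃ k ∈ Subgroup.center Δ, ∃ c ∈ ⁅D1 τ, D1 τ⁆,
      d ^ Nat.card (Abelianization Q₁) = k * c := by
  obtain ⟨k, hk, c, hcc, h⟩ := exists_pow_card_ab (t1 τ) (t1_surjective τ hτ) ⟨d, hd⟩
  refine ⟨(k : Δ), hc ((mem_ker_t1 τ k).mp hk), (c : Δ), ?_, ?_⟩
  · rw [← Subgroup.map_subtype_commutator]
    exact ⟨c, hcc, rfl⟩
  · have := congrArg (fun z : D1 τ => (z : Δ)) h
    simpa using this

theorem exists_pow_D2 (hτ : Function.Surjective τ) (hc : τ.ker ≤ Subgroup.center Δ)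
    (d : Δ) (hd : d ∈ D2 τ) :
    ∃ k ∈ Subgroup.center Δ, ∃ c ∈ ⁅D2 τ, D2 τ⁆,
      d ^ Nat.card (Abelianization Q₂) = k * c := by
  obtain ⟨k, hk, c, hcc, h⟩ := exists_pow_card_ab (t2 τ) (t2_surjective τ hτ) ⟨d, hd⟩
  refine ⟨(k : Δ), hc ((mem_ker_t2 τ k).mp hk), (c : Δ), ?_, ?_⟩
  · rw [← Subgroup.map_subtype_commutator]
    exact ⟨c, hcc, rfl⟩
  · have := congrArg (fun z : D2 τ => (z : Δ)) h
    simpa using this

/-- in the coprime case the two preimages commute. -/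
theorem C12_eq_bot (hτ : Function.Surjective τ) (hc : τ.ker ≤ Subgroup.center Δ)
    (hcop : Nat.Coprime (Nat.card (Abelianization Q₁)) (Nat.card (Abelianization Q₂))) :
    ⁅D1 τ, D2 τ⁆ = ⊥ := by
  rw [Subgroup.commutator_eq_bot_iff_le_centralizer]
  intro d₁ hd₁
  rw [Subgroup.mem_centralizer_iff]
  intro d₂ hd₂
  have hcen : ∀ a ∈ D1 τ, ∀ b ∈ D2 τ, ⁅a, b⁆ ∈ Subgroup.center Δ :=
    fun a ha b hb => hc (comm_mem_ker τ ha hb)
  have hcen' : ∀ b ∈ D2 τ, ∀ a ∈ D1 τ, ⁅b, a⁆ ∈ Subgroup.center Δ := by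
    intro b hb a ha
    rw [← commutatorElement_inv]
    exact Subgroup.inv_mem _ (hcen a ha b hb)
  have e1 : ⁅d₁, d₂⁆ ^ Nat.card (Abelianization Q₁) = 1 := by
    obtain ⟨k, hk, c, hcc, h⟩ := exists_pow_D1 τ hτ hc d₁ hd₁
    exact comm_pow_eq_one (D1 τ) d₂ (fun a ha => hcen a ha d₂ hd₂) d₁ hd₁ _ k c hk hcc h
  have e2 : ⁅d₁, d₂⁆ ^ Nat.card (Abelianization Q₂) = 1 := by
    obtain ⟨k, hk, c, hcc, h⟩ := exists_pow_D2 τ hτ hc d₂ hd₂
    have := comm_pow_eq_one (D2 τ) d₁ (fun a ha => hcen' a ha d₁ hd₁) d₂ hd₂ _ k c hk hcc h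
    rw [← commutatorElement_inv, inv_pow, inv_eq_one] at this
    exact this
  have e3 : ⁅d₁, d₂⁆ = 1 := by
    have h1 := orderOf_dvd_of_pow_eq_one e1
    have h2 := orderOf_dvd_of_pow_eq_one e2
    have h3 : orderOf ⁅d₁, d₂⁆ ∣ 1 := by
      rw [← Nat.Coprime.gcd_eq_one hcop]
      exact Nat.dvd_gcd h1 h2
    exact orderOf_eq_one_iff.mp (Nat.dvd_one.mp h3)
  rw [commutatorElement_eq_one_iff_commute] at e3
  exact e3.eq.symm

end Coprime

end Cfsg.Agent.helper20.Schur
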