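import Mathlib
import Cfsg.Agent.Lib_helper20_Schur3
import Cfsg.Agent.Lib_helper20_Schur4
import Cfsg.Agent.Lib_helper20_Schur7

set_option autoImplicit false
set_option linter.style.haveILetI false

/-! Uniqueness of the Schur cover over `Q` when `|Qᵃᵇ|` is coprime to the multiplier. -/

namespace Cfsg.Agent.helper20.Schur

universe u v w

open scoped commutatorElement

section CoverData

variable {Q : Type u} [Group Q] [Finite Q] {α : Type w} [Finite α] (π : FreeGroup α →* Q)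

/-- A stem extension whose kernel has the order of the multiplier, seen from `E`. -/
theorem cover_data (hπ : Function.Surjective π) {Γ : Type v} [Group Γ] [Finite Γ] (σ : Γ →* Q)
    (hσ : Cfsg.IsStemExtension σ) (hc : Nat.card σ.ker = Nat.card (MM π)) :
    ∃ f : EE π →* Γ, σ.comp f = eps π ∧ Function.Surjective f ∧ MM π ⊓ f.ker = ⊥ ∧
      σ.ker = (MM π).map f := by
  obtain ⟨hs, hcen, hd⟩ := hσ
  haveI := finite_MM π
  obtain ⟨f, hf⟩ := exists_lift π σ hs hcen
  have hf' : ∀ x, σ (f x) = eps π x := fun x => by rw [← hf]; rfl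
  have hfs : Function.Surjective f := surjective_of_stem π σ f hπ hcen hd hf
  have hker : σ.ker = (MM π).map f := ker_eq_map_of_stem π σ f hπ hcen hd hf
  have hcard : Nat.card (MM π) = Nat.card ((MM π).map f) := by
    rw [← hc, Nat.card_congr (MulEquiv.subgroupCongr hker).toEquiv]
  have hgs : Function.Surjective (f.subgroupMap (MM π)) := f.subgroupMap_surjective _
  have hgb : Function.Bijective (f.subgroupMap (MM π)) :=
    hgs.bijective_of_nat_card_le (le_of_eq hcard)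
  refine ⟨f, hf, hfs, ?_, hker⟩
  rw [eq_bot_iff]
  intro x hx
  obtain ⟨hxM, hx1⟩ := Subgroup.mem_inf.mp hx
  have h1 : f.subgroupMap (MM π) ⟨x, hxM⟩ = f.subgroupMap (MM π) 1 := by
    apply Subtype.ext
    rw [map_one]
    exact MonoidHom.mem_ker.mp hx1
  have h2 := hgb.1 h1
  rw [Subgroup.mem_bot]
  exact congrArg Subtype.val h2

end CoverData

section Iso

variable {Q : Type u} [Group Q] [Finite Q] {α : Type w} [Finite α] (π : FreeGroup α →* Q)

theorem exists_iso_of_coprime (hπ : Function.Surjective π)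
    (hcop : Nat.Coprime (Nat.card (Abelianization Q)) (Nat.card (MM π)))
    {Γ₁ : Type v} {Γ₂ : Type v} [Group Γ₁] [Finite Γ₁] [Group Γ₂] [Finite Γ₂]
    (σ₁ : Γ₁ →* Q) (σ₂ : Γ₂ →* Q)
    (h₁ : Cfsg.IsStemExtension σ₁) (h₂ : Cfsg.IsStemExtension σ₂)
    (hc₁ : Nat.card σ₁.ker = Nat.card (MM π)) (hc₂ : Nat.card σ₂.ker = Nat.card (MM π)) :
    ∃ e : Γ₁ ≃* Γ₂, σ₂.comp e.toMonoidHom = σ₁ := by
  haveI := finite_MM π
  obtain ⟨f₁, hf₁, hf₁s, hf₁M, hk₁⟩ := cover_data π hπ σ₁ h₁ hc₁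
  obtain ⟨f₂, hf₂, hf₂s, hf₂M, hk₂⟩ := cover_data π hπ σ₂ h₂ hc₂
  have hf₁' : ∀ x, σ₁ (f₁ x) = eps π x := fun x => by rw [← hf₁]; rfl
  have hf₂' : ∀ x, σ₂ (f₂ x) = eps π x := fun x => by rw [← hf₂]; rfl
  set k := Nat.card (Abelianization Q) with hk
  letI instM : CommGroup (MM π) :=
    { (inferInstance : Group (MM π)) with
      mul_comm := fun a b => Subtype.ext
        ((Subgroup.mem_center_iff.mp
          (ker_eps_le_center π ((inf_le_left : MM π ≤ _) a.2)) b).symm) }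
  -- the restriction of f₂ to M is an isomorphism onto ker σ₂
  let g₂ : MM π →* σ₂.ker :=
    (MulEquiv.subgroupCongr hk₂.symm).toMonoidHom.comp (f₂.subgroupMap (MM π))
  have hg₂v : ∀ m : MM π, ((g₂ m : σ₂.ker) : Γ₂) = f₂ (m : EE π) := fun m => rfl
  have hg₂s : Function.Surjective g₂ := by
    show Function.Surjective ((MulEquiv.subgroupCongr hk₂.symm) ∘ (f₂.subgroupMap (MM π)))
    exact (MulEquiv.subgroupCongr hk₂.symm).surjective.comp (f₂.subgroupMap_surjective _)
  have hg₂i : Function.Injective g₂ := by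
    rw [injective_iff_map_eq_one]
    intro m hm
    have h2 : f₂ (m : EE π) = 1 := congrArg Subtype.val hm
    have h3 : (m : EE π) ∈ MM π ⊓ f₂.ker :=
      Subgroup.mem_inf.mpr ⟨m.2, MonoidHom.mem_ker.mpr h2⟩
    rw [hf₂M, Subgroup.mem_bot] at h3
    exact Subtype.ext h3
  let G₂ : MM π ≃* σ₂.ker := MulEquiv.ofBijective g₂ ⟨hg₂i, hg₂s⟩
  -- projection of the kernel onto M along ker f₂
  have hBk : ∀ b : (eps π).ker, f₂ (b : EE π) ∈ σ₂.ker := by
    intro b
    rw [MonoidHom.mem_ker, hf₂']; exact b.2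
  let μ : (eps π).ker →* MM π :=
    G₂.symm.toMonoidHom.comp ((f₂.comp (eps π).ker.subtype).codRestrict σ₂.ker hBk)
  have hμ : ∀ b : (eps π).ker, f₂ ((μ b : MM π) : EE π) = f₂ (b : EE π) := by
    intro b
    have h1 : G₂ (μ b) = ⟨f₂ (b : EE π), hBk b⟩ := by
      simp only [μ, MonoidHom.comp_apply, MulEquiv.coe_toMonoidHom, MulEquiv.apply_symm_apply]
      rfl
    have h2 := congrArg (fun z : σ₂.ker => (z : Γ₂)) h1
    exact h2
  -- C₁
  have hC₁B : f₁.ker ≤ (eps π).ker := by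
    intro x hx
    rw [MonoidHom.mem_ker, ← hf₁', MonoidHom.mem_ker.mp hx, map_one]
  have hC₁comm : f₁.ker ⊓ commutator (EE π) = ⊥ := by
    rw [eq_bot_iff]
    intro x hx
    obtain ⟨hx1, hx2⟩ := Subgroup.mem_inf.mp hx
    have : x ∈ MM π ⊓ f₁.ker :=
      Subgroup.mem_inf.mpr ⟨Subgroup.mem_inf.mpr ⟨hC₁B hx1, hx2⟩, hx1⟩
    rw [hf₁M] at this
    exact this
  let j : f₁.ker →* Abelianization (EE π) := Abelianization.of.comp f₁.ker.subtype
  have hj : Function.Injective j := by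
    rw [injective_iff_map_eq_one]
    intro c hc
    have h1 : (c : EE π) ∈ commutator (EE π) := by
      rw [← Abelianization.ker_of, MonoidHom.mem_ker]; exact hc
    have h2 : (c : EE π) ∈ f₁.ker ⊓ commutator (EE π) := Subgroup.mem_inf.mpr ⟨c.2, h1⟩
    rw [hC₁comm, Subgroup.mem_bot] at h2
    exact Subtype.ext h2
  let ej : f₁.ker ≃* j.range := MonoidHom.ofInjective hj
  have hpow : ∀ y : Abelianization (EE π), (powMonoidHom k) y ∈ j.range := by
    intro y
    obtain ⟨x, rfl⟩ := QuotientGroup.mk_surjective (s := commutator (EE π)) y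
    -- f₁ x ^ k ∈ commutator Γ₁
    obtain ⟨z, hz, γ, hγ, hzγ⟩ := exists_pow_card_ab σ₁ h₁.1 (f₁ x)
    have hγ' : z * γ ∈ commutator Γ₁ := (commutator Γ₁).mul_mem (h₁.2.2 hz) hγ
    rw [← hzγ, commutator_eq_map π σ₁ f₁ hπ h₁.2.1 hf₁] at hγ'
    obtain ⟨e', he', hee⟩ := hγ'
    have hmem : x ^ k * e'⁻¹ ∈ f₁.ker := by
      rw [MonoidHom.mem_ker, map_mul, map_inv, map_pow, hee, mul_inv_cancel]
    refine ⟨⟨x ^ k * e'⁻¹, hmem⟩, ?_⟩
    show Abelianization.of (x ^ k * e'⁻¹) = (Abelianization.of x) ^ k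
    rw [map_mul, map_inv, map_pow]
    have : Abelianization.of e' = 1 := by
      rw [← MonoidHom.mem_ker, Abelianization.ker_of]; exact he'
    rw [this, inv_one, mul_one]
  let P : Abelianization (EE π) →* j.range := (powMonoidHom k).codRestrict j.range hpow
  let μC : f₁.ker →* MM π := μ.comp (Subgroup.inclusion hC₁B)
  -- the k-th power automorphism of M
  have hκi : Function.Injective (powMonoidHom k : MM π →* MM π) := by
    rw [injective_iff_map_eq_one]
    intro m hm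
    have h1 : orderOf m ∣ k := orderOf_dvd_of_pow_eq_one hm
    have h2 : orderOf m ∣ Nat.card (MM π) := orderOf_dvd_natCard m
    have h3 : orderOf m ∣ 1 := by
      rw [← Nat.Coprime.gcd_eq_one hcop]
      exact Nat.dvd_gcd h1 h2
    exact orderOf_eq_one_iff.mp (Nat.dvd_one.mp h3)
  have hκb : Function.Bijective (powMonoidHom k : MM π →* MM π) :=
    ⟨hκi, Finite.surjective_of_injective hκi⟩
  let κe : MM π ≃* MM π := MulEquiv.ofBijective (powMonoidHom k) hκb
  let δbar : Abelianization (EE π) →* MM π :=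
    (κe.symm.toMonoidHom.comp (μC.comp (ej.symm.toMonoidHom.comp P)))⁻¹
  let δ : EE π →* MM π := δbar.comp Abelianization.of
  have hδC : ∀ c : f₁.ker, δ (c : EE π) = (μC c)⁻¹ := by
    intro c
    have h1 : P (Abelianization.of (c : EE π)) = ej (c ^ k) := by
      apply Subtype.ext
      show (Abelianization.of (c : EE π)) ^ k = Abelianization.of ((c ^ k : f₁.ker) : EE π)
      rw [Subgroup.coe_pow, map_pow]
    show (κe.symm (μC (ej.symm (P (Abelianization.of (c : EE π))))))⁻¹ = _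
    rw [h1, MulEquiv.symm_apply_apply, map_pow]
    congr 1
    rw [MulEquiv.symm_apply_eq]
    rfl
  have hδcomm : ∀ x ∈ commutator (EE π), δ x = 1 := by
    intro x hx
    show δbar (Abelianization.of x) = 1
    have : Abelianization.of x = 1 := by
      rw [← MonoidHom.mem_ker, Abelianization.ker_of]; exact hx
    rw [this, map_one]
  have hδcen : ∀ x, ((δ x : MM π) : EE π) ∈ Subgroup.center (EE π) := fun x =>
    ker_eps_le_center π ((inf_le_left : MM π ≤ _) (δ x).2)
  let θ : EE π →* EE π :=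
    { toFun := fun x => x * ((δ x : MM π) : EE π)
      map_one' := by simp
      map_mul' := by
        intro x y
        have h1 := Subgroup.mem_center_iff.mp (hδcen x) y
        rw [map_mul, Subgroup.coe_mul, mul_assoc, ← mul_assoc y, h1]
        simp only [mul_assoc] }
  have hθ : ∀ x, θ x = x * ((δ x : MM π) : EE π) := fun x => rfl
  have hθeps : ∀ x, eps π (θ x) = eps π x := by
    intro x
    rw [hθ, map_mul]
    have : ((δ x : MM π) : EE π) ∈ (eps π).ker := (inf_le_left : MM π ≤ _) (δ x).2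
    rw [MonoidHom.mem_ker.mp this, mul_one]
  have hθC : ∀ c ∈ f₁.ker, f₂ (θ c) = 1 := by
    intro c hc
    rw [hθ, map_mul, hδC ⟨c, hc⟩]
    have h1 := hμ ⟨c, hC₁B hc⟩
    show f₂ c * f₂ (((μC ⟨c, hc⟩)⁻¹ : MM π) : EE π) = 1
    rw [Subgroup.coe_inv, map_inv]
    have h2 : f₂ ((μC ⟨c, hc⟩ : MM π) : EE π) = f₂ c := h1
    rw [h2, mul_inv_cancel]
  have hθs : Function.Surjective θ := by
    intro x
    refine ⟨x * ((δ x : MM π) : EE π)⁻¹, ?_⟩
    rw [hθ, map_mul]
    have h1 : δ (((δ x : MM π) : EE π)⁻¹) = 1 :=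
      hδcomm _ ((commutator (EE π)).inv_mem ((inf_le_right : MM π ≤ _) (δ x).2))
    rw [h1, mul_one, inv_mul_cancel_right]
  -- the induced map
  have hker : f₁.ker ≤ (f₂.comp θ).ker := by
    intro c hc
    rw [MonoidHom.mem_ker, MonoidHom.comp_apply]
    exact hθC c hc
  let e₀ : Γ₁ →* Γ₂ := f₁.liftOfSurjective hf₁s ⟨f₂.comp θ, hker⟩
  have he₀ : ∀ x, e₀ (f₁ x) = f₂ (θ x) := fun x =>
    MonoidHom.liftOfRightInverse_comp_apply _ _ _ _ x
  have he₀s : Function.Surjective e₀ := by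
    intro y
    obtain ⟨x, rfl⟩ := hf₂s y
    obtain ⟨x', rfl⟩ := hθs x
    exact ⟨f₁ x', he₀ x'⟩
  have hcardΓ : ∀ {Γ : Type v} [Group Γ] [Finite Γ] (σ : Γ →* Q), Function.Surjective σ →
      Nat.card σ.ker = Nat.card (MM π) → Nat.card Γ = Nat.card (MM π) * Nat.card Q := by
    intro Γ _ _ σ hs hc
    rw [← Subgroup.card_mul_index σ.ker, hc, Subgroup.index_ker,
      MonoidHom.range_eq_top.mpr hs]
    congr 1
    exact Nat.card_congr Subgroup.topEquiv.toEquiv
  have hcard : Nat.card Γ₁ = Nat.card Γ₂ := by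
    rw [hcardΓ σ₁ h₁.1 hc₁, hcardΓ σ₂ h₂.1 hc₂]
  have he₀b : Function.Bijective e₀ := he₀s.bijective_of_nat_card_le (le_of_eq hcard)
  refine ⟨MulEquiv.ofBijective e₀ he₀b, ?_⟩
  apply MonoidHom.ext
  intro y
  obtain ⟨x, rfl⟩ := hf₁s y
  show σ₂ (e₀ (f₁ x)) = σ₁ (f₁ x)
  rw [he₀, hf₂', hθeps, hf₁']

end Iso

end Cfsg.Agent.helper20.Schur
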