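import Mathlib
import Cfsg.Agent.Lib_helper20_Schur10

set_option autoImplicit false
set_option linter.style.haveILetI false

/-! Non-uniqueness of the Schur cover over `Q` when `|Qᵃᵇ|` is not coprime to the multiplier. -/

namespace Cfsg.Agent.helper20.Schur

universe u v w

open scoped commutatorElement

section AbHom

/-- additive core: a functional on a subgroup of a free abelian group that does not extend. -/
theorem exists_lin_not_dvd {A : Type*} [AddCommGroup A] [Module.Finite ℤ A]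
    [Module.IsTorsionFree ℤ A] (H : Submodule ℤ A) (p : ℕ) (hp : p.Prime) (x : A) (hx : x ∉ H)
    (hxp : (p : ℤ) • x ∈ H) {N : Type*} [AddCommGroup N] (n₁ : N)
    (hn₁ : ∀ n : N, (p : ℤ) • n ≠ n₁) :
    ∃ ψ : H →ₗ[ℤ] N, ∀ n : N, (p : ℤ) • n ≠ ψ ⟨(p : ℤ) • x, hxp⟩ := by
  haveI : Module.Finite ℤ H := inferInstance
  haveI : Module.IsTorsionFree ℤ H := inferInstance
  haveI : Module.Free ℤ H := Module.free_of_finite_type_torsion_free'
  let b := Module.Free.chooseBasis ℤ H
  have hp0 : (p : ℤ) ≠ 0 := by exact_mod_cast hp.ne_zero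
  have hex : ∃ i, ¬ ((p : ℤ) ∣ b.repr ⟨(p : ℤ) • x, hxp⟩ i) := by
    by_contra hcon
    push Not at hcon
    let g : Module.Free.ChooseBasisIndex ℤ H →₀ ℤ :=
      (b.repr ⟨(p : ℤ) • x, hxp⟩).mapRange (fun c => c / (p : ℤ)) (by simp)
    have hg : b.repr ⟨(p : ℤ) • x, hxp⟩ = (p : ℤ) • g := by
      ext i
      rw [Finsupp.smul_apply, Finsupp.mapRange_apply, smul_eq_mul]
      exact (Int.mul_ediv_cancel' (hcon i)).symm
    have h1 : (⟨(p : ℤ) • x, hxp⟩ : H) = (p : ℤ) • b.repr.symm g := by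
      apply b.repr.injective
      rw [map_smul, LinearEquiv.apply_symm_apply, hg]
    have h2 : (p : ℤ) • x = (p : ℤ) • ((b.repr.symm g : H) : A) := by
      have := congrArg (fun z : H => (z : A)) h1
      simpa using this
    have h3 : x = ((b.repr.symm g : H) : A) := smul_right_injective A hp0 h2
    apply hx
    rw [h3]
    exact (b.repr.symm g).2
  obtain ⟨i, hi⟩ := hex
  refine ⟨(LinearMap.toSpanSingleton ℤ N n₁).comp (b.coord i), ?_⟩
  intro n hn
  have h1 : ((LinearMap.toSpanSingleton ℤ N n₁).comp (b.coord i)) ⟨(p : ℤ) • x, hxp⟩ =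
      (b.repr ⟨(p : ℤ) • x, hxp⟩ i) • n₁ := by
    simp [LinearMap.toSpanSingleton_apply]
  rw [h1] at hn
  set c := b.repr ⟨(p : ℤ) • x, hxp⟩ i with hc
  have hcop : IsCoprime c (p : ℤ) := by
    have hpp : Prime (p : ℤ) := Nat.prime_iff_prime_int.mp hp
    exact (IsCoprime.symm ((Prime.coprime_iff_not_dvd hpp).mpr hi))
  obtain ⟨u, v, huv⟩ := hcop
  apply hn₁ (u • n + v • n₁)
  have : n₁ = (u * c + v * (p : ℤ)) • n₁ := by rw [huv, one_smul]
  conv_rhs => rw [this]
  rw [add_smul, mul_smul, ← hn, smul_add, smul_smul, smul_smul, smul_smul]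
  congr 1
  · rw [mul_comm]
  · rw [mul_comm]

/-- multiplicative form. -/
theorem exists_hom_not_pow {A : Type*} [CommGroup A] [Group.FG A]
    (htf : ∀ (n : ℕ) (z : A), 0 < n → z ^ n = 1 → z = 1) (H : Subgroup A) (p : ℕ) (hp : p.Prime)
    (x : A) (hx : x ∉ H) (hxp : x ^ p ∈ H) {M : Type*} [Group M]
    (hM : ∀ a b : M, a * b = b * a) (m₁ : M) (hm₁ : ∀ m : M, m ^ p ≠ m₁) :
    ∃ ψ : H →* M, ∀ m : M, m ^ p ≠ ψ ⟨x ^ p, hxp⟩ := by
  letI : CommGroup M := { (inferInstance : Group M) with mul_comm := hM }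
  haveI : AddGroup.FG (Additive A) := GroupFG.iff_add_fg.mp inferInstance
  haveI : Module.Finite ℤ (Additive A) := Module.Finite.iff_addGroup_fg.mpr inferInstance
  haveI : Module.IsTorsionFree ℤ (Additive A) := Module.IsTorsionFree.of_smul_eq_zero (by
    intro n a h
    by_cases hn : n = 0
    · left; exact hn
    · right
      have h1 : (Additive.toMul a) ^ n = 1 := congrArg Additive.toMul h
      have h2 : (Additive.toMul a) ^ n.natAbs = 1 := by
        rcases Int.natAbs_eq n with h' | h'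
        · rw [h', zpow_natCast] at h1; exact h1
        · rw [h', zpow_neg, zpow_natCast, inv_eq_one] at h1; exact h1
      have h3 := htf n.natAbs _ (Int.natAbs_pos.mpr hn) h2
      exact Additive.toMul.injective h3)
  let HH : Submodule ℤ (Additive A) := (Subgroup.toAddSubgroup H).toIntSubmodule
  have hHH : ∀ a : Additive A, a ∈ HH ↔ Additive.toMul a ∈ H := fun a => Iff.rfl
  have hxp' : (p : ℤ) • Additive.ofMul x ∈ HH := by
    rw [hHH]
    have : Additive.toMul ((p : ℤ) • Additive.ofMul x) = x ^ (p : ℤ) := rfl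
    rw [this, zpow_natCast]
    exact hxp
  obtain ⟨ψ, hψ⟩ := exists_lin_not_dvd HH p hp (Additive.ofMul x) hx hxp' (Additive.ofMul m₁) (by
    intro n hn
    apply hm₁ (Additive.toMul n)
    have h1 := congrArg Additive.toMul hn
    have h2 : Additive.toMul ((p : ℤ) • n) = (Additive.toMul n) ^ (p : ℤ) := rfl
    rw [h2, zpow_natCast] at h1
    exact h1)
  refine ⟨{ toFun := fun h => Additive.toMul (ψ ⟨Additive.ofMul (h : A), h.2⟩)
            map_one' := ?_
            map_mul' := ?_ }, ?_⟩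
  · show Additive.toMul (ψ (0 : HH)) = 1
    rw [map_zero]; rfl
  · intro a b
    show Additive.toMul (ψ ((⟨Additive.ofMul (a : A), a.2⟩ : HH) + ⟨Additive.ofMul (b : A), b.2⟩))
      = _
    rw [map_add]; rfl
  · intro m hm
    apply hψ (Additive.ofMul m)
    have h2 : Additive.toMul ((p : ℤ) • Additive.ofMul m) = m ^ (p : ℤ) := rfl
    apply Additive.toMul.injective
    rw [h2, zpow_natCast, hm]
    show Additive.toMul (ψ ⟨Additive.ofMul (x ^ p), _⟩) = Additive.toMul (ψ ⟨(p : ℤ) • Additive.ofMul x, _⟩)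
    congr 2
    apply Subtype.ext
    show Additive.ofMul (x ^ p) = (p : ℤ) • Additive.ofMul x
    apply Additive.toMul.injective
    have h3 : Additive.toMul ((p : ℤ) • Additive.ofMul x) = x ^ (p : ℤ) := rfl
    rw [h3, zpow_natCast]; rfl

end AbHom

section NonUnique

variable {Q : Type u} [Group Q] [Finite Q] {α : Type u} [Finite α] (π : FreeGroup α →* Q)

theorem coprime_of_unique (hπ : Function.Surjective π)
    (huniq : ∀ (Γ₁ Γ₂ : Type u) [Group Γ₁] [Finite Γ₁] [Group Γ₂] [Finite Γ₂] (σ₁ : Γ₁ →* Q)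
      (σ₂ : Γ₂ →* Q), Cfsg.IsStemExtension σ₁ → Cfsg.IsStemExtension σ₂ →
      Nonempty (σ₁.ker ≃* MM π) → Nonempty (σ₂.ker ≃* MM π) →
      ∃ e : Γ₁ ≃* Γ₂, σ₂.comp e.toMonoidHom = σ₁) :
    Nat.Coprime (Nat.card (Abelianization Q)) (Nat.card (MM π)) := by
  haveI := finite_MM π
  by_contra hcop
  obtain ⟨p, hp, hpk, hpM⟩ := Nat.Prime.not_coprime_iff_dvd.mp hcop
  haveI : Fact p.Prime := ⟨hp⟩
  -- an element of `M` which is not a `p`-th power
  obtain ⟨g, hg⟩ := exists_prime_orderOf_dvd_card' p hpM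
  have hm₁ : ∃ m₁ : MM π, ∀ m : MM π, m ^ p ≠ m₁ := by
    by_contra hcon
    push Not at hcon
    have hsurj : Function.Surjective (fun m : MM π => m ^ p) := fun m₁ => hcon m₁
    have hinj := Finite.injective_iff_surjective.mpr hsurj
    have h1 : (fun m : MM π => m ^ p) g = (fun m : MM π => m ^ p) 1 := by
      show g ^ p = 1 ^ p
      rw [one_pow, ← hg, pow_orderOf_eq_one]
    have h2 : g = 1 := hinj h1
    rw [h2, orderOf_one] at hg
    exact hp.one_lt.ne hg
  obtain ⟨m₁, hm₁⟩ := hm₁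
  -- an element of order `p` in the abelianization of `Q`
  obtain ⟨qb, hqb⟩ := exists_prime_orderOf_dvd_card' p hpk
  obtain ⟨q, hq⟩ : ∃ q, Abelianization.of q = qb := QuotientGroup.mk_surjective qb
  obtain ⟨x, hx⟩ := eps_surjective π hπ q
  haveI : Group.FG (EE π) := inferInstance
  haveI : Group.FG (Abelianization (EE π)) :=
    Group.fg_of_surjective (f := Abelianization.of) (QuotientGroup.mk_surjective)
  have htf : ∀ (n : ℕ) (z : Abelianization (EE π)), 0 < n → z ^ n = 1 → z = 1 := by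
    intro n z hn hz
    obtain ⟨y, rfl⟩ : ∃ y, Abelianization.of y = z := QuotientGroup.mk_surjective z
    rw [← map_pow] at hz
    have h1 : y ^ n ∈ commutator (EE π) := by
      rw [← Abelianization.ker_of, MonoidHom.mem_ker]; exact hz
    have h2 := mem_commutator_EE_of_pow π hn h1
    rw [← MonoidHom.mem_ker, Abelianization.ker_of]; exact h2
  have hxH : Abelianization.of x ∉ (eps π).ker.map Abelianization.of := by
    rintro ⟨b, hb, hbx⟩
    have h1 : Abelianization.map (eps π) (Abelianization.of b) =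
        Abelianization.map (eps π) (Abelianization.of x) := by rw [hbx]
    rw [Abelianization.map_of, Abelianization.map_of, MonoidHom.mem_ker.mp hb, map_one, hx, hq]
      at h1
    rw [← h1, orderOf_one] at hqb
    exact hp.one_lt.ne hqb
  have hqp : q ^ p ∈ commutator Q := by
    rw [← Abelianization.ker_of, MonoidHom.mem_ker, map_pow, hq, ← hqb, pow_orderOf_eq_one]
  have hcomm : commutator Q = (commutator (EE π)).map (eps π) := by
    rw [commutator_def, commutator_def, Subgroup.map_commutator, ← MonoidHom.range_eq_map,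
      MonoidHom.range_eq_top.mpr (eps_surjective π hπ)]
  rw [hcomm] at hqp
  obtain ⟨e₀, he₀, he₀q⟩ := hqp
  have hb₀ : x ^ p * e₀⁻¹ ∈ (eps π).ker := by
    rw [MonoidHom.mem_ker, map_mul, map_inv, map_pow, hx, he₀q, mul_inv_cancel]
  have hofE' : ∀ y ∈ commutator (EE π), Abelianization.of y = 1 := by
    intro y hy
    rw [← MonoidHom.mem_ker, Abelianization.ker_of]; exact hy
  have hxp : Abelianization.of x ^ p ∈ (eps π).ker.map Abelianization.of :=
    ⟨x ^ p * e₀⁻¹, hb₀, by rw [map_mul, map_inv, map_pow, hofE' e₀ he₀, inv_one, mul_one]⟩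
  obtain ⟨ψ, hψ⟩ := exists_hom_not_pow htf ((eps π).ker.map Abelianization.of) p hp
    (Abelianization.of x) hxH hxp (M := MM π)
    (fun a b => Subtype.ext ((Subgroup.mem_center_iff.mp
      (ker_eps_le_center π ((inf_le_left : MM π ≤ _) a.2)) b).symm)) m₁ hm₁
  let ofB : (eps π).ker →* (eps π).ker.map Abelianization.of :=
    Abelianization.of.subgroupMap (eps π).ker
  let ψ' : (eps π).ker →* MM π := ψ.comp ofB
  have hcenB : ∀ (b : (eps π).ker) (y : EE π), y * (b : EE π) = (b : EE π) * y :=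
    fun b y => Subgroup.mem_center_iff.mp (ker_eps_le_center π b.2) y
  let τ : (eps π).ker →* EE π :=
    MonoidHom.mk' (fun b => (b : EE π) * ((ψ' b : MM π) : EE π)) (by
      intro a b
      show ((a * b : (eps π).ker) : EE π) * ((ψ' (a * b) : MM π) : EE π) = _
      rw [map_mul, Subgroup.coe_mul, Subgroup.coe_mul]
      have h := hcenB b ((ψ' a : MM π) : EE π)
      calc (a : EE π) * (b : EE π) * (((ψ' a : MM π) : EE π) * ((ψ' b : MM π) : EE π))
          = (a : EE π) * ((b : EE π) * ((ψ' a : MM π) : EE π)) * ((ψ' b : MM π) : EE π) := by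
            group
        _ = (a : EE π) * (((ψ' a : MM π) : EE π) * (b : EE π)) * ((ψ' b : MM π) : EE π) := by
            rw [h]
        _ = _ := by group)
  have hτ : ∀ b : (eps π).ker, τ b = (b : EE π) * ((ψ' b : MM π) : EE π) := fun b => rfl
  obtain ⟨C, hS0, hS2, hS3⟩ := exists_compl π
  have hC₂0 : (C.subgroupOf (eps π).ker).map τ ≤ (eps π).ker := by
    rintro _ ⟨b, -, rfl⟩
    rw [hτ]
    exact Subgroup.mul_mem _ b.2 ((inf_le_left : MM π ≤ _) (ψ' b).2)
  have hC₂2 : ∀ y ∈ (C.subgroupOf (eps π).ker).map τ, y ∈ MM π → y = 1 := by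
    rintro _ ⟨b, hb, rfl⟩ hy
    have hbC : (b : EE π) ∈ C := Subgroup.mem_subgroupOf.mp hb
    have h1 : (b : EE π) ∈ MM π := by
      have h0 := Subgroup.mul_mem _ hy (Subgroup.inv_mem _ (ψ' b).2)
      rw [hτ, mul_inv_cancel_right] at h0
      exact h0
    have h2 : (b : EE π) = 1 := hS2 _ hbC h1
    have h3 : b = 1 := Subtype.ext h2
    rw [h3, map_one]
  have hC₂3 : ∀ y ∈ (eps π).ker, ∃ s ∈ (C.subgroupOf (eps π).ker).map τ, ∃ m ∈ MM π,
      y = s * m := by
    intro y hy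
    obtain ⟨s, hs, m, hm, rfl⟩ := hS3 y hy
    refine ⟨τ ⟨s, hS0 hs⟩, ⟨⟨s, hS0 hs⟩, Subgroup.mem_subgroupOf.mpr hs, rfl⟩,
      ((ψ' ⟨s, hS0 hs⟩ : MM π) : EE π)⁻¹ * m,
      Subgroup.mul_mem _ (Subgroup.inv_mem _ (ψ' _).2) hm, ?_⟩
    rw [hτ]
    group
  haveI hn₁ := normal_of_le_ker π C hS0
  haveI hn₂ := normal_of_le_ker π ((C.subgroupOf (eps π).ker).map τ) hC₂0
  haveI := finite_cover π C hS0 hS2 hS3
  haveI := finite_cover π ((C.subgroupOf (eps π).ker).map τ) hC₂0 hC₂2 hC₂3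
  obtain ⟨e₁⟩ := ker_covHom_equiv π C hS0 hS2 hS3
  obtain ⟨e₂⟩ := ker_covHom_equiv π ((C.subgroupOf (eps π).ker).map τ) hC₂0 hC₂2 hC₂3
  obtain ⟨e, he⟩ := huniq (EE π ⧸ C) (EE π ⧸ (C.subgroupOf (eps π).ker).map τ)
    (covHom π C hS0) (covHom π ((C.subgroupOf (eps π).ker).map τ) hC₂0)
    (covHom_stem π C hπ hS0 hS3)
    (covHom_stem π ((C.subgroupOf (eps π).ker).map τ) hπ hC₂0 hC₂3) ⟨e₁.symm⟩ ⟨e₂.symm⟩
  have he' : ∀ z, covHom π ((C.subgroupOf (eps π).ker).map τ) hC₂0 (e z) = covHom π C hS0 z :=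
    fun z => by rw [← he]; rfl
  have hδker : ∀ y : EE π,
      ((QuotientGroup.mk y : EE π ⧸ (C.subgroupOf (eps π).ker).map τ))⁻¹ *
        e (QuotientGroup.mk y) ∈ (covHom π ((C.subgroupOf (eps π).ker).map τ) hC₂0).ker := by
    intro y
    rw [MonoidHom.mem_ker, map_mul, map_inv, he', covHom_mk, covHom_mk, inv_mul_cancel]
  have hcen₂ := (covHom_stem π ((C.subgroupOf (eps π).ker).map τ) hπ hC₂0 hC₂3).2.1
  have hδcen : ∀ (y : EE π) (w : EE π ⧸ (C.subgroupOf (eps π).ker).map τ),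
      w * (((QuotientGroup.mk y : EE π ⧸ (C.subgroupOf (eps π).ker).map τ))⁻¹ *
        e (QuotientGroup.mk y)) =
      (((QuotientGroup.mk y : EE π ⧸ (C.subgroupOf (eps π).ker).map τ))⁻¹ *
        e (QuotientGroup.mk y)) * w :=
    fun y w => Subgroup.mem_center_iff.mp (hcen₂ (hδker y)) w
  let δ : EE π →* EE π ⧸ (C.subgroupOf (eps π).ker).map τ :=
    MonoidHom.mk' (fun y =>
      ((QuotientGroup.mk y : EE π ⧸ (C.subgroupOf (eps π).ker).map τ))⁻¹ *
        e (QuotientGroup.mk y)) (by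
      intro y z
      show ((QuotientGroup.mk (y * z) : EE π ⧸ (C.subgroupOf (eps π).ker).map τ))⁻¹ *
        e (QuotientGroup.mk (y * z)) = _
      rw [QuotientGroup.mk_mul, QuotientGroup.mk_mul, map_mul, mul_inv_rev]
      have hc := hδcen y ((QuotientGroup.mk z : EE π ⧸ (C.subgroupOf (eps π).ker).map τ))⁻¹
      calc ((QuotientGroup.mk z : EE π ⧸ (C.subgroupOf (eps π).ker).map τ))⁻¹ *
            ((QuotientGroup.mk y : EE π ⧸ (C.subgroupOf (eps π).ker).map τ))⁻¹ *
            (e (QuotientGroup.mk y) * e (QuotientGroup.mk z))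
          = ((QuotientGroup.mk z : EE π ⧸ (C.subgroupOf (eps π).ker).map τ))⁻¹ *
            (((QuotientGroup.mk y : EE π ⧸ (C.subgroupOf (eps π).ker).map τ))⁻¹ *
            e (QuotientGroup.mk y)) * e (QuotientGroup.mk z) := by group
        _ = (((QuotientGroup.mk y : EE π ⧸ (C.subgroupOf (eps π).ker).map τ))⁻¹ *
            e (QuotientGroup.mk y)) *
            ((QuotientGroup.mk z : EE π ⧸ (C.subgroupOf (eps π).ker).map τ))⁻¹ *
            e (QuotientGroup.mk z) := by rw [hc]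
        _ = _ := by group)
  have hδ : ∀ y, δ y = ((QuotientGroup.mk y : EE π ⧸ (C.subgroupOf (eps π).ker).map τ))⁻¹ *
        e (QuotientGroup.mk y) := fun y => rfl
  have hδE' : ∀ y ∈ commutator (EE π), δ y = 1 := by
    have hle : commutator (EE π) ≤ δ.ker := by
      rw [commutator_def, Subgroup.commutator_le]
      intro y _ z _
      rw [MonoidHom.mem_ker, map_commutatorElement, commutatorElement_def]
      have hc := hδcen y (δ z)
      rw [← hδ] at hc
      rw [← hc]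
      group
    intro y hy
    exact MonoidHom.mem_ker.mp (hle hy)
  obtain ⟨c, hc, m, hm, hb₀cm⟩ := hS3 _ hb₀
  have hδx : δ x ^ p = δ c := by
    rw [← map_pow]
    have h1 : x ^ p = c * (m * e₀) := by
      rw [← mul_assoc, ← hb₀cm]; group
    rw [h1, map_mul, hδE' (m * e₀) (Subgroup.mul_mem _ ((inf_le_right : MM π ≤ _) hm) he₀),
      mul_one]
  have hδc' : δ c = QuotientGroup.mk (((ψ' ⟨c, hS0 hc⟩ : MM π) : EE π)) := by
    rw [hδ, (QuotientGroup.eq_one_iff c).mpr hc, map_one, mul_one]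
    have h1 : (QuotientGroup.mk (c * ((ψ' ⟨c, hS0 hc⟩ : MM π) : EE π)) :
        EE π ⧸ (C.subgroupOf (eps π).ker).map τ) = 1 :=
      (QuotientGroup.eq_one_iff _).mpr ⟨⟨c, hS0 hc⟩, Subgroup.mem_subgroupOf.mpr hc, rfl⟩
    rw [QuotientGroup.mk_mul] at h1
    exact inv_eq_of_mul_eq_one_right h1
  obtain ⟨y, hy⟩ := QuotientGroup.mk_surjective (δ x)
  have hyker : y ∈ (eps π).ker := by
    rw [← mem_ker_covHom π ((C.subgroupOf (eps π).ker).map τ) hC₂0, hy, hδ]
    exact hδker x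
  obtain ⟨s, hs, m', hm', rfl⟩ := hC₂3 y hyker
  have hy' : δ x = QuotientGroup.mk m' := by
    rw [← hy, QuotientGroup.mk_mul, (QuotientGroup.eq_one_iff s).mpr hs, one_mul]
  rw [hy', hδc', ← QuotientGroup.mk_pow] at hδx
  have h3 : (m' ^ p)⁻¹ * ((ψ' ⟨c, hS0 hc⟩ : MM π) : EE π) ∈ (C.subgroupOf (eps π).ker).map τ :=
    QuotientGroup.eq.mp hδx
  have h4 := hC₂2 _ h3
    (Subgroup.mul_mem _ (Subgroup.inv_mem _ (Subgroup.pow_mem _ hm' p)) (ψ' _).2)
  have h5 : ((ψ' ⟨c, hS0 hc⟩ : MM π) : EE π) = m' ^ p := by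
    rw [inv_mul_eq_one] at h4; exact h4.symm
  have h6 : ψ' ⟨c, hS0 hc⟩ = ψ ⟨Abelianization.of x ^ p, hxp⟩ := by
    show ψ (ofB ⟨c, hS0 hc⟩) = _
    congr 1
    apply Subtype.ext
    show Abelianization.of c = Abelianization.of x ^ p
    have h7 := congrArg Abelianization.of hb₀cm
    rw [map_mul, map_mul, map_inv, map_pow, hofE' e₀ he₀, inv_one, mul_one,
      hofE' m ((inf_le_right : MM π ≤ _) hm), mul_one] at h7
    exact h7.symm
  refine hψ ⟨m', hm'⟩ ?_
  rw [← h6]
  apply Subtype.ext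
  rw [Subgroup.coe_pow]
  exact h5.symm

end NonUnique

end Cfsg.Agent.helper20.Schur
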