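import Mathlib
import Cfsg.Agent.Lib_helper20_Schur4

set_option autoImplicit false
set_option linter.style.haveILetI false

/-! Complements of the multiplier inside a prescribed finite-index subgroup of the central
kernel. -/

namespace Cfsg.Agent.helper20.Schur

universe u v w

open scoped commutatorElement

section ComplIn

variable {Q : Type u} [Group Q] {α : Type w} (π : FreeGroup α →* Q)

theorem exists_compl_in [Finite Q] [Finite α] (L : Subgroup (EE π)) (hL : L ≤ (eps π).ker)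
    [L.FiniteIndex]
    (hLM : ∀ x ∈ (eps π).ker, ∃ l ∈ L, ∃ m ∈ MM π, x = l * m) :
    ∃ S : Subgroup (EE π), S ≤ L ∧ (∀ x ∈ S, x ∈ MM π → x = 1) ∧
      ∀ x ∈ (eps π).ker, ∃ s ∈ S, ∃ m ∈ MM π, x = s * m := by
  haveI : Group.FG L := Subgroup.fg_of_index_ne_zero _
  letI : CommGroup L :=
    { (inferInstance : Group L) with
      mul_comm := fun a b => Subtype.ext
        ((Subgroup.mem_center_iff.mp (ker_eps_le_center π (hL a.2)) b).symm) }
  obtain ⟨S₀, hS1, hS2⟩ := exists_mul_complement ((MM π).subgroupOf L) (by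
    intro n z hn hz
    rw [Subgroup.mem_subgroupOf] at hz ⊢
    have h1 : ((z : EE π)) ^ n ∈ commutator (EE π) := by
      have h0 : ((z ^ n : L) : EE π) ∈ MM π := hz
      rw [Subgroup.coe_pow] at h0
      exact (inf_le_right : MM π ≤ _) h0
    have h2 := mem_commutator_EE_of_pow π hn h1
    exact Subgroup.mem_inf.mpr ⟨hL z.2, h2⟩)
  refine ⟨S₀.map L.subtype, ?_, ?_, ?_⟩
  · rintro _ ⟨s, -, rfl⟩
    exact s.2
  · rintro _ ⟨s, hs, rfl⟩ hm
    have := hS1 s hs (Subgroup.mem_subgroupOf.mpr hm)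
    rw [this]; rfl
  · intro x hx
    obtain ⟨l, hl, m₁, hm₁, rfl⟩ := hLM x hx
    obtain ⟨s, hs, b, hb, hls⟩ := hS2 ⟨l, hl⟩
    refine ⟨s, Subgroup.mem_map_of_mem _ hs, (b : EE π) * m₁,
      Subgroup.mul_mem _ (Subgroup.mem_subgroupOf.mp hb) hm₁, ?_⟩
    have h1 : l = (s : EE π) * (b : EE π) := congrArg Subtype.val hls
    rw [h1, mul_assoc]

end ComplIn

end Cfsg.Agent.helper20.Schur
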