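import Mathlib
import Cfsg.Agent.Lib_helper20_Schur1

set_option autoImplicit false
set_option linter.style.haveILetI false

/-! The central extension of `Γ₁ × Γ₂` by `Q₁ᵃᵇ ⊗ Q₂ᵃᵇ` with bilinear cocycle. -/

namespace Cfsg.Agent.helper20.Schur

universe u v w

open scoped commutatorElement TensorProduct

/-- `Q₁ᵃᵇ ⊗ Q₂ᵃᵇ`. -/
abbrev TT (Q₁ : Type u) (Q₂ : Type v) [Group Q₁] [Group Q₂] : Type (max u v) :=
  TensorProduct ℤ (Additive (Abelianization Q₁)) (Additive (Abelianization Q₂))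

section Abm

variable {Γ : Type*} {Q : Type*} [Group Γ] [Group Q] (σ : Γ →* Q)

/-- `Γ → Q → Qᵃᵇ`, additively. -/
def abm (g : Γ) : Additive (Abelianization Q) := Additive.ofMul (Abelianization.of (σ g))

theorem abm_mul (g h : Γ) : abm σ (g * h) = abm σ g + abm σ h := by
  simp [abm]

theorem abm_one : abm σ 1 = 0 := by simp [abm]

theorem abm_inv (g : Γ) : abm σ g⁻¹ = - abm σ g := by simp [abm]

theorem abm_of_mem_ker {g : Γ} (hg : g ∈ σ.ker) : abm σ g = 0 := by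
  simp [abm, MonoidHom.mem_ker.mp hg]

theorem abm_surjective (hσ : Function.Surjective σ) : Function.Surjective (abm σ) := by
  intro x
  obtain ⟨q, hq⟩ := QuotientGroup.mk_surjective (s := commutator Q) (Additive.toMul x)
  obtain ⟨g, rfl⟩ := hσ q
  exact ⟨g, by simp only [abm]; exact congrArg Additive.ofMul hq⟩

end Abm

section KG

variable {Q₁ : Type u} {Q₂ : Type v} [Group Q₁] [Group Q₂]
variable {Γ₁ : Type u} {Γ₂ : Type v} [Group Γ₁] [Group Γ₂]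

/-- the underlying type of the extension. -/
@[ext]
structure KG (σ₁ : Γ₁ →* Q₁) (σ₂ : Γ₂ →* Q₂) : Type (max u v) where
  /-- first coordinate -/
  a : Γ₁
  /-- second coordinate -/
  b : Γ₂
  /-- tensor coordinate -/
  t : TT Q₁ Q₂

variable (σ₁ : Γ₁ →* Q₁) (σ₂ : Γ₂ →* Q₂)

instance KG.instMul : Mul (KG σ₁ σ₂) :=
  ⟨fun g h => ⟨g.a * h.a, g.b * h.b, g.t + h.t + abm σ₁ h.a ⊗ₜ[ℤ] abm σ₂ g.b⟩⟩

instance KG.instOne : One (KG σ₁ σ₂) := ⟨⟨1, 1, 0⟩⟩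

instance KG.instInv : Inv (KG σ₁ σ₂) :=
  ⟨fun g => ⟨g.a⁻¹, g.b⁻¹, -g.t + abm σ₁ g.a ⊗ₜ[ℤ] abm σ₂ g.b⟩⟩

@[simp] theorem KG.mul_a (g h : KG σ₁ σ₂) : (g * h).a = g.a * h.a := rfl
@[simp] theorem KG.mul_b (g h : KG σ₁ σ₂) : (g * h).b = g.b * h.b := rfl
@[simp] theorem KG.mul_t (g h : KG σ₁ σ₂) :
    (g * h).t = g.t + h.t + abm σ₁ h.a ⊗ₜ[ℤ] abm σ₂ g.b := rfl
@[simp] theorem KG.one_a : (1 : KG σ₁ σ₂).a = 1 := rfl
@[simp] theorem KG.one_b : (1 : KG σ₁ σ₂).b = 1 := rfl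
@[simp] theorem KG.one_t : (1 : KG σ₁ σ₂).t = 0 := rfl
@[simp] theorem KG.inv_a (g : KG σ₁ σ₂) : (g⁻¹).a = g.a⁻¹ := rfl
@[simp] theorem KG.inv_b (g : KG σ₁ σ₂) : (g⁻¹).b = g.b⁻¹ := rfl
@[simp] theorem KG.inv_t (g : KG σ₁ σ₂) :
    (g⁻¹).t = -g.t + abm σ₁ g.a ⊗ₜ[ℤ] abm σ₂ g.b := rfl

instance KG.instGroup : Group (KG σ₁ σ₂) :=
  Group.ofLeftAxioms
    (by
      intro g h k
      ext
      · simp [mul_assoc]
      · simp [mul_assoc]
      · simp only [KG.mul_t, KG.mul_a, KG.mul_b, abm_mul, TensorProduct.tmul_add,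
          TensorProduct.add_tmul]
        abel)
    (by
      intro g
      ext
      · simp
      · simp
      · simp [abm_one])
    (by
      intro g
      ext
      · simp
      · simp
      · simp only [KG.mul_t, KG.inv_t, KG.inv_b, KG.one_t, abm_inv, TensorProduct.tmul_neg]
        abel)

instance KG.instFinite [Finite Γ₁] [Finite Γ₂] [Finite (TT Q₁ Q₂)] : Finite (KG σ₁ σ₂) :=
  Finite.of_injective (fun g : KG σ₁ σ₂ => (g.a, g.b, g.t)) (by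
    intro g h hgh
    simp only [Prod.mk.injEq] at hgh
    exact KG.ext hgh.1 hgh.2.1 hgh.2.2)

/-- the projection to `Q₁ × Q₂`. -/
def KG.proj : KG σ₁ σ₂ →* Q₁ × Q₂ where
  toFun g := (σ₁ g.a, σ₂ g.b)
  map_one' := by simp
  map_mul' g h := by simp

@[simp] theorem KG.proj_apply (g : KG σ₁ σ₂) : KG.proj σ₁ σ₂ g = (σ₁ g.a, σ₂ g.b) := rfl

theorem KG.mem_ker_proj (g : KG σ₁ σ₂) :
    g ∈ (KG.proj σ₁ σ₂).ker ↔ g.a ∈ σ₁.ker ∧ g.b ∈ σ₂.ker := by
  rw [MonoidHom.mem_ker, KG.proj_apply, Prod.mk_eq_one, MonoidHom.mem_ker, MonoidHom.mem_ker]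

/-- embeddings. -/
def KG.i1 : Γ₁ →* KG σ₁ σ₂ where
  toFun g := ⟨g, 1, 0⟩
  map_one' := rfl
  map_mul' g h := by
    ext
    · rfl
    · simp
    · simp [abm_one]

def KG.i2 : Γ₂ →* KG σ₁ σ₂ where
  toFun g := ⟨1, g, 0⟩
  map_one' := rfl
  map_mul' g h := by
    ext
    · simp
    · rfl
    · simp [abm_one]

def KG.i3 : Multiplicative (TT Q₁ Q₂) →* KG σ₁ σ₂ where
  toFun t := ⟨1, 1, Multiplicative.toAdd t⟩
  map_one' := rfl
  map_mul' s t := by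
    ext
    · simp
    · simp
    · simp [abm_one]

theorem KG.eq_prod (g : KG σ₁ σ₂) :
    g = KG.i1 σ₁ σ₂ g.a * KG.i2 σ₁ σ₂ g.b * KG.i3 σ₁ σ₂ (Multiplicative.ofAdd g.t) := by
  ext
  · simp [KG.i1, KG.i2, KG.i3]
  · simp [KG.i1, KG.i2, KG.i3]
  · simp [KG.i1, KG.i2, KG.i3, abm_one]

theorem KG.i3_tmul (a : Γ₁) (b : Γ₂) :
    KG.i3 σ₁ σ₂ (Multiplicative.ofAdd (abm σ₁ a ⊗ₜ[ℤ] abm σ₂ b)) =
      ⁅(KG.i2 σ₁ σ₂ b)⁻¹, (KG.i1 σ₁ σ₂ a)⁻¹⁆ := by
  rw [commutatorElement_def, inv_inv, inv_inv]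
  ext
  · simp [KG.i1, KG.i2, KG.i3]
  · simp [KG.i1, KG.i2, KG.i3]
  · simp [KG.i1, KG.i2, KG.i3, abm_one, abm_inv, TensorProduct.neg_tmul, TensorProduct.tmul_neg]

theorem KG.i3_mem_commutator (hσ₁ : Function.Surjective σ₁) (hσ₂ : Function.Surjective σ₂)
    (t : Multiplicative (TT Q₁ Q₂)) : KG.i3 σ₁ σ₂ t ∈ commutator (KG σ₁ σ₂) := by
  have key : ∀ s : TT Q₁ Q₂, KG.i3 σ₁ σ₂ (Multiplicative.ofAdd s) ∈ commutator (KG σ₁ σ₂) := by
    intro s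
    induction s using TensorProduct.induction_on with
    | zero => exact (commutator (KG σ₁ σ₂)).one_mem
    | tmul x y =>
      obtain ⟨a, rfl⟩ := abm_surjective σ₁ hσ₁ x
      obtain ⟨b, rfl⟩ := abm_surjective σ₂ hσ₂ y
      rw [KG.i3_tmul, commutator_def]
      exact Subgroup.commutator_mem_commutator (Subgroup.mem_top _) (Subgroup.mem_top _)
    | add x y hx hy =>
      rw [ofAdd_add, map_mul]
      exact (commutator (KG σ₁ σ₂)).mul_mem hx hy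
  exact key (Multiplicative.toAdd t)

theorem KG.proj_surjective (hσ₁ : Function.Surjective σ₁) (hσ₂ : Function.Surjective σ₂) :
    Function.Surjective (KG.proj σ₁ σ₂) := by
  rintro ⟨q₁, q₂⟩
  obtain ⟨a, rfl⟩ := hσ₁ q₁
  obtain ⟨b, rfl⟩ := hσ₂ q₂
  exact ⟨⟨a, b, 0⟩, rfl⟩

theorem KG.ker_proj_le_center (h₁ : σ₁.ker ≤ Subgroup.center Γ₁)
    (h₂ : σ₂.ker ≤ Subgroup.center Γ₂) :
    (KG.proj σ₁ σ₂).ker ≤ Subgroup.center (KG σ₁ σ₂) := by
  intro z hz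
  rw [KG.mem_ker_proj] at hz
  rw [Subgroup.mem_center_iff]
  intro g
  ext
  · exact Subgroup.mem_center_iff.mp (h₁ hz.1) g.a
  · exact Subgroup.mem_center_iff.mp (h₂ hz.2) g.b
  · simp only [KG.mul_t, abm_of_mem_ker σ₁ hz.1, abm_of_mem_ker σ₂ hz.2,
      TensorProduct.zero_tmul, TensorProduct.tmul_zero]
    abel

theorem KG.ker_proj_le_commutator (hσ₁ : Function.Surjective σ₁) (hσ₂ : Function.Surjective σ₂)
    (h₁ : σ₁.ker ≤ commutator Γ₁) (h₂ : σ₂.ker ≤ commutator Γ₂) :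
    (KG.proj σ₁ σ₂).ker ≤ commutator (KG σ₁ σ₂) := by
  intro z hz
  rw [KG.mem_ker_proj] at hz
  rw [KG.eq_prod σ₁ σ₂ z]
  have hm1 : (commutator Γ₁).map (KG.i1 σ₁ σ₂) ≤ commutator (KG σ₁ σ₂) := by
    rw [commutator_def, commutator_def, Subgroup.map_commutator]
    exact Subgroup.commutator_mono le_top le_top
  have hm2 : (commutator Γ₂).map (KG.i2 σ₁ σ₂) ≤ commutator (KG σ₁ σ₂) := by
    rw [commutator_def, commutator_def, Subgroup.map_commutator]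
    exact Subgroup.commutator_mono le_top le_top
  exact (commutator _).mul_mem ((commutator _).mul_mem
    (hm1 (Subgroup.mem_map_of_mem _ (h₁ hz.1))) (hm2 (Subgroup.mem_map_of_mem _ (h₂ hz.2))))
    (KG.i3_mem_commutator σ₁ σ₂ hσ₁ hσ₂ _)

/-- the kernel is `ker σ₁ × ker σ₂ × T`. -/
def KG.kerEquiv :
    (KG.proj σ₁ σ₂).ker ≃* σ₁.ker × σ₂.ker × Multiplicative (TT Q₁ Q₂) where
  toFun z := (⟨z.1.a, ((KG.mem_ker_proj σ₁ σ₂ z.1).mp z.2).1⟩,
    ⟨z.1.b, ((KG.mem_ker_proj σ₁ σ₂ z.1).mp z.2).2⟩, Multiplicative.ofAdd z.1.t)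
  invFun w := ⟨⟨w.1.1, w.2.1.1, Multiplicative.toAdd w.2.2⟩,
    (KG.mem_ker_proj σ₁ σ₂ _).mpr ⟨w.1.2, w.2.1.2⟩⟩
  left_inv z := by
    apply Subtype.ext
    rfl
  right_inv w := by
    rfl
  map_mul' z w := by
    apply Prod.ext
    · rfl
    apply Prod.ext
    · rfl
    · show Multiplicative.ofAdd (z.1 * w.1).t = Multiplicative.ofAdd z.1.t * Multiplicative.ofAdd w.1.t
      rw [KG.mul_t, abm_of_mem_ker σ₁ ((KG.mem_ker_proj σ₁ σ₂ w.1).mp w.2).1,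
        TensorProduct.zero_tmul, add_zero, ofAdd_add]

end KG

section FiniteTT

variable (Q₁ : Type u) (Q₂ : Type v) [Group Q₁] [Group Q₂] [Finite Q₁] [Finite Q₂]

instance finite_TT : Finite (TT Q₁ Q₂) := by
  set n := Nat.card (Abelianization Q₁) with hn
  haveI : NeZero n := ⟨Nat.card_pos.ne'⟩
  have hnt : ∀ t : TT Q₁ Q₂, n • t = 0 := by
    intro t
    induction t using TensorProduct.induction_on with
    | zero => simp
    | tmul x y =>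
      have h1 : n • x = 0 := by
        have : (Additive.toMul x) ^ n = 1 := pow_card_eq_one'
        exact congrArg Additive.ofMul this
      rw [← natCast_zsmul, TensorProduct.smul_tmul', natCast_zsmul, h1, TensorProduct.zero_tmul]
    | add x y hx hy => rw [smul_add, hx, hy, add_zero]
  haveI : Module.Finite ℤ (Additive (Abelianization Q₁)) := Module.Finite.of_finite
  haveI : Module.Finite ℤ (Additive (Abelianization Q₂)) := Module.Finite.of_finite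
  haveI : Module.Finite ℤ (TT Q₁ Q₂) := Module.Finite.tensorProduct ℤ _ _
  letI inst : Module (ZMod n) (TT Q₁ Q₂) := AddCommGroup.zmodModule hnt
  haveI inst2 : Module.Finite (ZMod n) (TT Q₁ Q₂) :=
    Module.Finite.of_restrictScalars_finite ℤ _ _
  exact @Module.finite_of_finite (ZMod n) (TT Q₁ Q₂) _ _ inst _ inst2

end FiniteTT

end Cfsg.Agent.helper20.Schur
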