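import Mathlib
import Cfsg.Agent.Lib_helper20_Schur7
import Cfsg.Agent.Lib_helper20_Schur8

set_option autoImplicit false
set_option linter.style.haveILetI false

/-! Bimultiplicative maps induce homs from `Q₁ᵃᵇ ⊗ Q₂ᵃᵇ`; the commutator pairing. -/

namespace Cfsg.Agent.helper20.Schur

universe u v w

open scoped commutatorElement TensorProduct IsMulCommutative

section Bilin

variable {Q₁ : Type u} {Q₂ : Type v} [Group Q₁] [Group Q₂]
variable {X₁ X₂ Z : Type*} [Group X₁] [Group X₂] [CommGroup Z]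

/-- a bimultiplicative map `X₁ × X₂ → Z` killing the kernels of `p₁, p₂` factors through
`Q₁ᵃᵇ ⊗ Q₂ᵃᵇ`. -/
theorem exists_tensor_hom (p₁ : X₁ →* Q₁) (p₂ : X₂ →* Q₂) (hp₁ : Function.Surjective p₁)
    (hp₂ : Function.Surjective p₂) (B : X₁ → X₂ → Z)
    (hB1 : ∀ x x' y, B (x * x') y = B x y * B x' y)
    (hB2 : ∀ x y y', B x (y * y') = B x y * B x y')
    (hk1 : ∀ x y, x ∈ p₁.ker → B x y = 1) (hk2 : ∀ x y, y ∈ p₂.ker → B x y = 1) :
    ∃ g : Multiplicative (TT Q₁ Q₂) →* Z,
      ∀ x y, g (Multiplicative.ofAdd (abm p₁ x ⊗ₜ[ℤ] abm p₂ y)) = B x y := by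
  have hB1one : ∀ y, B 1 y = 1 := by
    intro y
    have := hB1 1 1 y
    rw [mul_one] at this
    exact (mul_eq_left.mp this.symm)
  have hB2one : ∀ x, B x 1 = 1 := by
    intro x
    have := hB2 x 1 1
    rw [mul_one] at this
    exact (mul_eq_left.mp this.symm)
  -- step A
  let By : X₂ → (X₁ →* Z) := fun y =>
    { toFun := fun x => B x y
      map_one' := hB1one y
      map_mul' := fun x x' => hB1 x x' y }
  have hByker : ∀ y, p₁.ker ≤ (By y).ker := by
    intro y x hx
    rw [MonoidHom.mem_ker]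
    exact hk1 x y hx
  let φ : X₂ → (Abelianization Q₁ →* Z) := fun y =>
    Abelianization.lift (p₁.liftOfSurjective hp₁ ⟨By y, hByker y⟩)
  have hφ : ∀ y x, φ y (Abelianization.of (p₁ x)) = B x y := by
    intro y x
    simp only [φ]
    rw [Abelianization.lift_apply_of, MonoidHom.liftOfRightInverse_comp_apply]
    rfl
  have hφext : ∀ (f g : Abelianization Q₁ →* Z),
      (∀ x, f (Abelianization.of (p₁ x)) = g (Abelianization.of (p₁ x))) → f = g := by
    intro f g h
    apply Abelianization.hom_ext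
    apply MonoidHom.ext
    intro q
    obtain ⟨x, rfl⟩ := hp₁ q
    exact h x
  let ΦH : X₂ →* (Abelianization Q₁ →* Z) :=
    { toFun := φ
      map_one' := by
        apply hφext
        intro x
        rw [hφ, hB2one]; rfl
      map_mul' := by
        intro y y'
        apply hφext
        intro x
        rw [MonoidHom.mul_apply, hφ, hφ, hφ, hB2] }
  have hΦker : p₂.ker ≤ ΦH.ker := by
    intro y hy
    rw [MonoidHom.mem_ker]
    apply hφext
    intro x
    show φ y _ = _
    rw [hφ, hk2 x y hy]; rfl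
  let Ψ : Abelianization Q₂ →* (Abelianization Q₁ →* Z) :=
    Abelianization.lift (p₂.liftOfSurjective hp₂ ⟨ΦH, hΦker⟩)
  have hΨ : ∀ x y, Ψ (Abelianization.of (p₂ y)) (Abelianization.of (p₁ x)) = B x y := by
    intro x y
    simp only [Ψ]
    rw [Abelianization.lift_apply_of, MonoidHom.liftOfRightInverse_comp_apply]
    exact hφ y x
  -- step C: the bilinear map
  let β : Additive (Abelianization Q₁) →ₗ[ℤ] Additive (Abelianization Q₂) →ₗ[ℤ] Additive Z :=
    LinearMap.mk₂ ℤ (fun x y => Additive.ofMul (Ψ (Additive.toMul y) (Additive.toMul x)))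
      (by
        intro x₁ x₂ y
        show Additive.ofMul (Ψ (Additive.toMul y) (Additive.toMul x₁ * Additive.toMul x₂)) = _
        rw [map_mul]; rfl)
      (by
        intro c x y
        show Additive.ofMul (Ψ (Additive.toMul y) ((Additive.toMul x) ^ c)) = _
        rw [map_zpow]; rfl)
      (by
        intro x y₁ y₂
        show Additive.ofMul (Ψ (Additive.toMul y₁ * Additive.toMul y₂) (Additive.toMul x)) = _
        rw [map_mul, MonoidHom.mul_apply]; rfl)
      (by
        intro c x y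
        show Additive.ofMul (Ψ ((Additive.toMul y) ^ c) (Additive.toMul x)) = _
        have := map_zpow ((MonoidHom.eval (Additive.toMul x)).comp Ψ) (Additive.toMul y) c
        simp only [MonoidHom.comp_apply, MonoidHom.eval_apply_apply] at this
        rw [this]; rfl)
  let L : TT Q₁ Q₂ →ₗ[ℤ] Additive Z := TensorProduct.lift β
  refine ⟨AddMonoidHom.toMultiplicativeLeft L.toAddMonoidHom, ?_⟩
  intro x y
  show Additive.toMul (TensorProduct.lift β (abm p₁ x ⊗ₜ[ℤ] abm p₂ y)) = B x y
  rw [TensorProduct.lift.tmul]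
  exact hΨ x y

end Bilin

section Pairing

variable {Q₁ : Type u} {Q₂ : Type v} [Group Q₁] [Group Q₂] {Δ : Type w} [Group Δ]
variable (τ : Δ →* Q₁ × Q₂)

/-- `⁅x, e * e'⁆ = ⁅x, e⁆ * ⁅x, e'⁆` when `⁅e', x⁆` is central. -/
theorem comm_mul_right_of_central (x e e' : Δ) (h : ⁅e', x⁆ ∈ Subgroup.center Δ) :
    ⁅x, e * e'⁆ = ⁅x, e⁆ * ⁅x, e'⁆ := by
  have h1 := comm_mul_left_of_central e e' x h
  have h2 : ⁅x, e * e'⁆ = (⁅e * e', x⁆)⁻¹ := (commutatorElement_inv _ _).symm
  rw [h2, h1, mul_inv_rev, commutatorElement_inv, commutatorElement_inv]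
  have h3 : ⁅x, e'⁆ ∈ Subgroup.center Δ := by
    rw [← commutatorElement_inv]; exact Subgroup.inv_mem _ h
  exact (Subgroup.mem_center_iff.mp h3 _).symm

/-- the commutator pairing as a hom from the tensor product into the kernel. -/
theorem exists_pairing (hτ : Function.Surjective τ) (hc : τ.ker ≤ Subgroup.center Δ) :
    ∃ g : Multiplicative (TT Q₁ Q₂) →* τ.ker,
      ∀ c ∈ ⁅D1 τ, D2 τ⁆, ∃ t, ((g t : τ.ker) : Δ) = c := by
  have hcen : ∀ (x : D1 τ) (y : D2 τ), ⁅(x : Δ), (y : Δ)⁆ ∈ Subgroup.center Δ :=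
    fun x y => hc (comm_mem_ker τ x.2 y.2)
  have hcen' : ∀ (x : D1 τ) (y : D2 τ), ⁅(y : Δ), (x : Δ)⁆ ∈ Subgroup.center Δ := by
    intro x y
    rw [← commutatorElement_inv]; exact Subgroup.inv_mem _ (hcen x y)
  let B : D1 τ → D2 τ → Subgroup.center Δ := fun x y => ⟨⁅(x : Δ), (y : Δ)⁆, hcen x y⟩
  obtain ⟨g, hg⟩ := exists_tensor_hom (t1 τ) (t2 τ) (t1_surjective τ hτ) (t2_surjective τ hτ) B
    (by
      intro x x' y
      apply Subtype.ext
      simp only [B, Subgroup.coe_mul]
      exact comm_mul_left_of_central _ _ _ (hcen x' y))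
    (by
      intro x y y'
      apply Subtype.ext
      simp only [B, Subgroup.coe_mul]
      exact comm_mul_right_of_central _ _ _ (hcen' x y'))
    (by
      intro x y hx
      apply Subtype.ext
      simp only [B, OneMemClass.coe_one]
      rw [commutatorElement_eq_one_iff_commute]
      exact (Subgroup.mem_center_iff.mp (hc ((mem_ker_t1 τ x).mp hx)) _).symm)
    (by
      intro x y hy
      apply Subtype.ext
      simp only [B, OneMemClass.coe_one]
      rw [commutatorElement_eq_one_iff_commute]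
      exact (Subgroup.mem_center_iff.mp (hc ((mem_ker_t2 τ y).mp hy)) _))
  -- values in the kernel
  have hval : ∀ t : Multiplicative (TT Q₁ Q₂), ((g t : Subgroup.center Δ) : Δ) ∈ τ.ker := by
    have key : ∀ s : TT Q₁ Q₂,
        ((g (Multiplicative.ofAdd s) : Subgroup.center Δ) : Δ) ∈ τ.ker := by
      intro s
      induction s using TensorProduct.induction_on with
      | zero =>
        have : g (Multiplicative.ofAdd (0 : TT Q₁ Q₂)) = 1 := map_one g
        rw [this]; exact τ.ker.one_mem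
      | tmul a b =>
        obtain ⟨x, rfl⟩ := abm_surjective (t1 τ) (t1_surjective τ hτ) a
        obtain ⟨y, rfl⟩ := abm_surjective (t2 τ) (t2_surjective τ hτ) b
        rw [hg]
        exact comm_mem_ker τ x.2 y.2
      | add a b ha hb =>
        rw [ofAdd_add, map_mul, Subgroup.coe_mul]
        exact τ.ker.mul_mem ha hb
    intro t
    exact key (Multiplicative.toAdd t)
  let g' : Multiplicative (TT Q₁ Q₂) →* τ.ker :=
    ((Subgroup.center Δ).subtype.comp g).codRestrict τ.ker hval
  refine ⟨g', ?_⟩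
  -- the range contains the commutator
  have hle : ⁅D1 τ, D2 τ⁆ ≤ (τ.ker.subtype.comp g').range := by
    rw [Subgroup.commutator_le]
    intro a ha b hb
    refine ⟨Multiplicative.ofAdd (abm (t1 τ) ⟨a, ha⟩ ⊗ₜ[ℤ] abm (t2 τ) ⟨b, hb⟩), ?_⟩
    show ((g _ : Subgroup.center Δ) : Δ) = _
    rw [hg]
  intro c hcc
  obtain ⟨t, ht⟩ := hle hcc
  exact ⟨t, ht⟩

end Pairing

end Cfsg.Agent.helper20.Schur
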