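import Mathlib

/-! Helpers for the Sylow restriction of the Schur multiplier (helper20): a finitely generated
free group has a finite basis; a splitting lemma for finite abelian groups. -/

set_option autoImplicit false
set_option linter.style.haveILetI false

namespace Cfsg.Agent.helper20.Schur

/-- A finitely generated free group has a finite set of free generators. -/
theorem finite_of_fg_freeGroup {β : Type*} (h : Group.FG (FreeGroup β)) : Finite β := by
  classical
  by_contra hfin
  rw [not_finite_iff_infinite] at hfin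
  obtain ⟨T, hT⟩ := Group.fg_def.mp h
  have hβ₀ : (⋃ w ∈ (T : Set (FreeGroup β)), {a : β | a ∈ w.toWord.map Prod.fst}).Finite := by
    apply Set.Finite.biUnion T.finite_toSet
    intro w _
    exact List.finite_toSet _
  obtain ⟨b, hb⟩ := hβ₀.exists_notMem
  let φ : FreeGroup β →* Multiplicative ℤ :=
    FreeGroup.lift (fun a => if a = b then Multiplicative.ofAdd (1 : ℤ) else 1)
  have hle : Subgroup.closure (T : Set (FreeGroup β)) ≤ φ.ker := by
    rw [Subgroup.closure_le]
    intro w hw
    rw [SetLike.mem_coe, MonoidHom.mem_ker, ← FreeGroup.mk_toWord (x := w), FreeGroup.lift_mk]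
    apply List.prod_eq_one
    intro y hy
    obtain ⟨x, hx, rfl⟩ := List.mem_map.mp hy
    have hxb : x.1 ≠ b := by
      intro hxb
      apply hb
      simp only [Set.mem_iUnion]
      exact ⟨w, hw, List.mem_map.mpr ⟨x, hx, hxb⟩⟩
    simp [hxb]
  have h1 : FreeGroup.of b ∈ φ.ker := hle (by rw [hT]; exact Subgroup.mem_top _)
  rw [MonoidHom.mem_ker, FreeGroup.lift_apply_of, if_pos rfl] at h1
  have h2 : (1 : ℤ) = 0 := by
    have := congrArg Multiplicative.toAdd h1
    simpa using this
  omega

/-- Splitting lemma: if `r ∘ i` is the `n`-th power map on a finite abelian group `A` with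
`p ∤ n`, then the `p`-primary component of `A` is isomorphic to a direct factor of `B`. -/
theorem exists_direct_factor {A : Type*} {B : Type*} [CommGroup A] [Finite A] [CommGroup B]
    (p : ℕ) [hp : Fact p.Prime] (n : ℕ) (hn : ¬ p ∣ n) (i : A →* B) (r : B →* A)
    (hri : ∀ a, r (i a) = a ^ n) :
    ∃ C D : Subgroup B, C ⊓ D = ⊥ ∧ C ⊔ D = ⊤ ∧
      Nonempty (CommGroup.primaryComponent A p ≃* C) := by
  have hpn : p.Coprime n := (Nat.Prime.coprime_iff_not_dvd hp.out).mpr hn
  -- facts on the primary component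
  have F1 : ∀ a ∈ CommGroup.primaryComponent A p, a ^ n = 1 → a = 1 := by
    intro a ha han
    obtain ⟨k, hk⟩ := CommGroup.mem_primaryComponent.mp ha
    have h1 : orderOf a ∣ p ^ k := orderOf_dvd_of_pow_eq_one hk
    have h2 : orderOf a ∣ n := orderOf_dvd_of_pow_eq_one han
    have h3 : orderOf a ∣ Nat.gcd (p ^ k) n := Nat.dvd_gcd h1 h2
    rw [(Nat.Coprime.pow_left k hpn)] at h3
    exact orderOf_eq_one_iff.mp (Nat.dvd_one.mp h3)
  have F2 : ∀ a ∈ CommGroup.primaryComponent A p,
      ∃ a' ∈ CommGroup.primaryComponent A p, a' ^ n = a := by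
    intro a ha
    obtain ⟨k, hk⟩ := CommGroup.mem_primaryComponent.mp ha
    have h1 : orderOf a ∣ p ^ k := orderOf_dvd_of_pow_eq_one hk
    have hc : n.Coprime (orderOf a) :=
      Nat.Coprime.coprime_dvd_right h1 (Nat.Coprime.pow_right k hpn.symm)
    obtain ⟨m, hm⟩ := exists_pow_eq_self_of_coprime hc
    refine ⟨a ^ m, Subgroup.pow_mem _ ha m, ?_⟩
    rw [← pow_mul, mul_comm, pow_mul]
    exact hm
  -- the projection onto the primary component
  obtain ⟨k, m', hm', hN⟩ := Nat.exists_eq_pow_mul_and_not_dvd (Nat.card_pos (α := A)).ne' p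
    hp.out.ne_one
  have hcop : (p ^ k).Coprime m' :=
    Nat.Coprime.pow_left k ((Nat.Prime.coprime_iff_not_dvd hp.out).mpr hm')
  obtain ⟨c, hc1, hc2⟩ := Nat.chineseRemainder hcop 1 0
  have hmem : ∀ a : A, a ^ c ∈ CommGroup.primaryComponent A p := by
    intro a
    rw [CommGroup.mem_primaryComponent]
    refine ⟨k, ?_⟩
    rw [← pow_mul]
    obtain ⟨d, hd⟩ := (Nat.modEq_zero_iff_dvd).mp hc2
    have : c * p ^ k = Nat.card A * d := by rw [hN, hd]; ring
    rw [this, pow_mul, pow_card_eq_one', one_pow]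
  have hfix : ∀ a ∈ CommGroup.primaryComponent A p, a ^ c = a := by
    intro a ha
    obtain ⟨j, hj⟩ := CommGroup.mem_primaryComponent.mp ha
    have h1 : orderOf a ∣ p ^ j := orderOf_dvd_of_pow_eq_one hj
    obtain ⟨i', _, hi'⟩ := (Nat.dvd_prime_pow hp.out).mp h1
    have h2 : orderOf a ∣ p ^ k * m' := by rw [← hN]; exact orderOf_dvd_natCard a
    have h3 : orderOf a ∣ p ^ k := by
      have hc' : (orderOf a).Coprime m' := by
        rw [hi']
        exact Nat.Coprime.pow_left i' ((Nat.Prime.coprime_iff_not_dvd hp.out).mpr hm')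
      exact hc'.dvd_of_dvd_mul_right h2
    have h4 : c ≡ 1 [MOD orderOf a] := hc1.of_dvd h3
    have := (pow_eq_pow_iff_modEq (x := a) (n := c) (m := 1)).mpr h4
    rwa [pow_one] at this
  let q : A →* CommGroup.primaryComponent A p :=
    (powMonoidHom c).codRestrict (CommGroup.primaryComponent A p) hmem
  have hq : ∀ a : A, ((q a : CommGroup.primaryComponent A p) : A) = a ^ c := fun a => rfl
  let f : CommGroup.primaryComponent A p →* B := i.comp (CommGroup.primaryComponent A p).subtype
  have hf : Function.Injective f := by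
    rw [injective_iff_map_eq_one]
    intro a ha
    have h1 : (a : A) ^ n = 1 := by
      rw [← hri]
      have : i (a : A) = 1 := ha
      rw [this, map_one]
    exact Subtype.ext (F1 _ a.2 h1)
  refine ⟨f.range, (q.comp r).ker, ?_, ?_, ⟨MonoidHom.ofInjective hf⟩⟩
  · rw [eq_bot_iff]
    rintro b ⟨⟨a, rfl⟩, hb⟩
    have hb' : q (r (f a)) = 1 := hb
    have h1 : r (f a) = (a : A) ^ n := hri a
    have h2 : ((a : A) ^ n) ^ c = 1 := by
      have := congrArg Subtype.val hb'
      rw [hq, h1] at this
      exact this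
    rw [hfix _ (Subgroup.pow_mem _ a.2 n)] at h2
    have h3 : (a : A) = 1 := F1 _ a.2 h2
    rw [Subgroup.mem_bot]
    have : a = 1 := Subtype.ext h3
    rw [this, map_one]
  · rw [eq_top_iff]
    intro b _
    obtain ⟨a', ha', ha'n⟩ := F2 _ (q (r b)).2
    rw [Subgroup.mem_sup]
    refine ⟨f ⟨a', ha'⟩, ⟨_, rfl⟩, (f ⟨a', ha'⟩)⁻¹ * b, ?_, by group⟩
    rw [MonoidHom.mem_ker, map_mul, map_inv, inv_mul_eq_one]
    apply Subtype.ext
    show ((q (r (i a')) : CommGroup.primaryComponent A p) : A) =
      ((q (r b) : CommGroup.primaryComponent A p) : A)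
    rw [hri, hq, ha'n, hfix _ (q (r b)).2]

end Cfsg.Agent.helper20.Schur
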