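import Mathlib
import Cfsg.Agent.Lib_helper20_Schur3
import Cfsg.Agent.Lib_helper20_Schur4
import Cfsg.Agent.Lib_helper20_SchurSyl1

/-! Restriction (transfer) and corestriction between the Hopf multiplier of a finite group `G`
(presentation `FreeGroup G → G`) and that of a subgroup `P` (presentation given by the free group
`S = π⁻¹(P)`, Nielsen–Schreier), with `cor ∘ tr = |G : P|`-th power (helper20). -/

set_option autoImplicit false
set_option linter.style.haveILetI false

namespace Cfsg.Agent.helper20.Schur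

universe u

open scoped commutatorElement
open scoped IsMulCommutative

section Syl

variable {G : Type u} [Group G] [Finite G] (P : Subgroup G) {β : Type u}

/-- preimage of `P` in the free group on `G` -/
abbrev SS : Subgroup (FreeGroup G) := P.comap (canPi G)

instance SS_finiteIndex : (SS P).FiniteIndex := ⟨by
  rw [Subgroup.index_comap_of_surjective _ (canPi_surjective G)]
  exact Subgroup.index_ne_zero_of_finite⟩

theorem ker_le_SS : (canPi G).ker ≤ SS P := fun r hr => by
  show canPi G r ∈ P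
  rw [MonoidHom.mem_ker.mp hr]
  exact P.one_mem

theorem conj_mem_ker (t r : FreeGroup G) (hr : r ∈ (canPi G).ker) :
    t⁻¹ * r * t ∈ (canPi G).ker := by
  rw [MonoidHom.mem_ker, map_mul, map_mul, MonoidHom.mem_ker.mp hr, mul_one, map_inv,
    inv_mul_cancel]

@[reducible] noncomputable def fintypeQ : Fintype (FreeGroup G ⧸ SS P) :=
  (SS P).fintypeQuotientOfFiniteIndex

attribute [local instance] fintypeQ

variable (e : ↥(SS P) ≃* FreeGroup β)

/-- the presentation of `P` by the free group `S ≅ FreeGroup β` -/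
def piP : FreeGroup β →* ↥P := ((canPi G).subgroupComap P).comp e.symm.toMonoidHom

theorem coe_piP (y : FreeGroup β) :
    ((piP P e y : ↥P) : G) = canPi G ((e.symm y : ↥(SS P)) : FreeGroup G) := rfl

theorem piP_surjective : Function.Surjective (piP P e) := by
  rintro ⟨g, hg⟩
  obtain ⟨x, hx⟩ := canPi_surjective G g
  have hxS : x ∈ SS P := by
    show canPi G x ∈ P
    rw [hx]
    exact hg
  refine ⟨e ⟨x, hxS⟩, ?_⟩
  apply Subtype.ext
  rw [coe_piP, e.symm_apply_apply]
  exact hx

/-- `S → E_P` -/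
def psi : ↥(SS P) →* EE (piP P e) :=
  (QuotientGroup.mk' (relComm (piP P e))).comp e.toMonoidHom

theorem eps_psi (s : ↥(SS P)) :
    ((eps (piP P e) (psi P e s) : ↥P) : G) = canPi G (s : FreeGroup G) := by
  show ((eps (piP P e) (QuotientGroup.mk (e s)) : ↥P) : G) = _
  rw [eps_mk, coe_piP, e.symm_apply_apply]

/-- `psi` on the relation subgroup -/
def psiK (x : FreeGroup G) (hx : x ∈ (canPi G).ker) : EE (piP P e) :=
  psi P e ⟨x, ker_le_SS P hx⟩

theorem psiK_congr {x y : FreeGroup G} (h : x = y) (hx : x ∈ (canPi G).ker)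
    (hy : y ∈ (canPi G).ker) : psiK P e x hx = psiK P e y hy := by
  subst h
  rfl

theorem psiK_mul (x y : FreeGroup G) (hx : x ∈ (canPi G).ker) (hy : y ∈ (canPi G).ker) :
    psiK P e (x * y) (Subgroup.mul_mem _ hx hy) = psiK P e x hx * psiK P e y hy := by
  unfold psiK
  rw [← map_mul]
  rfl

theorem psiK_one : psiK P e 1 (Subgroup.one_mem _) = 1 := by
  unfold psiK
  exact map_one (psi P e)

theorem psiK_mem_ker (x : FreeGroup G) (hx : x ∈ (canPi G).ker) :
    psiK P e x hx ∈ (eps (piP P e)).ker := by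
  rw [MonoidHom.mem_ker]
  apply Subtype.ext
  unfold psiK
  rw [eps_psi]
  exact MonoidHom.mem_ker.mp hx

theorem psiK_central (x : FreeGroup G) (hx : x ∈ (canPi G).ker) :
    psiK P e x hx ∈ Subgroup.center (EE (piP P e)) :=
  ker_eps_le_center _ (psiK_mem_ker P e x hx)

theorem psiK_conj (x s : FreeGroup G) (hx : x ∈ (canPi G).ker) (hs : s ∈ SS P)
    (h : s⁻¹ * x * s ∈ (canPi G).ker) : psiK P e (s⁻¹ * x * s) h = psiK P e x hx := by
  have h1 : psiK P e (s⁻¹ * x * s) h =
      (psi P e ⟨s, hs⟩)⁻¹ * psiK P e x hx * psi P e ⟨s, hs⟩ := by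
    unfold psiK
    rw [← map_inv, ← map_mul, ← map_mul]
    rfl
  rw [h1]
  have h2 := Subgroup.mem_center_iff.mp (psiK_central P e x hx) (psi P e ⟨s, hs⟩)
  rw [mul_assoc, ← h2, inv_mul_cancel_left]

theorem gfun_aux_one (t : FreeGroup G) :
    psiK P e (t⁻¹ * ((1 : ↥(canPi G).ker) : FreeGroup G) * t)
      (conj_mem_ker t _ (1 : ↥(canPi G).ker).2) = 1 := by
  rw [psiK_congr P e (by simp : t⁻¹ * ((1 : ↥(canPi G).ker) : FreeGroup G) * t = 1) _
    (Subgroup.one_mem _)]
  exact psiK_one P e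

theorem gfun_aux_mul (t : FreeGroup G) (a b : ↥(canPi G).ker) :
    psiK P e (t⁻¹ * ((a * b : ↥(canPi G).ker) : FreeGroup G) * t)
      (conj_mem_ker t _ (a * b).2) =
    psiK P e (t⁻¹ * a.1 * t) (conj_mem_ker t _ a.2) *
      psiK P e (t⁻¹ * b.1 * t) (conj_mem_ker t _ b.2) := by
  rw [← psiK_mul]
  apply psiK_congr
  rw [Subgroup.coe_mul]
  group

/-- one factor of the pretransfer -/
def gfun (t : FreeGroup G) : ↥(canPi G).ker →* ↥(Subgroup.center (EE (piP P e))) where
  toFun r := ⟨psiK P e (t⁻¹ * r.1 * t) (conj_mem_ker t r.1 r.2),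
    psiK_central P e _ (conj_mem_ker t r.1 r.2)⟩
  map_one' := Subtype.ext (gfun_aux_one P e t)
  map_mul' a b := Subtype.ext (gfun_aux_mul P e t a b)

theorem gfun_val (t : FreeGroup G) (r : ↥(canPi G).ker) :
    ((gfun P e t r : ↥(Subgroup.center (EE (piP P e)))) : EE (piP P e)) =
      psiK P e (t⁻¹ * r.1 * t) (conj_mem_ker t r.1 r.2) := rfl

theorem gfun_mul_right (t s : FreeGroup G) (hs : s ∈ SS P) : gfun P e (t * s) = gfun P e t := by
  ext r
  rw [gfun_val, gfun_val]
  have h1 : (t * s)⁻¹ * r.1 * (t * s) = s⁻¹ * (t⁻¹ * r.1 * t) * s := by group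
  rw [psiK_congr P e h1 _ (h1 ▸ conj_mem_ker (t * s) r.1 r.2)]
  exact psiK_conj P e _ s (conj_mem_ker t r.1 r.2) hs _

/-- coset representatives -/
noncomputable def rep (q : FreeGroup G ⧸ SS P) : FreeGroup G :=
  ((default : (SS P).LeftTransversal).2.leftQuotientEquiv q : FreeGroup G)

theorem mk_rep (q : FreeGroup G ⧸ SS P) :
    (QuotientGroup.mk (rep P q) : FreeGroup G ⧸ SS P) = q :=
  Subgroup.IsComplement.quotientGroupMk_leftQuotientEquiv _ q

/-- the pretransfer `R → Z(E_P)` -/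
noncomputable def nu : ↥(canPi G).ker →* ↥(Subgroup.center (EE (piP P e))) :=
  ∏ q : FreeGroup G ⧸ SS P, gfun P e (rep P q)

theorem nu_apply (r : ↥(canPi G).ker) :
    nu P e r = ∏ q : FreeGroup G ⧸ SS P, gfun P e (rep P q) r := by
  unfold nu
  exact MonoidHom.finsetProd_apply _ _ _

theorem map_prod_const {ι Z E' : Type*} [CommGroup Z] [Group E'] (h : Z →* E') (s : Finset ι)
    (z : ι → Z) (c : E') (hc : ∀ q ∈ s, h (z q) = c) : h (∏ q ∈ s, z q) = c ^ s.card := by
  classical
  induction s using Finset.induction_on with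
  | empty => simp
  | insert a s ha ih =>
    rw [Finset.prod_insert ha, map_mul, hc a (Finset.mem_insert_self a s),
      ih (fun q hq => hc q (Finset.mem_insert_of_mem hq)), Finset.card_insert_of_notMem ha,
      pow_succ']

theorem nu_conj (f : FreeGroup G) (r : ↥(canPi G).ker) (h : f * r.1 * f⁻¹ ∈ (canPi G).ker) :
    nu P e ⟨f * r.1 * f⁻¹, h⟩ = nu P e r := by
  rw [nu_apply, nu_apply]
  have key : ∀ q : FreeGroup G ⧸ SS P,
      gfun P e (rep P q) ⟨f * r.1 * f⁻¹, h⟩ = gfun P e (rep P (f⁻¹ • q)) r := by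
    intro q
    have hs : (rep P (f⁻¹ • q))⁻¹ * (f⁻¹ * rep P q) ∈ SS P := by
      rw [← QuotientGroup.eq, mk_rep]
      have : (QuotientGroup.mk (f⁻¹ * rep P q) : FreeGroup G ⧸ SS P) =
          f⁻¹ • (QuotientGroup.mk (rep P q) : FreeGroup G ⧸ SS P) := rfl
      rw [this, mk_rep]
    have h1 : gfun P e (rep P (f⁻¹ • q)) = gfun P e (f⁻¹ * rep P q) := by
      have := gfun_mul_right P e (rep P (f⁻¹ • q)) _ hs
      rw [← this]
      congr 1
      group
    rw [h1]
    apply Subtype.ext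
    rw [gfun_val, gfun_val]
    apply psiK_congr
    show (rep P q)⁻¹ * (f * r.1 * f⁻¹) * rep P q = (f⁻¹ * rep P q)⁻¹ * r.1 * (f⁻¹ * rep P q)
    group
  rw [Finset.prod_congr rfl (fun q _ => key q)]
  exact Equiv.prod_comp (MulAction.toPerm f⁻¹) (fun q => gfun P e (rep P q) r)

theorem nu_eq_one_of_mem_relComm (x : FreeGroup G) (hx : x ∈ relComm (canPi G)) :
    nu P e ⟨x, relComm_le_ker _ hx⟩ = 1 := by
  have hle : relComm (canPi G) ≤ ((nu P e).ker).map (canPi G).ker.subtype := by
    show ⁅(canPi G).ker, (⊤ : Subgroup (FreeGroup G))⁆ ≤ _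
    refine (Subgroup.commutator_le).mpr ?_
    intro r hr f _
    have h1 : f * r⁻¹ * f⁻¹ ∈ (canPi G).ker :=
      (MonoidHom.normal_ker (canPi G)).conj_mem r⁻¹ (Subgroup.inv_mem _ hr) f
    refine ⟨⟨r, hr⟩ * ⟨f * r⁻¹ * f⁻¹, h1⟩, ?_, ?_⟩
    · rw [SetLike.mem_coe, MonoidHom.mem_ker, map_mul]
      have h2 := nu_conj P e f ⟨r⁻¹, Subgroup.inv_mem _ hr⟩ h1
      rw [h2, ← map_mul]
      have h3 : (⟨r, hr⟩ * ⟨r⁻¹, Subgroup.inv_mem _ hr⟩ : ↥(canPi G).ker) = 1 := by
        apply Subtype.ext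
        simp
      rw [h3, map_one]
    · show r * (f * r⁻¹ * f⁻¹) = ⁅r, f⁆
      rw [commutatorElement_def]
      group
  obtain ⟨y, hy, hyx⟩ := hle hx
  have : y = ⟨x, relComm_le_ker _ hx⟩ := Subtype.ext hyx
  rw [← this]
  exact hy

theorem nu_eq_of_mk_eq (x y : FreeGroup G) (hx : x ∈ (canPi G).ker) (hy : y ∈ (canPi G).ker)
    (h : (QuotientGroup.mk x : EE (canPi G)) = QuotientGroup.mk y) :
    nu P e ⟨x, hx⟩ = nu P e ⟨y, hy⟩ := by
  have h1 : x⁻¹ * y ∈ relComm (canPi G) := QuotientGroup.eq.mp h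
  have h2 : (⟨y, hy⟩ : ↥(canPi G).ker) = ⟨x, hx⟩ * ⟨x⁻¹ * y, relComm_le_ker _ h1⟩ := by
    apply Subtype.ext
    simp
  rw [h2, map_mul, nu_eq_one_of_mem_relComm P e _ h1, mul_one]

theorem ker_smul (x : FreeGroup G) (hx : x ∈ (canPi G).ker) (q : FreeGroup G ⧸ SS P) :
    x • q = q := by
  obtain ⟨t, rfl⟩ := QuotientGroup.mk_surjective q
  show (QuotientGroup.mk (x * t) : FreeGroup G ⧸ SS P) = QuotientGroup.mk t
  rw [QuotientGroup.eq]
  have := ker_le_SS P (conj_mem_ker t x⁻¹ (Subgroup.inv_mem _ hx))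
  have h2 : (x * t)⁻¹ * t = t⁻¹ * x⁻¹ * t := by group
  rw [h2]
  exact this

theorem nu_val_mem_ker (r : ↥(canPi G).ker) :
    ((nu P e r : ↥(Subgroup.center (EE (piP P e)))) : EE (piP P e)) ∈ (eps (piP P e)).ker := by
  have h : nu P e r ∈ ((eps (piP P e)).ker).subgroupOf (Subgroup.center (EE (piP P e))) := by
    rw [nu_apply]
    apply Subgroup.prod_mem
    intro q _
    rw [Subgroup.mem_subgroupOf, gfun_val]
    exact psiK_mem_ker P e _ _
  exact Subgroup.mem_subgroupOf.mp h

/-- the transfer property: the pretransfer maps `R ∩ F'` into `E_P'`. -/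
theorem nu_mem_commutator (x : FreeGroup G) (hx : x ∈ (canPi G).ker)
    (hx' : x ∈ commutator (FreeGroup G)) :
    ((nu P e ⟨x, hx⟩ : ↥(Subgroup.center (EE (piP P e)))) : EE (piP P e)) ∈
      commutator (EE (piP P e)) := by
  let φ : ↥(SS P) →* Abelianization (EE (piP P e)) := (Abelianization.of).comp (psi P e)
  have h1 : MonoidHom.transfer φ x = 1 :=
    Abelianization.commutator_subset_ker (MonoidHom.transfer φ) hx'
  have h2 : MonoidHom.transfer φ x = ((Abelianization.of).comp
      (Subgroup.center (EE (piP P e))).subtype) (nu P e ⟨x, hx⟩) := by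
    rw [MonoidHom.transfer_def φ (default : (SS P).LeftTransversal) x, nu_apply, map_prod]
    unfold Subgroup.leftTransversals.diff
    refine Finset.prod_congr rfl (fun q _ => ?_)
    show φ _ = φ ⟨(rep P q)⁻¹ * x * rep P q, _⟩
    congr 1
    apply Subtype.ext
    show (rep P q)⁻¹ * ((x • (default : (SS P).LeftTransversal)).2.leftQuotientEquiv q : FreeGroup G)
      = (rep P q)⁻¹ * x * rep P q
    rw [Subgroup.smul_apply_eq_smul_apply_inv_smul, ker_smul P x⁻¹ (Subgroup.inv_mem _ hx) q,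
      mul_assoc]
    rfl
  rw [h2] at h1
  rw [← Abelianization.ker_of, MonoidHom.mem_ker]
  exact h1

/-- the inclusion-induced map of presentations -/
def jj : FreeGroup β →* FreeGroup G := (SS P).subtype.comp e.symm.toMonoidHom

theorem canPi_jj (y : FreeGroup β) : canPi G (jj P e y) = (piP P e y : G) := rfl

theorem jj_relComm_le : relComm (piP P e) ≤ (relComm (canPi G)).comap (jj P e) := by
  show ⁅(piP P e).ker, (⊤ : Subgroup (FreeGroup β))⁆ ≤ _
  refine (Subgroup.commutator_le).mpr ?_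
  intro a ha b _
  show jj P e ⁅a, b⁆ ∈ relComm (canPi G)
  rw [map_commutatorElement (jj P e) a b]
  refine Subgroup.commutator_mem_commutator ?_ (Subgroup.mem_top _)
  rw [MonoidHom.mem_ker, canPi_jj, MonoidHom.mem_ker.mp ha]
  rfl

/-- the corestriction `E_P → E_G` -/
def jhat : EE (piP P e) →* EE (canPi G) :=
  QuotientGroup.map _ _ (jj P e) (jj_relComm_le P e)

theorem jhat_mk (y : FreeGroup β) :
    jhat P e (QuotientGroup.mk y) = QuotientGroup.mk (jj P e y) := rfl

theorem jhat_psi (s : ↥(SS P)) :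
    jhat P e (psi P e s) = QuotientGroup.mk (s : FreeGroup G) := by
  show jhat P e (QuotientGroup.mk (e s)) = _
  rw [jhat_mk]
  show QuotientGroup.mk (((e.symm (e s)) : ↥(SS P)) : FreeGroup G) = _
  rw [e.symm_apply_apply]

theorem eps_jhat (z : EE (piP P e)) :
    eps (canPi G) (jhat P e z) = (eps (piP P e) z : G) := by
  obtain ⟨y, rfl⟩ := QuotientGroup.mk_surjective z
  rfl

theorem jhat_mem_MM (z : EE (piP P e)) (hz : z ∈ MM (piP P e)) : jhat P e z ∈ MM (canPi G) := by
  have hz' := Subgroup.mem_inf.mp hz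
  refine Subgroup.mem_inf.mpr ⟨?_, ?_⟩
  · rw [MonoidHom.mem_ker, eps_jhat, MonoidHom.mem_ker.mp hz'.1]
    rfl
  · have := Subgroup.mem_map_of_mem (jhat P e) hz'.2
    rw [commutator_def, Subgroup.map_commutator] at this
    exact Subgroup.commutator_mono le_top le_top this

theorem jhat_nu (r : ↥(canPi G).ker) :
    jhat P e ((nu P e r : ↥(Subgroup.center (EE (piP P e)))) : EE (piP P e)) =
      (QuotientGroup.mk (r : FreeGroup G) : EE (canPi G)) ^ P.index := by
  have hterm : ∀ q : FreeGroup G ⧸ SS P,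
      ((jhat P e).comp (Subgroup.center (EE (piP P e))).subtype) (gfun P e (rep P q) r) =
        (QuotientGroup.mk (r : FreeGroup G) : EE (canPi G)) := by
    intro q
    show jhat P e ((gfun P e (rep P q) r : ↥(Subgroup.center (EE (piP P e)))) : EE (piP P e)) = _
    rw [gfun_val]
    unfold psiK
    rw [jhat_psi]
    show (QuotientGroup.mk ((rep P q)⁻¹ * r.1 * rep P q) : EE (canPi G)) = _
    rw [QuotientGroup.mk_mul, QuotientGroup.mk_mul, QuotientGroup.mk_inv]
    have hc : (QuotientGroup.mk (r : FreeGroup G) : EE (canPi G)) ∈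
        Subgroup.center (EE (canPi G)) := by
      apply ker_eps_le_center
      rw [MonoidHom.mem_ker, eps_mk]
      exact MonoidHom.mem_ker.mp r.2
    have h2 := Subgroup.mem_center_iff.mp hc (QuotientGroup.mk (rep P q))
    rw [mul_assoc, ← h2, inv_mul_cancel_left]
  have := map_prod_const ((jhat P e).comp (Subgroup.center (EE (piP P e))).subtype) Finset.univ
    (fun q : FreeGroup G ⧸ SS P => gfun P e (rep P q) r) _ (fun q _ => hterm q)
  rw [← nu_apply] at this
  rw [Finset.card_univ, ← Nat.card_eq_fintype_card, ← Subgroup.index_eq_card,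
    Subgroup.index_comap_of_surjective _ (canPi_surjective G)] at this
  exact this

theorem out_mem_ker (m : ↥(MM (canPi G))) :
    Quotient.out (m : EE (canPi G)) ∈ (canPi G).ker := by
  have h1 : (QuotientGroup.mk (Quotient.out (m : EE (canPi G))) : EE (canPi G)) = m :=
    QuotientGroup.out_eq' _
  have h2 := (Subgroup.mem_inf.mp m.2).1
  rw [MonoidHom.mem_ker, ← h1, eps_mk] at h2
  exact h2

theorem out_mem_commutator (m : ↥(MM (canPi G))) :
    Quotient.out (m : EE (canPi G)) ∈ commutator (FreeGroup G) := by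
  have h1 : (QuotientGroup.mk (Quotient.out (m : EE (canPi G))) : EE (canPi G)) = m :=
    QuotientGroup.out_eq' _
  have h2 := (Subgroup.mem_inf.mp m.2).2
  rw [commutator_EE_eq_map] at h2
  obtain ⟨y, hy, hym⟩ := h2
  have h3 : y⁻¹ * Quotient.out (m : EE (canPi G)) ∈ relComm (canPi G) := by
    rw [← QuotientGroup.eq]
    exact hym.trans h1.symm
  have := Subgroup.mul_mem _ hy (relComm_le_commutator (canPi G) h3)
  simpa using this

/-- the transfer on multipliers, as a function -/
noncomputable def trFun (m : ↥(MM (canPi G))) : ↥(MM (piP P e)) :=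
  ⟨((nu P e ⟨Quotient.out (m : EE (canPi G)), out_mem_ker m⟩ :
      ↥(Subgroup.center (EE (piP P e)))) : EE (piP P e)),
    Subgroup.mem_inf.mpr ⟨nu_val_mem_ker P e _, nu_mem_commutator P e _ _ (out_mem_commutator m)⟩⟩

theorem trFun_val (m : ↥(MM (canPi G))) (x : FreeGroup G) (hx : x ∈ (canPi G).ker)
    (h : (QuotientGroup.mk x : EE (canPi G)) = m) :
    ((trFun P e m : ↥(MM (piP P e))) : EE (piP P e)) =
      ((nu P e ⟨x, hx⟩ : ↥(Subgroup.center (EE (piP P e)))) : EE (piP P e)) := by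
  show ((nu P e ⟨Quotient.out (m : EE (canPi G)), out_mem_ker m⟩ :
      ↥(Subgroup.center (EE (piP P e)))) : EE (piP P e)) = _
  rw [nu_eq_of_mk_eq P e _ x (out_mem_ker m) hx ((QuotientGroup.out_eq' _).trans h.symm)]

/-- the transfer on multipliers -/
noncomputable def trHom : ↥(MM (canPi G)) →* ↥(MM (piP P e)) :=
  MonoidHom.mk' (trFun P e) (by
    intro a b
    apply Subtype.ext
    have ha : (QuotientGroup.mk (Quotient.out (a : EE (canPi G))) : EE (canPi G)) = a :=
      QuotientGroup.out_eq' _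
    have hb : (QuotientGroup.mk (Quotient.out (b : EE (canPi G))) : EE (canPi G)) = b :=
      QuotientGroup.out_eq' _
    have hab : (QuotientGroup.mk (Quotient.out (a : EE (canPi G)) *
        Quotient.out (b : EE (canPi G))) : EE (canPi G)) = ((a * b : ↥(MM (canPi G))) :
          EE (canPi G)) := by
      rw [QuotientGroup.mk_mul, ha, hb, Subgroup.coe_mul]
    rw [trFun_val P e (a * b) _ (Subgroup.mul_mem _ (out_mem_ker a) (out_mem_ker b)) hab,
      Subgroup.coe_mul, trFun_val P e a _ (out_mem_ker a) ha,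
      trFun_val P e b _ (out_mem_ker b) hb, ← Subgroup.coe_mul, ← map_mul]
    rfl)

/-- the corestriction on multipliers -/
def corHom : ↥(MM (piP P e)) →* ↥(MM (canPi G)) :=
  MonoidHom.codRestrict ((jhat P e).comp (MM (piP P e)).subtype) (MM (canPi G))
    (fun z => jhat_mem_MM P e z.1 z.2)

theorem cor_tr (m : ↥(MM (canPi G))) : corHom P e (trHom P e m) = m ^ P.index := by
  apply Subtype.ext
  have hm : (QuotientGroup.mk (Quotient.out (m : EE (canPi G))) : EE (canPi G)) = m :=
    QuotientGroup.out_eq' _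
  show jhat P e ((trFun P e m : ↥(MM (piP P e))) : EE (piP P e)) = _
  rw [trFun_val P e m _ (out_mem_ker m) hm, jhat_nu, Subgroup.coe_pow]
  show (QuotientGroup.mk (Quotient.out (m : EE (canPi G))) : EE (canPi G)) ^ P.index = _
  rw [hm]

end Syl

end Cfsg.Agent.helper20.Schur
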