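import Mathlib

set_option autoImplicit false
set_option linter.style.haveILetI false
set_option linter.unusedSectionVars false
set_option linter.unusedVariables false

/-! Soft subgroups of `p`-groups (Héthelyi): basic lemmas. -/

namespace Cfsg.Agent.helper20.Soft

open scoped commutatorElement

section Basic

variable {P : Type*} [Group P]

/-- a soft subgroup: abelian, self-centralizing, of index `p` in its normalizer. -/
structure IsSoft (p : ℕ) (E : Subgroup P) : Prop where
  comm : ∀ a ∈ E, ∀ b ∈ E, a * b = b * a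
  cent : Subgroup.centralizer (E : Set P) ≤ E
  idx : E.relIndex (Subgroup.normalizer (E : Set P)) = p

theorem eq_or_eq_of_relIndex_prime {H X K : Subgroup P} (hHX : H ≤ X) (hXK : X ≤ K)
    (hp : (H.relIndex K).Prime) : X = H ∨ X = K := by
  have h1 := Subgroup.relIndex_mul_relIndex H X K hHX hXK
  rcases (Nat.dvd_prime hp).mp (Dvd.intro _ h1) with h | h
  · left
    exact le_antisymm (Subgroup.relIndex_eq_one.mp h) hHX
  · right
    rw [h] at h1
    have h2 : X.relIndex K = 1 := by
      have hpos : 0 < H.relIndex K := hp.pos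
      exact Nat.eq_of_mul_eq_mul_left hpos (by rw [h1, mul_one])
    exact le_antisymm hXK (Subgroup.relIndex_eq_one.mp h2)

theorem card_mul_relIndex {H K : Subgroup P} (h : H ≤ K) :
    Nat.card ↥H * H.relIndex K = Nat.card ↥K := by
  rw [← Subgroup.relIndex_bot_left, ← Subgroup.relIndex_bot_left]
  exact Subgroup.relIndex_mul_relIndex ⊥ H K bot_le h

variable [Finite P] {p : ℕ} [hp : Fact p.Prime]

theorem exists_normalizing (hP : IsPGroup p P) {H K : Subgroup P} (hlt : H < K) :
    ∃ g ∈ K, g ∉ H ∧ g ∈ Subgroup.normalizer (H : Set P) := by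
  haveI : Group.IsNilpotent ↥K := (hP.to_subgroup K).isNilpotent
  have hne : H.subgroupOf K < ⊤ := by
    rw [lt_top_iff_ne_top, Ne, Subgroup.subgroupOf_eq_top]
    exact not_le_of_gt hlt
  have h1 := Group.normalizerCondition_of_isNilpotent (G := ↥K) (H.subgroupOf K) hne
  obtain ⟨g, hgN, hgH⟩ := SetLike.exists_of_lt h1
  refine ⟨g, g.2, ?_, ?_⟩
  · intro hg
    exact hgH (Subgroup.mem_subgroupOf.mpr hg)
  · rw [Subgroup.mem_normalizer_iff] at hgN ⊢
    intro h
    constructor
    · intro hh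
      have := (hgN ⟨h, hlt.le hh⟩).mp (Subgroup.mem_subgroupOf.mpr hh)
      exact Subgroup.mem_subgroupOf.mp this
    · intro hh
      have hK : h ∈ K := by
        have h1 : (g : P) * h * (g : P)⁻¹ ∈ K := hlt.le hh
        have h2 : h = (g : P)⁻¹ * ((g : P) * h * (g : P)⁻¹) * (g : P) := by group
        rw [h2]
        exact K.mul_mem (K.mul_mem (K.inv_mem g.2) h1) g.2
      have := (hgN ⟨h, hK⟩).mpr (Subgroup.mem_subgroupOf.mpr hh)
      exact Subgroup.mem_subgroupOf.mp this

theorem relIndex_ge_of_lt (hP : IsPGroup p P) {H K : Subgroup P} (hlt : H < K) :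
    p ≤ H.relIndex K := by
  obtain ⟨n, hn⟩ := (IsPGroup.iff_card (p := p) (G := P)).mp hP
  have h1 : H.relIndex K ∣ p ^ n := by
    rw [← hn]
    exact (Subgroup.relIndex_dvd_card H K).trans (Subgroup.card_subgroup_dvd_card K)
  obtain ⟨k, hk, hk'⟩ := (Nat.dvd_prime_pow hp.out).mp h1
  have hk0 : k ≠ 0 := by
    intro h0
    rw [h0, pow_zero] at hk'
    exact (not_le_of_gt hlt) (Subgroup.relIndex_eq_one.mp hk')
  rw [hk']
  calc p = p ^ 1 := (pow_one p).symm
    _ ≤ p ^ k := Nat.pow_le_pow_right hp.out.pos (Nat.one_le_iff_ne_zero.mpr hk0)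

theorem relIndex_pow (hP : IsPGroup p P) (H K : Subgroup P) : ∃ k, H.relIndex K = p ^ k := by
  obtain ⟨n, hn⟩ := (IsPGroup.iff_card (p := p) (G := P)).mp hP
  have h1 : H.relIndex K ∣ p ^ n := by
    rw [← hn]
    exact (Subgroup.relIndex_dvd_card H K).trans (Subgroup.card_subgroup_dvd_card K)
  obtain ⟨k, hk, hk'⟩ := (Nat.dvd_prime_pow hp.out).mp h1
  exact ⟨k, hk'⟩

theorem IsSoft.lt_normalizer {E : Subgroup P} (hE : IsSoft p E) :
    E < Subgroup.normalizer (E : Set P) := by
  refine lt_of_le_of_ne Subgroup.le_normalizer ?_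
  intro h
  have h1 := hE.idx
  rw [← h, Subgroup.relIndex_self] at h1
  exact hp.out.one_lt.ne h1

/-- (F1) every subgroup properly containing a soft subgroup contains its normalizer. -/
theorem IsSoft.normalizer_le (hP : IsPGroup p P) {E : Subgroup P} (hE : IsSoft p E)
    {H : Subgroup P} (hlt : E < H) : Subgroup.normalizer (E : Set P) ≤ H := by
  obtain ⟨g, hgH, hgE, hgN⟩ := exists_normalizing hP hlt
  have hX1 : E ≤ E ⊔ Subgroup.zpowers g := le_sup_left
  have hX2 : E ⊔ Subgroup.zpowers g ≤ Subgroup.normalizer (E : Set P) :=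
    sup_le Subgroup.le_normalizer (by rw [Subgroup.zpowers_le]; exact hgN)
  have hprime : (E.relIndex (Subgroup.normalizer (E : Set P))).Prime := by
    rw [hE.idx]; exact hp.out
  rcases eq_or_eq_of_relIndex_prime hX1 hX2 hprime with h | h
  · exfalso
    apply hgE
    rw [← h]
    exact (le_sup_right : Subgroup.zpowers g ≤ _) (Subgroup.mem_zpowers g)
  · rw [← h]
    exact sup_le hlt.le (by rw [Subgroup.zpowers_le]; exact hgH)

theorem IsSoft.ne_bot [Nontrivial P] {E : Subgroup P} (hE : IsSoft p E) : E ≠ ⊥ := by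
  intro h
  have h1 := hE.cent
  rw [h] at h1
  have h2 : Subgroup.centralizer ((⊥ : Subgroup P) : Set P) = ⊤ := by
    rw [Subgroup.coe_bot, Subgroup.centralizer_eq_top_iff_subset]
    intro x hx
    rw [Set.mem_singleton_iff] at hx
    rw [hx]
    exact Subgroup.one_mem _
  rw [h2, top_le_iff] at h1
  exact top_ne_bot h1.symm

end Basic

section F2

variable {P : Type*} [Group P] [Finite P] {p : ℕ} [hp : Fact p.Prime]

theorem conj_mem_normalizer_of_map_eq {E : Subgroup P} {g : P}
    (h : E.map (MulAut.conj g).toMonoidHom = E) : g ∈ Subgroup.normalizer (E : Set P) := by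
  rw [Subgroup.mem_normalizer_iff]
  intro n
  constructor
  · intro hn
    rw [← h]
    exact ⟨n, hn, rfl⟩
  · intro hn
    rw [← h] at hn
    obtain ⟨n', hn', heq⟩ := hn
    have : n' = n := by
      have h1 : g * n' * g⁻¹ = g * n * g⁻¹ := heq
      have h2 := mul_right_cancel h1
      exact mul_left_cancel h2
    rw [← this]; exact hn'

theorem map_conj_le_of_mem_normalizer {H K : Subgroup P} (hHK : H ≤ K) {g : P}
    (hg : g ∈ Subgroup.normalizer (K : Set P)) : H.map (MulAut.conj g).toMonoidHom ≤ K := by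
  rintro _ ⟨h, hh, rfl⟩
  exact (Subgroup.mem_normalizer_iff.mp hg h).mp (hHK hh)

theorem card_map_conj (H : Subgroup P) (g : P) :
    Nat.card ↥(H.map (MulAut.conj g).toMonoidHom) = Nat.card ↥H :=
  Subgroup.card_map_of_injective (MulAut.conj g).injective

/-- two distinct conjugates of a soft subgroup inside its normalizer meet in the centre of that
normalizer. -/
theorem IsSoft.mem_centralizer_of_mem_conj (hP : IsPGroup p P) {E : Subgroup P}
    (hE : IsSoft p E) {g : P}
    (hg2 : g ∈ Subgroup.normalizer ((Subgroup.normalizer (E : Set P) : Subgroup P) : Set P))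
    (hg1 : g ∉ Subgroup.normalizer (E : Set P)) {e : P} (he : e ∈ E) (he' : g * e * g⁻¹ ∈ E) :
    g * e * g⁻¹ ∈ Subgroup.centralizer ((Subgroup.normalizer (E : Set P) : Subgroup P) : Set P) := by
  obtain ⟨Eg, hEg⟩ : ∃ Eg, Eg = E.map (MulAut.conj g).toMonoidHom := ⟨_, rfl⟩
  have hEgN : Eg ≤ Subgroup.normalizer (E : Set P) := by
    rw [hEg]; exact map_conj_le_of_mem_normalizer Subgroup.le_normalizer hg2
  have hne : ¬ Eg ≤ E := by
    intro hle
    apply hg1
    apply conj_mem_normalizer_of_map_eq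
    rw [← hEg]
    apply Subgroup.eq_of_le_of_card_ge hle
    rw [hEg, card_map_conj]
  have hprime : (E.relIndex (Subgroup.normalizer (E : Set P))).Prime := by
    rw [hE.idx]; exact hp.out
  have hsup : E ⊔ Eg = Subgroup.normalizer (E : Set P) := by
    rcases eq_or_eq_of_relIndex_prime (le_sup_left : E ≤ E ⊔ Eg)
      (sup_le Subgroup.le_normalizer hEgN) hprime with h | h
    · exfalso
      apply hne
      rw [← h]
      exact le_sup_right
    · exact h
  have hx : g * e * g⁻¹ ∈ Eg := by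
    rw [hEg]; exact ⟨e, he, rfl⟩
  have hcomm : E ⊔ Eg ≤ Subgroup.centralizer ({g * e * g⁻¹} : Set P) := by
    apply sup_le
    · intro a ha
      rw [Subgroup.mem_centralizer_singleton_iff]
      exact hE.comm _ ha _ he'
    · intro a ha
      rw [Subgroup.mem_centralizer_singleton_iff]
      rw [hEg] at ha
      obtain ⟨a', ha', rfl⟩ := ha
      show g * a' * g⁻¹ * (g * e * g⁻¹) = g * e * g⁻¹ * (g * a' * g⁻¹)
      have := hE.comm _ ha' _ he
      calc g * a' * g⁻¹ * (g * e * g⁻¹) = g * (a' * e) * g⁻¹ := by group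
        _ = g * (e * a') * g⁻¹ := by rw [this]
        _ = _ := by group
  rw [hsup] at hcomm
  rw [Subgroup.mem_centralizer_iff]
  intro h hh
  have := hcomm hh
  rw [Subgroup.mem_centralizer_singleton_iff] at this
  exact this

/-- (F2) the normalizer of the normalizer of a soft subgroup has index `p` over it. -/
theorem IsSoft.relIndex_normalizer_normalizer (hP : IsPGroup p P) {E : Subgroup P}
    (hE : IsSoft p E) (hN1 : Subgroup.normalizer (E : Set P) ≠ ⊤) :
    (Subgroup.normalizer (E : Set P)).relIndex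
      (Subgroup.normalizer ((Subgroup.normalizer (E : Set P) : Subgroup P) : Set P)) = p := by
  classical
  obtain ⟨N1, hN1def⟩ : ∃ N1, N1 = Subgroup.normalizer (E : Set P) := ⟨_, rfl⟩
  obtain ⟨N2, hN2def⟩ : ∃ N2, N2 = Subgroup.normalizer (N1 : Set P) := ⟨_, rfl⟩
  rw [← hN1def] at hN1 ⊢
  rw [← hN2def]
  have hEN1 : E ≤ N1 := by rw [hN1def]; exact Subgroup.le_normalizer
  have hN12 : N1 ≤ N2 := by rw [hN2def]; exact Subgroup.le_normalizer
  have hlt : N1 < N2 := by
    obtain ⟨g, -, hg1, hg2⟩ := exists_normalizing hP (lt_top_iff_ne_top.mpr hN1)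
    refine lt_of_le_of_ne hN12 ?_
    intro h
    apply hg1
    rw [h, hN2def]
    exact hg2
  obtain ⟨k, hk⟩ := relIndex_pow hP N1 N2
  have hk0 : k ≠ 0 := by
    intro h0
    rw [h0, pow_zero] at hk
    exact (not_le_of_gt hlt) (Subgroup.relIndex_eq_one.mp hk)
  by_cases hk1 : k = 1
  · rw [hk, hk1, pow_one]
  exfalso
  have hk2 : 2 ≤ k := by omega
  have hm : p ^ 2 ≤ N1.relIndex N2 := by
    rw [hk]; exact Nat.pow_le_pow_right hp.out.pos hk2
  -- the counting
  obtain ⟨C, hCdef⟩ : ∃ C, C = Subgroup.centralizer (N1 : Set P) := ⟨_, rfl⟩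
  have hCnorm : ∀ g ∈ N2, ∀ x, g * x * g⁻¹ ∈ C → x ∈ C := by
    intro g hg x hx
    rw [hCdef, Subgroup.mem_centralizer_iff] at hx ⊢
    intro h hh
    have hg' : g ∈ Subgroup.normalizer (N1 : Set P) := by rw [← hN2def]; exact hg
    have h1 : g * h * g⁻¹ ∈ N1 := (Subgroup.mem_normalizer_iff.mp hg' h).mp hh
    have h2 := hx _ h1
    have h3 : g * (h * x) * g⁻¹ = g * (x * h) * g⁻¹ := by
      calc g * (h * x) * g⁻¹ = g * h * g⁻¹ * (g * x * g⁻¹) := by group
        _ = g * x * g⁻¹ * (g * h * g⁻¹) := h2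
        _ = _ := by group
    exact mul_left_cancel (mul_right_cancel h3)
  let Φ : (↥N2 ⧸ N1.subgroupOf N2) × {e : P // e ∈ E ∧ e ∉ C} → {x : P // x ∈ N1 ∧ x ∉ C} :=
    fun ce => ⟨((Quotient.out ce.1 : ↥N2) : P) * (ce.2 : P) * ((Quotient.out ce.1 : ↥N2) : P)⁻¹, by
      have hg : ((Quotient.out ce.1 : ↥N2) : P) ∈ Subgroup.normalizer (N1 : Set P) := by
        rw [← hN2def]; exact (Quotient.out ce.1 : ↥N2).2
      exact (Subgroup.mem_normalizer_iff.mp hg _).mp (hEN1 ce.2.2.1), by
      intro hx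
      exact ce.2.2.2 (hCnorm _ (Quotient.out ce.1 : ↥N2).2 _ hx)⟩
  have hΦ : Function.Injective Φ := by
    rintro ⟨c, e, he, heC⟩ ⟨d, e', he', heC'⟩ heq
    have heq' : ((Quotient.out c : ↥N2) : P) * e * ((Quotient.out c : ↥N2) : P)⁻¹ =
        ((Quotient.out d : ↥N2) : P) * e' * ((Quotient.out d : ↥N2) : P)⁻¹ :=
      congrArg Subtype.val heq
    have hcd : c = d := by
      by_contra hne
      obtain ⟨g, hgdef⟩ : ∃ g : P, g = ((Quotient.out d : ↥N2) : P)⁻¹ *
          ((Quotient.out c : ↥N2) : P) := ⟨_, rfl⟩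
      have hg2 : g ∈ N2 := by
        rw [hgdef]
        exact N2.mul_mem (N2.inv_mem (Quotient.out d : ↥N2).2) (Quotient.out c : ↥N2).2
      have hg1 : g ∉ N1 := by
        intro hg
        apply hne
        have h1 : (QuotientGroup.mk (Quotient.out d) : ↥N2 ⧸ N1.subgroupOf N2) =
            QuotientGroup.mk (Quotient.out c) := by
          rw [QuotientGroup.eq, Subgroup.mem_subgroupOf]
          rw [hgdef] at hg
          exact hg
        rw [QuotientGroup.out_eq', QuotientGroup.out_eq'] at h1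
        exact h1.symm
      have hge : g * e * g⁻¹ = e' := by
        rw [hgdef]
        calc _ = ((Quotient.out d : ↥N2) : P)⁻¹ * (((Quotient.out c : ↥N2) : P) * e *
            ((Quotient.out c : ↥N2) : P)⁻¹) * ((Quotient.out d : ↥N2) : P) := by group
          _ = ((Quotient.out d : ↥N2) : P)⁻¹ * (((Quotient.out d : ↥N2) : P) * e' *
            ((Quotient.out d : ↥N2) : P)⁻¹) * ((Quotient.out d : ↥N2) : P) := by rw [heq']
          _ = e' := by group
      have h1 := hE.mem_centralizer_of_mem_conj hP (g := g) (by rw [← hN1def, ← hN2def]; exact hg2)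
        (by rw [← hN1def]; exact hg1) he (by rw [hge]; exact he')
      rw [hge, ← hN1def, ← hCdef] at h1
      exact heC' h1
    subst hcd
    have : e = e' := mul_left_cancel (mul_right_cancel heq')
    subst this
    rfl
  have hcard := Nat.card_le_card_of_injective Φ hΦ
  rw [Nat.card_prod] at hcard
  have hc1 : Nat.card (↥N2 ⧸ N1.subgroupOf N2) = N1.relIndex N2 := rfl
  -- cardinalities of the two difference sets
  have hEC : Nat.card {e : P // e ∈ E ∧ e ∉ C} + Nat.card ↥(E ⊓ C) = Nat.card ↥E := by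
    have h1 : Nat.card {e : P // e ∈ E ∧ e ∉ C} = ((E : Set P) \ (C : Set P)).ncard := by
      rw [← Nat.card_coe_set_eq]; rfl
    have h2 : Nat.card ↥(E ⊓ C) = ((E : Set P) ∩ (C : Set P)).ncard := by
      rw [← Nat.card_coe_set_eq]; rfl
    have h3 : Nat.card ↥E = (E : Set P).ncard := by
      rw [← Nat.card_coe_set_eq]; rfl
    rw [h1, h2, h3]
    have h4 := Set.ncard_sdiff_add_ncard_of_subset
      (Set.inter_subset_left : (E : Set P) ∩ (C : Set P) ⊆ (E : Set P)) (Set.toFinite _)
    rw [Set.sdiff_self_inter] at h4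
    exact h4
  have hNC : Nat.card {x : P // x ∈ N1 ∧ x ∉ C} + 1 ≤ Nat.card ↥N1 := by
    have h1 : Nat.card {x : P // x ∈ N1 ∧ x ∉ C} = ((N1 : Set P) \ (C : Set P)).ncard := by
      rw [← Nat.card_coe_set_eq]; rfl
    have h3 : Nat.card ↥N1 = (N1 : Set P).ncard := by
      rw [← Nat.card_coe_set_eq]; rfl
    rw [h1, h3]
    have h4 : ((N1 : Set P) \ (C : Set P)) ⊂ (N1 : Set P) := by
      refine ⟨Set.sdiff_subset, ?_⟩
      intro hsub
      have := hsub (N1.one_mem)
      exact this.2 C.one_mem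
    exact Set.ncard_lt_ncard h4 (Set.toFinite _)
  have hECne : E ⊓ C < E := by
    refine lt_of_le_of_ne inf_le_left ?_
    intro heq
    have h1 : E ≤ C := by rw [← heq]; exact inf_le_right
    have h2 : N1 ≤ Subgroup.centralizer (E : Set P) := by
      rw [Subgroup.le_centralizer_iff, ← hCdef]
      exact h1
    have h3 := h2.trans hE.cent
    have := hE.lt_normalizer
    rw [← hN1def] at this
    exact (not_le_of_gt this) h3
  have hECp : Nat.card ↥(E ⊓ C) * p ≤ Nat.card ↥E := by
    have h1 := relIndex_ge_of_lt hP hECne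
    have h2 : (E ⊓ C).relIndex E * Nat.card ↥(E ⊓ C) = Nat.card ↥E := by
      rw [mul_comm]
      exact card_mul_relIndex inf_le_left
    rw [← h2, mul_comm]
    exact Nat.mul_le_mul_right _ h1
  have hN1card : Nat.card ↥N1 = p * Nat.card ↥E := by
    have h2 : Nat.card ↥E * E.relIndex N1 = Nat.card ↥N1 :=
      card_mul_relIndex hEN1
    rw [← h2, hN1def, hE.idx, mul_comm]
  rw [hc1] at hcard
  obtain ⟨a, ha⟩ : ∃ a, a = Nat.card {e : P // e ∈ E ∧ e ∉ C} := ⟨_, rfl⟩
  obtain ⟨z, hz⟩ : ∃ z, z = Nat.card ↥(E ⊓ C) := ⟨_, rfl⟩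
  obtain ⟨b, hb⟩ : ∃ b, b = Nat.card ↥E := ⟨_, rfl⟩
  obtain ⟨m, hmdef⟩ : ∃ m, m = N1.relIndex N2 := ⟨_, rfl⟩
  obtain ⟨w, hw⟩ : ∃ w, w = Nat.card {x : P // x ∈ N1 ∧ x ∉ C} := ⟨_, rfl⟩
  rw [← ha, ← hz, ← hb] at hEC
  rw [← hz, ← hb] at hECp
  rw [← hw, hN1card, ← hb] at hNC
  rw [← hmdef, ← ha, ← hw] at hcard
  rw [← hmdef] at hm
  have hp2 : 2 ≤ p := hp.out.two_le
  have hbpos : 0 < b := by rw [hb]; exact Nat.card_pos
  -- m * a ≤ w < p * b, p^2 ≤ m, a + z = b, z * p ≤ b
  have h1 : p ^ 2 * a ≤ m * a := Nat.mul_le_mul_right _ hm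
  have h2 : p * a + b ≥ p * b := by nlinarith
  nlinarith

end F2

end Cfsg.Agent.helper20.Soft
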