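import Mathlib
import Cfsg.Agent.Lib_helper20_Soft1

set_option autoImplicit false
set_option linter.style.haveILetI false
set_option linter.unusedSectionVars false
set_option linter.unusedVariables false

/-! Soft subgroups of `p`-groups: the overgroups form a chain (the normalizer tower). -/

namespace Cfsg.Agent.helper20.Soft

universe u

section Quot

variable {P : Type*} [Group P]

/-- overgroups are totally ordered and proper overgroups have index `p` in their normalizers. -/
def ChainNorm (p : ℕ) (E : Subgroup P) : Prop :=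
  (∀ K L : Subgroup P, E ≤ K → E ≤ L → K ≤ L ∨ L ≤ K) ∧
  (∀ K : Subgroup P, E ≤ K → K ≠ ⊤ → K.relIndex (Subgroup.normalizer (K : Set P)) = p)

variable (Z : Subgroup P) [hZ : Z.Normal]

theorem comap_map_mk {A : Subgroup P} (hZA : Z ≤ A) :
    (A.map (QuotientGroup.mk' Z)).comap (QuotientGroup.mk' Z) = A :=
  Subgroup.comap_map_eq_self (by rw [QuotientGroup.ker_mk']; exact hZA)

theorem normalizer_eq_comap {A : Subgroup P} (hZA : Z ≤ A) :
    Subgroup.normalizer (A : Set P) =
      (Subgroup.normalizer ((A.map (QuotientGroup.mk' Z) : Subgroup (P ⧸ Z)) : Set (P ⧸ Z))).comap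
        (QuotientGroup.mk' Z) := by
  rw [Subgroup.comap_normalizer_eq_of_surjective _ (QuotientGroup.mk'_surjective Z),
    comap_map_mk Z hZA]

theorem relIndex_map_normalizer {A : Subgroup P} (hZA : Z ≤ A) :
    (A.map (QuotientGroup.mk' Z)).relIndex
      (Subgroup.normalizer ((A.map (QuotientGroup.mk' Z) : Subgroup (P ⧸ Z)) : Set (P ⧸ Z))) =
      A.relIndex (Subgroup.normalizer (A : Set P)) := by
  have h1 : A.relIndex (Subgroup.normalizer (A : Set P)) =
      ((A.map (QuotientGroup.mk' Z)).comap (QuotientGroup.mk' Z)).relIndex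
        ((Subgroup.normalizer ((A.map (QuotientGroup.mk' Z) : Subgroup (P ⧸ Z)) :
          Set (P ⧸ Z))).comap (QuotientGroup.mk' Z)) := by
    rw [← normalizer_eq_comap Z hZA, comap_map_mk Z hZA]
  rw [h1, Subgroup.relIndex_comap,
    Subgroup.map_comap_eq_self_of_surjective (QuotientGroup.mk'_surjective Z)]

theorem index_map_mk {A : Subgroup P} (hZA : Z ≤ A) :
    (A.map (QuotientGroup.mk' Z)).index = A.index := by
  conv_rhs => rw [← comap_map_mk Z hZA]
  rw [Subgroup.index_comap_of_surjective _ (QuotientGroup.mk'_surjective Z)]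

theorem chainNorm_of_map {p : ℕ} {E : Subgroup P} (hZE : Z ≤ E)
    (h : ChainNorm p (E.map (QuotientGroup.mk' Z))) : ChainNorm p E := by
  constructor
  · intro K L hK hL
    rcases h.1 (K.map (QuotientGroup.mk' Z)) (L.map (QuotientGroup.mk' Z))
      (Subgroup.map_mono hK) (Subgroup.map_mono hL) with h1 | h1
    · left
      rw [← comap_map_mk Z (hZE.trans hK), ← comap_map_mk Z (hZE.trans hL)]
      exact Subgroup.comap_mono h1
    · right
      rw [← comap_map_mk Z (hZE.trans hK), ← comap_map_mk Z (hZE.trans hL)]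
      exact Subgroup.comap_mono h1
  · intro K hK hKtop
    rw [← relIndex_map_normalizer Z (hZE.trans hK)]
    apply h.2 _ (Subgroup.map_mono hK)
    intro htop
    apply hKtop
    rw [← comap_map_mk Z (hZE.trans hK), htop, Subgroup.comap_top]

/-- an element centralizing `A/Z` in `P/Z` normalizes `A`. -/
theorem mem_normalizer_of_mk_mem_centralizer [Finite P] {A : Subgroup P} (hZA : Z ≤ A) {x : P}
    (hx : (QuotientGroup.mk' Z x) ∈ Subgroup.centralizer
      ((A.map (QuotientGroup.mk' Z) : Subgroup (P ⧸ Z)) : Set (P ⧸ Z))) :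
    x ∈ Subgroup.normalizer (A : Set P) := by
  apply conj_mem_normalizer_of_map_eq
  apply Subgroup.eq_of_le_of_card_ge
  · rintro _ ⟨a, ha, rfl⟩
    show x * a * x⁻¹ ∈ A
    rw [Subgroup.mem_centralizer_iff] at hx
    have h1 := hx _ (Subgroup.mem_map_of_mem (QuotientGroup.mk' Z) ha)
    have h2 : QuotientGroup.mk' Z (x * a * x⁻¹) = QuotientGroup.mk' Z a := by
      rw [map_mul, map_mul, ← h1, map_inv, mul_inv_cancel_right]
    have h3 : a⁻¹ * (x * a * x⁻¹) ∈ Z := by
      rw [← QuotientGroup.eq]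
      exact h2.symm
    have h4 : x * a * x⁻¹ = a * (a⁻¹ * (x * a * x⁻¹)) := by group
    rw [h4]
    exact A.mul_mem ha (hZA h3)
  · rw [card_map_conj]

end Quot

section SoftQuot

variable {P : Type*} [Group P] [Finite P] {p : ℕ} [hp : Fact p.Prime]
variable (Z : Subgroup P) [hZ : Z.Normal]

theorem isSoft_map_case1 {E : Subgroup P} (hZE : Z ≤ E) (hE : IsSoft p E)
    (hc : ∀ g : P, (QuotientGroup.mk' Z g) ∈ Subgroup.centralizer
      ((E.map (QuotientGroup.mk' Z) : Subgroup (P ⧸ Z)) : Set (P ⧸ Z)) → g ∈ E) :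
    IsSoft p (E.map (QuotientGroup.mk' Z)) := by
  refine ⟨?_, ?_, ?_⟩
  · rintro _ ⟨a, ha, rfl⟩ _ ⟨b, hb, rfl⟩
    rw [← map_mul, ← map_mul, hE.comm a ha b hb]
  · intro x hx
    obtain ⟨x', rfl⟩ := QuotientGroup.mk'_surjective Z x
    exact Subgroup.mem_map_of_mem _ (hc x' hx)
  · rw [relIndex_map_normalizer Z hZE, hE.idx]

theorem isSoft_map_case2 (hP : IsPGroup p P) {E : Subgroup P} (hZE : Z ≤ E) (hE : IsSoft p E)
    (hN1 : Subgroup.normalizer (E : Set P) ≠ ⊤) {g : P} (hgE : g ∉ E)
    (hg : (QuotientGroup.mk' Z g) ∈ Subgroup.centralizer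
      ((E.map (QuotientGroup.mk' Z) : Subgroup (P ⧸ Z)) : Set (P ⧸ Z))) :
    IsSoft p ((Subgroup.normalizer (E : Set P)).map (QuotientGroup.mk' Z)) := by
  have hgN : g ∈ Subgroup.normalizer (E : Set P) := mem_normalizer_of_mk_mem_centralizer Z hZE hg
  have hprime : (E.relIndex (Subgroup.normalizer (E : Set P))).Prime := by
    rw [hE.idx]; exact hp.out
  have hsup : E ⊔ Subgroup.zpowers g = Subgroup.normalizer (E : Set P) := by
    rcases eq_or_eq_of_relIndex_prime (le_sup_left : E ≤ E ⊔ Subgroup.zpowers g)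
      (sup_le Subgroup.le_normalizer (by rw [Subgroup.zpowers_le]; exact hgN)) hprime with h | h
    · exfalso
      apply hgE
      rw [← h]
      exact (le_sup_right : Subgroup.zpowers g ≤ _) (Subgroup.mem_zpowers g)
    · exact h
  obtain ⟨Eb, hEb⟩ : ∃ Eb, Eb = E.map (QuotientGroup.mk' Z) := ⟨_, rfl⟩
  obtain ⟨gb, hgb⟩ : ∃ gb, gb = QuotientGroup.mk' Z g := ⟨_, rfl⟩
  rw [← hEb, ← hgb] at hg
  have hmap : (Subgroup.normalizer (E : Set P)).map (QuotientGroup.mk' Z) =
      Eb ⊔ Subgroup.zpowers gb := by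
    rw [← hsup, Subgroup.map_sup, MonoidHom.map_zpowers, hEb, hgb]
  have hEbcomm : Eb ≤ Subgroup.centralizer (Eb : Set (P ⧸ Z)) := by
    intro a ha
    rw [Subgroup.mem_centralizer_iff]
    intro b hb
    rw [hEb] at ha hb
    obtain ⟨a', ha', rfl⟩ := ha
    obtain ⟨b', hb', rfl⟩ := hb
    rw [← map_mul, ← map_mul, hE.comm b' hb' a' ha']
  have hgbE : Subgroup.zpowers gb ≤ Subgroup.centralizer (Eb : Set (P ⧸ Z)) := by
    rw [Subgroup.zpowers_le]; exact hg
  have hgbg : Subgroup.zpowers gb ≤
      Subgroup.centralizer ((Subgroup.zpowers gb : Subgroup (P ⧸ Z)) : Set (P ⧸ Z)) := by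
    intro a ha
    rw [Subgroup.mem_centralizer_iff]
    intro b hb
    obtain ⟨m, rfl⟩ := Subgroup.mem_zpowers_iff.mp ha
    obtain ⟨m', rfl⟩ := Subgroup.mem_zpowers_iff.mp hb
    rw [← zpow_add, ← zpow_add, add_comm]
  refine ⟨?_, ?_, ?_⟩
  · intro a ha b hb
    rw [hmap] at ha hb
    have h1 : Eb ⊔ Subgroup.zpowers gb ≤
        Subgroup.centralizer ((Eb ⊔ Subgroup.zpowers gb : Subgroup (P ⧸ Z)) : Set (P ⧸ Z)) := by
      apply sup_le
      · rw [Subgroup.le_centralizer_iff]
        exact sup_le hEbcomm hgbE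
      · rw [Subgroup.le_centralizer_iff]
        apply sup_le
        · rw [Subgroup.le_centralizer_iff]; exact hgbE
        · exact hgbg
    have h2 := h1 hb
    rw [Subgroup.mem_centralizer_iff] at h2
    exact h2 a ha
  · intro x hx
    obtain ⟨x', rfl⟩ := QuotientGroup.mk'_surjective Z x
    apply Subgroup.mem_map_of_mem
    apply mem_normalizer_of_mk_mem_centralizer Z hZE
    have hle : ((E.map (QuotientGroup.mk' Z) : Subgroup (P ⧸ Z)) : Set (P ⧸ Z)) ⊆
        (((Subgroup.normalizer (E : Set P)).map (QuotientGroup.mk' Z) : Subgroup (P ⧸ Z)) :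
          Set (P ⧸ Z)) := by
      intro y hy
      exact Subgroup.map_mono Subgroup.le_normalizer hy
    exact Subgroup.centralizer_le hle hx
  · rw [relIndex_map_normalizer Z (hZE.trans Subgroup.le_normalizer)]
    exact hE.relIndex_normalizer_normalizer hP hN1

end SoftQuot

section Main

theorem chainNorm_of_normalizer {P : Type*} [Group P] [Finite P] {p : ℕ} [hp : Fact p.Prime]
    (hP : IsPGroup p P) {E : Subgroup P} (hE : IsSoft p E)
    (hCN : ChainNorm p (Subgroup.normalizer (E : Set P))) : ChainNorm p E := by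
  constructor
  · intro K L hK hL
    by_cases hKE : K = E
    · left; rw [hKE]; exact hL
    by_cases hLE : L = E
    · right; rw [hLE]; exact hK
    exact hCN.1 K L (hE.normalizer_le hP (lt_of_le_of_ne hK (Ne.symm hKE)))
      (hE.normalizer_le hP (lt_of_le_of_ne hL (Ne.symm hLE)))
  · intro K hK hKtop
    by_cases hKE : K = E
    · rw [hKE]; exact hE.idx
    exact hCN.2 K (hE.normalizer_le hP (lt_of_le_of_ne hK (Ne.symm hKE))) hKtop

theorem index_pow {P : Type*} [Group P] [Finite P] {p : ℕ} [hp : Fact p.Prime]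
    (hP : IsPGroup p P) (H : Subgroup P) : ∃ k, H.index = p ^ k := by
  obtain ⟨k, hk⟩ := relIndex_pow hP H ⊤
  exact ⟨k, by rw [← Subgroup.relIndex_top_right, hk]⟩

theorem chainNorm_main (p : ℕ) [hp : Fact p.Prime] :
    ∀ n : ℕ, ∀ (P : Type u) [Group P] [Finite P], Nat.card P = n → IsPGroup p P →
      ∀ E : Subgroup P, IsSoft p E → p ^ 2 ≤ E.index → ChainNorm p E := by
  intro n
  induction n using Nat.strong_induction_on with
  | _ n IH =>
  intro P _ _ hcard hP E hE hidx
  classical
  have hp1 : 1 < p := hp.out.one_lt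
  haveI : Nontrivial P := by
    by_contra h
    rw [not_nontrivial_iff_subsingleton] at h
    have h1 : E = ⊤ := Subsingleton.elim _ _
    rw [h1, Subgroup.index_top] at hidx
    have : 1 < p ^ 2 := Nat.one_lt_pow (by norm_num) hp1
    omega
  haveI hcen : Nontrivial ↥(Subgroup.center P) := hP.center_nontrivial
  have hdvd : p ∣ Nat.card ↥(Subgroup.center P) := by
    obtain ⟨k, hk⟩ := (IsPGroup.iff_card (p := p)).mp (hP.to_subgroup (Subgroup.center P))
    have hk0 : k ≠ 0 := by
      intro h0
      rw [h0, pow_zero] at hk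
      have := Finite.one_lt_card (α := ↥(Subgroup.center P))
      omega
    rw [hk]
    exact dvd_pow_self p hk0
  obtain ⟨z, hz⟩ := exists_prime_orderOf_dvd_card' p hdvd
  obtain ⟨Z, hZdef⟩ : ∃ Z : Subgroup P, Z = Subgroup.zpowers (z : P) := ⟨_, rfl⟩
  have hZc : Z ≤ Subgroup.center P := by
    rw [hZdef, Subgroup.zpowers_le]; exact z.2
  haveI hZn : Z.Normal := ⟨fun a ha g => by
    have h1 : a ∈ Subgroup.center P := hZc ha
    have h2 : g * a = a * g := Subgroup.mem_center_iff.mp h1 g
    rw [h2, mul_inv_cancel_right]; exact ha⟩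
  have hZE : Z ≤ E := hZc.trans ((Subgroup.center_le_centralizer _).trans hE.cent)
  have hZcard : Nat.card ↥Z = p := by
    rw [hZdef, Nat.card_zpowers, Subgroup.orderOf_coe, hz]
  have hQcard : Nat.card (P ⧸ Z) < n := by
    have h1 := Subgroup.card_eq_card_quotient_mul_card_subgroup Z
    rw [hcard, hZcard] at h1
    have hpos : 0 < Nat.card (P ⧸ Z) := Nat.card_pos
    rw [h1]
    nlinarith
  have hPq : IsPGroup p (P ⧸ Z) := hP.to_quotient Z
  by_cases hcase : ∃ g : P, g ∉ E ∧ (QuotientGroup.mk' Z g) ∈ Subgroup.centralizer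
      ((E.map (QuotientGroup.mk' Z) : Subgroup (P ⧸ Z)) : Set (P ⧸ Z))
  · obtain ⟨g, hgE, hg⟩ := hcase
    have hEN : E.relIndex (Subgroup.normalizer (E : Set P)) *
        (Subgroup.normalizer (E : Set P)).index = E.index :=
      Subgroup.relIndex_mul_index Subgroup.le_normalizer
    rw [hE.idx] at hEN
    have hN1 : Subgroup.normalizer (E : Set P) ≠ ⊤ := by
      intro htop
      rw [htop, Subgroup.index_top, mul_one] at hEN
      rw [← hEN] at hidx
      have : p < p ^ 2 := by nlinarith
      omega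
    apply chainNorm_of_normalizer hP hE
    by_cases hN1idx : (Subgroup.normalizer (E : Set P)).index = p
    · -- only two overgroups
      have hprime : ((Subgroup.normalizer (E : Set P)).relIndex ⊤).Prime := by
        rw [Subgroup.relIndex_top_right, hN1idx]; exact hp.out
      constructor
      · intro K L hK hL
        rcases eq_or_eq_of_relIndex_prime hK le_top hprime with h | h
        · left; rw [h]; exact hL
        · right; rw [h]; exact le_top
      · intro K hK hKtop
        rcases eq_or_eq_of_relIndex_prime hK le_top hprime with h | h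
        · rw [h]; exact hE.relIndex_normalizer_normalizer hP hN1
        · exact absurd h hKtop
    · obtain ⟨k, hk⟩ := index_pow hP (Subgroup.normalizer (E : Set P))
      have hk0 : k ≠ 0 := by
        intro h0
        rw [h0, pow_zero] at hk
        exact hN1 (Subgroup.index_eq_one.mp hk)
      have hk1 : k ≠ 1 := by
        intro h1
        rw [h1, pow_one] at hk
        exact hN1idx hk
      have hk2 : p ^ 2 ≤ (Subgroup.normalizer (E : Set P)).index := by
        rw [hk]; exact Nat.pow_le_pow_right hp.out.pos (by omega)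
      have hsoft := isSoft_map_case2 Z hP hZE hE hN1 hgE hg
      have hidx' : p ^ 2 ≤ ((Subgroup.normalizer (E : Set P)).map (QuotientGroup.mk' Z)).index := by
        rw [index_map_mk Z (hZE.trans Subgroup.le_normalizer)]; exact hk2
      exact chainNorm_of_map Z (hZE.trans Subgroup.le_normalizer)
        (IH _ hQcard (P ⧸ Z) rfl hPq _ hsoft hidx')
  · have hc : ∀ g : P, (QuotientGroup.mk' Z g) ∈ Subgroup.centralizer
        ((E.map (QuotientGroup.mk' Z) : Subgroup (P ⧸ Z)) : Set (P ⧸ Z)) → g ∈ E := by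
      intro g hg
      by_contra hgE
      exact hcase ⟨g, hgE, hg⟩
    have hsoft := isSoft_map_case1 Z hZE hE hc
    have hidx' : p ^ 2 ≤ (E.map (QuotientGroup.mk' Z)).index := by
      rw [index_map_mk Z hZE]; exact hidx
    exact chainNorm_of_map Z hZE (IH _ hQcard (P ⧸ Z) rfl hPq _ hsoft hidx')

end Main

end Cfsg.Agent.helper20.Soft
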