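import Mathlib
import Cfsg.Agent.Lib_helper20_Soft2

set_option autoImplicit false
set_option linter.style.haveILetI false
set_option linter.unusedSectionVars false
set_option linter.unusedVariables false

/-! Soft subgroups of `p`-groups: nilpotency classes of the members of the normalizer tower. -/

namespace Cfsg.Agent.helper20.Soft

universe u

section Helpers

theorem class_congr {G H : Type*} [Group G] [Group H] (e : G ≃* H) [hG : Group.IsNilpotent G]
    [hH : Group.IsNilpotent H] : Group.nilpotencyClass G = Group.nilpotencyClass H := by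
  apply le_antisymm
  · exact Group.nilpotencyClass_le_of_surjective e.symm.toMonoidHom e.symm.surjective
  · exact Group.nilpotencyClass_le_of_surjective e.toMonoidHom e.surjective

variable {P : Type*} [Group P]

theorem isSoft_subgroupOf {p : ℕ} {E L : Subgroup P} (hE : IsSoft p E)
    (hNL : Subgroup.normalizer (E : Set P) ≤ L) : IsSoft p (E.subgroupOf L) := by
  have hEL : E ≤ L := Subgroup.le_normalizer.trans hNL
  refine ⟨?_, ?_, ?_⟩
  · intro a ha b hb
    apply Subtype.ext
    exact hE.comm _ (Subgroup.mem_subgroupOf.mp ha) _ (Subgroup.mem_subgroupOf.mp hb)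
  · intro x hx
    rw [Subgroup.mem_subgroupOf]
    apply hE.cent
    rw [Subgroup.mem_centralizer_iff] at hx ⊢
    intro e he
    have := hx ⟨e, hEL he⟩ (Subgroup.mem_subgroupOf.mpr he)
    exact congrArg Subtype.val this
  · rw [← Subgroup.subgroupOf_normalizer_eq hEL, Subgroup.relIndex_subgroupOf hNL, hE.idx]

/-- the centre of a subgroup, as a subgroup of the ambient group. -/
def zOf (K : Subgroup P) : Subgroup P := Subgroup.centralizer (K : Set P) ⊓ K

theorem mem_zOf {K : Subgroup P} {a : P} : a ∈ zOf K ↔ (∀ k ∈ K, k * a = a * k) ∧ a ∈ K := by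
  unfold zOf
  rw [Subgroup.mem_inf, Subgroup.mem_centralizer_iff]
  rfl

instance zOf_normal (K : Subgroup P) [hK : K.Normal] : (zOf K).Normal := by
  constructor
  intro a ha g
  rw [mem_zOf] at ha ⊢
  refine ⟨?_, hK.conj_mem a ha.2 g⟩
  intro k hk
  have h1 : g⁻¹ * k * g⁻¹⁻¹ ∈ K := hK.conj_mem k hk g⁻¹
  have h2 := ha.1 _ h1
  calc k * (g * a * g⁻¹) = g * ((g⁻¹ * k * g⁻¹⁻¹) * a) * g⁻¹ := by group
    _ = g * (a * (g⁻¹ * k * g⁻¹⁻¹)) * g⁻¹ := by rw [h2]
    _ = g * a * g⁻¹ * k := by group

theorem zOf_subgroupOf_eq_center (K : Subgroup P) : (zOf K).subgroupOf K = Subgroup.center ↥K := by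
  ext x
  rw [Subgroup.mem_subgroupOf, mem_zOf, Subgroup.mem_center_iff]
  constructor
  · intro h k
    apply Subtype.ext
    exact h.1 k k.2
  · intro h
    refine ⟨?_, x.2⟩
    intro k hk
    exact congrArg Subtype.val (h ⟨k, hk⟩)

/-- `K/Z(K)` is isomorphic to the image of `K` in `P/Z(K)`. -/
noncomputable def quotCenterEquiv (K : Subgroup P) [hK : K.Normal] :
    ↥K ⧸ Subgroup.center ↥K ≃* ↥(K.map (QuotientGroup.mk' (zOf K))) :=
  (QuotientGroup.quotientMulEquivOfEq (by
    ext x
    rw [MonoidHom.mem_ker, ← zOf_subgroupOf_eq_center, Subgroup.mem_subgroupOf]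
    constructor
    · intro hx
      apply Subtype.ext
      show QuotientGroup.mk' (zOf K) (x : P) = 1
      rw [QuotientGroup.mk'_apply, QuotientGroup.eq_one_iff]
      exact hx
    · intro hx
      have := congrArg Subtype.val hx
      have h2 : QuotientGroup.mk' (zOf K) (x : P) = 1 := this
      rw [QuotientGroup.mk'_apply, QuotientGroup.eq_one_iff] at h2
      exact h2 :
    Subgroup.center ↥K = ((QuotientGroup.mk' (zOf K)).subgroupMap K).ker)).trans
  (QuotientGroup.quotientKerEquivOfSurjective ((QuotientGroup.mk' (zOf K)).subgroupMap K)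
    (MonoidHom.subgroupMap_surjective _ _))

end Helpers

section Outside

variable {P : Type*} [Group P] [Finite P] {p : ℕ} [hp : Fact p.Prime]

theorem class_le_one_of_comm {G : Type*} [Group G] [Group.IsNilpotent G]
    (h : ∀ a b : G, a * b = b * a) : Group.nilpotencyClass G ≤ 1 := by
  rw [← Subgroup.upperCentralSeries_eq_top_iff_nilpotencyClass_le, Subgroup.upperCentralSeries_one,
    eq_top_iff]
  intro x _
  rw [Subgroup.mem_center_iff]
  intro g
  exact h g x

/-- a normal overgroup of a soft subgroup which is proper is its normal closure. -/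
theorem normalClosure_eq (hP : IsPGroup p P) {E : Subgroup P} (hCN : ChainNorm p E)
    (K : Subgroup P) [hK : K.Normal] (hEK : E ≤ K) (hKtop : K ≠ ⊤) :
    Subgroup.normalClosure (E : Set P) = K := by
  obtain ⟨X, hX⟩ : ∃ X, X = Subgroup.normalClosure (E : Set P) := ⟨_, rfl⟩
  rw [← hX]
  haveI hXn : X.Normal := by rw [hX]; exact Subgroup.normalClosure_normal
  have hEX : E ≤ X := by rw [hX]; exact Subgroup.le_normalClosure
  have hXK : X ≤ K := by rw [hX]; exact Subgroup.normalClosure_le_normal hEK
  have hXtop : X ≠ ⊤ := by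
    intro h
    apply hKtop
    rw [eq_top_iff, ← h]
    exact hXK
  have h1 := hCN.2 X hEX hXtop
  rw [Subgroup.normalizer_eq_top_iff.mpr hXn, Subgroup.relIndex_top_right] at h1
  have h2 := hCN.2 K hEK hKtop
  rw [Subgroup.normalizer_eq_top_iff.mpr hK, Subgroup.relIndex_top_right] at h2
  have h3 := Subgroup.relIndex_mul_index hXK
  rw [h1, h2] at h3
  have h4 : X.relIndex K = 1 := by
    have hp0 : 0 < p := hp.out.pos
    exact Nat.eq_of_mul_eq_mul_right hp0 (by rw [h3, one_mul])
  exact le_antisymm hXK (Subgroup.relIndex_eq_one.mp h4)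

theorem exists_outside (hP : IsPGroup p P) {E : Subgroup P} (hE : IsSoft p E)
    (hCN : ChainNorm p E) (K : Subgroup P) [hK : K.Normal] (hEK : E < K) (hKtop : K ≠ ⊤) :
    ∃ g : P, g ∉ E ∧ (QuotientGroup.mk' (zOf K) g) ∈ Subgroup.centralizer
      ((E.map (QuotientGroup.mk' (zOf K)) : Subgroup (P ⧸ zOf K)) : Set (P ⧸ zOf K)) := by
  classical
  by_contra hcon
  have hc : ∀ g : P, (QuotientGroup.mk' (zOf K) g) ∈ Subgroup.centralizer
      ((E.map (QuotientGroup.mk' (zOf K)) : Subgroup (P ⧸ zOf K)) : Set (P ⧸ zOf K)) → g ∈ E := by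
    intro g hg
    by_contra hgE
    exact hcon ⟨g, hgE, hg⟩
  -- the quotient K / Z(K) is nontrivial
  haveI hnt : Nontrivial (↥K ⧸ Subgroup.center ↥K) := by
    by_contra hnt
    rw [not_nontrivial_iff_subsingleton] at hnt
    have h1 : ∀ x : ↥K, x ∈ Subgroup.center ↥K := by
      intro x
      rw [← QuotientGroup.eq_one_iff]
      exact Subsingleton.elim _ _
    have h2 : K ≤ Subgroup.centralizer (E : Set P) := by
      intro k hk
      rw [Subgroup.mem_centralizer_iff]
      intro e he
      have := Subgroup.mem_center_iff.mp (h1 ⟨k, hk⟩) ⟨e, hEK.le he⟩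
      exact congrArg Subtype.val this
    exact (not_le_of_gt hEK) (h2.trans hE.cent)
  have hPK : IsPGroup p (↥K ⧸ Subgroup.center ↥K) := (hP.to_subgroup K).to_quotient _
  haveI := hPK.center_nontrivial
  obtain ⟨⟨cb, hcb⟩, hcb1⟩ := exists_ne (1 : ↥(Subgroup.center (↥K ⧸ Subgroup.center ↥K)))
  obtain ⟨c, rfl⟩ := QuotientGroup.mk_surjective cb
  have hcZ : c ∉ Subgroup.center ↥K := by
    intro h
    apply hcb1
    apply Subtype.ext
    exact (QuotientGroup.eq_one_iff c).mpr h
  have hcomm : ∀ k : ↥K, (k * c)⁻¹ * (c * k) ∈ Subgroup.center ↥K := by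
    intro k
    have := Subgroup.mem_center_iff.mp hcb (QuotientGroup.mk k)
    rw [← QuotientGroup.eq]
    exact this
  -- every conjugate of c lies in E
  have hconj : ∀ h : P, h * (c : P) * h⁻¹ ∈ E := by
    intro h
    apply hc
    rw [Subgroup.mem_centralizer_iff]
    rintro _ ⟨e, he, rfl⟩
    rw [← map_mul, ← map_mul, QuotientGroup.mk'_apply, QuotientGroup.mk'_apply, QuotientGroup.eq]
    -- (e * c')⁻¹ * (c' * e) ∈ zOf K where c' = h c h⁻¹
    have hk' : h⁻¹ * e * h⁻¹⁻¹ ∈ K := hK.conj_mem e (hEK.le he) h⁻¹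
    have h1 := hcomm ⟨h⁻¹ * e * h⁻¹⁻¹, hk'⟩
    rw [← zOf_subgroupOf_eq_center, Subgroup.mem_subgroupOf] at h1
    have h2 := (zOf_normal K).conj_mem _ h1 h
    have h3 : h * ((((⟨h⁻¹ * e * h⁻¹⁻¹, hk'⟩ : ↥K) * c)⁻¹ * (c * ⟨h⁻¹ * e * h⁻¹⁻¹, hk'⟩) : ↥K) : P)
        * h⁻¹ = (e * (h * (c : P) * h⁻¹))⁻¹ * (h * (c : P) * h⁻¹ * e) := by
      simp only [Subgroup.coe_mul, Subgroup.coe_inv]
      group
    rw [← h3]
    exact h2
  -- hence c centralizes K
  obtain ⟨Y, hY⟩ : ∃ Y : Subgroup P, Y = Subgroup.centralizer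
      (Set.range fun h : P => h * (c : P) * h⁻¹) := ⟨_, rfl⟩
  haveI hYn : Y.Normal := by
    constructor
    intro y hy g
    rw [hY, Subgroup.mem_centralizer_iff] at hy ⊢
    rintro _ ⟨h, rfl⟩
    have h1 := hy (g⁻¹ * h * (c : P) * (g⁻¹ * h)⁻¹) ⟨g⁻¹ * h, by simp [mul_assoc]⟩
    calc h * (c : P) * h⁻¹ * (g * y * g⁻¹)
        = g * ((g⁻¹ * h * (c : P) * (g⁻¹ * h)⁻¹) * y) * g⁻¹ := by group
      _ = g * (y * (g⁻¹ * h * (c : P) * (g⁻¹ * h)⁻¹)) * g⁻¹ := by rw [h1]
      _ = g * y * g⁻¹ * (h * (c : P) * h⁻¹) := by group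
  have hEY : (E : Set P) ⊆ Y := by
    intro e he
    rw [hY]
    show e ∈ Subgroup.centralizer _
    rw [Subgroup.mem_centralizer_iff]
    rintro _ ⟨h, rfl⟩
    exact hE.comm _ (hconj h) _ he
  have hKY : K ≤ Y := by
    rw [← normalClosure_eq hP hCN K hEK.le hKtop]
    exact Subgroup.normalClosure_le_normal hEY
  apply hcZ
  rw [Subgroup.mem_center_iff]
  intro k
  apply Subtype.ext
  have h1 := hKY k.2
  rw [hY, Subgroup.mem_centralizer_iff] at h1
  have h2 := h1 (c : P) ⟨1, by simp⟩
  exact h2.symm

end Outside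

section ClassMain

theorem class_main (p : ℕ) [hp : Fact p.Prime] :
    ∀ n : ℕ, ∀ (P : Type u) [Group P] [Finite P], Nat.card P = n → IsPGroup p P →
      ∀ E : Subgroup P, IsSoft p E → p ^ 2 ≤ E.index →
      ∀ (i : ℕ) (K : Subgroup P) [Group.IsNilpotent ↥K], E ≤ K → K ≠ ⊤ →
        K.index * p ^ i = E.index → Group.nilpotencyClass ↥K = i + 1 := by
  intro n
  induction n using Nat.strong_induction_on with
  | _ n IH =>
  intro P _ _ hcard hP E hE hidx i K _ hEK hKtop hKi
  classical
  have hCN := chainNorm_main p n P hcard hP E hE hidx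
  have hp1 : 1 < p := hp.out.one_lt
  have hp0 : 0 < p := hp.out.pos
  haveI : Nontrivial P := by
    by_contra h
    rw [not_nontrivial_iff_subsingleton] at h
    exact hKtop (Subsingleton.elim _ _)
  have hKidx0 : K.index ≠ 0 := Subgroup.index_ne_zero_of_finite
  have hEKrel : E.relIndex K = p ^ i := by
    have h1 := Subgroup.relIndex_mul_index hEK
    rw [← hKi, mul_comm] at h1
    exact Nat.eq_of_mul_eq_mul_left (Nat.pos_of_ne_zero hKidx0) h1
  haveI hKnt : Nontrivial ↥K := by
    rw [Subgroup.nontrivial_iff_ne_bot]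
    intro h
    apply hE.ne_bot
    rw [eq_bot_iff, ← h]
    exact hEK
  rcases Nat.eq_zero_or_pos i with hi0 | hipos
  · -- K = E
    have hKE : K ≤ E := Subgroup.relIndex_eq_one.mp (by rw [hEKrel, hi0, pow_zero])
    rw [hi0, zero_add]
    apply le_antisymm
    · apply class_le_one_of_comm
      intro a b
      apply Subtype.ext
      exact hE.comm _ (hKE a.2) _ (hKE b.2)
    · rw [Nat.one_le_iff_ne_zero, Ne, Group.nilpotencyClass_zero_iff_subsingleton,
        not_subsingleton_iff_nontrivial]
      exact hKnt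
  obtain ⟨L, hLdef⟩ : ∃ L, L = Subgroup.normalizer (K : Set P) := ⟨_, rfl⟩
  have hKL : K.relIndex L = p := by rw [hLdef]; exact hCN.2 K hEK hKtop
  have hKleL : K ≤ L := by rw [hLdef]; exact Subgroup.le_normalizer
  have hpi : p ≤ p ^ i := by
    calc p = p ^ 1 := (pow_one p).symm
      _ ≤ p ^ i := Nat.pow_le_pow_right hp0 hipos
  have hEltK : E < K := by
    refine lt_of_le_of_ne hEK ?_
    intro h
    rw [← h, Subgroup.relIndex_self] at hEKrel
    omega
  have hN1K : Subgroup.normalizer (E : Set P) ≤ K := hE.normalizer_le hP hEltK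
  by_cases hLtop : L = ⊤
  · -- K is normal: quotient by the centre of K
    haveI hKn : K.Normal := Subgroup.normalizer_eq_top_iff.mp (by rw [← hLdef]; exact hLtop)
    have hKidx : K.index = p := by
      rw [hLtop, Subgroup.relIndex_top_right] at hKL; exact hKL
    obtain ⟨g, hgE, hg⟩ := exists_outside hP hE hCN K hEltK hKtop
    have hZE : zOf K ≤ E := by
      intro a ha
      apply hE.cent
      exact Subgroup.centralizer_le (SetLike.coe_subset_coe.mpr hEK) (Subgroup.mem_inf.mp ha).1
    have hN1 : Subgroup.normalizer (E : Set P) ≠ ⊤ := by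
      intro h
      apply hKtop
      rw [eq_top_iff, ← h]
      exact hN1K
    have hsoft := isSoft_map_case2 (zOf K) hP hZE hE hN1 hgE hg
    -- index of N_1
    have hN1idx : (Subgroup.normalizer (E : Set P)).index = p ^ i := by
      have h1 : E.relIndex (Subgroup.normalizer (E : Set P)) *
          (Subgroup.normalizer (E : Set P)).index = E.index :=
        Subgroup.relIndex_mul_index Subgroup.le_normalizer
      rw [hE.idx, ← hKi, hKidx] at h1
      exact Nat.eq_of_mul_eq_mul_left hp0 h1
    rw [Group.nilpotencyClass_eq_quotient_center_plus_one]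
    congr 1
    haveI : Group.IsNilpotent ↥(K.map (QuotientGroup.mk' (zOf K))) :=
      ((hP.to_quotient (zOf K)).to_subgroup _).isNilpotent
    rw [class_congr (quotCenterEquiv K)]
    by_cases hi1 : i = 1
    · -- K = N_1 and its image is abelian
      have hKN : K ≤ Subgroup.normalizer (E : Set P) := by
        have h3 := Subgroup.relIndex_mul_index hN1K
        rw [hN1idx, hKidx, hi1, pow_one] at h3
        have h4 : (Subgroup.normalizer (E : Set P)).relIndex K = 1 :=
          Nat.eq_of_mul_eq_mul_right hp0 (by rw [h3, one_mul])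
        exact Subgroup.relIndex_eq_one.mp h4
      rw [hi1]
      apply le_antisymm
      · apply class_le_one_of_comm
        intro a b
        apply Subtype.ext
        exact hsoft.comm _ (Subgroup.map_mono hKN a.2) _ (Subgroup.map_mono hKN b.2)
      · rw [Nat.one_le_iff_ne_zero, Ne, Group.nilpotencyClass_zero_iff_subsingleton,
          not_subsingleton_iff_nontrivial, Subgroup.nontrivial_iff_ne_bot]
        intro hbot
        apply hgE
        -- g ∈ N_1 ≤ K and K maps to ⊥ so g ∈ zOf K ≤ E
        have hgN : g ∈ Subgroup.normalizer (E : Set P) :=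
          mem_normalizer_of_mk_mem_centralizer (zOf K) hZE hg
        have h5 : QuotientGroup.mk' (zOf K) g ∈ K.map (QuotientGroup.mk' (zOf K)) :=
          Subgroup.mem_map_of_mem _ (hN1K hgN)
        rw [hbot, Subgroup.mem_bot, QuotientGroup.mk'_apply, QuotientGroup.eq_one_iff] at h5
        exact hZE h5
    · have hi2 : 2 ≤ i := by omega
      have hZnt : zOf K ≠ ⊥ := by
        intro hbot
        have h1 : Subgroup.center P ≤ zOf K := by
          intro a ha
          rw [mem_zOf]
          refine ⟨fun k _ => Subgroup.mem_center_iff.mp ha k, ?_⟩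
          exact hEK (hE.cent (Subgroup.center_le_centralizer _ ha))
        rw [hbot, le_bot_iff] at h1
        have := hP.bot_lt_center
        rw [h1] at this
        exact lt_irrefl _ this
      have hQcard : Nat.card (P ⧸ zOf K) < n := by
        have h1 := Subgroup.card_eq_card_quotient_mul_card_subgroup (zOf K)
        rw [hcard] at h1
        have hpos : 0 < Nat.card (P ⧸ zOf K) := Nat.card_pos
        have h2 : 1 < Nat.card ↥(zOf K) := by
          rw [Finite.one_lt_card_iff_nontrivial, Subgroup.nontrivial_iff_ne_bot]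
          exact hZnt
        rw [h1]
        nlinarith
      have hZN : zOf K ≤ Subgroup.normalizer (E : Set P) := hZE.trans Subgroup.le_normalizer
      have hidx' : p ^ 2 ≤ ((Subgroup.normalizer (E : Set P)).map
          (QuotientGroup.mk' (zOf K))).index := by
        rw [index_map_mk (zOf K) hZN, hN1idx]
        exact Nat.pow_le_pow_right hp0 hi2
      have hKtop' : K.map (QuotientGroup.mk' (zOf K)) ≠ ⊤ := by
        intro htop
        apply hKtop
        rw [← comap_map_mk (zOf K) (hZE.trans hEK), htop, Subgroup.comap_top]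
      have hKi' : (K.map (QuotientGroup.mk' (zOf K))).index * p ^ (i - 1) =
          ((Subgroup.normalizer (E : Set P)).map (QuotientGroup.mk' (zOf K))).index := by
        rw [index_map_mk (zOf K) hZN, index_map_mk (zOf K) (hZE.trans hEK), hN1idx, hKidx,
          ← pow_succ']
        congr 1
        omega
      have key := IH _ hQcard (P ⧸ zOf K) rfl (hP.to_quotient (zOf K)) _ hsoft hidx' (i - 1)
        (K.map (QuotientGroup.mk' (zOf K))) (Subgroup.map_mono hN1K) hKtop' hKi'
      rw [key]
      omega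
  · -- pass to the subgroup L
    have hLlt : Nat.card ↥L < n := by
      have h1 := Subgroup.card_mul_index L
      rw [hcard] at h1
      have h2 : L.index ≠ 1 := fun h => hLtop (Subgroup.index_eq_one.mp h)
      have h3 : L.index ≠ 0 := Subgroup.index_ne_zero_of_finite
      have h4 : 0 < Nat.card ↥L := Nat.card_pos
      have h5 : 2 ≤ L.index := by omega
      rw [← h1]
      nlinarith
    have hEL : E ≤ L := hEK.trans hKleL
    have hsoft := isSoft_subgroupOf hE (hN1K.trans hKleL)
    have hrel : E.relIndex L = p ^ i * p := by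
      rw [← Subgroup.relIndex_mul_relIndex E K L hEK hKleL, hEKrel, hKL]
    have hidx' : p ^ 2 ≤ (E.subgroupOf L).index := by
      show p ^ 2 ≤ E.relIndex L
      rw [hrel, pow_two]
      exact Nat.mul_le_mul_right _ hpi
    have hEK' : E.subgroupOf L ≤ K.subgroupOf L := by
      intro x hx
      exact hEK hx
    have hKtop' : K.subgroupOf L ≠ ⊤ := by
      rw [Ne, Subgroup.subgroupOf_eq_top]
      intro hLK
      have : K.relIndex L = 1 := Subgroup.relIndex_eq_one.mpr hLK
      omega
    have hKi' : (K.subgroupOf L).index * p ^ i = (E.subgroupOf L).index := by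
      show K.relIndex L * p ^ i = E.relIndex L
      rw [hrel, hKL, mul_comm]
    haveI : Group.IsNilpotent ↥(K.subgroupOf L) :=
      ((hP.to_subgroup L).to_subgroup _).isNilpotent
    have key := IH _ hLlt ↥L rfl (hP.to_subgroup L) _ hsoft hidx' i (K.subgroupOf L) hEK'
      hKtop' hKi'
    rw [← key]
    exact (class_congr (Subgroup.subgroupOfEquivOfLe hKleL)).symm

end ClassMain

end Cfsg.Agent.helper20.Soft
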