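import Mathlib

set_option autoImplicit false

namespace Cfsg.Agent.helper20

open scoped Pointwise
open MulAction

section
variable {G : Type*} [Group G]

/-- The `k`-element subsets of `G`, with the left multiplication action. -/
def Om (G : Type*) [Group G] [DecidableEq G] (k : ℕ) : SubMulAction G (Finset G) where
  carrier := {M | M.card = k}
  smul_mem' g M hM := by
    simp only [Set.mem_ofPred_eq] at hM ⊢
    rw [Finset.card_smul_finset]; exact hM

/-- The stabilizer of a nonempty finite subset under left multiplication has order dividing the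
size of the subset. -/
theorem card_stabilizer_dvd [DecidableEq G] (M : Finset G) :
    Nat.card (stabilizer G M) ∣ M.card := by
  set S := stabilizer G M with hS
  have hmem : ∀ (s : S) (x : {x // x ∈ M}), (s : G) * (x : G) ∈ M := by
    intro s x
    have h1 : (s : G) • M = M := s.2
    have h2 : (s : G) • (x : G) ∈ (s : G) • M := Finset.smul_mem_smul_finset x.2
    rw [h1] at h2
    exact h2
  let act : MulAction S {x // x ∈ M} :=
    { smul := fun s x => ⟨(s : G) * (x : G), hmem s x⟩
      one_smul := fun x => Subtype.ext (by show ((1 : S) : G) * (x : G) = x; simp)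
      mul_smul := fun s t x => Subtype.ext (by
        show ((s * t : S) : G) * (x : G) = (s : G) * ((t : G) * (x : G))
        simp [mul_assoc]) }
  have hfree : ∀ x : {x // x ∈ M}, stabilizer S x = ⊥ := by
    intro x
    rw [Subgroup.eq_bot_iff_forall]
    intro s hs
    have h1 : s • x = x := hs
    have h2 : (s : G) * (x : G) = x := congrArg Subtype.val h1
    have h3 : (s : G) = 1 := by
      have := mul_right_cancel (h2.trans (one_mul (x : G)).symm)
      exact this
    exact Subtype.ext h3
  have e := MulAction.selfEquivOrbitsQuotientProd hfree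
  have h1 : Nat.card {x // x ∈ M} = Nat.card (Quotient (MulAction.orbitRel S {x // x ∈ M})) *
      Nat.card S := by
    rw [← Nat.card_prod]; exact Nat.card_congr e
  have h2 : Nat.card {x // x ∈ M} = M.card := by
    rw [Nat.card_eq_fintype_card]; simp
  rw [← h2, h1]
  exact dvd_mul_left _ _

/-- Stabilizers of points in the same orbit have the same cardinality. -/
theorem card_stabilizer_smul {α : Type*} [MulAction G α] (g : G) (a : α) :
    Nat.card (stabilizer G (g • a)) = Nat.card (stabilizer G a) := by
  rw [stabilizer_smul_eq_stabilizer_map_conj]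
  exact Subgroup.card_map_of_injective (MulAut.conj g).injective

open Classical in
/-- The finset of elements of a subgroup. -/
noncomputable def subFin [Fintype G] (H : Subgroup G) : Finset G :=
  Finset.univ.filter (fun x => x ∈ H)

theorem mem_subFin [Fintype G] (H : Subgroup G) (x : G) : x ∈ subFin H ↔ x ∈ H := by
  simp [subFin]

theorem card_subFin [Fintype G] (H : Subgroup G) : (subFin H).card = Nat.card H := by
  classical
  rw [Nat.card_eq_fintype_card, Fintype.card_subtype]
  rfl

theorem stabilizer_subFin [Fintype G] [DecidableEq G] (H : Subgroup G) :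
    stabilizer G (subFin H) = H := by
  ext g
  rw [mem_stabilizer_iff]
  constructor
  · intro h
    have h1 : g • (1 : G) ∈ g • subFin H :=
      Finset.smul_mem_smul_finset ((mem_subFin H 1).mpr H.one_mem)
    rw [h] at h1
    have := (mem_subFin H _).mp h1
    simpa using this
  · intro hg
    ext x
    rw [Finset.mem_smul_finset]
    constructor
    · rintro ⟨y, hy, rfl⟩
      exact (mem_subFin H _).mpr (H.mul_mem hg ((mem_subFin H y).mp hy))
    · intro hx
      refine ⟨g⁻¹ * x, (mem_subFin H _).mpr (H.mul_mem (H.inv_mem hg) ((mem_subFin H x).mp hx)), ?_⟩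
      simp

theorem exists_subgroup_of_card_stabilizer [Fintype G] [DecidableEq G] (M : Finset G)
    (hM : Nat.card (stabilizer G M) = M.card) (x : G) (hx : x ∈ M) :
    ∃ H : Subgroup G, Nat.card H = M.card ∧ x⁻¹ • M = subFin H := by
  set S := stabilizer G M with hS
  have himg : (subFin S).image (fun s => s * x) = M := by
    apply Finset.eq_of_subset_of_card_le
    · intro y hy
      obtain ⟨s, hs, rfl⟩ := Finset.mem_image.mp hy
      have hs' : s ∈ S := (mem_subFin S s).mp hs
      have h1 : s • M = M := hs'
      have h2 : s • x ∈ s • M := Finset.smul_mem_smul_finset hx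
      rw [h1] at h2; exact h2
    · rw [Finset.card_image_of_injective _ (mul_left_injective x), card_subFin, hM]
  refine ⟨S.map (MulAut.conj x⁻¹).toMonoidHom, ?_, ?_⟩
  · rw [Subgroup.card_map_of_injective (MulAut.conj x⁻¹).injective, hM]
  · ext y
    rw [mem_subFin, Finset.mem_smul_finset, Subgroup.mem_map]
    constructor
    · rintro ⟨m, hm, rfl⟩
      rw [← himg] at hm
      obtain ⟨s, hs, rfl⟩ := Finset.mem_image.mp hm
      refine ⟨s, (mem_subFin S s).mp hs, ?_⟩
      simp [mul_assoc]
    · rintro ⟨s, hs, rfl⟩
      refine ⟨s * x, ?_, ?_⟩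
      · rw [← himg]; exact Finset.mem_image.mpr ⟨s, (mem_subFin S s).mpr hs, rfl⟩
      · simp [mul_assoc]

/-- Wielandt's count: `C(n, p^β) ≡ r · #{subgroups of order p^β}` modulo `p r`, `n = p^β r`. -/
theorem wielandt_aux [Fintype G] [DecidableEq G] (p β r : ℕ) (hp : p.Prime)
    (hn : Fintype.card G = p ^ β * r) :
    (Fintype.card G).choose (p ^ β) ≡
      r * Nat.card {H : Subgroup G // Nat.card H = p ^ β} [MOD p * r] := by
  classical
  set k := p ^ β with hk
  have hkpos : 0 < k := pow_pos hp.pos β
  have hr0 : r ≠ 0 := by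
    rintro rfl
    rw [mul_zero] at hn
    exact (Fintype.card_pos (α := G)).ne' hn
  -- Ω
  let Ω := ↥(Om G k)
  have hΩcard : Fintype.card Ω = (Fintype.card G).choose k := by
    rw [← Fintype.card_finset_len k]
    exact Fintype.card_congr (Equiv.subtypeEquivRight (fun M => Iff.rfl))
  have hclass := MulAction.card_eq_sum_card_group_div_card_stabilizer G Ω
  -- stabilizer cards
  have hstab : ∀ a : Ω, Nat.card (stabilizer G a) = Nat.card (stabilizer G (a : Finset G)) := by
    intro a; rw [SubMulAction.stabilizer_of_subMul]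
  have hacard : ∀ a : Ω, (a : Finset G).card = k := fun a => a.2
  have hterm : ∀ a : Ω, (Nat.card (stabilizer G a) = k →
      Fintype.card G / Fintype.card (stabilizer G a) = r) ∧
      (Nat.card (stabilizer G a) ≠ k →
      p * r ∣ Fintype.card G / Fintype.card (stabilizer G a)) := by
    intro a
    have h1 : Nat.card (stabilizer G a) ∣ k := by
      have h0 := card_stabilizer_dvd (a : Finset G)
      rw [hacard a] at h0
      rw [hstab]; exact h0
    obtain ⟨j, hj, hcj⟩ := (Nat.dvd_prime_pow hp).mp h1
    have hF : Fintype.card (stabilizer G a) = p ^ j := by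
      rw [← Nat.card_eq_fintype_card]; exact hcj
    have hdiv : Fintype.card G / Fintype.card (stabilizer G a) = p ^ (β - j) * r := by
      rw [hF, hn, hk]
      have : p ^ β = p ^ j * p ^ (β - j) := by rw [← pow_add]; congr 1; omega
      rw [this, mul_assoc, Nat.mul_div_cancel_left _ (pow_pos hp.pos j)]
    constructor
    · intro h
      rw [hcj, hk] at h
      have hjb : j = β := Nat.pow_right_injective hp.two_le h
      rw [hdiv, hjb, Nat.sub_self, pow_zero, one_mul]
    · intro h
      have hjb : j ≠ β := by
        rintro rfl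
        exact h hcj
      have hlt : j < β := lt_of_le_of_ne hj hjb
      rw [hdiv]
      have : p ^ (β - j) = p * p ^ (β - j - 1) := by
        rw [← pow_succ']; congr 1; omega
      rw [this, mul_assoc, mul_comm (p ^ (β - j - 1)) r, ← mul_assoc]
      exact dvd_mul_right _ _
  -- the sum modulo p r
  have hsum : (∑ ω : Quotient (orbitRel G Ω),
      Fintype.card G / Fintype.card (stabilizer G ω.out)) ≡
      ∑ ω : Quotient (orbitRel G Ω), (if Nat.card (stabilizer G ω.out) = k then r else 0)
      [MOD p * r] := by
    rw [← ZMod.natCast_eq_natCast_iff]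
    push_cast
    apply Finset.sum_congr rfl
    intro ω _
    by_cases hc : Nat.card (stabilizer G ω.out) = k
    · rw [if_pos hc, (hterm ω.out).1 hc]
    · rw [if_neg hc]
      have := (hterm ω.out).2 hc
      exact (ZMod.natCast_eq_zero_iff _ _).mpr this
  rw [← hΩcard, hclass]
  refine hsum.trans ?_
  rw [Finset.sum_ite, Finset.sum_const_zero, add_zero, Finset.sum_const, smul_eq_mul]
  -- count
  have hcount : (Finset.univ.filter (fun ω : Quotient (orbitRel G Ω) =>
      Nat.card (stabilizer G ω.out) = k)).card =
      Nat.card {H : Subgroup G // Nat.card H = k} := by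
    rw [← Fintype.card_subtype, ← Nat.card_eq_fintype_card]
    symm
    let hΩ : {H : Subgroup G // Nat.card H = k} → Ω := fun H =>
      ⟨subFin H.1, by
        show (subFin H.1).card = k
        rw [card_subFin]; exact H.2⟩
    have hout : ∀ a : Ω, ∃ g : G, (Quotient.mk'' a : Quotient (orbitRel G Ω)).out = g • a := by
      intro a
      have h1 : (Quotient.mk'' ((Quotient.mk'' a : Quotient (orbitRel G Ω)).out) :
          Quotient (orbitRel G Ω)) = Quotient.mk'' a := Quotient.out_eq' _
      have h2 := Quotient.eq''.mp h1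
      rw [orbitRel_apply] at h2
      obtain ⟨g, hg⟩ := h2
      exact ⟨g, hg.symm⟩
    let F : {H : Subgroup G // Nat.card H = k} →
        {ω : Quotient (orbitRel G Ω) // Nat.card (stabilizer G ω.out) = k} := fun H =>
      ⟨Quotient.mk'' (hΩ H), by
        obtain ⟨g, hg⟩ := hout (hΩ H)
        rw [hg, card_stabilizer_smul, hstab]
        show Nat.card (stabilizer G (subFin H.1)) = k
        rw [stabilizer_subFin]; exact H.2⟩
    have hFinj : Function.Injective F := by
      intro H H' hHH'
      have h1 : (Quotient.mk'' (hΩ H) : Quotient (orbitRel G Ω)) = Quotient.mk'' (hΩ H') :=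
        congrArg Subtype.val hHH'
      have h2 := Quotient.eq''.mp h1
      rw [orbitRel_apply] at h2
      obtain ⟨g, hg⟩ := h2
      have hg' : g • subFin H'.1 = subFin H.1 := congrArg Subtype.val hg
      have h3 : (1 : G) ∈ g • subFin H'.1 := by
        rw [hg']; exact (mem_subFin _ _).mpr H.1.one_mem
      obtain ⟨y, hy, hgy⟩ := Finset.mem_smul_finset.mp h3
      have hgH' : g ∈ H'.1 := by
        have : g = y⁻¹ := by
          have h4 : g * y = 1 := hgy
          exact eq_inv_of_mul_eq_one_left h4
        rw [this]; exact H'.1.inv_mem ((mem_subFin _ _).mp hy)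
      have h5 : g • subFin H'.1 = subFin H'.1 := by
        have : g ∈ stabilizer G (subFin H'.1) := by rw [stabilizer_subFin]; exact hgH'
        exact this
      rw [h5] at hg'
      apply Subtype.ext
      ext z
      rw [← mem_subFin, ← mem_subFin H'.1, hg']
    have hFsurj : Function.Surjective F := by
      rintro ⟨ω, hω⟩
      set a : Ω := ω.out with ha
      have hane : (a : Finset G).Nonempty := by
        rw [← Finset.card_pos, hacard]; exact hkpos
      obtain ⟨x, hx⟩ := hane
      have hM : Nat.card (stabilizer G (a : Finset G)) = (a : Finset G).card := by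
        rw [← hstab, hacard]; exact hω
      obtain ⟨H, hHcard, hHeq⟩ := exists_subgroup_of_card_stabilizer (a : Finset G) hM x hx
      refine ⟨⟨H, by rw [hHcard, hacard]⟩, ?_⟩
      apply Subtype.ext
      show (Quotient.mk'' (hΩ ⟨H, _⟩) : Quotient (orbitRel G Ω)) = ω
      have h1 : hΩ ⟨H, by rw [hHcard, hacard]⟩ = x⁻¹ • a := by
        apply Subtype.ext
        show subFin H = x⁻¹ • (a : Finset G)
        exact hHeq.symm
      rw [h1]
      have h2 : (Quotient.mk'' (x⁻¹ • a) : Quotient (orbitRel G Ω)) = Quotient.mk'' a := by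
        apply Quotient.eq''.mpr
        rw [orbitRel_apply]
        exact ⟨x⁻¹, rfl⟩
      rw [h2, ha]
      exact Quotient.out_eq' ω
    exact Nat.card_congr (Equiv.ofBijective F ⟨hFinj, hFsurj⟩)
  rw [hcount]
  have hmc : Nat.card {H : Subgroup G // Nat.card H = k} * r =
      r * Nat.card {H : Subgroup G // Nat.card H = k} := mul_comm _ _
  rw [hmc]

end

theorem choose_pred_modEq_one (p : ℕ) [Fact p.Prime] (β r : ℕ) (hr : 0 < r) :
    (p ^ β * r - 1).choose (p ^ β - 1) ≡ 1 [MOD p] := by
  have hp : p.Prime := Fact.out
  induction β with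
  | zero => simp [Nat.ModEq]
  | succ β ih =>
    have hApos : 0 < p ^ β * r := Nat.mul_pos (pow_pos hp.pos β) hr
    obtain ⟨A', hA'⟩ := Nat.exists_eq_succ_of_ne_zero hApos.ne'
    obtain ⟨B', hB'⟩ := Nat.exists_eq_succ_of_ne_zero (pow_pos hp.pos β).ne'
    obtain ⟨p', hp'⟩ := Nat.exists_eq_succ_of_ne_zero hp.pos.ne'
    have e1 : p ^ (β + 1) * r - 1 = p * A' + (p - 1) := by
      have : p ^ (β + 1) * r = p * (p ^ β * r) := by rw [pow_succ]; ring
      rw [this, hA', hp']
      simp only [Nat.succ_eq_add_one, Nat.add_sub_cancel]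
      have : (p' + 1) * (A' + 1) = (p' + 1) * A' + p' + 1 := by ring
      rw [this, Nat.add_sub_cancel]
    have e2 : p ^ (β + 1) - 1 = p * B' + (p - 1) := by
      have : p ^ (β + 1) = p * p ^ β := by rw [pow_succ]; ring
      rw [this, hB', hp']
      simp only [Nat.succ_eq_add_one, Nat.add_sub_cancel]
      have : (p' + 1) * (B' + 1) = (p' + 1) * B' + p' + 1 := by ring
      rw [this, Nat.add_sub_cancel]
    have hlt : p - 1 < p := Nat.sub_lt hp.pos Nat.one_pos
    have h := Choose.choose_modEq_choose_mod_mul_choose_div_nat (n := p ^ (β + 1) * r - 1)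
      (k := p ^ (β + 1) - 1) (p := p)
    rw [e1, e2, Nat.mul_add_mod, Nat.mul_add_mod, Nat.mod_eq_of_lt hlt,
      Nat.mul_add_div hp.pos, Nat.mul_add_div hp.pos, Nat.div_eq_of_lt hlt, add_zero, add_zero,
      Nat.choose_self, one_mul] at h
    have hA'' : A' = p ^ β * r - 1 := by rw [hA']; rfl
    have hB'' : B' = p ^ β - 1 := by rw [hB']; rfl
    rw [e1, e2]
    refine h.trans ?_
    rw [hA'', hB'']
    exact ih

/-- **Frobenius / Wielandt**: the number of subgroups of order `p ^ β` of a finite group whose
order is divisible by `p ^ β` is congruent to `1` modulo `p`. -/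
theorem card_subgroups_modEq_one {G : Type*} [Group G] [Finite G] (p β : ℕ) (hp : p.Prime)
    (hdiv : p ^ β ∣ Nat.card G) :
    Nat.card {H : Subgroup G // Nat.card H = p ^ β} ≡ 1 [MOD p] := by
  classical
  have : Fintype G := Fintype.ofFinite G
  have : Fact p.Prime := ⟨hp⟩
  obtain ⟨r, hr⟩ := hdiv
  rw [Nat.card_eq_fintype_card] at hr
  have hr0 : 0 < r := by
    rcases Nat.eq_zero_or_pos r with h | h
    · rw [h, mul_zero] at hr
      exact absurd hr (Fintype.card_pos (α := G)).ne'
    · exact h
  have hkpos : 0 < p ^ β := pow_pos hp.pos β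
  have h1 := wielandt_aux p β r hp hr
  have h2 : (Fintype.card G).choose (p ^ β) = r * (p ^ β * r - 1).choose (p ^ β - 1) := by
    have h := Nat.add_one_mul_choose_eq (p ^ β * r - 1) (p ^ β - 1)
    have hn1 : p ^ β * r - 1 + 1 = p ^ β * r := Nat.sub_add_cancel (Nat.mul_pos hkpos hr0)
    have hk1 : p ^ β - 1 + 1 = p ^ β := Nat.sub_add_cancel hkpos
    rw [hn1, hk1] at h
    rw [hr]
    apply Nat.eq_of_mul_eq_mul_right hkpos
    rw [← h]; ring
  have h3 := choose_pred_modEq_one p β r hr0
  rw [h2] at h1
  have h4 : (p ^ β * r - 1).choose (p ^ β - 1) ≡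
      Nat.card {H : Subgroup G // Nat.card H = p ^ β} [MOD p] := by
    apply Nat.ModEq.mul_left_cancel' (c := r) hr0.ne'
    rw [mul_comm r p]; exact h1
  exact h4.symm.trans h3

end Cfsg.Agent.helper20
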