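import Mathlib
import Cfsg.Agent.Lib_helper1_FrobThm
import Cfsg.Agent.Lib_helper24_CharKer
import Cfsg.Agent.Lib_helper24_CharCount

set_option autoImplicit false
set_option linter.unusedSectionVars false
set_option linter.unusedVariables false
set_option linter.style.longLine false
set_option linter.style.haveILetI false

/-!
Wielandt's generalisation of Frobenius' theorem via characters (helper20): if `K ◁ N ≤ G` and
`N \ K` is a TI-set with normaliser `N` (`g ∉ N`, `t ∈ N \ K` imply `g t g⁻¹ ∉ N`), then there is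
`M ◁ G` with `M ⊓ N = K` and `M ⊔ N = ⊤`.  Adapted from helper1's proof of Frobenius' theorem.
-/

namespace Cfsg.Agent.helper20.WTI

open Cfsg
open Cfsg.Agent.helper1
open scoped ComplexConjugate

variable {G : Type*} [Group G]

/-- Induction from `N` does not change values on `N \ K`. -/
theorem indFun_TIset_apply [Fintype G] (N K : Subgroup G)
    (hTI : ∀ g : G, g ∉ N → ∀ t ∈ N, t ∉ K → g * t * g⁻¹ ∉ N)
    (ψ : N → ℂ) (hψ : IsClassFunction N ψ) (t : N) (ht : (t : G) ∉ K) :
    indFun N ψ (t : G) = ψ t := by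
  classical
  haveI : Fintype N := Fintype.ofFinite _
  have hNne : (Nat.card N : ℂ) ≠ 0 := by
    have : Nat.card N ≠ 0 := Nat.card_pos.ne'
    exact_mod_cast this
  have hterm : ∀ x : G, extendByZero N ψ (x⁻¹ * (t : G) * x) = if x ∈ N then ψ t else 0 := by
    intro x
    by_cases hx : x ∈ N
    · rw [if_pos hx]
      have hmem : x⁻¹ * (t : G) * x ∈ N := N.mul_mem (N.mul_mem (N.inv_mem hx) t.2) hx
      rw [Cfsg.Agent.helper12.extendByZero_of_mem' N ψ _ hmem]
      have := hψ t (⟨x, hx⟩⁻¹ : N)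
      rw [← this]
      congr 1
      apply Subtype.ext
      simp
    · rw [if_neg hx]
      have hx' : x⁻¹ ∉ N := fun h => hx (by simpa using N.inv_mem h)
      apply Cfsg.Agent.helper12.extendByZero_of_not_mem'
      have := hTI x⁻¹ hx' (t : G) t.2 ht
      simpa using this
  unfold indFun
  simp_rw [hterm]
  rw [Finset.sum_ite, Finset.sum_const, Finset.sum_const_zero, add_zero, nsmul_eq_mul]
  have hcard : (Finset.univ.filter (fun x : G => x ∈ N)).card = Nat.card N := by
    rw [Nat.card_eq_fintype_card, Fintype.card_subtype]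
  rw [hcard]
  field_simp

/-- Induction from `N` is an isometry on class functions vanishing on `K`. -/
theorem classInner_indFun_TIset [Fintype G] (N K : Subgroup G) [Fintype N]
    (hTI : ∀ g : G, g ∉ N → ∀ t ∈ N, t ∉ K → g * t * g⁻¹ ∉ N)
    (ψ θ : N → ℂ) (hθ : IsClassFunction N θ) (hψK : ∀ n : N, (n : G) ∈ K → ψ n = 0) :
    classInner (indFun N ψ) (indFun N θ) = classInner ψ θ := by
  classical
  rw [Cfsg.Agent.helper8.frobenius N ψ _ (Cfsg.Agent.helper8.indFun_isClassFunction N θ)]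
  unfold classInner
  congr 1
  apply Finset.sum_congr rfl
  intro n _
  by_cases hn : (n : G) ∈ K
  · rw [hψK n hn, zero_mul, zero_mul]
  · show ψ n * (starRingEnd ℂ) (indFun N θ ↑n) = _
    rw [indFun_TIset_apply N K hTI θ hθ n hn]

section
variable [Fintype G] (N K : Subgroup G)
  (hTI : ∀ g : G, g ∉ N → ∀ t ∈ N, t ∉ K → g * t * g⁻¹ ∉ N)

include hTI in
theorem frobStar_apply_of_not_mem (φ : N → ℂ) (hφ : IsClassFunction N φ) (t : N)
    (ht : (t : G) ∉ K) : frobStar N φ (t : G) = φ t := by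
  unfold frobStar
  rw [Pi.add_apply, indFun_TIset_apply N K hTI _ _ t ht]
  · simp
  · intro a b
    simp only [Pi.sub_apply, Pi.smul_apply, smul_eq_mul, mul_one]
    rw [hφ a b]

theorem frobStar_of_conj_mem (φ : N → ℂ) (hφK : ∀ n : N, (n : G) ∈ K → φ n = φ 1) (x : G)
    (hx : ∀ g : G, g⁻¹ * x * g ∈ N → g⁻¹ * x * g ∈ K) : frobStar N φ x = φ 1 := by
  classical
  unfold frobStar
  rw [Pi.add_apply]
  have h0 : indFun N (φ - (φ 1) • (fun _ : N => (1 : ℂ))) x = 0 := by
    unfold indFun
    rw [Finset.sum_eq_zero, mul_zero]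
    intro g _
    by_cases hg : g⁻¹ * x * g ∈ N
    · rw [Cfsg.Agent.helper12.extendByZero_of_mem' N _ _ hg]
      simp only [Pi.sub_apply, Pi.smul_apply, smul_eq_mul, mul_one]
      rw [hφK ⟨_, hg⟩ (hx g hg), sub_self]
    · exact Cfsg.Agent.helper12.extendByZero_of_not_mem' N _ _ hg
  rw [h0]
  simp

include hTI in
theorem frobStar_norm' [Fintype N] (φ : N → ℂ) (hφ : IsIrrCharacter N φ)
    (hφK : ∀ n : N, (n : G) ∈ K → φ n = φ 1) :
    classInner (frobStar N φ) (frobStar N φ) = 1 := by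
  classical
  obtain ⟨n, hnpos, hn⟩ := Cfsg.Agent.helper24.irr_apply_one hφ
  set one : N → ℂ := fun _ => 1 with hone
  set oneG : G → ℂ := fun _ => 1 with honeG
  have honeirr : IsIrrCharacter N one := Cfsg.Agent.helper24.isIrrCharacter_one
  have honeGirr : IsIrrCharacter G oneG := Cfsg.Agent.helper24.isIrrCharacter_one
  have hφcf : IsClassFunction N φ :=
    Cfsg.Agent.helper24.char_isClassFunction (Cfsg.Agent.helper24.irr_isCharacter hφ)
  have honecf : IsClassFunction N one :=
    Cfsg.Agent.helper24.char_isClassFunction (Cfsg.Agent.helper24.irr_isCharacter honeirr)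
  have honeGcf : IsClassFunction G oneG :=
    Cfsg.Agent.helper24.char_isClassFunction (Cfsg.Agent.helper24.irr_isCharacter honeGirr)
  set α : N → ℂ := φ - (φ 1) • one with hα
  have hαK : ∀ m : N, (m : G) ∈ K → α m = 0 := by
    intro m hm
    simp [hα, hone, hφK m hm]
  have hαcf : IsClassFunction N α := by
    intro a b
    simp only [hα, Pi.sub_apply, Pi.smul_apply, smul_eq_mul]
    rw [hφcf a b, honecf a b]
  set δ : ℂ := classInner φ one with hδ
  have hδreal : conj δ = δ := by
    rw [hδ, Cfsg.Agent.helper24.irr_classInner hφ honeirr]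
    split_ifs <;> simp
  have hδ' : classInner one φ = δ := by
    rw [← Cfsg.Agent.helper24.classInner_conj_symm, ← hδ, hδreal]
  have hdconj : conj (φ 1) = φ 1 := by rw [hn, Complex.conj_natCast]
  have hαα : classInner α α = 1 - 2 * φ 1 * δ + φ 1 ^ 2 := by
    rw [hα, Cfsg.Agent.helper24.classInner_sub_left, Cfsg.Agent.helper8.classInner_sub_right,
      Cfsg.Agent.helper8.classInner_sub_right, Cfsg.Agent.helper24.classInner_smul_left,
      Cfsg.Agent.helper24.classInner_smul_left, Cfsg.Agent.helper8.classInner_smul_right,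
      Cfsg.Agent.helper8.classInner_smul_right, Cfsg.Agent.helper24.irr_classInner_self hφ,
      Cfsg.Agent.helper24.irr_classInner_self honeirr, hδ', ← hδ, hdconj]
    ring
  have hα1' : classInner α one = δ - φ 1 := by
    rw [hα, Cfsg.Agent.helper24.classInner_sub_left, Cfsg.Agent.helper24.classInner_smul_left,
      Cfsg.Agent.helper24.irr_classInner_self honeirr, ← hδ]
    ring
  have hindαα : classInner (indFun N α) (indFun N α) = 1 - 2 * φ 1 * δ + φ 1 ^ 2 := by
    rw [classInner_indFun_TIset N K hTI α α hαcf hαK, hαα]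
  have hindα1 : classInner (indFun N α) oneG = δ - φ 1 := by
    rw [Cfsg.Agent.helper8.frobenius N α oneG honeGcf]
    exact hα1'
  have h1indα : classInner oneG (indFun N α) = δ - φ 1 := by
    rw [← Cfsg.Agent.helper24.classInner_conj_symm, hindα1, map_sub, hδreal, hdconj]
  show classInner (indFun N α + (φ 1) • oneG) (indFun N α + (φ 1) • oneG) = 1
  rw [Cfsg.Agent.helper24.classInner_add_left, Cfsg.Agent.helper8.classInner_add_right,
    Cfsg.Agent.helper8.classInner_add_right, Cfsg.Agent.helper24.classInner_smul_left,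
    Cfsg.Agent.helper24.classInner_smul_left, Cfsg.Agent.helper8.classInner_smul_right,
    Cfsg.Agent.helper8.classInner_smul_right, hindαα, hindα1, h1indα,
    Cfsg.Agent.helper24.irr_classInner_self honeGirr, hdconj]
  ring

include hTI in
theorem frobStar_isIrrCharacter' (φ : N → ℂ) (hφ : IsIrrCharacter N φ)
    (hφK : ∀ n : N, (n : G) ∈ K → φ n = φ 1) :
    IsIrrCharacter G (frobStar N φ) := by
  classical
  haveI : Fintype N := Fintype.ofFinite _
  obtain ⟨n, hnpos, hn⟩ := Cfsg.Agent.helper24.irr_apply_one hφ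
  rcases Cfsg.Agent.helper8.virt_norm_one
    (frobStar_isGeneralizedCharacter N φ (Cfsg.Agent.helper24.irr_isCharacter hφ))
    (frobStar_norm' N K hTI φ hφ hφK) with h | h
  · exact h
  · exfalso
    obtain ⟨m, hmpos, hm⟩ := Cfsg.Agent.helper24.irr_apply_one h
    rw [Pi.neg_apply, frobStar_apply_one, hn] at hm
    have : ((n : ℂ) + (m : ℂ)) = 0 := by rw [← hm]; ring
    have h2 : n + m = 0 := by exact_mod_cast this
    omega

end

/-- Character-theoretic part of Wielandt's theorem. -/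
theorem wielandt_exists [Finite G] (N K : Subgroup G) (hKN : K ≤ N)
    [hKn : (K.subgroupOf N).Normal]
    (hTI : ∀ g : G, g ∉ N → ∀ t ∈ N, t ∉ K → g * t * g⁻¹ ∉ N) :
    ∃ M : Subgroup G, M.Normal ∧ M ⊓ N = K ∧
      ∀ x : G, (∀ g : G, g⁻¹ * x * g ∈ N → g⁻¹ * x * g ∈ K) → x ∈ M := by
  classical
  haveI := Fintype.ofFinite G
  haveI : Fintype N := Fintype.ofFinite _
  set K' : Subgroup N := K.subgroupOf N with hK'
  haveI : Fintype (IrrCharacter (N ⧸ K')) := Fintype.ofFinite _
  -- inflated characters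
  let infl : IrrCharacter (N ⧸ K') → (N → ℂ) := fun ψ =>
    (ψ : N ⧸ K' → ℂ) ∘ (QuotientGroup.mk : N → N ⧸ K')
  have hinflirr : ∀ ψ : IrrCharacter (N ⧸ K'), IsIrrCharacter N (infl ψ) := fun ψ =>
    Cfsg.Agent.helper24.irr_inflation K' ψ.2
  have hmk1 : ∀ n : N, (n : G) ∈ K → (QuotientGroup.mk n : N ⧸ K') = 1 := by
    intro n hn
    rw [QuotientGroup.eq_one_iff, hK', Subgroup.mem_subgroupOf]
    exact hn
  have hinflK : ∀ (ψ : IrrCharacter (N ⧸ K')) (n : N), (n : G) ∈ K → infl ψ n = infl ψ 1 := by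
    intro ψ n hn
    show (ψ : N ⧸ K' → ℂ) (QuotientGroup.mk n) = (ψ : N ⧸ K' → ℂ) (QuotientGroup.mk 1)
    rw [hmk1 n hn, QuotientGroup.mk_one]
  have hstarirr : ∀ ψ : IrrCharacter (N ⧸ K'), IsIrrCharacter G (frobStar N (infl ψ)) :=
    fun ψ => frobStar_isIrrCharacter' N K hTI _ (hinflirr ψ) (hinflK ψ)
  choose L hLn hL using fun ψ : IrrCharacter (N ⧸ K') =>
    Cfsg.Agent.helper24.char_exists_ker (Cfsg.Agent.helper24.irr_isCharacter (hstarirr ψ))
  have hMn : (⨅ ψ : IrrCharacter (N ⧸ K'), L ψ).Normal := Subgroup.normal_iInf_normal hLn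
  have hmemM : ∀ x : G, x ∈ (⨅ ψ : IrrCharacter (N ⧸ K'), L ψ) ↔
      ∀ ψ : IrrCharacter (N ⧸ K'), frobStar N (infl ψ) x = infl ψ 1 := by
    intro x
    rw [Subgroup.mem_iInf]
    constructor
    · intro h ψ
      have := (hL ψ x).mp (h ψ)
      rw [this, frobStar_apply_one]
    · intro h ψ
      rw [hL ψ x, h ψ, frobStar_apply_one]
  -- conjugates of elements of K inside N are in K
  have hKconj : ∀ k ∈ K, ∀ g : G, g⁻¹ * k * g ∈ N → g⁻¹ * k * g ∈ K := by
    intro k hk g hg
    by_cases hgN : g ∈ N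
    · have h1 := hKn.conj_mem ⟨k, hKN hk⟩ (by rw [Subgroup.mem_subgroupOf]; exact hk)
        (⟨g, hgN⟩⁻¹ : N)
      rw [Subgroup.mem_subgroupOf] at h1
      simpa using h1
    · by_contra hnk
      have := hTI g hgN _ hg hnk
      apply this
      have e : g * (g⁻¹ * k * g) * g⁻¹ = k := by group
      rw [e]
      exact hKN hk
  have hthird : ∀ x : G, (∀ g : G, g⁻¹ * x * g ∈ N → g⁻¹ * x * g ∈ K) →
      x ∈ (⨅ ψ : IrrCharacter (N ⧸ K'), L ψ) := by
    intro x hx
    rw [hmemM]
    intro ψ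
    exact frobStar_of_conj_mem N K _ (hinflK ψ) x hx
  refine ⟨⨅ ψ : IrrCharacter (N ⧸ K'), L ψ, hMn, ?_, hthird⟩
  apply le_antisymm
  · intro x hx
    obtain ⟨hxM, hxN⟩ := hx
    by_contra hxK
    have hxval := (hmemM x).mp hxM
    have hval : ∀ ψ : IrrCharacter (N ⧸ K'),
        (ψ : N ⧸ K' → ℂ) (QuotientGroup.mk (⟨x, hxN⟩ : N)) = (ψ : N ⧸ K' → ℂ) 1 := by
      intro ψ
      have h1 := frobStar_apply_of_not_mem N K hTI (infl ψ)
        (Cfsg.Agent.helper24.char_isClassFunction (Cfsg.Agent.helper24.irr_isCharacter (hinflirr ψ)))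
        ⟨x, hxN⟩ hxK
      have h2 := hxval ψ
      rw [h1] at h2
      exact h2
    have hx1 : (QuotientGroup.mk (⟨x, hxN⟩ : N) : N ⧸ K') ≠ 1 := by
      intro h
      rw [QuotientGroup.eq_one_iff, hK', Subgroup.mem_subgroupOf] at h
      exact hxK h
    have h1 := Cfsg.Agent.helper24.irr_column_orthogonality (G := N ⧸ K')
      (QuotientGroup.mk (⟨x, hxN⟩ : N)) 1
    have h2 := Cfsg.Agent.helper24.irr_column_orthogonality (G := N ⧸ K') 1 1
    rw [if_neg (by
      intro hconj
      exact hx1 (isConj_one_left.mp hconj))] at h1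
    rw [if_pos (IsConj.refl _)] at h2
    simp_rw [hval] at h1
    rw [h1] at h2
    have : (Nat.card (Subgroup.centralizer ({1} : Set (N ⧸ K'))) : ℂ) ≠ 0 := by
      have : Nat.card (Subgroup.centralizer ({1} : Set (N ⧸ K'))) ≠ 0 := Nat.card_pos.ne'
      exact_mod_cast this
    exact this h2.symm
  · intro k hk
    exact ⟨hthird k (hKconj k hk), hKN hk⟩


/-- Wielandt's theorem: the normal subgroup `M` with `M ⊓ N = K` and `M ⊔ N = ⊤`. -/
theorem wielandt_complement [Finite G] (N K : Subgroup G) (hKN : K ≤ N)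
    [hKn : (K.subgroupOf N).Normal]
    (hTI : ∀ g : G, g ∉ N → ∀ t ∈ N, t ∉ K → g * t * g⁻¹ ∉ N) :
    ∃ M : Subgroup G, M.Normal ∧ M ⊓ N = K ∧ M ⊔ N = ⊤ ∧
      ∀ x : G, (∀ g : G, g⁻¹ * x * g ∈ N → g⁻¹ * x * g ∈ K) → x ∈ M := by
  classical
  obtain ⟨M, hMn, hMN, hthird⟩ := wielandt_exists N K hKN hTI
  refine ⟨M, hMn, hMN, ?_, hthird⟩
  haveI := hMn
  set S : Set G := {x | ∃ g : G, g⁻¹ * x * g ∈ N ∧ g⁻¹ * x * g ∉ K} with hS
  have hcompl : Sᶜ ⊆ (M : Set G) := by
    intro x hx
    apply hthird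
    intro g hg
    by_contra hk
    exact hx ⟨g, hg, hk⟩
  set K' : Subgroup N := K.subgroupOf N with hK'
  let f : (G ⧸ N) × {t : N // t ∉ K'} → G := fun q =>
    (Quotient.out q.1) * (q.2.1 : G) * (Quotient.out q.1)⁻¹
  have hSf : S ⊆ Set.range f := by
    rintro x ⟨g, hgN, hgK⟩
    have hq : (QuotientGroup.mk (Quotient.out (QuotientGroup.mk g : G ⧸ N)) : G ⧸ N) =
        QuotientGroup.mk g := Quotient.out_eq _
    have hn : (Quotient.out (QuotientGroup.mk g : G ⧸ N))⁻¹ * g ∈ N := QuotientGroup.eq.mp hq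
    set a := Quotient.out (QuotientGroup.mk g : G ⧸ N) with ha
    set n : N := ⟨a⁻¹ * g, hn⟩ with hn'
    set t : N := ⟨g⁻¹ * x * g, hgN⟩ with ht'
    have hconj : n * t * n⁻¹ ∉ K' := by
      intro h
      have h2 := hKn.conj_mem _ h n⁻¹
      have e : n⁻¹ * (n * t * n⁻¹) * n⁻¹⁻¹ = t := by group
      rw [e, hK', Subgroup.mem_subgroupOf] at h2
      exact hgK h2
    refine ⟨(QuotientGroup.mk g, ⟨n * t * n⁻¹, hconj⟩), ?_⟩
    show a * ((n * t * n⁻¹ : N) : G) * a⁻¹ = x
    simp only [Subgroup.coe_mul, Subgroup.coe_inv, hn', ht']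
    group
  have hT : Nat.card {t : N // t ∉ K'} = Nat.card N - Nat.card K := by
    have h1 : Nat.card {t : N // t ∉ K'} = ((K' : Set N)ᶜ).ncard := by
      rw [← Nat.card_coe_set_eq]; rfl
    rw [h1, Set.ncard_compl _ (Set.toFinite _) (Set.toFinite _), ← Nat.card_coe_set_eq]
    congr 1
    exact Nat.card_congr (Subgroup.subgroupOfEquivOfLe hKN).toEquiv
  have hScard : S.ncard ≤ N.index * (Nat.card N - Nat.card K) := by
    calc S.ncard ≤ (Set.range f).ncard := Set.ncard_le_ncard hSf (Set.toFinite _)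
      _ ≤ Nat.card ((G ⧸ N) × {t : N // t ∉ K'}) := by
        rw [← Nat.card_coe_set_eq]
        exact Nat.card_le_card_of_surjective (fun q => (⟨f q, ⟨q, rfl⟩⟩ : Set.range f))
          (by rintro ⟨_, q, rfl⟩; exact ⟨q, rfl⟩)
      _ = N.index * (Nat.card N - Nat.card K) := by
        rw [Nat.card_prod, hT, Subgroup.index_eq_card]
  have hKle : Nat.card K ≤ Nat.card N := Subgroup.card_le_of_le hKN
  have hGcard : Nat.card G = N.index * Nat.card N := (Subgroup.index_mul_card N).symm
  have hMcard : N.index * Nat.card K ≤ Nat.card M := by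
    have h1 : Sᶜ.ncard ≤ Nat.card M := by
      have h0 : Nat.card M = (M : Set G).ncard := Nat.card_coe_set_eq (M : Set G)
      rw [h0]
      exact Set.ncard_le_ncard hcompl (Set.toFinite _)
    have h2 : S.ncard + Sᶜ.ncard = Nat.card G :=
      Set.ncard_add_ncard_compl S (Set.toFinite _) (Set.toFinite _)
    have h3 : N.index * (Nat.card N - Nat.card K) + N.index * Nat.card K = Nat.card G := by
      rw [← Nat.mul_add, Nat.sub_add_cancel hKle, hGcard]
    omega
  -- indices
  have hr : K.relIndex N * Nat.card K = Nat.card N := by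
    have := Subgroup.index_mul_card K'
    rw [Nat.card_congr (Subgroup.subgroupOfEquivOfLe hKN).toEquiv] at this
    exact this
  have hrel : M.relIndex (N ⊔ M) = K.relIndex N := by
    rw [Subgroup.relIndex_sup_right, ← Subgroup.inf_relIndex_right, hMN]
  have hidx : M.index = K.relIndex N * (N ⊔ M).index := by
    rw [← hrel]
    exact (Subgroup.relIndex_mul_index (le_sup_right : M ≤ N ⊔ M)).symm
  have hM2 : Nat.card M * M.index = Nat.card G := Subgroup.card_mul_index M
  have hrpos : 0 < K.relIndex N := by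
    rcases Nat.eq_zero_or_pos (K.relIndex N) with h | h
    · rw [h, zero_mul] at hr
      exact absurd hr.symm (Nat.card_pos.ne')
    · exact h
  have hkey : Nat.card M * (N ⊔ M).index = N.index * Nat.card K := by
    have h1 : K.relIndex N * (Nat.card M * (N ⊔ M).index) =
        K.relIndex N * (N.index * Nat.card K) := by
      calc K.relIndex N * (Nat.card M * (N ⊔ M).index)
          = Nat.card M * (K.relIndex N * (N ⊔ M).index) := by ring
        _ = Nat.card G := by rw [← hidx, hM2]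
        _ = N.index * (K.relIndex N * Nat.card K) := by rw [hr, hGcard]
        _ = K.relIndex N * (N.index * Nat.card K) := by ring
    exact Nat.eq_of_mul_eq_mul_left hrpos h1
  have hpos : 0 < N.index * Nat.card K := by
    apply Nat.mul_pos
    · exact Nat.pos_of_ne_zero (Subgroup.index_ne_zero_of_finite)
    · exact Nat.card_pos
  have hJ : (N ⊔ M).index = 1 := by
    have h1 : Nat.card M * (N ⊔ M).index ≤ Nat.card M * 1 := by
      rw [hkey, mul_one]; exact hMcard
    have h2 : (N ⊔ M).index ≤ 1 :=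
      Nat.le_of_mul_le_mul_left h1 (lt_of_lt_of_le hpos hMcard)
    have h3 : (N ⊔ M).index ≠ 0 := Subgroup.index_ne_zero_of_finite
    omega
  rw [sup_comm]
  exact Subgroup.index_eq_one.mp hJ

end Cfsg.Agent.helper20.WTI
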