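import Mathlib
import Cfsg.Prelude.Def_OddOrderLocal
import Cfsg.Agent.Lib_helper20_WielandtTI

set_option autoImplicit false
set_option linter.unusedSectionVars false
set_option linter.unusedVariables false
set_option linter.style.longLine false
set_option linter.style.haveILetI false

/-!
Group-theoretic consequences of Wielandt's theorem for a TI subgroup `H` whose normaliser is
`H × K` with `|H|`, `|K|` coprime (helper20).
-/

namespace Cfsg.Agent.helper20.WTI

open Cfsg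
open scoped Pointwise

variable {G : Type*} [Group G]

theorem eq_one_of_pow_coprime {X : Type*} [Group X] (x : X) (a b : ℕ) (hab : a.Coprime b)
    (ha : x ^ a = 1) (hb : x ^ b = 1) : x = 1 := by
  have h1 := orderOf_dvd_of_pow_eq_one ha
  have h2 := orderOf_dvd_of_pow_eq_one hb
  have h3 := Nat.dvd_gcd h1 h2
  rw [Nat.Coprime.gcd_eq_one hab] at h3
  exact orderOf_eq_one_iff.mp (Nat.dvd_one.mp h3)

theorem pow_card_eq_one_of_mem [Finite G] (K : Subgroup G) {k : G} (hk : k ∈ K) :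
    k ^ Nat.card K = 1 := by
  have h1 : (⟨k, hk⟩ : K) ^ Nat.card K = 1 := pow_card_eq_one'
  have h2 := congrArg Subtype.val h1
  rwa [Subgroup.coe_pow, Subgroup.coe_one] at h2

/-- the normaliser of `H` is the internal direct product `K × H` with coprime orders. -/
structure Split (H K : Subgroup G) : Prop where
  hKN : K ≤ Subgroup.normalizer (H : Set G)
  disj : K ⊓ H = ⊥
  prod : ∀ n ∈ Subgroup.normalizer (H : Set G), ∃ k ∈ K, ∃ h ∈ H, n = k * h
  comm : ∀ k ∈ K, ∀ h ∈ H, k * h = h * k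
  cop : (Nat.card H).Coprime (Nat.card K)
  normal : (K.subgroupOf (Subgroup.normalizer (H : Set G))).Normal

theorem split_of_complement (H NH : Subgroup G) (hNH : NH = Subgroup.normalizer (H : Set G))
    (hHall : (Nat.card H).Coprime (H.subgroupOf NH).index)
    (K' : Subgroup NH) (hK'n : K'.Normal)
    (hK'c : K'.IsComplement' (H.subgroupOf NH)) :
    Split H (K'.map NH.subtype) := by
  have hHN : H ≤ NH := by rw [hNH]; exact Subgroup.le_normalizer
  haveI hH'n : (H.subgroupOf NH).Normal := by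
    have : (H.subgroupOf (Subgroup.normalizer (H : Set G))).Normal := Subgroup.normal_in_normalizer
    rw [← hNH] at this
    exact this
  have hmemK : ∀ x : G, x ∈ K'.map NH.subtype ↔ ∃ hx : x ∈ NH, (⟨x, hx⟩ : NH) ∈ K' := by
    intro x
    constructor
    · rintro ⟨y, hy, rfl⟩
      exact ⟨y.2, hy⟩
    · rintro ⟨hx, h⟩
      exact ⟨⟨x, hx⟩, h, rfl⟩
  have hdisj' : K' ⊓ H.subgroupOf NH = ⊥ := hK'c.disjoint.eq_bot
  refine ⟨?_, ?_, ?_, ?_, ?_, ?_⟩
  · rw [← hNH]
    intro x hx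
    obtain ⟨hxN, _⟩ := (hmemK x).mp hx
    exact hxN
  · rw [eq_bot_iff]
    intro x hx
    obtain ⟨hxK, hxH⟩ := Subgroup.mem_inf.mp hx
    obtain ⟨hxN, hxK'⟩ := (hmemK x).mp hxK
    have : (⟨x, hxN⟩ : NH) ∈ K' ⊓ H.subgroupOf NH :=
      Subgroup.mem_inf.mpr ⟨hxK', Subgroup.mem_subgroupOf.mpr hxH⟩
    rw [hdisj', Subgroup.mem_bot] at this
    rw [Subgroup.mem_bot]
    exact congrArg Subtype.val this
  · rw [← hNH]
    intro n hn
    obtain ⟨⟨a, b⟩, hab⟩ := hK'c.2 ⟨n, hn⟩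
    refine ⟨a.1.1, (hmemK _).mpr ⟨a.1.2, a.2⟩, b.1.1, Subgroup.mem_subgroupOf.mp b.2, ?_⟩
    have := congrArg Subtype.val hab
    simpa using this.symm
  · intro k hk h hh
    obtain ⟨hkN, hkK'⟩ := (hmemK k).mp hk
    have hhH' : (⟨h, hHN hh⟩ : NH) ∈ H.subgroupOf NH := Subgroup.mem_subgroupOf.mpr hh
    have hc : (⟨k, hkN⟩ : NH) * ⟨h, hHN hh⟩ * (⟨k, hkN⟩ : NH)⁻¹ * (⟨h, hHN hh⟩ : NH)⁻¹ ∈
        K' ⊓ H.subgroupOf NH := by
      apply Subgroup.mem_inf.mpr
      constructor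
      · have h1 := hK'n.conj_mem _ (K'.inv_mem hkK') ⟨h, hHN hh⟩
        have h2 := K'.mul_mem hkK' h1
        have e : (⟨k, hkN⟩ : NH) * (⟨h, hHN hh⟩ * (⟨k, hkN⟩ : NH)⁻¹ * (⟨h, hHN hh⟩ : NH)⁻¹) =
            (⟨k, hkN⟩ : NH) * ⟨h, hHN hh⟩ * (⟨k, hkN⟩ : NH)⁻¹ * (⟨h, hHN hh⟩ : NH)⁻¹ := by group
        rw [← e]; exact h2
      · have h1 := hH'n.conj_mem _ hhH' ⟨k, hkN⟩
        exact Subgroup.mul_mem _ h1 (Subgroup.inv_mem _ hhH')
    rw [hdisj', Subgroup.mem_bot] at hc
    have hc' := congrArg Subtype.val hc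
    simp only [Subgroup.coe_mul, Subgroup.coe_inv, Subgroup.coe_one] at hc'
    have : k * h = (k * h * k⁻¹ * h⁻¹) * (h * k) := by group
    rw [this, hc', one_mul]
  · have h1 : Nat.card (K'.map NH.subtype) = Nat.card K' :=
      Subgroup.card_map_of_injective NH.subtype_injective
    rw [h1, ← hK'c.index_eq_card]
    exact hHall
  · rw [← hNH]
    have : (K'.map NH.subtype).subgroupOf NH = K' := by
      ext x
      rw [Subgroup.mem_subgroupOf, hmemK]
      constructor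
      · rintro ⟨_, h⟩; exact h
      · intro h; exact ⟨x.2, h⟩
    rw [this]
    exact hK'n

section Main
variable [Finite G] {H K : Subgroup G}

theorem tiset_of_split (hs : Split H K) (hTI : Cfsg.IsTISubset (H : Set G)) :
    ∀ g : G, g ∉ Subgroup.normalizer (H : Set G) → ∀ t ∈ Subgroup.normalizer (H : Set G),
      t ∉ K → g * t * g⁻¹ ∉ Subgroup.normalizer (H : Set G) := by
  intro g hg t ht htK hu
  obtain ⟨k, hk, h, hh, rfl⟩ := hs.prod t ht
  have hh1 : h ≠ 1 := by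
    rintro rfl
    apply htK
    rw [mul_one]; exact hk
  set e := Nat.card K with he
  have hte : (k * h) ^ e = h ^ e := by
    rw [(show Commute k h from hs.comm k hk h hh).mul_pow, pow_card_eq_one_of_mem K hk, one_mul]
  have hhe1 : h ^ e ≠ 1 := by
    intro h0
    exact hh1 (eq_one_of_pow_coprime h _ _ hs.cop (pow_card_eq_one_of_mem H hh) h0)
  have hheH : h ^ e ∈ H := H.pow_mem hh e
  have hue : (g * (k * h) * g⁻¹) ^ e = g * h ^ e * g⁻¹ := by rw [conj_pow, hte]
  have hueN : g * h ^ e * g⁻¹ ∈ Subgroup.normalizer (H : Set G) := by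
    rw [← hue]; exact Subgroup.pow_mem _ hu e
  obtain ⟨k₂, hk₂, h₂, hh₂, heq⟩ := hs.prod _ hueN
  have h1 : (g * h ^ e * g⁻¹) ^ Nat.card H = 1 := by
    rw [conj_pow, ← pow_mul, mul_comm, pow_mul, pow_card_eq_one_of_mem H hh, one_pow, mul_one,
      mul_inv_cancel]
  have h2 : k₂ ^ Nat.card H = 1 := by
    rw [heq, (show Commute k₂ h₂ from hs.comm k₂ hk₂ h₂ hh₂).mul_pow,
      pow_card_eq_one_of_mem H hh₂, mul_one] at h1
    exact h1
  have hk₂1 : k₂ = 1 := eq_one_of_pow_coprime k₂ _ _ hs.cop h2 (pow_card_eq_one_of_mem K hk₂)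
  rw [hk₂1, one_mul] at heq
  have := hTI g hg (h ^ e) hheH (by rw [heq]; exact hh₂)
  exact hhe1 this

/-- Wielandt's normal complement for `H`. -/
theorem exists_normal_complement (hs : Split H K) (hTI : Cfsg.IsTISubset (H : Set G)) :
    ∃ M : Subgroup G, M.Normal ∧ M ⊓ Subgroup.normalizer (H : Set G) = K ∧ M.IsComplement' H ∧
      ∀ x : G, (∀ g : G, g⁻¹ * x * g ∈ Subgroup.normalizer (H : Set G) → g⁻¹ * x * g ∈ K) →
        x ∈ M := by
  haveI := hs.normal
  obtain ⟨M, hMn, hMN, hsup, hthird⟩ :=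
    wielandt_complement (Subgroup.normalizer (H : Set G)) K hs.hKN (tiset_of_split hs hTI)
  haveI := hMn
  refine ⟨M, hMn, hMN, ?_, hthird⟩
  have hKM : K ≤ M := by rw [← hMN]; exact inf_le_left
  apply Subgroup.isComplement'_of_disjoint_and_mul_eq_univ
  · rw [disjoint_iff, eq_bot_iff]
    intro x hx
    have h1 : x ∈ M ⊓ Subgroup.normalizer (H : Set G) := ⟨hx.1, Subgroup.le_normalizer hx.2⟩
    rw [hMN] at h1
    have h2 : x ∈ K ⊓ H := ⟨h1, hx.2⟩
    rw [hs.disj] at h2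
    exact h2
  · rw [Set.eq_univ_iff_forall]
    intro x
    have hx : x ∈ M ⊔ Subgroup.normalizer (H : Set G) := by rw [hsup]; trivial
    have hx' : x ∈ ((M : Set G) * (Subgroup.normalizer (H : Set G) : Set G)) := by
      rw [← Subgroup.normal_mul]; exact hx
    obtain ⟨m, hm, n, hn, rfl⟩ := hx'
    obtain ⟨k, hk, h, hh, rfl⟩ := hs.prod n hn
    exact ⟨m * k, M.mul_mem hm (hKM hk), h, hh, by simp [mul_assoc]⟩

end Main

end Cfsg.Agent.helper20.WTI
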