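import Mathlib
import Cfsg.Statements.S4116
import Cfsg.Agent.Lib_helper20_FixedPoint
import Cfsg.Agent.S3986

set_option autoImplicit false
open Cfsg

namespace Cfsg.Agent.S4116

open Cfsg.Agent.helper20

/-- a `π(H)`-element of the normalizer of a Hall subgroup `H` lies in `H` -/
theorem mem_of_mem_normalizer {G : Type*} [Group G] [Finite G] (H : Subgroup G)
    (hHall : (Nat.card H).Coprime H.index) (k : G) (hkN : k ∈ Subgroup.normalizer (H : Set G))
    (hk : ∀ q : ℕ, q.Prime → q ∣ orderOf k → q ∣ Nat.card H) : k ∈ H := by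
  have hle : H ≤ Subgroup.normalizer (H : Set G) := Subgroup.le_normalizer
  have hnorm : (H.subgroupOf (Subgroup.normalizer (H : Set G))).Normal := Subgroup.normal_in_normalizer
  have hcop : (orderOf k).Coprime (H.subgroupOf (Subgroup.normalizer (H : Set G))).index := by
    apply Nat.coprime_of_dvd'
    intro q hq hq1 hq2
    have h1 : q ∣ Nat.card H := hk q hq hq1
    have h2 : q ∣ H.index := by
      have : H.relIndex (Subgroup.normalizer (H : Set G)) ∣ H.index :=
        Dvd.intro _ (Subgroup.relIndex_mul_index hle)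
      exact dvd_trans hq2 this
    have := Nat.dvd_gcd h1 h2
    rwa [hHall.gcd_eq_one] at this
  have hmem := Cfsg.Agent.S3986.mem_of_coprime_index (H.subgroupOf (Subgroup.normalizer (H : Set G)))
    (⟨k, hkN⟩ : ↥(Subgroup.normalizer (H : Set G))) (orderOf k)
    (by apply Subtype.ext; simp [pow_orderOf_eq_one]) hcop
  simpa [Subgroup.mem_subgroupOf] using hmem

theorem result {G : Type*} [Group G] [Finite G] (H : Subgroup G)
    (hHall : (Nat.card H).Coprime H.index) (hTI : Cfsg.IsTISubset (H : Set G))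
    (K : Subgroup G) (hK : ∀ q : ℕ, q.Prime → q ∣ Nat.card K → q ∣ Nat.card H) :
    ∃ g : G, K ≤ H.map (MulAut.conj g).toMonoidHom := by
  classical
  -- TI reformulated
  have hTI' : ∀ c x : G, x ∈ H → x ≠ 1 → c * x * c⁻¹ ∈ H → c ∈ Subgroup.normalizer (H : Set G) := by
    intro c x hx hx1 hcx
    by_contra hc
    exact hx1 (hTI c hc x hx hcx)
  -- the predicate
  have hP : ∀ k : G, k ∈ K → ∀ g : G, ∀ q : ℕ, q.Prime → q ∣ orderOf (g⁻¹ * k * g) → q ∣ Nat.card H := by
    intro k hk g q hq hqd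
    have h1 : orderOf (g⁻¹ * k * g) = orderOf k := by
      have := MulEquiv.orderOf_eq (MulAut.conj g⁻¹) k
      simpa [MulAut.conj_apply] using this
    rw [h1] at hqd
    exact hK q hq (dvd_trans hqd (Subgroup.orderOf_dvd_natCard K hk))
  -- Step B
  have hB : ∀ k : G, k ∈ K → k ≠ 1 → ∃ g : G, g⁻¹ * k * g ∈ H := by
    intro k hk hk1
    have ho1 : orderOf k ≠ 1 := by
      intro h; exact hk1 (orderOf_eq_one_iff.mp h)
    have ho0 : orderOf k ≠ 0 := (orderOf_pos k).ne'
    have hq : (orderOf k).minFac.Prime := Nat.minFac_prime ho1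
    set q := (orderOf k).minFac with hqdef
    have hqd : q ∣ orderOf k := Nat.minFac_dvd _
    set y := k ^ (orderOf k / q) with hydef
    have hy : orderOf y = q := orderOf_pow_orderOf_div ho0 hqd
    have hqH : q ∣ Nat.card H := by
      have := hP k hk 1 q hq
      simp only [inv_one, one_mul, mul_one] at this
      exact this hqd
    have : Fact q.Prime := ⟨hq⟩
    have hZ : IsPGroup q (Subgroup.zpowers y) := by
      apply IsPGroup.of_card (n := 1)
      rw [Nat.card_zpowers, hy, pow_one]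
    have hnd : ¬ q ∣ Nat.card (G ⧸ H) := by
      rw [← Subgroup.index_eq_card]
      intro hdiv
      have := Nat.dvd_gcd hqH hdiv
      rw [hHall.gcd_eq_one] at this
      exact hq.one_lt.ne' (Nat.dvd_one.mp this)
    obtain ⟨x, hx⟩ := hZ.nonempty_fixed_point_of_prime_not_dvd_card (G ⧸ H) hnd
    obtain ⟨g, rfl⟩ := QuotientGroup.mk_surjective x
    refine ⟨g, ?_⟩
    have hfix : (⟨y, Subgroup.mem_zpowers y⟩ : Subgroup.zpowers y) • (g : G ⧸ H) = (g : G ⧸ H) := hx _
    have hy' : g⁻¹ * y * g ∈ H := by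
      have h1 : ((y * g : G) : G ⧸ H) = (g : G ⧸ H) := hfix
      have := QuotientGroup.eq.mp h1.symm
      simpa [mul_assoc] using this
    have hy'1 : g⁻¹ * y * g ≠ 1 := by
      intro h
      have : y = 1 := by
        have := congrArg (fun t => g * t * g⁻¹) h
        simpa [mul_assoc] using this
      rw [← orderOf_eq_one_iff, hy] at this
      exact hq.one_lt.ne' this
    have hcomm : k * y = y * k := by
      rw [hydef]
      exact (Commute.pow_right (Commute.refl k) _).eq
    have hN : g⁻¹ * k * g ∈ Subgroup.normalizer (H : Set G) := by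
      apply hTI' (g⁻¹ * k * g) (g⁻¹ * y * g) hy' hy'1
      have : (g⁻¹ * k * g) * (g⁻¹ * y * g) * (g⁻¹ * k * g)⁻¹ = g⁻¹ * (k * y * k⁻¹) * g := by group
      rw [this, hcomm]
      simpa [mul_assoc] using hy'
    exact mem_of_mem_normalizer H hHall _ hN (hP k hk g)
  -- the action of K on G ⧸ N
  have hfix_iff : ∀ (k : ↥K) (g : G), k • (g : G ⧸ Subgroup.normalizer (H : Set G)) = (g : G ⧸ Subgroup.normalizer (H : Set G)) ↔
      g⁻¹ * (k : G) * g ∈ Subgroup.normalizer (H : Set G) := by
    intro k g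
    have h1 : k • (g : G ⧸ Subgroup.normalizer (H : Set G)) = (((k : G) * g : G) : G ⧸ Subgroup.normalizer (H : Set G)) := rfl
    rw [h1, eq_comm, QuotientGroup.eq, mul_assoc]
  have hcard : ∀ k : ↥K, k ≠ 1 → Nat.card (MulAction.fixedBy (G ⧸ Subgroup.normalizer (H : Set G)) k) = 1 := by
    intro k hk1
    have hk1' : (k : G) ≠ 1 := fun h => hk1 (Subtype.ext h)
    rw [Nat.card_eq_one_iff_unique]
    constructor
    · constructor
      rintro ⟨x1, hx1⟩ ⟨x2, hx2⟩
      obtain ⟨g1, rfl⟩ := QuotientGroup.mk_surjective x1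
      obtain ⟨g2, rfl⟩ := QuotientGroup.mk_surjective x2
      apply Subtype.ext
      show (g1 : G ⧸ Subgroup.normalizer (H : Set G)) = (g2 : G ⧸ Subgroup.normalizer (H : Set G))
      rw [MulAction.mem_fixedBy, hfix_iff] at hx1 hx2
      have hH1 := mem_of_mem_normalizer H hHall _ hx1 (hP k k.2 g1)
      have hH2 := mem_of_mem_normalizer H hHall _ hx2 (hP k k.2 g2)
      have hne : g1⁻¹ * (k : G) * g1 ≠ 1 := by
        intro h
        apply hk1'
        have := congrArg (fun t => g1 * t * g1⁻¹) h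
        simpa [mul_assoc] using this
      have hc : (g2⁻¹ * g1) * (g1⁻¹ * (k : G) * g1) * (g2⁻¹ * g1)⁻¹ ∈ H := by
        have : (g2⁻¹ * g1) * (g1⁻¹ * (k : G) * g1) * (g2⁻¹ * g1)⁻¹ = g2⁻¹ * (k : G) * g2 := by group
        rw [this]; exact hH2
      have := hTI' _ _ hH1 hne hc
      rw [eq_comm, QuotientGroup.eq]
      exact this
    · obtain ⟨g, hg⟩ := hB k k.2 hk1'
      refine ⟨⟨(g : G ⧸ Subgroup.normalizer (H : Set G)), ?_⟩⟩
      rw [MulAction.mem_fixedBy, hfix_iff]
      exact Subgroup.le_normalizer hg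
  obtain ⟨x, hx⟩ := exists_fixed_of_unique_fixed hcard
  obtain ⟨g, rfl⟩ := QuotientGroup.mk_surjective x
  refine ⟨g, ?_⟩
  intro k hk
  have h1 := (hfix_iff ⟨k, hk⟩ g).mp (hx ⟨k, hk⟩)
  have h2 := mem_of_mem_normalizer H hHall _ h1 (hP k hk g)
  refine ⟨g⁻¹ * k * g, h2, ?_⟩
  simp [MulAut.conj_apply, mul_assoc]

end Cfsg.Agent.S4116
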