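import Mathlib
import Cfsg.Prelude.Def_OddOrderLocal
import Cfsg.Agent.Lib_helper20_WielandtTI2
import Cfsg.Agent.S4116
import Cfsg.Agent.Lib_helper7_Coprime

set_option autoImplicit false
set_option linter.unusedSectionVars false
set_option linter.unusedVariables false
set_option linter.style.longLine false
set_option linter.style.haveILetI false

/-!
A TI subgroup `H` with `N_G(H) = K × H` (coprime orders), `H` not normal, is isomorphic to a
Frobenius complement (helper20).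
-/

namespace Cfsg.Agent.helper20.WTI

open Cfsg
open scoped Pointwise

universe u

section Basic
variable {G : Type u} [Group G]

theorem le_normalizer_of_conj_mem' {A Q : Subgroup G}
    (h : ∀ a ∈ A, ∀ x ∈ Q, a * x * a⁻¹ ∈ Q) :
    A ≤ Subgroup.normalizer (Q : Set G) := by
  intro a ha
  rw [Subgroup.mem_normalizer_iff]
  intro x
  constructor
  · exact h a ha x
  · intro hx
    have h1 := h a⁻¹ (A.inv_mem ha) _ hx
    have e : a⁻¹ * (a * x * a⁻¹) * a⁻¹⁻¹ = x := by group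
    rwa [e] at h1

theorem ti_mem_normalizer {H : Subgroup G} (hTI : Cfsg.IsTISubset (H : Set G))
    (c x : G) (hx : x ∈ H) (hx1 : x ≠ 1) (hcx : c * x * c⁻¹ ∈ H) :
    c ∈ Subgroup.normalizer (H : Set G) := by
  by_contra hc
  exact hx1 (hTI c hc x hx hcx)

/-- an element of `N_G(H) = K × H` whose order is coprime to `|K|` lies in `H`. -/
theorem mem_of_pow_coprime [Finite G] {H K : Subgroup G} (hs : Split H K) {t : G}
    (ht : t ∈ Subgroup.normalizer (H : Set G)) {e : ℕ} (he : e.Coprime (Nat.card K))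
    (hte : t ^ e = 1) : t ∈ H := by
  obtain ⟨k, hk, h, hh, rfl⟩ := hs.prod t ht
  rw [(show Commute k h from hs.comm k hk h hh).mul_pow] at hte
  have h1 : k ^ e = (h ^ e)⁻¹ := eq_inv_of_mul_eq_one_left hte
  have h2 : k ^ e ∈ K ⊓ H :=
    Subgroup.mem_inf.mpr ⟨K.pow_mem hk e, by rw [h1]; exact H.inv_mem (H.pow_mem hh e)⟩
  rw [hs.disj, Subgroup.mem_bot] at h2
  have hk1 : k = 1 := eq_one_of_pow_coprime k _ _ he h2 (pow_card_eq_one_of_mem K hk)
  rw [hk1, one_mul]
  exact hh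

/-- `H` is a Hall subgroup of `G`. -/
theorem hall_of_split [Finite G] {H K : Subgroup G} (hs : Split H K)
    (hTI : Cfsg.IsTISubset (H : Set G)) : (Nat.card H).Coprime H.index := by
  apply Nat.Coprime.symm
  apply Nat.coprime_of_dvd
  intro p hp hpi hpH
  haveI : Fact p.Prime := ⟨hp⟩
  obtain ⟨x, hx⟩ := exists_prime_orderOf_dvd_card' (G := H) p hpH
  have hx0 : orderOf (x : G) = p := by rw [Subgroup.orderOf_coe]; exact hx
  have hx1 : (x : G) ≠ 1 := by
    intro h
    rw [h, orderOf_one] at hx0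
    exact hp.one_lt.ne hx0
  have hPg : IsPGroup p (Subgroup.zpowers (x : G)) := by
    apply IsPGroup.of_card (n := 1)
    rw [Nat.card_zpowers, hx0, pow_one]
  obtain ⟨S, hS⟩ := hPg.exists_le_sylow
  have hxS : (x : G) ∈ (S : Subgroup G) := hS (Subgroup.mem_zpowers _)
  -- p-elements of the normalizer lie in H
  have hpel : ∀ t : G, t ∈ (S : Subgroup G) → t ∈ Subgroup.normalizer (H : Set G) → t ∈ H := by
    intro t htS htN
    obtain ⟨a, ha⟩ := S.2 ⟨t, htS⟩
    have ha' : t ^ (p ^ a) = 1 := by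
      have := congrArg Subtype.val ha
      simpa using this
    apply mem_of_pow_coprime hs htN (e := p ^ a) _ ha'
    apply Nat.Coprime.pow_left
    exact Nat.Coprime.coprime_dvd_left hpH hs.cop
  haveI : Nontrivial (S : Subgroup G) := ⟨⟨⟨(x : G), hxS⟩, 1, fun h => hx1 (congrArg Subtype.val h)⟩⟩
  haveI := S.2.center_nontrivial
  obtain ⟨z', hz'⟩ := exists_ne (1 : Subgroup.center (S : Subgroup G))
  have hzc : ∀ s : (S : Subgroup G), s * (z' : (S : Subgroup G)) = (z' : (S : Subgroup G)) * s :=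
    fun s => Subgroup.mem_center_iff.mp z'.2 s
  obtain ⟨z, hz⟩ : ∃ z : G, z = ((z' : (S : Subgroup G)) : G) := ⟨_, rfl⟩
  have hzS : z ∈ (S : Subgroup G) := by rw [hz]; exact (z' : (S : Subgroup G)).2
  have hz1 : z ≠ 1 := by
    intro h
    apply hz'
    apply Subtype.ext
    apply Subtype.ext
    rw [← hz, h]
    rfl
  have hzcomm : ∀ s : G, s ∈ (S : Subgroup G) → s * z = z * s := by
    intro s hsS
    have := congrArg Subtype.val (hzc ⟨s, hsS⟩)
    rw [hz]
    simpa using this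
  have hzN : z ∈ Subgroup.normalizer (H : Set G) := by
    apply ti_mem_normalizer hTI z (x : G) x.2 hx1
    have e : z * (x : G) * z⁻¹ = (x : G) := by
      rw [← hzcomm _ hxS]; group
    rw [e]; exact x.2
  have hzH : z ∈ H := hpel z hzS hzN
  have hSH : (S : Subgroup G) ≤ H := by
    intro s hsS
    apply hpel s hsS
    apply ti_mem_normalizer hTI s z hzH hz1
    have e : s * z * s⁻¹ = z := by
      rw [hzcomm s hsS]; group
    rw [e]; exact hzH
  have h1 : H.index ∣ (S : Subgroup G).index := Subgroup.index_dvd_of_le hSH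
  exact S.not_dvd_index (dvd_trans hpi h1)

end Basic

section Quot

/-- abstract quotient lemma producing a Frobenius complement. -/
theorem frobenius_quotient {X : Type u} [Group X] [Finite X] (D H : Subgroup X) [D.Normal]
    (h1 : H ≠ ⊥) (h2 : H ⊓ D = ⊥) (h3 : ∃ x : X, x ∉ H ⊔ D)
    (h4 : ∀ x : X, x ∉ H ⊔ D → ∀ a ∈ H, ∀ b ∈ H, a⁻¹ * (x * b * x⁻¹) ∈ D → a = 1) :
    ∃ (F : Type u) (_ : Group F) (_ : Finite F) (C : Subgroup F),
      Cfsg.IsFrobeniusComplement C ∧ Nonempty (H ≃* C) := by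
  have hmapsup : ∀ x : X, (QuotientGroup.mk' D x) ∈ H.map (QuotientGroup.mk' D) → x ∈ H ⊔ D := by
    intro x hx
    obtain ⟨h, hh, he⟩ := hx
    have h5 : h⁻¹ * x ∈ D := by
      have := QuotientGroup.eq.mp he
      exact this
    have e : x = h * (h⁻¹ * x) := by group
    rw [e]
    exact Subgroup.mul_mem _ (Subgroup.mem_sup_left hh) (Subgroup.mem_sup_right h5)
  refine ⟨X ⧸ D, inferInstance, inferInstance, H.map (QuotientGroup.mk' D), ⟨?_, ?_, ?_⟩, ?_⟩
  · intro hC
    apply h1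
    rw [Subgroup.eq_bot_iff_forall]
    intro h hh
    have h5 : QuotientGroup.mk' D h ∈ H.map (QuotientGroup.mk' D) := ⟨h, hh, rfl⟩
    rw [hC, Subgroup.mem_bot] at h5
    have h6 : h ∈ D := (QuotientGroup.eq_one_iff h).mp h5
    have h7 : h ∈ H ⊓ D := Subgroup.mem_inf.mpr ⟨hh, h6⟩
    rw [h2, Subgroup.mem_bot] at h7
    exact h7
  · intro hC
    obtain ⟨x, hx⟩ := h3
    apply hx
    apply hmapsup
    rw [hC]
    trivial
  · intro g hg
    obtain ⟨x, rfl⟩ := QuotientGroup.mk'_surjective D g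
    have hx : x ∉ H ⊔ D := by
      intro hx
      apply hg
      have h5 : (x : X) ∈ ((H ⊔ D : Subgroup X) : Set X) := hx
      rw [Subgroup.mul_normal] at h5
      obtain ⟨h, hh, d, hd, rfl⟩ := h5
      refine ⟨h, hh, ?_⟩
      rw [map_mul]
      have : QuotientGroup.mk' D d = 1 := (QuotientGroup.eq_one_iff d).mpr hd
      rw [this, mul_one]
    rw [eq_bot_iff]
    intro c hc
    obtain ⟨hc1, hc2⟩ := Subgroup.mem_inf.mp hc
    obtain ⟨a, ha, rfl⟩ := hc1
    obtain ⟨s, hs, hsa⟩ := (Subgroup.mem_smul_pointwise_iff_exists _ _ _).mp hc2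
    obtain ⟨b, hb, rfl⟩ := hs
    rw [MulAut.smul_def, MulAut.conj_apply] at hsa
    have h5 : QuotientGroup.mk' D a = QuotientGroup.mk' D (x * b * x⁻¹) := by
      rw [← hsa, map_mul, map_mul, map_inv]
    have h6 : a⁻¹ * (x * b * x⁻¹) ∈ D := QuotientGroup.eq.mp h5
    have h7 := h4 x hx a ha b hb h6
    rw [h7, map_one]
    exact Subgroup.one_mem _
  · refine ⟨MulEquiv.ofBijective ((QuotientGroup.mk' D).subgroupMap H)
      ⟨?_, (QuotientGroup.mk' D).subgroupMap_surjective H⟩⟩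
    rw [injective_iff_map_eq_one]
    intro h hh
    have h5 : QuotientGroup.mk' D (h : X) = 1 := by
      have := congrArg Subtype.val hh
      simpa using this
    have h6 : (h : X) ∈ D := (QuotientGroup.eq_one_iff _).mp h5
    have h7 : (h : X) ∈ H ⊓ D := Subgroup.mem_inf.mpr ⟨h.2, h6⟩
    rw [h2, Subgroup.mem_bot] at h7
    exact Subtype.ext h7

end Quot

section Section
variable {G : Type u} [Group G]

/-- `H` acts on the section `L/D` fixed-point-freely: then `H` is a Frobenius complement in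
`(L ⋊ H)/D`. -/
theorem frobenius_of_section [Finite G] (H L D : Subgroup G)
    (hDL : D ≤ L) (hLD : L ≤ Subgroup.normalizer (D : Set G))
    (hHL : H ≤ Subgroup.normalizer (L : Set G))
    (hHD : ∀ h ∈ H, ∀ d ∈ D, h * d = d * h) (hLH : L ⊓ H = ⊥) (hH1 : H ≠ ⊥)
    (hne : ∃ l ∈ L, l ∉ D)
    (key : ∀ l ∈ L, ∀ h ∈ H, h ≠ 1 → h * l * h⁻¹ * l⁻¹ ∈ D → l ∈ D) :
    ∃ (F : Type u) (_ : Group F) (_ : Finite F) (C : Subgroup F),
      Cfsg.IsFrobeniusComplement C ∧ Nonempty (H ≃* C) := by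
  obtain ⟨X, hX⟩ : ∃ X : Subgroup G, X = L ⊔ H := ⟨_, rfl⟩
  have hLX : L ≤ X := by rw [hX]; exact le_sup_left
  have hHX : H ≤ X := by rw [hX]; exact le_sup_right
  have hDX : D ≤ X := hDL.trans hLX
  have hHND : H ≤ Subgroup.normalizer (D : Set G) := by
    apply le_normalizer_of_conj_mem'
    intro h hh d hd
    rw [hHD h hh d hd, mul_inv_cancel_right]
    exact hd
  have hXND : X ≤ Subgroup.normalizer (D : Set G) := by
    rw [hX]; exact sup_le hLD hHND
  haveI hDn : (D.subgroupOf X).Normal := (Subgroup.normal_subgroupOf_iff_le_normalizer hDX).mpr hXND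
  have hXmem : ∀ x : G, x ∈ X → ∃ l ∈ L, ∃ h ∈ H, x = l * h := by
    intro x hx
    have h5 : x ∈ ((L ⊔ H : Subgroup G) : Set G) := by rw [← hX]; exact hx
    rw [Subgroup.coe_mul_of_right_le_normalizer_left L H hHL] at h5
    obtain ⟨l, hl, h, hh, rfl⟩ := h5
    exact ⟨l, hl, h, hh, rfl⟩
  have hconjL : ∀ h ∈ H, ∀ l ∈ L, h * l * h⁻¹ ∈ L := by
    intro h hh l hl
    exact (Subgroup.mem_normalizer_iff.mp (hHL hh) l).mp hl
  obtain ⟨F, iG, iF, C, hC, ⟨e⟩⟩ := frobenius_quotient (X := ↥X) (D.subgroupOf X) (H.subgroupOf X)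
    (by
      intro hbot
      apply hH1
      rw [Subgroup.eq_bot_iff_forall]
      intro h hh
      have h5 : (⟨h, hHX hh⟩ : X) ∈ H.subgroupOf X := Subgroup.mem_subgroupOf.mpr hh
      rw [hbot, Subgroup.mem_bot] at h5
      exact congrArg Subtype.val h5)
    (by
      rw [eq_bot_iff]
      intro x hx
      obtain ⟨hx1, hx2⟩ := Subgroup.mem_inf.mp hx
      have h5 : (x : G) ∈ L ⊓ H :=
        Subgroup.mem_inf.mpr ⟨hDL (Subgroup.mem_subgroupOf.mp hx2), Subgroup.mem_subgroupOf.mp hx1⟩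
      rw [hLH, Subgroup.mem_bot] at h5
      rw [Subgroup.mem_bot]
      exact Subtype.ext h5)
    (by
      obtain ⟨l, hl, hlD⟩ := hne
      refine ⟨⟨l, hLX hl⟩, ?_⟩
      intro hx
      have h5 : (⟨l, hLX hl⟩ : X) ∈ ((H.subgroupOf X ⊔ D.subgroupOf X : Subgroup X) : Set X) := hx
      rw [Subgroup.mul_normal] at h5
      obtain ⟨a, ha, d, hd, had⟩ := h5
      have ha' : (a : G) ∈ H := Subgroup.mem_subgroupOf.mp ha
      have hd' : (d : G) ∈ D := Subgroup.mem_subgroupOf.mp hd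
      have had' : (a : G) * (d : G) = l := by
        have := congrArg Subtype.val had
        simpa using this
      have h6 : (a : G) = l * (d : G)⁻¹ := by rw [← had']; group
      have h7 : (a : G) ∈ L ⊓ H := by
        apply Subgroup.mem_inf.mpr
        refine ⟨?_, ha'⟩
        rw [h6]; exact L.mul_mem hl (L.inv_mem (hDL hd'))
      rw [hLH, Subgroup.mem_bot] at h7
      apply hlD
      rw [← had', h7, one_mul]
      exact hd')
    (by
      intro x hx a ha b hb hab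
      have ha' : (a : G) ∈ H := Subgroup.mem_subgroupOf.mp ha
      have hb' : (b : G) ∈ H := Subgroup.mem_subgroupOf.mp hb
      have hab' : (a : G)⁻¹ * ((x : G) * (b : G) * (x : G)⁻¹) ∈ D := by
        have := Subgroup.mem_subgroupOf.mp hab
        simpa using this
      obtain ⟨l, hl, h, hh, hxlh⟩ := hXmem (x : G) x.2
      have hlD : l ∉ D := by
        intro hlD
        apply hx
        have e1 : x = (⟨l, hLX hl⟩ : X) * (⟨h, hHX hh⟩ : X) := Subtype.ext hxlh
        rw [e1]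
        exact Subgroup.mul_mem _ (Subgroup.mem_sup_right (Subgroup.mem_subgroupOf.mpr hlD))
          (Subgroup.mem_sup_left (Subgroup.mem_subgroupOf.mpr hh))
      obtain ⟨c, hc⟩ : ∃ c : G, c = h * (b : G) * h⁻¹ := ⟨_, rfl⟩
      have hcH : c ∈ H := by rw [hc]; exact H.mul_mem (H.mul_mem hh hb') (H.inv_mem hh)
      have e2 : (x : G) * (b : G) * (x : G)⁻¹ = l * c * l⁻¹ := by
        rw [hxlh, hc]; group
      rw [e2] at hab'
      -- a⁻¹ c ∈ L ⊓ H
      have h8 : (a : G)⁻¹ * c ∈ L ⊓ H := by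
        apply Subgroup.mem_inf.mpr
        refine ⟨?_, H.mul_mem (H.inv_mem ha') hcH⟩
        have e3 : (a : G)⁻¹ * c = ((a : G)⁻¹ * (l * c * l⁻¹)) * (l * (c⁻¹ * l⁻¹ * c⁻¹⁻¹)) := by group
        rw [e3]
        exact L.mul_mem (hDL hab') (L.mul_mem hl (hconjL c⁻¹ (H.inv_mem hcH) l⁻¹ (L.inv_mem hl)))
      rw [hLH, Subgroup.mem_bot] at h8
      have hca : c = (a : G) := by
        have := eq_of_inv_mul_eq_one h8
        exact this.symm
      rw [hca] at hab'
      by_contra ha1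
      have ha1' : (a : G)⁻¹ ≠ 1 := by
        intro h9
        apply ha1
        apply Subtype.ext
        rw [inv_eq_one] at h9
        exact h9
      apply hlD
      apply key l hl (a : G)⁻¹ (H.inv_mem ha') ha1'
      have e4 : (a : G)⁻¹ * l * (a : G)⁻¹⁻¹ * l⁻¹ = (a : G)⁻¹ * (l * (a : G) * l⁻¹) := by group
      rw [e4]
      exact hab')
  exact ⟨F, iG, iF, C, hC, ⟨(Subgroup.subgroupOfEquivOfLe hHX).symm.trans e⟩⟩

/-- the fixed-point argument: a coset of `Q ⊓ K` in `Q` stabilised by `h ≠ 1` is trivial. -/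
theorem key_fixed [Finite G] (H M K Q : Subgroup G) (hcop : (Nat.card H).Coprime (Nat.card M))
    (hQM : Q ≤ M) (hcent : ∀ m ∈ M, ∀ h ∈ H, h ≠ 1 → m * h = h * m → m ∈ K)
    (hHK : ∀ k ∈ K, ∀ h ∈ H, k * h = h * k)
    (l : G) (hl : l ∈ Q) (h : G) (hh : h ∈ H) (hh1 : h ≠ 1)
    (hfix : h * l * h⁻¹ * l⁻¹ ∈ Q ⊓ K) : l ∈ Q ⊓ K := by
  obtain ⟨D, hD⟩ : ∃ D : Subgroup G, D = Q ⊓ K := ⟨_, rfl⟩
  rw [← hD] at hfix ⊢
  have hDQ : D ≤ Q := by rw [hD]; exact inf_le_left
  have hDK : D ≤ K := by rw [hD]; exact inf_le_right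
  -- the stabiliser
  let S : Subgroup G :=
    { carrier := {g | g ∈ H ∧ g * l * g⁻¹ * l⁻¹ ∈ D}
      one_mem' := ⟨H.one_mem, by simp⟩
      mul_mem' := by
        rintro a b ⟨haH, ha⟩ ⟨hbH, hb⟩
        refine ⟨H.mul_mem haH hbH, ?_⟩
        have e1 : a * b * l * (a * b)⁻¹ * l⁻¹ = (a * (b * l * b⁻¹ * l⁻¹) * a⁻¹) * (a * l * a⁻¹ * l⁻¹) := by
          group
        have e2 : a * (b * l * b⁻¹ * l⁻¹) * a⁻¹ = b * l * b⁻¹ * l⁻¹ := by
          rw [← hHK _ (hDK hb) a haH, mul_inv_cancel_right]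
        rw [e1, e2]
        exact D.mul_mem hb ha
      inv_mem' := by
        rintro a ⟨haH, ha⟩
        refine ⟨H.inv_mem haH, ?_⟩
        have e1 : a⁻¹ * l * a⁻¹⁻¹ * l⁻¹ = a⁻¹ * (a * l * a⁻¹ * l⁻¹)⁻¹ * a := by group
        have e2 : a⁻¹ * (a * l * a⁻¹ * l⁻¹)⁻¹ * a = (a * l * a⁻¹ * l⁻¹)⁻¹ := by
          have := hHK _ (hDK (D.inv_mem ha)) a haH
          rw [mul_assoc, this, inv_mul_cancel_left]
        rw [e1, e2]
        exact D.inv_mem ha }
  have hhS : h ∈ S := ⟨hh, hfix⟩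
  have ho1 : orderOf h ≠ 1 := fun h0 => hh1 (orderOf_eq_one_iff.mp h0)
  have ho0 : orderOf h ≠ 0 := (orderOf_pos h).ne'
  obtain ⟨p, hpdef⟩ : ∃ p : ℕ, p = (orderOf h).minFac := ⟨_, rfl⟩
  have hp : p.Prime := by rw [hpdef]; exact Nat.minFac_prime ho1
  haveI : Fact p.Prime := ⟨hp⟩
  have hpd : p ∣ orderOf h := by rw [hpdef]; exact Nat.minFac_dvd _
  obtain ⟨h', hh'⟩ : ∃ h' : G, h' = h ^ (orderOf h / p) := ⟨_, rfl⟩
  have hoh' : orderOf h' = p := by rw [hh']; exact orderOf_pow_orderOf_div ho0 hpd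
  have hh'S : h' ∈ S := by rw [hh']; exact S.pow_mem hhS _
  have hh'1 : h' ≠ 1 := by
    intro h0
    rw [h0, orderOf_one] at hoh'
    exact hp.one_lt.ne hoh'
  have hPS : Subgroup.zpowers h' ≤ S := Subgroup.zpowers_le.mpr hh'S
  have hPg : IsPGroup p (Subgroup.zpowers h') := by
    apply IsPGroup.of_card (n := 1)
    rw [Nat.card_zpowers, hoh', pow_one]
  have hpH : p ∣ Nat.card H := dvd_trans hpd (Subgroup.orderOf_dvd_natCard H hh)
  have hcard : ¬ p ∣ Nat.card ↥{x : G | ∃ r ∈ D, x = r * l} := by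
    rw [Cfsg.Agent.helper7.card_rightCoset D l]
    intro hpD
    have h1 : p ∣ Nat.card M := dvd_trans hpD (Subgroup.card_dvd_of_le (hDQ.trans hQM))
    have h2 := Nat.dvd_gcd hpH h1
    rw [hcop.gcd_eq_one] at h2
    exact hp.one_lt.ne' (Nat.dvd_one.mp h2)
  obtain ⟨y, ⟨r, hr, rfl⟩, hy⟩ := Cfsg.Agent.helper7.exists_fixed_of_invariant hPg
    {x : G | ∃ r ∈ D, x = r * l} (by
      rintro g hg x ⟨r, hr, rfl⟩
      obtain ⟨hgH, hgl⟩ := hPS hg
      refine ⟨r * (g * l * g⁻¹ * l⁻¹), D.mul_mem hr hgl, ?_⟩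
      have e1 : g * (r * l) * g⁻¹ = (g * r * g⁻¹) * (g * l * g⁻¹ * l⁻¹) * l := by group
      have e2 : g * r * g⁻¹ = r := by
        rw [← hHK _ (hDK hr) g hgH, mul_inv_cancel_right]
      rw [e1, e2]) hcard
  have hy' := hy h' (Subgroup.mem_zpowers _)
  have hcomm : (r * l) * h' = h' * (r * l) := by
    have e1 : (r * l) * h' = (h' * (r * l) * h'⁻¹)⁻¹ * (r * l) * (r * l) * h' := by
      rw [hy']; group
    calc (r * l) * h' = (h' * (r * l) * h'⁻¹) * h' := by rw [hy']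
      _ = h' * (r * l) := by group
  have hrlM : r * l ∈ M := M.mul_mem (hQM (hDQ hr)) (hQM hl)
  have hrlK : r * l ∈ K := hcent _ hrlM h' hh'S.1 hh'1 hcomm
  have hrlD : r * l ∈ D := by
    rw [hD]
    exact Subgroup.mem_inf.mpr ⟨Q.mul_mem (hDQ hr) hl, hrlK⟩
  have e3 : l = r⁻¹ * (r * l) := by group
  rw [e3]
  exact D.mul_mem (D.inv_mem hr) hrlD

end Section

section Final
variable {G : Type u} [Group G]

/-- If complements of the normal subgroup `M` of order `|H|` are all conjugate into `H`, then `M`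
has `H`-invariant Sylow subgroups. -/
theorem exists_invariant_sylow_of_conj [Finite G] (H M : Subgroup G) [M.Normal]
    (hc : M.IsComplement' H) (hcop : (Nat.card H).Coprime (Nat.card M))
    (hconj : ∀ H₁ : Subgroup G, Nat.card H₁ = Nat.card H →
      ∃ g : G, H₁ ≤ H.map (MulAut.conj g).toMonoidHom)
    (q : ℕ) [Fact q.Prime] :
    ∃ Q : Subgroup G, Q ≤ M ∧ Nat.card Q = q ^ (Nat.card M).factorization q ∧
      H ≤ Subgroup.normalizer (Q : Set G) := by
  obtain ⟨P⟩ : Nonempty (Sylow q M) := inferInstance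
  obtain ⟨Q₀, hQ₀⟩ : ∃ Q₀ : Subgroup G, Q₀ = (P : Subgroup M).map M.subtype := ⟨_, rfl⟩
  have hfr : Subgroup.normalizer (Q₀ : Set G) ⊔ M = ⊤ := by
    rw [hQ₀]; exact Sylow.normalizer_sup_eq_top P
  have hQ₀M : Q₀ ≤ M := by rw [hQ₀]; exact Subgroup.map_subtype_le _
  have hQ₀c : Nat.card Q₀ = q ^ (Nat.card M).factorization q := by
    rw [hQ₀, Subgroup.card_map_of_injective M.subtype_injective]
    exact P.card_eq_multiplicity
  obtain ⟨X, hX⟩ : ∃ X : Subgroup G, X = Subgroup.normalizer (Q₀ : Set G) := ⟨_, rfl⟩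
  rw [← hX] at hfr
  haveI hNn : (M.subgroupOf X).Normal := Subgroup.Normal.subgroupOf inferInstance X
  have hidx : (M.subgroupOf X).index = Nat.card H := by
    show M.relIndex X = _
    rw [← Subgroup.relIndex_sup_right, hfr, Subgroup.relIndex_top_right]
    exact hc.symm.index_eq_card
  have hcardN : Nat.card (M.subgroupOf X) ∣ Nat.card M := by
    rw [← Subgroup.card_map_of_injective X.subtype_injective, Subgroup.subgroupOf_map_subtype]
    exact Subgroup.card_dvd_of_le inf_le_left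
  have hcopN : (Nat.card (M.subgroupOf X)).Coprime (M.subgroupOf X).index := by
    rw [hidx]
    exact (Nat.Coprime.coprime_dvd_right hcardN hcop).symm
  obtain ⟨H₁', hH₁'⟩ := Subgroup.exists_right_complement'_of_coprime hcopN
  have hH₁'c : Nat.card H₁' = Nat.card H := by
    rw [← hidx]; exact hH₁'.symm.index_eq_card.symm
  obtain ⟨H₁, hH₁⟩ : ∃ H₁ : Subgroup G, H₁ = H₁'.map X.subtype := ⟨_, rfl⟩
  have hH₁c : Nat.card H₁ = Nat.card H := by
    rw [hH₁, Subgroup.card_map_of_injective X.subtype_injective, hH₁'c]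
  have hH₁X : H₁ ≤ X := by rw [hH₁]; exact Subgroup.map_subtype_le _
  obtain ⟨g, hg⟩ := hconj H₁ hH₁c
  have hcg : Nat.card (H.map (MulAut.conj g).toMonoidHom) = Nat.card H :=
    Subgroup.card_map_of_injective (MulAut.conj g).injective
  have hH₁eq : H₁ = H.map (MulAut.conj g).toMonoidHom :=
    Subgroup.eq_of_le_of_card_ge hg (by rw [hcg, hH₁c])
  refine ⟨Q₀.map (MulAut.conj g⁻¹).toMonoidHom, ?_, ?_, ?_⟩
  · rintro x ⟨y, hy, rfl⟩
    show g⁻¹ * y * g⁻¹⁻¹ ∈ M
    exact ‹M.Normal›.conj_mem y (hQ₀M hy) g⁻¹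
  · rw [Subgroup.card_map_of_injective (MulAut.conj g⁻¹).injective, hQ₀c]
  · apply le_normalizer_of_conj_mem'
    rintro h hh x ⟨y, hy, rfl⟩
    have h1 : g * h * g⁻¹ ∈ H₁ := by
      rw [hH₁eq]; exact ⟨h, hh, rfl⟩
    have h2 : g * h * g⁻¹ ∈ Subgroup.normalizer (Q₀ : Set G) := by
      rw [← hX]; exact hH₁X h1
    have h3 : (g * h * g⁻¹) * y * (g * h * g⁻¹)⁻¹ ∈ Q₀ :=
      (Subgroup.mem_normalizer_iff.mp h2 y).mp hy
    refine ⟨(g * h * g⁻¹) * y * (g * h * g⁻¹)⁻¹, h3, ?_⟩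
    show g⁻¹ * ((g * h * g⁻¹) * y * (g * h * g⁻¹)⁻¹) * g⁻¹⁻¹ = h * (g⁻¹ * y * g⁻¹⁻¹) * h⁻¹
    group

/-- main result: a non-normal TI subgroup `H` with `N_G(H) = K × H` (coprime orders) is
isomorphic to a Frobenius complement. -/
theorem frobenius_complement_of_split [Finite G] {H K : Subgroup G} (hs : Split H K)
    (hTI : Cfsg.IsTISubset (H : Set G)) (hnn : ¬ H.Normal) :
    ∃ (F : Type u) (_ : Group F) (_ : Finite F) (C : Subgroup F),
      Cfsg.IsFrobeniusComplement C ∧ Nonempty (H ≃* C) := by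
  obtain ⟨M, hMn, hMN, hMc, _⟩ := exists_normal_complement hs hTI
  haveI := hMn
  have hHall : (Nat.card H).Coprime H.index := hall_of_split hs hTI
  have hidx : H.index = Nat.card M := hMc.index_eq_card
  have hcop : (Nat.card H).Coprime (Nat.card M) := by rw [← hidx]; exact hHall
  have hconj : ∀ H₁ : Subgroup G, Nat.card H₁ = Nat.card H →
      ∃ g : G, H₁ ≤ H.map (MulAut.conj g).toMonoidHom := by
    intro H₁ h1
    exact Cfsg.Agent.S4116.result H hHall hTI H₁ (fun q hq hqd => by rwa [h1] at hqd)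
  have hH1 : H ≠ ⊥ := by
    intro h
    apply hnn
    rw [h]
    infer_instance
  have hKM : K ≤ M := by rw [← hMN]; exact inf_le_left
  have hKneM : K ≠ M := by
    intro hKM'
    apply hnn
    rw [← Subgroup.normalizer_eq_top_iff, eq_top_iff]
    intro g _
    obtain ⟨⟨m, h⟩, hmh⟩ := hMc.2 g
    have hmh' : (m : G) * (h : G) = g := hmh
    rw [← hmh']
    apply Subgroup.mul_mem
    · apply hs.hKN
      rw [hKM']
      exact m.2
    · exact Subgroup.le_normalizer h.2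
  have hM0 : Nat.card M ≠ 0 := Nat.card_pos.ne'
  have hK0 : Nat.card K ≠ 0 := Nat.card_pos.ne'
  obtain ⟨q, hq, hqlt⟩ : ∃ q : ℕ, q.Prime ∧
      (Nat.card K).factorization q < (Nat.card M).factorization q := by
    by_contra hcon
    push Not at hcon
    have h1 : Nat.card M ∣ Nat.card K := (Nat.factorization_prime_le_iff_dvd hM0 hK0).mp hcon
    have h2 : Nat.card M ≤ Nat.card K := Nat.le_of_dvd Nat.card_pos h1
    exact hKneM (Subgroup.eq_of_le_of_card_ge hKM h2)
  haveI : Fact q.Prime := ⟨hq⟩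
  obtain ⟨Q, hQM, hQc, hHQ⟩ := exists_invariant_sylow_of_conj H M hMc hcop hconj q
  have hQK : ¬ Q ≤ K := by
    intro hQK
    have h1 : Nat.card Q ∣ Nat.card K := Subgroup.card_dvd_of_le hQK
    rw [hQc] at h1
    have h2 := (hq.pow_dvd_iff_le_factorization hK0).mp h1
    omega
  obtain ⟨D, hD⟩ : ∃ D : Subgroup G, D = Q ⊓ K := ⟨_, rfl⟩
  have hDQ : D ≤ Q := by rw [hD]; exact inf_le_left
  have hDK : D ≤ K := by rw [hD]; exact inf_le_right
  -- the normaliser condition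
  have hQp : IsPGroup q Q := IsPGroup.of_card hQc
  haveI : Group.IsNilpotent Q := hQp.isNilpotent
  have hlt : D.subgroupOf Q < ⊤ := by
    rw [lt_top_iff_ne_top]
    intro h1
    rw [Subgroup.subgroupOf_eq_top] at h1
    exact hQK (h1.trans hDK)
  have hnc := Group.normalizerCondition_of_isNilpotent (G := Q) (D.subgroupOf Q) hlt
  obtain ⟨y, hyN, hyD⟩ := SetLike.exists_of_lt hnc
  have hyD' : (y : G) ∉ D := fun h => hyD (Subgroup.mem_subgroupOf.mpr h)
  have hyND : (y : G) ∈ Subgroup.normalizer (D : Set G) := by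
    rw [Subgroup.mem_normalizer_iff]
    intro x
    have hN := Subgroup.mem_normalizer_iff.mp hyN
    constructor
    · intro hx
      have h1 := (hN ⟨x, hDQ hx⟩).mp (Subgroup.mem_subgroupOf.mpr hx)
      have h2 := Subgroup.mem_subgroupOf.mp h1
      simpa using h2
    · intro hx
      have hxQ : x ∈ Q := by
        have h1 : (y : G)⁻¹ * ((y : G) * x * (y : G)⁻¹) * (y : G) ∈ Q :=
          Q.mul_mem (Q.mul_mem (Q.inv_mem y.2) (hDQ hx)) y.2
        have e : (y : G)⁻¹ * ((y : G) * x * (y : G)⁻¹) * (y : G) = x := by group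
        rwa [e] at h1
      have h1 : y * (⟨x, hxQ⟩ : Q) * y⁻¹ ∈ D.subgroupOf Q := by
        rw [Subgroup.mem_subgroupOf]
        simpa using hx
      have h2 := (hN ⟨x, hxQ⟩).mpr h1
      exact Subgroup.mem_subgroupOf.mp h2
  obtain ⟨L, hL⟩ : ∃ L : Subgroup G, L = Q ⊓ Subgroup.normalizer (D : Set G) := ⟨_, rfl⟩
  have hLQ : L ≤ Q := by rw [hL]; exact inf_le_left
  have hHD : ∀ h ∈ H, ∀ d ∈ D, h * d = d * h := by
    intro h hh d hd
    exact (hs.comm d (hDK hd) h hh).symm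
  have hHND : H ≤ Subgroup.normalizer (D : Set G) := by
    apply le_normalizer_of_conj_mem'
    intro h hh d hd
    rw [hHD h hh d hd, mul_inv_cancel_right]
    exact hd
  have hMH : M ⊓ H = ⊥ := hMc.disjoint.eq_bot
  have hcent : ∀ m ∈ M, ∀ h ∈ H, h ≠ 1 → m * h = h * m → m ∈ K := by
    intro m hm h hh hh1 hmh
    have h1 : m ∈ Subgroup.normalizer (H : Set G) := by
      apply ti_mem_normalizer hTI m h hh hh1
      rw [hmh, mul_inv_cancel_right]
      exact hh
    rw [← hMN]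
    exact Subgroup.mem_inf.mpr ⟨hm, h1⟩
  apply frobenius_of_section H L D
  · rw [hL]
    exact le_inf hDQ Subgroup.le_normalizer
  · rw [hL]; exact inf_le_right
  · apply le_normalizer_of_conj_mem'
    intro h hh x hx
    rw [hL] at hx ⊢
    obtain ⟨hx1, hx2⟩ := Subgroup.mem_inf.mp hx
    apply Subgroup.mem_inf.mpr
    constructor
    · exact (Subgroup.mem_normalizer_iff.mp (hHQ hh) x).mp hx1
    · exact Subgroup.mul_mem _ (Subgroup.mul_mem _ (hHND hh) hx2) (Subgroup.inv_mem _ (hHND hh))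
  · exact hHD
  · rw [eq_bot_iff]
    intro x hx
    obtain ⟨hx1, hx2⟩ := Subgroup.mem_inf.mp hx
    rw [← hMH]
    exact Subgroup.mem_inf.mpr ⟨hQM (hLQ hx1), hx2⟩
  · exact hH1
  · refine ⟨(y : G), ?_, hyD'⟩
    rw [hL]
    exact Subgroup.mem_inf.mpr ⟨y.2, hyND⟩
  · intro l hl h hh hh1 hfix
    rw [hD] at hfix ⊢
    exact key_fixed H M K Q hcop hQM hcent hs.comm l (hLQ hl) h hh hh1 hfix

end Final

end Cfsg.Agent.helper20.WTI
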