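import Cfsg.Statements.S2119
import Mathlib

set_option autoImplicit false
open Cfsg

namespace Cfsg.Agent.S2119

open Equiv Equiv.Perm

/-! ### Step 1: automorphisms preserve three-cycles (counting centralizers) -/

section step1

theorem fact_ineq_aux (j : ℕ) : 2 * 3 ^ (j + 2) * (j + 3).factorial < (3 * j + 6).factorial := by
  induction j with
  | zero => decide
  | succ j ih =>
    have h1 : (3 * (j + 1) + 6).factorial
        = (3 * j + 9) * ((3 * j + 8) * ((3 * j + 7) * (3 * j + 6).factorial)) := by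
      have : 3 * (j + 1) + 6 = (3 * j + 8) + 1 := by ring
      rw [this, Nat.factorial_succ]
      have : 3 * j + 8 = (3 * j + 7) + 1 := by ring
      rw [this, Nat.factorial_succ]
      have : 3 * j + 7 = (3 * j + 6) + 1 := by ring
      rw [this, Nat.factorial_succ]
    have h2 : (j + 1 + 3).factorial = (j + 4) * (j + 3).factorial := by
      have : j + 1 + 3 = (j + 3) + 1 := by ring
      rw [this, Nat.factorial_succ]
    rw [h1, h2]
    have h3 : 3 * (j + 4) ≤ (3 * j + 9) * ((3 * j + 8) * (3 * j + 7)) := by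
      have h31 : 2 * 1 ≤ (3 * j + 8) * (3 * j + 7) := Nat.mul_le_mul (by omega) (by omega)
      calc 3 * (j + 4) ≤ (3 * j + 9) * 2 := by omega
        _ ≤ _ := Nat.mul_le_mul_left _ (by omega)
    calc 2 * 3 ^ (j + 1 + 2) * ((j + 4) * (j + 3).factorial)
        = (3 * (j + 4)) * (2 * 3 ^ (j + 2) * (j + 3).factorial) := by ring
      _ < (3 * (j + 4)) * (3 * j + 6).factorial :=
          Nat.mul_lt_mul_of_pos_left ih (by omega)
      _ ≤ ((3 * j + 9) * ((3 * j + 8) * (3 * j + 7))) * (3 * j + 6).factorial :=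
          Nat.mul_le_mul_right _ h3
      _ = (3 * j + 9) * ((3 * j + 8) * ((3 * j + 7) * (3 * j + 6).factorial)) := by ring

/-- the arithmetic behind the comparison of centralizer orders. -/
theorem arith (n k : ℕ) (hk : 3 * (k + 1) ≤ n)
    (h : (n - 3).factorial * 3 ≤ 2 * ((n - 3 * (k + 1)).factorial * 3 ^ (k + 1) * (k + 1).factorial)) :
    k = 0 ∨ (k = 1 ∧ n = 6) := by
  rcases k with _ | k
  · left; rfl
  right
  obtain ⟨m, rfl⟩ : ∃ m, n = m + 3 * (k + 1 + 1) := ⟨n - 3 * (k + 1 + 1), by omega⟩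
  have e1 : m + 3 * (k + 1 + 1) - 3 * (k + 1 + 1) = m := by omega
  have e2 : m + 3 * (k + 1 + 1) - 3 = m + (3 * k + 3) := by omega
  rw [e1, e2] at h
  have hdvd : m.factorial * (3 * k + 3).factorial ≤ (m + (3 * k + 3)).factorial :=
    Nat.le_of_dvd (Nat.factorial_pos _) (Nat.factorial_mul_factorial_dvd_factorial_add _ _)
  have hm := Nat.factorial_pos m
  rcases k with _ | k
  · -- k = 1 : `(m+3)! * 3 ≤ 2 * m! * 9 * 2`
    refine ⟨rfl, ?_⟩
    rcases m with _ | m
    · rfl
    · exfalso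
      have h4 : (m + 1 + (3 * 0 + 3)).factorial
          = (m + 4) * ((m + 3) * ((m + 2) * (m + 1).factorial)) := by
        have : m + 1 + (3 * 0 + 3) = (m + 3) + 1 := by ring
        rw [this, Nat.factorial_succ]
        have : m + 3 = (m + 2) + 1 := by ring
        rw [this, Nat.factorial_succ]
        have : m + 2 = (m + 1) + 1 := by ring
        rw [this, Nat.factorial_succ]
      rw [h4] at h
      have h5 : (0 + 1 + 1).factorial = 2 := by decide
      rw [h5] at h
      have hp := Nat.factorial_pos (m + 1)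
      have h24 : 4 * (3 * 2) ≤ (m + 4) * ((m + 3) * (m + 2)) :=
        Nat.mul_le_mul (by omega) (Nat.mul_le_mul (by omega) (by omega))
      have h7 : (m + 4) * ((m + 3) * ((m + 2) * (m + 1).factorial))
          = ((m + 4) * ((m + 3) * (m + 2))) * (m + 1).factorial := by ring
      rw [h7] at h
      have h8 : 4 * (3 * 2) * (m + 1).factorial
          ≤ ((m + 4) * ((m + 3) * (m + 2))) * (m + 1).factorial := Nat.mul_le_mul_right _ h24
      have h9 : 2 * ((m + 1).factorial * 3 ^ (0 + 1 + 1) * 2) = 36 * (m + 1).factorial := by ring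
      rw [h9] at h
      omega
  · exfalso
    have h6 := fact_ineq_aux k
    have e3 : 3 * (k + 1) + 3 = 3 * k + 6 := by ring
    rw [e3] at hdvd h
    have h7 : m.factorial * (2 * 3 ^ (k + 2) * (k + 3).factorial)
        < m.factorial * (3 * k + 6).factorial := Nat.mul_lt_mul_of_pos_left h6 hm
    have hZ : 2 * (m.factorial * 3 ^ (k + 3) * (k + 3).factorial)
        = 3 * (m.factorial * (2 * 3 ^ (k + 2) * (k + 3).factorial)) := by ring
    have h' : (m + (3 * k + 6)).factorial * 3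
        ≤ 2 * (m.factorial * 3 ^ (k + 3) * (k + 3).factorial) := h
    rw [hZ] at h'
    omega

variable {n : ℕ}

/-- the centralizer in the symmetric group is at most twice as big as in the alternating group. -/
theorem card_centralizer_le (g : alternatingGroup (Fin n)) :
    Nat.card (Subgroup.centralizer ({(g : Perm (Fin n))} : Set (Perm (Fin n))))
      ≤ 2 * Nat.card (Subgroup.centralizer ({g} : Set (alternatingGroup (Fin n)))) := by
  classical
  set C := Subgroup.centralizer ({(g : Perm (Fin n))} : Set (Perm (Fin n))) with hC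
  let f : C →* ℤˣ := (Perm.sign).comp C.subtype
  have h1 := Subgroup.card_mul_index f.ker
  rw [Subgroup.index_ker] at h1
  have h2 : Nat.card f.range ≤ 2 := by
    calc Nat.card f.range ≤ Nat.card ℤˣ := Nat.card_le_card_of_injective _ Subtype.val_injective
      _ = 2 := by rw [Nat.card_eq_fintype_card, Fintype.card_units_int]
  have h3 : Nat.card f.ker ≤ Nat.card (Subgroup.centralizer ({g} : Set (alternatingGroup (Fin n)))) := by
    let F : f.ker → Subgroup.centralizer ({g} : Set (alternatingGroup (Fin n))) := fun x =>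
      ⟨⟨x.1.1, by
        have := x.2
        rw [MonoidHom.mem_ker] at this
        exact Equiv.Perm.mem_alternatingGroup.mpr this⟩, by
        rw [Subgroup.mem_centralizer_singleton_iff]
        apply Subtype.ext
        have h' : x.1.1 ∈ Subgroup.centralizer ({(g : Perm (Fin n))} : Set (Perm (Fin n))) := x.1.2
        rw [Subgroup.mem_centralizer_singleton_iff] at h'
        exact h'⟩
    apply Nat.card_le_card_of_injective F
    intro x y hxy
    have := congrArg (fun z : Subgroup.centralizer ({g} : Set (alternatingGroup (Fin n))) =>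
      (z.1.1 : Perm (Fin n))) hxy
    exact Subtype.ext (Subtype.ext this)
  calc Nat.card C = Nat.card f.ker * Nat.card f.range := h1.symm
    _ ≤ Nat.card (Subgroup.centralizer ({g} : Set (alternatingGroup (Fin n)))) * 2 :=
        Nat.mul_le_mul h3 h2
    _ = _ := by ring

theorem card_centralizer_ge (g : alternatingGroup (Fin n)) :
    Nat.card (Subgroup.centralizer ({g} : Set (alternatingGroup (Fin n))))
      ≤ Nat.card (Subgroup.centralizer ({(g : Perm (Fin n))} : Set (Perm (Fin n)))) := by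
  let F : Subgroup.centralizer ({g} : Set (alternatingGroup (Fin n))) →
      Subgroup.centralizer ({(g : Perm (Fin n))} : Set (Perm (Fin n))) := fun x =>
    ⟨x.1.1, by
      have := x.2
      rw [Subgroup.mem_centralizer_singleton_iff] at this ⊢
      exact congrArg Subtype.val this⟩
  apply Nat.card_le_card_of_injective F
  intro x y hxy
  have := congrArg Subtype.val hxy
  exact Subtype.ext (Subtype.ext this)

theorem card_centralizer_aut (φ : MulAut (alternatingGroup (Fin n))) (g : alternatingGroup (Fin n)) :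
    Nat.card (Subgroup.centralizer ({g} : Set (alternatingGroup (Fin n))))
      ≤ Nat.card (Subgroup.centralizer ({φ g} : Set (alternatingGroup (Fin n)))) := by
  let F : Subgroup.centralizer ({g} : Set (alternatingGroup (Fin n))) →
      Subgroup.centralizer ({φ g} : Set (alternatingGroup (Fin n))) := fun x =>
    ⟨φ x.1, by
      have := x.2
      rw [Subgroup.mem_centralizer_singleton_iff] at this ⊢
      rw [← map_mul, ← map_mul, this]⟩
  apply Nat.card_le_card_of_injective F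
  intro x y hxy
  have := congrArg Subtype.val hxy
  exact Subtype.ext (φ.injective this)

theorem step1 (h6 : n ≠ 6) (φ : MulAut (alternatingGroup (Fin n))) (t : alternatingGroup (Fin n))
    (ht : (t : Perm (Fin n)).IsThreeCycle) :
    ((φ t : alternatingGroup (Fin n)) : Perm (Fin n)).IsThreeCycle := by
  classical
  set u : Perm (Fin n) := ((φ t : alternatingGroup (Fin n)) : Perm (Fin n)) with hu
  have ho : orderOf u = 3 := by
    rw [hu, Subgroup.orderOf_coe, MulEquiv.orderOf_eq, ← Subgroup.orderOf_coe, ht.orderOf]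
  obtain ⟨k, hk⟩ := cycleType_prime_order (σ := u) (by rw [ho]; norm_num)
  rw [ho] at hk
  have hsum : 3 * (k + 1) ≤ n := by
    have := sum_cycleType_le u
    rw [hk, Multiset.sum_replicate, Fintype.card_fin, smul_eq_mul] at this
    omega
  have c1 : Nat.card (Subgroup.centralizer ({(t : Perm (Fin n))} : Set (Perm (Fin n))))
      = (n - 3).factorial * 3 := by
    rw [nat_card_centralizer, ht.cycleType]
    simp
  have c2 : Nat.card (Subgroup.centralizer ({u} : Set (Perm (Fin n))))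
      = (n - 3 * (k + 1)).factorial * 3 ^ (k + 1) * (k + 1).factorial := by
    have hfs : (Multiset.replicate (k + 1) 3).toFinset = {3} := by
      ext x
      rw [Multiset.mem_toFinset, Multiset.mem_replicate, Finset.mem_singleton]
      exact ⟨fun h => h.2, fun h => ⟨by omega, h⟩⟩
    have e : (k + 1) * 3 = 3 * (k + 1) := by ring
    rw [nat_card_centralizer, hk, hfs, Finset.prod_singleton, Multiset.count_replicate_self,
      Multiset.sum_replicate, Multiset.prod_replicate, Fintype.card_fin, smul_eq_mul, e]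
  have key : (n - 3).factorial * 3
      ≤ 2 * ((n - 3 * (k + 1)).factorial * 3 ^ (k + 1) * (k + 1).factorial) := by
    rw [← c1, ← c2]
    calc _ ≤ 2 * Nat.card (Subgroup.centralizer ({t} : Set (alternatingGroup (Fin n)))) :=
          card_centralizer_le t
      _ ≤ 2 * Nat.card (Subgroup.centralizer ({φ t} : Set (alternatingGroup (Fin n)))) :=
          Nat.mul_le_mul_left _ (card_centralizer_aut φ t)
      _ ≤ _ := Nat.mul_le_mul_left _ (card_centralizer_ge (φ t))
  rcases arith n k hsum key with rfl | ⟨_, h⟩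
  · rw [IsThreeCycle, hk]
    rfl
  · exact absurd h h6

end step1

/-! ### Three-cycles in explicit form -/

section cyc
variable {α : Type*} [DecidableEq α]

/-- the three-cycle `a → b → c → a`. -/
def cyc (a b c : α) : Perm α := swap a b * swap b c

theorem nodup3 {a b c : α} (h : [a, b, c].Nodup) : a ≠ b ∧ a ≠ c ∧ b ≠ c := by
  refine ⟨?_, ?_, ?_⟩ <;> (intro e; subst e; simp at h)

theorem nodup4 {a b c d : α} (h : [a, b, c, d].Nodup) :
    a ≠ b ∧ a ≠ c ∧ a ≠ d ∧ b ≠ c ∧ b ≠ d ∧ c ≠ d := by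
  refine ⟨?_, ?_, ?_, ?_, ?_, ?_⟩ <;> (intro e; subst e; simp at h)

theorem cyc_left {a b c : α} (h : [a, b, c].Nodup) : cyc a b c a = b := by
  obtain ⟨hab, hac, hbc⟩ := nodup3 h
  rw [cyc, Perm.mul_apply, swap_apply_of_ne_of_ne hab hac, swap_apply_left]

theorem cyc_mid {a b c : α} (h : [a, b, c].Nodup) : cyc a b c b = c := by
  obtain ⟨hab, hac, hbc⟩ := nodup3 h
  rw [cyc, Perm.mul_apply, swap_apply_left, swap_apply_of_ne_of_ne hac.symm hbc.symm]

theorem cyc_right {a b c : α} : cyc a b c c = a := by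
  rw [cyc, Perm.mul_apply, swap_apply_right, swap_apply_right]

theorem cyc_of_ne {a b c x : α} (ha : x ≠ a) (hb : x ≠ b) (hc : x ≠ c) : cyc a b c x = x := by
  rw [cyc, Perm.mul_apply, swap_apply_of_ne_of_ne hb hc, swap_apply_of_ne_of_ne ha hb]

theorem cyc_eq_of {a b c : α} (f : Perm α) (h1 : f a = b) (h2 : f b = c)
    (h3 : f c = a) (h4 : ∀ x, x ≠ a → x ≠ b → x ≠ c → f x = x) (h : [a, b, c].Nodup) :
    f = cyc a b c := by
  ext x
  by_cases ha : x = a
  · rw [ha, h1, cyc_left h]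
  by_cases hb : x = b
  · rw [hb, h2, cyc_mid h]
  by_cases hc : x = c
  · rw [hc, h3, cyc_right]
  rw [h4 x ha hb hc, cyc_of_ne ha hb hc]

theorem nodup3_rot {a b c : α} (h : [a, b, c].Nodup) : [b, c, a].Nodup := by
  obtain ⟨hab, hac, hbc⟩ := nodup3 h
  simp [hab.symm, hac.symm, hbc]

theorem nodup3_rev {a b c : α} (h : [a, b, c].Nodup) : [c, b, a].Nodup := by
  obtain ⟨hab, hac, hbc⟩ := nodup3 h
  simp [hab.symm, hac.symm, hbc.symm]

theorem cyc_rot {a b c : α} (h : [a, b, c].Nodup) : cyc b c a = cyc a b c := by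
  have h' := nodup3_rot h
  obtain ⟨hab, hac, hbc⟩ := nodup3 h
  exact cyc_eq_of _ cyc_right (cyc_left h') (cyc_mid h')
    (fun x ha hb hc => cyc_of_ne hb hc ha) h

theorem cyc_rot' {a b c : α} (h : [a, b, c].Nodup) : cyc c a b = cyc a b c := by
  rw [cyc_rot (nodup3_rot h), cyc_rot h]

theorem cyc_inv {a b c : α} (h : [a, b, c].Nodup) : (cyc a b c)⁻¹ = cyc c b a := by
  apply cyc_eq_of _ _ _ _ _ (nodup3_rev h)
  · rw [Perm.inv_eq_iff_eq, cyc_mid h]
  · rw [Perm.inv_eq_iff_eq, cyc_left h]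
  · rw [Perm.inv_eq_iff_eq, cyc_right]
  · intro x hc hb ha
    rw [Perm.inv_eq_iff_eq, cyc_of_ne ha hb hc]

theorem cyc_conj (σ : Perm α) (a b c : α) : σ * cyc a b c * σ⁻¹ = cyc (σ a) (σ b) (σ c) := by
  rw [cyc, cyc, swap_apply_apply, swap_apply_apply]
  group

theorem cyc_isThreeCycle [Fintype α] {a b c : α} (h : [a, b, c].Nodup) : (cyc a b c).IsThreeCycle := by
  obtain ⟨hab, hac, hbc⟩ := nodup3 h
  have : cyc a b c = swap a c * swap a b := by
    symm
    apply cyc_eq_of _ _ _ _ _ h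
    · rw [Perm.mul_apply, swap_apply_left, swap_apply_of_ne_of_ne hab.symm hbc]
    · rw [Perm.mul_apply, swap_apply_right, swap_apply_left]
    · rw [Perm.mul_apply, swap_apply_of_ne_of_ne hac.symm hbc.symm, swap_apply_right]
    · intro x ha hb hc
      rw [Perm.mul_apply, swap_apply_of_ne_of_ne ha hb, swap_apply_of_ne_of_ne ha hc]
  rw [this]
  exact isThreeCycle_swap_mul_swap_same hac hab hbc.symm

theorem exists_cyc_of_isThreeCycle [Fintype α] {g : Perm α} (hg : g.IsThreeCycle) :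
    ∃ a b c, [a, b, c].Nodup ∧ g = cyc a b c := by
  have hcard := hg.card_support
  have hne : g.support.Nonempty := by
    rw [← Finset.card_pos, hcard]; norm_num
  obtain ⟨a, ha⟩ := hne
  exact ⟨a, g a, g (g a), hg.nodup_iff_mem_support.mpr ha,
    hg.eq_swap_mul_swap_iff_mem_support.mpr ha⟩

theorem cyc_pow_three [Fintype α] {a b c : α} (h : [a, b, c].Nodup) : (cyc a b c) ^ 3 = 1 := by
  rw [← (cyc_isThreeCycle h).orderOf]
  exact pow_orderOf_eq_one _

/-! #### transfer of identities from small symmetric groups -/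

omit [DecidableEq α] in
theorem emb_apply {β : Type*} (ι : β ↪ α) (e : Perm β) (x : β) :
    viaEmbeddingHom ι e (ι x) = ι (e x) := viaEmbedding_apply e ι x

theorem emb_swap {β : Type*} [DecidableEq β] (ι : β ↪ α) (i j : β) :
    viaEmbeddingHom ι (swap i j) = swap (ι i) (ι j) := by
  ext x
  by_cases hx : x ∈ Set.range ι
  · obtain ⟨y, rfl⟩ := hx
    rw [emb_apply, ι.injective.map_swap]
  · have h1 : x ≠ ι i := fun h => hx ⟨i, h.symm⟩
    have h2 : x ≠ ι j := fun h => hx ⟨j, h.symm⟩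
    rw [viaEmbeddingHom_apply, viaEmbedding_apply_of_notMem _ _ _ hx,
      swap_apply_of_ne_of_ne h1 h2]

theorem emb_cyc {β : Type*} [DecidableEq β] (ι : β ↪ α) (i j k : β) :
    viaEmbeddingHom ι (cyc i j k) = cyc (ι i) (ι j) (ι k) := by
  rw [cyc, map_mul, emb_swap, emb_swap, cyc]

/-- four distinct points as an embedding of `Fin 4`. -/
def emb4 (a b c d : α) (h : [a, b, c, d].Nodup) : Fin 4 ↪ α :=
  ⟨![a, b, c, d], by
    obtain ⟨h1, h2, h3, h4, h5, h6⟩ := nodup4 h
    intro i j hij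
    fin_cases i <;> fin_cases j <;> simp_all⟩

end cyc

section lemmas
variable {α : Type*} [DecidableEq α] [Fintype α]

omit [Fintype α] in
theorem perm_cases {a b c d e f : α} (h1 : [a, b, c].Nodup) (h2 : [d, e, f].Nodup)
    (hd : d = a ∨ d = b ∨ d = c) (he : e = a ∨ e = b ∨ e = c) (hf : f = a ∨ f = b ∨ f = c) :
    cyc d e f = cyc a b c ∨ cyc d e f = (cyc a b c)⁻¹ := by
  rcases hd with rfl | rfl | rfl <;> rcases he with rfl | rfl | rfl <;>
    rcases hf with rfl | rfl | rfl <;>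
  first
  | (exfalso; simp at h2; done)
  | exact Or.inl rfl
  | exact Or.inl (cyc_rot h1)
  | exact Or.inl (cyc_rot' h1)
  | exact Or.inr (cyc_inv h1).symm
  | exact Or.inr ((cyc_rot (nodup3_rev h1)).trans (cyc_inv h1).symm)
  | exact Or.inr ((cyc_rot' (nodup3_rev h1)).trans (cyc_inv h1).symm)

omit [Fintype α] in
theorem lemmaL0 {a b c d e z : α} (h1 : [a, b, c].Nodup) (h2 : [d, e, z].Nodup)
    (hz : z ≠ a ∧ z ≠ b ∧ z ≠ c) (hsq : (cyc a b c * cyc d e z) ^ 2 = 1) :
    ∃ a' b' x y, [a', b', x, y].Nodup ∧ cyc a b c = cyc a' b' x ∧ cyc d e z = cyc a' b' y := by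
  obtain ⟨hab, hac, hbc⟩ := nodup3 h1
  obtain ⟨hde, hdz, hez⟩ := nodup3 h2
  obtain ⟨hza, hzb, hzc⟩ := hz
  have h3 := congrArg (fun w : Perm α => w z) hsq
  simp only [pow_two, Perm.mul_apply, Perm.one_apply] at h3
  rw [cyc_right] at h3
  have hsz : cyc a b c z = z := cyc_of_ne hza hzb hzc
  have h4 : cyc d e z (cyc a b c d) = z := (cyc a b c).injective (h3.trans hsz.symm)
  have h5 : cyc d e z e = z := cyc_mid h2
  have h6 : cyc a b c d = e := (cyc d e z).injective (h4.trans h5.symm)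
  have hd : d = a ∨ d = b ∨ d = c := by
    by_contra hcon
    push Not at hcon
    rw [cyc_of_ne hcon.1 hcon.2.1 hcon.2.2] at h6
    exact hde h6
  rcases hd with hd | hd | hd
  · subst hd
    rw [cyc_left h1] at h6
    subst h6
    exact ⟨d, b, c, z, by simp [hab, hac, hbc, hza.symm, hzb.symm, hzc.symm], rfl, rfl⟩
  · subst hd
    rw [cyc_mid h1] at h6
    subst h6
    exact ⟨d, c, a, z, by simp [hab.symm, hac.symm, hbc, hza.symm, hzb.symm, hzc.symm],
      (cyc_rot h1).symm, rfl⟩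
  · subst hd
    rw [cyc_right] at h6
    subst h6
    exact ⟨d, a, b, z, by simp [hab, hac.symm, hbc.symm, hza.symm, hzb.symm, hzc.symm],
      (cyc_rot' h1).symm, rfl⟩

theorem lemmaL {a b c d e f : α} (h1 : [a, b, c].Nodup) (h2 : [d, e, f].Nodup)
    (hsq : (cyc a b c * cyc d e f) ^ 2 = 1) (hne : cyc a b c * cyc d e f ≠ 1) :
    ∃ a' b' x y, [a', b', x, y].Nodup ∧ cyc a b c = cyc a' b' x ∧ cyc d e f = cyc a' b' y := by
  by_cases hf : f = a ∨ f = b ∨ f = c
  swap
  · push Not at hf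
    exact lemmaL0 h1 h2 hf hsq
  by_cases hd : d = a ∨ d = b ∨ d = c
  swap
  · push Not at hd
    rw [← cyc_rot h2] at hsq
    obtain ⟨a', b', x, y, hn, e1, e2⟩ := lemmaL0 h1 (nodup3_rot h2) hd hsq
    exact ⟨a', b', x, y, hn, e1, (cyc_rot h2).symm.trans e2⟩
  by_cases he : e = a ∨ e = b ∨ e = c
  swap
  · push Not at he
    rw [← cyc_rot' h2] at hsq
    obtain ⟨a', b', x, y, hn, e1, e2⟩ := lemmaL0 h1 (nodup3_rot (nodup3_rot h2)) he hsq
    exact ⟨a', b', x, y, hn, e1, (cyc_rot' h2).symm.trans e2⟩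
  exfalso
  rcases perm_cases h1 h2 hd he hf with h | h
  · rw [h] at hsq hne
    have h3 := cyc_pow_three h1
    have h4 : cyc a b c = 1 := by
      calc cyc a b c = (cyc a b c) ^ 3 * cyc a b c := by rw [h3, one_mul]
        _ = (cyc a b c * cyc a b c) ^ 2 := by
            simp only [pow_succ, pow_zero, one_mul, mul_assoc]
        _ = 1 := hsq
    apply hne
    rw [h4, one_mul]
  · rw [h] at hne
    exact hne (mul_inv_cancel _)

omit [Fintype α] in
theorem lemmaR {a b c a' b' c' : α} (h : [a, b, c].Nodup) (h' : [a', b', c'].Nodup)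
    (e : cyc a b c = cyc a' b' c') :
    (a' = a ∧ b' = b ∧ c' = c) ∨ (a' = b ∧ b' = c ∧ c' = a) ∨ (a' = c ∧ b' = a ∧ c' = b) := by
  obtain ⟨hab', hac', hbc'⟩ := nodup3 h'
  have e1 : cyc a b c a' = b' := by rw [e, cyc_left h']
  have e2 : cyc a b c b' = c' := by rw [e, cyc_mid h']
  have ha' : a' = a ∨ a' = b ∨ a' = c := by
    by_contra hcon
    push Not at hcon
    rw [cyc_of_ne hcon.1 hcon.2.1 hcon.2.2] at e1
    exact hab' e1
  rcases ha' with ha' | ha' | ha'
  · subst ha'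
    rw [cyc_left h] at e1
    subst e1
    rw [cyc_mid h] at e2
    exact Or.inl ⟨rfl, rfl, e2.symm⟩
  · subst ha'
    rw [cyc_mid h] at e1
    subst e1
    rw [cyc_right] at e2
    exact Or.inr (Or.inl ⟨rfl, rfl, e2.symm⟩)
  · subst ha'
    rw [cyc_right] at e1
    subst e1
    rw [cyc_left h] at e2
    exact Or.inr (Or.inr ⟨rfl, rfl, e2.symm⟩)

omit [Fintype α] in
theorem emb4_apply {a b c d : α} (h : [a, b, c, d].Nodup) :
    emb4 a b c d h 0 = a ∧ emb4 a b c d h 1 = b ∧ emb4 a b c d h 2 = c ∧ emb4 a b c d h 3 = d :=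
  ⟨rfl, rfl, rfl, rfl⟩

omit [Fintype α] in
theorem cyc_mul_cyc_sq {a b x y : α} (h : [a, b, x, y].Nodup) :
    (cyc a b x * cyc a b y) ^ 2 = 1 := by
  have h0 : (cyc (0 : Fin 4) 1 2 * cyc 0 1 3) ^ 2 = 1 := by decide
  have := congrArg (viaEmbeddingHom (emb4 a b x y h)) h0
  obtain ⟨e0, e1, e2, e3⟩ := emb4_apply h
  rw [map_pow, map_mul, map_one, emb_cyc, emb_cyc, e0, e1, e2, e3] at this
  exact this

omit [Fintype α] in
theorem cyc_mul_cyc_ne {a b x y : α} (h : [a, b, x, y].Nodup) :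
    cyc a b x * cyc a b y ≠ 1 := by
  obtain ⟨h1, h2, h3, h4, h5, h6⟩ := nodup4 h
  intro e
  have := congrArg (fun w : Perm α => w y) e
  simp only [Perm.mul_apply, Perm.one_apply, cyc_right] at this
  rw [cyc_left (by simp [h1, h2, h4])] at this
  exact h5 this

omit [Fintype α] in
theorem gen2 {a b i j : α} (h : [a, b, i, j].Nodup) :
    cyc a i j = cyc a b j * (cyc a b i)⁻¹ := by
  have h0 : cyc (0 : Fin 4) 2 3 = cyc 0 1 3 * (cyc 0 1 2)⁻¹ := by decide
  have := congrArg (viaEmbeddingHom (emb4 a b i j h)) h0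
  obtain ⟨e0, e1, e2, e3⟩ := emb4_apply h
  rw [map_mul, map_inv, emb_cyc, emb_cyc, emb_cyc, e0, e1, e2, e3] at this
  exact this

omit [Fintype α] in
theorem gen3 {a b i j : α} (h : [a, b, i, j].Nodup) :
    cyc b i j = (cyc a b j)⁻¹ * cyc a b i := by
  have h0 : cyc (1 : Fin 4) 2 3 = (cyc 0 1 3)⁻¹ * cyc 0 1 2 := by decide
  have := congrArg (viaEmbeddingHom (emb4 a b i j h)) h0
  obtain ⟨e0, e1, e2, e3⟩ := emb4_apply h
  rw [map_mul, map_inv, emb_cyc, emb_cyc, emb_cyc, e0, e1, e2, e3] at this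
  exact this

omit [Fintype α] in
theorem gen4 {a i j k : α} (h : [a, i, j, k].Nodup) :
    cyc i j k = cyc a i j * cyc a j k := by
  have h0 : cyc (1 : Fin 4) 2 3 = cyc 0 1 2 * cyc 0 2 3 := by decide
  have := congrArg (viaEmbeddingHom (emb4 a i j k h)) h0
  obtain ⟨e0, e1, e2, e3⟩ := emb4_apply h
  rw [map_mul, emb_cyc, emb_cyc, emb_cyc, e0, e1, e2, e3] at this
  exact this

end lemmas

section main
variable {m : ℕ}

theorem nodup4_abx {α : Type*} [DecidableEq α] {a b x y : α} (h : [a, b, x, y].Nodup) : [a, b, x].Nodup := by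
  obtain ⟨h1, h2, h3, h4, h5, h6⟩ := nodup4 h
  simp [h1, h2, h4]

theorem nodup4_aby {α : Type*} [DecidableEq α] {a b x y : α} (h : [a, b, x, y].Nodup) : [a, b, y].Nodup := by
  obtain ⟨h1, h2, h3, h4, h5, h6⟩ := nodup4 h
  simp [h1, h3, h5]

theorem nodup01 {i : Fin (m + 4)} (h0 : i ≠ 0) (h1 : i ≠ 1) : [(0 : Fin (m + 4)), 1, i].Nodup := by
  have h01 : (0 : Fin (m + 4)) ≠ 1 := by
    intro h
    have := congrArg Fin.val h
    simp at this
  simp [h01, h0.symm, h1.symm]

theorem nodup01' {i j : Fin (m + 4)} (hi0 : i ≠ 0) (hi1 : i ≠ 1) (hj0 : j ≠ 0) (hj1 : j ≠ 1)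
    (hij : i ≠ j) : [(0 : Fin (m + 4)), 1, i, j].Nodup := by
  have h01 : (0 : Fin (m + 4)) ≠ 1 := by
    intro h
    have := congrArg Fin.val h
    simp at this
  simp [h01, hi0.symm, hi1.symm, hj0.symm, hj1.symm, hij]

/-- a three-cycle as an element of the alternating group. -/
def cycA (a b c : Fin (m + 4)) (h : [a, b, c].Nodup) : alternatingGroup (Fin (m + 4)) :=
  ⟨cyc a b c, (cyc_isThreeCycle h).mem_alternatingGroup⟩

/-! #### generation by the three-cycles `(0 1 i)` -/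

/-- the subgroup generated by the `(0 1 i)`. -/
def H (m : ℕ) : Subgroup (Perm (Fin (m + 4))) :=
  Subgroup.closure {g | ∃ i : Fin (m + 4), i ≠ 0 ∧ i ≠ 1 ∧ g = cyc 0 1 i}

theorem mem_H1 {i : Fin (m + 4)} (h0 : i ≠ 0) (h1 : i ≠ 1) : cyc 0 1 i ∈ H m :=
  Subgroup.subset_closure ⟨i, h0, h1, rfl⟩

theorem mem_H0 {y z : Fin (m + 4)} (h : [0, y, z].Nodup) : cyc 0 y z ∈ H m := by
  obtain ⟨h0y, h0z, hyz⟩ := nodup3 h
  by_cases hy : y = 1
  · subst hy
    exact mem_H1 h0z.symm hyz.symm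
  by_cases hz : z = 1
  · subst hz
    have h' := nodup01 h0y.symm hy
    have e : cyc 0 y 1 = (cyc 0 1 y)⁻¹ := (cyc_rot h).symm.trans (cyc_inv h').symm
    rw [e]
    exact inv_mem (mem_H1 h0y.symm hy)
  · rw [gen2 (nodup01' h0y.symm hy h0z.symm hz hyz)]
    exact mul_mem (mem_H1 h0z.symm hz) (inv_mem (mem_H1 h0y.symm hy))

theorem mem_H1' {y z : Fin (m + 4)} (h : [1, y, z].Nodup) (hy0 : y ≠ 0) (hz0 : z ≠ 0) :
    cyc 1 y z ∈ H m := by
  obtain ⟨h1y, h1z, hyz⟩ := nodup3 h
  rw [gen3 (nodup01' hy0 h1y.symm hz0 h1z.symm hyz)]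
  exact mul_mem (inv_mem (mem_H1 hz0 h1z.symm)) (mem_H1 hy0 h1y.symm)

theorem mem_H {x y z : Fin (m + 4)} (h : [x, y, z].Nodup) : cyc x y z ∈ H m := by
  obtain ⟨hxy, hxz, hyz⟩ := nodup3 h
  by_cases hx0 : x = 0
  · subst hx0
    exact mem_H0 h
  by_cases hy0 : y = 0
  · subst hy0
    rw [← cyc_rot h]
    exact mem_H0 (nodup3_rot h)
  by_cases hz0 : z = 0
  · subst hz0
    rw [← cyc_rot' h]
    exact mem_H0 (nodup3_rot (nodup3_rot h))
  by_cases hx1 : x = 1
  · subst hx1
    exact mem_H1' h hy0 hz0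
  by_cases hy1 : y = 1
  · subst hy1
    rw [← cyc_rot h]
    exact mem_H1' (nodup3_rot h) hz0 hx0
  by_cases hz1 : z = 1
  · subst hz1
    rw [← cyc_rot' h]
    exact mem_H1' (nodup3_rot (nodup3_rot h)) hx0 hy0
  have h4 : [(0 : Fin (m + 4)), x, y, z].Nodup := by
    simp [Ne.symm hx0, Ne.symm hy0, Ne.symm hz0, hxy, hxz, hyz]
  rw [gen4 h4]
  exact mul_mem (mem_H0 (nodup4_abx h4))
    (mem_H0 (by simp [Ne.symm hy0, Ne.symm hz0, hyz]))

/-- the generating set inside the alternating group. -/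
def genSet (m : ℕ) : Set (alternatingGroup (Fin (m + 4))) :=
  {g | ∃ (i : Fin (m + 4)) (h0 : i ≠ 0) (h1 : i ≠ 1), g = cycA 0 1 i (nodup01 h0 h1)}

theorem gen_top : Subgroup.closure (genSet m) = ⊤ := by
  rw [eq_top_iff, ← alternatingGroup.closure_isThreeCycles_eq_top]
  rw [Subgroup.closure_le]
  intro g hg
  obtain ⟨x, y, z, hn, e⟩ := exists_cyc_of_isThreeCycle (show (g : Perm (Fin (m + 4))).IsThreeCycle from hg)
  have h1 : H m ≤ (Subgroup.closure (genSet m)).map (alternatingGroup (Fin (m + 4))).subtype := by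
    rw [H, Subgroup.closure_le]
    rintro _ ⟨i, h0, h1, rfl⟩
    exact ⟨cycA 0 1 i (nodup01 h0 h1), Subgroup.subset_closure ⟨i, h0, h1, rfl⟩, rfl⟩
  have h2 : (g : Perm (Fin (m + 4))) ∈ H m := by
    rw [e]; exact mem_H hn
  obtain ⟨k, hk, hkg⟩ := h1 h2
  have : k = g := Subtype.ext hkg
  rw [← this]
  exact hk

/-! #### every automorphism is a conjugation -/

theorem exists_conj (h6 : m + 4 ≠ 6) (φ : MulAut (alternatingGroup (Fin (m + 4)))) :
    ∃ σ : Perm (Fin (m + 4)), MulAut.conjNormal σ = φ := by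
  classical
  have hT : ∀ (i : Fin (m + 4)) (h0 : i ≠ 0) (h1 : i ≠ 1), ∃ p q r, [p, q, r].Nodup ∧
      ((φ (cycA 0 1 i (nodup01 h0 h1)) : alternatingGroup (Fin (m + 4))) : Perm (Fin (m + 4)))
        = cyc p q r := fun i h0 h1 =>
    exists_cyc_of_isThreeCycle (step1 h6 φ _ (cyc_isThreeCycle (nodup01 h0 h1)))
  have hpair : ∀ (i j : Fin (m + 4)) (hi0 : i ≠ 0) (hi1 : i ≠ 1) (hj0 : j ≠ 0) (hj1 : j ≠ 1)
      (hij : i ≠ j), ∃ a b x y, [a, b, x, y].Nodup ∧
      ((φ (cycA 0 1 i (nodup01 hi0 hi1)) : alternatingGroup (Fin (m + 4))) : Perm (Fin (m + 4)))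
        = cyc a b x ∧
      ((φ (cycA 0 1 j (nodup01 hj0 hj1)) : alternatingGroup (Fin (m + 4))) : Perm (Fin (m + 4)))
        = cyc a b y := by
    intro i j hi0 hi1 hj0 hj1 hij
    obtain ⟨p, q, r, hn, e⟩ := hT i hi0 hi1
    obtain ⟨p', q', r', hn', e'⟩ := hT j hj0 hj1
    have h4 := nodup01' hi0 hi1 hj0 hj1 hij
    have hsq : (cyc p q r * cyc p' q' r') ^ 2 = 1 := by
      rw [← e, ← e', ← Subgroup.coe_mul, ← map_mul, ← Subgroup.coe_pow, ← map_pow]
      have : (cycA 0 1 i (nodup01 hi0 hi1) * cycA 0 1 j (nodup01 hj0 hj1)) ^ 2 = 1 :=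
        Subtype.ext (cyc_mul_cyc_sq h4)
      rw [this, map_one]
      rfl
    have hne : cyc p q r * cyc p' q' r' ≠ 1 := by
      rw [← e, ← e', ← Subgroup.coe_mul, ← map_mul]
      intro h
      have h' : φ (cycA 0 1 i (nodup01 hi0 hi1) * cycA 0 1 j (nodup01 hj0 hj1)) = 1 :=
        Subtype.ext h
      have h'' := φ.injective (h'.trans (map_one φ).symm)
      exact cyc_mul_cyc_ne h4 (congrArg Subtype.val h'')
    obtain ⟨a, b, x, y, hn4, e1, e2⟩ := lemmaL hn hn' hsq hne
    exact ⟨a, b, x, y, hn4, e.trans e1, e'.trans e2⟩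
  have m2 : 2 % (m + 4) = 2 := Nat.mod_eq_of_lt (by omega)
  have m3 : 3 % (m + 4) = 3 := Nat.mod_eq_of_lt (by omega)
  have h20 : (2 : Fin (m + 4)) ≠ 0 := by
    intro h; have := congrArg Fin.val h; simp at this; omega
  have h21 : (2 : Fin (m + 4)) ≠ 1 := by
    intro h; have := congrArg Fin.val h; simp at this; omega
  have h30 : (3 : Fin (m + 4)) ≠ 0 := by
    intro h; have := congrArg Fin.val h; simp at this; omega
  have h31 : (3 : Fin (m + 4)) ≠ 1 := by
    intro h; have := congrArg Fin.val h; simp at this; omega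
  have h23 : (2 : Fin (m + 4)) ≠ 3 := by
    intro h; have := congrArg Fin.val h; simp at this; omega
  obtain ⟨a, b, x2, x3, hn4, e2, e3⟩ := hpair 2 3 h20 h21 h30 h31 h23
  have hfan : ∀ (i : Fin (m + 4)) (h0 : i ≠ 0) (h1 : i ≠ 1), ∃ x, x ≠ a ∧ x ≠ b ∧
      ((φ (cycA 0 1 i (nodup01 h0 h1)) : alternatingGroup (Fin (m + 4))) : Perm (Fin (m + 4)))
        = cyc a b x := by
    intro i h0 h1
    obtain ⟨g1, g2, g3, g4, g5, g6⟩ := nodup4 hn4
    by_cases hi2 : i = 2
    · subst hi2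
      exact ⟨x2, g2.symm, g4.symm, e2⟩
    by_cases hi3 : i = 3
    · subst hi3
      exact ⟨x3, g3.symm, g5.symm, e3⟩
    obtain ⟨a', b', x', y', hn', f2, fi⟩ := hpair 2 i h20 h21 h0 h1 (Ne.symm hi2)
    obtain ⟨a'', b'', x'', y'', hn'', f3, fi'⟩ := hpair 3 i h30 h31 h0 h1 (Ne.symm hi3)
    have r1 := lemmaR (nodup4_abx hn4) (nodup4_abx hn') (e2.symm.trans f2)
    have r2 := lemmaR (nodup4_aby hn4) (nodup4_abx hn'') (e3.symm.trans f3)
    have r3 := lemmaR (nodup4_aby hn') (nodup4_aby hn'') (fi.symm.trans fi')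
    obtain ⟨k1, k2, k3, k4, k5, k6⟩ := nodup4 hn'
    obtain ⟨l1, l2, l3, l4, l5, l6⟩ := nodup4 hn''
    rcases r1 with ⟨q1, q2, q3⟩ | ⟨q1, q2, q3⟩ | ⟨q1, q2, q3⟩
    · subst q1 q2 q3
      exact ⟨y', k3.symm, k5.symm, fi⟩
    · exfalso
      subst q1 q2 q3
      rcases r2 with ⟨s1, s2, s3⟩ | ⟨s1, s2, s3⟩ | ⟨s1, s2, s3⟩ <;>
        rcases r3 with ⟨t1, t2, t3⟩ | ⟨t1, t2, t3⟩ | ⟨t1, t2, t3⟩ <;>
        simp_all
    · exfalso
      subst q1 q2 q3
      rcases r2 with ⟨s1, s2, s3⟩ | ⟨s1, s2, s3⟩ | ⟨s1, s2, s3⟩ <;>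
        rcases r3 with ⟨t1, t2, t3⟩ | ⟨t1, t2, t3⟩ | ⟨t1, t2, t3⟩ <;>
        simp_all
  obtain ⟨g1, g2, g3, g4, g5, g6⟩ := nodup4 hn4
  choose! xf hxf using hfan
  let σ' : Fin (m + 4) → Fin (m + 4) := fun i => if i = 0 then a else if i = 1 then b else xf i
  have hσ0 : σ' 0 = a := by simp [σ']
  have h10 : (1 : Fin (m + 4)) ≠ 0 := by
    intro h; have := congrArg Fin.val h; simp at this
  have hσ1 : σ' 1 = b := by simp [σ', h10]
  have hσi : ∀ i, i ≠ 0 → i ≠ 1 → σ' i = xf i := by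
    intro i h0 h1; simp [σ', h0, h1]
  have hinj : Function.Injective σ' := by
    intro i j hij
    by_cases hi0 : i = 0
    · by_cases hj0 : j = 0
      · rw [hi0, hj0]
      · exfalso
        by_cases hj1 : j = 1
        · rw [hi0, hj1, hσ0, hσ1] at hij; exact g1 hij
        · rw [hi0, hσ0, hσi j hj0 hj1] at hij
          exact (hxf j hj0 hj1).1 hij.symm
    by_cases hi1 : i = 1
    · by_cases hj0 : j = 0
      · exfalso
        rw [hi1, hj0, hσ0, hσ1] at hij; exact g1 hij.symm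
      · by_cases hj1 : j = 1
        · rw [hi1, hj1]
        · exfalso
          rw [hi1, hσ1, hσi j hj0 hj1] at hij
          exact (hxf j hj0 hj1).2.1 hij.symm
    by_cases hj0 : j = 0
    · exfalso
      rw [hj0, hσ0, hσi i hi0 hi1] at hij
      exact (hxf i hi0 hi1).1 hij
    by_cases hj1 : j = 1
    · exfalso
      rw [hj1, hσ1, hσi i hi0 hi1] at hij
      exact (hxf i hi0 hi1).2.1 hij
    rw [hσi i hi0 hi1, hσi j hj0 hj1] at hij
    have e1 := (hxf i hi0 hi1).2.2
    have e2' := (hxf j hj0 hj1).2.2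
    rw [hij] at e1
    have e3' : φ (cycA 0 1 i (nodup01 hi0 hi1)) = φ (cycA 0 1 j (nodup01 hj0 hj1)) :=
      Subtype.ext (e1.trans e2'.symm)
    have e4 := congrArg Subtype.val (φ.injective e3')
    have e5 := congrArg (fun w : Perm (Fin (m + 4)) => w 1) e4
    simp only [cycA] at e5
    rw [cyc_mid (nodup01 hi0 hi1), cyc_mid (nodup01 hj0 hj1)] at e5
    exact e5
  let σ : Perm (Fin (m + 4)) := Equiv.ofBijective σ' (Finite.injective_iff_bijective.mp hinj)
  refine ⟨σ, ?_⟩
  have hgen : ∀ g ∈ genSet m, MulAut.conjNormal σ g = φ g := by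
    rintro _ ⟨i, h0, h1, rfl⟩
    apply Subtype.ext
    rw [MulAut.conjNormal_apply, (hxf i h0 h1).2.2]
    show σ * cyc 0 1 i * σ⁻¹ = _
    rw [cyc_conj]
    show cyc (σ' 0) (σ' 1) (σ' i) = _
    rw [hσ0, hσ1, hσi i h0 h1]
  have hall : ∀ g : alternatingGroup (Fin (m + 4)), MulAut.conjNormal σ g = φ g := by
    intro g
    have hg : g ∈ Subgroup.closure (genSet m) := by rw [gen_top]; trivial
    induction hg using Subgroup.closure_induction with
    | mem x hx => exact hgen x hx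
    | one => rw [map_one, map_one]
    | mul x y _ _ hx hy => rw [map_mul, map_mul, hx, hy]
    | inv x _ hx => rw [map_inv, map_inv, hx]
  exact MulEquiv.ext hall

theorem conj_injective :
    Function.Injective (MulAut.conjNormal : Perm (Fin (m + 4)) →* MulAut ↥(alternatingGroup (Fin (m + 4)))) := by
  classical
  rw [injective_iff_map_eq_one]
  intro σ hσ
  by_contra hne
  obtain ⟨a, ha⟩ : ∃ a, σ a ≠ a := by
    by_contra hcon
    push Not at hcon
    exact hne (Equiv.ext hcon)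
  set b := σ a with hb
  have hcard : ∀ s : Finset (Fin (m + 4)), s.card < 4 → ∃ e, e ∉ s := by
    intro s hs
    have : s.card < (Finset.univ : Finset (Fin (m + 4))).card := by
      rw [Finset.card_univ, Fintype.card_fin]; omega
    obtain ⟨e, _, he⟩ := Finset.exists_mem_notMem_of_card_lt_card this
    exact ⟨e, he⟩
  obtain ⟨c, hc⟩ := hcard {a, b} (lt_of_le_of_lt (Finset.card_le_two) (by norm_num))
  obtain ⟨d, hd⟩ := hcard {a, b, c} (lt_of_le_of_lt (Finset.card_le_three) (by norm_num))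
  simp only [Finset.mem_insert, Finset.mem_singleton, not_or] at hc hd
  have hn : [b, c, d].Nodup := by
    simp [Ne.symm hc.2, Ne.symm hd.2.1, Ne.symm hd.2.2]
  have h1 := congrArg (fun ψ : MulAut ↥(alternatingGroup (Fin (m + 4))) => ψ (cycA b c d hn)) hσ
  have h2 := congrArg Subtype.val h1
  simp only [MulAut.one_apply] at h2
  rw [MulAut.conjNormal_apply] at h2
  have h3 : σ * cyc b c d = cyc b c d * σ := by
    have h4 : σ * cyc b c d * σ⁻¹ = cyc b c d := h2
    calc σ * cyc b c d = (σ * cyc b c d * σ⁻¹) * σ := by group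
      _ = cyc b c d * σ := by rw [h4]
  have h5 := congrArg (fun w : Perm (Fin (m + 4)) => w a) h3
  simp only [Perm.mul_apply] at h5
  rw [cyc_of_ne ha.symm (Ne.symm hc.1) (Ne.symm hd.1), ← hb, cyc_left hn] at h5
  exact hc.2 h5.symm

end main

theorem result (n : ℕ) (hn : 4 ≤ n) (h6 : n ≠ 6) : Function.Bijective (MulAut.conjNormal : Equiv.Perm (Fin n) →* MulAut ↥(alternatingGroup (Fin n))) := by
  obtain ⟨m, rfl⟩ : ∃ m, n = m + 4 := ⟨n - 4, by omega⟩
  exact ⟨conj_injective, fun φ => exists_conj h6 φ⟩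

end Cfsg.Agent.S2119
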