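import Mathlib
import Cfsg.Agent.S2119

set_option autoImplicit false
set_option linter.style.haveILetI false

namespace Cfsg.Agent.helper21.AltAut

open Equiv Equiv.Perm Cfsg.Agent.S2119

variable {m : ℕ}

set_option maxHeartbeats 3200000 in
/-- helper25's `exists_conj` with the three-cycle hypothesis made explicit (works for `n = 6`). -/
theorem exists_conj' (φ : MulAut (alternatingGroup (Fin (m + 4))))
    (h3 : ∀ t : alternatingGroup (Fin (m + 4)), (t : Perm (Fin (m + 4))).IsThreeCycle →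
      ((φ t : alternatingGroup (Fin (m + 4))) : Perm (Fin (m + 4))).IsThreeCycle) :
    ∃ σ : Perm (Fin (m + 4)), MulAut.conjNormal σ = φ := by
  classical
  have hT : ∀ (i : Fin (m + 4)) (h0 : i ≠ 0) (h1 : i ≠ 1), ∃ p q r, [p, q, r].Nodup ∧
      ((φ (cycA 0 1 i (nodup01 h0 h1)) : alternatingGroup (Fin (m + 4))) : Perm (Fin (m + 4)))
        = cyc p q r := fun i h0 h1 =>
    exists_cyc_of_isThreeCycle (h3 _ (cyc_isThreeCycle (nodup01 h0 h1)))
  clear h3
  have hpair : ∀ (i j : Fin (m + 4)) (hi0 : i ≠ 0) (hi1 : i ≠ 1) (hj0 : j ≠ 0) (hj1 : j ≠ 1)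
      (hij : i ≠ j), ∃ a b x y, [a, b, x, y].Nodup ∧
      ((φ (cycA 0 1 i (nodup01 hi0 hi1)) : alternatingGroup (Fin (m + 4))) : Perm (Fin (m + 4)))
        = cyc a b x ∧
      ((φ (cycA 0 1 j (nodup01 hj0 hj1)) : alternatingGroup (Fin (m + 4))) : Perm (Fin (m + 4)))
        = cyc a b y := by
    intro i j hi0 hi1 hj0 hj1 hij
    obtain ⟨p, q, r, hn, e⟩ := hT i hi0 hi1
    obtain ⟨p', q', r', hn', e'⟩ := hT j hj0 hj1
    have h4 := nodup01' hi0 hi1 hj0 hj1 hij
    have hsq : (cyc p q r * cyc p' q' r') ^ 2 = 1 := by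
      rw [← e, ← e', ← Subgroup.coe_mul, ← map_mul, ← Subgroup.coe_pow, ← map_pow]
      have : (cycA 0 1 i (nodup01 hi0 hi1) * cycA 0 1 j (nodup01 hj0 hj1)) ^ 2 = 1 :=
        Subtype.ext (cyc_mul_cyc_sq h4)
      rw [this, map_one]
      rfl
    have hne : cyc p q r * cyc p' q' r' ≠ 1 := by
      rw [← e, ← e', ← Subgroup.coe_mul, ← map_mul]
      intro h
      have h' : φ (cycA 0 1 i (nodup01 hi0 hi1) * cycA 0 1 j (nodup01 hj0 hj1)) = 1 :=
        Subtype.ext h
      have h'' := φ.injective (h'.trans (map_one φ).symm)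
      exact cyc_mul_cyc_ne h4 (congrArg Subtype.val h'')
    obtain ⟨a, b, x, y, hn4, e1, e2⟩ := lemmaL hn hn' hsq hne
    exact ⟨a, b, x, y, hn4, e.trans e1, e'.trans e2⟩
  have m2 : 2 % (m + 4) = 2 := Nat.mod_eq_of_lt (by omega)
  have m3 : 3 % (m + 4) = 3 := Nat.mod_eq_of_lt (by omega)
  have h20 : (2 : Fin (m + 4)) ≠ 0 := by
    intro h; have := congrArg Fin.val h; simp at this; omega
  have h21 : (2 : Fin (m + 4)) ≠ 1 := by
    intro h; have := congrArg Fin.val h; simp at this; omega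
  have h30 : (3 : Fin (m + 4)) ≠ 0 := by
    intro h; have := congrArg Fin.val h; simp at this; omega
  have h31 : (3 : Fin (m + 4)) ≠ 1 := by
    intro h; have := congrArg Fin.val h; simp at this; omega
  have h23 : (2 : Fin (m + 4)) ≠ 3 := by
    intro h; have := congrArg Fin.val h; simp at this; omega
  obtain ⟨a, b, x2, x3, hn4, e2, e3⟩ := hpair 2 3 h20 h21 h30 h31 h23
  have hfan : ∀ (i : Fin (m + 4)) (h0 : i ≠ 0) (h1 : i ≠ 1), ∃ x, x ≠ a ∧ x ≠ b ∧
      ((φ (cycA 0 1 i (nodup01 h0 h1)) : alternatingGroup (Fin (m + 4))) : Perm (Fin (m + 4)))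
        = cyc a b x := by
    intro i h0 h1
    obtain ⟨g1, g2, g3, g4, g5, g6⟩ := nodup4 hn4
    by_cases hi2 : i = 2
    · subst hi2
      exact ⟨x2, g2.symm, g4.symm, e2⟩
    by_cases hi3 : i = 3
    · subst hi3
      exact ⟨x3, g3.symm, g5.symm, e3⟩
    obtain ⟨a', b', x', y', hn', f2, fi⟩ := hpair 2 i h20 h21 h0 h1 (Ne.symm hi2)
    obtain ⟨a'', b'', x'', y'', hn'', f3, fi'⟩ := hpair 3 i h30 h31 h0 h1 (Ne.symm hi3)
    have r1 := lemmaR (nodup4_abx hn4) (nodup4_abx hn') (e2.symm.trans f2)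
    have r2 := lemmaR (nodup4_aby hn4) (nodup4_abx hn'') (e3.symm.trans f3)
    have r3 := lemmaR (nodup4_aby hn') (nodup4_aby hn'') (fi.symm.trans fi')
    obtain ⟨k1, k2, k3, k4, k5, k6⟩ := nodup4 hn'
    obtain ⟨l1, l2, l3, l4, l5, l6⟩ := nodup4 hn''
    rcases r1 with ⟨q1, q2, q3⟩ | ⟨q1, q2, q3⟩ | ⟨q1, q2, q3⟩
    · subst q1 q2 q3
      exact ⟨y', k3.symm, k5.symm, fi⟩
    · exfalso
      subst q1 q2 q3
      rcases r2 with ⟨s1, s2, s3⟩ | ⟨s1, s2, s3⟩ | ⟨s1, s2, s3⟩ <;>
        rcases r3 with ⟨t1, t2, t3⟩ | ⟨t1, t2, t3⟩ | ⟨t1, t2, t3⟩ <;>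
        simp_all
    · exfalso
      subst q1 q2 q3
      rcases r2 with ⟨s1, s2, s3⟩ | ⟨s1, s2, s3⟩ | ⟨s1, s2, s3⟩ <;>
        rcases r3 with ⟨t1, t2, t3⟩ | ⟨t1, t2, t3⟩ | ⟨t1, t2, t3⟩ <;>
        simp_all
  obtain ⟨g1, g2, g3, g4, g5, g6⟩ := nodup4 hn4
  choose! xf hxf using hfan
  let σ' : Fin (m + 4) → Fin (m + 4) := fun i => if i = 0 then a else if i = 1 then b else xf i
  have hσ0 : σ' 0 = a := by simp [σ']
  have h10 : (1 : Fin (m + 4)) ≠ 0 := by
    intro h; have := congrArg Fin.val h; simp at this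
  have hσ1 : σ' 1 = b := by simp [σ', h10]
  have hσi : ∀ i, i ≠ 0 → i ≠ 1 → σ' i = xf i := by
    intro i h0 h1; simp [σ', h0, h1]
  have hinj : Function.Injective σ' := by
    intro i j hij
    by_cases hi0 : i = 0
    · by_cases hj0 : j = 0
      · rw [hi0, hj0]
      · exfalso
        by_cases hj1 : j = 1
        · rw [hi0, hj1, hσ0, hσ1] at hij; exact g1 hij
        · rw [hi0, hσ0, hσi j hj0 hj1] at hij
          exact (hxf j hj0 hj1).1 hij.symm
    by_cases hi1 : i = 1
    · by_cases hj0 : j = 0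
      · exfalso
        rw [hi1, hj0, hσ0, hσ1] at hij; exact g1 hij.symm
      · by_cases hj1 : j = 1
        · rw [hi1, hj1]
        · exfalso
          rw [hi1, hσ1, hσi j hj0 hj1] at hij
          exact (hxf j hj0 hj1).2.1 hij.symm
    by_cases hj0 : j = 0
    · exfalso
      rw [hj0, hσ0, hσi i hi0 hi1] at hij
      exact (hxf i hi0 hi1).1 hij
    by_cases hj1 : j = 1
    · exfalso
      rw [hj1, hσ1, hσi i hi0 hi1] at hij
      exact (hxf i hi0 hi1).2.1 hij
    rw [hσi i hi0 hi1, hσi j hj0 hj1] at hij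
    have e1 := (hxf i hi0 hi1).2.2
    have e2' := (hxf j hj0 hj1).2.2
    rw [hij] at e1
    have e3' : φ (cycA 0 1 i (nodup01 hi0 hi1)) = φ (cycA 0 1 j (nodup01 hj0 hj1)) :=
      Subtype.ext (e1.trans e2'.symm)
    have e4 := congrArg Subtype.val (φ.injective e3')
    have e5 := congrArg (fun w : Perm (Fin (m + 4)) => w 1) e4
    simp only [cycA] at e5
    rw [cyc_mid (nodup01 hi0 hi1), cyc_mid (nodup01 hj0 hj1)] at e5
    exact e5
  let σ : Perm (Fin (m + 4)) := Equiv.ofBijective σ' (Finite.injective_iff_bijective.mp hinj)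
  refine ⟨σ, ?_⟩
  have hgen : ∀ g ∈ genSet m, MulAut.conjNormal σ g = φ g := by
    rintro _ ⟨i, h0, h1, rfl⟩
    apply Subtype.ext
    rw [MulAut.conjNormal_apply, (hxf i h0 h1).2.2]
    show σ * cyc 0 1 i * σ⁻¹ = _
    rw [cyc_conj]
    show cyc (σ' 0) (σ' 1) (σ' i) = _
    rw [hσ0, hσ1, hσi i h0 h1]
  have hall : ∀ g : alternatingGroup (Fin (m + 4)), MulAut.conjNormal σ g = φ g := by
    intro g
    have hg : g ∈ Subgroup.closure (genSet m) := by rw [gen_top]; trivial
    induction hg using Subgroup.closure_induction with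
    | mem x hx => exact hgen x hx
    | one => rw [map_one, map_one]
    | mul x y _ _ hx hy => rw [map_mul, map_mul, hx, hy]
    | inv x _ hx => rw [map_inv, map_inv, hx]
  exact MulEquiv.ext hall


theorem conj_eq_conjNormal (a : alternatingGroup (Fin (m + 4))) :
    (MulAut.conj a : MulAut (alternatingGroup (Fin (m + 4))))
      = MulAut.conjNormal (a : Perm (Fin (m + 4))) := by
  apply MulEquiv.ext
  intro x
  apply Subtype.ext
  rw [MulAut.conjNormal_apply, MulAut.conj_apply]
  rfl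

theorem conj_inj : Function.Injective
    (MulAut.conj : alternatingGroup (Fin (m + 4)) →* MulAut (alternatingGroup (Fin (m + 4)))) := by
  intro a b hab
  rw [conj_eq_conjNormal, conj_eq_conjNormal] at hab
  exact Subtype.ext (conj_injective hab)

theorem sq_mem_range (σ : Perm (Fin (m + 4))) :
    (MulAut.conjNormal σ : MulAut (alternatingGroup (Fin (m + 4)))) ^ 2 ∈
      (MulAut.conj : alternatingGroup (Fin (m + 4)) →*
        MulAut (alternatingGroup (Fin (m + 4)))).range := by
  have hs : σ ^ 2 ∈ alternatingGroup (Fin (m + 4)) := by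
    rw [Equiv.Perm.mem_alternatingGroup, map_pow]
    exact Int.units_sq _
  refine ⟨⟨σ ^ 2, hs⟩, ?_⟩
  rw [conj_eq_conjNormal]
  show MulAut.conjNormal (σ ^ 2) = _
  rw [map_pow]

theorem cycleType_of_order_three (h6 : m + 4 = 6) (x : alternatingGroup (Fin (m + 4)))
    (hx : orderOf x = 3) :
    (x : Perm (Fin (m + 4))).IsThreeCycle ∨
      (x : Perm (Fin (m + 4))).cycleType = Multiset.replicate 2 3 := by
  have ho : orderOf (x : Perm (Fin (m + 4))) = 3 := by rw [Subgroup.orderOf_coe, hx]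
  obtain ⟨k, hk⟩ := cycleType_prime_order (σ := (x : Perm (Fin (m + 4)))) (by rw [ho]; norm_num)
  rw [ho] at hk
  have hsum : 3 * (k + 1) ≤ m + 4 := by
    have := sum_cycleType_le (x : Perm (Fin (m + 4)))
    rw [hk, Multiset.sum_replicate, Fintype.card_fin, smul_eq_mul] at this
    omega
  have hk1 : k = 0 ∨ k = 1 := by omega
  rcases hk1 with rfl | rfl
  · left; rw [IsThreeCycle, hk]; rfl
  · right; exact hk

theorem isConj_of_double (x y : alternatingGroup (Fin (m + 4)))
    (hx : (x : Perm (Fin (m + 4))).cycleType = Multiset.replicate 2 3)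
    (hy : (y : Perm (Fin (m + 4))).cycleType = Multiset.replicate 2 3) :
    ∃ c : alternatingGroup (Fin (m + 4)), c * x * c⁻¹ = y := by
  classical
  have h1 : IsConj (x : Perm (Fin (m + 4))) (y : Perm (Fin (m + 4))) := by
    rw [isConj_iff_cycleType_eq, hx, hy]
  obtain ⟨σ, hσ⟩ := isConj_iff.mp h1
  by_cases hs : σ ∈ alternatingGroup (Fin (m + 4))
  · exact ⟨⟨σ, hs⟩, Subtype.ext hσ⟩
  · have h2 : ¬ (Subgroup.centralizer {(x : Perm (Fin (m + 4)))}
        ≤ alternatingGroup (Fin (m + 4))) := by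
      rw [Equiv.Perm.centralizer_le_alternating_iff]
      rintro ⟨_, _, h3⟩
      have := h3 3
      rw [hx, Multiset.count_replicate_self] at this
      omega
    rw [SetLike.not_le_iff_exists] at h2
    obtain ⟨τ, hτc, hτ⟩ := h2
    have hστ : σ * τ ∈ alternatingGroup (Fin (m + 4)) := by
      rw [Equiv.Perm.mem_alternatingGroup] at hs hτ ⊢
      rw [map_mul]
      rcases Int.units_eq_one_or (sign σ) with h | h
      · exact absurd h hs
      rcases Int.units_eq_one_or (sign τ) with h' | h'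
      · exact absurd h' hτ
      rw [h, h']; rfl
    refine ⟨⟨σ * τ, hστ⟩, Subtype.ext ?_⟩
    rw [Subgroup.mem_centralizer_singleton_iff] at hτc
    have h4 : τ * (x : Perm (Fin (m + 4))) * τ⁻¹ = x := by
      rw [hτc, mul_inv_cancel_right]
    show σ * τ * (x : Perm (Fin (m + 4))) * (σ * τ)⁻¹ = y
    rw [← hσ]
    calc σ * τ * (x : Perm (Fin (m + 4))) * (σ * τ)⁻¹
        = σ * (τ * (x : Perm (Fin (m + 4))) * τ⁻¹) * σ⁻¹ := by group
      _ = σ * (x : Perm (Fin (m + 4))) * σ⁻¹ := by rw [h4]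

theorem cycleType_map_eq (hm : 5 ≤ m + 4) (φ : MulAut (alternatingGroup (Fin (m + 4))))
    (t1 t2 : alternatingGroup (Fin (m + 4)))
    (h1 : (t1 : Perm (Fin (m + 4))).IsThreeCycle) (h2 : (t2 : Perm (Fin (m + 4))).IsThreeCycle) :
    ((φ t1 : alternatingGroup (Fin (m + 4))) : Perm (Fin (m + 4))).cycleType
      = ((φ t2 : alternatingGroup (Fin (m + 4))) : Perm (Fin (m + 4))).cycleType := by
  have h5 : 5 ≤ Nat.card (Fin (m + 4)) := by
    rw [Nat.card_eq_fintype_card, Fintype.card_fin]; exact hm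
  obtain ⟨c, hc⟩ := isConj_iff.mp (alternatingGroup.isThreeCycle_isConj h5 h1 h2)
  have e : ((φ t2 : alternatingGroup (Fin (m + 4))) : Perm (Fin (m + 4)))
      = ((φ c : alternatingGroup (Fin (m + 4))) : Perm (Fin (m + 4)))
        * ((φ t1 : alternatingGroup (Fin (m + 4))) : Perm (Fin (m + 4)))
        * ((φ c : alternatingGroup (Fin (m + 4))) : Perm (Fin (m + 4)))⁻¹ := by
    rw [← hc, map_mul, map_mul, map_inv]; rfl
  rw [e, cycleType_conj]

theorem sq_preserves (h6 : m + 4 = 6) (φ : MulAut (alternatingGroup (Fin (m + 4))))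
    (t : alternatingGroup (Fin (m + 4))) (ht : (t : Perm (Fin (m + 4))).IsThreeCycle) :
    (((φ ^ 2) t : alternatingGroup (Fin (m + 4))) : Perm (Fin (m + 4))).IsThreeCycle := by
  have h5 : 5 ≤ m + 4 := by omega
  have e2 : (φ ^ 2) t = φ (φ t) := by rw [pow_two]; rfl
  rw [e2]
  have ord3 : ∀ s : alternatingGroup (Fin (m + 4)),
      (s : Perm (Fin (m + 4))).IsThreeCycle → orderOf s = 3 := by
    intro s hs; rw [← Subgroup.orderOf_coe, hs.orderOf]
  have ordφ : ∀ s : alternatingGroup (Fin (m + 4)), orderOf (φ s) = orderOf s :=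
    fun s => MulEquiv.orderOf_eq φ s
  by_cases hA : ∀ s : alternatingGroup (Fin (m + 4)), (s : Perm (Fin (m + 4))).IsThreeCycle →
      ((φ s : alternatingGroup (Fin (m + 4))) : Perm (Fin (m + 4))).IsThreeCycle
  · exact hA _ (hA t ht)
  · push Not at hA
    obtain ⟨t0, ht0, hnt0⟩ := hA
    have hD : ∀ s : alternatingGroup (Fin (m + 4)), (s : Perm (Fin (m + 4))).IsThreeCycle →
        ((φ s : alternatingGroup (Fin (m + 4))) : Perm (Fin (m + 4))).cycleType
          = Multiset.replicate 2 3 := by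
      intro s hs
      have h0 : ((φ t0 : alternatingGroup (Fin (m + 4))) : Perm (Fin (m + 4))).cycleType
          = Multiset.replicate 2 3 := by
        rcases cycleType_of_order_three h6 (φ t0) (by rw [ordφ, ord3 t0 ht0]) with h | h
        · exact absurd h hnt0
        · exact h
      rw [cycleType_map_eq h5 φ s t0 hs ht0, h0]
    rcases cycleType_of_order_three h6 (φ (φ t)) (by rw [ordφ, ordφ, ord3 t ht]) with h | h
    · exact h
    · exfalso
      obtain ⟨c, hc⟩ := isConj_of_double (φ t) (φ (φ t)) (hD t ht) h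
      have h7 : φ.symm c * t * (φ.symm c)⁻¹ = φ t := by
        apply φ.injective
        rw [map_mul, map_mul, map_inv, MulEquiv.apply_symm_apply, hc]
      have h8 : ((φ t : alternatingGroup (Fin (m + 4))) : Perm (Fin (m + 4))).cycleType
          = (t : Perm (Fin (m + 4))).cycleType := by
        rw [← h7]
        show (((φ.symm c : alternatingGroup (Fin (m + 4))) : Perm (Fin (m + 4)))
          * (t : Perm (Fin (m + 4)))
          * ((φ.symm c : alternatingGroup (Fin (m + 4))) : Perm (Fin (m + 4)))⁻¹).cycleType = _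
        rw [cycleType_conj]
      rw [hD t ht, ht.cycleType] at h8
      have := congrArg Multiset.card h8
      simp at this

theorem pow_four_mem (φ : MulAut (alternatingGroup (Fin (m + 4)))) :
    φ ^ 4 ∈ (MulAut.conj : alternatingGroup (Fin (m + 4)) →*
      MulAut (alternatingGroup (Fin (m + 4)))).range := by
  by_cases h6 : m + 4 = 6
  · obtain ⟨σ, hσ⟩ := exists_conj' (φ ^ 2) (sq_preserves h6 φ)
    have : φ ^ 4 = (MulAut.conjNormal σ) ^ 2 := by rw [hσ, ← pow_mul]
    rw [this]; exact sq_mem_range σ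
  · obtain ⟨σ, hσ⟩ := exists_conj h6 φ
    have h2 : φ ^ 2 ∈ (MulAut.conj : alternatingGroup (Fin (m + 4)) →*
        MulAut (alternatingGroup (Fin (m + 4)))).range := by
      rw [← hσ]; exact sq_mem_range σ
    have : φ ^ 4 = (φ ^ 2) ^ 2 := by rw [← pow_mul]
    rw [this]; exact pow_mem h2 2

theorem sylow_card_dvd (G : Subgroup (MulAut (alternatingGroup (Fin (m + 4)))))
    (r : ℕ) [Fact r.Prime] (hr : r ≠ 2) (R : Sylow r G) :
    Nat.card (R : Subgroup G) ∣ (m + 4).factorial := by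
  have h1 : (R : Subgroup G).map G.subtype ≤
      (MulAut.conj : alternatingGroup (Fin (m + 4)) →*
        MulAut (alternatingGroup (Fin (m + 4)))).range := by
    rintro _ ⟨g, hg, rfl⟩
    obtain ⟨k, hk⟩ := (IsPGroup.iff_orderOf.mp R.isPGroup') ⟨g, hg⟩
    rw [Subgroup.orderOf_mk] at hk
    have hcop : Nat.Coprime 4 (orderOf g) := by
      rw [hk]
      apply Nat.Coprime.pow_right
      have h2r : Nat.Coprime 2 r :=
        (Nat.coprime_primes Nat.prime_two (Fact.out : r.Prime)).mpr (Ne.symm hr)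
      exact h2r.pow_left 2
    obtain ⟨j, hj⟩ := exists_pow_eq_self_of_coprime hcop
    have h4 := pow_four_mem (g : MulAut (alternatingGroup (Fin (m + 4))))
    have e : ((g : MulAut (alternatingGroup (Fin (m + 4)))) ^ 4) ^ j = g := by
      rw [← Subgroup.coe_pow, ← Subgroup.coe_pow, hj]
    show (g : MulAut (alternatingGroup (Fin (m + 4)))) ∈ _
    rw [← e]
    exact pow_mem h4 j
  have c1 : Nat.card ((R : Subgroup G).map G.subtype) = Nat.card (R : Subgroup G) :=
    Subgroup.card_map_of_injective G.subtype_injective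
  rw [← c1]
  refine (Subgroup.card_dvd_of_le h1).trans ((Subgroup.card_range_dvd _).trans ?_)
  have c2 : Nat.card (Perm (Fin (m + 4))) = (m + 4).factorial := by
    rw [Nat.card_eq_fintype_card, Fintype.card_perm, Fintype.card_fin]
  rw [← c2]
  exact Subgroup.card_subgroup_dvd_card _

theorem comm_of_card (r : ℕ) [Fact r.Prime] {H : Type*} [Group H] (k : ℕ) (hk : k ≤ 2)
    (h : Nat.card H = r ^ k) : IsMulCommutative H := by
  interval_cases k
  · have : IsCyclic H := isCyclic_of_card_dvd_prime (p := r) (by rw [h]; simp)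
    infer_instance
  · have : IsCyclic H := isCyclic_of_card_dvd_prime (p := r) (by rw [h]; simp)
    infer_instance
  · exact IsPGroup.isMulCommutative_of_card_eq_prime_sq h

theorem exists_order_mul {n : ℕ} (p q : ℕ) (hp : p.Prime) (hq : q.Prime) (hpq : p ≠ q)
    (hp2 : p ≠ 2) (hq2 : q ≠ 2) (hn : p + q ≤ n) :
    ∃ a : alternatingGroup (Fin n), orderOf a = p * q := by
  classical
  obtain ⟨g, hg⟩ := (Equiv.Perm.exists_with_cycleType_iff (Fin n) (m := p ::ₘ q ::ₘ 0)).mpr
    ⟨by simpa [add_assoc] using hn, by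
      intro a ha
      simp only [Multiset.mem_cons, Multiset.notMem_zero, or_false] at ha
      rcases ha with rfl | rfl
      · exact hp.two_le
      · exact hq.two_le⟩
  have hsign : g ∈ alternatingGroup (Fin n) := by
    rw [Equiv.Perm.mem_alternatingGroup, sign_of_cycleType, hg]
    obtain ⟨a, ha⟩ := hp.odd_of_ne_two hp2
    obtain ⟨b, hb⟩ := hq.odd_of_ne_two hq2
    have e : (p ::ₘ q ::ₘ 0).sum + Multiset.card (p ::ₘ q ::ₘ 0) = 2 * (a + b + 2) := by
      simp only [Multiset.sum_cons, Multiset.sum_zero, Multiset.card_cons, Multiset.card_zero]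
      omega
    rw [e, pow_mul]
    simp
  refine ⟨⟨g, hsign⟩, ?_⟩
  rw [← Subgroup.orderOf_coe]
  show orderOf g = p * q
  rw [← lcm_cycleType, hg]
  have hcop : Nat.Coprime p q := (Nat.coprime_primes hp hq).mpr hpq
  simp only [Multiset.lcm_cons, Multiset.lcm_zero, lcm_one_right, normalize_eq]
  rw [lcm_eq_nat_lcm]
  exact hcop.lcm_eq_mul

theorem exists_order_two_mul {n : ℕ} (p : ℕ) (hp : p.Prime) (hp2 : p ≠ 2) (hn : p + 4 ≤ n) :
    ∃ a : alternatingGroup (Fin n), orderOf a = p * 2 := by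
  classical
  obtain ⟨g, hg⟩ := (Equiv.Perm.exists_with_cycleType_iff (Fin n)
      (m := p ::ₘ 2 ::ₘ 2 ::ₘ 0)).mpr
    ⟨by
      simp only [Multiset.sum_cons, Multiset.sum_zero, Fintype.card_fin]
      omega, by
      intro a ha
      simp only [Multiset.mem_cons, Multiset.notMem_zero, or_false] at ha
      rcases ha with rfl | rfl | rfl
      · exact hp.two_le
      · exact le_refl _
      · exact le_refl _⟩
  have hsign : g ∈ alternatingGroup (Fin n) := by
    rw [Equiv.Perm.mem_alternatingGroup, sign_of_cycleType, hg]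
    obtain ⟨a, ha⟩ := hp.odd_of_ne_two hp2
    have e : (p ::ₘ 2 ::ₘ 2 ::ₘ 0).sum + Multiset.card (p ::ₘ 2 ::ₘ 2 ::ₘ 0)
        = 2 * (a + 4) := by
      simp only [Multiset.sum_cons, Multiset.sum_zero, Multiset.card_cons, Multiset.card_zero]
      omega
    rw [e, pow_mul]
    simp
  refine ⟨⟨g, hsign⟩, ?_⟩
  rw [← Subgroup.orderOf_coe]
  show orderOf g = p * 2
  rw [← lcm_cycleType, hg]
  have hcop : Nat.Coprime p 2 := (Nat.coprime_primes hp Nat.prime_two).mpr hp2
  simp only [Multiset.lcm_cons, Multiset.lcm_zero, lcm_one_right, normalize_eq, lcm_same]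
  rw [lcm_eq_nat_lcm]
  exact hcop.lcm_eq_mul

theorem pow_dvd_factorial_le_one {n p k : ℕ} (hp : p.Prime) (hn : n < 2 * p)
    (h : p ^ k ∣ n.factorial) : k ≤ 1 := by
  rcases Nat.eq_zero_or_pos n with rfl | hn0
  · -- 0! = 1
    rw [Nat.factorial_zero, Nat.dvd_one, Nat.pow_eq_one] at h
    rcases h with h | h
    · exact absurd h hp.one_lt.ne'
    · omega
  have hlog : Nat.log p n < 2 := by
    apply Nat.log_lt_of_lt_pow hn0.ne'
    calc n < 2 * p := hn
      _ ≤ p * p := Nat.mul_le_mul_right p hp.two_le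
      _ = p ^ 2 := (sq p).symm
  have h1 := (hp.pow_dvd_factorial_iff hlog).mp h
  have h2 : ∑ i ∈ Finset.Ico 1 2, n / p ^ i = n / p := by
    simp
  rw [h2] at h1
  have h3 : n / p < 2 := Nat.div_lt_of_lt_mul (by rw [mul_comm]; exact hn)
  omega

theorem core (hm : 5 ≤ m + 4) (G : Subgroup (MulAut (alternatingGroup (Fin (m + 4)))))
    (hG : (MulAut.conj : alternatingGroup (Fin (m + 4)) →*
      MulAut (alternatingGroup (Fin (m + 4)))).range ≤ G)
    (p q : ℕ) [Fact p.Prime] [Fact q.Prime] (hlt : q < p)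
    (h : ∀ g : G, orderOf g ≠ p * q) :
    ∀ P : Sylow p G, IsMulCommutative (P : Subgroup G) := by
  intro P
  have hp : p.Prime := Fact.out
  have hq : q.Prime := Fact.out
  have hp2 : p ≠ 2 := by have := hq.two_le; omega
  have hA : ∀ a : alternatingGroup (Fin (m + 4)), orderOf a ≠ p * q := by
    intro a ha
    refine h ⟨MulAut.conj a, hG ⟨a, rfl⟩⟩ ?_
    rw [Subgroup.orderOf_mk, orderOf_injective _ conj_inj a, ha]
  obtain ⟨k, hk⟩ := IsPGroup.iff_card.mp P.isPGroup'
  have hdvd : p ^ k ∣ (m + 4).factorial := by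
    rw [← hk]; exact sylow_card_dvd G p hp2 P
  have hk2 : k ≤ 2 := by
    by_cases hq2 : q = 2
    · subst hq2
      have hn : m + 4 < p + 4 := by
        by_contra hcon
        push Not at hcon
        obtain ⟨a, ha⟩ := exists_order_two_mul (n := m + 4) p hp hp2 hcon
        exact hA a ha
      by_cases hp3 : p = 3
      · subst hp3
        by_contra hcon
        push Not at hcon
        have h27 : 3 ^ 3 ∣ (6 : ℕ).factorial :=
          ((pow_dvd_pow 3 hcon).trans hdvd).trans (Nat.factorial_dvd_factorial (by omega))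
        revert h27
        decide
      · have hp4 : p ≠ 4 := by
          rintro rfl
          exact absurd hp (by norm_num)
        have := pow_dvd_factorial_le_one hp (n := m + 4) (by omega) hdvd
        omega
    · have hn : m + 4 < p + q := by
        by_contra hcon
        push Not at hcon
        obtain ⟨a, ha⟩ := exists_order_mul (n := m + 4) p q hp hq hlt.ne' hp2 hq2 hcon
        exact hA a ha
      have := pow_dvd_factorial_le_one hp (n := m + 4) (by omega) hdvd
      omega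
  exact comm_of_card p k hk2 hk

end Cfsg.Agent.helper21.AltAut
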