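import Mathlib
import Cfsg.Agent.Lib_helper9_NilF

set_option autoImplicit false

/-! Numeric facts about the bound function `F`. -/

namespace Cfsg.Agent.helper9.Nil

open Cfsg.Agent.helper21.SylPerm

theorem v_zero : v 0 = 0 := by simp [v]

theorem v_one : v 1 = 0 := by simp [v]

theorem v_mono_succ (n : ℕ) : v n ≤ v (n + 1) := by rw [v_succ]; omega

theorem v_odd_succ (n : ℕ) (h : n % 2 = 0) : v (n + 1) = v n := by
  rw [v_succ, padicValNat.eq_zero_of_not_dvd (by omega)]; omega

theorem v_four (m : ℕ) : v (4 * m) = v m + 3 * m := by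
  have h1 : 4 * m = 2 * (2 * m) := by ring
  rw [h1, v_two_mul, v_two_mul]; ring

theorem v_four_add_one (m : ℕ) : v (4 * m + 1) = v (4 * m) := v_odd_succ _ (by omega)

theorem v_four_add_two (m : ℕ) : v (4 * m + 2) = v (4 * m) + 1 := by
  have h1 : 4 * m + 2 = 2 * (2 * m + 1) := by ring
  have h2 : 4 * m = 2 * (2 * m) := by ring
  rw [h1, v_two_mul, h2, v_two_mul, v_odd_succ _ (by omega)]; ring

theorem v_four_add_three (m : ℕ) : v (4 * m + 3) = v (4 * m) + 1 := by
  have h : 4 * m + 3 = (4 * m + 2) + 1 := by ring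
  rw [h, v_odd_succ _ (by omega), v_four_add_two]

theorem v_four_succ (m : ℕ) : v (4 * m) + 3 ≤ v (4 * (m + 1)) := by
  rw [v_four, v_four]
  have := v_mono_succ m
  omega

theorem F_four_add_zero (m : ℕ) : F (4 * m + 0) = 2 ^ v (4 * m) := F_of_not_mod _ (by omega)

theorem F_four_add_one (m : ℕ) : F (4 * m + 1) = 2 ^ v (4 * m) := by
  rw [F_of_not_mod _ (by omega), v_four_add_one]

theorem F_four_add_two (m : ℕ) : F (4 * m + 2) = 2 * 2 ^ v (4 * m) := by
  rw [F_of_not_mod _ (by omega), v_four_add_two, pow_succ]; ring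

theorem F_four_add_three (m : ℕ) : F (4 * m + 3) = 3 * 2 ^ v (4 * m) := by
  rw [F_of_mod _ (by omega)]; simp

theorem A_mul (m m' : ℕ) : 2 ^ v (4 * m) * 2 ^ v (4 * m') ≤ 2 ^ v (4 * (m + m')) := by
  rw [← pow_add]
  apply Nat.pow_le_pow_right (by norm_num)
  have := v_add_le (4 * m) (4 * m')
  rwa [← mul_add] at this

theorem A_succ (m : ℕ) : 8 * 2 ^ v (4 * m) ≤ 2 ^ v (4 * (m + 1)) := by
  calc 8 * 2 ^ v (4 * m) = 2 ^ (v (4 * m) + 3) := by ring
    _ ≤ 2 ^ v (4 * (m + 1)) := Nat.pow_le_pow_right (by norm_num) (v_four_succ m)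

theorem F_mul_le (a b : ℕ) : F a * F b ≤ F (a + b) := by
  obtain ⟨m, r, hr, rfl⟩ : ∃ m r, r < 4 ∧ a = 4 * m + r :=
    ⟨a / 4, a % 4, Nat.mod_lt _ (by norm_num), (Nat.div_add_mod a 4).symm⟩
  obtain ⟨m', s, hs, rfl⟩ : ∃ m r, r < 4 ∧ b = 4 * m + r :=
    ⟨b / 4, b % 4, Nat.mod_lt _ (by norm_num), (Nat.div_add_mod b 4).symm⟩
  have h1 := A_mul m m'
  have h2 := A_succ (m + m')
  have h3 : 0 < 2 ^ v (4 * (m + m')) := by positivity
  interval_cases r <;> interval_cases s
  · have e : 4 * m + 0 + (4 * m' + 0) = 4 * (m + m') + 0 := by ring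
    rw [e, F_four_add_zero, F_four_add_zero, F_four_add_zero]
    nlinarith [h1, h2, h3]
  · have e : 4 * m + 0 + (4 * m' + 1) = 4 * (m + m') + 1 := by ring
    rw [e, F_four_add_zero, F_four_add_one, F_four_add_one]
    nlinarith [h1, h2, h3]
  · have e : 4 * m + 0 + (4 * m' + 2) = 4 * (m + m') + 2 := by ring
    rw [e, F_four_add_zero, F_four_add_two, F_four_add_two]
    nlinarith [h1, h2, h3]
  · have e : 4 * m + 0 + (4 * m' + 3) = 4 * (m + m') + 3 := by ring
    rw [e, F_four_add_zero, F_four_add_three, F_four_add_three]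
    nlinarith [h1, h2, h3]
  · have e : 4 * m + 1 + (4 * m' + 0) = 4 * (m + m') + 1 := by ring
    rw [e, F_four_add_one, F_four_add_zero, F_four_add_one]
    nlinarith [h1, h2, h3]
  · have e : 4 * m + 1 + (4 * m' + 1) = 4 * (m + m') + 2 := by ring
    rw [e, F_four_add_one, F_four_add_one, F_four_add_two]
    nlinarith [h1, h2, h3]
  · have e : 4 * m + 1 + (4 * m' + 2) = 4 * (m + m') + 3 := by ring
    rw [e, F_four_add_one, F_four_add_two, F_four_add_three]
    nlinarith [h1, h2, h3]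
  · have e : 4 * m + 1 + (4 * m' + 3) = 4 * (m + m' + 1) + 0 := by ring
    rw [e, F_four_add_one, F_four_add_three, F_four_add_zero]
    nlinarith [h1, h2, h3]
  · have e : 4 * m + 2 + (4 * m' + 0) = 4 * (m + m') + 2 := by ring
    rw [e, F_four_add_two, F_four_add_zero, F_four_add_two]
    nlinarith [h1, h2, h3]
  · have e : 4 * m + 2 + (4 * m' + 1) = 4 * (m + m') + 3 := by ring
    rw [e, F_four_add_two, F_four_add_one, F_four_add_three]
    nlinarith [h1, h2, h3]
  · have e : 4 * m + 2 + (4 * m' + 2) = 4 * (m + m' + 1) + 0 := by ring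
    rw [e, F_four_add_two, F_four_add_two, F_four_add_zero]
    nlinarith [h1, h2, h3]
  · have e : 4 * m + 2 + (4 * m' + 3) = 4 * (m + m' + 1) + 1 := by ring
    rw [e, F_four_add_two, F_four_add_three, F_four_add_one]
    nlinarith [h1, h2, h3]
  · have e : 4 * m + 3 + (4 * m' + 0) = 4 * (m + m') + 3 := by ring
    rw [e, F_four_add_three, F_four_add_zero, F_four_add_three]
    nlinarith [h1, h2, h3]
  · have e : 4 * m + 3 + (4 * m' + 1) = 4 * (m + m' + 1) + 0 := by ring
    rw [e, F_four_add_three, F_four_add_one, F_four_add_zero]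
    nlinarith [h1, h2, h3]
  · have e : 4 * m + 3 + (4 * m' + 2) = 4 * (m + m' + 1) + 1 := by ring
    rw [e, F_four_add_three, F_four_add_two, F_four_add_one]
    nlinarith [h1, h2, h3]
  · have e : 4 * m + 3 + (4 * m' + 3) = 4 * (m + m' + 1) + 2 := by ring
    rw [e, F_four_add_three, F_four_add_three, F_four_add_two]
    nlinarith [h1, h2, h3]

theorem F_pow_le (a q : ℕ) : F a ^ q ≤ F (a * q) := by
  induction q with
  | zero => simpa using Nat.succ_le_of_lt (F_pos 0)
  | succ q ih =>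
    calc F a ^ (q + 1) = F a ^ q * F a := pow_succ _ _
      _ ≤ F (a * q) * F a := Nat.mul_le_mul_right _ ih
      _ ≤ F (a * q + a) := F_mul_le _ _
      _ = F (a * (q + 1)) := by rw [Nat.mul_succ]

theorem two_pow_v_le_F (n : ℕ) : 2 ^ v n ≤ F n := by
  by_cases h : n % 4 = 3
  · obtain ⟨m, rfl⟩ : ∃ m, n = 4 * m + 3 := ⟨n / 4, by omega⟩
    rw [F_four_add_three, v_four_add_three, pow_succ]; omega
  · rw [F_of_not_mod _ h]

theorem v_two : v 2 = 1 := by
  have h : (2 : ℕ) = 2 * 1 := rfl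
  rw [h, v_two_mul, v_one]

theorem prime_le_F (p : ℕ) (hp : p.Prime) (h5 : 5 ≤ p) : p ≤ F (p - 1) := by
  have hodd : p % 2 = 1 := by
    rcases hp.eq_two_or_odd with h | h
    · omega
    · exact h
  obtain ⟨h, rfl⟩ : ∃ h, p = 2 * h + 1 := ⟨p / 2, by omega⟩
  have h2 : 2 ≤ h := by omega
  have e : 2 * h + 1 - 1 = 2 * h := by omega
  rw [e]
  have h3 : 1 ≤ v h := by
    have h4 := v_add_le 2 (h - 2)
    rw [v_two, Nat.add_sub_cancel' h2] at h4
    omega
  calc 2 * h + 1 ≤ 2 ^ (h + 1) := by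
        have := Nat.lt_two_pow_self (n := h)
        rw [pow_succ]; omega
    _ ≤ 2 ^ v (2 * h) := by
        apply Nat.pow_le_pow_right (by norm_num)
        rw [v_two_mul]; omega
    _ ≤ F (2 * h) := two_pow_v_le_F _

theorem padic_fact_pow_succ (p : ℕ) [Fact p.Prime] (k : ℕ) :
    padicValNat p (p ^ (k + 1)).factorial = padicValNat p (p ^ k).factorial + p ^ k := by
  rw [pow_succ', padicValNat_factorial_mul]

theorem F_eight : F 8 = 128 := by
  have h : (8 : ℕ) = 4 * 2 + 0 := rfl
  rw [h, F_four_add_zero, v_four, v_two]; norm_num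

theorem F_three : F 3 = 3 := by
  rw [F_of_mod 3 (by norm_num)]; simp [v_zero]

theorem prime_pow_le_F (p : ℕ) (hp : p.Prime) (k : ℕ) :
    p ^ padicValNat p (p ^ k).factorial ≤ F (p ^ k) := by
  haveI : Fact p.Prime := ⟨hp⟩
  rcases hp.eq_two_or_odd with rfl | hodd
  · have hmod : 2 ^ k % 4 ≠ 3 := by
      rcases k with _ | _ | k
      · norm_num
      · norm_num
      · rw [pow_succ, pow_succ]; omega
    rw [F_of_not_mod _ hmod]; rfl
  · by_cases h3 : p = 3
    · subst h3
      induction k using Nat.twoStepInduction with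
      | zero => simpa using Nat.succ_le_of_lt (F_pos 1)
      | one =>
        have h := padic_fact_pow_succ 3 0
        rw [h]
        simp [F_three]
      | more k ih _ =>
        rw [padic_fact_pow_succ, padic_fact_pow_succ]
        have key : 3 ^ (padicValNat 3 (3 ^ k).factorial + 3 ^ k + 3 ^ (k + 1)) =
            3 ^ padicValNat 3 (3 ^ k).factorial * 81 ^ 3 ^ k := by
          have h : padicValNat 3 (3 ^ k).factorial + 3 ^ k + 3 ^ (k + 1) =
              padicValNat 3 (3 ^ k).factorial + 4 * 3 ^ k := by ring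
          rw [h, pow_add, pow_mul]; norm_num
        rw [key]
        calc 3 ^ padicValNat 3 (3 ^ k).factorial * 81 ^ 3 ^ k
            ≤ F (3 ^ k) * F 8 ^ 3 ^ k :=
              Nat.mul_le_mul ih (Nat.pow_le_pow_left (by rw [F_eight]; norm_num) _)
          _ ≤ F (3 ^ k) * F (8 * 3 ^ k) := Nat.mul_le_mul_left _ (F_pow_le _ _)
          _ ≤ F (3 ^ k + 8 * 3 ^ k) := F_mul_le _ _
          _ = F (3 ^ (k + 2)) := by congr 1; ring
    · have h5 : 5 ≤ p := by
        have := hp.two_le
        omega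
      induction k with
      | zero => simpa using Nat.succ_le_of_lt (F_pos 1)
      | succ k ih =>
        rw [padic_fact_pow_succ, pow_add]
        calc p ^ padicValNat p (p ^ k).factorial * p ^ p ^ k
            ≤ F (p ^ k) * F (p - 1) ^ p ^ k :=
              Nat.mul_le_mul ih (Nat.pow_le_pow_left (prime_le_F p hp h5) _)
          _ ≤ F (p ^ k) * F ((p - 1) * p ^ k) := Nat.mul_le_mul_left _ (F_pow_le _ _)
          _ ≤ F (p ^ k + (p - 1) * p ^ k) := F_mul_le _ _
          _ = F (p ^ (k + 1)) := by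
              congr 1
              obtain ⟨q, rfl⟩ : ∃ q, p = q + 1 := ⟨p - 1, by omega⟩
              simp only [Nat.add_sub_cancel]
              ring

end Cfsg.Agent.helper9.Nil
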