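import Mathlib
import Cfsg.Agent.Lib_helper9_NilD

set_option autoImplicit false
set_option linter.style.haveILetI false

/-! Numeric facts for the bound on the orders of nilpotent subgroups of alternating groups:
`B n` is twice the largest order of a nilpotent subgroup of `A_n`. -/

namespace Cfsg.Agent.helper21.AltNil

open Cfsg.Agent.helper21.SylPerm Cfsg.Agent.helper9.Nil

/-- twice the largest order of a nilpotent subgroup of `A_n`. -/
def B (n : ℕ) : ℕ :=
  if n ≤ 1 then 2 else if n = 3 then 6 else if n = 5 then 10 else if n = 6 then 18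
  else if n = 9 then 162 else F n

theorem F_mono' {a b : ℕ} (h : a ≤ b) : F a ≤ F b := by
  obtain ⟨c, rfl⟩ := Nat.exists_eq_add_of_le h
  calc F a = F a * 1 := (mul_one _).symm
    _ ≤ F a * F c := Nat.mul_le_mul_left _ (F_pos c)
    _ ≤ F (a + c) := F_mul_le a c

theorem v40 : v (4 * 0) = 0 := by simp [v_zero]
theorem v41 : v (4 * 1) = 3 := by rw [v_four, v_one]
theorem v42 : v (4 * 2) = 7 := by rw [v_four, v_two]
theorem v3' : v 3 = 1 := by
  show v (4 * 0 + 3) = 1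
  rw [v_four_add_three, v40]
theorem v43 : v (4 * 3) = 10 := by rw [v_four, v3']
theorem v4' : v 4 = 3 := by
  show v (4 * 1) = 3
  exact v41
theorem v44 : v (4 * 4) = 15 := by rw [v_four, v4']

theorem F_0 : F 0 = 1 := by
  show F (4 * 0 + 0) = 1
  rw [F_four_add_zero, v40]
  norm_num
theorem F_1 : F 1 = 1 := by
  show F (4 * 0 + 1) = 1
  rw [F_four_add_one, v40]
  norm_num
theorem F_2 : F 2 = 2 := by
  show F (4 * 0 + 2) = 2
  rw [F_four_add_two, v40]
  norm_num
theorem F_3 : F 3 = 3 := by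
  show F (4 * 0 + 3) = 3
  rw [F_four_add_three, v40]
  norm_num
theorem F_4 : F 4 = 8 := by
  show F (4 * 1 + 0) = 8
  rw [F_four_add_zero, v41]
  norm_num
theorem F_5 : F 5 = 8 := by
  show F (4 * 1 + 1) = 8
  rw [F_four_add_one, v41]
  norm_num
theorem F_6 : F 6 = 16 := by
  show F (4 * 1 + 2) = 16
  rw [F_four_add_two, v41]
  norm_num
theorem F_7 : F 7 = 24 := by
  show F (4 * 1 + 3) = 24
  rw [F_four_add_three, v41]
  norm_num
theorem F_8 : F 8 = 128 := by
  show F (4 * 2 + 0) = 128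
  rw [F_four_add_zero, v42]
  norm_num
theorem F_9 : F 9 = 128 := by
  show F (4 * 2 + 1) = 128
  rw [F_four_add_one, v42]
  norm_num
theorem F_10 : F 10 = 256 := by
  show F (4 * 2 + 2) = 256
  rw [F_four_add_two, v42]
  norm_num
theorem F_11 : F 11 = 384 := by
  show F (4 * 2 + 3) = 384
  rw [F_four_add_three, v42]
  norm_num
theorem F_12 : F 12 = 1024 := by
  show F (4 * 3 + 0) = 1024
  rw [F_four_add_zero, v43]
  norm_num
theorem F_14 : F 14 = 2048 := by
  show F (4 * 3 + 2) = 2048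
  rw [F_four_add_two, v43]
  norm_num
theorem F_15 : F 15 = 3072 := by
  show F (4 * 3 + 3) = 3072
  rw [F_four_add_three, v43]
  norm_num
theorem F_18 : F 18 = 65536 := by
  show F (4 * 4 + 2) = 65536
  rw [F_four_add_two, v44]
  norm_num

theorem B_1 : B 1 = 2 := by simp [B]
theorem B_3 : B 3 = 6 := by simp [B]
theorem B_5 : B 5 = 10 := by simp [B]
theorem B_6 : B 6 = 18 := by simp [B]
theorem B_9 : B 9 = 162 := by simp [B]

theorem B_eq_F {n : ℕ} (h1 : 2 ≤ n) (h3 : n ≠ 3) (h5 : n ≠ 5) (h6 : n ≠ 6) (h9 : n ≠ 9) :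
    B n = F n := by
  unfold B
  rw [if_neg (by omega), if_neg h3, if_neg h5, if_neg h6, if_neg h9]

theorem B_of_le_one {n : ℕ} (h : n ≤ 1) : B n = 2 := by
  unfold B
  rw [if_pos h]

theorem F_le_B (n : ℕ) : F n ≤ B n := by
  unfold B
  split_ifs with h1 h3 h5 h6 h9
  · interval_cases n
    · simp [F_0]
    · simp [F_1]
  · subst h3; simp [F_3]
  · subst h5; simp [F_5]
  · subst h6; simp [F_6]
  · subst h9; simp [F_9]
  · exact le_refl _

theorem B_le_two_F (n : ℕ) : B n ≤ 2 * F n := by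
  unfold B
  split_ifs with h1 h3 h5 h6 h9
  · have := F_pos n; omega
  · subst h3; simp [F_3]
  · subst h5; simp [F_5]
  · subst h6; simp [F_6]
  · subst h9; simp [F_9]
  · omega

theorem two_le_B (n : ℕ) : 2 ≤ B n := by
  by_cases h : n ≤ 1
  · rw [B_of_le_one h]
  · have h2 : F 2 ≤ F n := F_mono' (by omega)
    rw [F_2] at h2
    exact h2.trans (F_le_B n)

theorem B_mul_le (a b : ℕ) (ha : 1 ≤ a) (hb : 1 ≤ b) : B a * B b ≤ 2 * B (a + b) := by
  by_cases ea : a = 1 ∨ a = 3 ∨ a = 5 ∨ a = 6 ∨ a = 9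
  · by_cases eb : b = 1 ∨ b = 3 ∨ b = 5 ∨ b = 6 ∨ b = 9
    · rcases ea with rfl | rfl | rfl | rfl | rfl <;> rcases eb with rfl | rfl | rfl | rfl | rfl <;>
        norm_num [B, F_2, F_4, F_7, F_8, F_10, F_11, F_12, F_14, F_15, F_18]
    · have hBb : B b = F b := B_eq_F (by omega) (by omega) (by omega) (by omega) (by omega)
      calc B a * B b ≤ (2 * F a) * F b := by
            rw [hBb]; exact Nat.mul_le_mul_right _ (B_le_two_F a)
        _ = 2 * (F a * F b) := by ring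
        _ ≤ 2 * F (a + b) := Nat.mul_le_mul_left _ (F_mul_le a b)
        _ ≤ 2 * B (a + b) := Nat.mul_le_mul_left _ (F_le_B _)
  · have hBa : B a = F a := B_eq_F (by omega) (by omega) (by omega) (by omega) (by omega)
    calc B a * B b ≤ F a * (2 * F b) := by
          rw [hBa]; exact Nat.mul_le_mul_left _ (B_le_two_F b)
      _ = 2 * (F a * F b) := by ring
      _ ≤ 2 * F (a + b) := Nat.mul_le_mul_left _ (F_mul_le a b)
      _ ≤ 2 * B (a + b) := Nat.mul_le_mul_left _ (F_le_B _)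

theorem two_F_mul_le_B (s q : ℕ) (hs : 2 ≤ s) (hq : 2 ≤ q) : 2 * (F s * F q) ≤ B (s * q) := by
  by_cases h : s + q ≤ 5
  · have h' : (s = 2 ∧ q = 2) ∨ (s = 2 ∧ q = 3) ∨ (s = 3 ∧ q = 2) := by omega
    rcases h' with ⟨rfl, rfl⟩ | ⟨rfl, rfl⟩ | ⟨rfl, rfl⟩
    · norm_num [B, F_2, F_4]
    · norm_num [B, F_2, F_3]
    · norm_num [B, F_2, F_3]
  · have hsq : 2 + (s + q) ≤ s * q := by
      obtain ⟨s', rfl⟩ := Nat.exists_eq_add_of_le hs
      obtain ⟨q', rfl⟩ := Nat.exists_eq_add_of_le hq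
      have e : (2 + s') * (2 + q') = 4 + 2 * s' + 2 * q' + s' * q' := by ring
      rw [e]
      generalize s' * q' = t
      omega
    calc 2 * (F s * F q) ≤ F 2 * F (s + q) := by
          rw [F_2]; exact Nat.mul_le_mul_left 2 (F_mul_le s q)
      _ ≤ F (2 + (s + q)) := F_mul_le _ _
      _ ≤ F (s * q) := F_mono' hsq
      _ ≤ B (s * q) := F_le_B _

theorem pow81 (m : ℕ) (hm : 2 ≤ m) : 2 * 81 ^ m ≤ 128 ^ m := by
  induction m, hm using Nat.le_induction with
  | base => norm_num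
  | succ m hm ih =>
    calc 2 * 81 ^ (m + 1) = (2 * 81 ^ m) * 81 := by ring
      _ ≤ 128 ^ m * 81 := Nat.mul_le_mul_right _ ih
      _ ≤ 128 ^ m * 128 := Nat.mul_le_mul_left _ (by norm_num)
      _ = 128 ^ (m + 1) := by ring

theorem bern (p m : ℕ) : p ^ m * (p + m) ≤ (p + 1) ^ m * p := by
  induction m with
  | zero => simp
  | succ m ih =>
    calc p ^ (m + 1) * (p + (m + 1)) = p ^ m * (p * (p + m + 1)) := by ring
      _ ≤ p ^ m * ((p + m) * (p + 1)) := by
          apply Nat.mul_le_mul_left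
          nlinarith [Nat.zero_le m]
      _ = (p ^ m * (p + m)) * (p + 1) := by ring
      _ ≤ ((p + 1) ^ m * p) * (p + 1) := Nat.mul_le_mul_right _ ih
      _ = (p + 1) ^ (m + 1) * p := by ring

theorem two_mul_pow_le (p m : ℕ) (hp : 1 ≤ p) (hm : p ≤ m) : 2 * p ^ m ≤ (p + 1) ^ m := by
  have h := bern p m
  have h2 : p ^ m * (2 * p) ≤ (p + 1) ^ m * p :=
    le_trans (Nat.mul_le_mul_left _ (by omega)) h
  have h3 : (2 * p ^ m) * p ≤ (p + 1) ^ m * p := by
    calc (2 * p ^ m) * p = p ^ m * (2 * p) := by ring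
      _ ≤ _ := h2
  exact Nat.le_of_mul_le_mul_right h3 (by omega)

theorem one_le_v {h : ℕ} (h2 : 2 ≤ h) : 1 ≤ v h := by
  have h4 := v_add_le 2 (h - 2)
  rw [v_two, Nat.add_sub_cancel' h2] at h4
  omega

theorem succ_le_F_pred (p : ℕ) (hodd : p % 2 = 1) (h5 : 5 ≤ p) : p + 1 ≤ F (p - 1) := by
  obtain ⟨h, rfl⟩ : ∃ h, p = 2 * h + 1 := ⟨p / 2, by omega⟩
  have h2 : 2 ≤ h := by omega
  have e : 2 * h + 1 - 1 = 2 * h := by omega
  rw [e]
  have h3 : 1 ≤ v h := one_le_v h2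
  calc 2 * h + 1 + 1 ≤ 2 ^ (h + 1) := by
        have := Nat.lt_two_pow_self (n := h)
        rw [pow_succ]; omega
    _ ≤ 2 ^ v (2 * h) := by
        apply Nat.pow_le_pow_right (by norm_num)
        rw [v_two_mul]; omega
    _ ≤ F (2 * h) := two_pow_v_le_F _

theorem four_mul_add_two_le (h : ℕ) (hh : 3 ≤ h) : 4 * h + 2 ≤ 2 ^ (h + 1) := by
  induction h, hh using Nat.le_induction with
  | base => norm_num
  | succ k hk ih => rw [pow_succ]; omega

theorem two_mul_le_F (p : ℕ) (hodd : p % 2 = 1) (h7 : 7 ≤ p) : 2 * p ≤ F p := by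
  obtain ⟨h, rfl⟩ : ∃ h, p = 2 * h + 1 := ⟨p / 2, by omega⟩
  have h3 : 3 ≤ h := by omega
  have hv : 1 ≤ v h := one_le_v (by omega)
  calc 2 * (2 * h + 1) = 4 * h + 2 := by ring
    _ ≤ 2 ^ (h + 1) := four_mul_add_two_le h h3
    _ ≤ 2 ^ v (2 * h) := by
        apply Nat.pow_le_pow_right (by norm_num)
        rw [v_two_mul]; omega
    _ ≤ F (2 * h) := two_pow_v_le_F _
    _ ≤ F (2 * h + 1) := F_mono' (by omega)

theorem two_prime_pow_succ_le_F (p : ℕ) (hp : p.Prime) (h5 : 5 ≤ p) (k : ℕ) (hk : 1 ≤ k) :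
    2 * p ^ padicValNat p (p ^ (k + 1)).factorial ≤ F (p ^ (k + 1)) := by
  haveI : Fact p.Prime := ⟨hp⟩
  have hodd : p % 2 = 1 := by
    rcases hp.eq_two_or_odd with h | h
    · omega
    · exact h
  have hm : p ≤ p ^ k := by
    calc p = p ^ 1 := (pow_one p).symm
      _ ≤ p ^ k := Nat.pow_le_pow_right hp.pos hk
  have h1 : 2 * p ^ (p ^ k) ≤ F (p - 1) ^ (p ^ k) :=
    (two_mul_pow_le p (p ^ k) hp.one_le hm).trans
      (Nat.pow_le_pow_left (succ_le_F_pred p hodd h5) _)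
  have e : p ^ padicValNat p (p ^ (k + 1)).factorial
      = p ^ padicValNat p (p ^ k).factorial * p ^ p ^ k := by
    rw [padic_fact_pow_succ]
    exact pow_add _ _ _
  rw [e]
  calc 2 * (p ^ padicValNat p (p ^ k).factorial * p ^ p ^ k)
      = p ^ padicValNat p (p ^ k).factorial * (2 * p ^ p ^ k) := by ring
    _ ≤ F (p ^ k) * F (p - 1) ^ p ^ k := Nat.mul_le_mul (prime_pow_le_F p hp k) h1
    _ ≤ F (p ^ k) * F ((p - 1) * p ^ k) := Nat.mul_le_mul_left _ (F_pow_le _ _)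
    _ ≤ F (p ^ k + (p - 1) * p ^ k) := F_mul_le _ _
    _ = F (p ^ (k + 1)) := by
        congr 1
        obtain ⟨q, rfl⟩ : ∃ q, p = q + 1 := ⟨p - 1, by omega⟩
        simp only [Nat.add_sub_cancel]
        ring

theorem three_aux' (t m : ℕ) (hm : 2 ≤ m) (hC : 3 ^ t ≤ F m) :
    2 * 3 ^ (t + 4 * m) ≤ F (m + 8 * m) := by
  have hB : 3 ^ (t + 4 * m) = 3 ^ t * 81 ^ m := by
    rw [pow_add, pow_mul]; norm_num
  rw [hB]
  calc 2 * (3 ^ t * 81 ^ m) = 3 ^ t * (2 * 81 ^ m) := by ring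
    _ ≤ F m * F 8 ^ m := Nat.mul_le_mul hC (by rw [F_8]; exact pow81 m hm)
    _ ≤ F m * F (8 * m) := Nat.mul_le_mul_left _ (F_pow_le _ _)
    _ ≤ F (m + 8 * m) := F_mul_le _ _

theorem two_three_pow_le_F (k : ℕ) :
    2 * 3 ^ padicValNat 3 (3 ^ (k + 3)).factorial ≤ F (3 ^ (k + 3)) := by
  haveI : Fact (Nat.Prime 3) := ⟨Nat.prime_three⟩
  have e1 : padicValNat 3 (3 ^ (k + 3)).factorial
      = padicValNat 3 (3 ^ (k + 1)).factorial + 4 * 3 ^ (k + 1) := by
    have h1 : padicValNat 3 (3 ^ (k + 2 + 1)).factorial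
        = padicValNat 3 (3 ^ (k + 2)).factorial + 3 ^ (k + 2) := padic_fact_pow_succ 3 (k + 2)
    have h2 : padicValNat 3 (3 ^ (k + 1 + 1)).factorial
        = padicValNat 3 (3 ^ (k + 1)).factorial + 3 ^ (k + 1) := padic_fact_pow_succ 3 (k + 1)
    have h1' : padicValNat 3 (3 ^ (k + 3)).factorial
        = padicValNat 3 (3 ^ (k + 2)).factorial + 3 ^ (k + 2) := h1
    have h2' : padicValNat 3 (3 ^ (k + 2)).factorial
        = padicValNat 3 (3 ^ (k + 1)).factorial + 3 ^ (k + 1) := h2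
    rw [h1', h2']
    ring
  have hm : 2 ≤ 3 ^ (k + 1) := by
    calc 2 ≤ 3 ^ 1 := by norm_num
      _ ≤ 3 ^ (k + 1) := Nat.pow_le_pow_right (by norm_num) (by omega)
  have e2 : 3 ^ (k + 3) = 3 ^ (k + 1) + 8 * 3 ^ (k + 1) := by ring
  rw [e1, e2]
  exact three_aux' _ _ hm (prime_pow_le_F 3 Nat.prime_three (k + 1))

theorem two_three_pow_le_B (k : ℕ) :
    2 * 3 ^ padicValNat 3 (3 ^ k).factorial ≤ B (3 ^ k) := by
  haveI : Fact (Nat.Prime 3) := ⟨Nat.prime_three⟩
  have t0 : padicValNat 3 (3 ^ 0).factorial = 0 := by simp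
  have t1 : padicValNat 3 (3 ^ 1).factorial = 1 := by
    have h := padic_fact_pow_succ 3 0
    rw [t0, pow_zero] at h
    exact h
  have t2 : padicValNat 3 (3 ^ 2).factorial = 4 := by
    have h := padic_fact_pow_succ 3 1
    rw [t1, pow_one] at h
    exact h
  rcases k with _ | _ | _ | k
  · rw [t0]; simp [B_1]
  · rw [show (0 + 1) = 1 from rfl, t1]; simp [B_3]
  · rw [show (0 + 1 + 1) = 2 from rfl, t2]; norm_num [B_9]
  · exact (two_three_pow_le_F k).trans (F_le_B _)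

theorem two_prime_pow_le_B_ge5 (p : ℕ) (hp : p.Prime) (h5 : 5 ≤ p) (k : ℕ) :
    2 * p ^ padicValNat p (p ^ k).factorial ≤ B (p ^ k) := by
  haveI : Fact p.Prime := ⟨hp⟩
  have hodd : p % 2 = 1 := by
    rcases hp.eq_two_or_odd with h | h
    · omega
    · exact h
  have t0 : padicValNat p (p ^ 0).factorial = 0 := by simp
  have t1 : padicValNat p (p ^ 1).factorial = 1 := by
    have h := padic_fact_pow_succ p 0
    rw [t0, pow_zero] at h
    exact h
  rcases k with _ | _ | k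
  · rw [t0]; simp [B_1]
  · rw [show (0 + 1) = 1 from rfl, t1, pow_one]
    by_cases h5' : p = 5
    · rw [h5']; simp [B_5]
    · have h7 : 7 ≤ p := by omega
      exact (two_mul_le_F p hodd h7).trans (F_le_B p)
  · exact (two_prime_pow_succ_le_F p hp h5 (k + 1) (by omega)).trans (F_le_B _)

theorem two_prime_pow_le_B (p : ℕ) (hp : p.Prime) (hp2 : p ≠ 2) (k : ℕ) :
    2 * p ^ padicValNat p (p ^ k).factorial ≤ B (p ^ k) := by
  by_cases h3 : p = 3
  · subst h3; exact two_three_pow_le_B k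
  · have h5 : 5 ≤ p := by
      have h2 := hp.two_le
      have h4 : p ≠ 4 := by
        rintro rfl
        exact absurd hp (by norm_num)
      omega
    exact two_prime_pow_le_B_ge5 p hp h5 k

end Cfsg.Agent.helper21.AltNil
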