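import Mathlib
import Cfsg.Agent.Lib_helper9_NilA
import Cfsg.Agent.Lib_helper21_SylPerm1

set_option autoImplicit false

/-! Transitive nilpotent permutation groups: a normal Sylow `p`-subgroup acts faithfully on each
of its orbits, and the group modulo it acts faithfully on the orbit space. -/

namespace Cfsg.Agent.helper9.Nil

open Equiv MulAction Cfsg.Agent.helper21.SylPerm

universe u

variable {β : Type u}

/-- abstract data of a normal Sylow `p`-subgroup `P` of the nilpotent group `N ≤ Perm β` -/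
structure PData (N P : Subgroup (Perm β)) (p : ℕ) : Prop where
  le : P ≤ N
  pgrp : ∀ u ∈ P, ∃ k, u ^ (p ^ k) = 1
  conj : ∀ g ∈ N, ∀ u ∈ P, g * u * g⁻¹ ∈ P
  pmem : ∀ a ∈ N, (∃ k, a ^ (p ^ k) = 1) → a ∈ P
  comm : ∀ u ∈ P, ∀ b ∈ N, ¬ p ∣ orderOf b → Commute u b
  decomp : ∀ g ∈ N, ∃ a ∈ N, ∃ b ∈ N, g = b * a ∧ (∃ k, a ^ (p ^ k) = 1) ∧ ¬ p ∣ orderOf b ∧
    b ∈ Subgroup.zpowers g

theorem pdata_of_sylow [Finite β] (N : Subgroup (Perm β)) (hN : Group.IsNilpotent N) (p : ℕ)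
    [Fact p.Prime] (S : Sylow p N) : PData N ((S : Subgroup N).map N.subtype) p := by
  have hp : p.Prime := Fact.out
  haveI : Group.IsNilpotent N := hN
  have hSn : (S : Subgroup N).Normal := inferInstance
  refine ⟨?_, ?_, ?_, ?_, ?_, ?_⟩
  · rintro _ ⟨u, -, rfl⟩; exact u.2
  · rintro _ ⟨u, hu, rfl⟩
    obtain ⟨k, hk⟩ := S.isPGroup' ⟨u, hu⟩
    refine ⟨k, ?_⟩
    have := congrArg (fun z : N => (z : Perm β)) (congrArg Subtype.val hk)
    simpa using this
  · rintro g hg _ ⟨u, hu, rfl⟩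
    refine ⟨⟨g, hg⟩ * u * ⟨g, hg⟩⁻¹, hSn.conj_mem u hu ⟨g, hg⟩, ?_⟩
    simp
  · rintro a ha ⟨k, hk⟩
    have h1 : IsPGroup p (Subgroup.zpowers (⟨a, ha⟩ : N)) := by
      rintro ⟨z, hz⟩
      obtain ⟨j, rfl⟩ := Subgroup.mem_zpowers_iff.mp hz
      refine ⟨k, ?_⟩
      apply Subtype.ext
      have h2 : (⟨a, ha⟩ : N) ^ (p ^ k) = 1 := Subtype.ext (by simpa using hk)
      show ((⟨a, ha⟩ : N) ^ j) ^ (p ^ k) = 1
      rw [← zpow_natCast, ← zpow_mul, mul_comm, zpow_mul, zpow_natCast, h2, one_zpow]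
    obtain ⟨Q, hQ⟩ := h1.exists_le_sylow
    obtain ⟨g, hg⟩ := MulAction.exists_smul_eq N S Q
    have hQS : Q = S := by rw [← hg]; exact Sylow.smul_eq_of_normal
    have h3 : (⟨a, ha⟩ : N) ∈ (S : Subgroup N) := by
      rw [← hQS]; exact hQ (Subgroup.mem_zpowers _)
    exact ⟨⟨a, ha⟩, h3, rfl⟩
  · rintro _ ⟨u, hu, rfl⟩ b hb hpb
    obtain ⟨k, hk⟩ := S.isPGroup' ⟨u, hu⟩
    have h1 : orderOf u ∣ p ^ k := orderOf_dvd_of_pow_eq_one (by
      have := congrArg Subtype.val hk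
      simpa using this)
    have h2 : (orderOf u).Coprime (orderOf (⟨b, hb⟩ : N)) := by
      have h3 : orderOf (⟨b, hb⟩ : N) = orderOf b := by
        rw [← Subgroup.orderOf_coe]
      rw [h3]
      apply Nat.Coprime.coprime_dvd_left h1
      exact Nat.Coprime.pow_left k ((Nat.Prime.coprime_iff_not_dvd hp).mpr hpb)
    have h4 := commute_of_coprime hN u ⟨b, hb⟩ h2
    have h5 := congrArg (fun z : N => (z : Perm β)) h4.eq
    exact h5
  · intro g hg
    obtain ⟨a, b, -, hba, ⟨k, hk⟩, hpb, -, hbz⟩ := exists_p_decomp p hp (⟨g, hg⟩ : N)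
    refine ⟨a.1, a.2, b.1, b.2, ?_, ⟨k, ?_⟩, ?_, ?_⟩
    · have := congrArg (fun z : N => (z : Perm β)) hba
      simpa using this
    · have := congrArg (fun z : N => (z : Perm β)) hk
      simpa using this
    · rwa [← Subgroup.orderOf_coe] at hpb
    · obtain ⟨j, hj⟩ := Subgroup.mem_zpowers_iff.mp hbz
      rw [Subgroup.mem_zpowers_iff]
      refine ⟨j, ?_⟩
      have := congrArg (fun z : N => (z : Perm β)) hj
      simpa using this

section Main

variable {N P : Subgroup (Perm β)} {p : ℕ}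

/-- `P` acts faithfully on each of its orbits when `N` is transitive. -/
theorem faithful_on_orbit (h : PData N P p) (htr : ∀ x y : β, ∃ g ∈ N, g x = y)
    (u : Perm β) (hu : u ∈ P) (x : β) (hfix : ∀ y ∈ orbit P x, u y = y) : u = 1 := by
  apply Equiv.ext
  intro y
  obtain ⟨g, hg, rfl⟩ := htr x y
  obtain ⟨a, ha, b, hb, hgab, hak, hbp, -⟩ := h.decomp g hg
  have haP : a ∈ P := h.pmem a ha hak
  have hax : a x ∈ orbit P x := mem_orbit.mpr ⟨a, haP, rfl⟩
  have hc := h.comm u hu b hb hbp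
  rw [hgab]
  show u (b (a x)) = b (a x)
  have h1 : u (b (a x)) = (u * b) (a x) := rfl
  rw [h1, hc.eq]
  show b (u (a x)) = b (a x)
  rw [hfix _ hax]

/-- all `P`-orbits have the same size -/
theorem card_orbit_eq (h : PData N P p) (g : Perm β) (hg : g ∈ N) (x : β) :
    Nat.card (orbit P (g x)) = Nat.card (orbit P x) := by
  symm
  apply Nat.card_congr
  refine Equiv.subtypeEquiv g ?_
  intro y
  rw [mem_orbit, mem_orbit]
  constructor
  · rintro ⟨u, hu, rfl⟩
    refine ⟨g * u * g⁻¹, h.conj g hg u hu, ?_⟩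
    simp
  · rintro ⟨u, hu, huy⟩
    refine ⟨g⁻¹ * u * g, ?_, ?_⟩
    · have := h.conj g⁻¹ (N.inv_mem hg) u hu
      simpa using this
    · simp only [Perm.mul_apply]
      rw [huy]
      simp

/-- the subgroup of `N` fixing every `P`-orbit setwise -/
def orbKer (N P : Subgroup (Perm β)) : Subgroup (Perm β) where
  carrier := {g | g ∈ N ∧ ∀ y, g y ∈ orbit P y}
  one_mem' := ⟨N.one_mem, fun y => mem_orbit_self y⟩
  mul_mem' := by
    rintro g k ⟨hg, hg'⟩ ⟨hk, hk'⟩
    refine ⟨N.mul_mem hg hk, fun y => ?_⟩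
    have h1 : g (k y) ∈ orbit P (k y) := hg' (k y)
    rw [orbit_eq_iff.mpr (hk' y)] at h1
    exact h1
  inv_mem' := by
    rintro g ⟨hg, hg'⟩
    refine ⟨N.inv_mem hg, fun y => ?_⟩
    have h1 : g (g⁻¹ y) ∈ orbit P (g⁻¹ y) := hg' (g⁻¹ y)
    have h2 : g (g⁻¹ y) = y := by
      show (g * g⁻¹) y = y
      rw [mul_inv_cancel]; rfl
    rw [h2] at h1
    exact (MulAction.mem_orbit_symm).mp h1

theorem orbKer_le_P (h : PData N P p) (hp : p.Prime) [Finite β] : orbKer N P ≤ P := by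
  rintro g ⟨hg, hg'⟩
  obtain ⟨a, ha, b, hb, hgab, hak, hbp, hbz⟩ := h.decomp g hg
  have haP : a ∈ P := h.pmem a ha hak
  have hbK : b ∈ orbKer N P := by
    have h1 : Subgroup.zpowers g ≤ orbKer N P :=
      (Subgroup.zpowers_le).mpr ⟨hg, hg'⟩
    exact h1 hbz
  have hb1 : b = 1 := by
    apply Equiv.ext
    intro y
    obtain ⟨w, hw, hwy⟩ := mem_orbit.mp (hbK.2 y)
    -- b y = w y, w ∈ P
    have hpow : ∀ j : ℕ, (b ^ j) y = (w ^ j) y := by
      intro j
      induction j with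
      | zero => simp
      | succ j ih =>
        have hc : Commute (w ^ j) b := h.comm (w ^ j) (P.pow_mem hw j) b hb hbp
        calc (b ^ (j + 1)) y = b ((b ^ j) y) := by rw [pow_succ']; rfl
          _ = b ((w ^ j) y) := by rw [ih]
          _ = (b * w ^ j) y := rfl
          _ = (w ^ j * b) y := by rw [hc.eq]
          _ = (w ^ j) (b y) := rfl
          _ = (w ^ j) (w y) := by rw [hwy]
          _ = (w ^ (j + 1)) y := by rw [pow_succ]; rfl
    have h2 : (w ^ orderOf b) y = y := by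
      rw [← hpow, pow_orderOf_eq_one]; rfl
    obtain ⟨t, ht⟩ := h.pgrp w hw
    have hcop : (orderOf b).Coprime (p ^ t) :=
      (Nat.Coprime.pow_left t ((Nat.Prime.coprime_iff_not_dvd hp).mpr hbp)).symm
    have hbez := Nat.gcd_eq_gcd_ab (orderOf b) (p ^ t)
    rw [hcop.gcd_eq_one] at hbez
    have h3 : w = (w ^ orderOf b) ^ (Nat.gcdA (orderOf b) (p ^ t)) := by
      have h4 : (w ^ (p ^ t)) ^ (Nat.gcdB (orderOf b) (p ^ t)) = 1 := by rw [ht, one_zpow]
      calc w = w ^ (1 : ℤ) := (zpow_one w).symm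
        _ = w ^ (((orderOf b : ℕ) : ℤ) * Nat.gcdA (orderOf b) (p ^ t) +
              ((p ^ t : ℕ) : ℤ) * Nat.gcdB (orderOf b) (p ^ t)) := by
            rw [← hbez]; norm_num
        _ = (w ^ orderOf b) ^ (Nat.gcdA (orderOf b) (p ^ t)) *
              (w ^ (p ^ t)) ^ (Nat.gcdB (orderOf b) (p ^ t)) := by
            rw [zpow_add, zpow_mul, zpow_mul, zpow_natCast, zpow_natCast]
        _ = (w ^ orderOf b) ^ (Nat.gcdA (orderOf b) (p ^ t)) := by rw [h4, mul_one]
    have h5 : w ^ orderOf b ∈ MulAction.stabilizer (Perm β) y := h2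
    have h6 : w ∈ MulAction.stabilizer (Perm β) y := by
      rw [h3]; exact Subgroup.zpow_mem _ h5 _
    rw [← hwy]
    exact h6
  rw [hgab, hb1, one_mul]
  exact haP

end Main

end Cfsg.Agent.helper9.Nil
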