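import Mathlib
import Cfsg.Agent.Lib_helper9_NilB
import Cfsg.Agent.Lib_helper9_NilF

set_option autoImplicit false

/-! Orders of nilpotent subgroups of symmetric groups: `|N| ≤ F n` (modulo two numeric facts
about `F`, taken as hypotheses here). -/

namespace Cfsg.Agent.helper9.Nil

open Equiv MulAction Cfsg.Agent.helper21.SylPerm

universe u

variable {β : Type u} {N P : Subgroup (Perm β)} {p : ℕ}

/-- induced map on the `P`-orbit space -/
def qmap (h : PData N P p) (g : N) : orbitRel.Quotient P β → orbitRel.Quotient P β :=
  Quotient.map' (fun y => (g : Perm β) y) (by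
    intro y y' hyy'
    have h1 : y ∈ orbit P y' := hyy'
    obtain ⟨u, hu, huy⟩ := mem_orbit.mp h1
    show (g : Perm β) y ∈ orbit P ((g : Perm β) y')
    rw [mem_orbit]
    refine ⟨(g : Perm β) * u * (g : Perm β)⁻¹, h.conj g g.2 u hu, ?_⟩
    simp [Perm.mul_apply, huy])

theorem qmap_mk (h : PData N P p) (g : N) (y : β) :
    qmap h g (Quotient.mk'' y) = Quotient.mk'' ((g : Perm β) y) := rfl

/-- the action of `N` on the `P`-orbit space -/
def qhom (h : PData N P p) : N →* Perm (orbitRel.Quotient P β) where
  toFun g :=
    { toFun := qmap h g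
      invFun := qmap h g⁻¹
      left_inv := by
        intro q
        induction q using Quotient.inductionOn' with
        | h y =>
          rw [qmap_mk, qmap_mk]
          congr 1
          simp
      right_inv := by
        intro q
        induction q using Quotient.inductionOn' with
        | h y =>
          rw [qmap_mk, qmap_mk]
          congr 1
          simp }
  map_one' := by
    apply Equiv.ext
    intro q
    induction q using Quotient.inductionOn' with
    | h y => rfl
  map_mul' g k := by
    apply Equiv.ext
    intro q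
    induction q using Quotient.inductionOn' with
    | h y => rfl

theorem qhom_mk (h : PData N P p) (g : N) (y : β) :
    qhom h g (Quotient.mk'' y) = Quotient.mk'' ((g : Perm β) y) := rfl

theorem ker_qhom_le (h : PData N P p) (hp : p.Prime) [Finite β] (g : N)
    (hg : g ∈ (qhom h).ker) : (g : Perm β) ∈ P := by
  apply orbKer_le_P h hp
  refine ⟨g.2, fun y => ?_⟩
  have h1 : qhom h g (Quotient.mk'' y) = Quotient.mk'' y := by
    rw [MonoidHom.mem_ker.mp hg]; rfl
  rw [qhom_mk] at h1
  exact Quotient.exact' h1

theorem card_le_qhom (h : PData N P p) (hp : p.Prime) [Finite β] :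
    Nat.card N ≤ Nat.card P * Nat.card (qhom h).range := by
  have h1 : Nat.card (qhom h).ker * (qhom h).ker.index = Nat.card N := Subgroup.card_mul_index _
  rw [Subgroup.index_ker] at h1
  rw [← h1]
  apply Nat.mul_le_mul_right
  let f : (qhom h).ker → P := fun k => ⟨(k.1 : Perm β), ker_qhom_le h hp k.1 k.2⟩
  apply Nat.card_le_card_of_injective f
  intro k k' hkk'
  have h2 : ((k.1 : N) : Perm β) = ((k'.1 : N) : Perm β) :=
    congrArg (fun z : P => (z : Perm β)) hkk'
  exact Subtype.ext (Subtype.ext h2)

theorem card_quot (h : PData N P p) (htr : ∀ x y : β, ∃ g ∈ N, g x = y) [Finite β] (x : β) :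
    Nat.card β = Nat.card (orbit P x) * Nat.card (orbitRel.Quotient P β) := by
  classical
  haveI : Fintype (orbitRel.Quotient P β) := Fintype.ofFinite _
  rw [Nat.card_congr (selfEquivSigmaOrbits' P β), Nat.card_sigma]
  have h1 : ∀ ω : orbitRel.Quotient P β, Nat.card ω.orbit = Nat.card (orbit P x) := by
    intro ω
    induction ω using Quotient.inductionOn' with
    | h y =>
      rw [orbitRel.Quotient.orbit_mk]
      obtain ⟨g, hg, rfl⟩ := htr x y
      exact card_orbit_eq h g hg x
  rw [Finset.sum_congr rfl (fun ω _ => h1 ω), Finset.sum_const, Finset.card_univ, smul_eq_mul,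
    ← Nat.card_eq_fintype_card (α := orbitRel.Quotient P β), mul_comm]

theorem isPGroup_of_pdata (h : PData N P p) : IsPGroup p P := by
  rintro ⟨u, hu⟩
  obtain ⟨k, hk⟩ := h.pgrp u hu
  exact ⟨k, Subtype.ext (by simpa using hk)⟩

/-- Main bound, modulo the numeric facts about `F`. -/
theorem nil_bound (Fmul : ∀ a b : ℕ, F a * F b ≤ F (a + b))
    (Fpp : ∀ p : ℕ, p.Prime → ∀ k : ℕ, p ^ padicValNat p (p ^ k).factorial ≤ F (p ^ k)) :
    ∀ (n : ℕ) (β : Type u) [Finite β] (N : Subgroup (Perm β)), Nat.card β = n →
      Group.IsNilpotent N → Nat.card N ≤ F n := by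
  have Fmono : ∀ a b : ℕ, a ≤ b → F a ≤ F b := by
    intro a b hab
    calc F a = F a * 1 := (mul_one _).symm
      _ ≤ F a * F (b - a) := Nat.mul_le_mul_left _ (F_pos _)
      _ ≤ F (a + (b - a)) := Fmul _ _
      _ = F b := by rw [Nat.add_sub_cancel' hab]
  intro n
  induction n using Nat.strong_induction_on with
  | _ n ih =>
  intro β _ N hcard hN
  by_cases hbot : N = ⊥
  · rw [hbot, Subgroup.card_bot]; exact F_pos n
  by_cases htr : ∀ x y : β, ∃ g ∈ N, g x = y
  · -- transitive case
    obtain ⟨g0, hg01⟩ := (Subgroup.ne_bot_iff_exists_ne_one).mp hbot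
    have hg01' : (g0 : Perm β) ≠ 1 := fun hh => hg01 (Subtype.ext hh)
    obtain ⟨x, hx⟩ : ∃ x, (g0 : Perm β) x ≠ x := by
      by_contra hcon
      push Not at hcon
      exact hg01' (Equiv.ext hcon)
    have hN1 : Nat.card N ≠ 1 := by
      intro h1
      exact hbot ((Subgroup.card_eq_one).mp h1)
    obtain ⟨p, hp, hpd⟩ := Nat.exists_prime_and_dvd hN1
    haveI : Fact p.Prime := ⟨hp⟩
    obtain ⟨S⟩ : Nonempty (Sylow p N) := inferInstance
    have hd : PData N ((S : Subgroup N).map N.subtype) p := pdata_of_sylow N hN p S
    set P := (S : Subgroup N).map N.subtype with hPdef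
    have hcardP : Nat.card P = Nat.card S :=
      Subgroup.card_map_of_injective (Subgroup.subtype_injective N)
    have hPG : IsPGroup p P := isPGroup_of_pdata hd
    have hSne : Nat.card S ≠ 1 := by
      intro h1
      have h2 := S.card_eq_multiplicity
      rw [h1] at h2
      have h3 : (Nat.card N).factorization p = 0 := by
        by_contra hne
        have : 1 < p ^ (Nat.card N).factorization p := Nat.one_lt_pow hne hp.one_lt
        omega
      have h4 : 0 < (Nat.card N).factorization p :=
        hp.factorization_pos_of_dvd Nat.card_pos.ne' hpd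
      omega
    have hab : n = Nat.card (orbit P x) * Nat.card (orbitRel.Quotient P β) := by
      rw [← hcard]; exact card_quot hd htr x
    have hbpos : 0 < Nat.card (orbitRel.Quotient P β) := by
      haveI : Nonempty (orbitRel.Quotient P β) := ⟨Quotient.mk'' x⟩
      exact Nat.card_pos
    have ha2 : 2 ≤ Nat.card (orbit P x) := by
      by_contra hlt
      have hpos : 0 < Nat.card (orbit P x) := by
        haveI : Nonempty (orbit P x) := ⟨⟨x, mem_orbit_self x⟩⟩
        exact Nat.card_pos
      have h1 : Nat.card (orbit P x) = 1 := by omega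
      -- every element of P fixes the orbit of x pointwise, so P is trivial
      have hsub : Subsingleton (orbit P x) := (Nat.card_eq_one_iff_unique.mp h1).1
      have hP1 : ∀ u ∈ P, u = 1 := by
        intro u hu
        apply faithful_on_orbit hd htr u hu x
        intro y hy
        have h2 : (u y) ∈ orbit P x := by
          obtain ⟨w, hw, rfl⟩ := mem_orbit.mp hy
          exact mem_orbit.mpr ⟨u * w, P.mul_mem hu hw, rfl⟩
        have h3 := hsub.elim ⟨u y, h2⟩ ⟨y, hy⟩
        exact congrArg Subtype.val h3
      have hPbot : P = ⊥ := (Subgroup.eq_bot_iff_forall _).mpr hP1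
      rw [hPbot, Subgroup.card_bot] at hcardP
      exact hSne hcardP.symm
    have hle : Nat.card N ≤ Nat.card P * Nat.card (qhom hd).range := card_le_qhom hd hp
    by_cases hb : Nat.card (orbitRel.Quotient P β) = 1
    · -- `N = P` is a `p`-group
      have hsub : Subsingleton (orbitRel.Quotient P β) := (Nat.card_eq_one_iff_unique.mp hb).1
      have hNP : N ≤ P := by
        intro g hg
        apply orbKer_le_P hd hp
        refine ⟨hg, fun y => ?_⟩
        have h1 : (Quotient.mk'' (g y) : orbitRel.Quotient P β) = Quotient.mk'' y :=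
          hsub.elim _ _
        exact Quotient.exact' h1
      have hNeq : N = P := le_antisymm hNP hd.le
      have hNPG : IsPGroup p N := by rw [hNeq]; exact hPG
      obtain ⟨j, hj⟩ := (IsPGroup.iff_card).mp hNPG
      obtain ⟨k, hk⟩ := hPG.card_orbit (α := β) x
      have hnk : n = p ^ k := by rw [hab, hb, mul_one]; exact hk
      have hdvd : p ^ j ∣ (p ^ k).factorial := by
        rw [← hj, ← hnk, ← hcard, ← Nat.card_perm]
        exact Subgroup.card_subgroup_dvd_card N
      have hjle : j ≤ padicValNat p (p ^ k).factorial :=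
        (padicValNat_dvd_iff_le (Nat.factorial_ne_zero _)).mp hdvd
      calc Nat.card N = p ^ j := hj
        _ ≤ p ^ padicValNat p (p ^ k).factorial := Nat.pow_le_pow_right hp.pos hjle
        _ ≤ F (p ^ k) := Fpp p hp k
        _ = F n := by rw [hnk]
    · have hb2 : 2 ≤ Nat.card (orbitRel.Quotient P β) := by omega
      have han : Nat.card (orbit P x) < n := by
        rw [hab]; nlinarith
      have hbn : Nat.card (orbitRel.Quotient P β) < n := by
        rw [hab]; nlinarith
      have hP_le : Nat.card P ≤ F (Nat.card (orbit P x)) := by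
        have hinj : Function.Injective (rP (le_stabP_orbit P x)) := by
          rw [injective_iff_map_eq_one]
          intro u hu
          apply Subtype.ext
          apply faithful_on_orbit hd htr u.1 u.2 x
          intro y hy
          have h1 := congrArg (fun e : Perm {z // z ∈ orbit P x} =>
            ((e ⟨y, hy⟩ : {z // z ∈ orbit P x}) : β)) hu
          simpa using h1
        rw [Nat.card_congr (MonoidHom.ofInjective hinj).toEquiv]
        haveI : Group.IsNilpotent P := hPG.isNilpotent
        exact ih _ han {z // z ∈ orbit P x} (rP (le_stabP_orbit P x)).range rfl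
          (Group.nilpotent_of_surjective (rP (le_stabP_orbit P x)).rangeRestrict
            (rP (le_stabP_orbit P x)).rangeRestrict_surjective)
      have hQ_le : Nat.card (qhom hd).range ≤ F (Nat.card (orbitRel.Quotient P β)) := by
        haveI : Group.IsNilpotent N := hN
        exact ih _ hbn (orbitRel.Quotient P β) (qhom hd).range rfl
          (Group.nilpotent_of_surjective (qhom hd).rangeRestrict (qhom hd).rangeRestrict_surjective)
      calc Nat.card N ≤ Nat.card P * Nat.card (qhom hd).range := hle
        _ ≤ F (Nat.card (orbit P x)) * F (Nat.card (orbitRel.Quotient P β)) :=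
            Nat.mul_le_mul hP_le hQ_le
        _ ≤ F (Nat.card (orbit P x) + Nat.card (orbitRel.Quotient P β)) := Fmul _ _
        _ ≤ F n := by
            apply Fmono
            rw [hab]; nlinarith
  · -- intransitive case
    push Not at htr
    obtain ⟨x, y, hxy⟩ := htr
    have hQ := le_stabP_orbit N x
    have h1 := card_le_mul hQ
    have h2 := card_add_card_not (α := β) (fun z => z ∈ orbit N x)
    have hn1 : 0 < Nat.card {z // z ∈ orbit N x} := by
      haveI : Nonempty {z // z ∈ orbit N x} := ⟨⟨x, mem_orbit_self x⟩⟩
      exact Nat.card_pos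
    have hn2 : 0 < Nat.card {z // ¬ z ∈ orbit N x} := by
      haveI : Nonempty {z // ¬ z ∈ orbit N x} := ⟨⟨y, fun hy => by
        obtain ⟨g, hg, hgy⟩ := mem_orbit.mp hy
        exact hxy g hg hgy⟩⟩
      exact Nat.card_pos
    haveI : Group.IsNilpotent N := hN
    have hA : Nat.card (rP hQ).range ≤ F (Nat.card {z // z ∈ orbit N x}) :=
      ih _ (by omega) {z // z ∈ orbit N x} (rP hQ).range rfl
        (Group.nilpotent_of_surjective (rP hQ).rangeRestrict (rP hQ).rangeRestrict_surjective)
    have hB : Nat.card (rN hQ).range ≤ F (Nat.card {z // ¬ z ∈ orbit N x}) :=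
      ih _ (by omega) {z // ¬ z ∈ orbit N x} (rN hQ).range rfl
        (Group.nilpotent_of_surjective (rN hQ).rangeRestrict (rN hQ).rangeRestrict_surjective)
    calc Nat.card N ≤ Nat.card (rP hQ).range * Nat.card (rN hQ).range := h1
      _ ≤ F (Nat.card {z // z ∈ orbit N x}) * F (Nat.card {z // ¬ z ∈ orbit N x}) :=
          Nat.mul_le_mul hA hB
      _ ≤ F (Nat.card {z // z ∈ orbit N x} + Nat.card {z // ¬ z ∈ orbit N x}) := Fmul _ _
      _ = F n := by rw [h2, hcard]

end Cfsg.Agent.helper9.Nil
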