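import Mathlib
import Cfsg.Agent.Lib_helper9_NilC
import Cfsg.Agent.Lib_helper9_NilD
import Cfsg.Agent.Lib_helper21_AltNilNum

set_option autoImplicit false
set_option linter.style.haveILetI false

/-! Orders of nilpotent subgroups of alternating groups: a nilpotent group of even permutations
of `n` points has order at most `B n / 2`. -/

namespace Cfsg.Agent.helper21.AltNil

open Equiv MulAction Cfsg.Agent.helper21.SylPerm Cfsg.Agent.helper9.Nil

universe u

/-- the sign of a permutation preserving `p` is the product of the signs of its restrictions. -/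
theorem sgn_res_mul {α : Type u} [Finite α] {p : α → Prop} (f : stabP p) :
    sgn α (f : Perm α) = sgn {x // p x} (resP p f) * sgn {x // ¬ p x} (resN p f) := by
  classical
  letI := Fintype.ofFinite α
  rw [sgn_eq, sgn_eq, sgn_eq]
  have h : (f : Perm α) = (resP p f).subtypeCongr (resN p f) := by
    ext x
    by_cases hx : p x
    · rw [Perm.subtypeCongr.left_apply _ _ hx]; rfl
    · rw [Perm.subtypeCongr.right_apply _ _ hx]; rfl
  conv_lhs => rw [h]
  exact Perm.sign_subtypeCongr _ _

/-- if a group of even permutations preserving `p` contains an element acting as an odd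
permutation on `p`, it has index at least two in the product of its restrictions. -/
theorem two_mul_card_le {α : Type u} [Finite α] {p : α → Prop} {Q : Subgroup (Perm α)}
    (hQ : Q ≤ stabP p) (hAlt : ∀ g ∈ Q, sgn α g = 1)
    (hodd : ∃ g : Q, sgn {x // p x} (rP hQ g) = -1) :
    2 * Nat.card Q ≤ Nat.card (rP hQ).range * Nat.card (rN hQ).range := by
  let ψ : (rP hQ).range × (rN hQ).range →* ℤˣ :=
    ((sgn {x // p x}).comp ((rP hQ).range.subtype.comp (MonoidHom.fst _ _))) *
      ((sgn {x // ¬ p x}).comp ((rN hQ).range.subtype.comp (MonoidHom.snd _ _)))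
  have hψ : ∀ (a : (rP hQ).range) (b : (rN hQ).range),
      ψ (a, b) = sgn {x // p x} (a : Perm _) * sgn {x // ¬ p x} (b : Perm _) := fun a b => rfl
  let ι : Q →* (rP hQ).range × (rN hQ).range :=
    (rP hQ).rangeRestrict.prod (rN hQ).rangeRestrict
  have hinj : Function.Injective ι := by
    intro q q' h
    have h1 : rP hQ q = rP hQ q' := by
      have h0 := congrArg (fun z : (rP hQ).range × (rN hQ).range =>
        ((z.1 : (rP hQ).range) : Perm {x // p x})) h
      exact h0
    have h2 : rN hQ q = rN hQ q' := by
      have h0 := congrArg (fun z : (rP hQ).range × (rN hQ).range =>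
        ((z.2 : (rN hQ).range) : Perm {x // ¬ p x})) h
      exact h0
    have e1 : rP hQ (q * q'⁻¹) = 1 := by rw [map_mul, map_inv, h1, mul_inv_cancel]
    have e2 : rN hQ (q * q'⁻¹) = 1 := by rw [map_mul, map_inv, h2, mul_inv_cancel]
    exact mul_inv_eq_one.mp (eq_one_of_r hQ _ e1 e2)
  have hle : ι.range ≤ ψ.ker := by
    rintro _ ⟨q, rfl⟩
    rw [MonoidHom.mem_ker]
    have h4 := sgn_res_mul (Subgroup.inclusion hQ q)
    have h5 : sgn α ((Subgroup.inclusion hQ q : stabP p) : Perm α) = 1 := hAlt q.1 q.2
    rw [h5] at h4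
    exact h4.symm
  have hne : ψ.ker ≠ ⊤ := by
    obtain ⟨g, hg⟩ := hodd
    intro htop
    have hmem : ((rP hQ).rangeRestrict g, (1 : (rN hQ).range)) ∈ ψ.ker := by
      rw [htop]; exact Subgroup.mem_top _
    rw [MonoidHom.mem_ker, hψ] at hmem
    have h1 : sgn {x // ¬ p x} (((1 : (rN hQ).range)) : Perm _) = 1 := by simp
    rw [h1, mul_one] at hmem
    have h2 : sgn {x // p x} (((rP hQ).rangeRestrict g : (rP hQ).range) : Perm _) = -1 := hg
    rw [h2] at hmem
    exact absurd hmem (by decide)
  have hidx : 2 ≤ ψ.ker.index := by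
    have h0 : ψ.ker.index ≠ 0 := Subgroup.index_ne_zero_of_finite
    have h1 : ψ.ker.index ≠ 1 := fun h => hne (Subgroup.index_eq_one.mp h)
    omega
  have hmul := Subgroup.card_mul_index ψ.ker
  rw [Nat.card_prod] at hmul
  have hQle : Nat.card Q ≤ Nat.card ψ.ker :=
    calc Nat.card Q = Nat.card ι.range := Nat.card_congr (MonoidHom.ofInjective hinj).toEquiv
      _ ≤ Nat.card ψ.ker := Subgroup.card_le_of_le hle
  calc 2 * Nat.card Q ≤ ψ.ker.index * Nat.card ψ.ker := Nat.mul_le_mul hidx hQle
    _ = Nat.card (rP hQ).range * Nat.card (rN hQ).range := by rw [mul_comm]; exact hmul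

/-- Main bound: a nilpotent group of even permutations of `n` points has order at most
`B n / 2`. -/
theorem alt_nil_bound :
    ∀ (n : ℕ) (β : Type u) [Finite β] (N : Subgroup (Perm β)), Nat.card β = n →
      Group.IsNilpotent N → (∀ g ∈ N, sgn β g = 1) → 2 * Nat.card N ≤ B n := by
  have nb : ∀ (n : ℕ) (β : Type u) [Finite β] (N : Subgroup (Perm β)), Nat.card β = n →
      Group.IsNilpotent N → Nat.card N ≤ F n := nil_bound F_mul_le prime_pow_le_F
  intro n
  induction n using Nat.strong_induction_on with
  | _ n ih =>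
  intro β _ N hcard hN hev
  by_cases hbot : N = ⊥
  · rw [hbot, Subgroup.card_bot]; simpa using two_le_B n
  by_cases htr : ∀ x y : β, ∃ g ∈ N, g x = y
  · -- transitive case
    obtain ⟨g0, hg01⟩ := (Subgroup.ne_bot_iff_exists_ne_one).mp hbot
    have hg01' : (g0 : Perm β) ≠ 1 := fun hh => hg01 (Subtype.ext hh)
    obtain ⟨x, hx⟩ : ∃ x, (g0 : Perm β) x ≠ x := by
      by_contra hcon
      push Not at hcon
      exact hg01' (Equiv.ext hcon)
    have hN1 : Nat.card N ≠ 1 := by
      intro h1
      exact hbot ((Subgroup.card_eq_one).mp h1)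
    obtain ⟨p, hp, hpd⟩ := Nat.exists_prime_and_dvd hN1
    haveI : Fact p.Prime := ⟨hp⟩
    obtain ⟨S⟩ : Nonempty (Sylow p N) := inferInstance
    have hd : PData N ((S : Subgroup N).map N.subtype) p := pdata_of_sylow N hN p S
    set P := (S : Subgroup N).map N.subtype with hPdef
    have hcardP : Nat.card P = Nat.card S :=
      Subgroup.card_map_of_injective (Subgroup.subtype_injective N)
    have hPG : IsPGroup p P := isPGroup_of_pdata hd
    have hSne : Nat.card S ≠ 1 := by
      intro h1
      have h2 := S.card_eq_multiplicity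
      rw [h1] at h2
      have h3 : (Nat.card N).factorization p = 0 := by
        by_contra hne
        have : 1 < p ^ (Nat.card N).factorization p := Nat.one_lt_pow hne hp.one_lt
        omega
      have h4 : 0 < (Nat.card N).factorization p :=
        hp.factorization_pos_of_dvd Nat.card_pos.ne' hpd
      omega
    have hab : n = Nat.card (orbit P x) * Nat.card (orbitRel.Quotient P β) := by
      rw [← hcard]; exact card_quot hd htr x
    have hbpos : 0 < Nat.card (orbitRel.Quotient P β) := by
      haveI : Nonempty (orbitRel.Quotient P β) := ⟨Quotient.mk'' x⟩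
      exact Nat.card_pos
    have ha2 : 2 ≤ Nat.card (orbit P x) := by
      by_contra hlt
      have hpos : 0 < Nat.card (orbit P x) := by
        haveI : Nonempty (orbit P x) := ⟨⟨x, mem_orbit_self x⟩⟩
        exact Nat.card_pos
      have h1 : Nat.card (orbit P x) = 1 := by omega
      have hsub : Subsingleton (orbit P x) := (Nat.card_eq_one_iff_unique.mp h1).1
      have hP1 : ∀ u ∈ P, u = 1 := by
        intro u hu
        apply faithful_on_orbit hd htr u hu x
        intro y hy
        have h2 : (u y) ∈ orbit P x := by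
          obtain ⟨w, hw, rfl⟩ := mem_orbit.mp hy
          exact mem_orbit.mpr ⟨u * w, P.mul_mem hu hw, rfl⟩
        have h3 := hsub.elim ⟨u y, h2⟩ ⟨y, hy⟩
        exact congrArg Subtype.val h3
      have hPbot : P = ⊥ := (Subgroup.eq_bot_iff_forall _).mpr hP1
      rw [hPbot, Subgroup.card_bot] at hcardP
      exact hSne hcardP.symm
    have hle : Nat.card N ≤ Nat.card P * Nat.card (qhom hd).range := card_le_qhom hd hp
    by_cases hb : Nat.card (orbitRel.Quotient P β) = 1
    · -- `N = P` is a `p`-group
      have hsub : Subsingleton (orbitRel.Quotient P β) := (Nat.card_eq_one_iff_unique.mp hb).1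
      have hNP : N ≤ P := by
        intro g hg
        apply orbKer_le_P hd hp
        refine ⟨hg, fun y => ?_⟩
        have h1 : (Quotient.mk'' (g y) : orbitRel.Quotient P β) = Quotient.mk'' y :=
          hsub.elim _ _
        exact Quotient.exact' h1
      have hNeq : N = P := le_antisymm hNP hd.le
      have hNPG : IsPGroup p N := by rw [hNeq]; exact hPG
      obtain ⟨j, hj⟩ := (IsPGroup.iff_card).mp hNPG
      obtain ⟨k, hk⟩ := hPG.card_orbit (α := β) x
      have hnk : n = p ^ k := by rw [hab, hb, mul_one]; exact hk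
      have hdvd : p ^ j ∣ (p ^ k).factorial := by
        rw [← hj, ← hnk, ← hcard, ← Nat.card_perm]
        exact Subgroup.card_subgroup_dvd_card N
      have hjle : j ≤ padicValNat p (p ^ k).factorial :=
        (padicValNat_dvd_iff_le (Nat.factorial_ne_zero _)).mp hdvd
      by_cases hp2 : p = 2
      · have h2n : 2 ≤ Nat.card β := by rw [hcard, hab, hb, mul_one]; exact ha2
        have hle' : N ≤ Alt β := fun g hg => mem_Alt.mpr (hev g hg)
        have hdv := Subgroup.card_dvd_of_le hle'
        have h3 : 2 * Nat.card N ∣ (Nat.card β).factorial := by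
          rw [← card_Alt h2n]; exact Nat.mul_dvd_mul_left 2 hdv
        rw [hj, hp2, ← pow_succ'] at h3
        have h4 := le_v_of_dvd h3
        calc 2 * Nat.card N = 2 ^ (j + 1) := by rw [hj, hp2, pow_succ']
          _ ≤ 2 ^ v n := by rw [← hcard]; exact Nat.pow_le_pow_right (by norm_num) h4
          _ ≤ F n := two_pow_v_le_F n
          _ ≤ B n := F_le_B n
      · calc 2 * Nat.card N = 2 * p ^ j := by rw [hj]
          _ ≤ 2 * p ^ padicValNat p (p ^ k).factorial :=
              Nat.mul_le_mul_left _ (Nat.pow_le_pow_right hp.pos hjle)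
          _ ≤ B (p ^ k) := two_prime_pow_le_B p hp hp2 k
          _ = B n := by rw [hnk]
    · have hb2 : 2 ≤ Nat.card (orbitRel.Quotient P β) := by omega
      have hP_le : Nat.card P ≤ F (Nat.card (orbit P x)) := by
        have hinj : Function.Injective (rP (le_stabP_orbit P x)) := by
          rw [injective_iff_map_eq_one]
          intro u hu
          apply Subtype.ext
          apply faithful_on_orbit hd htr u.1 u.2 x
          intro y hy
          have h1 := congrArg (fun e : Perm {z // z ∈ orbit P x} =>
            ((e ⟨y, hy⟩ : {z // z ∈ orbit P x}) : β)) hu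
          simpa using h1
        rw [Nat.card_congr (MonoidHom.ofInjective hinj).toEquiv]
        haveI : Group.IsNilpotent P := hPG.isNilpotent
        exact nb _ {z // z ∈ orbit P x} (rP (le_stabP_orbit P x)).range rfl
          (Group.nilpotent_of_surjective (rP (le_stabP_orbit P x)).rangeRestrict
            (rP (le_stabP_orbit P x)).rangeRestrict_surjective)
      have hQ_le : Nat.card (qhom hd).range ≤ F (Nat.card (orbitRel.Quotient P β)) := by
        haveI : Group.IsNilpotent N := hN
        exact nb _ (orbitRel.Quotient P β) (qhom hd).range rfl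
          (Group.nilpotent_of_surjective (qhom hd).rangeRestrict (qhom hd).rangeRestrict_surjective)
      calc 2 * Nat.card N ≤ 2 * (Nat.card P * Nat.card (qhom hd).range) :=
            Nat.mul_le_mul_left _ hle
        _ ≤ 2 * (F (Nat.card (orbit P x)) * F (Nat.card (orbitRel.Quotient P β))) :=
            Nat.mul_le_mul_left _ (Nat.mul_le_mul hP_le hQ_le)
        _ ≤ B (Nat.card (orbit P x) * Nat.card (orbitRel.Quotient P β)) :=
            two_F_mul_le_B _ _ ha2 hb2
        _ = B n := by rw [← hab]
  · -- intransitive case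
    push Not at htr
    obtain ⟨x, y, hxy⟩ := htr
    have hQ := le_stabP_orbit N x
    have h1 := card_le_mul hQ
    have h2 := card_add_card_not (α := β) (fun z => z ∈ orbit N x)
    have hn1 : 0 < Nat.card {z // z ∈ orbit N x} := by
      haveI : Nonempty {z // z ∈ orbit N x} := ⟨⟨x, mem_orbit_self x⟩⟩
      exact Nat.card_pos
    have hn2 : 0 < Nat.card {z // ¬ z ∈ orbit N x} := by
      haveI : Nonempty {z // ¬ z ∈ orbit N x} := ⟨⟨y, fun hy => by
        obtain ⟨g, hg, hgy⟩ := mem_orbit.mp hy
        exact hxy g hg hgy⟩⟩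
      exact Nat.card_pos
    haveI : Group.IsNilpotent N := hN
    have nilA : Group.IsNilpotent (rP hQ).range :=
      Group.nilpotent_of_surjective (rP hQ).rangeRestrict (rP hQ).rangeRestrict_surjective
    have nilB : Group.IsNilpotent (rN hQ).range :=
      Group.nilpotent_of_surjective (rN hQ).rangeRestrict (rN hQ).rangeRestrict_surjective
    by_cases hodd : ∃ g : N, sgn {z // z ∈ orbit N x} (rP hQ g) = -1
    · have h3 := two_mul_card_le hQ hev hodd
      have hA : Nat.card (rP hQ).range ≤ F (Nat.card {z // z ∈ orbit N x}) :=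
        nb _ {z // z ∈ orbit N x} (rP hQ).range rfl nilA
      have hB' : Nat.card (rN hQ).range ≤ F (Nat.card {z // ¬ z ∈ orbit N x}) :=
        nb _ {z // ¬ z ∈ orbit N x} (rN hQ).range rfl nilB
      calc 2 * Nat.card N ≤ Nat.card (rP hQ).range * Nat.card (rN hQ).range := h3
        _ ≤ F (Nat.card {z // z ∈ orbit N x}) * F (Nat.card {z // ¬ z ∈ orbit N x}) :=
            Nat.mul_le_mul hA hB'
        _ ≤ F (Nat.card {z // z ∈ orbit N x} + Nat.card {z // ¬ z ∈ orbit N x}) := F_mul_le _ _
        _ = F n := by rw [h2, hcard]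
        _ ≤ B n := F_le_B n
    · push Not at hodd
      have evA : ∀ g ∈ (rP hQ).range, sgn {z // z ∈ orbit N x} g = 1 := by
        rintro _ ⟨q, rfl⟩
        rcases sgn_cases (rP hQ q) with h | h
        · exact h
        · exact absurd h (hodd q)
      have evB : ∀ g ∈ (rN hQ).range, sgn {z // ¬ z ∈ orbit N x} g = 1 := by
        rintro _ ⟨q, rfl⟩
        have h4 := sgn_res_mul (Subgroup.inclusion hQ q)
        have h5 : sgn β ((Subgroup.inclusion hQ q : stabP (fun z => z ∈ orbit N x)) : Perm β)
            = 1 := hev q.1 q.2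
        rw [h5] at h4
        have h6 : sgn {z // z ∈ orbit N x}
            (resP (fun z => z ∈ orbit N x) (Subgroup.inclusion hQ q)) = 1 := evA _ ⟨q, rfl⟩
        rw [h6, one_mul] at h4
        exact h4.symm
      have hA := ih _ (by omega) {z // z ∈ orbit N x} (rP hQ).range rfl nilA evA
      have hB' := ih _ (by omega) {z // ¬ z ∈ orbit N x} (rN hQ).range rfl nilB evB
      have h6 := B_mul_le _ _ hn1 hn2
      have h7 : 2 * (2 * Nat.card N) ≤ 2 * B n := by
        calc 2 * (2 * Nat.card N)
            ≤ 2 * (2 * (Nat.card (rP hQ).range * Nat.card (rN hQ).range)) :=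
              Nat.mul_le_mul_left _ (Nat.mul_le_mul_left _ h1)
          _ = (2 * Nat.card (rP hQ).range) * (2 * Nat.card (rN hQ).range) := by ring
          _ ≤ B (Nat.card {z // z ∈ orbit N x}) * B (Nat.card {z // ¬ z ∈ orbit N x}) :=
              Nat.mul_le_mul hA hB'
          _ ≤ 2 * B (Nat.card {z // z ∈ orbit N x} + Nat.card {z // ¬ z ∈ orbit N x}) := h6
          _ = 2 * B n := by rw [h2, hcard]
      omega

/-- the bound for subgroups of `alternatingGroup (Fin n)`. -/
theorem alt_bound_fin (n : ℕ) (N : Subgroup (alternatingGroup (Fin n)))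
    (hN : Group.IsNilpotent N) : 2 * Nat.card N ≤ B n := by
  have hinj : Function.Injective (alternatingGroup (Fin n)).subtype :=
    Subgroup.subtype_injective _
  have hcard : Nat.card (N.map (alternatingGroup (Fin n)).subtype) = Nat.card N :=
    Subgroup.card_map_of_injective hinj
  have e : N ≃* N.map (alternatingGroup (Fin n)).subtype := N.equivMapOfInjective _ hinj
  haveI := hN
  have hN' : Group.IsNilpotent (N.map (alternatingGroup (Fin n)).subtype) :=
    Group.nilpotent_of_surjective e.toMonoidHom e.surjective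
  have hev : ∀ g ∈ N.map (alternatingGroup (Fin n)).subtype, sgn (Fin n) g = 1 := by
    rintro _ ⟨a, -, rfl⟩
    rw [sgn_eq]
    exact Equiv.Perm.mem_alternatingGroup.mp a.2
  have h := alt_nil_bound.{0} n (Fin n) (N.map (alternatingGroup (Fin n)).subtype) (by simp)
    hN' hev
  rwa [hcard] at h

end Cfsg.Agent.helper21.AltNil
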