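import Mathlib
import Cfsg.Agent.Lib_helper21_AltNil

set_option autoImplicit false
set_option linter.style.haveILetI false

/-! Corollaries of the bound on nilpotent subgroups of alternating groups, in the form needed
for `n ≡ 3 (mod 4)`. -/

namespace Cfsg.Agent.helper21.AltNil

open Equiv Cfsg.Agent.helper21.SylPerm Cfsg.Agent.helper9.Nil

/-- order of a Sylow `2`-subgroup of `A_m`, `m ≥ 2`. -/
theorem two_mul_card_sylow_alt (m : ℕ) (hm : 2 ≤ m) (P : Sylow 2 (alternatingGroup (Fin m))) :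
    2 * Nat.card P = 2 ^ v m := by
  haveI : Nontrivial (Fin m) := Fin.nontrivial_iff_two_le.mpr hm
  have hA : 2 * Nat.card (alternatingGroup (Fin m)) = m.factorial := by
    rw [two_mul_nat_card_alternatingGroup, Nat.card_perm, Nat.card_eq_fintype_card,
      Fintype.card_fin]
  have hc : Nat.card (alternatingGroup (Fin m)) ≠ 0 := Nat.card_pos.ne'
  have hv : v m = (Nat.card (alternatingGroup (Fin m))).factorization 2 + 1 := by
    unfold v
    rw [← Nat.factorization_def _ Nat.prime_two, ← hA,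
      Nat.factorization_mul (by norm_num) hc, Finsupp.add_apply,
      Nat.Prime.factorization_self Nat.prime_two, add_comm]
  rw [P.card_eq_multiplicity, hv, pow_succ']

/-- nilpotent subgroups of `A_n`, `n ≡ 3 (mod 4)`, `n ≥ 7`: `2 |N| ≤ 3 * 2 ^ v (n - 3)`. -/
theorem alt_bound_mod3 (n : ℕ) (hn : n % 4 = 3) (h7 : 7 ≤ n)
    (N : Subgroup (alternatingGroup (Fin n))) (hN : Group.IsNilpotent N) :
    2 * Nat.card N ≤ 3 * 2 ^ v (n - 3) := by
  have key := alt_bound_fin n N hN
  rwa [B_eq_F (by omega) (by omega) (by omega) (by omega) (by omega), F_of_mod n hn] at key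

/-- nilpotent subgroups of `A_n`, `n ≡ 3 (mod 4)`, `n ≥ 7`, have order at most three times the
order of a Sylow `2`-subgroup of `A_{n-3}`. -/
theorem alt_bound_mod3' (n : ℕ) (hn : n % 4 = 3) (h7 : 7 ≤ n)
    (P : Sylow 2 (alternatingGroup (Fin (n - 3))))
    (N : Subgroup (alternatingGroup (Fin n))) (hN : Group.IsNilpotent N) :
    Nat.card N ≤ 3 * Nat.card P := by
  have h1 := alt_bound_mod3 n hn h7 N hN
  have h2 := two_mul_card_sylow_alt (n - 3) (by omega) P
  rw [← h2] at h1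
  omega

/-- nilpotent subgroups of `A_n`, `n ≢ 3 (mod 4)`, `n ∉ {5, 6, 9}`, `n ≥ 2`:
`2 |N| ≤ 2 ^ v n`. -/
theorem alt_bound_not_mod3 (n : ℕ) (hn : n % 4 ≠ 3) (h2 : 2 ≤ n) (h5 : n ≠ 5) (h6 : n ≠ 6)
    (h9 : n ≠ 9) (N : Subgroup (alternatingGroup (Fin n))) (hN : Group.IsNilpotent N) :
    2 * Nat.card N ≤ 2 ^ v n := by
  have key := alt_bound_fin n N hN
  rwa [B_eq_F h2 (by omega) h5 h6 h9, F_of_not_mod n hn] at key

end Cfsg.Agent.helper21.AltNil
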