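import Mathlib

set_option autoImplicit false
set_option linter.style.haveILetI false

/-!
Equal class-size sets + disconnected prime graph force equal orders (helper21).
-/

namespace Cfsg.Agent.helper21.CS

/-- all prime factors of `n` lie in `S` -/
def IsNum (S : Set ℕ) (n : ℕ) : Prop := ∀ p : ℕ, p.Prime → p ∣ n → p ∈ S

theorem IsNum.of_dvd {S : Set ℕ} {m n : ℕ} (h : IsNum S n) (hd : m ∣ n) : IsNum S m :=
  fun p hp hpm => h p hp (hpm.trans hd)

theorem eq_one_of_isNum_both {S : Set ℕ} {n : ℕ} (h1 : IsNum S n) (h2 : IsNum Sᶜ n) : n = 1 := by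
  by_contra hne
  obtain ⟨p, hp, hpn⟩ := Nat.exists_prime_and_dvd hne
  exact h2 p hp hpn (h1 p hp hpn)

/-- centralizer of an element -/
abbrev Cz {G : Type*} [Group G] (g : G) : Subgroup G := Subgroup.centralizer ({g} : Set G)

/-- the quotient `|C_G(g)| / t` -/
noncomputable def cc {G : Type*} [Group G] (t : ℕ) (g : G) : ℕ := Nat.card (Cz g) / t

/-- the abstract hypothesis on centralizer orders -/
structure Hyp (G : Type*) [Group G] (A : Set ℕ) (t μ : ℕ) : Prop where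
  card : Nat.card G = t * μ
  cent : ∀ g : G, g ≠ 1 → Nat.card (Cz g) = t * cc t g ∧ 1 < cc t g ∧ cc t g ∣ μ ∧
    (IsNum A (cc t g) ∨ IsNum Aᶜ (cc t g))

section grp
variable {G : Type*} [Group G]

theorem mem_Cz {g x : G} : x ∈ Cz g ↔ g * x = x * g := by
  unfold Cz
  rw [Subgroup.mem_centralizer_iff]
  constructor
  · intro h; exact h g (Set.mem_singleton g)
  · intro h y hy
    rw [Set.mem_singleton_iff] at hy
    rw [hy]; exact h

theorem Cz_le_pow (g : G) (k : ℕ) : Cz g ≤ Cz (g ^ k) := by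
  intro x hx
  rw [mem_Cz] at hx ⊢
  exact (Commute.pow_left (show Commute g x from hx) k).eq

theorem card_Cz_conj [Finite G] (x g : G) : Nat.card (Cz (x * g * x⁻¹)) = Nat.card (Cz g) := by
  have : Cz (x * g * x⁻¹) = (Cz g).map (MulAut.conj x).toMonoidHom := by
    ext z
    rw [Subgroup.mem_map, mem_Cz]
    constructor
    · intro hz
      refine ⟨x⁻¹ * z * x, ?_, ?_⟩
      · rw [mem_Cz]
        have h2 : x⁻¹ * (x * g * x⁻¹ * z) * x = x⁻¹ * (z * (x * g * x⁻¹)) * x := by rw [hz]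
        calc g * (x⁻¹ * z * x) = x⁻¹ * (x * g * x⁻¹ * z) * x := by group
          _ = x⁻¹ * (z * (x * g * x⁻¹)) * x := h2
          _ = x⁻¹ * z * x * g := by group
      · show x * (x⁻¹ * z * x) * x⁻¹ = z
        group
    · rintro ⟨y, hy, rfl⟩
      rw [mem_Cz] at hy
      show x * g * x⁻¹ * (x * y * x⁻¹) = x * y * x⁻¹ * (x * g * x⁻¹)
      calc x * g * x⁻¹ * (x * y * x⁻¹) = x * (g * y) * x⁻¹ := by group
        _ = x * (y * g) * x⁻¹ := by rw [hy]
        _ = x * y * x⁻¹ * (x * g * x⁻¹) := by group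
  rw [this]
  exact Subgroup.card_map_of_injective (MulAut.conj x).injective

theorem exists_pSub [Finite G] (p : ℕ) [Fact p.Prime] (H : Subgroup G) :
    ∃ R : Subgroup G, R ≤ H ∧ IsPGroup p R ∧ Nat.card R = p ^ (Nat.card H).factorization p := by
  obtain ⟨R0⟩ : Nonempty (Sylow p H) := inferInstance
  refine ⟨(R0 : Subgroup H).map H.subtype, Subgroup.map_subtype_le _, ?_, ?_⟩
  · exact R0.isPGroup'.map H.subtype
  · rw [Subgroup.card_map_of_injective H.subtype_injective]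
    exact R0.card_eq_multiplicity

theorem exists_central_in_normal {N : Type*} [Group N] [Finite N] {p : ℕ} [Fact p.Prime]
    (hN : IsPGroup p N) (K : Subgroup N) [K.Normal] (hK : K ≠ ⊥) :
    ∃ r ∈ K, r ≠ 1 ∧ ∀ m : N, m * r = r * m := by
  have hpK : p ∣ Nat.card K := by
    have hKp : IsPGroup p K := hN.to_subgroup K
    obtain ⟨n, hn⟩ := IsPGroup.iff_card.mp hKp
    have hn0 : n ≠ 0 := by
      rintro rfl
      rw [pow_zero] at hn
      exact hK (Subgroup.card_eq_one.mp hn)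
    rw [hn]; exact dvd_pow_self p hn0
  have hC : IsPGroup p (ConjAct N) := hN.of_equiv ConjAct.toConjAct
  have h1 : (1 : K) ∈ MulAction.fixedPoints (ConjAct N) K := by
    intro g; exact smul_one g
  obtain ⟨b, hb, hb1⟩ := hC.exists_fixed_point_of_prime_dvd_card_of_fixed_point K hpK h1
  refine ⟨(b : N), b.2, ?_, ?_⟩
  · intro h; apply hb1; exact (Subtype.ext h).symm
  · intro m
    have h2 := congrArg Subtype.val (hb (ConjAct.toConjAct m))
    rw [ConjAct.Subgroup.val_conj_smul, ConjAct.toConjAct_smul] at h2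
    calc m * (b : N) = m * b * m⁻¹ * m := by group
      _ = b * m := by rw [h2]

theorem exists_sylow_central [Finite G] (q : ℕ) [Fact q.Prime] (hq : q ∣ Nat.card G)
    (Q : Sylow q G) :
    ∃ w : G, w ∈ Q ∧ w ≠ 1 ∧ (∃ k : ℕ, orderOf w = q ^ k) ∧ ∀ x ∈ Q, w * x = x * w := by
  have hqp : q.Prime := Fact.out
  have hQ : IsPGroup q (Q : Subgroup G) := Q.isPGroup'
  have hcard : Nat.card (Q : Subgroup G) = q ^ (Nat.card G).factorization q :=
    Q.card_eq_multiplicity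
  have hpos : 0 < (Nat.card G).factorization q :=
    hqp.factorization_pos_of_dvd Nat.card_pos.ne' hq
  have hne : (⊤ : Subgroup (Q : Subgroup G)) ≠ ⊥ := by
    intro hb
    have h1 : Nat.card (⊤ : Subgroup (Q : Subgroup G)) = 1 := by rw [hb]; exact Subgroup.card_bot
    rw [Subgroup.card_top, hcard] at h1
    have : 1 < q ^ (Nat.card G).factorization q := Nat.one_lt_pow hpos.ne' hqp.one_lt
    omega
  obtain ⟨r, -, hr1, hrc⟩ := exists_central_in_normal hQ (⊤ : Subgroup (Q : Subgroup G)) hne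
  refine ⟨(r : G), r.2, ?_, ?_, ?_⟩
  · intro h; exact hr1 (Subtype.ext h)
  · obtain ⟨k, hk⟩ := (IsPGroup.iff_orderOf.mp hQ) r
    exact ⟨k, by rw [← hk]; exact Subgroup.orderOf_coe r⟩
  · intro x hx
    have h2 := congrArg Subtype.val (hrc ⟨x, hx⟩)
    simpa using h2.symm

variable [Finite G] {A : Set ℕ} {t μ : ℕ}

theorem Hyp.t_pos (H : Hyp G A t μ) : 0 < t := by
  have h0 : 0 < Nat.card G := Nat.card_pos
  rw [H.card] at h0
  rcases Nat.eq_zero_or_pos t with h | h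
  · rw [h, zero_mul] at h0; exact absurd h0 (lt_irrefl 0)
  · exact h

theorem Hyp.μ_pos (H : Hyp G A t μ) : 0 < μ := by
  have h0 : 0 < Nat.card G := Nat.card_pos
  rw [H.card] at h0
  rcases Nat.eq_zero_or_pos μ with h | h
  · rw [h, mul_zero] at h0; exact absurd h0 (lt_irrefl 0)
  · exact h

omit [Finite G] in
theorem Hyp.compl (H : Hyp G A t μ) : Hyp G Aᶜ t μ where
  card := H.card
  cent := fun g hg => by
    obtain ⟨h1, h2, h3, h4⟩ := H.cent g hg
    refine ⟨h1, h2, h3, ?_⟩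
    rcases h4 with h4 | h4
    · right; rwa [compl_compl]
    · left; exact h4

theorem Hyp.cc_dvd_pow (H : Hyp G A t μ) {g : G} (hg : g ≠ 1) (k : ℕ) (hk : g ^ k ≠ 1) :
    cc t g ∣ cc t (g ^ k) := by
  have h1 := (H.cent g hg).1
  have h2 := (H.cent _ hk).1
  have hd : Nat.card (Cz g) ∣ Nat.card (Cz (g ^ k)) := Subgroup.card_dvd_of_le (Cz_le_pow g k)
  rw [h1, h2] at hd
  exact Nat.dvd_of_mul_dvd_mul_left H.t_pos hd

omit [Finite G] in
theorem Hyp.not_both (H : Hyp G A t μ) {g : G} (hg : g ≠ 1) (hA : IsNum A (cc t g))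
    (hB : IsNum Aᶜ (cc t g)) : False := by
  have h1 := eq_one_of_isNum_both hA hB
  have h2 := (H.cent g hg).2.1
  omega

theorem Hyp.kindB_pow (H : Hyp G A t μ) {g : G} (hg : g ≠ 1) (k : ℕ) (hk : g ^ k ≠ 1)
    (hB : IsNum Aᶜ (cc t g)) : IsNum Aᶜ (cc t (g ^ k)) := by
  rcases (H.cent _ hk).2.2.2 with hA | hB'
  · exfalso
    exact H.not_both hg (hA.of_dvd (H.cc_dvd_pow hg k hk)) hB
  · exact hB'

theorem Hyp.kindA_pow (H : Hyp G A t μ) {g : G} (hg : g ≠ 1) (k : ℕ) (hk : g ^ k ≠ 1)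
    (hA : IsNum A (cc t g)) : IsNum A (cc t (g ^ k)) := by
  have h := H.compl.kindB_pow hg k hk (by rwa [compl_compl])
  rwa [compl_compl] at h

theorem Hyp.no_coprime (H : Hyp G A t μ) {g h : G} (hg : g ≠ 1) (hh : h ≠ 1) (hc : Commute g h)
    (hB : IsNum Aᶜ (cc t g)) (hA : IsNum A (cc t h))
    (hco : (orderOf g).Coprime (orderOf h)) : False := by
  have hm1 : orderOf g ≠ 1 := fun h1 => hg (orderOf_eq_one_iff.mp h1)
  have hn1 : orderOf h ≠ 1 := fun h1 => hh (orderOf_eq_one_iff.mp h1)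
  have hyn : (g * h) ^ orderOf h = g ^ orderOf h := by
    rw [hc.mul_pow, pow_orderOf_eq_one, mul_one]
  have hym : (g * h) ^ orderOf g = h ^ orderOf g := by
    rw [hc.mul_pow, pow_orderOf_eq_one, one_mul]
  have hgn : g ^ orderOf h ≠ 1 := by
    intro h1
    exact hm1 (hco.eq_one_of_dvd (orderOf_dvd_of_pow_eq_one h1))
  have hhm : h ^ orderOf g ≠ 1 := by
    intro h1
    exact hn1 (hco.symm.eq_one_of_dvd (orderOf_dvd_of_pow_eq_one h1))
  have hy : g * h ≠ 1 := by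
    intro h1
    rw [h1, one_pow] at hyn
    exact hgn hyn.symm
  have hyn1 : (g * h) ^ orderOf h ≠ 1 := by rw [hyn]; exact hgn
  have hym1 : (g * h) ^ orderOf g ≠ 1 := by rw [hym]; exact hhm
  have k1 : IsNum Aᶜ (cc t ((g * h) ^ orderOf h)) := by
    rw [hyn]; exact H.kindB_pow hg _ hgn hB
  have k2 : IsNum A (cc t ((g * h) ^ orderOf g)) := by
    rw [hym]; exact H.kindA_pow hh _ hhm hA
  rcases (H.cent _ hy).2.2.2 with hyA | hyB
  · exact H.not_both hyn1 (H.kindA_pow hy _ hyn1 hyA) k1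
  · exact H.not_both hym1 k2 (H.kindB_pow hy _ hym1 hyB)

theorem Hyp.kindB_of_sylow_center (H : Hyp G A t μ) {q : ℕ} [Fact q.Prime] (hqμ : q ∣ μ)
    (hqA : q ∉ A) (Q : Sylow q G) {w : G} (hw1 : w ≠ 1) (hwc : ∀ x ∈ Q, w * x = x * w) :
    IsNum Aᶜ (cc t w) := by
  have hq : q.Prime := Fact.out
  obtain ⟨h1, h2, h3, h4⟩ := H.cent w hw1
  rcases h4 with hA | hB
  · exfalso
    have hle : (Q : Subgroup G) ≤ Cz w := fun x hx => mem_Cz.mpr (hwc x hx)
    have hd : Nat.card (Q : Subgroup G) ∣ Nat.card (Cz w) := Subgroup.card_dvd_of_le hle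
    rw [show Nat.card (Q : Subgroup G) = _ from Q.card_eq_multiplicity, H.card, h1] at hd
    have hqc : ¬ q ∣ cc t w := fun hd' => hqA (hA q hq hd')
    have hcop : Nat.Coprime (q ^ (t * μ).factorization q) (cc t w) :=
      Nat.Coprime.pow_left _ ((Nat.Prime.coprime_iff_not_dvd hq).mpr hqc)
    have hdt : q ^ (t * μ).factorization q ∣ t := hcop.dvd_of_dvd_mul_right hd
    have ht0 : t ≠ 0 := H.t_pos.ne'
    have hμ0 : μ ≠ 0 := H.μ_pos.ne'
    rw [Nat.factorization_mul ht0 hμ0, Finsupp.add_apply] at hdt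
    have hpos : 0 < μ.factorization q := hq.factorization_pos_of_dvd hμ0 hqμ
    have h5 : q ^ (t.factorization q + 1) ∣ t := (pow_dvd_pow q (by omega)).trans hdt
    exact Nat.pow_succ_factorization_not_dvd ht0 hq h5
  · exact hB

theorem Hyp.primes_of_kindB (H : Hyp G A t μ) {p : ℕ} [Fact p.Prime] (hpt : p ∣ t)
    (hpμ : p ∣ μ) (hpA : p ∈ A) {g : G} (hg : g ≠ 1) (hB : IsNum Aᶜ (cc t g)) :
    ∀ q : ℕ, q.Prime → q ∣ orderOf g → q = p := by
  have hp : p.Prime := Fact.out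
  have ht0 : t ≠ 0 := H.t_pos.ne'
  obtain ⟨h1, h2, h3, -⟩ := H.cent g hg
  have hpc : ¬ p ∣ cc t g := fun hd => (hB p hp hd) hpA
  have hc0 : cc t g ≠ 0 := by omega
  obtain ⟨R, hRle, hRp, hRcard⟩ := exists_pSub p (Cz g)
  have hf : (Nat.card (Cz g)).factorization p = t.factorization p := by
    rw [h1, Nat.factorization_mul ht0 hc0, Finsupp.add_apply,
      Nat.factorization_eq_zero_of_not_dvd hpc, add_zero]
  rw [hf] at hRcard
  have hf1 : 0 < t.factorization p := hp.factorization_pos_of_dvd ht0 hpt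
  have hdvd : p ^ (t.factorization p + 1) ∣ Nat.card G := by
    rw [H.card, pow_succ]
    exact mul_dvd_mul (Nat.ordProj_dvd t p) hpμ
  obtain ⟨N, hNcard, hRN⟩ := Sylow.exists_subgroup_card_pow_succ hdvd hRcard
  have hNp : IsPGroup p N := IsPGroup.of_card hNcard
  have hcardK : Nat.card (R.subgroupOf N) = p ^ t.factorization p := by
    rw [Nat.card_congr (Subgroup.subgroupOfEquivOfLe hRN).toEquiv, hRcard]
  have hidx : (R.subgroupOf N).index = p := by
    have h := Subgroup.card_mul_index (R.subgroupOf N)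
    rw [hcardK, hNcard, pow_succ] at h
    exact Nat.eq_of_mul_eq_mul_left (pow_pos hp.pos _) h
  have hnorm : (R.subgroupOf N).Normal := by
    apply Subgroup.normal_of_index_eq_minFac_card
    rw [hidx, hNcard, hp.pow_minFac (Nat.succ_ne_zero _)]
  have hKne : R.subgroupOf N ≠ ⊥ := by
    intro hbot
    rw [hbot, Subgroup.card_bot] at hcardK
    have : 1 < p ^ t.factorization p := Nat.one_lt_pow hf1.ne' hp.one_lt
    omega
  haveI := hnorm
  obtain ⟨r, hrK, hr1, hrc⟩ := exists_central_in_normal hNp (R.subgroupOf N) hKne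
  have hrR : (r : G) ∈ R := Subgroup.mem_subgroupOf.mp hrK
  have hrG1 : (r : G) ≠ 1 := fun h => hr1 (Subtype.ext h)
  have hNle : N ≤ Cz (r : G) := by
    intro m hm
    rw [mem_Cz]
    have h2 := congrArg Subtype.val (hrc ⟨m, hm⟩)
    simpa using h2.symm
  obtain ⟨r1, r2, r3, r4⟩ := H.cent (r : G) hrG1
  have hrA : IsNum A (cc t (r : G)) := by
    rcases r4 with hA | hB'
    · exact hA
    · exfalso
      have hd : Nat.card N ∣ Nat.card (Cz (r : G)) := Subgroup.card_dvd_of_le hNle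
      rw [hNcard, r1] at hd
      have hpc' : ¬ p ∣ cc t (r : G) := fun hd' => (hB' p hp hd') hpA
      have hcop : Nat.Coprime (p ^ (t.factorization p + 1)) (cc t (r : G)) :=
        Nat.Coprime.pow_left _ ((Nat.Prime.coprime_iff_not_dvd hp).mpr hpc')
      exact Nat.pow_succ_factorization_not_dvd ht0 hp (hcop.dvd_of_dvd_mul_right hd)
  have hcomm : Commute g (r : G) := by
    have h5 := hRle hrR
    rw [mem_Cz] at h5
    exact h5
  obtain ⟨k, hk⟩ := (IsPGroup.iff_orderOf.mp hRp) ⟨(r : G), hrR⟩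
  have hk' : orderOf (r : G) = p ^ k := by
    rw [← hk]; exact (Subgroup.orderOf_mk _ _).symm
  intro q hq hqg
  by_contra hne
  have hg' : orderOf (g ^ (orderOf g / q)) = q :=
    orderOf_pow_orderOf_div (orderOf_pos g).ne' hqg
  have hg'1 : g ^ (orderOf g / q) ≠ 1 := by
    intro h1
    rw [h1, orderOf_one] at hg'
    exact hq.one_lt.ne hg'
  have hB'' : IsNum Aᶜ (cc t (g ^ (orderOf g / q))) := H.kindB_pow hg _ hg'1 hB
  refine H.no_coprime hg'1 hrG1 (hcomm.pow_left _) hB'' hrA ?_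
  rw [hg', hk']
  exact Nat.Coprime.pow_right _ ((Nat.coprime_primes hq hp).mpr hne)

theorem Hyp.main_case (H : Hyp G A t μ) {p : ℕ} (hp : p.Prime) (hpt : p ∣ t) (hpμ : p ∣ μ)
    (hpA : p ∈ A) {q : ℕ} (hq : q.Prime) (hqμ : q ∣ μ) (hqA : q ∉ A) : False := by
  haveI : Fact p.Prime := ⟨hp⟩
  haveI : Fact q.Prime := ⟨hq⟩
  have hqG : q ∣ Nat.card G := by rw [H.card]; exact hqμ.mul_left t
  obtain ⟨Q⟩ : Nonempty (Sylow q G) := inferInstance
  obtain ⟨w, hwQ, hw1, ⟨k, hk⟩, hwc⟩ := exists_sylow_central q hqG Q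
  have hB := H.kindB_of_sylow_center hqμ hqA Q hw1 hwc
  have hk0 : k ≠ 0 := by
    rintro rfl
    rw [pow_zero] at hk
    exact hw1 (orderOf_eq_one_iff.mp hk)
  have hqw : q ∣ orderOf w := by rw [hk]; exact dvd_pow_self q hk0
  have h5 := H.primes_of_kindB hpt hpμ hpA hw1 hB q hq hqw
  exact hqA (h5 ▸ hpA)

theorem Hyp.third_case (H : Hyp G A t μ) {p : ℕ} (hp : p.Prime) (hpt : p ∣ t) (hpμ : ¬ p ∣ μ)
    {q : ℕ} (hq : q.Prime) (hqμ : q ∣ μ) (hqA : q ∉ A)
    {q' : ℕ} (hq' : q'.Prime) (hq'μ : q' ∣ μ) (hq'A : q' ∈ A) : False := by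
  haveI : Fact p.Prime := ⟨hp⟩
  haveI : Fact q.Prime := ⟨hq⟩
  haveI : Fact q'.Prime := ⟨hq'⟩
  have ht0 : t ≠ 0 := H.t_pos.ne'
  have hμ0 : μ ≠ 0 := H.μ_pos.ne'
  have hqG : q ∣ Nat.card G := by rw [H.card]; exact hqμ.mul_left t
  have hq'G : q' ∣ Nat.card G := by rw [H.card]; exact hq'μ.mul_left t
  have hpG : p ∣ Nat.card G := by rw [H.card]; exact hpt.mul_right μ
  obtain ⟨Q⟩ : Nonempty (Sylow q G) := inferInstance
  obtain ⟨Q'⟩ : Nonempty (Sylow q' G) := inferInstance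
  obtain ⟨w, hwQ, hw1, ⟨k, hk⟩, hwc⟩ := exists_sylow_central q hqG Q
  obtain ⟨w', hw'Q, hw'1, ⟨k', hk'⟩, hw'c⟩ := exists_sylow_central q' hq'G Q'
  have hB := H.kindB_of_sylow_center hqμ hqA Q hw1 hwc
  have hA' : IsNum A (cc t w') := by
    have h5 := H.compl.kindB_of_sylow_center hq'μ (fun h => h hq'A) Q' hw'1 hw'c
    rwa [compl_compl] at h5
  have key : ∀ g : G, g ≠ 1 → ∃ P : Sylow p G, (P : Subgroup G) ≤ Cz g := by
    intro g hg
    obtain ⟨h1, h2, h3, -⟩ := H.cent g hg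
    obtain ⟨R, hRle, hRp, hRcard⟩ := exists_pSub p (Cz g)
    obtain ⟨P, hRP⟩ := hRp.exists_le_sylow
    have hpc : ¬ p ∣ cc t g := fun hd => hpμ (hd.trans h3)
    have hc0 : cc t g ≠ 0 := by omega
    have hcard : Nat.card R = Nat.card (P : Subgroup G) := by
      rw [hRcard, show Nat.card (P : Subgroup G) = _ from P.card_eq_multiplicity, H.card, h1,
        Nat.factorization_mul ht0 hc0, Nat.factorization_mul ht0 hμ0, Finsupp.add_apply,
        Finsupp.add_apply, Nat.factorization_eq_zero_of_not_dvd hpc,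
        Nat.factorization_eq_zero_of_not_dvd hpμ]
    have h5 : R = (P : Subgroup G) := Subgroup.eq_of_le_of_card_ge hRP hcard.ge
    exact ⟨P, h5 ▸ hRle⟩
  obtain ⟨P1, hP1⟩ := key w hw1
  obtain ⟨P2, hP2⟩ := key w' hw'1
  obtain ⟨x, hx⟩ := MulAction.exists_smul_eq G P2 P1
  have hmem : ∀ r ∈ (P1 : Subgroup G), ∃ s ∈ (P2 : Subgroup G), x * s * x⁻¹ = r := by
    intro r hr
    have hr' : r ∈ ((x • P2 : Sylow p G) : Subgroup G) := by rw [hx]; exact hr
    rw [Sylow.coe_subgroup_smul, Subgroup.mem_smul_pointwise_iff_exists] at hr'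
    obtain ⟨s, hs, hsr⟩ := hr'
    exact ⟨s, hs, by rw [← hsr]; rfl⟩
  obtain ⟨r, hrP, hr1, ⟨j, hj⟩, -⟩ := exists_sylow_central p hpG P1
  have hrw : Commute w r := by
    have h5 := hP1 hrP
    rw [mem_Cz] at h5
    exact h5
  obtain ⟨s, hs, hsr⟩ := hmem r hrP
  have hsw' : w' * s = s * w' := by
    have h5 := hP2 hs
    rw [mem_Cz] at h5
    exact h5
  have hrw'' : Commute (x * w' * x⁻¹) r := by
    show x * w' * x⁻¹ * r = r * (x * w' * x⁻¹)
    rw [← hsr]
    calc x * w' * x⁻¹ * (x * s * x⁻¹) = x * (w' * s) * x⁻¹ := by group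
      _ = x * (s * w') * x⁻¹ := by rw [hsw']
      _ = x * s * x⁻¹ * (x * w' * x⁻¹) := by group
  have hw''1 : x * w' * x⁻¹ ≠ 1 := by
    intro h
    apply hw'1
    have h5 : w' = x⁻¹ * (x * w' * x⁻¹) * x := by group
    rw [h5, h]; group
  have hccw'' : cc t (x * w' * x⁻¹) = cc t w' := by
    unfold cc; rw [card_Cz_conj]
  have hA'' : IsNum A (cc t (x * w' * x⁻¹)) := by rw [hccw'']; exact hA'
  have hordw'' : orderOf (x * w' * x⁻¹) = q' ^ k' := by
    have h5 := (MulAut.conj x).orderOf_eq w'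
    rw [MulAut.conj_apply] at h5
    rw [h5, hk']
  have hpq : p ≠ q := fun h => hpμ (h ▸ hqμ)
  have hpq' : p ≠ q' := fun h => hpμ (h ▸ hq'μ)
  rcases (H.cent r hr1).2.2.2 with hrA | hrB
  · refine H.no_coprime hw1 hr1 hrw hB hrA ?_
    rw [hk, hj]
    exact Nat.Coprime.pow _ _ ((Nat.coprime_primes hq hp).mpr (Ne.symm hpq))
  · refine H.no_coprime hr1 hw''1 hrw''.symm hrB hA'' ?_
    rw [hj, hordw'']
    exact Nat.Coprime.pow _ _ ((Nat.coprime_primes hp hq').mpr hpq')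

theorem Hyp.t_eq_one (H : Hyp G A t μ) {q : ℕ} (hq : q.Prime) (hqμ : q ∣ μ) (hqA : q ∉ A)
    {q' : ℕ} (hq' : q'.Prime) (hq'μ : q' ∣ μ) (hq'A : q' ∈ A) : t = 1 := by
  by_contra ht
  obtain ⟨p, hp, hpt⟩ := Nat.exists_prime_and_dvd ht
  by_cases hpμ : p ∣ μ
  · by_cases hpA : p ∈ A
    · exact H.main_case hp hpt hpμ hpA hq hqμ hqA
    · exact H.compl.main_case hp hpt hpμ hpA hq' hq'μ (fun h => h hq'A)
  · exact H.third_case hp hpt hpμ hq hqμ hqA hq' hq'μ hq'A

end grp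

section Mside
variable {M : Type*} [Group M] [Finite M] {A : Set ℕ}

theorem isNum_Cz_of_prime_order
    (hd : ∀ a ∈ A, ∀ b ∉ A, a.Prime → b.Prime → a ∣ Nat.card M → b ∣ Nat.card M →
      ¬ ∃ x : M, orderOf x = a * b)
    {x : M} {ℓ : ℕ} (hℓ : ℓ.Prime) (hx : orderOf x = ℓ) (hℓA : ℓ ∈ A) :
    IsNum A (Nat.card (Cz x)) := by
  intro q hq hqd
  by_contra hqA
  haveI : Fact q.Prime := ⟨hq⟩
  obtain ⟨⟨y, hy⟩, hyo⟩ := exists_prime_orderOf_dvd_card' q hqd
  have hyo' : orderOf y = q := by rw [← hyo]; exact (Subgroup.orderOf_mk y hy).symm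
  rw [mem_Cz] at hy
  have hne : ℓ ≠ q := fun h => hqA (h ▸ hℓA)
  have hco : (orderOf x).Coprime (orderOf y) := by
    rw [hx, hyo']; exact (Nat.coprime_primes hℓ hq).mpr hne
  have h5 := (show Commute x y from hy).orderOf_mul_eq_mul_orderOf_of_coprime hco
  rw [hx, hyo'] at h5
  refine hd ℓ hℓA q hqA hℓ hq ?_ ?_ ⟨x * y, h5⟩
  · rw [← hx]; exact orderOf_dvd_natCard x
  · exact hqd.trans (Subgroup.card_subgroup_dvd_card _)

omit [Finite M] in
theorem compl_hd
    (hd : ∀ a ∈ A, ∀ b ∉ A, a.Prime → b.Prime → a ∣ Nat.card M → b ∣ Nat.card M →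
      ¬ ∃ x : M, orderOf x = a * b) :
    ∀ a ∈ Aᶜ, ∀ b ∉ Aᶜ, a.Prime → b.Prime → a ∣ Nat.card M → b ∣ Nat.card M →
      ¬ ∃ x : M, orderOf x = a * b := by
  intro a ha b hb hap hbp ham hbm hz
  obtain ⟨z, hz⟩ := hz
  have hbA : b ∈ A := by
    by_contra h; exact hb h
  exact hd b hbA a ha hbp hap hbm ham ⟨z, by rw [hz, mul_comm]⟩

theorem isNum_Cz_of_ne_one
    (hd : ∀ a ∈ A, ∀ b ∉ A, a.Prime → b.Prime → a ∣ Nat.card M → b ∣ Nat.card M →
      ¬ ∃ x : M, orderOf x = a * b)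
    {x : M} (hx : x ≠ 1) :
    IsNum A (Nat.card (Cz x)) ∨ IsNum Aᶜ (Nat.card (Cz x)) := by
  have ho : orderOf x ≠ 1 := fun h => hx (orderOf_eq_one_iff.mp h)
  obtain ⟨ℓ, hℓ, hℓd⟩ := Nat.exists_prime_and_dvd ho
  have hx' : orderOf (x ^ (orderOf x / ℓ)) = ℓ :=
    orderOf_pow_orderOf_div (orderOf_pos x).ne' hℓd
  have hle : Nat.card (Cz x) ∣ Nat.card (Cz (x ^ (orderOf x / ℓ))) :=
    Subgroup.card_dvd_of_le (Cz_le_pow x _)
  by_cases hℓA : ℓ ∈ A
  · left; exact (isNum_Cz_of_prime_order hd hℓ hx' hℓA).of_dvd hle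
  · right
    exact (isNum_Cz_of_prime_order (compl_hd hd) hℓ hx' hℓA).of_dvd hle

end Mside

theorem main {G M : Type*} [Group G] [Finite G] [Group M] [Finite M]
    (hZG : Subgroup.center G = ⊥)
    (h : Set.range (fun g : G => (Cz g).index) = Set.range (fun g : M => (Cz g).index))
    (A : Set ℕ) {a0 : ℕ} (ha0A : a0 ∈ A) (ha0 : a0.Prime) (ha0M : a0 ∣ Nat.card M)
    {b0 : ℕ} (hb0A : b0 ∉ A) (hb0 : b0.Prime) (hb0M : b0 ∣ Nat.card M)
    (hd : ∀ a ∈ A, ∀ b ∉ A, a.Prime → b.Prime → a ∣ Nat.card M → b ∣ Nat.card M →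
      ¬ ∃ x : M, orderOf x = a * b) :
    Nat.card G = Nat.card M := by
  have hγ0 : Nat.card G ≠ 0 := Nat.card_pos.ne'
  have hμ0 : Nat.card M ≠ 0 := Nat.card_pos.ne'
  have idxG : ∀ x : M, ∃ g : G, (Cz g).index = (Cz x).index := by
    intro x
    have h5 : (Cz x).index ∈ Set.range (fun g : M => (Cz g).index) := ⟨x, rfl⟩
    rw [← h] at h5
    exact h5
  have idxM : ∀ g : G, ∃ x : M, (Cz x).index = (Cz g).index := by
    intro g
    have h5 : (Cz g).index ∈ Set.range (fun g : G => (Cz g).index) := ⟨g, rfl⟩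
    rw [h] at h5
    exact h5
  have part : ∀ (S : Set ℕ), (∀ a ∈ S, ∀ b ∉ S, a.Prime → b.Prime → a ∣ Nat.card M →
      b ∣ Nat.card M → ¬ ∃ x : M, orderOf x = a * b) →
      ∀ b1 : ℕ, b1 ∉ S → b1.Prime → b1 ∣ Nat.card M → ∀ p : ℕ, p.Prime → p ∈ S →
        p ^ (Nat.card M).factorization p ∣ Nat.card G := by
    intro S hS b1 hb1S hb1 hb1M p hp hpS
    haveI : Fact b1.Prime := ⟨hb1⟩
    obtain ⟨y, hy⟩ := exists_prime_orderOf_dvd_card' b1 hb1M
    have hy1 : y ≠ 1 := by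
      intro h1; rw [h1, orderOf_one] at hy; exact hb1.one_lt.ne hy
    have hnum : IsNum Sᶜ (Nat.card (Cz y)) := by
      rcases isNum_Cz_of_ne_one hS hy1 with hA | hB
      · exfalso
        have h5 : b1 ∣ Nat.card (Cz y) := by
          rw [← hy]
          have hyC : y ∈ Cz y := mem_Cz.mpr rfl
          have h6 := orderOf_dvd_natCard (⟨y, hyC⟩ : Cz y)
          rwa [Subgroup.orderOf_mk] at h6
        exact hb1S (hA b1 hb1 h5)
      · exact hB
    have hpc : ¬ p ∣ Nat.card (Cz y) := fun hd' => (hnum p hp hd') hpS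
    have hmul := Subgroup.card_mul_index (Cz y)
    have hdv : p ^ (Nat.card M).factorization p ∣ Nat.card (Cz y) * (Cz y).index := by
      rw [hmul]; exact Nat.ordProj_dvd (Nat.card M) p
    have hcop : Nat.Coprime (p ^ (Nat.card M).factorization p) (Nat.card (Cz y)) :=
      Nat.Coprime.pow_left _ ((Nat.Prime.coprime_iff_not_dvd hp).mpr hpc)
    have hdi : p ^ (Nat.card M).factorization p ∣ (Cz y).index := hcop.dvd_of_dvd_mul_left hdv
    obtain ⟨g, hg⟩ := idxG y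
    rw [← hg] at hdi
    exact hdi.trans (Subgroup.index_dvd_card (Cz g))
  have hdvd : Nat.card M ∣ Nat.card G := by
    rw [← Nat.factorization_prime_le_iff_dvd hμ0 hγ0]
    intro p hp
    by_cases hpμ : p ∣ Nat.card M
    · rw [← hp.pow_dvd_iff_le_factorization hγ0]
      by_cases hpA : p ∈ A
      · exact part A hd b0 hb0A hb0 hb0M p hp hpA
      · exact part Aᶜ (compl_hd hd) a0 (fun h5 => h5 ha0A) ha0 ha0M p hp hpA
    · rw [Nat.factorization_eq_zero_of_not_dvd hpμ]; exact Nat.zero_le _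
  obtain ⟨t, ht⟩ := hdvd
  have hcard : Nat.card G = t * Nat.card M := by rw [ht, mul_comm]
  have ht0 : 0 < t := by
    rcases Nat.eq_zero_or_pos t with h0 | h0
    · rw [h0, zero_mul] at hcard; exact absurd hcard hγ0
    · exact h0
  have H : Hyp G A t (Nat.card M) := by
    refine ⟨hcard, ?_⟩
    intro g hg
    obtain ⟨x, hx⟩ := idxM g
    have hidx1 : (Cz g).index ≠ 1 := by
      intro h1
      have htop : Cz g = ⊤ := Subgroup.index_eq_one.mp h1
      have h5 : g ∈ Subgroup.center G := by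
        rw [Subgroup.mem_center_iff]
        intro z
        have hz : z ∈ Cz g := by rw [htop]; exact Subgroup.mem_top z
        rw [mem_Cz] at hz
        exact hz.symm
      rw [hZG, Subgroup.mem_bot] at h5
      exact hg h5
    have hx1 : x ≠ 1 := by
      intro h1
      apply hidx1
      rw [← hx, h1]
      have h5 : Cz (1 : M) = ⊤ := by
        ext z; simp [mem_Cz]
      rw [h5, Subgroup.index_top]
    have e1 := Subgroup.card_mul_index (Cz g)
    have e2 := Subgroup.card_mul_index (Cz x)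
    have hidxpos : 0 < (Cz g).index := Nat.pos_of_ne_zero Subgroup.index_ne_zero_of_finite
    have hCg : Nat.card (Cz g) = t * Nat.card (Cz x) := by
      apply Nat.eq_of_mul_eq_mul_right hidxpos
      rw [e1, hcard, ← e2, hx, mul_assoc]
    have hcc : cc t g = Nat.card (Cz x) := by
      unfold cc; rw [hCg, Nat.mul_div_cancel_left _ ht0]
    refine ⟨by rw [hcc]; exact hCg, ?_, ?_, ?_⟩
    · rw [hcc]
      have hxC : x ∈ Cz x := mem_Cz.mpr rfl
      have h5 : Cz x ≠ ⊥ := by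
        intro hb
        rw [hb, Subgroup.mem_bot] at hxC
        exact hx1 hxC
      exact (Subgroup.one_lt_card_iff_ne_bot _).mpr h5
    · rw [hcc]; exact Subgroup.card_subgroup_dvd_card _
    · rw [hcc]; exact isNum_Cz_of_ne_one hd hx1
  have h5 := H.t_eq_one hb0 hb0M hb0A ha0 ha0M ha0A
  rw [hcard, h5, one_mul]

end Cfsg.Agent.helper21.CS
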