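import Mathlib
import Cfsg.Agent.Lib_helper20_Class
import Cfsg.Agent.Lib_helper21_CyclicSylow
import Cfsg.Agent.S4106

set_option autoImplicit false

namespace Cfsg.Agent.helper21

open scoped Pointwise

/-- A `p`-element of a subgroup `D` of index prime to `p` lies in a Sylow `p`-subgroup of the
whole group contained in `D`. -/
theorem exists_sylow_le_of_not_dvd_index {C : Type*} [Group C] [Finite C] {p : ℕ}
    [hp : Fact p.Prime] (D : Subgroup C) (hD : ¬ p ∣ D.index) (s : C) (hs : s ∈ D)
    (hsp : ∃ k, orderOf s = p ^ k) :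
    ∃ S : Sylow p C, s ∈ S ∧ (S : Subgroup C) ≤ D := by
  set s' : D := ⟨s, hs⟩ with hs'
  have hZ : IsPGroup p (Subgroup.zpowers s') := by
    obtain ⟨k, hk⟩ := hsp
    rw [IsPGroup.iff_card, Nat.card_zpowers]
    refine ⟨k, ?_⟩
    rw [← hk, hs', Subgroup.orderOf_mk]
  obtain ⟨S0, hS0⟩ := hZ.exists_le_sylow
  set S : Subgroup C := (S0 : Subgroup D).map D.subtype with hS
  have hcardS : Nat.card S = Nat.card (S0 : Subgroup D) :=
    Nat.card_congr
      ((S0 : Subgroup D).equivMapOfInjective D.subtype D.subtype_injective).toEquiv.symm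
  have hfac : (Nat.card C).factorization p = (Nat.card D).factorization p := by
    rw [← Subgroup.card_mul_index D,
      Nat.factorization_mul Nat.card_pos.ne' Subgroup.index_ne_zero_of_finite]
    simp [Nat.factorization_eq_zero_of_not_dvd hD]
  have hcard : Nat.card S = p ^ (Nat.card C).factorization p := by
    rw [hcardS, hfac]
    exact S0.card_eq_multiplicity
  refine ⟨Sylow.ofCard S hcard, ?_, ?_⟩
  · change s ∈ S
    rw [hS, Subgroup.mem_map]
    exact ⟨s', hS0 (Subgroup.mem_zpowers s'), rfl⟩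
  · change S ≤ D
    rw [hS]
    exact Subgroup.map_subtype_le _

/-- **Camina's lemma**: if every `p'`-element has class size prime to `p`, then the Sylow
`p`-subgroup is a direct factor. -/
theorem camina_direct_factor {C : Type*} [Group C] [Finite C] (p : ℕ) [hp : Fact p.Prime]
    (hyp : ∀ y : C, (orderOf y).Coprime p →
      ¬ p ∣ (Subgroup.centralizer ({y} : Set C)).index) :
    ∃ H : Subgroup C, H.Normal ∧ (Nat.card H).Coprime p ∧ (∃ k, H.index = p ^ k) ∧
      (∀ t : C, (∃ k, orderOf t = p ^ k) → t ∈ Subgroup.centralizer (H : Set C)) ∧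
      (∀ y : C, (orderOf y).Coprime p → y ∈ H) := by
  obtain ⟨P⟩ : Nonempty (Sylow p C) := inferInstance
  set M : Subgroup C := (P : Subgroup C) ⊔ Subgroup.centralizer ((P : Subgroup C) : Set C) with hM
  -- every Sylow subgroup is a conjugate of `P`
  have hconj : ∀ S : Sylow p C, ∃ c : C, ∀ z : C, z ∈ S ↔ c⁻¹ * z * c ∈ P := by
    intro S
    obtain ⟨c, hc⟩ := MulAction.exists_smul_eq C P S
    refine ⟨c, fun z => ?_⟩
    rw [← hc]
    change z ∈ ((c • P : Sylow p C) : Subgroup C) ↔ _
    rw [Sylow.coe_subgroup_smul, Subgroup.mem_pointwise_smul_iff_inv_smul_mem, MulAut.smul_def,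
      MulAut.conj_inv_apply]
    rfl
  have hMtop : M = ⊤ := by
    apply Cfsg.Agent.helper20.eq_top_of_forall_conj_mem
    intro g
    obtain ⟨u, v, huv, hcomm, _, _, hu, hv⟩ := Cfsg.Agent.S4106.pdecomp p g
    have huD : u ∈ Subgroup.centralizer ({v} : Set C) := by
      rw [Subgroup.mem_centralizer_singleton_iff]; exact hcomm
    obtain ⟨S, huS, hSD⟩ := exists_sylow_le_of_not_dvd_index _ (hyp v hv) u huD hu
    obtain ⟨c, hc⟩ := hconj S
    refine ⟨c, ?_⟩
    have h1 : c⁻¹ * u * c ∈ M := by
      rw [hM]; exact Subgroup.mem_sup_left ((hc u).mp huS)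
    have h2 : c⁻¹ * v * c ∈ M := by
      rw [hM]; apply Subgroup.mem_sup_right
      rw [Subgroup.mem_centralizer_iff]
      intro z hz
      have hz' : c * z * c⁻¹ ∈ S := by
        rw [hc]; simpa [mul_assoc] using hz
      have hzv := hSD hz'
      rw [Subgroup.mem_centralizer_singleton_iff] at hzv
      -- hzv : v * (c z c⁻¹) = (c z c⁻¹) * v
      have : z * (c⁻¹ * v * c) = c⁻¹ * ((c * z * c⁻¹) * v) * c := by group
      rw [this, hzv]; group
    have : c⁻¹ * g * c = (c⁻¹ * u * c) * (c⁻¹ * v * c) := by rw [← huv]; group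
    rw [this]
    exact M.mul_mem h1 h2
  have hPn : (P : Subgroup C).Normal := by
    rw [← Subgroup.normalizer_eq_top_iff, eq_top_iff, ← hMtop, hM]
    exact sup_le Subgroup.le_normalizer (Subgroup.centralizer_le_normalizer _)
  -- all `p'`-elements centralize `P`
  have hcent : ∀ y : C, (orderOf y).Coprime p →
      y ∈ Subgroup.centralizer ((P : Subgroup C) : Set C) := by
    intro y hy
    obtain ⟨S, _, hSD⟩ := exists_sylow_le_of_not_dvd_index _ (hyp y hy) 1
      (Subgroup.one_mem _) ⟨0, by simp⟩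
    obtain ⟨c, hc⟩ := hconj S
    rw [Subgroup.mem_centralizer_iff]
    intro z hz
    have hzS : z ∈ S := by
      rw [hc]
      exact hPn.conj_mem' z hz c
    have := hSD hzS
    rw [Subgroup.mem_centralizer_singleton_iff] at this
    exact this
  -- a complement
  obtain ⟨H, hH⟩ := Subgroup.exists_left_complement'_of_coprime (N := (P : Subgroup C))
    P.card_coprime_index
  have hHcard : Nat.card H = (P : Subgroup C).index := hH.index_eq_card.symm
  have hHcop : (Nat.card H).Coprime p := by
    rw [hHcard]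
    exact ((Nat.Prime.coprime_iff_not_dvd hp.out).mpr P.not_dvd_index).symm
  have hHidx : ∃ k, H.index = p ^ k := by
    rw [hH.symm.index_eq_card]
    exact (IsPGroup.iff_card.mp P.isPGroup')
  have hHord : ∀ h ∈ H, (orderOf h).Coprime p := by
    intro h hh
    have : orderOf h ∣ Nat.card H := by
      have := orderOf_dvd_natCard (⟨h, hh⟩ : H)
      rwa [Subgroup.orderOf_mk] at this
    exact Nat.Coprime.coprime_dvd_left this hHcop
  have hHP : ∀ h ∈ H, ∀ z ∈ (P : Subgroup C), z * h = h * z := by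
    intro h hh z hz
    have := hcent h (hHord h hh)
    rw [Subgroup.mem_centralizer_iff] at this
    exact this z hz
  have hHn : H.Normal := by
    constructor
    intro h0 hh0 g
    obtain ⟨⟨⟨h, hh⟩, ⟨z, hz⟩⟩, hg⟩ := hH.existsUnique g |>.exists
    simp only at hg
    have hzc : z * h0 * z⁻¹ = h0 := by
      rw [hHP h0 hh0 z hz]; group
    have : g * h0 * g⁻¹ = h * (z * h0 * z⁻¹) * h⁻¹ := by rw [← hg]; group
    rw [this, hzc]
    exact H.mul_mem (H.mul_mem hh hh0) (H.inv_mem hh)
  refine ⟨H, hHn, hHcop, hHidx, ?_, ?_⟩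
  · intro t ht
    have htP : t ∈ (P : Subgroup C) := by
      have hZ : IsPGroup p (Subgroup.zpowers t) := by
        obtain ⟨k, hk⟩ := ht
        rw [IsPGroup.iff_card, Nat.card_zpowers]
        exact ⟨k, hk⟩
      obtain ⟨S, hS⟩ := hZ.exists_le_sylow
      obtain ⟨c, hc⟩ := hconj S
      have h1 := (hc t).mp (hS (Subgroup.mem_zpowers t))
      have := hPn.conj_mem _ h1 c
      simpa [mul_assoc] using this
    rw [Subgroup.mem_centralizer_iff]
    intro h hh
    exact (hHP h hh t htP).symm
  · intro y hy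
    obtain ⟨k, hk⟩ := hHidx
    have h1 : y ^ (p ^ k) ∈ H := by
      have : (QuotientGroup.mk' H y) ^ (p ^ k) = 1 := by
        have hc : Nat.card (C ⧸ H) = p ^ k := by rw [← hk]; rfl
        rw [← hc]
        exact pow_card_eq_one'
      rw [← map_pow, QuotientGroup.mk'_apply, QuotientGroup.eq_one_iff] at this
      exact this
    have h2 : y ^ (orderOf y) ∈ H := by rw [pow_orderOf_eq_one]; exact H.one_mem
    exact mem_of_pow_mem_of_coprime H y (p ^ k) (orderOf y)
      (Nat.Coprime.pow_left k ((Nat.coprime_comm).mp hy)) h1 h2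

end Cfsg.Agent.helper21
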