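import Mathlib
import Cfsg.Prelude.Def_Local
import Cfsg.Agent.Lib_helper23_PSolv
import Cfsg.Agent.Lib_helper23_PSolv2
import Cfsg.Agent.Lib_helper21_SylowNum

set_option autoImplicit false
set_option linter.style.haveILetI false
open Cfsg

namespace Cfsg.Agent.helper21.CopOrb

universe u v w

/-- Coprime indices give a factorisation. -/
theorem exists_mul_of_coprime_index {S : Type*} [Group S] [Finite S] (A B : Subgroup S)
    (h : A.index.Coprime B.index) (s : S) : ∃ a ∈ A, ∃ b ∈ B, s = a * b := by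
  have h1 : (A ⊓ B).relIndex A * A.index = (A ⊓ B).index := Subgroup.relIndex_mul_index inf_le_left
  have h2 : (A ⊓ B).relIndex B * B.index = (A ⊓ B).index := Subgroup.relIndex_mul_index inf_le_right
  have h3 : B.relIndex A = (A ⊓ B).relIndex A := by rw [inf_comm, Subgroup.inf_relIndex_right]
  have h4 : B.index ∣ B.relIndex A := by
    rw [h3]
    have h5 : B.index ∣ (A ⊓ B).relIndex A * A.index := by rw [h1, ← h2]; exact dvd_mul_left _ _
    exact Nat.Coprime.dvd_of_dvd_mul_right h.symm h5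
  have hpos : B.relIndex A ≠ 0 := by
    change (B.subgroupOf A).index ≠ 0
    exact Subgroup.index_ne_zero_of_finite
  let f := Subgroup.quotientSubgroupOfEmbeddingOfLE B (le_top : A ≤ ⊤)
  have hcard : Nat.card (↥(⊤ : Subgroup S) ⧸ B.subgroupOf ⊤) ≤ Nat.card (↥A ⧸ B.subgroupOf A) := by
    change B.relIndex ⊤ ≤ B.relIndex A
    rw [Subgroup.relIndex_top_right]
    exact Nat.le_of_dvd (Nat.pos_of_ne_zero hpos) h4
  have hbij := f.injective.bijective_of_nat_card_le hcard
  obtain ⟨q, hq⟩ := hbij.2 (QuotientGroup.mk ⟨s, Subgroup.mem_top s⟩)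
  obtain ⟨a, rfl⟩ := QuotientGroup.mk_surjective q
  rw [Subgroup.quotientSubgroupOfEmbeddingOfLE_apply_mk, QuotientGroup.eq,
    Subgroup.mem_subgroupOf] at hq
  refine ⟨a, a.2, (a : S)⁻¹ * s, ?_, by group⟩
  simpa using hq

variable {k : Type w} [Field k] {V : Type v} [AddCommGroup V] [Module k V] {H : Type u} [Group H]

/-- The orbit, in the form used in the statements. -/
def orb (ρ : Representation k H V) (v : V) : Set V := {u : V | ∃ h : H, ρ h v = u}

/-- The stabiliser. -/
def stab (ρ : Representation k H V) (v : V) : Subgroup H where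
  carrier := {h | ρ h v = v}
  mul_mem' := by
    intro a b ha hb
    simp only [Set.mem_setOf_eq] at ha hb ⊢
    rw [map_mul, Module.End.mul_apply, hb, ha]
  one_mem' := by simp
  inv_mem' := by
    intro a ha
    simp only [Set.mem_setOf_eq] at ha ⊢
    calc ρ a⁻¹ v = ρ a⁻¹ (ρ a v) := by rw [ha]
      _ = v := by
        rw [← Module.End.mul_apply, ← map_mul, inv_mul_cancel, map_one, Module.End.one_apply]

theorem mem_stab {ρ : Representation k H V} {v : V} {h : H} : h ∈ stab ρ v ↔ ρ h v = v := Iff.rfl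

theorem card_orb (ρ : Representation k H V) (v : V) : Nat.card (orb ρ v) = (stab ρ v).index := by
  letI : MulAction H V := MulAction.compHom V (ρ : H →* Module.End k V)
  have h1 : orb ρ v = MulAction.orbit H v := by
    ext u
    simp only [orb, Set.mem_setOf_eq, MulAction.mem_orbit_iff]
    rfl
  have h2 : stab ρ v = MulAction.stabilizer H v := by
    ext h
    simp only [mem_stab, MulAction.mem_stabilizer_iff]
    rfl
  rw [h1, h2, MulAction.index_stabilizer, Nat.card_coe_set_eq]

theorem orb_smul (ρ : Representation k H V) (v : V) (h : H) : orb ρ (ρ h v) = orb ρ v := by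
  ext u; constructor
  · rintro ⟨g, rfl⟩; exact ⟨g * h, by rw [map_mul, Module.End.mul_apply]⟩
  · rintro ⟨g, rfl⟩; refine ⟨g * h⁻¹, ?_⟩
    rw [← Module.End.mul_apply, ← map_mul, inv_mul_cancel_right]

theorem card_orb_dvd_of_equivariant {V' : Type*} [AddCommGroup V'] [Module k V']
    (ρ : Representation k H V) (ρ' : Representation k H V') (φ : V → V')
    (hφ : ∀ h v, φ (ρ h v) = ρ' h (φ v)) (v : V) :
    Nat.card (orb ρ' (φ v)) ∣ Nat.card (orb ρ v) := by
  rw [card_orb, card_orb]
  apply Subgroup.index_dvd_of_le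
  intro h hh
  rw [mem_stab] at hh ⊢
  rw [← hφ, hh]

/-! ### Averaging over a subgroup -/

section avg
variable [Finite H]

/-- Average over the subgroup `K`. -/
noncomputable def avg (ρ : Representation k H V) (K : Subgroup H) : V →ₗ[k] V :=
  letI := Fintype.ofFinite K
  ((Nat.card K : k))⁻¹ • ∑ s : K, ρ (s : H)

theorem avg_apply (ρ : Representation k H V) (K : Subgroup H) (v : V) :
    avg ρ K v = ((Nat.card K : k))⁻¹ • (@Finset.sum K V _ (@Finset.univ K (Fintype.ofFinite K))
      (fun s => ρ (s : H) v)) := by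
  simp [avg, LinearMap.sum_apply]

theorem avg_fixed (ρ : Representation k H V) (K : Subgroup H) (v : V) (t : H) (ht : t ∈ K) :
    ρ t (avg ρ K v) = avg ρ K v := by
  letI := Fintype.ofFinite K
  rw [avg_apply, map_smul, map_sum]
  congr 1
  have := Equiv.sum_comp (Equiv.mulLeft (⟨t, ht⟩ : K)) (fun s : K => ρ (s : H) v)
  rw [← this]
  apply Finset.sum_congr rfl
  intro s _
  simp [Module.End.mul_apply]

theorem avg_of_fixed (ρ : Representation k H V) (K : Subgroup H) (hK : (Nat.card K : k) ≠ 0)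
    (v : V) (hv : ∀ t ∈ K, ρ t v = v) : avg ρ K v = v := by
  letI := Fintype.ofFinite K
  rw [avg_apply]
  have h1 : ∑ s : K, ρ (s : H) v = (Nat.card K : k) • v := by
    rw [Finset.sum_congr rfl (fun s _ => hv s.1 s.2), Finset.sum_const, Finset.card_univ,
      Nat.card_eq_fintype_card, Nat.cast_smul_eq_nsmul]
  rw [h1, smul_smul, inv_mul_cancel₀ hK, one_smul]

theorem avg_smul (ρ : Representation k H V) (K : Subgroup H) (v : V) (t : H) (ht : t ∈ K) :
    avg ρ K (ρ t v) = avg ρ K v := by
  letI := Fintype.ofFinite K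
  rw [avg_apply, avg_apply]
  congr 1
  have := Equiv.sum_comp (Equiv.mulRight (⟨t, ht⟩ : K)) (fun s : K => ρ (s : H) v)
  rw [← this]
  apply Finset.sum_congr rfl
  intro s _
  simp [Module.End.mul_apply]

theorem avg_equivariant (ρ : Representation k H V) (K : Subgroup H) [K.Normal] (h : H) (v : V) :
    ρ h (avg ρ K v) = avg ρ K (ρ h v) := by
  letI := Fintype.ofFinite K
  rw [avg_apply, avg_apply, map_smul, map_sum]
  congr 1
  have := Equiv.sum_comp (MulAut.conjNormal h : K ≃* K).toEquiv (fun s : K => ρ (s : H) (ρ h v))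
  rw [← this]
  apply Finset.sum_congr rfl
  intro s _
  simp only [MulEquiv.toEquiv_eq_coe, MulEquiv.coe_toEquiv, MulAut.conjNormal_apply]
  symm
  calc ρ (h * ↑s * h⁻¹) (ρ h v) = (ρ (h * ↑s * h⁻¹) * ρ h) v := rfl
    _ = ρ (h * ↑s * h⁻¹ * h) v := by rw [← map_mul]
    _ = ρ (h * ↑s) v := by rw [inv_mul_cancel_right]
    _ = ρ h (ρ (↑s) v) := by rw [map_mul]; rfl

theorem map_avg_eq {V' : Type*} [AddCommGroup V'] [Module k V'] (ρ : Representation k H V)
    (K : Subgroup H) (hK : (Nat.card K : k) ≠ 0) (f : V →ₗ[k] V') (v : V) (w : V')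
    (hf : ∀ s ∈ K, f (ρ s v) = w) : f (avg ρ K v) = w := by
  letI := Fintype.ofFinite K
  rw [avg_apply, map_smul, map_sum]
  have h1 : ∑ s : K, f (ρ (s : H) v) = (Nat.card K : k) • w := by
    rw [Finset.sum_congr rfl (fun s _ => hf s.1 s.2), Finset.sum_const, Finset.card_univ,
      Nat.card_eq_fintype_card, Nat.cast_smul_eq_nsmul]
  rw [h1, smul_smul, inv_mul_cancel₀ hK, one_smul]

omit [Finite H] in
theorem card_cast_ne_zero (p : ℕ) [Fact p.Prime] [CharP k p] (S K : Subgroup H) (hKS : K ≤ S)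
    (hS : (Nat.card S).Coprime p) : (Nat.card K : k) ≠ 0 := by
  intro h0
  rw [CharP.cast_eq_zero_iff k p] at h0
  have h1 : p ∣ Nat.card S := h0.trans (Subgroup.card_dvd_of_le hKS)
  have h2 : p ∣ 1 := by
    have := Nat.dvd_gcd h1 (dvd_refl p)
    rwa [hS] at this
  exact (Fact.out : p.Prime).one_lt.ne' (Nat.dvd_one.mp h2)

/-- Key lemma in the `p'`-case: `b` is fixed by the averaging operator. -/
theorem avg_eq_self_of_coprime (p : ℕ) [Fact p.Prime] [CharP k p] (ρ : Representation k H V)
    (S : Subgroup H) [S.Normal] (hS : (Nat.card S).Coprime p) (a b : V)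
    (hspan : Submodule.span k (orb ρ a) = ⊤)
    (hcop : (Nat.card (orb ρ a)).Coprime (Nat.card (orb ρ b))) : avg ρ S b = b := by
  have hSk : (Nat.card S : k) ≠ 0 := card_cast_ne_zero p S S le_rfl hS
  set b1 : V := b - avg ρ S b with hb1
  set T : Subgroup H := S ⊓ stab ρ b1 with hT
  have hTS : T ≤ S := inf_le_left
  have hTk : (Nat.card T : k) ≠ 0 := card_cast_ne_zero p S T hTS hS
  have hidem : avg ρ S (avg ρ S b) = avg ρ S b :=
    avg_of_fixed ρ S hSk _ (fun t ht => avg_fixed ρ S b t ht)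
  have hEb1 : avg ρ S b1 = 0 := by rw [hb1, map_sub, hidem, sub_self]
  have hTb1 : avg ρ T b1 = b1 :=
    avg_of_fixed ρ T hTk _ (fun t ht => mem_stab.mp ht.2)
  have hstab_le : stab ρ b ≤ stab ρ b1 := by
    intro h hh
    rw [mem_stab] at hh ⊢
    rw [hb1, map_sub, avg_equivariant, hh]
  have hclaim : avg ρ S = avg ρ T := by
    apply LinearMap.ext_on hspan
    rintro u ⟨h, rfl⟩
    -- factorisation
    have hfact : ∀ s ∈ S, ∃ t ∈ T, ∃ x ∈ S, ρ x (ρ h a) = ρ h a ∧ s = t * x := by
      intro s hs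
      have hA : (T.subgroupOf S).index ∣ Nat.card (orb ρ b) := by
        change T.relIndex S ∣ _
        rw [card_orb]
        have h1 : T.relIndex S ∣ (S ⊓ stab ρ b).relIndex S :=
          Subgroup.relIndex_dvd_of_le_left S (inf_le_inf_left S hstab_le)
        rw [Subgroup.inf_relIndex_left S (stab ρ b)] at h1
        refine h1.trans ?_
        rw [← Cfsg.Agent.helper21.relIndex_sup_normal S (stab ρ b)]
        exact Subgroup.relIndex_dvd_index_of_le le_sup_right
      have hB : ((stab ρ (ρ h a)).subgroupOf S).index ∣ Nat.card (orb ρ a) := by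
        change (stab ρ (ρ h a)).relIndex S ∣ _
        rw [← orb_smul ρ a h, card_orb]
        rw [← Cfsg.Agent.helper21.relIndex_sup_normal S (stab ρ (ρ h a))]
        exact Subgroup.relIndex_dvd_index_of_le le_sup_right
      have hc : ((T.subgroupOf S).index).Coprime (((stab ρ (ρ h a)).subgroupOf S).index) :=
        (hcop.symm.coprime_dvd_left hA).coprime_dvd_right hB
      obtain ⟨a', ha', b', hb', hab⟩ := exists_mul_of_coprime_index _ _ hc (⟨s, hs⟩ : S)
      rw [Subgroup.mem_subgroupOf] at ha' hb'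
      exact ⟨a', ha', b', b'.2, mem_stab.mp hb', congrArg Subtype.val hab⟩
    have step1 : avg ρ T (avg ρ S (ρ h a)) = avg ρ S (ρ h a) :=
      avg_of_fixed ρ T hTk _ (fun t ht => avg_fixed ρ S _ t (hTS ht))
    have step2 : avg ρ T (avg ρ S (ρ h a)) = avg ρ T (ρ h a) := by
      apply map_avg_eq ρ S hSk (avg ρ T) (ρ h a) (avg ρ T (ρ h a))
      intro s hs
      obtain ⟨t, ht, x, hx, hxa, rfl⟩ := hfact s hs
      rw [map_mul, Module.End.mul_apply, hxa, avg_smul ρ T _ t ht]
    rw [← step1, step2]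
  have h0 : b1 = 0 := by rw [← hTb1, ← hclaim, hEb1]
  rw [hb1, sub_eq_zero] at h0
  exact h0.symm

end avg

/-! ### The conclusion and the induction -/

/-- The conclusion of the `p`-solvable lemma. -/
def Concl (ρ : Representation k H V) (a : V) : Prop :=
  (∃ v0 ∈ ρ.invariants, ∀ w ∈ ρ.invariants, ∃ c : k, c • v0 = w) ∧
  ∀ b : V, (Nat.card (orb ρ a)).Coprime (Nat.card (orb ρ b)) → ∀ h : H, ρ h b = b

section step
variable (ρ : Representation k H V) (S : Subgroup H) [S.Normal]

theorem quot_apply (h : H) (v : Representation.invariants (ρ.comp S.subtype)) :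
    ((ρ.quotientToInvariants S (h : H ⧸ S) v : Representation.invariants (ρ.comp S.subtype)) : V)
      = ρ h (v : V) := rfl

theorem card_orb_quot (v : Representation.invariants (ρ.comp S.subtype)) :
    Nat.card (orb (ρ.quotientToInvariants S) v) = Nat.card (orb ρ (v : V)) := by
  have h1 : orb ρ (v : V) = Subtype.val '' (orb (ρ.quotientToInvariants S) v) := by
    ext u; constructor
    · rintro ⟨h, rfl⟩
      exact ⟨ρ.quotientToInvariants S (h : H ⧸ S) v, ⟨(h : H ⧸ S), rfl⟩, quot_apply ρ S h v⟩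
    · rintro ⟨u', ⟨q, rfl⟩, rfl⟩
      obtain ⟨h, rfl⟩ := QuotientGroup.mk_surjective q
      exact ⟨h, (quot_apply ρ S h v).symm⟩
  rw [h1, Nat.card_image_of_injective Subtype.val_injective]

theorem step (E : V →ₗ[k] V)
    (hE1 : ∀ v, ∀ s ∈ S, ρ s (E v) = E v)
    (hE3 : ∀ h v, ρ h (E v) = E (ρ h v))
    (a : V)
    (hIH : Concl (ρ.quotientToInvariants S) ⟨E a, fun s => hE1 a s.1 s.2⟩) :
    (∃ v0 ∈ ρ.invariants, ∀ w ∈ ρ.invariants, ∃ c : k, c • v0 = w) ∧
      ∀ b : V, (Nat.card (orb ρ a)).Coprime (Nat.card (orb ρ b)) → ∀ h : H, ρ h (E b) = E b := by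
  obtain ⟨⟨v0', hv0', hall⟩, hfix⟩ := hIH
  constructor
  · refine ⟨(v0' : V), ?_, ?_⟩
    · intro h
      have := hv0' (h : H ⧸ S)
      exact congrArg Subtype.val this
    · intro w hw
      have hwS : w ∈ Representation.invariants (ρ.comp S.subtype) := fun s => hw s.1
      have hw' : (⟨w, hwS⟩ : Representation.invariants (ρ.comp S.subtype)) ∈
          (ρ.quotientToInvariants S).invariants := by
        intro q
        obtain ⟨h, rfl⟩ := QuotientGroup.mk_surjective q
        apply Subtype.ext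
        exact hw h
      obtain ⟨c, hc⟩ := hall _ hw'
      exact ⟨c, congrArg Subtype.val hc⟩
  · intro b hcop h
    have h1 := hfix ⟨E b, fun s => hE1 b s.1 s.2⟩ (by
      rw [card_orb_quot, card_orb_quot]
      exact (hcop.coprime_dvd_left (card_orb_dvd_of_equivariant ρ ρ E (fun h v => (hE3 h v).symm) a)).coprime_dvd_right
        (card_orb_dvd_of_equivariant ρ ρ E (fun h v => (hE3 h v).symm) b)) (h : H ⧸ S)
    exact congrArg Subtype.val h1

theorem span_transfer (E : V →ₗ[k] V)
    (hE1 : ∀ v, ∀ s ∈ S, ρ s (E v) = E v)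
    (hE2 : ∀ v, (∀ s ∈ S, ρ s v = v) → E v = v)
    (hE3 : ∀ h v, ρ h (E v) = E (ρ h v))
    (a : V) (hspan : Submodule.span k (orb ρ a) = ⊤) :
    Submodule.span k (orb (ρ.quotientToInvariants S) ⟨E a, fun s => hE1 a s.1 s.2⟩) = ⊤ := by
  let Ec : V →ₗ[k] Representation.invariants (ρ.comp S.subtype) :=
    E.codRestrict _ (fun v s => hE1 v s.1 s.2)
  have hmap : Submodule.map Ec (Submodule.span k (orb ρ a)) ≤
      Submodule.span k (orb (ρ.quotientToInvariants S) ⟨E a, fun s => hE1 a s.1 s.2⟩) := by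
    rw [Submodule.map_span_le]
    rintro u ⟨h, rfl⟩
    apply Submodule.subset_span
    refine ⟨(h : H ⧸ S), ?_⟩
    apply Subtype.ext
    rw [quot_apply]
    exact hE3 h a
  rw [eq_top_iff]
  intro w' _
  apply hmap
  refine ⟨(w' : V), by rw [hspan]; exact Submodule.mem_top, ?_⟩
  apply Subtype.ext
  exact hE2 _ (fun s hs => w'.2 ⟨s, hs⟩)

end step

theorem exists_normal_p_or_p' {p : ℕ} (hsol : Cfsg.IsPSolvable p H) [Nontrivial H] :
    ∃ S : Subgroup H, S.Normal ∧ S ≠ ⊥ ∧
      ((∃ m : ℕ, Nat.card S = p ^ m) ∨ (Nat.card S).Coprime p) := by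
  have h := Cfsg.Agent.helper23.psreach_of_isPSolvable hsol
  have key : ∀ N : Subgroup H, Cfsg.Agent.helper23.PSReach p N → N = ⊥ ∨
      ∃ S : Subgroup H, S.Normal ∧ S ≠ ⊥ ∧
        ((∃ m : ℕ, Nat.card S = p ^ m) ∨ (Nat.card S).Coprime p) := by
    intro N hN
    induction hN with
    | bot => left; rfl
    | step K L hK hKL hLn hfac ih =>
      rcases ih with hbot | hex
      · by_cases hL : L = ⊥
        · left; exact hL
        · right
          refine ⟨L, hLn, hL, ?_⟩
          rw [hbot, Subgroup.relIndex_bot_left] at hfac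
          exact hfac
      · right; exact hex
  rcases key ⊤ h with h1 | h1
  · exact absurd h1 top_ne_bot
  · exact h1

theorem main (p : ℕ) [Fact p.Prime] [CharP k p] (n : ℕ) :
    ∀ (H : Type u) [Group H] [Finite H] (V : Type v) [AddCommGroup V] [Module k V]
      (ρ : Representation k H V) (a : V), Nat.card H = n → Cfsg.IsPSolvable p H →
      (∃ P : Sylow p H, ∀ x : H, x ∈ (P : Subgroup H) → ρ x a = a) →
      Submodule.span k (orb ρ a) = ⊤ → Concl ρ a := by
  induction n using Nat.strong_induction_on with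
  | _ n ih =>
  intro H _ _ V _ _ ρ a hn hsol hfix hspan
  by_cases htriv : Subsingleton H
  · have hone : ∀ h : H, h = 1 := fun h => Subsingleton.elim h 1
    have horb : orb ρ a = {a} := by
      ext u; constructor
      · rintro ⟨h, rfl⟩; rw [hone h, map_one]; rfl
      · rintro rfl; exact ⟨1, by rw [map_one]; rfl⟩
    constructor
    · refine ⟨a, fun h => by rw [hone h, map_one]; rfl, fun w _ => ?_⟩
      have hw : w ∈ Submodule.span k (orb ρ a) := by rw [hspan]; exact Submodule.mem_top
      rw [horb] at hw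
      exact Submodule.mem_span_singleton.mp hw
    · intro b _ h
      rw [hone h, map_one]; rfl
  · haveI : Nontrivial H := not_subsingleton_iff_nontrivial.mp htriv
    obtain ⟨S, hSn, hSne, hS⟩ := exists_normal_p_or_p' hsol
    haveI := hSn
    obtain ⟨P, hP⟩ := hfix
    have hcardlt : Nat.card (H ⧸ S) < n := by
      have h1 := Subgroup.card_eq_card_quotient_mul_card_subgroup S
      have h2 : 1 < Nat.card S := S.one_lt_card_iff_ne_bot.mpr hSne
      have h3 : 0 < Nat.card (H ⧸ S) := Nat.card_pos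
      rw [← hn, h1]
      nlinarith
    have hsolq : Cfsg.IsPSolvable p (H ⧸ S) :=
      Cfsg.Agent.helper23.isPSolvable_iff_psreach.mpr
        (Cfsg.Agent.helper23.psreach_top_quotient (Fact.out : p.Prime) hsol S)
    have key : ∀ (E : V →ₗ[k] V) (hE1 : ∀ v, ∀ s ∈ S, ρ s (E v) = E v)
        (_hE2 : ∀ v, (∀ s ∈ S, ρ s v = v) → E v = v)
        (_hE3 : ∀ h v, ρ h (E v) = E (ρ h v)),
        Concl (ρ.quotientToInvariants S) ⟨E a, fun s => hE1 a s.1 s.2⟩ := by
      intro E hE1 hE2 hE3
      apply ih _ hcardlt (H ⧸ S) _ _ _ rfl hsolq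
      · refine ⟨P.mapSurjective (QuotientGroup.mk'_surjective S), ?_⟩
        intro x hx
        rw [Sylow.coe_mapSurjective] at hx
        obtain ⟨y, hy, rfl⟩ := hx
        apply Subtype.ext
        show ρ y (E a) = E a
        rw [hE3, hP y hy]
      · exact span_transfer ρ S E hE1 hE2 hE3 a hspan
    rcases hS with ⟨m, hm⟩ | hcop
    · -- `S` is a `p`-group: it acts trivially
      have hSp : IsPGroup p S := IsPGroup.of_card hm
      have hSP : S ≤ (P : Subgroup H) := hSp.le_sylow_of_normal P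
      have hle : Submodule.span k (orb ρ a) ≤ Representation.invariants (ρ.comp S.subtype) := by
        rw [Submodule.span_le]
        rintro u ⟨h, rfl⟩ s
        show ρ (s : H) (ρ h a) = ρ h a
        have h1 : h⁻¹ * (s : H) * h ∈ S := by
          have := hSn.conj_mem (s : H) s.2 h⁻¹
          rwa [inv_inv] at this
        have h2 := hP _ (hSP h1)
        calc ρ (s : H) (ρ h a) = ρ h (ρ (h⁻¹ * (s : H) * h) a) := by
              rw [← Module.End.mul_apply, ← Module.End.mul_apply, ← map_mul, ← map_mul]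
              congr 2; group
          _ = ρ h a := by rw [h2]
      have hSfix : ∀ v, ∀ s ∈ S, ρ s v = v := by
        intro v s hs
        have hv : v ∈ Submodule.span k (orb ρ a) := by rw [hspan]; exact Submodule.mem_top
        exact hle hv ⟨s, hs⟩
      have hk := key LinearMap.id (fun v s hs => hSfix v s hs) (fun v _ => rfl) (fun h v => rfl)
      have hst := step ρ S LinearMap.id (fun v s hs => hSfix v s hs) (fun h v => rfl) a hk
      exact ⟨hst.1, fun b hb h => hst.2 b hb h⟩
    · -- `S` is a `p'`-group: average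
      have hSk : (Nat.card S : k) ≠ 0 := card_cast_ne_zero p S S le_rfl hcop
      have hE1 : ∀ v, ∀ s ∈ S, ρ s (avg ρ S v) = avg ρ S v := fun v s hs => avg_fixed ρ S v s hs
      have hE2 : ∀ v, (∀ s ∈ S, ρ s v = v) → avg ρ S v = v := fun v hv => avg_of_fixed ρ S hSk v hv
      have hE3 : ∀ h v, ρ h (avg ρ S v) = avg ρ S (ρ h v) := fun h v => avg_equivariant ρ S h v
      have hk := key (avg ρ S) hE1 hE2 hE3
      have hst := step ρ S (avg ρ S) hE1 hE3 a hk
      refine ⟨hst.1, fun b hb h => ?_⟩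
      have hb' := avg_eq_self_of_coprime p ρ S hcop a b hspan hb
      have := hst.2 b hb h
      rwa [hb'] at this

end Cfsg.Agent.helper21.CopOrb
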