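import Mathlib
import Cfsg.Agent.Lib_helper21_CyclicSylow

set_option autoImplicit false

namespace Cfsg.Agent.helper21

/-- In a finite nilpotent group, elements of order prime to `p` centralize the Sylow
`p`-subgroup. -/
theorem coprime_mem_centralizer_sylow {G : Type*} [Group G] [Finite G]
    [hG : Group.IsNilpotent G] {p : ℕ} [hp : Fact p.Prime] (P : Sylow p G) (h : G)
    (hh : (orderOf h).Coprime p) :
    h ∈ Subgroup.centralizer ((P : Subgroup G) : Set G) := by
  have hPn : (P : Subgroup G).Normal := inferInstance
  set C := Subgroup.centralizer ((P : Subgroup G) : Set G) with hC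
  have hCn : C.Normal := Subgroup.normal_centralizer
  have hq : ∀ q : ℕ, q.Prime → q ∣ C.index → q = p := by
    intro q hqp hqd
    by_contra hne
    have : Fact q.Prime := ⟨hqp⟩
    obtain ⟨Q⟩ : Nonempty (Sylow q G) := inferInstance
    have hQn : (Q : Subgroup G).Normal := inferInstance
    have hdisj : Disjoint (Q : Subgroup G) (P : Subgroup G) :=
      IsPGroup.disjoint_of_ne q p hne _ _ Q.isPGroup' P.isPGroup'
    have hQC : (Q : Subgroup G) ≤ C := by
      intro y hy
      rw [hC, Subgroup.mem_centralizer_iff]
      intro z hz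
      exact (Subgroup.commute_of_normal_of_disjoint _ _ hQn hPn hdisj y z hy hz).symm.eq
    have : C.index ∣ (Q : Subgroup G).index := Subgroup.index_dvd_of_le hQC
    exact Q.not_dvd_index (dvd_trans hqd this)
  have hidx : ∃ j, C.index = p ^ j :=
    ⟨_, Nat.eq_prime_pow_of_unique_prime_dvd Subgroup.index_ne_zero_of_finite
      (fun hd hdd => hq _ hd hdd)⟩
  obtain ⟨j, hj⟩ := hidx
  have h1 : h ^ (p ^ j) ∈ C := by rw [← hj]; exact Subgroup.pow_index_mem C h
  have h2 : h ^ (orderOf h) ∈ C := by rw [pow_orderOf_eq_one]; exact C.one_mem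
  exact mem_of_pow_mem_of_coprime C h (p ^ j) (orderOf h)
    (Nat.Coprime.pow_left j hh.symm) h1 h2

/-- In a finite cyclic group, every solution of `u ^ p = 1` is a power of any element of
order `p`. -/
theorem mem_zpowers_of_isCyclic_of_pow_eq_one {T : Type*} [Group T] [Finite T] [IsCyclic T]
    {p : ℕ} (hp : p.Prime) (z u : T) (hz : orderOf z = p) (hu : u ^ p = 1) :
    u ∈ Subgroup.zpowers z := by
  classical
  have := Fintype.ofFinite T
  have hle := IsCyclic.card_pow_eq_one_le (α := T) hp.pos
  set S := Finset.univ.filter (fun a : T => a ^ p = 1) with hS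
  set Z : Finset T := (Finset.range p).image (fun k => z ^ k) with hZ
  have hZcard : Z.card = p := by
    rw [hZ, Finset.card_image_of_injOn, Finset.card_range]
    intro a ha b hb hab
    have := pow_injOn_Iio_orderOf (x := z)
    rw [hz] at this
    exact this (by simpa using ha) (by simpa using hb) hab
  have hsub : Z ⊆ S := by
    intro y hy
    rw [hZ, Finset.mem_image] at hy
    obtain ⟨k, _, rfl⟩ := hy
    rw [hS, Finset.mem_filter]
    refine ⟨Finset.mem_univ _, ?_⟩
    rw [← pow_mul, mul_comm, pow_mul, ← hz, pow_orderOf_eq_one, one_pow]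
  have hEq : Z = S := Finset.eq_of_subset_of_card_le hsub (by rw [hZcard]; exact hle)
  have huS : u ∈ S := by rw [hS, Finset.mem_filter]; exact ⟨Finset.mem_univ _, hu⟩
  rw [← hEq, hZ, Finset.mem_image] at huS
  obtain ⟨k, _, rfl⟩ := huS
  exact Subgroup.pow_mem _ (Subgroup.mem_zpowers z) k

/-- Internal direct product of two commuting complementary subgroups. -/
noncomputable def mulEquivProdOfComplement {G : Type*} [Group G] (P K : Subgroup G)
    (hc : Subgroup.IsComplement' K P)
    (hcomm : ∀ z ∈ P, ∀ k ∈ K, z * k = k * z) : ↥P × ↥K ≃* G :=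
  MulEquiv.ofBijective
    (P.subtype.noncommCoprod K.subtype
      (fun z k => show Commute (P.subtype z) (K.subtype k) from hcomm z z.2 k k.2))
    (by
      constructor
      · rw [MonoidHom.noncommCoprod_injective]
        refine ⟨P.subtype_injective, K.subtype_injective, ?_⟩
        rw [Subgroup.range_subtype, Subgroup.range_subtype]
        exact hc.disjoint.symm
      · rw [← MonoidHom.range_eq_top, MonoidHom.noncommCoprod_range, Subgroup.range_subtype,
          Subgroup.range_subtype]
        rw [sup_comm]; exact hc.sup_eq_top)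

end Cfsg.Agent.helper21
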