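import Mathlib
import Cfsg.Agent.Lib_helper21_NilpCyc
import Cfsg.Agent.Lib_helper7_FStar

set_option autoImplicit false
set_option linter.style.haveILetI false

namespace Cfsg.Agent.helper21

open Cfsg.Agent.helper7

/-- A finite perfect group with an abelian Sylow `p`-subgroup has centre of order prime to `p`
(transfer). -/
theorem not_dvd_card_center_of_isPerfect {L : Type*} [Group L] [Finite L] {p : ℕ}
    [hp : Fact p.Prime] (hperf : commutator L = ⊤) (Q : Sylow p L)
    (hQ : IsMulCommutative (Q : Subgroup L)) :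
    ¬ p ∣ Nat.card (Subgroup.center L) := by
  intro hdvd
  obtain ⟨z', hz'⟩ := exists_prime_orderOf_dvd_card' p hdvd
  set z : L := (z' : L) with hz
  have hzo : orderOf z = p := by rw [hz, Subgroup.orderOf_coe]; exact hz'
  have hzc : z ∈ Subgroup.center L := z'.2
  letI : CommGroup ↥(Q : Subgroup L) :=
    { (inferInstance : Group ↥(Q : Subgroup L)) with
      mul_comm := fun a b => hQ.is_comm.comm a b }
  let V : L →* ↥(Q : Subgroup L) := MonoidHom.transfer (MonoidHom.id ↥(Q : Subgroup L))
  have key : ∀ (k : ℕ) (g₀ : L), g₀⁻¹ * z ^ k * g₀ ∈ (Q : Subgroup L) →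
      g₀⁻¹ * z ^ k * g₀ = z ^ k := by
    intro k g₀ _
    have hc : z ^ k ∈ Subgroup.center L := Subgroup.pow_mem _ hzc k
    have := Subgroup.mem_center_iff.mp hc g₀
    rw [mul_assoc, ← this]; group
  have h1 := MonoidHom.transfer_eq_pow (ϕ := MonoidHom.id ↥(Q : Subgroup L)) z key
  have h2 : V z = 1 := by
    have hker : commutator L ≤ V.ker := Abelianization.commutator_subset_ker V
    rw [hperf] at hker
    exact hker (Subgroup.mem_top z)
  have h3 : z ^ (Q : Subgroup L).index = 1 := by
    have : V z = MonoidHom.id ↥(Q : Subgroup L) ⟨z ^ (Q : Subgroup L).index, _⟩ := h1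
    rw [h2] at this
    have := congrArg Subtype.val this
    simpa using this.symm
  have h4 : p ∣ (Q : Subgroup L).index := by
    have h5 := orderOf_dvd_of_pow_eq_one h3
    rw [hzo] at h5
    exact h5
  exact Q.not_dvd_index h4

/-- With a cyclic Sylow `p`-subgroup, two elementwise commuting subgroups of order divisible by
`p` meet nontrivially. -/
theorem inf_ne_bot_of_commute_of_dvd {G : Type*} [Group G] [Finite G] {p : ℕ}
    [hp : Fact p.Prime] (P : Sylow p G) (hP : IsCyclic (P : Subgroup G))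
    (A B : Subgroup G) (hAB : ∀ a ∈ A, ∀ b ∈ B, a * b = b * a)
    (hA : p ∣ Nat.card A) (hB : p ∣ Nat.card B) : A ⊓ B ≠ ⊥ := by
  obtain ⟨x', hx'⟩ := exists_prime_orderOf_dvd_card' p hA
  obtain ⟨y', hy'⟩ := exists_prime_orderOf_dvd_card' p hB
  set x : G := (x' : G) with hx
  set y : G := (y' : G) with hy
  have hxo : orderOf x = p := by rw [hx, Subgroup.orderOf_coe]; exact hx'
  have hyo : orderOf y = p := by rw [hy, Subgroup.orderOf_coe]; exact hy'
  have hxy : x * y = y * x := hAB x x'.2 y y'.2
  have hZx : IsPGroup p (Subgroup.zpowers x) := by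
    rw [IsPGroup.iff_card, Nat.card_zpowers, hxo]; exact ⟨1, (pow_one p).symm⟩
  have hZy : IsPGroup p (Subgroup.zpowers y) := by
    rw [IsPGroup.iff_card, Nat.card_zpowers, hyo]; exact ⟨1, (pow_one p).symm⟩
  have hnorm : Subgroup.zpowers x ≤ Subgroup.normalizer (Subgroup.zpowers y : Set G) := by
    rw [Subgroup.zpowers_le]
    apply Subgroup.centralizer_le_normalizer
    rw [Subgroup.mem_centralizer_iff]
    intro w hw
    obtain ⟨k, rfl⟩ := Subgroup.mem_zpowers_iff.mp hw
    have hc : Commute y x := hxy.symm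
    exact (hc.zpow_left k).eq
  have hW : IsPGroup p (Subgroup.zpowers x ⊔ Subgroup.zpowers y : Subgroup G) :=
    hZx.to_sup_of_normal_right' hZy hnorm
  obtain ⟨R, hR⟩ := hW.exists_le_sylow
  have hRcyc : IsCyclic (R : Subgroup G) :=
    isCyclic_of_surjective (Sylow.equiv P R).toMonoidHom (Sylow.equiv P R).surjective
  have hxR : x ∈ (R : Subgroup G) := hR (Subgroup.mem_sup_left (Subgroup.mem_zpowers x))
  have hyR : y ∈ (R : Subgroup G) := hR (Subgroup.mem_sup_right (Subgroup.mem_zpowers y))
  have hmem := mem_zpowers_of_isCyclic_of_pow_eq_one (T := (R : Subgroup G)) hp.out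
    ⟨x, hxR⟩ ⟨y, hyR⟩ (by rw [Subgroup.orderOf_mk]; exact hxo)
    (by ext; simp only [Subgroup.coe_pow, Subgroup.coe_one]; rw [← hyo]; exact pow_orderOf_eq_one y)
  obtain ⟨k, hk⟩ := Subgroup.mem_zpowers_iff.mp hmem
  have hk' : x ^ k = y := by
    have := congrArg Subtype.val hk
    simpa using this
  have hyA : y ∈ A := by rw [← hk']; exact A.zpow_mem x'.2 k
  intro hbot
  have : y ∈ A ⊓ B := ⟨hyA, y'.2⟩
  rw [hbot, Subgroup.mem_bot] at this
  rw [this, orderOf_one] at hyo
  exact hp.out.one_lt.ne hyo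

/-- If `O_{p'}(G) = 1`, every nontrivial subnormal subgroup has order divisible by `p`. -/
theorem dvd_card_of_sn_of_pPrimeCore_eq_bot {G : Type*} [Group G] [Finite G] {p : ℕ}
    (hp : p.Prime) (hO : Cfsg.pPrimeCore p G = ⊥) {H : Subgroup G} (hH : SN H ⊤)
    (hne : H ≠ ⊥) : p ∣ Nat.card H := by
  by_contra h
  have hcop : (Nat.card H).Coprime p :=
    ((Nat.Prime.coprime_iff_not_dvd hp).mpr h).symm
  have h1 : H ≤ piCoreIn {q | q ≠ p} ⊤ :=
    le_piCoreIn_of_sn hH ((coprime_card_iff_piGrp hp).mp hcop)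
  rw [← pPrimeCore_eq hp, hO] at h1
  exact hne (le_bot_iff.mp h1)

/-- A normal self-centralizing cyclic Sylow `p`-subgroup has cyclic quotient of order dividing
`p - 1`. -/
theorem cyclic_quotient_of_self_centralizing {G : Type*} [Group G] [Finite G] {p : ℕ}
    [hp : Fact p.Prime] (P : Sylow p G) (hP : IsCyclic (P : Subgroup G))
    [hn : (P : Subgroup G).Normal]
    (hC : Subgroup.centralizer ((P : Subgroup G) : Set G) = (P : Subgroup G)) :
    IsCyclic (G ⧸ (P : Subgroup G)) ∧ (P : Subgroup G).index ∣ p - 1 := by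
  let φ : G →* MulAut ↥(P : Subgroup G) := MulAut.conjNormal
  have hker : φ.ker = (P : Subgroup G) := by
    refine Eq.trans ?_ hC
    ext g
    rw [MonoidHom.mem_ker, Subgroup.mem_centralizer_iff]
    constructor
    · intro h y hy
      have := congrArg (fun f : MulAut ↥(P : Subgroup G) => ((f ⟨y, hy⟩ : ↥(P : Subgroup G)) : G)) h
      simp only [φ, MulAut.conjNormal_apply, MulAut.one_apply] at this
      calc y * g = (g * y * g⁻¹) * g := by rw [this]
        _ = g * y := by group
    · intro h
      ext y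
      simp only [φ, MulAut.conjNormal_apply, MulAut.one_apply]
      rw [← h y y.2]; group
  let e : G ⧸ (P : Subgroup G) ≃* φ.range :=
    (QuotientGroup.quotientMulEquivOfEq hker.symm).trans (QuotientGroup.quotientKerEquivRange φ)
  have hidx : (P : Subgroup G).index = Nat.card φ.range := by
    rw [Subgroup.index_eq_card]; exact Nat.card_congr e.toEquiv
  obtain ⟨n, hn'⟩ := IsPGroup.iff_card.mp P.isPGroup'
  have hdvd1 : (P : Subgroup G).index ∣ Nat.totient (p ^ n) := by
    rw [hidx, ← hn', ← IsCyclic.card_mulAut]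
    exact Subgroup.card_subgroup_dvd_card _
  have hcop : ((P : Subgroup G).index).Coprime p :=
    ((Nat.Prime.coprime_iff_not_dvd hp.out).mpr P.not_dvd_index).symm
  have hdvd : (P : Subgroup G).index ∣ p - 1 := by
    rcases Nat.eq_zero_or_pos n with h0 | hpos
    · rw [h0, pow_zero, Nat.totient_one] at hdvd1
      exact dvd_trans hdvd1 (one_dvd _)
    · rw [Nat.totient_prime_pow hp.out hpos] at hdvd1
      exact (hcop.pow_right (n - 1)).dvd_of_dvd_mul_left hdvd1
  refine ⟨?_, hdvd⟩
  by_cases hp2 : p = 2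
  · have h1 : (P : Subgroup G).index = 1 := by
      have h21 : p - 1 = 1 := by omega
      rw [h21] at hdvd
      exact Nat.dvd_one.mp hdvd
    have : Subsingleton (G ⧸ (P : Subgroup G)) := by
      rw [← Finite.card_le_one_iff_subsingleton, ← Subgroup.index_eq_card, h1]
    exact isCyclic_of_subsingleton
  · have hc : IsCyclic (ZMod (Nat.card ↥(P : Subgroup G)))ˣ := by
      rw [hn']; exact ZMod.isCyclic_units_of_prime_pow p hp.out hp2 n
    have hA : IsCyclic (MulAut ↥(P : Subgroup G)) :=
      isCyclic_of_surjective (IsCyclic.mulAutMulEquiv ↥(P : Subgroup G)).symm.toMonoidHom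
        (IsCyclic.mulAutMulEquiv ↥(P : Subgroup G)).symm.surjective
    have hr : IsCyclic φ.range := inferInstance
    exact isCyclic_of_surjective e.symm.toMonoidHom e.symm.surjective


end Cfsg.Agent.helper21
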