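import Mathlib

/-!
# The `A₄`-lemma behind "exponent 6 ⇒ 3-length one"

An abstract computation: commuting involutive automorphisms `B, C, D = BC` of a commutative
group of odd order, cyclically permuted by an automorphism `X` with `1 + X + X² = 0`, are trivial.
-/

set_option autoImplicit false
set_option linter.style.haveILetI false

namespace Cfsg.Agent.helper21

section A4

variable {W : Type*} [CommGroup W]

private lemma a4_aux (hodd : ∀ w : W, w * w = 1 → w = 1) (X E₁ E₂ E₃ : MulAut W)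
    (hstar : ∀ w, w * X w * X (X w) = 1)
    -- `E₁` fixes `v`, `E₁ X = X E₂`, `E₁ X X = X X E₃`, where `E₂`, `E₃` invert `v`
    (h1 : ∀ w, E₁ (X w) = X (E₂ w)) (h2 : ∀ w, E₁ (X (X w)) = X (X (E₃ w)))
    (v : W) (hv1 : E₁ v = v) (hv2 : E₂ v = v⁻¹) (hv3 : E₃ v = v⁻¹) : v = 1 := by
  apply hodd
  have hs := hstar v
  have hs' : E₁ (v * X v * X (X v)) = 1 := by rw [hs, map_one]
  rw [map_mul, map_mul, hv1, h1, h2, hv2, hv3] at hs'
  simp only [map_inv] at hs'
  calc v * v = (v * X v * X (X v)) * (v * (X v)⁻¹ * (X (X v))⁻¹) := by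
        rw [mul_mul_mul_comm, mul_mul_mul_comm v (X v) v, mul_inv_cancel, mul_inv_cancel,
          mul_one, mul_one]
    _ = 1 := by rw [hs, hs', mul_one]

theorem a4_lemma (hodd : ∀ w : W, w * w = 1 → w = 1) (X B C D : MulAut W)
    (hstar : ∀ w, w * X w * X (X w) = 1)
    (hB2 : B * B = 1) (hC2 : C * C = 1) (hBC : B * C = D) (hCB : C * B = D)
    (hCX : C * X = X * B) (hDX : D * X = X * C) (hBX : B * X = X * D) : B = 1 := by
  have eB2 : ∀ w, B (B w) = w := fun w => by
    have := DFunLike.congr_fun hB2 w; simpa using this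
  have eC2 : ∀ w, C (C w) = w := fun w => by
    have := DFunLike.congr_fun hC2 w; simpa using this
  have eBC : ∀ w, B (C w) = D w := fun w => by
    have := DFunLike.congr_fun hBC w; simpa using this
  have eCB : ∀ w, C (B w) = D w := fun w => by
    have := DFunLike.congr_fun hCB w; simpa using this
  have eCX : ∀ w, C (X w) = X (B w) := fun w => by
    have := DFunLike.congr_fun hCX w; simpa using this
  have eDX : ∀ w, D (X w) = X (C w) := fun w => by
    have := DFunLike.congr_fun hDX w; simpa using this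
  have eBX : ∀ w, B (X w) = X (D w) := fun w => by
    have := DFunLike.congr_fun hBX w; simpa using this
  -- the two eigen-cases
  have case1 : ∀ v : W, B v = v⁻¹ → C v = v → v = 1 := by
    intro v hb hc
    have hd : D v = v⁻¹ := by rw [← eBC, hc, hb]
    refine a4_aux hodd X C B D hstar eCX ?_ v hc hb hd
    intro w
    rw [eCX, eBX]
  have case2 : ∀ v : W, B v = v⁻¹ → C v = v⁻¹ → v = 1 := by
    intro v hb hc
    have hd : D v = v := by rw [← eBC, hc, map_inv, hb, inv_inv]
    refine a4_aux hodd X D C B hstar eDX ?_ v hd hc hb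
    intro w
    rw [eDX, eCX]
  ext w
  rw [MulAut.one_apply]
  by_contra hne
  -- `w₁ = w⁻¹ * B w` is inverted by `B`
  have hw1 : B (w⁻¹ * B w) = (w⁻¹ * B w)⁻¹ := by
    rw [map_mul, map_inv, eB2, mul_inv, inv_inv, mul_comm]
  obtain ⟨w₁, hw₁⟩ : ∃ w₁, w₁ = w⁻¹ * B w := ⟨_, rfl⟩
  rw [← hw₁] at hw1
  have hD1 : D w₁ = (C w₁)⁻¹ := by rw [← eCB, hw1, map_inv]
  have h2 : w₁ * C w₁ = 1 := by
    apply case1
    · rw [map_mul, eBC, hw1, hD1, mul_inv]
    · rw [map_mul, eC2, mul_comm]
  have h3 : w₁ * (C w₁)⁻¹ = 1 := by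
    apply case2
    · rw [map_mul, map_inv, eBC, hw1, hD1, mul_inv]
    · rw [map_mul, map_inv, eC2, mul_inv, inv_inv, mul_comm]
  have h4 : w₁ * w₁ = 1 := by
    calc w₁ * w₁ = (w₁ * C w₁) * (w₁ * (C w₁)⁻¹) := by
          rw [mul_mul_mul_comm, mul_inv_cancel, mul_one]
      _ = 1 := by rw [h2, h3, mul_one]
  have h5 : w₁ = 1 := hodd _ h4
  apply hne
  rw [hw₁] at h5
  have := inv_mul_eq_one.mp h5
  exact this.symm

end A4

end Cfsg.Agent.helper21
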