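import Mathlib
import Cfsg.Prelude.Def_Solvable

set_option autoImplicit false

namespace Cfsg.Agent.helper21

open scoped Pointwise

/-- A fixed-point-free action of a nontrivial group `C` on a nontrivial group `K` gives a Frobenius group
`K ⋊ C` with complement `C`. -/
theorem frobenius_of_fpf {K C : Type} [Group K] [Group C] [Finite K] [Finite C] [Nontrivial K] [Nontrivial C]
    (φ : C →* MulAut K) (hfpf : ∀ c : C, c ≠ 1 → ∀ k : K, φ c k = k → k = 1) :
    ∃ (L : Type) (_ : Group L) (_ : Finite L) (H : Subgroup L), Cfsg.IsFrobeniusComplement H ∧ Nonempty (C ≃* H) := by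
  refine ⟨K ⋊[φ] C, inferInstance, Finite.of_equiv _ SemidirectProduct.equivProd.symm,
    (SemidirectProduct.inr : C →* K ⋊[φ] C).range, ⟨?_, ?_, ?_⟩,
    ⟨MonoidHom.ofInjective SemidirectProduct.inr_injective⟩⟩
  · intro h
    obtain ⟨c, hc⟩ := exists_ne (1 : C)
    have : (SemidirectProduct.inr c : K ⋊[φ] C) ∈ (SemidirectProduct.inr : C →* K ⋊[φ] C).range := ⟨c, rfl⟩
    rw [h, Subgroup.mem_bot] at this
    apply hc
    have := congrArg SemidirectProduct.right this
    simpa using this
  · intro h
    obtain ⟨k, hk⟩ := exists_ne (1 : K)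
    have : (SemidirectProduct.inl k : K ⋊[φ] C) ∈ (SemidirectProduct.inr : C →* K ⋊[φ] C).range := by
      rw [h]; trivial
    obtain ⟨c, hc⟩ := this
    apply hk
    have := congrArg SemidirectProduct.left hc
    simpa using this.symm
  · intro g hg
    rw [Subgroup.eq_bot_iff_forall]
    rintro x ⟨⟨c₁, rfl⟩, hx2⟩
    replace hx2 : SemidirectProduct.inr c₁ ∈ MulAut.conj g • (SemidirectProduct.inr : C →* K ⋊[φ] C).range := hx2
    rw [Subgroup.mem_pointwise_smul_iff_inv_smul_mem] at hx2
    obtain ⟨c₂, hc₂⟩ := hx2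
    simp only [MulAut.smul_def, ← map_inv, MulAut.conj_apply, inv_inv] at hc₂
    -- hc₂ : inr c₂ = g⁻¹ * inr c₁ * g
    have hgl : g.left ≠ 1 := by
      intro hgl
      apply hg
      refine ⟨g.right, ?_⟩
      ext
      · simp [hgl]
      · simp
    by_contra hne
    have hc1 : c₁ ≠ 1 := by
      intro h; apply hne; rw [h, map_one]
    -- compare: g * inr c₂ = inr c₁ * g
    have heq : g * SemidirectProduct.inr c₂ = SemidirectProduct.inr c₁ * g := by
      rw [hc₂]; group
    have hl := congrArg SemidirectProduct.left heq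
    simp only [SemidirectProduct.mul_left, SemidirectProduct.left_inr, map_one, mul_one, one_mul,
      SemidirectProduct.right_inr] at hl
    exact hgl (hfpf c₁ hc1 _ hl.symm)

end Cfsg.Agent.helper21
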