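import Mathlib
import Cfsg.Prelude.Def_Transfer
import Cfsg.Prelude.Def_BaumannBlocks
import Cfsg.Agent.Lib_helper10_PResidual
import Cfsg.Agent.Lib_helper10_Hyperfocal

set_option autoImplicit false
set_option linter.style.haveILetI false
set_option linter.unusedVariables false
set_option linter.unusedSectionVars false

/-!
# The Hall–Wielandt transfer theorem (hyperfocal form)
-/

namespace Cfsg.Agent.helper21.HW

open scoped commutatorElement Pointwise

/-! ### Abstract lemmas -/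

theorem choose_pred_zmod (p : ℕ) [hp : Fact p.Prime] (i : ℕ) (hi : i ≤ p - 1) :
    (((p - 1).choose i : ℕ) : ZMod p) = (-1) ^ i := by
  induction i with
  | zero => simp
  | succ i ih =>
    have hi' : i ≤ p - 1 := by omega
    have h1 : p.choose (i + 1) = (p - 1).choose i + (p - 1).choose (i + 1) := by
      have h2 := Nat.choose_succ_succ (p - 1) i
      have h3 : p - 1 + 1 = p := Nat.sub_add_cancel hp.out.one_le
      rw [Nat.succ_eq_add_one, h3] at h2
      exact h2
    have h4 : ((p.choose (i + 1) : ℕ) : ZMod p) = 0 := by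
      rw [ZMod.natCast_eq_zero_iff]
      exact hp.out.dvd_choose_self (Nat.succ_ne_zero i) (by have := hp.out.one_le; omega)
    rw [h1, Nat.cast_add, ih hi'] at h4
    rw [pow_succ]
    linear_combination h4

theorem int_coeff_modEq (p : ℕ) [hp : Fact p.Prime] (i : ℕ) (hi : i ≤ p - 1) :
    ∃ m : ℤ, (-1 : ℤ) ^ (p - 1 - i) * ((p - 1).choose i : ℤ) = 1 + (p : ℤ) * m := by
  have h1 : (((-1 : ℤ) ^ (p - 1 - i) * ((p - 1).choose i : ℤ) : ℤ) : ZMod p) = ((1 : ℤ) : ZMod p) := by
    push_cast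
    rw [choose_pred_zmod p i hi, ← pow_add]
    have h2 : p - 1 - i + i = p - 1 := by omega
    rw [h2]
    have hne : (-1 : ZMod p) ≠ 0 := by
      haveI : Fact (1 < p) := ⟨hp.out.one_lt⟩
      exact neg_ne_zero.2 one_ne_zero
    exact ZMod.pow_card_sub_one_eq_one hne
  rw [ZMod.intCast_eq_intCast_iff_dvd_sub] at h1
  obtain ⟨m, hm⟩ := h1
  exact ⟨-m, by linarith⟩

theorem prod_eq_one_of_fwd {A : Type*} [CommGroup A] (p : ℕ) [hp : Fact p.Prime]
    (b : ℕ → ℕ → A) (hb : ∀ k j, b (k + 1) j = (b k j)⁻¹ * b k (j + 1))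
    (h0 : ∀ j, b 0 j ^ p = 1) (hlast : b (p - 1) 0 = 1) :
    ∏ j ∈ Finset.range p, b 0 j = 1 := by
  set f : ℕ → Additive A := fun j => Additive.ofMul (b 0 j) with hf
  have hiter : ∀ k j, (fwdDiff (1 : ℕ))^[k] f j = Additive.ofMul (b k j) := by
    intro k
    induction k with
    | zero => intro j; rfl
    | succ k ih =>
      intro j
      rw [Function.iterate_succ_apply', fwdDiff, ih, ih, hb]
      rw [ofMul_mul, ofMul_inv]
      abel
  have h1 := fwdDiff_iter_eq_sum_shift (h := (1 : ℕ)) f (p - 1) 0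
  rw [hiter, hlast] at h1
  have h2 : p - 1 + 1 = p := Nat.sub_add_cancel hp.out.one_le
  rw [h2] at h1
  have h3 : ∀ k ∈ Finset.range p,
      ((-1 : ℤ) ^ (p - 1 - k) * ((p - 1).choose k : ℤ)) • f (0 + k • 1) = f k := by
    intro k hk
    have hk' : k ≤ p - 1 := by have := Finset.mem_range.1 hk; omega
    obtain ⟨m, hm⟩ := int_coeff_modEq p k hk'
    have h4 : (p : ℤ) • f k = 0 := by
      rw [natCast_zsmul]
      show p • Additive.ofMul (b 0 k) = 0
      rw [← ofMul_pow, h0]; rfl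
    have h5 : 0 + k • 1 = k := by simp
    rw [h5, hm, add_smul, one_smul, mul_comm, mul_smul, h4, smul_zero, add_zero]
  rw [Finset.sum_congr rfl h3] at h1
  have h6 : Additive.ofMul (∏ j ∈ Finset.range p, b 0 j) = 0 := by
    rw [ofMul_prod]
    exact h1.symm
  exact h6

theorem prod_eq_one_of_free_cyclic {Ω A : Type*} [DecidableEq Ω] [CommGroup A] (p : ℕ)
    (hp : p.Prime) (ζ : Ω → Ω) (F : Ω → A) :
    ∀ (Y : Finset Ω), (∀ ω ∈ Y, ζ ω ∈ Y) → (∀ ω ∈ Y, ζ^[p] ω = ω) → (∀ ω ∈ Y, ζ ω ≠ ω) →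
      (∀ ω ∈ Y, ∏ j ∈ Finset.range p, F (ζ^[j] ω) = 1) → ∏ ω ∈ Y, F ω = 1 := by
  intro Y
  induction Y using Finset.strongInduction with
  | H Y ih =>
    intro h1 h2 h3 h4
    rcases Y.eq_empty_or_nonempty with rfl | ⟨ω₀, hω₀⟩
    · simp
    · have hiter : ∀ j, ζ^[j] ω₀ ∈ Y := by
        intro j
        induction j with
        | zero => simpa using hω₀
        | succ j ihj => rw [Function.iterate_succ_apply']; exact h1 _ ihj
      have hper : Function.IsPeriodicPt ζ p ω₀ := h2 ω₀ hω₀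
      have hmin : Function.minimalPeriod ζ ω₀ = p := by
        have hd := hper.minimalPeriod_dvd
        rcases (Nat.dvd_prime hp).1 hd with h | h
        · exfalso
          exact h3 ω₀ hω₀ (Function.minimalPeriod_eq_one_iff_isFixedPt.1 h)
        · exact h
      have hOY : (Finset.range p).image (fun j => ζ^[j] ω₀) ⊆ Y := by
        intro ω hω
        rw [Finset.mem_image] at hω
        obtain ⟨j, -, rfl⟩ := hω
        exact hiter j
      have hinj : Set.InjOn (fun j => ζ^[j] ω₀) (Finset.range p : Set ℕ) := by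
        intro i hi j hj hij
        have hi' : i < Function.minimalPeriod ζ ω₀ := by
          rw [hmin]; exact Finset.mem_range.1 hi
        have hj' : j < Function.minimalPeriod ζ ω₀ := by
          rw [hmin]; exact Finset.mem_range.1 hj
        exact (Function.iterate_eq_iterate_iff_of_lt_minimalPeriod hi' hj').1 hij
      have hprodO : ∏ ω ∈ (Finset.range p).image (fun j => ζ^[j] ω₀), F ω = 1 := by
        rw [Finset.prod_image hinj]
        exact h4 ω₀ hω₀
      rw [← Finset.prod_sdiff hOY, hprodO, mul_one]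
      have hmemO : ω₀ ∈ (Finset.range p).image (fun j => ζ^[j] ω₀) :=
        Finset.mem_image.2 ⟨0, Finset.mem_range.2 hp.pos, rfl⟩
      apply ih (Y \ (Finset.range p).image (fun j => ζ^[j] ω₀))
        (Finset.sdiff_ssubset hOY ⟨ω₀, hmemO⟩)
      · intro ω hω
        obtain ⟨hωY, hωO⟩ := Finset.mem_sdiff.1 hω
        refine Finset.mem_sdiff.2 ⟨h1 ω hωY, ?_⟩
        intro hmem
        apply hωO
        obtain ⟨j, -, hj⟩ := Finset.mem_image.1 hmem
        have h5 : ω = ζ^[(p - 1 + j) % p] ω₀ := by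
          rw [hper.iterate_mod_apply, Function.iterate_add_apply]
          show ω = ζ^[p - 1] (ζ^[j] ω₀)
          rw [hj, ← Function.iterate_succ_apply, Nat.succ_eq_add_one,
            Nat.sub_add_cancel hp.one_le]
          exact (h2 ω hωY).symm
        rw [h5]
        exact Finset.mem_image.2 ⟨_, Finset.mem_range.2 (Nat.mod_lt _ hp.pos), rfl⟩
      · intro ω hω; exact h2 ω (Finset.mem_sdiff.1 hω).1
      · intro ω hω; exact h3 ω (Finset.mem_sdiff.1 hω).1
      · intro ω hω; exact h4 ω (Finset.mem_sdiff.1 hω).1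

theorem eq_bot_of_le_commutator_top {T : Type*} [Group T] [hn : Group.IsNilpotent T]
    (N : Subgroup T) (h : N ≤ ⁅N, (⊤ : Subgroup T)⁆) : N = ⊥ := by
  obtain ⟨n, hn⟩ := Subgroup.nilpotent_iff_lowerCentralSeries.1 hn
  have h1 : ∀ k, N ≤ (⊤ : Subgroup T).lowerCentralSeries k := by
    intro k
    induction k with
    | zero => rw [Subgroup.lowerCentralSeries_zero]; exact le_top
    | succ k ih =>
      refine h.trans ?_
      rw [Subgroup.lowerCentralSeries_succ]
      exact Subgroup.commutator_mono ih le_rfl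
  have := h1 n
  rw [hn] at this
  exact le_bot_iff.1 this

theorem exists_normal_index_p {T : Type*} [Group T] [Finite T] (p : ℕ) [hp : Fact p.Prime]
    (hT : IsPGroup p T) (N : Subgroup T) [hNn : N.Normal] (hN : N ≠ ⊥) :
    ∃ N₁ : Subgroup T, N₁.Normal ∧ N₁ ≤ N ∧ Nat.card N₁ < Nat.card N ∧
      ⁅N, (⊤ : Subgroup T)⁆ ≤ N₁ ∧ (∀ z ∈ N, z ^ p ∈ N₁) ∧
      (∀ S : Subgroup T, N₁ ≤ S → (∃ z ∈ S, z ∈ N ∧ z ∉ N₁) → N ≤ S) ∧ ∃ z ∈ N, z ∉ N₁ := by
  obtain ⟨C, hCdef⟩ : ∃ C : Subgroup T, C = ⁅N, (⊤ : Subgroup T)⁆ := ⟨_, rfl⟩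
  rw [← hCdef]
  haveI : Group.IsNilpotent T := hT.isNilpotent
  have hCN : C ≤ N := by rw [hCdef]; exact Subgroup.commutator_le_left N ⊤
  have hCne : C ≠ N := by
    intro h
    exact hN (eq_bot_of_le_commutator_top N (by rw [← hCdef]; exact h.ge))
  have hClt : C < N := lt_of_le_of_ne hCN hCne
  obtain ⟨m, hm⟩ := IsPGroup.iff_card.1 (hT.to_subgroup N)
  obtain ⟨c, hc⟩ := IsPGroup.iff_card.1 (hT.to_subgroup C)
  have hcardlt : Nat.card C < Nat.card N := by
    have h4 : ((C : Subgroup T) : Set T) ⊂ (N : Set T) :=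
      SetLike.coe_ssubset_coe.mpr hClt
    have h5 := Set.ncard_lt_ncard h4 (Set.toFinite _)
    rwa [← Nat.card_coe_set_eq, ← Nat.card_coe_set_eq] at h5
  have hcm : c < m := by
    rw [hm, hc] at hcardlt
    exact (Nat.pow_lt_pow_iff_right hp.out.one_lt).1 hcardlt
  have hcard' : Nat.card (C.subgroupOf N) = p ^ c := by
    rw [← hc]
    exact Nat.card_congr (Subgroup.subgroupOfEquivOfLe hCN).toEquiv
  have hdvd : p ^ (m - 1) ∣ Nat.card N := by
    rw [hm]; exact pow_dvd_pow p (Nat.sub_le m 1)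
  obtain ⟨K', hK'card, hK'le⟩ := Sylow.exists_subgroup_card_pow_prime_le p hdvd
    (C.subgroupOf N) hcard' (by omega)
  have hN₁N : K'.map N.subtype ≤ N := Subgroup.map_subtype_le K'
  have hcardN₁ : Nat.card (K'.map N.subtype) = p ^ (m - 1) := by
    rw [← hK'card]
    exact (Nat.card_congr (Subgroup.equivMapOfInjective K' N.subtype
      N.subtype_injective).toEquiv).symm
  have hCN₁ : C ≤ K'.map N.subtype := by
    intro x hx
    exact ⟨⟨x, hCN hx⟩, hK'le (Subgroup.mem_subgroupOf.2 hx), rfl⟩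
  have hnormal : (K'.map N.subtype).Normal := by
    refine ⟨fun y hy u => ?_⟩
    have h1 : u * y * u⁻¹ = ⁅u, y⁆ * y := by
      rw [commutatorElement_def]; group
    rw [h1]
    refine Subgroup.mul_mem _ (hCN₁ ?_) hy
    rw [hCdef, Subgroup.commutator_comm]
    exact Subgroup.commutator_mem_commutator (Subgroup.mem_top u) (hN₁N hy)
  have hcardeq : Nat.card N = p * Nat.card (K'.map N.subtype) := by
    rw [hcardN₁, hm, ← pow_succ']
    congr 1; omega
  have hlt : Nat.card (K'.map N.subtype) < Nat.card N := by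
    rw [hcardeq]
    have hpos : 0 < Nat.card (K'.map N.subtype) := Nat.card_pos
    have := hp.out.one_lt
    nlinarith
  have hrel : (K'.map N.subtype).relIndex N = p := by
    have h1 := Subgroup.card_mul_index ((K'.map N.subtype).subgroupOf N)
    have h2 : Nat.card ((K'.map N.subtype).subgroupOf N) = Nat.card (K'.map N.subtype) :=
      Nat.card_congr (Subgroup.subgroupOfEquivOfLe hN₁N).toEquiv
    rw [h2, hcardeq] at h1
    have hpos : 0 < Nat.card (K'.map N.subtype) := Nat.card_pos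
    have h3 : ((K'.map N.subtype).subgroupOf N).index = p := by
      have h4 : Nat.card (K'.map N.subtype) * ((K'.map N.subtype).subgroupOf N).index =
          Nat.card (K'.map N.subtype) * p := by rw [h1, mul_comm]
      exact Nat.eq_of_mul_eq_mul_left hpos h4
    exact h3
  obtain ⟨z₀, hz₀N, hz₀⟩ : ∃ z ∈ N, z ∉ K'.map N.subtype := by
    by_contra hcon
    push Not at hcon
    have h1 : N ≤ K'.map N.subtype := fun z hz => hcon z hz
    have := Subgroup.card_le_of_le h1
    omega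
  refine ⟨K'.map N.subtype, hnormal, hN₁N, hlt, hCN₁, ?_, ?_, ⟨z₀, hz₀N, hz₀⟩⟩
  · intro z hz
    haveI := hnormal
    have := Subgroup.pow_relIndex_mem (K'.map N.subtype) hz
    rwa [hrel] at this
  · intro S hS ⟨z, hzS, hzN, hzN₁⟩
    have h1 : K'.map N.subtype ≤ S ⊓ N := le_inf hS hN₁N
    have h2 : Nat.card (K'.map N.subtype) ∣ Nat.card (S ⊓ N : Subgroup T) :=
      Subgroup.card_dvd_of_le h1
    have h3 : Nat.card (S ⊓ N : Subgroup T) ∣ Nat.card N := Subgroup.card_dvd_of_le inf_le_right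
    obtain ⟨d, hd⟩ := h2
    have hpos : 0 < Nat.card (K'.map N.subtype) := Nat.card_pos
    have h4 : d ∣ p := by
      rw [hd, hcardeq, mul_comm p] at h3
      exact Nat.dvd_of_mul_dvd_mul_left hpos h3
    rcases (Nat.dvd_prime hp.out).1 h4 with h5 | h5
    · exfalso
      rw [h5, mul_one] at hd
      have h6 : K'.map N.subtype = S ⊓ N :=
        Subgroup.eq_of_le_of_card_ge h1 hd.le
      apply hzN₁
      rw [h6]
      exact ⟨hzS, hzN⟩
    · have h6 : (S ⊓ N : Subgroup T) = N := by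
        apply Subgroup.eq_of_le_of_card_ge inf_le_right
        rw [hd, h5, hcardeq, mul_comm]
      rw [← h6]
      exact inf_le_left

/-! ### The setting -/

section setting

variable {G : Type*} [Group G]

theorem mem_normalizer_of_map_conj_eq {Q : Subgroup G} {g : G}
    (h : Q.map (MulAut.conj g).toMonoidHom = Q) : g ∈ Subgroup.normalizer (Q : Set G) := by
  rw [Subgroup.mem_normalizer_iff]
  intro y
  constructor
  · intro hy
    rw [← h]
    exact ⟨y, hy, by simp [MulAut.conj_apply]⟩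
  · intro hy
    rw [← h] at hy
    obtain ⟨y', hy', he⟩ := hy
    have : y' = y := by simpa [MulAut.conj_apply] using he
    rwa [← this]

theorem sylow_le_normalizer {p : ℕ} (P : Sylow p G) (Q : Subgroup G)
    (hQ : Cfsg.IsWeaklyClosed Q (P : Subgroup G)) :
    (P : Subgroup G) ≤ Subgroup.normalizer (Q : Set G) := by
  intro u hu
  apply mem_normalizer_of_map_conj_eq
  apply hQ.2 u
  rintro _ ⟨y, hy, rfl⟩
  show u * y * u⁻¹ ∈ (P : Subgroup G)
  exact Subgroup.mul_mem _ (Subgroup.mul_mem _ hu (hQ.1 hy)) (Subgroup.inv_mem _ hu)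

theorem exists_conj_le [Finite G] {p : ℕ} [hp : Fact p.Prime] (P : Sylow p G) (H : Subgroup G)
    (hPH : (P : Subgroup G) ≤ H) (T : Subgroup G) (hTH : T ≤ H) (hT : IsPGroup p T) :
    ∃ h ∈ H, ∀ t ∈ T, h * t * h⁻¹ ∈ (P : Subgroup G) := by
  have hT' : IsPGroup p (T.subgroupOf H) := hT.comap_subtype
  obtain ⟨S, hS⟩ := hT'.exists_le_sylow
  obtain ⟨h, hh⟩ := MulAction.exists_smul_eq ↥H S (P.subtype hPH)
  refine ⟨(h : G), h.2, ?_⟩
  intro t ht
  have h1 : (⟨t, hTH ht⟩ : H) ∈ (S : Subgroup H) := hS (Subgroup.mem_subgroupOf.2 ht)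
  have h2 : MulAut.conj h • (⟨t, hTH ht⟩ : H) ∈ MulAut.conj h • (S : Subgroup H) :=
    Subgroup.smul_mem_pointwise_smul _ _ _ h1
  rw [← Sylow.pointwise_smul_def, ← Sylow.smul_def, hh] at h2
  have h3 : (MulAut.conj h • (⟨t, hTH ht⟩ : H) : H) ∈ (P : Subgroup G).subgroupOf H := h2
  rw [Subgroup.mem_subgroupOf] at h3
  simpa [MulAut.smul_def, MulAut.conj_apply] using h3

theorem fixQ_iff [Finite G] {p : ℕ} [hp : Fact p.Prime] (P : Sylow p G) (Q : Subgroup G)
    (hQ : Cfsg.IsWeaklyClosed Q (P : Subgroup G)) (ω : G ⧸ Subgroup.normalizer (Q : Set G)) :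
    (∀ z ∈ Q, z • ω = ω) ↔ ω = ((1 : G) : G ⧸ Subgroup.normalizer (Q : Set G)) := by
  have hPH := sylow_le_normalizer P Q hQ
  constructor
  · intro hfix
    induction ω using QuotientGroup.induction_on with
    | H x =>
      -- `x⁻¹ Q x ≤ H`
      have h1 : ∀ z ∈ Q, x⁻¹ * z * x ∈ Subgroup.normalizer (Q : Set G) := by
        intro z hz
        have h2 := hfix z hz
        have h3 : ((z * x : G) : G ⧸ Subgroup.normalizer (Q : Set G)) = (x : G ⧸ _) := h2
        rw [QuotientGroup.eq] at h3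
        have h4 := Subgroup.inv_mem _ h3
        have h5 : ((z * x)⁻¹ * x)⁻¹ = x⁻¹ * z * x := by group
        rwa [h5] at h4
      have hTH : Q.map (MulAut.conj x⁻¹).toMonoidHom ≤ Subgroup.normalizer (Q : Set G) := by
        rintro _ ⟨z, hz, rfl⟩
        have := h1 z hz
        simpa [MulAut.conj_apply] using this
      have hT : IsPGroup p (Q.map (MulAut.conj x⁻¹).toMonoidHom) :=
        (P.isPGroup'.to_le hQ.1).map _
      obtain ⟨h, hhH, hh⟩ := exists_conj_le P _ hPH _ hTH hT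
      have h6 : Q.map (MulAut.conj (h * x⁻¹)).toMonoidHom ≤ (P : Subgroup G) := by
        rintro _ ⟨z, hz, rfl⟩
        have := hh (x⁻¹ * z * x) ⟨z, hz, by simp [MulAut.conj_apply]⟩
        have e : (MulAut.conj (h * x⁻¹)).toMonoidHom z = h * (x⁻¹ * z * x) * h⁻¹ := by
          show (h * x⁻¹) * z * (h * x⁻¹)⁻¹ = _
          group
        rw [e]; exact this
      have h7 := mem_normalizer_of_map_conj_eq (hQ.2 _ h6)
      have h8 : x⁻¹ ∈ Subgroup.normalizer (Q : Set G) := by
        have := Subgroup.mul_mem _ (Subgroup.inv_mem _ hhH) h7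
        simpa using this
      rw [QuotientGroup.eq]
      simpa using h8
  · rintro rfl z hz
    have h3 : ((z * 1 : G) : G ⧸ Subgroup.normalizer (Q : Set G)) = ((1 : G) : G ⧸ _) := by
      rw [QuotientGroup.eq]
      have : (z * 1)⁻¹ * 1 = z⁻¹ := by group
      rw [this]
      exact Subgroup.inv_mem _ (Subgroup.le_normalizer hz)
    exact h3

variable (p : ℕ) (Q : Subgroup G)

/-- `X = O^p(G) ∩ N_G(Q)` -/
def Xs : Subgroup G := Cfsg.pResidual p G ⊓ Subgroup.normalizer (Q : Set G)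

/-- `R = [X, H] O^p(H)` -/
def Rs : Subgroup G :=
  ⁅Xs p Q, Subgroup.normalizer (Q : Set G)⁆ ⊔ Cfsg.pResidualOf p (Subgroup.normalizer (Q : Set G))

/-- `X` as a subgroup of `O^p(G)` -/
def X1 : Subgroup ↥(Cfsg.pResidual p G) :=
  (Subgroup.normalizer (Q : Set G)).subgroupOf (Cfsg.pResidual p G)

def R1 : Subgroup ↥(X1 p Q) :=
  (Rs p Q).comap ((Cfsg.pResidual p G).subtype.comp (X1 p Q).subtype)

def BB : Subgroup (Abelianization ↥(X1 p Q)) := (R1 p Q).map Abelianization.of

abbrev AA := Abelianization ↥(X1 p Q) ⧸ BB p Q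

def phi : ↥(X1 p Q) →* AA p Q := (QuotientGroup.mk' (BB p Q)).comp Abelianization.of

theorem mem_Xs {v : G} : v ∈ Xs p Q ↔
    v ∈ Cfsg.pResidual p G ∧ v ∈ Subgroup.normalizer (Q : Set G) := Subgroup.mem_inf

open Classical in
noncomputable def pi' (v : G) : AA p Q :=
  if hv : v ∈ Xs p Q then
    phi p Q ⟨⟨v, ((mem_Xs p Q).1 hv).1⟩, Subgroup.mem_subgroupOf.2 ((mem_Xs p Q).1 hv).2⟩
  else 1

theorem pi'_mul {v w : G} (hv : v ∈ Xs p Q) (hw : w ∈ Xs p Q) :
    pi' p Q (v * w) = pi' p Q v * pi' p Q w := by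
  unfold pi'
  rw [dif_pos hv, dif_pos hw, dif_pos (Subgroup.mul_mem _ hv hw), ← map_mul]
  rfl

theorem pi'_one : pi' p Q (1 : G) = 1 := by
  unfold pi'
  rw [dif_pos (Subgroup.one_mem _)]
  exact map_one _

theorem pi'_inv {v : G} (hv : v ∈ Xs p Q) : pi' p Q v⁻¹ = (pi' p Q v)⁻¹ := by
  have h1 := pi'_mul p Q hv (Subgroup.inv_mem _ hv)
  rw [mul_inv_cancel, pi'_one] at h1
  exact (eq_inv_of_mul_eq_one_right h1.symm)

theorem pi'_pow {v : G} (hv : v ∈ Xs p Q) (n : ℕ) : pi' p Q (v ^ n) = pi' p Q v ^ n := by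
  induction n with
  | zero => simp [pi'_one]
  | succ n ih => rw [pow_succ, pow_succ, pi'_mul p Q (Subgroup.pow_mem _ hv n) hv, ih]

theorem pi'_eq_one_of_mem {v : G} (hv : v ∈ Xs p Q) (hR : v ∈ Rs p Q) : pi' p Q v = 1 := by
  unfold pi'
  rw [dif_pos hv]
  unfold phi
  rw [MonoidHom.comp_apply, QuotientGroup.mk'_apply, QuotientGroup.eq_one_iff]
  exact ⟨_, (show _ ∈ R1 p Q from hR), rfl⟩

theorem coe_commutator_mem (c : ↥(X1 p Q)) (hc : c ∈ commutator ↥(X1 p Q)) :
    ((c : ↥(Cfsg.pResidual p G)) : G) ∈ ⁅Xs p Q, Subgroup.normalizer (Q : Set G)⁆ := by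
  rw [commutator_eq_closure] at hc
  induction hc using Subgroup.closure_induction with
  | mem c hc =>
    obtain ⟨a, b, rfl⟩ := hc
    have ha : ((a : ↥(Cfsg.pResidual p G)) : G) ∈ Xs p Q :=
      (mem_Xs p Q).2 ⟨(a : ↥(Cfsg.pResidual p G)).2, Subgroup.mem_subgroupOf.1 a.2⟩
    have hb : ((b : ↥(Cfsg.pResidual p G)) : G) ∈ Subgroup.normalizer (Q : Set G) :=
      Subgroup.mem_subgroupOf.1 b.2
    have := Subgroup.commutator_mem_commutator ha hb
    simpa [commutatorElement_def] using this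
  | one => simp
  | mul a b _ _ ha hb =>
    have := Subgroup.mul_mem _ ha hb
    simpa using this
  | inv a _ ha =>
    have := Subgroup.inv_mem _ ha
    simpa using this

theorem mem_of_pi'_eq_one {v : G} (hv : v ∈ Xs p Q) (h : pi' p Q v = 1) : v ∈ Rs p Q := by
  unfold pi' at h
  rw [dif_pos hv] at h
  unfold phi at h
  rw [MonoidHom.comp_apply, QuotientGroup.mk'_apply, QuotientGroup.eq_one_iff] at h
  obtain ⟨w, hw, hwe⟩ := h
  set v' : ↥(X1 p Q) :=
    ⟨⟨v, ((mem_Xs p Q).1 hv).1⟩, Subgroup.mem_subgroupOf.2 ((mem_Xs p Q).1 hv).2⟩ with hv'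
  have h1 : w⁻¹ * v' ∈ commutator ↥(X1 p Q) := by
    rw [← Abelianization.ker_of, MonoidHom.mem_ker, map_mul, map_inv, hwe]
    exact inv_mul_cancel _
  have h2 := coe_commutator_mem p Q _ h1
  have h3 : (((w⁻¹ * v' : ↥(X1 p Q)) : ↥(Cfsg.pResidual p G)) : G) ∈ Rs p Q :=
    (le_sup_left : _ ≤ Rs p Q) h2
  have h4 : ((w : ↥(Cfsg.pResidual p G)) : G) ∈ Rs p Q := hw
  have h5 := Subgroup.mul_mem _ h4 h3
  have h6 : ((w : ↥(Cfsg.pResidual p G)) : G) *
      (((w⁻¹ * v' : ↥(X1 p Q)) : ↥(Cfsg.pResidual p G)) : G) = v := by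
    simp [hv']
  rwa [h6] at h5

theorem conj_mem_Xs {h v : G} (hh : h ∈ Subgroup.normalizer (Q : Set G)) (hv : v ∈ Xs p Q) :
    h * v * h⁻¹ ∈ Xs p Q := by
  haveI := Cfsg.Agent.helper10.pResidual_normal p G
  rw [mem_Xs] at hv ⊢
  exact ⟨Subgroup.Normal.conj_mem inferInstance v hv.1 h,
    Subgroup.mul_mem _ (Subgroup.mul_mem _ hh hv.2) (Subgroup.inv_mem _ hh)⟩

theorem pi'_conj {h v : G} (hh : h ∈ Subgroup.normalizer (Q : Set G)) (hv : v ∈ Xs p Q) :
    pi' p Q (h * v * h⁻¹) = pi' p Q v := by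
  have h1 : h * v * h⁻¹ = ⁅h, v⁆ * v := by rw [commutatorElement_def]; group
  have h2 : ⁅h, v⁆ ∈ Xs p Q := by
    rw [commutatorElement_def]
    exact Subgroup.mul_mem _ (conj_mem_Xs p Q hh hv) (Subgroup.inv_mem _ hv)
  have h3 : ⁅h, v⁆ ∈ Rs p Q := by
    apply (le_sup_left : _ ≤ Rs p Q)
    rw [Subgroup.commutator_comm]
    exact Subgroup.commutator_mem_commutator hh hv
  rw [h1, pi'_mul p Q h2 hv, pi'_eq_one_of_mem p Q h2 h3, one_mul]

theorem pi'_conj' {h v : G} (hh : h ∈ Subgroup.normalizer (Q : Set G)) (hv : v ∈ Xs p Q) :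
    pi' p Q (h⁻¹ * v * h) = pi' p Q v := by
  have := pi'_conj p Q (Subgroup.inv_mem _ hh) hv
  rwa [inv_inv] at this

end setting

section transfer

open scoped Classical

variable {G : Type*} [Group G] [Finite G] (p : ℕ) [hp : Fact p.Prime] (Q : Subgroup G)

theorem phi_surjective : Function.Surjective (phi p Q) := by
  have hof : Function.Surjective (Abelianization.of : ↥(X1 p Q) →* _) := by
    intro a
    obtain ⟨x, rfl⟩ := QuotientGroup.mk_surjective a
    exact ⟨x, rfl⟩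
  unfold phi
  rw [MonoidHom.coe_comp]
  exact (QuotientGroup.mk'_surjective _).comp hof

theorem phi_eq_pi' (e : ↥(X1 p Q)) :
    phi p Q e = pi' p Q ((e : ↥(Cfsg.pResidual p G)) : G) := by
  have he : ((e : ↥(Cfsg.pResidual p G)) : G) ∈ Xs p Q :=
    (mem_Xs p Q).2 ⟨(e : ↥(Cfsg.pResidual p G)).2, Subgroup.mem_subgroupOf.1 e.2⟩
  unfold pi'
  rw [dif_pos he]

theorem AA_isPGroup : IsPGroup p (AA p Q) := by
  intro a
  obtain ⟨v, rfl⟩ := phi_surjective p Q a
  have hvH : ((v : ↥(Cfsg.pResidual p G)) : G) ∈ Subgroup.normalizer (Q : Set G) :=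
    Subgroup.mem_subgroupOf.1 v.2
  have h1 := Cfsg.Agent.helper10.pow_mem_pResidual p
    (⟨_, hvH⟩ : ↥(Subgroup.normalizer (Q : Set G)))
  refine ⟨(orderOf (⟨_, hvH⟩ : ↥(Subgroup.normalizer (Q : Set G)))).factorization p, ?_⟩
  rw [← map_pow, phi_eq_pi']
  have hX : (((v ^ p ^ (orderOf (⟨_, hvH⟩ : ↥(Subgroup.normalizer (Q : Set G)))).factorization p :
      ↥(X1 p Q)) : ↥(Cfsg.pResidual p G)) : G) ∈ Xs p Q :=
    (mem_Xs p Q).2 ⟨Subtype.property _, Subgroup.mem_subgroupOf.1 (Subtype.property _)⟩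
  apply pi'_eq_one_of_mem p Q hX
  apply (le_sup_right : _ ≤ Rs p Q)
  unfold Cfsg.pResidualOf
  exact ⟨_, h1, rfl⟩

theorem transfer_eq_one (k : ↥(Cfsg.pResidual p G)) :
    MonoidHom.transfer (phi p Q) k = 1 := by
  have htop : k ∈ Cfsg.pResidual p ↥(Cfsg.pResidual p G) := by
    rw [Cfsg.Agent.helper10.pResidual_pResidual_eq_top]; trivial
  change k ∈ Subgroup.closure {g : ↥(Cfsg.pResidual p G) | Nat.Coprime (orderOf g) p} at htop
  induction htop using Subgroup.closure_induction with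
  | mem k hk =>
    have h1 : orderOf (MonoidHom.transfer (phi p Q) k) ∣ orderOf k := orderOf_map_dvd _ k
    obtain ⟨e, he⟩ := IsPGroup.iff_orderOf.1 (AA_isPGroup p Q) (MonoidHom.transfer (phi p Q) k)
    have h2 : Nat.Coprime (p ^ e) p := by
      rw [← he]; exact Nat.Coprime.coprime_dvd_left h1 hk
    have he0 : e = 0 := by
      by_contra hne
      have h3 : p ∣ p ^ e := dvd_pow_self p hne
      have h4 := Nat.Coprime.eq_one_of_dvd h2.symm h3
      exact hp.out.ne_one h4
    rw [he0, pow_zero, orderOf_eq_one_iff] at he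
    exact he
  | one => exact map_one _
  | mul a b _ _ ha hb => rw [map_mul, ha, hb, one_mul]
  | inv a _ ha => rw [map_inv, ha, inv_one]

/-- comparison of coset spaces -/
def iota : ↥(Cfsg.pResidual p G) ⧸ X1 p Q → G ⧸ Subgroup.normalizer (Q : Set G) :=
  Quotient.map' (fun k => (k : G)) (by
    intro a b hab
    rw [QuotientGroup.leftRel_apply] at hab ⊢
    exact Subgroup.mem_subgroupOf.1 hab)

theorem iota_mk (k : ↥(Cfsg.pResidual p G)) :
    iota p Q (k : ↥(Cfsg.pResidual p G) ⧸ X1 p Q) =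
      ((k : G) : G ⧸ Subgroup.normalizer (Q : Set G)) := rfl

theorem iota_injective : Function.Injective (iota p Q) := by
  intro a b
  induction a using QuotientGroup.induction_on with
  | H a =>
  induction b using QuotientGroup.induction_on with
  | H b =>
  intro h
  rw [iota_mk, iota_mk, QuotientGroup.eq] at h
  rw [QuotientGroup.eq]
  exact Subgroup.mem_subgroupOf.2 h

theorem iota_surjective (P : Sylow p G)
    (hPH : (P : Subgroup G) ≤ Subgroup.normalizer (Q : Set G)) :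
    Function.Surjective (iota p Q) := by
  intro ω
  induction ω using QuotientGroup.induction_on with
  | H y =>
  obtain ⟨s, hs, k, hk, rfl⟩ := Cfsg.Agent.helper10.exists_mul_of_pResidual_sylow p P y
  haveI := Cfsg.Agent.helper10.pResidual_normal p G
  refine ⟨((⟨s * k * s⁻¹, Subgroup.Normal.conj_mem inferInstance k hk s⟩ :
    ↥(Cfsg.pResidual p G)) : ↥(Cfsg.pResidual p G) ⧸ X1 p Q), ?_⟩
  rw [iota_mk, QuotientGroup.eq]
  show (s * k * s⁻¹)⁻¹ * (s * k) ∈ Subgroup.normalizer (Q : Set G)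
  have : (s * k * s⁻¹)⁻¹ * (s * k) = s := by group
  rw [this]
  exact hPH hs

theorem iota_smul (k : ↥(Cfsg.pResidual p G)) (ω' : ↥(Cfsg.pResidual p G) ⧸ X1 p Q) :
    iota p Q (k • ω') = (k : G) • iota p Q ω' := by
  induction ω' using QuotientGroup.induction_on with
  | H a => rfl

/-- the function on fixed points -/
noncomputable def FF (g : G) (ω : G ⧸ Subgroup.normalizer (Q : Set G)) : AA p Q :=
  pi' p Q (ω.out⁻¹ * g * ω.out)

theorem FF_rep {g : G} (hgK : g ∈ Cfsg.pResidual p G) (y : G)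
    (hy : g • (y : G ⧸ Subgroup.normalizer (Q : Set G)) = (y : G ⧸ _)) :
    FF p Q g (y : G ⧸ _) = pi' p Q (y⁻¹ * g * y) ∧ y⁻¹ * g * y ∈ Xs p Q := by
  haveI := Cfsg.Agent.helper10.pResidual_normal p G
  have h1 : y⁻¹ * g * y ∈ Xs p Q := by
    rw [mem_Xs]
    constructor
    · have := Subgroup.Normal.conj_mem (inferInstance : (Cfsg.pResidual p G).Normal) g hgK y⁻¹
      simpa using this
    · have h2 : ((g * y : G) : G ⧸ Subgroup.normalizer (Q : Set G)) = (y : G ⧸ _) := hy
      rw [QuotientGroup.eq] at h2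
      have := Subgroup.inv_mem _ h2
      have e : ((g * y)⁻¹ * y)⁻¹ = y⁻¹ * g * y := by group
      rwa [e] at this
  refine ⟨?_, h1⟩
  unfold FF
  have h3 : y⁻¹ * (y : G ⧸ Subgroup.normalizer (Q : Set G)).out ∈
      Subgroup.normalizer (Q : Set G) := by
    rw [← QuotientGroup.eq]
    exact (QuotientGroup.out_eq' _).symm
  have h4 : (y : G ⧸ Subgroup.normalizer (Q : Set G)).out⁻¹ * g *
      (y : G ⧸ Subgroup.normalizer (Q : Set G)).out =
      (y⁻¹ * (y : G ⧸ Subgroup.normalizer (Q : Set G)).out)⁻¹ * (y⁻¹ * g * y) *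
      (y⁻¹ * (y : G ⧸ Subgroup.normalizer (Q : Set G)).out) := by group
  rw [h4, pi'_conj' p Q h3 h1]

theorem transfer_eq_prod (P : Sylow p G)
    (hPH : (P : Subgroup G) ≤ Subgroup.normalizer (Q : Set G))
    [Fintype (G ⧸ Subgroup.normalizer (Q : Set G))] (g : G) (hgK : g ∈ Cfsg.pResidual p G)
    (hsmall : ∀ (x : G) (r : ℕ), r ∣ orderOf g → r ≠ 1 → x⁻¹ * g ^ r * x ∈ Xs p Q →
      pi' p Q (x⁻¹ * g ^ r * x) = 1) :
    MonoidHom.transfer (phi p Q) (⟨g, hgK⟩ : ↥(Cfsg.pResidual p G)) =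
      ∏ ω ∈ Finset.univ.filter (fun ω : G ⧸ Subgroup.normalizer (Q : Set G) => g • ω = ω),
        FF p Q g ω := by
  letI : Fintype (Quotient (MulAction.orbitRel
      (Subgroup.zpowers (⟨g, hgK⟩ : ↥(Cfsg.pResidual p G)))
      (↥(Cfsg.pResidual p G) ⧸ X1 p Q))) := Fintype.ofFinite _
  rw [MonoidHom.transfer_eq_prod_quotient_orbitRel_zpowers_quot]
  have hfixiff : ∀ ω' : ↥(Cfsg.pResidual p G) ⧸ X1 p Q,
      (⟨g, hgK⟩ : ↥(Cfsg.pResidual p G)) • ω' = ω' ↔ g • iota p Q ω' = iota p Q ω' := by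
    intro ω'
    constructor
    · intro h
      have := iota_smul p Q ⟨g, hgK⟩ ω'
      rw [h] at this
      exact this.symm
    · intro h
      apply iota_injective p Q
      rw [iota_smul]
      exact h
  have hterm : ∀ q : Quotient (MulAction.orbitRel
      (Subgroup.zpowers (⟨g, hgK⟩ : ↥(Cfsg.pResidual p G)))
      (↥(Cfsg.pResidual p G) ⧸ X1 p Q)),
      phi p Q ⟨q.out.out⁻¹ * (⟨g, hgK⟩ : ↥(Cfsg.pResidual p G)) ^
          Function.minimalPeriod ((⟨g, hgK⟩ : ↥(Cfsg.pResidual p G)) • ·) q.out * q.out.out,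
        QuotientGroup.out_conj_pow_minimalPeriod_mem (X1 p Q) ⟨g, hgK⟩ q.out⟩ =
      if Function.minimalPeriod ((⟨g, hgK⟩ : ↥(Cfsg.pResidual p G)) • ·) q.out = 1 then
        FF p Q g (iota p Q q.out) else 1 := by
    intro q
    rw [phi_eq_pi']
    have hmemX1 := QuotientGroup.out_conj_pow_minimalPeriod_mem (X1 p Q)
      (⟨g, hgK⟩ : ↥(Cfsg.pResidual p G)) q.out
    have hmemX : ((q.out.out : ↥(Cfsg.pResidual p G)) : G)⁻¹ *
        g ^ Function.minimalPeriod ((⟨g, hgK⟩ : ↥(Cfsg.pResidual p G)) • ·) q.out *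
        ((q.out.out : ↥(Cfsg.pResidual p G)) : G) ∈ Xs p Q :=
      (mem_Xs p Q).2 ⟨Subtype.property (q.out.out⁻¹ * (⟨g, hgK⟩ : ↥(Cfsg.pResidual p G)) ^
          Function.minimalPeriod ((⟨g, hgK⟩ : ↥(Cfsg.pResidual p G)) • ·) q.out * q.out.out),
        Subgroup.mem_subgroupOf.1 hmemX1⟩
    show pi' p Q (((q.out.out : ↥(Cfsg.pResidual p G)) : G)⁻¹ *
        g ^ Function.minimalPeriod ((⟨g, hgK⟩ : ↥(Cfsg.pResidual p G)) • ·) q.out *
        ((q.out.out : ↥(Cfsg.pResidual p G)) : G)) = _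
    by_cases hr : Function.minimalPeriod ((⟨g, hgK⟩ : ↥(Cfsg.pResidual p G)) • ·) q.out = 1
    · rw [if_pos hr, hr, pow_one]
      have hfix : (⟨g, hgK⟩ : ↥(Cfsg.pResidual p G)) • q.out = q.out :=
        Function.minimalPeriod_eq_one_iff_isFixedPt.1 hr
      have hout : ((q.out.out : ↥(Cfsg.pResidual p G)) :
          ↥(Cfsg.pResidual p G) ⧸ X1 p Q) = q.out := QuotientGroup.out_eq' _
      have h1 := (hfixiff q.out).1 hfix
      have hio : iota p Q q.out = (((q.out.out : ↥(Cfsg.pResidual p G)) : G) :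
          G ⧸ Subgroup.normalizer (Q : Set G)) := by
        rw [← iota_mk, hout]
      rw [hio] at h1 ⊢
      exact ((FF_rep p Q hgK _ h1).1).symm
    · rw [if_neg hr]
      refine hsmall _ _ ?_ hr hmemX
      have h1 : (⟨g, hgK⟩ : ↥(Cfsg.pResidual p G)) ^ orderOf g • q.out = q.out := by
        have : orderOf (⟨g, hgK⟩ : ↥(Cfsg.pResidual p G)) = orderOf g :=
          (Subgroup.orderOf_coe _).symm
        rw [← this, pow_orderOf_eq_one, one_smul]
      exact MulAction.pow_smul_eq_iff_minimalPeriod_dvd.1 h1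
  rw [Finset.prod_congr rfl (fun q _ => hterm q), ← Finset.prod_filter]
  refine Finset.prod_bij (fun q _ => iota p Q q.out) ?_ ?_ ?_ ?_
  · intro q hq
    rw [Finset.mem_filter] at hq ⊢
    refine ⟨Finset.mem_univ _, ?_⟩
    exact (hfixiff q.out).1 (Function.minimalPeriod_eq_one_iff_isFixedPt.1 hq.2)
  · intro q₁ _ q₂ _ h
    exact Quotient.out_injective (iota_injective p Q h)
  · intro ω hω
    rw [Finset.mem_filter] at hω
    obtain ⟨ω', rfl⟩ := iota_surjective p Q P hPH ω
    have hfix := (hfixiff ω').2 hω.2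
    have hout : (Quotient.mk'' ω' : Quotient (MulAction.orbitRel
        (Subgroup.zpowers (⟨g, hgK⟩ : ↥(Cfsg.pResidual p G)))
        (↥(Cfsg.pResidual p G) ⧸ X1 p Q))).out = ω' := by
      have h1 := Quotient.mk_out (s := MulAction.orbitRel
        (Subgroup.zpowers (⟨g, hgK⟩ : ↥(Cfsg.pResidual p G)))
        (↥(Cfsg.pResidual p G) ⧸ X1 p Q)) ω'
      change MulAction.orbitRel _ _ _ _ at h1
      rw [MulAction.orbitRel_apply] at h1
      obtain ⟨t, ht⟩ := h1
      have h2 : (t : ↥(Cfsg.pResidual p G)) ∈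
          MulAction.stabilizer ↥(Cfsg.pResidual p G) ω' := by
        have h3 : Subgroup.zpowers (⟨g, hgK⟩ : ↥(Cfsg.pResidual p G)) ≤
            MulAction.stabilizer ↥(Cfsg.pResidual p G) ω' := by
          rw [Subgroup.zpowers_le]; exact hfix
        exact h3 t.2
      rw [← ht]
      exact h2
    refine ⟨Quotient.mk'' ω', ?_, ?_⟩
    · rw [Finset.mem_filter]
      refine ⟨Finset.mem_univ _, ?_⟩
      rw [hout]
      exact Function.minimalPeriod_eq_one_iff_isFixedPt.2 hfix
    · show iota p Q (Quotient.mk'' ω' : Quotient _).out = iota p Q ω'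
      rw [hout]
  · intro q hq
    rfl

end transfer

section main

open scoped Classical

variable {G : Type*} [Group G] [Finite G] (p : ℕ) [hp : Fact p.Prime] (Q : Subgroup G)

theorem inv_conj_pow (y g : G) (n : ℕ) : (y⁻¹ * g * y) ^ n = y⁻¹ * g ^ n * y := by
  have := conj_pow (a := y⁻¹) (b := g) (i := n)
  rwa [inv_inv] at this

theorem lemmaC (P : Sylow p G) (hQ : Cfsg.IsWeaklyClosed Q (P : Subgroup G))
    (hE : ∀ u ∈ (P : Subgroup G), ∀ z ∈ Q, (fun y : G => y⁻¹ * z⁻¹ * y * z)^[p - 1] u = 1)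
    [Fintype (G ⧸ Subgroup.normalizer (Q : Set G))] (g : G) (hgP : g ∈ (P : Subgroup G))
    (hgK : g ∈ Cfsg.pResidual p G)
    (hsmall : ∀ (x : G) (r : ℕ), r ∣ orderOf g → r ≠ 1 → x⁻¹ * g ^ r * x ∈ Xs p Q →
      pi' p Q (x⁻¹ * g ^ r * x) = 1)
    (hpg : p ∣ orderOf g) :
    ∀ (n : ℕ) (N : Subgroup ↥(P : Subgroup G)), N.Normal → Nat.card N = n →
      (∀ y ∈ N, ((y : ↥(P : Subgroup G)) : G) ∈ Q) →
      ∏ ω ∈ Finset.univ.filter (fun ω : G ⧸ Subgroup.normalizer (Q : Set G) =>
        g • ω = ω ∧ ¬ ∀ y ∈ N, ((y : ↥(P : Subgroup G)) : G) • ω = ω), FF p Q g ω = 1 := by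
  intro n
  induction n using Nat.strong_induction_on with
  | _ n ih =>
  intro N hNn hcard hNQ
  by_cases hbot : N = ⊥
  · apply Finset.prod_eq_one
    intro ω hω
    exfalso
    rw [Finset.mem_filter] at hω
    apply hω.2.2
    intro y hy
    rw [hbot, Subgroup.mem_bot] at hy
    rw [hy]
    simp
  · haveI := hNn
    obtain ⟨N₁, hN₁n, hN₁N, hlt, hcomm, hpow, hgen, z, hzN, hzN₁⟩ :=
      exists_normal_index_p p P.isPGroup' N hbot
    have ih1 := ih (Nat.card N₁) (by rw [← hcard]; exact hlt) N₁ hN₁n rfl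
      (fun y hy => hNQ y (hN₁N hy))
    have hsplit : ∏ ω ∈ Finset.univ.filter (fun ω : G ⧸ Subgroup.normalizer (Q : Set G) =>
          g • ω = ω ∧ ¬ ∀ y ∈ N, ((y : ↥(P : Subgroup G)) : G) • ω = ω), FF p Q g ω =
        (∏ ω ∈ Finset.univ.filter (fun ω : G ⧸ Subgroup.normalizer (Q : Set G) =>
          g • ω = ω ∧ ¬ ∀ y ∈ N₁, ((y : ↥(P : Subgroup G)) : G) • ω = ω), FF p Q g ω) *
        ∏ ω ∈ Finset.univ.filter (fun ω : G ⧸ Subgroup.normalizer (Q : Set G) =>
          g • ω = ω ∧ (∀ y ∈ N₁, ((y : ↥(P : Subgroup G)) : G) • ω = ω) ∧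
            ¬ ∀ y ∈ N, ((y : ↥(P : Subgroup G)) : G) • ω = ω), FF p Q g ω := by
      rw [← Finset.prod_filter_mul_prod_filter_not
        (Finset.univ.filter (fun ω : G ⧸ Subgroup.normalizer (Q : Set G) =>
          g • ω = ω ∧ ¬ ∀ y ∈ N, ((y : ↥(P : Subgroup G)) : G) • ω = ω))
        (fun ω => ¬ ∀ y ∈ N₁, ((y : ↥(P : Subgroup G)) : G) • ω = ω)]
      rw [Finset.filter_filter, Finset.filter_filter]
      congr 1
      · apply Finset.prod_congr _ (fun _ _ => rfl)
        apply Finset.filter_congr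
        intro ω _
        constructor
        · rintro ⟨⟨h1, h2⟩, h3⟩; exact ⟨h1, h3⟩
        · rintro ⟨h1, h3⟩
          exact ⟨⟨h1, fun h => h3 (fun y hy => h y (hN₁N hy))⟩, h3⟩
      · apply Finset.prod_congr _ (fun _ _ => rfl)
        apply Finset.filter_congr
        intro ω _
        constructor
        · rintro ⟨⟨h1, h2⟩, h3⟩; exact ⟨h1, not_not.1 h3, h2⟩
        · rintro ⟨h1, h3, h2⟩; exact ⟨⟨h1, h2⟩, not_not.2 h3⟩
    rw [hsplit, ih1, one_mul]
    obtain ⟨zG, hzG⟩ : ∃ zG : G, zG = ((z : ↥(P : Subgroup G)) : G) := ⟨_, rfl⟩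
    have hzQ : zG ∈ Q := by rw [hzG]; exact hNQ z hzN
    obtain ⟨Y, hY⟩ : ∃ Y : Finset (G ⧸ Subgroup.normalizer (Q : Set G)),
        Y = Finset.univ.filter (fun ω : G ⧸ Subgroup.normalizer (Q : Set G) =>
          g • ω = ω ∧ (∀ y ∈ N₁, ((y : ↥(P : Subgroup G)) : G) • ω = ω) ∧
            ¬ ∀ y ∈ N, ((y : ↥(P : Subgroup G)) : G) • ω = ω) := ⟨_, rfl⟩
    rw [← hY]
    have hmemY : ∀ ω, ω ∈ Y ↔ (g • ω = ω ∧ (∀ y ∈ N₁, ((y : ↥(P : Subgroup G)) : G) • ω = ω) ∧
            ¬ ∀ y ∈ N, ((y : ↥(P : Subgroup G)) : G) • ω = ω) := by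
      intro ω
      rw [hY, Finset.mem_filter]
      simp
    have hclosed : ∀ ω ∈ Y, zG • ω ∈ Y := by
      intro ω hω
      rw [hmemY] at hω ⊢
      obtain ⟨hgω, hfix₁, hnfix⟩ := hω
      refine ⟨?_, ?_, ?_⟩
      · have he : (g⁻¹ * zG⁻¹ * g * zG) • ω = ω := by
          have hmem : (⟨g, hgP⟩ : ↥(P : Subgroup G))⁻¹ * z⁻¹ * ⟨g, hgP⟩ * z ∈ N₁ := by
            apply hcomm
            rw [Subgroup.commutator_comm]
            have := Subgroup.commutator_mem_commutator
              (H₁ := (⊤ : Subgroup ↥(P : Subgroup G))) (H₂ := N)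
              (Subgroup.mem_top (⟨g, hgP⟩ : ↥(P : Subgroup G))⁻¹) (N.inv_mem hzN)
            rwa [commutatorElement_def, inv_inv, inv_inv] at this
          have := hfix₁ _ hmem
          rw [hzG]
          exact this
        calc g • zG • ω = (zG * g * (g⁻¹ * zG⁻¹ * g * zG)) • ω := by
              rw [← mul_smul]; congr 1; group
          _ = zG • g • (g⁻¹ * zG⁻¹ * g * zG) • ω := by rw [mul_smul, mul_smul]
          _ = zG • ω := by rw [he, hgω]
      · intro y hy
        have hmem : z⁻¹ * y * z ∈ N₁ := by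
          have := hN₁n.conj_mem y hy z⁻¹
          rwa [inv_inv] at this
        have h1 := hfix₁ _ hmem
        have h2 : ((z⁻¹ * y * z : ↥(P : Subgroup G)) : G) = zG⁻¹ * (y : G) * zG := by
          rw [hzG]; rfl
        rw [h2] at h1
        calc (y : G) • zG • ω = (zG * (zG⁻¹ * (y : G) * zG)) • ω := by
              rw [← mul_smul]; congr 1; group
          _ = zG • ω := by rw [mul_smul, h1]
      · intro hfix
        apply hnfix
        intro y hy
        have hmem : z * y * z⁻¹ ∈ N := hNn.conj_mem y hy z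
        have h1 := hfix _ hmem
        have h2 : ((z * y * z⁻¹ : ↥(P : Subgroup G)) : G) = zG * (y : G) * zG⁻¹ := by
          rw [hzG]; rfl
        rw [h2, ← mul_smul] at h1
        have h3 : zG * (y : G) * zG⁻¹ * zG = zG * (y : G) := by group
        rw [h3, mul_smul] at h1
        exact smul_left_cancel zG h1
    apply prod_eq_one_of_free_cyclic p hp.out (fun ω => zG • ω) (FF p Q g) Y hclosed
    · -- period
      intro ω hω
      rw [hmemY] at hω
      obtain ⟨hgω, hfix₁, hnfix⟩ := hω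
      rw [smul_iterate]
      have := hfix₁ _ (hpow z hzN)
      rw [hzG]
      exact this
    · -- no fixed point
      intro ω hω hfixz
      rw [hmemY] at hω
      obtain ⟨hgω, hfix₁, hnfix⟩ := hω
      apply hnfix
      have hle := hgen (MulAction.stabilizer ↥(P : Subgroup G) ω)
        (fun y hy => by rw [MulAction.mem_stabilizer_iff]; exact hfix₁ y hy)
        ⟨z, by rw [MulAction.mem_stabilizer_iff]; rw [hzG] at hfixz; exact hfixz, hzN, hzN₁⟩
      intro y hy
      have := hle hy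
      rw [MulAction.mem_stabilizer_iff] at this
      exact this
    · -- orbit product
      intro ω hω
      have hiter : ∀ j : ℕ, zG ^ j • ω ∈ Y := by
        intro j
        induction j with
        | zero => simpa using hω
        | succ j ih => rw [pow_succ', mul_smul]; exact hclosed _ ih
      have hfixj : ∀ j : ℕ, g • (zG ^ j • ω) = zG ^ j • ω := fun j => ((hmemY _).1 (hiter j)).1
      obtain ⟨x, hx⟩ : ∃ x : G, x = ω.out := ⟨_, rfl⟩
      have hxω : ((x : G) : G ⧸ Subgroup.normalizer (Q : Set G)) = ω := by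
        rw [hx]; exact QuotientGroup.out_eq' ω
      obtain ⟨c, hc⟩ : ∃ c : ℕ → G, c = fun k => (fun y : G => y⁻¹ * zG⁻¹ * y * zG)^[k] g :=
        ⟨_, rfl⟩
      have hc0 : c 0 = g := by rw [hc]; rfl
      have hcs : ∀ k, c (k + 1) = (c k)⁻¹ * zG⁻¹ * c k * zG := by
        intro k
        rw [hc]
        show (fun y : G => y⁻¹ * zG⁻¹ * y * zG)^[k + 1] g = _
        rw [Function.iterate_succ_apply']
      have hclast : c (p - 1) = 1 := by rw [hc]; exact hE g hgP zG hzQ
      obtain ⟨w, hw⟩ : ∃ w : ℕ → ℕ → G, w = fun k j => x⁻¹ * (zG ^ j)⁻¹ * c k * zG ^ j * x :=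
        ⟨_, rfl⟩
      have hwrec : ∀ k j, w (k + 1) j = (w k j)⁻¹ * w k (j + 1) := by
        intro k j
        rw [hw]
        show x⁻¹ * (zG ^ j)⁻¹ * c (k + 1) * zG ^ j * x =
          (x⁻¹ * (zG ^ j)⁻¹ * c k * zG ^ j * x)⁻¹ * (x⁻¹ * (zG ^ (j + 1))⁻¹ * c k * zG ^ (j + 1) * x)
        rw [hcs, pow_succ]
        group
      have hw0 : ∀ j, (zG ^ j * x)⁻¹ * g * (zG ^ j * x) = w 0 j := by
        intro j
        rw [hw]
        show _ = x⁻¹ * (zG ^ j)⁻¹ * c 0 * zG ^ j * x
        rw [hc0]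
        group
      have hfixrep : ∀ j, g • (((zG ^ j * x : G)) : G ⧸ Subgroup.normalizer (Q : Set G)) =
          ((zG ^ j * x : G) : G ⧸ Subgroup.normalizer (Q : Set G)) := by
        intro j
        have h1 := hfixj j
        rw [← hxω] at h1
        exact h1
      have hwmem : ∀ k j, w k j ∈ Xs p Q := by
        intro k
        induction k with
        | zero =>
          intro j
          have h3 := (FF_rep p Q hgK (zG ^ j * x) (hfixrep j)).2
          rwa [hw0] at h3
        | succ k ih =>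
          intro j
          rw [hwrec]
          exact Subgroup.mul_mem _ (Subgroup.inv_mem _ (ih j)) (ih (j + 1))
      have hprod := prod_eq_one_of_fwd p (fun k j => pi' p Q (w k j)) ?_ ?_ ?_
      · rw [← hprod]
        apply Finset.prod_congr rfl
        intro j _
        rw [smul_iterate]
        show FF p Q g (zG ^ j • ω) = pi' p Q (w 0 j)
        have h3 := (FF_rep p Q hgK (zG ^ j * x) (hfixrep j)).1
        rw [hw0] at h3
        rw [← h3, ← hxω]
        rfl
      · intro k j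
        show pi' p Q (w (k + 1) j) = (pi' p Q (w k j))⁻¹ * pi' p Q (w k (j + 1))
        rw [hwrec, pi'_mul p Q (Subgroup.inv_mem _ (hwmem k j)) (hwmem k (j + 1)),
          pi'_inv p Q (hwmem k j)]
      · intro j
        show pi' p Q (w 0 j) ^ p = 1
        rw [← pi'_pow p Q (hwmem 0 j)]
        have e : w 0 j ^ p = (zG ^ j * x)⁻¹ * g ^ p * (zG ^ j * x) := by
          rw [← hw0, inv_conj_pow]
        have hmem := Subgroup.pow_mem _ (hwmem 0 j) p
        rw [e] at hmem ⊢
        exact hsmall _ p hpg hp.out.ne_one hmem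
      · show pi' p Q (w (p - 1) 0) = 1
        rw [hw]
        show pi' p Q (x⁻¹ * (zG ^ 0)⁻¹ * c (p - 1) * zG ^ 0 * x) = 1
        rw [hclast]
        have : x⁻¹ * (zG ^ 0)⁻¹ * 1 * zG ^ 0 * x = 1 := by group
        rw [this, pi'_one]

theorem inf_le_Rs (P : Sylow p G) (hQ : Cfsg.IsWeaklyClosed Q (P : Subgroup G))
    (hE : ∀ u ∈ (P : Subgroup G), ∀ z ∈ Q, (fun y : G => y⁻¹ * z⁻¹ * y * z)^[p - 1] u = 1) :
    (P : Subgroup G) ⊓ Cfsg.pResidual p G ≤ Rs p Q := by
  letI : Fintype (G ⧸ Subgroup.normalizer (Q : Set G)) := Fintype.ofFinite _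
  haveI := Cfsg.Agent.helper10.pResidual_normal p G
  have hPH := sylow_le_normalizer P Q hQ
  have key : ∀ n : ℕ, ∀ g : G, g ∈ (P : Subgroup G) → g ∈ Cfsg.pResidual p G → orderOf g = n →
      g ∈ Rs p Q := by
    intro n
    induction n using Nat.strong_induction_on with
    | _ n ih =>
    intro g hgP hgK hgn
    by_cases hg1 : g = 1
    · rw [hg1]; exact Subgroup.one_mem _
    obtain ⟨i, hi⟩ : ∃ i, orderOf g = p ^ i := by
      obtain ⟨k, hk⟩ := P.isPGroup' ⟨g, hgP⟩
      have h1 : g ^ p ^ k = 1 := by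
        have := congrArg Subtype.val hk
        simpa using this
      exact (Nat.dvd_prime_pow hp.out).1 (orderOf_dvd_of_pow_eq_one h1) |>.imp fun i hi => hi.2
    have hi0 : i ≠ 0 := by
      rintro rfl
      rw [pow_zero, orderOf_eq_one_iff] at hi
      exact hg1 hi
    have hpg : p ∣ orderOf g := by rw [hi]; exact dvd_pow_self p hi0
    have hgX : g ∈ Xs p Q := (mem_Xs p Q).2 ⟨hgK, hPH hgP⟩
    have hsmall : ∀ (x : G) (r : ℕ), r ∣ orderOf g → r ≠ 1 → x⁻¹ * g ^ r * x ∈ Xs p Q →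
        pi' p Q (x⁻¹ * g ^ r * x) = 1 := by
      intro x r hr hr1 hmem
      have hr0 : r ≠ 0 := by
        rintro rfl
        have := orderOf_pos g
        rw [zero_dvd_iff] at hr
        omega
      have hord : orderOf (x⁻¹ * g ^ r * x) = orderOf (g ^ r) := by
        have := orderOf_injective (MulAut.conj x⁻¹).toMonoidHom (MulAut.conj x⁻¹).injective (g ^ r)
        simpa [MulAut.conj_apply] using this
      have hord2 : orderOf (g ^ r) = orderOf g / r := by
        rw [orderOf_pow' g hr0, Nat.gcd_eq_right hr]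
      have hlt : orderOf (x⁻¹ * g ^ r * x) < n := by
        rw [hord, hord2, ← hgn]
        exact Nat.div_lt_self (orderOf_pos g) (by omega)
      have hwH : x⁻¹ * g ^ r * x ∈ Subgroup.normalizer (Q : Set G) := ((mem_Xs p Q).1 hmem).2
      have hTp : IsPGroup p (Subgroup.zpowers (x⁻¹ * g ^ r * x)) := by
        have hdvd : orderOf (x⁻¹ * g ^ r * x) ∣ p ^ i := by
          rw [hord, hord2, ← hi]; exact Nat.div_dvd_of_dvd hr
        obtain ⟨j, -, hj⟩ := (Nat.dvd_prime_pow hp.out).1 hdvd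
        apply IsPGroup.of_card (n := j)
        rw [Nat.card_zpowers, hj]
      obtain ⟨h, hhH, hh⟩ := exists_conj_le P _ hPH (Subgroup.zpowers (x⁻¹ * g ^ r * x))
        (Subgroup.zpowers_le.2 hwH) hTp
      have h1 : h * (x⁻¹ * g ^ r * x) * h⁻¹ ∈ (P : Subgroup G) :=
        hh _ (Subgroup.mem_zpowers _)
      have h2 : h * (x⁻¹ * g ^ r * x) * h⁻¹ ∈ Cfsg.pResidual p G :=
        Subgroup.Normal.conj_mem inferInstance _ ((mem_Xs p Q).1 hmem).1 h
      have h3 : orderOf (h * (x⁻¹ * g ^ r * x) * h⁻¹) = orderOf (x⁻¹ * g ^ r * x) := by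
        have := orderOf_injective (MulAut.conj h).toMonoidHom (MulAut.conj h).injective
          (x⁻¹ * g ^ r * x)
        simpa [MulAut.conj_apply] using this
      have h4 := ih _ hlt (h * (x⁻¹ * g ^ r * x) * h⁻¹) h1 h2 h3
      rw [← pi'_conj p Q hhH hmem]
      exact pi'_eq_one_of_mem p Q (conj_mem_Xs p Q hhH hmem) h4
    have h1 := transfer_eq_one p Q (⟨g, hgK⟩ : ↥(Cfsg.pResidual p G))
    rw [transfer_eq_prod p Q P hPH g hgK hsmall] at h1
    have hfix0 : g • (((1 : G)) : G ⧸ Subgroup.normalizer (Q : Set G)) =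
        ((1 : G) : G ⧸ Subgroup.normalizer (Q : Set G)) := by
      show ((g * 1 : G) : G ⧸ Subgroup.normalizer (Q : Set G)) = _
      rw [QuotientGroup.eq]
      have : (g * 1)⁻¹ * 1 = g⁻¹ := by group
      rw [this]
      exact Subgroup.inv_mem _ (hPH hgP)
    have hF0 : FF p Q g ((1 : G) : G ⧸ Subgroup.normalizer (Q : Set G)) = pi' p Q g := by
      have := (FF_rep p Q hgK 1 hfix0).1
      simpa using this
    have hsplit : ∏ ω ∈ Finset.univ.filter
          (fun ω : G ⧸ Subgroup.normalizer (Q : Set G) => g • ω = ω), FF p Q g ω =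
        FF p Q g ((1 : G) : G ⧸ Subgroup.normalizer (Q : Set G)) *
        ∏ ω ∈ Finset.univ.filter (fun ω : G ⧸ Subgroup.normalizer (Q : Set G) =>
          g • ω = ω ∧ ¬ ∀ y ∈ Q.subgroupOf (P : Subgroup G),
            ((y : ↥(P : Subgroup G)) : G) • ω = ω), FF p Q g ω := by
      have hmem0 : ((1 : G) : G ⧸ Subgroup.normalizer (Q : Set G)) ∈ Finset.univ.filter
          (fun ω : G ⧸ Subgroup.normalizer (Q : Set G) => g • ω = ω) :=
        Finset.mem_filter.2 ⟨Finset.mem_univ _, hfix0⟩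
      rw [← Finset.mul_prod_erase (Finset.univ.filter
          (fun ω : G ⧸ Subgroup.normalizer (Q : Set G) => g • ω = ω)) (FF p Q g) hmem0]
      congr 1
      apply Finset.prod_congr _ (fun _ _ => rfl)
      ext ω
      rw [Finset.mem_erase, Finset.mem_filter, Finset.mem_filter]
      have hiff : (∀ y ∈ Q.subgroupOf (P : Subgroup G),
          ((y : ↥(P : Subgroup G)) : G) • ω = ω) ↔
          ω = ((1 : G) : G ⧸ Subgroup.normalizer (Q : Set G)) := by
        rw [← fixQ_iff P Q hQ ω]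
        constructor
        · intro h z hz
          exact h ⟨z, hQ.1 hz⟩ (Subgroup.mem_subgroupOf.2 hz)
        · intro h y hy
          exact h _ (Subgroup.mem_subgroupOf.1 hy)
      rw [hiff]
      tauto
    rw [hsplit, hF0] at h1
    have hN : (Q.subgroupOf (P : Subgroup G)).Normal := by
      refine ⟨fun y hy u => ?_⟩
      rw [Subgroup.mem_subgroupOf] at hy ⊢
      have := (Subgroup.mem_normalizer_iff.1 (hPH u.2) (y : G)).1 hy
      exact this
    rw [lemmaC p Q P hQ hE g hgP hgK hsmall hpg _ (Q.subgroupOf (P : Subgroup G)) hN rfl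
      (fun y hy => Subgroup.mem_subgroupOf.1 hy), mul_one] at h1
    exact mem_of_pi'_eq_one p Q hgX h1
  intro g hg
  exact key _ g hg.1 hg.2 rfl

theorem main (P : Sylow p G) (hQ : Cfsg.IsWeaklyClosed Q (P : Subgroup G))
    (hE : ∀ u ∈ (P : Subgroup G), ∀ z ∈ Q, (fun y : G => y⁻¹ * z⁻¹ * y * z)^[p - 1] u = 1) :
    Cfsg.pResidualOf p (Subgroup.normalizer (Q : Set G)) =
      Cfsg.pResidual p G ⊓ Subgroup.normalizer (Q : Set G) := by
  have hPH := sylow_le_normalizer P Q hQ
  have hmain := inf_le_Rs p Q P hQ hE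
  have hle : Cfsg.pResidualOf p (Subgroup.normalizer (Q : Set G)) ≤ Cfsg.pResidual p G := by
    unfold Cfsg.pResidualOf
    conv_lhs => unfold Cfsg.pResidual
    rw [MonoidHom.map_closure]
    conv_rhs => unfold Cfsg.pResidual
    apply Subgroup.closure_mono
    rintro _ ⟨v, hv, rfl⟩
    show Nat.Coprime (orderOf (v : G)) p
    rw [Subgroup.orderOf_coe]
    exact hv
  apply le_antisymm
  · refine le_inf hle ?_
    unfold Cfsg.pResidualOf
    exact Subgroup.map_subtype_le _
  · haveI := Cfsg.Agent.helper10.pResidual_normal p ↥(Subgroup.normalizer (Q : Set G))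
    have hA : (Cfsg.pResidual p G).subgroupOf (Subgroup.normalizer (Q : Set G)) ≤
        ⁅(Cfsg.pResidual p G).subgroupOf (Subgroup.normalizer (Q : Set G)),
          (⊤ : Subgroup ↥(Subgroup.normalizer (Q : Set G)))⁆ ⊔
        Cfsg.pResidual p ↥(Subgroup.normalizer (Q : Set G)) := by
      intro x hx
      obtain ⟨s, hs, k, hk, rfl⟩ :=
        Cfsg.Agent.helper10.exists_mul_of_pResidual_sylow p (P.subtype hPH) x
      have hkK : ((k : ↥(Subgroup.normalizer (Q : Set G))) : G) ∈ Cfsg.pResidual p G :=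
        hle ⟨k, hk, rfl⟩
      have hsK : ((s : ↥(Subgroup.normalizer (Q : Set G))) : G) ∈ Cfsg.pResidual p G := by
        have h1 : ((s * k : ↥(Subgroup.normalizer (Q : Set G))) : G) ∈ Cfsg.pResidual p G :=
          Subgroup.mem_subgroupOf.1 hx
        have h2 := Subgroup.mul_mem _ h1 (Subgroup.inv_mem _ hkK)
        simpa using h2
      have hsP : ((s : ↥(Subgroup.normalizer (Q : Set G))) : G) ∈ (P : Subgroup G) :=
        Subgroup.mem_subgroupOf.1 hs
      have hsR : ((s : ↥(Subgroup.normalizer (Q : Set G))) : G) ∈ Rs p Q := hmain ⟨hsP, hsK⟩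
      have hmap : (⁅(Cfsg.pResidual p G).subgroupOf (Subgroup.normalizer (Q : Set G)),
          (⊤ : Subgroup ↥(Subgroup.normalizer (Q : Set G)))⁆ ⊔
          Cfsg.pResidual p ↥(Subgroup.normalizer (Q : Set G))).map
            (Subgroup.normalizer (Q : Set G)).subtype = Rs p Q := by
        rw [Subgroup.map_sup, Subgroup.map_commutator, Subgroup.subgroupOf_map_subtype,
          ← MonoidHom.range_eq_map, Subgroup.range_subtype]
        rfl
      have : s ∈ ⁅(Cfsg.pResidual p G).subgroupOf (Subgroup.normalizer (Q : Set G)),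
          (⊤ : Subgroup ↥(Subgroup.normalizer (Q : Set G)))⁆ ⊔
          Cfsg.pResidual p ↥(Subgroup.normalizer (Q : Set G)) := by
        rw [← Subgroup.mem_map_iff_mem (Subgroup.normalizer (Q : Set G)).subtype_injective, hmap]
        exact hsR
      exact Subgroup.mul_mem _ this (Subgroup.mem_sup_right hk)
    have hB : (Cfsg.pResidual p G).subgroupOf (Subgroup.normalizer (Q : Set G)) ≤
        Cfsg.pResidual p ↥(Subgroup.normalizer (Q : Set G)) := by
      haveI : Group.IsNilpotent (↥(Subgroup.normalizer (Q : Set G)) ⧸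
          Cfsg.pResidual p ↥(Subgroup.normalizer (Q : Set G))) :=
        (Cfsg.Agent.helper10.quotient_pResidual_isPGroup p).isNilpotent
      have h1 : ((Cfsg.pResidual p G).subgroupOf (Subgroup.normalizer (Q : Set G))).map
          (QuotientGroup.mk' (Cfsg.pResidual p ↥(Subgroup.normalizer (Q : Set G)))) ≤
          ⁅((Cfsg.pResidual p G).subgroupOf (Subgroup.normalizer (Q : Set G))).map
          (QuotientGroup.mk' (Cfsg.pResidual p ↥(Subgroup.normalizer (Q : Set G)))), ⊤⁆ := by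
        refine (Subgroup.map_mono hA).trans ?_
        rw [Subgroup.map_sup, Subgroup.map_commutator, QuotientGroup.map_mk'_self, sup_bot_eq,
          Subgroup.map_top_of_surjective _ (QuotientGroup.mk'_surjective _)]
      have h2 := eq_bot_of_le_commutator_top _ h1
      intro x hx
      have h3 : (QuotientGroup.mk' (Cfsg.pResidual p ↥(Subgroup.normalizer (Q : Set G)))) x ∈
          ((Cfsg.pResidual p G).subgroupOf (Subgroup.normalizer (Q : Set G))).map
          (QuotientGroup.mk' (Cfsg.pResidual p ↥(Subgroup.normalizer (Q : Set G)))) :=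
        Subgroup.mem_map_of_mem _ hx
      rw [h2, Subgroup.mem_bot, QuotientGroup.mk'_apply, QuotientGroup.eq_one_iff] at h3
      exact h3
    intro x hx
    have hxH : x ∈ Subgroup.normalizer (Q : Set G) := hx.2
    have : (⟨x, hxH⟩ : ↥(Subgroup.normalizer (Q : Set G))) ∈
        (Cfsg.pResidual p G).subgroupOf (Subgroup.normalizer (Q : Set G)) :=
      Subgroup.mem_subgroupOf.2 hx.1
    exact ⟨⟨x, hxH⟩, hB this, rfl⟩

end main

end Cfsg.Agent.helper21.HW
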