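import Mathlib

/-!
# Parity of a semiregular element on a coset space (Thompson-transfer style)  (helper21)

* `exists_hom_neg_one`: `u` of even order `e` with `⟨u⟩ ∩ H^g = 1` for all `g` and
  `|G:H| = e · odd` ⇒ a homomorphism `G →* ℤˣ` sending `u` to `-1`.
* `mulMap_injective`, `card_mul_le_card_sup`, `exists_mul_of_card_eq`: product-set counting.
* `card_mul_relIndex`.
* `dih_outside`: in a dihedral group, elements outside a cyclic subgroup of index 2 are involutions.
-/

set_option autoImplicit false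
set_option linter.style.haveILetI false

namespace Cfsg.Agent.helper21.Parity

open Subgroup

variable {G : Type*} [Group G]

theorem isPGroup_units_int : IsPGroup 2 ℤˣ := by
  apply IsPGroup.of_card (n := 1)
  rw [Nat.card_eq_fintype_card, Fintype.card_units_int, pow_one]

theorem inv_conj_pow (g b : G) (i : ℕ) : (g⁻¹ * b * g) ^ i = g⁻¹ * b ^ i * g := by
  have := conj_pow (a := g⁻¹) (b := b) (i := i)
  rwa [inv_inv] at this

/-- Parity lemma. -/
theorem exists_hom_neg_one [Finite G] (H : Subgroup G) (u : G) (e : ℕ)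
    (he : Even e) (hord : orderOf u = e)
    (hfree : ∀ (g : G) (j : ℕ), g⁻¹ * u ^ j * g ∈ H → u ^ j = 1)
    (_hdvd : e ∣ H.index) (hodd : Odd (H.index / e)) :
    ∃ φ : G →* ℤˣ, φ u = -1 := by
  classical
  haveI : Fintype (G ⧸ H) := Fintype.ofFinite _
  let ρ : G →* Equiv.Perm (G ⧸ H) := MulAction.toPermHom G (G ⧸ H)
  refine ⟨Equiv.Perm.sign.comp ρ, ?_⟩
  obtain ⟨σ, hσ⟩ : ∃ σ : Equiv.Perm (G ⧸ H), σ = ρ u := ⟨_, rfl⟩
  have hepos : 0 < e := by rw [← hord]; exact orderOf_pos u
  have hσpow : ∀ j : ℕ, ∀ ω : G ⧸ H, (σ ^ j) ω = ω → u ^ j = 1 := by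
    intro j ω hω
    obtain ⟨g, rfl⟩ := QuotientGroup.mk_surjective ω
    have h1 : (σ ^ j) (QuotientGroup.mk g) = QuotientGroup.mk (u ^ j * g) := by
      rw [hσ, ← map_pow]; rfl
    rw [h1] at hω
    have h2 : (u ^ j * g)⁻¹ * g ∈ H := QuotientGroup.eq.1 hω
    have h3 : g⁻¹ * u ^ j * g ∈ H := by
      have := H.inv_mem h2
      convert this using 1
      group
    exact hfree g j h3
  have hcyc : ∀ n ∈ σ.cycleType, n = e := by
    intro n hn
    have hdv : n ∣ orderOf σ := Equiv.Perm.dvd_of_mem_cycleType hn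
    have hσe : σ ^ e = 1 := by rw [hσ, ← map_pow, ← hord, pow_orderOf_eq_one, map_one]
    have hne : n ∣ e := hdv.trans (orderOf_dvd_of_pow_eq_one hσe)
    obtain ⟨c, τ, hστ, hdisj, hc, hcard⟩ := Equiv.Perm.mem_cycleType_iff.1 hn
    obtain ⟨ω, hω⟩ := hc.nonempty_support
    have hτω : τ ω = ω := by
      rcases hdisj ω with h | h
      · exact absurd h (Equiv.Perm.mem_support.1 hω)
      · exact h
    have hfix : (σ ^ n) ω = ω := by
      rw [hστ, hdisj.commute.mul_pow, Equiv.Perm.mul_apply]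
      have h3 : (τ ^ n) ω = ω := Equiv.Perm.pow_apply_eq_self_of_apply_eq_self hτω n
      rw [h3]
      have h4 : c ^ n = 1 := by rw [← hcard, ← hc.orderOf]; exact pow_orderOf_eq_one c
      rw [h4]; rfl
    have h5 := hσpow n ω hfix
    have h6 : e ∣ n := by rw [← hord]; exact orderOf_dvd_of_pow_eq_one h5
    exact Nat.dvd_antisymm hne h6
  have hrep : σ.cycleType = Multiset.replicate (Multiset.card σ.cycleType) e :=
    Multiset.eq_replicate_card.2 hcyc
  have hfp : Fintype.card (Function.fixedPoints σ) = 0 := by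
    rw [Fintype.card_eq_zero_iff]
    constructor
    rintro ⟨ω, hω⟩
    have h1 : (σ ^ 1) ω = ω := by rw [pow_one]; exact hω
    have h2 := hσpow 1 ω h1
    rw [pow_one] at h2
    rw [h2, orderOf_one] at hord
    rw [← hord] at he
    exact absurd he (by decide)
  have hsign := Equiv.Perm.sign_of_cycleType_eq_replicate hepos hrep
  rw [if_neg (Nat.not_odd_iff_even.2 he), hfp, Nat.sub_zero] at hsign
  show Equiv.Perm.sign (ρ u) = -1
  rw [← hσ, hsign]
  have : Fintype.card (G ⧸ H) = H.index := by rw [Subgroup.index, Nat.card_eq_fintype_card]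
  rw [this]
  exact Odd.neg_one_pow hodd

theorem mulMap_injective (A B : Subgroup G) (h : A ⊓ B = ⊥) :
    Function.Injective (fun ab : ↥A × ↥B => (⟨(ab.1 : G) * ab.2,
      mul_mem ((le_sup_left : A ≤ A ⊔ B) ab.1.2) ((le_sup_right : B ≤ A ⊔ B) ab.2.2)⟩ :
        ↥(A ⊔ B))) := by
  rintro ⟨a, b⟩ ⟨a', b'⟩ hab
  have h1 : (a : G) * b = a' * b' := congrArg Subtype.val hab
  have h2 : (a' : G)⁻¹ * a = b' * (b : G)⁻¹ := by
    calc (a' : G)⁻¹ * a = (a' : G)⁻¹ * (a * b) * (b : G)⁻¹ := by group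
      _ = (a' : G)⁻¹ * (a' * b') * (b : G)⁻¹ := by rw [h1]
      _ = b' * (b : G)⁻¹ := by group
  have h3 : (a' : G)⁻¹ * a ∈ A ⊓ B :=
    ⟨A.mul_mem (A.inv_mem a'.2) a.2, by rw [h2]; exact B.mul_mem b'.2 (B.inv_mem b.2)⟩
  rw [h, Subgroup.mem_bot] at h3
  have h4 : (a : G) = a' := by rw [inv_mul_eq_one] at h3; exact h3.symm
  have h5 : (b : G) = b' := by rw [h4] at h1; exact mul_left_cancel h1
  exact Prod.ext (Subtype.ext h4) (Subtype.ext h5)

theorem card_mul_le_card_sup [Finite G] (A B : Subgroup G) (h : A ⊓ B = ⊥) :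
    Nat.card A * Nat.card B ≤ Nat.card ↥(A ⊔ B) := by
  rw [← Nat.card_prod]
  exact Nat.card_le_card_of_injective _ (mulMap_injective A B h)

theorem exists_mul_of_card_eq [Finite G] (A B : Subgroup G) (h : A ⊓ B = ⊥)
    (hc : Nat.card A * Nat.card B = Nat.card ↥(A ⊔ B)) (s : G) (hs : s ∈ A ⊔ B) :
    ∃ a ∈ A, ∃ b ∈ B, s = a * b := by
  have hbij := (mulMap_injective A B h).bijective_of_nat_card_le
    (by rw [Nat.card_prod, hc])
  obtain ⟨⟨a, b⟩, hab⟩ := hbij.2 ⟨s, hs⟩
  exact ⟨a, a.2, b, b.2, (congrArg Subtype.val hab).symm⟩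

theorem card_mul_relIndex (A B : Subgroup G) (h : A ≤ B) :
    Nat.card A * A.relIndex B = Nat.card B := by
  rw [Subgroup.relIndex, ← Subgroup.card_mul_index (A.subgroupOf B),
    Nat.card_congr (Subgroup.subgroupOfEquivOfLe h).toEquiv]

/-- In a dihedral group, every element outside a cyclic subgroup of index two is an involution. -/
theorem dih_outside [Finite G] (D C : Subgroup G) (n : ℕ) [NeZero n]
    (eD : ↥D ≃* DihedralGroup n) (hCD : C ≤ D) (hC : IsCyclic ↥C) (hCi : C.relIndex D = 2) :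
    ∀ x ∈ D, x ∉ C → orderOf x = 2 := by
  intro x hxD hxC
  have hcardD : Nat.card D = 2 * n := by rw [Nat.card_congr eD.toEquiv, DihedralGroup.nat_card]
  have hcardC : Nat.card C = n := by
    have := card_mul_relIndex C D hCD
    rw [hCi, hcardD] at this
    omega
  obtain ⟨c, hc⟩ := hC.exists_generator
  have hordc : orderOf c = n := by rw [orderOf_eq_card_of_forall_mem_zpowers hc, hcardC]
  obtain ⟨g, hg⟩ : ∃ g : DihedralGroup n, g = eD ⟨c, hCD c.2⟩ := ⟨_, rfl⟩
  have hordg : orderOf g = n := by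
    rw [hg, MulEquiv.orderOf_eq, Subgroup.orderOf_mk, ← hordc, Subgroup.orderOf_coe]
  have hx_ord : orderOf x = orderOf (eD ⟨x, hxD⟩) := by
    rw [MulEquiv.orderOf_eq, Subgroup.orderOf_mk]
  have hx1 : eD ⟨x, hxD⟩ ≠ 1 := by
    intro h
    have : (⟨x, hxD⟩ : ↥D) = 1 := by
      rw [← eD.map_eq_one_iff]; exact h
    have hx : x = 1 := congrArg Subtype.val this
    exact hxC (hx ▸ C.one_mem)
  rw [hx_ord]
  rcases hex : eD ⟨x, hxD⟩ with i | i
  · rcases hgg : g with j | j
    · exfalso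
      have h1 : Subgroup.zpowers (DihedralGroup.r j) ≤ Subgroup.zpowers (DihedralGroup.r (1 : ZMod n)) := by
        rw [Subgroup.zpowers_le]
        refine Subgroup.mem_zpowers_iff.2 ⟨(j.val : ℤ), ?_⟩
        rw [zpow_natCast, DihedralGroup.r_one_pow, ZMod.natCast_zmod_val]
      have h2 : Subgroup.zpowers (DihedralGroup.r j) = Subgroup.zpowers (DihedralGroup.r (1 : ZMod n)) := by
        apply Subgroup.eq_of_le_of_card_ge h1
        rw [Nat.card_zpowers, Nat.card_zpowers, DihedralGroup.orderOf_r_one, ← hgg, hordg]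
      have h3 : DihedralGroup.r i ∈ Subgroup.zpowers (DihedralGroup.r j) := by
        rw [h2]
        refine Subgroup.mem_zpowers_iff.2 ⟨(i.val : ℤ), ?_⟩
        rw [zpow_natCast, DihedralGroup.r_one_pow, ZMod.natCast_zmod_val]
      obtain ⟨k, hk⟩ := Subgroup.mem_zpowers_iff.1 h3
      have h4 : eD ((⟨c, hCD c.2⟩ : ↥D) ^ k) = eD ⟨x, hxD⟩ := by
        rw [map_zpow, ← hg, hgg, hex]; exact hk
      have h5 := eD.injective h4
      have h6 : (c : G) ^ k = x := by
        have := congrArg Subtype.val h5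
        simpa using this
      apply hxC
      rw [← h6]
      exact C.zpow_mem c.2 k
    · have hn2 : n = 2 := by rw [← hordg, hgg, DihedralGroup.orderOf_sr]
      subst hn2
      apply orderOf_eq_prime
      · rw [pow_two, DihedralGroup.r_mul_r, CharTwo.add_self_eq_zero, DihedralGroup.r_zero]
      · rw [← hex]; exact hx1
  · exact DihedralGroup.orderOf_sr i

end Cfsg.Agent.helper21.Parity
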