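import Mathlib
import Cfsg.Agent.Lib_helper21_Prn1

set_option autoImplicit false
set_option linter.style.haveILetI false

namespace Cfsg.Agent.helper21.Prn

open Cfsg

variable {G : Type*} [Group G]

theorem sylow_inf_eq [Finite G] {p : ℕ} [Fact p.Prime] (A T S : Subgroup G) (hTA : T ≤ A)
    (hTi : ¬ p ∣ T.relIndex A) (hS : IsPGroup p S) (hTS : T ≤ S) : S ⊓ A = T := by
  apply le_antisymm _ (le_inf hTS hTA)
  rw [← Subgroup.relIndex_eq_one]
  have h1 : T.relIndex (S ⊓ A) ∣ T.relIndex A :=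
    Dvd.intro _ (Subgroup.relIndex_mul_relIndex T (S ⊓ A) A (le_inf hTS hTA) inf_le_right)
  have hp : IsPGroup p ↥(S ⊓ A) := hS.to_le inf_le_left
  obtain ⟨n, hn⟩ := IsPGroup.iff_card.mp hp
  have hd : T.relIndex (S ⊓ A) ∣ p ^ n := by
    rw [← hn]; exact Subgroup.index_dvd_card _
  obtain ⟨k, _, hk⟩ := (Nat.dvd_prime_pow Fact.out).mp hd
  rcases Nat.eq_zero_or_pos k with rfl | hk0
  · rw [hk, pow_zero]
  · exfalso
    apply hTi
    exact (dvd_pow_self p hk0.ne').trans (hk ▸ h1)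

theorem sylow_le_normalizer' (A : Subgroup G) [A.Normal] (T S : Subgroup G)
    (hSA : S ⊓ A = T) : S ≤ Subgroup.normalizer (T : Set G) := by
  intro s hs
  rw [← cj_eq_iff_mem_normalizer, ← hSA, cj_inf, cj_of_mem hs, cj_normal A]

theorem cj_top (c : G) : cj c (⊤ : Subgroup G) = ⊤ := by
  ext x
  simp [mem_cj]

theorem coe_smul_sylow {p : ℕ} (c : G) (P : Sylow p G) :
    ((c • P : Sylow p G) : Subgroup G) = cj c (P : Subgroup G) := by
  ext x
  rw [Sylow.coe_subgroup_smul, Subgroup.mem_pointwise_smul_iff_inv_smul_mem, mem_cj]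
  simp [MulAut.smul_def]

/-- the common core of the two criteria. -/
theorem core [Finite G] {p : ℕ} [Fact p.Prime] (A : Subgroup G) [A.Normal] (T : Subgroup G)
    (hTA : T ≤ A) (hTp : IsPGroup p T) (hTi : ¬ p ∣ T.relIndex A)
    (hA' : ∀ B : Subgroup G, B ≤ A → T ≤ B → PrnIn B A)
    (H : Subgroup G) (hTH : T ≤ H)
    (hN' : PrnIn (H ⊓ Subgroup.normalizer (T : Set G)) (Subgroup.normalizer (T : Set G)))
    (a : G) (haA : a ∈ A) (haN : a ∈ Subgroup.normalizer (T : Set G)) :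
    ∃ z ∈ H ⊔ cj a H, cj a H = cj z H := by
  obtain ⟨N, hN⟩ : ∃ N, N = Subgroup.normalizer (T : Set G) := ⟨_, rfl⟩
  rw [← hN] at hN' haN
  obtain ⟨B0, hB0⟩ : ∃ B0, B0 = H ⊓ A := ⟨_, rfl⟩
  obtain ⟨H1, hH1⟩ : ∃ H1, H1 = H ⊓ N := ⟨_, rfl⟩
  rw [← hH1] at hN'
  have hB0H : B0 ≤ H := hB0 ▸ inf_le_left
  have hB0A : B0 ≤ A := hB0 ▸ inf_le_right
  have hH1H : H1 ≤ H := hH1 ▸ inf_le_left
  have hTB0 : T ≤ B0 := hB0 ▸ le_inf hTH hTA
  have hidx : ∀ B : Subgroup G, T ≤ B → B ≤ A → ¬ p ∣ T.relIndex B := by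
    intro B h1 h2 hd
    apply hTi
    rw [← Subgroup.relIndex_mul_relIndex T B A h1 h2]
    exact dvd_mul_of_dvd_left hd _
  -- Frattini
  have hfr : H = B0 ⊔ H1 := by
    apply le_antisymm
    · intro h hh
      have h1 : cj h T ≤ B0 := by
        have : cj h B0 = B0 := by rw [hB0, cj_inf, cj_of_mem hh, cj_normal A]
        rw [← this]; exact cj_mono hTB0 h
      obtain ⟨b, hb, hbe⟩ := conj_of_sylow hTB0 h1 hTp (card_cj h T) (hidx B0 hTB0 hB0A)
      have h2 : b * h ∈ N := by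
        rw [hN, ← cj_eq_iff_mem_normalizer, cj_mul]; exact hbe
      have h3 : h = b⁻¹ * (b * h) := by group
      rw [h3]
      refine Subgroup.mul_mem _ (Subgroup.mem_sup_left (inv_mem hb)) (Subgroup.mem_sup_right ?_)
      rw [hH1]
      exact ⟨H.mul_mem (hB0H hb) hh, h2⟩
    · exact sup_le hB0H hH1H
  obtain ⟨B1, hB1⟩ : ∃ B1, B1 = cj a B0 := ⟨_, rfl⟩
  have hB1' : B1 = cj a H ⊓ A := by rw [hB1, hB0, cj_inf, cj_normal A]
  have hB1A : B1 ≤ A := hB1' ▸ inf_le_right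
  have haT : cj a T = T := by rw [cj_eq_iff_mem_normalizer, ← hN]; exact haN
  have hTB1 : T ≤ B1 := by rw [← haT, hB1]; exact cj_mono hTB0 a
  obtain ⟨y, hy, hye⟩ := hA' B0 hB0A hTB0 a haA
  rw [← hB1] at hy hye
  have hyT : cj y T ≤ B1 := by rw [hye]; exact cj_mono hTB0 y
  obtain ⟨w, hw, hwe⟩ := conj_of_sylow hTB1 hyT hTp (card_cj y T) (hidx B1 hTB1 hB1A)
  have hy'T : cj (w * y) T = T := by rw [cj_mul]; exact hwe
  have hy'N : w * y ∈ N := by rw [hN, ← cj_eq_iff_mem_normalizer]; exact hy'T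
  have hy'B : cj (w * y) B0 = B1 := by rw [cj_mul, ← hye, cj_of_mem hw]
  have hy'J0 : w * y ∈ B0 ⊔ B1 := Subgroup.mul_mem _ (Subgroup.mem_sup_right hw) hy
  have hJ0 : B0 ⊔ B1 ≤ H ⊔ cj a H :=
    sup_le_sup hB0H (by rw [hB1]; exact cj_mono hB0H a)
  have hy'J : w * y ∈ H ⊔ cj a H := hJ0 hy'J0
  -- pronormality in N
  have hP := hN'.conj a
  rw [show cj a N = N from cj_of_mem haN] at hP
  have hc : (w * y) * a⁻¹ ∈ N := N.mul_mem hy'N (N.inv_mem haN)
  obtain ⟨u, hu, hue⟩ := hP ((w * y) * a⁻¹) hc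
  have e0 : cj ((w * y) * a⁻¹) (cj a H1) = cj (w * y) H1 := by
    rw [← cj_mul]; congr 1; group
  rw [e0] at hu hue
  -- u normalizes B1
  have hnB1a : cj a H ≤ Subgroup.normalizer (B1 : Set G) := by
    intro k hk
    rw [← cj_eq_iff_mem_normalizer, hB1', cj_inf, cj_of_mem hk, cj_normal A]
  have hnB1y : cj (w * y) H ≤ Subgroup.normalizer (B1 : Set G) := by
    have : B1 = cj (w * y) H ⊓ A := by rw [← hy'B, hB0, cj_inf, cj_normal A]
    intro k hk
    rw [← cj_eq_iff_mem_normalizer, this, cj_inf, cj_of_mem hk, cj_normal A]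
  have huN : u ∈ Subgroup.normalizer (B1 : Set G) := by
    have : cj a H1 ⊔ cj (w * y) H1 ≤ Subgroup.normalizer (B1 : Set G) :=
      sup_le ((cj_mono hH1H a).trans hnB1a) ((cj_mono hH1H (w * y)).trans hnB1y)
    exact this hu
  have huB1 : cj u B1 = B1 := cj_eq_iff_mem_normalizer.mpr huN
  have e1 : cj a H = B1 ⊔ cj a H1 := by rw [hB1, ← cj_sup, ← hfr]
  have e2 : cj (w * y) H = B1 ⊔ cj (w * y) H1 := by rw [← hy'B, ← cj_sup, ← hfr]
  have e3 : cj u (cj a H) = cj (w * y) H := by rw [e1, cj_sup, huB1, ← hue, ← e2]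
  refine ⟨u⁻¹ * (w * y), ?_, ?_⟩
  · have hyH : cj (w * y) H ≤ H ⊔ cj a H := cj_le_of_mem hy'J le_sup_left
    have huJ : u ∈ H ⊔ cj a H :=
      (sup_le ((cj_mono hH1H a).trans le_sup_right) ((cj_mono hH1H (w * y)).trans hyH)) hu
    exact Subgroup.mul_mem _ (Subgroup.inv_mem _ huJ) hy'J
  · rw [cj_mul, ← e3, cj_inv_cj]

/-- criterion 1 in ambient form (self-normalizing Sylow subgroups in the quotient). -/
theorem main1 [Finite G] {p : ℕ} [Fact p.Prime] (A : Subgroup G) [A.Normal] (T : Subgroup G)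
    (hTA : T ≤ A) (hTp : IsPGroup p T) (hTi : ¬ p ∣ T.relIndex A)
    (hA' : ∀ B : Subgroup G, B ≤ A → T ≤ B → PrnIn B A)
    (hN' : ∀ K : Subgroup G, K ≤ Subgroup.normalizer (T : Set G) → T ≤ K →
      (∃ P : Sylow p G, (P : Subgroup G) ≤ K) → PrnIn K (Subgroup.normalizer (T : Set G)))
    (hQ : ∀ P : Sylow p (G ⧸ A),
      Subgroup.normalizer ((P : Subgroup (G ⧸ A)) : Set (G ⧸ A)) = P)
    (H : Subgroup G) (P1 : Sylow p G) (hP1H : (P1 : Subgroup G) ≤ H)
    (hTP1 : T ≤ (P1 : Subgroup G)) : PrnIn H ⊤ := by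
  intro g _
  obtain ⟨S, hS⟩ : ∃ S : Subgroup G, S = (P1 : Subgroup G) := ⟨_, rfl⟩
  rw [← hS] at hP1H hTP1
  have hSp : IsPGroup p S := hS ▸ P1.isPGroup'
  have hSA : S ⊓ A = T := sylow_inf_eq A T S hTA hTi hSp hTP1
  have hSN : S ≤ Subgroup.normalizer (T : Set G) := sylow_le_normalizer' A T S hSA
  have hSJ : S ≤ H ⊔ cj g H := hP1H.trans le_sup_left
  have hgSJ : cj g S ≤ H ⊔ cj g H := (cj_mono hP1H g).trans le_sup_right
  have hSi : ¬ p ∣ S.relIndex (H ⊔ cj g H) := by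
    intro hd
    have := hd.trans (Subgroup.relIndex_dvd_index_of_le hSJ)
    rw [hS] at this
    exact P1.not_dvd_index this
  obtain ⟨j, hj, hje⟩ := conj_of_sylow hSJ hgSJ hSp (card_cj g S) hSi
  have hg'S : cj (j * g) S = S := by rw [cj_mul]; exact hje
  have hg'T : cj (j * g) T = T := by rw [← hSA, cj_inf, hg'S, cj_normal A]
  have hg'N : j * g ∈ Subgroup.normalizer (T : Set G) := cj_eq_iff_mem_normalizer.mp hg'T
  have hex : ∃ s ∈ S, (j * g) * s⁻¹ ∈ A := by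
    let PQ : Sylow p (G ⧸ A) := P1.mapSurjective (QuotientGroup.mk'_surjective A)
    have hPQ : (PQ : Subgroup (G ⧸ A)) = S.map (QuotientGroup.mk' A) := by
      rw [hS]; rfl
    have h1 : (QuotientGroup.mk' A) (j * g) ∈
        Subgroup.normalizer ((PQ : Subgroup (G ⧸ A)) : Set (G ⧸ A)) := by
      rw [hPQ]
      exact Subgroup.le_normalizer_map _ ⟨j * g, cj_eq_iff_mem_normalizer.mp hg'S, rfl⟩
    rw [hQ PQ, hPQ] at h1
    obtain ⟨s, hs, hse⟩ := h1
    refine ⟨s, hs, ?_⟩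
    have : (QuotientGroup.mk' A) ((j * g) * s⁻¹) = 1 := by
      rw [map_mul, map_inv, hse, mul_inv_cancel]
    exact (QuotientGroup.eq_one_iff _).mp this
  obtain ⟨s, hs, hsa⟩ := hex
  have haN : (j * g) * s⁻¹ ∈ Subgroup.normalizer (T : Set G) :=
    Subgroup.mul_mem _ hg'N (Subgroup.inv_mem _ (hSN hs))
  have hK : PrnIn (H ⊓ Subgroup.normalizer (T : Set G)) (Subgroup.normalizer (T : Set G)) := by
    apply hN' _ inf_le_right (le_inf (hTP1.trans hP1H) Subgroup.le_normalizer)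
    refine ⟨P1, ?_⟩
    rw [← hS]
    exact le_inf hP1H hSN
  obtain ⟨z, hz, hze⟩ := core A T hTA hTp hTi hA' H (hTP1.trans hP1H) hK _ hsa haN
  have e1 : cj ((j * g) * s⁻¹) H = cj (j * g) H := by
    rw [cj_mul (j * g) s⁻¹, cj_of_mem (H.inv_mem (hP1H hs))]
  rw [e1] at hz hze
  have hjg : cj (j * g) H ≤ H ⊔ cj g H := by
    rw [cj_mul]; exact cj_le_of_mem hj le_sup_right
  have hzJ : z ∈ H ⊔ cj g H := (sup_le le_sup_left hjg) hz
  refine ⟨j⁻¹ * z, Subgroup.mul_mem _ (Subgroup.inv_mem _ hj) hzJ, ?_⟩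
  rw [cj_mul j⁻¹ z, ← hze, cj_mul j g, cj_inv_cj]

/-- criterion 2 in ambient form. -/
theorem main2 [Finite G] {p : ℕ} [Fact p.Prime] (A : Subgroup G) [A.Normal] (T : Subgroup G)
    (hTA : T ≤ A) (hTp : IsPGroup p T) (hTi : ¬ p ∣ T.relIndex A)
    (hA' : ∀ B : Subgroup G, B ≤ A → T ≤ B → PrnIn B A)
    (hN' : ∀ K : Subgroup G, K ≤ Subgroup.normalizer (T : Set G) → T ≤ K →
      (∃ P : Sylow p G, (P : Subgroup G) ≤ K) → PrnIn K (Subgroup.normalizer (T : Set G)))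
    (hQ : ∀ K : Subgroup (G ⧸ A), (∃ P : Sylow p (G ⧸ A), (P : Subgroup (G ⧸ A)) ≤ K) →
      Cfsg.IsPronormal K)
    (hii : ∀ K : Subgroup G, (∃ P : Sylow p G, (P : Subgroup G) ≤ K) →
      (Subgroup.normalizer (K : Set G)).map (QuotientGroup.mk' A) =
        Subgroup.normalizer ((K.map (QuotientGroup.mk' A) : Subgroup (G ⧸ A)) : Set (G ⧸ A)))
    (H : Subgroup G) (P1 : Sylow p G) (hP1H : (P1 : Subgroup G) ≤ H)
    (hTP1 : T ≤ (P1 : Subgroup G)) : PrnIn H ⊤ := by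
  intro g _
  have hTH : T ≤ H := hTP1.trans hP1H
  have hSA : (P1 : Subgroup G) ⊓ A = T := sylow_inf_eq A T P1 hTA hTi P1.isPGroup' hTP1
  have hSN : (P1 : Subgroup G) ≤ Subgroup.normalizer (T : Set G) :=
    sylow_le_normalizer' A T P1 hSA
  -- pronormality of the image
  have hHb : Cfsg.IsPronormal (H.map (QuotientGroup.mk' A)) := by
    apply hQ
    refine ⟨P1.mapSurjective (QuotientGroup.mk'_surjective A), ?_⟩
    rw [Sylow.coe_mapSurjective]
    exact Subgroup.map_mono hP1H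
  rw [isPronormal_iff] at hHb
  obtain ⟨xb, hxb, hxe⟩ := hHb (QuotientGroup.mk' A g) (Subgroup.mem_top _)
  have hxb2 : xb ∈ (H ⊔ cj g H).map (QuotientGroup.mk' A) := by
    rw [Subgroup.map_sup, map_cj]; exact hxb
  obtain ⟨x, hx, rfl⟩ := hxb2
  -- g1 = x⁻¹ g normalizes the image of H
  have h1 : (QuotientGroup.mk' A) (x⁻¹ * g) ∈
      Subgroup.normalizer ((H.map (QuotientGroup.mk' A) : Subgroup (G ⧸ A)) : Set (G ⧸ A)) := by
    rw [← cj_eq_iff_mem_normalizer, map_mul, cj_mul, hxe, map_inv, cj_inv_cj]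
  rw [← hii H ⟨P1, hP1H⟩] at h1
  obtain ⟨n, hn, hne⟩ := h1
  have haA : (x⁻¹ * g) * n⁻¹ ∈ A := by
    have : (QuotientGroup.mk' A) ((x⁻¹ * g) * n⁻¹) = 1 := by
      rw [map_mul, map_inv, hne, mul_inv_cancel]
    exact (QuotientGroup.eq_one_iff _).mp this
  obtain ⟨a, ha⟩ : ∃ a, a = (x⁻¹ * g) * n⁻¹ := ⟨_, rfl⟩
  rw [← ha] at haA
  have hnH : cj n H = H := cj_eq_iff_mem_normalizer.mpr hn
  have e1 : cj a H = cj (x⁻¹ * g) H := by
    have : x⁻¹ * g = a * n := by rw [ha]; group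
    rw [this, cj_mul, hnH]
  have e2 : cj g H = cj x (cj a H) := by
    rw [e1, ← cj_mul]; congr 1; group
  have haJ : cj a H ≤ H ⊔ cj g H := by
    rw [e1, cj_mul]; exact cj_le_of_mem (Subgroup.inv_mem _ hx) le_sup_right
  -- now adjust `a` to normalize `T`
  obtain ⟨B0, hB0⟩ : ∃ B0, B0 = H ⊓ A := ⟨_, rfl⟩
  have hB0H : B0 ≤ H := hB0 ▸ inf_le_left
  have hB0A : B0 ≤ A := hB0 ▸ inf_le_right
  have hTB0 : T ≤ B0 := hB0 ▸ le_inf hTH hTA
  obtain ⟨y, hy, hye⟩ := hA' B0 hB0A hTB0 a haA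
  have haB0A : cj a B0 ≤ A := by
    have := cj_mono hB0A a
    rwa [cj_normal A] at this
  have hi : ¬ p ∣ (cj a T).relIndex (cj a B0) := by
    have : (cj a T).relIndex (cj a B0) = T.relIndex B0 :=
      Subgroup.relIndex_map_map_of_injective T B0 (MulAut.conj a).injective
    rw [this]
    intro hd
    apply hTi
    rw [← Subgroup.relIndex_mul_relIndex T B0 A hTB0 hB0A]
    exact dvd_mul_of_dvd_left hd _
  have hyT : cj y T ≤ cj a B0 := by rw [hye]; exact cj_mono hTB0 y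
  obtain ⟨w, hw, hwe⟩ := conj_of_sylow (cj_mono hTB0 a) hyT (isPGroup_cj hTp a)
    ((card_cj y T).trans (card_cj a T).symm) hi
  -- cj w (cj y T) = cj a T
  have hwyA : w * y ∈ A :=
    A.mul_mem (haB0A hw) ((sup_le hB0A haB0A) hy)
  have hwyJ' : w * y ∈ H ⊔ cj a H :=
    Subgroup.mul_mem _ (Subgroup.mem_sup_right (cj_mono hB0H a hw))
      ((sup_le_sup hB0H (cj_mono hB0H a)) hy)
  obtain ⟨a', ha'⟩ : ∃ a', a' = (w * y)⁻¹ * a := ⟨_, rfl⟩
  have ha'A : a' ∈ A := by rw [ha']; exact A.mul_mem (A.inv_mem hwyA) haA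
  have ha'T : cj a' T = T := by
    rw [ha', cj_mul, ← hwe, ← cj_mul w y, cj_inv_cj]
  have ha'N : a' ∈ Subgroup.normalizer (T : Set G) := cj_eq_iff_mem_normalizer.mp ha'T
  have hK : PrnIn (H ⊓ Subgroup.normalizer (T : Set G)) (Subgroup.normalizer (T : Set G)) := by
    apply hN' _ inf_le_right (le_inf hTH Subgroup.le_normalizer)
    exact ⟨P1, le_inf hP1H hSN⟩
  obtain ⟨z, hz, hze⟩ := core A T hTA hTp hTi hA' H hTH hK a' ha'A ha'N
  have e3 : cj a H = cj (w * y) (cj a' H) := by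
    rw [ha', ← cj_mul]; congr 1; group
  have ha'J' : cj a' H ≤ H ⊔ cj a H := by
    rw [ha', cj_mul]
    exact cj_le_of_mem (Subgroup.inv_mem _ hwyJ') le_sup_right
  have hzJ' : z ∈ H ⊔ cj a H := (sup_le le_sup_left ha'J') hz
  have hJ'J : H ⊔ cj a H ≤ H ⊔ cj g H := sup_le le_sup_left haJ
  refine ⟨x * ((w * y) * z), ?_, ?_⟩
  · exact Subgroup.mul_mem _ hx (hJ'J (Subgroup.mul_mem _ hwyJ' hzJ'))
  · rw [e2, e3, hze, ← cj_mul, ← cj_mul]; congr 1; group

/-- reduction to subgroups containing a fixed Sylow subgroup through `T`. -/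
theorem reduce [Finite G] {p : ℕ} [Fact p.Prime] (T : Subgroup G) (hTp : IsPGroup p T)
    (main : ∀ (H : Subgroup G) (P1 : Sylow p G), (P1 : Subgroup G) ≤ H →
      T ≤ (P1 : Subgroup G) → PrnIn H ⊤)
    (K : Subgroup G) (P0 : Sylow p G) (hP0 : (P0 : Subgroup G) ≤ K) : Cfsg.IsPronormal K := by
  obtain ⟨PG, hPG⟩ := hTp.exists_le_sylow
  obtain ⟨c, hc⟩ := MulAction.exists_smul_eq G P0 PG
  have h1 : (PG : Subgroup G) = cj c (P0 : Subgroup G) := by
    rw [← hc, coe_smul_sylow]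
  have h2 := main (cj c K) PG (by rw [h1]; exact cj_mono hP0 c) hPG
  have h3 := h2.conj c⁻¹
  rw [cj_inv_cj, cj_top] at h3
  exact (isPronormal_iff K).mpr h3

section translate
variable [Finite G] {p : ℕ} [Fact p.Prime] (A : Subgroup G) [A.Normal] (T : Subgroup G)

theorem hT_facts (hT : ∃ P : Sylow p ↥A, (P : Subgroup ↥A).map A.subtype = T) :
    T ≤ A ∧ IsPGroup p T ∧ ¬ p ∣ T.relIndex A := by
  obtain ⟨P, rfl⟩ := hT
  refine ⟨Subgroup.map_subtype_le _, P.isPGroup'.map _, ?_⟩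
  have : ((P : Subgroup ↥A).map A.subtype).relIndex A = (P : Subgroup ↥A).index := by
    rw [Subgroup.relIndex]
    congr 1
    exact Subgroup.comap_map_eq_self_of_injective A.subtype_injective _
  rw [this]
  exact P.not_dvd_index

theorem hA_amb (hT : ∃ P : Sylow p ↥A, (P : Subgroup ↥A).map A.subtype = T)
    (hA : ∀ K : Subgroup ↥A, (∃ P : Sylow p ↥A, (P : Subgroup ↥A) ≤ K) → Cfsg.IsPronormal K) :
    ∀ B : Subgroup G, B ≤ A → T ≤ B → PrnIn B A := by
  intro B hBA hTB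
  obtain ⟨P, hP⟩ := hT
  have h1 : Cfsg.IsPronormal (B.subgroupOf A) := by
    apply hA
    refine ⟨P, ?_⟩
    intro x hx
    rw [Subgroup.mem_subgroupOf]
    apply hTB
    rw [← hP]
    exact ⟨x, hx, rfl⟩
  rw [isPronormal_subgroup_iff, Subgroup.map_subgroupOf_eq_of_le hBA] at h1
  exact h1

theorem hN_amb [hTn : (T.subgroupOf (Subgroup.normalizer (T : Set G))).Normal]
    (hN : ∀ K : Subgroup (↥(Subgroup.normalizer (T : Set G)) ⧸
        T.subgroupOf (Subgroup.normalizer (T : Set G))),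
      (∃ P : Sylow p (↥(Subgroup.normalizer (T : Set G)) ⧸
        T.subgroupOf (Subgroup.normalizer (T : Set G))),
        (P : Subgroup (↥(Subgroup.normalizer (T : Set G)) ⧸
          T.subgroupOf (Subgroup.normalizer (T : Set G)))) ≤ K) → Cfsg.IsPronormal K) :
    ∀ K : Subgroup G, K ≤ Subgroup.normalizer (T : Set G) → T ≤ K →
      (∃ P : Sylow p G, (P : Subgroup G) ≤ K) → PrnIn K (Subgroup.normalizer (T : Set G)) := by
  rintro K hKN hTK ⟨P, hPK⟩
  have h1 : Cfsg.IsPronormal ((K.subgroupOf (Subgroup.normalizer (T : Set G))).map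
      (QuotientGroup.mk' (T.subgroupOf (Subgroup.normalizer (T : Set G))))) := by
    apply hN
    refine ⟨(P.subtype (hPK.trans hKN)).mapSurjective (QuotientGroup.mk'_surjective _), ?_⟩
    rw [Sylow.coe_mapSurjective, Sylow.coe_subtype]
    apply Subgroup.map_mono
    intro x hx
    rw [Subgroup.mem_subgroupOf] at hx ⊢
    exact hPK hx
  rw [isPronormal_quotient_iff] at h1
  have hker : (QuotientGroup.mk' (T.subgroupOf (Subgroup.normalizer (T : Set G)))).ker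
      ≤ K.subgroupOf (Subgroup.normalizer (T : Set G)) := by
    rw [QuotientGroup.ker_mk']
    intro x hx
    rw [Subgroup.mem_subgroupOf] at hx ⊢
    exact hTK hx
  rw [Subgroup.comap_map_eq_self hker, isPronormal_subgroup_iff,
    Subgroup.map_subgroupOf_eq_of_le hKN] at h1
  exact h1

theorem hN_quot [hTn : (T.subgroupOf (Subgroup.normalizer (T : Set G))).Normal]
    (hTA : T ≤ A) (hTp : IsPGroup p T) (hTi : ¬ p ∣ T.relIndex A)
    (hG : ∀ K : Subgroup G, (∃ P : Sylow p G, (P : Subgroup G) ≤ K) → Cfsg.IsPronormal K) :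
    ∀ K : Subgroup (↥(Subgroup.normalizer (T : Set G)) ⧸
        T.subgroupOf (Subgroup.normalizer (T : Set G))),
      (∃ P : Sylow p (↥(Subgroup.normalizer (T : Set G)) ⧸
        T.subgroupOf (Subgroup.normalizer (T : Set G))),
        (P : Subgroup (↥(Subgroup.normalizer (T : Set G)) ⧸
          T.subgroupOf (Subgroup.normalizer (T : Set G)))) ≤ K) → Cfsg.IsPronormal K := by
  intro Kb hKb
  rw [isPronormal_quotient_iff, isPronormal_subgroup_iff]
  apply PrnIn.mono _ le_top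
  rw [← isPronormal_iff]
  apply hG
  rw [exists_sylow_le_iff] at hKb ⊢
  rw [Subgroup.index_map_subtype,
    Subgroup.index_comap_of_surjective _ (QuotientGroup.mk'_surjective _)]
  intro hd
  rcases (Nat.Prime.dvd_mul Fact.out).mp hd with h | h
  · exact hKb h
  · obtain ⟨PG, hPG⟩ := hTp.exists_le_sylow
    have h1 := sylow_inf_eq A T PG hTA hTi PG.isPGroup' hPG
    have hle := sylow_le_normalizer' A T PG h1
    exact PG.not_dvd_index (h.trans (Subgroup.index_dvd_of_le hle))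

end translate

end Cfsg.Agent.helper21.Prn
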