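import Mathlib

set_option autoImplicit false

namespace Cfsg.Agent.helper21

open QuaternionGroup

/-- In `ZMod (2n)`, the solutions of `j + j = 0` are `0` and `n`. -/
theorem zmod_two_mul_add_self_eq_zero {n : ℕ} [NeZero n] (j : ZMod (2 * n)) (h : j + j = 0) :
    j = 0 ∨ j = (n : ZMod (2 * n)) := by
  have : NeZero (2 * n) := ⟨by have := NeZero.ne n; omega⟩
  have hj : ((j.val + j.val : ℕ) : ZMod (2 * n)) = 0 := by
    rw [Nat.cast_add, ZMod.natCast_zmod_val]; exact h
  rw [ZMod.natCast_eq_zero_iff] at hj
  have hlt : j.val < 2 * n := ZMod.val_lt j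
  obtain ⟨c, hc⟩ := hj
  have hc' : j.val = n * c := by
    have : 2 * j.val = 2 * (n * c) := by rw [← mul_assoc, ← hc]; ring
    omega
  have hcl : c < 2 := by
    by_contra hge
    push Not at hge
    have : n * 2 ≤ n * c := Nat.mul_le_mul_left n hge
    omega
  have : c = 0 ∨ c = 1 := by omega
  rcases this with rfl | rfl
  · left
    have : j.val = 0 := by rw [hc']; simp
    exact (ZMod.val_eq_zero j).mp this
  · right
    have : j.val = n := by rw [hc']; simp
    rw [← ZMod.natCast_zmod_val j, this]

theorem zmod_two_mul_self_add_self (n : ℕ) : ((n : ZMod (2 * n)) + n = 0) := by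
  have : ((2 * n : ℕ) : ZMod (2 * n)) = 0 := ZMod.natCast_self (2 * n)
  rw [← this]; push_cast; ring

/-- elements commuting with `xa i` are powers of `xa i`. -/
theorem mem_zpowers_xa_of_commute {n : ℕ} [NeZero n] (i : ZMod (2 * n)) (y : QuaternionGroup n)
    (h : y * xa i = xa i * y) : y ∈ Subgroup.zpowers (xa i : QuaternionGroup n) := by
  have hnn := zmod_two_mul_self_add_self n
  cases y with
  | a j =>
    rw [a_mul_xa, xa_mul_a] at h
    have h1 : i - j = i + j := by injection h
    have h2 : j + j = 0 := by
      have : (i + j) - (i - j) = 0 := by rw [h1]; ring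
      have e : (i + j) - (i - j) = j + j := by ring
      rw [e] at this; exact this
    rcases zmod_two_mul_add_self_eq_zero j h2 with rfl | rfl
    · rw [a_zero]; exact Subgroup.one_mem _
    · rw [← xa_sq i]; exact Subgroup.pow_mem _ (Subgroup.mem_zpowers _) 2
  | xa j =>
    rw [xa_mul_xa, xa_mul_xa] at h
    have h1 : (n : ZMod (2 * n)) + i - j = n + j - i := by injection h
    have h2 : (j - i) + (j - i) = 0 := by
      have : ((n : ZMod (2 * n)) + j - i) - (n + i - j) = 0 := by rw [h1]; ring
      have e : ((n : ZMod (2 * n)) + j - i) - (n + i - j) = (j - i) + (j - i) := by ring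
      rw [e] at this; exact this
    rcases zmod_two_mul_add_self_eq_zero (j - i) h2 with h3 | h3
    · have : j = i := by
        have := sub_eq_zero.mp h3; exact this
      rw [this]; exact Subgroup.mem_zpowers _
    · have hj : j = i + n := by
        have : j = (j - i) + i := by ring
        rw [this, h3]; ring
      have h3' : (xa i : QuaternionGroup n) ^ 3 = xa j := by
        have : (xa i : QuaternionGroup n) ^ 3 = xa i ^ 2 * xa i := by rw [pow_succ]
        rw [this, xa_sq, a_mul_xa, hj]
        congr 1
        have : i - (n : ZMod (2 * n)) = i + n - (n + n) := by ring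
        rw [this, hnn, sub_zero]
      rw [← h3']; exact Subgroup.pow_mem _ (Subgroup.mem_zpowers _) 3

/-- In `Q × Z` with `Q` generalized quaternion of `2`-power order and `Z` cyclic of odd order,
the centralizer of every non-central element is cyclic. -/
theorem isCyclic_centralizer_quat_prod {n : ℕ} [NeZero n] (hn : ∃ k, n = 2 ^ k)
    {Z : Type*} [CommGroup Z] [Finite Z] [IsCyclic Z] (hZ : (Nat.card Z).Coprime 2)
    (x : QuaternionGroup n × Z) (hx : x ∉ Subgroup.center (QuaternionGroup n × Z)) :
    IsCyclic (Subgroup.centralizer ({x} : Set (QuaternionGroup n × Z))) := by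
  obtain ⟨q, z⟩ := x
  -- choose the generator
  obtain ⟨g, hg⟩ : ∃ g : QuaternionGroup n, ∀ y : QuaternionGroup n, y * q = q * y →
      y ∈ Subgroup.zpowers g := by
    cases q with
    | a i =>
      have hi : i + i ≠ 0 := by
        intro h0
        apply hx
        rw [Subgroup.mem_center_iff]
        rintro ⟨y, w⟩
        ext
        · simp only [Prod.mk_mul_mk]
          cases y with
          | a j => rw [a_mul_a, a_mul_a, add_comm]
          | xa j =>
            rw [xa_mul_a, a_mul_xa]
            congr 1
            have : j - i = j + i - (i + i) := by ring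
            rw [this, h0, sub_zero]
        · simp only [Prod.mk_mul_mk]; exact mul_comm _ _
      refine ⟨a 1, ?_⟩
      intro y hy
      cases y with
      | a j =>
        have : (a 1 : QuaternionGroup n) ^ j.val = a j := by
          rw [a_one_pow, ZMod.natCast_zmod_val]
        rw [← this]; exact Subgroup.pow_mem _ (Subgroup.mem_zpowers _) _
      | xa j =>
        exfalso
        rw [xa_mul_a, a_mul_xa] at hy
        have h1 : j + i = j - i := by injection hy
        apply hi
        have : (j + i) - (j - i) = 0 := by rw [h1]; ring
        have e : (j + i) - (j - i) = i + i := by ring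
        rw [e] at this; exact this
    | xa i =>
      exact ⟨xa i, fun y hy => mem_zpowers_xa_of_commute i y hy⟩
  -- the centralizer lies in a cyclic subgroup
  set K : Subgroup (QuaternionGroup n × Z) := (Subgroup.zpowers g).prod ⊤ with hK
  have hle : Subgroup.centralizer ({((q, z) : QuaternionGroup n × Z)} : Set _) ≤ K := by
    intro y hy
    rw [Subgroup.mem_centralizer_singleton_iff] at hy
    rw [hK, Subgroup.mem_prod]
    refine ⟨hg y.1 ?_, Subgroup.mem_top _⟩
    have := congrArg Prod.fst hy
    simpa using this
  have hKcyc : IsCyclic K := by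
    have e : K ≃* (Subgroup.zpowers g) × (⊤ : Subgroup Z) := Subgroup.prodEquiv _ _
    have hcyc : IsCyclic ((Subgroup.zpowers g) × (⊤ : Subgroup Z)) := by
      rw [Group.isCyclic_prod_iff]
      refine ⟨inferInstance, ?_, ?_⟩
      · exact isCyclic_of_surjective (Subgroup.topEquiv (G := Z)).symm.toMonoidHom
          (Subgroup.topEquiv (G := Z)).symm.surjective
      · have h1 : Nat.card (Subgroup.zpowers g) ∣ 2 ^ (Nat.log 2 n + 2) := by
          obtain ⟨k, rfl⟩ := hn
          have hc : Nat.card (QuaternionGroup (2 ^ k)) = 4 * 2 ^ k := by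
            rw [Nat.card_eq_fintype_card, QuaternionGroup.card]
          have := Subgroup.card_subgroup_dvd_card (Subgroup.zpowers g)
          rw [hc] at this
          have e2 : 4 * 2 ^ k = 2 ^ (k + 2) := by ring
          rw [e2] at this
          rw [Nat.log_pow (by norm_num)]
          exact this
        have h2 : Nat.card (⊤ : Subgroup Z) = Nat.card Z := Subgroup.card_top
        rw [h2]
        exact Nat.Coprime.coprime_dvd_left h1 ((hZ.symm).pow_left _)
    exact isCyclic_of_surjective e.symm.toMonoidHom e.symm.surjective
  exact Subgroup.isCyclic_of_le hle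

end Cfsg.Agent.helper21
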