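import Mathlib
import Cfsg.Agent.Lib_helper19_RealOdd

set_option autoImplicit false

namespace Cfsg.Agent.helper21

/-- if `c` inverts `x`, then `c` normalizes `zpowers x`. -/
theorem mem_normalizer_zpowers_of_inverts {G : Type*} [Group G] {c x : G}
    (h : c * x * c⁻¹ = x⁻¹) :
    c ∈ Subgroup.normalizer ((Subgroup.zpowers x : Subgroup G) : Set G) := by
  have h' : c⁻¹ * x * c = x⁻¹ := by
    have : x = c⁻¹ * x⁻¹ * c := by rw [← h]; group
    calc c⁻¹ * x * c = (c⁻¹ * x⁻¹ * c)⁻¹ := by group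
      _ = x⁻¹ := by rw [← this]
  rw [Subgroup.mem_normalizer_iff]
  intro y
  constructor
  · intro hy
    obtain ⟨k, rfl⟩ := Subgroup.mem_zpowers_iff.mp hy
    have : c * x ^ k * c⁻¹ = (x⁻¹) ^ k := by
      rw [← h, conj_zpow]
    rw [this]
    exact Subgroup.zpow_mem _ (Subgroup.inv_mem _ (Subgroup.mem_zpowers x)) k
  · intro hy
    obtain ⟨k, hk⟩ := Subgroup.mem_zpowers_iff.mp hy
    have : y = (x⁻¹) ^ k := by
      have e1 : y = c⁻¹ * (c * y * c⁻¹) * c := by group
      rw [e1, ← hk, ← h']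
      have := (conj_zpow (a := c⁻¹) (b := x) (i := k))
      simpa using this.symm
    rw [this]
    exact Subgroup.zpow_mem _ (Subgroup.inv_mem _ (Subgroup.mem_zpowers x)) k

/-- an element of odd order equal to its inverse is trivial. -/
theorem eq_one_of_odd_of_eq_inv {G : Type*} [Group G] {x : G} (hodd : Odd (orderOf x))
    (h : x = x⁻¹) : x = 1 := by
  have h2 : x ^ 2 = 1 := by
    rw [pow_two]
    nth_rewrite 2 [h]
    exact mul_inv_cancel x
  have hd : orderOf x ∣ 2 := orderOf_dvd_of_pow_eq_one h2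
  have : orderOf x = 1 := by
    rcases (Nat.dvd_prime Nat.prime_two).mp hd with h1 | h1
    · exact h1
    · rw [h1] at hodd
      exact absurd hodd (by decide)
  exact orderOf_eq_one_iff.mp this

end Cfsg.Agent.helper21
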