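import Mathlib
import Cfsg.Agent.Lib_helper21_SylowNum

/-!
# Subgroups generated by small classes (Isaacs / Mann)  (helper21)

* `index_centralizer_commutator_lt`: `K` normal abelian, `k ∈ K`, `⁅k,x⁆ ≠ 1` ⇒
  `|G : C(⁅k,x⁆)| < |G : C(x)|`.
* `core`: `A` normal abelian self-centralizing, `m` smallest noncentral class size,
  `M` generated by elements of class size `1` or `m` ⇒ all triple commutators of `M` are central.
* `ucs3_top`: elementwise criterion for `upperCentralSeries H 3 = ⊤`.
-/

set_option autoImplicit false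
set_option linter.style.haveILetI false

namespace Cfsg.Agent.helper21.SmallClass

open Subgroup
open scoped commutatorElement

variable {G : Type*} [Group G]

theorem ucs3_top {H : Type*} [Group H] (h : ∀ x y z w : H, ⁅⁅⁅x, y⁆, z⁆, w⁆ = 1) :
    Subgroup.upperCentralSeries H 3 = ⊤ := by
  refine eq_top_iff.2 fun x _ => ?_
  rw [Subgroup.mem_upperCentralSeries_succ_iff]
  intro y
  rw [Subgroup.mem_upperCentralSeries_succ_iff]
  intro z
  rw [Subgroup.mem_upperCentralSeries_succ_iff]
  intro w
  rw [Subgroup.upperCentralSeries_zero, mem_bot]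
  exact h x y z w

theorem comm_eq_iff (x k₁ k₂ : G) :
    ⁅k₁, x⁆ = ⁅k₂, x⁆ ↔ k₁⁻¹ * k₂ ∈ centralizer ({x} : Set G) := by
  rw [mem_centralizer_singleton_iff, commutatorElement_def, commutatorElement_def]
  constructor
  · intro h
    have h' : k₁ * x * k₁⁻¹ = k₂ * x * k₂⁻¹ := mul_right_cancel h
    calc k₁⁻¹ * k₂ * x = k₁⁻¹ * (k₂ * x * k₂⁻¹) * k₂ := by group
      _ = k₁⁻¹ * (k₁ * x * k₁⁻¹) * k₂ := by rw [h']
      _ = x * (k₁⁻¹ * k₂) := by group
  · intro h
    have h' : k₁ * x * k₁⁻¹ = k₂ * x * k₂⁻¹ := by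
      calc k₁ * x * k₁⁻¹ = k₁ * (x * (k₁⁻¹ * k₂)) * k₂⁻¹ := by group
        _ = k₁ * (k₁⁻¹ * k₂ * x) * k₂⁻¹ := by rw [h]
        _ = k₂ * x * k₂⁻¹ := by group
    rw [h']

theorem conj_comm (g k x : G) (hg : g * x = x * g) :
    g * ⁅k, x⁆ * g⁻¹ = ⁅g * k * g⁻¹, x⁆ := by
  have hx : g * x * g⁻¹ = x := by rw [hg]; group
  rw [conjugate_commutatorElement, hx]

/-- Isaacs' lemma: for `K` normal abelian and `k ∈ K`, the class of a nontrivial `⁅k,x⁆` is
strictly smaller than the class of `x`. -/
theorem index_centralizer_commutator_lt [Finite G]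
    (K : Subgroup G) [hKn : K.Normal] (hK : IsMulCommutative K) (x k : G) (hk : k ∈ K)
    (hy : ⁅k, x⁆ ≠ 1) :
    (centralizer ({⁅k, x⁆} : Set G)).index < (centralizer ({x} : Set G)).index := by
  set y := ⁅k, x⁆ with hydef
  set C := centralizer ({x} : Set G) with hC
  set D := centralizer ({y} : Set G) with hD
  set S := C ⊓ D with hS
  have hyK : y ∈ K := commutator_le_left K ⊤ (commutator_mem_commutator hk (mem_top x))
  have hKD : K ≤ D := by
    intro k' hk'
    rw [hD, mem_centralizer_singleton_iff]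
    exact congrArg Subtype.val (hK.is_comm.comm ⟨k', hk'⟩ ⟨y, hyK⟩)
  have hconjK : ∀ g : G, g * k * g⁻¹ ∈ K := fun g => hKn.conj_mem k hk g
  have hinj : S.relIndex C + 1 ≤ C.relIndex K := by
    let ι : Option (↥C ⧸ S.subgroupOf C) → ↥K ⧸ C.subgroupOf K := fun o =>
      match o with
      | none => QuotientGroup.mk 1
      | some q => QuotientGroup.mk ⟨(q.out : G) * k * (q.out : G)⁻¹, hconjK _⟩
    have key : ∀ g h : ↥C,
        (QuotientGroup.mk (⟨(g : G) * k * (g : G)⁻¹, hconjK _⟩ : ↥K) : ↥K ⧸ C.subgroupOf K) =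
          QuotientGroup.mk (⟨(h : G) * k * (h : G)⁻¹, hconjK _⟩ : ↥K) →
        (QuotientGroup.mk g : ↥C ⧸ S.subgroupOf C) = QuotientGroup.mk h := by
      intro g h hgh
      rw [QuotientGroup.eq] at hgh ⊢
      rw [mem_subgroupOf] at hgh ⊢
      have h0 : ((g : G) * k * (g : G)⁻¹)⁻¹ * ((h : G) * k * (h : G)⁻¹) ∈ C := hgh
      have h1 := (comm_eq_iff x _ _).2 h0
      have hgx : (g : G) * x = x * g := mem_centralizer_singleton_iff.1 g.2
      have hhx : (h : G) * x = x * h := mem_centralizer_singleton_iff.1 h.2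
      rw [← conj_comm _ _ _ hgx, ← conj_comm _ _ _ hhx] at h1
      have h2 : ((g⁻¹ * h : ↥C) : G) = (g : G)⁻¹ * h := by simp
      rw [h2, hS, mem_inf]
      refine ⟨?_, ?_⟩
      · rw [← h2]; exact (g⁻¹ * h).2
      · rw [hD, mem_centralizer_singleton_iff]
        calc (g : G)⁻¹ * h * y = (g : G)⁻¹ * (h * y * (h : G)⁻¹) * h := by group
          _ = (g : G)⁻¹ * (g * y * (g : G)⁻¹) * h := by rw [h1]
          _ = y * ((g : G)⁻¹ * h) := by group
    have key0 : ∀ g : ↥C,
        (QuotientGroup.mk (1 : ↥K) : ↥K ⧸ C.subgroupOf K) ≠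
          QuotientGroup.mk (⟨(g : G) * k * (g : G)⁻¹, hconjK _⟩ : ↥K) := by
      intro g hg
      rw [QuotientGroup.eq, mem_subgroupOf] at hg
      have h0 : (1 : G)⁻¹ * ((g : G) * k * (g : G)⁻¹) ∈ C := hg
      have h1 := (comm_eq_iff x _ _).2 h0
      have hgx : (g : G) * x = x * g := mem_centralizer_singleton_iff.1 g.2
      rw [commutatorElement_one_left, ← conj_comm _ _ _ hgx] at h1
      apply hy
      have : y = (g : G)⁻¹ * ((g : G) * y * (g : G)⁻¹) * g := by group
      rw [this, ← h1]; group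
    have hι : Function.Injective ι := by
      intro a b hab
      cases a with
      | none =>
        cases b with
        | none => rfl
        | some q => exact absurd hab (key0 q.out)
      | some q =>
        cases b with
        | none => exact absurd hab.symm (key0 q.out)
        | some q' =>
          have := key q.out q'.out hab
          rw [QuotientGroup.out_eq', QuotientGroup.out_eq'] at this
          rw [this]
    have := Nat.card_le_card_of_injective ι hι
    rw [Finite.card_option] at this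
    exact this
  set T := K ⊔ S with hT
  have hST : S ≤ T := le_sup_right
  have hTD : T ≤ D := sup_le hKD inf_le_right
  have e1 : S.relIndex C * C.index = S.index := relIndex_mul_index inf_le_left
  have e2 : S.relIndex T * T.index = S.index := relIndex_mul_index hST
  have e3 : S.relIndex T = C.relIndex K := by
    rw [hT, Cfsg.Agent.helper21.relIndex_sup_normal K S]
    unfold Subgroup.relIndex
    congr 1
    ext ⟨k', hk'⟩
    simp only [mem_subgroupOf, hS, mem_inf]
    exact ⟨fun h => h.1, fun h => ⟨h, hKD hk'⟩⟩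
  have hTpos : 0 < T.index := Nat.pos_of_ne_zero index_ne_zero_of_finite
  have hDT : D.index ≤ T.index := Nat.le_of_dvd hTpos (index_dvd_of_le hTD)
  have : T.index < C.index := by
    by_contra hcon
    push Not at hcon
    rw [e3] at e2
    nlinarith [Nat.mul_le_mul_right T.index hinj, Nat.mul_le_mul_left (S.relIndex C) hcon]
  omega

/-- Core of Isaacs' theorem on subgroups generated by small classes. -/
theorem core [Finite G]
    (A : Subgroup G) [hAn : A.Normal] (hA : IsMulCommutative A)
    (hCA : centralizer (A : Set G) = A) (m : ℕ)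
    (hmin : ∀ x : G, 1 < (centralizer ({x} : Set G)).index →
      m ≤ (centralizer ({x} : Set G)).index)
    (M : Subgroup G)
    (hM : M = closure {x : G | (centralizer ({x} : Set G)).index = 1 ∨
      (centralizer ({x} : Set G)).index = m})
    (x y z w : G) (hx : x ∈ M) (hy : y ∈ M) (hz : z ∈ M) (hw : w ∈ M) :
    ⁅⁅⁅x, y⁆, z⁆, w⁆ = 1 := by
  have step1 : ∀ g : G, ((centralizer ({g} : Set G)).index = 1 ∨
      (centralizer ({g} : Set G)).index = m) → ∀ k ∈ A, ⁅k, g⁆ ∈ center G := by
    intro g hg k hk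
    by_cases h1 : ⁅k, g⁆ = 1
    · rw [h1]; exact one_mem _
    have hlt := index_centralizer_commutator_lt A hA g k hk h1
    have hidx : (centralizer ({⁅k, g⁆} : Set G)).index = 1 := by
      have hne : (centralizer ({⁅k, g⁆} : Set G)).index ≠ 0 := index_ne_zero_of_finite
      rcases hg with hg | hg
      · omega
      · by_contra hcon
        have h2 : 1 < (centralizer ({⁅k, g⁆} : Set G)).index := by omega
        have := hmin _ h2
        omega
    rw [index_eq_one] at hidx
    rw [mem_center_iff]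
    intro u
    have : u ∈ centralizer ({⁅k, g⁆} : Set G) := by rw [hidx]; exact mem_top u
    exact mem_centralizer_singleton_iff.1 this
  have hE : ∀ g ∈ M, ∀ k ∈ A, ⁅k, g⁆ ∈ center G := by
    intro g hg
    rw [hM] at hg
    induction hg using closure_induction with
    | mem g hg => exact step1 g hg
    | one => intro k _; rw [commutatorElement_one_right]; exact one_mem _
    | mul g h _ _ ihg ihh =>
      intro k hk
      have e : ⁅k, g * h⁆ = ⁅k, g⁆ * (g * ⁅k, h⁆ * g⁻¹) := by
        simp only [commutatorElement_def]; group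
      have hh := ihh k hk
      have e2 : g * ⁅k, h⁆ * g⁻¹ = ⁅k, h⁆ := by
        rw [(mem_center_iff.1 hh) g]; group
      rw [e, e2]; exact mul_mem (ihg k hk) hh
    | inv g _ ih =>
      intro k hk
      have e : ⁅k, g⁻¹⁆ = g⁻¹ * ⁅k, g⁆⁻¹ * g := by
        simp only [commutatorElement_def]; group
      have hh := ih k hk
      have e2 : g⁻¹ * ⁅k, g⁆⁻¹ * g = ⁅k, g⁆⁻¹ := by
        rw [(mem_center_iff.1 (inv_mem hh)) g⁻¹]; group
      rw [e, e2]; exact inv_mem hh
  have hAM : ⁅A, M⁆ ≤ center G := by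
    rw [commutator_le]; intro a ha g hg; exact hE g hg a ha
  have hc1 : ⁅⁅A, M⁆, M⁆ = ⊥ := by
    rw [commutator_eq_bot_iff_le_centralizer]
    exact hAM.trans (center_le_centralizer _)
  have hc2 : ⁅⁅M, A⁆, M⁆ = ⊥ := by rw [commutator_comm M A]; exact hc1
  have hc3 : ⁅⁅M, M⁆, A⁆ = ⊥ := commutator_commutator_eq_bot_of_rotate hc2 hc1
  have hMMA : ⁅M, M⁆ ≤ A := by
    rw [commutator_eq_bot_iff_le_centralizer, hCA] at hc3; exact hc3
  have h1 : ⁅x, y⁆ ∈ A := hMMA (commutator_mem_commutator hx hy)
  have h2 : ⁅⁅x, y⁆, z⁆ ∈ center G := hE z hz _ h1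
  rw [commutatorElement_eq_one_iff_mul_comm]
  exact ((mem_center_iff.1 h2) w).symm

end Cfsg.Agent.helper21.SmallClass
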