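import Mathlib
import Cfsg.Agent.Lib_helper21_PPowerClass

set_option autoImplicit false
set_option linter.style.haveILetI false

namespace Cfsg.Agent.helper21

open scoped commutatorElement

/-- In a special `2`-group every element of the derived subgroup squares to one. -/
theorem sq_eq_one_of_mem_commutator_special {T : Type*} [Group T] [Finite T]
    (hT : IsPGroup 2 T) (hfr : frattini T = Subgroup.center T)
    (hco : commutator T = Subgroup.center T) : ∀ z ∈ commutator T, z ^ 2 = 1 := by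
  haveI : Fact (Nat.Prime 2) := ⟨Nat.prime_two⟩
  have hsq : ∀ y : T, y ^ 2 ∈ Subgroup.center T := by
    intro y
    rw [← hfr]
    exact Cfsg.Agent.helper1.pow_mem_frattini_of_isPGroup hT y
  have hcomm : ∀ a b : T, ⁅a, b⁆ ^ 2 = 1 := by
    intro a b
    have hc : ⁅a, b⁆ ∈ Subgroup.center T := by
      rw [← hco]
      exact Subgroup.commutator_mem_commutator (Subgroup.mem_top a) (Subgroup.mem_top b)
    have hcomm' : Commute ⁅a, b⁆ a := (Subgroup.mem_center_iff.mp hc a).symm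
    rw [← Cfsg.Agent.helper19.commutatorElement_pow_left a b hcomm' 2]
    have h2 := hsq a
    rw [commutatorElement_def]
    have := Subgroup.mem_center_iff.mp h2 b
    rw [← this]; group
  intro z hz
  rw [commutator_def, Subgroup.commutator_def] at hz
  have key : ∀ w ∈ Subgroup.closure {g | ∃ g₁ ∈ (⊤ : Subgroup T), ∃ g₂ ∈ (⊤ : Subgroup T), ⁅g₁, g₂⁆ = g},
      w ∈ Subgroup.center T ∧ w ^ 2 = 1 := by
    intro w hw
    refine ⟨by rw [← hco, commutator_def, Subgroup.commutator_def]; exact hw, ?_⟩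
    induction hw using Subgroup.closure_induction with
    | mem w hw =>
      obtain ⟨a, _, b, _, rfl⟩ := hw
      exact hcomm a b
    | one => simp
    | mul u v hu hv ihu ihv =>
      have huc : u ∈ Subgroup.center T := by
        rw [← hco, commutator_def, Subgroup.commutator_def]; exact hu
      have : Commute u v := (Subgroup.mem_center_iff.mp huc v).symm
      rw [this.mul_pow, ihu, ihv, one_mul]
    | inv u hu ihu => rw [inv_pow, ihu, inv_one]
  exact (key z hz).2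

/-- Let `R` be a special `2`-subgroup acted on by `A` irreducibly modulo the Frattini subgroup
and trivially on the centre. Then every element of `R` outside the centre is inverted by an
element of `R`. -/
theorem exists_inverting_of_special {G : Type*} [Group G] [Finite G] (R A : Subgroup G)
    (hsp : Cfsg.IsSpecial 2 ↥R)
    (hAR : A ≤ Subgroup.normalizer (R : Set G))
    (hcent : ∀ c ∈ R, (∀ r ∈ R, r * c = c * r) → ∀ a ∈ A, a * c * a⁻¹ = c)
    (hirr : ∀ U : Subgroup G, (∀ c ∈ R, (∀ r ∈ R, r * c = c * r) → c ∈ U) → U ≤ R →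
        (∀ a ∈ A, ∀ u ∈ U, a * u * a⁻¹ ∈ U) → (∀ u ∈ U, ∀ r ∈ R, r * u = u * r) ∨ U = R)
    (x : G) (hxR : x ∈ R) (hx : ¬ ∀ r ∈ R, r * x = x * r) :
    ∃ r ∈ R, r * x * r⁻¹ = x⁻¹ := by
  obtain ⟨hT, hfr, hco⟩ := hsp
  -- commutators of elements of R are central in R and square to one
  have hcc : ∀ r ∈ R, ∀ s ∈ R, (⁅r, s⁆ ∈ R ∧ (∀ t ∈ R, t * ⁅r, s⁆ = ⁅r, s⁆ * t)) ∧ ⁅r, s⁆ ^ 2 = 1 := by
    intro r hr s hs
    have hmem : ⁅(⟨r, hr⟩ : ↥R), (⟨s, hs⟩ : ↥R)⁆ ∈ commutator ↥R :=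
      Subgroup.commutator_mem_commutator (Subgroup.mem_top _) (Subgroup.mem_top _)
    have h2 := sq_eq_one_of_mem_commutator_special hT hfr hco _ hmem
    rw [hco] at hmem
    refine ⟨⟨?_, ?_⟩, ?_⟩
    · exact (⁅(⟨r, hr⟩ : ↥R), (⟨s, hs⟩ : ↥R)⁆).2
    · intro t ht
      have := Subgroup.mem_center_iff.mp hmem ⟨t, ht⟩
      exact congrArg Subtype.val this
    · exact congrArg Subtype.val h2
  -- the subgroup A_x = [x, R]
  let Ax : Subgroup G :=
    { carrier := {c | ∃ r ∈ R, c = ⁅x, r⁆}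
      one_mem' := show ∃ r ∈ R, (1 : G) = ⁅x, r⁆ from ⟨1, R.one_mem, by simp⟩
      mul_mem' := by
        rintro c1 c2 ⟨r, hr, rfl⟩ ⟨s, hs, rfl⟩
        refine ⟨r * s, R.mul_mem hr hs, ?_⟩
        have hc2 := (hcc x hxR s hs).1.2 r⁻¹ (R.inv_mem hr)
        rw [commutatorElement_def, commutatorElement_def, commutatorElement_def] at *
        calc x * r * x⁻¹ * r⁻¹ * (x * s * x⁻¹ * s⁻¹)
            = x * r * x⁻¹ * (r⁻¹ * (x * s * x⁻¹ * s⁻¹)) := by group
          _ = x * r * x⁻¹ * ((x * s * x⁻¹ * s⁻¹) * r⁻¹) := by rw [hc2]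
          _ = x * (r * s) * x⁻¹ * (r * s)⁻¹ := by group
      inv_mem' := by
        rintro c ⟨r, hr, rfl⟩
        refine ⟨r, hr, ?_⟩
        have h2 := (hcc x hxR r hr).2
        rw [inv_eq_iff_mul_eq_one, ← pow_two]
        exact h2 }
  have hAxmem : ∀ c, c ∈ Ax ↔ ∃ r ∈ R, c = ⁅x, r⁆ := fun c => Iff.rfl
  have hAxR : ∀ c ∈ Ax, c ∈ R ∧ (∀ t ∈ R, t * c = c * t) := by
    rintro c ⟨r, hr, rfl⟩
    exact (hcc x hxR r hr).1
  -- the subgroup X
  let Xs : Subgroup G :=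
    { carrier := {r | r ∈ R ∧ ∀ s ∈ R, ⁅r, s⁆ ∈ Ax}
      one_mem' := ⟨R.one_mem, fun s _ => by rw [commutatorElement_one_left]; exact Ax.one_mem⟩
      mul_mem' := by
        rintro r r' ⟨hr, h1⟩ ⟨hr', h1'⟩
        refine ⟨R.mul_mem hr hr', fun s hs => ?_⟩
        have hc := (hcc r' hr' s hs).1.2 r hr
        have : ⁅r * r', s⁆ = ⁅r', s⁆ * ⁅r, s⁆ := by
          rw [commutatorElement_def, commutatorElement_def, commutatorElement_def] at *
          calc r * r' * s * (r * r')⁻¹ * s⁻¹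
              = (r * (r' * s * r'⁻¹ * s⁻¹)) * (s * r⁻¹ * s⁻¹) := by group
            _ = ((r' * s * r'⁻¹ * s⁻¹) * r) * (s * r⁻¹ * s⁻¹) := by rw [hc]
            _ = r' * s * r'⁻¹ * s⁻¹ * (r * s * r⁻¹ * s⁻¹) := by group
        rw [this]
        exact Ax.mul_mem (h1' s hs) (h1 s hs)
      inv_mem' := by
        rintro r ⟨hr, h1⟩
        refine ⟨R.inv_mem hr, fun s hs => ?_⟩
        have hc := (hcc r hr s hs).1.2 r⁻¹ (R.inv_mem hr)
        have : ⁅r⁻¹, s⁆ = (⁅r, s⁆)⁻¹ := by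
          rw [commutatorElement_def, commutatorElement_def] at *
          have hcomm : Commute r⁻¹ (r * s * r⁻¹ * s⁻¹) := hc
          have hc' : r⁻¹ * (r * s * r⁻¹ * s⁻¹)⁻¹ = (r * s * r⁻¹ * s⁻¹)⁻¹ * r⁻¹ := hcomm.inv_right
          calc r⁻¹ * s * r⁻¹⁻¹ * s⁻¹
              = (r⁻¹ * (r * s * r⁻¹ * s⁻¹)⁻¹) * r := by group
            _ = ((r * s * r⁻¹ * s⁻¹)⁻¹ * r⁻¹) * r := by rw [hc']
            _ = (r * s * r⁻¹ * s⁻¹)⁻¹ := by group
        rw [this]
        exact Ax.inv_mem (h1 s hs) }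
  have hXsR : Xs ≤ R := fun r hr => hr.1
  have hZX : ∀ c ∈ R, (∀ r ∈ R, r * c = c * r) → c ∈ Xs := by
    intro c hc hcent'
    refine ⟨hc, fun s hs => ?_⟩
    have : ⁅c, s⁆ = 1 := by
      rw [commutatorElement_def, ← hcent' s hs]; group
    rw [this]; exact Ax.one_mem
  have hxX : x ∈ Xs := ⟨hxR, fun s hs => ⟨s, hs, rfl⟩⟩
  have hAX : ∀ a ∈ A, ∀ u ∈ Xs, a * u * a⁻¹ ∈ Xs := by
    intro a ha u hu
    have hnorm : ∀ r, r ∈ R ↔ a * r * a⁻¹ ∈ R := fun r =>
      (Subgroup.mem_normalizer_iff.mp (hAR ha)) r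
    refine ⟨(hnorm u).mp hu.1, fun s hs => ?_⟩
    have hs' : a⁻¹ * s * a ∈ R := by
      rw [hnorm]; simpa [mul_assoc] using hs
    have hmem := hu.2 _ hs'
    have hfix := hcent _ (hAxR _ hmem).1 (hAxR _ hmem).2 a ha
    have : ⁅a * u * a⁻¹, s⁆ = a * ⁅u, a⁻¹ * s * a⁆ * a⁻¹ := by
      rw [commutatorElement_def, commutatorElement_def]; group
    rw [this, hfix]
    exact hmem
  rcases hirr Xs hZX hXsR hAX with h | h
  · exact absurd (fun r hr => h x hxX r hr) hx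
  · -- all commutators lie in A_x, hence x² ∈ A_x
    have hall : ∀ r ∈ R, ∀ s ∈ R, ⁅r, s⁆ ∈ Ax := by
      intro r hr s hs
      have : r ∈ Xs := by rw [h]; exact hr
      exact this.2 s hs
    have hle : commutator ↥R ≤ Ax.comap R.subtype := by
      rw [commutator_def, Subgroup.commutator_le]
      intro a _ b _
      rw [Subgroup.mem_comap]
      simpa using hall a a.2 b b.2
    haveI : Fact (Nat.Prime 2) := ⟨Nat.prime_two⟩
    have hx2 : (⟨x, hxR⟩ : R) ^ 2 ∈ commutator ↥R := by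
      rw [hco, ← hfr]
      exact Cfsg.Agent.helper1.pow_mem_frattini_of_isPGroup hT _
    have := hle hx2
    rw [Subgroup.mem_comap] at this
    obtain ⟨r, hr, hxr⟩ := this
    refine ⟨r, hr, ?_⟩
    have hxr' : x ^ 2 = x * r * x⁻¹ * r⁻¹ := by
      simpa [commutatorElement_def] using hxr
    -- x² = x r x⁻¹ r⁻¹  ⇒  r x r⁻¹ = x⁻¹
    have h1 : x = r * x⁻¹ * r⁻¹ := by
      have : x * x = x * (r * x⁻¹ * r⁻¹) := by
        rw [← pow_two, hxr']; group
      exact mul_left_cancel this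
    calc r * x * r⁻¹ = (r * x⁻¹ * r⁻¹)⁻¹ := by group
      _ = x⁻¹ := by rw [← h1]

end Cfsg.Agent.helper21
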