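import Mathlib
import Cfsg.Agent.Lib_helper21_SylPerm1

set_option autoImplicit false
set_option linter.style.haveILetI false

open Equiv Equiv.Perm

namespace Cfsg.Agent.helper21.SylPerm

universe u
variable {α : Type u}

theorem orbit_image_of_normalizer {Q : Subgroup (Perm α)} {g : Perm α}
    (hg : g ∈ Subgroup.normalizer (Q : Set (Perm α))) (x : α) :
    (fun z => g z) '' MulAction.orbit Q x = MulAction.orbit Q (g x) := by
  ext w
  constructor
  · rintro ⟨z, hz, rfl⟩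
    obtain ⟨s, hs, rfl⟩ := mem_orbit.mp hz
    refine mem_orbit.mpr ⟨g * s * g⁻¹, (Subgroup.mem_set_normalizer_iff.mp hg s).mp hs, ?_⟩
    simp [Perm.mul_apply]
  · intro hw
    obtain ⟨s, hs, rfl⟩ := mem_orbit.mp hw
    refine ⟨(g⁻¹ * s * g) x, mem_orbit.mpr ⟨g⁻¹ * s * g, ?_, rfl⟩, ?_⟩
    · have := (Subgroup.mem_set_normalizer_iff.mp hg (g⁻¹ * s * g)).mpr
      apply this
      have e : g * (g⁻¹ * s * g) * g⁻¹ = s := by group
      rw [e]; exact hs
    · simp [Perm.mul_apply]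

theorem orbit_map_eq [Finite α] {Q : Subgroup (Perm α)} (hS : IsSyl Q) {g : Perm α}
    (hg : g ∈ Subgroup.normalizer (Q : Set (Perm α))) (z : α) :
    MulAction.orbit Q (g z) = MulAction.orbit Q z := by
  apply orbit_eq_of_ncard_eq hS
  rw [← orbit_image_of_normalizer hg z]
  exact Set.ncard_image_of_injective _ g.injective

/-- if `g` maps every point into its own `Q`-orbit then `g` preserves each orbit. -/
theorem mem_stabP_orbit_of_forall {Q : Subgroup (Perm α)} {g : Perm α}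
    (h : ∀ z, MulAction.orbit Q (g z) = MulAction.orbit Q z) (x : α) :
    g ∈ stabP (fun z => z ∈ MulAction.orbit Q x) := by
  intro z
  show g z ∈ MulAction.orbit Q x ↔ z ∈ MulAction.orbit Q x
  constructor
  · intro hz
    have h1 := orbit_eq_of_mem hz
    rw [h z] at h1
    rw [← h1]; exact self_mem_orbit Q z
  · intro hz
    have h1 := orbit_eq_of_mem hz
    rw [← h1, ← h z]; exact self_mem_orbit Q (g z)

theorem mem_stabP_orbit_of_normalizer [Finite α] {Q : Subgroup (Perm α)} (hS : IsSyl Q)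
    {g : Perm α} (hg : g ∈ Subgroup.normalizer (Q : Set (Perm α))) (x : α) :
    g ∈ stabP (fun z => z ∈ MulAction.orbit Q x) :=
  mem_stabP_orbit_of_forall (orbit_map_eq hS hg) x

theorem resP_normalizer [Finite α] {p : α → Prop} {Q : Subgroup (Perm α)} (hQ : Q ≤ stabP p)
    (G₀ : stabP p) (hg : (G₀ : Perm α) ∈ Subgroup.normalizer (Q : Set (Perm α))) :
    resP p G₀ ∈ Subgroup.normalizer ((rP hQ).range : Set (Perm {x // p x})) := by
  apply mem_normalizer_of_conj_mem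
  rintro _ ⟨q, rfl⟩
  have hq' : (G₀ : Perm α) * q * (G₀ : Perm α)⁻¹ ∈ Q :=
    (Subgroup.mem_set_normalizer_iff.mp hg (q : Perm α)).mp q.2
  refine ⟨⟨_, hq'⟩, ?_⟩
  have e : Subgroup.inclusion hQ ⟨_, hq'⟩ = G₀ * Subgroup.inclusion hQ q * G₀⁻¹ :=
    Subtype.ext rfl
  exact (by rw [e, map_mul, map_mul, map_inv] :
    resP p (Subgroup.inclusion hQ ⟨_, hq'⟩) =
      resP p G₀ * resP p (Subgroup.inclusion hQ q) * (resP p G₀)⁻¹)

theorem resN_normalizer [Finite α] {p : α → Prop} {Q : Subgroup (Perm α)} (hQ : Q ≤ stabP p)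
    (G₀ : stabP p) (hg : (G₀ : Perm α) ∈ Subgroup.normalizer (Q : Set (Perm α))) :
    resN p G₀ ∈ Subgroup.normalizer ((rN hQ).range : Set (Perm {x // ¬ p x})) := by
  apply mem_normalizer_of_conj_mem
  rintro _ ⟨q, rfl⟩
  have hq' : (G₀ : Perm α) * q * (G₀ : Perm α)⁻¹ ∈ Q :=
    (Subgroup.mem_set_normalizer_iff.mp hg (q : Perm α)).mp q.2
  refine ⟨⟨_, hq'⟩, ?_⟩
  have e : Subgroup.inclusion hQ ⟨_, hq'⟩ = G₀ * Subgroup.inclusion hQ q * G₀⁻¹ :=
    Subtype.ext rfl
  exact (by rw [e, map_mul, map_mul, map_inv] :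
    resN p (Subgroup.inclusion hQ ⟨_, hq'⟩) =
      resN p G₀ * resN p (Subgroup.inclusion hQ q) * (resN p G₀)⁻¹)

theorem odd_resP {p : α → Prop} (f : stabP p) (h : Odd (orderOf (f : Perm α))) :
    Odd (orderOf (resP p f)) :=
  Odd.of_dvd_nat h ((orderOf_map_dvd (resP p) f).trans (Subgroup.orderOf_coe f).symm.dvd)

theorem odd_resN {p : α → Prop} (f : stabP p) (h : Odd (orderOf (f : Perm α))) :
    Odd (orderOf (resN p f)) :=
  Odd.of_dvd_nat h ((orderOf_map_dvd (resN p) f).trans (Subgroup.orderOf_coe f).symm.dvd)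

theorem mem_stabP_ne {f : Perm α} {ω : α} : f ∈ stabP (fun z => z ≠ ω) ↔ f ω = ω := by
  constructor
  · intro h
    have h1 := mem_stabP.mp h (f⁻¹ ω)
    have e : f (f⁻¹ ω) = ω := by simp
    rw [e] at h1
    have h2 : f⁻¹ ω = ω := by
      by_contra hc
      exact (h1.mpr hc) rfl
    calc f ω = f (f⁻¹ ω) := by rw [h2]
      _ = ω := e
  · intro h z
    show f z ≠ ω ↔ z ≠ ω
    constructor
    · intro h1 h2
      apply h1
      rw [h2, h]
    · intro h1 h2
      apply h1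
      apply f.injective
      rw [h2, h]

/-- the point stabilizer as a subgroup of `Perm α`. -/
def stabPt (K : Subgroup (Perm α)) (ω : α) : Subgroup (Perm α) := K ⊓ stabP (fun z => z ≠ ω)

theorem mem_stabPt {K : Subgroup (Perm α)} {ω : α} {f : Perm α} :
    f ∈ stabPt K ω ↔ f ∈ K ∧ f ω = ω := by
  unfold stabPt
  rw [Subgroup.mem_inf, mem_stabP_ne]

theorem stabPt_le (K : Subgroup (Perm α)) (ω : α) : stabPt K ω ≤ stabP (fun z => z ≠ ω) :=
  inf_le_right

theorem stabPt_le_left (K : Subgroup (Perm α)) (ω : α) : stabPt K ω ≤ K := inf_le_left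

theorem card_stabPt (K : Subgroup (Perm α)) (ω : α) :
    Nat.card (stabPt K ω) = Nat.card (MulAction.stabilizer K ω) :=
  Nat.card_congr
    { toFun := fun f => ⟨⟨f.1, (mem_stabPt.mp f.2).1⟩,
        MulAction.mem_stabilizer_iff.mpr (mem_stabPt.mp f.2).2⟩
      invFun := fun s => ⟨s.1.1, mem_stabPt.mpr ⟨s.1.2, MulAction.mem_stabilizer_iff.mp s.2⟩⟩
      left_inv := fun _ => rfl
      right_inv := fun _ => rfl }

theorem card_eq_of_trans [Finite α] (K : Subgroup (Perm α)) (ω : α)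
    (htr : ∀ y, y ∈ MulAction.orbit K ω) :
    Nat.card K = Nat.card (stabPt K ω) * Nat.card α := by
  have h1 := Subgroup.card_mul_index (MulAction.stabilizer K ω)
  rw [MulAction.index_stabilizer] at h1
  have h2 : MulAction.orbit K ω = Set.univ := Set.eq_univ_of_forall htr
  rw [h2, Set.ncard_univ] at h1
  rw [card_stabPt]
  exact h1.symm

theorem v_one : v 1 = 0 := by unfold v; simp

theorem card_not_ne (ω : α) : Nat.card {z // ¬ z ≠ ω} = 1 := by
  rw [Nat.card_eq_one_iff_unique]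
  exact ⟨⟨fun a b => Subtype.ext ((not_not.mp a.2).trans (not_not.mp b.2).symm)⟩,
    ⟨⟨ω, not_not.mpr rfl⟩⟩⟩

theorem card_ne [Finite α] (ω : α) : Nat.card {z // z ≠ ω} + 1 = Nat.card α := by
  have h : Nat.card {z // z ≠ ω} + Nat.card {z // ¬ z ≠ ω} = Nat.card α :=
    card_add_card_not (fun z : α => z ≠ ω)
  have h1 := card_not_ne ω
  omega

theorem eq_one_of_resP_ne {ω : α} (f : stabP (fun z : α => z ≠ ω)) (h : resP _ f = 1) :
    (f : Perm α) = 1 := by
  apply eq_one_of_res f h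
  refine Equiv.ext (fun z => Subtype.ext ?_)
  show (f : Perm α) z.1 = z.1
  have hz' : z.1 = ω := not_not.mp z.2
  rw [hz']
  exact mem_stabP_ne.mp f.2

theorem stabPt_normalizer [Finite α] {Q : Subgroup (Perm α)} {y : Perm α} {ω : α}
    (hy : y ∈ Subgroup.normalizer (Q : Set (Perm α))) (hyω : y ω = ω) :
    y ∈ Subgroup.normalizer ((stabPt Q ω : Subgroup (Perm α)) : Set (Perm α)) := by
  apply mem_normalizer_of_conj_mem
  intro a ha
  have hyT : y ∈ stabP (fun z => z ≠ ω) := mem_stabP_ne.mpr hyω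
  obtain ⟨ha1, ha2⟩ := Subgroup.mem_inf.mp ha
  exact Subgroup.mem_inf.mpr ⟨(Subgroup.mem_set_normalizer_iff.mp hy a).mp ha1,
    Subgroup.mul_mem _ (Subgroup.mul_mem _ hyT ha2) (Subgroup.inv_mem _ hyT)⟩

theorem rP_stabPt_injective (Q : Subgroup (Perm α)) (ω : α) :
    Function.Injective (rP (stabPt_le Q ω)) := by
  rw [injective_iff_map_eq_one]
  intro s hs
  exact Subtype.ext (eq_one_of_resP_ne (Subgroup.inclusion (stabPt_le Q ω) s) hs)

theorem card_range_rP_stabPt (Q : Subgroup (Perm α)) (ω : α) :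
    Nat.card (rP (stabPt_le Q ω)).range = Nat.card (stabPt Q ω) :=
  Nat.card_congr (MonoidHom.ofInjective (rP_stabPt_injective Q ω)).symm.toEquiv

/-- transitive Sylow: the degree is a power of two and the point stabilizer, restricted to the
remaining points, is again Sylow. -/
theorem isSyl_stabPt_res [Finite α] {Q : Subgroup (Perm α)} (hS : IsSyl Q) (ω : α)
    (htr : ∀ y, y ∈ MulAction.orbit Q ω) :
    (∃ k, Nat.card α = 2 ^ k) ∧ IsSyl (rP (stabPt_le Q ω)).range := by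
  have hc := card_eq_of_trans Q ω htr
  rw [hS.card] at hc
  obtain ⟨k, -, hnk⟩ := (Nat.dvd_prime_pow Nat.prime_two).mp (Dvd.intro_left _ hc.symm)
  have hcn := card_ne ω
  have hv : v (Nat.card α) = k + v (Nat.card {z // z ≠ ω}) := by
    rw [← hcn, v_succ, hcn, hnk, padicValNat.prime_pow]
  rw [hv, pow_add, hnk] at hc
  have hcs : Nat.card (stabPt Q ω) = 2 ^ v (Nat.card {z // z ≠ ω}) := by
    have h2k : 0 < 2 ^ k := by positivity
    apply Nat.eq_of_mul_eq_mul_right h2k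
    rw [← hc, mul_comm]
  refine ⟨⟨k, hnk⟩, isPGroup_range _ (hS.pg.to_le (stabPt_le_left Q ω)), ?_⟩
  rw [card_range_rP_stabPt, hcs]

/-- Theorem A for sets of size `n`. -/
def ThmAFor (n : ℕ) : Prop :=
  ∀ (β : Type u) [Finite β], Nat.card β = n → ∀ (A : Subgroup (Perm β)), IsSyl A →
    ∀ g : Perm β, Odd (orderOf g) → g ∈ Subgroup.normalizer (A : Set (Perm β)) → g = 1

theorem thmA_intrans {n : ℕ} (ih : ∀ m < n, ThmAFor.{u} m) [Finite α]
    (hn : Nat.card α = n) {Q : Subgroup (Perm α)} (hS : IsSyl Q) {g : Perm α}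
    (hodd : Odd (orderOf g)) (hg : g ∈ Subgroup.normalizer (Q : Set (Perm α)))
    {x y : α} (hy : y ∉ MulAction.orbit Q x) : g = 1 := by
  have hQ := le_stabP_orbit Q x
  have hgst := mem_stabP_orbit_of_normalizer hS hg x
  obtain ⟨h1, h2, -⟩ := syl_res hS hQ
  have hc : Nat.card {z // z ∈ MulAction.orbit Q x} + Nat.card {z // ¬ z ∈ MulAction.orbit Q x}
      = Nat.card α := card_add_card_not (fun z => z ∈ MulAction.orbit Q x)
  haveI : Nonempty {z // z ∈ MulAction.orbit Q x} := ⟨⟨x, self_mem_orbit Q x⟩⟩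
  haveI : Nonempty {z // ¬ z ∈ MulAction.orbit Q x} := ⟨⟨y, hy⟩⟩
  have hp1 : 0 < Nat.card {z // z ∈ MulAction.orbit Q x} := Nat.card_pos
  have hp2 : 0 < Nat.card {z // ¬ z ∈ MulAction.orbit Q x} := Nat.card_pos
  have hl1 : Nat.card {z // z ∈ MulAction.orbit Q x} < n := by omega
  have hl2 : Nat.card {z // ¬ z ∈ MulAction.orbit Q x} < n := by omega
  have e1 := ih _ hl1 _ rfl _ h1 _ (odd_resP ⟨g, hgst⟩ hodd) (resP_normalizer hQ ⟨g, hgst⟩ hg)
  have e2 := ih _ hl2 _ rfl _ h2 _ (odd_resN ⟨g, hgst⟩ hodd) (resN_normalizer hQ ⟨g, hgst⟩ hg)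
  exact eq_one_of_res ⟨g, hgst⟩ e1 e2

theorem thmA_trans {n : ℕ} (ih : ∀ m < n, ThmAFor.{u} m) [Finite α]
    (hn : Nat.card α = n) {Q : Subgroup (Perm α)} (hS : IsSyl Q) {g : Perm α}
    (hodd : Odd (orderOf g)) (hg : g ∈ Subgroup.normalizer (Q : Set (Perm α)))
    (htr : ∀ x y : α, y ∈ MulAction.orbit Q x) : g = 1 := by
  by_contra hne
  obtain ⟨ω, -⟩ : ∃ ω, g ω ≠ ω := by
    by_contra h
    push Not at h
    exact hne (Equiv.ext h)
  have ho1 : orderOf g ≠ 1 := fun h => hne (orderOf_eq_one_iff.mp h)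
  obtain ⟨q, hq, hqd⟩ := Nat.exists_prime_and_dvd ho1
  have hqodd : Odd q := Odd.of_dvd_nat hodd hqd
  have hq2 : q ≠ 2 := by
    rintro rfl
    exact absurd hqodd (by decide)
  obtain ⟨⟨k, hnk⟩, hA⟩ := isSyl_stabPt_res hS ω (htr ω)
  let K : Subgroup (Perm α) := Q ⊔ Subgroup.zpowers g
  have hKN : K ≤ Subgroup.normalizer (Q : Set (Perm α)) :=
    sup_le Subgroup.le_normalizer ((Subgroup.zpowers_le).mpr hg)
  have hgK : g ∈ K := (le_sup_right : Subgroup.zpowers g ≤ K) (Subgroup.mem_zpowers g)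
  have hKtr : ∀ y, y ∈ MulAction.orbit K ω := by
    intro y
    obtain ⟨s, hs, hsy⟩ := mem_orbit.mp (htr ω y)
    exact mem_orbit.mpr ⟨s, (le_sup_left : Q ≤ K) hs, hsy⟩
  have hcK := card_eq_of_trans K ω hKtr
  have hqK : q ∣ Nat.card K := by
    have := orderOf_dvd_natCard (⟨g, hgK⟩ : K)
    rw [Subgroup.orderOf_mk] at this
    exact hqd.trans this
  rw [hcK, hnk] at hqK
  have hqst : q ∣ Nat.card (stabPt K ω) := by
    rcases (Nat.Prime.dvd_mul hq).mp hqK with h | h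
    · exact h
    · exact absurd ((Nat.prime_dvd_prime_iff_eq hq Nat.prime_two).mp (hq.dvd_of_dvd_pow h)) hq2
  haveI : Fact q.Prime := ⟨hq⟩
  obtain ⟨y', hy'⟩ := exists_prime_orderOf_dvd_card' q hqst
  have hyK : (y' : Perm α) ∈ K := (mem_stabPt.mp y'.2).1
  have hyω : (y' : Perm α) ω = ω := (mem_stabPt.mp y'.2).2
  have hyo : orderOf (y' : Perm α) = q := by rw [Subgroup.orderOf_coe, hy']
  have hyodd : Odd (orderOf (y' : Perm α)) := by rw [hyo]; exact hqodd
  have hyN := hKN hyK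
  have hyst : (y' : Perm α) ∈ stabP (fun z => z ≠ ω) := mem_stabP_ne.mpr hyω
  have hcn := card_ne ω
  have hlt : Nat.card {z // z ≠ ω} < n := by omega
  have hyN' := stabPt_normalizer hyN hyω
  have e1 := ih _ hlt _ rfl _ hA _ (odd_resP ⟨_, hyst⟩ hyodd)
    (resP_normalizer (stabPt_le Q ω) ⟨_, hyst⟩ hyN')
  have e2 : (y' : Perm α) = 1 := eq_one_of_resP_ne ⟨_, hyst⟩ e1
  rw [e2, orderOf_one] at hyo
  exact hq.one_lt.ne hyo

theorem thmA_aux : ∀ n : ℕ, ThmAFor.{u} n := by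
  intro n
  induction n using Nat.strong_induction_on with
  | _ n ih =>
    intro α _ hn Q hS g hodd hg
    by_cases htr : ∀ x y : α, y ∈ MulAction.orbit Q x
    · exact thmA_trans ih hn hS hodd hg htr
    · push Not at htr
      obtain ⟨x, y, hy⟩ := htr
      exact thmA_intrans ih hn hS hodd hg hy

theorem thmA : ThmAStmt.{u} := fun α _ Q hS g hodd hg => thmA_aux _ α rfl Q hS g hodd hg

end Cfsg.Agent.helper21.SylPerm
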