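import Mathlib
import Cfsg.Agent.Lib_helper21_SylPerm2

set_option autoImplicit false
set_option linter.style.haveILetI false

open Equiv Equiv.Perm

namespace Cfsg.Agent.helper21.SylPerm

universe u
variable {α : Type u}

theorem range_rP_stabPt_eq {Q : Subgroup (Perm α)} {ω : α} (hQ : Q ≤ stabP (fun z => z ≠ ω)) :
    (rP (stabPt_le Q ω)).range = (rP hQ).range := by
  ext a
  constructor
  · rintro ⟨s, rfl⟩
    exact ⟨⟨s.1, stabPt_le_left Q ω s.2⟩, rfl⟩
  · rintro ⟨s, rfl⟩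
    exact ⟨⟨s.1, Subgroup.mem_inf.mpr ⟨s.2, hQ s.2⟩⟩, rfl⟩

theorem sgn_rP_stabPt [Finite α] (Q : Subgroup (Perm α)) (ω : α) (s : stabPt Q ω) :
    sgn {z // z ≠ ω} (rP (stabPt_le Q ω) s) = sgn α (s : Perm α) :=
  sgn_resP (Subgroup.inclusion (stabPt_le Q ω) s) (fun x hx => by
    have hx' : x = ω := not_not.mp hx
    rw [hx']
    exact (mem_stabPt.mp s.2).2)

theorem range_inf_Alt [Finite α] (T : Subgroup (Perm α)) (ω : α) :
    (rP (stabPt_le (T ⊓ Alt α) ω)).range =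
      (rP (stabPt_le T ω)).range ⊓ Alt {z // z ≠ ω} := by
  ext a
  constructor
  · rintro ⟨f, rfl⟩
    obtain ⟨hf1, hfω⟩ := mem_stabPt.mp f.2
    obtain ⟨hfT, hfA⟩ := Subgroup.mem_inf.mp hf1
    refine Subgroup.mem_inf.mpr ⟨⟨⟨f.1, mem_stabPt.mpr ⟨hfT, hfω⟩⟩, rfl⟩, mem_Alt.mpr ?_⟩
    rw [sgn_rP_stabPt]
    exact mem_Alt.mp hfA
  · intro ha
    obtain ⟨⟨s, rfl⟩, hsA⟩ := Subgroup.mem_inf.mp ha
    obtain ⟨hsT, hsω⟩ := mem_stabPt.mp s.2
    have hs1 : sgn α (s : Perm α) = 1 := by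
      rw [← sgn_rP_stabPt T ω s]; exact mem_Alt.mp hsA
    exact ⟨⟨s.1, mem_stabPt.mpr ⟨Subgroup.mem_inf.mpr ⟨hsT, mem_Alt.mpr hs1⟩, hsω⟩⟩, rfl⟩

/-- B-star for sets of size `n`. -/
def BStarFor (n : ℕ) : Prop :=
  ∀ (β : Type u) [Finite β], Nat.card β = n → 6 ≤ n → ∀ (S : Subgroup (Perm β)), IsSyl S →
    ∀ g : Perm β, Odd (orderOf g) →
      g ∈ Subgroup.normalizer ((S ⊓ Alt β : Subgroup (Perm β)) : Set (Perm β)) → g = 1

theorem descent {n : ℕ} (ih : ∀ m < n, BStarFor.{u} m) [Finite α] (hn : Nat.card α = n)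
    {S : Subgroup (Perm α)} {ω : α} (hS' : IsSyl (rP (stabPt_le S ω)).range) (h7 : 7 ≤ n)
    {y : Perm α} (hodd : Odd (orderOf y))
    (hy : y ∈ Subgroup.normalizer ((S ⊓ Alt α : Subgroup (Perm α)) : Set (Perm α)))
    (hyω : y ω = ω) : y = 1 := by
  have hyst : y ∈ stabP (fun z => z ≠ ω) := mem_stabP_ne.mpr hyω
  have hcn := card_ne ω
  have hlt : Nat.card {z // z ≠ ω} < n := by omega
  have h6 : 6 ≤ Nat.card {z // z ≠ ω} := by omega
  have hyN := resP_normalizer (stabPt_le (S ⊓ Alt α) ω) ⟨y, hyst⟩ (stabPt_normalizer hy hyω)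
  rw [range_inf_Alt] at hyN
  have e1 := ih _ hlt _ rfl h6 _ hS' _ (odd_resP ⟨y, hyst⟩ hodd) hyN
  exact eq_one_of_resP_ne ⟨y, hyst⟩ e1

theorem bStar_trans {n : ℕ} (ih : ∀ m < n, BStarFor.{u} m) [Finite α] (hn : Nat.card α = n)
    (h6 : 6 ≤ n) {S : Subgroup (Perm α)} (hS : IsSyl S) {g : Perm α} (hodd : Odd (orderOf g))
    (hg : g ∈ Subgroup.normalizer ((S ⊓ Alt α : Subgroup (Perm α)) : Set (Perm α)))
    (htr : ∀ x y : α, y ∈ MulAction.orbit S x) : g = 1 := by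
  by_contra hne
  obtain ⟨ω, -⟩ : ∃ ω, g ω ≠ ω := by
    by_contra h
    push Not at h
    exact hne (Equiv.ext h)
  have ho1 : orderOf g ≠ 1 := fun h => hne (orderOf_eq_one_iff.mp h)
  obtain ⟨q, hq, hqd⟩ := Nat.exists_prime_and_dvd ho1
  have hqodd : Odd q := Odd.of_dvd_nat hodd hqd
  have hq2 : q ≠ 2 := by
    rintro rfl
    exact absurd hqodd (by decide)
  obtain ⟨⟨k, hnk⟩, hA⟩ := isSyl_stabPt_res hS ω (htr ω)
  have h7 : 7 ≤ n := by
    rcases Nat.lt_or_ge k 3 with hk | hk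
    · interval_cases k <;> norm_num at hnk <;> omega
    · have : 2 ^ 3 ≤ 2 ^ k := Nat.pow_le_pow_right (by norm_num) hk
      omega
  have hcn := card_ne ω
  obtain ⟨a, ⟨t, rfl⟩, hta⟩ := exists_odd_of_isSyl hA (by omega)
  have htS : (t : Perm α) ∈ S := stabPt_le_left S ω t.2
  have htω : (t : Perm α) ω = ω := (mem_stabPt.mp t.2).2
  have hts : sgn α (t : Perm α) = -1 := by rw [← sgn_rP_stabPt S ω t]; exact hta
  have hPtr : ∀ y, y ∈ MulAction.orbit (S ⊓ Alt α : Subgroup (Perm α)) ω := by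
    intro y
    obtain ⟨s, hs, hsy⟩ := mem_orbit.mp (htr ω y)
    rcases sgn_cases s with h | h
    · exact mem_orbit.mpr ⟨s, Subgroup.mem_inf.mpr ⟨hs, mem_Alt.mpr h⟩, hsy⟩
    · refine mem_orbit.mpr ⟨s * t, Subgroup.mem_inf.mpr ⟨S.mul_mem hs htS, mem_Alt.mpr ?_⟩, ?_⟩
      · simp [map_mul, h, hts]
      · rw [Perm.mul_apply, htω, hsy]
  let K : Subgroup (Perm α) := (S ⊓ Alt α) ⊔ Subgroup.zpowers g
  have hKN : K ≤ Subgroup.normalizer ((S ⊓ Alt α : Subgroup (Perm α)) : Set (Perm α)) :=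
    sup_le Subgroup.le_normalizer ((Subgroup.zpowers_le).mpr hg)
  have hgK : g ∈ K := (le_sup_right : Subgroup.zpowers g ≤ K) (Subgroup.mem_zpowers g)
  have hKtr : ∀ y, y ∈ MulAction.orbit K ω := by
    intro y
    obtain ⟨s, hs, hsy⟩ := mem_orbit.mp (hPtr y)
    exact mem_orbit.mpr ⟨s, (le_sup_left : S ⊓ Alt α ≤ K) hs, hsy⟩
  have hcK := card_eq_of_trans K ω hKtr
  have hqK : q ∣ Nat.card K := by
    have := orderOf_dvd_natCard (⟨g, hgK⟩ : K)
    rw [Subgroup.orderOf_mk] at this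
    exact hqd.trans this
  rw [hcK, hnk] at hqK
  have hqst : q ∣ Nat.card (stabPt K ω) := by
    rcases (Nat.Prime.dvd_mul hq).mp hqK with h | h
    · exact h
    · exact absurd ((Nat.prime_dvd_prime_iff_eq hq Nat.prime_two).mp (hq.dvd_of_dvd_pow h)) hq2
  haveI : Fact q.Prime := ⟨hq⟩
  obtain ⟨y', hy'⟩ := exists_prime_orderOf_dvd_card' q hqst
  have hyK : (y' : Perm α) ∈ K := (mem_stabPt.mp y'.2).1
  have hyω : (y' : Perm α) ω = ω := (mem_stabPt.mp y'.2).2
  have hyo : orderOf (y' : Perm α) = q := by rw [Subgroup.orderOf_coe, hy']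
  have hyodd : Odd (orderOf (y' : Perm α)) := by rw [hyo]; exact hqodd
  have e2 : (y' : Perm α) = 1 := descent ih hn hA h7 hyodd (hKN hyK) hyω
  rw [e2, orderOf_one] at hyo
  exact hq.one_lt.ne hyo

theorem bStar_fix {n : ℕ} (ih : ∀ m < n, BStarFor.{u} m) [Finite α] (hn : Nat.card α = n)
    (h6 : 6 ≤ n) {S : Subgroup (Perm α)} (hS : IsSyl S) {g : Perm α} (hodd : Odd (orderOf g))
    (hg : g ∈ Subgroup.normalizer ((S ⊓ Alt α : Subgroup (Perm α)) : Set (Perm α)))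
    (hnot : ∀ x₁ x₂ : α, MulAction.orbit S x₁ ≠ MulAction.orbit S x₂ →
      2 ≤ (MulAction.orbit S x₁).ncard → 2 ≤ (MulAction.orbit S x₂).ncard → False)
    {ω : α} (hω : ∀ s ∈ S, s ω = ω) : g = 1 := by
  have hSle : S ≤ stabP (fun z => z ≠ ω) := fun s hs => mem_stabP_ne.mpr (hω s hs)
  obtain ⟨hS1, -, hv⟩ := syl_res hS hSle
  have hcn := card_ne ω
  have h7 : 7 ≤ n := by
    rw [card_not_ne, v_one, add_zero, ← hcn, v_succ, hcn] at hv
    by_contra hlt
    have h6' : Nat.card α = 6 := by omega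
    have := one_le_padicValNat_of_dvd (p := 2) (n := Nat.card α) (by omega)
      (by rw [h6']; norm_num)
    omega
  have horbω : (MulAction.orbit S ω).ncard = 1 := by
    rw [Set.ncard_eq_one]
    refine ⟨ω, Set.eq_singleton_iff_unique_mem.mpr ⟨self_mem_orbit S ω, ?_⟩⟩
    intro z hz
    obtain ⟨s, hs, rfl⟩ := mem_orbit.mp hz
    exact hω s hs
  have hbig : ∀ z, z ≠ ω → 2 ≤ (MulAction.orbit S z).ncard := by
    intro z hz
    by_contra hlt
    have hpos : (MulAction.orbit S z).ncard ≠ 0 :=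
      Set.ncard_ne_zero_of_mem (self_mem_orbit S z) (Set.toFinite _)
    have h1 : (MulAction.orbit S z).ncard = (MulAction.orbit S ω).ncard := by omega
    have h2 := orbit_eq_of_ncard_eq hS h1
    have h3 : z ∈ MulAction.orbit S ω := by rw [← h2]; exact self_mem_orbit S z
    obtain ⟨s, hs, rfl⟩ := mem_orbit.mp h3
    exact hz (hω s hs)
  have hfixP : ∀ x : α, (∀ a ∈ S ⊓ Alt α, a x = x) → x = ω := by
    intro x hx
    by_contra hxω
    obtain ⟨s₀, hs₀S, hs₀⟩ := exists_odd_of_isSyl hS (by omega)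
    have hall : ∀ z : α, z ∈ ({ω, x, s₀ x} : Set α) := by
      intro z
      simp only [Set.mem_insert_iff, Set.mem_singleton_iff]
      by_cases hz : z = ω
      · exact Or.inl hz
      · have horb : MulAction.orbit S z = MulAction.orbit S x := by
          by_contra hne
          exact hnot z x hne (hbig z hz) (hbig x hxω)
        have hzx : z ∈ MulAction.orbit S x := by rw [← horb]; exact self_mem_orbit S z
        obtain ⟨s, hs, rfl⟩ := mem_orbit.mp hzx
        rcases sgn_cases s with h | h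
        · right; left
          exact hx s (Subgroup.mem_inf.mpr ⟨hs, mem_Alt.mpr h⟩)
        · right; right
          have hmem : s₀⁻¹ * s ∈ S ⊓ Alt α :=
            Subgroup.mem_inf.mpr ⟨S.mul_mem (S.inv_mem hs₀S) hs,
              mem_Alt.mpr (by simp [map_mul, map_inv, hs₀, h])⟩
          have := hx _ hmem
          rw [Perm.mul_apply] at this
          exact Perm.inv_eq_iff_eq.mp this
    have h3 : (Set.univ : Set α).ncard ≤ 3 := by
      calc (Set.univ : Set α).ncard ≤ ({ω, x, s₀ x} : Set α).ncard :=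
            Set.ncard_le_ncard (fun z _ => hall z) (Set.toFinite _)
        _ ≤ ({x, s₀ x} : Set α).ncard + 1 := Set.ncard_insert_le _ _
        _ ≤ (({s₀ x} : Set α).ncard + 1) + 1 :=
            Nat.add_le_add_right (Set.ncard_insert_le _ _) 1
        _ = 3 := by rw [Set.ncard_singleton]
    rw [Set.ncard_univ] at h3
    omega
  have hgω : g ω = ω := by
    apply hfixP
    intro a ha
    have h1 : g⁻¹ * a * g ∈ S ⊓ Alt α := (Subgroup.mem_set_normalizer_iff''.mp hg a).mp ha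
    have h2 := hω _ (Subgroup.mem_inf.mp h1).1
    rw [Perm.mul_apply, Perm.mul_apply] at h2
    exact Perm.inv_eq_iff_eq.mp h2
  have hS' : IsSyl (rP (stabPt_le S ω)).range := by
    rw [range_rP_stabPt_eq hSle]; exact hS1
  exact descent ih hn hS' h7 hodd hg hgω

theorem bStar_aux (hB1 : BOneStmt.{u}) : ∀ n : ℕ, BStarFor.{u} n := by
  intro n
  induction n using Nat.strong_induction_on with
  | _ n ih =>
    intro α _ hn h6 S hS g hodd hg
    by_cases h1 : ∃ x₁ x₂ : α, MulAction.orbit S x₁ ≠ MulAction.orbit S x₂ ∧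
        2 ≤ (MulAction.orbit S x₁).ncard ∧ 2 ≤ (MulAction.orbit S x₂).ncard
    · obtain ⟨x₁, x₂, hne, ha, hb⟩ := h1
      exact hB1 α S hS x₁ x₂ hne ha hb g hodd hg
    · have hnot : ∀ x₁ x₂ : α, MulAction.orbit S x₁ ≠ MulAction.orbit S x₂ →
          2 ≤ (MulAction.orbit S x₁).ncard → 2 ≤ (MulAction.orbit S x₂).ncard → False :=
        fun x₁ x₂ a b c => h1 ⟨x₁, x₂, a, b, c⟩
      by_cases h2 : ∃ ω : α, ∀ s ∈ S, s ω = ω
      · obtain ⟨ω, hω⟩ := h2
        exact bStar_fix ih hn h6 hS hodd hg hnot hω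
      · push Not at h2
        apply bStar_trans ih hn h6 hS hodd hg
        have hx2 : ∀ z : α, 2 ≤ (MulAction.orbit S z).ncard := by
          intro z
          obtain ⟨s, hs, hsz⟩ := h2 z
          have : 1 < (MulAction.orbit S z).ncard := by
            rw [Set.one_lt_ncard_iff (Set.toFinite _)]
            exact ⟨s z, z, mem_orbit.mpr ⟨s, hs, rfl⟩, self_mem_orbit S z, hsz⟩
          omega
        intro x y
        by_contra hy
        exact hnot y x (fun h => hy (by rw [← h]; exact self_mem_orbit S y)) (hx2 y) (hx2 x)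

theorem bStar (hB1 : BOneStmt.{u}) : BStarStmt.{u} :=
  fun α _ h6 S hS g hodd hg => bStar_aux hB1 _ α rfl h6 S hS g hodd hg

end Cfsg.Agent.helper21.SylPerm
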