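import Mathlib
import Cfsg.Agent.Lib_helper21_SylPerm3

set_option autoImplicit false
set_option linter.style.haveILetI false

open Equiv Equiv.Perm

namespace Cfsg.Agent.helper21.SylPerm

universe u

theorem bOne' : BOneStmt.{u} := by
  intro α _ S hS x₁ x₂ hne h1 h2 g hodd hg
  have hb : ∀ x : α, ∃ b ∈ S, (∀ z ∈ MulAction.orbit S x, b z = z) ∧ sgn α b = -1 := by
    intro x
    have key : ∀ xi : α, MulAction.orbit S xi ≠ MulAction.orbit S x →
        2 ≤ (MulAction.orbit S xi).ncard →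
        ∃ b ∈ S, (∀ z ∈ MulAction.orbit S x, b z = z) ∧ sgn α b = -1 := by
      intro xi hnei hci
      have hc : 2 ≤ Nat.card {y // y ∈ MulAction.orbit S xi} := by
        have e : Nat.card {y // y ∈ MulAction.orbit S xi} = (MulAction.orbit S xi).ncard :=
          Nat.card_coe_set_eq _
        rw [e]; exact hci
      obtain ⟨b, hbS, hbfix, hbs⟩ := exists_odd_supported hS (le_stabP_orbit S xi) hc
      refine ⟨b, hbS, ?_, hbs⟩
      intro z hz
      apply hbfix
      intro hzi
      exact hnei ((orbit_eq_of_mem hzi).symm.trans (orbit_eq_of_mem hz))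
    by_cases h : MulAction.orbit S x₁ = MulAction.orbit S x
    · exact key x₂ (fun h' => hne (h.trans h'.symm)) h2
    · exact key x₁ h h1
  have horb : ∀ x : α,
      MulAction.orbit (S ⊓ Alt α : Subgroup (Perm α)) x = MulAction.orbit S x := by
    intro x
    ext y
    rw [mem_orbit, mem_orbit]
    constructor
    · rintro ⟨s, hs, rfl⟩
      exact ⟨s, (Subgroup.mem_inf.mp hs).1, rfl⟩
    · rintro ⟨s, hs, rfl⟩
      rcases sgn_cases s with h | h
      · exact ⟨s, Subgroup.mem_inf.mpr ⟨hs, mem_Alt.mpr h⟩, rfl⟩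
      · obtain ⟨b, hbS, hbfix, hbs⟩ := hb x
        refine ⟨s * b, Subgroup.mem_inf.mpr ⟨S.mul_mem hs hbS,
          mem_Alt.mpr (by simp [map_mul, h, hbs])⟩, ?_⟩
        rw [Perm.mul_apply, hbfix x (self_mem_orbit S x)]
  have hgo : ∀ z, MulAction.orbit S (g z) = MulAction.orbit S z := by
    intro z
    apply orbit_eq_of_ncard_eq hS
    rw [← horb (g z), ← horb z, ← orbit_image_of_normalizer hg z]
    exact Set.ncard_image_of_injective _ g.injective
  apply Equiv.ext
  intro x
  show g x = x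
  have hQ := le_stabP_orbit S x
  have hgst := mem_stabP_orbit_of_forall hgo x
  have hPle : (S ⊓ Alt α : Subgroup (Perm α)) ≤ stabP (fun z => z ∈ MulAction.orbit S x) :=
    inf_le_left.trans hQ
  have hN := resP_normalizer hPle ⟨g, hgst⟩ hg
  have hrange : (rP hPle).range = (rP hQ).range := by
    ext a
    constructor
    · rintro ⟨s, rfl⟩
      exact ⟨⟨s.1, (Subgroup.mem_inf.mp s.2).1⟩, rfl⟩
    · rintro ⟨s, rfl⟩
      rcases sgn_cases (s : Perm α) with h | h
      · exact ⟨⟨s.1, Subgroup.mem_inf.mpr ⟨s.2, mem_Alt.mpr h⟩⟩, rfl⟩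
      · obtain ⟨b, hbS, hbfix, hbs⟩ := hb x
        refine ⟨⟨s.1 * b, Subgroup.mem_inf.mpr ⟨S.mul_mem s.2 hbS,
          mem_Alt.mpr (by simp [map_mul, h, hbs])⟩⟩, ?_⟩
        refine Equiv.ext (fun z => Subtype.ext ?_)
        show (s.1 * b) z.1 = s.1 z.1
        rw [Perm.mul_apply, hbfix z.1 z.2]
  rw [hrange] at hN
  have e1 := thmA _ _ (syl_res hS hQ).1 _ (odd_resP ⟨g, hgst⟩ hodd) hN
  have := congrArg (fun e : Perm {z // z ∈ MulAction.orbit S x} =>
    ((e ⟨x, self_mem_orbit S x⟩ : {z // z ∈ MulAction.orbit S x}) : α)) e1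
  simpa using this

theorem bStar' : BStarStmt.{u} := bStar bOne'

end Cfsg.Agent.helper21.SylPerm
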