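import Mathlib
import Cfsg.Agent.Lib_helper21_SylPerm2
import Cfsg.Agent.Lib_helper9_NilA

set_option autoImplicit false
set_option linter.style.haveILetI false

/-! Tools for the uniqueness of the Sylow `2`-subgroup of a symmetric group containing a given
`2`-element: self-normalization, determination by restrictions, and `Good` permutations. -/

namespace Cfsg.Agent.helper21.USyl

open Equiv Cfsg.Agent.helper21.SylPerm

universe u
variable {α : Type u}

theorem v_two_pow (b : ℕ) : v (2 ^ b) + 1 = 2 ^ b := by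
  induction b with
  | zero => simp [v_one]
  | succ b ih => rw [pow_succ', v_two_mul]; omega

theorem isPGroup_zpowers {G : Type*} [Group G] (g : G) (k : ℕ) (hk : g ^ (2 ^ k) = 1) :
    IsPGroup 2 (Subgroup.zpowers g) := by
  obtain ⟨j, -, hj⟩ := (Nat.dvd_prime_pow Nat.prime_two).mp (orderOf_dvd_of_pow_eq_one hk)
  exact IsPGroup.of_card (n := j) (by rw [Nat.card_zpowers, hj])

/-- Sylow `2`-subgroups of symmetric groups are self-normalizing. -/
theorem mem_of_mem_normalizer [Finite α] {Q : Subgroup (Perm α)} (hS : IsSyl Q) {g : Perm α}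
    (hg : g ∈ Subgroup.normalizer (Q : Set (Perm α))) : g ∈ Q := by
  obtain ⟨a, b, hab, -, ⟨k, hak⟩, hb2, -, hb⟩ :=
    Cfsg.Agent.helper9.Nil.exists_p_decomp 2 Nat.prime_two g
  have hbN : b ∈ Subgroup.normalizer (Q : Set (Perm α)) := (Subgroup.zpowers_le.mpr hg) hb
  have hbodd : Odd (orderOf b) := Nat.odd_iff.mpr (by omega)
  have hb1 : b = 1 := thmA α Q hS b hbodd hbN
  have hga : g = a := by rw [hab, hb1, mul_one]
  have hgk : g ^ (2 ^ k) = 1 := by rw [hga]; exact hak
  have hK : IsPGroup 2 (Subgroup.zpowers g ⊔ Q : Subgroup (Perm α)) :=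
    IsPGroup.to_sup_of_normal_right' (isPGroup_zpowers g k hgk) hS.pg (Subgroup.zpowers_le.mpr hg)
  obtain ⟨e, he, hc⟩ := card_le_of_isPGroup _ hK
  have hle : Q ≤ Subgroup.zpowers g ⊔ Q := le_sup_right
  have hcard : Nat.card (Subgroup.zpowers g ⊔ Q : Subgroup (Perm α)) ≤ Nat.card Q := by
    rw [hc, hS.card]; exact Nat.pow_le_pow_right (by norm_num) he
  have heq := Subgroup.eq_of_le_of_card_ge hle hcard
  rw [heq]
  exact (le_sup_left : Subgroup.zpowers g ≤ _) (Subgroup.mem_zpowers g)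

/-- an element of `stabP p` whose restrictions lie in the restrictions of `Q'` lies in `Q'`, when
`Q'` is the full product of its restrictions. -/
theorem mem_of_res [Finite α] {p : α → Prop} {Q' : Subgroup (Perm α)} (hQ' : Q' ≤ stabP p)
    (hc : Nat.card (rP hQ').range * Nat.card (rN hQ').range ≤ Nat.card Q') (h : stabP p)
    (h1 : resP p h ∈ (rP hQ').range) (h2 : resN p h ∈ (rN hQ').range) : (h : Perm α) ∈ Q' := by
  let f : Q' → (rP hQ').range × (rN hQ').range :=
    fun q => ((rP hQ').rangeRestrict q, (rN hQ').rangeRestrict q)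
  have hinj : Function.Injective f := by
    intro q q' hqq
    have h1 : rP hQ' q = rP hQ' q' := congrArg Subtype.val (Prod.mk.inj hqq).1
    have h2 : rN hQ' q = rN hQ' q' := congrArg Subtype.val (Prod.mk.inj hqq).2
    have e1 : rP hQ' (q * q'⁻¹) = 1 := by rw [map_mul, map_inv, h1, mul_inv_cancel]
    have e2 : rN hQ' (q * q'⁻¹) = 1 := by rw [map_mul, map_inv, h2, mul_inv_cancel]
    exact mul_inv_eq_one.mp (eq_one_of_r hQ' _ e1 e2)
  have hbij := hinj.bijective_of_nat_card_le (by rw [Nat.card_prod]; exact hc)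
  obtain ⟨q', hq'⟩ := hbij.2 (⟨resP p h, h1⟩, ⟨resN p h, h2⟩)
  have e1 : rP hQ' q' = resP p h := by
    have h0 := congrArg (fun z : (rP hQ').range × (rN hQ').range =>
      ((z.1 : (rP hQ').range) : Perm {x // p x})) hq'
    exact h0
  have e2 : rN hQ' q' = resN p h := by
    have h0 := congrArg (fun z : (rP hQ').range × (rN hQ').range =>
      ((z.2 : (rN hQ').range) : Perm {x // ¬ p x})) hq'
    exact h0
  have heq : (q' : Perm α) = (h : Perm α) := by
    ext z
    by_cases hz : p z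
    · have h0 := congrArg (fun e : Perm {x // p x} => ((e ⟨z, hz⟩ : {x // p x}) : α)) e1
      simpa using h0
    · have h0 := congrArg (fun e : Perm {x // ¬ p x} => ((e ⟨z, hz⟩ : {x // ¬ p x}) : α)) e2
      simpa using h0
  rw [← heq]
  exact q'.2

theorem le_of_res [Finite α] {p : α → Prop} {Q Q' : Subgroup (Perm α)} (hQ : Q ≤ stabP p)
    (hQ' : Q' ≤ stabP p) (hA : (rP hQ).range ≤ (rP hQ').range)
    (hB : (rN hQ).range ≤ (rN hQ').range)
    (hc : Nat.card (rP hQ').range * Nat.card (rN hQ').range ≤ Nat.card Q') : Q ≤ Q' := by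
  intro q hq
  exact mem_of_res hQ' hc (Subgroup.inclusion hQ ⟨q, hq⟩) (hA ⟨⟨q, hq⟩, rfl⟩) (hB ⟨⟨q, hq⟩, rfl⟩)

theorem syl_res' [Finite α] {p : α → Prop} {Q : Subgroup (Perm α)} (hpg : IsPGroup 2 Q)
    (hQ : Q ≤ stabP p)
    (hcard : Nat.card Q = 2 ^ (v (Nat.card {x // p x}) + v (Nat.card {x // ¬ p x}))) :
    IsSyl (rP hQ).range ∧ IsSyl (rN hQ).range ∧
      Nat.card (rP hQ).range * Nat.card (rN hQ).range = Nat.card Q := by
  have hA := isPGroup_range (rP hQ) hpg
  have hB := isPGroup_range (rN hQ) hpg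
  obtain ⟨e1, he1, hc1⟩ := card_le_of_isPGroup _ hA
  obtain ⟨e2, he2, hc2⟩ := card_le_of_isPGroup _ hB
  have hle := card_le_mul hQ
  rw [hcard, hc1, hc2, ← pow_add] at hle
  have h1 : v (Nat.card {x // p x}) + v (Nat.card {x // ¬ p x}) ≤ e1 + e2 :=
    (Nat.pow_le_pow_iff_right (by norm_num)).mp hle
  have e1eq : e1 = v (Nat.card {x // p x}) := by omega
  have e2eq : e2 = v (Nat.card {x // ¬ p x}) := by omega
  refine ⟨⟨hA, by rw [hc1, e1eq]⟩, ⟨hB, by rw [hc2, e2eq]⟩, ?_⟩
  rw [hc1, hc2, hcard, e1eq, e2eq, pow_add]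

theorem syl_res'' [Finite α] {p : α → Prop} {Q : Subgroup (Perm α)} (hS : IsSyl Q)
    (hQ : Q ≤ stabP p) :
    IsSyl (rP hQ).range ∧ IsSyl (rN hQ).range ∧
      Nat.card (rP hQ).range * Nat.card (rN hQ).range = Nat.card Q := by
  obtain ⟨-, -, hv⟩ := syl_res hS hQ
  exact syl_res' hS.pg hQ (by rw [hS.card, hv])

/-! ### orbits of a single permutation -/

/-- orbit of the cyclic group generated by `x`. -/
abbrev orb (x : Perm α) (u : α) : Set α := MulAction.orbit (Subgroup.zpowers x) u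

theorem mem_orb_iff [Finite α] {x : Perm α} {u w : α} :
    w ∈ orb x u ↔ ∃ i : ℕ, (x ^ i) u = w := by
  show w ∈ MulAction.orbit (Subgroup.zpowers x) u ↔ _
  rw [SylPerm.mem_orbit]
  constructor
  · rintro ⟨q, hq, rfl⟩
    rw [← mem_powers_iff_mem_zpowers, Submonoid.mem_powers_iff] at hq
    obtain ⟨i, rfl⟩ := hq
    exact ⟨i, rfl⟩
  · rintro ⟨i, rfl⟩
    exact ⟨x ^ i, Subgroup.pow_mem _ (Subgroup.mem_zpowers x) i, rfl⟩

theorem self_mem_orb (x : Perm α) (u : α) : u ∈ orb x u := self_mem_orbit _ u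

theorem orb_eq_of_mem {x : Perm α} {u w : α} (h : w ∈ orb x u) : orb x w = orb x u :=
  orbit_eq_of_mem h

theorem apply_mem_orb [Finite α] (x : Perm α) (u : α) : x u ∈ orb x u :=
  mem_orb_iff.mpr ⟨1, by simp⟩

theorem pow_apply_eq_self {x : Perm α} {u : α} (h : x u = u) (i : ℕ) : (x ^ i) u = u := by
  induction i with
  | zero => simp
  | succ i ih => rw [pow_succ, Perm.mul_apply, h, ih]

theorem ncard_orb_pos [Finite α] (x : Perm α) (u : α) : 0 < (orb x u).ncard :=
  (Set.ncard_pos (Set.toFinite _)).mpr ⟨u, self_mem_orb x u⟩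

theorem ncard_orb_eq_one_iff [Finite α] {x : Perm α} {u : α} :
    (orb x u).ncard = 1 ↔ x u = u := by
  constructor
  · intro h
    obtain ⟨a, ha⟩ := Set.ncard_eq_one.mp h
    have h1 : u ∈ orb x u := self_mem_orb x u
    have h2 : x u ∈ orb x u := apply_mem_orb x u
    rw [ha] at h1 h2
    rw [Set.mem_singleton_iff] at h1 h2
    rw [h2, h1]
  · intro h
    have : orb x u = {u} := by
      ext w
      rw [mem_orb_iff, Set.mem_singleton_iff]
      constructor
      · rintro ⟨i, rfl⟩; exact pow_apply_eq_self h i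
      · rintro rfl; exact ⟨0, by simp⟩
    rw [this, Set.ncard_singleton]

theorem ncard_orb_pow [Finite α] {x : Perm α} (hpg : ∃ k, x ^ (2 ^ k) = 1) (u : α) :
    ∃ j, (orb x u).ncard = 2 ^ j := by
  obtain ⟨k, hk⟩ := hpg
  haveI : Fact (Nat.Prime 2) := ⟨Nat.prime_two⟩
  obtain ⟨j, hj⟩ := (isPGroup_zpowers x k hk).card_orbit (α := α) u
  exact ⟨j, by rw [← Nat.card_coe_set_eq]; exact hj⟩

/-- A `2`-element whose nontrivial cycles have pairwise different lengths and with at most two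
fixed points. -/
structure Good [Finite α] (x : Perm α) : Prop where
  pg : ∃ k, x ^ (2 ^ k) = 1
  fix : {u | x u = u}.ncard ≤ 2
  inj : ∀ u w, x u ≠ u → (orb x u).ncard = (orb x w).ncard → w ∈ orb x u

theorem level_bound [Finite α] {x : Perm α} (hx : Good x) (j : ℕ) :
    {u | 2 ≤ (orb x u).ncard ∧ (orb x u).ncard ≤ 2 ^ j}.ncard + 2 ≤ 2 ^ (j + 1) := by
  induction j with
  | zero =>
    have : {u | 2 ≤ (orb x u).ncard ∧ (orb x u).ncard ≤ 2 ^ 0} = (∅ : Set α) := by
      ext u
      simp only [Set.mem_ofPred_eq, Set.mem_empty_iff_false, iff_false, pow_zero]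
      omega
    rw [this, Set.ncard_empty]
    norm_num
  | succ j ih =>
    have hE : {u | (orb x u).ncard = 2 ^ (j + 1)}.ncard ≤ 2 ^ (j + 1) := by
      by_cases hem : {u | (orb x u).ncard = 2 ^ (j + 1)} = (∅ : Set α)
      · rw [hem, Set.ncard_empty]; exact Nat.zero_le _
      · obtain ⟨u, hu⟩ := Set.nonempty_iff_ne_empty.mpr hem
        have hu' : (orb x u).ncard = 2 ^ (j + 1) := hu
        have hxu : x u ≠ u := by
          intro h
          rw [ncard_orb_eq_one_iff.mpr h] at hu'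
          have : 2 ≤ 2 ^ (j + 1) := by
            calc 2 = 2 ^ 1 := by norm_num
              _ ≤ 2 ^ (j + 1) := Nat.pow_le_pow_right (by norm_num) (by omega)
          omega
        have hsub : {w | (orb x w).ncard = 2 ^ (j + 1)} ⊆ orb x u := by
          intro w hw
          have hw' : (orb x w).ncard = 2 ^ (j + 1) := hw
          exact hx.inj u w hxu (by rw [hu', hw'])
        calc {w | (orb x w).ncard = 2 ^ (j + 1)}.ncard ≤ (orb x u).ncard :=
              Set.ncard_le_ncard hsub (Set.toFinite _)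
          _ = 2 ^ (j + 1) := hu'
    have hsub : {u | 2 ≤ (orb x u).ncard ∧ (orb x u).ncard ≤ 2 ^ (j + 1)} ⊆
        {u | 2 ≤ (orb x u).ncard ∧ (orb x u).ncard ≤ 2 ^ j} ∪
          {u | (orb x u).ncard = 2 ^ (j + 1)} := by
      intro u hu
      obtain ⟨h2, hle⟩ := hu
      obtain ⟨i, hi⟩ := ncard_orb_pow hx.pg u
      by_cases hij : i = j + 1
      · right
        show (orb x u).ncard = 2 ^ (j + 1)
        rw [hi, hij]
      · left
        refine ⟨h2, ?_⟩
        rw [hi] at hle ⊢
        have h1 : i ≤ j + 1 := (Nat.pow_le_pow_iff_right (by norm_num)).mp hle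
        exact Nat.pow_le_pow_right (by norm_num) (by omega)
    have h1 := Set.ncard_le_ncard hsub (Set.toFinite _)
    have h2 := Set.ncard_union_le {u | 2 ≤ (orb x u).ncard ∧ (orb x u).ncard ≤ 2 ^ j}
      {u | (orb x u).ncard = 2 ^ (j + 1)}
    have h3 : 2 ^ (j + 1 + 1) = 2 ^ (j + 1) + 2 ^ (j + 1) := by rw [pow_succ]; ring
    omega

/-- key numeric consequence of `Good`: a largest cycle covers at least half of the points. -/
theorem key_bound [Finite α] {x : Perm α} (hx : Good x) (h3 : 3 ≤ Nat.card α) :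
    ∃ u, x u ≠ u ∧ Nat.card α ≤ 2 * (orb x u).ncard ∧
      (Nat.card α = 2 * (orb x u).ncard → ∃ w, x w = w) := by
  haveI : Nonempty α := by
    by_contra hne
    rw [not_nonempty_iff] at hne
    rw [Nat.card_of_isEmpty] at h3
    omega
  obtain ⟨u0, hu0⟩ := Finite.exists_max (fun u => (orb x u).ncard)
  obtain ⟨b, hb⟩ := ncard_orb_pow hx.pg u0
  have hlev := level_bound hx b
  have hcover : (Set.univ : Set α) ⊆ {u | x u = u} ∪
      {u | 2 ≤ (orb x u).ncard ∧ (orb x u).ncard ≤ 2 ^ b} := by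
    intro u _
    by_cases hu : x u = u
    · left; exact hu
    · right
      have h1 := ncard_orb_pos x u
      have h2 : (orb x u).ncard ≠ 1 := fun h => hu (ncard_orb_eq_one_iff.mp h)
      have h4 : (orb x u).ncard ≤ 2 ^ b := by rw [← hb]; exact hu0 u
      exact ⟨by omega, h4⟩
  have h1 := Set.ncard_le_ncard hcover (Set.toFinite _)
  have h2 := Set.ncard_union_le {u | x u = u}
    {u | 2 ≤ (orb x u).ncard ∧ (orb x u).ncard ≤ 2 ^ b}
  rw [Set.ncard_univ] at h1
  have hfix := hx.fix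
  have h4 : 2 ^ (b + 1) = 2 * 2 ^ b := by rw [pow_succ]; ring
  refine ⟨u0, ?_, ?_, ?_⟩
  · intro h
    have hb1 : (orb x u0).ncard = 1 := ncard_orb_eq_one_iff.mpr h
    have hall : ∀ u, x u = u := by
      intro u
      apply ncard_orb_eq_one_iff.mp
      have h5 : (orb x u).ncard ≤ (orb x u0).ncard := hu0 u
      have h6 := ncard_orb_pos x u
      omega
    have : {u | x u = u} = (Set.univ : Set α) := Set.eq_univ_of_forall hall
    rw [this, Set.ncard_univ] at hfix
    omega
  · rw [hb]; omega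
  · intro hn
    rw [hb] at hn
    have hpos : 0 < {u | x u = u}.ncard := by omega
    obtain ⟨w, hw⟩ := (Set.ncard_pos (Set.toFinite _)).mp hpos
    exact ⟨w, hw⟩

/-- transport of `Good` along an equivariant injection. -/
theorem good_of_embed [Finite α] {β : Type u} [Finite β] {x : Perm α} (hx : Good x) (ι : β → α)
    (hι : Function.Injective ι) (y : Perm β) (hxy : ∀ b, ι (y b) = x (ι b)) : Good y := by
  have hpow : ∀ (i : ℕ) (b : β), ι ((y ^ i) b) = (x ^ i) (ι b) := by
    intro i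
    induction i with
    | zero => intro b; simp
    | succ i ih =>
      intro b
      rw [pow_succ', pow_succ', Perm.mul_apply, Perm.mul_apply, hxy, ih]
  have horb : ∀ b c : β, c ∈ orb y b ↔ ι c ∈ orb x (ι b) := by
    intro b c
    rw [mem_orb_iff, mem_orb_iff]
    constructor
    · rintro ⟨i, rfl⟩; exact ⟨i, (hpow i b).symm⟩
    · rintro ⟨i, hi⟩
      exact ⟨i, hι (by rw [hpow, hi])⟩
  have himg : ∀ b : β, ι '' orb y b = orb x (ι b) := by
    intro b
    ext w
    constructor
    · rintro ⟨c, hc, rfl⟩; exact (horb b c).mp hc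
    · intro hw
      obtain ⟨i, rfl⟩ := mem_orb_iff.mp hw
      exact ⟨(y ^ i) b, mem_orb_iff.mpr ⟨i, rfl⟩, hpow i b⟩
  have hnc : ∀ b : β, (orb y b).ncard = (orb x (ι b)).ncard := by
    intro b
    rw [← himg b, Set.ncard_image_of_injective _ hι]
  refine ⟨?_, ?_, ?_⟩
  · obtain ⟨k, hk⟩ := hx.pg
    refine ⟨k, Equiv.ext (fun b => hι ?_)⟩
    rw [hpow, hk]; simp
  · have hsub : ι '' {b | y b = b} ⊆ {u | x u = u} := by
      rintro _ ⟨b, hb, rfl⟩
      show x (ι b) = ι b
      rw [← hxy, hb]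
    calc {b | y b = b}.ncard = (ι '' {b | y b = b}).ncard :=
          (Set.ncard_image_of_injective _ hι).symm
      _ ≤ {u | x u = u}.ncard := Set.ncard_le_ncard hsub (Set.toFinite _)
      _ ≤ 2 := hx.fix
  · intro b c hb hbc
    rw [horb]
    apply hx.inj
    · intro h
      apply hb
      apply hι
      rw [hxy, h]
    · rw [← hnc, ← hnc, hbc]

theorem good_of_trans [Finite α] (y : Perm α) (hpg : ∃ k, y ^ (2 ^ k) = 1)
    (htr : ∀ b c : α, c ∈ orb y b) : Good y := by
  refine ⟨hpg, ?_, fun u w _ _ => htr u w⟩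
  by_contra hlt
  push Not at hlt
  have hpos : 1 < {u | y u = u}.ncard := by omega
  obtain ⟨a, ha, b, hb, hab⟩ := (Set.one_lt_ncard (Set.toFinite _)).mp hpos
  have h1 : b ∈ orb y a := htr a b
  obtain ⟨i, hi⟩ := mem_orb_iff.mp h1
  rw [pow_apply_eq_self ha i] at hi
  exact hab hi

end Cfsg.Agent.helper21.USyl
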