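import Mathlib
import Cfsg.Agent.Lib_helper21_USyl1

set_option autoImplicit false
set_option linter.style.haveILetI false

/-! Block systems of transitive `2`-groups and the inductive uniqueness argument. -/

namespace Cfsg.Agent.helper21.USyl

open Equiv Cfsg.Agent.helper21.SylPerm

universe u
variable {α : Type u}

theorem stabP_compl (Δ : Set α) :
    stabP (fun z => z ∈ Δᶜ) = stabP (fun z => z ∈ Δ) := by
  ext g
  rw [mem_stabP, mem_stabP]
  constructor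
  · intro h z
    have := h z
    simp only [Set.mem_compl_iff] at this
    exact not_iff_not.mp this
  · intro h z
    simp only [Set.mem_compl_iff]
    exact not_iff_not.mpr (h z)

theorem swap_inv {Δ : Set α} {g : Perm α} (h : ∀ z, g z ∈ Δ ↔ z ∉ Δ) :
    ∀ z, g⁻¹ z ∈ Δ ↔ z ∉ Δ := by
  intro z
  have h1 := h (g⁻¹ z)
  have e0 : g (g⁻¹ z) = z := by simp
  rw [e0] at h1
  constructor
  · intro h2 h3; exact (h1.mp h3) h2
  · intro h2; by_contra h3; exact h2 (h1.mpr h3)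

theorem conj_swap_mem {Δ : Set α} {g q : Perm α} (h : ∀ z, g z ∈ Δ ↔ z ∉ Δ)
    (hq : q ∈ stabP (fun z => z ∈ Δ)) : g * q * g⁻¹ ∈ stabP (fun z => z ∈ Δ) := by
  intro z
  show (g * q * g⁻¹) z ∈ Δ ↔ z ∈ Δ
  have h1 := swap_inv h z
  have h2 : q (g⁻¹ z) ∈ Δ ↔ g⁻¹ z ∈ Δ := mem_stabP.mp hq (g⁻¹ z)
  have h3 := h (q (g⁻¹ z))
  simp only [Perm.mul_apply]
  tauto

theorem trans_of_orbit_univ {P : Subgroup (Perm α)} (u0 : α)
    (h : ∀ y, y ∈ MulAction.orbit P u0) : ∀ a b : α, b ∈ MulAction.orbit P a := by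
  intro a b
  rw [orbit_eq_of_mem (h a)]
  exact h b

/-- a transitive `2`-group has a system of two blocks. -/
theorem exists_half [Finite α] {P : Subgroup (Perm α)} (hpg : IsPGroup 2 P)
    (htr : ∀ x y : α, y ∈ MulAction.orbit P x) (h2 : 2 ≤ Nat.card α) :
    ∃ Δ : Set α, Δ.Nonempty ∧ Δᶜ.Nonempty ∧ Δ.ncard = Δᶜ.ncard ∧
      Nat.card P = 2 * Nat.card (P ⊓ stabP (fun z => z ∈ Δ) : Subgroup (Perm α)) ∧
      ∀ g ∈ P, g ∉ stabP (fun z => z ∈ Δ) → ∀ z, g z ∈ Δ ↔ z ∉ Δ := by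
  haveI : Fact (Nat.Prime 2) := ⟨Nat.prime_two⟩
  haveI hne : Nonempty α := by
    by_contra hne
    rw [not_nonempty_iff] at hne
    rw [Nat.card_of_isEmpty] at h2
    omega
  obtain ⟨ω⟩ := hne
  have hc := card_eq_of_trans P ω (htr ω)
  obtain ⟨e, he⟩ := (IsPGroup.iff_card).mp hpg
  have hdn : Nat.card α ∣ 2 ^ e := by rw [← he, hc]; exact Dvd.intro_left _ rfl
  obtain ⟨a, -, hna⟩ := (Nat.dvd_prime_pow Nat.prime_two).mp hdn
  have ha1 : 1 ≤ a := by
    by_contra h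
    have h0 : a = 0 := by omega
    rw [h0, pow_zero] at hna
    omega
  have hds : Nat.card (stabPt P ω) ∣ 2 ^ e := by rw [← he, hc]; exact Dvd.intro _ rfl
  obtain ⟨s, -, hns⟩ := (Nat.dvd_prime_pow Nat.prime_two).mp hds
  have hesa : e = s + a := by
    rw [he, hns, hna, ← pow_add] at hc
    exact Nat.pow_right_injective (le_refl 2) hc
  let H : Subgroup P := (stabPt P ω).subgroupOf P
  have hHc : Nat.card H = 2 ^ s := by
    rw [← hns]
    exact Nat.card_congr (Subgroup.subgroupOfEquivOfLe (stabPt_le_left P ω)).toEquiv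
  have hdvd : 2 ^ (e - 1) ∣ Nat.card P := by rw [he]; exact pow_dvd_pow 2 (by omega)
  obtain ⟨K', hK'c, hHK'⟩ := Sylow.exists_subgroup_card_pow_prime_le 2 hdvd H hHc (by omega)
  have h2e : 2 ^ e = 2 ^ (e - 1) * 2 := by
    rw [← pow_succ]
    congr 1
    omega
  have hidx : K'.index = 2 := by
    have h1 := Subgroup.card_mul_index K'
    rw [hK'c, he, h2e] at h1
    exact Nat.eq_of_mul_eq_mul_left (by positivity) h1
  let K : Subgroup (Perm α) := K'.map P.subtype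
  have hKP : K ≤ P := by
    rintro _ ⟨k, -, rfl⟩
    exact k.2
  have hKmem : ∀ g (hg : g ∈ P), g ∈ K ↔ (⟨g, hg⟩ : P) ∈ K' := by
    intro g hg
    constructor
    · rintro ⟨k, hk, hkg⟩
      have hkk : k = ⟨g, hg⟩ := Subtype.ext hkg
      rw [← hkk]
      exact hk
    · intro h
      exact ⟨⟨g, hg⟩, h, rfl⟩
  have hSK : stabPt P ω ≤ K := by
    intro t ht
    have htP : t ∈ P := stabPt_le_left P ω ht
    rw [hKmem t htP]
    apply hHK'
    exact Subgroup.mem_subgroupOf.mpr ht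
  have hKc : Nat.card K = 2 ^ (e - 1) := by
    rw [← hK'c]
    exact Subgroup.card_map_of_injective (Subgroup.subtype_injective P)
  have hmul : ∀ g h (hg : g ∈ P) (hh : h ∈ P), g ∉ K → h ∉ K → g * h ∈ K := by
    intro g h hg hh hgK hhK
    rw [hKmem _ (P.mul_mem hg hh)]
    have h0 := (Subgroup.mul_mem_iff_of_index_two hidx (a := (⟨g, hg⟩ : P)) (b := ⟨h, hh⟩))
    apply h0.mpr
    rw [← hKmem g hg, ← hKmem h hh]
    exact iff_of_false hgK hhK
  have hKΔ : K ≤ stabP (fun z => z ∈ MulAction.orbit K ω) := le_stabP_orbit K ω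
  -- elements of `P` fixing `ω` up to `K`
  have hfix : ∀ t ∈ P, t ω = ω → t ∈ K := fun t ht htω => hSK (mem_stabPt.mpr ⟨ht, htω⟩)
  have hQK : ∀ g ∈ P, g ∈ stabP (fun z => z ∈ MulAction.orbit K ω) → g ∈ K := by
    intro g hg hgst
    have h1 : g ω ∈ MulAction.orbit K ω := (mem_stabP.mp hgst ω).mpr (self_mem_orbit K ω)
    obtain ⟨k, hk, hkω⟩ := SylPerm.mem_orbit.mp h1
    have ht : k⁻¹ * g ∈ K := by
      apply hfix _ (P.mul_mem (P.inv_mem (hKP hk)) hg)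
      rw [Perm.mul_apply, ← hkω]
      simp
    have e1 : g = k * (k⁻¹ * g) := by group
    rw [e1]
    exact K.mul_mem hk ht
  have hQeq : (P ⊓ stabP (fun z => z ∈ MulAction.orbit K ω) : Subgroup (Perm α)) = K := by
    apply le_antisymm
    · rintro g ⟨hg1, hg2⟩
      exact hQK g hg1 hg2
    · exact le_inf hKP hKΔ
  -- the swap property
  have hsw : ∀ g ∈ P, g ∉ stabP (fun z => z ∈ MulAction.orbit K ω) →
      ∀ z, g z ∈ MulAction.orbit K ω ↔ z ∉ MulAction.orbit K ω := by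
    intro g hg hgst z
    have hgK : g ∉ K := fun h => hgst (hKΔ h)
    constructor
    · intro hgz hz
      obtain ⟨k, hk, rfl⟩ := SylPerm.mem_orbit.mp hz
      obtain ⟨k', hk', hk'ω⟩ := SylPerm.mem_orbit.mp hgz
      have ht : k'⁻¹ * g * k ∈ K := by
        apply hfix _ (P.mul_mem (P.mul_mem (P.inv_mem (hKP hk')) hg) (hKP hk))
        rw [Perm.mul_apply, Perm.mul_apply, ← hk'ω]
        simp
      apply hgK
      have e1 : g = k' * (k'⁻¹ * g * k) * k⁻¹ := by group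
      rw [e1]
      exact K.mul_mem (K.mul_mem hk' ht) (K.inv_mem hk)
    · intro hz
      obtain ⟨h, hh, rfl⟩ := SylPerm.mem_orbit.mp (htr ω z)
      have hhK : h ∉ K := fun hk => hz (SylPerm.mem_orbit.mpr ⟨h, hk, rfl⟩)
      exact SylPerm.mem_orbit.mpr ⟨g * h, hmul g h hg hh hgK hhK, rfl⟩
  -- an element outside `K`
  have he1 : 1 ≤ e := by omega
  obtain ⟨g0, hg0P, hg0K⟩ : ∃ g ∈ P, g ∉ K := by
    by_contra hcon
    push Not at hcon
    have hle : P ≤ K := fun g hg => hcon g hg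
    have h1 := Subgroup.card_le_of_le hle
    rw [he, hKc, h2e] at h1
    have : 0 < 2 ^ (e - 1) := by positivity
    omega
  have hg0st : g0 ∉ stabP (fun z => z ∈ MulAction.orbit K ω) := fun h => hg0K (hQK g0 hg0P h)
  have hsw0 := hsw g0 hg0P hg0st
  refine ⟨MulAction.orbit K ω, ⟨ω, self_mem_orbit K ω⟩, ?_, ?_, ?_, hsw⟩
  · refine ⟨g0 ω, ?_⟩
    intro h
    exact ((hsw0 ω).mp h) (self_mem_orbit K ω)
  · have himg : g0 '' (MulAction.orbit K ω) = (MulAction.orbit K ω)ᶜ := by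
      ext z
      constructor
      · rintro ⟨w, hw, rfl⟩
        intro h
        exact ((hsw0 w).mp h) hw
      · intro hz
        refine ⟨g0⁻¹ z, ?_, by simp⟩
        exact (swap_inv hsw0 z).mpr hz
    rw [← himg, Set.ncard_image_of_injective _ g0.injective]
  · rw [hQeq, he, hKc, h2e]
    ring

theorem half_transfer {P : Subgroup (Perm α)} {Δ C : Set α} (hC : C = Δ ∨ C = Δᶜ)
    (hcard : Nat.card P = 2 * Nat.card (P ⊓ stabP (fun z => z ∈ Δ) : Subgroup (Perm α)))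
    (hsw : ∀ g ∈ P, g ∉ stabP (fun z => z ∈ Δ) → ∀ z, g z ∈ Δ ↔ z ∉ Δ) :
    Nat.card P = 2 * Nat.card (P ⊓ stabP (fun z => z ∈ C) : Subgroup (Perm α)) ∧
      ∀ g ∈ P, g ∉ stabP (fun z => z ∈ C) → ∀ z, g z ∈ C ↔ z ∉ C := by
  rcases hC with rfl | rfl
  · exact ⟨hcard, hsw⟩
  · rw [stabP_compl]
    refine ⟨hcard, ?_⟩
    intro g hg hgst z
    have := hsw g hg hgst z
    simp only [Set.mem_compl_iff]
    tauto

theorem pow_mem_iff_even {Δ : Set α} {x : Perm α} (h : ∀ z, x z ∈ Δ ↔ z ∉ Δ) {d : α}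
    (hd : d ∈ Δ) (i : ℕ) : (x ^ i) d ∈ Δ ↔ Even i := by
  induction i with
  | zero => simp [hd]
  | succ i ih =>
    rw [pow_succ', Perm.mul_apply, h, ih, Nat.even_add_one]

/-- the uniqueness statement for sets of size `n`. -/
def UFor (n : ℕ) : Prop :=
  ∀ (β : Type u) [Finite β], Nat.card β = n → ∀ y : Perm β, Good y →
    ∀ A A' : Subgroup (Perm β), IsSyl A → IsSyl A' → y ∈ A → y ∈ A' → A = A'

theorem eq_of_restrict {n : ℕ} (ih : ∀ m < n, UFor.{u} m) [Finite α] {p : α → Prop}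
    (hp1 : Nat.card {z // p z} < n) (hp2 : Nat.card {z // ¬ p z} < n)
    {Q Q' : Subgroup (Perm α)} (hQ : Q ≤ stabP p) (hQ' : Q' ≤ stabP p)
    (hA : IsSyl (rP hQ).range) (hB : IsSyl (rN hQ).range)
    (hprod : Nat.card (rP hQ).range * Nat.card (rN hQ).range = Nat.card Q)
    (hA' : IsSyl (rP hQ').range) (hB' : IsSyl (rN hQ').range)
    (hprod' : Nat.card (rP hQ').range * Nat.card (rN hQ').range = Nat.card Q')
    (y : Perm α) (hyQ : y ∈ Q) (hyQ' : y ∈ Q')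
    (hg1 : Good (resP p ⟨y, hQ hyQ⟩)) (hg2 : Good (resN p ⟨y, hQ hyQ⟩)) : Q = Q' := by
  have e1 : (rP hQ).range = (rP hQ').range :=
    ih _ hp1 {z // p z} rfl _ hg1 _ _ hA hA' ⟨⟨y, hyQ⟩, rfl⟩ ⟨⟨y, hyQ'⟩, rfl⟩
  have e2 : (rN hQ).range = (rN hQ').range :=
    ih _ hp2 {z // ¬ p z} rfl _ hg2 _ _ hB hB' ⟨⟨y, hyQ⟩, rfl⟩ ⟨⟨y, hyQ'⟩, rfl⟩
  apply le_antisymm
  · exact le_of_res hQ hQ' e1.le e2.le hprod'.le
  · exact le_of_res hQ' hQ e1.ge e2.ge hprod.le

/-- two Sylow subgroups sharing the stabilizer of a half are equal. -/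
theorem eq_of_half [Finite α] {P P' Q : Subgroup (Perm α)} (hS : IsSyl P) (hS' : IsSyl P')
    (Δ : Set α) (hQP : Q = P ⊓ stabP (fun z => z ∈ Δ)) (hQP' : Q = P' ⊓ stabP (fun z => z ∈ Δ))
    (hq : Q ≤ stabP (fun z => z ∈ Δ)) (hcard : Nat.card P = 2 * Nat.card Q)
    (hsw : ∀ g ∈ P, g ∉ stabP (fun z => z ∈ Δ) → ∀ z, g z ∈ Δ ↔ z ∉ Δ)
    (hsw' : ∀ g ∈ P', g ∉ stabP (fun z => z ∈ Δ) → ∀ z, g z ∈ Δ ↔ z ∉ Δ)
    (hA : IsSyl (rP hq).range) (hB : IsSyl (rN hq).range)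
    (hprod : Nat.card (rP hq).range * Nat.card (rN hq).range = Nat.card Q) : P = P' := by
  have hQleP : Q ≤ P := by rw [hQP]; exact inf_le_left
  obtain ⟨g, hgP, hgQ⟩ : ∃ g ∈ P, g ∉ Q := by
    by_contra hcon
    push Not at hcon
    have hle : P ≤ Q := fun g hg => hcon g hg
    have h1 := Subgroup.card_le_of_le hle
    have hpos : 0 < Nat.card Q := Nat.card_pos
    omega
  have hgst : g ∉ stabP (fun z => z ∈ Δ) := fun h => hgQ (by rw [hQP]; exact ⟨hgP, h⟩)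
  have hg := hsw g hgP hgst
  have hle : P' ≤ P := by
    intro g' hg'
    by_cases hg'st : g' ∈ stabP (fun z => z ∈ Δ)
    · apply hQleP
      rw [hQP']
      exact ⟨hg', hg'st⟩
    · have hg's := hsw' g' hg' hg'st
      have hh : g⁻¹ * g' ∈ stabP (fun z => z ∈ Δ) := by
        intro z
        show (g⁻¹ * g') z ∈ Δ ↔ z ∈ Δ
        have h1 := swap_inv hg (g' z)
        have h2 := hg's z
        simp only [Perm.mul_apply]
        tauto
      have hnorm : g⁻¹ * g' ∈ Subgroup.normalizer (Q : Set (Perm α)) := by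
        apply mem_normalizer_of_conj_mem
        intro q hqQ
        have hq1 : q ∈ P' ⊓ stabP (fun z => z ∈ Δ) := by rw [← hQP']; exact hqQ
        have hr : g' * q * g'⁻¹ ∈ Q := by
          rw [hQP']
          exact ⟨P'.mul_mem (P'.mul_mem hg' hq1.1) (P'.inv_mem hg'), conj_swap_mem hg's hq1.2⟩
        have hr2 : g' * q * g'⁻¹ ∈ P ⊓ stabP (fun z => z ∈ Δ) := by rw [← hQP]; exact hr
        have hfin : g⁻¹ * (g' * q * g'⁻¹) * g⁻¹⁻¹ ∈ Q := by
          rw [hQP]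
          exact ⟨P.mul_mem (P.mul_mem (P.inv_mem hgP) hr2.1) (P.inv_mem (P.inv_mem hgP)),
            conj_swap_mem (swap_inv hg) hr2.2⟩
        have e : g⁻¹ * g' * q * (g⁻¹ * g')⁻¹ = g⁻¹ * (g' * q * g'⁻¹) * g⁻¹⁻¹ := by
          group
        rw [e]
        exact hfin
      have h1 := mem_of_mem_normalizer hA (resP_normalizer hq ⟨_, hh⟩ hnorm)
      have h2 := mem_of_mem_normalizer hB (resN_normalizer hq ⟨_, hh⟩ hnorm)
      have h3 : g⁻¹ * g' ∈ Q := mem_of_res hq hprod.le ⟨_, hh⟩ h1 h2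
      have e : g' = g * (g⁻¹ * g') := by group
      rw [e]
      exact P.mul_mem hgP (hQleP h3)
  have hc : Nat.card P ≤ Nat.card P' := by rw [hS.card, hS'.card]
  exact (Subgroup.eq_of_le_of_card_ge hle hc).symm

end Cfsg.Agent.helper21.USyl
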