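import Mathlib
import Cfsg.Agent.Lib_helper21_USyl2

set_option autoImplicit false
set_option linter.style.haveILetI false

/-! The inductive proof: a `Good` permutation lies in at most one Sylow `2`-subgroup. -/

namespace Cfsg.Agent.helper21.USyl

open Equiv Cfsg.Agent.helper21.SylPerm

universe u
variable {α : Type u}

theorem good_resP [Finite α] {x : Perm α} (hx : Good x) {p : α → Prop} (hxp : x ∈ stabP p) :
    Good (resP p ⟨x, hxp⟩) :=
  good_of_embed hx Subtype.val Subtype.val_injective _ (fun _ => rfl)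

theorem good_resN [Finite α] {x : Perm α} (hx : Good x) {p : α → Prop} (hxp : x ∈ stabP p) :
    Good (resN p ⟨x, hxp⟩) :=
  good_of_embed hx Subtype.val Subtype.val_injective _ (fun _ => rfl)

theorem resP_pow_apply {p : α → Prop} (f : stabP p) (t : ℕ) (b : {z // p z}) :
    ((((resP p f) ^ t) b : {z // p z}) : α) = ((f : Perm α) ^ t) b.1 := by
  rw [← map_pow]
  show ((f ^ t : stabP p) : Perm α) b.1 = _
  rw [Subgroup.coe_pow]

theorem resN_pow_apply {p : α → Prop} (f : stabP p) (t : ℕ) (b : {z // ¬ p z}) :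
    ((((resN p f) ^ t) b : {z // ¬ p z}) : α) = ((f : Perm α) ^ t) b.1 := by
  rw [← map_pow]
  show ((f ^ t : stabP p) : Perm α) b.1 = _
  rw [Subgroup.coe_pow]

theorem swap_compl {Δ : Set α} {x : Perm α} (h : ∀ z, x z ∈ Δ ↔ z ∉ Δ) :
    ∀ z, x z ∈ Δᶜ ↔ z ∉ Δᶜ := by
  intro z
  have := h z
  simp only [Set.mem_compl_iff]
  tauto

theorem eq_of_swap [Finite α] {x : Perm α} {A B : Set α} (d : α) (htr : ∀ z, z ∈ orb x d)
    (hA : ∀ z, x z ∈ A ↔ z ∉ A) (hB : ∀ z, x z ∈ B ↔ z ∉ B) (hdA : d ∈ A) (hdB : d ∈ B) :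
    B = A := by
  ext z
  obtain ⟨i, rfl⟩ := mem_orb_iff.mp (htr z)
  rw [pow_mem_iff_even hA hdA, pow_mem_iff_even hB hdB]

theorem half_unique [Finite α] {x : Perm α} {Δ Δ' : Set α} (d : α) (htr : ∀ z, z ∈ orb x d)
    (h : ∀ z, x z ∈ Δ ↔ z ∉ Δ) (h' : ∀ z, x z ∈ Δ' ↔ z ∉ Δ') : Δ' = Δ ∨ Δ' = Δᶜ := by
  by_cases hd : d ∈ Δ
  · by_cases hd' : d ∈ Δ'
    · left; exact eq_of_swap d htr h h' hd hd'
    · right
      have e := eq_of_swap d htr h (swap_compl h') hd hd'
      rw [← e, compl_compl]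
  · by_cases hd' : d ∈ Δ'
    · right; exact eq_of_swap d htr (swap_compl h) h' hd hd'
    · left
      have e := eq_of_swap d htr (swap_compl h) (swap_compl h') hd hd'
      exact compl_injective e

theorem orbit_cases [Finite α] {x : Perm α} {P : Subgroup (Perm α)} (hS : IsSyl P) (hxP : x ∈ P)
    (u0 : α) (b : ℕ) (hb : (orb x u0).ncard = 2 ^ b)
    (_hle : Nat.card α ≤ 2 * (orb x u0).ncard) :
    (Nat.card α < 2 * (orb x u0).ncard → MulAction.orbit P u0 = orb x u0) ∧
    (Nat.card α = 2 * (orb x u0).ncard → ∀ y, y ∈ MulAction.orbit P u0) := by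
  haveI : Fact (Nat.Prime 2) := ⟨Nat.prime_two⟩
  have hCO : orb x u0 ⊆ MulAction.orbit P u0 := by
    intro w hw
    obtain ⟨q, hq, rfl⟩ := SylPerm.mem_orbit.mp hw
    exact SylPerm.mem_orbit.mpr ⟨q, (Subgroup.zpowers_le.mpr hxP) hq, rfl⟩
  obtain ⟨i, hi⟩ := hS.pg.card_orbit (α := α) u0
  rw [Nat.card_coe_set_eq] at hi
  have h1 : (orb x u0).ncard ≤ (MulAction.orbit P u0).ncard :=
    Set.ncard_le_ncard hCO (Set.toFinite _)
  have h2 : (MulAction.orbit P u0).ncard ≤ Nat.card α := by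
    rw [← Set.ncard_univ]
    exact Set.ncard_le_ncard (Set.subset_univ _) (Set.toFinite _)
  rw [hb, hi] at h1
  rw [hi] at h2
  have hbi : b ≤ i := (Nat.pow_le_pow_iff_right (by norm_num)).mp h1
  have hsame : i = b → MulAction.orbit P u0 = orb x u0 := by
    intro hib
    symm
    apply Set.eq_of_subset_of_ncard_le hCO _ (Set.toFinite _)
    rw [hi, hb, hib]
  constructor
  · intro hlt
    apply hsame
    rw [hb] at hlt
    have h3 : 2 ^ i < 2 ^ (b + 1) := by rw [pow_succ]; omega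
    have h4 := (Nat.pow_lt_pow_iff_right (by norm_num)).mp h3
    omega
  · intro heq
    rw [hb] at heq
    have h3 : 2 ^ i ≤ 2 ^ (b + 1) := by rw [pow_succ]; omega
    have h4 : i ≤ b + 1 := (Nat.pow_le_pow_iff_right (by norm_num)).mp h3
    have hib : i = b + 1 := by
      by_contra hne
      have hib' : i = b := by omega
      have hP := le_stabP_orbit P u0
      have hc : Nat.card {z // z ∈ MulAction.orbit P u0} +
          Nat.card {z // ¬ z ∈ MulAction.orbit P u0} = Nat.card α :=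
        card_add_card_not (α := α) (fun z => z ∈ MulAction.orbit P u0)
      have hc1 : Nat.card {z // z ∈ MulAction.orbit P u0} = 2 ^ b := by
        rw [Nat.card_coe_set_eq, hi, hib']
      have hpos : 0 < 2 ^ b := by positivity
      exact no_equal_halves hS (fun z => z ∈ MulAction.orbit P u0) hP (by omega) (by omega)
    have hfull : MulAction.orbit P u0 = Set.univ := by
      apply Set.eq_of_subset_of_ncard_le (Set.subset_univ _) _ (Set.toFinite _)
      rw [Set.ncard_univ, hi, hib, heq, pow_succ]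
      omega
    intro y
    rw [hfull]
    trivial

theorem tail {n : ℕ} (ih : ∀ m < n, UFor.{u} m) [Finite α] (hn : Nat.card α = n)
    {P P' : Subgroup (Perm α)} (hS : IsSyl P) (hS' : IsSyl P') (C : Set α) (j : ℕ)
    (hs : Nat.card {z // z ∈ C} = 2 ^ j) (hs' : Nat.card {z // ¬ z ∈ C} = 2 ^ j)
    (hc : Nat.card P = 2 * Nat.card (P ⊓ stabP (fun z => z ∈ C) : Subgroup (Perm α)))
    (hsw : ∀ g ∈ P, g ∉ stabP (fun z => z ∈ C) → ∀ z, g z ∈ C ↔ z ∉ C)
    (hc' : Nat.card P' = 2 * Nat.card (P' ⊓ stabP (fun z => z ∈ C) : Subgroup (Perm α)))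
    (hsw' : ∀ g ∈ P', g ∉ stabP (fun z => z ∈ C) → ∀ z, g z ∈ C ↔ z ∉ C)
    (y : Perm α) (hyP : y ∈ P) (hyP' : y ∈ P') (hyC : y ∈ stabP (fun z => z ∈ C))
    (hg1 : Good (resP (fun z => z ∈ C) ⟨y, hyC⟩))
    (hg2 : Good (resN (fun z => z ∈ C) ⟨y, hyC⟩)) : P = P' := by
  have hcc : Nat.card {z // z ∈ C} + Nat.card {z // ¬ z ∈ C} = Nat.card α :=
    card_add_card_not (α := α) (fun z => z ∈ C)
  have hcn : Nat.card α = 2 * 2 ^ j := by omega
  have hv : v (Nat.card α) = (v (2 ^ j) + v (2 ^ j)) + 1 := by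
    rw [hcn, v_two_mul]
    have := v_two_pow j
    omega
  have hq : (P ⊓ stabP (fun z => z ∈ C) : Subgroup (Perm α)) ≤ stabP (fun z => z ∈ C) :=
    inf_le_right
  have hq' : (P' ⊓ stabP (fun z => z ∈ C) : Subgroup (Perm α)) ≤ stabP (fun z => z ∈ C) :=
    inf_le_right
  have hcQ : Nat.card (P ⊓ stabP (fun z => z ∈ C) : Subgroup (Perm α)) =
      2 ^ (v (Nat.card {z // z ∈ C}) + v (Nat.card {z // ¬ z ∈ C})) := by
    rw [hs, hs']
    have hc2 := hc
    rw [hS.card, hv, pow_succ] at hc2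
    omega
  have hcQ' : Nat.card (P' ⊓ stabP (fun z => z ∈ C) : Subgroup (Perm α)) =
      2 ^ (v (Nat.card {z // z ∈ C}) + v (Nat.card {z // ¬ z ∈ C})) := by
    rw [hs, hs']
    have hc2 := hc'
    rw [hS'.card, hv, pow_succ] at hc2
    omega
  obtain ⟨hA, hB, hprod⟩ := syl_res' (hS.pg.to_le inf_le_left) hq hcQ
  obtain ⟨hA', hB', hprod'⟩ := syl_res' (hS'.pg.to_le inf_le_left) hq' hcQ'
  have hlt : 2 ^ j < n := by
    rw [← hn, hcn]
    have : 0 < 2 ^ j := by positivity
    omega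
  have hQQ : (P ⊓ stabP (fun z => z ∈ C) : Subgroup (Perm α)) = P' ⊓ stabP (fun z => z ∈ C) :=
    eq_of_restrict ih (by rw [hs]; exact hlt) (by rw [hs']; exact hlt) hq hq' hA hB hprod
      hA' hB' hprod' y ⟨hyP, hyC⟩ ⟨hyP', hyC⟩ hg1 hg2
  exact eq_of_half hS hS' C rfl hQQ hq hc hsw hsw' hA hB hprod

set_option maxHeartbeats 3200000 in
theorem unique_aux : ∀ n : ℕ, UFor.{u} n := by
  intro n
  induction n using Nat.strong_induction_on with
  | _ n ih =>
  intro α _ hn x hx P P' hS hS' hxP hxP'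
  by_cases hn2 : n ≤ 2
  · have hfac : (Nat.card α).factorial = 2 ^ v (Nat.card α) := by
      rw [hn]
      interval_cases n <;> simp [v]
    have h1 : P = ⊤ := Subgroup.eq_top_of_card_eq P (by rw [hS.card, Nat.card_perm, hfac])
    have h2 : P' = ⊤ := Subgroup.eq_top_of_card_eq P' (by rw [hS'.card, Nat.card_perm, hfac])
    rw [h1, h2]
  push Not at hn2
  obtain ⟨u0, hxu0, hle, hfixpt⟩ := key_bound hx (by omega)
  obtain ⟨b, hb⟩ := ncard_orb_pow hx.pg u0
  have hb1 : 1 ≤ b := by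
    by_contra h
    have h0 : b = 0 := by omega
    rw [h0, pow_zero] at hb
    exact hxu0 (ncard_orb_eq_one_iff.mp hb)
  obtain ⟨hc1, hc2⟩ := orbit_cases hS hxP u0 b hb hle
  obtain ⟨hc1', hc2'⟩ := orbit_cases hS' hxP' u0 b hb hle
  rcases Nat.lt_or_ge (Nat.card α) (2 * (orb x u0).ncard) with hlt | hge
  · have hO := hc1 hlt
    have hO' := hc1' hlt
    by_cases hall : ∀ y, y ∈ orb x u0
    · -- `x` is transitive
      have htrP : ∀ a b : α, b ∈ MulAction.orbit P a :=
        trans_of_orbit_univ u0 (fun y => by rw [hO]; exact hall y)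
      have htrP' : ∀ a b : α, b ∈ MulAction.orbit P' a :=
        trans_of_orbit_univ u0 (fun y => by rw [hO']; exact hall y)
      have hn2' : 2 ≤ Nat.card α := by omega
      obtain ⟨Δ, hΔne, hΔc, hΔcard, hcard, hsw⟩ := exists_half hS.pg htrP hn2'
      obtain ⟨Δ', hΔne', hΔc', hΔcard', hcard', hsw'⟩ := exists_half hS'.pg htrP' hn2'
      have hnotst : ∀ D : Set α, D.Nonempty → Dᶜ.Nonempty → x ∉ stabP (fun z => z ∈ D) := by
        intro D hD hDc hst
        obtain ⟨d, hd⟩ := hD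
        obtain ⟨c, hc⟩ := hDc
        have hcd : c ∈ orb x d := by rw [orb_eq_of_mem (hall d)]; exact hall c
        obtain ⟨i, rfl⟩ := mem_orb_iff.mp hcd
        have h1 : (x ^ i) d ∈ D ↔ d ∈ D := mem_stabP.mp ((stabP _).pow_mem hst i) d
        exact hc (h1.mpr hd)
      have hswx := hsw x hxP (hnotst Δ hΔne hΔc)
      have hswx' := hsw' x hxP' (hnotst Δ' hΔne' hΔc')
      have hΔΔ' : Δ = Δ' ∨ Δ = Δ'ᶜ := half_unique u0 hall hswx' hswx
      obtain ⟨hcard2', hsw2'⟩ := half_transfer hΔΔ' hcard' hsw'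
      obtain ⟨d0, hd0⟩ := hΔne
      have hsz1 : Nat.card {z // z ∈ Δ} = Δ.ncard := Nat.card_coe_set_eq Δ
      have hsz2 : Nat.card {z // ¬ z ∈ Δ} = Δᶜ.ncard := Nat.card_coe_set_eq Δᶜ
      have hcc : Nat.card {z // z ∈ Δ} + Nat.card {z // ¬ z ∈ Δ} = Nat.card α :=
        card_add_card_not (α := α) (fun z => z ∈ Δ)
      have hnb : Nat.card α = 2 ^ b := by
        rw [← hb, ← Set.ncard_univ]
        congr 1
        exact (Set.eq_univ_of_forall hall).symm
      have h2b : 2 ^ b = 2 * 2 ^ (b - 1) := by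
        rw [← pow_succ']
        congr 1
        omega
      have hs : Nat.card {z // z ∈ Δ} = 2 ^ (b - 1) := by omega
      have hs' : Nat.card {z // ¬ z ∈ Δ} = 2 ^ (b - 1) := by omega
      have hx2 : x ^ 2 ∈ stabP (fun z => z ∈ Δ) := by
        intro z
        show (x ^ 2) z ∈ Δ ↔ z ∈ Δ
        rw [pow_two, Perm.mul_apply]
        have h1 := hswx (x z)
        have h2 := hswx z
        tauto
      obtain ⟨k, hk⟩ := hx.pg
      have hk2 : (x ^ 2) ^ (2 ^ k) = 1 := by
        rw [← pow_mul, mul_comm, pow_mul, hk, one_pow]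
      have hk2' : (⟨x ^ 2, hx2⟩ : stabP (fun z => z ∈ Δ)) ^ (2 ^ k) = 1 :=
        Subtype.ext (by rw [Subgroup.coe_pow]; exact hk2)
      have hxd0 : x d0 ∉ Δ := fun h => ((hswx d0).mp h) hd0
      have hg1 : Good (resP (fun z => z ∈ Δ) ⟨x ^ 2, hx2⟩) := by
        apply good_of_trans
        · exact ⟨k, by rw [← map_pow, hk2', map_one]⟩
        · have hbase : ∀ c : {z // z ∈ Δ},
              c ∈ orb (resP (fun z => z ∈ Δ) ⟨x ^ 2, hx2⟩) ⟨d0, hd0⟩ := by
            intro c
            have hcd : c.1 ∈ orb x d0 := by rw [orb_eq_of_mem (hall d0)]; exact hall c.1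
            obtain ⟨i, hi⟩ := mem_orb_iff.mp hcd
            have hev : Even i := (pow_mem_iff_even hswx hd0 i).mp (by rw [hi]; exact c.2)
            obtain ⟨t, ht⟩ := hev
            refine mem_orb_iff.mpr ⟨t, Subtype.ext ?_⟩
            rw [resP_pow_apply]
            show ((x ^ 2) ^ t) d0 = c.1
            rw [← pow_mul, ← hi, ht, two_mul]
          intro b' c
          rw [orb_eq_of_mem (hbase b')]
          exact hbase c
      have hg2 : Good (resN (fun z => z ∈ Δ) ⟨x ^ 2, hx2⟩) := by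
        apply good_of_trans
        · exact ⟨k, by rw [← map_pow, hk2', map_one]⟩
        · have hbase : ∀ c : {z // ¬ z ∈ Δ},
              c ∈ orb (resN (fun z => z ∈ Δ) ⟨x ^ 2, hx2⟩) ⟨x d0, hxd0⟩ := by
            intro c
            have hcd : c.1 ∈ orb x d0 := by rw [orb_eq_of_mem (hall d0)]; exact hall c.1
            obtain ⟨i, hi⟩ := mem_orb_iff.mp hcd
            have hnev : ¬ Even i := fun hev =>
              c.2 (by rw [← hi]; exact (pow_mem_iff_even hswx hd0 i).mpr hev)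
            obtain ⟨t, ht⟩ := Nat.not_even_iff_odd.mp hnev
            refine mem_orb_iff.mpr ⟨t, Subtype.ext ?_⟩
            rw [resN_pow_apply]
            show ((x ^ 2) ^ t) (x d0) = c.1
            rw [← pow_mul, ← hi, ht, pow_succ, Perm.mul_apply]
          intro b' c
          rw [orb_eq_of_mem (hbase b')]
          exact hbase c
      exact tail ih hn hS hS' Δ (b - 1) hs hs' hcard hsw hcard2' hsw2' (x ^ 2)
        (P.pow_mem hxP 2) (P'.pow_mem hxP' 2) hx2 hg1 hg2
    · -- the largest cycle is a proper orbit of both Sylow subgroups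
      push Not at hall
      obtain ⟨y0, hy0⟩ := hall
      have hP : P ≤ stabP (fun z => z ∈ orb x u0) := by
        have h0 := le_stabP_orbit P u0
        rw [hO] at h0
        exact h0
      have hP' : P' ≤ stabP (fun z => z ∈ orb x u0) := by
        have h0 := le_stabP_orbit P' u0
        rw [hO'] at h0
        exact h0
      obtain ⟨hA, hB, hprod⟩ := syl_res'' hS hP
      obtain ⟨hA', hB', hprod'⟩ := syl_res'' hS' hP'
      have hcc : Nat.card {z // z ∈ orb x u0} + Nat.card {z // ¬ z ∈ orb x u0} = Nat.card α :=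
        card_add_card_not (α := α) (fun z => z ∈ orb x u0)
      have hcC : Nat.card {z // z ∈ orb x u0} = (orb x u0).ncard := Nat.card_coe_set_eq _
      have hpos2 : 0 < Nat.card {z // ¬ z ∈ orb x u0} := by
        haveI : Nonempty {z // ¬ z ∈ orb x u0} := ⟨⟨y0, hy0⟩⟩
        exact Nat.card_pos
      have hposC := ncard_orb_pos x u0
      exact eq_of_restrict ih (by omega) (by omega) hP hP' hA hB hprod hA' hB' hprod' x hxP hxP'
        (good_resP hx (hP hxP)) (good_resN hx (hP hxP))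
  · -- `n = 2 m`: both Sylow subgroups are transitive
    have heq : Nat.card α = 2 * (orb x u0).ncard := by omega
    have htrP : ∀ a b : α, b ∈ MulAction.orbit P a := trans_of_orbit_univ u0 (hc2 heq)
    have htrP' : ∀ a b : α, b ∈ MulAction.orbit P' a := trans_of_orbit_univ u0 (hc2' heq)
    obtain ⟨w0, hw0⟩ := hfixpt heq
    obtain ⟨Δ, hΔne, hΔc, hΔcard, hcard, hsw⟩ := exists_half hS.pg htrP (by omega)
    obtain ⟨Δ', hΔne', hΔc', hΔcard', hcard', hsw'⟩ := exists_half hS'.pg htrP' (by omega)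
    have hxΔ : x ∈ stabP (fun z => z ∈ Δ) := by
      by_contra hst
      have h0 := hsw x hxP hst w0
      rw [hw0] at h0
      tauto
    have hxΔ' : x ∈ stabP (fun z => z ∈ Δ') := by
      by_contra hst
      have h0 := hsw' x hxP' hst w0
      rw [hw0] at h0
      tauto
    have key : ∀ (D : Set α), D.ncard = Dᶜ.ncard → x ∈ stabP (fun z => z ∈ D) →
        orb x u0 = D ∨ orb x u0 = Dᶜ := by
      intro D hDc hxD
      have hDD : D.ncard + Dᶜ.ncard = Nat.card α := Set.ncard_add_ncard_compl D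
      have hinv : ∀ (E : Set α), x ∈ stabP (fun z => z ∈ E) → u0 ∈ E → orb x u0 ⊆ E := by
        intro E hxE hu w hw
        obtain ⟨i, rfl⟩ := mem_orb_iff.mp hw
        exact (mem_stabP.mp ((stabP _).pow_mem hxE i) u0).mpr hu
      by_cases hu : u0 ∈ D
      · left
        exact Set.eq_of_subset_of_ncard_le (hinv D hxD hu) (by omega) (Set.toFinite _)
      · right
        have hxDc : x ∈ stabP (fun z => z ∈ Dᶜ) := by rw [stabP_compl]; exact hxD
        exact Set.eq_of_subset_of_ncard_le (hinv Dᶜ hxDc hu) (by omega) (Set.toFinite _)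
    obtain ⟨hcard2, hsw2⟩ := half_transfer (key Δ hΔcard hxΔ) hcard hsw
    obtain ⟨hcard2', hsw2'⟩ := half_transfer (key Δ' hΔcard' hxΔ') hcard' hsw'
    have hxC : x ∈ stabP (fun z => z ∈ orb x u0) :=
      le_stabP_orbit (Subgroup.zpowers x) u0 (Subgroup.mem_zpowers x)
    have hs : Nat.card {z // z ∈ orb x u0} = 2 ^ b := by rw [Nat.card_coe_set_eq, hb]
    have hcc : Nat.card {z // z ∈ orb x u0} + Nat.card {z // ¬ z ∈ orb x u0} = Nat.card α :=
      card_add_card_not (α := α) (fun z => z ∈ orb x u0)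
    have hs' : Nat.card {z // ¬ z ∈ orb x u0} = 2 ^ b := by omega
    exact tail ih hn hS hS' (orb x u0) b hs hs' hcard2 hsw2 hcard2' hsw2' x hxP hxP' hxC
      (good_resP hx hxC) (good_resN hx hxC)

/-- A `Good` permutation lies in at most one Sylow `2`-subgroup of the symmetric group. -/
theorem unique_sylow [Finite α] (x : Perm α) (hx : Good x) (P P' : Subgroup (Perm α))
    (hS : IsSyl P) (hS' : IsSyl P') (hxP : x ∈ P) (hxP' : x ∈ P') : P = P' :=
  unique_aux _ α rfl x hx P P' hS hS' hxP hxP'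

end Cfsg.Agent.helper21.USyl
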