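import Mathlib
import Cfsg.Agent.Lib_helper21_USyl3

set_option autoImplicit false
set_option linter.style.haveILetI false

/-! `2`-elements of `Perm (Fin n)` lying in exactly one Sylow `2`-subgroup: translation between
the cycle type and `Good`, and the converse direction. -/

namespace Cfsg.Agent.helper21.USyl

open Equiv Cfsg.Agent.helper21.SylPerm

theorem isSyl_of_sylow (n : ℕ) (P : Sylow 2 (Perm (Fin n))) :
    IsSyl (P : Subgroup (Perm (Fin n))) := by
  refine ⟨P.isPGroup', ?_⟩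
  have h0 : Nat.card (Fin n) = n := by simp
  rw [h0, P.card_eq_multiplicity, Nat.card_eq_fintype_card, Fintype.card_perm,
    Nat.factorization_def _ Nat.prime_two]
  simp [v]

theorem sameCycle_iff_mem_orb {n : ℕ} {x : Perm (Fin n)} {u w : Fin n} :
    x.SameCycle u w ↔ w ∈ orb x u := by
  rw [mem_orb_iff]
  constructor
  · intro h
    exact h.exists_nat_pow_eq
  · rintro ⟨i, hi⟩
    exact ⟨(i : ℤ), by rw [zpow_natCast]; exact hi⟩

theorem good_of_cycleType {n : ℕ} (x : Perm (Fin n)) (hk : ∃ k : ℕ, orderOf x = 2 ^ k)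
    (h1 : n ≤ x.support.card + 2) (h2 : x.cycleType.Nodup) : Good x := by
  refine ⟨?_, ?_, ?_⟩
  · obtain ⟨k, hk⟩ := hk
    exact ⟨k, by rw [← hk]; exact pow_orderOf_eq_one x⟩
  · have hset : {u | x u = u} = ((x.supportᶜ : Finset (Fin n)) : Set (Fin n)) := by
      ext u
      simp [Perm.mem_support]
    have hle : x.support.card ≤ n := by
      have := Finset.card_le_univ x.support
      rwa [Fintype.card_fin] at this
    rw [hset, Set.ncard_coe_finset, Finset.card_compl, Fintype.card_fin]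
    omega
  · intro u w hu hcard
    by_cases hw : x w = w
    · exfalso
      rw [ncard_orb_eq_one_iff.mpr hw] at hcard
      exact hu (ncard_orb_eq_one_iff.mp hcard)
    · have hsupp : ∀ a : Fin n, x a ≠ a → (orb x a).ncard = (x.cycleOf a).support.card := by
        intro a ha
        have hEq : orb x a = ((x.cycleOf a).support : Set (Fin n)) := by
          ext z
          rw [← sameCycle_iff_mem_orb, Finset.mem_coe, Perm.mem_support_cycleOf_iff' ha]
        rw [hEq, Set.ncard_coe_finset]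
      rw [hsupp u hu, hsupp w hw] at hcard
      have hcu : x.cycleOf u ∈ x.cycleFactorsFinset :=
        Perm.cycleOf_mem_cycleFactorsFinset_iff.mpr (Perm.mem_support.mpr hu)
      have hcw : x.cycleOf w ∈ x.cycleFactorsFinset :=
        Perm.cycleOf_mem_cycleFactorsFinset_iff.mpr (Perm.mem_support.mpr hw)
      rw [Perm.cycleType_def] at h2
      have hinj := (Multiset.nodup_map_iff_inj_on x.cycleFactorsFinset.nodup).mp h2
      have heq : x.cycleOf u = x.cycleOf w := hinj _ hcu _ hcw hcard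
      rw [← sameCycle_iff_mem_orb]
      have hwmem : w ∈ (x.cycleOf u).support := by
        rw [heq, Perm.mem_support_cycleOf_iff' hw]
      exact (Perm.mem_support_cycleOf_iff' hu).mp hwmem

theorem exists_unique_of_good {n : ℕ} (x : Perm (Fin n)) (hg : Good x) :
    ∃! P : Sylow 2 (Perm (Fin n)), x ∈ P := by
  obtain ⟨k, hk⟩ := hg.pg
  obtain ⟨Q, hQ⟩ := (isPGroup_zpowers x k hk).exists_le_sylow
  have hxQ : x ∈ (Q : Subgroup (Perm (Fin n))) := hQ (Subgroup.mem_zpowers x)
  refine ⟨Q, hxQ, ?_⟩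
  intro Q' hxQ'
  apply Sylow.ext
  exact unique_sylow x hg _ _ (isSyl_of_sylow n Q') (isSyl_of_sylow n Q) hxQ' hxQ

/-! ### the converse -/

theorem exists_sylow_of_normalizes {G : Type*} [Group G] [Finite G] (x : G) (K : Subgroup G)
    (hx : ∃ k : ℕ, x ^ (2 ^ k) = 1) (hK : IsPGroup 2 K)
    (hn : x ∈ Subgroup.normalizer (K : Set G)) :
    ∃ Q : Sylow 2 G, x ∈ (Q : Subgroup G) ∧ K ≤ (Q : Subgroup G) := by
  obtain ⟨k, hk⟩ := hx
  have hpg : IsPGroup 2 (Subgroup.zpowers x ⊔ K : Subgroup G) :=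
    IsPGroup.to_sup_of_normal_right' (isPGroup_zpowers x k hk) hK (Subgroup.zpowers_le.mpr hn)
  obtain ⟨Q, hQ⟩ := hpg.exists_le_sylow
  exact ⟨Q, hQ ((le_sup_left : Subgroup.zpowers x ≤ _) (Subgroup.mem_zpowers x)),
    le_trans le_sup_right hQ⟩

theorem mem_normalizer_zpowers_of_commute {G : Type*} [Group G] (x t : G) (hc : Commute x t) :
    x ∈ Subgroup.normalizer ((Subgroup.zpowers t : Subgroup G) : Set G) := by
  apply Subgroup.centralizer_le_normalizer
  rw [Subgroup.mem_centralizer_iff]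
  intro h hh
  obtain ⟨i, rfl⟩ := Subgroup.mem_zpowers_iff.mp hh
  exact (hc.zpow_right i).eq.symm

theorem not_unique_of_three_fixed {n : ℕ} (x : Perm (Fin n)) (hx : ∃ k : ℕ, x ^ (2 ^ k) = 1)
    (a b c : Fin n) (hab : a ≠ b) (hac : a ≠ c) (hbc : b ≠ c) (ha : x a = a) (hb : x b = b)
    (hc : x c = c) (P : Sylow 2 (Perm (Fin n)))
    (hP : ∀ Q : Sylow 2 (Perm (Fin n)), x ∈ (Q : Subgroup (Perm (Fin n))) → Q = P) : False := by
  have hsw : ∀ p q : Fin n, x p = p → x q = q → swap p q ∈ (P : Subgroup (Perm (Fin n))) := by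
    intro p q hp hq
    have hcomm : Commute x (swap p q) := by
      show x * swap p q = swap p q * x
      rw [Equiv.mul_swap_eq_swap_mul, hp, hq]
    have hsq : (swap p q) ^ (2 ^ 1) = 1 := by
      rw [pow_one, pow_two, swap_mul_self]
    obtain ⟨Q, hxQ, hKQ⟩ := exists_sylow_of_normalizes x (Subgroup.zpowers (swap p q)) hx
      (isPGroup_zpowers _ 1 hsq) (mem_normalizer_zpowers_of_commute x _ hcomm)
    rw [← hP Q hxQ]
    exact hKQ (Subgroup.mem_zpowers _)
  have h1 := hsw a b ha hb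
  have h2 := hsw a c ha hc
  have h3 : swap a b * swap a c ∈ (P : Subgroup (Perm (Fin n))) := mul_mem h1 h2
  have h3c := (Perm.isThreeCycle_swap_mul_swap_same hab hac hbc).orderOf
  obtain ⟨k, hk⟩ := P.isPGroup' ⟨_, h3⟩
  have hk' : (swap a b * swap a c) ^ (2 ^ k) = 1 := by
    have := congrArg Subtype.val hk
    simpa using this
  have hdvd := orderOf_dvd_of_pow_eq_one hk'
  rw [h3c] at hdvd
  have := Nat.Prime.dvd_of_dvd_pow Nat.prime_three hdvd
  omega

/-- the group of permutations moving every point to itself or to its partner. -/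
def pairGroup {α : Type*} (R : α → α → Prop) (hs : ∀ a b, R a b → R b a)
    (hf : ∀ a b c, R a b → R a c → b = c) : Subgroup (Perm α) where
  carrier := {e | ∀ z, e z = z ∨ R z (e z)}
  one_mem' := fun _ => Or.inl rfl
  mul_mem' := by
    intro e e' he he' z
    show (e * e') z = z ∨ R z ((e * e') z)
    rw [Perm.mul_apply]
    rcases he' z with h1 | h1
    · rw [h1]; exact he z
    · rcases he (e' z) with h2 | h2
      · rw [h2]; exact Or.inr h1
      · left
        exact hf _ _ _ h2 (hs _ _ h1)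
  inv_mem' := by
    intro e he z
    show e⁻¹ z = z ∨ R z (e⁻¹ z)
    have e0 : e (e⁻¹ z) = z := by simp
    rcases he (e⁻¹ z) with h1 | h1
    · left
      rw [e0] at h1
      exact h1.symm
    · right
      rw [e0] at h1
      exact hs _ _ h1

theorem mem_pairGroup {α : Type*} {R : α → α → Prop} {hs : ∀ a b, R a b → R b a}
    {hf : ∀ a b c, R a b → R a c → b = c} {e : Perm α} :
    e ∈ pairGroup R hs hf ↔ ∀ z, e z = z ∨ R z (e z) := Iff.rfl

theorem pairGroup_sq {α : Type*} {R : α → α → Prop} {hs : ∀ a b, R a b → R b a}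
    {hf : ∀ a b c, R a b → R a c → b = c} {e : Perm α} (he : e ∈ pairGroup R hs hf) :
    e ^ 2 = 1 := by
  ext z
  rw [pow_two, Perm.mul_apply, Perm.one_apply]
  rcases he z with h1 | h1
  · rw [h1, h1]
  · rcases he (e z) with h2 | h2
    · have h3 := e.injective h2
      rw [h3, h3]
    · exact hf _ _ _ h2 (hs _ _ h1)

theorem isPGroup_pairGroup {α : Type*} (R : α → α → Prop) (hs : ∀ a b, R a b → R b a)
    (hf : ∀ a b c, R a b → R a c → b = c) : IsPGroup 2 (pairGroup R hs hf) := by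
  intro g
  refine ⟨1, Subtype.ext ?_⟩
  rw [Subgroup.coe_pow, pow_one, Subgroup.coe_one]
  exact pairGroup_sq g.2

theorem mem_normalizer_pairGroup {α : Type*} (R : α → α → Prop) (hs : ∀ a b, R a b → R b a)
    (hf : ∀ a b c, R a b → R a c → b = c) (x : Perm α) (hx : ∀ a b, R a b → R (x a) (x b))
    (hx' : ∀ a b, R a b → R (x⁻¹ a) (x⁻¹ b)) :
    x ∈ Subgroup.normalizer ((pairGroup R hs hf : Subgroup (Perm α)) : Set (Perm α)) := by
  rw [Subgroup.mem_normalizer_iff]
  intro e
  rw [mem_pairGroup, mem_pairGroup]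
  constructor
  · intro he z
    have e0 : x (x⁻¹ z) = z := by simp
    simp only [Perm.mul_apply]
    rcases he (x⁻¹ z) with h1 | h1
    · left; rw [h1, e0]
    · right
      have h2 := hx _ _ h1
      rw [e0] at h2
      exact h2
  · intro he z
    have e0 : x⁻¹ (x z) = z := by simp
    have h0 := he (x z)
    simp only [Perm.mul_apply] at h0
    rw [e0] at h0
    rcases h0 with h1 | h1
    · left; exact x.injective h1
    · right
      have h2 := hx' _ _ h1
      rw [e0] at h2
      have e1 : x⁻¹ (x (e z)) = e z := by simp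
      rw [e1] at h2
      exact h2

theorem zpow_apply_eq_iff {α : Type*} (x : Perm α) (i j : ℤ) (a b : α) :
    (x ^ i) a = (x ^ j) b ↔ (x ^ (i - j)) a = b := by
  have h : (x ^ i) a = (x ^ j) ((x ^ (i - j)) a) := by
    have e : i = j + (i - j) := by ring
    conv_lhs => rw [e]
    rw [zpow_add, Perm.mul_apply]
  rw [h, (x ^ j).injective.eq_iff]

theorem two_pow_ne_succ (i j : ℕ) (hj : 1 ≤ j) : 2 ^ i ≠ 2 ^ j + 1 := by
  intro h
  have h1 : 2 ∣ 2 ^ j := dvd_pow_self 2 (by omega)
  rcases Nat.eq_zero_or_pos i with hi | hi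
  · rw [hi, pow_zero] at h
    have : 0 < 2 ^ j := by positivity
    omega
  · have h2 : 2 ∣ 2 ^ i := dvd_pow_self 2 (by omega)
    omega

theorem not_unique_of_two_cycles {n : ℕ} (x : Perm (Fin n)) (hx : ∃ k : ℕ, x ^ (2 ^ k) = 1)
    (u w : Fin n) (hu : x u ≠ u) (hw : x w ≠ w) (hns : ¬ x.SameCycle u w)
    (hcard : (x.cycleOf u).support.card = (x.cycleOf w).support.card)
    (P : Sylow 2 (Perm (Fin n)))
    (hP : ∀ Q : Sylow 2 (Perm (Fin n)), x ∈ (Q : Subgroup (Perm (Fin n))) → Q = P) : False := by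
  haveI : Fact (Nat.Prime 2) := ⟨Nat.prime_two⟩
  obtain ⟨k, hk⟩ := hx
  -- the cycle of `u`
  have hcyc : (x.cycleOf u).IsCycle := Perm.isCycle_cycleOf x hu
  have hc1mem : x.cycleOf u ∈ x.cycleFactorsFinset :=
    Perm.cycleOf_mem_cycleFactorsFinset_iff.mpr (Perm.mem_support.mpr hu)
  have hcomm : Commute x (x.cycleOf u) := (Perm.self_mem_cycle_factors_commute hc1mem).symm
  have hord : orderOf (x.cycleOf u) ∣ 2 ^ k :=
    dvd_trans (Perm.orderOf_cycleOf_dvd_orderOf x u) (orderOf_dvd_of_pow_eq_one hk)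
  have hc1k : (x.cycleOf u) ^ (2 ^ k) = 1 := orderOf_dvd_iff_pow_eq_one.mp hord
  have hc1P : x.cycleOf u ∈ (P : Subgroup (Perm (Fin n))) := by
    obtain ⟨Q, hxQ, hKQ⟩ := exists_sylow_of_normalizes x (Subgroup.zpowers (x.cycleOf u)) ⟨k, hk⟩
      (isPGroup_zpowers _ k hc1k) (mem_normalizer_zpowers_of_commute x _ hcomm)
    rw [← hP Q hxQ]
    exact hKQ (Subgroup.mem_zpowers _)
  -- the pairing relation
  have humem : u ∈ (x.cycleOf u).support :=
    (Perm.mem_support_cycleOf_iff' hu).mpr (Perm.SameCycle.refl _ _)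
  have hwmem : w ∈ (x.cycleOf w).support :=
    (Perm.mem_support_cycleOf_iff' hw).mpr (Perm.SameCycle.refl _ _)
  have hper : ∀ d : ℤ, (x ^ d) u = u ↔ (x ^ d) w = w := by
    intro d
    rw [(Perm.isCycleOn_support_cycleOf x u).zpow_apply_eq humem,
      (Perm.isCycleOn_support_cycleOf x w).zpow_apply_eq hwmem, hcard]
  have hdisj : ∀ i j : ℤ, (x ^ i) u ≠ (x ^ j) w := by
    intro i j h
    exact hns ⟨i - j, (zpow_apply_eq_iff x i j u w).mp h⟩
  let R : Fin n → Fin n → Prop := fun z z' =>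
    ∃ i : ℤ, (z = (x ^ i) u ∧ z' = (x ^ i) w) ∨ (z = (x ^ i) w ∧ z' = (x ^ i) u)
  have hs : ∀ a b, R a b → R b a := by
    rintro a b ⟨i, h | h⟩
    · exact ⟨i, Or.inr ⟨h.2, h.1⟩⟩
    · exact ⟨i, Or.inl ⟨h.2, h.1⟩⟩
  have hf : ∀ a b c, R a b → R a c → b = c := by
    rintro a b c ⟨i, h | h⟩ ⟨j, h' | h'⟩
    · rw [h.2, h'.2, zpow_apply_eq_iff]
      exact (hper _).mp ((zpow_apply_eq_iff x i j u u).mp (h.1.symm.trans h'.1))
    · exact absurd (h.1.symm.trans h'.1) (hdisj i j)
    · exact absurd (h'.1.symm.trans h.1) (hdisj j i)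
    · rw [h.2, h'.2, zpow_apply_eq_iff]
      exact (hper _).mpr ((zpow_apply_eq_iff x i j w w).mp (h.1.symm.trans h'.1))
  have hRx : ∀ a b, R a b → R (x a) (x b) := by
    have key : ∀ (i : ℤ) (z : Fin n), x ((x ^ i) z) = (x ^ (1 + i)) z := by
      intro i z
      rw [zpow_one_add, Perm.mul_apply]
    rintro a b ⟨i, h | h⟩
    · exact ⟨1 + i, Or.inl ⟨by rw [h.1, key], by rw [h.2, key]⟩⟩
    · exact ⟨1 + i, Or.inr ⟨by rw [h.1, key], by rw [h.2, key]⟩⟩
  have hRx' : ∀ a b, R a b → R (x⁻¹ a) (x⁻¹ b) := by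
    have key : ∀ (i : ℤ) (z : Fin n), x⁻¹ ((x ^ i) z) = (x ^ (-1 + i)) z := by
      intro i z
      rw [zpow_add, zpow_neg_one, Perm.mul_apply]
    rintro a b ⟨i, h | h⟩
    · exact ⟨-1 + i, Or.inl ⟨by rw [h.1, key], by rw [h.2, key]⟩⟩
    · exact ⟨-1 + i, Or.inr ⟨by rw [h.1, key], by rw [h.2, key]⟩⟩
  have huw : u ≠ w := fun h => hns (h ▸ Perm.SameCycle.refl _ _)
  have hτK : swap u w ∈ pairGroup R hs hf := by
    rw [mem_pairGroup]
    intro z
    by_cases hzu : z = u
    · right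
      rw [hzu, swap_apply_left]
      exact ⟨0, Or.inl ⟨by simp, by simp⟩⟩
    · by_cases hzw : z = w
      · right
        rw [hzw, swap_apply_right]
        exact ⟨0, Or.inr ⟨by simp, by simp⟩⟩
      · left
        exact swap_apply_of_ne_of_ne hzu hzw
  have hτP : swap u w ∈ (P : Subgroup (Perm (Fin n))) := by
    obtain ⟨Q, hxQ, hKQ⟩ := exists_sylow_of_normalizes x (pairGroup R hs hf) ⟨k, hk⟩
      (isPGroup_pairGroup R hs hf) (mem_normalizer_pairGroup R hs hf x hRx hRx')
    rw [← hP Q hxQ]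
    exact hKQ hτK
  -- the contradiction: a `2`-group with an orbit of odd size `> 1`
  have hwnot : w ∉ (x.cycleOf u).support := by
    intro h
    exact hns ((Perm.mem_support_cycleOf_iff' hu).mp h)
  have hc1w : (x.cycleOf u) w = w := Perm.notMem_support.mp hwnot
  let pS : Fin n → Prop := fun z => z ∈ insert w (x.cycleOf u).support
  have hpS : ∀ z, pS z ↔ z = w ∨ z ∈ (x.cycleOf u).support := fun z => Finset.mem_insert
  have hc1S : x.cycleOf u ∈ stabP pS := by
    rw [mem_stabP]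
    intro z
    rw [hpS, hpS, Perm.apply_mem_support]
    constructor
    · rintro (h | h)
      · left
        apply (x.cycleOf u).injective
        rw [h, hc1w]
      · right; exact h
    · rintro (h | h)
      · left; rw [h, hc1w]
      · right; exact h
  have hτS : swap u w ∈ stabP pS := by
    rw [mem_stabP]
    intro z
    rw [hpS, hpS]
    by_cases hzu : z = u
    · rw [hzu, swap_apply_left]
      exact ⟨fun _ => Or.inr humem, fun _ => Or.inl rfl⟩
    · by_cases hzw : z = w
      · rw [hzw, swap_apply_right]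
        exact ⟨fun _ => Or.inl rfl, fun _ => Or.inr humem⟩
      · rw [swap_apply_of_ne_of_ne hzu hzw]
  have hL : IsPGroup 2 ((P : Subgroup (Perm (Fin n))) ⊓ stabP pS : Subgroup (Perm (Fin n))) :=
    P.isPGroup'.to_le inf_le_left
  have hc1L : x.cycleOf u ∈ ((P : Subgroup (Perm (Fin n))) ⊓ stabP pS : Subgroup (Perm (Fin n))) :=
    ⟨hc1P, hc1S⟩
  have hτL : swap u w ∈ ((P : Subgroup (Perm (Fin n))) ⊓ stabP pS : Subgroup (Perm (Fin n))) :=
    ⟨hτP, hτS⟩
  obtain ⟨i, hi⟩ := hL.card_orbit (α := Fin n) u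
  rw [Nat.card_coe_set_eq] at hi
  have horb : MulAction.orbit
      ((P : Subgroup (Perm (Fin n))) ⊓ stabP pS : Subgroup (Perm (Fin n))) u =
      ((insert w (x.cycleOf u).support : Finset (Fin n)) : Set (Fin n)) := by
    ext z
    rw [SylPerm.mem_orbit, Finset.mem_coe]
    constructor
    · rintro ⟨g, hg, rfl⟩
      exact (mem_stabP.mp hg.2 u).mpr ((hpS u).mpr (Or.inr humem))
    · intro hz
      rcases (hpS z).mp hz with h | h
      · exact ⟨swap u w, hτL, by rw [h, swap_apply_left]⟩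
      · obtain ⟨t, ht⟩ := hcyc.exists_pow_eq (Perm.mem_support.mp humem) (Perm.mem_support.mp h)
        exact ⟨(x.cycleOf u) ^ t, Subgroup.pow_mem _ hc1L t, ht⟩
  rw [horb, Set.ncard_coe_finset, Finset.card_insert_of_notMem hwnot] at hi
  obtain ⟨j, -, hj⟩ := (Nat.dvd_prime_pow Nat.prime_two).mp hord
  rw [hcyc.orderOf] at hj
  have h2le := hcyc.two_le_card_support
  have hj1 : 1 ≤ j := by
    by_contra hlt
    have hj0 : j = 0 := by omega
    rw [hj0, pow_zero] at hj
    omega
  rw [hj] at hi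
  exact two_pow_ne_succ i j hj1 hi.symm

theorem cond_of_unique {n : ℕ} (x : Perm (Fin n)) (hx : ∃ k : ℕ, orderOf x = 2 ^ k)
    (h : ∃! P : Sylow 2 (Perm (Fin n)), x ∈ P) :
    n ≤ x.support.card + 2 ∧ x.cycleType.Nodup := by
  obtain ⟨P, -, hP⟩ := h
  have hP' : ∀ Q : Sylow 2 (Perm (Fin n)), x ∈ (Q : Subgroup (Perm (Fin n))) → Q = P :=
    fun Q hQ => hP Q hQ
  have hx' : ∃ k : ℕ, x ^ (2 ^ k) = 1 := by
    obtain ⟨k, hk⟩ := hx
    exact ⟨k, by rw [← hk]; exact pow_orderOf_eq_one x⟩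
  constructor
  · by_contra hlt
    push Not at hlt
    have hle : x.support.card ≤ n := by
      have := Finset.card_le_univ x.support
      rwa [Fintype.card_fin] at this
    have hc : 2 < (x.supportᶜ : Finset (Fin n)).card := by
      rw [Finset.card_compl, Fintype.card_fin]; omega
    obtain ⟨a, ha, b, hb, c, hc', hab, hac, hbc⟩ := Finset.two_lt_card.mp hc
    have fa : x a = a := by simpa [Perm.mem_support] using ha
    have fb : x b = b := by simpa [Perm.mem_support] using hb
    have fc : x c = c := by simpa [Perm.mem_support] using hc'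
    exact not_unique_of_three_fixed x hx' a b c hab hac hbc fa fb fc P hP'
  · by_contra hnd
    rw [Perm.cycleType_def, Multiset.nodup_map_iff_inj_on x.cycleFactorsFinset.nodup] at hnd
    push Not at hnd
    obtain ⟨c1, hc1, c2, hc2, heq, hne⟩ := hnd
    have hc1' : c1 ∈ x.cycleFactorsFinset := hc1
    have hc2' : c2 ∈ x.cycleFactorsFinset := hc2
    have hcyc1 : c1.IsCycle := (Perm.mem_cycleFactorsFinset_iff.mp hc1').1
    have hcyc2 : c2.IsCycle := (Perm.mem_cycleFactorsFinset_iff.mp hc2').1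
    obtain ⟨u, hu⟩ := hcyc1.nonempty_support
    obtain ⟨w, hw⟩ := hcyc2.nonempty_support
    have e1 : c1 = x.cycleOf u := Perm.cycle_is_cycleOf hu hc1'
    have e2 : c2 = x.cycleOf w := Perm.cycle_is_cycleOf hw hc2'
    have hxu : x u ≠ u := Perm.mem_support.mp (Perm.mem_cycleFactorsFinset_support_le hc1' hu)
    have hxw : x w ≠ w := Perm.mem_support.mp (Perm.mem_cycleFactorsFinset_support_le hc2' hw)
    have hns : ¬ x.SameCycle u w := fun hsc => hne (by rw [e1, e2]; exact hsc.cycleOf_eq)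
    have hcard : (x.cycleOf u).support.card = (x.cycleOf w).support.card := by
      rw [← e1, ← e2]; exact heq
    exact not_unique_of_two_cycles x hx' u w hxu hxw hns hcard P hP'

end Cfsg.Agent.helper21.USyl
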