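import Mathlib
import Cfsg.Agent.Lib_helper1_Core
import Cfsg.Agent.Lib_helper23_PSolv3

set_option autoImplicit false
set_option linter.unusedSectionVars false
set_option linter.unusedVariables false
set_option linter.style.haveILetI false

/-!
Group-theoretic part of the Broline–Garrison theorem (helper22): choice of a maximal subgroup `H`
supplementing the kernel `K`.
-/

namespace Cfsg.Agent.helper22

open Cfsg

universe u

theorem bg_eq_one_of_dvd_pow_of_not_dvd {q a b k : ℕ} (hq : q.Prime) (h1 : a ∣ q ^ k) (h2 : a ∣ b)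
    (h3 : ¬ q ∣ b) : a = 1 := by
  obtain ⟨j, _, rfl⟩ := (Nat.dvd_prime_pow hq).mp h1
  rcases Nat.eq_zero_or_pos j with h | h
  · rw [h, pow_zero]
  · exfalso
    exact h3 (dvd_trans (dvd_pow_self q h.ne') h2)

section BGgrp
variable {G : Type u} [Group G] [Finite G]

/-- `P` is a Sylow `p`-subgroup of the subgroup `L` (all inside `G`). -/
def IsSyl (p : ℕ) (P L : Subgroup G) : Prop :=
  P ≤ L ∧ IsPGroup p P ∧ ¬ p ∣ P.relIndex L

theorem isSyl_map (p : ℕ) [Fact p.Prime] (L : Subgroup G) (P₀ : Sylow p L) :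
    IsSyl p ((P₀ : Subgroup L).map L.subtype) L := by
  refine ⟨Subgroup.map_subtype_le _, P₀.2.map _, ?_⟩
  have h1 : ((P₀ : Subgroup L).map L.subtype).subgroupOf L = (P₀ : Subgroup L) :=
    Subgroup.comap_map_eq_self_of_injective (Subgroup.subtype_injective L) _
  have h2 : ((P₀ : Subgroup L).map L.subtype).relIndex L = (P₀ : Subgroup L).index := by
    rw [Subgroup.relIndex, h1]
  rw [h2]
  exact P₀.not_dvd_index

theorem exists_isSyl (p : ℕ) [Fact p.Prime] (L : Subgroup G) : ∃ P, IsSyl p P L := by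
  obtain ⟨P₀⟩ := (inferInstance : Nonempty (Sylow p L))
  exact ⟨_, isSyl_map p L P₀⟩

theorem IsSyl.frattini {p : ℕ} [Fact p.Prime] {P N : Subgroup G} [N.Normal] (h : IsSyl p P N) :
    Subgroup.normalizer (P : Set G) ⊔ N = ⊤ := by
  obtain ⟨hPN, hP, hidx⟩ := h
  have hP' : IsPGroup p (P.subgroupOf N) := hP.comap_subtype
  have hidx' : ¬ p ∣ (P.subgroupOf N).index := hidx
  have hQ : ((hP'.toSylow hidx' : Sylow p N) : Subgroup N).map N.subtype = P := by
    rw [IsPGroup.toSylow_coe]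
    exact Subgroup.map_subgroupOf_eq_of_le hPN
  have := Sylow.normalizer_sup_eq_top (hP'.toSylow hidx' : Sylow p N)
  rwa [hQ] at this

theorem IsSyl.mono {p : ℕ} {P L L₁ : Subgroup G} (h : IsSyl p P L) (h1 : P ≤ L₁) (h2 : L₁ ≤ L) :
    IsSyl p P L₁ := by
  refine ⟨h1, h.2.1, fun hd => h.2.2 ?_⟩
  rw [← Subgroup.relIndex_mul_relIndex P L₁ L h1 h2]
  exact dvd_mul_of_dvd_left hd _

theorem exists_isSyl_not_normal (K : Subgroup G) (hK : ¬ Group.IsNilpotent K) :
    ∃ (p : ℕ) (_ : Fact p.Prime) (P : Subgroup G), IsSyl p P K ∧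
      Subgroup.normalizer (P : Set G) ≠ ⊤ := by
  by_contra hcon
  push Not at hcon
  apply hK
  apply ((Group.isNilpotent_of_finite_tfae (G := K)).out 0 3 rfl rfl).mpr
  intro p hp P₀
  haveI : Fact p.Prime := hp
  have hS := isSyl_map p K P₀
  have hN := hcon p hp _ hS
  have hn : ((P₀ : Subgroup K).map K.subtype).Normal := Subgroup.normalizer_eq_top_iff.mp hN
  have h1 : ((P₀ : Subgroup K).map K.subtype).subgroupOf K = (P₀ : Subgroup K) :=
    Subgroup.comap_map_eq_self_of_injective (Subgroup.subtype_injective K) _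
  rw [← h1]
  infer_instance

/-- Case A: the kernel is not nilpotent. -/
theorem bg_caseA (K : Subgroup G) [K.Normal] (hK : ¬ K ≤ fittingSubgroup G) :
    ∃ H : Subgroup G, IsCoatom H ∧ K ⊔ H = ⊤ ∧ ¬ (K ⊓ H ≤ H.normalCore) := by
  have hnil : ¬ Group.IsNilpotent K := fun h => hK (helper1.le_fitting inferInstance h)
  obtain ⟨p, hp, P, hS, hN⟩ := exists_isSyl_not_normal K hnil
  haveI := hp
  obtain ⟨H, hHco, hNH⟩ :=
    (eq_top_or_exists_le_coatom (Subgroup.normalizer (P : Set G))).resolve_left hN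
  have hfr := hS.frattini
  refine ⟨H, hHco, ?_, ?_⟩
  · rw [eq_top_iff, ← hfr]
    exact sup_le (le_sup_of_le_right hNH) le_sup_left
  · intro hle
    have hPH : P ≤ H := le_trans Subgroup.le_normalizer hNH
    have hPR : P ≤ H.normalCore ⊓ K := le_inf (le_trans (le_inf hS.1 hPH) hle) hS.1
    have hS' : IsSyl p P (H.normalCore ⊓ K) := hS.mono hPR inf_le_right
    have h2 := hS'.frattini
    apply hHco.1
    rw [eq_top_iff, ← h2]
    exact sup_le hNH (le_trans inf_le_left H.normalCore_le)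

/-- a normal `q`-subgroup of `G` inside `L` lies in every Sylow `q`-subgroup of `L` -/
theorem IsSyl.normal_le {q : ℕ} [Fact q.Prime] {Q L N : Subgroup G} (h : IsSyl q Q L) [N.Normal]
    (hN : IsPGroup q N) (hNL : N ≤ L) : N ≤ Q := by
  have hT : IsPGroup q (Q ⊔ N : Subgroup G) := IsPGroup.to_sup_of_normal_right h.2.1 hN
  have hTL : Q ⊔ N ≤ L := sup_le h.1 hNL
  have hQT : Q ≤ Q ⊔ N := le_sup_left
  obtain ⟨k, hk⟩ := IsPGroup.iff_card.mp hT
  have h1 : Q.relIndex (Q ⊔ N) ∣ Q.relIndex L := by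
    rw [← Subgroup.relIndex_mul_relIndex Q (Q ⊔ N) L hQT hTL]
    exact dvd_mul_right _ _
  have h2 : Q.relIndex (Q ⊔ N) ∣ q ^ k := by
    rw [← hk]
    exact Subgroup.relIndex_dvd_card _ _
  have h3 := bg_eq_one_of_dvd_pow_of_not_dvd (Fact.out : q.Prime) h2 h1 h.2.2
  exact le_trans le_sup_right (Subgroup.relIndex_eq_one.mp h3)

/-- Case B: the kernel is the Fitting subgroup and the quotient is solvable. -/
theorem bg_caseB (K : Subgroup G) [K.Normal] (hKF : K = fittingSubgroup G)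
    (hsol : Group.IsSolvable (G ⧸ K)) (hKtop : K ≠ ⊤) :
    ∃ H L : Subgroup G, IsCoatom H ∧ K ⊔ H = ⊤ ∧ L.Normal ∧ K < L ∧ H.normalCore ⊓ L ≤ K := by
  classical
  -- a normal subgroup above `K` with `q`-power quotient
  have hex : ∃ n : ℕ, ∃ (q : ℕ) (L : Subgroup G), q.Prime ∧ L.Normal ∧ K < L ∧
      (∀ x ∈ L, ∃ m : ℕ, x ^ (q ^ m) ∈ K) ∧ Nat.card L = n := by
    haveI : Nontrivial (G ⧸ K) := by
      rw [← Finite.one_lt_card_iff_nontrivial, ← Subgroup.index_eq_card]
      have h0 : K.index ≠ 0 := Subgroup.index_ne_zero_of_finite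
      have h1 : K.index ≠ 1 := fun h => hKtop (Subgroup.index_eq_one.mp h)
      omega
    obtain ⟨q, hq⟩ := helper23.exists_pCore_ne_bot_of_solvable (G ⧸ K)
    haveI : Fact (q : ℕ).Prime := ⟨q.2⟩
    haveI hOn : (pCore (q : ℕ) (G ⧸ K)).Normal := helper1.pCore_normal _
    have hOp : IsPGroup (q : ℕ) (pCore (q : ℕ) (G ⧸ K)) := helper1.pCore_isPGroup _
    refine ⟨_, q, (pCore (q : ℕ) (G ⧸ K)).comap (QuotientGroup.mk' K), q.2, hOn.comap _, ?_, ?_,
      rfl⟩
    · have hle : K ≤ (pCore (q : ℕ) (G ⧸ K)).comap (QuotientGroup.mk' K) := by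
        intro x hx
        rw [Subgroup.mem_comap]
        have : (QuotientGroup.mk' K) x = 1 := (QuotientGroup.eq_one_iff x).mpr hx
        rw [this]
        exact Subgroup.one_mem _
      refine lt_of_le_of_ne hle ?_
      intro heq
      apply hq
      rw [eq_bot_iff]
      intro y hy
      obtain ⟨x, rfl⟩ := QuotientGroup.mk'_surjective K y
      have hx : x ∈ (pCore (q : ℕ) (G ⧸ K)).comap (QuotientGroup.mk' K) := hy
      rw [← heq] at hx
      rw [Subgroup.mem_bot]
      exact (QuotientGroup.eq_one_iff x).mpr hx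
    · intro x hx
      rw [Subgroup.mem_comap] at hx
      obtain ⟨m, hm⟩ := hOp ⟨_, hx⟩
      refine ⟨m, ?_⟩
      have h1 : ((QuotientGroup.mk' K) x) ^ ((q : ℕ) ^ m) = 1 := by
        have := congrArg Subtype.val hm
        simpa using this
      rw [← map_pow] at h1
      exact (QuotientGroup.eq_one_iff _).mp h1
  obtain ⟨q, L, hq, hLn, hKL, hqo, hcard⟩ := Nat.find_spec hex
  have hmin : ∀ (q' : ℕ) (L' : Subgroup G), q'.Prime → L'.Normal → K < L' →
      (∀ x ∈ L', ∃ m : ℕ, x ^ (q' ^ m) ∈ K) → Nat.card L ≤ Nat.card L' := by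
    intro q' L' h1 h2 h3 h4
    rw [hcard]
    exact Nat.find_min' hex ⟨q', L', h1, h2, h3, h4, rfl⟩
  haveI : Fact q.Prime := ⟨hq⟩
  haveI := hLn
  obtain ⟨Q, hQ⟩ := exists_isSyl q L
  -- the index of `K` in `L` is a power of `q`
  obtain ⟨m, hm⟩ : ∃ m : ℕ, K.relIndex L = q ^ m := by
    have hp : IsPGroup q (↥L ⧸ K.subgroupOf L) := by
      intro g
      obtain ⟨x, rfl⟩ := QuotientGroup.mk_surjective g
      obtain ⟨n, hn⟩ := hqo x x.2
      refine ⟨n, ?_⟩
      rw [← QuotientGroup.mk_pow, QuotientGroup.eq_one_iff, Subgroup.mem_subgroupOf]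
      simpa using hn
    obtain ⟨m, hm⟩ := IsPGroup.iff_card.mp hp
    refine ⟨m, ?_⟩
    rw [← hm, Subgroup.relIndex, Subgroup.index_eq_card]
  -- `L = K ⊔ Q`
  have hLKQ : L ≤ K ⊔ Q := by
    have hT : K ⊔ Q ≤ L := sup_le hKL.le hQ.1
    have h1 : (K ⊔ Q).relIndex L ∣ K.relIndex L := Subgroup.relIndex_dvd_of_le_left L le_sup_left
    have h2 : (K ⊔ Q).relIndex L ∣ Q.relIndex L := Subgroup.relIndex_dvd_of_le_left L le_sup_right
    rw [hm] at h1
    exact Subgroup.relIndex_eq_one.mp (bg_eq_one_of_dvd_pow_of_not_dvd hq h1 h2 hQ.2.2)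
  have hpc : pCore q G ≤ K := by
    rw [hKF]
    exact helper1.pCore_le_fitting q
  -- the normalizer of `Q` is proper
  have hN : Subgroup.normalizer (Q : Set G) ≠ ⊤ := by
    intro hN
    have hn : Q.Normal := Subgroup.normalizer_eq_top_iff.mp hN
    have hQK : Q ≤ K := le_trans (helper1.le_pCore hn hQ.2.1) hpc
    have : L ≤ K := le_trans hLKQ (sup_le le_rfl hQK)
    exact lt_irrefl _ (lt_of_lt_of_le hKL this)
  obtain ⟨H, hHco, hNH⟩ :=
    (eq_top_or_exists_le_coatom (Subgroup.normalizer (Q : Set G))).resolve_left hN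
  have hQH : Q ≤ H := le_trans Subgroup.le_normalizer hNH
  have hfr := hQ.frattini
  refine ⟨H, L, hHco, ?_, hLn, hKL, ?_⟩
  · rw [eq_top_iff, ← hfr]
    refine sup_le (le_sup_of_le_right hNH) (le_trans hLKQ (sup_le le_sup_left ?_))
    exact le_sup_of_le_right hQH
  · obtain ⟨R₁, hR₁⟩ : ∃ R₁ : Subgroup G, R₁ = H.normalCore ⊓ L := ⟨_, rfl⟩
    rw [← hR₁]
    haveI hR₁n : R₁.Normal := by rw [hR₁]; infer_instance
    have hR₁L : R₁ ≤ L := by rw [hR₁]; exact inf_le_right
    have hR₁H : R₁ ≤ H := by rw [hR₁]; exact le_trans inf_le_left H.normalCore_le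
    by_contra hnot
    -- minimality gives `L = K ⊔ R₁`
    have hL1le : K ⊔ R₁ ≤ L := sup_le hKL.le hR₁L
    have hL1 : K ⊔ R₁ = L := by
      apply Subgroup.eq_of_le_of_card_ge hL1le
      apply hmin q _ hq inferInstance
      · refine lt_of_le_of_ne le_sup_left ?_
        intro heq
        apply hnot
        rw [heq]
        exact le_sup_right
      · intro x hx
        exact hqo x (hL1le hx)
    haveI hKqn : (pCore q G).Normal := helper1.pCore_normal q
    have hKqp : IsPGroup q (pCore q G) := helper1.pCore_isPGroup q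
    have hKqQ : pCore q G ≤ Q := hQ.normal_le hKqp (le_trans hpc hKL.le)
    have hKqR : pCore q G ≤ R₁ := by
      rw [hR₁]
      exact le_inf (Subgroup.normal_le_normalCore.mpr (le_trans hKqQ hQH)) (le_trans hpc hKL.le)
    -- the index of `R₁` in `L` is prime to `q`
    have hidx : ¬ q ∣ R₁.relIndex L := by
      have e1 : R₁.relIndex L = R₁.relIndex K := by
        rw [← hL1, sup_comm]
        exact Subgroup.relIndex_sup_left K R₁
      rw [e1, ← Subgroup.inf_relIndex_right]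
      intro hd
      have h1 : (R₁ ⊓ K).relIndex K ∣ (pCore q G).relIndex K :=
        Subgroup.relIndex_dvd_of_le_left K (le_inf hKqR hpc)
      have h2 := helper1.not_dvd_relIndex_pCore (G := G) q
      rw [← helper1.fitting_eq_iSup_pCore, ← hKF] at h2
      exact h2 (dvd_trans hd h1)
    -- hence `Q ≤ R₁`
    have hQR : Q ≤ R₁ := by
      obtain ⟨k, hk⟩ := IsPGroup.iff_card.mp hQ.2.1
      have h1 : R₁.relIndex Q ∣ R₁.relIndex L := by
        have := Subgroup.relIndex_dvd_index_of_normal (R₁.subgroupOf L) (Q.subgroupOf L)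
        rwa [Subgroup.relIndex_subgroupOf hQ.1] at this
      have h2 : R₁.relIndex Q ∣ q ^ k := by
        rw [← hk]
        exact Subgroup.relIndex_dvd_card _ _
      exact Subgroup.relIndex_eq_one.mp (bg_eq_one_of_dvd_pow_of_not_dvd hq h2 h1 hidx)
    have hS' : IsSyl q Q R₁ := hQ.mono hQR hR₁L
    have h2 := hS'.frattini
    apply hHco.1
    rw [eq_top_iff, ← h2]
    exact sup_le hNH hR₁H

end BGgrp

end Cfsg.Agent.helper22
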