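import Mathlib
import Cfsg.Agent.Lib_helper22_BGgrp
import Cfsg.Agent.Lib_helper22_RepGroup
import Cfsg.Agent.Lib_helper12_CharOps
import Cfsg.Agent.Lib_helper12_IndFun
import Cfsg.Agent.Lib_helper24_CharNormal
import Cfsg.Agent.Lib_helper24_CharCod
import Cfsg.Agent.Lib_helper24_CharKer
import Cfsg.Agent.Lib_helper24_CharValues
import Cfsg.Agent.Lib_helper24_CharCount

set_option autoImplicit false
set_option linter.unusedSectionVars false
set_option linter.unusedVariables false
set_option linter.style.haveILetI false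

/-!
Character-theoretic part of the Broline–Garrison theorem (helper22).
-/

namespace Cfsg.Agent.helper22

open Cfsg
open scoped ComplexConjugate

universe u

theorem complex_eq_of_norm_le_of_add {z w : ℂ} {a b : ℝ} (hz : ‖z‖ ≤ a) (hw : ‖w‖ ≤ b)
    (h : z + w = ((a + b : ℝ) : ℂ)) : z = (a : ℂ) := by
  have h1 : z.re ≤ ‖z‖ := Complex.re_le_norm z
  have h2 : w.re ≤ ‖w‖ := Complex.re_le_norm w
  have h3 : z.re + w.re = a + b := by
    have := congrArg Complex.re h
    simpa using this
  have h4 : z.re = a := by linarith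
  have h5 : ‖z‖ ^ 2 = z.re * z.re + z.im * z.im := by
    rw [Complex.sq_norm, Complex.normSq_apply]
  have h6 : ‖z‖ ^ 2 ≤ a ^ 2 := by
    have h0 : 0 ≤ ‖z‖ := norm_nonneg z
    nlinarith
  have h7 : z.im = 0 := by
    have : z.im * z.im ≤ 0 := by
      rw [h4] at h5
      nlinarith
    nlinarith [mul_self_nonneg z.im]
  apply Complex.ext
  · simpa using h4
  · simpa using h7

section BGchar

theorem bg_char_eq_zero_of_apply_one {H : Type u} [Group H] [Finite H] {f : H → ℂ}
    (hf : IsCharacter H f) (h1 : f 1 = 0) : f = 0 := by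
  funext g
  have := helper24.char_norm_le hf g
  rw [h1, norm_zero] at this
  exact norm_le_zero_iff.mp this

/-- if an irreducible `ϑ` occurs in the character `Ψ`, then `Ψ - ϑ` is a character -/
theorem isCharacter_sub_irr {H : Type u} [Group H] [Fintype H] {Ψ ϑ : H → ℂ}
    (hΨ : IsCharacter H Ψ) (hϑ : IsIrrCharacter H ϑ) (hne : classInner Ψ ϑ ≠ 0) :
    IsCharacter H (Ψ - ϑ) := by
  apply helper12.isCharacter_of_classInner_nat
  · exact helper24.isClassFunction_sub (helper24.char_isClassFunction hΨ)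
      (helper24.char_isClassFunction (helper24.irr_isCharacter hϑ))
  · intro η
    obtain ⟨a, ha⟩ := helper12.classInner_char_nat hΨ (helper24.irr_isCharacter η.2)
    rw [helper24.classInner_sub_left, ha, helper24.irr_classInner hϑ η.2]
    by_cases h : ϑ = (η : H → ℂ)
    · rw [if_pos h]
      have ha0 : a ≠ 0 := by
        intro h0
        apply hne
        rw [h, ha, h0, Nat.cast_zero]
      refine ⟨a - 1, ?_⟩
      rw [Nat.cast_sub (Nat.one_le_iff_ne_zero.mpr ha0), Nat.cast_one]
    · rw [if_neg h]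
      exact ⟨a, by rw [sub_zero]⟩

variable {G : Type u} [Group G] [Fintype G]

/-- restriction of an irreducible character to a supplement of a normal subgroup of its kernel -/
theorem res_irr_of_sup_eq_top {ψ : G → ℂ} (hψ : IsIrrCharacter G ψ) (N : Subgroup G) [N.Normal]
    (hN : ∀ n ∈ N, ψ n = ψ 1) (H : Subgroup G) (hNH : N ⊔ H = ⊤) :
    IsIrrCharacter H (fun h : H => ψ (h : G)) := by
  obtain ⟨ψ', hψ', rfl⟩ := helper24.irr_deflation N hψ hN
  have hf : Function.Surjective ((QuotientGroup.mk' N).comp H.subtype) := by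
    intro y
    obtain ⟨g, rfl⟩ := QuotientGroup.mk'_surjective N y
    have hg : g ∈ ((N ⊔ H : Subgroup G) : Set G) := by rw [hNH]; trivial
    rw [Subgroup.normal_mul] at hg
    obtain ⟨a, ha, b, hb, rfl⟩ := Set.mem_mul.mp hg
    refine ⟨⟨b, hb⟩, ?_⟩
    show (QuotientGroup.mk' N) b = (QuotientGroup.mk' N) (a * b)
    have h1 : (QuotientGroup.mk' N) a = 1 := (QuotientGroup.eq_one_iff a).mpr ha
    rw [map_mul, h1, one_mul]
  exact isIrrCharacter_comp_surjective _ hf hψ'

theorem bg_core (χ : IrrCharacter G) (K : Subgroup G) [K.Normal]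
    (hK : ∀ g : G, g ∈ K ↔ (χ : G → ℂ) g = (χ : G → ℂ) 1) (H : Subgroup G) (hH : IsCoatom H)
    (hKH : K ⊔ H = ⊤) :
    (∃ ψ : IrrCharacter G, charDegree (χ : G → ℂ) < charDegree (ψ : G → ℂ) ∧
      ∃ L : Subgroup G, (∀ g : G, g ∈ L ↔ (ψ : G → ℂ) g = (ψ : G → ℂ) 1) ∧ L < K) ∨
    (∀ h ∈ H, (χ : G → ℂ) h ≠ 0 → h ∈ H.normalCore) := by
  classical
  haveI : Fintype H := Fintype.ofFinite _
  haveI : Fintype (IrrCharacter G) := Fintype.ofFinite _
  obtain ⟨ϑ, hϑdef⟩ : ∃ ϑ : H → ℂ, ϑ = fun h : H => (χ : G → ℂ) (h : G) := ⟨_, rfl⟩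
  have hϑval : ∀ h : H, ϑ h = (χ : G → ℂ) (h : G) := fun h => by rw [hϑdef]
  have hϑirr : IsIrrCharacter H ϑ := by
    rw [hϑdef]
    exact res_irr_of_sup_eq_top χ.2 K (fun n hn => (hK n).mp hn) H hKH
  have hϑch := helper24.irr_isCharacter hϑirr
  have hχch := helper24.irr_isCharacter χ.2
  have hχ1 : (χ : G → ℂ) 1 ≠ 0 := helper24.irr_apply_one_ne_zero χ.2
  have hΦ : IsCharacter G (indFun H ϑ) := helper12.isCharacter_indFun H hϑch
  obtain ⟨n, hexp, hn, _⟩ := helper12.char_decomp hΦ
  have hfrob : ∀ ψ : IrrCharacter G,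
      classInner ϑ (fun h : H => (ψ : G → ℂ) (h : G)) = n ψ := by
    intro ψ
    rw [← helper12.classInner_indFun_eq_restrict H ϑ _
      (helper24.char_isClassFunction (helper24.irr_isCharacter ψ.2))]
    exact hn ψ
  have hdiff : ∀ ψ : IrrCharacter G, n ψ ≠ 0 →
      IsCharacter H ((fun h : H => (ψ : G → ℂ) (h : G)) - ϑ) := by
    intro ψ hψ
    apply isCharacter_sub_irr (helper12.isCharacter_restrict H (helper24.irr_isCharacter ψ.2))
      hϑirr
    rw [← helper24.classInner_conj_symm, hfrob ψ, Complex.conj_natCast]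
    exact_mod_cast hψ
  by_cases hex : ∃ ψ : IrrCharacter G, n ψ ≠ 0 ∧
      charDegree (χ : G → ℂ) < charDegree (ψ : G → ℂ)
  · left
    obtain ⟨ψ, hnψ, hdeg⟩ := hex
    have hψch := helper24.irr_isCharacter ψ.2
    obtain ⟨N, hNdef⟩ : ∃ N : Subgroup G, N = helper24.charKer hψch := ⟨_, rfl⟩
    haveI hNn : N.Normal := by rw [hNdef]; infer_instance
    have hNmem : ∀ g : G, g ∈ N ↔ (ψ : G → ℂ) g = (ψ : G → ℂ) 1 := by
      intro g
      rw [hNdef]
      exact helper24.mem_charKer hψch g
    refine ⟨ψ, hdeg, N, hNmem, ?_⟩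
    have hnotsup : ¬ (N ⊔ H = ⊤) := by
      intro hsup
      have hirr := res_irr_of_sup_eq_top ψ.2 N (fun n hn => (hNmem n).mp hn) H hsup
      have heq : ϑ = fun h : H => (ψ : G → ℂ) (h : G) := by
        by_contra hne
        have := helper24.irr_classInner_ne hϑirr hirr hne
        rw [hfrob ψ] at this
        exact hnψ (by exact_mod_cast this)
      have h1 : (χ : G → ℂ) 1 = (ψ : G → ℂ) 1 := by
        have := congrFun heq 1
        rw [hϑval] at this
        simpa using this
      unfold charDegree at hdeg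
      rw [h1] at hdeg
      exact lt_irrefl _ hdeg
    have hNH : N ≤ H := by
      by_contra hnot
      exact hnotsup (hH.2 _ (right_lt_sup.mpr hnot))
    have hNK : N ≤ K := by
      intro g hg
      have hgH := hNH hg
      rw [hK g]
      have hf := hdiff ψ hnψ
      obtain ⟨dχ, hdχ⟩ := helper24.char_apply_one hχch
      obtain ⟨k, hk⟩ := helper24.char_apply_one hf
      have hb1 : ‖(χ : G → ℂ) g‖ ≤ (dχ : ℝ) := by
        have := helper24.char_norm_le hχch g
        rw [hdχ] at this
        simpa using this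
      have hb2 : ‖((fun h : H => (ψ : G → ℂ) (h : G)) - ϑ) ⟨g, hgH⟩‖ ≤ (k : ℝ) := by
        have := helper24.char_norm_le hf ⟨g, hgH⟩
        rw [hk] at this
        simpa using this
      have hsum : (χ : G → ℂ) g + ((fun h : H => (ψ : G → ℂ) (h : G)) - ϑ) ⟨g, hgH⟩ =
          (((dχ : ℝ) + (k : ℝ) : ℝ) : ℂ) := by
        have e1 : ((fun h : H => (ψ : G → ℂ) (h : G)) - ϑ) ⟨g, hgH⟩ =
            (ψ : G → ℂ) g - (χ : G → ℂ) g := by
          rw [Pi.sub_apply, hϑval]
        have e2 : ((fun h : H => (ψ : G → ℂ) (h : G)) - ϑ) 1 =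
            (ψ : G → ℂ) 1 - (χ : G → ℂ) 1 := by
          rw [Pi.sub_apply, hϑval]
          rfl
        rw [e1, (hNmem g).mp hg]
        rw [e2] at hk
        push_cast
        rw [← hdχ, ← hk]
        ring
      have := complex_eq_of_norm_le_of_add hb1 hb2 hsum
      rw [this, hdχ]
      simp
    refine lt_of_le_of_ne hNK ?_
    intro heq
    apply hnotsup
    rw [heq]
    exact hKH
  · right
    push Not at hex
    have hres : ∀ ψ : IrrCharacter G, n ψ ≠ 0 → ∀ h : H, (ψ : G → ℂ) (h : G) = (χ : G → ℂ) h := by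
      intro ψ hψ
      have hf := hdiff ψ hψ
      obtain ⟨k, hk⟩ := helper24.char_apply_one hf
      have e2 : ((fun h : H => (ψ : G → ℂ) (h : G)) - ϑ) 1 =
          (ψ : G → ℂ) 1 - (χ : G → ℂ) 1 := by
        rw [Pi.sub_apply, hϑval]
        rfl
      rw [e2] at hk
      have h1 : (charDegree (ψ : G → ℂ) : ℂ) = (charDegree (χ : G → ℂ) : ℂ) + (k : ℂ) := by
        rw [helper24.char_charDegree_cast (helper24.irr_isCharacter ψ.2),
          helper24.char_charDegree_cast hχch, ← hk]
        ring
      have h2 : charDegree (ψ : G → ℂ) = charDegree (χ : G → ℂ) + k := by exact_mod_cast h1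
      have h3 := hex ψ hψ
      have hk0 : k = 0 := by omega
      have hf0 : ((fun h : H => (ψ : G → ℂ) (h : G)) - ϑ) = 0 := by
        apply bg_char_eq_zero_of_apply_one hf
        rw [e2, hk, hk0, Nat.cast_zero]
      intro h
      have := congrFun hf0 h
      rw [Pi.sub_apply, hϑval, Pi.zero_apply, sub_eq_zero] at this
      exact this
    obtain ⟨S, hS⟩ : ∃ S : ℂ, S = ∑ ψ : IrrCharacter G, (n ψ : ℂ) := ⟨_, rfl⟩
    have hval : ∀ h : G, h ∈ H → indFun H ϑ h = S * (χ : G → ℂ) h := by
      intro h hh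
      have := congrFun hexp h
      rw [this, Finset.sum_apply, hS, Finset.sum_mul]
      apply Finset.sum_congr rfl
      intro ψ _
      rw [Pi.smul_apply, smul_eq_mul]
      by_cases h0 : n ψ = 0
      · rw [h0, Nat.cast_zero, zero_mul, zero_mul]
      · rw [hres ψ h0 ⟨h, hh⟩]
    -- explicit form of the induced function on `H`
    have hexpl : ∀ h : G, h ∈ H → indFun H ϑ h = (Nat.card H : ℂ)⁻¹ *
        (((Finset.univ.filter (fun x : G => x⁻¹ * h * x ∈ H)).card : ℂ) * (χ : G → ℂ) h) := by
      intro h hh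
      unfold indFun
      congr 1
      rw [← nsmul_eq_mul, ← Finset.sum_const, Finset.sum_filter]
      apply Finset.sum_congr rfl
      intro x _
      by_cases hx : x⁻¹ * h * x ∈ H
      · rw [if_pos hx, helper12.extendByZero_of_mem' H ϑ _ hx, hϑval]
        have := helper24.char_isClassFunction hχch h x⁻¹
        rw [inv_inv] at this
        exact this
      · rw [if_neg hx, helper12.extendByZero_of_not_mem' H ϑ _ hx]
    have hH0 : (Nat.card H : ℂ)⁻¹ ≠ 0 := inv_ne_zero (Nat.cast_ne_zero.mpr Nat.card_pos.ne')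
    have hS1 : S = (Nat.card H : ℂ)⁻¹ * (Fintype.card G : ℂ) := by
      have h1 := hval 1 H.one_mem
      rw [hexpl 1 H.one_mem] at h1
      have hfil : (Finset.univ.filter (fun x : G => x⁻¹ * 1 * x ∈ H)) = Finset.univ := by
        apply Finset.filter_true_of_mem
        intro x _
        rw [mul_one, inv_mul_cancel]
        exact H.one_mem
      rw [hfil, Finset.card_univ, ← mul_assoc] at h1
      exact (mul_right_cancel₀ hχ1 h1).symm
    intro h hh hχh
    have h1 := hval h hh
    rw [hexpl h hh, hS1, ← mul_assoc] at h1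
    have h2 := mul_left_cancel₀ hH0 (mul_right_cancel₀ hχh h1)
    have h3 : (Finset.univ.filter (fun x : G => x⁻¹ * h * x ∈ H)).card = Fintype.card G := by
      exact_mod_cast h2
    have h4 : (Finset.univ.filter (fun x : G => x⁻¹ * h * x ∈ H)) = Finset.univ :=
      (Finset.card_eq_iff_eq_univ _).mp h3
    show ∀ b : G, b * h * b⁻¹ ∈ H
    intro b
    have : b⁻¹ ∈ Finset.univ.filter (fun x : G => x⁻¹ * h * x ∈ H) := by
      rw [h4]
      exact Finset.mem_univ _
    rw [Finset.mem_filter, inv_inv] at this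
    exact this.2

end BGchar

section BGmain

/-- **Broline–Garrison** -/
theorem broline_garrison {G : Type u} [Group G] [Finite G] (χ : IrrCharacter G) (K : Subgroup G)
    [K.Normal] (hK : ∀ g : G, g ∈ K ↔ (χ : G → ℂ) g = (χ : G → ℂ) 1)
    (h : ¬ K ≤ fittingSubgroup G ∨
      (K = fittingSubgroup G ∧ Group.IsSolvable (G ⧸ K) ∧ K ≠ ⊤)) :
    ∃ ψ : IrrCharacter G, charDegree (χ : G → ℂ) < charDegree (ψ : G → ℂ) ∧
      ∃ L : Subgroup G, (∀ g : G, g ∈ L ↔ (ψ : G → ℂ) g = (ψ : G → ℂ) 1) ∧ L < K := by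
  classical
  haveI : Fintype G := Fintype.ofFinite G
  have hχ1 := helper24.irr_apply_one_ne_zero χ.2
  rcases h with hA | ⟨hKF, hsol, hKtop⟩
  · obtain ⟨H, hHco, hKH, hnot⟩ := bg_caseA K hA
    rcases bg_core χ K hK H hHco hKH with hgood | hbad
    · exact hgood
    · exfalso
      apply hnot
      intro g hg
      apply hbad g hg.2
      rw [(hK g).mp hg.1]
      exact hχ1
  · obtain ⟨H, L, hHco, hKH, hLn, hKL, hcore⟩ := bg_caseB K hKF hsol hKtop
    rcases bg_core χ K hK H hHco hKH with hgood | hbad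
    · exact hgood
    · exfalso
      haveI := hLn
      obtain ⟨χ', hχ', hχeq⟩ := helper24.irr_deflation K χ.2 (fun n hn => (hK n).mp hn)
      have hv : ∀ y ∈ L, y ∉ K → (χ : G → ℂ) y = 0 := by
        intro y hyL hyK
        have hy : y ∈ ((K ⊔ H : Subgroup G) : Set G) := by rw [hKH]; trivial
        rw [Subgroup.normal_mul] at hy
        obtain ⟨a, ha, b, hb, rfl⟩ := Set.mem_mul.mp hy
        have hbL : b ∈ L := by
          have : b = a⁻¹ * (a * b) := by group
          rw [this]
          exact L.mul_mem (L.inv_mem (hKL.le ha)) hyL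
        have hbK : b ∉ K := fun hbK => hyK (K.mul_mem ha hbK)
        have hval : (χ : G → ℂ) (a * b) = (χ : G → ℂ) b := by
          rw [hχeq]
          show χ' ((QuotientGroup.mk' K) (a * b)) = χ' ((QuotientGroup.mk' K) b)
          have h1 : (QuotientGroup.mk' K) a = 1 := (QuotientGroup.eq_one_iff a).mpr ha
          rw [map_mul, h1, one_mul]
        rw [hval]
        by_contra hne
        exact hbK (hcore ⟨hbad b hb hne, hbL⟩)
      rcases helper24.irr_normal_dichotomy χ.2 L with h0 | h1
      · have h00 := h0 1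
        simp only [one_mul] at h00
        have hsum : ∑ h : G, (if h ∈ L then (χ : G → ℂ) h else 0) =
            ∑ h : G, (if h ∈ K then (χ : G → ℂ) 1 else 0) := by
          apply Finset.sum_congr rfl
          intro g _
          by_cases hgK : g ∈ K
          · rw [if_pos (hKL.le hgK), if_pos hgK, (hK g).mp hgK]
          · rw [if_neg hgK]
            by_cases hgL : g ∈ L
            · rw [if_pos hgL, hv g hgL hgK]
            · rw [if_neg hgL]
        rw [hsum, ← Finset.sum_filter, Finset.sum_const, nsmul_eq_mul] at h00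
        rcases mul_eq_zero.mp h00 with hc | hc
        · have hc0 : (Finset.univ.filter (fun g : G => g ∈ K)).card = 0 := by exact_mod_cast hc
          rw [Finset.card_eq_zero] at hc0
          have h1 : (1 : G) ∈ Finset.univ.filter (fun g : G => g ∈ K) :=
            Finset.mem_filter.mpr ⟨Finset.mem_univ _, K.one_mem⟩
          rw [hc0] at h1
          exact absurd h1 (Finset.notMem_empty _)
        · exact hχ1 hc
      · have : L ≤ K := fun g hg => (hK g).mpr (h1 g hg)
        exact lt_irrefl _ (lt_of_lt_of_le hKL this)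

end BGmain

end Cfsg.Agent.helper22
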