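import Mathlib
import Cfsg.Agent.Lib_helper24_BlockIdem
import Cfsg.Agent.Lib_helper24_CharCount
import Cfsg.Agent.Lib_helper12_Clifford
import Cfsg.Agent.Lib_helper12_CharOps

set_option autoImplicit false
set_option linter.unusedSectionVars false
set_option linter.unusedVariables false
set_option linter.style.longLine false

/-!
helper22: characters of a central product `G = U₁ U₂` (`U₁`, `U₂` commuting elementwise).
-/

namespace Cfsg.Agent.helper22

open Cfsg
open scoped ComplexConjugate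

universe u

section CentProd

variable {G : Type u} [Group G] [Fintype G]

/-- in `G = U₁ U₂` with `U₁`, `U₂` commuting elementwise every element is a product -/
theorem centProd_decomp (U₁ U₂ : Subgroup G) (hcomm : ∀ u ∈ U₁, ∀ v ∈ U₂, u * v = v * u)
    (hgen : U₁ ⊔ U₂ = ⊤) : U₁.Normal ∧ U₂.Normal ∧ ∀ g : G, ∃ a ∈ U₁, ∃ b ∈ U₂, a * b = g := by
  have hn1 : U₁.Normal := by
    rw [← Subgroup.normalizer_eq_top_iff, eq_top_iff, ← hgen, sup_le_iff]
    refine ⟨Subgroup.le_normalizer, ?_⟩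
    intro v hv
    apply Subgroup.centralizer_le_normalizer
    rw [Subgroup.mem_centralizer_iff]
    intro u hu
    exact hcomm u hu v hv
  have hn2 : U₂.Normal := by
    rw [← Subgroup.normalizer_eq_top_iff, eq_top_iff, ← hgen, sup_le_iff]
    refine ⟨?_, Subgroup.le_normalizer⟩
    intro u hu
    apply Subgroup.centralizer_le_normalizer
    rw [Subgroup.mem_centralizer_iff]
    intro v hv
    exact (hcomm u hu v hv).symm
  refine ⟨hn1, hn2, ?_⟩
  intro g
  have hg : g ∈ U₁ ⊔ U₂ := by rw [hgen]; exact Subgroup.mem_top g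
  haveI := hn1
  exact Subgroup.mem_sup_of_normal_left.mp hg

/-- product formula for an irreducible character of a central product -/
theorem char_mul_of_centProd (U₁ U₂ : Subgroup G) (hcomm : ∀ u ∈ U₁, ∀ v ∈ U₂, u * v = v * u)
    (hgen : U₁ ⊔ U₂ = ⊤) {χ : G → ℂ} (hχ : IsIrrCharacter G χ) {a b : G} (ha : a ∈ U₁)
    (hb : b ∈ U₂) : χ (a * b) * χ 1 = χ a * χ b := by
  classical
  obtain ⟨-, -, hdec⟩ := centProd_decomp U₁ U₂ hcomm hgen
  have hcf := helper24.char_isClassFunction (helper24.irr_isCharacter hχ)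
  obtain ⟨v, hv⟩ : ∃ v : G → ℂ, v = fun y => ∑ g : G, if g * b * g⁻¹ = y then (1 : ℂ) else 0 :=
    ⟨_, rfl⟩
  have hvcf : IsClassFunction G v := by
    intro y k
    rw [hv]
    show (∑ g : G, if g * b * g⁻¹ = k * y * k⁻¹ then (1 : ℂ) else 0) =
      ∑ g : G, if g * b * g⁻¹ = y then (1 : ℂ) else 0
    rw [← Fintype.sum_equiv (Equiv.mulLeft k)
      (fun g : G => if (k * g) * b * (k * g)⁻¹ = k * y * k⁻¹ then (1 : ℂ) else 0)
      (fun g : G => if g * b * g⁻¹ = k * y * k⁻¹ then (1 : ℂ) else 0) (fun g => rfl)]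
    refine Finset.sum_congr rfl (fun g _ => ?_)
    have : (k * g) * b * (k * g)⁻¹ = k * y * k⁻¹ ↔ g * b * g⁻¹ = y := by
      constructor
      · intro h
        have h2 : k * (g * b * g⁻¹) * k⁻¹ = k * y * k⁻¹ := by rw [← h]; group
        exact mul_left_cancel (mul_right_cancel h2)
      · intro h
        rw [← h]; group
    simp only [this]
  have hsum : ∀ f : G → ℂ, ∑ y : G, v y * f y = ∑ g : G, f (g * b * g⁻¹) := by
    intro f
    rw [hv]
    simp only [Finset.sum_mul]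
    rw [Finset.sum_comm]
    refine Finset.sum_congr rfl (fun g _ => ?_)
    rw [Finset.sum_eq_single (g * b * g⁻¹)]
    · rw [if_pos rfl, one_mul]
    · intro y _ hy
      rw [if_neg (fun h => hy h.symm), zero_mul]
    · intro h; exact absurd (Finset.mem_univ _) h
  have h1 := helper24.sum_mul_char_shift hχ hvcf a
  rw [hsum (fun y => χ (a * y))] at h1
  unfold helper24.omegaFn at h1
  rw [hsum χ] at h1
  have h2 : ∀ g : G, χ (a * (g * b * g⁻¹)) = χ (a * b) := by
    intro g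
    obtain ⟨a', ha', b', hb', rfl⟩ := hdec g
    have e1 : a' * b' * b * (a' * b')⁻¹ = b' * b * b'⁻¹ := by
      have := hcomm a' ha' (b' * b * b'⁻¹) (U₂.mul_mem (U₂.mul_mem hb' hb) (U₂.inv_mem hb'))
      calc a' * b' * b * (a' * b')⁻¹ = a' * (b' * b * b'⁻¹) * a'⁻¹ := by group
        _ = (b' * b * b'⁻¹) * a' * a'⁻¹ := by rw [this]
        _ = b' * b * b'⁻¹ := by group
    rw [e1]
    have e2 : a * (b' * b * b'⁻¹) = b' * (a * b) * b'⁻¹ := by
      have := hcomm a ha b' hb'
      calc a * (b' * b * b'⁻¹) = (a * b') * b * b'⁻¹ := by group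
        _ = (b' * a) * b * b'⁻¹ := by rw [this]
        _ = b' * (a * b) * b'⁻¹ := by group
    rw [e2, hcf]
  have h3 : ∀ g : G, χ (g * b * g⁻¹) = χ b := fun g => hcf b g
  rw [Finset.sum_congr rfl (fun g _ => h2 g), Finset.sum_congr rfl (fun g _ => h3 g),
    Finset.sum_const, Finset.sum_const, Finset.card_univ, nsmul_eq_mul, nsmul_eq_mul] at h1
  have hG : (Fintype.card G : ℂ) ≠ 0 := by
    have : 0 < Fintype.card G := Fintype.card_pos
    exact_mod_cast this.ne'
  obtain ⟨d, hd0, hd⟩ := helper24.irr_apply_one hχ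
  have hχ1 : χ 1 ≠ 0 := by rw [hd]; exact_mod_cast hd0.ne'
  have h4 : χ (a * b) = χ b / χ 1 * χ a := by
    apply mul_left_cancel₀ hG
    rw [h1]; ring
  rw [h4]
  field_simp

/-- the restriction of an irreducible character of a central product to a factor is a multiple
of one irreducible character -/
theorem res_homogeneous_of_centProd (U₁ U₂ : Subgroup G) [Fintype U₁]
    (hcomm : ∀ u ∈ U₁, ∀ v ∈ U₂, u * v = v * u)
    (hgen : U₁ ⊔ U₂ = ⊤) {χ : G → ℂ} (hχ : IsIrrCharacter G χ) (ψ : IrrCharacter U₁)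
    (hψ : classInner (fun u : U₁ => χ u) (ψ : U₁ → ℂ) ≠ 0) :
    (fun u : U₁ => χ u) = classInner (fun u : U₁ => χ u) (ψ : U₁ → ℂ) • (ψ : U₁ → ℂ) := by
  classical
  obtain ⟨hn1, -, hdec⟩ := centProd_decomp U₁ U₂ hcomm hgen
  haveI := hn1
  haveI : Fintype (IrrCharacter U₁) := Fintype.ofFinite _
  have hres := helper12.isCharacter_restrict U₁ (helper24.irr_isCharacter hχ)
  have hexp := helper24.classFunction_expansion (helper24.char_isClassFunction hres)
  have hzero : ∀ θ : IrrCharacter U₁, θ ≠ ψ →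
      classInner (fun u : U₁ => χ u) (θ : U₁ → ℂ) = 0 := by
    intro θ hθ
    by_contra hne
    apply hθ
    obtain ⟨x, hx⟩ := helper12.clifford_conj U₁ hχ ψ.2 θ.2 hψ hne
    apply Subtype.ext
    rw [hx]
    funext n
    obtain ⟨a', ha', b', hb', rfl⟩ := hdec x
    have hcfψ := helper24.char_isClassFunction (helper24.irr_isCharacter ψ.2)
    have e1 : MulAut.conjNormal (a' * b') n = (⟨a', ha'⟩ : U₁) * n * (⟨a', ha'⟩ : U₁)⁻¹ := by
      apply Subtype.ext
      rw [MulAut.conjNormal_apply]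
      show a' * b' * (n : G) * (a' * b')⁻¹ = a' * (n : G) * a'⁻¹
      have := hcomm (n : G) n.2 b' hb'
      calc a' * b' * (n : G) * (a' * b')⁻¹ = a' * (b' * (n : G)) * b'⁻¹ * a'⁻¹ := by group
        _ = a' * ((n : G) * b') * b'⁻¹ * a'⁻¹ := by rw [this]
        _ = a' * (n : G) * a'⁻¹ := by group
    rw [e1, hcfψ]
  rw [Finset.sum_eq_single ψ] at hexp
  · exact hexp
  · intro θ _ hθ
    rw [hzero θ hθ, zero_smul]
  · intro h; exact absurd (Finset.mem_univ _) h

/-- raising to a suitable power kills the `p`-part -/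
theorem exists_pow_pregular (p : ℕ) [Fact p.Prime] (g : G) (hg : ¬ p ∣ orderOf g) :
    ∃ k : ℕ, g ^ k = g ∧ ∀ w : G, ¬ p ∣ orderOf (w ^ k) := by
  have hp : p.Prime := Fact.out
  have hcard : Nat.card G ≠ 0 := Nat.card_pos.ne'
  obtain ⟨e, m, hm, hGm⟩ := Nat.exists_eq_pow_mul_and_not_dvd hcard p hp.ne_one
  have hn0 : 0 < orderOf g := orderOf_pos g
  have hcop : (p ^ e).Coprime (orderOf g) :=
    Nat.Coprime.pow_left e ((Nat.Prime.coprime_iff_not_dvd hp).mpr hg)
  refine ⟨(p ^ e) ^ (orderOf g).totient, ?_, ?_⟩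
  · have h1 : (p ^ e) ^ (orderOf g).totient ≡ 1 [MOD orderOf g] := Nat.ModEq.pow_totient hcop
    have h2 := (pow_eq_pow_iff_modEq (x := g)).mpr h1
    rw [h2, pow_one]
  · intro w hdvd
    have htot : 0 < (orderOf g).totient := Nat.totient_pos.mpr hn0
    have h1 : p ^ e ∣ (p ^ e) ^ (orderOf g).totient := dvd_pow_self _ htot.ne'
    have h2 : (w ^ ((p ^ e) ^ (orderOf g).totient)) ^ m = 1 := by
      rw [← pow_mul]
      have h3 : Nat.card G ∣ (p ^ e) ^ (orderOf g).totient * m := by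
        rw [hGm]; exact Nat.mul_dvd_mul_right h1 m
      obtain ⟨c, hc⟩ := h3
      rw [hc, pow_mul, pow_card_eq_one', one_pow]
    have h4 : orderOf (w ^ ((p ^ e) ^ (orderOf g).totient)) ∣ m := orderOf_dvd_of_pow_eq_one h2
    exact hm (hdvd.trans h4)

/-- the `p`-regular elements of a central product whose factors meet in a `p`-group are the
products of the `p`-regular elements of the factors, uniquely -/
theorem preg_sum_centProd (p : ℕ) [Fact p.Prime] (U₁ U₂ : Subgroup G) [Fintype U₁] [Fintype U₂]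
    (hcomm : ∀ u ∈ U₁, ∀ v ∈ U₂, u * v = v * u) (hgen : U₁ ⊔ U₂ = ⊤)
    (hZ : IsPGroup p ↥(U₁ ⊓ U₂)) (f : G → ℂ) :
    ∑ g ∈ Finset.univ.filter (fun g : G => ¬ p ∣ orderOf g), f g =
      ∑ a ∈ Finset.univ.filter (fun a : U₁ => ¬ p ∣ orderOf a),
        ∑ b ∈ Finset.univ.filter (fun b : U₂ => ¬ p ∣ orderOf b), f ((a : G) * (b : G)) := by
  classical
  have hp : p.Prime := Fact.out
  obtain ⟨-, -, hdec⟩ := centProd_decomp U₁ U₂ hcomm hgen
  rw [← Finset.sum_product']
  symm
  apply Finset.sum_bij (fun (x : U₁ × U₂) _ => (x.1 : G) * (x.2 : G))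
  · intro x hx
    rw [Finset.mem_product, Finset.mem_filter, Finset.mem_filter] at hx
    rw [Finset.mem_filter]
    refine ⟨Finset.mem_univ _, ?_⟩
    intro hdvd
    have hc : Commute (x.1 : G) (x.2 : G) := hcomm _ x.1.2 _ x.2.2
    have h1 := hdvd.trans hc.orderOf_mul_dvd_lcm
    rw [Nat.Prime.dvd_lcm hp, Subgroup.orderOf_coe, Subgroup.orderOf_coe] at h1
    rcases h1 with h1 | h1
    · exact hx.1.2 h1
    · exact hx.2.2 h1
  · intro x hx y hy hxy
    rw [Finset.mem_product, Finset.mem_filter, Finset.mem_filter] at hx hy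
    have hxy' : (x.1 : G) * (x.2 : G) = (y.1 : G) * (y.2 : G) := hxy
    -- z = y₁⁻¹ x₁ = y₂ x₂⁻¹
    obtain ⟨z, hz⟩ : ∃ z : G, z = (y.1 : G)⁻¹ * (x.1 : G) := ⟨_, rfl⟩
    have hz2 : z = (y.2 : G) * (x.2 : G)⁻¹ := by
      rw [hz]
      have : (x.1 : G) = (y.1 : G) * (y.2 : G) * (x.2 : G)⁻¹ := by rw [← hxy']; group
      rw [this]; group
    have hz1m : z ∈ U₁ := by rw [hz]; exact U₁.mul_mem (U₁.inv_mem y.1.2) x.1.2
    have hz2m : z ∈ U₂ := by rw [hz2]; exact U₂.mul_mem y.2.2 (U₂.inv_mem x.2.2)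
    have hzZ : z ∈ U₁ ⊓ U₂ := Subgroup.mem_inf.mpr ⟨hz1m, hz2m⟩
    obtain ⟨j, hj⟩ := hZ ⟨z, hzZ⟩
    have hj' : z ^ (p ^ j) = 1 := by
      have := congrArg Subtype.val hj
      simpa using this
    have hdvd : orderOf z ∣ p ^ j := orderOf_dvd_of_pow_eq_one hj'
    obtain ⟨i, -, hi⟩ := (Nat.dvd_prime_pow hp).mp hdvd
    have hx1 : (x.1 : G) = (y.1 : G) * z := by rw [hz]; group
    have hcz : Commute (y.1 : G) z := hcomm _ y.1.2 _ hz2m
    have hcomm2 : Commute ((y.1 : G)⁻¹) (x.1 : G) := by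
      rw [hx1]
      exact (Commute.inv_left (Commute.mul_right (Commute.refl _) hcz))
    have hz1 : z = 1 := by
      by_contra hne
      have hi0 : i ≠ 0 := by
        rintro rfl
        rw [pow_zero, orderOf_eq_one_iff] at hi
        exact hne hi
      have hpz : p ∣ orderOf z := by rw [hi]; exact dvd_pow_self p hi0
      have h1 : p ∣ (orderOf ((y.1 : G)⁻¹)).lcm (orderOf (x.1 : G)) := by
        have := hcomm2.orderOf_mul_dvd_lcm
        rw [← hz] at this
        exact hpz.trans this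
      rw [Nat.Prime.dvd_lcm hp, orderOf_inv, Subgroup.orderOf_coe, Subgroup.orderOf_coe] at h1
      rcases h1 with h1 | h1
      · exact hy.1.2 h1
      · exact hx.1.2 h1
    have e1 : (x.1 : G) = (y.1 : G) := by rw [hx1, hz1, mul_one]
    have e2 : (x.2 : G) = (y.2 : G) := by
      have h5 : (y.2 : G) = z * (x.2 : G) := by rw [hz2]; group
      rw [h5, hz1, one_mul]
    exact Prod.ext (Subtype.ext e1) (Subtype.ext e2)
  · intro g hg
    rw [Finset.mem_filter] at hg
    obtain ⟨k, hk1, hk2⟩ := exists_pow_pregular p g hg.2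
    obtain ⟨a, ha, b, hb, hab⟩ := hdec g
    refine ⟨(⟨a ^ k, U₁.pow_mem ha k⟩, ⟨b ^ k, U₂.pow_mem hb k⟩), ?_, ?_⟩
    · rw [Finset.mem_product, Finset.mem_filter, Finset.mem_filter]
      refine ⟨⟨Finset.mem_univ _, ?_⟩, ⟨Finset.mem_univ _, ?_⟩⟩
      · rw [← Subgroup.orderOf_coe]; exact hk2 a
      · rw [← Subgroup.orderOf_coe]; exact hk2 b
    · show a ^ k * b ^ k = g
      have hc : Commute a b := hcomm a ha b hb
      rw [← hc.mul_pow, hab, hk1]
  · intro x hx
    rfl

end CentProd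

end Cfsg.Agent.helper22
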