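import Mathlib
import Cfsg.Agent.Lib_helper22_RepGroup2
import Cfsg.Agent.Lib_helper24_Brauer
import Cfsg.Agent.Lib_helper12_CharOps

set_option autoImplicit false
set_option linter.unusedSectionVars false
set_option linter.unusedVariables false

/-!
Dade's `p`-elementary detection (Isaacs 8.24) and consequences (helper22).
-/

namespace Cfsg.Agent.helper22

open Cfsg
open scoped ComplexConjugate

universe u

section FixedPoints

/-- weighted fixed point congruence for a `p`-subgroup -/
theorem sum_fixed_modEq {Γ α : Type*} [Group Γ] [MulAction Γ α] [Fintype α] (p : ℕ)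
    [Fact p.Prime] (H : Subgroup Γ) (hH : IsPGroup p H) (f : α → ℕ)
    (hf : ∀ h ∈ H, ∀ a, f (h • a) = f a) [DecidablePred (fun s : α => ∀ h ∈ H, h • s = s)] :
    ∑ a, f a ≡ ∑ a ∈ Finset.univ.filter (fun s : α => ∀ h ∈ H, h • s = s), f a [MOD p] := by
  classical
  obtain ⟨B, hB⟩ : ∃ B : ℕ, ∀ a, f a ≤ B := ⟨∑ a, f a, fun a =>
    Finset.single_le_sum (f := f) (fun _ _ => Nat.zero_le _) (Finset.mem_univ a)⟩
  have hlayer : ∀ a, f a = ∑ k ∈ Finset.range B, if k < f a then 1 else 0 := by
    intro a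
    rw [Finset.sum_boole]
    have : (Finset.range B).filter (fun k => k < f a) = Finset.range (f a) := by
      ext k
      simp only [Finset.mem_filter, Finset.mem_range]
      constructor
      · exact fun h => h.2
      · exact fun h => ⟨lt_of_lt_of_le h (hB a), h⟩
    rw [this, Finset.card_range]
    simp
  have h1 : ∀ S : Finset α, ∑ a ∈ S, f a =
      ∑ k ∈ Finset.range B, (S.filter (fun a => k < f a)).card := by
    intro S
    rw [Finset.sum_congr rfl (fun a _ => hlayer a), Finset.sum_comm]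
    apply Finset.sum_congr rfl
    intro k _
    rw [Finset.sum_boole]
    simp
  rw [h1 Finset.univ, h1]
  rw [← ZMod.natCast_eq_natCast_iff, Nat.cast_sum, Nat.cast_sum]
  apply Finset.sum_congr rfl
  intro k _
  rw [ZMod.natCast_eq_natCast_iff]
  have h2 := card_filter_fixed_modEq p H hH (Finset.univ.filter (fun a => k < f a))
    (fun h hh s hs => by
      rw [Finset.mem_filter] at hs ⊢
      exact ⟨Finset.mem_univ _, by rw [hf h hh]; exact hs.2⟩)
  rw [Finset.filter_comm]
  exact h2

end FixedPoints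

section Orbit
variable {E : Type u} [Group E] [Fintype E] (D : Subgroup E) [hD : D.Normal] [Fintype D]

theorem classInner_conjFunN_both (g : E) (a b : D → ℂ) :
    classInner (helper8.conjFunN D g a) (helper8.conjFunN D g b) = classInner a b := by
  unfold classInner
  congr 1
  apply Fintype.sum_equiv (MulAut.conjNormal g : D ≃* D).toEquiv
  intro x
  rw [helper8.conjFunN_apply, helper8.conjFunN_apply]
  have : (⟨g * x * g⁻¹, hD.conj_mem x x.2 g⟩ : D) = (MulAut.conjNormal g : D ≃* D) x := by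
    apply Subtype.ext
    rw [MulAut.conjNormal_apply]
  rw [this]
  rfl

theorem conjFunN_mul_fun (g : E) (a b : D → ℂ) :
    helper8.conjFunN D g (a * b) = helper8.conjFunN D g a * helper8.conjFunN D g b := rfl

/-- the orbit-counting step of Dade's theorem -/
theorem exists_invariant_constituent_of_index (p : ℕ) [Fact p.Prime] (hidx : ∃ k : ℕ, D.index = p ^ k)
    {α β : D → ℂ} (hα : IsCharacter D α) (hβ : IsCharacter D β)
    (hαinv : ∀ g : E, helper8.conjFunN D g α = α) (hβinv : ∀ g : E, helper8.conjFunN D g β = β)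
    (c : ℕ) (hc : classInner (α * β) α = c) (hpc : ¬ p ∣ c) :
    ∃ φ : IrrCharacter D, (∀ g : E, helper8.conjFunN D g (φ : D → ℂ) = φ) ∧
      ∃ m : ℕ, classInner α (φ : D → ℂ) = m ∧ ¬ p ∣ m := by
  classical
  haveI : Fintype (IrrCharacter D) := Fintype.ofFinite _
  obtain ⟨n, hn1, hn2, -⟩ := helper12.char_decomp hα
  choose k hk using fun φ : IrrCharacter D => helper12.classInner_char_nat
    (helper1.isCharacter_mul (helper24.irr_isCharacter φ.2) hβ) hα
  have hsum : c = ∑ φ : IrrCharacter D, n φ * k φ := by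
    have h1 : α * β = ∑ φ : IrrCharacter D, (n φ : ℂ) • ((φ : D → ℂ) * β) := by
      conv_lhs => rw [hn1]
      rw [Finset.sum_mul]
      apply Finset.sum_congr rfl
      intro φ _
      rw [smul_mul_assoc]
    have h2 : (c : ℂ) = ∑ φ : IrrCharacter D, (n φ : ℂ) * (k φ : ℂ) := by
      rw [← hc, h1, helper24.classInner_sum_left]
      apply Finset.sum_congr rfl
      intro φ _
      rw [helper24.classInner_smul_left, hk φ]
    exact_mod_cast h2
  -- invariance
  have hninv : ∀ (g : E) (φ : IrrCharacter D), n (g • φ) = n φ := by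
    intro g φ
    have h1 : classInner α ((g • φ : IrrCharacter D) : D → ℂ) = classInner α (φ : D → ℂ) := by
      rw [conjIrr_smul_coe]
      conv_lhs => rw [← hαinv g⁻¹]
      exact classInner_conjFunN_both D g⁻¹ α φ
    rw [hn2, hn2] at h1
    exact_mod_cast h1
  have hkinv : ∀ (g : E) (φ : IrrCharacter D), k (g • φ) = k φ := by
    intro g φ
    have h1 : classInner (((g • φ : IrrCharacter D) : D → ℂ) * β) α =
        classInner ((φ : D → ℂ) * β) α := by
      rw [conjIrr_smul_coe]
      conv_lhs => rw [← hαinv g⁻¹, ← hβinv g⁻¹, ← conjFunN_mul_fun]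
      exact classInner_conjFunN_both D g⁻¹ _ α
    rw [hk, hk] at h1
    exact_mod_cast h1
  -- a Sylow `p`-subgroup
  obtain ⟨Q⟩ : Nonempty (Sylow p E) := inferInstance
  have hmod := sum_fixed_modEq p (Q : Subgroup E) Q.isPGroup' (fun φ : IrrCharacter D => n φ * k φ)
    (fun h _ φ => by show n (h • φ) * k (h • φ) = n φ * k φ; rw [hninv, hkinv])
  rw [← hsum] at hmod
  -- some fixed `φ` has `p ∤ n φ`
  have hex : ∃ φ : IrrCharacter D, (∀ h ∈ (Q : Subgroup E), h • φ = φ) ∧ ¬ p ∣ n φ := by
    by_contra hno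
    push Not at hno
    apply hpc
    rw [Nat.dvd_iff_mod_eq_zero, hmod, ← Nat.dvd_iff_mod_eq_zero]
    apply Finset.dvd_sum
    intro φ hφ
    rw [Finset.mem_filter] at hφ
    exact Dvd.dvd.mul_right (hno φ hφ.2) _
  obtain ⟨φ, hφfix, hφp⟩ := hex
  refine ⟨φ, ?_, n φ, hn2 φ, hφp⟩
  -- `Q`-fixed implies `E`-fixed
  have hQT : (Q : Subgroup E) ≤ inertia D φ := by
    intro h hh
    exact MulAction.mem_stabilizer_iff.mpr (hφfix h hh)
  have hDT : D ≤ inertia D φ := le_inertia D φ
  have h1 : (inertia D φ).index ∣ (Q : Subgroup E).index := Subgroup.index_dvd_of_le hQT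
  have h2 : (inertia D φ).index ∣ D.index := Subgroup.index_dvd_of_le hDT
  obtain ⟨k', hk'⟩ := hidx
  rw [hk'] at h2
  obtain ⟨j, -, hj⟩ := (Nat.dvd_prime_pow Fact.out).mp h2
  have hj0 : j = 0 := by
    by_contra hne
    have : p ∣ (inertia D φ).index := by
      rw [hj]
      exact dvd_pow_self p hne
    exact Q.not_dvd_index (this.trans h1)
  rw [hj0, pow_zero, Subgroup.index_eq_one] at hj
  intro g
  exact (mem_inertia D).mp (hj ▸ Subgroup.mem_top g)

end Orbit

section Formula
variable {G : Type u} [Group G] [Fintype G] (N : Subgroup G) [hN : N.Normal] [Fintype N]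

/-- restriction of a function on `N` to `N ∩ E`, viewed inside `E` -/
def resSub (E : Subgroup G) (ϑ : N → ℂ) : N.subgroupOf E → ℂ :=
  fun a => ϑ ⟨((a : E) : G), a.2⟩

theorem resSub_apply (E : Subgroup G) (ϑ : N → ℂ) (a : N.subgroupOf E) :
    resSub N E ϑ a = ϑ ⟨((a : E) : G), a.2⟩ := rfl

theorem card_mul_card_sub (E : Subgroup G) :
    Nat.card G * Nat.card (N.subgroupOf E) = (E ⊔ N).index * (Nat.card N * Nat.card E) := by
  have h1 : N.relIndex E * (E ⊔ N).index = N.index := by
    rw [← Subgroup.relIndex_sup_right, Subgroup.relIndex_mul_index le_sup_right]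
  have h2 : Nat.card (N.subgroupOf E) * N.relIndex E = Nat.card E :=
    Subgroup.card_mul_index (N.subgroupOf E)
  have h3 : Nat.card N * N.index = Nat.card G := Subgroup.card_mul_index N
  rw [← h3, ← h2, ← h1]
  ring

theorem dade_inner_formula (ϑ : N → ℂ)
    (hcf : IsClassFunction N ϑ)
    (hinv : ∀ (g : G) (n : N), ϑ ⟨g * n * g⁻¹, hN.conj_mem (n : G) n.2 g⟩ = ϑ n)
    (E : Subgroup G) [Fintype E] [Fintype (N.subgroupOf E)] (ψ : E → ℂ) :
    classInner (fun n : N => ϑ n * indFun E ψ n) ϑ =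
      ((E ⊔ N).index : ℂ) *
        classInner (resSub N E ϑ * helper5.res (N.subgroupOf E) ψ) (resSub N E ϑ) := by
  classical
  obtain ⟨A, hA⟩ : ∃ A : G → ℂ, A = extendByZero N (fun n => ϑ n * conj (ϑ n)) := ⟨_, rfl⟩
  have hAmem : ∀ (g : G) (hg : g ∈ N), A g = ϑ ⟨g, hg⟩ * conj (ϑ ⟨g, hg⟩) := by
    intro g hg; rw [hA, helper5.extendByZero_of_mem N _ g hg]
  have hAnot : ∀ (g : G), g ∉ N → A g = 0 := by
    intro g hg; rw [hA, helper5.extendByZero_of_not_mem N _ g hg]
  have hAreal : ∀ g, conj (A g) = A g := by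
    intro g
    by_cases hg : g ∈ N
    · rw [hAmem g hg, map_mul, Complex.conj_conj, mul_comm]
    · rw [hAnot g hg, map_zero]
  have hAcf : IsClassFunction G A := by
    intro g h
    by_cases hg : g ∈ N
    · rw [hAmem g hg, hAmem _ (hN.conj_mem g hg h)]
      have := hinv h ⟨g, hg⟩
      rw [this]
    · have : h * g * h⁻¹ ∉ N := by
        intro hc
        apply hg
        have := hN.conj_mem _ hc h⁻¹
        simpa [mul_assoc] using this
      rw [hAnot g hg, hAnot _ this]
  -- step 1: the left side as an inner product on `G`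
  have hG0 : (Nat.card G : ℂ) ≠ 0 := by exact_mod_cast (Nat.card_pos (α := G)).ne'
  have hN0 : (Nat.card N : ℂ) ≠ 0 := by exact_mod_cast (Nat.card_pos (α := N)).ne'
  have hE0 : (Nat.card E : ℂ) ≠ 0 := by exact_mod_cast (Nat.card_pos (α := E)).ne'
  have hD0 : (Nat.card (N.subgroupOf E) : ℂ) ≠ 0 := by
    exact_mod_cast (Nat.card_pos (α := N.subgroupOf E)).ne'
  have h1 : classInner (fun n : N => ϑ n * indFun E ψ n) ϑ =
      (Nat.card G : ℂ) / (Nat.card N : ℂ) * classInner (indFun E ψ) A := by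
    unfold classInner
    have : ∑ n : N, ϑ n * indFun E ψ n * conj (ϑ n) = ∑ g : G, indFun E ψ g * conj (A g) := by
      have hR : ∑ g : G, indFun E ψ g * conj (A g) =
          ∑ g : G, extendByZero N (fun n => ϑ n * conj (ϑ n)) g * indFun E ψ g := by
        apply Finset.sum_congr rfl
        intro g _
        rw [hAreal g, mul_comm, hA]
      rw [hR, helper8.sum_extendByZero_mul N _ (indFun E ψ)]
      apply Finset.sum_congr rfl
      intro n _
      ring
    rw [this]
    field_simp
  -- step 2: Frobenius reciprocity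
  have h2 : classInner (indFun E ψ) A = classInner ψ (fun e : E => A e) :=
    helper8.frobenius E ψ A hAcf
  -- step 3: the inner product on `E` as an inner product on `N ∩ E`
  have h3 : classInner ψ (fun e : E => A e) =
      (Nat.card (N.subgroupOf E) : ℂ) / (Nat.card E : ℂ) *
        classInner (resSub N E ϑ * helper5.res (N.subgroupOf E) ψ) (resSub N E ϑ) := by
    have hAE : ∀ e : E, A e = extendByZero (N.subgroupOf E)
        (fun a => resSub N E ϑ a * conj (resSub N E ϑ a)) e := by
      intro e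
      by_cases he : (e : G) ∈ N
      · have he' : e ∈ N.subgroupOf E := he
        rw [hAmem _ he, helper5.extendByZero_of_mem _ _ e he']
        rfl
      · have he' : e ∉ N.subgroupOf E := he
        rw [hAnot _ he, helper5.extendByZero_of_not_mem _ _ e he']
    unfold classInner
    have : ∑ e : E, ψ e * conj (A e) = ∑ a : N.subgroupOf E,
        (resSub N E ϑ * helper5.res (N.subgroupOf E) ψ) a * conj (resSub N E ϑ a) := by
      have hL : ∑ e : E, ψ e * conj (A e) = ∑ e : E, extendByZero (N.subgroupOf E)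
          (fun a => resSub N E ϑ a * conj (resSub N E ϑ a)) e * ψ e := by
        apply Finset.sum_congr rfl
        intro e _
        rw [hAreal (e : G), hAE e, mul_comm]
      rw [hL, helper8.sum_extendByZero_mul (N.subgroupOf E) _ ψ]
      apply Finset.sum_congr rfl
      intro a _
      rw [Pi.mul_apply, helper5.res_apply]
      ring
    rw [this]
    field_simp
  rw [h1, h2, h3]
  have h4 := card_mul_card_sub N E
  have h5 : (Nat.card G : ℂ) * (Nat.card (N.subgroupOf E) : ℂ) =
      ((E ⊔ N).index : ℂ) * ((Nat.card N : ℂ) * (Nat.card E : ℂ)) := by exact_mod_cast h4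
  rw [← mul_assoc]
  congr 1
  rw [div_mul_div_comm, h5]
  field_simp

end Formula

section Main
variable {G : Type u} [Group G] [Fintype G] (N : Subgroup G) [hN : N.Normal] [Fintype N]

theorem isCharacter_resSub (E : Subgroup G) {ϑ : N → ℂ} (hϑ : IsCharacter N ϑ) :
    IsCharacter (N.subgroupOf E) (resSub N E ϑ) :=
  helper8.isCharacter_comp_monoidHom (E.subtype.subgroupComap N) hϑ

theorem resSub_invariant (E : Subgroup G) (ϑ : N → ℂ)
    (hinv : ∀ (g : G) (n : N), ϑ ⟨g * n * g⁻¹, hN.conj_mem (n : G) n.2 g⟩ = ϑ n) (e : E) :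
    helper8.conjFunN (N.subgroupOf E) e (resSub N E ϑ) = resSub N E ϑ := by
  funext a
  rw [helper8.conjFunN_apply, resSub_apply, resSub_apply]
  exact hinv (e : G) ⟨((a : E) : G), a.2⟩

theorem res_invariant (E : Subgroup G) {ψ : E → ℂ} (hψ : IsClassFunction E ψ) (e : E) :
    helper8.conjFunN (N.subgroupOf E) e (helper5.res (N.subgroupOf E) ψ) =
      helper5.res (N.subgroupOf E) ψ := by
  funext a
  rw [helper8.conjFunN_apply, helper5.res_apply, helper5.res_apply]
  exact hψ (a : E) e

theorem subgroupOf_index_of_sup_eq_top (E : Subgroup G) (hE : E ⊔ N = ⊤) :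
    (N.subgroupOf E).index = N.index := by
  have h1 : (N.subgroupOf E).index = N.relIndex E := rfl
  rw [h1, ← Subgroup.relIndex_sup_right, hE, Subgroup.relIndex_top_right]

theorem list_sum_int_dvd (p : ℤ) (l : List ℂ) (h : ∀ x ∈ l, ∃ a : ℤ, p ∣ a ∧ x = a) :
    ∃ a : ℤ, p ∣ a ∧ l.sum = a := by
  induction l with
  | nil => exact ⟨0, dvd_zero _, by simp⟩
  | cons x l ih =>
    obtain ⟨a, ha, hxa⟩ := h x (List.mem_cons_self)
    obtain ⟨b, hb, hlb⟩ := ih (fun y hy => h y (List.mem_cons_of_mem _ hy))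
    refine ⟨a + b, dvd_add ha hb, ?_⟩
    rw [List.sum_cons, hxa, hlb]
    push_cast
    rfl

open scoped Classical in
/-- **Dade's theorem (Isaacs 8.24).** -/
theorem dade_detection (p : ℕ) [Fact p.Prime] (hind : ∃ k : ℕ, N.index = p ^ k) (ϑ : N → ℂ)
    (hϑ : IsIrrCharacter N ϑ)
    (hinv : ∀ (g : G) (n : N), ϑ ⟨g * n * g⁻¹, hN.conj_mem (n : G) n.2 g⟩ = ϑ n) :
    ∃ (E : Subgroup G) (φ : IrrCharacter (N.subgroupOf E)), IsElementary p E ∧ E ⊔ N = ⊤ ∧
      (∀ e : E, helper8.conjFunN (N.subgroupOf E) e (φ : N.subgroupOf E → ℂ) = φ) ∧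
      ∃ m : ℕ, ¬ p ∣ m ∧ classInner (resSub N E ϑ) (φ : N.subgroupOf E → ℂ) = m := by
  have hpp : p.Prime := Fact.out
  have hϑc : IsCharacter N ϑ := helper24.irr_isCharacter hϑ
  have hϑcf : IsClassFunction N ϑ := helper24.char_isClassFunction hϑc
  obtain ⟨m₀, hm₀, hmem⟩ := helper24.bspan_local p (Nat.card G) G rfl
  obtain ⟨l, hl, hsum⟩ := helper24.bspan_list hmem
  by_contra hno
  push Not at hno
  -- the linear functional `I`
  obtain ⟨I, hI⟩ : ∃ I : (G → ℂ) → ℂ, I = fun F => classInner (fun n : N => ϑ n * F n) ϑ :=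
    ⟨_, rfl⟩
  have hI0 : I 0 = 0 := by
    rw [hI]
    show classInner (fun n : N => ϑ n * (0 : ℂ)) ϑ = 0
    simp only [mul_zero]
    exact helper24.classInner_zero_left ϑ
  have hIadd : ∀ F F', I (F + F') = I F + I F' := by
    intro F F'
    rw [hI]
    show classInner (fun n : N => ϑ n * (F n + F' n)) ϑ = _
    rw [← helper24.classInner_add_left]
    congr 1
    funext n
    rw [Pi.add_apply]
    ring
  have hIsmul : ∀ (z : ℂ) F, I (z • F) = z * I F := by
    intro z F
    rw [hI]
    show classInner (fun n : N => ϑ n * (z * F n)) ϑ = _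
    rw [← helper24.classInner_smul_left]
    congr 1
    funext n
    rw [Pi.smul_apply, smul_eq_mul]
    ring
  have hIlist : ∀ l' : List ((E : Subgroup G) × ((E → ℂ) × ℤ)),
      I ((l'.map fun t => (t.2.2 : ℂ) • indFun t.1 t.2.1).sum) =
        (l'.map fun t => (t.2.2 : ℂ) * I (indFun t.1 t.2.1)).sum := by
    intro l'
    induction l' with
    | nil => simpa using hI0
    | cons t l' ih =>
      rw [List.map_cons, List.sum_cons, hIadd, ih, hIsmul, List.map_cons, List.sum_cons]
  have hIconst : I (fun _ => (m₀ : ℂ)) = m₀ := by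
    rw [hI]
    show classInner (fun n : N => ϑ n * (m₀ : ℂ)) ϑ = m₀
    have : (fun n : N => ϑ n * (m₀ : ℂ)) = (m₀ : ℂ) • ϑ := by
      funext n
      rw [Pi.smul_apply, smul_eq_mul, mul_comm]
    rw [this, helper24.classInner_smul_left, helper24.irr_classInner_self hϑ, mul_one]
  -- each term is divisible by `p`
  have hterm : ∀ x ∈ (l.map fun t => (t.2.2 : ℂ) * I (indFun t.1 t.2.1)),
      ∃ a : ℤ, (p : ℤ) ∣ a ∧ x = a := by
    intro x hx
    obtain ⟨t, ht, rfl⟩ := List.mem_map.mp hx
    obtain ⟨hEl, hψ⟩ := hl t ht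
    have hα := isCharacter_resSub N t.1 hϑc
    have hβ : IsCharacter (N.subgroupOf t.1) (helper5.res (N.subgroupOf t.1) t.2.1) :=
      helper5.isCharacter_res _ hψ
    obtain ⟨c, hc⟩ := helper12.classInner_char_nat (helper1.isCharacter_mul hα hβ) hα
    have hform : I (indFun t.1 t.2.1) = ((t.1 ⊔ N).index : ℂ) * c := by
      rw [hI, ← hc]
      exact dade_inner_formula N ϑ hϑcf hinv t.1 t.2.1
    refine ⟨t.2.2 * (((t.1 ⊔ N).index * c : ℕ) : ℤ), ?_, by rw [hform]; push_cast; ring⟩
    apply Dvd.dvd.mul_left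
    by_cases htop : t.1 ⊔ N = ⊤
    · -- then `p ∣ c`
      have hpc : p ∣ c := by
        by_contra hpc
        have hidx : ∃ k : ℕ, (N.subgroupOf t.1).index = p ^ k := by
          rw [subgroupOf_index_of_sup_eq_top N t.1 htop]
          exact hind
        obtain ⟨φ, hφinv, m, hm, hpm⟩ := exists_invariant_constituent_of_index (N.subgroupOf t.1) p hidx
          hα hβ (resSub_invariant N t.1 ϑ hinv)
          (res_invariant N t.1 (helper24.char_isClassFunction hψ)) c hc hpc
        exact hno t.1 φ hEl htop hφinv m hpm hm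
      exact_mod_cast Dvd.dvd.mul_left hpc _
    · -- then `p ∣ index`
      have h1 : (t.1 ⊔ N).index ∣ N.index := Subgroup.index_dvd_of_le le_sup_right
      obtain ⟨k, hk⟩ := hind
      rw [hk] at h1
      obtain ⟨j, -, hj⟩ := (Nat.dvd_prime_pow hpp).mp h1
      have hj0 : j ≠ 0 := by
        intro h0
        rw [h0, pow_zero, Subgroup.index_eq_one] at hj
        exact htop hj
      have : p ∣ (t.1 ⊔ N).index := by rw [hj]; exact dvd_pow_self p hj0
      exact_mod_cast Dvd.dvd.mul_right this _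
  obtain ⟨a, ha, hsa⟩ := list_sum_int_dvd (p : ℤ) _ hterm
  rw [← hIlist l, ← hsum, hIconst] at hsa
  have : m₀ = a := by exact_mod_cast hsa
  exact hm₀ (this ▸ ha)

end Main

end Cfsg.Agent.helper22
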