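import Mathlib
import Cfsg.Agent.Lib_helper22_Dade
import Cfsg.Agent.S0187
import Cfsg.Agent.Lib_helper25_Sylow

set_option autoImplicit false
set_option linter.unusedSectionVars false
set_option linter.unusedVariables false

/-!
Isaacs 8.26 (helper22): extension of invariant characters when `G/N` is a `p`-group and
`P ∩ N ≤ Z(P)`, `P ∩ N ∩ P' = 1`.
-/

namespace Cfsg.Agent.helper22

open Cfsg
open scoped ComplexConjugate

universe u

section LinearExt

/-- a homomorphism `D →* ℂˣ` trivial on `D ∩ E'` extends to `E` -/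
theorem exists_hom_extension_of_commutator {E : Type*} [Group E] [Finite E] (D : Subgroup E)
    (lam : D →* ℂˣ) (h : ∀ d : D, (d : E) ∈ commutator E → lam d = 1) :
    ∃ μ : E →* ℂˣ, ∀ d : D, μ d = lam d := by
  classical
  obtain ⟨f, hf⟩ : ∃ f : D →* Abelianization E, f = (Abelianization.of).comp D.subtype :=
    ⟨_, rfl⟩
  have hsurj : Function.Surjective f.rangeRestrict := f.rangeRestrict_surjective
  have hker : f.rangeRestrict.ker ≤ lam.ker := by
    intro d hd
    rw [MonoidHom.mem_ker] at hd ⊢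
    apply h d
    have h1 : f d = 1 := by
      have := congrArg Subtype.val hd
      exact this
    rw [hf] at h1
    have h2 : (d : E) ∈ (Abelianization.of (G := E)).ker := h1
    rw [Abelianization.ker_of] at h2
    exact h2
  obtain ⟨lam', hlam'⟩ : ∃ lam' : f.range →* ℂˣ, ∀ d : D, lam' (f.rangeRestrict d) = lam d :=
    ⟨f.rangeRestrict.liftOfSurjective hsurj ⟨lam, hker⟩, fun d =>
      MonoidHom.liftOfRightInverse_comp_apply _ _ _ ⟨lam, hker⟩ d⟩
  haveI : NeZero ((Monoid.exponent (Abelianization E) : ℕ) : ℂ) := by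
    constructor
    have : Monoid.exponent (Abelianization E) ≠ 0 := Monoid.exponent_ne_zero_of_finite
    exact_mod_cast this
  obtain ⟨ν, hν⟩ := MonoidHom.domRestrict_surjective (M := ℂ) f.range lam'
  refine ⟨ν.comp Abelianization.of, fun d => ?_⟩
  rw [← hlam' d, ← hν, MonoidHom.domRestrictHom_apply, MonoidHom.domRestrict_apply,
    MonoidHom.comp_apply]
  congr 1
  rw [hf]
  rfl

end LinearExt

section Transfer
variable {G : Type u} [Group G] [Fintype G] (N : Subgroup G) [hN : N.Normal] [Fintype N]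

/-- if some character `Φ` of a supplement `E` of `N` meets `ϑ` on `N ∩ E` with multiplicity prime
to `p`, where `|G : N|` is a power of `p`, then the invariant character `ϑ` extends to `G` -/
theorem extends_of_supplement (p : ℕ) [Fact p.Prime] (hind : ∃ k : ℕ, N.index = p ^ k)
    (ϑ : N → ℂ) (hϑ : IsIrrCharacter N ϑ)
    (hinv : ∀ (g : G) (n : N), ϑ ⟨g * n * g⁻¹, hN.conj_mem (n : G) n.2 g⟩ = ϑ n)
    (E : Subgroup G) [Fintype E] [Fintype (N.subgroupOf E)] (hE : E ⊔ N = ⊤)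
    (Φ : E → ℂ) (hΦ : IsCharacter E Φ) (m : ℕ) (hpm : ¬ p ∣ m)
    (hm : classInner (resSub N E ϑ) (helper5.res (N.subgroupOf E) Φ) = m) :
    ∃ χ : G → ℂ, IsIrrCharacter G χ ∧ ∀ n : N, χ n = ϑ n := by
  classical
  haveI : Fintype (IrrCharacter G) := Fintype.ofFinite _
  have hpp : p.Prime := Fact.out
  have hϑc : IsCharacter N ϑ := helper24.irr_isCharacter hϑ
  have hinv' : ∀ g : G, helper8.conjFunN N g ϑ = ϑ := by
    intro g; funext n; rw [helper8.conjFunN_apply]; exact hinv g n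
  obtain ⟨F, hF⟩ : ∃ F : G → ℂ, F = indFun N ϑ := ⟨_, rfl⟩
  have hFc : IsCharacter G F := hF ▸ helper12.isCharacter_indFun N hϑc
  have hFmem : ∀ (g : G) (hg : g ∈ N), F g = (N.index : ℂ) * ϑ ⟨g, hg⟩ := by
    intro g hg
    have := congrFun (helper5.res_indFun_of_invariant N ϑ hinv') ⟨g, hg⟩
    rw [helper5.res_apply, Pi.smul_apply, smul_eq_mul] at this
    rw [hF]; exact this
  have hFnot : ∀ g : G, g ∉ N → F g = 0 := by
    intro g hg; rw [hF]; exact helper8.indFun_of_not_mem_normal N ϑ g hg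
  -- (b) the inner product on `E`
  have hE0 : (Nat.card E : ℂ) ≠ 0 := by exact_mod_cast (Nat.card_pos (α := E)).ne'
  have hD0 : (Nat.card (N.subgroupOf E) : ℂ) ≠ 0 := by
    exact_mod_cast (Nat.card_pos (α := N.subgroupOf E)).ne'
  have hb : classInner (helper5.res E F) Φ = m := by
    have hFE : ∀ e : E, F e = extendByZero (N.subgroupOf E)
        (fun a => (N.index : ℂ) * resSub N E ϑ a) e := by
      intro e
      by_cases he : (e : G) ∈ N
      · have he' : e ∈ N.subgroupOf E := he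
        rw [hFmem _ he, helper5.extendByZero_of_mem _ _ e he']
        rfl
      · have he' : e ∉ N.subgroupOf E := he
        rw [hFnot _ he, helper5.extendByZero_of_not_mem _ _ e he']
    have hsum : ∑ e : E, helper5.res E F e * conj (Φ e) =
        (N.index : ℂ) * ∑ a : N.subgroupOf E, resSub N E ϑ a *
          conj (helper5.res (N.subgroupOf E) Φ a) := by
      have h1 : ∑ e : E, helper5.res E F e * conj (Φ e) = ∑ e : E, extendByZero (N.subgroupOf E)
          (fun a => (N.index : ℂ) * resSub N E ϑ a) e * conj (Φ e) := by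
        apply Finset.sum_congr rfl
        intro e _
        rw [helper5.res_apply, hFE e]
      rw [h1, helper8.sum_extendByZero_mul (N.subgroupOf E) _ (fun e => conj (Φ e)),
        Finset.mul_sum]
      apply Finset.sum_congr rfl
      intro a _
      rw [helper5.res_apply]
      ring
    have hcard : (Nat.card E : ℂ) = (Nat.card (N.subgroupOf E) : ℂ) * (N.index : ℂ) := by
      have := Subgroup.card_mul_index (N.subgroupOf E)
      rw [subgroupOf_index_of_sup_eq_top N E hE] at this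
      exact_mod_cast this.symm
    have hidx0 : (N.index : ℂ) ≠ 0 := by
      intro h0
      rw [h0, mul_zero] at hcard
      exact hE0 hcard
    unfold classInner at hm ⊢
    rw [hsum, hcard, ← hm]
    field_simp
  -- (c),(d) decomposition of `F`
  obtain ⟨n, hn1, hn2, -⟩ := helper12.char_decomp hFc
  choose k hk using fun χ : IrrCharacter G => helper12.classInner_char_nat
    (helper5.isCharacter_res E (helper24.irr_isCharacter χ.2)) hΦ
  have hsum : m = ∑ χ : IrrCharacter G, n χ * k χ := by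
    have h1 : helper5.res E F = ∑ χ : IrrCharacter G, (n χ : ℂ) • helper5.res E (χ : G → ℂ) := by
      conv_lhs => rw [hn1]
      rw [helper5.res_sum]
      rfl
    have h2 : (m : ℂ) = ∑ χ : IrrCharacter G, (n χ : ℂ) * (k χ : ℂ) := by
      rw [← hb, h1, helper24.classInner_sum_left]
      apply Finset.sum_congr rfl
      intro χ _
      rw [helper24.classInner_smul_left, hk χ]
    exact_mod_cast h2
  have hex : ∃ χ : IrrCharacter G, ¬ p ∣ n χ := by
    by_contra hno
    push Not at hno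
    apply hpm
    rw [hsum]
    apply Finset.dvd_sum
    intro χ _
    exact Dvd.dvd.mul_right (hno χ) _
  obtain ⟨χ, hχp⟩ := hex
  have hn0 : n χ ≠ 0 := by
    intro h0; rw [h0] at hχp; exact hχp (dvd_zero p)
  -- (e)
  have hfrob : classInner F (χ : G → ℂ) = classInner ϑ (helper5.res N (χ : G → ℂ)) := by
    rw [hF]
    exact helper8.frobenius N ϑ (χ : G → ℂ)
      (helper24.char_isClassFunction (helper24.irr_isCharacter χ.2))
  have hcon : classInner (helper5.res N (χ : G → ℂ)) ϑ = n χ := by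
    rw [← helper24.classInner_conj_symm, ← hfrob, hn2 χ, Complex.conj_natCast]
  have hcon0 : classInner (helper5.res N (χ : G → ℂ)) ϑ ≠ 0 := by
    rw [hcon]; exact_mod_cast hn0
  obtain ⟨e, he1, he2, -⟩ := helper5.clifford_invariant N χ.2 hϑ hinv' hcon0
  have hee : e = n χ := by
    rw [hcon] at he2
    exact_mod_cast he2.symm
  obtain ⟨e', he'1, he'2⟩ := degree_ratio_invariant N χ.2 hϑ hinv hcon0
  have hϑ1 : ϑ 1 ≠ 0 := helper24.irr_apply_one_ne_zero hϑ
  have hee' : e' = e := by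
    have h1 := congrFun he1 1
    rw [helper5.res_apply, Pi.smul_apply, smul_eq_mul] at h1
    have h2 : ((χ : G → ℂ) ((1 : N) : G)) = (χ : G → ℂ) 1 := rfl
    rw [h2, he'1] at h1
    have := mul_right_cancel₀ hϑ1 h1
    exact_mod_cast this
  obtain ⟨k', hk'⟩ := hind
  rw [hk', hee', hee] at he'2
  obtain ⟨j, -, hj⟩ := (Nat.dvd_prime_pow hpp).mp he'2
  have hj0 : j = 0 := by
    by_contra hne
    apply hχp
    rw [hj]
    exact dvd_pow_self p hne
  rw [hj0, pow_zero] at hj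
  refine ⟨χ, χ.2, fun n' => ?_⟩
  have h1 := congrFun he1 n'
  rw [helper5.res_apply, Pi.smul_apply, smul_eq_mul, hee, hj, Nat.cast_one, one_mul] at h1
  exact h1

end Transfer

section Elementary
open scoped commutatorElement

theorem commutatorElement_mul_central_left {E : Type*} [Group E] {z : E}
    (hz : z ∈ Subgroup.center E) (q b : E) : ⁅q * z, b⁆ = ⁅q, b⁆ := by
  have h1 := Subgroup.mem_center_iff.mp hz
  rw [commutatorElement_def, commutatorElement_def, mul_inv_rev]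
  have e1 : q * z * b * (z⁻¹ * q⁻¹) * b⁻¹ = q * (z * b * z⁻¹) * q⁻¹ * b⁻¹ := by group
  rw [e1, ← h1 b, mul_assoc b z, mul_inv_cancel, mul_one]

theorem commutatorElement_mul_central_right {E : Type*} [Group E] {z : E}
    (hz : z ∈ Subgroup.center E) (a q : E) : ⁅a, q * z⁆ = ⁅a, q⁆ := by
  have h1 := Subgroup.mem_center_iff.mp hz
  rw [commutatorElement_def, commutatorElement_def, mul_inv_rev]
  have e1 : a * (q * z) * a⁻¹ * (z⁻¹ * q⁻¹) = a * q * (z * a⁻¹ * z⁻¹) * q⁻¹ := by group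
  rw [e1, ← h1 a⁻¹, mul_assoc a⁻¹ z, mul_inv_cancel, mul_one]

/-- structure of a `p`-elementary group relative to a normal subgroup of `p`-power index -/
theorem elementary_structure {E : Type*} [Group E] [Finite E] (p : ℕ) [Fact p.Prime]
    (hE : IsElementary p E) (D : Subgroup E) [D.Normal] (hidx : ∃ k : ℕ, D.index = p ^ k)
    (Q : Sylow p E)
    (hF1 : ∀ q ∈ (Q : Subgroup E), q ∈ D → ∀ q' ∈ (Q : Subgroup E), q * q' = q' * q)
    (hF2 : ∀ y ∈ ⁅(Q : Subgroup E), (Q : Subgroup E)⁆, y ∈ D → y = 1) :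
    (∀ a ∈ D, ∀ b ∈ D, a * b = b * a) ∧ (∀ d ∈ D, d ∈ commutator E → d = 1) := by
  have hpp : p.Prime := Fact.out
  obtain ⟨x, hxc, hxcop, j, hxidx⟩ := hE
  have hxcomm := Subgroup.mem_center_iff.mp hxc
  haveI hXn : (Subgroup.zpowers x).Normal := by
    constructor
    intro y hy g
    obtain ⟨i, rfl⟩ := Subgroup.mem_zpowers_iff.mp hy
    have hc : x ^ i ∈ Subgroup.center E := Subgroup.zpow_mem _ hxc i
    have := Subgroup.mem_center_iff.mp hc g
    rw [this, mul_assoc, mul_inv_cancel, mul_one]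
    exact Subgroup.zpow_mem_zpowers x i
  -- (i) `Q ⊔ X = ⊤`
  have htop : (Q : Subgroup E) ⊔ Subgroup.zpowers x = ⊤ := by
    rw [← Subgroup.index_eq_one]
    have h1 : ((Q : Subgroup E) ⊔ Subgroup.zpowers x).index ∣ (Q : Subgroup E).index :=
      Subgroup.index_dvd_of_le le_sup_left
    have h2 : ((Q : Subgroup E) ⊔ Subgroup.zpowers x).index ∣ p ^ j :=
      hxidx ▸ Subgroup.index_dvd_of_le le_sup_right
    obtain ⟨i, -, hi⟩ := (Nat.dvd_prime_pow hpp).mp h2
    by_contra hne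
    have hi0 : i ≠ 0 := by
      intro h0; rw [h0, pow_zero] at hi; exact hne hi
    have : p ∣ ((Q : Subgroup E) ⊔ Subgroup.zpowers x).index := by
      rw [hi]; exact dvd_pow_self p hi0
    exact Q.not_dvd_index (this.trans h1)
  -- (ii) decomposition
  have hdec : ∀ a : E, ∃ q ∈ (Q : Subgroup E), ∃ z ∈ Subgroup.zpowers x, a = q * z := by
    intro a
    have ha : a ∈ ((Q : Subgroup E) ⊔ Subgroup.zpowers x : Subgroup E) := htop ▸ Subgroup.mem_top a
    rw [← SetLike.mem_coe, Subgroup.mul_normal, Set.mem_mul] at ha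
    obtain ⟨q, hq, z, hz, rfl⟩ := ha
    exact ⟨q, hq, z, hz, rfl⟩
  have hzc : ∀ z ∈ Subgroup.zpowers x, z ∈ Subgroup.center E := by
    intro z hz
    obtain ⟨i, rfl⟩ := Subgroup.mem_zpowers_iff.mp hz
    exact Subgroup.zpow_mem _ hxc i
  -- (iii) `x ∈ D`
  have hxD : x ∈ D := by
    obtain ⟨k, hk⟩ := hidx
    have h1 : x ^ D.index ∈ D := Subgroup.pow_index_mem D x
    rw [hk] at h1
    have hcop : (p ^ k).Coprime (orderOf x) := (Nat.Coprime.pow_right k hxcop).symm
    obtain ⟨m, hm⟩ := exists_pow_eq_self_of_coprime hcop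
    rw [← hm]
    exact D.pow_mem h1 m
  have hXD : ∀ z ∈ Subgroup.zpowers x, z ∈ D := by
    intro z hz
    obtain ⟨i, rfl⟩ := Subgroup.mem_zpowers_iff.mp hz
    exact D.zpow_mem hxD i
  refine ⟨?_, ?_⟩
  · -- (C1)
    intro a ha b hb
    obtain ⟨q, hq, z, hz, rfl⟩ := hdec a
    obtain ⟨q', hq', z', hz', rfl⟩ := hdec b
    have hqD : q ∈ D := by
      have : q = q * z * z⁻¹ := by group
      rw [this]
      exact D.mul_mem ha (D.inv_mem (hXD z hz))
    have hqq := hF1 q hq hqD q' hq'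
    have c1 := Subgroup.mem_center_iff.mp (hzc z hz)
    have c2 := Subgroup.mem_center_iff.mp (hzc z' hz')
    calc q * z * (q' * z') = q * q' * (z * z') := by
          rw [mul_assoc q z, ← mul_assoc z q', ← c1 q', mul_assoc q' z, ← mul_assoc q q']
      _ = q' * q * (z' * z) := by rw [hqq, c1 z']
      _ = q' * z' * (q * z) := by
          rw [mul_assoc q' z', ← mul_assoc z' q, ← c2 q, mul_assoc q z', ← mul_assoc q' q]
  · -- (C2)
    have hle : commutator E ≤ ⁅(Q : Subgroup E), (Q : Subgroup E)⁆ := by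
      rw [commutator_def, Subgroup.commutator_le]
      intro a _ b _
      obtain ⟨q, hq, z, hz, rfl⟩ := hdec a
      obtain ⟨q', hq', z', hz', rfl⟩ := hdec b
      rw [commutatorElement_mul_central_left (hzc z hz),
        commutatorElement_mul_central_right (hzc z' hz')]
      exact Subgroup.commutator_mem_commutator hq hq'
    intro d hd hdc
    exact hF2 d (hle hdc) hd

end Elementary

section Final
variable {G : Type u} [Group G] [Fintype G] (p : ℕ) [Fact p.Prime] (N : Subgroup G) [hN : N.Normal]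

/-- from the hypothesis on linear characters: `P' ∩ N = 1` -/
theorem commutator_inf_eq_one (P : Subgroup G)
    (hcent : ∀ x ∈ P ⊓ N, ∀ y ∈ P, x * y = y * x)
    (hlin : ∀ lam : ↥(P ⊓ N) → ℂ, IsCharacter ↥(P ⊓ N) lam → lam 1 = 1 →
      ∃ μ : ↥P → ℂ, IsCharacter ↥P μ ∧ μ 1 = 1 ∧ ∀ x : ↥(P ⊓ N), μ ⟨(x : G), x.2.1⟩ = lam x) :
    ∀ y ∈ ⁅P, P⁆, y ∈ N → y = 1 := by
  intro y hy hyN
  rw [← Subgroup.map_subtype_commutator] at hy
  obtain ⟨c, hc, rfl⟩ := hy
  letI : CommGroup ↥(P ⊓ N) := { (inferInstance : Group ↥(P ⊓ N)) with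
    mul_comm := fun a b => Subtype.ext (hcent a a.2 b b.2.1) }
  haveI : NeZero ((Monoid.exponent ↥(P ⊓ N) : ℕ) : ℂ) := by
    constructor
    have : Monoid.exponent ↥(P ⊓ N) ≠ 0 := Monoid.exponent_ne_zero_of_finite
    exact_mod_cast this
  have key : (⟨(c : G), c.2, hyN⟩ : ↥(P ⊓ N)) = 1 := by
    apply (CommGroup.forall_apply_eq_apply_iff ↥(P ⊓ N) (M := ℂ)).mp
    intro φ
    rw [map_one]
    obtain ⟨μ, hμc, hμ1, hμ⟩ := hlin (fun x => ((φ x : ℂˣ) : ℂ))
      (linear_iff_hom.mpr ⟨φ, fun _ => rfl⟩).1 (linear_iff_hom.mpr ⟨φ, fun _ => rfl⟩).2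
    obtain ⟨μ', hμ'⟩ := linear_iff_hom.mp ⟨hμc, hμ1⟩
    have h1 : μ' c = 1 := by
      have : c ∈ μ'.ker := Abelianization.commutator_subset_ker μ' hc
      exact this
    have h2 := hμ ⟨(c : G), c.2, hyN⟩
    have h3 : (⟨((⟨(c : G), c.2, hyN⟩ : ↥(P ⊓ N)) : G), c.2⟩ : ↥P) = c := rfl
    rw [h3, hμ' c, h1, Units.val_one] at h2
    apply Units.ext
    rw [Units.val_one]
    exact h2.symm
  have := congrArg (fun z : ↥(P ⊓ N) => (z : G)) key
  exact this

theorem pgroup_facts (P : Sylow p G)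
    (hcent : ∀ x ∈ (P : Subgroup G) ⊓ N, ∀ y ∈ (P : Subgroup G), x * y = y * x)
    (hcomm : ∀ y ∈ ⁅(P : Subgroup G), (P : Subgroup G)⁆, y ∈ N → y = 1)
    (Q₀ : Subgroup G) (hQ₀ : IsPGroup p Q₀) :
    (∀ q ∈ Q₀, q ∈ N → ∀ q' ∈ Q₀, q * q' = q' * q) ∧ (∀ y ∈ ⁅Q₀, Q₀⁆, y ∈ N → y = 1) := by
  obtain ⟨g, hg⟩ := helper25.exists_cj_le_sylow P hQ₀
  have hmem : ∀ q ∈ Q₀, g * q * g⁻¹ ∈ (P : Subgroup G) := fun q hq =>
    hg (helper25.conj_mem_cj g Q₀ hq)
  refine ⟨?_, ?_⟩
  · intro q hq hqN q' hq'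
    have h1 := hcent (g * q * g⁻¹) ⟨hmem q hq, hN.conj_mem q hqN g⟩ (g * q' * g⁻¹) (hmem q' hq')
    have h2 : g * (q * q') * g⁻¹ = g * (q' * q) * g⁻¹ := by
      have e1 : g * (q * q') * g⁻¹ = g * q * g⁻¹ * (g * q' * g⁻¹) := by group
      have e2 : g * (q' * q) * g⁻¹ = g * q' * g⁻¹ * (g * q * g⁻¹) := by group
      rw [e1, e2, h1]
    exact mul_left_cancel (mul_right_cancel h2)
  · intro y hy hyN
    have h1 : g * y * g⁻¹ ∈ ⁅(P : Subgroup G), (P : Subgroup G)⁆ := by
      have h2 : g * y * g⁻¹ ∈ (⁅Q₀, Q₀⁆).map (MulAut.conj g).toMonoidHom := ⟨y, hy, rfl⟩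
      rw [Subgroup.map_commutator] at h2
      exact Subgroup.commutator_mono hg hg h2
    have h3 := hcomm _ h1 (hN.conj_mem y hyN g)
    have h4 : y = g⁻¹ * (g * y * g⁻¹) * g := by group
    rw [h4, h3]
    group

/-- **Isaacs 8.26.** -/
theorem extends_of_central_sylow (hind : ∃ k : ℕ, N.index = p ^ k) (P : Sylow p G)
    (hcent : ∀ x ∈ (P : Subgroup G) ⊓ N, ∀ y ∈ (P : Subgroup G), x * y = y * x)
    (hlin : ∀ lam : ↥((P : Subgroup G) ⊓ N) → ℂ, IsCharacter ↥((P : Subgroup G) ⊓ N) lam →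
      lam 1 = 1 → ∃ μ : ↥(P : Subgroup G) → ℂ, IsCharacter ↥(P : Subgroup G) μ ∧ μ 1 = 1 ∧
        ∀ x : ↥((P : Subgroup G) ⊓ N), μ ⟨(x : G), x.2.1⟩ = lam x)
    (ϑ : N → ℂ) (hϑ : IsIrrCharacter N ϑ)
    (hinv : ∀ (g : G) (n : N), ϑ ⟨g * n * g⁻¹, hN.conj_mem (n : G) n.2 g⟩ = ϑ n) :
    ∃ χ : G → ℂ, IsIrrCharacter G χ ∧ ∀ n : N, χ n = ϑ n := by
  classical
  have hcomm := commutator_inf_eq_one N (P : Subgroup G) hcent hlin
  obtain ⟨E, φ, hE, htop, hφinv, m, hpm, hm⟩ := dade_detection N p hind ϑ hϑ hinv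
  haveI : (N.subgroupOf E).Normal := Subgroup.normal_subgroupOf
  have hidx : ∃ k : ℕ, (N.subgroupOf E).index = p ^ k := by
    rw [subgroupOf_index_of_sup_eq_top N E htop]; exact hind
  obtain ⟨Q⟩ : Nonempty (Sylow p E) := inferInstance
  obtain ⟨F1, F2⟩ := pgroup_facts p N P hcent hcomm ((Q : Subgroup E).map E.subtype)
    (Q.isPGroup'.map _)
  have hF1' : ∀ q ∈ (Q : Subgroup E), q ∈ N.subgroupOf E → ∀ q' ∈ (Q : Subgroup E),
      q * q' = q' * q := by
    intro q hq hqD q' hq'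
    exact Subtype.ext (F1 (q : G) ⟨q, hq, rfl⟩ hqD (q' : G) ⟨q', hq', rfl⟩)
  have hF2' : ∀ y ∈ ⁅(Q : Subgroup E), (Q : Subgroup E)⁆, y ∈ N.subgroupOf E → y = 1 := by
    intro y hy hyD
    have h1 : (y : G) ∈ (⁅(Q : Subgroup E), (Q : Subgroup E)⁆).map E.subtype := ⟨y, hy, rfl⟩
    rw [Subgroup.map_commutator] at h1
    exact Subtype.ext (F2 (y : G) h1 hyD)
  obtain ⟨C1, C2⟩ := elementary_structure p hE (N.subgroupOf E) hidx Q hF1' hF2'
  have hφ1 : (φ : N.subgroupOf E → ℂ) 1 = 1 :=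
    (Cfsg.Agent.S0187.result (G := ↥(N.subgroupOf E))).mp
      (fun a b => Subtype.ext (C1 a a.2 b b.2)) φ
  obtain ⟨lam, hlam⟩ := linear_iff_hom.mp ⟨helper24.irr_isCharacter φ.2, hφ1⟩
  obtain ⟨μ, hμ⟩ := exists_hom_extension_of_commutator (N.subgroupOf E) lam (fun d hd => by
    rw [show d = 1 from Subtype.ext (C2 d d.2 hd), map_one])
  have hΦ : IsCharacter E (fun e => ((μ e : ℂˣ) : ℂ)) :=
    helper24.irr_isCharacter (hom_isIrrCharacter μ)
  have hres : helper5.res (N.subgroupOf E) (fun e : E => ((μ e : ℂˣ) : ℂ)) =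
      (φ : N.subgroupOf E → ℂ) := by
    funext d
    rw [helper5.res_apply, hμ d, hlam d]
  exact extends_of_supplement N p hind ϑ hϑ hinv E htop _ hΦ m hpm (by rw [hres]; exact hm)

end Final

end Cfsg.Agent.helper22
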