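import Mathlib
import Cfsg.Agent.Lib_helper12_CharOps
import Cfsg.Agent.Lib_helper24_CharOrth
import Cfsg.Agent.Lib_helper24_CharBasic
import Cfsg.Agent.Lib_helper24_CharCount
import Cfsg.Agent.Lib_helper23_Schur

set_option autoImplicit false
set_option linter.unusedSectionVars false
set_option linter.unusedVariables false
set_option linter.style.haveILetI false
set_option linter.style.longLine false

/-!
helper22: averaging a class function over the cosets of a normal subgroup; the part of a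
character lying over the principal character of a normal subgroup and its complement.
-/

namespace Cfsg.Agent.helper22

open Cfsg
open scoped ComplexConjugate
open scoped Classical

universe u

section FTA1
variable {K : Type u} [Group K] [Fintype K]

/-- averaging over the right translates by a subgroup -/
noncomputable def ftAvg (A : Subgroup K) (f : K → ℂ) : K → ℂ :=
  fun x => (Nat.card A : ℂ)⁻¹ * ∑ a : A, f (x * (a : K))

theorem ftAvg_apply (A : Subgroup K) (f : K → ℂ) (x : K) :
    ftAvg A f x = (Nat.card A : ℂ)⁻¹ * ∑ a : A, f (x * (a : K)) := rfl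

theorem ft_card_ne (A : Subgroup K) : (Nat.card A : ℂ) ≠ 0 := by
  have : 0 < Nat.card A := Nat.card_pos
  exact_mod_cast this.ne'

theorem ftAvg_idem (A : Subgroup K) (f : K → ℂ) : ftAvg A (ftAvg A f) = ftAvg A f := by
  funext x
  rw [ftAvg_apply]
  have h1 : ∀ a : A, ftAvg A f (x * (a : K)) = ftAvg A f x := by
    intro a
    rw [ftAvg_apply, ftAvg_apply]
    congr 1
    apply Fintype.sum_equiv (Equiv.mulLeft a)
    intro b
    show f (x * (a : K) * (b : K)) = f (x * ((a * b : A) : K))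
    rw [Subgroup.coe_mul, mul_assoc]
  rw [Finset.sum_congr rfl (fun a _ => h1 a), Finset.sum_const, Finset.card_univ, nsmul_eq_mul,
    ← Nat.card_eq_fintype_card, ← mul_assoc, inv_mul_cancel₀ (ft_card_ne A), one_mul]

theorem ftAvg_adj (A : Subgroup K) (f g : K → ℂ) :
    ∑ x : K, ftAvg A f x * conj (g x) = ∑ x : K, f x * conj (ftAvg A g x) := by
  have hl : ∑ x : K, ftAvg A f x * conj (g x)
      = (Nat.card A : ℂ)⁻¹ * ∑ a : A, ∑ x : K, f (x * (a : K)) * conj (g x) := by
    rw [Finset.sum_comm, Finset.mul_sum]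
    apply Finset.sum_congr rfl
    intro x _
    rw [ftAvg_apply, mul_assoc, Finset.sum_mul]
  have hr : ∑ x : K, f x * conj (ftAvg A g x)
      = (Nat.card A : ℂ)⁻¹ * ∑ a : A, ∑ x : K, f x * conj (g (x * (a : K))) := by
    rw [Finset.sum_comm, Finset.mul_sum]
    apply Finset.sum_congr rfl
    intro x _
    rw [ftAvg_apply, map_mul, map_inv₀, Complex.conj_natCast, map_sum, Finset.mul_sum,
      Finset.mul_sum, Finset.mul_sum]
    apply Finset.sum_congr rfl
    intro a _
    ring
  rw [hl, hr]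
  congr 1
  -- reindex a ↦ a⁻¹ and x ↦ x * a
  rw [← Equiv.sum_comp (Equiv.inv A)]
  apply Finset.sum_congr rfl
  intro a _
  rw [← Equiv.sum_comp (Equiv.mulRight (a : K))]
  apply Finset.sum_congr rfl
  intro x _
  show f (x * (a : K) * ((a⁻¹ : A) : K)) * conj (g (x * (a : K))) = f x * conj (g (x * (a : K)))
  rw [Subgroup.coe_inv, mul_inv_cancel_right]

theorem ftAvg_classInner (A : Subgroup K) (f g : K → ℂ) :
    classInner (ftAvg A f) g = classInner f (ftAvg A g) := by
  unfold classInner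
  rw [ftAvg_adj]

theorem ftAvg_classFunction (A : Subgroup K) [hA : A.Normal] {f : K → ℂ}
    (hf : IsClassFunction K f) : IsClassFunction K (ftAvg A f) := by
  intro x h
  rw [ftAvg_apply, ftAvg_apply]
  congr 1
  apply Fintype.sum_equiv (MulAut.conjNormal (H := A) h⁻¹).toEquiv
  intro a
  show f (h * x * h⁻¹ * (a : K)) = f (x * ((MulAut.conjNormal (H := A) h⁻¹ a : A) : K))
  rw [MulAut.conjNormal_apply, inv_inv]
  have h1 : h * x * h⁻¹ * (a : K) = h * (x * (h⁻¹ * (a : K) * h)) * h⁻¹ := by group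
  rw [h1, hf]

theorem ftAvg_smul (A : Subgroup K) (c : ℂ) (f : K → ℂ) : ftAvg A (c • f) = c • ftAvg A f := by
  funext x
  rw [ftAvg_apply, Pi.smul_apply, ftAvg_apply, smul_eq_mul]
  simp only [Pi.smul_apply, smul_eq_mul]
  rw [← Finset.mul_sum]
  ring

/-- on an irreducible character, averaging over a normal subgroup is multiplication by `0` or `1` -/
theorem ftAvg_irr (A : Subgroup K) [hA : A.Normal] {τ : K → ℂ} (hτ : IsIrrCharacter K τ) :
    ∃ r : ℂ, (r = 0 ∨ r = 1) ∧ ∀ x, ftAvg A τ x = r * τ x := by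
  have hτ1 : τ 1 ≠ 0 := helper24.irr_apply_one_ne_zero hτ
  obtain ⟨n, ρ, hirr, rfl⟩ := hτ
  obtain ⟨T, hTdef⟩ : ∃ T : (Fin n → ℂ) →ₗ[ℂ] (Fin n → ℂ), T = ∑ a : A, ρ (a : K) := ⟨_, rfl⟩
  have hT : ∀ g, T ∘ₗ ρ g = ρ g ∘ₗ T := by
    intro g
    rw [← Module.End.mul_eq_comp, ← Module.End.mul_eq_comp, hTdef, Finset.sum_mul, Finset.mul_sum]
    apply Fintype.sum_equiv (MulAut.conjNormal (H := A) g⁻¹).toEquiv
    intro a
    show ρ (a : K) * ρ g = ρ g * ρ ((MulAut.conjNormal (H := A) g⁻¹ a : A) : K)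
    rw [MulAut.conjNormal_apply, inv_inv, ← map_mul, ← map_mul]
    congr 1
    group
  obtain ⟨c, hc⟩ := helper23.schur_scalar ρ hirr T hT
  have hkey : ∀ x, ftAvg A ρ.character x = (Nat.card A : ℂ)⁻¹ * c * ρ.character x := by
    intro x
    rw [ftAvg_apply, mul_assoc]
    congr 1
    unfold Representation.character
    have h1 : ∑ a : A, LinearMap.trace ℂ (Fin n → ℂ) (ρ (x * (a : K)))
        = LinearMap.trace ℂ (Fin n → ℂ) (ρ x * T) := by
      rw [hTdef, Finset.mul_sum, map_sum]
      apply Finset.sum_congr rfl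
      intro a _
      rw [map_mul]
    rw [h1, hc]
    have h2 : ρ x * (c • (LinearMap.id : (Fin n → ℂ) →ₗ[ℂ] (Fin n → ℂ))) = c • ρ x := by
      ext v i
      simp
    rw [h2, map_smul, smul_eq_mul]
  refine ⟨(Nat.card A : ℂ)⁻¹ * c, ?_, hkey⟩
  have h3 := congrFun (ftAvg_idem A ρ.character) 1
  have h4 : ftAvg A (ftAvg A ρ.character) 1
      = ((Nat.card A : ℂ)⁻¹ * c) * (((Nat.card A : ℂ)⁻¹ * c) * ρ.character 1) := by
    have h5 : ftAvg A ρ.character = ((Nat.card A : ℂ)⁻¹ * c) • ρ.character := by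
      funext x
      rw [hkey x, Pi.smul_apply, smul_eq_mul]
    rw [h5, ftAvg_smul, Pi.smul_apply, smul_eq_mul, hkey]
  rw [h4, hkey] at h3
  have h6 : ((Nat.card A : ℂ)⁻¹ * c) * (((Nat.card A : ℂ)⁻¹ * c) - 1) * ρ.character 1 = 0 := by
    linear_combination h3
  rcases mul_eq_zero.mp h6 with h7 | h7
  · rcases mul_eq_zero.mp h7 with h8 | h8
    · left; exact h8
    · right; exact sub_eq_zero.mp h8
  · exact absurd h7 hτ1

/-- averaging fixes the values at elements whose centralizer meets `A` trivially -/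
theorem ftAvg_of_free (A : Subgroup K) [hA : A.Normal] {f : K → ℂ} (hf : IsClassFunction K f)
    (x : K) (hx : ∀ a ∈ A, a * x = x * a → a = 1) : ftAvg A f x = f x := by
  rw [ftAvg_apply]
  -- the map a ↦ x⁻¹ a⁻¹ x a is a bijection of A
  have hmem : ∀ a : A, x⁻¹ * (a : K)⁻¹ * x * (a : K) ∈ A := by
    intro a
    have h1 : x⁻¹ * (a : K)⁻¹ * x ∈ A := by
      have := hA.conj_mem _ (A.inv_mem a.2) x⁻¹
      rwa [inv_inv] at this
    exact A.mul_mem h1 a.2
  let u : A → A := fun a => ⟨x⁻¹ * (a : K)⁻¹ * x * (a : K), hmem a⟩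
  have hu : Function.Injective u := by
    intro a b hab
    have h1 : x⁻¹ * (a : K)⁻¹ * x * (a : K) = x⁻¹ * (b : K)⁻¹ * x * (b : K) :=
      congrArg Subtype.val hab
    have h2 : ((b : K) * (a : K)⁻¹) * x = x * ((b : K) * (a : K)⁻¹) := by
      have h3 : (a : K)⁻¹ * x * (a : K) = (b : K)⁻¹ * x * (b : K) := by
        have := congrArg (fun y => x * y) h1
        simpa [mul_assoc] using this
      calc ((b : K) * (a : K)⁻¹) * x = (b : K) * ((a : K)⁻¹ * x * (a : K)) * (a : K)⁻¹ := by group
        _ = (b : K) * ((b : K)⁻¹ * x * (b : K)) * (a : K)⁻¹ := by rw [h3]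
        _ = x * ((b : K) * (a : K)⁻¹) := by group
    have h4 := hx _ (A.mul_mem b.2 (A.inv_mem a.2)) h2
    apply Subtype.ext
    have h5 : (b : K) = (a : K) := by
      have := mul_inv_eq_one.mp h4
      exact this
    exact h5.symm
  have hub : Function.Bijective u := Finite.injective_iff_bijective.mp hu
  have h1 : ∑ a : A, f (x * (a : K)) = ∑ a : A, f (x * ((u a : A) : K)) :=
    (Fintype.sum_bijective u hub _ _ (fun a => rfl)).symm
  rw [h1]
  have h2 : ∀ a : A, f (x * ((u a : A) : K)) = f x := by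
    intro a
    show f (x * (x⁻¹ * (a : K)⁻¹ * x * (a : K))) = f x
    have h3 : x * (x⁻¹ * (a : K)⁻¹ * x * (a : K)) = (a : K)⁻¹ * x * ((a : K)⁻¹)⁻¹ := by group
    rw [h3, hf]
  rw [Finset.sum_congr rfl (fun a _ => h2 a), Finset.sum_const, Finset.card_univ, nsmul_eq_mul,
    ← Nat.card_eq_fintype_card, ← mul_assoc, inv_mul_cancel₀ (ft_card_ne A), one_mul]

/-- the complement of the averaged part of a character is a character, orthogonal to it -/
theorem ftAvg_split (A : Subgroup K) [hA : A.Normal] {ψ : K → ℂ} (hψ : IsCharacter K ψ) :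
    classInner (ftAvg A ψ) (ψ - ftAvg A ψ) = 0 ∧ IsCharacter K (ψ - ftAvg A ψ) := by
  haveI : Fintype (IrrCharacter K) := Fintype.ofFinite _
  have hcf : IsClassFunction K ψ := helper24.char_isClassFunction hψ
  constructor
  · have h1 : classInner (ftAvg A ψ) (ψ - ftAvg A ψ)
        = classInner (ftAvg A ψ) ψ - classInner (ftAvg A ψ) (ftAvg A ψ) := by
      unfold classInner
      rw [← mul_sub, ← Finset.sum_sub_distrib]
      congr 1
      apply Finset.sum_congr rfl
      intro x _
      rw [Pi.sub_apply, map_sub, mul_sub]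
    rw [h1, ftAvg_classInner A ψ (ftAvg A ψ), ftAvg_idem, ftAvg_classInner A ψ ψ, sub_self]
  · apply helper12.isCharacter_of_classInner_nat
    · intro x h
      rw [Pi.sub_apply, Pi.sub_apply, hcf x h, ftAvg_classFunction A hcf x h]
    · intro τ
      obtain ⟨n, hn⟩ := helper12.classInner_char_nat hψ (helper24.irr_isCharacter τ.2)
      obtain ⟨r, hr, hrτ⟩ := ftAvg_irr A τ.2
      have h2 : classInner (ψ - ftAvg A ψ) (τ : K → ℂ)
          = classInner ψ (τ : K → ℂ) - classInner (ftAvg A ψ) (τ : K → ℂ) :=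
        helper24.classInner_sub_left _ _ _
      have h3 : classInner (ftAvg A ψ) (τ : K → ℂ) = conj r * classInner ψ (τ : K → ℂ) := by
        rw [ftAvg_classInner]
        unfold classInner
        rw [mul_left_comm]
        congr 1
        rw [Finset.mul_sum]
        apply Finset.sum_congr rfl
        intro x _
        rw [hrτ x, map_mul]
        ring
      rw [h2, h3, hn]
      rcases hr with h | h
      · refine ⟨n, ?_⟩
        rw [h, map_zero, zero_mul, sub_zero]
      · refine ⟨0, ?_⟩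
        rw [h, map_one, one_mul, sub_self, Nat.cast_zero]

/-- a character is zero or has norm at least one -/
theorem ft_char_norm {ψ : K → ℂ} (hψ : IsCharacter K ψ) :
    ψ = 0 ∨ ∃ k : ℕ, 1 ≤ k ∧ classInner ψ ψ = k := by
  haveI : Fintype (IrrCharacter K) := Fintype.ofFinite _
  obtain ⟨n, h1, h2, h3⟩ := helper12.char_decomp hψ
  by_cases h0 : ∑ τ : IrrCharacter K, n τ ^ 2 = 0
  · left
    have h4 : ∀ τ : IrrCharacter K, n τ = 0 := by
      intro τ
      have := (Finset.sum_eq_zero_iff.mp h0) τ (Finset.mem_univ τ)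
      exact pow_eq_zero_iff (two_ne_zero) |>.mp this
    rw [h1]
    apply Finset.sum_eq_zero
    intro τ _
    rw [h4 τ, Nat.cast_zero, zero_smul]
  · right
    exact ⟨_, Nat.one_le_iff_ne_zero.mpr h0, h3⟩

end FTA1

end Cfsg.Agent.helper22
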