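import Mathlib
import Cfsg.Agent.Lib_helper22_FTA1

set_option autoImplicit false
set_option linter.unusedSectionVars false
set_option linter.unusedVariables false
set_option linter.style.haveILetI false
set_option linter.style.longLine false

/-!
helper22: lower bound for the square sum of a character over the elements whose centralizer
meets a normal abelian subgroup nontrivially.
-/

namespace Cfsg.Agent.helper22

open Cfsg
open scoped ComplexConjugate
open scoped Classical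

universe u

section FTA2
variable {K : Type u} [Group K] [Fintype K]

theorem ftAvg_mul_right (A : Subgroup K) (f : K → ℂ) (x : K) (a : K) (ha : a ∈ A) :
    ftAvg A f (x * a) = ftAvg A f x := by
  rw [ftAvg_apply, ftAvg_apply]
  congr 1
  apply Fintype.sum_equiv (Equiv.mulLeft (⟨a, ha⟩ : A))
  intro b
  show f (x * a * (b : K)) = f (x * (((⟨a, ha⟩ : A) * b : A) : K))
  rw [Subgroup.coe_mul, mul_assoc]

theorem ft_normSq_sum (f : K → ℂ) (k : ℕ) (h : classInner f f = k) :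
    ∑ x : K, Complex.normSq (f x) = (Nat.card K : ℝ) * k := by
  unfold classInner at h
  have hK : (Nat.card K : ℂ) ≠ 0 := by
    have : 0 < Nat.card K := Nat.card_pos
    exact_mod_cast this.ne'
  have h1 : ∑ x : K, f x * conj (f x) = (Nat.card K : ℂ) * k := by
    rw [← h, ← mul_assoc, mul_inv_cancel₀ hK, one_mul]
  have h2 : ((∑ x : K, Complex.normSq (f x) : ℝ) : ℂ) = ((Nat.card K : ℝ) * k : ℝ) := by
    push_cast
    rw [← h1]
    apply Finset.sum_congr rfl
    intro x _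
    rw [Complex.mul_conj]
  exact_mod_cast h2

theorem ft_lower (A Z₀ : Subgroup K) [hA : A.Normal]
    (hab : ∀ a ∈ A, ∀ b ∈ A, a * b = b * a)
    (hZc : ∀ z ∈ Z₀, ∀ x : K, x * z = z * x)
    (hAZ : A ⊓ Z₀ = ⊥)
    {ψ : K → ℂ} (hψ : IsCharacter K ψ)
    (hcen : ∀ z ∈ Z₀, ∃ ω : ℂ, ‖ω‖ = 1 ∧ ∀ x, ψ (x * z) = ω * ψ x)
    (hnt : ∃ a ∈ A, ψ a ≠ ψ 1) :
    (Nat.card A : ℝ) * (Nat.card Z₀ : ℝ) * Complex.normSq (ftAvg A ψ 1) + (Nat.card K : ℝ)
      ≤ ∑ x : K, if (∃ a ∈ A, a ≠ 1 ∧ a * x = x * a) then Complex.normSq (ψ x) else 0 := by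
  have hcf : IsClassFunction K ψ := helper24.char_isClassFunction hψ
  obtain ⟨horth, hchar⟩ := ftAvg_split A hψ
  obtain ⟨ψ₁, hψ₁⟩ : ∃ ψ₁ : K → ℂ, ψ₁ = ftAvg A ψ := ⟨_, rfl⟩
  obtain ⟨ψ', hψ'⟩ : ∃ ψ' : K → ℂ, ψ' = ψ - ftAvg A ψ := ⟨_, rfl⟩
  rw [← hψ'] at horth hchar
  rw [← hψ₁] at horth
  have hsum : ∀ x, ψ x = ψ₁ x + ψ' x := by
    intro x
    rw [hψ', hψ₁, Pi.sub_apply]
    ring
  have hvan : ∀ x, ¬ (∃ a ∈ A, a ≠ 1 ∧ a * x = x * a) → ψ' x = 0 := by
    intro x hx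
    have hx' : ∀ a ∈ A, a * x = x * a → a = 1 := by
      intro a ha hax
      by_contra hne
      exact hx ⟨a, ha, hne, hax⟩
    rw [hψ', Pi.sub_apply, ftAvg_of_free A hcf x hx', sub_self]
  have hne : ψ' ≠ 0 := by
    intro h0
    obtain ⟨a, ha, hane⟩ := hnt
    apply hane
    have h1 : ∀ x, ψ x = ψ₁ x := by
      intro x
      rw [hsum x, h0, Pi.zero_apply, add_zero]
    rw [h1 a, h1 1, hψ₁]
    have := ftAvg_mul_right A ψ 1 a ha
    rwa [one_mul] at this
  obtain ⟨k, hk1, hk⟩ : ∃ k : ℕ, 1 ≤ k ∧ classInner ψ' ψ' = k := by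
    rcases ft_char_norm hchar with h | h
    · exact absurd h hne
    · exact h
  have hnorm' := ft_normSq_sum ψ' k hk
  have horth' : ∑ x : K, ψ₁ x * conj (ψ' x) = 0 := by
    unfold classInner at horth
    have hK : (Nat.card K : ℂ) ≠ 0 := by
      have : 0 < Nat.card K := Nat.card_pos
      exact_mod_cast this.ne'
    rcases mul_eq_zero.mp horth with h | h
    · exact absurd (inv_eq_zero.mp h) hK
    · exact h
  -- pointwise decomposition
  have hpt : ∀ x : K, (if (∃ a ∈ A, a ≠ 1 ∧ a * x = x * a) then Complex.normSq (ψ x) else 0)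
      = (if (∃ a ∈ A, a ≠ 1 ∧ a * x = x * a) then Complex.normSq (ψ₁ x) else 0)
        + Complex.normSq (ψ' x) + 2 * (ψ₁ x * conj (ψ' x)).re := by
    intro x
    by_cases hx : ∃ a ∈ A, a ≠ 1 ∧ a * x = x * a
    · rw [if_pos hx, if_pos hx, hsum x, Complex.normSq_add]
    · rw [if_neg hx, if_neg hx, hvan x hx]
      simp
  rw [Finset.sum_congr rfl (fun x _ => hpt x), Finset.sum_add_distrib, Finset.sum_add_distrib,
    hnorm', ← Finset.mul_sum]
  have hre : ∑ x : K, (ψ₁ x * conj (ψ' x)).re = 0 := by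
    rw [← Complex.re_sum, horth', Complex.zero_re]
  rw [hre, mul_zero, add_zero]
  -- lower bound for the averaged part
  have hlow : (Nat.card A : ℝ) * (Nat.card Z₀ : ℝ) * Complex.normSq (ftAvg A ψ 1)
      ≤ ∑ x : K, if (∃ a ∈ A, a ≠ 1 ∧ a * x = x * a) then Complex.normSq (ψ₁ x) else 0 := by
    obtain ⟨a₀, ha₀, ha₀ne⟩ := hnt
    have ha₀1 : a₀ ≠ 1 := by
      intro h
      apply ha₀ne
      rw [h]
    rw [← Finset.sum_filter]
    obtain ⟨I, hI⟩ : ∃ I : Finset K, I = (Finset.univ : Finset (A × Z₀)).image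
        (fun p => (p.1 : K) * (p.2 : K)) := ⟨_, rfl⟩
    have hinj : Set.InjOn (fun p : A × Z₀ => (p.1 : K) * (p.2 : K))
        ((Finset.univ : Finset (A × Z₀)) : Set (A × Z₀)) := by
      rintro ⟨⟨a, ha⟩, ⟨z, hz⟩⟩ _ ⟨⟨a', ha'⟩, ⟨z', hz'⟩⟩ _ h
      have h1 : a * z = a' * z' := h
      have h2 : a'⁻¹ * a = z' * z⁻¹ := by
        have : a'⁻¹ * (a * z) * z⁻¹ = a'⁻¹ * (a' * z') * z⁻¹ := by rw [h1]
        calc a'⁻¹ * a = a'⁻¹ * (a * z) * z⁻¹ := by group
          _ = a'⁻¹ * (a' * z') * z⁻¹ := this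
          _ = z' * z⁻¹ := by group
      have h3 : a'⁻¹ * a ∈ A ⊓ Z₀ := by
        refine ⟨A.mul_mem (A.inv_mem ha') ha, ?_⟩
        rw [h2]
        exact Z₀.mul_mem hz' (Z₀.inv_mem hz)
      rw [hAZ, Subgroup.mem_bot] at h3
      have h4 : a = a' := by
        have := inv_mul_eq_one.mp h3
        exact this.symm
      have h5 : z = z' := by
        rw [h3] at h2
        have := mul_inv_eq_one.mp h2.symm
        exact this.symm
      subst h4; subst h5; rfl
    have hIsub : I ⊆ Finset.univ.filter (fun x : K => ∃ a ∈ A, a ≠ 1 ∧ a * x = x * a) := by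
      intro x hx
      rw [hI, Finset.mem_image] at hx
      obtain ⟨⟨⟨a, ha⟩, ⟨z, hz⟩⟩, -, rfl⟩ := hx
      rw [Finset.mem_filter]
      refine ⟨Finset.mem_univ _, a₀, ha₀, ha₀1, ?_⟩
      show a₀ * (a * z) = a * z * a₀
      rw [← mul_assoc, hab a₀ ha₀ a ha, mul_assoc, mul_assoc, hZc z hz a₀]
    have hval : ∀ p : A × Z₀, Complex.normSq (ψ₁ ((p.1 : K) * (p.2 : K)))
        = Complex.normSq (ftAvg A ψ 1) := by
      rintro ⟨⟨a, ha⟩, ⟨z, hz⟩⟩
      show Complex.normSq (ψ₁ (a * z)) = _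
      obtain ⟨ω, hω1, hω⟩ := hcen z hz
      have h1 : ψ₁ (a * z) = ω * ftAvg A ψ 1 := by
        rw [hψ₁, hZc z hz a, ftAvg_mul_right A ψ z a ha, ftAvg_apply, ftAvg_apply,
          mul_left_comm]
        congr 1
        rw [Finset.mul_sum]
        apply Finset.sum_congr rfl
        intro b _
        rw [one_mul, ← hZc z hz (b : K), hω]
      rw [h1, map_mul, Complex.normSq_eq_norm_sq, hω1]
      simp
    calc (Nat.card A : ℝ) * (Nat.card Z₀ : ℝ) * Complex.normSq (ftAvg A ψ 1)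
        = ∑ p : A × Z₀, Complex.normSq (ψ₁ ((p.1 : K) * (p.2 : K))) := by
          rw [Finset.sum_congr rfl (fun p _ => hval p), Finset.sum_const, Finset.card_univ,
            Fintype.card_prod, nsmul_eq_mul, Nat.card_eq_fintype_card, Nat.card_eq_fintype_card]
          push_cast
          ring
      _ = ∑ x ∈ I, Complex.normSq (ψ₁ x) := by
          rw [hI, Finset.sum_image hinj]
      _ ≤ ∑ x ∈ Finset.univ.filter (fun x : K => ∃ a ∈ A, a ≠ 1 ∧ a * x = x * a),
            Complex.normSq (ψ₁ x) :=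
          Finset.sum_le_sum_of_subset_of_nonneg hIsub (fun x _ _ => Complex.normSq_nonneg _)
  have hk' : (1 : ℝ) ≤ (k : ℝ) := by exact_mod_cast hk1
  have hKpos : (0 : ℝ) ≤ (Nat.card K : ℝ) := Nat.cast_nonneg _
  nlinarith

end FTA2

end Cfsg.Agent.helper22
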