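import Mathlib
import Cfsg.Agent.Lib_helper22_FTA2
import Cfsg.Agent.Lib_helper12_Sl2Gauss

set_option autoImplicit false
set_option linter.unusedSectionVars false
set_option linter.unusedVariables false
set_option linter.style.haveILetI false
set_option linter.style.longLine false

/-!
helper22: Feit–Thompson's bound: an abelian subgroup `H` meeting the centre trivially such that
the centralizer of a noncentral element meets at most one conjugate of `H`; then
`χ(1)² > |H| [χ_H, 1_H]²` for irreducible `χ` not containing `H` in its kernel.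
-/

namespace Cfsg.Agent.helper22

open Cfsg
open scoped ComplexConjugate
open scoped Classical

universe u

section FTA3
variable {G : Type u} [Group G] [Fintype G]

theorem ft_mem_map_conj (H : Subgroup G) (s y : G) :
    y ∈ H.map (MulAut.conj s).toMonoidHom ↔ s⁻¹ * y * s ∈ H := by
  constructor
  · rintro ⟨h, hh, rfl⟩
    have : s⁻¹ * ((MulAut.conj s).toMonoidHom h) * s = h := by
      show s⁻¹ * (s * h * s⁻¹) * s = h
      group
    rw [this]; exact hh
  · intro h
    refine ⟨s⁻¹ * y * s, h, ?_⟩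
    show s * (s⁻¹ * y * s) * s⁻¹ = y
    group

theorem ft_map_conj_one (H : Subgroup G) : H.map (MulAut.conj (1 : G)).toMonoidHom = H := by
  ext y
  rw [ft_mem_map_conj]
  simp

theorem ft_mem_normalizer_of_map_eq (H : Subgroup G) (s : G)
    (h : H.map (MulAut.conj (1 : G)).toMonoidHom = H.map (MulAut.conj s).toMonoidHom) :
    s ∈ Subgroup.normalizer (H : Set G) := by
  rw [ft_map_conj_one] at h
  rw [Subgroup.mem_normalizer_iff]
  intro y
  constructor
  · intro hy
    have : s * y * s⁻¹ ∈ H.map (MulAut.conj s).toMonoidHom := ⟨y, hy, rfl⟩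
    rwa [← h] at this
  · intro hy
    rw [h, ft_mem_map_conj] at hy
    have h2 : s⁻¹ * (s * y * s⁻¹) * s = y := by group
    rwa [h2] at hy

/-- **Feit–Thompson bound**, complex form. -/
theorem ft_main (H : Subgroup G) [Fintype H]
    (hab : ∀ a ∈ H, ∀ b ∈ H, a * b = b * a) (hZ : H ⊓ Subgroup.center G = ⊥)
    (hone : ∀ g : G, g ∉ Subgroup.center G → ∀ a b : G,
      Subgroup.centralizer ({g} : Set G) ⊓ H.map (MulAut.conj a).toMonoidHom ≠ ⊥ →
      Subgroup.centralizer ({g} : Set G) ⊓ H.map (MulAut.conj b).toMonoidHom ≠ ⊥ →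
      H.map (MulAut.conj a).toMonoidHom = H.map (MulAut.conj b).toMonoidHom)
    (χ : G → ℂ) (hχ : IsIrrCharacter G χ) (hker : ∃ h ∈ H, χ h ≠ χ 1) :
    (Nat.card H : ℝ) * Complex.normSq ((Nat.card H : ℂ)⁻¹ * ∑ h : H, χ (h : G))
      < Complex.normSq (χ 1) := by
  have hχc : IsCharacter G χ := helper24.irr_isCharacter hχ
  have hcl : ∀ g h : G, χ (h * g * h⁻¹) = χ g := helper24.char_isClassFunction hχc
  obtain ⟨N, hN⟩ : ∃ N : Subgroup G, N = Subgroup.normalizer (H : Set G) := ⟨_, rfl⟩
  obtain ⟨Z, hZdef⟩ : ∃ Z : Subgroup G, Z = Subgroup.center G := ⟨_, rfl⟩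
  have hHN : H ≤ N := hN ▸ Subgroup.le_normalizer
  have hZN : Z ≤ N := by
    intro z hz
    rw [hN, Subgroup.mem_normalizer_iff]
    intro y
    rw [hZdef, Subgroup.mem_center_iff] at hz
    have : z * y * z⁻¹ = y := by rw [← hz y]; group
    rw [this]
  obtain ⟨a₀, ha₀, ha₀ne⟩ := hker
  have ha₀1 : a₀ ≠ 1 := by
    intro h
    apply ha₀ne
    rw [h]
  -- the predicate
  obtain ⟨P, hP⟩ : ∃ P : G → Prop, P = fun x => ∃ a ∈ H, a ≠ 1 ∧ a * x = x * a := ⟨_, rfl⟩
  have hPdef : ∀ x, P x ↔ ∃ a ∈ H, a ≠ 1 ∧ a * x = x * a := by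
    intro x; rw [hP]
  -- central elements satisfy P
  have hPZ : ∀ z ∈ Z, P z := by
    intro z hz
    rw [hPdef]
    refine ⟨a₀, ha₀, ha₀1, ?_⟩
    rw [hZdef, Subgroup.mem_center_iff] at hz
    exact hz a₀
  have hmemC : ∀ (x a : G), a * x = x * a → a ∈ Subgroup.centralizer ({x} : Set G) := by
    intro x a h
    rw [Subgroup.mem_centralizer_singleton_iff]
    exact h
  -- TI property
  have hTI : ∀ (x t : G), x ∉ Z → P x → P (t * x * t⁻¹) → t ∈ N := by
    intro x t hxZ hPx hPt
    rw [hPdef] at hPx hPt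
    obtain ⟨a, ha, ha1, hax⟩ := hPx
    obtain ⟨b, hb, hb1, hbx⟩ := hPt
    have h1 : Subgroup.centralizer ({x} : Set G) ⊓ H.map (MulAut.conj (1 : G)).toMonoidHom ≠ ⊥ := by
      intro h
      apply ha1
      have : a ∈ Subgroup.centralizer ({x} : Set G) ⊓ H.map (MulAut.conj (1 : G)).toMonoidHom := by
        refine Subgroup.mem_inf.mpr ⟨hmemC x a hax, ?_⟩
        rw [ft_map_conj_one]; exact ha
      rw [h, Subgroup.mem_bot] at this
      exact this
    have h2 : Subgroup.centralizer ({x} : Set G) ⊓ H.map (MulAut.conj t⁻¹).toMonoidHom ≠ ⊥ := by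
      intro h
      apply hb1
      have : t⁻¹ * b * t ∈ Subgroup.centralizer ({x} : Set G) ⊓
          H.map (MulAut.conj t⁻¹).toMonoidHom := by
        refine Subgroup.mem_inf.mpr ⟨hmemC x _ ?_, ?_⟩
        · have h3 : t⁻¹ * b * t * x = t⁻¹ * (b * (t * x * t⁻¹)) * t := by group
          rw [h3, hbx]; group
        · rw [ft_mem_map_conj]
          have h3 : t⁻¹⁻¹ * (t⁻¹ * b * t) * t⁻¹ = b := by group
          rw [h3]; exact hb
      rw [h, Subgroup.mem_bot] at this
      have h4 : b = t * (t⁻¹ * b * t) * t⁻¹ := by group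
      rw [h4, this]; group
    have h3 := hone x (hZdef ▸ hxZ) 1 t⁻¹ h1 h2
    have h4 := ft_mem_normalizer_of_map_eq H t⁻¹ h3
    rw [← hN] at h4
    have := N.inv_mem h4
    rwa [inv_inv] at this
  -- P implies membership in N
  have hPN : ∀ x, P x → x ∈ N := by
    intro x hPx
    by_cases hxZ : x ∈ Z
    · exact hZN hxZ
    · apply hTI x x hxZ hPx
      have : x * x * x⁻¹ = x := by group
      rw [this]; exact hPx
  -- square sums
  obtain ⟨f, hf⟩ : ∃ f : G → ℝ, f = fun y => Complex.normSq (χ y) := ⟨_, rfl⟩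
  have hfdef : ∀ y, f y = Complex.normSq (χ y) := by intro y; rw [hf]
  have hfnn : ∀ y, 0 ≤ f y := by intro y; rw [hfdef]; exact Complex.normSq_nonneg _
  have hfcl : ∀ t y : G, f (t * y * t⁻¹) = f y := by
    intro t y; rw [hfdef, hfdef, hcl]
  have hftot : ∑ y : G, f y = (Nat.card G : ℝ) := by
    have h1 := ft_normSq_sum χ 1 (by rw [helper24.irr_classInner_self hχ]; simp)
    rw [Finset.sum_congr rfl (fun y _ => hfdef y), h1]
    simp
  have hfZ : ∀ z ∈ Z, f z = Complex.normSq (χ 1) := by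
    intro z hz
    rw [hZdef, Subgroup.mem_center_iff] at hz
    obtain ⟨c, hc1, hc⟩ := helper12.irr_central_scalar hχ z hz
    have h1 := hc 1
    rw [one_mul] at h1
    rw [hfdef, h1, map_mul, Complex.normSq_eq_norm_sq, hc1]
    simp
  -- Step A: counting
  obtain ⟨S, hS⟩ : ∃ S : Finset G, S = Finset.univ.filter (fun x => x ∉ Z ∧ P x) := ⟨_, rfl⟩
  have hSmem : ∀ x, x ∈ S ↔ (x ∉ Z ∧ P x) := by
    intro x; rw [hS, Finset.mem_filter]; simp
  have hcount : ∀ y : G, ((Finset.univ.filter (fun t : G => t⁻¹ * y * t ∈ S)).card : ℝ) * f y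
      ≤ (if y ∈ Z then 0 else (Nat.card N : ℝ) * f y) := by
    intro y
    by_cases hy : y ∈ Z
    · rw [if_pos hy]
      have hempty : Finset.univ.filter (fun t : G => t⁻¹ * y * t ∈ S) = ∅ := by
        apply Finset.filter_eq_empty_iff.mpr
        intro t _ ht
        rw [hSmem] at ht
        apply ht.1
        have hy' := hy
        rw [hZdef, Subgroup.mem_center_iff] at hy'
        have : t⁻¹ * y * t = y := by rw [mul_assoc, ← hy' t]; group
        rw [this]; exact hy
      rw [hempty]; simp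
    · rw [if_neg hy]
      apply mul_le_mul_of_nonneg_right _ (hfnn y)
      by_cases hne : (Finset.univ.filter (fun t : G => t⁻¹ * y * t ∈ S)).Nonempty
      · obtain ⟨t₀, ht₀⟩ := hne
        rw [Finset.mem_filter] at ht₀
        have hcard : (Finset.univ.filter (fun t : G => t⁻¹ * y * t ∈ S)).card
            ≤ (Finset.univ.filter (fun g : G => g ∈ N)).card := by
          apply Finset.card_le_card_of_injOn (fun t => t₀⁻¹ * t)
          · intro t ht
            rw [Finset.mem_coe, Finset.mem_filter] at ht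
            rw [Finset.mem_coe, Finset.mem_filter]
            refine ⟨Finset.mem_univ _, ?_⟩
            have h1 := (hSmem _).mp ht₀.2
            have h2 := (hSmem _).mp ht.2
            have h3 : t⁻¹ * t₀ ∈ N := by
              apply hTI (t₀⁻¹ * y * t₀) (t⁻¹ * t₀) h1.1 h1.2
              have : t⁻¹ * t₀ * (t₀⁻¹ * y * t₀) * (t⁻¹ * t₀)⁻¹ = t⁻¹ * y * t := by group
              rw [this]; exact h2.2
            have := N.inv_mem h3
            have h4 : (t⁻¹ * t₀)⁻¹ = t₀⁻¹ * t := by group
            rwa [h4] at this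
          · intro t _ t' _ h
            exact mul_left_cancel h
        have hN' : (Finset.univ.filter (fun g : G => g ∈ N)).card = Nat.card N := by
          rw [Nat.card_eq_fintype_card, Fintype.card_subtype]
        rw [hN'] at hcard
        exact_mod_cast hcard
      · rw [Finset.not_nonempty_iff_eq_empty] at hne
        rw [hne]; simp
  have hA : (Nat.card G : ℝ) * ∑ x ∈ S, f x
      ≤ (Nat.card N : ℝ) * ((Nat.card G : ℝ) - (Nat.card Z : ℝ) * Complex.normSq (χ 1)) := by
    have h1 : ∀ t : G, ∑ x ∈ S, f x = ∑ y : G, if t⁻¹ * y * t ∈ S then f y else 0 := by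
      intro t
      rw [← Finset.sum_filter]
      have h2 : ∑ x ∈ S, f x = ∑ x : G, if x ∈ S then f x else 0 := by
        rw [← Finset.sum_filter]
        congr 1
        ext x; simp
      rw [h2, Finset.sum_filter]
      rw [← Equiv.sum_comp (MulAut.conj t⁻¹).toEquiv]
      apply Finset.sum_congr rfl
      intro y _
      show (if t⁻¹ * y * t⁻¹⁻¹ ∈ S then f (t⁻¹ * y * t⁻¹⁻¹) else 0) = _
      rw [hfcl, inv_inv]
    have h3 : (Nat.card G : ℝ) * ∑ x ∈ S, f x
        = ∑ y : G, ((Finset.univ.filter (fun t : G => t⁻¹ * y * t ∈ S)).card : ℝ) * f y := by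
      have h4 : (Nat.card G : ℝ) * ∑ x ∈ S, f x = ∑ t : G, ∑ x ∈ S, f x := by
        rw [Finset.sum_const, Finset.card_univ, nsmul_eq_mul, Nat.card_eq_fintype_card]
      rw [h4, Finset.sum_congr rfl (fun t _ => h1 t), Finset.sum_comm]
      apply Finset.sum_congr rfl
      intro y _
      rw [← Finset.sum_filter, Finset.sum_const, nsmul_eq_mul]
    rw [h3]
    calc ∑ y : G, ((Finset.univ.filter (fun t : G => t⁻¹ * y * t ∈ S)).card : ℝ) * f y
        ≤ ∑ y : G, (if y ∈ Z then 0 else (Nat.card N : ℝ) * f y) :=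
          Finset.sum_le_sum (fun y _ => hcount y)
      _ = (Nat.card N : ℝ) * ((Nat.card G : ℝ) - (Nat.card Z : ℝ) * Complex.normSq (χ 1)) := by
          have h5 : ∀ y : G, (if y ∈ Z then 0 else (Nat.card N : ℝ) * f y)
              = (Nat.card N : ℝ) * f y - (if y ∈ Z then (Nat.card N : ℝ) * Complex.normSq (χ 1) else 0) := by
            intro y
            by_cases hy : y ∈ Z
            · rw [if_pos hy, if_pos hy, hfZ y hy, sub_self]
            · rw [if_neg hy, if_neg hy, sub_zero]
          rw [Finset.sum_congr rfl (fun y _ => h5 y), Finset.sum_sub_distrib, ← Finset.mul_sum, hftot,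
            ← Finset.sum_filter, Finset.sum_const, nsmul_eq_mul]
          have hZ' : (Finset.univ.filter (fun g : G => g ∈ Z)).card = Nat.card Z := by
            rw [Nat.card_eq_fintype_card, Fintype.card_subtype]
          rw [hZ']
          ring
  -- Step B: lower bound through the normalizer
  have hB : (Nat.card H : ℝ) * (Nat.card Z : ℝ) *
        Complex.normSq ((Nat.card H : ℂ)⁻¹ * ∑ h : H, χ (h : G)) + (Nat.card N : ℝ)
      ≤ ∑ x : G, if P x then f x else 0 := by
    haveI hAn : (H.subgroupOf N).Normal := by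
      rw [hN]; exact Subgroup.normal_in_normalizer
    have hψ : IsCharacter ↥N (fun x : ↥N => χ (x : G)) := helper12.isCharacter_restrict N hχc
    have h1 := ft_lower (K := ↥N) (H.subgroupOf N) (Z.subgroupOf N)
      (by
        intro a ha b hb
        apply Subtype.ext
        exact hab _ (Subgroup.mem_subgroupOf.mp ha) _ (Subgroup.mem_subgroupOf.mp hb))
      (by
        intro z hz x
        apply Subtype.ext
        have hz' : (z : G) ∈ Subgroup.center G := hZdef ▸ (Subgroup.mem_subgroupOf.mp hz)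
        exact (Subgroup.mem_center_iff.mp hz' (x : G)))
      (by
        rw [eq_bot_iff]
        intro x hx
        rw [Subgroup.mem_bot]
        apply Subtype.ext
        have h2 : (x : G) ∈ H ⊓ Subgroup.center G :=
          ⟨Subgroup.mem_subgroupOf.mp hx.1, hZdef ▸ (Subgroup.mem_subgroupOf.mp hx.2)⟩
        rw [hZ, Subgroup.mem_bot] at h2
        exact h2)
      hψ
      (by
        intro z hz
        have hz' : (z : G) ∈ Subgroup.center G := hZdef ▸ (Subgroup.mem_subgroupOf.mp hz)
        obtain ⟨c, hc1, hc⟩ := helper12.irr_central_scalar hχ (z : G)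
          (Subgroup.mem_center_iff.mp hz')
        exact ⟨c, hc1, fun x => hc (x : G)⟩)
      ⟨⟨a₀, hHN ha₀⟩, Subgroup.mem_subgroupOf.mpr ha₀, ha₀ne⟩
    -- rewrite the left side
    have hcA : Nat.card ↥(H.subgroupOf N) = Nat.card H :=
      Nat.card_congr (Subgroup.subgroupOfEquivOfLe hHN).toEquiv
    have hcZ : Nat.card ↥(Z.subgroupOf N) = Nat.card Z :=
      Nat.card_congr (Subgroup.subgroupOfEquivOfLe hZN).toEquiv
    have havg : ftAvg (H.subgroupOf N) (fun x : ↥N => χ (x : G)) 1
        = (Nat.card H : ℂ)⁻¹ * ∑ h : H, χ (h : G) := by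
      rw [ftAvg_apply, hcA]
      congr 1
      apply Fintype.sum_equiv (Subgroup.subgroupOfEquivOfLe hHN).toEquiv
      intro a
      show χ (((1 : ↥N) * (a : ↥N) : ↥N) : G) = χ (((Subgroup.subgroupOfEquivOfLe hHN) a : H) : G)
      rw [one_mul]
      rfl
    rw [hcA, hcZ, havg] at h1
    -- rewrite the right side
    refine le_trans h1 (le_of_eq ?_)
    have h2 : ∀ x : ↥N, (∃ a ∈ H.subgroupOf N, a ≠ 1 ∧ a * x = x * a) ↔ P (x : G) := by
      intro x
      rw [hPdef]
      constructor
      · rintro ⟨a, ha, ha1, hax⟩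
        refine ⟨(a : G), Subgroup.mem_subgroupOf.mp ha, fun h => ha1 (Subtype.ext h), ?_⟩
        exact congrArg Subtype.val hax
      · rintro ⟨a, ha, ha1, hax⟩
        refine ⟨⟨a, hHN ha⟩, Subgroup.mem_subgroupOf.mpr ha, ?_, Subtype.ext hax⟩
        intro h
        exact ha1 (congrArg Subtype.val h)
    trans ∑ x : ↥N, (fun y : G => if P y then f y else 0) (x : G)
    · apply Finset.sum_congr rfl
      intro x _
      by_cases hx : P (x : G)
      · rw [if_pos ((h2 x).mpr hx)]
        show _ = if P (x : G) then f (x : G) else 0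
        rw [if_pos hx, hfdef]
      · rw [if_neg (fun h => hx ((h2 x).mp h))]
        show _ = if P (x : G) then f (x : G) else 0
        rw [if_neg hx]
    · rw [← Finset.sum_subtype (Finset.univ.filter (fun g : G => g ∈ N))
        (fun x => by simp) (fun y : G => if P y then f y else 0)]
      apply Finset.sum_subset (Finset.filter_subset _ _)
      intro x _ hx
      rw [Finset.mem_filter] at hx
      have hxN : x ∉ N := fun h => hx ⟨Finset.mem_univ _, h⟩
      rw [if_neg (fun h => hxN (hPN x h))]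
  -- Step C: combine
  have hsplit : ∑ x : G, (if P x then f x else 0)
      = ∑ x ∈ S, f x + (Nat.card Z : ℝ) * Complex.normSq (χ 1) := by
    have h1 : ∀ x : G, (if P x then f x else 0)
        = (if x ∈ S then f x else 0) + (if x ∈ Z then Complex.normSq (χ 1) else 0) := by
      intro x
      by_cases hxZ : x ∈ Z
      · rw [if_pos (hPZ x hxZ), if_neg (fun h => ((hSmem x).mp h).1 hxZ), if_pos hxZ, hfZ x hxZ,
          zero_add]
      · by_cases hPx : P x
        · rw [if_pos hPx, if_pos ((hSmem x).mpr ⟨hxZ, hPx⟩), if_neg hxZ, add_zero]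
        · rw [if_neg hPx, if_neg (fun h => hPx ((hSmem x).mp h).2), if_neg hxZ, add_zero]
    rw [Finset.sum_congr rfl (fun x _ => h1 x), Finset.sum_add_distrib, ← Finset.sum_filter,
      ← Finset.sum_filter, Finset.sum_const, nsmul_eq_mul]
    have hZ' : (Finset.univ.filter (fun g : G => g ∈ Z)).card = Nat.card Z := by
      rw [Nat.card_eq_fintype_card, Fintype.card_subtype]
    rw [hZ']
    congr 1
    apply Finset.sum_congr _ (fun _ _ => rfl)
    ext x; simp
  rw [hsplit] at hB
  -- positivity facts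
  have hGpos : (0 : ℝ) < (Nat.card G : ℝ) := by exact_mod_cast Nat.card_pos
  have hNpos : (0 : ℝ) < (Nat.card N : ℝ) := by exact_mod_cast Nat.card_pos
  have hZpos : (0 : ℝ) < (Nat.card Z : ℝ) := by exact_mod_cast Nat.card_pos
  have hdpos : (0 : ℝ) < Complex.normSq (χ 1) := by
    rw [Complex.normSq_pos]
    exact helper24.irr_apply_one_ne_zero hχ
  have hNG : (Nat.card N : ℝ) ≤ (Nat.card G : ℝ) := by
    have : Nat.card N ≤ Nat.card G := Subgroup.card_le_card_group N
    exact_mod_cast this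
  -- let X = |H| normSq c, s = Σ_S f, d2 = normSq (χ 1)
  obtain ⟨X, hX⟩ : ∃ X : ℝ, X = (Nat.card H : ℝ) *
      Complex.normSq ((Nat.card H : ℂ)⁻¹ * ∑ h : H, χ (h : G)) := ⟨_, rfl⟩
  obtain ⟨s, hs⟩ : ∃ s : ℝ, s = ∑ x ∈ S, f x := ⟨_, rfl⟩
  obtain ⟨d2, hd2⟩ : ∃ d2 : ℝ, d2 = Complex.normSq (χ 1) := ⟨_, rfl⟩
  obtain ⟨g, hg⟩ : ∃ g : ℝ, g = (Nat.card G : ℝ) := ⟨_, rfl⟩
  obtain ⟨n, hn⟩ : ∃ n : ℝ, n = (Nat.card N : ℝ) := ⟨_, rfl⟩
  obtain ⟨z, hz⟩ : ∃ z : ℝ, z = (Nat.card Z : ℝ) := ⟨_, rfl⟩
  have hB' : X * z + n ≤ s + z * d2 := by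
    rw [hX, hs, hd2, hn, hz]
    have := hB
    nlinarith [this]
  have hA' : g * s ≤ n * (g - z * d2) := by
    rw [hg, hs, hn, hz, hd2]; exact hA
  rw [← hX, ← hd2]
  rw [← hg] at hGpos hNG
  rw [← hn] at hNpos hNG
  rw [← hz] at hZpos
  rw [← hd2] at hdpos
  -- g (X z + n - z d2) ≤ g s ≤ n g - n z d2 ⇒ g X z ≤ z d2 (g - n) < z d2 g
  have h1 : g * (X * z + n - z * d2) ≤ n * (g - z * d2) := by
    have : g * (X * z + n - z * d2) ≤ g * s := by
      apply mul_le_mul_of_nonneg_left _ hGpos.le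
      linarith
    linarith
  have h2 : g * X * z ≤ z * d2 * (g - n) := by nlinarith
  have h3 : z * d2 * (g - n) < z * d2 * g := by
    have : 0 < z * d2 * n := by positivity
    nlinarith
  have h4 : g * z * X < g * z * d2 := by nlinarith
  have h5 : 0 < g * z := by positivity
  exact lt_of_mul_lt_mul_left h4 h5.le

end FTA3

end Cfsg.Agent.helper22
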