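import Mathlib
import Cfsg.Agent.Lib_helper12_CharOps
import Cfsg.Agent.Lib_helper12_Sl2Gauss
import Cfsg.Agent.Lib_helper24_CharOrth
import Cfsg.Agent.Lib_helper24_CharBasic
import Cfsg.Agent.Lib_helper22_ExtLin
import Cfsg.Agent.Lib_helper8_Ind
import Cfsg.Agent.S0187

set_option autoImplicit false
set_option linter.unusedSectionVars false
set_option linter.unusedVariables false
set_option linter.style.haveILetI false
set_option linter.style.longLine false

/-!
helper22: degrees of faithful invariant characters of a group `T` acted on by a group `A`: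
the Frobenius-like abelian case and the special case (fully ramified over the centre).
-/

namespace Cfsg.Agent.helper22

open Cfsg
open scoped ComplexConjugate
open scoped Classical

universe u

section TIS1
variable {T : Type u} [Group T] [Fintype T]

/-- degree of a character as the sum of the degrees of its constituents -/
theorem tis_decomp (ψ : T → ℂ) (hψ : IsCharacter T ψ) [Fintype (IrrCharacter T)] :
    ∃ n : IrrCharacter T → ℕ, (ψ = ∑ τ : IrrCharacter T, (n τ : ℂ) • (τ : T → ℂ)) ∧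
      (∀ τ : IrrCharacter T, classInner ψ (τ : T → ℂ) = n τ) ∧
      charDegree ψ = ∑ τ : IrrCharacter T, n τ * charDegree (τ : T → ℂ) := by
  obtain ⟨n, h1, h2, -⟩ := helper12.char_decomp hψ
  refine ⟨n, h1, h2, ?_⟩
  have h3 : (charDegree ψ : ℂ) = ((∑ τ : IrrCharacter T, n τ * charDegree (τ : T → ℂ) : ℕ) : ℂ) := by
    rw [helper24.char_charDegree_cast hψ]
    conv_lhs => rw [h1]
    rw [Finset.sum_apply]
    push_cast
    apply Finset.sum_congr rfl
    intro τ _
    rw [Pi.smul_apply, smul_eq_mul, helper24.char_charDegree_cast (helper24.irr_isCharacter τ.2)]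
  exact_mod_cast h3

theorem tis_deg_ge (ψ : T → ℂ) (hψ : IsCharacter T ψ) (θ : IrrCharacter T)
    (hθ : classInner ψ (θ : T → ℂ) ≠ 0) : charDegree (θ : T → ℂ) ≤ charDegree ψ := by
  haveI : Fintype (IrrCharacter T) := Fintype.ofFinite _
  obtain ⟨n, h1, h2, h3⟩ := tis_decomp ψ hψ
  rw [h3]
  have hn : n θ ≠ 0 := by
    intro h
    apply hθ
    rw [h2 θ, h, Nat.cast_zero]
  calc charDegree (θ : T → ℂ) ≤ n θ * charDegree (θ : T → ℂ) :=
        Nat.le_mul_of_pos_left _ (Nat.pos_of_ne_zero hn)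
    _ ≤ ∑ τ : IrrCharacter T, n τ * charDegree (τ : T → ℂ) :=
        Finset.single_le_sum (f := fun τ => n τ * charDegree (τ : T → ℂ))
          (fun τ _ => Nat.zero_le _) (Finset.mem_univ θ)

/-- twisting an irreducible character by an automorphism -/
noncomputable def tisTw (σ : T ≃* T) (τ : IrrCharacter T) : IrrCharacter T :=
  ⟨fun t => (τ : T → ℂ) (σ t), helper8.isIrrCharacter_comp_mulEquiv σ τ.2⟩

theorem tisTw_apply (σ : T ≃* T) (τ : IrrCharacter T) (t : T) :
    (tisTw σ τ : T → ℂ) t = (τ : T → ℂ) (σ t) := rfl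

theorem tis_inner_tw (σ : T ≃* T) (ψ : T → ℂ) (hinv : ∀ t, ψ (σ t) = ψ t) (τ : IrrCharacter T) :
    classInner ψ (tisTw σ τ : T → ℂ) = classInner ψ (τ : T → ℂ) := by
  unfold classInner
  congr 1
  rw [← Equiv.sum_comp σ.toEquiv (fun t => ψ t * conj ((τ : T → ℂ) t))]
  apply Finset.sum_congr rfl
  intro t _
  show ψ t * conj ((τ : T → ℂ) (σ t)) = ψ (σ t) * conj ((τ : T → ℂ) (σ t))
  rw [hinv]

/-- **Abelian Frobenius-like case**: a faithful invariant character of an abelian group on which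
`A` acts without nontrivial fixed points has degree at least `|A|`. -/
theorem tis_abelian {A : Type u} [Group A] [Fintype A] (α : A →* MulAut T)
    (hab : ∀ a b : T, a * b = b * a) (hnt : ∃ t : T, t ≠ 1)
    (hfpf : ∀ a : A, a ≠ 1 → ∀ t : T, α a t = t → t = 1)
    (ψ : T → ℂ) (hψ : IsCharacter T ψ) (hinv : ∀ (a : A) (t : T), ψ (α a t) = ψ t)
    (hfaith : ∀ t : T, ψ t = ψ 1 → t = 1) : Fintype.card A ≤ charDegree ψ := by
  haveI : Fintype (IrrCharacter T) := Fintype.ofFinite _
  obtain ⟨n, h1, h2, h3⟩ := tis_decomp ψ hψ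
  have hlin : ∀ τ : IrrCharacter T, (τ : T → ℂ) 1 = 1 := (S0187.result (G := T)).mp hab
  have hdeg1 : ∀ τ : IrrCharacter T, charDegree (τ : T → ℂ) = 1 := by
    intro τ
    exact helper24.charDegree_natCast _ 1 (by rw [hlin τ]; simp)
  -- a nontrivial constituent
  have hex : ∃ τ : IrrCharacter T, n τ ≠ 0 ∧ ∃ t : T, (τ : T → ℂ) t ≠ 1 := by
    by_contra hcon
    push Not at hcon
    obtain ⟨t, ht⟩ := hnt
    apply ht
    apply hfaith
    rw [h1, Finset.sum_apply, Finset.sum_apply]
    apply Finset.sum_congr rfl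
    intro τ _
    rw [Pi.smul_apply, Pi.smul_apply]
    by_cases hn : n τ = 0
    · rw [hn]; simp
    · rw [hcon τ hn t, hlin τ]
  obtain ⟨τ, hnτ, t₀, ht₀⟩ := hex
  obtain ⟨φ, hφ⟩ := linear_iff_hom.mp ⟨helper24.irr_isCharacter τ.2, hlin τ⟩
  -- the orbit map is injective
  have hinj : Function.Injective (fun a : A => tisTw (α a) τ) := by
    intro a b hab'
    by_contra hne
    have hc : a * b⁻¹ ≠ 1 := by
      intro h
      apply hne
      exact mul_inv_eq_one.mp h
    have hstab : ∀ s : T, (τ : T → ℂ) (α (a * b⁻¹) s) = (τ : T → ℂ) s := by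
      intro s
      have := congrArg (fun ρ : IrrCharacter T => (ρ : T → ℂ) (α b⁻¹ s)) hab'
      simp only [tisTw_apply] at this
      rw [map_mul, MulAut.mul_apply, this]
      congr 1
      rw [← MulAut.mul_apply, ← map_mul, mul_inv_cancel, map_one, MulAut.one_apply]
    -- the map s ↦ s⁻¹ * α c s is injective, hence surjective
    have hinj2 : Function.Injective (fun s : T => s⁻¹ * α (a * b⁻¹) s) := by
      intro s s' hss
      simp only at hss
      have h4 : α (a * b⁻¹) (s * s'⁻¹) = s * s'⁻¹ := by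
        rw [map_mul, map_inv]
        have h5 : α (a * b⁻¹) s = s * (s'⁻¹ * α (a * b⁻¹) s') := by
          rw [← hss]; group
        rw [h5]
        have h6 : s * (s'⁻¹ * α (a * b⁻¹) s') * (α (a * b⁻¹) s')⁻¹ = s * s'⁻¹ := by group
        exact h6
      have := hfpf _ hc _ h4
      exact mul_inv_eq_one.mp this
    have hsurj : Function.Surjective (fun s : T => s⁻¹ * α (a * b⁻¹) s) :=
      Finite.surjective_of_injective hinj2
    obtain ⟨s, hs⟩ := hsurj t₀
    apply ht₀
    simp only at hs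
    have h7 : (τ : T → ℂ) (s⁻¹ * α (a * b⁻¹) s) = ((φ s)⁻¹ : ℂˣ) * (φ s : ℂˣ) := by
      rw [hφ (s⁻¹ * α (a * b⁻¹) s), map_mul, map_inv, Units.val_mul, ← hφ (α (a * b⁻¹) s), hstab s,
        hφ s]
    rw [← hs, h7, ← Units.val_mul, inv_mul_cancel, Units.val_one]
  -- sum over the orbit
  have hconst : ∀ a : A, n (tisTw (α a) τ) = n τ := by
    intro a
    have h4 := tis_inner_tw (α a) ψ (hinv a) τ
    rw [h2, h2] at h4
    exact_mod_cast h4
  rw [h3]
  calc Fintype.card A = ∑ _a : A, 1 := by simp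
    _ ≤ ∑ a : A, n (tisTw (α a) τ) * charDegree ((tisTw (α a) τ : IrrCharacter T) : T → ℂ) := by
        apply Finset.sum_le_sum
        intro a _
        rw [hconst a, hdeg1, mul_one]
        exact Nat.pos_of_ne_zero hnτ
    _ = ∑ ρ ∈ Finset.univ.image (fun a : A => tisTw (α a) τ), n ρ * charDegree (ρ : T → ℂ) := by
        rw [Finset.sum_image (fun a _ b _ h => hinj h)]
    _ ≤ ∑ ρ : IrrCharacter T, n ρ * charDegree (ρ : T → ℂ) :=
        Finset.sum_le_sum_of_subset (Finset.subset_univ _)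

end TIS1

end Cfsg.Agent.helper22
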