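import Mathlib
import Cfsg.Agent.Lib_helper22_FTA3
import Cfsg.Agent.Lib_helper22_TIS1
import Cfsg.Agent.Lib_helper24_CharValues
import Cfsg.Agent.Lib_helper24_CharCod
import Cfsg.Agent.Lib_helper1_ProdChar
import Cfsg.Agent.Lib_helper1_ConjChar
import Cfsg.Agent.S0187

set_option autoImplicit false
set_option linter.unusedSectionVars false
set_option linter.unusedVariables false
set_option linter.style.haveILetI false
set_option linter.style.longLine false
set_option maxHeartbeats 800000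

/-!
helper22: second part of the Feit–Thompson bound: `(1 + χ(1))² > |H|` for nonlinear `χ` when
`H` generates `G` normally; final form of the statement.
-/

namespace Cfsg.Agent.helper22

open Cfsg
open scoped ComplexConjugate
open scoped Classical

universe u

section FTA4
variable {G : Type u} [Group G] [Fintype G]

/-- multiplicity of the principal character in the restriction, as a natural number -/
theorem ft_mult_nat (H : Subgroup G) [Fintype H] {ψ : G → ℂ} (hψ : IsCharacter G ψ) :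
    ∃ m : ℕ, (Nat.card H : ℂ)⁻¹ * ∑ h : H, ψ (h : G) = m := by
  have h1 : IsCharacter ↥H (fun _ : ↥H => (1 : ℂ)) :=
    helper24.irr_isCharacter (helper24.isIrrCharacter_one (G := ↥H))
  obtain ⟨m, hm⟩ := helper12.classInner_char_nat (helper12.isCharacter_restrict H hψ) h1
  refine ⟨m, ?_⟩
  rw [← hm]
  unfold classInner
  congr 1
  apply Finset.sum_congr rfl
  intro h _
  rw [map_one, mul_one]

theorem ft_part2 (H : Subgroup G) [Fintype H]
    (hab : ∀ a ∈ H, ∀ b ∈ H, a * b = b * a) (hZ : H ⊓ Subgroup.center G = ⊥)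
    (hone : ∀ g : G, g ∉ Subgroup.center G → ∀ a b : G,
      Subgroup.centralizer ({g} : Set G) ⊓ H.map (MulAut.conj a).toMonoidHom ≠ ⊥ →
      Subgroup.centralizer ({g} : Set G) ⊓ H.map (MulAut.conj b).toMonoidHom ≠ ⊥ →
      H.map (MulAut.conj a).toMonoidHom = H.map (MulAut.conj b).toMonoidHom)
    (χ : G → ℂ) (hχ : IsIrrCharacter G χ) (hd1 : χ 1 ≠ 1)
    (hgen : ∀ M : Subgroup G, M.Normal → H ≤ M → M = ⊤) :
    Nat.card H < (1 + charDegree χ) ^ 2 := by
  haveI : Fintype (IrrCharacter G) := Fintype.ofFinite _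
  haveI : Fintype (IrrCharacter ↥H) := Fintype.ofFinite _
  have hχc : IsCharacter G χ := helper24.irr_isCharacter hχ
  obtain ⟨d, hd⟩ : ∃ d : ℕ, d = charDegree χ := ⟨_, rfl⟩
  have hχ1 : χ 1 = d := by rw [hd, helper24.char_charDegree_cast hχc]
  have hdpos : 0 < d := hd ▸ helper24.irr_charDegree_pos hχ
  have hd2 : 2 ≤ d := by
    have : d ≠ 1 := by
      intro h
      apply hd1
      rw [hχ1, h, Nat.cast_one]
    omega
  rw [← hd]
  -- the character χ χ̄
  obtain ⟨α, hαdef⟩ : ∃ α : G → ℂ, α = χ * (fun g => conj (χ g)) := ⟨_, rfl⟩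
  have hα : IsCharacter G α := by
    rw [hαdef]
    exact helper1.isCharacter_mul hχc (helper1.isCharacter_conj hχc)
  have hαap : ∀ g, α g = χ g * conj (χ g) := by
    intro g; rw [hαdef]; rfl
  obtain ⟨n, hα1, hα2, hα3⟩ := tis_decomp α hα
  have hαdeg : charDegree α = d ^ 2 := by
    apply helper24.charDegree_natCast
    rw [hαap, hχ1, Complex.conj_natCast]
    push_cast
    ring
  rw [hαdeg] at hα3
  obtain ⟨triv, htriv⟩ : ∃ triv : IrrCharacter G, (triv : G → ℂ) = fun _ => (1 : ℂ) :=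
    ⟨⟨fun _ => 1, helper24.isIrrCharacter_one⟩, rfl⟩
  have hntriv : n triv = 1 := by
    have h1 := hα2 triv
    have h2 : classInner α (triv : G → ℂ) = classInner χ χ := by
      unfold classInner
      congr 1
      apply Finset.sum_congr rfl
      intro g _
      rw [htriv, map_one, mul_one, hαap]
    rw [h2, helper24.irr_classInner_self hχ] at h1
    exact_mod_cast h1.symm
  have hdegtriv : charDegree (triv : G → ℂ) = 1 := by
    apply helper24.charDegree_natCast
    rw [htriv]; simp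
  -- multiplicities of the principal character of H
  have hmex : ∀ ψ : IrrCharacter G, ∃ m : ℕ,
      (Nat.card H : ℂ)⁻¹ * ∑ h : H, (ψ : G → ℂ) (h : G) = m :=
    fun ψ => ft_mult_nat H (helper24.irr_isCharacter ψ.2)
  choose m hm using hmex
  have hHne : (Nat.card H : ℂ) ≠ 0 := by
    have : 0 < Nat.card H := Nat.card_pos
    exact_mod_cast this.ne'
  have hmtriv : m triv = 1 := by
    have h1 := hm triv
    rw [htriv] at h1
    rw [Finset.sum_const, Finset.card_univ, nsmul_eq_mul, mul_one, ← Nat.card_eq_fintype_card,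
      inv_mul_cancel₀ hHne] at h1
    exact_mod_cast h1.symm
  -- key1
  have key1 : ∀ ψ : IrrCharacter G, ψ ≠ triv →
      Nat.card H * (m ψ) ^ 2 < (charDegree (ψ : G → ℂ)) ^ 2 := by
    intro ψ hψne
    have hψc : IsCharacter G (ψ : G → ℂ) := helper24.irr_isCharacter ψ.2
    have hψ1 : (ψ : G → ℂ) 1 = (charDegree (ψ : G → ℂ) : ℂ) :=
      (helper24.char_charDegree_cast hψc).symm
    have hkerψ : ∃ h ∈ H, (ψ : G → ℂ) h ≠ (ψ : G → ℂ) 1 := by
      by_contra hcon
      push Not at hcon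
      apply hψne
      have hle : H ≤ helper24.charKer hψc := by
        intro h hh
        rw [helper24.mem_charKer]
        exact hcon h hh
      have htop := hgen _ (helper24.charKer_normal hψc) hle
      have hconst : ∀ g : G, (ψ : G → ℂ) g = (ψ : G → ℂ) 1 := by
        intro g
        rw [← helper24.mem_charKer hψc, htop]
        exact Subgroup.mem_top g
      have hnorm := helper24.irr_classInner_self ψ.2
      unfold classInner at hnorm
      have hGne : (Nat.card G : ℂ) ≠ 0 := by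
        have : 0 < Nat.card G := Nat.card_pos
        exact_mod_cast this.ne'
      rw [Finset.sum_congr rfl (fun g _ => by rw [hconst g]), Finset.sum_const, Finset.card_univ,
        nsmul_eq_mul, ← Nat.card_eq_fintype_card, ← mul_assoc, inv_mul_cancel₀ hGne, one_mul,
        hψ1, Complex.conj_natCast] at hnorm
      have hdeg1 : charDegree (ψ : G → ℂ) * charDegree (ψ : G → ℂ) = 1 := by exact_mod_cast hnorm
      have hdeg1' : charDegree (ψ : G → ℂ) = 1 := Nat.eq_one_of_mul_eq_one_left hdeg1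
      apply Subtype.ext
      rw [htriv]
      funext g
      rw [hconst g, hψ1, hdeg1', Nat.cast_one]
    have h1 := ft_main H hab hZ hone (ψ : G → ℂ) ψ.2 hkerψ
    rw [hm ψ, hψ1, Complex.normSq_natCast, Complex.normSq_natCast] at h1
    have h2 : ((Nat.card H * (m ψ) ^ 2 : ℕ) : ℝ) < ((charDegree (ψ : G → ℂ)) ^ 2 : ℕ) := by
      push_cast
      nlinarith [h1]
    exact_mod_cast h2
  -- key2
  have key2 : d ≤ ∑ ψ : IrrCharacter G, n ψ * m ψ := by
    -- evaluate (|H|)⁻¹ Σ_h α h in two ways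
    have hI : (Nat.card H : ℂ)⁻¹ * ∑ h : H, α (h : G)
        = ((∑ ψ : IrrCharacter G, n ψ * m ψ : ℕ) : ℂ) := by
      have h1 : ∀ h : H, α (h : G) = ∑ ψ : IrrCharacter G, (n ψ : ℂ) * (ψ : G → ℂ) (h : G) := by
        intro h
        conv_lhs => rw [hα1]
        rw [Finset.sum_apply]
        apply Finset.sum_congr rfl
        intro ψ _
        rw [Pi.smul_apply, smul_eq_mul]
      rw [Finset.sum_congr rfl (fun h _ => h1 h), Finset.sum_comm, Finset.mul_sum]
      push_cast
      apply Finset.sum_congr rfl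
      intro ψ _
      rw [← Finset.mul_sum, mul_left_comm, hm ψ]
    have hχH : IsCharacter ↥H (fun h : ↥H => χ (h : G)) := helper12.isCharacter_restrict H hχc
    obtain ⟨a, ha1, ha2, ha3⟩ := helper12.char_decomp hχH
    have hII : (Nat.card H : ℂ)⁻¹ * ∑ h : H, α (h : G)
        = ((∑ lam : IrrCharacter ↥H, a lam ^ 2 : ℕ) : ℂ) := by
      rw [← ha3]
      unfold classInner
      congr 1
      apply Finset.sum_congr rfl
      intro h _
      rw [hαap]
    have habH : ∀ x y : ↥H, x * y = y * x := by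
      intro x y
      apply Subtype.ext
      exact hab _ x.2 _ y.2
    have hlin : ∀ lam : IrrCharacter ↥H, (lam : ↥H → ℂ) 1 = 1 := (S0187.result (G := ↥H)).mp habH
    have hdsum : (d : ℂ) = ((∑ lam : IrrCharacter ↥H, a lam : ℕ) : ℂ) := by
      rw [← hχ1]
      have h1 : χ 1 = (fun h : ↥H => χ (h : G)) 1 := rfl
      rw [h1, ha1, Finset.sum_apply]
      push_cast
      apply Finset.sum_congr rfl
      intro lam _
      rw [Pi.smul_apply, smul_eq_mul, hlin lam, mul_one]
    have hdsum' : d = ∑ lam : IrrCharacter ↥H, a lam := by exact_mod_cast hdsum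
    have heq : (∑ ψ : IrrCharacter G, n ψ * m ψ) = ∑ lam : IrrCharacter ↥H, a lam ^ 2 := by
      have := hI.symm.trans hII
      exact_mod_cast this
    rw [heq, hdsum']
    apply Finset.sum_le_sum
    intro lam _
    nlinarith [Nat.zero_le (a lam)]
  -- final contradiction
  by_contra hcon
  push Not at hcon
  have key3 : ∀ ψ : IrrCharacter G, ψ ≠ triv →
      (1 + d) * m ψ + 1 ≤ charDegree (ψ : G → ℂ) := by
    intro ψ hψne
    have h1 := key1 ψ hψne
    have h2 : ((1 + d) * m ψ) ^ 2 < (charDegree (ψ : G → ℂ)) ^ 2 := by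
      calc ((1 + d) * m ψ) ^ 2 = (1 + d) ^ 2 * (m ψ) ^ 2 := by ring
        _ ≤ Nat.card H * (m ψ) ^ 2 := Nat.mul_le_mul_right _ hcon
        _ < _ := h1
    have h3 := lt_of_pow_lt_pow_left₀ 2 (Nat.zero_le _) h2
    omega
  have hs1 : ∑ ψ : IrrCharacter G, n ψ * m ψ
      = 1 + ∑ ψ ∈ Finset.univ.erase triv, n ψ * m ψ := by
    rw [← Finset.add_sum_erase Finset.univ _ (Finset.mem_univ triv), hntriv, hmtriv]
  have hs2 : ∑ ψ : IrrCharacter G, n ψ * charDegree (ψ : G → ℂ)
      = 1 + ∑ ψ ∈ Finset.univ.erase triv, n ψ * charDegree (ψ : G → ℂ) := by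
    rw [← Finset.add_sum_erase Finset.univ _ (Finset.mem_univ triv), hntriv, hdegtriv]
  have hs3 : ∑ ψ ∈ Finset.univ.erase triv, n ψ * ((1 + d) * m ψ + 1)
      ≤ ∑ ψ ∈ Finset.univ.erase triv, n ψ * charDegree (ψ : G → ℂ) := by
    apply Finset.sum_le_sum
    intro ψ hψ
    exact Nat.mul_le_mul_left _ (key3 ψ (Finset.ne_of_mem_erase hψ))
  have hs4 : ∑ ψ ∈ Finset.univ.erase triv, n ψ * ((1 + d) * m ψ + 1)
      = (1 + d) * ∑ ψ ∈ Finset.univ.erase triv, n ψ * m ψ + ∑ ψ ∈ Finset.univ.erase triv, n ψ := by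
    rw [Finset.mul_sum, ← Finset.sum_add_distrib]
    apply Finset.sum_congr rfl
    intro ψ _
    ring
  obtain ⟨X, hX⟩ : ∃ X : ℕ, X = ∑ ψ ∈ Finset.univ.erase triv, n ψ * m ψ := ⟨_, rfl⟩
  obtain ⟨Y, hY⟩ : ∃ Y : ℕ, Y = ∑ ψ ∈ Finset.univ.erase triv, n ψ := ⟨_, rfl⟩
  obtain ⟨W, hW⟩ : ∃ W : ℕ, W = ∑ ψ ∈ Finset.univ.erase triv, n ψ * charDegree (ψ : G → ℂ) :=
    ⟨_, rfl⟩
  rw [hs1, ← hX] at key2
  rw [hs2, ← hW] at hα3
  rw [hs4, ← hX, ← hY, ← hW] at hs3
  -- d ≤ 1 + X, d^2 = 1 + W, (1+d) X + Y ≤ W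
  have hY0 : Y = 0 := by
    have h1 : (1 + d) * (d - 1) ≤ (1 + d) * X := Nat.mul_le_mul_left _ (by omega)
    have h2 : (1 + d) * (d - 1) + 1 = d ^ 2 := by
      obtain ⟨e, rfl⟩ : ∃ e, d = e + 1 := ⟨d - 1, by omega⟩
      simp only [Nat.add_sub_cancel]
      ring
    omega
  have hn0 : ∀ ψ ∈ Finset.univ.erase triv, n ψ = 0 := by
    rw [hY] at hY0
    exact Finset.sum_eq_zero_iff.mp hY0
  have hW0 : W = 0 := by
    rw [hW]
    apply Finset.sum_eq_zero
    intro ψ hψ
    rw [hn0 ψ hψ, zero_mul]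
  rw [hW0] at hα3
  have : d ^ 2 = 1 := by omega
  have : d = 1 := by
    rcases Nat.pow_eq_one.mp this with h | h
    · exact h
    · omega
  omega

/-- final form -/
theorem ft_result (H : Subgroup G) [Fintype H]
    (hab : ∀ a ∈ H, ∀ b ∈ H, a * b = b * a) (hZ : H ⊓ Subgroup.center G = ⊥)
    (hone : ∀ g : G, g ∉ Subgroup.center G → ∀ a b : G,
      Subgroup.centralizer ({g} : Set G) ⊓ H.map (MulAut.conj a).toMonoidHom ≠ ⊥ →
      Subgroup.centralizer ({g} : Set G) ⊓ H.map (MulAut.conj b).toMonoidHom ≠ ⊥ →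
      H.map (MulAut.conj a).toMonoidHom = H.map (MulAut.conj b).toMonoidHom)
    (χ : G → ℂ) (hχ : Cfsg.IsIrrCharacter G χ) (hker : ∃ h ∈ H, χ h ≠ χ 1) :
    (χ 1).re ^ 2 > (Nat.card H : ℝ) * (Cfsg.classInner (fun h : H => χ h) (fun _ => 1)).re ^ 2 ∧
    (χ 1 ≠ 1 → (∀ M : Subgroup G, M.Normal → H ≤ M → M = ⊤) →
      (1 + (χ 1).re) ^ 2 > (Nat.card H : ℝ)) := by
  have hχc : IsCharacter G χ := helper24.irr_isCharacter hχ
  have hχ1 : χ 1 = (charDegree χ : ℂ) := (helper24.char_charDegree_cast hχc).symm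
  have hre : (χ 1).re = (charDegree χ : ℝ) := by rw [hχ1]; simp
  constructor
  · have h1 := ft_main H hab hZ hone χ hχ hker
    have h2 : Cfsg.classInner (fun h : H => χ h) (fun _ => 1)
        = (Nat.card H : ℂ)⁻¹ * ∑ h : H, χ (h : G) := by
      unfold classInner
      congr 1
      apply Finset.sum_congr rfl
      intro h _
      rw [map_one, mul_one]
    rw [h2, hre]
    rw [hχ1, Complex.normSq_natCast] at h1
    have h3 : ((Nat.card H : ℂ)⁻¹ * ∑ h : H, χ (h : G)).re ^ 2
        ≤ Complex.normSq ((Nat.card H : ℂ)⁻¹ * ∑ h : H, χ (h : G)) := by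
      rw [Complex.normSq_apply]
      nlinarith [mul_self_nonneg ((Nat.card H : ℂ)⁻¹ * ∑ h : H, χ (h : G)).im]
    have hHnn : (0 : ℝ) ≤ (Nat.card H : ℝ) := Nat.cast_nonneg _
    have h4 := mul_le_mul_of_nonneg_left h3 hHnn
    have h5 : ((charDegree χ : ℝ)) ^ 2 = (charDegree χ : ℝ) * (charDegree χ : ℝ) := by ring
    rw [h5]
    exact lt_of_le_of_lt h4 h1
  · intro hd1 hgen
    have h1 := ft_part2 H hab hZ hone χ hχ hd1 hgen
    rw [hre]
    have h2 : ((Nat.card H : ℕ) : ℝ) < (((1 + charDegree χ) ^ 2 : ℕ) : ℝ) := by exact_mod_cast h1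
    push_cast at h2
    exact h2

end FTA4

end Cfsg.Agent.helper22
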