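import Mathlib
import Cfsg.Agent.Lib_helper1_Core
import Cfsg.Agent.Lib_helper15_DualHH
import Cfsg.Agent.Lib_helper23_PSolv
import Cfsg.Agent.Lib_helper7_Gen2
import Cfsg.Agent.Lib_helper7_Coprime
import Cfsg.Agent.Lib_helper19_HH0
import Cfsg.Agent.Lib_helper19_HH1
import Cfsg.Agent.Lib_helper19_HH2

set_option autoImplicit false
set_option linter.unusedSectionVars false
set_option linter.unusedVariables false
set_option linter.style.haveILetI false
set_option linter.style.longLine false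

/-!
helper22: group-theoretic reduction for a `p`-solvable group with a non-normal TI Sylow
`p`-subgroup: a minimal `P`-invariant `q`-subgroup of `O_{p'}(G)` not centralized by `P`.
-/

namespace Cfsg.Agent.helper22

open Cfsg
open scoped Pointwise commutatorElement

universe u

section TIS3
variable {G : Type u} [Group G] [Finite G]

/-- TI: an element conjugating a nontrivial element of `P` into `P` normalizes `P`. -/
theorem tis_ti_norm {p : ℕ} [Fact p.Prime] (P : Sylow p G)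
    (hTI : ∀ g : G, g ∉ Subgroup.normalizer ((P : Subgroup G) : Set G) →
      (P : Subgroup G) ⊓ (MulAut.conj g • (P : Subgroup G)) = ⊥)
    (x : G) (hx : x ∈ (P : Subgroup G)) (hx1 : x ≠ 1) (g : G)
    (hg : g * x * g⁻¹ ∈ (P : Subgroup G)) :
    g ∈ Subgroup.normalizer ((P : Subgroup G) : Set G) := by
  by_contra h
  have h1 := hTI g h
  have h2 : g * x * g⁻¹ ∈ (P : Subgroup G) ⊓ (MulAut.conj g • (P : Subgroup G)) := by
    refine ⟨hg, ?_⟩
    have := Subgroup.smul_mem_pointwise_smul x (MulAut.conj g) (P : Subgroup G) hx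
    exact this
  rw [h1, Subgroup.mem_bot] at h2
  apply hx1
  have : x = g⁻¹ * (g * x * g⁻¹) * g := by group
  rw [this, h2]; group

theorem tis_group {p : ℕ} [hp : Fact p.Prime] (hsolv : IsPSolvable p G) (P : Sylow p G)
    (hTI : ∀ g : G, g ∉ Subgroup.normalizer ((P : Subgroup G) : Set G) →
      (P : Subgroup G) ⊓ (MulAut.conj g • (P : Subgroup G)) = ⊥)
    (hnn : ¬ (P : Subgroup G).Normal) :
    ∃ (q : ℕ) (Q₀ : Subgroup G), q.Prime ∧ q ≠ p ∧ IsPGroup q Q₀ ∧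
      (P : Subgroup G) ≤ Subgroup.normalizer (Q₀ : Set G) ∧
      ⁅Q₀, (P : Subgroup G)⁆ = Q₀ ∧ Q₀ ≠ ⊥ ∧
      (∀ x ∈ (P : Subgroup G), x ≠ 1 → ∀ t ∈ Q₀, x * t = t * x → t ∈ ⁅Q₀, Q₀⁆) ∧
      (∀ x ∈ (P : Subgroup G), ∀ t ∈ (frattini ↥Q₀).map Q₀.subtype, x * t = t * x) ∧
      (IsElementaryAbelian q Q₀ ∨ IsSpecial q ↥Q₀) ∧
      (∀ U : Subgroup G, (frattini ↥Q₀).map Q₀.subtype ≤ U → U ≤ Q₀ →
        (P : Subgroup G) ≤ Subgroup.normalizer (U : Set G) →
          U = (frattini ↥Q₀).map Q₀.subtype ∨ U = Q₀) := by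
  classical
  have hpp : p.Prime := hp.out
  obtain ⟨Pg, hPg⟩ : ∃ Pg : Subgroup G, Pg = (P : Subgroup G) := ⟨_, rfl⟩
  have hPp : IsPGroup p Pg := hPg ▸ P.isPGroup'
  have hnorm : ∀ x ∈ Pg, x ≠ 1 → ∀ g : G, g * x * g⁻¹ ∈ Pg →
      g ∈ Subgroup.normalizer (Pg : Set G) := by
    subst hPg
    exact fun x hx hx1 g hg => tis_ti_norm P hTI x hx hx1 g hg
  have hnn' : ¬ Pg.Normal := hPg ▸ hnn
  -- G1
  have hO : pCore p G = ⊥ := by
    by_contra hne
    obtain ⟨⟨x, hxO⟩, hx1⟩ := (Subgroup.ne_bot_iff_exists_ne_one).mp hne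
    have hx1' : x ≠ 1 := fun h => hx1 (Subtype.ext h)
    have hOP : pCore p G ≤ Pg := hPg ▸ helper1.pCore_le_sylow P
    have hOn : (pCore p G).Normal := helper1.pCore_normal (G := G) p
    apply hnn'
    rw [← Subgroup.normalizer_eq_top_iff, eq_top_iff]
    intro g _
    exact hnorm x (hOP hxO) hx1' g (hOP (hOn.conj_mem x hxO g))
  -- G2
  obtain ⟨K, hK⟩ : ∃ K : Subgroup G, K = pPrimeCore p G := ⟨_, rfl⟩
  have hKn : K.Normal := hK ▸ helper1.pPrimeCore_normal p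
  have hKc : (Nat.card K).Coprime p := hK ▸ helper1.pPrimeCore_coprime p
  have hCK : Subgroup.centralizer (K : Set G) ≤ K := by
    rw [hK]
    exact helper15.DualHH.hall_higman_dual (helper23.isPSolvable_iff_psreach.mp hsolv) hO
  -- G3
  have hPne : Pg ≠ ⊥ := by
    intro h
    apply hnn'
    rw [h]
    exact Subgroup.normal_bot
  have hPK : Pg ⊓ K = ⊥ := by
    apply disjoint_iff.mp
    apply Subgroup.disjoint_of_coprime_natCard
    obtain ⟨n, hn⟩ := IsPGroup.iff_card.mp hPp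
    rw [hn]
    exact Nat.Coprime.pow_left n hKc.symm
  -- G4
  have hcent : ∀ x ∈ Pg, x ≠ 1 → ∀ k ∈ K, x * k = k * x →
      k ∈ Subgroup.centralizer (Pg : Set G) := by
    intro x hx hx1 k hk hxk
    have hkN : k ∈ Subgroup.normalizer (Pg : Set G) := by
      apply hnorm x hx hx1 k
      have h5 : k * x * k⁻¹ = x := by rw [← hxk]; group
      rw [h5]; exact hx
    rw [Subgroup.mem_centralizer_iff]
    intro y hy
    have h1 : k * y * k⁻¹ * y⁻¹ ∈ Pg ⊓ K := by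
      refine ⟨Pg.mul_mem ((Subgroup.mem_normalizer_iff.mp hkN y).mp hy) (Pg.inv_mem hy), ?_⟩
      have h5 : k * y * k⁻¹ * y⁻¹ = k * (y * k⁻¹ * y⁻¹) := by group
      rw [h5]
      exact K.mul_mem hk (hKn.conj_mem _ (K.inv_mem hk) y)
    rw [hPK, Subgroup.mem_bot] at h1
    have h2 : k * y = (k * y * k⁻¹ * y⁻¹) * (y * k) := by group
    rw [h2, h1, one_mul]
  -- G5
  have hKnC : ¬ K ≤ Subgroup.centralizer (Pg : Set G) := by
    intro h
    apply hPne
    have h1 : Pg ≤ Subgroup.centralizer (K : Set G) := Subgroup.le_centralizer_iff.mp h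
    have h2 : Pg ≤ K := h1.trans hCK
    rw [← hPK]
    exact (inf_eq_left.mpr h2).symm
  obtain ⟨C, hC⟩ : ∃ C : Subgroup G, C = K ⊓ Subgroup.centralizer (Pg : Set G) := ⟨_, rfl⟩
  have hCleK : C ≤ K := hC ▸ inf_le_left
  have hCne : C.relIndex K ≠ 1 := by
    intro h
    have h5 : K ≤ C := Subgroup.relIndex_eq_one.mp h
    exact hKnC (h5.trans (hC ▸ inf_le_right))
  obtain ⟨q, hq, hqd⟩ := Nat.exists_prime_and_dvd hCne
  haveI : Fact q.Prime := ⟨hq⟩
  have hqK : q ∣ Nat.card K := hqd.trans (Subgroup.relIndex_dvd_card C K)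
  have hqp : q ≠ p := by
    intro h
    rw [h] at hqK
    have h5 := Nat.Coprime.eq_one_of_dvd hKc.symm hqK
    exact hpp.one_lt.ne' h5
  have hKp : ¬ p ∣ Nat.card K := by
    intro h
    have h5 := Nat.Coprime.eq_one_of_dvd hKc.symm h
    exact hpp.one_lt.ne' h5
  have hPK' : Pg ≤ Subgroup.normalizer (K : Set G) := by
    rw [Subgroup.normalizer_eq_top_iff.mpr hKn]
    exact le_top
  obtain ⟨Q, hQK, hQq, hQcard, hPQ⟩ := helper7.exists_invariant_sylow (p := p) q hPp hKp hPK'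
  have hQnC : ¬ Q ≤ C := by
    intro h
    have h1 : Nat.card Q ∣ Nat.card C := Subgroup.card_dvd_of_le h
    have h2 : Nat.card C * C.relIndex K = Nat.card K := by
      have h5 := Subgroup.relIndex_mul_relIndex ⊥ C K bot_le hCleK
      rwa [Subgroup.relIndex_bot_left, Subgroup.relIndex_bot_left] at h5
    have h3 : q ^ ((Nat.card K).factorization q + 1) ∣ Nat.card K := by
      rw [hQcard] at h1
      rw [pow_succ]
      have h6 := Nat.mul_dvd_mul h1 hqd
      rwa [h2] at h6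
    exact Nat.pow_succ_factorization_not_dvd (Nat.card_pos.ne') hq h3
  have hQP : ⁅Q, Pg⁆ ≠ ⊥ := by
    intro h
    apply hQnC
    rw [hC]
    exact le_inf hQK (Subgroup.commutator_eq_bot_iff_le_centralizer.mp h)
  -- G6
  obtain ⟨Q₀, ⟨hQ₀Q, hPQ₀, hQ₀P⟩, hmin'⟩ :=
    WellFounded.has_min (wellFounded_lt (α := Subgroup G))
      {U : Subgroup G | U ≤ Q ∧ Pg ≤ Subgroup.normalizer (U : Set G) ∧ ⁅U, Pg⁆ ≠ ⊥}
      ⟨Q, le_refl _, hPQ, hQP⟩
  have hmin : ∀ U : Subgroup G, U < Q₀ → Pg ≤ Subgroup.normalizer (U : Set G) →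
      ⁅U, Pg⁆ = ⊥ := by
    intro U hU hPU
    by_contra h
    exact hmin' U ⟨hU.le.trans hQ₀Q, hPU, h⟩ hU
  -- G7
  have hQ₀q : IsPGroup q Q₀ := hQq.to_le hQ₀Q
  have hPq : (Nat.card Pg).Coprime q :=
    helper1.coprime_card_of_isPGroup_ne hq hpp (Ne.symm hqp) hPp
  obtain ⟨h1, h2, h3, -⟩ := helper19.hall_higman_reduction (p := q) Pg Pg Q₀ hQ₀q hPQ₀ (le_refl _)
    Subgroup.le_normalizer hPq hQ₀P hmin
  -- G8
  have hQ₀ne : Q₀ ≠ ⊥ := by
    intro h
    apply hQ₀P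
    rw [h]
    exact Subgroup.commutator_bot_left _
  have hQ₀K : Q₀ ≤ K := hQ₀Q.trans hQK
  have hfixed : ∀ x ∈ Pg, x ≠ 1 → ∀ t ∈ Q₀, x * t = t * x → t ∈ ⁅Q₀, Q₀⁆ := by
    intro x hx hx1 t ht hxt
    have htC := hcent x hx hx1 t (hQ₀K ht) hxt
    have hQ₀N : Q₀ ≤ Subgroup.normalizer ((⁅Q₀, Q₀⁆ : Subgroup G) : Set G) :=
      fun b hb => helper7.mem_normalizer_commutator (Subgroup.le_normalizer hb)
        (Subgroup.le_normalizer hb)
    have hPN : Pg ≤ Subgroup.normalizer ((⁅Q₀, Q₀⁆ : Subgroup G) : Set G) :=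
      fun b hb => helper7.mem_normalizer_commutator (hPQ₀ hb) (hPQ₀ hb)
    apply helper19.coprime_fixed_mem (p := q) Q₀ ⁅Q₀, Q₀⁆ Pg hQ₀q (Subgroup.commutator_le_self Q₀)
      hQ₀N hPQ₀ hPN (le_refl _) hPq t ht
    · rw [h1]
      exact Subgroup.mem_sup_left ht
    · intro a ha
      have h5 := Subgroup.mem_centralizer_iff.mp htC a ha
      have h6 : a * t * a⁻¹ * t⁻¹ = 1 := by rw [h5]; group
      rw [h6]
      exact Subgroup.one_mem _
  have hΦlt : (frattini ↥Q₀).map Q₀.subtype < Q₀ := helper19.frattini_map_lt Q₀ hQ₀ne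
  have hPΦ : Pg ≤ Subgroup.normalizer (((frattini ↥Q₀).map Q₀.subtype : Subgroup G) : Set G) :=
    hPQ₀.trans (helper19.le_normalizer_map_characteristic Q₀ (frattini ↥Q₀))
  have hΦc := hmin _ hΦlt hPΦ
  have hΦc' : ∀ x ∈ Pg, ∀ t ∈ (frattini ↥Q₀).map Q₀.subtype, x * t = t * x := by
    intro x hx t ht
    have h5 := Subgroup.commutator_eq_bot_iff_le_centralizer.mp hΦc ht
    exact Subgroup.mem_centralizer_iff.mp h5 x hx
  subst hPg
  exact ⟨q, Q₀, hq, hqp, hQ₀q, hPQ₀, h1, hQ₀ne, hfixed, hΦc', h2, h3⟩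

end TIS3

end Cfsg.Agent.helper22
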