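import Mathlib
import Cfsg.Agent.Lib_helper22_TIS3
import Cfsg.Agent.Lib_helper22_TIS1
import Cfsg.Agent.Lib_helper7_Quot
import Cfsg.Agent.Lib_helper24_CharIntegral

set_option autoImplicit false
set_option linter.unusedSectionVars false
set_option linter.unusedVariables false
set_option linter.style.haveILetI false
set_option linter.style.longLine false

/-!
helper22: Itô's theorem on `p`-solvable linear groups of small degree: group-theoretic part.
-/

namespace Cfsg.Agent.helper22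

open Cfsg
open scoped Pointwise commutatorElement

universe u

section ITO1a
variable {T : Type u} [Group T] [Fintype T]

/-- a `p`-group with a faithful character of degree less than `p` is abelian -/
theorem ito_abelian_of_small {p : ℕ} [hp : Fact p.Prime] (hT : IsPGroup p T) (ψ : T → ℂ)
    (hψ : IsCharacter T ψ) (hfaith : ∀ t : T, ψ t = ψ 1 → t = 1) (hdeg : charDegree ψ < p) :
    ∀ a b : T, a * b = b * a := by
  classical
  haveI : Fintype (IrrCharacter T) := Fintype.ofFinite _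
  obtain ⟨n, h1, h2, h3⟩ := tis_decomp ψ hψ
  have hlin : ∀ τ : IrrCharacter T, n τ ≠ 0 → (τ : T → ℂ) 1 = 1 := by
    intro τ hn
    have hle : charDegree (τ : T → ℂ) ≤ charDegree ψ := by
      apply tis_deg_ge ψ hψ τ
      rw [h2 τ]
      exact_mod_cast hn
    have hdvd : charDegree (τ : T → ℂ) ∣ Nat.card T := helper24.irr_degree_dvd_card τ.2
    obtain ⟨k, hk⟩ := IsPGroup.iff_card.mp hT
    rw [hk] at hdvd
    obtain ⟨j, hj, hjeq⟩ := (Nat.dvd_prime_pow hp.out).mp hdvd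
    have hj0 : j = 0 := by
      by_contra hj0
      have : p ≤ p ^ j := Nat.le_self_pow hj0 p
      omega
    rw [hj0, pow_zero] at hjeq
    rw [← helper24.char_charDegree_cast (helper24.irr_isCharacter τ.2), hjeq, Nat.cast_one]
  intro a b
  have hcomm : a * b * a⁻¹ * b⁻¹ = 1 := by
    apply hfaith
    rw [h1, Finset.sum_apply, Finset.sum_apply]
    apply Finset.sum_congr rfl
    intro τ _
    rw [Pi.smul_apply, Pi.smul_apply]
    by_cases hn : n τ = 0
    · rw [hn]; simp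
    · obtain ⟨φ, hφ⟩ := linear_iff_hom.mp ⟨helper24.irr_isCharacter τ.2, hlin τ hn⟩
      rw [hφ, hφ, map_mul, map_mul, map_mul, map_inv, map_inv, map_one]
      have hu : φ a * φ b * (φ a)⁻¹ * (φ b)⁻¹ = 1 := by
        rw [mul_comm (φ a) (φ b), mul_assoc (φ b), mul_inv_cancel, mul_one, mul_inv_cancel]
      rw [hu]
  calc a * b = (a * b * a⁻¹ * b⁻¹) * (b * a) := by group
    _ = b * a := by rw [hcomm, one_mul]

end ITO1a

section ITO1b
variable {G : Type u} [Group G] [Finite G]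

/-- `p`-length one for abelian Sylow subgroups -/
theorem ito_plength {p : ℕ} [hp : Fact p.Prime] (hsolv : IsPSolvable p G) (P : Sylow p G)
    (hab : ∀ a ∈ (P : Subgroup G), ∀ b ∈ (P : Subgroup G), a * b = b * a) :
    ((P : Subgroup G) ⊔ pPrimeCore p G).Normal := by
  haveI hKn : (pPrimeCore p G).Normal := helper1.pPrimeCore_normal p
  have hsurj : Function.Surjective (QuotientGroup.mk' (pPrimeCore p G)) :=
    QuotientGroup.mk'_surjective _
  have hsolv' : IsPSolvable p (G ⧸ pPrimeCore p G) :=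
    helper23.isPSolvable_of_surjective hp.out _ hsurj hsolv
  have hO : pPrimeCore p (G ⧸ pPrimeCore p G) = ⊥ := helper7.pPrimeCore_quotient_eq_bot hp.out
  have hHH := helper23.hall_higman_123 (helper23.isPSolvable_iff_psreach.mp hsolv') hO
  have hle : pCore p (G ⧸ pPrimeCore p G) ≤ (P : Subgroup G).map (QuotientGroup.mk' (pPrimeCore p G)) := by
    have := helper1.pCore_le_sylow (P.mapSurjective hsurj)
    rwa [Sylow.coe_mapSurjective] at this
  have hPc : (P : Subgroup G).map (QuotientGroup.mk' (pPrimeCore p G))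
      ≤ Subgroup.centralizer ((pCore p (G ⧸ pPrimeCore p G) : Subgroup _) : Set _) := by
    rintro _ ⟨x, hx, rfl⟩
    rw [Subgroup.mem_centralizer_iff]
    intro y hy
    obtain ⟨z, hz, rfl⟩ := hle hy
    rw [← map_mul, ← map_mul, hab z hz x hx]
  have heq : (P : Subgroup G).map (QuotientGroup.mk' (pPrimeCore p G))
      = pCore p (G ⧸ pPrimeCore p G) := le_antisymm (hPc.trans hHH) hle
  have hn1 : ((P : Subgroup G).map (QuotientGroup.mk' (pPrimeCore p G))).Normal := by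
    rw [heq]; exact helper1.pCore_normal p
  have hn2 := hn1.comap (QuotientGroup.mk' (pPrimeCore p G))
  rw [Subgroup.comap_map_eq, QuotientGroup.ker_mk'] at hn2
  exact hn2

theorem ito_not_centralized {p : ℕ} [hp : Fact p.Prime] (hsolv : IsPSolvable p G) (P : Sylow p G)
    (hab : ∀ a ∈ (P : Subgroup G), ∀ b ∈ (P : Subgroup G), a * b = b * a)
    (hnn : ¬ (P : Subgroup G).Normal) :
    ¬ pPrimeCore p G ≤ Subgroup.centralizer ((P : Subgroup G) : Set G) := by
  intro hKC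
  apply hnn
  have hLn := ito_plength hsolv P hab
  have hLN : (P : Subgroup G) ⊔ pPrimeCore p G ≤ Subgroup.normalizer ((P : Subgroup G) : Set G) := by
    apply sup_le Subgroup.le_normalizer
    intro k hk
    have hk' := hKC hk
    rw [Subgroup.mem_centralizer_iff] at hk'
    rw [Subgroup.mem_normalizer_iff]
    intro y
    constructor
    · intro hy
      have : k * y * k⁻¹ = y := by rw [← hk' y hy]; group
      rw [this]; exact hy
    · intro hy
      have h1 := hk' _ hy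
      have : y = k * y * k⁻¹ := by
        have h2 : k * y * k⁻¹ * k = k * (k * y * k⁻¹) := h1
        have h3 : k * y = k * (k * y * k⁻¹) := by rw [← h2]; group
        exact mul_left_cancel h3
      rw [this]; exact hy
  constructor
  intro y hy g
  -- the conjugate of P by g
  obtain ⟨Pg, hPg⟩ : ∃ Pg : Subgroup G, Pg = (P : Subgroup G).map (MulAut.conj g).toMonoidHom :=
    ⟨_, rfl⟩
  have hPgL : Pg ≤ (P : Subgroup G) ⊔ pPrimeCore p G := by
    rw [hPg]
    rintro _ ⟨z, hz, rfl⟩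
    exact hLn.conj_mem z (Subgroup.mem_sup_left hz) g
  have hPgp : IsPGroup p Pg := by
    rw [hPg]; exact P.isPGroup'.map _
  have hsup : IsPGroup p ((P : Subgroup G) ⊔ Pg : Subgroup G) :=
    IsPGroup.to_sup_of_normal_left' P.isPGroup' hPgp (hPgL.trans hLN)
  have hmax := P.is_maximal' hsup le_sup_left
  have hle : Pg ≤ (P : Subgroup G) := by
    rw [← hmax]; exact le_sup_right
  apply hle
  rw [hPg]
  exact ⟨y, hy, rfl⟩

theorem ito_group {p : ℕ} [hp : Fact p.Prime] (hsolv : IsPSolvable p G) (P : Sylow p G)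
    (hab : ∀ a ∈ (P : Subgroup G), ∀ b ∈ (P : Subgroup G), a * b = b * a)
    (hnn : ¬ (P : Subgroup G).Normal) :
    ∃ (q : ℕ) (Q₀ : Subgroup G), q.Prime ∧ q ≠ p ∧ IsPGroup q Q₀ ∧
      (P : Subgroup G) ≤ Subgroup.normalizer (Q₀ : Set G) ∧
      ⁅Q₀, (P : Subgroup G)⁆ = Q₀ ∧ Q₀ ≠ ⊥ ∧
      (∀ x ∈ (P : Subgroup G), (∃ s ∈ Q₀, x * s ≠ s * x) →
        ∀ t ∈ Q₀, x * t = t * x → t ∈ ⁅Q₀, Q₀⁆) ∧
      (∀ t ∈ Q₀, (∀ x ∈ (P : Subgroup G), x * t = t * x) → t ∈ ⁅Q₀, Q₀⁆) ∧
      (∀ x ∈ (P : Subgroup G), ∀ t ∈ (frattini ↥Q₀).map Q₀.subtype, x * t = t * x) ∧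
      (IsElementaryAbelian q Q₀ ∨ IsSpecial q ↥Q₀) ∧
      (∀ U : Subgroup G, (frattini ↥Q₀).map Q₀.subtype ≤ U → U ≤ Q₀ →
        (P : Subgroup G) ≤ Subgroup.normalizer (U : Set G) →
          U = (frattini ↥Q₀).map Q₀.subtype ∨ U = Q₀) := by
  classical
  have hpp : p.Prime := hp.out
  have hKnC0 := ito_not_centralized hsolv P hab hnn
  obtain ⟨Pg, hPg⟩ : ∃ Pg : Subgroup G, Pg = (P : Subgroup G) := ⟨_, rfl⟩
  have hPp : IsPGroup p Pg := hPg ▸ P.isPGroup'
  have habP : ∀ a ∈ Pg, ∀ b ∈ Pg, a * b = b * a := by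
    rw [hPg]; exact hab
  obtain ⟨K, hK⟩ : ∃ K : Subgroup G, K = pPrimeCore p G := ⟨_, rfl⟩
  have hKn : K.Normal := hK ▸ helper1.pPrimeCore_normal p
  have hKc : (Nat.card K).Coprime p := hK ▸ helper1.pPrimeCore_coprime p
  have hKnC : ¬ K ≤ Subgroup.centralizer (Pg : Set G) := by
    rw [hK, hPg]; exact hKnC0
  obtain ⟨C, hC⟩ : ∃ C : Subgroup G, C = K ⊓ Subgroup.centralizer (Pg : Set G) := ⟨_, rfl⟩
  have hCleK : C ≤ K := hC ▸ inf_le_left
  have hCne : C.relIndex K ≠ 1 := by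
    intro h
    have h5 : K ≤ C := Subgroup.relIndex_eq_one.mp h
    exact hKnC (h5.trans (hC ▸ inf_le_right))
  obtain ⟨q, hq, hqd⟩ := Nat.exists_prime_and_dvd hCne
  haveI : Fact q.Prime := ⟨hq⟩
  have hqK : q ∣ Nat.card K := hqd.trans (Subgroup.relIndex_dvd_card C K)
  have hqp : q ≠ p := by
    intro h
    rw [h] at hqK
    have h5 := Nat.Coprime.eq_one_of_dvd hKc.symm hqK
    exact hpp.one_lt.ne' h5
  have hKp : ¬ p ∣ Nat.card K := by
    intro h
    have h5 := Nat.Coprime.eq_one_of_dvd hKc.symm h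
    exact hpp.one_lt.ne' h5
  have hPK' : Pg ≤ Subgroup.normalizer (K : Set G) := by
    rw [Subgroup.normalizer_eq_top_iff.mpr hKn]
    exact le_top
  obtain ⟨Q, hQK, hQq, hQcard, hPQ⟩ := helper7.exists_invariant_sylow (p := p) q hPp hKp hPK'
  have hQnC : ¬ Q ≤ C := by
    intro h
    have h1 : Nat.card Q ∣ Nat.card C := Subgroup.card_dvd_of_le h
    have h2 : Nat.card C * C.relIndex K = Nat.card K := by
      have h5 := Subgroup.relIndex_mul_relIndex ⊥ C K bot_le hCleK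
      rwa [Subgroup.relIndex_bot_left, Subgroup.relIndex_bot_left] at h5
    have h3 : q ^ ((Nat.card K).factorization q + 1) ∣ Nat.card K := by
      rw [hQcard] at h1
      rw [pow_succ]
      have h6 := Nat.mul_dvd_mul h1 hqd
      rwa [h2] at h6
    exact Nat.pow_succ_factorization_not_dvd (Nat.card_pos.ne') hq h3
  have hQP : ⁅Q, Pg⁆ ≠ ⊥ := by
    intro h
    apply hQnC
    rw [hC]
    exact le_inf hQK (Subgroup.commutator_eq_bot_iff_le_centralizer.mp h)
  obtain ⟨Q₀, ⟨hQ₀Q, hPQ₀, hQ₀P⟩, hmin'⟩ :=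
    WellFounded.has_min (wellFounded_lt (α := Subgroup G))
      {U : Subgroup G | U ≤ Q ∧ Pg ≤ Subgroup.normalizer (U : Set G) ∧ ⁅U, Pg⁆ ≠ ⊥}
      ⟨Q, le_refl _, hPQ, hQP⟩
  have hmin : ∀ U : Subgroup G, U < Q₀ → Pg ≤ Subgroup.normalizer (U : Set G) →
      ⁅U, Pg⁆ = ⊥ := by
    intro U hU hPU
    by_contra h
    exact hmin' U ⟨hU.le.trans hQ₀Q, hPU, h⟩ hU
  have hQ₀q : IsPGroup q Q₀ := hQq.to_le hQ₀Q
  have hPq : (Nat.card Pg).Coprime q :=
    helper1.coprime_card_of_isPGroup_ne hq hpp (Ne.symm hqp) hPp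
  obtain ⟨h1, h2, h3, -⟩ := helper19.hall_higman_reduction (p := q) Pg Pg Q₀ hQ₀q hPQ₀ (le_refl _)
    Subgroup.le_normalizer hPq hQ₀P hmin
  have hQ₀ne : Q₀ ≠ ⊥ := by
    intro h
    apply hQ₀P
    rw [h]
    exact Subgroup.commutator_bot_left _
  have hfixedP : ∀ t ∈ Q₀, (∀ x ∈ Pg, x * t = t * x) → t ∈ ⁅Q₀, Q₀⁆ := by
    intro t ht htc
    have hQ₀N : Q₀ ≤ Subgroup.normalizer ((⁅Q₀, Q₀⁆ : Subgroup G) : Set G) :=
      fun b hb => helper7.mem_normalizer_commutator (Subgroup.le_normalizer hb)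
        (Subgroup.le_normalizer hb)
    have hPN : Pg ≤ Subgroup.normalizer ((⁅Q₀, Q₀⁆ : Subgroup G) : Set G) :=
      fun b hb => helper7.mem_normalizer_commutator (hPQ₀ hb) (hPQ₀ hb)
    apply helper19.coprime_fixed_mem (p := q) Q₀ ⁅Q₀, Q₀⁆ Pg hQ₀q (Subgroup.commutator_le_self Q₀)
      hQ₀N hPQ₀ hPN (le_refl _) hPq t ht
    · rw [h1]
      exact Subgroup.mem_sup_left ht
    · intro a ha
      have h5 := htc a ha
      have h6 : a * t * a⁻¹ * t⁻¹ = 1 := by rw [h5]; group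
      rw [h6]
      exact Subgroup.one_mem _
  have hfixed : ∀ x ∈ Pg, (∃ s ∈ Q₀, x * s ≠ s * x) →
      ∀ t ∈ Q₀, x * t = t * x → t ∈ ⁅Q₀, Q₀⁆ := by
    intro x hx ⟨s, hs, hsx⟩ t ht hxt
    obtain ⟨V, hV⟩ : ∃ V : Subgroup G, V = Q₀ ⊓ Subgroup.centralizer ({x} : Set G) := ⟨_, rfl⟩
    have hVmem : ∀ v, v ∈ V ↔ (v ∈ Q₀ ∧ v * x = x * v) := by
      intro v
      rw [hV, Subgroup.mem_inf, Subgroup.mem_centralizer_singleton_iff]
    have hVlt : V < Q₀ := by
      refine lt_of_le_of_ne (hV ▸ inf_le_left) ?_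
      intro h
      have : s ∈ V := by rw [h]; exact hs
      exact hsx ((hVmem s).mp this).2.symm
    have hconj : ∀ y ∈ Pg, ∀ v ∈ V, y * v * y⁻¹ ∈ V := by
      intro y hy v hv
      obtain ⟨hvQ, hvx⟩ := (hVmem v).mp hv
      rw [hVmem]
      refine ⟨(Subgroup.mem_normalizer_iff.mp (hPQ₀ hy) v).mp hvQ, ?_⟩
      have hxy : x * y = y * x := habP x hx y hy
      have hxy' : x * y⁻¹ = y⁻¹ * x := by
        have : y⁻¹ * (x * y) * y⁻¹ = y⁻¹ * (y * x) * y⁻¹ := by rw [hxy]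
        calc x * y⁻¹ = y⁻¹ * (y * x) * y⁻¹ := by group
          _ = y⁻¹ * (x * y) * y⁻¹ := by rw [hxy]
          _ = y⁻¹ * x := by group
      calc y * v * y⁻¹ * x = y * v * (y⁻¹ * x) := by group
        _ = y * v * (x * y⁻¹) := by rw [hxy']
        _ = y * (v * x) * y⁻¹ := by group
        _ = y * (x * v) * y⁻¹ := by rw [hvx]
        _ = (y * x) * v * y⁻¹ := by group
        _ = (x * y) * v * y⁻¹ := by rw [hxy]
        _ = x * (y * v * y⁻¹) := by group
    have hPV : Pg ≤ Subgroup.normalizer (V : Set G) := by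
      intro y hy
      rw [Subgroup.mem_normalizer_iff]
      intro v
      constructor
      · exact hconj y hy v
      · intro hv
        have := hconj y⁻¹ (Pg.inv_mem hy) _ hv
        have h5 : y⁻¹ * (y * v * y⁻¹) * y⁻¹⁻¹ = v := by group
        rwa [h5] at this
    have hVc := hmin V hVlt hPV
    have hVcent : V ≤ Subgroup.centralizer (Pg : Set G) :=
      Subgroup.commutator_eq_bot_iff_le_centralizer.mp hVc
    have htV : t ∈ V := (hVmem t).mpr ⟨ht, hxt.symm⟩
    have htc := hVcent htV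
    rw [Subgroup.mem_centralizer_iff] at htc
    exact hfixedP t ht htc
  have hΦlt : (frattini ↥Q₀).map Q₀.subtype < Q₀ := helper19.frattini_map_lt Q₀ hQ₀ne
  have hPΦ : Pg ≤ Subgroup.normalizer (((frattini ↥Q₀).map Q₀.subtype : Subgroup G) : Set G) :=
    hPQ₀.trans (helper19.le_normalizer_map_characteristic Q₀ (frattini ↥Q₀))
  have hΦc := hmin _ hΦlt hPΦ
  have hΦc' : ∀ x ∈ Pg, ∀ t ∈ (frattini ↥Q₀).map Q₀.subtype, x * t = t * x := by
    intro x hx t ht
    have h5 := Subgroup.commutator_eq_bot_iff_le_centralizer.mp hΦc ht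
    exact Subgroup.mem_centralizer_iff.mp h5 x hx
  subst hPg
  exact ⟨q, Q₀, hq, hqp, hQ₀q, hPQ₀, h1, hQ₀ne, hfixed, hfixedP, hΦc', h2, h3⟩

end ITO1b

end Cfsg.Agent.helper22
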