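import Mathlib
import Cfsg.Agent.Lib_helper22_TIS1

set_option autoImplicit false
set_option linter.unusedSectionVars false
set_option linter.unusedVariables false
set_option linter.style.haveILetI false
set_option linter.style.longLine false

/-!
helper22: the special case: a faithful character of a group `T` with `T' = Z(T)` on which `A`
acts irreducibly modulo the centre, centralizing the centre, with `C_T(a) ≤ Z(T)` for `a ≠ 1`.
-/

namespace Cfsg.Agent.helper22

open Cfsg
open scoped ComplexConjugate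
open scoped Classical
open scoped commutatorElement

universe u

section TIS2
variable {T : Type u} [Group T] [Fintype T]

theorem tis_pow_act {A : Type u} [Group A] (α : A →* MulAut T) (c : A) (y z : T)
    (h : α c y = y * z) (hz : ∀ i : ℕ, α (c ^ i) z = z) (i : ℕ) : α (c ^ i) y = y * z ^ i := by
  induction i with
  | zero => simp
  | succ i ih =>
    rw [pow_succ, map_mul, MulAut.mul_apply, h, map_mul, ih, hz i, pow_succ, mul_assoc]

/-- counting lemma -/
theorem tis_count {A : Type u} [Group A] [Fintype A] (α : A →* MulAut T)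
    (hfix : ∀ a : A, a ≠ 1 → ∀ t : T, α a t = t → t ∈ Subgroup.center T)
    (hZ : ∀ (a : A) (z : T), z ∈ Subgroup.center T → α a z = z)
    (hcop : Nat.Coprime (Fintype.card A) (Fintype.card T))
    (hnab : Subgroup.center T ≠ ⊤) :
    Fintype.card A * Fintype.card (Subgroup.center T) < Fintype.card T := by
  obtain ⟨y, hy⟩ : ∃ y : T, y ∉ Subgroup.center T := by
    by_contra h
    push Not at h
    exact hnab (eq_top_iff.mpr (fun t _ => h t))
  have hkey : ∀ (a b : A) (z z' : T), z ∈ Subgroup.center T → z' ∈ Subgroup.center T →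
      α a y * z = α b y * z' → a = b ∧ z = z' := by
    intro a b z z' hz hz' h
    have hzz : z' * z⁻¹ ∈ Subgroup.center T := Subgroup.mul_mem _ hz' (Subgroup.inv_mem _ hz)
    have h1 : α (b⁻¹ * a) y = y * (z' * z⁻¹) := by
      have h2 : α a y = α b y * (z' * z⁻¹) := by
        rw [← mul_assoc, ← h]; group
      rw [map_mul, MulAut.mul_apply, h2, map_mul, hZ b⁻¹ _ hzz, ← MulAut.mul_apply, ← map_mul,
        inv_mul_cancel, map_one, MulAut.one_apply]
    have h3 := tis_pow_act α (b⁻¹ * a) y (z' * z⁻¹) h1 (fun i => hZ _ _ hzz) (Fintype.card A)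
    rw [pow_card_eq_one, map_one, MulAut.one_apply] at h3
    have h4 : (z' * z⁻¹) ^ (Fintype.card A) = 1 := by
      have := h3.symm
      exact mul_eq_left.mp this
    have h5 : z' * z⁻¹ = 1 := by
      have h6 : orderOf (z' * z⁻¹) ∣ Fintype.card A := orderOf_dvd_of_pow_eq_one h4
      have h7 : orderOf (z' * z⁻¹) ∣ Fintype.card T := orderOf_dvd_card
      have h8 : orderOf (z' * z⁻¹) ∣ 1 := by
        have := Nat.dvd_gcd h6 h7
        rwa [hcop] at this
      exact orderOf_eq_one_iff.mp (Nat.dvd_one.mp h8)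
    rw [h5, mul_one] at h1
    have h9 : b⁻¹ * a = 1 := by
      by_contra hne
      exact hy (hfix _ hne y h1)
    refine ⟨?_, ?_⟩
    · have := inv_mul_eq_one.mp h9
      exact this.symm
    · exact (mul_inv_eq_one.mp h5).symm
  have hout : ∀ (a : A) (z z' : T), z ∈ Subgroup.center T → z' ∈ Subgroup.center T →
      α a y * z ≠ z' := by
    intro a z z' hz hz' h
    have hzz : z' * z⁻¹ ∈ Subgroup.center T := Subgroup.mul_mem _ hz' (Subgroup.inv_mem _ hz)
    have h1 : α a y = z' * z⁻¹ := by rw [← h]; group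
    apply hy
    have h2 : y = α a⁻¹ (α a y) := by
      rw [← MulAut.mul_apply, ← map_mul, inv_mul_cancel, map_one, MulAut.one_apply]
    rw [h2, h1, hZ _ _ hzz]
    exact hzz
  let f : (A × Subgroup.center T) ⊕ (Subgroup.center T) → T := fun x =>
    Sum.elim (fun p : A × Subgroup.center T => α p.1 y * (p.2 : T)) (fun z => (z : T)) x
  have hf : Function.Injective f := by
    rintro (⟨a, ⟨z, hz⟩⟩ | ⟨z, hz⟩) (⟨b, ⟨z', hz'⟩⟩ | ⟨z', hz'⟩) h
    · have h' : α a y * z = α b y * z' := h
      obtain ⟨h1, h2⟩ := hkey a b z z' hz hz' h'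
      subst h1; subst h2; rfl
    · have h' : α a y * z = z' := h
      exact absurd h' (hout a z z' hz hz')
    · have h' : z = α b y * z' := h
      exact absurd h'.symm (hout b z' z hz' hz)
    · have h' : z = z' := h
      subst h'; rfl
  have hc := Fintype.card_le_of_injective f hf
  rw [Fintype.card_sum, Fintype.card_prod] at hc
  have hpos : 0 < Fintype.card (Subgroup.center T) := Fintype.card_pos
  omega

/-- **Special case**. -/
theorem tis_special {A : Type u} [Group A] [Fintype A] (α : A →* MulAut T)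
    (hcomm : commutator T = Subgroup.center T)
    (hirr : ∀ U : Subgroup T, Subgroup.center T ≤ U → (∀ (a : A) (t : T), t ∈ U → α a t ∈ U) →
      U = Subgroup.center T ∨ U = ⊤)
    (hfix : ∀ a : A, a ≠ 1 → ∀ t : T, α a t = t → t ∈ Subgroup.center T)
    (hZ : ∀ (a : A) (z : T), z ∈ Subgroup.center T → α a z = z)
    (hcop : Nat.Coprime (Fintype.card A) (Fintype.card T))
    (hnab : Subgroup.center T ≠ ⊤)
    (ψ : T → ℂ) (hψ : IsCharacter T ψ) (hfaith : ∀ t : T, ψ t = ψ 1 → t = 1) :
    Fintype.card A < charDegree ψ ^ 2 := by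
  haveI : Fintype (IrrCharacter T) := Fintype.ofFinite _
  -- the centre is nontrivial
  have hZne : Subgroup.center T ≠ ⊥ := by
    intro h
    apply hnab
    rw [← commutator_eq_bot_iff_center_eq_top, hcomm, h]
  obtain ⟨⟨z₀, hz₀⟩, hz₀1⟩ := (Subgroup.ne_bot_iff_exists_ne_one).mp hZne
  have hz₀1' : z₀ ≠ 1 := fun h => hz₀1 (Subtype.ext h)
  obtain ⟨n, h1, h2, h3⟩ := tis_decomp ψ hψ
  -- a constituent nontrivial on z₀
  have hex : ∃ θ : IrrCharacter T, n θ ≠ 0 ∧ (θ : T → ℂ) z₀ ≠ (θ : T → ℂ) 1 := by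
    by_contra hcon
    push Not at hcon
    apply hz₀1'
    apply hfaith
    rw [h1, Finset.sum_apply, Finset.sum_apply]
    apply Finset.sum_congr rfl
    intro τ _
    rw [Pi.smul_apply, Pi.smul_apply]
    by_cases hn : n τ = 0
    · rw [hn]; simp
    · rw [hcon τ hn]
  obtain ⟨θ, hnθ, hθz₀⟩ := hex
  have hθirr : IsIrrCharacter T (θ : T → ℂ) := θ.2
  have hθ1 : (θ : T → ℂ) 1 ≠ 0 := helper24.irr_apply_one_ne_zero hθirr
  have hcl : ∀ g h : T, (θ : T → ℂ) (h * g * h⁻¹) = (θ : T → ℂ) g :=
    helper24.char_isClassFunction (helper24.irr_isCharacter hθirr)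
  have hcen : ∀ z : T, z ∈ Subgroup.center T → ∀ g : T, g * z = z * g := by
    intro z hz g
    exact (Subgroup.mem_center_iff.mp hz g)
  -- the kernel of θ on the centre
  let Z₀ : Subgroup T :=
    { carrier := {z | z ∈ Subgroup.center T ∧ ∀ g, (θ : T → ℂ) (g * z) = (θ : T → ℂ) g}
      one_mem' := ⟨Subgroup.one_mem _, fun g => by rw [mul_one]⟩
      mul_mem' := by
        rintro a b ⟨ha, ha'⟩ ⟨hb, hb'⟩
        refine ⟨Subgroup.mul_mem _ ha hb, fun g => ?_⟩
        rw [← mul_assoc, hb', ha']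
      inv_mem' := by
        rintro a ⟨ha, ha'⟩
        refine ⟨Subgroup.inv_mem _ ha, fun g => ?_⟩
        rw [← ha' (g * a⁻¹), inv_mul_cancel_right] }
  have hZ₀mem : ∀ z : T, z ∈ Z₀ ↔ (z ∈ Subgroup.center T ∧ ∀ g, (θ : T → ℂ) (g * z) = (θ : T → ℂ) g) :=
    fun z => Iff.rfl
  have hcommem : ∀ v t : T, ⁅v, t⁆ ∈ Subgroup.center T := by
    intro v t
    rw [← hcomm, commutator_def]
    exact Subgroup.commutator_mem_commutator (Subgroup.mem_top v) (Subgroup.mem_top t)
  -- R
  have hcmul : ∀ v t t' : T, ⁅v, t * t'⁆ = ⁅v, t⁆ * ⁅v, t'⁆ := by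
    intro v t t'
    have h4 := hcen _ (hcommem v t') t
    have h5 : ⁅v, t * t'⁆ = ⁅v, t⁆ * (t * ⁅v, t'⁆ * t⁻¹) := by
      simp only [commutatorElement_def]; group
    rw [h5, h4, mul_inv_cancel_right]
  have hcinv : ∀ v t : T, ⁅v, t⁻¹⁆ = ⁅v, t⁆⁻¹ := by
    intro v t
    have h4 := hcmul v t t⁻¹
    rw [mul_inv_cancel] at h4
    have h5 : ⁅v, (1 : T)⁆ = 1 := by simp [commutatorElement_def]
    rw [h5] at h4
    exact (inv_eq_of_mul_eq_one_right h4.symm).symm
  let R : Subgroup T :=
    { carrier := {t | ∀ v : T, ⁅v, t⁆ ∈ Z₀}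
      one_mem' := fun v => by
        have h5 : ⁅v, (1 : T)⁆ = 1 := by simp [commutatorElement_def]
        rw [h5]; exact Subgroup.one_mem _
      mul_mem' := by
        intro a b ha hb v
        rw [hcmul]
        exact Subgroup.mul_mem _ (ha v) (hb v)
      inv_mem' := by
        intro a ha v
        rw [hcinv]
        exact Subgroup.inv_mem _ (ha v) }
  have hRmem : ∀ t : T, t ∈ R ↔ ∀ v : T, ⁅v, t⁆ ∈ Z₀ := fun t => Iff.rfl
  have hZR : Subgroup.center T ≤ R := by
    intro t ht
    rw [hRmem]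
    intro v
    have h5 : ⁅v, t⁆ = 1 := by
      rw [commutatorElement_def, hcen t ht v]; group
    rw [h5]; exact Subgroup.one_mem _
  have hRinv : ∀ (a : A) (t : T), t ∈ R → α a t ∈ R := by
    intro a t ht
    rw [hRmem] at ht ⊢
    intro v
    have h5 : ⁅v, α a t⁆ = α a ⁅α a⁻¹ v, t⁆ := by
      rw [map_commutatorElement]
      congr 1
      rw [← MulAut.mul_apply, ← map_mul, mul_inv_cancel, map_one, MulAut.one_apply]
    rw [h5, hZ a _ (hcommem _ _)]
    exact ht _
  have hRne : R ≠ ⊤ := by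
    intro hR
    have h5 : commutator T ≤ Z₀ := by
      rw [commutator_def, Subgroup.commutator_le]
      intro v _ t _
      have : t ∈ R := by rw [hR]; exact Subgroup.mem_top t
      exact (hRmem t).mp this v
    have h6 : z₀ ∈ Z₀ := h5 (by rw [hcomm]; exact hz₀)
    apply hθz₀
    have := ((hZ₀mem z₀).mp h6).2 1
    rwa [one_mul] at this
  have hRZ : R = Subgroup.center T := by
    rcases hirr R hZR hRinv with h | h
    · exact h
    · exact absurd h hRne
  -- θ vanishes off the centre
  have hvan : ∀ t : T, t ∉ Subgroup.center T → (θ : T → ℂ) t = 0 := by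
    intro t ht
    have htR : t ∉ R := by rw [hRZ]; exact ht
    rw [hRmem] at htR
    push Not at htR
    obtain ⟨v, hv⟩ := htR
    obtain ⟨c, hc1, hc⟩ := helper12.irr_central_scalar hθirr ⁅v, t⁆ (hcen _ (hcommem v t))
    have hcne : c ≠ 1 := by
      intro h
      apply hv
      rw [hZ₀mem]
      refine ⟨hcommem v t, fun g => ?_⟩
      rw [hc g, h, one_mul]
    have h5 : v * t * v⁻¹ = t * ⁅v, t⁆ := by
      rw [hcen _ (hcommem v t) t, commutatorElement_def]; group
    have h6 := hcl t v
    rw [h5, hc t] at h6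
    have h7 : (c - 1) * (θ : T → ℂ) t = 0 := by rw [sub_mul, h6, one_mul, sub_self]
    rcases mul_eq_zero.mp h7 with h8 | h8
    · exact absurd (sub_eq_zero.mp h8) hcne
    · exact h8
  -- norm computation
  obtain ⟨d, hdpos, hd⟩ := helper24.irr_apply_one hθirr
  have hdeg : charDegree (θ : T → ℂ) = d := helper24.charDegree_natCast _ d hd
  have hnorm := helper24.irr_classInner_self hθirr
  unfold classInner at hnorm
  have hsum : ∑ t : T, (θ : T → ℂ) t * conj ((θ : T → ℂ) t) =
      (Fintype.card (Subgroup.center T) : ℂ) * (d : ℂ) ^ 2 := by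
    have h5 : ∀ t : T, (θ : T → ℂ) t * conj ((θ : T → ℂ) t) =
        if t ∈ Subgroup.center T then (d : ℂ) ^ 2 else 0 := by
      intro t
      by_cases ht : t ∈ Subgroup.center T
      · rw [if_pos ht]
        obtain ⟨c, hc1, hc⟩ := helper12.irr_central_scalar hθirr t (hcen _ ht)
        have h6 := hc 1
        rw [one_mul, hd] at h6
        rw [h6, map_mul, Complex.conj_natCast]
        have h7 : c * conj c = 1 := by
          rw [Complex.mul_conj, Complex.normSq_eq_norm_sq, hc1]; simp
        calc c * (d : ℂ) * (conj c * (d : ℂ)) = (c * conj c) * (d : ℂ) ^ 2 := by ring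
          _ = (d : ℂ) ^ 2 := by rw [h7, one_mul]
      · rw [if_neg ht, hvan t ht, zero_mul]
    rw [Finset.sum_congr rfl (fun t _ => h5 t), Finset.sum_ite, Finset.sum_const_zero, add_zero,
      Finset.sum_const, nsmul_eq_mul]
    congr 2
    rw [← Fintype.card_subtype]
  rw [hsum, Nat.card_eq_fintype_card] at hnorm
  have hTpos : (Fintype.card T : ℂ) ≠ 0 := by
    exact_mod_cast Fintype.card_ne_zero
  have hnat : Fintype.card (Subgroup.center T) * d ^ 2 = Fintype.card T := by
    have h5 : (Fintype.card (Subgroup.center T) : ℂ) * (d : ℂ) ^ 2 = (Fintype.card T : ℂ) := by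
      field_simp at hnorm
      exact hnorm
    exact_mod_cast h5
  have hcount := tis_count α hfix hZ hcop hnab
  rw [← hnat, mul_comm] at hcount
  have hlt : Fintype.card A < d ^ 2 := lt_of_mul_lt_mul_left hcount (Nat.zero_le _)
  have hle : d ≤ charDegree ψ := by
    rw [← hdeg]
    apply tis_deg_ge ψ hψ θ
    rw [h2 θ]
    exact_mod_cast hnθ
  calc Fintype.card A < d ^ 2 := hlt
    _ ≤ charDegree ψ ^ 2 := Nat.pow_le_pow_left hle 2

end TIS2

end Cfsg.Agent.helper22
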