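import Mathlib
import Cfsg.Agent.Lib_helper22_ITO1
import Cfsg.Agent.Lib_helper22_TIS2
import Cfsg.Agent.Lib_helper22_DegP1

set_option autoImplicit false
set_option linter.unusedSectionVars false
set_option linter.unusedVariables false
set_option linter.style.haveILetI false
set_option linter.style.longLine false

/-!
helper22: Itô's theorem on `p`-solvable linear groups of small degree: character-theoretic part.
-/

namespace Cfsg.Agent.helper22

open Cfsg
open scoped ComplexConjugate
open scoped Classical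
open scoped commutatorElement

universe u

section ITO2a
variable {T : Type u} [Group T] [Fintype T]

/-- an irreducible character nontrivial on the centre of a group `T` with `T' = Z(T)` on which
`A` acts irreducibly modulo the centre, centralizing the centre, is fully ramified. -/
theorem ito_fully_ramified {A : Type u} [Group A] (α : A →* MulAut T)
    (hcomm : commutator T = Subgroup.center T)
    (hirr : ∀ U : Subgroup T, Subgroup.center T ≤ U → (∀ (a : A) (t : T), t ∈ U → α a t ∈ U) →
      U = Subgroup.center T ∨ U = ⊤)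
    (hZ : ∀ (a : A) (z : T), z ∈ Subgroup.center T → α a z = z)
    (θ : IrrCharacter T) (z₀ : T) (hz₀ : z₀ ∈ Subgroup.center T)
    (hθz₀ : (θ : T → ℂ) z₀ ≠ (θ : T → ℂ) 1) :
    Nat.card (Subgroup.center T) * charDegree (θ : T → ℂ) ^ 2 = Nat.card T := by
  have hθirr : IsIrrCharacter T (θ : T → ℂ) := θ.2
  have hθ1 : (θ : T → ℂ) 1 ≠ 0 := helper24.irr_apply_one_ne_zero hθirr
  have hcl : ∀ g h : T, (θ : T → ℂ) (h * g * h⁻¹) = (θ : T → ℂ) g :=
    helper24.char_isClassFunction (helper24.irr_isCharacter hθirr)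
  have hcen : ∀ z : T, z ∈ Subgroup.center T → ∀ g : T, g * z = z * g := by
    intro z hz g
    exact (Subgroup.mem_center_iff.mp hz g)
  -- the kernel of θ on the centre
  let Z₀ : Subgroup T :=
    { carrier := {z | z ∈ Subgroup.center T ∧ ∀ g, (θ : T → ℂ) (g * z) = (θ : T → ℂ) g}
      one_mem' := ⟨Subgroup.one_mem _, fun g => by rw [mul_one]⟩
      mul_mem' := by
        rintro a b ⟨ha, ha'⟩ ⟨hb, hb'⟩
        refine ⟨Subgroup.mul_mem _ ha hb, fun g => ?_⟩
        rw [← mul_assoc, hb', ha']
      inv_mem' := by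
        rintro a ⟨ha, ha'⟩
        refine ⟨Subgroup.inv_mem _ ha, fun g => ?_⟩
        rw [← ha' (g * a⁻¹), inv_mul_cancel_right] }
  have hZ₀mem : ∀ z : T, z ∈ Z₀ ↔ (z ∈ Subgroup.center T ∧ ∀ g, (θ : T → ℂ) (g * z) = (θ : T → ℂ) g) :=
    fun z => Iff.rfl
  have hcommem : ∀ v t : T, ⁅v, t⁆ ∈ Subgroup.center T := by
    intro v t
    rw [← hcomm, commutator_def]
    exact Subgroup.commutator_mem_commutator (Subgroup.mem_top v) (Subgroup.mem_top t)
  -- R
  have hcmul : ∀ v t t' : T, ⁅v, t * t'⁆ = ⁅v, t⁆ * ⁅v, t'⁆ := by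
    intro v t t'
    have h4 := hcen _ (hcommem v t') t
    have h5 : ⁅v, t * t'⁆ = ⁅v, t⁆ * (t * ⁅v, t'⁆ * t⁻¹) := by
      simp only [commutatorElement_def]; group
    rw [h5, h4, mul_inv_cancel_right]
  have hcinv : ∀ v t : T, ⁅v, t⁻¹⁆ = ⁅v, t⁆⁻¹ := by
    intro v t
    have h4 := hcmul v t t⁻¹
    rw [mul_inv_cancel] at h4
    have h5 : ⁅v, (1 : T)⁆ = 1 := by simp [commutatorElement_def]
    rw [h5] at h4
    exact (inv_eq_of_mul_eq_one_right h4.symm).symm
  let R : Subgroup T :=
    { carrier := {t | ∀ v : T, ⁅v, t⁆ ∈ Z₀}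
      one_mem' := fun v => by
        have h5 : ⁅v, (1 : T)⁆ = 1 := by simp [commutatorElement_def]
        rw [h5]; exact Subgroup.one_mem _
      mul_mem' := by
        intro a b ha hb v
        rw [hcmul]
        exact Subgroup.mul_mem _ (ha v) (hb v)
      inv_mem' := by
        intro a ha v
        rw [hcinv]
        exact Subgroup.inv_mem _ (ha v) }
  have hRmem : ∀ t : T, t ∈ R ↔ ∀ v : T, ⁅v, t⁆ ∈ Z₀ := fun t => Iff.rfl
  have hZR : Subgroup.center T ≤ R := by
    intro t ht
    rw [hRmem]
    intro v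
    have h5 : ⁅v, t⁆ = 1 := by
      rw [commutatorElement_def, hcen t ht v]; group
    rw [h5]; exact Subgroup.one_mem _
  have hRinv : ∀ (a : A) (t : T), t ∈ R → α a t ∈ R := by
    intro a t ht
    rw [hRmem] at ht ⊢
    intro v
    have h5 : ⁅v, α a t⁆ = α a ⁅α a⁻¹ v, t⁆ := by
      rw [map_commutatorElement]
      congr 1
      rw [← MulAut.mul_apply, ← map_mul, mul_inv_cancel, map_one, MulAut.one_apply]
    rw [h5, hZ a _ (hcommem _ _)]
    exact ht _
  have hRne : R ≠ ⊤ := by
    intro hR
    have h5 : commutator T ≤ Z₀ := by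
      rw [commutator_def, Subgroup.commutator_le]
      intro v _ t _
      have : t ∈ R := by rw [hR]; exact Subgroup.mem_top t
      exact (hRmem t).mp this v
    have h6 : z₀ ∈ Z₀ := h5 (by rw [hcomm]; exact hz₀)
    apply hθz₀
    have := ((hZ₀mem z₀).mp h6).2 1
    rwa [one_mul] at this
  have hRZ : R = Subgroup.center T := by
    rcases hirr R hZR hRinv with h | h
    · exact h
    · exact absurd h hRne
  -- θ vanishes off the centre
  have hvan : ∀ t : T, t ∉ Subgroup.center T → (θ : T → ℂ) t = 0 := by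
    intro t ht
    have htR : t ∉ R := by rw [hRZ]; exact ht
    rw [hRmem] at htR
    push Not at htR
    obtain ⟨v, hv⟩ := htR
    obtain ⟨c, hc1, hc⟩ := helper12.irr_central_scalar hθirr ⁅v, t⁆ (hcen _ (hcommem v t))
    have hcne : c ≠ 1 := by
      intro h
      apply hv
      rw [hZ₀mem]
      refine ⟨hcommem v t, fun g => ?_⟩
      rw [hc g, h, one_mul]
    have h5 : v * t * v⁻¹ = t * ⁅v, t⁆ := by
      rw [hcen _ (hcommem v t) t, commutatorElement_def]; group
    have h6 := hcl t v
    rw [h5, hc t] at h6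
    have h7 : (c - 1) * (θ : T → ℂ) t = 0 := by rw [sub_mul, h6, one_mul, sub_self]
    rcases mul_eq_zero.mp h7 with h8 | h8
    · exact absurd (sub_eq_zero.mp h8) hcne
    · exact h8
  -- norm computation
  obtain ⟨d, hdpos, hd⟩ := helper24.irr_apply_one hθirr
  have hdeg : charDegree (θ : T → ℂ) = d := helper24.charDegree_natCast _ d hd
  have hnorm := helper24.irr_classInner_self hθirr
  unfold classInner at hnorm
  have hsum : ∑ t : T, (θ : T → ℂ) t * conj ((θ : T → ℂ) t) =
      (Fintype.card (Subgroup.center T) : ℂ) * (d : ℂ) ^ 2 := by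
    have h5 : ∀ t : T, (θ : T → ℂ) t * conj ((θ : T → ℂ) t) =
        if t ∈ Subgroup.center T then (d : ℂ) ^ 2 else 0 := by
      intro t
      by_cases ht : t ∈ Subgroup.center T
      · rw [if_pos ht]
        obtain ⟨c, hc1, hc⟩ := helper12.irr_central_scalar hθirr t (hcen _ ht)
        have h6 := hc 1
        rw [one_mul, hd] at h6
        rw [h6, map_mul, Complex.conj_natCast]
        have h7 : c * conj c = 1 := by
          rw [Complex.mul_conj, Complex.normSq_eq_norm_sq, hc1]; simp
        calc c * (d : ℂ) * (conj c * (d : ℂ)) = (c * conj c) * (d : ℂ) ^ 2 := by ring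
          _ = (d : ℂ) ^ 2 := by rw [h7, one_mul]
      · rw [if_neg ht, hvan t ht, zero_mul]
    rw [Finset.sum_congr rfl (fun t _ => h5 t), Finset.sum_ite, Finset.sum_const_zero, add_zero,
      Finset.sum_const, nsmul_eq_mul]
    congr 2
    rw [← Fintype.card_subtype]
  rw [hsum, Nat.card_eq_fintype_card] at hnorm
  have hTpos : (Fintype.card T : ℂ) ≠ 0 := by
    exact_mod_cast Fintype.card_ne_zero
  have hnat : Fintype.card (Subgroup.center T) * d ^ 2 = Fintype.card T := by
    have h5 : (Fintype.card (Subgroup.center T) : ℂ) * (d : ℂ) ^ 2 = (Fintype.card T : ℂ) := by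
      field_simp at hnorm
      exact hnorm
    exact_mod_cast h5
  rw [hdeg, Nat.card_eq_fintype_card, Nat.card_eq_fintype_card]
  exact hnat

end ITO2a

section ITO2c
variable {G : Type u} [Group G] [Fintype G]

/-- a character whose restriction to a subgroup has an irreducible constituent of the same degree
is irreducible -/
theorem ito_irr_of_restrict (H : Subgroup G) [Fintype H] (χ : G → ℂ) (hχ : IsCharacter G χ)
    (θ : IrrCharacter H) (hθ : classInner (fun t : H => χ (t : G)) (θ : H → ℂ) ≠ 0)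
    (hdeg : charDegree (θ : H → ℂ) = charDegree χ) : IsIrrCharacter G χ := by
  haveI : Fintype (IrrCharacter G) := Fintype.ofFinite _
  obtain ⟨d, hdpos, hd⟩ := helper24.irr_apply_one θ.2
  have hdθ : charDegree (θ : H → ℂ) = d := helper24.charDegree_natCast _ d hd
  have hχ1 : χ 1 ≠ 0 := by
    rw [← helper24.char_charDegree_cast hχ, ← hdeg, hdθ]
    exact_mod_cast hdpos.ne'
  -- a constituent of χ
  obtain ⟨σ, hσ⟩ : ∃ σ : IrrCharacter G, classInner χ (σ : G → ℂ) ≠ 0 := by
    by_contra hcon
    push Not at hcon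
    obtain ⟨c, hexp, hc, -⟩ := helper12.char_decomp hχ
    apply hχ1
    rw [hexp, Finset.sum_apply]
    apply Finset.sum_eq_zero
    intro τ _
    have h2 : (c τ : ℂ) = 0 := by rw [← hc τ, hcon τ]
    rw [Pi.smul_apply, h2, zero_smul]
  have hρ : IsCharacter G (χ - (σ : G → ℂ)) := isCharacter_sub_constituent hχ σ.2 hσ
  have hψ : IsCharacter H (fun t : H => χ (t : G)) := helper12.isCharacter_restrict H hχ
  have hσH : IsCharacter H (fun t : H => (σ : G → ℂ) (t : G)) :=
    helper12.isCharacter_restrict H (helper24.irr_isCharacter σ.2)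
  have hρH : IsCharacter H (fun t : H => (χ - (σ : G → ℂ)) (t : G)) :=
    helper12.isCharacter_restrict H hρ
  -- the restriction is θ
  have hψθ : IsCharacter H ((fun t : H => χ (t : G)) - (θ : H → ℂ)) :=
    isCharacter_sub_constituent hψ θ.2 hθ
  have h0 : ((fun t : H => χ (t : G)) - (θ : H → ℂ)) 1 = 0 := by
    rw [Pi.sub_apply]
    show χ ((1 : H) : G) - (θ : H → ℂ) 1 = 0
    rw [OneMemClass.coe_one, ← helper24.char_charDegree_cast hχ,
      ← helper24.char_charDegree_cast (helper24.irr_isCharacter θ.2), hdeg, sub_self]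
  have hψeq : (fun t : H => χ (t : G)) = (θ : H → ℂ) :=
    sub_eq_zero.mp (char_eq_zero_of_one_eq_zero hψθ h0)
  have hsplit : (θ : H → ℂ) = (fun t : H => (σ : G → ℂ) (t : G)) +
      (fun t : H => (χ - (σ : G → ℂ)) (t : G)) := by
    rw [← hψeq]
    funext t
    simp
  obtain ⟨a, ha⟩ := helper12.classInner_char_nat hσH (helper24.irr_isCharacter θ.2)
  obtain ⟨b, hb⟩ := helper12.classInner_char_nat hρH (helper24.irr_isCharacter θ.2)
  have h1 : classInner (θ : H → ℂ) (θ : H → ℂ) = 1 := helper24.irr_classInner_self θ.2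
  have hab : a + b = 1 := by
    have h2 : classInner (θ : H → ℂ) (θ : H → ℂ) = (a : ℂ) + (b : ℂ) := by
      calc classInner (θ : H → ℂ) (θ : H → ℂ)
          = classInner ((fun t : H => (σ : G → ℂ) (t : G)) +
              (fun t : H => (χ - (σ : G → ℂ)) (t : G))) (θ : H → ℂ) := by rw [← hsplit]
        _ = (a : ℂ) + (b : ℂ) := by rw [helper24.classInner_add_left, ha, hb]
    rw [h1] at h2
    exact_mod_cast h2.symm
  have hdσ : charDegree (σ : G → ℂ) ≤ charDegree χ := tis_deg_ge χ hχ σ hσ
  have hdsum : charDegree (χ - (σ : G → ℂ)) + charDegree (σ : G → ℂ) = charDegree χ := by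
    have h2 : ((charDegree (χ - (σ : G → ℂ)) + charDegree (σ : G → ℂ) : ℕ) : ℂ)
        = (charDegree χ : ℂ) := by
      push_cast
      rw [helper24.char_charDegree_cast hρ,
        helper24.char_charDegree_cast (helper24.irr_isCharacter σ.2),
        helper24.char_charDegree_cast hχ, Pi.sub_apply]
      ring
    exact_mod_cast h2
  obtain ⟨e, hepos, he⟩ := helper24.irr_apply_one σ.2
  have hdσe : charDegree (σ : G → ℂ) = e := helper24.charDegree_natCast _ e he
  rcases Nat.eq_zero_or_pos a with ha0 | ha0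
  · have hb1 : b = 1 := by omega
    have h2 : charDegree (θ : H → ℂ) ≤ charDegree (fun t : H => (χ - (σ : G → ℂ)) (t : G)) := by
      apply tis_deg_ge _ hρH θ
      rw [hb, hb1]
      simp
    have h3 : charDegree (fun t : H => (χ - (σ : G → ℂ)) (t : G))
        = charDegree (χ - (σ : G → ℂ)) := rfl
    omega
  · have h2 : charDegree (θ : H → ℂ) ≤ charDegree (fun t : H => (σ : G → ℂ) (t : G)) := by
      apply tis_deg_ge _ hσH θ
      rw [ha]
      exact_mod_cast ha0.ne'
    have h3 : charDegree (fun t : H => (σ : G → ℂ) (t : G)) = charDegree (σ : G → ℂ) := rfl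
    have hz : charDegree (χ - (σ : G → ℂ)) = 0 := by omega
    have h00 : (χ - (σ : G → ℂ)) 1 = 0 := by
      rw [← helper24.char_charDegree_cast hρ, hz, Nat.cast_zero]
    have hχσ : χ = (σ : G → ℂ) := sub_eq_zero.mp (char_eq_zero_of_one_eq_zero hρ h00)
    rw [hχσ]
    exact σ.2

end ITO2c

end Cfsg.Agent.helper22
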