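import Mathlib
import Cfsg.Agent.Lib_helper22_ITO2

set_option autoImplicit false
set_option linter.unusedSectionVars false
set_option linter.unusedVariables false
set_option linter.style.haveILetI false
set_option linter.style.longLine false

/-!
helper22: Itô's theorem on `p`-solvable linear groups of small degree: conclusion.
-/

namespace Cfsg.Agent.helper22

open Cfsg
open scoped Pointwise commutatorElement

universe u

section ITO3
variable {G : Type u} [Group G] [Finite G]

theorem ito_final (χ : G → ℂ) (hχ : IsCharacter G χ) (hfaith : ∀ g : G, χ g = χ 1 → g = 1)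
    (n : ℕ) (hn : charDegree χ = n) (p : ℕ) [hp : Fact p.Prime] (hsolv : IsPSolvable p G)
    (hnp : n + 1 ≤ p) (P : Sylow p G) (hnn : ¬ (P : Subgroup G).Normal) :
    n + 1 = p ∧ (∃ k : ℕ, n = 2 ^ k) ∧ IsIrrCharacter G χ := by
  classical
  have hpp : p.Prime := hp.out
  haveI : Fintype G := Fintype.ofFinite _
  haveI : Fintype ↥(P : Subgroup G) := Fintype.ofFinite _
  -- P is abelian
  have habP : ∀ a b : ↥(P : Subgroup G), a * b = b * a := by
    apply ito_abelian_of_small (p := p) P.isPGroup' (fun t : ↥(P : Subgroup G) => χ (t : G))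
      (helper12.isCharacter_restrict (P : Subgroup G) hχ)
    · intro t ht
      apply Subtype.ext
      exact hfaith _ ht
    · show charDegree χ < p
      omega
  have hab : ∀ a ∈ (P : Subgroup G), ∀ b ∈ (P : Subgroup G), a * b = b * a := by
    intro a ha b hb
    exact congrArg Subtype.val (habP ⟨a, ha⟩ ⟨b, hb⟩)
  obtain ⟨q, Q₀, hq, hqp, hQ₀q, hPQ₀, hcomm, hQ₀ne, hfixed, hfixedP, hΦc, hdisj, hirr⟩ :=
    ito_group hsolv P hab hnn
  haveI : Fact q.Prime := ⟨hq⟩
  haveI : Fintype ↥Q₀ := Fintype.ofFinite _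
  obtain ⟨α, hα⟩ : ∃ α : ↥(P : Subgroup G) →* MulAut ↥Q₀,
      ∀ (a : ↥(P : Subgroup G)) (t : ↥Q₀), ((α a t : ↥Q₀) : G) = (a : G) * (t : G) * (a : G)⁻¹ :=
    ⟨(Subgroup.normalizerMonoidHom Q₀).comp (Subgroup.inclusion hPQ₀), fun a t => rfl⟩
  obtain ⟨ψ, hψdef⟩ : ∃ ψ : ↥Q₀ → ℂ, ψ = fun t : ↥Q₀ => χ (t : G) := ⟨_, rfl⟩
  have hψ : IsCharacter ↥Q₀ ψ := hψdef ▸ helper12.isCharacter_restrict Q₀ hχ
  have hψfaith : ∀ t : ↥Q₀, ψ t = ψ 1 → t = 1 := by
    intro t ht
    rw [hψdef] at ht
    apply Subtype.ext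
    exact hfaith _ ht
  have hψdeg : charDegree ψ = charDegree χ := by rw [hψdef]; rfl
  have hinv : ∀ (a : ↥(P : Subgroup G)) (t : ↥Q₀), ψ (α a t) = ψ t := by
    intro a t
    rw [hψdef]
    show χ ((α a t : ↥Q₀) : G) = χ (t : G)
    rw [hα]
    exact helper24.char_isClassFunction hχ _ _
  -- some element of P acts nontrivially
  have hact : ∃ a : ↥(P : Subgroup G), α a ≠ 1 := by
    by_contra hcon
    push Not at hcon
    have h0 : ⁅Q₀, (P : Subgroup G)⁆ = ⊥ := by
      rw [Subgroup.commutator_eq_bot_iff_le_centralizer]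
      intro t ht
      rw [Subgroup.mem_centralizer_iff]
      intro x hx
      have h5 := congrArg (fun f : MulAut ↥Q₀ => ((f ⟨t, ht⟩ : ↥Q₀) : G)) (hcon ⟨x, hx⟩)
      simp only [MulAut.one_apply] at h5
      rw [hα] at h5
      have h6 : x * t * x⁻¹ = t := h5
      calc x * t = (x * t * x⁻¹) * x := by group
        _ = t * x := by rw [h6]
    rw [h0] at hcomm
    exact hQ₀ne hcomm.symm
  by_cases habQ : ∀ a b : ↥Q₀, a * b = b * a
  · -- abelian case
    exfalso
    have hcomm0 : ⁅Q₀, Q₀⁆ = ⊥ := by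
      rw [Subgroup.commutator_eq_bot_iff_le_centralizer]
      intro x hx
      rw [Subgroup.mem_centralizer_iff]
      intro y hy
      exact congrArg Subtype.val (habQ ⟨y, hy⟩ ⟨x, hx⟩)
    haveI : Fintype ↥α.range := Fintype.ofFinite _
    have hnt : ∃ t : ↥Q₀, t ≠ 1 := (Subgroup.ne_bot_iff_exists_ne_one).mp hQ₀ne
    have hfpf : ∀ a : ↥α.range, a ≠ 1 → ∀ t : ↥Q₀, α.range.subtype a t = t → t = 1 := by
      rintro ⟨f, a, rfl⟩ hne t hat
      have hne' : α a ≠ 1 := fun h => hne (Subtype.ext h)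
      have hex : ∃ s : ↥Q₀, α a s ≠ s := by
        by_contra hcon
        push Not at hcon
        apply hne'
        ext s
        rw [hcon s]
        rfl
      obtain ⟨s, hs⟩ := hex
      have hs' : (a : G) * (s : G) ≠ (s : G) * (a : G) := by
        intro h
        apply hs
        apply Subtype.ext
        rw [hα, h]
        group
      have hat' : (a : G) * (t : G) = (t : G) * (a : G) := by
        have h6 : ((α a t : ↥Q₀) : G) = (t : G) := congrArg Subtype.val hat
        rw [hα] at h6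
        calc (a : G) * t = ((a : G) * t * (a : G)⁻¹) * a := by group
          _ = t * a := by rw [h6]
      have h5 := hfixed (a : G) a.2 ⟨(s : G), s.2, hs'⟩ (t : G) t.2 hat'
      rw [hcomm0, Subgroup.mem_bot] at h5
      exact Subtype.ext h5
    have hinv' : ∀ (a : ↥α.range) (t : ↥Q₀), ψ (α.range.subtype a t) = ψ t := by
      rintro ⟨f, a, rfl⟩ t
      exact hinv a t
    have h1 := tis_abelian α.range.subtype habQ hnt hfpf ψ hψ hinv' hψfaith
    have hrp : IsPGroup p ↥α.range :=
      IsPGroup.of_surjective P.isPGroup' α.rangeRestrict α.rangeRestrict_surjective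
    obtain ⟨k, hk⟩ := IsPGroup.iff_card.mp hrp
    have hk0 : k ≠ 0 := by
      intro h
      rw [h, pow_zero] at hk
      obtain ⟨a, ha⟩ := hact
      apply ha
      have h5 : (⟨α a, a, rfl⟩ : ↥α.range) = 1 := by
        haveI := (Nat.card_eq_one_iff_unique.mp hk).1
        exact Subsingleton.elim _ _
      exact congrArg Subtype.val h5
    have h2 : p ≤ Nat.card ↥α.range := by
      rw [hk]
      exact Nat.le_self_pow hk0 p
    rw [Nat.card_eq_fintype_card] at h2
    rw [hψdeg, hn] at h1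
    omega
  · -- special case
    have hspec : IsSpecial q ↥Q₀ := by
      rcases hdisj with h | h
      · exfalso
        apply habQ
        intro a b
        haveI := h.1
        exact mul_comm' a b
      · exact h
    obtain ⟨-, hfc, hcc⟩ := hspec
    have hmapc : ∀ t : ↥Q₀, (t : G) ∈ (Subgroup.center ↥Q₀).map Q₀.subtype →
        t ∈ Subgroup.center ↥Q₀ := by
      rintro t ⟨s, hs, hst⟩
      have : s = t := Subtype.ext hst
      rw [← this]; exact hs
    have hirrT : ∀ U : Subgroup ↥Q₀, Subgroup.center ↥Q₀ ≤ U →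
        (∀ (a : ↥(P : Subgroup G)) (t : ↥Q₀), t ∈ U → α a t ∈ U) →
        U = Subgroup.center ↥Q₀ ∨ U = ⊤ := by
      intro U hZU hUinv
      have h1 : (frattini ↥Q₀).map Q₀.subtype ≤ U.map Q₀.subtype := by
        rw [hfc]; exact Subgroup.map_mono hZU
      have h2 : U.map Q₀.subtype ≤ Q₀ := Subgroup.map_subtype_le _
      have h3 : (P : Subgroup G) ≤ Subgroup.normalizer ((U.map Q₀.subtype : Subgroup G) : Set G) := by
        intro a ha
        rw [Subgroup.mem_normalizer_iff]
        intro h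
        constructor
        · rintro ⟨t, ht, rfl⟩
          refine ⟨α ⟨a, ha⟩ t, hUinv ⟨a, ha⟩ t ht, ?_⟩
          show ((α ⟨a, ha⟩ t : ↥Q₀) : G) = a * (t : G) * a⁻¹
          rw [hα]
        · rintro ⟨s, hs, hst⟩
          refine ⟨α (⟨a, ha⟩ : ↥(P : Subgroup G))⁻¹ s, hUinv _ s hs, ?_⟩
          show ((α (⟨a, ha⟩ : ↥(P : Subgroup G))⁻¹ s : ↥Q₀) : G) = h
          rw [hα]
          have h5 : (s : G) = a * h * a⁻¹ := hst
          rw [h5]
          show a⁻¹ * (a * h * a⁻¹) * a⁻¹⁻¹ = h
          group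
      rcases hirr _ h1 h2 h3 with h | h
      · left
        apply Subgroup.map_injective Q₀.subtype_injective
        rw [h, hfc]
      · right
        apply Subgroup.map_injective Q₀.subtype_injective
        rw [h, ← MonoidHom.range_eq_map, Subgroup.range_subtype]
    have hZT : ∀ (a : ↥(P : Subgroup G)) (z : ↥Q₀), z ∈ Subgroup.center ↥Q₀ → α a z = z := by
      intro a z hz
      apply Subtype.ext
      rw [hα]
      have h5 : (z : G) ∈ (frattini ↥Q₀).map Q₀.subtype := by
        rw [hfc]; exact ⟨z, hz, rfl⟩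
      have h6 := hΦc (a : G) a.2 (z : G) h5
      rw [h6]; group
    have hfixT : ∀ t : ↥Q₀, (∀ a : ↥(P : Subgroup G), α a t = t) →
        t ∈ Subgroup.center ↥Q₀ := by
      intro t hat
      have h5 := hfixedP (t : G) t.2 (fun x hx => by
        have h6 : ((α ⟨x, hx⟩ t : ↥Q₀) : G) = (t : G) := congrArg Subtype.val (hat ⟨x, hx⟩)
        rw [hα] at h6
        have h7 : x * (t : G) * x⁻¹ = (t : G) := h6
        calc x * (t : G) = (x * (t : G) * x⁻¹) * x := by group
          _ = (t : G) * x := by rw [h7])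
      rw [← Subgroup.map_subtype_commutator, hcc] at h5
      exact hmapc t h5
    have hnab : Subgroup.center ↥Q₀ ≠ ⊤ := by
      intro h
      apply habQ
      intro a b
      have h5 : b ∈ Subgroup.center ↥Q₀ := by rw [h]; exact Subgroup.mem_top b
      exact (Subgroup.mem_center_iff.mp h5 a)
    have hZne : Subgroup.center ↥Q₀ ≠ ⊥ := by
      intro h
      apply hnab
      rw [← commutator_eq_bot_iff_center_eq_top, hcc, h]
    obtain ⟨⟨z₀, hz₀⟩, hz₀1⟩ := (Subgroup.ne_bot_iff_exists_ne_one).mp hZne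
    have hz₀1' : z₀ ≠ 1 := fun h => hz₀1 (Subtype.ext h)
    haveI : Fintype (IrrCharacter ↥Q₀) := Fintype.ofFinite _
    obtain ⟨m, h1, h2, h3⟩ := tis_decomp ψ hψ
    have hex : ∃ θ : IrrCharacter ↥Q₀, m θ ≠ 0 ∧ (θ : ↥Q₀ → ℂ) z₀ ≠ (θ : ↥Q₀ → ℂ) 1 := by
      by_contra hcon
      push Not at hcon
      apply hz₀1'
      apply hψfaith
      rw [h1, Finset.sum_apply, Finset.sum_apply]
      apply Finset.sum_congr rfl
      intro τ _
      rw [Pi.smul_apply, Pi.smul_apply]
      by_cases hm : m τ = 0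
      · rw [hm]; simp
      · rw [hcon τ hm]
    obtain ⟨θ, hmθ, hθz₀⟩ := hex
    have hram := ito_fully_ramified α hcc hirrT hZT θ z₀ hz₀ hθz₀
    obtain ⟨d, hd⟩ : ∃ d : ℕ, d = charDegree (θ : ↥Q₀ → ℂ) := ⟨_, rfl⟩
    rw [← hd] at hram
    have hθne : classInner ψ (θ : ↥Q₀ → ℂ) ≠ 0 := by
      rw [h2 θ]
      exact_mod_cast hmθ
    have hdn : d ≤ n := by
      rw [hd, ← hn, ← hψdeg]
      exact tis_deg_ge ψ hψ θ hθne
    have hdpos : 0 < d := by
      obtain ⟨e, hepos, he⟩ := helper24.irr_apply_one θ.2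
      rw [hd, helper24.charDegree_natCast _ e he]
      exact hepos
    -- fixed point congruence
    letI : MulAction ↥(P : Subgroup G) ↥Q₀ := MulAction.compHom ↥Q₀ α
    have hfp : MulAction.fixedPoints ↥(P : Subgroup G) ↥Q₀ = ((Subgroup.center ↥Q₀ : Subgroup ↥Q₀) : Set ↥Q₀) := by
      ext t
      rw [MulAction.mem_fixedPoints]
      constructor
      · intro h
        exact hfixT t (fun a => h a)
      · intro h a
        exact hZT a t h
    have hmod := IsPGroup.card_modEq_card_fixedPoints (p := p) P.isPGroup' ↥Q₀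
    rw [hfp] at hmod
    have hmod' : Nat.card ↥Q₀ ≡ Nat.card ↥(Subgroup.center ↥Q₀) [MOD p] := hmod
    -- arithmetic
    obtain ⟨z, hz⟩ : ∃ z : ℕ, z = Nat.card ↥(Subgroup.center ↥Q₀) := ⟨_, rfl⟩
    obtain ⟨N, hN⟩ : ∃ N : ℕ, N = Nat.card ↥Q₀ := ⟨_, rfl⟩
    rw [← hz, ← hN] at hram hmod'
    have hzq : ∃ j : ℕ, z = q ^ j := by
      rw [hz]
      exact IsPGroup.iff_card.mp (hQ₀q.to_subgroup (Subgroup.center ↥Q₀))
    obtain ⟨j, hj⟩ := hzq
    obtain ⟨l, hl⟩ : ∃ l : ℕ, N = q ^ l := by
      rw [hN]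
      exact IsPGroup.iff_card.mp hQ₀q
    have hqpc : Nat.Coprime p q := (Nat.coprime_primes hpp hq).mpr (Ne.symm hqp)
    have hpz : Nat.Coprime p z := by
      rw [hj]
      exact Nat.Coprime.pow_right j hqpc
    have hzN : z ≤ N := by
      rw [← hram]
      exact Nat.le_mul_of_pos_right z (pow_pos hdpos 2)
    have hdvd : p ∣ N - z := (Nat.modEq_iff_dvd' hzN).mp hmod'.symm
    have hfac : N - z = ((d - 1) * (d + 1)) * z := by
      rw [← hram]
      obtain ⟨e, rfl⟩ : ∃ e, d = e + 1 := ⟨d - 1, by omega⟩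
      have : e + 1 - 1 = e := by omega
      rw [this]
      have h5 : z * (e + 1) ^ 2 = (e * (e + 1 + 1)) * z + z := by ring
      rw [h5]
      omega
    rw [hfac] at hdvd
    have hdvd2 : p ∣ (d - 1) * (d + 1) := Nat.Coprime.dvd_of_dvd_mul_right hpz hdvd
    have hd1 : d ≠ 1 := by
      intro h
      rw [h] at hram
      apply hnab
      have h5 : Nat.card ↥(Subgroup.center ↥Q₀) = Nat.card ↥Q₀ := by
        rw [← hz, ← hN, ← hram]; ring
      exact Subgroup.card_eq_iff_eq_top _ |>.mp h5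
    have hdp : d + 1 = p := by
      rcases (Nat.Prime.dvd_mul hpp).mp hdvd2 with h | h
      · exfalso
        have h5 : d - 1 = 0 := by
          by_contra h6
          have := Nat.le_of_dvd (Nat.pos_of_ne_zero h6) h
          omega
        omega
      · have := Nat.le_of_dvd (Nat.succ_pos d) h
        omega
    have hdn' : d = n := by omega
    have hnp' : n + 1 = p := by omega
    -- d is a power of q
    have hdq : ∃ i : ℕ, d = q ^ i := by
      have h5 : d ∣ q ^ l := by
        rw [← hl, ← hram]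
        exact Dvd.dvd.mul_left (dvd_pow_self d (by norm_num)) z
      obtain ⟨i, -, hi⟩ := (Nat.dvd_prime_pow hq).mp h5
      exact ⟨i, hi⟩
    obtain ⟨i, hi⟩ := hdq
    have hq2 : q = 2 := by
      rcases hq.eq_two_or_odd' with h | h
      · exact h
      · exfalso
        have hdodd : Odd d := by rw [hi]; exact h.pow
        rcases hpp.eq_two_or_odd' with h5 | h5
        · omega
        · rw [← hdp] at h5
          have := Nat.odd_add_one.mp h5
          exact this hdodd
    refine ⟨hnp', ⟨i, ?_⟩, ?_⟩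
    · rw [← hdn', hi, hq2]
    · apply ito_irr_of_restrict Q₀ χ hχ θ
      · rw [hψdef] at hθne
        exact hθne
      · rw [← hd, hdn', hn]

end ITO3

end Cfsg.Agent.helper22
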