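import Mathlib
import Cfsg.Agent.Lib_helper22_ITO3
import Cfsg.Agent.Lib_helper22_FTA4
import Cfsg.Agent.Lib_helper24_CharKer

set_option autoImplicit false
set_option linter.unusedSectionVars false
set_option linter.unusedVariables false
set_option linter.style.haveILetI false
set_option linter.style.longLine false

/-!
helper22: Feit–Thompson / Blichfeldt: normal Sylow `p`-subgroups of linear groups of small degree.
Part 1: subgroups with a normal Sylow `p`-subgroup, transport, transfer.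
-/

namespace Cfsg.Agent.helper22

open Cfsg
open scoped Pointwise commutatorElement

universe u

section FTN1
variable {K : Type u} [Group K] [Finite K]

/-- the subgroup `M` has a normal Sylow `p`-subgroup -/
def ftNS (p : ℕ) (M : Subgroup K) : Prop :=
  ∃ S : Subgroup K, S ≤ M ∧ IsPGroup p S ∧ M ≤ Subgroup.normalizer (S : Set K) ∧
    ¬ p ∣ S.relIndex M

theorem ftNS_le {p : ℕ} [hp : Fact p.Prime] {M S : Subgroup K} (hSM : S ≤ M) (hS : IsPGroup p S)
    (hN : M ≤ Subgroup.normalizer (S : Set K)) (hind : ¬ p ∣ S.relIndex M)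
    (R : Subgroup K) (hRM : R ≤ M) (hR : IsPGroup p R) : R ≤ S := by
  have hRN : R ≤ Subgroup.normalizer (S : Set K) := hRM.trans hN
  have hsup : IsPGroup p (S ⊔ R : Subgroup K) := IsPGroup.to_sup_of_normal_left' hS hR hRN
  have hle : S ⊔ R ≤ M := sup_le hSM hRM
  have h1 : S.relIndex (S ⊔ R) ∣ S.relIndex M :=
    ⟨_, (Subgroup.relIndex_mul_relIndex S (S ⊔ R) M le_sup_left hle).symm⟩
  have h2 : Nat.card S * S.relIndex (S ⊔ R) = Nat.card (S ⊔ R : Subgroup K) := by
    have h5 := Subgroup.relIndex_mul_relIndex ⊥ S (S ⊔ R) bot_le le_sup_left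
    rwa [Subgroup.relIndex_bot_left, Subgroup.relIndex_bot_left] at h5
  obtain ⟨k, hk⟩ := IsPGroup.iff_card.mp hsup
  have h3 : S.relIndex (S ⊔ R) ∣ p ^ k := by
    rw [← hk, ← h2]
    exact Dvd.intro_left _ rfl
  obtain ⟨j, -, hj⟩ := (Nat.dvd_prime_pow hp.out).mp h3
  have hj0 : j = 0 := by
    by_contra hj0
    apply hind
    refine dvd_trans ?_ h1
    rw [hj]
    exact dvd_pow_self p hj0
  rw [hj0, pow_zero] at hj
  have h4 : S ⊔ R ≤ S := Subgroup.relIndex_eq_one.mp hj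
  exact le_sup_right.trans h4

theorem ftNS_top_of_normal {p : ℕ} [Fact p.Prime] (P : Sylow p K)
    (h : (P : Subgroup K).Normal) : ftNS p (⊤ : Subgroup K) := by
  refine ⟨P, le_top, P.isPGroup', ?_, ?_⟩
  · rw [Subgroup.normalizer_eq_top_iff.mpr h]
  · rw [Subgroup.relIndex_top_right]
    exact P.not_dvd_index

theorem ftNS_top_normal {p : ℕ} [Fact p.Prime] (h : ftNS p (⊤ : Subgroup K)) (P : Sylow p K) :
    (P : Subgroup K).Normal := by
  obtain ⟨S, -, hS, hN, hind⟩ := h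
  have hPS : (P : Subgroup K) ≤ S := ftNS_le le_top hS hN hind P le_top P.isPGroup'
  have hSP : S = (P : Subgroup K) := P.is_maximal' hS hPS
  rw [← Subgroup.normalizer_eq_top_iff, ← hSP]
  exact top_le_iff.mp hN

end FTN1

section FTN1b
variable {G : Type u} [Group G] [Finite G]

theorem ftNS_of_map {p : ℕ} (K : Subgroup G) (M : Subgroup ↥K)
    (h : ftNS p (M.map K.subtype)) : ftNS p M := by
  obtain ⟨S, hSM, hS, hN, hind⟩ := h
  refine ⟨S.comap K.subtype, ?_, ?_, ?_, ?_⟩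
  · intro x hx
    obtain ⟨m, hm, hmx⟩ := hSM (Subgroup.mem_comap.mp hx)
    have : m = x := Subtype.ext hmx
    rw [← this]; exact hm
  · exact hS.comap_of_injective K.subtype K.subtype_injective
  · intro m hm
    rw [Subgroup.mem_normalizer_iff]
    intro x
    have hmN := hN (Subgroup.mem_map_of_mem K.subtype hm)
    rw [Subgroup.mem_normalizer_iff] at hmN
    rw [Subgroup.mem_comap, Subgroup.mem_comap, map_mul, map_mul, map_inv]
    exact hmN _
  · rw [Subgroup.relIndex_comap]; exact hind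

theorem ftNS_of_top {p : ℕ} (K : Subgroup G) (h : ftNS p (⊤ : Subgroup ↥K)) : ftNS p K := by
  obtain ⟨S, -, hS, hN, hind⟩ := h
  refine ⟨S.map K.subtype, Subgroup.map_subtype_le S, hS.map K.subtype, ?_, ?_⟩
  · intro k hk
    have hkN := hN (Subgroup.mem_top (⟨k, hk⟩ : ↥K))
    rw [Subgroup.mem_normalizer_iff] at hkN ⊢
    intro x
    constructor
    · rintro ⟨s, hs, rfl⟩
      exact ⟨⟨k, hk⟩ * s * ⟨k, hk⟩⁻¹, (hkN s).mp hs, rfl⟩
    · rintro ⟨s, hs, hsx⟩
      refine ⟨(⟨k, hk⟩ : ↥K)⁻¹ * s * ⟨k, hk⟩, (hkN _).mpr ?_, ?_⟩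
      · have : (⟨k, hk⟩ : ↥K) * ((⟨k, hk⟩ : ↥K)⁻¹ * s * ⟨k, hk⟩) * (⟨k, hk⟩ : ↥K)⁻¹ = s := by group
        rw [this]; exact hs
      · show k⁻¹ * (s : G) * k = x
        have h5 : (s : G) = k * x * k⁻¹ := hsx
        rw [h5]; group
  · have h2 : (S.map K.subtype).relIndex ((⊤ : Subgroup ↥K).map K.subtype) = S.relIndex ⊤ :=
      Subgroup.relIndex_map_map_of_injective S ⊤ K.subtype_injective
    have h3 : (⊤ : Subgroup ↥K).map K.subtype = K := by
      rw [← MonoidHom.range_eq_map, Subgroup.range_subtype]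
    rw [h3] at h2
    rw [h2]; exact hind

end FTN1b

section FTN1c
variable {T : Type u} [Group T] [Fintype T]

/-- a group with a faithful character all of whose constituents are linear is abelian -/
theorem ft_abelian_of_lin (ψ : T → ℂ) (hψ : IsCharacter T ψ) (hfaith : ∀ t : T, ψ t = ψ 1 → t = 1)
    [Fintype (IrrCharacter T)] (n : IrrCharacter T → ℕ)
    (h1 : ψ = ∑ τ : IrrCharacter T, (n τ : ℂ) • (τ : T → ℂ))
    (hlin : ∀ τ : IrrCharacter T, n τ ≠ 0 → (τ : T → ℂ) 1 = 1) : ∀ a b : T, a * b = b * a := by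
  classical
  intro a b
  have hcomm : a * b * a⁻¹ * b⁻¹ = 1 := by
    apply hfaith
    rw [h1, Finset.sum_apply, Finset.sum_apply]
    apply Finset.sum_congr rfl
    intro τ _
    rw [Pi.smul_apply, Pi.smul_apply]
    by_cases hn : n τ = 0
    · rw [hn]; simp
    · obtain ⟨φ, hφ⟩ := linear_iff_hom.mp ⟨helper24.irr_isCharacter τ.2, hlin τ hn⟩
      rw [hφ, hφ, map_mul, map_mul, map_mul, map_inv, map_inv, map_one]
      have hu : φ a * φ b * (φ a)⁻¹ * (φ b)⁻¹ = 1 := by
        rw [mul_comm (φ a) (φ b), mul_assoc (φ b), mul_inv_cancel, mul_one, mul_inv_cancel]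
      rw [hu]
  calc a * b = (a * b * a⁻¹ * b⁻¹) * (b * a) := by group
    _ = b * a := by rw [hcomm, one_mul]

end FTN1c

section FTN1d
variable {K : Type u} [Group K] [Finite K]

/-- transfer: if an abelian Sylow `p`-subgroup meets the centre nontrivially and every proper
subgroup has a normal Sylow `p`-subgroup, the group is `p`-solvable -/
theorem ft_psolv_of_central {p : ℕ} [hp : Fact p.Prime] (Q : Sylow p K)
    (hab : ∀ a ∈ (Q : Subgroup K), ∀ b ∈ (Q : Subgroup K), a * b = b * a) (z : K)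
    (hzQ : z ∈ (Q : Subgroup K)) (hzZ : z ∈ Subgroup.center K) (hz1 : z ≠ 1)
    (hmin : ∀ M : Subgroup K, M ≠ ⊤ → ftNS p M) : IsPSolvable p K := by
  have hpp := hp.out
  letI : CommGroup ↥(Q : Subgroup K) := { (inferInstance : Group ↥(Q : Subgroup K)) with
    mul_comm := fun a b => Subtype.ext (hab a a.2 b b.2) }
  obtain ⟨τ, hτ⟩ : ∃ τ : K →* ↥(Q : Subgroup K),
      τ = MonoidHom.transfer (MonoidHom.id ↥(Q : Subgroup K)) := ⟨_, rfl⟩
  have hkey : ∀ (k : ℕ) (g₀ : K), g₀⁻¹ * z ^ k * g₀ ∈ (Q : Subgroup K) →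
      g₀⁻¹ * z ^ k * g₀ = z ^ k := by
    intro k g₀ _
    have h5 : z ^ k ∈ Subgroup.center K := Subgroup.pow_mem _ hzZ k
    have h6 := Subgroup.mem_center_iff.mp h5 g₀
    rw [mul_assoc, ← h6, inv_mul_cancel_left]
  have hτz : ((τ z : ↥(Q : Subgroup K)) : K) = z ^ (Q : Subgroup K).index := by
    rw [hτ, MonoidHom.transfer_eq_pow (MonoidHom.id ↥(Q : Subgroup K)) z hkey]
    rfl
  have hτz1 : τ z ≠ 1 := by
    intro h
    rw [h] at hτz
    have h5 : z ^ (Q : Subgroup K).index = 1 := hτz.symm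
    obtain ⟨k, hk⟩ := Q.isPGroup' ⟨z, hzQ⟩
    have h6 : z ^ (p ^ k) = 1 := by
      have := congrArg Subtype.val hk
      simpa using this
    have h7 : z ^ (Nat.gcd (p ^ k) (Q : Subgroup K).index) = 1 := pow_gcd_eq_one.mpr ⟨h6, h5⟩
    have h8 : Nat.Coprime (p ^ k) (Q : Subgroup K).index := by
      apply Nat.Coprime.pow_left
      exact (Nat.Prime.coprime_iff_not_dvd hpp).mpr Q.not_dvd_index
    rw [h8, pow_one] at h7
    exact hz1 h7
  have hK₁ne : τ.ker ≠ ⊤ := by
    intro h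
    apply hτz1
    have : z ∈ τ.ker := by rw [h]; exact Subgroup.mem_top z
    exact MonoidHom.mem_ker.mp this
  have hK₁n : τ.ker.Normal := MonoidHom.normal_ker τ
  have hidx : ∃ j : ℕ, τ.ker.index = p ^ j := by
    rw [Subgroup.index_ker]
    obtain ⟨k, hk⟩ := IsPGroup.iff_card.mp Q.isPGroup'
    have h5 : Nat.card ↥τ.range ∣ p ^ k := by
      rw [← hk]
      exact Subgroup.card_subgroup_dvd_card τ.range
    obtain ⟨j, -, hj⟩ := (Nat.dvd_prime_pow hpp).mp h5
    exact ⟨j, hj⟩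
  obtain ⟨j, hj⟩ := hidx
  obtain ⟨S₁, hS₁K, hS₁, hN₁, hind₁⟩ := hmin τ.ker hK₁ne
  have hS₁n : S₁.Normal := by
    constructor
    intro s hs k
    have hle : S₁.map (MulAut.conj k).toMonoidHom ≤ S₁ := by
      apply ftNS_le hS₁K hS₁ hN₁ hind₁
      · rintro _ ⟨y, hy, rfl⟩
        exact hK₁n.conj_mem y (hS₁K hy) k
      · exact hS₁.map _
    exact hle ⟨s, hs, rfl⟩
  rw [helper23.isPSolvable_iff_psreach]
  have r1 : helper23.PSReach p S₁ :=
    helper23.PSReach.step ⊥ S₁ helper23.PSReach.bot bot_le hS₁n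
      (Or.inl (by rw [Subgroup.relIndex_bot_left]; exact IsPGroup.iff_card.mp hS₁))
  have r2 : helper23.PSReach p τ.ker :=
    helper23.PSReach.step S₁ τ.ker r1 hS₁K hK₁n
      (Or.inr ((Nat.Prime.coprime_iff_not_dvd hpp).mpr hind₁).symm)
  exact helper23.PSReach.step τ.ker ⊤ r2 le_top inferInstance
    (Or.inl ⟨j, by rw [Subgroup.relIndex_top_right]; exact hj⟩)

end FTN1d

end Cfsg.Agent.helper22
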