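import Mathlib
import Cfsg.Agent.Lib_helper22_FTN1

set_option autoImplicit false
set_option linter.unusedSectionVars false
set_option linter.unusedVariables false
set_option linter.style.haveILetI false
set_option linter.style.longLine false

/-!
helper22: Feit–Thompson / Blichfeldt: normal Sylow `p`-subgroups of linear groups of small degree.
Part 2: the minimal counterexample.
-/

namespace Cfsg.Agent.helper22

open Cfsg
open scoped Pointwise commutatorElement

universe u

section FTN2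
variable {K : Type u} [Group K] [Finite K]

theorem ft_mc (p : ℕ) [hp : Fact p.Prime] (ψ : K → ℂ)
    (hψ : IsCharacter K ψ) (hfaith : ∀ g : K, ψ g = ψ 1 → g = 1) (n : ℕ) (hn : charDegree ψ = n)
    (hnp : n + 1 < p) (hmin : ∀ M : Subgroup K, M ≠ ⊤ → ftNS p M)
    (hns : ¬ ftNS p (⊤ : Subgroup K)) (P : Sylow p K) :
    p ≤ Nat.card ↥(P : Subgroup K) ∧ Nat.card ↥(P : Subgroup K) < (n + 1) ^ 2 := by
  classical
  have hpp := hp.out
  haveI : Fintype K := Fintype.ofFinite _
  have hnn : ∀ Q : Sylow p K, ¬ (Q : Subgroup K).Normal :=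
    fun Q h => hns (ftNS_top_of_normal Q h)
  have hnsolv : ¬ IsPSolvable p K := by
    intro hsolv
    have := (ito_final ψ hψ hfaith n hn p hsolv (by omega) P (hnn P)).1
    omega
  -- all Sylow subgroups are abelian
  have hSab : ∀ Q : Sylow p K, ∀ a ∈ (Q : Subgroup K), ∀ b ∈ (Q : Subgroup K), a * b = b * a := by
    intro Q a ha b hb
    haveI : Fintype ↥(Q : Subgroup K) := Fintype.ofFinite _
    have h5 := ito_abelian_of_small (p := p) Q.isPGroup' (fun t : ↥(Q : Subgroup K) => ψ (t : K))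
      (helper12.isCharacter_restrict (Q : Subgroup K) hψ) (fun t ht => Subtype.ext (hfaith _ ht))
      (by show charDegree ψ < p; omega)
    exact congrArg Subtype.val (h5 ⟨a, ha⟩ ⟨b, hb⟩)
  -- intersections of distinct Sylow subgroups are central
  have hTIc : ∀ Q₁ Q₂ : Sylow p K, (Q₁ : Subgroup K) ≠ (Q₂ : Subgroup K) →
      (Q₁ : Subgroup K) ⊓ (Q₂ : Subgroup K) ≤ Subgroup.center K := by
    intro Q₁ Q₂ hne
    by_contra hD
    obtain ⟨M, hM⟩ : ∃ M : Subgroup K, M = Subgroup.centralizer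
      (((Q₁ : Subgroup K) ⊓ (Q₂ : Subgroup K) : Subgroup K) : Set K) := ⟨_, rfl⟩
    have hMne : M ≠ ⊤ := by
      intro h
      apply hD
      rw [hM, Subgroup.centralizer_eq_top_iff_subset] at h
      exact SetLike.coe_subset_coe.mp h
    have hQ₁M : (Q₁ : Subgroup K) ≤ M := by
      intro x hx
      rw [hM, Subgroup.mem_centralizer_iff]
      intro y hy
      exact hSab Q₁ y (Subgroup.mem_inf.mp hy).1 x hx
    have hQ₂M : (Q₂ : Subgroup K) ≤ M := by
      intro x hx
      rw [hM, Subgroup.mem_centralizer_iff]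
      intro y hy
      exact hSab Q₂ y (Subgroup.mem_inf.mp hy).2 x hx
    obtain ⟨S, hSM, hS, hN, hind⟩ := hmin M hMne
    have h1 := ftNS_le hSM hS hN hind Q₁ hQ₁M Q₁.isPGroup'
    have h2 := ftNS_le hSM hS hN hind Q₂ hQ₂M Q₂.isPGroup'
    have e1 : S = (Q₁ : Subgroup K) := Q₁.is_maximal' hS h1
    have e2 : S = (Q₂ : Subgroup K) := Q₂.is_maximal' hS h2
    exact hne (e1.symm.trans e2)
  -- Sylow subgroups meet the centre trivially
  have hZp : ∀ Q : Sylow p K, (Q : Subgroup K) ⊓ Subgroup.center K = ⊥ := by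
    intro Q
    by_contra hne
    obtain ⟨⟨z, hz⟩, hz1⟩ := (Subgroup.ne_bot_iff_exists_ne_one).mp hne
    have hz1' : z ≠ 1 := fun h => hz1 (Subtype.ext h)
    obtain ⟨hzQ, hzZ⟩ := Subgroup.mem_inf.mp hz
    exact hnsolv (ft_psolv_of_central Q (hSab Q) z hzQ hzZ hz1' hmin)
  -- TI
  have hTI : ∀ Q₁ Q₂ : Sylow p K, (Q₁ : Subgroup K) ⊓ (Q₂ : Subgroup K) ≠ ⊥ →
      (Q₁ : Subgroup K) = (Q₂ : Subgroup K) := by
    intro Q₁ Q₂ hne
    by_contra hQ
    apply hne
    have h1 := hTIc Q₁ Q₂ hQ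
    rw [eq_bot_iff, ← hZp Q₁]
    exact le_inf inf_le_left h1
  have hPne : (P : Subgroup K) ≠ ⊥ := by
    intro h
    apply hnn P
    rw [h]
    exact Subgroup.normal_bot
  have hcardP : p ≤ Nat.card ↥(P : Subgroup K) := by
    obtain ⟨k, hk⟩ := IsPGroup.iff_card.mp P.isPGroup'
    have hk0 : k ≠ 0 := by
      intro h
      rw [h, pow_zero] at hk
      exact hPne (Subgroup.card_eq_one.mp hk)
    rw [hk]
    exact Nat.le_self_pow hk0 p
  refine ⟨hcardP, ?_⟩
  -- conjugates as Sylow subgroups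
  have hconjS : ∀ a : K, ∃ Qa : Sylow p K,
      (Qa : Subgroup K) = (P : Subgroup K).map (MulAut.conj a).toMonoidHom := by
    intro a
    refine ⟨Sylow.ofCard ((P : Subgroup K).map (MulAut.conj a).toMonoidHom) ?_, rfl⟩
    rw [Subgroup.card_map_of_injective (f := (MulAut.conj a).toMonoidHom) (MulAut.conj a).injective]
    exact P.card_eq_multiplicity
  have hone : ∀ g : K, g ∉ Subgroup.center K → ∀ a b : K,
      Subgroup.centralizer ({g} : Set K) ⊓ (P : Subgroup K).map (MulAut.conj a).toMonoidHom ≠ ⊥ →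
      Subgroup.centralizer ({g} : Set K) ⊓ (P : Subgroup K).map (MulAut.conj b).toMonoidHom ≠ ⊥ →
      (P : Subgroup K).map (MulAut.conj a).toMonoidHom
        = (P : Subgroup K).map (MulAut.conj b).toMonoidHom := by
    intro g hg a b ha hb
    obtain ⟨Qa, hQa⟩ := hconjS a
    obtain ⟨Qb, hQb⟩ := hconjS b
    rw [← hQa] at ha ⊢
    rw [← hQb] at hb ⊢
    have hMne : Subgroup.centralizer ({g} : Set K) ≠ ⊤ := by
      intro h
      apply hg
      rw [Subgroup.centralizer_eq_top_iff_subset] at h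
      exact h (Set.mem_singleton g)
    obtain ⟨S, hSM, hS, hN, hind⟩ := hmin _ hMne
    obtain ⟨Qc, hQc⟩ := hS.exists_le_sylow
    have key : ∀ Q : Sylow p K, Subgroup.centralizer ({g} : Set K) ⊓ (Q : Subgroup K) ≠ ⊥ →
        (Q : Subgroup K) = (Qc : Subgroup K) := by
      intro Q hQ
      apply hTI
      intro h
      apply hQ
      rw [eq_bot_iff, ← h]
      apply le_inf inf_le_right
      have h5 := ftNS_le hSM hS hN hind (Subgroup.centralizer ({g} : Set K) ⊓ (Q : Subgroup K))
        inf_le_left (Q.isPGroup'.to_le inf_le_right)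
      exact h5.trans hQc
    rw [key Qa ha, key Qb hb]
  have hgen : ∀ M : Subgroup K, M.Normal → (P : Subgroup K) ≤ M → M = ⊤ := by
    intro M hMn hPM
    by_contra hMne
    obtain ⟨S, hSM, hS, hN, hind⟩ := hmin M hMne
    have hPS := ftNS_le hSM hS hN hind P hPM P.isPGroup'
    have hSP : S = (P : Subgroup K) := P.is_maximal' hS hPS
    apply hnn P
    constructor
    intro x hx k
    have hle : (P : Subgroup K).map (MulAut.conj k).toMonoidHom ≤ S := by
      apply ftNS_le hSM hS hN hind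
      · rintro _ ⟨y, hy, rfl⟩
        exact hMn.conj_mem y (hPM hy) k
      · exact P.isPGroup'.map _
    rw [hSP] at hle
    exact hle ⟨x, hx, rfl⟩
  -- a nonlinear constituent
  haveI : Fintype (IrrCharacter K) := Fintype.ofFinite _
  obtain ⟨m, h1, h2, h3⟩ := tis_decomp ψ hψ
  have hex : ∃ τ : IrrCharacter K, m τ ≠ 0 ∧ (τ : K → ℂ) 1 ≠ 1 := by
    by_contra hcon
    push Not at hcon
    have habK := ft_abelian_of_lin ψ hψ hfaith m h1 hcon
    apply hnn P
    constructor
    intro x hx k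
    have : k * x * k⁻¹ = x := by rw [habK k x]; group
    rw [this]; exact hx
  obtain ⟨τ, hmτ, hτ1⟩ := hex
  have hdτ : charDegree (τ : K → ℂ) ≤ n := by
    rw [← hn]
    apply tis_deg_ge ψ hψ τ
    rw [h2 τ]
    exact_mod_cast hmτ
  haveI : Fintype ↥(P : Subgroup K) := Fintype.ofFinite _
  have hft := ft_part2 (P : Subgroup K) (hSab P) (hZp P) hone (τ : K → ℂ) τ.2 hτ1 hgen
  calc Nat.card ↥(P : Subgroup K) < (1 + charDegree (τ : K → ℂ)) ^ 2 := hft
    _ ≤ (n + 1) ^ 2 := by
      apply Nat.pow_le_pow_left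
      omega

end FTN2

section FTN2b
variable {G : Type u} [Group G] [Finite G]

theorem ft_all_ns (p : ℕ) [hp : Fact p.Prime] (χ : G → ℂ) (hχ : IsCharacter G χ)
    (hfaith : ∀ g : G, χ g = χ 1 → g = 1) (n : ℕ) (hn : charDegree χ = n)
    (h : (n + 1) ^ 2 ≤ p ∨ (n + 1 < p ∧ ∀ K : Subgroup G, ¬ p ^ 2 ∣ Nat.card K →
      ∀ Q : Sylow p K, (Q : Subgroup K).Normal)) :
    ∀ K : Subgroup G, ftNS p K := by
  have hpp := hp.out
  have hnp : n + 1 < p := by
    rcases h with h | h
    · have h2 := hpp.two_le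
      rcases Nat.eq_zero_or_pos n with h0 | h0
      · omega
      · have : n + 1 < (n + 1) ^ 2 := by nlinarith
        omega
    · exact h.1
  intro K
  refine WellFounded.induction (wellFounded_lt (α := Subgroup G))
    (C := fun K => ftNS p K) K ?_
  intro K IH
  by_contra hK
  have hns : ¬ ftNS p (⊤ : Subgroup ↥K) := fun h => hK (ftNS_of_top K h)
  have hmin : ∀ M : Subgroup ↥K, M ≠ ⊤ → ftNS p M := by
    intro M hM
    apply ftNS_of_map K M
    apply IH
    refine lt_of_le_of_ne (Subgroup.map_subtype_le M) ?_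
    intro h
    apply hM
    rw [eq_top_iff]
    intro x _
    have hx : (x : G) ∈ M.map K.subtype := by rw [h]; exact x.2
    obtain ⟨y, hy, hyx⟩ := hx
    have : y = x := Subtype.ext hyx
    rw [← this]; exact hy
  obtain ⟨P⟩ : Nonempty (Sylow p ↥K) := inferInstance
  have hmc := ft_mc p (fun t : ↥K => χ (t : G)) (helper12.isCharacter_restrict K hχ)
    (fun t ht => Subtype.ext (hfaith _ ht)) n hn hnp hmin hns P
  obtain ⟨hc1, hc2⟩ := hmc
  rcases h with h | ⟨_, hb⟩
  · omega
  · obtain ⟨k, hk⟩ := IsPGroup.iff_card.mp P.isPGroup'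
    have hk1 : k = 1 := by
      have h5 : p ^ k < p ^ 2 := by
        rw [← hk]
        calc Nat.card ↥(P : Subgroup ↥K) < (n + 1) ^ 2 := hc2
          _ < p ^ 2 := Nat.pow_lt_pow_left hnp (by norm_num)
      have h6 : k < 2 := (Nat.pow_lt_pow_iff_right hpp.one_lt).mp h5
      have h7 : k ≠ 0 := by
        intro h0
        rw [h0, pow_zero] at hk
        have := hpp.two_le
        omega
      omega
    have hp2 : ¬ p ^ 2 ∣ Nat.card ↥K := by
      intro hdvd
      have h5 : Nat.card ↥(P : Subgroup ↥K) * (P : Subgroup ↥K).index = Nat.card ↥K :=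
        Subgroup.card_mul_index _
      rw [hk, hk1, pow_one] at h5
      rw [← h5, pow_two] at hdvd
      have h6 : p ∣ (P : Subgroup ↥K).index := (Nat.mul_dvd_mul_iff_left hpp.pos).mp hdvd
      exact P.not_dvd_index h6
    exact hns (ftNS_top_of_normal P (hb K hp2 P))

theorem ft_sylow_normal (n : ℕ) (ρ : Representation ℂ G (Fin n → ℂ)) (hρ : Function.Injective ρ)
    (p : ℕ) [Fact p.Prime]
    (h : (n + 1) ^ 2 ≤ p ∨ (n + 1 < p ∧ ∀ K : Subgroup G, ¬ p ^ 2 ∣ Nat.card K →
      ∀ Q : Sylow p K, (Q : Subgroup K).Normal)) (P : Sylow p G) : (P : Subgroup G).Normal := by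
  have hχ : IsCharacter G ρ.character := ⟨n, ρ, rfl⟩
  have h1 : ρ.character 1 = n := (helper24.rep_char_eq_degree_iff ρ 1).mpr (map_one ρ)
  have hfaith : ∀ g : G, ρ.character g = ρ.character 1 → g = 1 := by
    intro g hg
    rw [h1] at hg
    have h2 := (helper24.rep_char_eq_degree_iff ρ g).mp hg
    apply hρ
    rw [h2, map_one]
  have hdeg : charDegree ρ.character = n := helper24.charDegree_natCast _ n h1
  exact ftNS_top_normal (ft_all_ns p _ hχ hfaith n hdeg h ⊤) P

end FTN2b

end Cfsg.Agent.helper22
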