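import Mathlib
import Cfsg.Agent.Lib_helper22_Clifford
import Cfsg.Agent.Lib_helper22_MGroup
import Cfsg.Agent.Lib_helper1_GalChar
import Cfsg.Agent.Lib_helper1_ProdChar
import Cfsg.Agent.Lib_helper24_Brauer
import Cfsg.Agent.Lib_helper24_CharCentral
import Cfsg.Agent.Lib_helper8_Clifford

set_option autoImplicit false
set_option linter.unusedSectionVars false
set_option linter.unusedVariables false
set_option linter.style.haveILetI false
set_option linter.style.longLine false

/-!
helper22: towards S4843 (`χ χ^{(k)}` irreducible, `χ` faithful ⟹ `F(G) = Z(G)`).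
Part A: general lemmas and "normal abelian subgroups are central".
-/

namespace Cfsg.Agent.helper22

open Cfsg
open scoped ComplexConjugate

universe u

section FitA
variable {G : Type u} [Group G] [Fintype G]

/-- a sum of two nonzero characters is not irreducible -/
theorem fc_not_irr_add {α β : G → ℂ} (hα : IsCharacter G α) (hβ : IsCharacter G β)
    (h1 : α 1 ≠ 0) (h2 : β 1 ≠ 0) : ¬ IsIrrCharacter G (α + β) := by
  intro hirr
  have hn := helper24.irr_classInner_self hirr
  obtain ⟨a, ha⟩ := helper12.classInner_char_nat hα hα
  obtain ⟨b, hb⟩ := helper12.classInner_char_nat hβ hβ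
  obtain ⟨c, hc⟩ := helper12.classInner_char_nat hα hβ
  obtain ⟨d, hd⟩ := helper12.classInner_char_nat hβ hα
  have ha1 := helper8.one_le_norm_of_char hα h1 a ha
  have hb1 := helper8.one_le_norm_of_char hβ h2 b hb
  rw [helper24.classInner_add_left, helper8.classInner_add_right, helper8.classInner_add_right,
    ha, hb, hc, hd] at hn
  have : a + c + (d + b) = 1 := by exact_mod_cast hn
  omega

/-- removing an irreducible constituent from a character leaves a character -/
theorem fc_sub_constituent {χ η : G → ℂ} (hχ : IsCharacter G χ) (hη : IsIrrCharacter G η)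
    (h : classInner χ η ≠ 0) : IsCharacter G (χ - η) := by
  classical
  have hcf : IsClassFunction G (χ - η) := by
    intro g x
    show χ (x * g * x⁻¹) - η (x * g * x⁻¹) = χ g - η g
    rw [helper24.char_isClassFunction hχ g x,
      helper24.char_isClassFunction (helper24.irr_isCharacter hη) g x]
  apply helper12.isCharacter_of_classInner_nat hcf
  intro ψ
  rw [helper24.classInner_sub_left]
  obtain ⟨n, hn⟩ := helper12.classInner_char_nat hχ (helper24.irr_isCharacter ψ.2)
  rw [hn, helper24.irr_classInner hη ψ.2]
  by_cases he : η = (ψ : G → ℂ)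
  · rw [if_pos he]
    have hn0 : n ≠ 0 := by
      intro h0
      apply h
      rw [he, hn, h0]
      simp
    refine ⟨n - 1, ?_⟩
    have : 1 ≤ n := Nat.one_le_iff_ne_zero.mpr hn0
    push_cast [this]
    ring
  · rw [if_neg he]
    exact ⟨n, by simp⟩

end FitA

end Cfsg.Agent.helper22
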