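import Mathlib
import Cfsg.Agent.Lib_helper22_FitA

set_option autoImplicit false
set_option linter.unusedSectionVars false
set_option linter.unusedVariables false
set_option linter.style.haveILetI false
set_option linter.style.longLine false

/-!
helper22: S4843 part A: if `χ` is faithful irreducible and `χ χ^{(k)}` is irreducible then
every normal abelian subgroup is central.
-/

namespace Cfsg.Agent.helper22

open Cfsg
open scoped ComplexConjugate

universe u

section FitB
variable {G : Type u} [Group G] [Fintype G]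

/-- a faithful irreducible character has a constituent with proper inertia group on a noncentral
normal abelian subgroup -/
theorem fc_exists_proper_inertia {χ : G → ℂ} (hχ : IsIrrCharacter G χ)
    (hfaith : ∀ g : G, χ g = χ 1 → g = 1)
    (A : Subgroup G) [hA : A.Normal] [Fintype A] (hcomm : ∀ x ∈ A, ∀ y ∈ A, x * y = y * x)
    (hnot : ¬ A ≤ Subgroup.center G) :
    ∃ lam : IrrCharacter A, classInner (helper5.res A χ) (lam : A → ℂ) ≠ 0 ∧
      inertia A lam ≠ ⊤ := by
  classical
  haveI : Fintype (IrrCharacter A) := Fintype.ofFinite _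
  rw [SetLike.le_def] at hnot
  push Not at hnot
  obtain ⟨a, haA, hac⟩ := hnot
  rw [Subgroup.mem_center_iff] at hac
  push Not at hac
  obtain ⟨g, hg⟩ := hac
  have hχc := helper24.irr_isCharacter hχ
  obtain ⟨n, hexp, hn, -⟩ := helper12.char_decomp (helper5.isCharacter_res A hχc)
  have hex : ∃ lam : IrrCharacter A, n lam ≠ 0 := by
    by_contra hcon
    push Not at hcon
    apply helper24.irr_apply_one_ne_zero hχ
    have h1 := congrFun hexp 1
    rw [helper5.res_apply] at h1
    rw [show ((1 : A) : G) = 1 from rfl] at h1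
    rw [h1, Finset.sum_apply]
    apply Finset.sum_eq_zero
    intro μ _
    rw [hcon μ]
    simp
  obtain ⟨lam, hlam⟩ := hex
  have hlam' : classInner (helper5.res A χ) (lam : A → ℂ) ≠ 0 := by
    rw [hn]
    exact_mod_cast hlam
  refine ⟨lam, hlam', ?_⟩
  intro htop
  have hall : ∀ μ : IrrCharacter A, n μ ≠ 0 → μ = lam := by
    intro μ hμ
    have hμ' : classInner (helper5.res A χ) (μ : A → ℂ) ≠ 0 := by
      rw [hn]
      exact_mod_cast hμ
    obtain ⟨x, hx⟩ := helper5.clifford_conj A hχ lam.2 μ.2 hlam' hμ'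
    have hxT : x ∈ inertia A lam := by rw [htop]; trivial
    apply Subtype.ext
    rw [hx]
    exact (mem_inertia A).mp hxT
  have hres : ∀ y : A, χ y = (n lam : ℂ) * (lam : A → ℂ) y := by
    intro y
    have h1 := congrFun hexp y
    rw [helper5.res_apply, Finset.sum_apply, Finset.sum_eq_single lam] at h1
    · rw [h1]
      simp
    · intro μ _ hne
      have h0 : n μ = 0 := by
        by_contra h
        exact hne (hall μ h)
      rw [h0]
      simp
    · intro h
      exact absurd (Finset.mem_univ _) h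
  have hgA : g * a * g⁻¹ ∈ A := hA.conj_mem a haA g
  have hbA : g * a * g⁻¹ * a⁻¹ ∈ A := A.mul_mem hgA (A.inv_mem haA)
  have hb := hres ⟨g * a * g⁻¹ * a⁻¹, hbA⟩
  have h1 := hres 1
  have hcen : ∀ z : A, z ∈ Subgroup.center A := by
    intro z
    rw [Subgroup.mem_center_iff]
    intro y
    apply Subtype.ext
    exact hcomm _ y.2 _ z.2
  have hinv : (lam : A → ℂ) ⟨g * a * g⁻¹, hgA⟩ = (lam : A → ℂ) ⟨a, haA⟩ := by
    have hgT : g ∈ inertia A lam := by rw [htop]; trivial
    have h2 := congrFun ((mem_inertia A).mp hgT) ⟨a, haA⟩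
    rw [helper8.conjFunN_apply] at h2
    exact h2
  have e1 := helper24.irr_central_apply lam.2 (⟨a⁻¹, A.inv_mem haA⟩ : A) (hcen _)
    ⟨g * a * g⁻¹, hgA⟩
  have e2 := helper24.irr_central_apply lam.2 (⟨a⁻¹, A.inv_mem haA⟩ : A) (hcen _) ⟨a, haA⟩
  have hb1 : (⟨g * a * g⁻¹, hgA⟩ : A) * ⟨a⁻¹, A.inv_mem haA⟩ = ⟨g * a * g⁻¹ * a⁻¹, hbA⟩ := rfl
  have ha1 : (⟨a, haA⟩ : A) * ⟨a⁻¹, A.inv_mem haA⟩ = 1 := by
    apply Subtype.ext
    simp
  rw [hb1, hinv] at e1
  rw [ha1] at e2
  have hχb : χ (g * a * g⁻¹ * a⁻¹) = χ 1 := by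
    have hb' : χ (g * a * g⁻¹ * a⁻¹) =
        (n lam : ℂ) * (lam : A → ℂ) ⟨g * a * g⁻¹ * a⁻¹, hbA⟩ := hb
    have h1' : χ 1 = (n lam : ℂ) * (lam : A → ℂ) 1 := h1
    rw [hb', h1', e1, ← e2]
  have hb0 := hfaith _ hχb
  apply hg
  calc g * a = (g * a * g⁻¹ * a⁻¹) * a * g := by group
    _ = a * g := by rw [hb0, one_mul]

/-- **Claim A.** normal abelian subgroups are central -/
theorem fc_abelian_central {χ : G → ℂ} (hχ : IsIrrCharacter G χ)
    (hfaith : ∀ g : G, χ g = χ 1 → g = 1) (k : ℕ) (hk : Nat.Coprime k (Nat.card G))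
    (hirr : IsIrrCharacter G (fun g => χ g * χ (g ^ k)))
    (A : Subgroup G) [hA : A.Normal] (hcomm : ∀ x ∈ A, ∀ y ∈ A, x * y = y * x) :
    A ≤ Subgroup.center G := by
  classical
  haveI : Fintype A := Fintype.ofFinite _
  by_contra hnot
  obtain ⟨lam, hlam', hTne⟩ := fc_exists_proper_inertia hχ hfaith A hcomm hnot
  obtain ⟨T, hT⟩ : ∃ T : Subgroup G, T = inertia A lam := ⟨_, rfl⟩
  haveI : Fintype T := Fintype.ofFinite _
  have hχc := helper24.irr_isCharacter hχ
  obtain ⟨η, hηirr, hηc, -, hdeg⟩ := clifford_degree A hχ lam hlam' T hT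
  have hηch := helper24.irr_isCharacter hηirr
  have hind : indFun T η = χ := indFun_eq_of_degree T hχ hηch hηc hdeg
  have hΔ : IsCharacter T (helper5.res T χ - η) :=
    fc_sub_constituent (helper5.isCharacter_res T hχc) hηirr hηc
  have hidx : 2 ≤ T.index := by
    have h1 : T.index ≠ 1 := by
      rw [Ne, Subgroup.index_eq_one, hT]
      exact hTne
    have h0 : T.index ≠ 0 := Subgroup.index_ne_zero_of_finite
    omega
  have hη1 : η 1 ≠ 0 := helper24.irr_apply_one_ne_zero hηirr
  have hχ1 : χ 1 = (T.index : ℂ) * η 1 := by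
    rw [← helper24.char_charDegree_cast hχc, hdeg, ← helper24.char_charDegree_cast hηch]
    push_cast
    ring
  have hΔ1 : (helper5.res T χ - η) 1 ≠ 0 := by
    show χ ((1 : T) : G) - η 1 ≠ 0
    rw [show ((1 : T) : G) = 1 from rfl, hχ1]
    have h2 : (T.index : ℂ) * η 1 - η 1 = ((T.index : ℂ) - 1) * η 1 := by ring
    rw [h2]
    apply mul_ne_zero _ hη1
    have h3 : (T.index : ℂ) ≠ 1 := by
      have : T.index ≠ 1 := by omega
      exact_mod_cast this
    exact sub_ne_zero.mpr h3
  have hkT : Nat.Coprime k (Nat.card T) :=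
    Nat.Coprime.coprime_dvd_right (Subgroup.card_subgroup_dvd_card T) hk
  have hη' : IsCharacter T (fun t : T => η (t ^ k)) := helper1.isCharacter_powMap k hkT hηch
  have hΔ' : IsCharacter T (fun t : T => (helper5.res T χ - η) (t ^ k)) :=
    helper1.isCharacter_powMap k hkT hΔ
  have hχ' : IsCharacter G (fun g => χ (g ^ k)) := helper1.isCharacter_powMap k hk hχc
  have hprod := helper24.indFun_res_mul' T (helper24.char_isClassFunction hχ') η
  have hsplit : (fun t : T => (fun g => χ (g ^ k)) (t : G) * η t) =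
      η * (fun t : T => η (t ^ k)) + η * (fun t : T => (helper5.res T χ - η) (t ^ k)) := by
    funext t
    show χ ((t : G) ^ k) * η t = η t * η (t ^ k) + η t * (χ ((t ^ k : T) : G) - η (t ^ k))
    rw [Subgroup.coe_pow]
    ring
  rw [hsplit, helper8.indFun_add, hind] at hprod
  have hα := helper12.isCharacter_indFun T (helper1.isCharacter_mul hηch hη')
  have hβ := helper12.isCharacter_indFun T (helper1.isCharacter_mul hηch hΔ')
  have hT0 : (Nat.card T : ℂ) ≠ 0 := by exact_mod_cast Nat.card_pos.ne'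
  have hG0 : (Nat.card G : ℂ) ≠ 0 := by exact_mod_cast Nat.card_pos.ne'
  have hα1 : indFun T (η * (fun t : T => η (t ^ k))) 1 ≠ 0 := by
    rw [helper8.indFun_one_eq]
    apply mul_ne_zero (inv_ne_zero hT0)
    apply mul_ne_zero hG0
    show η 1 * η ((1 : T) ^ k) ≠ 0
    rw [one_pow]
    exact mul_ne_zero hη1 hη1
  have hβ1 : indFun T (η * (fun t : T => (helper5.res T χ - η) (t ^ k))) 1 ≠ 0 := by
    rw [helper8.indFun_one_eq]
    apply mul_ne_zero (inv_ne_zero hT0)
    apply mul_ne_zero hG0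
    show η 1 * (helper5.res T χ - η) ((1 : T) ^ k) ≠ 0
    rw [one_pow]
    exact mul_ne_zero hη1 hΔ1
  apply fc_not_irr_add hα hβ hα1 hβ1
  rw [hprod]
  have : ((fun g => χ (g ^ k)) * χ) = fun g => χ g * χ (g ^ k) := by
    funext g
    show χ (g ^ k) * χ g = χ g * χ (g ^ k)
    ring
  rw [this]
  exact hirr

end FitB

end Cfsg.Agent.helper22
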