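import Mathlib

set_option autoImplicit false
set_option linter.unusedSectionVars false
set_option linter.unusedVariables false
set_option linter.style.haveILetI false
set_option linter.style.longLine false

/-!
helper22: S4843 part C: pure group theory.
* `fcStar n` : elements commuting with `n` modulo the centre, `fcComm n` the commutator hom;
* `fc_exists_class_two` : a noncentral normal nilpotent subgroup yields a noncentral normal
  subgroup with central commutator subgroup;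
* `fc_star_of_comm` : the inertia computation.
-/

namespace Cfsg.Agent.helper22

universe u

section FitC
variable {G : Type u} [Group G]

theorem fc_center_conj {z : G} (hz : z ∈ Subgroup.center G) (g : G) : g * z * g⁻¹ = z := by
  rw [Subgroup.mem_center_iff.mp hz g]
  group

theorem fc_comm_mul (n g h : G) (hh : n * h * n⁻¹ * h⁻¹ ∈ Subgroup.center G) :
    n * (g * h) * n⁻¹ * (g * h)⁻¹ = (n * g * n⁻¹ * g⁻¹) * (n * h * n⁻¹ * h⁻¹) := by
  have e : n * (g * h) * n⁻¹ * (g * h)⁻¹ =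
      (n * g * n⁻¹ * g⁻¹) * (g * (n * h * n⁻¹ * h⁻¹) * g⁻¹) := by group
  rw [e, fc_center_conj hh g]

/-- the subgroup of elements commuting with `n` modulo the centre -/
def fcStar (n : G) : Subgroup G where
  carrier := {g | n * g * n⁻¹ * g⁻¹ ∈ Subgroup.center G}
  one_mem' := by
    show n * 1 * n⁻¹ * 1⁻¹ ∈ Subgroup.center G
    have : n * 1 * n⁻¹ * 1⁻¹ = 1 := by group
    rw [this]
    exact Subgroup.one_mem _
  mul_mem' := by
    intro g h hg hh
    show n * (g * h) * n⁻¹ * (g * h)⁻¹ ∈ Subgroup.center G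
    rw [fc_comm_mul n g h hh]
    exact Subgroup.mul_mem _ hg hh
  inv_mem' := by
    intro g hg
    show n * g⁻¹ * n⁻¹ * g⁻¹⁻¹ ∈ Subgroup.center G
    have hz : (n * g * n⁻¹ * g⁻¹)⁻¹ ∈ Subgroup.center G := Subgroup.inv_mem _ hg
    have e : n * g⁻¹ * n⁻¹ * g⁻¹⁻¹ = g⁻¹ * (n * g * n⁻¹ * g⁻¹)⁻¹ * g⁻¹⁻¹ := by group
    rw [e, fc_center_conj hz g⁻¹]
    exact hz

theorem fc_mem_star {n g : G} : g ∈ fcStar n ↔ n * g * n⁻¹ * g⁻¹ ∈ Subgroup.center G := Iff.rfl

/-- the commutator homomorphism `g ↦ [n, g]` on `fcStar n` -/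
def fcComm (n : G) : fcStar n →* Subgroup.center G where
  toFun g := ⟨n * g * n⁻¹ * (g : G)⁻¹, g.2⟩
  map_one' := by
    apply Subtype.ext
    show n * ((1 : fcStar n) : G) * n⁻¹ * ((1 : fcStar n) : G)⁻¹ = 1
    rw [Subgroup.coe_one]
    group
  map_mul' g h := by
    apply Subtype.ext
    show n * ((g * h : fcStar n) : G) * n⁻¹ * ((g * h : fcStar n) : G)⁻¹ =
      (n * g * n⁻¹ * (g : G)⁻¹) * (n * h * n⁻¹ * (h : G)⁻¹)
    rw [Subgroup.coe_mul]
    exact fc_comm_mul n g h h.2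

theorem fcComm_coe (n : G) (g : fcStar n) :
    ((fcComm n g : Subgroup.center G) : G) = n * g * n⁻¹ * (g : G)⁻¹ := rfl

theorem fc_le_star (M : Subgroup G) (hMM : ⁅M, M⁆ ≤ Subgroup.center G) {n : G} (hn : n ∈ M) :
    M ≤ fcStar n := by
  intro m hm
  rw [fc_mem_star]
  apply hMM
  have := Subgroup.commutator_mem_commutator hn hm
  rw [commutatorElement_def] at this
  exact this

/-- the inertia computation: if `[n, g m g⁻¹] = [n, m]` for all `m ∈ M` then `[n, g]` is central -/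
theorem fc_star_of_comm (M : Subgroup G) [hM : M.Normal] (hMM : ⁅M, M⁆ ≤ Subgroup.center G)
    (hZM : ∀ z ∈ M, (∀ m ∈ M, z * m = m * z) → z ∈ Subgroup.center G) {n : G} (hn : n ∈ M) (g : G)
    (h : ∀ m ∈ M, n * (g * m * g⁻¹) * n⁻¹ * (g * m * g⁻¹)⁻¹ = n * m * n⁻¹ * m⁻¹) :
    g ∈ fcStar n := by
  rw [fc_mem_star]
  obtain ⟨w, hw⟩ : ∃ w : G, w = n⁻¹ * g⁻¹ * n * g := ⟨_, rfl⟩
  have hwM : w ∈ M := by
    rw [hw]
    have h1 : g⁻¹ * n * g ∈ M := by
      have := hM.conj_mem n hn g⁻¹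
      rwa [inv_inv] at this
    have h2 : n⁻¹ * (g⁻¹ * n * g) ∈ M := M.mul_mem (M.inv_mem hn) h1
    have e : n⁻¹ * g⁻¹ * n * g = n⁻¹ * (g⁻¹ * n * g) := by group
    rw [e]
    exact h2
  have hwc : ∀ m ∈ M, w * m = m * w := by
    intro m hm
    have hz1 : n * (g * m * g⁻¹) * n⁻¹ * (g * m * g⁻¹)⁻¹ ∈ Subgroup.center G := by
      have hgm : g * m * g⁻¹ ∈ M := hM.conj_mem m hm g
      exact fc_le_star M hMM hn hgm
    have key : g⁻¹ * n * g * m * (g⁻¹ * n⁻¹ * g) * m⁻¹ = n * m * n⁻¹ * m⁻¹ := by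
      have h1 := fc_center_conj hz1 g⁻¹
      rw [inv_inv] at h1
      calc g⁻¹ * n * g * m * (g⁻¹ * n⁻¹ * g) * m⁻¹
          = g⁻¹ * (n * (g * m * g⁻¹) * n⁻¹ * (g * m * g⁻¹)⁻¹) * g := by group
        _ = n * (g * m * g⁻¹) * n⁻¹ * (g * m * g⁻¹)⁻¹ := h1
        _ = n * m * n⁻¹ * m⁻¹ := h m hm
    have h2 : w * m * w⁻¹ = m := by
      rw [hw]
      calc n⁻¹ * g⁻¹ * n * g * m * (n⁻¹ * g⁻¹ * n * g)⁻¹
          = n⁻¹ * (g⁻¹ * n * g * m * (g⁻¹ * n⁻¹ * g) * m⁻¹) * m * n := by group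
        _ = n⁻¹ * (n * m * n⁻¹ * m⁻¹) * m * n := by rw [key]
        _ = m := by group
    calc w * m = w * m * w⁻¹ * w := by group
      _ = m * w := by rw [h2]
  have hwZ := hZM w hwM hwc
  have e : n * g * n⁻¹ * g⁻¹ = (g * n) * w * (g * n)⁻¹ := by
    rw [hw]
    group
  rw [e, fc_center_conj hwZ]
  exact hwZ

/-- a noncentral normal nilpotent subgroup yields a noncentral normal subgroup with central
commutator subgroup -/
theorem fc_exists_class_two [Finite G] :
    ∀ (c : ℕ) (N : Subgroup G), N.Normal → Group.IsNilpotent N → Nat.card N ≤ c →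
      ¬ N ≤ Subgroup.center G →
      ∃ M : Subgroup G, M.Normal ∧ ⁅M, M⁆ ≤ Subgroup.center G ∧ ¬ M ≤ Subgroup.center G := by
  intro c
  induction c with
  | zero =>
    intro N _ _ hc _
    have : 0 < Nat.card N := Nat.card_pos
    omega
  | succ c ih =>
    intro N hN hnil hc hnc
    by_cases hcomm : ⁅N, N⁆ ≤ Subgroup.center G
    · exact ⟨N, hN, hcomm, hnc⟩
    · haveI := hN
      haveI := hnil
      have hne : N ≠ ⊥ := by
        intro h
        apply hnc
        rw [h]
        exact bot_le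
      have hlt : ⁅N, N⁆ < N := by
        haveI : Nontrivial N := (Subgroup.nontrivial_iff_ne_bot N).mpr hne
        have h1 := Group.IsSolvable.commutator_lt_top_of_nontrivial N
        rw [commutator_def] at h1
        have h2 : ⁅N, N⁆ = Subgroup.map N.subtype ⁅(⊤ : Subgroup N), (⊤ : Subgroup N)⁆ := by
          rw [Subgroup.map_commutator, ← MonoidHom.range_eq_map, Subgroup.range_subtype]
        have h3 : N = Subgroup.map N.subtype (⊤ : Subgroup N) := by
          rw [← MonoidHom.range_eq_map, Subgroup.range_subtype]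
        rw [h2]
        conv_rhs => rw [h3]
        exact (Subgroup.map_subtype_lt_map_subtype).mpr h1
      have hle : ⁅N, N⁆ ≤ N := hlt.le
      have hnil' : Group.IsNilpotent ↥(⁅N, N⁆) := by
        have h1 : Group.IsNilpotent ↥((⁅N, N⁆).subgroupOf N) := Subgroup.isNilpotent _
        exact Group.nilpotent_of_mulEquiv (Subgroup.subgroupOfEquivOfLe hle)
      have hcard : Nat.card ↥(⁅N, N⁆) ≤ c := by
        have h1 : Nat.card ↥(⁅N, N⁆) < Nat.card N := by
          have hsub : ((⁅N, N⁆ : Subgroup G) : Set G) ⊂ (N : Set G) := hlt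
          have h2 := Set.ncard_lt_ncard hsub (Set.toFinite _)
          rw [← Nat.card_coe_set_eq, ← Nat.card_coe_set_eq] at h2
          exact h2
        omega
      exact ih ⁅N, N⁆ inferInstance hnil' hcard hcomm

end FitC

end Cfsg.Agent.helper22
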