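import Mathlib
import Cfsg.Agent.Lib_helper22_GalDegA
import Cfsg.Agent.Lib_helper22_DegP1
import Cfsg.Agent.Lib_helper22_LinChar
import Cfsg.Agent.Lib_helper24_CharQuot
import Cfsg.Agent.Lib_helper24_CharCentral

set_option autoImplicit false
set_option linter.unusedSectionVars false
set_option linter.unusedVariables false
set_option linter.style.haveILetI false

/-!
Character-theoretic lemmas for `p`-groups with cyclic centre and derived subgroup of order `p`
(helper22, for S4845).
-/

namespace Cfsg.Agent.helper22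

open Cfsg
open scoped ComplexConjugate

universe u

section CH
variable {G : Type u} [Group G] [Finite G]

/-- the central character of an irreducible character as a homomorphism into `ℂ` -/
noncomputable def gdCentHom {χ : G → ℂ} (hχ : IsIrrCharacter G χ) : Subgroup.center G →* ℂ where
  toFun z := χ (z : G) / χ 1
  map_one' := by
    have h0 := helper24.irr_apply_one_ne_zero hχ
    simp [div_self h0]
  map_mul' z w := by
    have h0 := helper24.irr_apply_one_ne_zero hχ
    have h1 := helper24.irr_central_apply hχ (w : G) w.2 (z : G)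
    rw [Subgroup.coe_mul, h1]
    field_simp

theorem gdCentHom_apply {χ : G → ℂ} (hχ : IsIrrCharacter G χ) (z : Subgroup.center G) :
    gdCentHom hχ z = χ (z : G) / χ 1 := rfl

/-- an irreducible character which is faithful on the centre vanishes off the centre when
`G' ≤ Z(G)` -/
theorem gd_vanish_off_center {χ : G → ℂ} (hχ : IsIrrCharacter G χ)
    (hcomm : commutator G ≤ Subgroup.center G)
    (hf : ∀ z ∈ Subgroup.center G, χ z = χ 1 → z = 1) {g : G}
    (hg : g ∉ Subgroup.center G) : χ g = 0 := by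
  rw [Subgroup.mem_center_iff] at hg
  push Not at hg
  obtain ⟨h, hh⟩ := hg
  have hcm : g⁻¹ * h⁻¹ * g * h ∈ commutator G := by
    rw [commutator_def]
    have := Subgroup.commutator_mem_commutator (Subgroup.mem_top g⁻¹) (Subgroup.mem_top h⁻¹)
    rw [commutatorElement_def] at this
    simpa using this
  have hc := hcomm hcm
  have h1 := helper24.irr_central_apply hχ _ hc g
  have h2 : g * (g⁻¹ * h⁻¹ * g * h) = h⁻¹ * g * h⁻¹⁻¹ := by group
  rw [h2, helper24.char_isClassFunction (helper24.irr_isCharacter hχ) g h⁻¹] at h1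
  have h0 := helper24.irr_apply_one_ne_zero hχ
  by_contra hne
  have h3 : χ (g⁻¹ * h⁻¹ * g * h) / χ 1 = 1 := by
    have h4 : (χ (g⁻¹ * h⁻¹ * g * h) / χ 1 - 1) * χ g = 0 := by
      rw [sub_mul, one_mul, ← h1, sub_self]
    rcases mul_eq_zero.mp h4 with h5 | h5
    · exact sub_eq_zero.mp h5
    · exact absurd h5 hne
  have h4 : χ (g⁻¹ * h⁻¹ * g * h) = χ 1 := by
    field_simp at h3
    exact h3
  have h5 := hf _ hc h4
  apply hh
  have h6 : h * g = g * h * (g⁻¹ * h⁻¹ * g * h)⁻¹ := by group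
  rw [h6, h5, inv_one, mul_one]

/-- `χ(1)² |Z(G)| ≤ |G|`, with equality when `χ` vanishes off the centre -/
theorem gd_sq_mul_card_center_le {χ : G → ℂ} (hχ : IsIrrCharacter G χ) :
    charDegree χ ^ 2 * Nat.card (Subgroup.center G) ≤ Nat.card G ∧
      ((∀ g : G, g ∉ Subgroup.center G → χ g = 0) →
        charDegree χ ^ 2 * Nat.card (Subgroup.center G) = Nat.card G) := by
  classical
  haveI : Fintype G := Fintype.ofFinite G
  have hZ : ∀ z ∈ Subgroup.center G, χ z * conj (χ z) = ((charDegree χ : ℕ) : ℂ) ^ 2 := by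
    intro z hz
    rw [charCen_norm hχ (center_le_charCen (helper24.irr_isCharacter hχ) hz),
      helper24.char_charDegree_cast (helper24.irr_isCharacter hχ), sq]
  obtain ⟨h1, h2⟩ := card_mul_sq_le hχ (Subgroup.center G) (charDegree χ) hZ
  constructor
  · rw [mul_comm]; exact h1
  · intro hv
    rw [mul_comm]; exact h2 hv

/-- linear characters separate elements outside the derived subgroup -/
theorem gd_exists_hom_ne_one {z : G} (hz : z ∉ commutator G) : ∃ ν : G →* ℂˣ, ν z ≠ 1 := by
  by_contra hcon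
  push Not at hcon
  apply hz
  have h1 : (Abelianization.of z : Abelianization G) = 1 := by
    apply eq_one_of_forall_hom (A := Abelianization G) (fun a b => mul_comm a b)
    intro ν
    have := hcon (ν.comp Abelianization.of)
    rwa [MonoidHom.comp_apply] at this
  have h2 : z ∈ (Abelianization.of : G →* Abelianization G).ker := h1
  rwa [Abelianization.ker_of] at h2

theorem gd_exists_commutator_ne {χ : G → ℂ} (hχ : IsIrrCharacter G χ) (h1 : charDegree χ ≠ 1) :
    ∃ c ∈ commutator G, χ c ≠ χ 1 := by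
  by_contra hcon
  push Not at hcon
  apply h1
  have h2 := helper24.degree_one_of_commutator_le_ker ⟨χ, hχ⟩ hcon
  have h3 := helper24.char_charDegree_cast (helper24.irr_isCharacter hχ)
  have h4 : ((charDegree χ : ℕ) : ℂ) = ((1 : ℕ) : ℂ) := by rw [h3, Nat.cast_one]; exact h2
  exact_mod_cast h4

/-- in a `p`-group with cyclic centre and `|G'| = p`, nonlinear irreducible characters are
faithful on the centre -/
theorem gd_faithful_of_cyclic {p : ℕ} [hp : Fact p.Prime] (hG : IsPGroup p G)
    (hcyc : IsCyclic (Subgroup.center G)) (hc : Nat.card (commutator G) = p)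
    {χ : G → ℂ} (hχ : IsIrrCharacter G χ) (h1 : charDegree χ ≠ 1) :
    ∀ z ∈ Subgroup.center G, χ z = χ 1 → z = 1 := by
  have hcomm := gd_commutator_le_center hG hc
  obtain ⟨c, hcm, hcne⟩ := gd_exists_commutator_ne hχ h1
  have h0 := helper24.irr_apply_one_ne_zero hχ
  have hcp : c ^ p = 1 := by
    have := gd_pow_card_eq_one _ hcm
    rwa [hc] at this
  have hinj : Function.Injective (gdCentHom hχ) := by
    apply gd_injective_of_cyclic (hG.to_subgroup _) (gdCentHom hχ) ⟨c, hcomm hcm⟩
    · apply Subtype.ext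
      rw [Subgroup.coe_pow, Subgroup.coe_one]
      exact hcp
    · rw [gdCentHom_apply]
      intro h2
      apply hcne
      field_simp at h2
      exact h2
  intro z hz hz1
  have h2 : gdCentHom hχ ⟨z, hz⟩ = gdCentHom hχ 1 := by
    rw [map_one, gdCentHom_apply]
    show χ z / χ 1 = 1
    rw [hz1, div_self h0]
  have h3 := hinj h2
  exact congrArg Subtype.val h3

/-- in a `p`-group with cyclic centre and `|G'| = p`, `χ(1)² = |G : Z(G)|` for nonlinear `χ` -/
theorem gd_deg_sq {p : ℕ} [hp : Fact p.Prime] (hG : IsPGroup p G)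
    (hcyc : IsCyclic (Subgroup.center G)) (hc : Nat.card (commutator G) = p)
    {χ : G → ℂ} (hχ : IsIrrCharacter G χ) (h1 : charDegree χ ≠ 1) :
    charDegree χ ^ 2 * Nat.card (Subgroup.center G) = Nat.card G := by
  have hcomm := gd_commutator_le_center hG hc
  have hf := gd_faithful_of_cyclic hG hcyc hc hχ h1
  exact (gd_sq_mul_card_center_le hχ).2 (fun g hg => gd_vanish_off_center hχ hcomm hf hg)

/-- the backward direction of S4845 -/
theorem gd_bwd {p : ℕ} [hp : Fact p.Prime] (hG : IsPGroup p G)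
    (hcyc : IsCyclic (Subgroup.center G)) (hc : Nat.card (commutator G) = p)
    (χ ψ : IrrCharacter G) (h1 : charDegree (χ : G → ℂ) ≠ 1)
    (hdeg : charDegree (χ : G → ℂ) = charDegree (ψ : G → ℂ)) :
    ∃ k : ℕ, Nat.Coprime k (Nat.card G) ∧ ∀ g : G, (ψ : G → ℂ) g = (χ : G → ℂ) (g ^ k) := by
  have hcomm := gd_commutator_le_center hG hc
  have h1' : charDegree (ψ : G → ℂ) ≠ 1 := hdeg ▸ h1
  have hfχ := gd_faithful_of_cyclic hG hcyc hc χ.2 h1
  have hfψ := gd_faithful_of_cyclic hG hcyc hc ψ.2 h1'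
  have h0χ := helper24.irr_apply_one_ne_zero χ.2
  have h0ψ := helper24.irr_apply_one_ne_zero ψ.2
  have hone : (ψ : G → ℂ) 1 = (χ : G → ℂ) 1 := by
    rw [← helper24.char_charDegree_cast (helper24.irr_isCharacter χ.2),
      ← helper24.char_charDegree_cast (helper24.irr_isCharacter ψ.2), hdeg]
  have hinj : ∀ (φ : IrrCharacter G),
      (∀ z ∈ Subgroup.center G, (φ : G → ℂ) z = (φ : G → ℂ) 1 → z = 1) →
      Function.Injective (gdCentHom φ.2) := by
    intro φ hφ
    rw [injective_iff_map_eq_one]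
    intro z hz
    rw [gdCentHom_apply] at hz
    have h0 := helper24.irr_apply_one_ne_zero φ.2
    have h2 : (φ : G → ℂ) (z : G) = (φ : G → ℂ) 1 := by
      field_simp at hz
      exact hz
    apply Subtype.ext
    exact hφ _ z.2 h2
  have hinjχ := hinj χ hfχ
  have hinjψ := hinj ψ hfψ
  obtain ⟨z₀, hz₀⟩ := hcyc.exists_generator
  obtain ⟨n, hn⟩ : ∃ n : ℕ, n = orderOf z₀ := ⟨_, rfl⟩
  have hncard : n = Nat.card (Subgroup.center G) := by
    rw [hn, orderOf_eq_card_of_forall_mem_zpowers hz₀]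
  have hnpos : 0 < n := by rw [hn]; exact orderOf_pos z₀
  haveI : NeZero n := ⟨hnpos.ne'⟩
  obtain ⟨ξ, hξ⟩ : ∃ ξ : ℂ, ξ = gdCentHom χ.2 z₀ := ⟨_, rfl⟩
  obtain ⟨η, hη⟩ : ∃ η : ℂ, η = gdCentHom ψ.2 z₀ := ⟨_, rfl⟩
  have hprimξ : IsPrimitiveRoot ξ n := by
    rw [IsPrimitiveRoot.iff_orderOf, hξ, orderOf_injective _ hinjχ, hn]
  have hprimη : IsPrimitiveRoot η n := by
    rw [IsPrimitiveRoot.iff_orderOf, hη, orderOf_injective _ hinjψ, hn]
  obtain ⟨i, hi, hiη⟩ := hprimξ.eq_pow_of_pow_eq_one hprimη.pow_eq_one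
  have hicop : i.Coprime n := by
    rw [← hprimξ.pow_iff_coprime hnpos i, hiη]
    exact hprimη
  have hpn : p ∣ n := by
    rw [hncard, ← hc]
    exact Subgroup.card_dvd_of_le hcomm
  have hip : i.Coprime p := Nat.Coprime.coprime_dvd_right hpn hicop
  obtain ⟨N, hN⟩ := IsPGroup.iff_card.mp hG
  have hiG : i.Coprime (Nat.card G) := by
    rw [hN]
    exact Nat.Coprime.pow_right N hip
  refine ⟨i, hiG, ?_⟩
  intro g
  by_cases hg : g ∈ Subgroup.center G
  · obtain ⟨a, ha⟩ : ∃ a : ℕ, z₀ ^ a = ⟨g, hg⟩ := by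
      have h2 := hz₀ ⟨g, hg⟩
      rw [← mem_powers_iff_mem_zpowers] at h2
      exact h2
    have h2 : gdCentHom ψ.2 ⟨g, hg⟩ = gdCentHom χ.2 (⟨g, hg⟩ ^ i) := by
      rw [← ha, map_pow, map_pow, map_pow, ← hη, ← hξ, ← hiη, ← pow_mul, ← pow_mul, mul_comm]
    rw [gdCentHom_apply, gdCentHom_apply, Subgroup.coe_pow] at h2
    show (ψ : G → ℂ) g = (χ : G → ℂ) (g ^ i)
    have h3 : (ψ : G → ℂ) g / (ψ : G → ℂ) 1 = (χ : G → ℂ) (g ^ i) / (χ : G → ℂ) 1 := h2
    rw [hone] at h3
    field_simp at h3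
    exact h3
  · rw [gd_vanish_off_center ψ.2 hcomm hfψ hg]
    symm
    apply gd_vanish_off_center χ.2 hcomm hfχ
    intro hgi
    apply hg
    have h2 : (powCoprime hiG.symm).symm (g ^ i) = g := by
      have h3 : g ^ i = powCoprime hiG.symm g := rfl
      rw [h3, Equiv.symm_apply_apply]
    rw [powCoprime_symm_apply] at h2
    rw [← h2]
    exact Subgroup.zpow_mem _ hgi _

end CH


end Cfsg.Agent.helper22
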