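import Mathlib
import Cfsg.Agent.Lib_helper22_FitB
import Cfsg.Agent.Lib_helper22_FitC
import Cfsg.Agent.Lib_helper22_GalDegB
import Cfsg.Agent.Lib_helper22_LinChar
import Cfsg.Agent.Lib_helper1_ConjChar
import Cfsg.Agent.Lib_helper24_CharValues

set_option autoImplicit false
set_option linter.unusedSectionVars false
set_option linter.unusedVariables false
set_option linter.style.haveILetI false
set_option linter.style.longLine false

/-!
helper22: S4843 part D: the linear character `ε = ω_χ ∘ [n, ·]` of `fcStar n`, vanishing of `χ`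
where `ε ≠ 1`, irreducibility of `ε^G`.
-/

namespace Cfsg.Agent.helper22

open Cfsg
open scoped ComplexConjugate

universe u

section FitD
variable {G : Type u} [Group G] [Fintype G]

/-- the linear character `ε = ω_χ ∘ [n, ·]` of `fcStar n` -/
noncomputable def fcEps {χ : G → ℂ} (hχ : IsIrrCharacter G χ) (n : G) : fcStar n →* ℂˣ :=
  ((gdCentHom hχ).comp (fcComm n)).toHomUnits

theorem fcEps_apply {χ : G → ℂ} (hχ : IsIrrCharacter G χ) (n : G) (g : fcStar n) :
    ((fcEps hχ n g : ℂˣ) : ℂ) = χ (n * g * n⁻¹ * (g : G)⁻¹) / χ 1 := rfl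

/-- `χ = ε χ` on `fcStar n` -/
theorem fc_eps_mul {χ : G → ℂ} (hχ : IsIrrCharacter G χ) (n : G) (g : fcStar n) :
    χ g = ((fcEps hχ n g : ℂˣ) : ℂ) * χ g := by
  have h1 := helper24.irr_central_apply hχ (n * g * n⁻¹ * (g : G)⁻¹) g.2 (g : G)
  have hc : (g : G) * (n * g * n⁻¹ * (g : G)⁻¹) = n * g * n⁻¹ := by
    rw [Subgroup.mem_center_iff.mp g.2 (g : G)]
    group
  rw [hc, helper24.char_isClassFunction (helper24.irr_isCharacter hχ) (g : G) n] at h1
  rw [fcEps_apply]
  exact h1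

theorem fc_vanish {χ : G → ℂ} (hχ : IsIrrCharacter G χ) (n : G) (g : fcStar n)
    (h : ((fcEps hχ n g : ℂˣ) : ℂ) ≠ 1) : χ g = 0 := by
  have h1 := fc_eps_mul hχ n g
  by_contra h0
  apply h
  have h2 : ((fcEps hχ n g : ℂˣ) : ℂ) * χ g = 1 * χ g := by
    rw [one_mul]
    exact h1.symm
  exact mul_right_cancel₀ h0 h2

theorem fc_vanish_pow {χ : G → ℂ} (hχ : IsIrrCharacter G χ) (n : G) (k : ℕ)
    (hk : Nat.Coprime k (Nat.card G)) (g : fcStar n)
    (h : ((fcEps hχ n g : ℂˣ) : ℂ) ≠ 1) : χ ((g : G) ^ k) = 0 := by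
  have h1 := fc_vanish hχ n (g ^ k) ?_
  · rwa [Subgroup.coe_pow] at h1
  · rw [map_pow, Units.val_pow_eq_pow_val]
    intro hpow
    apply h
    have hcard : ((fcEps hχ n g : ℂˣ) : ℂ) ^ Nat.card G = 1 := by
      rw [← Units.val_pow_eq_pow_val, ← map_pow]
      have h2 : g ^ Nat.card G = 1 := by
        apply Subtype.ext
        rw [Subgroup.coe_pow, Subgroup.coe_one]
        exact pow_card_eq_one'
      rw [h2, map_one]
      rfl
    have h3 := pow_gcd_eq_one.mpr ⟨hpow, hcard⟩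
    rw [Nat.Coprime.gcd_eq_one hk, pow_one] at h3
    exact h3

/-- `[ε^G, |f|²] ≠ 0` when the class function `f` vanishes where `ε ≠ 1` -/
theorem fc_inner_ne_zero {χ : G → ℂ} (hχ : IsIrrCharacter G χ) (n : G) (f : G → ℂ)
    (hf : IsClassFunction G f)
    (hv : ∀ g : fcStar n, ((fcEps hχ n g : ℂˣ) : ℂ) ≠ 1 → f g = 0) (h1 : f 1 ≠ 0) :
    classInner (indFun (fcStar n) (fun g => ((fcEps hχ n g : ℂˣ) : ℂ)))
      (fun g => f g * conj (f g)) ≠ 0 := by
  classical
  haveI : Fintype (fcStar n) := Fintype.ofFinite _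
  have hF : IsClassFunction G (fun g => f g * conj (f g)) := by
    intro g x
    show f (x * g * x⁻¹) * conj (f (x * g * x⁻¹)) = _
    rw [hf g x]
  rw [helper8.frobenius (fcStar n) _ _ hF]
  have hterm : ∀ g : fcStar n, ((fcEps hχ n g : ℂˣ) : ℂ) * conj (f g * conj (f g)) =
      ((Complex.normSq (f g) : ℝ) : ℂ) := by
    intro g
    by_cases hε : ((fcEps hχ n g : ℂˣ) : ℂ) = 1
    · rw [hε, one_mul, map_mul, Complex.conj_conj, mul_comm, Complex.mul_conj]
    · rw [hv g hε]
      simp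
  have hsum : classInner (fun g : fcStar n => ((fcEps hχ n g : ℂˣ) : ℂ))
      (fun h : fcStar n => (fun g => f g * conj (f g)) (h : G)) =
      (Nat.card (fcStar n) : ℂ)⁻¹ * ((∑ g : fcStar n, Complex.normSq (f g) : ℝ) : ℂ) := by
    unfold classInner
    congr 1
    rw [Complex.ofReal_sum]
    exact Finset.sum_congr rfl (fun g _ => hterm g)
  rw [hsum]
  apply mul_ne_zero
  · apply inv_ne_zero
    exact_mod_cast Nat.card_pos.ne'
  · have hpos : 0 < ∑ g : fcStar n, Complex.normSq (f g) := by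
      calc 0 < Complex.normSq (f ((1 : fcStar n) : G)) := by
            rw [Subgroup.coe_one]
            exact Complex.normSq_pos.mpr h1
        _ ≤ ∑ g : fcStar n, Complex.normSq (f g) :=
          Finset.single_le_sum (f := fun g : fcStar n => Complex.normSq (f g))
            (fun g _ => Complex.normSq_nonneg _) (Finset.mem_univ 1)
    exact_mod_cast hpos.ne'

/-- the central character of a faithful irreducible character is injective -/
theorem fc_omega_inj {χ : G → ℂ} (hχ : IsIrrCharacter G χ) (hfaith : ∀ g : G, χ g = χ 1 → g = 1)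
    (z₁ z₂ : G) (h1 : z₁ ∈ Subgroup.center G) (h2 : z₂ ∈ Subgroup.center G)
    (h : χ z₁ / χ 1 = χ z₂ / χ 1) : z₁ = z₂ := by
  have h0 := helper24.irr_apply_one_ne_zero hχ
  have e1 := helper24.irr_central_apply hχ z₂⁻¹ (Subgroup.inv_mem _ h2) z₁
  have e2 := helper24.irr_central_apply hχ z₂⁻¹ (Subgroup.inv_mem _ h2) z₂
  rw [mul_inv_cancel] at e2
  have h3 : χ z₁ = χ z₂ := by
    have h5 := congrArg (fun t => t * χ 1) h
    simp only [div_mul_cancel₀ _ h0] at h5
    exact h5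
  have h4 : χ (z₁ * z₂⁻¹) = χ 1 := by rw [e1, h3, ← e2]
  exact mul_inv_eq_one.mp (hfaith _ h4)

/-- `ε^G` is irreducible -/
theorem fc_beta_irr {χ : G → ℂ} (hχ : IsIrrCharacter G χ) (hfaith : ∀ g : G, χ g = χ 1 → g = 1)
    (M : Subgroup G) [hM : M.Normal] (hMM : ⁅M, M⁆ ≤ Subgroup.center G)
    (hZM : ∀ z ∈ M, (∀ m ∈ M, z * m = m * z) → z ∈ Subgroup.center G) {n : G} (hn : n ∈ M) :
    IsIrrCharacter G (indFun (fcStar n) (fun g => ((fcEps hχ n g : ℂˣ) : ℂ))) := by
  classical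
  haveI : Fintype (fcStar n) := Fintype.ofFinite _
  have hMC : M ≤ fcStar n := fc_le_star M hMM hn
  obtain ⟨ε, hε⟩ : ∃ ε : fcStar n → ℂ, ε = fun g => ((fcEps hχ n g : ℂˣ) : ℂ) := ⟨_, rfl⟩
  have hεirr : IsIrrCharacter (fcStar n) ε := by
    rw [hε]
    exact hom_isIrrCharacter (fcEps hχ n)
  obtain ⟨μ, hμ⟩ : ∃ μ : M → ℂ,
      μ = fun m => (((fcEps hχ n).comp (Subgroup.inclusion hMC) m : ℂˣ) : ℂ) := ⟨_, rfl⟩
  have hμirr : IsIrrCharacter M μ := by
    rw [hμ]
    exact hom_isIrrCharacter _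
  have hT : ∀ g : G, g ∈ fcStar n ↔ helper8.conjFunN M g μ = μ := by
    intro g
    constructor
    · intro hg
      funext m
      rw [helper8.conjFunN_apply, hμ]
      show (((fcEps hχ n) (Subgroup.inclusion hMC ⟨g * m * g⁻¹, hM.conj_mem m m.2 g⟩) : ℂˣ) : ℂ) =
        (((fcEps hχ n) (Subgroup.inclusion hMC m) : ℂˣ) : ℂ)
      have e : Subgroup.inclusion hMC ⟨g * m * g⁻¹, hM.conj_mem m m.2 g⟩ =
          (⟨g, hg⟩ : fcStar n) * Subgroup.inclusion hMC m * (⟨g, hg⟩ : fcStar n)⁻¹ := by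
        apply Subtype.ext
        rfl
      rw [e, map_mul, map_mul, map_inv, mul_comm, inv_mul_cancel_left]
    · intro hinv
      apply fc_star_of_comm M hMM hZM hn g
      intro m hm
      have h1 := congrFun hinv ⟨m, hm⟩
      rw [helper8.conjFunN_apply, hμ] at h1
      have h2 : χ (n * (g * m * g⁻¹) * n⁻¹ * (g * m * g⁻¹)⁻¹) / χ 1 =
          χ (n * m * n⁻¹ * m⁻¹) / χ 1 := h1
      exact fc_omega_inj hχ hfaith _ _
        (fc_le_star M hMM hn (hM.conj_mem m hm g)) (fc_le_star M hMM hn hm) h2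
  have hc : classInner (indFun (M.subgroupOf (fcStar n))
      (fun x : M.subgroupOf (fcStar n) =>
        μ ⟨((x : fcStar n) : G), Subgroup.mem_subgroupOf.mp x.2⟩)) ε ≠ 0 := by
    haveI : Fintype (M.subgroupOf (fcStar n)) := Fintype.ofFinite _
    rw [helper8.frobenius _ _ _ (helper24.char_isClassFunction (helper24.irr_isCharacter hεirr))]
    have h1 : (fun x : M.subgroupOf (fcStar n) =>
        μ ⟨((x : fcStar n) : G), Subgroup.mem_subgroupOf.mp x.2⟩) =
        fun h : M.subgroupOf (fcStar n) => ε h := by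
      funext x
      rw [hμ, hε]
      rfl
    rw [h1]
    have h2 : IsIrrCharacter (M.subgroupOf (fcStar n))
        (fun h : M.subgroupOf (fcStar n) => ε h) := by
      rw [hε]
      exact hom_isIrrCharacter ((fcEps hχ n).comp (M.subgroupOf (fcStar n)).subtype)
    rw [helper24.irr_classInner_self h2]
    exact one_ne_zero
  have hnorm := helper8.clifford_corr M (fcStar n) μ hμirr hT hMC ε ε hεirr hεirr hc hc
  rw [if_pos rfl] at hnorm
  rw [← hε]
  exact helper12.isIrrCharacter_of_classInner_self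
    (helper12.isCharacter_indFun _ (helper24.irr_isCharacter hεirr)) hnorm

end FitD

end Cfsg.Agent.helper22
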