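import Mathlib
import Cfsg.Agent.Lib_helper22_FitD

set_option autoImplicit false
set_option linter.unusedSectionVars false
set_option linter.unusedVariables false
set_option linter.style.haveILetI false
set_option linter.style.longLine false

/-!
helper22: S4843 part E: the count and the final theorem
`χ` faithful, `χ χ^{(k)}` irreducible ⟹ `F(G) = Z(G)`.
-/

namespace Cfsg.Agent.helper22

open Cfsg
open scoped ComplexConjugate

universe u

section FitE
variable {G : Type u} [Group G] [Fintype G]

/-- two characters containing the trivial character once and a common nontrivial irreducible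
constituent have inner product at least two -/
theorem fc_count {a a' β : G → ℂ} (ha : IsCharacter G a) (ha' : IsCharacter G a')
    (hβ : IsIrrCharacter G β)
    (h1 : classInner a (fun _ => (1 : ℂ)) = 1) (h1' : classInner a' (fun _ => (1 : ℂ)) = 1)
    (hβ1 : β ≠ fun _ => (1 : ℂ)) (hβa : classInner β a ≠ 0) (hβa' : classInner β a' ≠ 0) :
    ∃ N : ℕ, 2 ≤ N ∧ classInner a a' = N := by
  classical
  haveI : Fintype (IrrCharacter G) := Fintype.ofFinite _
  obtain ⟨m, hexp, hm, -⟩ := helper12.char_decomp ha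
  obtain ⟨m', hexp', hm', -⟩ := helper12.char_decomp ha'
  have hval : classInner a a' = ((∑ θ : IrrCharacter G, m θ * m' θ : ℕ) : ℂ) := by
    conv_lhs => arg 1; rw [hexp]
    rw [helper24.classInner_sum_left]
    push_cast
    apply Finset.sum_congr rfl
    intro θ _
    rw [helper24.classInner_smul_left, ← helper24.classInner_conj_symm, hm' θ,
      Complex.conj_natCast]
  refine ⟨_, ?_, hval⟩
  obtain ⟨t1, ht1⟩ : ∃ t1 : IrrCharacter G, t1 = ⟨fun _ => 1, helper24.isIrrCharacter_one⟩ :=
    ⟨_, rfl⟩
  obtain ⟨tβ, htβ⟩ : ∃ tβ : IrrCharacter G, tβ = ⟨β, hβ⟩ := ⟨_, rfl⟩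
  have hne : tβ ≠ t1 := by
    intro h
    apply hβ1
    have := congrArg Subtype.val h
    rw [htβ, ht1] at this
    exact this
  have hm1 : m t1 = 1 := by
    have h2 := hm t1
    rw [ht1] at h2
    rw [h1] at h2
    rw [ht1]
    exact_mod_cast h2.symm
  have hm1' : m' t1 = 1 := by
    have h2 := hm' t1
    rw [ht1] at h2
    rw [h1'] at h2
    rw [ht1]
    exact_mod_cast h2.symm
  have hmβ : 1 ≤ m tβ := by
    rw [Nat.one_le_iff_ne_zero]
    intro h0
    apply hβa
    have h2 := hm tβ
    rw [h0, htβ] at h2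
    rw [← helper24.classInner_conj_symm, h2]
    simp
  have hmβ' : 1 ≤ m' tβ := by
    rw [Nat.one_le_iff_ne_zero]
    intro h0
    apply hβa'
    have h2 := hm' tβ
    rw [h0, htβ] at h2
    rw [← helper24.classInner_conj_symm, h2]
    simp
  have hpair : ∑ θ ∈ ({tβ, t1} : Finset (IrrCharacter G)), m θ * m' θ ≤
      ∑ θ : IrrCharacter G, m θ * m' θ :=
    Finset.sum_le_sum_of_subset (Finset.subset_univ _)
  rw [Finset.sum_pair hne, hm1, hm1'] at hpair
  have h3 : 1 * 1 ≤ m tβ * m' tβ := Nat.mul_le_mul hmβ hmβ'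
  omega

/-- **Claim B.** a normal subgroup `M` with `[M, M] ≤ Z(G)` and `Z(M) ≤ Z(G)` is abelian -/
theorem fc_class_two_abelian {χ : G → ℂ} (hχ : IsIrrCharacter G χ)
    (hfaith : ∀ g : G, χ g = χ 1 → g = 1) (k : ℕ) (hk : Nat.Coprime k (Nat.card G))
    (hirr : IsIrrCharacter G (fun g => χ g * χ (g ^ k)))
    (M : Subgroup G) [hM : M.Normal] (hMM : ⁅M, M⁆ ≤ Subgroup.center G)
    (hZM : ∀ z ∈ M, (∀ m ∈ M, z * m = m * z) → z ∈ Subgroup.center G) :
    ∀ n ∈ M, ∀ m ∈ M, n * m = m * n := by
  classical
  intro n hn m hm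
  by_contra hnm
  haveI : Fintype (fcStar n) := Fintype.ofFinite _
  have hχc := helper24.irr_isCharacter hχ
  have hχ'irr : IsIrrCharacter G (fun g => χ (g ^ k)) := helper1.isIrrCharacter_powMap k hk hχ
  have hχ'c := helper24.irr_isCharacter hχ'irr
  obtain ⟨β, hβdef⟩ : ∃ β : G → ℂ,
      β = indFun (fcStar n) (fun g => ((fcEps hχ n g : ℂˣ) : ℂ)) := ⟨_, rfl⟩
  have hβ : IsIrrCharacter G β := by
    rw [hβdef]
    exact fc_beta_irr hχ hfaith M hMM hZM hn
  have hβa : classInner β (fun g => χ g * conj (χ g)) ≠ 0 := by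
    rw [hβdef]
    exact fc_inner_ne_zero hχ n χ (helper24.char_isClassFunction hχc)
      (fun g h => fc_vanish hχ n g h) (helper24.irr_apply_one_ne_zero hχ)
  have hβa' : classInner β (fun g => χ (g ^ k) * conj (χ (g ^ k))) ≠ 0 := by
    rw [hβdef]
    exact fc_inner_ne_zero hχ n (fun g => χ (g ^ k)) (helper24.char_isClassFunction hχ'c)
      (fun g h => fc_vanish_pow hχ n k hk g h) (helper24.irr_apply_one_ne_zero hχ'irr)
  have hβ1 : β ≠ fun _ => (1 : ℂ) := by
    intro hβeq
    have h1 : classInner β (fun _ : G => (1 : ℂ)) = 1 := by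
      rw [hβeq]
      exact helper24.irr_classInner_self helper24.isIrrCharacter_one
    have hcf : IsClassFunction G (fun _ : G => (1 : ℂ)) := fun _ _ => rfl
    rw [hβdef, helper8.frobenius (fcStar n) _ _ hcf] at h1
    have hne : (fun g : fcStar n => ((fcEps hχ n g : ℂˣ) : ℂ)) ≠ fun _ => (1 : ℂ) := by
      intro he
      have hmC : m ∈ fcStar n := fc_le_star M hMM hn hm
      have h2 := congrFun he ⟨m, hmC⟩
      have h2' : χ (n * m * n⁻¹ * m⁻¹) / χ 1 = 1 := h2
      have h0 := helper24.irr_apply_one_ne_zero hχ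
      have h3 : χ (n * m * n⁻¹ * m⁻¹) = χ 1 := by
        rw [div_eq_one_iff_eq h0] at h2'
        exact h2'
      have h4 := hfaith _ h3
      apply hnm
      calc n * m = (n * m * n⁻¹ * m⁻¹) * m * n := by group
        _ = m * n := by rw [h4, one_mul]
    have h5 := helper24.irr_classInner_ne (hom_isIrrCharacter (fcEps hχ n))
      (helper24.isIrrCharacter_one (G := fcStar n)) hne
    exact zero_ne_one (h5.symm.trans h1)
  have ha : IsCharacter G (fun g => χ g * conj (χ g)) :=
    helper1.isCharacter_mul hχc (helper1.isCharacter_conj hχc)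
  have ha' : IsCharacter G (fun g => χ (g ^ k) * conj (χ (g ^ k))) :=
    helper1.isCharacter_mul hχ'c (helper1.isCharacter_conj hχ'c)
  have h1 : classInner (fun g => χ g * conj (χ g)) (fun _ => (1 : ℂ)) = 1 := by
    have h2 := helper24.irr_classInner_self hχ
    have h3 : classInner (fun g => χ g * conj (χ g)) (fun _ => (1 : ℂ)) = classInner χ χ := by
      unfold classInner
      congr 1
      apply Finset.sum_congr rfl
      intro g _
      simp
    rw [h3, h2]
  have h1' : classInner (fun g => χ (g ^ k) * conj (χ (g ^ k))) (fun _ => (1 : ℂ)) = 1 := by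
    have h2 := helper24.irr_classInner_self hχ'irr
    have h3 : classInner (fun g => χ (g ^ k) * conj (χ (g ^ k))) (fun _ => (1 : ℂ)) =
        classInner (fun g => χ (g ^ k)) (fun g => χ (g ^ k)) := by
      unfold classInner
      congr 1
      apply Finset.sum_congr rfl
      intro g _
      simp
    rw [h3, h2]
  obtain ⟨N, hN2, hNval⟩ := fc_count ha ha' hβ h1 h1' hβ1 hβa hβa'
  have hψ := helper24.irr_classInner_self hirr
  have heq : classInner (fun g => χ g * χ (g ^ k)) (fun g => χ g * χ (g ^ k)) =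
      classInner (fun g => χ g * conj (χ g)) (fun g => χ (g ^ k) * conj (χ (g ^ k))) := by
    unfold classInner
    congr 1
    apply Finset.sum_congr rfl
    intro g _
    simp only [map_mul, Complex.conj_conj]
    ring
  rw [heq, hNval] at hψ
  have hN1 : N = 1 := by exact_mod_cast hψ
  omega

end FitE

/-- `χ` faithful irreducible with `χ χ^{(k)}` irreducible ⟹ `F(G) = Z(G)` -/
theorem fc_fitting_eq_center {G : Type u} [Group G] [Finite G] {χ : G → ℂ}
    (hχ : IsIrrCharacter G χ) (hfaith : ∀ g : G, χ g = χ 1 → g = 1) (k : ℕ)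
    (hk : Nat.Coprime k (Nat.card G)) (hirr : IsIrrCharacter G (fun g => χ g * χ (g ^ k))) :
    Cfsg.fittingSubgroup G = Subgroup.center G := by
  classical
  haveI := Fintype.ofFinite G
  have hA : ∀ A : Subgroup G, A.Normal → (∀ x ∈ A, ∀ y ∈ A, x * y = y * x) →
      A ≤ Subgroup.center G := by
    intro A hAn hc
    haveI := hAn
    exact fc_abelian_central hχ hfaith k hk hirr A hc
  apply le_antisymm
  · apply sSup_le
    rintro N ⟨hNn, hNnil⟩
    by_contra hnc
    obtain ⟨M, hMn, hMM, hMnc⟩ := fc_exists_class_two (Nat.card N) N hNn hNnil le_rfl hnc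
    haveI := hMn
    have hZM : ∀ z ∈ M, (∀ m ∈ M, z * m = m * z) → z ∈ Subgroup.center G := by
      intro z hz hzc
      have hZn : (M ⊓ Subgroup.centralizer (M : Set G)).Normal := inferInstance
      have hZc : ∀ x ∈ M ⊓ Subgroup.centralizer (M : Set G),
          ∀ y ∈ M ⊓ Subgroup.centralizer (M : Set G), x * y = y * x := by
        intro x hx y hy
        exact (Subgroup.mem_centralizer_iff.mp hx.2 y hy.1).symm
      apply hA _ hZn hZc
      exact ⟨hz, Subgroup.mem_centralizer_iff.mpr (fun m hm => (hzc m hm).symm)⟩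
    have habel := fc_class_two_abelian hχ hfaith k hk hirr M hMM hZM
    exact hMnc (hA M hMn habel)
  · apply le_sSup
    refine ⟨inferInstance, ?_⟩
    let _ : CommGroup (Subgroup.center G) :=
      { (inferInstance : Group (Subgroup.center G)) with
        mul_comm := fun a b => Subtype.ext (Subgroup.mem_center_iff.mp b.2 a) }
    exact CommGroup.isNilpotent

end Cfsg.Agent.helper22
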