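import Mathlib
import Cfsg.Agent.Lib_helper1_Galois
import Cfsg.Agent.Lib_helper1_GalChar
import Cfsg.Agent.Lib_helper1_AutC
import Cfsg.Agent.Lib_helper24_Char
import Cfsg.Agent.Lib_helper24_CharCount
import Cfsg.Agent.Lib_helper12_CharOps
import Cfsg.Agent.Lib_helper5_Clifford

set_option autoImplicit false
set_option linter.unusedSectionVars false
set_option linter.unusedVariables false
set_option linter.style.haveILetI false

/-!
Fields of values of characters (helper22), part A: the field of values, cyclotomic degrees,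
embeddings and their extension to automorphisms of `ℂ`, Galois conjugate constituents.
-/

namespace Cfsg.Agent.helper22

open Cfsg IntermediateField
open scoped ComplexConjugate

universe u

section Fov

/-- the field of values of a complex-valued function -/
noncomputable def fov {X : Type*} (ψ : X → ℂ) : IntermediateField ℚ ℂ := adjoin ℚ (Set.range ψ)

theorem mem_fov {X : Type*} (ψ : X → ℂ) (x : X) : ψ x ∈ fov ψ :=
  subset_adjoin ℚ _ ⟨x, rfl⟩

theorem fov_le_iff {X : Type*} (ψ : X → ℂ) (L : IntermediateField ℚ ℂ) :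
    fov ψ ≤ L ↔ ∀ x, ψ x ∈ L := by
  unfold fov
  rw [adjoin_le_iff]
  constructor
  · intro h x
    exact h ⟨x, rfl⟩
  · rintro h _ ⟨x, rfl⟩
    exact h x

variable {H : Type u} [Group H] [Finite H]

theorem fov_le_cycField {ψ : H → ℂ} (hψ : IsCharacter H ψ) :
    fov ψ ≤ helper1.cycField (Nat.card H) := by
  rw [fov_le_iff]
  intro g
  obtain ⟨n, ρ, rfl⟩ := hψ
  exact helper1.char_mem_cycField ρ g

theorem finiteDimensional_of_le' {E L : IntermediateField ℚ ℂ} (h : E ≤ L)
    [FiniteDimensional ℚ L] : FiniteDimensional ℚ E :=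
  Module.Finite.of_injective (IntermediateField.inclusion h).toLinearMap
    (IntermediateField.inclusion_injective h)

theorem fov_finiteDimensional {ψ : H → ℂ} (hψ : IsCharacter H ψ) :
    FiniteDimensional ℚ (fov ψ) := by
  haveI := helper1.cycField_finiteDimensional (Nat.card H) Nat.card_pos.ne'
  exact finiteDimensional_of_le' (fov_le_cycField hψ)

/-- the degree of `ℚ(ζ)` for a primitive `n`-th root of unity -/
theorem finrank_adjoin_primitiveRoot {ζ : ℂ} {n : ℕ} (hn : 0 < n) (hζ : IsPrimitiveRoot ζ n) :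
    Module.finrank ℚ ℚ⟮ζ⟯ = n.totient := by
  have hint : IsIntegral ℚ ζ := by
    refine ⟨Polynomial.X ^ n - 1, Polynomial.monic_X_pow_sub_C 1 hn.ne', ?_⟩
    simp [hζ.pow_eq_one]
  rw [adjoin.finrank hint, ← Polynomial.cyclotomic_eq_minpoly_rat hζ hn,
    Polynomial.natDegree_cyclotomic]

theorem finrank_cycField (n : ℕ) (hn : 0 < n) :
    Module.finrank ℚ (helper1.cycField n) = n.totient :=
  finrank_adjoin_primitiveRoot hn (helper1.zetaN_isPrimitiveRoot n hn.ne')

end Fov

section Embed
variable (L : IntermediateField ℚ ℂ) [FiniteDimensional ℚ L]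

theorem card_embeddings : Fintype.card (L →ₐ[ℚ] ℂ) = Module.finrank ℚ L :=
  AlgHom.card ℚ L ℂ

/-- every embedding of a number field in `ℂ` is induced by an automorphism of `ℂ` -/
theorem exists_aut_extends (φ : L →ₐ[ℚ] ℂ) : ∃ τ : ℂ ≃+* ℂ, ∀ x : L, τ (x : ℂ) = φ x := by
  haveI : Algebra.IsAlgebraic ℚ L := Algebra.IsAlgebraic.of_finite ℚ L
  obtain ⟨τ, hτ⟩ := helper1.exists_ringEquiv_extends (K := L) (L.val : L →+* ℂ) (φ : L →+* ℂ)
  exact ⟨τ, fun x => hτ x⟩

end Embed

section GalConj
variable {P : Type u} [Group P] [Fintype P] (M : Subgroup P) [Fintype M]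

/-- the inner product with a character, without complex conjugation -/
theorem classInner_eq_sum_inv {A B : M → ℂ} (hB : IsCharacter M B) :
    classInner A B = (Nat.card M : ℂ)⁻¹ * ∑ m : M, A m * B m⁻¹ := by
  unfold classInner
  congr 1
  apply Finset.sum_congr rfl
  intro m _
  rw [helper24.char_inv hB]

/-- Galois conjugation preserves multiplicities of constituents of restrictions -/
theorem classInner_galConj (τ : ℂ ≃+* ℂ) {χ : P → ℂ} (hχ : IsCharacter P χ) {θ : M → ℂ}
    (hθ : IsCharacter M θ) :
    classInner (helper5.res M (fun g => τ (χ g))) (fun m => τ (θ m)) =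
      classInner (helper5.res M χ) θ := by
  obtain ⟨n, hn⟩ := helper12.classInner_char_nat (helper5.isCharacter_res M hχ) hθ
  have hτθ : IsCharacter M (fun m => τ (θ m)) :=
    helper1.isCharacter_galConj (τ : ℂ →+* ℂ) hθ
  rw [classInner_eq_sum_inv M hτθ, hn]
  have h1 := hn
  rw [classInner_eq_sum_inv M hθ] at h1
  have h2 := congrArg τ h1
  rw [map_mul, map_inv₀, map_natCast, map_natCast, map_sum] at h2
  rw [← h2]
  congr 1
  apply Finset.sum_congr rfl
  intro m _
  rw [map_mul]
  rfl

end GalConj

end Cfsg.Agent.helper22
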