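import Mathlib
import Cfsg.Agent.Lib_helper22_FovA
import Cfsg.Agent.Lib_helper22_DegP1

set_option autoImplicit false
set_option linter.unusedSectionVars false
set_option linter.unusedVariables false
set_option linter.style.haveILetI false

/-!
Fields of values of characters (helper22), part B: sums of distinct constituents, and the
comparison of the fields of values of `χ` and of a constituent `θ` of its restriction.
-/

namespace Cfsg.Agent.helper22

open Cfsg IntermediateField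
open scoped ComplexConjugate

universe u

section SubFinset
variable {M : Type u} [Group M] [Fintype M]

/-- subtracting distinct irreducible constituents from a character leaves a character -/
theorem isCharacter_sub_sum_constituents {Ψ : M → ℂ} (hΨ : IsCharacter M Ψ)
    (T : Finset (IrrCharacter M)) (hT : ∀ ψ ∈ T, classInner Ψ (ψ : M → ℂ) ≠ 0) :
    IsCharacter M (Ψ - ∑ ψ ∈ T, (ψ : M → ℂ)) := by
  classical
  apply helper12.isCharacter_of_classInner_nat
  · apply helper24.isClassFunction_sub (helper24.char_isClassFunction hΨ)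
    apply helper24.isClassFunction_sum
    intro ψ _
    exact helper24.char_isClassFunction (helper24.irr_isCharacter ψ.2)
  · intro η
    obtain ⟨a, ha⟩ := helper12.classInner_char_nat hΨ (helper24.irr_isCharacter η.2)
    rw [helper24.classInner_sub_left, ha, helper24.classInner_sum_left]
    have h1 : ∑ ψ ∈ T, classInner (ψ : M → ℂ) (η : M → ℂ) = if η ∈ T then 1 else 0 := by
      have h2 : ∀ ψ ∈ T, classInner (ψ : M → ℂ) (η : M → ℂ) = if ψ = η then 1 else 0 := by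
        intro ψ _
        rw [helper24.irr_classInner ψ.2 η.2]
        by_cases h : ψ = η
        · rw [if_pos h, if_pos (congrArg Subtype.val h)]
        · rw [if_neg h, if_neg (fun h' => h (Subtype.ext h'))]
      rw [Finset.sum_congr rfl h2, Finset.sum_ite_eq' T η]
    rw [h1]
    by_cases hη : η ∈ T
    · rw [if_pos hη]
      have ha0 : a ≠ 0 := by
        intro h0
        apply hT η hη
        rw [ha, h0, Nat.cast_zero]
      refine ⟨a - 1, ?_⟩
      rw [Nat.cast_sub (Nat.one_le_iff_ne_zero.mpr ha0), Nat.cast_one]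
    · rw [if_neg hη]
      exact ⟨a, by rw [sub_zero]⟩

/-- degrees of distinct constituents add up to at most the degree; in case of equality the
character is their sum -/
theorem sum_degree_constituents_le {Ψ : M → ℂ} (hΨ : IsCharacter M Ψ)
    (T : Finset (IrrCharacter M)) (hT : ∀ ψ ∈ T, classInner Ψ (ψ : M → ℂ) ≠ 0) :
    ∑ ψ ∈ T, charDegree (ψ : M → ℂ) ≤ charDegree Ψ ∧
      (∑ ψ ∈ T, charDegree (ψ : M → ℂ) = charDegree Ψ → Ψ = ∑ ψ ∈ T, (ψ : M → ℂ)) := by
  have hΔ := isCharacter_sub_sum_constituents hΨ T hT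
  have h1 := helper24.char_charDegree_cast hΔ
  rw [Pi.sub_apply, Finset.sum_apply, ← helper24.char_charDegree_cast hΨ] at h1
  have h2 : ∑ ψ ∈ T, (ψ : M → ℂ) 1 = ((∑ ψ ∈ T, charDegree (ψ : M → ℂ) : ℕ) : ℂ) := by
    rw [Nat.cast_sum]
    apply Finset.sum_congr rfl
    intro ψ _
    rw [helper24.char_charDegree_cast (helper24.irr_isCharacter ψ.2)]
  rw [h2] at h1
  have h3 : charDegree Ψ = ∑ ψ ∈ T, charDegree (ψ : M → ℂ) +
      charDegree (Ψ - ∑ ψ ∈ T, (ψ : M → ℂ)) := by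
    have h4 : ((charDegree Ψ : ℕ) : ℂ) = ((∑ ψ ∈ T, charDegree (ψ : M → ℂ) +
        charDegree (Ψ - ∑ ψ ∈ T, (ψ : M → ℂ)) : ℕ) : ℂ) := by
      rw [Nat.cast_add, h1]
      ring
    exact_mod_cast h4
  constructor
  · omega
  · intro heq
    have h5 : charDegree (Ψ - ∑ ψ ∈ T, (ψ : M → ℂ)) = 0 := by omega
    have h6 : (Ψ - ∑ ψ ∈ T, (ψ : M → ℂ)) 1 = 0 := by
      rw [← helper24.char_charDegree_cast hΔ, h5, Nat.cast_zero]
    have h7 := char_eq_zero_of_one_eq_zero hΔ h6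
    exact sub_eq_zero.mp h7

end SubFinset

section Ext

/-- embeddings of a field of values are determined by the images of the values -/
theorem algHom_fov_ext {X : Type*} (ψ : X → ℂ) [FiniteDimensional ℚ (fov ψ)]
    (φ φ' : fov ψ →ₐ[ℚ] ℂ) (h : ∀ x : X, φ ⟨ψ x, mem_fov ψ x⟩ = φ' ⟨ψ x, mem_fov ψ x⟩) :
    φ = φ' := by
  obtain ⟨τ, hτ⟩ := exists_aut_extends (fov ψ) φ
  obtain ⟨τ', hτ'⟩ := exists_aut_extends (fov ψ) φ'
  have hle : (fov ψ).toSubfield ≤ RingHom.eqLocusField (τ : ℂ →+* ℂ) (τ' : ℂ →+* ℂ) := by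
    unfold fov
    rw [IntermediateField.adjoin_toSubfield, Subfield.closure_le]
    rintro x (⟨q, rfl⟩ | ⟨y, rfl⟩)
    · show (τ : ℂ →+* ℂ) _ = (τ' : ℂ →+* ℂ) _
      simp
    · show τ (ψ y) = τ' (ψ y)
      have h1 := hτ ⟨ψ y, mem_fov ψ y⟩
      have h2 := hτ' ⟨ψ y, mem_fov ψ y⟩
      rw [h1, h2, h y]
  apply AlgHom.ext
  intro x
  rw [← hτ x, ← hτ' x]
  exact hle x.2

end Ext

section Count
variable {P : Type u} [Group P] [Fintype P] (M : Subgroup P) [Fintype M]

/-- **Fields of values under restriction.** If `θ` is an irreducible constituent of `χ_M` with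
`χ(1) = p θ(1)` and `ℚ(χ) ⊆ ℚ(θ)`, then `[ℚ(θ) : ℚ] ≤ p [ℚ(χ) : ℚ]`, and in case of equality the
kernel of `θ` lies in the kernel of `χ`. -/
theorem finrank_fov_le (p : ℕ) {χ : P → ℂ} (hχ : IsIrrCharacter P χ) {θ : M → ℂ}
    (hθ : IsIrrCharacter M θ) (hc : classInner (helper5.res M χ) θ ≠ 0)
    (hdeg : charDegree χ = p * charDegree θ) (hEL : fov χ ≤ fov θ) :
    Module.finrank ℚ (fov θ) ≤ p * Module.finrank ℚ (fov χ) ∧
      (Module.finrank ℚ (fov θ) = p * Module.finrank ℚ (fov χ) →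
        ∀ k : M, θ k = θ 1 → χ k = χ 1) := by
  classical
  haveI := fov_finiteDimensional (helper24.irr_isCharacter hχ)
  haveI := fov_finiteDimensional (helper24.irr_isCharacter hθ)
  have hχc := helper24.irr_isCharacter hχ
  have hθc := helper24.irr_isCharacter hθ
  have hd0 : 0 < charDegree θ := helper24.irr_charDegree_pos hθ
  -- the conjugates of `θ` and `χ` under an embedding
  obtain ⟨ψφ, hψφ⟩ : ∃ ψφ : (fov θ →ₐ[ℚ] ℂ) → M → ℂ,
      ∀ φ m, ψφ φ m = φ ⟨θ m, mem_fov θ m⟩ := ⟨fun φ m => φ ⟨θ m, mem_fov θ m⟩, fun _ _ => rfl⟩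
  obtain ⟨Xε, hXε⟩ : ∃ Xε : (fov χ →ₐ[ℚ] ℂ) → P → ℂ,
      ∀ ε g, Xε ε g = ε ⟨χ g, mem_fov χ g⟩ := ⟨fun ε g => ε ⟨χ g, mem_fov χ g⟩, fun _ _ => rfl⟩
  obtain ⟨r, hr⟩ : ∃ r : (fov θ →ₐ[ℚ] ℂ) → (fov χ →ₐ[ℚ] ℂ),
      ∀ φ, r φ = φ.comp (IntermediateField.inclusion hEL) := ⟨_, fun _ => rfl⟩
  -- facts about a single embedding
  have hfacts : ∀ φ : fov θ →ₐ[ℚ] ℂ, IsIrrCharacter M (ψφ φ) ∧ charDegree (ψφ φ) = charDegree θ ∧
      IsCharacter P (Xε (r φ)) ∧ charDegree (Xε (r φ)) = charDegree χ ∧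
      classInner (helper5.res M (Xε (r φ))) (ψφ φ) ≠ 0 := by
    intro φ
    obtain ⟨τ, hτ⟩ := exists_aut_extends (fov θ) φ
    have e1 : ψφ φ = fun m => τ (θ m) := by
      funext m
      rw [hψφ, ← hτ ⟨θ m, mem_fov θ m⟩]
    have e2 : Xε (r φ) = fun g => τ (χ g) := by
      funext g
      rw [hXε, hr]
      show φ ⟨χ g, hEL (mem_fov χ g)⟩ = τ (χ g)
      rw [← hτ ⟨χ g, hEL (mem_fov χ g)⟩]
    refine ⟨?_, ?_, ?_, ?_, ?_⟩
    · rw [e1]
      exact helper1.isIrrCharacter_galConj (τ : ℂ →+* ℂ) hθ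
    · rw [e1]
      apply helper24.charDegree_natCast
      show τ (θ 1) = _
      rw [← helper24.char_charDegree_cast hθc, map_natCast]
    · rw [e2]
      exact helper1.isCharacter_galConj (τ : ℂ →+* ℂ) hχc
    · rw [e2]
      apply helper24.charDegree_natCast
      show τ (χ 1) = _
      rw [← helper24.char_charDegree_cast hχc, map_natCast]
    · rw [e1, e2, classInner_galConj M τ hχc hθc]
      exact hc
  obtain ⟨Tφ, hTφ⟩ : ∃ Tφ : (fov θ →ₐ[ℚ] ℂ) → IrrCharacter M, ∀ φ, (Tφ φ : M → ℂ) = ψφ φ :=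
    ⟨fun φ => ⟨ψφ φ, (hfacts φ).1⟩, fun _ => rfl⟩
  have hinj : Function.Injective Tφ := by
    intro φ φ' h
    apply algHom_fov_ext θ
    intro m
    have h1 := congrFun (congrArg Subtype.val h) m
    rw [hTφ, hTφ, hψφ, hψφ] at h1
    exact h1
  -- the bound on each fibre
  have hfib : ∀ ε : fov χ →ₐ[ℚ] ℂ,
      (Finset.univ.filter (fun φ : fov θ →ₐ[ℚ] ℂ => r φ = ε)).card ≤ p := by
    intro ε
    by_cases hne : (Finset.univ.filter (fun φ : fov θ →ₐ[ℚ] ℂ => r φ = ε)).Nonempty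
    · obtain ⟨φ₀, hφ₀⟩ := hne
      rw [Finset.mem_filter] at hφ₀
      have hX : IsCharacter P (Xε ε) := hφ₀.2 ▸ (hfacts φ₀).2.2.1
      have hXd : charDegree (Xε ε) = charDegree χ := hφ₀.2 ▸ (hfacts φ₀).2.2.2.1
      have hT : ∀ ψ ∈ (Finset.univ.filter (fun φ : fov θ →ₐ[ℚ] ℂ => r φ = ε)).image Tφ,
          classInner (helper5.res M (Xε ε)) (ψ : M → ℂ) ≠ 0 := by
        intro ψ hψ
        obtain ⟨φ, hφ, rfl⟩ := Finset.mem_image.mp hψ
        rw [Finset.mem_filter] at hφ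
        rw [hTφ, ← hφ.2]
        exact (hfacts φ).2.2.2.2
      have h1 := (sum_degree_constituents_le (helper5.isCharacter_res M hX) _ hT).1
      have h2 : ∀ ψ ∈ (Finset.univ.filter (fun φ : fov θ →ₐ[ℚ] ℂ => r φ = ε)).image Tφ,
          charDegree (ψ : M → ℂ) = charDegree θ := by
        intro ψ hψ
        obtain ⟨φ, hφ, rfl⟩ := Finset.mem_image.mp hψ
        rw [hTφ]
        exact (hfacts φ).2.1
      rw [Finset.sum_congr rfl h2, Finset.sum_const, smul_eq_mul,
        Finset.card_image_of_injective _ hinj] at h1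
      have h3 : charDegree (helper5.res M (Xε ε)) = p * charDegree θ := by
        rw [← hdeg, ← hXd]
        rfl
      rw [h3] at h1
      exact Nat.le_of_mul_le_mul_right h1 hd0
    · rw [Finset.not_nonempty_iff_eq_empty] at hne
      rw [hne, Finset.card_empty]
      exact Nat.zero_le _
  have hcardA := card_embeddings (fov θ)
  have hcardB := card_embeddings (fov χ)
  have hsum : Fintype.card (fov θ →ₐ[ℚ] ℂ) = ∑ ε : fov χ →ₐ[ℚ] ℂ,
      (Finset.univ.filter (fun φ : fov θ →ₐ[ℚ] ℂ => r φ = ε)).card := by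
    rw [← Finset.card_univ]
    exact Finset.card_eq_sum_card_fiberwise (fun φ _ => Finset.mem_univ (r φ))
  constructor
  · rw [← hcardA, ← hcardB, hsum]
    have h1 := Finset.sum_le_card_nsmul (Finset.univ : Finset (fov χ →ₐ[ℚ] ℂ))
      (fun ε => (Finset.univ.filter (fun φ : fov θ →ₐ[ℚ] ℂ => r φ = ε)).card) p
      (fun ε _ => hfib ε)
    rw [smul_eq_mul, Finset.card_univ, mul_comm] at h1
    exact h1
  · intro heq k hk
    rw [← hcardA, ← hcardB, hsum] at heq
    -- every fibre has exactly `p` elements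
    have hall : ∀ ε : fov χ →ₐ[ℚ] ℂ,
        (Finset.univ.filter (fun φ : fov θ →ₐ[ℚ] ℂ => r φ = ε)).card = p := by
      by_contra hcon
      push Not at hcon
      obtain ⟨ε₁, hε₁⟩ := hcon
      have hlt : ∑ ε : fov χ →ₐ[ℚ] ℂ,
          (Finset.univ.filter (fun φ : fov θ →ₐ[ℚ] ℂ => r φ = ε)).card <
          ∑ ε : fov χ →ₐ[ℚ] ℂ, p := by
        apply Finset.sum_lt_sum (fun ε _ => hfib ε)
        exact ⟨ε₁, Finset.mem_univ _, lt_of_le_of_ne (hfib ε₁) hε₁⟩
      rw [Finset.sum_const, smul_eq_mul, Finset.card_univ, mul_comm] at hlt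
      omega
    -- the fibre over the inclusion
    obtain ⟨ε₀, hε₀'⟩ : ∃ ε₀ : fov χ →ₐ[ℚ] ℂ, ∀ x : fov χ, ε₀ x = (x : ℂ) :=
      ⟨(fov χ).val, fun _ => rfl⟩
    have hε₀ : Xε ε₀ = χ := by
      funext g
      rw [hXε, hε₀']
    have hT : ∀ ψ ∈ (Finset.univ.filter (fun φ : fov θ →ₐ[ℚ] ℂ => r φ = ε₀)).image Tφ,
        classInner (helper5.res M χ) (ψ : M → ℂ) ≠ 0 := by
      intro ψ hψ
      obtain ⟨φ, hφ, rfl⟩ := Finset.mem_image.mp hψ
      rw [Finset.mem_filter] at hφ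
      have h1 := (hfacts φ).2.2.2.2
      rw [hφ.2, hε₀] at h1
      rw [hTφ]
      exact h1
    have h2 : ∀ ψ ∈ (Finset.univ.filter (fun φ : fov θ →ₐ[ℚ] ℂ => r φ = ε₀)).image Tφ,
        charDegree (ψ : M → ℂ) = charDegree θ := by
      intro ψ hψ
      obtain ⟨φ, hφ, rfl⟩ := Finset.mem_image.mp hψ
      rw [hTφ]
      exact (hfacts φ).2.1
    have h3 := (sum_degree_constituents_le (helper5.isCharacter_res M hχc) _ hT).2
    have h4 : ∑ ψ ∈ (Finset.univ.filter
        (fun φ : fov θ →ₐ[ℚ] ℂ => r φ = ε₀)).image Tφ, charDegree (ψ : M → ℂ) =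
        charDegree (helper5.res M χ) := by
      rw [Finset.sum_congr rfl h2, Finset.sum_const, smul_eq_mul,
        Finset.card_image_of_injective _ hinj, hall]
      rw [← hdeg]
      rfl
    have h5 := h3 h4
    have h6 : ∀ ψ ∈ (Finset.univ.filter (fun φ : fov θ →ₐ[ℚ] ℂ => r φ = ε₀)).image Tφ,
        (ψ : M → ℂ) k = (ψ : M → ℂ) 1 := by
      intro ψ hψ
      obtain ⟨φ, hφ, rfl⟩ := Finset.mem_image.mp hψ
      rw [hTφ, hψφ, hψφ]
      congr 1
      exact Subtype.ext hk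
    have h7 := congrFun h5 k
    have h8 := congrFun h5 1
    rw [helper5.res_apply, Finset.sum_apply] at h7 h8
    rw [h7, Finset.sum_congr rfl h6, ← h8]
    rfl

end Count

end Cfsg.Agent.helper22
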