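import Mathlib
import Cfsg.Agent.Lib_helper22_FovB
import Cfsg.Agent.Lib_helper22_MGroup
import Cfsg.Agent.Lib_helper22_Chief
import Cfsg.Agent.Lib_helper22_InvConst
import Cfsg.Agent.Lib_helper24_ItoMichler

set_option autoImplicit false
set_option linter.unusedSectionVars false
set_option linter.unusedVariables false
set_option linter.style.haveILetI false

/-!
Fields of values of characters (helper22), part C: faithful irreducible characters of `p`-groups,
the order bound in terms of the degree and the field of values.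
-/

namespace Cfsg.Agent.helper22

open Cfsg IntermediateField
open scoped ComplexConjugate

universe u

section Linear
variable {P : Type u} [Group P] [Finite P]

/-- a faithful linear character of a group of order `p ^ a` has field of values of degree at least
`φ(p ^ a)` -/
theorem fov_linear_bound (p a : ℕ) (hp : p.Prime) (ha : 0 < a) (hP : Nat.card P = p ^ a)
    (χ : P → ℂ) (hχ : IsCharacter P χ) (h1 : χ 1 = 1) (hfaith : ∀ g : P, χ g = χ 1 → g = 1)
    (t : ℕ) (hfield : Module.finrank ℚ (fov χ) = (p - 1) * p ^ t) : a ≤ t + 1 := by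
  obtain ⟨φ, hφ⟩ := linear_iff_hom.mp ⟨hχ, h1⟩
  have hinj : Function.Injective φ := by
    rw [injective_iff_map_eq_one]
    intro g hg
    apply hfaith
    rw [hφ g, hg, h1, Units.val_one]
  have hinj' : Function.Injective ((Units.coeHom ℂ).comp φ) := by
    intro x y hxy
    apply hinj
    exact Units.ext hxy
  haveI : IsCyclic P := isCyclic_of_injective_ringHom ((Units.coeHom ℂ).comp φ) hinj'
  obtain ⟨g, hg⟩ := IsCyclic.exists_generator (α := P)
  have hord : orderOf g = p ^ a := by
    rw [orderOf_eq_card_of_forall_mem_zpowers hg, hP]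
  have hordζ : orderOf (χ g) = p ^ a := by
    rw [hφ g, orderOf_units, orderOf_injective φ hinj g, hord]
  have hprim : IsPrimitiveRoot (χ g) (p ^ a) := hordζ ▸ IsPrimitiveRoot.orderOf (χ g)
  have hpa : 0 < p ^ a := pow_pos hp.pos a
  have hfin := finrank_adjoin_primitiveRoot hpa hprim
  have hle : ℚ⟮χ g⟯ ≤ fov χ := by
    rw [adjoin_simple_le_iff]
    exact mem_fov χ g
  have hdvd := IntermediateField.finrank_dvd_of_le_right hle
  rw [hfin, hfield, Nat.totient_prime_pow hp ha, mul_comm (p - 1)] at hdvd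
  have hp1 : 0 < p - 1 := Nat.sub_pos_of_lt hp.one_lt
  have h2 : p ^ (a - 1) ∣ p ^ t := Nat.dvd_of_mul_dvd_mul_right hp1 hdvd
  have h3 : a - 1 ≤ t := (Nat.pow_dvd_pow_iff_le_right hp.one_lt).mp h2
  omega

end Linear

section Induced
variable {P : Type u} [Group P] [Fintype P]

theorem indFun_vanish_off (H M : Subgroup P) [hM : M.Normal] (hHM : H ≤ M) (ψ : H → ℂ) {g : P}
    (hg : g ∉ M) : indFun H ψ g = 0 := by
  unfold indFun
  rw [Finset.sum_eq_zero, mul_zero]
  intro x _
  apply helper5.extendByZero_of_not_mem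
  intro hmem
  apply hg
  have h2 := hM.conj_mem _ (hHM hmem) x
  simpa [mul_assoc] using h2

theorem fov_indFun_le (M : Subgroup P) (θ : M → ℂ) : fov (indFun M θ) ≤ fov θ := by
  rw [fov_le_iff]
  intro g
  unfold indFun
  apply mul_mem
  · apply inv_mem
    exact _root_.natCast_mem _ _
  · apply sum_mem
    intro x _
    by_cases h : x⁻¹ * g * x ∈ M
    · rw [helper5.extendByZero_of_mem M θ _ h]
      exact mem_fov θ _
    · rw [helper5.extendByZero_of_not_mem M θ _ h]
      exact zero_mem _

/-- if `χ = θ^P` is faithful, `M` normal of index `p`, then `|M| ≤ |M : ker θ| ^ p` -/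
theorem card_le_index_ker_pow (p : ℕ) (M : Subgroup P) [hM : M.Normal] [Fintype M]
    (hidx : M.index = p) {χ : P → ℂ} (hfaith : ∀ g : P, χ g = χ 1 → g = 1) {θ : M → ℂ}
    (hθ : IsCharacter M θ) (hind : indFun M θ = χ) :
    Nat.card M ≤ (helper24.charKer hθ).index ^ p := by
  classical
  haveI : Fintype (P ⧸ M) := Fintype.ofFinite _
  obtain ⟨N, hN⟩ : ∃ N : Subgroup M, N = helper24.charKer hθ := ⟨_, rfl⟩
  rw [← hN]
  have hmemN : ∀ k : M, k ∈ N ↔ θ k = θ 1 := by
    intro k
    rw [hN]
    exact helper24.mem_charKer hθ k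
  obtain ⟨Nx, hNx⟩ : ∃ Nx : P → Subgroup M, ∀ x, Nx x =
      N.comap ((MulAut.conjNormal x : MulAut M).toMonoidHom) := ⟨_, fun _ => rfl⟩
  have hmemNx : ∀ (x : P) (k : M), k ∈ Nx x ↔ θ (MulAut.conjNormal x k) = θ 1 := by
    intro x k
    rw [hNx, Subgroup.mem_comap, hmemN]
    rfl
  have hcf := helper24.char_isClassFunction hθ
  -- the intersection over coset representatives is trivial
  have hbot : (⨅ q : P ⧸ M, Nx q.out) = ⊥ := by
    rw [eq_bot_iff]
    intro k hk
    rw [Subgroup.mem_iInf] at hk
    have hall : ∀ x : P, θ (MulAut.conjNormal x k) = θ 1 := by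
      intro x
      obtain ⟨m, hm⟩ := QuotientGroup.mk_out_eq_mul M x
      have h1 := (hmemNx _ k).mp (hk (QuotientGroup.mk x))
      rw [hm] at h1
      -- conjNormal (x * m) k = conjNormal x (m k m⁻¹)
      have h2 : MulAut.conjNormal (x * (m : P)) k =
          (⟨x * m * x⁻¹, hM.conj_mem _ m.2 x⟩ : M) * MulAut.conjNormal x k *
            (⟨x * m * x⁻¹, hM.conj_mem _ m.2 x⟩ : M)⁻¹ := by
        apply Subtype.ext
        rw [MulAut.conjNormal_apply]
        push_cast
        rw [MulAut.conjNormal_apply]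
        group
      rw [h2, hcf] at h1
      exact h1
    have h3 : χ (k : P) = χ 1 := by
      rw [← hind, helper12.indFun_normal_apply M θ k, Finset.sum_congr rfl (fun x _ => hall x),
        helper5.indFun_one, Finset.sum_const, Finset.card_univ, nsmul_eq_mul, ← mul_assoc]
      congr 1
      have h4 := M.card_mul_index
      have hM0 : (Nat.card M : ℂ) ≠ 0 := by exact_mod_cast (Nat.card_pos (α := M)).ne'
      rw [← Nat.card_eq_fintype_card, ← h4]
      push_cast
      field_simp
    have h5 := hfaith _ h3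
    rw [Subgroup.mem_bot]
    exact Subtype.ext h5
  have h6 := Subgroup.index_iInf_le (fun q : P ⧸ M => Nx q.out)
  rw [hbot, Subgroup.index_bot] at h6
  have h7 : ∀ q : P ⧸ M, (Nx q.out).index = N.index := by
    intro q
    rw [hNx]
    exact Subgroup.index_comap_of_surjective N (MulEquiv.surjective _)
  rw [Finset.prod_congr rfl (fun q _ => h7 q), Finset.prod_const, Finset.card_univ,
    ← Nat.card_eq_fintype_card] at h6
  have h8 : Nat.card (P ⧸ M) = p := hidx
  rw [h8] at h6
  exact h6

end Induced

section Step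
variable {P : Type u} [Group P] [Fintype P]

/-- a nonlinear irreducible character of a `p`-group is induced from an irreducible character of a
normal subgroup of index `p` -/
theorem exists_maximal_constituent (p a : ℕ) (hp : p.Prime) (hP : Nat.card P = p ^ a)
    (χ : IrrCharacter P) (hf : charDegree (χ : P → ℂ) ≠ 1) :
    ∃ (M : Subgroup P) (_ : Fintype M) (θ : IrrCharacter M), M.Normal ∧ 0 < a ∧
      Nat.card M = p ^ (a - 1) ∧ M.index = p ∧
      charDegree (χ : P → ℂ) = p * charDegree (θ : M → ℂ) ∧
      classInner (helper5.res M (χ : P → ℂ)) (θ : M → ℂ) ≠ 0 ∧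
      indFun M (θ : M → ℂ) = (χ : P → ℂ) := by
  classical
  haveI : Fact p.Prime := ⟨hp⟩
  have hPG : IsPGroup p P := IsPGroup.of_card hP
  haveI : Group.IsNilpotent P := hPG.isNilpotent
  obtain ⟨H, lam, hχ⟩ := nilpotent_monomial (Nat.card P) P rfl (χ : P → ℂ) χ.2
  have hχc := helper24.irr_isCharacter χ.2
  have hdegH : charDegree (χ : P → ℂ) = H.index := by
    apply helper24.charDegree_natCast
    rw [hχ, helper5.indFun_one]
    simp
  have hHtop : H ≠ ⊤ := by
    intro h
    rw [h, Subgroup.index_top] at hdegH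
    exact hf hdegH
  have ha : 0 < a := by
    rcases Nat.eq_zero_or_pos a with h0 | h0
    · exfalso
      apply hHtop
      rw [h0, pow_zero] at hP
      rw [← Subgroup.card_eq_iff_eq_top, hP]
      exact le_antisymm (hP ▸ Subgroup.card_le_card_group H) Nat.card_pos
    · exact h0
  obtain ⟨n, hn⟩ := (hPG.to_subgroup H).exists_card_eq
  have hna : n ≤ a - 1 := by
    have h1 : Nat.card H ∣ Nat.card P := Subgroup.card_subgroup_dvd_card H
    rw [hn, hP] at h1
    have h2 : n ≤ a := (Nat.pow_dvd_pow_iff_le_right hp.one_lt).mp h1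
    have h3 : n ≠ a := by
      intro h
      apply hHtop
      rw [← Subgroup.card_eq_iff_eq_top, hn, hP, h]
    omega
  have hdvd : p ^ (a - 1) ∣ Nat.card P := by
    rw [hP]
    exact pow_dvd_pow p (Nat.sub_le a 1)
  obtain ⟨M, hMcard, hHM⟩ := Sylow.exists_subgroup_card_pow_prime_le p hdvd H hn hna
  have hMidx : M.index = p := by
    have h1 := M.card_mul_index
    rw [hMcard, hP] at h1
    have h2 : p ^ (a - 1) * p = p ^ a := by
      rw [← pow_succ]
      congr 1
      omega
    rw [← h2] at h1
    exact Nat.eq_of_mul_eq_mul_left (pow_pos hp.pos _) h1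
  haveI hMn : M.Normal := by
    apply Subgroup.normal_of_index_eq_minFac_card
    rw [hMidx, hP, Nat.pow_minFac ha.ne', hp.minFac_eq]
  haveI hMfin : Fintype M := Fintype.ofFinite _
  have hvan : ∀ g : P, g ∉ M → (χ : P → ℂ) g = 0 := by
    intro g hg
    rw [hχ]
    exact indFun_vanish_off H M hHM _ hg
  have hnorm := norm_res_of_vanish M hvan
  rw [helper24.irr_classInner_self χ.2, mul_one, hMidx] at hnorm
  have hres := helper5.isCharacter_res M hχc
  have hres1 : helper5.res M (χ : P → ℂ) 1 ≠ 0 := by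
    rw [helper5.res_apply]
    exact helper24.irr_apply_one_ne_zero χ.2
  obtain ⟨θ, hθc⟩ := exists_constituent_of_char hres hres1
  have hθchar := helper24.irr_isCharacter θ.2
  -- degrees
  have hdf := sum_degree_constituents_le hres {θ} (by
    intro ψ hψ
    rw [Finset.mem_singleton] at hψ
    rw [hψ]
    exact hθc)
  rw [Finset.sum_singleton, Finset.sum_singleton] at hdf
  have hresdeg : charDegree (helper5.res M (χ : P → ℂ)) = charDegree (χ : P → ℂ) := rfl
  rw [hresdeg] at hdf
  have hind := helper12.isCharacter_indFun M hθchar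
  have hinddeg : charDegree (indFun M (θ : M → ℂ)) = p * charDegree (θ : M → ℂ) := by
    apply helper24.charDegree_natCast
    rw [helper5.indFun_one, hMidx, ← helper24.char_charDegree_cast hθchar]
    push_cast
    rfl
  have hindc : classInner (indFun M (θ : M → ℂ)) (χ : P → ℂ) ≠ 0 := by
    rw [helper5.classInner_indFun_irr M _ hχc, ← helper24.classInner_conj_symm]
    intro h
    exact hθc ((map_eq_zero _).mp h)
  have hfd := (sum_degree_constituents_le hind {χ} (by
    intro ψ hψ
    rw [Finset.mem_singleton] at hψ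
    rw [hψ]
    exact hindc)).1
  rw [Finset.sum_singleton, hinddeg] at hfd
  -- both degrees are powers of `p`
  have hfdvd : charDegree (χ : P → ℂ) ∣ p ^ a := by
    have h1 := helper24.ito_degree_dvd_index (⊥ : Subgroup P) (fun a ha b hb => by
      rw [Subgroup.mem_bot] at ha hb
      rw [ha, hb]) χ
    rwa [Subgroup.index_bot, hP] at h1
  have hddvd : charDegree (θ : M → ℂ) ∣ p ^ (a - 1) := by
    have h1 := helper24.ito_degree_dvd_index (⊥ : Subgroup M) (fun a ha b hb => by
      rw [Subgroup.mem_bot] at ha hb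
      rw [ha, hb]) θ
    rwa [Subgroup.index_bot, hMcard] at h1
  obtain ⟨j, -, hj⟩ := (Nat.dvd_prime_pow hp).mp hfdvd
  obtain ⟨i, -, hi⟩ := (Nat.dvd_prime_pow hp).mp hddvd
  have hij : i ≤ j := by
    have h1 := hdf.1
    rw [hi, hj] at h1
    exact (Nat.pow_le_pow_iff_right hp.one_lt).mp h1
  have hji : j ≤ i + 1 := by
    rw [hi, hj, ← pow_succ'] at hfd
    exact (Nat.pow_le_pow_iff_right hp.one_lt).mp hfd
  have hne : j ≠ i := by
    intro h
    have h1 : charDegree (θ : M → ℂ) = charDegree (χ : P → ℂ) := by rw [hi, hj, h]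
    have h2 := hdf.2 h1
    rw [h2, helper24.irr_classInner_self θ.2] at hnorm
    have h3 : (1 : ℕ) = p := by exact_mod_cast hnorm
    exact hp.one_lt.ne h3
  have hfeq : charDegree (χ : P → ℂ) = p * charDegree (θ : M → ℂ) := by
    have h1 : j = i + 1 := by omega
    rw [hi, hj, h1, pow_succ']
  refine ⟨M, hMfin, θ, hMn, ha, hMcard, hMidx, hfeq, hθc, ?_⟩
  apply indFun_eq_of_degree M χ.2 hθchar hθc
  rw [hMidx]
  exact hfeq

theorem fov_arith0 (s a a' d' t : ℕ) (h1 : a ≤ 1 + (s + 1) * a')
    (h2 : s * a' ≤ d' + s * (t + 1) * (d' + 1)) :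
    s * a ≤ (s * d' + s + d') + s * (t + 1) * ((s + 1) * (d' + 1)) := by
  have h3 := Nat.mul_le_mul_left s h1
  have h4 := Nat.mul_le_mul_left (s + 1) h2
  nlinarith

theorem fov_arith1 (s b d' t : ℕ) (hs : 1 ≤ s) (h2 : s * b ≤ d' + s * (t + 2) * (d' + 1)) :
    s * (b + 1) ≤ (s * d' + s + d') + s * (t + 1) * ((s + 1) * (d' + 1)) := by
  obtain ⟨q, rfl⟩ : ∃ q, s = q + 1 := ⟨s - 1, by omega⟩
  have key : d' + (q + 1) * (t + 2) * (d' + 1) + (q + 1) +
      ((q + 1) * d' + (q + 1) * (d' + 1) * (t * (q + 1) + q)) =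
      ((q + 1) * d' + (q + 1) + d') + (q + 1) * (t + 1) * ((q + 1 + 1) * (d' + 1)) := by ring
  have h3 : (q + 1) * (b + 1) = (q + 1) * b + (q + 1) := by ring
  omega

theorem fov_arith_triv (s f t : ℕ) (hf : 1 ≤ f) : s * 1 ≤ (f - 1) + s * (t + 1) * f := by
  have h1 : s * 1 ≤ s * (t + 1) * f :=
    Nat.mul_le_mul (Nat.le_mul_of_pos_right s (Nat.succ_pos t)) hf
  omega

end Step

section Main

/-- **Order bound for `p`-groups with a faithful irreducible character**, in terms of the degree
and of the degree of the field of values. -/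
theorem fov_order_bound : ∀ (a : ℕ) (P : Type u) [Group P] [Fintype P] (p : ℕ), p.Prime → 0 < a →
    Nat.card P = p ^ a → ∀ χ : IrrCharacter P,
    (∀ g : P, (χ : P → ℂ) g = (χ : P → ℂ) 1 → g = 1) →
    ∀ t : ℕ, Module.finrank ℚ (fov (χ : P → ℂ)) = (p - 1) * p ^ t →
      (p - 1) * a ≤ (charDegree (χ : P → ℂ) - 1) +
        (p - 1) * (t + 1) * charDegree (χ : P → ℂ) := by
  intro a
  induction a using Nat.strong_induction_on with
  | _ a ih =>
    intro P _ _ p hp ha hP χ hfaith t hfield
    classical
    have hχc := helper24.irr_isCharacter χ.2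
    have hp1 : 0 < p - 1 := Nat.sub_pos_of_lt hp.one_lt
    have hf0 : 1 ≤ charDegree (χ : P → ℂ) := helper24.irr_charDegree_pos χ.2
    by_cases hf : charDegree (χ : P → ℂ) = 1
    · have h1 : (χ : P → ℂ) 1 = 1 := by
        rw [← helper24.char_charDegree_cast hχc, hf, Nat.cast_one]
      have h2 := fov_linear_bound p a hp ha hP (χ : P → ℂ) hχc h1 hfaith t hfield
      rw [hf]
      have h3 := Nat.mul_le_mul_left (p - 1) h2
      simpa using h3
    · obtain ⟨M, hMfin, θ, hMn, -, hMcard, hMidx, hfeq, hθc, hind⟩ :=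
        exists_maximal_constituent p a hp hP χ hf
      haveI := hMn
      have hθchar := helper24.irr_isCharacter θ.2
      have hd0 : 0 < charDegree (θ : M → ℂ) := helper24.irr_charDegree_pos θ.2
      have hEL : fov (χ : P → ℂ) ≤ fov (θ : M → ℂ) := by
        rw [← hind]
        exact fov_indFun_le M _
      obtain ⟨hle, heq⟩ := finrank_fov_le M p χ.2 θ.2 hθc hfeq hEL
      have hdvd1 : Module.finrank ℚ (fov (χ : P → ℂ)) ∣ Module.finrank ℚ (fov (θ : M → ℂ)) :=
        IntermediateField.finrank_dvd_of_le_right hEL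
      have hdvd2 : Module.finrank ℚ (fov (θ : M → ℂ)) ∣ (p - 1) * p ^ (a - 1) := by
        have h1 := IntermediateField.finrank_dvd_of_le_right (fov_le_cycField hθchar)
        rw [finrank_cycField _ Nat.card_pos, hMcard] at h1
        apply h1.trans
        rcases Nat.eq_zero_or_pos (a - 1) with h0 | h0
        · rw [h0, pow_zero, Nat.totient_one]
          exact one_dvd _
        · rw [Nat.totient_prime_pow hp h0, mul_comm]
          exact Nat.mul_dvd_mul_left _ (pow_dvd_pow p (Nat.sub_le _ 1))
      rw [hfield] at hdvd1 hle heq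
      obtain ⟨c, hc⟩ := hdvd1
      have he0 : 0 < (p - 1) * p ^ t := Nat.mul_pos hp1 (pow_pos hp.pos t)
      have hcdvd : c ∣ p ^ (a - 1) := by
        rw [hc, mul_assoc] at hdvd2
        exact dvd_of_mul_left_dvd (Nat.dvd_of_mul_dvd_mul_left hp1 hdvd2)
      obtain ⟨j, -, hj⟩ := (Nat.dvd_prime_pow hp).mp hcdvd
      have hcp : c ≤ p := by
        rw [hc, mul_comm p] at hle
        exact Nat.le_of_mul_le_mul_left hle he0
      have hj1 : j ≤ 1 := by
        rw [hj] at hcp
        have h1 : p ^ j ≤ p ^ 1 := by rw [pow_one]; exact hcp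
        exact (Nat.pow_le_pow_iff_right hp.one_lt).mp h1
      have hfieldθ : Module.finrank ℚ (fov (θ : M → ℂ)) = (p - 1) * p ^ (t + j) := by
        rw [hc, hj, pow_add, mul_assoc]
      -- the quotient by the kernel of `θ`
      obtain ⟨N, hN⟩ : ∃ N : Subgroup M, N = helper24.charKer hθchar := ⟨_, rfl⟩
      haveI hNn : N.Normal := hN ▸ helper24.charKer_normal hθchar
      have hmemN : ∀ k : M, k ∈ N ↔ (θ : M → ℂ) k = (θ : M → ℂ) 1 := by
        intro k
        rw [hN]
        exact helper24.mem_charKer hθchar k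
      obtain ⟨θ', hθ', hθeq⟩ := helper24.irr_deflation N θ.2 (fun n hn => (hmemN n).mp hn)
      have hθval : ∀ m : M, θ' (QuotientGroup.mk m) = (θ : M → ℂ) m := by
        intro m
        rw [hθeq]
        rfl
      have hfaith' : ∀ q : M ⧸ N, θ' q = θ' 1 → q = 1 := by
        intro q hq
        obtain ⟨m, rfl⟩ := QuotientGroup.mk_surjective q
        have h1 : θ' (1 : M ⧸ N) = (θ : M → ℂ) 1 := hθval 1
        rw [hθval, h1] at hq
        exact (QuotientGroup.eq_one_iff m).mpr ((hmemN m).mpr hq)
      have hfov' : fov θ' = fov (θ : M → ℂ) := by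
        unfold fov
        congr 1
        rw [hθeq]
        exact (Function.Surjective.range_comp QuotientGroup.mk_surjective θ').symm
      have hdeg' : charDegree θ' = charDegree (θ : M → ℂ) := by
        unfold charDegree
        rw [← hθval 1]
        rfl
      have hNdvd : N.index ∣ p ^ (a - 1) := hMcard ▸ Subgroup.index_dvd_card N
      obtain ⟨a', ha'le, ha'⟩ := (Nat.dvd_prime_pow hp).mp hNdvd
      have hQcard : Nat.card (M ⧸ N) = p ^ a' := by
        rw [← ha']
        rfl
      haveI : Fintype (M ⧸ N) := Fintype.ofFinite _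
      -- relation between `a` and `a'`
      have hrel : (j = 0 ∧ a ≤ 1 + p * a') ∨ (j = 1 ∧ a = a' + 1) := by
        rcases Nat.eq_zero_or_pos j with h0 | h0
        · left
          refine ⟨h0, ?_⟩
          have h1 := card_le_index_ker_pow p M hMidx hfaith hθchar hind
          rw [← hN, ha', hMcard, ← pow_mul] at h1
          have h2 := (Nat.pow_le_pow_iff_right hp.one_lt).mp h1
          rw [mul_comm] at h2
          omega
        · right
          have hj' : j = 1 := by omega
          refine ⟨hj', ?_⟩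
          have h1 : Module.finrank ℚ (fov (θ : M → ℂ)) = p * ((p - 1) * p ^ t) := by
            rw [hfieldθ, hj', pow_succ]
            ring
          have hker := heq h1
          have hNbot : N = ⊥ := by
            rw [eq_bot_iff]
            intro k hk
            rw [Subgroup.mem_bot]
            exact Subtype.ext (hfaith _ (hker k ((hmemN k).mp hk)))
          rw [hNbot, Subgroup.index_bot, hMcard] at ha'
          have h2 := Nat.pow_right_injective hp.two_le ha'
          omega
      rcases Nat.eq_zero_or_pos a' with h0 | h0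
      · -- then `a = 1`
        have ha1 : a = 1 := by
          rcases hrel with ⟨-, h⟩ | ⟨-, h⟩
          · rw [h0, mul_zero] at h
            omega
          · omega
        rw [ha1]
        exact fov_arith_triv (p - 1) _ t hf0
      · have ha'lt : a' < a := by omega
        have hIH := ih a' ha'lt (M ⧸ N) p hp h0 hQcard ⟨θ', hθ'⟩ hfaith' (t + j)
          (by rw [hfov']; exact hfieldθ)
        rw [show ((⟨θ', hθ'⟩ : IrrCharacter (M ⧸ N)) : M ⧸ N → ℂ) = θ' from rfl, hdeg'] at hIH
        obtain ⟨s, hs⟩ : ∃ s, p = s + 1 := ⟨p - 1, by omega⟩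
        obtain ⟨d', hd'⟩ : ∃ d', charDegree (θ : M → ℂ) = d' + 1 :=
          ⟨charDegree (θ : M → ℂ) - 1, by omega⟩
        rw [hfeq, hd', hs, Nat.add_sub_cancel]
        rw [hd', hs, Nat.add_sub_cancel, Nat.add_sub_cancel] at hIH
        have hf1 : (s + 1) * (d' + 1) - 1 = s * d' + s + d' := by
          have h1 : (s + 1) * (d' + 1) = s * d' + s + d' + 1 := by ring
          omega
        rw [hf1]
        rcases hrel with ⟨hj0, h⟩ | ⟨hj1', h⟩
        · rw [hj0, add_zero] at hIH
          rw [hs] at h
          exact fov_arith0 s a a' d' t h hIH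
        · rw [hj1'] at hIH
          rw [h]
          have hs1 : 1 ≤ s := by
            have := hp.two_le
            omega
          exact fov_arith1 s a' d' t hs1 hIH

theorem fov_order_bound' {P : Type u} [Group P] [Finite P] (p a : ℕ) (hp : p.Prime) (ha : 0 < a)
    (hP : Nat.card P = p ^ a) (χ : IrrCharacter P)
    (hfaith : ∀ g : P, (χ : P → ℂ) g = (χ : P → ℂ) 1 → g = 1) (f t : ℕ)
    (hf : charDegree (χ : P → ℂ) = f)
    (hfield : Module.finrank ℚ (IntermediateField.adjoin ℚ (Set.range (χ : P → ℂ))) =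
      (p - 1) * p ^ t) : (p - 1) * a ≤ (f - 1) + (p - 1) * (t + 1) * f := by
  haveI := Fintype.ofFinite P
  rw [← hf]
  exact fov_order_bound a P p hp ha hP χ hfaith t hfield

end Main

end Cfsg.Agent.helper22
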