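import Mathlib
import Cfsg.Agent.Lib_helper22_GalDegB

set_option autoImplicit false
set_option linter.unusedSectionVars false
set_option linter.unusedVariables false
set_option linter.style.haveILetI false

/-!
Counting lemmas for S4845 (helper22): the forward direction.
-/

namespace Cfsg.Agent.helper22

open Cfsg
open scoped ComplexConjugate

universe u

/-- irreducible characters of the same nonlinear degree are Galois conjugate -/
def GalConj (G : Type u) [Group G] : Prop :=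
  ∀ χ ψ : IrrCharacter G, charDegree (χ : G → ℂ) ≠ 1 →
    charDegree (χ : G → ℂ) = charDegree (ψ : G → ℂ) →
    ∃ k : ℕ, Nat.Coprime k (Nat.card G) ∧ ∀ g : G, (ψ : G → ℂ) g = (χ : G → ℂ) (g ^ k)

theorem gd_count_aux {ι : Type*} [DecidableEq ι] (s : Finset ι) (deg : ι → ℕ) (p n₁ A : ℕ)
    (jf : ι → ℕ)
    (hdeg : ∀ i ∈ s, deg i = p ^ jf i) (hlt : ∀ i ∈ s, jf i < n₁)
    (hfib : ∀ j, (s.filter (fun i => jf i = j)).card ≤ A) :
    ∑ i ∈ s, deg i ^ 2 ≤ A * ∑ j ∈ Finset.range n₁, p ^ (2 * j) := by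
  rw [← Finset.sum_fiberwise_of_maps_to (g := jf) (t := Finset.range n₁)
    (fun i hi => Finset.mem_range.mpr (hlt i hi)), Finset.mul_sum]
  apply Finset.sum_le_sum
  intro j _
  have h1 : ∀ i ∈ s.filter (fun i => jf i = j), deg i ^ 2 = p ^ (2 * j) := by
    intro i hi
    rw [Finset.mem_filter] at hi
    rw [hdeg i hi.1, hi.2, ← pow_mul, mul_comm]
  rw [Finset.sum_congr rfl h1, Finset.sum_const, smul_eq_mul]
  exact Nat.mul_le_mul_right _ (hfib j)

theorem gd_arith (p n₁ ρ : ℕ) (hp : 2 ≤ p) :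
    p ^ (2 * n₁ + ρ) + (p ^ (ρ + 1) * (p - 1)) * ∑ j ∈ Finset.range n₁, p ^ (2 * j) <
      p * p ^ (2 * n₁ + ρ) := by
  have hS1 : ∑ j ∈ Finset.range n₁, p ^ (2 * j + 1) < p ^ (2 * n₁) := by
    have h1 : ∑ j ∈ Finset.range n₁, p ^ (2 * j + 1) =
        ∑ k ∈ (Finset.range n₁).image (fun j => 2 * j + 1), p ^ k := by
      rw [Finset.sum_image]
      intro a _ b _ hab
      simp only at hab
      omega
    rw [h1]
    apply Nat.geomSum_lt hp
    intro k hk
    rw [Finset.mem_image] at hk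
    obtain ⟨j, hj, rfl⟩ := hk
    rw [Finset.mem_range] at hj
    omega
  have h2 : p * ∑ j ∈ Finset.range n₁, p ^ (2 * j) = ∑ j ∈ Finset.range n₁, p ^ (2 * j + 1) := by
    rw [Finset.mul_sum]
    apply Finset.sum_congr rfl
    intro j _
    rw [pow_succ, mul_comm]
  have h3 : (p ^ (ρ + 1) * (p - 1)) * ∑ j ∈ Finset.range n₁, p ^ (2 * j) =
      p ^ ρ * (p - 1) * ∑ j ∈ Finset.range n₁, p ^ (2 * j + 1) := by
    rw [← h2, pow_succ]
    ring
  rw [h3]
  have hpos : 0 < p ^ ρ * (p - 1) := Nat.mul_pos (pow_pos (by omega) _) (by omega)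
  have h4 : p ^ ρ * (p - 1) * ∑ j ∈ Finset.range n₁, p ^ (2 * j + 1) <
      p ^ ρ * (p - 1) * p ^ (2 * n₁) := Nat.mul_lt_mul_of_pos_left hS1 hpos
  have h5 : p ^ (2 * n₁ + ρ) + p ^ ρ * (p - 1) * p ^ (2 * n₁) = p * p ^ (2 * n₁ + ρ) := by
    obtain ⟨q, rfl⟩ : ∃ q, p = q + 1 := ⟨p - 1, by omega⟩
    simp only [Nat.add_sub_cancel]
    rw [pow_add]
    ring
  omega

section CH
variable {G : Type u} [Group G] [Finite G]

/-- Galois conjugacy passes to quotients -/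
theorem gd_quot (hGC : GalConj G) (N : Subgroup G) [N.Normal] : GalConj (G ⧸ N) := by
  intro χ ψ h1 hdeg
  have h1' : charDegree (((helper24.inflEquiv N χ).1 : IrrCharacter G) : G → ℂ) ≠ 1 := by
    rw [helper24.inflEquiv_degree]; exact h1
  have hdeg' : charDegree (((helper24.inflEquiv N χ).1 : IrrCharacter G) : G → ℂ) =
      charDegree (((helper24.inflEquiv N ψ).1 : IrrCharacter G) : G → ℂ) := by
    rw [helper24.inflEquiv_degree, helper24.inflEquiv_degree]; exact hdeg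
  obtain ⟨k, hk, hkg⟩ := hGC _ _ h1' hdeg'
  refine ⟨k, ?_, ?_⟩
  · apply Nat.Coprime.coprime_dvd_right _ hk
    rw [← Subgroup.index_eq_card]
    exact Subgroup.index_dvd_card N
  · intro q
    obtain ⟨g, rfl⟩ := QuotientGroup.mk_surjective q
    have h2 := hkg g
    rw [helper24.inflEquiv_apply, helper24.inflEquiv_apply, QuotientGroup.mk_pow] at h2
    exact h2

/-- fibres of the degree map have at most `φ(E)` elements -/
theorem gd_fibre_card_le (hGC : GalConj G) (p e : ℕ) (hp : p.Prime) (he : 0 < e)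
    (hE : ∀ g : G, g ^ (p ^ e) = 1) (hpG : p ∣ Nat.card G)
    (F : Finset (IrrCharacter G)) (d : ℕ) (hd1 : d ≠ 1)
    (hF : ∀ φ ∈ F, charDegree (φ : G → ℂ) = d) : F.card ≤ Nat.totient (p ^ e) := by
  classical
  rcases F.eq_empty_or_nonempty with h | ⟨φ₀, hφ₀⟩
  · rw [h, Finset.card_empty]; exact Nat.zero_le _
  have hex : ∀ φ ∈ F, ∃ k : ℕ, Nat.Coprime k (Nat.card G) ∧
      ∀ g : G, (φ : G → ℂ) g = (φ₀ : G → ℂ) (g ^ k) := by
    intro φ hφ
    exact hGC φ₀ φ (by rw [hF φ₀ hφ₀]; exact hd1) (by rw [hF φ₀ hφ₀, hF φ hφ])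
  obtain ⟨m, hm⟩ : ∃ m : IrrCharacter G → ℕ, ∀ φ ∈ F, Nat.Coprime (m φ) (Nat.card G) ∧
      ∀ g : G, (φ : G → ℂ) g = (φ₀ : G → ℂ) (g ^ (m φ)) := by
    refine ⟨fun φ => if h : φ ∈ F then (hex φ h).choose else 0, ?_⟩
    intro φ hφ
    simp only [dif_pos hφ]
    exact (hex φ hφ).choose_spec
  rw [Nat.totient_eq_card_coprime]
  apply Finset.card_le_card_of_injOn (fun φ => m φ % p ^ e)
  · intro φ hφ
    rw [Finset.coe_filter, Set.mem_setOf_eq, Finset.mem_range]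
    have hφ' : φ ∈ F := hφ
    refine ⟨Nat.mod_lt _ (pow_pos hp.pos _), ?_⟩
    apply Nat.Coprime.pow_left
    rw [Nat.Prime.coprime_iff_not_dvd hp]
    intro hdvd
    have h1 : p ∣ m φ := by
      have h2 : m φ % p ^ e % p = m φ % p := Nat.mod_mod_of_dvd _ (dvd_pow_self p he.ne')
      rw [Nat.dvd_iff_mod_eq_zero] at hdvd ⊢
      rw [← h2, hdvd]
    have h3 := (hm φ hφ').1
    have h4 : p ∣ Nat.gcd (m φ) (Nat.card G) := Nat.dvd_gcd h1 hpG
    rw [h3] at h4
    exact hp.one_lt.ne' (Nat.dvd_one.mp h4)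
  · intro φ hφ φ' hφ' heq
    have hφF : φ ∈ F := hφ
    have hφF' : φ' ∈ F := hφ'
    simp only at heq
    apply Subtype.ext
    funext g
    rw [(hm φ hφF).2 g, (hm φ' hφF').2 g, pow_eq_pow_mod (m φ) (hE g),
      pow_eq_pow_mod (m φ') (hE g), heq]

end CH

end Cfsg.Agent.helper22
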