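import Mathlib
import Cfsg.Agent.Lib_helper22_GalDegC

set_option autoImplicit false
set_option linter.unusedSectionVars false
set_option linter.unusedVariables false
set_option linter.style.haveILetI false

/-!
The forward direction of S4845 (helper22).
-/

namespace Cfsg.Agent.helper22

open Cfsg
open scoped ComplexConjugate

universe u

section CH
variable {G : Type u} [Group G] [Finite G]

/-- Case 1: `|G'| = p` forces a cyclic centre -/
theorem gd_cyclic_center {p : ℕ} [hp : Fact p.Prime] (hG : IsPGroup p G) (hGC : GalConj G)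
    (hc : Nat.card (commutator G) = p) (hna : ∃ a b : G, a * b ≠ b * a) :
    IsCyclic (Subgroup.center G) := by
  obtain ⟨χ, h1⟩ := exists_degree_ne_one hna
  have h0 := helper24.irr_apply_one_ne_zero χ.2
  have hchar := helper24.irr_isCharacter χ.2
  have hf : ∀ z ∈ Subgroup.center G, (χ : G → ℂ) z = (χ : G → ℂ) 1 → z = 1 := by
    intro z hz hz1
    by_contra hne
    have hzk : z ∈ helper24.charKer hchar := (helper24.mem_charKer hchar z).mpr hz1
    by_cases hzc : z ∈ commutator G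
    · have h2 := gd_le_zpowers_of_prime_card hp.out _ hc hzc hne
      have h3 : Subgroup.zpowers z ≤ helper24.charKer hchar := (Subgroup.zpowers_le).mpr hzk
      obtain ⟨c, hcm, hcne⟩ := gd_exists_commutator_ne χ.2 h1
      exact hcne ((helper24.mem_charKer hchar c).mp (h3 (h2 hcm)))
    · obtain ⟨ν, hν⟩ := gd_exists_hom_ne_one hzc
      obtain ⟨k, hk, hkg⟩ := hGC χ (ν • χ) h1 (twist_degree ν χ).symm
      have h2 := hkg z
      rw [twist_apply] at h2
      have h3 : z ^ k ∈ helper24.charKer hchar := Subgroup.pow_mem _ hzk k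
      rw [(helper24.mem_charKer hchar _).mp h3, hz1] at h2
      apply hν
      apply Units.ext
      rw [Units.val_one]
      have h4 : (((ν z : ℂˣ) : ℂ) - 1) * (χ : G → ℂ) 1 = 0 := by
        rw [sub_mul, one_mul, h2, sub_self]
      rcases mul_eq_zero.mp h4 with h5 | h5
      · exact sub_eq_zero.mp h5
      · exact absurd h5 h0
  have hinj : Function.Injective (gdCentHom χ.2) := by
    rw [injective_iff_map_eq_one]
    intro z hz
    rw [gdCentHom_apply] at hz
    have h2 : (χ : G → ℂ) (z : G) = (χ : G → ℂ) 1 := by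
      field_simp at hz
      exact hz
    apply Subtype.ext
    exact hf _ z.2 h2
  exact isCyclic_of_injective_ringHom (gdCentHom χ.2) hinj

/-- Case 2: `|G'| ≠ p` is impossible when `G / M` has cyclic centre and derived subgroup of
order `p` -/
theorem gd_case2_false {p : ℕ} [hp : Fact p.Prime] (hG : IsPGroup p G) (hGC : GalConj G)
    (M : Subgroup G) [M.Normal] (hMcomm : M ≤ commutator G) (hMc : M ≤ Subgroup.center G)
    (hM : Nat.card M = p) (hcycQ : IsCyclic (Subgroup.center (G ⧸ M)))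
    (hcQ : Nat.card (commutator (G ⧸ M)) = p) : False := by
  classical
  haveI := Fintype.ofFinite (IrrCharacter G)
  have hp2 : 2 ≤ p := hp.out.two_le
  have hQp : IsPGroup p (G ⧸ M) := hG.to_quotient M
  have hcommQ := gd_commutator_le_center hQp hcQ
  have hnaQ : ∃ a b : G ⧸ M, a * b ≠ b * a := by
    by_contra hcon
    push Not at hcon
    have h1 : commutator (G ⧸ M) = ⊥ := by
      rw [commutator_def, Subgroup.commutator_eq_bot_iff_le_centralizer]
      intro x _ y _
      exact hcon y x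
    rw [h1, Subgroup.card_bot] at hcQ
    omega
  obtain ⟨χb, hχb⟩ := exists_degree_ne_one hnaQ
  have hd1 := gd_deg_sq hQp hcycQ hcQ χb.2 hχb
  have hcardG : Nat.card G = p * Nat.card (G ⧸ M) := by
    have h3 := Subgroup.card_mul_index M
    rw [Subgroup.index_eq_card, hM] at h3
    exact h3.symm
  obtain ⟨N, hN⟩ := IsPGroup.iff_card.mp hG
  obtain ⟨ρ, hρ⟩ := IsPGroup.iff_card.mp (hQp.to_subgroup (Subgroup.center (G ⧸ M)))
  have hpow : ∀ φ : IrrCharacter G, ∃ j, charDegree (φ : G → ℂ) = p ^ j := by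
    intro φ
    have h1 := helper24.ito_degree_dvd_index (⊥ : Subgroup G) (by
      intro a ha b hb
      rw [Subgroup.mem_bot] at ha hb
      rw [ha, hb]) φ
    rw [Subgroup.index_bot, hN] at h1
    obtain ⟨j, _, hj⟩ := (Nat.dvd_prime_pow hp.out).mp h1
    exact ⟨j, hj⟩
  obtain ⟨χ₁, hχ₁⟩ : ∃ χ₁ : {χ : IrrCharacter G // ∀ n ∈ M, (χ : G → ℂ) n = (χ : G → ℂ) 1},
      χ₁ = helper24.inflEquiv M χb := ⟨_, rfl⟩
  have hχ₁deg : charDegree ((χ₁.1 : IrrCharacter G) : G → ℂ) =
      charDegree (χb : G ⧸ M → ℂ) := by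
    rw [hχ₁]; exact helper24.inflEquiv_degree M χb
  obtain ⟨n₁, hn₁⟩ := hpow χ₁.1
  have hd1' : (p ^ n₁) ^ 2 * p ^ ρ = Nat.card (G ⧸ M) := by
    rw [← hn₁, hχ₁deg, ← hρ]; exact hd1
  obtain ⟨SB, hSB⟩ : ∃ SB : Finset (IrrCharacter G), SB = Finset.univ.filter
      (fun φ : IrrCharacter G => ¬ ∀ n ∈ M, (φ : G → ℂ) n = (φ : G → ℂ) 1) := ⟨_, rfl⟩
  obtain ⟨jf, hjf⟩ : ∃ jf : IrrCharacter G → ℕ,
      ∀ φ : IrrCharacter G, charDegree (φ : G → ℂ) = p ^ jf φ :=
    ⟨fun φ => (hpow φ).choose, fun φ => (hpow φ).choose_spec⟩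
  have hmemSB : ∀ φ ∈ SB, ¬ ∀ n ∈ M, (φ : G → ℂ) n = (φ : G → ℂ) 1 := by
    intro φ hφ
    rw [hSB, Finset.mem_filter] at hφ
    exact hφ.2
  have hB2 : ∀ φ ∈ SB, jf φ ≠ n₁ := by
    intro φ hφ hj
    apply hmemSB φ hφ
    have hdeg : charDegree ((χ₁.1 : IrrCharacter G) : G → ℂ) = charDegree (φ : G → ℂ) := by
      rw [hn₁, hjf φ, hj]
    obtain ⟨k, hk, hkg⟩ := hGC χ₁.1 φ (by rw [hχ₁deg]; exact hχb) hdeg
    intro m hm
    rw [hkg m, hkg 1, one_pow, χ₁.2 _ (Subgroup.pow_mem M hm k)]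
  have hB1 : ∀ φ ∈ SB, charDegree (φ : G → ℂ) ≠ 1 := by
    intro φ hφ h1
    apply hmemSB φ hφ
    have h2 : (φ : G → ℂ) 1 = 1 := by
      rw [← helper24.char_charDegree_cast (helper24.irr_isCharacter φ.2), h1, Nat.cast_one]
    intro m hm
    exact helper24.commutator_le_ker_of_degree_one φ h2 m (hMcomm hm)
  have hr := gd_card_center_le hp.out M hMc hM hcycQ
  have hB4 : ∀ φ : IrrCharacter G, jf φ ≤ n₁ := by
    intro φ
    have h1 := (gd_sq_mul_card_center_le φ.2).1
    have h2 : charDegree (φ : G → ℂ) ^ 2 * p ^ ρ ≤ p * ((p ^ n₁) ^ 2 * p ^ ρ) := by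
      calc charDegree (φ : G → ℂ) ^ 2 * p ^ ρ
          ≤ charDegree (φ : G → ℂ) ^ 2 * Nat.card (Subgroup.center G) := by
            rw [← hρ]; exact Nat.mul_le_mul_left _ hr
        _ ≤ Nat.card G := h1
        _ = p * ((p ^ n₁) ^ 2 * p ^ ρ) := by rw [hcardG, hd1']
    rw [hjf φ] at h2
    have h3 : p ^ (2 * jf φ + ρ) ≤ p ^ (2 * n₁ + 1 + ρ) := by
      calc p ^ (2 * jf φ + ρ) = (p ^ jf φ) ^ 2 * p ^ ρ := by
            rw [pow_add, ← pow_mul, mul_comm 2]
        _ ≤ p * ((p ^ n₁) ^ 2 * p ^ ρ) := h2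
        _ = p ^ (2 * n₁ + 1 + ρ) := by ring
    have h4 := (Nat.pow_le_pow_iff_right hp.out.one_lt).mp h3
    omega
  have hE : ∀ g : G, g ^ (p ^ (ρ + 2)) = 1 := by
    intro g
    have h1 := gd_pow_eq_one hp.out M hM hcommQ hcQ g
    rw [hρ] at h1
    have h2 : p * p ^ ρ * p = p ^ (ρ + 2) := by ring
    rw [h2] at h1
    exact h1
  have hpG : p ∣ Nat.card G := by rw [hcardG]; exact dvd_mul_right _ _
  have hfib : ∀ j, (SB.filter (fun φ => jf φ = j)).card ≤ p ^ (ρ + 1) * (p - 1) := by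
    intro j
    by_cases hj : (SB.filter (fun φ => jf φ = j)) = ∅
    · rw [hj, Finset.card_empty]; exact Nat.zero_le _
    have hd : p ^ j ≠ 1 := by
      obtain ⟨φ, hφ⟩ := Finset.nonempty_iff_ne_empty.mpr hj
      rw [Finset.mem_filter] at hφ
      have h2 := hB1 φ hφ.1
      rw [hjf φ, hφ.2] at h2
      exact h2
    have h1 := gd_fibre_card_le hGC p (ρ + 2) hp.out (by omega) hE hpG
      (SB.filter (fun φ => jf φ = j)) (p ^ j) hd (by
        intro φ hφ
        rw [Finset.mem_filter] at hφ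
        rw [hjf φ, hφ.2])
    rw [Nat.totient_prime_pow hp.out (by omega)] at h1
    exact h1
  have hsumB := gd_count_aux SB (fun φ => charDegree (φ : G → ℂ)) p n₁
    (p ^ (ρ + 1) * (p - 1)) jf
    (fun φ _ => hjf φ) (fun φ hφ => lt_of_le_of_ne (hB4 φ) (hB2 φ hφ)) hfib
  have hsumAll : ∑ φ : IrrCharacter G, charDegree (φ : G → ℂ) ^ 2 = Nat.card G :=
    helper24.sum_irr_degree_sq
  have hsumA := helper24.sum_degree_sq_ker (G := G) M
  rw [Subgroup.index_eq_card] at hsumA
  have hsplit := Finset.sum_filter_add_sum_filter_not Finset.univ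
    (fun φ : IrrCharacter G => ∀ n ∈ M, (φ : G → ℂ) n = (φ : G → ℂ) 1)
    (fun φ => charDegree (φ : G → ℂ) ^ 2)
  rw [hsumAll, hsumA, ← hSB] at hsplit
  have h5 := gd_arith p n₁ ρ hp2
  have h6 : Nat.card (G ⧸ M) = p ^ (2 * n₁ + ρ) := by
    rw [← hd1']; ring
  rw [hcardG, h6] at hsplit
  have h7 : ∑ x ∈ SB, (fun φ : IrrCharacter G => charDegree (φ : G → ℂ)) x ^ 2 =
      ∑ x ∈ SB, charDegree (x : G → ℂ) ^ 2 := rfl
  rw [h7] at hsumB
  generalize (∑ x ∈ SB, charDegree (x : G → ℂ) ^ 2) = s1 at hsplit hsumB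
  generalize (p ^ (ρ + 1) * (p - 1) * ∑ j ∈ Finset.range n₁, p ^ (2 * j)) = s2 at h5 hsumB
  generalize p * p ^ (2 * n₁ + ρ) = s3 at h5 hsplit
  generalize p ^ (2 * n₁ + ρ) = s4 at h5 hsplit
  omega

end CH

/-- the forward direction of S4845, by induction on the order -/
theorem gd_fwd_aux (p : ℕ) [hp : Fact p.Prime] : ∀ n : ℕ, ∀ (G : Type u) [Group G] [Finite G],
    Nat.card G = n → IsPGroup p G → (∃ a b : G, a * b ≠ b * a) → GalConj G →
    IsCyclic (Subgroup.center G) ∧ Nat.card (commutator G) = p := by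
  intro n
  induction n using Nat.strong_induction_on with
  | _ n ih =>
    intro G instG instF hn hG hna hGC
    classical
    haveI : Fintype G := Fintype.ofFinite G
    have hne : commutator G ≠ ⊥ := by
      intro h
      obtain ⟨a, b, hab⟩ := hna
      apply hab
      have h1 : a * b * a⁻¹ * b⁻¹ ∈ commutator G := by
        rw [commutator_def]
        have h2 := Subgroup.commutator_mem_commutator (Subgroup.mem_top a) (Subgroup.mem_top b)
        rw [commutatorElement_def] at h2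
        exact h2
      rw [h, Subgroup.mem_bot] at h1
      calc a * b = a * b * a⁻¹ * b⁻¹ * b * a := by group
        _ = b * a := by rw [h1, one_mul]
    by_cases hc : Nat.card (commutator G) = p
    · exact ⟨gd_cyclic_center hG hGC hc hna, hc⟩
    · exfalso
      obtain ⟨M, hMcomm, hMc, hM⟩ := gd_exists_central_subgroup hG hne
      haveI : M.Normal := ⟨fun m hm g => by
        have h1 := Subgroup.mem_center_iff.mp (hMc hm) g
        rw [h1, mul_inv_cancel_right]
        exact hm⟩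
      have hlt : Nat.card (G ⧸ M) < n := by
        have h3 := Subgroup.card_mul_index M
        rw [Subgroup.index_eq_card, hM, hn] at h3
        have h4 := hp.out.two_le
        have hpos : 0 < Nat.card (G ⧸ M) := Nat.card_pos
        nlinarith
      have hnaQ : ∃ a b : G ⧸ M, a * b ≠ b * a := by
        by_contra hcon
        push Not at hcon
        have h1 := commutator_le_of_quotient_comm M hcon
        apply hc
        have h2 : commutator G = M := le_antisymm h1 hMcomm
        rw [h2, hM]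
      obtain ⟨hcycQ, hcQ⟩ := ih _ hlt (G ⧸ M) rfl (hG.to_quotient M) hnaQ (gd_quot hGC M)
      exact gd_case2_false hG hGC M hMcomm hMc hM hcycQ hcQ





end Cfsg.Agent.helper22
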