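import Mathlib
import Cfsg.Agent.Lib_helper22_PRes
import Cfsg.Agent.Lib_helper22_Chief
import Cfsg.Agent.Lib_helper22_Glaub2
import Cfsg.Agent.Lib_helper1_GalFix
import Cfsg.Agent.Lib_helper1_PrincCover
import Cfsg.Agent.Lib_helper24_CharQuot
import Cfsg.Agent.Lib_helper24_CharWed

set_option autoImplicit false
set_option linter.unusedSectionVars false
set_option linter.unusedVariables false

/-!
Galois-fixed characters of `p'`-degree over `O^p(G)` with cyclic quotient (helper22), part 1.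

* `coprime_of_pow_conditions'` : the exponent `k` is prime to `|G|`;
* `mem_principalBlock_iff_res` : if all `p`-regular elements lie in `N` and `χ_N = θ`, then
  `χ ∈ B₀(G) ↔ θ ∈ B₀(N)`;
* `card_irr_of_comm` : an abelian group `R` has `|R|` irreducible characters;
* `card_irr_pow_fixed` : a cyclic `p`-group `Q ≠ 1` has exactly `p` irreducible characters fixed
  by `q ↦ q ^ (1 + p)`.
-/

namespace Cfsg.Agent.helper22

open Cfsg
open scoped ComplexConjugate

universe u

section Gen
variable {G : Type u} [Group G] [Finite G] (p : ℕ) [hp : Fact p.Prime]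

theorem coprime_of_pow_conditions' (k : ℕ)
    (hk₁ : ∀ g : G, (∃ j : ℕ, orderOf g = p ^ j) → g ^ k = g ^ (1 + p))
    (hk₂ : ∀ g : G, Nat.Coprime (orderOf g) p → g ^ k = g) : k.Coprime (Nat.card G) := by
  apply Nat.coprime_of_dvd
  intro r hr hrk hrG
  haveI : Fact r.Prime := ⟨hr⟩
  obtain ⟨g, hg⟩ := exists_prime_orderOf_dvd_card' (G := G) r hrG
  have h1 : g ^ k = 1 := by
    rw [← orderOf_dvd_iff_pow_eq_one, hg]
    exact hrk
  have h2 : g ^ k = g := by
    by_cases hrp : r = p
    · have h3 := hk₁ g ⟨1, by rw [hg, hrp, pow_one]⟩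
      rw [h3, pow_add, pow_one]
      have : g ^ p = 1 := by
        rw [← orderOf_dvd_iff_pow_eq_one, hg, hrp]
      rw [this, mul_one]
    · apply hk₂
      rw [hg]
      exact (Nat.coprime_primes hr hp.out).mpr hrp
  have h3 : g = 1 := h2.symm.trans h1
  rw [h3, orderOf_one] at hg
  exact hr.one_lt.ne' hg.symm

end Gen

section Block
variable {G : Type u} [Group G] [Fintype G] (p : ℕ) [hp : Fact p.Prime]

theorem mem_principalBlock_iff_res (M : Ideal AlgInt) (hM : IsPModular p M) (N : Subgroup G)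
    [hN : N.Normal] [Fintype N] (hreg : ∀ g : G, ¬ p ∣ orderOf g → g ∈ N) (χ : IrrCharacter G)
    (θ : IrrCharacter N) (hres : ∀ n : N, (χ : G → ℂ) n = (θ : N → ℂ) n) :
    χ ∈ principalBlock M G ↔ θ ∈ principalBlock M N := by
  classical
  rw [helper1.mem_principalBlock_iff_sum_ne_zero p M hM χ,
    helper1.mem_principalBlock_iff_sum_ne_zero p M hM θ]
  have h1 : ∑ x ∈ Finset.univ.filter (fun x : G => ¬ p ∣ orderOf x), (χ : G → ℂ) x =
      ∑ n ∈ Finset.univ.filter (fun n : N => ¬ p ∣ orderOf n), (θ : N → ℂ) n := by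
    rw [Finset.sum_filter, Finset.sum_filter]
    have h2 : ∀ x : G, (if ¬ p ∣ orderOf x then (χ : G → ℂ) x else 0) =
        if x ∈ N then (if ¬ p ∣ orderOf x then (χ : G → ℂ) x else 0) else 0 := by
      intro x
      by_cases hx : x ∈ N
      · rw [if_pos hx]
      · rw [if_neg hx, if_neg (fun h => hx (hreg x h))]
    rw [Finset.sum_congr rfl (fun x _ => h2 x),
      sum_indicator_subgroup N (fun x => if ¬ p ∣ orderOf x then (χ : G → ℂ) x else 0)]
    apply Finset.sum_congr rfl
    intro n _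
    rw [Subgroup.orderOf_coe, hres]
  rw [h1]

end Block

section Count

theorem card_irr_of_comm {R : Type u} [Group R] [Finite R] (hab : ∀ x y : R, x * y = y * x) :
    Nat.card (IrrCharacter R) = Nat.card R := by
  classical
  haveI : Fintype (IrrCharacter R) := Fintype.ofFinite _
  have h1 := helper24.sum_irr_degree_sq (G := R)
  have h2 : ∀ χ : IrrCharacter R, charDegree (χ : R → ℂ) = 1 := by
    intro χ
    have h3 := (S0187.result (G := R)).mp hab χ
    exact helper24.charDegree_natCast _ 1 (by rw [h3, Nat.cast_one])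
  rw [Finset.sum_congr rfl (fun χ _ => by rw [h2 χ, one_pow]), Finset.sum_const, Finset.card_univ,
    smul_eq_mul, mul_one] at h1
  rw [Nat.card_eq_fintype_card]
  exact h1

theorem exists_pow_subgroup (p : ℕ) [hp : Fact p.Prime] {Q : Type u} [Group Q] [Finite Q]
    (hcyc : IsCyclic Q) (hp_dvd : p ∣ Nat.card Q) :
    ∃ Φ : Subgroup Q, Φ.Normal ∧ (∀ n, n ∈ Φ ↔ ∃ q : Q, q ^ p = n) ∧ Φ.index = p := by
  letI : CommGroup Q := IsCyclic.commGroup
  refine ⟨(powMonoidHom p : Q →* Q).range, inferInstance, ?_, ?_⟩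
  · intro n
    rw [MonoidHom.mem_range]
    rfl
  · rw [IsCyclic.index_powMonoidHom_range, Nat.gcd_eq_right hp_dvd]

theorem card_irr_pow_fixed (p : ℕ) [hp : Fact p.Prime] {Q : Type u} [Group Q] [Finite Q]
    (hcyc : IsCyclic Q) (hp_dvd : p ∣ Nat.card Q) (k : ℕ) (hk : ∀ q : Q, q ^ k = q ^ (1 + p)) :
    Nat.card {lam : IrrCharacter Q // ∀ q : Q, (lam : Q → ℂ) (q ^ k) = (lam : Q → ℂ) q} = p := by
  classical
  have hab : ∀ x y : Q, x * y = y * x := by
    have h := (IsCyclic.isMulCommutative : IsMulCommutative Q)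
    exact fun a b => h.is_comm.comm a b
  have hlin : ∀ lam : IrrCharacter Q, (lam : Q → ℂ) 1 = 1 := (S0187.result (G := Q)).mp hab
  obtain ⟨Φ, hΦn, hΦmem, hΦidx⟩ := exists_pow_subgroup p hcyc hp_dvd
  have hcond : ∀ lam : IrrCharacter Q, (∀ q : Q, (lam : Q → ℂ) (q ^ k) = (lam : Q → ℂ) q) ↔
      (∀ n ∈ Φ, (lam : Q → ℂ) n = (lam : Q → ℂ) 1) := by
    intro lam
    obtain ⟨φ, hφ⟩ := linear_iff_hom.mp ⟨helper24.irr_isCharacter lam.2, hlin lam⟩
    constructor
    · intro h n hn
      obtain ⟨q, rfl⟩ := (hΦmem n).mp hn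
      have h1 := h q
      rw [hk q, hφ, hφ] at h1
      have h2 : φ (q ^ (1 + p)) = φ q := Units.ext h1
      rw [map_pow, pow_add, pow_one] at h2
      have h3 : φ q ^ p = 1 := by
        have := mul_left_cancel (h2.trans (mul_one _).symm)
        exact this
      rw [hφ, hlin, map_pow, h3]
      rfl
    · intro h q
      have h1 := h (q ^ p) ((hΦmem _).mpr ⟨q, rfl⟩)
      rw [hφ, hlin, map_pow] at h1
      have h3 : φ q ^ p = 1 := Units.ext h1
      rw [hk q, hφ, hφ, map_pow, pow_add, pow_one, h3, mul_one]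
  rw [Nat.card_congr (Equiv.subtypeEquivRight hcond),
    ← Nat.card_congr (helper24.inflEquiv Φ)]
  have hab' : ∀ x y : Q ⧸ Φ, x * y = y * x := by
    intro x y
    obtain ⟨a, rfl⟩ := QuotientGroup.mk_surjective x
    obtain ⟨b, rfl⟩ := QuotientGroup.mk_surjective y
    rw [← QuotientGroup.mk_mul, ← QuotientGroup.mk_mul, hab]
  rw [card_irr_of_comm hab', ← Subgroup.index_eq_card, hΦidx]

end Count

end Cfsg.Agent.helper22
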