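import Mathlib
import Cfsg.Agent.Lib_helper22_GalPRes1

set_option autoImplicit false
set_option linter.unusedSectionVars false
set_option linter.unusedVariables false

/-!
Galois-fixed characters of `p'`-degree over `O^p(G)` with cyclic quotient (helper22), part 2:
the count `|{χ}| = p |{θ}|`.
-/

namespace Cfsg.Agent.helper22

open Cfsg
open scoped ComplexConjugate

universe u

section Main
variable {G : Type u} [Group G] [Finite G] (p : ℕ) [hp : Fact p.Prime]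

theorem galois_fixed_count (M : Ideal AlgInt) (hM : IsPModular p M) (P : Sylow p G)
    (N : Subgroup G) [hN : N.Normal] (hNres : N = pResidual p G) (hcyc : IsCyclic (G ⧸ N))
    (hnt : N ≠ ⊤) (k : ℕ)
    (hk₁ : ∀ g : G, (∃ j : ℕ, orderOf g = p ^ j) → g ^ k = g ^ (1 + p))
    (hk₂ : ∀ g : G, Nat.Coprime (orderOf g) p → g ^ k = g) :
    Nat.card {χ : IrrCharacter G // χ ∈ principalBlock M G ∧ ¬ p ∣ charDegree (χ : G → ℂ) ∧
        ∀ g : G, (χ : G → ℂ) (g ^ k) = (χ : G → ℂ) g} =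
      p * Nat.card {θ : IrrCharacter ↥N // θ ∈ principalBlock M ↥N ∧
        ¬ p ∣ charDegree (θ : ↥N → ℂ) ∧
        (∀ x ∈ (P : Subgroup G), ∀ n : ↥N,
          (θ : ↥N → ℂ) ⟨x * n * x⁻¹, hN.conj_mem n n.2 x⟩ = (θ : ↥N → ℂ) n) ∧
        ∀ n : ↥N, (θ : ↥N → ℂ) (n ^ k) = (θ : ↥N → ℂ) n} := by
  classical
  haveI : Fintype G := Fintype.ofFinite G
  haveI : Fintype N := Fintype.ofFinite N
  haveI : Fintype (IrrCharacter (G ⧸ N)) := Fintype.ofFinite _
  have hkc : k.Coprime (Nat.card G) := coprime_of_pow_conditions' p k hk₁ hk₂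
  have hPQ : IsPGroup p (G ⧸ N) := by
    subst hNres
    exact helper10.quotient_pResidual_isPGroup p
  obtain ⟨a, ha⟩ := IsPGroup.iff_card.mp hPQ
  have hidx : N.index = p ^ a := by
    rw [Subgroup.index_eq_card]
    exact ha
  have hpQ : p ∣ Nat.card (G ⧸ N) := by
    rw [ha]
    cases a with
    | zero =>
      exfalso
      apply hnt
      rw [← Subgroup.index_eq_one, hidx, pow_zero]
    | succ a => exact dvd_pow_self p (Nat.succ_ne_zero a)
  have hkQ : k.Coprime (Nat.card (G ⧸ N)) := by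
    apply Nat.Coprime.coprime_dvd_right _ hkc
    rw [← Subgroup.index_eq_card]
    exact Subgroup.index_dvd_card N
  obtain ⟨m, hm⟩ : ∃ m, m = Nat.card N / p ^ (Nat.card N).factorization p := ⟨_, rfl⟩
  have hmp : ¬ p ∣ m := by
    rw [hm]
    exact Nat.not_dvd_ordCompl hp.out Nat.card_pos.ne'
  have hlin : ∀ (lam : N →* ℂˣ) (n : N), lam n ^ m = 1 := by
    subst hNres
    intro lam n
    rw [hm]
    exact hom_pResidual_pow p lam n
  have hreg : ∀ g : G, ¬ p ∣ orderOf g → g ∈ N := by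
    intro g hg
    rw [hNres]
    apply Subgroup.subset_closure
    exact ((Nat.Prime.coprime_iff_not_dvd hp.out).mpr hg).symm
  have hPN : ∀ g : G, ∃ s ∈ (P : Subgroup G), ∃ n ∈ N, g = s * n := by
    intro g
    rw [hNres]
    exact helper10.exists_mul_of_pResidual_sylow p P g
  have hQk : ∀ q : G ⧸ N, q ^ k = q ^ (1 + p) := by
    intro q
    obtain ⟨g, rfl⟩ := QuotientGroup.mk_surjective q
    obtain ⟨s, hs, n, hn, rfl⟩ := hPN g
    have h1 : ((s * n : G) : G ⧸ N) = (s : G ⧸ N) := by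
      rw [QuotientGroup.mk_mul, (QuotientGroup.eq_one_iff n).mpr hn, mul_one]
    rw [h1, ← QuotientGroup.mk_pow, ← QuotientGroup.mk_pow]
    congr 1
    apply hk₁
    obtain ⟨j, hj⟩ := (P.2 ⟨s, hs⟩)
    have h2 : s ^ p ^ j = 1 := by simpa using congrArg Subtype.val hj
    obtain ⟨i, _, hi⟩ := (Nat.dvd_prime_pow hp.out).mp (orderOf_dvd_of_pow_eq_one h2)
    exact ⟨i, hi⟩
  have hΛ := card_irr_pow_fixed p hcyc hpQ k hQk
  -- invariance
  have hGinv : ∀ θ : IrrCharacter N, (∀ x ∈ (P : Subgroup G), ∀ n : N,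
      (θ : N → ℂ) ⟨x * n * x⁻¹, hN.conj_mem n n.2 x⟩ = (θ : N → ℂ) n) →
      ∀ (g : G) (n : N), (θ : N → ℂ) ⟨g * n * g⁻¹, hN.conj_mem (n : G) n.2 g⟩ =
        (θ : N → ℂ) n := by
    intro θ hPinv g n
    obtain ⟨s, hs, n₀, hn₀, rfl⟩ := hPN g
    have hcf := helper24.char_isClassFunction (helper24.irr_isCharacter θ.2)
    have h1 := hPinv s hs (⟨n₀, hn₀⟩ * n * (⟨n₀, hn₀⟩ : N)⁻¹)
    have h2 : (⟨s * n₀ * n * (s * n₀)⁻¹, hN.conj_mem (n : G) n.2 (s * n₀)⟩ : N) =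
        ⟨s * ((⟨n₀, hn₀⟩ * n * (⟨n₀, hn₀⟩ : N)⁻¹ : N) : G) * s⁻¹,
          hN.conj_mem _ (SetLike.coe_mem _) s⟩ := by
      apply Subtype.ext
      show s * n₀ * n * (s * n₀)⁻¹ = s * (n₀ * n * n₀⁻¹) * s⁻¹
      group
    rw [h2, h1, hcf]
  -- the canonical extension is fixed
  have hfix : ∀ (θ : IrrCharacter N) (χ₀ : G → ℂ), IsIrrCharacter G χ₀ →
      (∀ n : N, χ₀ n = (θ : N → ℂ) n) →
      (∃ M₀ : ℕ, 0 < M₀ ∧ ¬ p ∣ M₀ ∧ ∀ g, detChar χ₀ g ^ M₀ = 1) →
      ¬ p ∣ charDegree (θ : N → ℂ) → (∀ n : N, (θ : N → ℂ) (n ^ k) = (θ : N → ℂ) n) →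
      ∀ g, χ₀ (g ^ k) = χ₀ g := by
    rintro θ χ₀ hχ₀ hres ⟨M₀, hM₀pos, hM₀p, hM₀⟩ hdeg hθk
    have hirr' : IsIrrCharacter G (fun g => χ₀ (g ^ k)) :=
      helper1.isIrrCharacter_powMap k hkc hχ₀
    have hresirr : IsIrrCharacter N (helper5.res N χ₀) := by
      have : helper5.res N χ₀ = (θ : N → ℂ) := funext hres
      rw [this]
      exact θ.2
    have hreseq : helper5.res N χ₀ = helper5.res N (fun g => χ₀ (g ^ k)) := by
      funext n
      show χ₀ n = χ₀ ((n : G) ^ k)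
      have : ((n : G) ^ k) = ((n ^ k : N) : G) := (SubmonoidClass.coe_pow n k).symm
      rw [this, hres, hres, hθk]
    have hdegχ₀ : ¬ p ∣ charDegree χ₀ := by
      have : charDegree χ₀ = charDegree (θ : N → ℂ) := by
        unfold charDegree
        rw [← hres 1]
        rfl
      rw [this]
      exact hdeg
    have hdo : detOrder (fun g => χ₀ (g ^ k)) = detOrder χ₀ := detOrder_powMap k hkc hχ₀
    have hdvd : detOrder χ₀ ∣ M₀ := by
      unfold detOrder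
      apply orderOf_dvd_of_pow_eq_one
      funext g
      rw [Pi.pow_apply, hM₀]
      rfl
    have hM₁ : ¬ p ∣ detOrder χ₀ := fun h => hM₀p (dvd_trans h hdvd)
    have hdet' : ∀ g, detChar (fun g => χ₀ (g ^ k)) g ^ detOrder χ₀ = 1 := by
      intro g
      have h2 : detChar (fun g => χ₀ (g ^ k)) ^ detOrder χ₀ = 1 := by
        rw [← hdo]
        exact pow_orderOf_eq_one _
      exact congrFun h2 g
    have := eq_of_res_eq_of_p'_det p N a hidx hχ₀ hirr' hresirr hreseq hdegχ₀ M₀ (detOrder χ₀)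
      hM₀p hM₁ hM₀ hdet'
    intro g
    exact (congrFun this g).symm
  have hab : ∀ x y : G ⧸ N, x * y = y * x := by
    have h := (IsCyclic.isMulCommutative : IsMulCommutative (G ⧸ N))
    exact fun a b => h.is_comm.comm a b
  have hl1 : ∀ l : IrrCharacter (G ⧸ N), (l : G ⧸ N → ℂ) 1 = 1 :=
    (S0187.result (G := G ⧸ N)).mp hab
  obtain ⟨PA, hPA⟩ : ∃ PA : IrrCharacter G → Prop, PA = fun χ =>
      χ ∈ principalBlock M G ∧ ¬ p ∣ charDegree (χ : G → ℂ) ∧
        ∀ g : G, (χ : G → ℂ) (g ^ k) = (χ : G → ℂ) g := ⟨_, rfl⟩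
  obtain ⟨PB, hPB⟩ : ∃ PB : IrrCharacter N → Prop, PB = fun θ =>
      θ ∈ principalBlock M ↥N ∧ ¬ p ∣ charDegree (θ : ↥N → ℂ) ∧
        (∀ x ∈ (P : Subgroup G), ∀ n : ↥N,
          (θ : ↥N → ℂ) ⟨x * n * x⁻¹, hN.conj_mem n n.2 x⟩ = (θ : ↥N → ℂ) n) ∧
        ∀ n : ↥N, (θ : ↥N → ℂ) (n ^ k) = (θ : ↥N → ℂ) n := ⟨_, rfl⟩
  have hPAiff : ∀ χ : IrrCharacter G, PA χ ↔ (χ ∈ principalBlock M G ∧
      ¬ p ∣ charDegree (χ : G → ℂ) ∧ ∀ g : G, (χ : G → ℂ) (g ^ k) = (χ : G → ℂ) g) := by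
    intro χ
    rw [hPA]
  have hPBiff : ∀ θ : IrrCharacter N, PB θ ↔ (θ ∈ principalBlock M ↥N ∧
      ¬ p ∣ charDegree (θ : ↥N → ℂ) ∧
        (∀ x ∈ (P : Subgroup G), ∀ n : ↥N,
          (θ : ↥N → ℂ) ⟨x * n * x⁻¹, hN.conj_mem n n.2 x⟩ = (θ : ↥N → ℂ) n) ∧
        ∀ n : ↥N, (θ : ↥N → ℂ) (n ^ k) = (θ : ↥N → ℂ) n) := by
    intro θ
    rw [hPB]
  have hgoal : Nat.card {χ : IrrCharacter G // PA χ} =
      p * Nat.card {θ : IrrCharacter N // PB θ} := by
    have hext' : ∀ b : {θ : IrrCharacter N // PB θ}, ∃ χ₀ : G → ℂ, IsIrrCharacter G χ₀ ∧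
        (∀ n : N, χ₀ n = ((b.1 : IrrCharacter N) : N → ℂ) n) ∧
        ∃ M₀ : ℕ, 0 < M₀ ∧ ¬ p ∣ M₀ ∧ ∀ g, detChar χ₀ g ^ M₀ = 1 := by
      intro b
      obtain ⟨hb1, hb2, hb3, hb4⟩ := (hPBiff b.1).mp b.2
      exact exists_ext_p'_det p N a hidx m hmp hlin _ b.1.2 (hGinv b.1 hb3) _
        (helper24.char_charDegree_cast (helper24.irr_isCharacter b.1.2)).symm hb2
    choose χ₀ hχ₀irr hχ₀res hχ₀det using hext'
    have hresirr : ∀ b, IsIrrCharacter N (helper5.res N (χ₀ b)) := by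
      intro b
      have : helper5.res N (χ₀ b) = ((b.1 : IrrCharacter N) : N → ℂ) := funext (hχ₀res b)
      rw [this]
      exact b.1.2
    have hmap : ∀ (b : {θ : IrrCharacter N // PB θ})
        (l : {lam : IrrCharacter (G ⧸ N) //
          ∀ q : G ⧸ N, (lam : G ⧸ N → ℂ) (q ^ k) = (lam : G ⧸ N → ℂ) q}),
        ∃ a : {χ : IrrCharacter G // PA χ}, ((a.1 : IrrCharacter G) : G → ℂ) =
          infl N ((l.1 : IrrCharacter (G ⧸ N)) : G ⧸ N → ℂ) * χ₀ b := by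
      intro b l
      obtain ⟨hb1, hb2, hb3, hb4⟩ := (hPBiff b.1).mp b.2
      obtain ⟨g1, g2, g3⟩ := gallagher N (hχ₀irr b) (hresirr b)
      have hξN : ∀ n : N, (infl N ((l.1 : IrrCharacter (G ⧸ N)) : G ⧸ N → ℂ) * χ₀ b) n =
          ((b.1 : IrrCharacter N) : N → ℂ) n := by
        intro n
        rw [Pi.mul_apply, infl_apply, (QuotientGroup.eq_one_iff (n : G)).mpr n.2, hl1, one_mul,
          hχ₀res]
      refine ⟨⟨⟨_, g1 l.1⟩, (hPAiff _).mpr ⟨?_, ?_, ?_⟩⟩, rfl⟩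
      · exact (mem_principalBlock_iff_res p M hM N hreg ⟨_, g1 l.1⟩ b.1 hξN).mpr hb1
      · have : charDegree (infl N ((l.1 : IrrCharacter (G ⧸ N)) : G ⧸ N → ℂ) * χ₀ b) =
            charDegree ((b.1 : IrrCharacter N) : N → ℂ) := by
          unfold charDegree
          rw [← hξN 1]
          rfl
        show ¬ p ∣ charDegree (infl N ((l.1 : IrrCharacter (G ⧸ N)) : G ⧸ N → ℂ) * χ₀ b)
        rw [this]
        exact hb2
      · intro g
        show (infl N ((l.1 : IrrCharacter (G ⧸ N)) : G ⧸ N → ℂ) * χ₀ b) (g ^ k) =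
          (infl N ((l.1 : IrrCharacter (G ⧸ N)) : G ⧸ N → ℂ) * χ₀ b) g
        rw [Pi.mul_apply, Pi.mul_apply, infl_apply, infl_apply, QuotientGroup.mk_pow, l.2,
          hfix b.1 (χ₀ b) (hχ₀irr b) (hχ₀res b) (hχ₀det b) hb2 hb4 g]
    choose Ψ hΨ using hmap
    have hinj : Function.Injective (fun x : {θ : IrrCharacter N // PB θ} ×
        {lam : IrrCharacter (G ⧸ N) //
          ∀ q : G ⧸ N, (lam : G ⧸ N → ℂ) (q ^ k) = (lam : G ⧸ N → ℂ) q} => Ψ x.1 x.2) := by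
      rintro ⟨b, l⟩ ⟨b', l'⟩ h
      have h' : Ψ b l = Ψ b' l' := h
      have h1 : infl N ((l.1 : IrrCharacter (G ⧸ N)) : G ⧸ N → ℂ) * χ₀ b =
          infl N ((l'.1 : IrrCharacter (G ⧸ N)) : G ⧸ N → ℂ) * χ₀ b' := by
        rw [← hΨ b l, ← hΨ b' l', h']
      have hbb : b = b' := by
        apply Subtype.ext
        apply Subtype.ext
        funext n
        have := congrFun h1 n
        rw [Pi.mul_apply, Pi.mul_apply, infl_apply, infl_apply,
          (QuotientGroup.eq_one_iff (n : G)).mpr n.2, hl1, hl1, one_mul, one_mul, hχ₀res,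
          hχ₀res] at this
        exact this
      subst hbb
      obtain ⟨g1, g2, g3⟩ := gallagher N (hχ₀irr b) (hresirr b)
      have := g2 l.1 l'.1 h1
      exact Prod.ext rfl (Subtype.ext this)
    have hsurj : Function.Surjective (fun x : {θ : IrrCharacter N // PB θ} ×
        {lam : IrrCharacter (G ⧸ N) //
          ∀ q : G ⧸ N, (lam : G ⧸ N → ℂ) (q ^ k) = (lam : G ⧸ N → ℂ) q} => Ψ x.1 x.2) := by
      rintro ⟨χ, hχ⟩
      obtain ⟨hc1, hc2, hc3⟩ := (hPAiff χ).mp hχ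
      have hθirr : IsIrrCharacter N (helper5.res N (χ : G → ℂ)) :=
        res_irr_of_p'_degree p N a hidx m hmp hlin χ.2 hc2
      have hcf := helper24.char_isClassFunction (helper24.irr_isCharacter χ.2)
      have hPBθ : PB ⟨helper5.res N (χ : G → ℂ), hθirr⟩ := by
        rw [hPBiff]
        refine ⟨?_, ?_, ?_, ?_⟩
        · exact (mem_principalBlock_iff_res p M hM N hreg χ ⟨_, hθirr⟩ (fun n => rfl)).mp hc1
        · have : charDegree (helper5.res N (χ : G → ℂ)) = charDegree (χ : G → ℂ) := rfl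
          show ¬ p ∣ charDegree (helper5.res N (χ : G → ℂ))
          rw [this]
          exact hc2
        · intro x hx n
          show (χ : G → ℂ) (x * n * x⁻¹) = (χ : G → ℂ) n
          exact hcf n x
        · intro n
          show (χ : G → ℂ) ((n ^ k : N) : G) = (χ : G → ℂ) n
          rw [SubmonoidClass.coe_pow]
          exact hc3 n
      obtain ⟨b, hb⟩ : ∃ b : {θ : IrrCharacter N // PB θ}, b = ⟨⟨_, hθirr⟩, hPBθ⟩ := ⟨_, rfl⟩
      obtain ⟨g1, g2, g3⟩ := gallagher N (hχ₀irr b) (hresirr b)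
      have hreseq : helper5.res N (χ₀ b) = helper5.res N (χ : G → ℂ) := by
        funext n
        show χ₀ b n = _
        rw [hχ₀res b n, hb]
      have hne : classInner (helper5.res N (χ : G → ℂ)) (helper5.res N (χ₀ b)) ≠ 0 := by
        rw [hreseq, helper24.irr_classInner_self hθirr]
        exact one_ne_zero
      obtain ⟨β, hβ⟩ := g3 (χ : G → ℂ) χ.2 hne
      have hβirr' : IsIrrCharacter (G ⧸ N) (fun q => (β : G ⧸ N → ℂ) (q ^ k)) :=
        helper1.isIrrCharacter_powMap k hkQ β.2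
      obtain ⟨hb1, hb2, hb3, hb4⟩ := (hPBiff b.1).mp b.2
      have hβfix : ∀ q : G ⧸ N, (β : G ⧸ N → ℂ) (q ^ k) = (β : G ⧸ N → ℂ) q := by
        have h1 : infl N (fun q => (β : G ⧸ N → ℂ) (q ^ k)) * χ₀ b =
            infl N (β : G ⧸ N → ℂ) * χ₀ b := by
          funext g
          have e1 : (χ : G → ℂ) (g ^ k) = (β : G ⧸ N → ℂ) ((g : G ⧸ N) ^ k) * χ₀ b g := by
            have := congrFun hβ (g ^ k)
            rw [Pi.mul_apply, infl_apply, QuotientGroup.mk_pow,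
              hfix b.1 (χ₀ b) (hχ₀irr b) (hχ₀res b) (hχ₀det b) hb2 hb4 g] at this
            exact this
          have e2 : (χ : G → ℂ) g = (β : G ⧸ N → ℂ) (g : G ⧸ N) * χ₀ b g := by
            have := congrFun hβ g
            rw [Pi.mul_apply, infl_apply] at this
            exact this
          show (β : G ⧸ N → ℂ) ((g : G ⧸ N) ^ k) * χ₀ b g =
            (β : G ⧸ N → ℂ) (g : G ⧸ N) * χ₀ b g
          rw [← e1, ← e2, hc3 g]
        have h2 := g2 ⟨_, hβirr'⟩ β h1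
        intro q
        exact congrFun (congrArg Subtype.val h2) q
      refine ⟨(b, ⟨β, hβfix⟩), ?_⟩
      apply Subtype.ext
      apply Subtype.ext
      show ((Ψ b ⟨β, hβfix⟩).1 : G → ℂ) = χ
      rw [hΨ, hβ]
    rw [← Nat.card_congr (Equiv.ofBijective _ ⟨hinj, hsurj⟩), Nat.card_prod, hΛ, mul_comm]
  rw [hPA, hPB] at hgoal
  exact hgoal

end Main

end Cfsg.Agent.helper22
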