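import Mathlib
import Cfsg.Agent.Lib_helper22_BGchar

set_option autoImplicit false
set_option linter.unusedSectionVars false
set_option linter.unusedVariables false
set_option linter.style.haveILetI false

/-!
Garrison's theorem: the nilpotent length of a solvable group is at most the number of its
irreducible character degrees (helper22).
-/

namespace Cfsg.Agent.helper22

open Cfsg

universe u

theorem nilpotent_of_injective {A B : Type*} [Group A] [Group B] (f : A →* B)
    (hf : Function.Injective f) [Group.IsNilpotent B] : Group.IsNilpotent A := by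
  haveI : Group.IsNilpotent f.range := inferInstance
  exact Group.nilpotent_of_mulEquiv (MonoidHom.ofInjective hf).symm

section NilSer

/-- the section `B / A` is nilpotent (whenever it makes sense) -/
def NilStep {G : Type u} [Group G] (A B : Subgroup G) : Prop :=
  ∀ h : (A.subgroupOf B).Normal, Group.IsNilpotent (↥B ⧸ A.subgroupOf B)

theorem nilStep_self {G : Type u} [Group G] (A : Subgroup G) : NilStep A A := by
  intro h
  haveI : Subsingleton (↥A ⧸ A.subgroupOf A) := by
    constructor
    intro x y
    induction x using QuotientGroup.induction_on with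
    | H a =>
      induction y using QuotientGroup.induction_on with
      | H b =>
        rw [QuotientGroup.eq, Subgroup.mem_subgroupOf]
        exact (a⁻¹ * b).2
  infer_instance

theorem nilStep_bot {G : Type u} [Group G] (B : Subgroup G) (hB : Group.IsNilpotent B) :
    NilStep ⊥ B := by
  intro h
  infer_instance

theorem nilStep_comap {G G' : Type u} [Group G] [Group G'] (f : G →* G') {A B : Subgroup G'}
    [A.Normal] (h : NilStep A B) : NilStep (A.comap f) (B.comap f) := by
  intro hn
  haveI : Group.IsNilpotent (↥B ⧸ A.subgroupOf B) := h inferInstance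
  let g : ↥(B.comap f) →* ↥B := (f.comp (B.comap f).subtype).codRestrict B (fun x => x.2)
  let φ : ↥(B.comap f) →* ↥B ⧸ A.subgroupOf B := (QuotientGroup.mk' _).comp g
  have hker : ∀ x : ↥(B.comap f), φ x = 1 ↔ x ∈ (A.comap f).subgroupOf (B.comap f) := by
    intro x
    show (QuotientGroup.mk' (A.subgroupOf B)) (g x) = 1 ↔ _
    rw [QuotientGroup.mk'_apply, QuotientGroup.eq_one_iff, Subgroup.mem_subgroupOf,
      Subgroup.mem_subgroupOf, Subgroup.mem_comap]
    rfl
  let Φ : (↥(B.comap f) ⧸ (A.comap f).subgroupOf (B.comap f)) →* ↥B ⧸ A.subgroupOf B :=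
    QuotientGroup.lift _ φ (fun x hx => (hker x).mpr hx)
  have hinj : Function.Injective Φ := by
    rw [injective_iff_map_eq_one]
    intro q
    induction q using QuotientGroup.induction_on with
    | H x =>
      intro hx
      have hx' : φ x = 1 := hx
      exact (QuotientGroup.eq_one_iff x).mpr ((hker x).mp hx')
  exact nilpotent_of_injective Φ hinj

/-- `G` has a normal series of length `m` with nilpotent factors -/
def NilSer (G : Type u) [Group G] (m : ℕ) : Prop :=
  ∃ S : ℕ → Subgroup G, S 0 = ⊥ ∧ (∀ i, m ≤ i → S i = ⊤) ∧ Monotone S ∧ (∀ i, (S i).Normal) ∧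
    ∀ i, NilStep (S i) (S (i + 1))

theorem NilSer.mono {G : Type u} [Group G] {m m' : ℕ} (h : NilSer G m) (hm : m ≤ m') :
    NilSer G m' := by
  obtain ⟨S, h0, h1, h2, h3, h4⟩ := h
  exact ⟨S, h0, fun i hi => h1 i (le_trans hm hi), h2, h3, h4⟩

theorem nilSer_of_nilpotent (G : Type u) [Group G] (hG : Group.IsNilpotent G) : NilSer G 1 := by
  refine ⟨fun i => if i = 0 then ⊥ else ⊤, by simp, ?_, ?_, ?_, ?_⟩
  · intro i hi
    have : i ≠ 0 := by omega
    simp [this]
  · apply monotone_nat_of_le_succ
    intro i
    by_cases hi : i = 0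
    · simp [hi]
    · simp [hi]
  · intro i
    by_cases hi : i = 0
    · simp only [hi, if_true]; infer_instance
    · simp only [hi, if_false]; infer_instance
  · intro i
    by_cases hi : i = 0
    · subst hi
      simp only [if_true, zero_add, one_ne_zero, if_false]
      apply nilStep_bot
      infer_instance
    · simp only [hi, if_false, Nat.add_eq_zero_iff, one_ne_zero, and_false]
      exact nilStep_self _

theorem nilSer_lift {G : Type u} [Group G] (F : Subgroup G) [F.Normal]
    (hF : Group.IsNilpotent F) {m : ℕ} (h : NilSer (G ⧸ F) m) : NilSer G (m + 1) := by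
  obtain ⟨S, h0, h1, h2, h3, h4⟩ := h
  refine ⟨fun i => Nat.casesOn i ⊥ (fun j => (S j).comap (QuotientGroup.mk' F)), rfl, ?_, ?_, ?_,
    ?_⟩
  · intro i hi
    obtain ⟨j, rfl⟩ : ∃ j, i = j + 1 := ⟨i - 1, by omega⟩
    show (S j).comap (QuotientGroup.mk' F) = ⊤
    rw [h1 j (by omega), Subgroup.comap_top]
  · apply monotone_nat_of_le_succ
    intro i
    cases i with
    | zero => exact bot_le
    | succ j => exact Subgroup.comap_mono (h2 (Nat.le_succ j))
  · intro i
    cases i with
    | zero => exact Subgroup.normal_bot
    | succ j => exact (h3 j).comap _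
  · intro i
    cases i with
    | zero =>
      show NilStep ⊥ ((S 0).comap (QuotientGroup.mk' F))
      apply nilStep_bot
      rw [h0, MonoidHom.comap_bot, QuotientGroup.ker_mk']
      exact hF
    | succ j =>
      show NilStep ((S j).comap (QuotientGroup.mk' F)) ((S (j + 1)).comap (QuotientGroup.mk' F))
      haveI := h3 j
      exact nilStep_comap _ (h4 j)

end NilSer

section Garrison

/-- the set of irreducible character degrees -/
def cdSet (G : Type u) [Group G] : Set ℕ := {d | ∃ χ : IrrCharacter G, charDegree (χ : G → ℂ) = d}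

theorem cdSet_finite (G : Type u) [Group G] [Finite G] : (cdSet G).Finite := by
  haveI : Fintype (IrrCharacter G) := Fintype.ofFinite _
  have : cdSet G = Set.range (fun χ : IrrCharacter G => charDegree (χ : G → ℂ)) := by
    ext d
    simp [cdSet]
  rw [this]
  exact Set.finite_range _

theorem one_mem_cdSet (G : Type u) [Group G] : 1 ∈ cdSet G := by
  refine ⟨helper24.irrOne G, ?_⟩
  apply helper24.charDegree_natCast _ 1
  show (1 : ℂ) = ((1 : ℕ) : ℂ)
  rw [Nat.cast_one]

theorem garrison_aux : ∀ (k : ℕ) (G : Type u) [Group G] [Finite G], Group.IsSolvable G →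
    Nat.card G = k → NilSer G (cdSet G).ncard := by
  intro k
  induction k using Nat.strong_induction_on with
  | _ k ih =>
    intro G _ _ hsol hk
    have hfin := cdSet_finite G
    have hpos : 1 ≤ (cdSet G).ncard := by
      have := (Set.ncard_pos hfin).mpr ⟨1, one_mem_cdSet G⟩
      omega
    by_cases hnil : Group.IsNilpotent G
    · exact (nilSer_of_nilpotent G hnil).mono hpos
    · haveI hFn : (fittingSubgroup G).Normal := helper1.fitting_normal
      have hFnil : Group.IsNilpotent (fittingSubgroup G) := helper1.fitting_isNilpotent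
      have hFtop : fittingSubgroup G ≠ ⊤ := by
        intro htop
        apply hnil
        have e : ↥(fittingSubgroup G) ≃* G := by
          rw [htop]
          exact Subgroup.topEquiv
        exact Group.nilpotent_of_mulEquiv e
      haveI : Nontrivial G := by
        by_contra hnt
        rw [not_nontrivial_iff_subsingleton] at hnt
        exact hnil inferInstance
      have hFbot : fittingSubgroup G ≠ ⊥ := by
        obtain ⟨q, hq⟩ := helper23.exists_pCore_ne_bot_of_solvable G
        haveI : Fact (q : ℕ).Prime := ⟨q.2⟩
        intro hbot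
        apply hq
        rw [eq_bot_iff, ← hbot]
        exact helper1.pCore_le_fitting (q : ℕ)
      have hlt : Nat.card (G ⧸ fittingSubgroup G) < k := by
        rw [← hk, ← Subgroup.index_eq_card, ← (fittingSubgroup G).index_mul_card]
        have h1 : 1 < Nat.card (fittingSubgroup G) :=
          (fittingSubgroup G).one_lt_card_iff_ne_bot.2 hFbot
        have hpos : 0 < (fittingSubgroup G).index :=
          Nat.pos_of_ne_zero Subgroup.index_ne_zero_of_finite
        nlinarith
      have hIH := ih _ hlt (G ⧸ fittingSubgroup G) inferInstance rfl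
      have hlift := nilSer_lift (fittingSubgroup G) hFnil hIH
      apply hlift.mono
      -- counting degrees
      obtain ⟨f, hfD, hfmax⟩ := Set.exists_max_image (cdSet G) id hfin ⟨1, one_mem_cdSet G⟩
      have hsub : cdSet (G ⧸ fittingSubgroup G) ⊆ cdSet G \ {f} := by
        rintro d ⟨ψ, hψ⟩
        have hirr : IsIrrCharacter G ((ψ : G ⧸ fittingSubgroup G → ℂ) ∘
            (QuotientGroup.mk : G → G ⧸ fittingSubgroup G)) :=
          helper24.irr_inflation (fittingSubgroup G) ψ.2
        have hdeg : charDegree ((ψ : G ⧸ fittingSubgroup G → ℂ) ∘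
            (QuotientGroup.mk : G → G ⧸ fittingSubgroup G)) = d := by
          rw [← hψ]
          rfl
        refine ⟨⟨⟨_, hirr⟩, hdeg⟩, ?_⟩
        intro hdf
        rw [Set.mem_singleton_iff] at hdf
        have hch := helper24.irr_isCharacter hirr
        have hFK : fittingSubgroup G ≤ helper24.charKer hch := by
          intro x hx
          rw [helper24.mem_charKer]
          show (ψ : G ⧸ fittingSubgroup G → ℂ) (QuotientGroup.mk x) =
            (ψ : G ⧸ fittingSubgroup G → ℂ) (QuotientGroup.mk 1)
          rw [(QuotientGroup.eq_one_iff x).mpr hx, QuotientGroup.mk_one]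
        have hyp : ¬ helper24.charKer hch ≤ fittingSubgroup G ∨
            (helper24.charKer hch = fittingSubgroup G ∧
              Group.IsSolvable (G ⧸ helper24.charKer hch) ∧ helper24.charKer hch ≠ ⊤) := by
          by_cases hle : helper24.charKer hch ≤ fittingSubgroup G
          · right
            have heq := le_antisymm hle hFK
            refine ⟨heq, inferInstance, ?_⟩
            rw [heq]
            exact hFtop
          · left
            exact hle
        obtain ⟨ψ', hlt', _⟩ := broline_garrison ⟨_, hirr⟩ (helper24.charKer hch)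
          (fun g => helper24.mem_charKer hch g) hyp
        have h1 : charDegree (ψ' : G → ℂ) ≤ f := hfmax _ ⟨ψ', rfl⟩
        have h2 : charDegree ((ψ : G ⧸ fittingSubgroup G → ℂ) ∘
            (QuotientGroup.mk : G → G ⧸ fittingSubgroup G)) < charDegree (ψ' : G → ℂ) := hlt'
        rw [hdeg, hdf] at h2
        omega
      have h1 := Set.ncard_le_ncard hsub (hfin.subset Set.sdiff_subset)
      have h2 := Set.ncard_sdiff_singleton_of_mem hfD
      omega

/-- **Garrison's theorem** -/
theorem garrison {G : Type u} [Group G] [Finite G] (hsolv : Group.IsSolvable G) (n : ℕ)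
    (hcd : Nat.card {d : ℕ // ∃ χ : IrrCharacter G, charDegree (χ : G → ℂ) = d} = n) :
    ∃ N : Fin (n + 1) → Subgroup G, N 0 = ⊥ ∧ N (Fin.last n) = ⊤ ∧ Monotone N ∧
      (∀ i, (N i).Normal) ∧ ∀ i : Fin n, ∀ h : (N i.castSucc).subgroupOf (N i.succ) |>.Normal,
        Group.IsNilpotent (↥(N i.succ) ⧸ (N i.castSucc).subgroupOf (N i.succ)) := by
  have hn : (cdSet G).ncard = n := by
    rw [← hcd]
    exact (Nat.card_coe_set_eq (cdSet G)).symm
  obtain ⟨S, h0, h1, h2, h3, h4⟩ := garrison_aux (Nat.card G) G hsolv rfl
  rw [hn] at h1
  refine ⟨fun i => S i.val, h0, h1 n le_rfl, ?_, fun i => h3 i.val, ?_⟩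
  · intro a b hab
    exact h2 hab
  · intro i
    exact h4 i.val

end Garrison

end Cfsg.Agent.helper22
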