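import Mathlib
import Cfsg.Agent.Lib_lead_SZ2

set_option autoImplicit false
set_option linter.unusedSectionVars false
set_option linter.unusedVariables false

/-!
Glauberman correspondence, part 19 (helper22): invariant classes under a coprime solvable action
(Isaacs 13.10), in general position.
-/

namespace Cfsg.Agent.helper22

universe u

section ClassStab
variable {Γ : Type u} [Group Γ]

/-- the normalizing elements stabilizing a class of `G` -/
def classStab (G : Subgroup Γ) (K : ConjClasses G) : Subgroup Γ where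
  carrier := {t | (∀ g ∈ G, t * g * t⁻¹ ∈ G) ∧ (∀ g ∈ G, t⁻¹ * g * t ∈ G) ∧
    ∀ g g' : G, (g' : Γ) = t * g * t⁻¹ → (ConjClasses.mk g = K ↔ ConjClasses.mk g' = K)}
  one_mem' := by
    refine ⟨fun g hg => ?_, fun g hg => ?_, fun g g' h => ?_⟩
    · simpa using hg
    · simpa using hg
    · have : g' = g := Subtype.ext (by rw [h]; group)
      rw [this]
  mul_mem' := by
    rintro a b ⟨ha1, ha2, ha3⟩ ⟨hb1, hb2, hb3⟩
    refine ⟨fun g hg => ?_, fun g hg => ?_, fun g g' h => ?_⟩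
    · have := ha1 _ (hb1 g hg)
      have e : a * b * g * (a * b)⁻¹ = a * (b * g * b⁻¹) * a⁻¹ := by group
      rw [e]; exact this
    · have := hb2 _ (ha2 g hg)
      have e : (a * b)⁻¹ * g * (a * b) = b⁻¹ * (a⁻¹ * g * a) * b := by group
      rw [e]; exact this
    · have h1 := hb3 g ⟨b * g * b⁻¹, hb1 g g.2⟩ rfl
      have h2 := ha3 ⟨b * g * b⁻¹, hb1 g g.2⟩ g' (by rw [h]; group)
      exact h1.trans h2
  inv_mem' := by
    rintro a ⟨ha1, ha2, ha3⟩
    refine ⟨fun g hg => ?_, fun g hg => ?_, fun g g' h => ?_⟩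
    · have := ha2 g hg
      rwa [inv_inv]
    · have := ha1 g hg
      rwa [inv_inv]
    · have := ha3 g' g (by rw [h]; group)
      exact this.symm

theorem le_classStab_self (G : Subgroup Γ) (K : ConjClasses G) : G ≤ classStab G K := by
  intro t ht
  refine ⟨fun g hg => G.mul_mem (G.mul_mem ht hg) (G.inv_mem ht),
    fun g hg => G.mul_mem (G.mul_mem (G.inv_mem ht) hg) ht, fun g g' h => ?_⟩
  have : ConjClasses.mk g' = ConjClasses.mk g := by
    apply ConjClasses.mk_eq_mk_iff_isConj.mpr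
    apply isConj_iff.mpr
    refine ⟨⟨t, ht⟩⁻¹, ?_⟩
    apply Subtype.ext
    simp only [Subgroup.coe_mul, Subgroup.coe_inv, inv_inv]
    rw [h]; group
  rw [this]

theorem le_classStab_of_inv (G S : Subgroup Γ) (hnorm : ∀ s ∈ S, ∀ g ∈ G, s * g * s⁻¹ ∈ G)
    (K : ConjClasses G)
    (hK : ∀ s ∈ S, ∀ g g' : G, (g' : Γ) = s * g * s⁻¹ → ConjClasses.mk g = K →
      ConjClasses.mk g' = K) : S ≤ classStab G K := by
  intro s hs
  refine ⟨hnorm s hs, fun g hg => ?_, fun g g' h => ⟨hK s hs g g' h, fun h' => ?_⟩⟩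
  · have := hnorm s⁻¹ (S.inv_mem hs) g hg
    rwa [inv_inv] at this
  · exact hK s⁻¹ (S.inv_mem hs) g' g (by rw [h]; group) h'

end ClassStab

section Glaub
variable {Γ : Type u} [Group Γ] [Finite Γ]

/-- **Isaacs 13.10** for a solvable group `S` acting coprimely on `G`. -/
theorem class_glauberman_gen (G S : Subgroup Γ) (hnorm : ∀ s ∈ S, ∀ g ∈ G, s * g * s⁻¹ ∈ G)
    (hcop : (Nat.card G).Coprime (Nat.card S)) (hsolv : Group.IsSolvable S)
    (K : ConjClasses G)
    (hK : ∀ s ∈ S, ∀ g g' : G, (g' : Γ) = s * g * s⁻¹ → ConjClasses.mk g = K →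
      ConjClasses.mk g' = K) :
    (∃ c : G, (c : Γ) ∈ Subgroup.centralizer (S : Set Γ) ∧ ConjClasses.mk c = K) ∧
    ∀ c c' : G, (c : Γ) ∈ Subgroup.centralizer (S : Set Γ) →
      (c' : Γ) ∈ Subgroup.centralizer (S : Set Γ) → ConjClasses.mk c = K →
      ConjClasses.mk c' = K →
      ∃ k : Γ, k ∈ G ⊓ Subgroup.centralizer (S : Set Γ) ∧ k * (c : Γ) * k⁻¹ = (c' : Γ) := by
  classical
  obtain ⟨H, hH⟩ : ∃ H : Subgroup Γ, H = G ⊔ S := ⟨_, rfl⟩
  have hGH : G ≤ H := by rw [hH]; exact le_sup_left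
  have hSH : S ≤ H := by rw [hH]; exact le_sup_right
  have hHstab : H ≤ classStab G K := by
    rw [hH]
    exact sup_le (le_classStab_self G K) (le_classStab_of_inv G S hnorm K hK)
  -- the action
  letI act : MulAction H {x : G // ConjClasses.mk x = K} :=
    { smul := fun h x => ⟨⟨(h : Γ) * (x.1 : Γ) * (h : Γ)⁻¹, (hHstab h.2).1 _ x.1.2⟩,
        ((hHstab h.2).2.2 x.1 ⟨_, (hHstab h.2).1 _ x.1.2⟩ rfl).mp x.2⟩
      one_smul := fun x => Subtype.ext (Subtype.ext (by
        show ((1 : H) : Γ) * (x.1 : Γ) * ((1 : H) : Γ)⁻¹ = (x.1 : Γ)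
        rw [Subgroup.coe_one]; group))
      mul_smul := fun a b x => Subtype.ext (Subtype.ext (by
        show ((a * b : H) : Γ) * (x.1 : Γ) * ((a * b : H) : Γ)⁻¹ =
          (a : Γ) * ((b : Γ) * (x.1 : Γ) * (b : Γ)⁻¹) * (a : Γ)⁻¹
        rw [Subgroup.coe_mul]; group)) }
  have hsm : ∀ (h : H) (x : {x : G // ConjClasses.mk x = K}),
      (((h • x : {x : G // ConjClasses.mk x = K}) : G) : Γ) =
        (h : Γ) * ((x : G) : Γ) * (h : Γ)⁻¹ := fun h x => rfl
  haveI : Nonempty {x : G // ConjClasses.mk x = K} := by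
    obtain ⟨x, hx⟩ := ConjClasses.exists_rep K
    exact ⟨⟨x, hx⟩⟩
  obtain ⟨G', hG'⟩ : ∃ G' : Subgroup H, G' = G.subgroupOf H := ⟨_, rfl⟩
  obtain ⟨S', hS'⟩ : ∃ S' : Subgroup H, S' = S.subgroupOf H := ⟨_, rfl⟩
  have hmemG' : ∀ x : H, x ∈ G' ↔ (x : Γ) ∈ G := by
    intro x; rw [hG']; exact Subgroup.mem_subgroupOf
  have hmemS' : ∀ x : H, x ∈ S' ↔ (x : Γ) ∈ S := by
    intro x; rw [hS']; exact Subgroup.mem_subgroupOf
  haveI hG'n : G'.Normal := by
    rw [hG']
    exact (Subgroup.normal_subgroupOf_iff hGH).mpr (fun g h hg hh => (hHstab hh).1 g hg)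
  have htop : G' ⊔ S' = ⊤ := by
    apply Subgroup.map_injective (Subgroup.subtype_injective H)
    rw [Subgroup.map_sup, hG', hS', Subgroup.map_subgroupOf_eq_of_le hGH,
      Subgroup.map_subgroupOf_eq_of_le hSH, ← MonoidHom.range_eq_map, Subgroup.range_subtype, hH]
  have hcardG : Nat.card G' = Nat.card G := by
    rw [hG']; exact Nat.card_congr (Subgroup.subgroupOfEquivOfLe hGH).toEquiv
  have hcardS : Nat.card S' = Nat.card S := by
    rw [hS']; exact Nat.card_congr (Subgroup.subgroupOfEquivOfLe hSH).toEquiv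
  have hcop' : (Nat.card G').Coprime (Nat.card S') := by rw [hcardG, hcardS]; exact hcop
  have hdisj : Disjoint G' S' := Subgroup.disjoint_of_coprime_natCard hcop'
  have hcompl : Subgroup.IsComplement' G' S' := by
    apply Subgroup.isComplement'_of_disjoint_and_mul_eq_univ hdisj
    rw [← Subgroup.normal_mul, htop]
    rfl
  have hidx : Nat.card S' = G'.index := hcompl.symm.index_eq_card.symm
  have hcop'' : (Nat.card G').Coprime G'.index := by rw [← hidx]; exact hcop'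
  have hsolvS' : Group.IsSolvable S' := by
    have e : S' ≃* S := by rw [hS']; exact Subgroup.subgroupOfEquivOfLe hSH
    haveI := hsolv
    exact Group.isSolvable_of_isSolvable_injective (f := e.toMonoidHom) e.injective
  have hsolvQ : Group.IsSolvable (H ⧸ G') := by
    haveI := hsolvS'
    obtain ⟨π, hπ⟩ : ∃ π : S' →* H ⧸ G', π = (QuotientGroup.mk' G').comp S'.subtype := ⟨_, rfl⟩
    apply Group.isSolvable_of_surjective (f := π)
    intro q
    obtain ⟨t, rfl⟩ := QuotientGroup.mk_surjective q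
    have ht : t ∈ G' ⊔ S' := by rw [htop]; exact Subgroup.mem_top t
    rw [Subgroup.mem_sup_of_normal_left] at ht
    obtain ⟨k, hk, h, hh, rfl⟩ := ht
    refine ⟨⟨h, hh⟩, ?_⟩
    rw [hπ]
    show ((h : H) : H ⧸ G') = ((k * h : H) : H ⧸ G')
    rw [QuotientGroup.mk_mul, (QuotientGroup.eq_one_iff k).mpr hk, one_mul]
  have htrans : ∀ x y : {x : G // ConjClasses.mk x = K}, ∃ k ∈ G', k • x = y := by
    intro x y
    have h1 : ConjClasses.mk x.1 = ConjClasses.mk y.1 := by rw [x.2, y.2]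
    obtain ⟨k, hk⟩ := isConj_iff.mp (ConjClasses.mk_eq_mk_iff_isConj.mp h1)
    refine ⟨⟨k, hGH k.2⟩, (hmemG' _).mpr k.2, ?_⟩
    apply Subtype.ext
    apply Subtype.ext
    rw [hsm, ← hk]
    simp only [Subgroup.coe_mul, Subgroup.coe_inv]
  obtain ⟨⟨x, hx⟩, hconj⟩ := lead.glauberman G' S' hidx hcop'' (Or.inr hsolvQ) htrans
  have hfix_of : ∀ c : G, (c : Γ) ∈ Subgroup.centralizer (S : Set Γ) →
      ∀ (hc : ConjClasses.mk c = K), ∀ h ∈ S',
      h • (⟨c, hc⟩ : {x : G // ConjClasses.mk x = K}) = ⟨c, hc⟩ := by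
    intro c hcS hc h hh
    apply Subtype.ext
    apply Subtype.ext
    rw [hsm]
    show (h : Γ) * (c : Γ) * (h : Γ)⁻¹ = (c : Γ)
    rw [Subgroup.mem_centralizer_iff] at hcS
    rw [hcS (h : Γ) ((hmemS' h).mp hh), mul_assoc, mul_inv_cancel, mul_one]
  constructor
  · refine ⟨x.1, ?_, x.2⟩
    rw [Subgroup.mem_centralizer_iff]
    intro s hs
    have h1 := hx ⟨s, hSH hs⟩ ((hmemS' _).mpr hs)
    have h2 := hsm ⟨s, hSH hs⟩ x
    rw [h1] at h2
    have h3 : s * ((x : G) : Γ) = s * ((x : G) : Γ) * s⁻¹ * s := by group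
    rw [h3]
    exact congrArg (· * s) h2.symm
  · intro c c' hc hc' hcK hc'K
    obtain ⟨k, hk, hkxy⟩ := hconj ⟨c, hcK⟩ ⟨c', hc'K⟩ (hfix_of c hc hcK) (hfix_of c' hc' hc'K)
    rw [Subgroup.mem_inf] at hk
    refine ⟨(k : Γ), ?_, ?_⟩
    · rw [Subgroup.mem_inf]
      refine ⟨(hmemG' k).mp hk.1, ?_⟩
      rw [Subgroup.mem_centralizer_iff]
      intro s hs
      have := (Subgroup.mem_centralizer_iff.mp hk.2) ⟨s, hSH hs⟩ ((hmemS' _).mpr hs)
      exact congrArg (Subtype.val : H → Γ) this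
    · have h1 := hsm k ⟨c, hcK⟩
      rw [hkxy] at h1
      exact h1.symm

end Glaub

end Cfsg.Agent.helper22
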