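import Mathlib
import Cfsg.Agent.Lib_helper22_Glaub19

set_option autoImplicit false
set_option linter.unusedSectionVars false
set_option linter.unusedVariables false

/-!
Glauberman correspondence, part 20 (helper22): the number of invariant classes.
-/

namespace Cfsg.Agent.helper22

universe u

section Count
variable {Γ : Type u} [Group Γ] [Finite Γ]

theorem class_of_fixed_inv (G S : Subgroup Γ) (hnorm : ∀ s ∈ S, ∀ g ∈ G, s * g * s⁻¹ ∈ G)
    (c : (G ⊓ Subgroup.centralizer (S : Set Γ) : Subgroup Γ)) :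
    ∀ s ∈ S, ∀ g g' : G, (g' : Γ) = s * g * s⁻¹ →
      ConjClasses.mk g = ConjClasses.mk (⟨c, (Subgroup.mem_inf.mp c.2).1⟩ : G) →
      ConjClasses.mk g' = ConjClasses.mk (⟨c, (Subgroup.mem_inf.mp c.2).1⟩ : G) := by
  intro s hs g g' hgg' hg
  obtain ⟨k, hk⟩ := isConj_iff.mp (ConjClasses.mk_eq_mk_iff_isConj.mp hg)
  have hk' : (k : Γ) * (g : Γ) * (k : Γ)⁻¹ = (c : Γ) := by
    have := congrArg (Subtype.val : G → Γ) hk
    simpa using this
  have hc : (c : Γ) ∈ Subgroup.centralizer (S : Set Γ) := (Subgroup.mem_inf.mp c.2).2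
  rw [Subgroup.mem_centralizer_iff] at hc
  apply ConjClasses.mk_eq_mk_iff_isConj.mpr
  apply isConj_iff.mpr
  refine ⟨⟨s * (k : Γ) * s⁻¹, hnorm s hs k k.2⟩, ?_⟩
  apply Subtype.ext
  simp only [Subgroup.coe_mul, Subgroup.coe_inv]
  rw [hgg']
  have e : s * (k : Γ) * s⁻¹ * (s * (g : Γ) * s⁻¹) * (s * (k : Γ) * s⁻¹)⁻¹ =
      s * ((k : Γ) * (g : Γ) * (k : Γ)⁻¹) * s⁻¹ := by group
  rw [e, hk', hc s hs, mul_assoc, mul_inv_cancel, mul_one]

theorem card_inv_classes_eq (G S : Subgroup Γ) (hnorm : ∀ s ∈ S, ∀ g ∈ G, s * g * s⁻¹ ∈ G)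
    (hcop : (Nat.card G).Coprime (Nat.card S)) (hsolv : Group.IsSolvable S) :
    Nat.card {K : ConjClasses G // ∀ s ∈ S, ∀ g g' : G, (g' : Γ) = s * g * s⁻¹ →
      ConjClasses.mk g = K → ConjClasses.mk g' = K} =
      Nat.card (ConjClasses (G ⊓ Subgroup.centralizer (S : Set Γ) : Subgroup Γ)) := by
  classical
  obtain ⟨f, hf⟩ : ∃ f : ConjClasses (G ⊓ Subgroup.centralizer (S : Set Γ) : Subgroup Γ) →
      {K : ConjClasses G // ∀ s ∈ S, ∀ g g' : G, (g' : Γ) = s * g * s⁻¹ →
        ConjClasses.mk g = K → ConjClasses.mk g' = K},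
      ∀ c : (G ⊓ Subgroup.centralizer (S : Set Γ) : Subgroup Γ),
        (f (ConjClasses.mk c) : ConjClasses G) =
          ConjClasses.mk (⟨c, (Subgroup.mem_inf.mp c.2).1⟩ : G) := by
    refine ⟨fun κ => ⟨ConjClasses.map (Subgroup.inclusion inf_le_left) κ, ?_⟩, fun c => rfl⟩
    induction κ using Quotient.inductionOn with
    | h c => exact class_of_fixed_inv G S hnorm c
  symm
  apply Nat.card_eq_of_bijective f
  constructor
  · intro κ κ' h
    induction κ using Quotient.inductionOn with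
    | h c =>
      induction κ' using Quotient.inductionOn with
      | h c' =>
        have h1 : (f (ConjClasses.mk c) : ConjClasses G) = f (ConjClasses.mk c') :=
          congrArg Subtype.val h
        rw [hf, hf] at h1
        obtain ⟨k, hk, hkc⟩ := (class_glauberman_gen G S hnorm hcop hsolv _
          (class_of_fixed_inv G S hnorm c)).2
          ⟨c, (Subgroup.mem_inf.mp c.2).1⟩ ⟨c', (Subgroup.mem_inf.mp c'.2).1⟩
          (Subgroup.mem_inf.mp c.2).2 (Subgroup.mem_inf.mp c'.2).2 rfl h1.symm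
        show ConjClasses.mk c = ConjClasses.mk c'
        apply ConjClasses.mk_eq_mk_iff_isConj.mpr
        apply isConj_iff.mpr
        refine ⟨⟨k, hk⟩, ?_⟩
        apply Subtype.ext
        simp only [Subgroup.coe_mul, Subgroup.coe_inv]
        exact hkc
  · rintro ⟨K, hK⟩
    obtain ⟨c, hc, hcK⟩ := (class_glauberman_gen G S hnorm hcop hsolv K hK).1
    refine ⟨ConjClasses.mk ⟨c, Subgroup.mem_inf.mpr ⟨c.2, hc⟩⟩, ?_⟩
    apply Subtype.ext
    rw [hf]
    exact hcK

end Count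

end Cfsg.Agent.helper22
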