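import Mathlib
import Cfsg.Agent.Lib_helper22_Glaub16
import Cfsg.Agent.Lib_helper22_Clifford
import Cfsg.Agent.Lib_helper22_Dade

set_option autoImplicit false
set_option linter.unusedSectionVars false
set_option linter.unusedVariables false

/-!
Glauberman correspondence, part 21 (helper22): multiplicities divide degrees (Clifford), and the
compatibility of the `p`-correspondence with a normal subgroup (abstract form).
-/

namespace Cfsg.Agent.helper22

open Cfsg
open scoped ComplexConjugate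

universe u

section Clifford
variable {G : Type u} [Group G] [Fintype G] (N : Subgroup G) [hN : N.Normal] [Fintype N]

/-- the multiplicity of a constituent of `χ_N` divides `χ(1)` -/
theorem mult_dvd_degree {χ : G → ℂ} (hχ : IsIrrCharacter G χ) {θ : N → ℂ}
    (hθ : IsIrrCharacter N θ) (e : ℕ) (he : classInner (helper5.res N χ) θ = e) (he0 : e ≠ 0) :
    e ∣ charDegree χ := by
  classical
  haveI : Fintype (IrrCharacter N) := Fintype.ofFinite _
  obtain ⟨n, hexp, hn, -⟩ :=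
    helper12.char_decomp (helper5.isCharacter_res N (helper24.irr_isCharacter hχ))
  have hdeg : charDegree χ = ∑ μ : IrrCharacter N, n μ * charDegree (μ : N → ℂ) := by
    have h1 : (χ 1 : ℂ) = ∑ μ : IrrCharacter N, (n μ : ℂ) * (μ : N → ℂ) 1 := by
      have := congrFun hexp 1
      rw [helper5.res_apply] at this
      rw [show ((1 : N) : G) = 1 from rfl] at this
      rw [this, Finset.sum_apply]
      rfl
    have h2 : ((charDegree χ : ℕ) : ℂ) =
        ((∑ μ : IrrCharacter N, n μ * charDegree (μ : N → ℂ) : ℕ) : ℂ) := by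
      rw [helper24.char_charDegree_cast (helper24.irr_isCharacter hχ), h1]
      push_cast
      refine Finset.sum_congr rfl (fun μ _ => ?_)
      rw [helper24.char_charDegree_cast (helper24.irr_isCharacter μ.2)]
    exact_mod_cast h2
  rw [hdeg]
  apply Finset.dvd_sum
  intro μ _
  by_cases h0 : n μ = 0
  · rw [h0, zero_mul]; exact dvd_zero e
  · have h1 : classInner (helper5.res N χ) θ ≠ 0 := by
      rw [he]; exact_mod_cast he0
    have h2 : classInner (helper5.res N χ) (μ : N → ℂ) ≠ 0 := by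
      rw [hn μ]; exact_mod_cast h0
    obtain ⟨g, hg⟩ := helper5.clifford_conj N hχ hθ μ.2 h1 h2
    have h3 : (n μ : ℂ) = e := by
      rw [← hn μ, hg, ← he]
      exact helper5.classInner_res_conjFunN N χ
        (helper24.char_isClassFunction (helper24.irr_isCharacter hχ)) g θ
    have h4 : n μ = e := by exact_mod_cast h3
    rw [h4]
    exact Dvd.intro _ rfl

end Clifford

section CliffordSub
variable {Γ : Type u} [Group Γ]

theorem mult_dvd_degree_sub (A B : Subgroup Γ) [Fintype A] [Fintype B] (hAB : A ≤ B)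
    (hn : ∀ b ∈ B, ∀ a ∈ A, b * a * b⁻¹ ∈ A) (χ : IrrCharacter B) (θ : IrrCharacter A) (e : ℕ)
    (he : classInner (fun a : A => (χ : B → ℂ) ⟨a, hAB a.2⟩) (θ : A → ℂ) = e) (he0 : e ≠ 0) :
    e ∣ charDegree (χ : B → ℂ) := by
  classical
  obtain ⟨A', hA'⟩ : ∃ A' : Subgroup B, A' = A.subgroupOf B := ⟨_, rfl⟩
  haveI hA'n : A'.Normal := by
    rw [hA']
    exact (Subgroup.normal_subgroupOf_iff hAB).mpr (fun a b ha hb => hn b hb a ha)
  haveI : Fintype A' := Fintype.ofFinite _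
  obtain ⟨ε, hε⟩ : ∃ ε : A' ≃* A, ∀ a' : A', ((ε a' : A) : Γ) = ((a' : B) : Γ) := by
    subst hA'
    exact ⟨Subgroup.subgroupOfEquivOfLe hAB, fun a' => Subgroup.subgroupOfEquivOfLe_apply_coe hAB a'⟩
  have hθ' : IsIrrCharacter A' (fun a' => (θ : A → ℂ) (ε a')) :=
    helper8.isIrrCharacter_comp_mulEquiv ε θ.2
  have h1 : classInner (helper5.res A' (χ : B → ℂ)) (fun a' => (θ : A → ℂ) (ε a')) = e := by
    rw [← he, ← helper12.classInner_comp_mulEquiv ε]
    congr 1
    funext a'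
    rw [helper5.res_apply]
    exact congrArg (χ : B → ℂ) (Subtype.ext (hε a').symm)
  exact mult_dvd_degree A' χ.2 hθ' e h1 he0

end CliffordSub

section Compat
variable {p : ℕ} {G N CG CN : Type u} [Group G] [Group N] [Group CG] [Group CN]
  [Fintype N] [Fintype CG] [Fintype CN]
  {ιN : N →* G} {ιG : CG →* G} {κ : CN →* CG} {ιNC : CN →* N}

/-- compatibility of the `p`-correspondence with a normal subgroup (abstract form) -/
theorem compat_abs [Fact p.Prime] (hsq : ∀ c : CN, ιG (κ c) = ιN (ιNC c))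
    {InvN : IrrCharacter N → Prop} (hN : GCorrAbs p ιNC InvN)
    {Pg : Type*} [Group Pg] [MulAction Pg (IrrCharacter N)] (hPg : IsPGroup p Pg)
    (hfixInv : ∀ ν : IrrCharacter N, InvN ν ↔ (∀ x : Pg, x • ν = ν))
    (χ : IrrCharacter G) {χ' : IrrCharacter CG} {ε₁ : ℤ} (hε₁ : ε₁ = 1 ∨ ε₁ = -1)
    (hχ' : ∀ γ : IrrCharacter CG, ∃ m : ℕ,
      classInner (fun b : CG => (χ : G → ℂ) (ιG b)) (γ : CG → ℂ) = m ∧
      (m : ℤ) ≡ (if γ = χ' then ε₁ else 0) [ZMOD p])
    (ha : ∀ (x : Pg) (ν : IrrCharacter N),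
      classInner (fun n : N => (χ : G → ℂ) (ιN n)) ((x • ν : IrrCharacter N) : N → ℂ) =
      classInner (fun n : N => (χ : G → ℂ) (ιN n)) (ν : N → ℂ))
    (ϑ : IrrCharacter N) (hϑ : InvN ϑ) {ϑ' : IrrCharacter CN} {ε₂ : ℤ} (hε₂ : ε₂ = 1 ∨ ε₂ = -1)
    (hϑ' : ∀ β'' : IrrCharacter CN, ∃ m : ℕ,
      classInner (fun c : CN => (ϑ : N → ℂ) (ιNC c)) (β'' : CN → ℂ) = m ∧
      (m : ℤ) ≡ (if β'' = ϑ' then ε₂ else 0) [ZMOD p])
    (hb : ∀ (x : Pg) (ν : IrrCharacter N),
      classInner (fun c : CN => ((x • ν : IrrCharacter N) : N → ℂ) (ιNC c)) (ϑ' : CN → ℂ) =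
      classInner (fun c : CN => (ν : N → ℂ) (ιNC c)) (ϑ' : CN → ℂ))
    (a k : ℕ) (hak : classInner (fun n : N => (χ : G → ℂ) (ιN n)) (ϑ : N → ℂ) = a)
    (hk : classInner (fun c : CN => (χ' : CG → ℂ) (κ c)) (ϑ' : CN → ℂ) = k) :
    (a : ℤ) * ε₂ ≡ ε₁ * k [ZMOD p] := by
  classical
  have hp : p.Prime := Fact.out
  haveI : Fintype (IrrCharacter N) := Fintype.ofFinite _
  -- way 1
  obtain ⟨m, hm, hmmod⟩ := comp_key hp hχ' ϑ' k hk
  -- way 2
  have hχN : IsCharacter N (fun n : N => (χ : G → ℂ) (ιN n)) :=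
    helper8.isCharacter_comp_monoidHom ιN (helper24.irr_isCharacter χ.2)
  obtain ⟨n, hexp, hn, -⟩ := helper12.char_decomp hχN
  have hkk : ∀ ν : IrrCharacter N, ∃ k : ℕ,
      classInner (fun c : CN => (ν : N → ℂ) (ιNC c)) (ϑ' : CN → ℂ) = k := fun ν =>
    helper12.classInner_char_nat
      (helper8.isCharacter_comp_monoidHom ιNC (helper24.irr_isCharacter ν.2))
      (helper24.irr_isCharacter ϑ'.2)
  choose kk hkk using hkk
  have hexp2 : (fun c : CN => (χ : G → ℂ) (ιG (κ c))) =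
      ∑ ν : IrrCharacter N, (n ν : ℂ) • (fun c : CN => (ν : N → ℂ) (ιNC c)) := by
    funext c
    have h1 : (χ : G → ℂ) (ιN (ιNC c)) =
        (∑ ν : IrrCharacter N, (n ν : ℂ) • (ν : N → ℂ)) (ιNC c) := congrFun hexp (ιNC c)
    rw [hsq, h1, Finset.sum_apply, Finset.sum_apply]
    rfl
  have hm2 : (m : ℂ) = ((∑ ν, n ν * kk ν : ℕ) : ℂ) := by
    rw [← hm, hexp2, helper24.classInner_sum_left]
    push_cast
    apply Finset.sum_congr rfl
    intro ν _
    rw [helper24.classInner_smul_left, hkk ν]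
  have hm3 : m = ∑ ν, n ν * kk ν := by exact_mod_cast hm2
  -- orbit sum
  have hninv : ∀ (x : Pg) (ν : IrrCharacter N), n (x • ν) = n ν := by
    intro x ν
    have : (n (x • ν) : ℂ) = (n ν : ℂ) := by rw [← hn, ← hn, ha]
    exact_mod_cast this
  have hkinv : ∀ (x : Pg) (ν : IrrCharacter N), kk (x • ν) = kk ν := by
    intro x ν
    have : (kk (x • ν) : ℂ) = (kk ν : ℂ) := by rw [← hkk, ← hkk, hb]
    exact_mod_cast this
  have horb := sum_fixed_modEq (Γ := Pg) (α := IrrCharacter N) p (⊤ : Subgroup Pg)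
    (by
      intro g
      obtain ⟨j, hj⟩ := hPg (g : Pg)
      exact ⟨j, Subtype.ext (by simpa using hj)⟩)
    (fun ν => n ν * kk ν)
    (fun h _ ν => by rw [hninv, hkinv])
  -- fixed terms
  have hfixterm : ∀ ν ∈ Finset.univ.filter (fun s : IrrCharacter N =>
      ∀ h ∈ (⊤ : Subgroup Pg), h • s = s), ν ≠ ϑ → p ∣ n ν * kk ν := by
    intro ν hν hne
    rw [Finset.mem_filter] at hν
    have hνinv : InvN ν := (hfixInv ν).mpr (fun x => hν.2 x (Subgroup.mem_top x))
    apply Dvd.dvd.mul_left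
    by_contra hnd
    exact hne (hN.inj ν ϑ hνinv hϑ ϑ' (kk ν) _ (hkk ν) hnd (hkk ϑ) (by
      have h1 := corr_mult hϑ' ϑ' (kk ϑ) (hkk ϑ)
      rw [if_pos rfl] at h1
      exact not_dvd_of_modEq_sign hp hε₂ h1))
  have hnϑ : n ϑ = a := by
    have : (n ϑ : ℂ) = (a : ℂ) := by rw [← hn, hak]
    exact_mod_cast this
  have hkϑ : (kk ϑ : ℤ) ≡ ε₂ [ZMOD p] := by
    have h1 := corr_mult hϑ' ϑ' (kk ϑ) (hkk ϑ)
    rwa [if_pos rfl] at h1
  -- the sum over fixed points is congruent to the ϑ-term (if ϑ is fixed) ...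
  have hsumfix : (∑ ν ∈ Finset.univ.filter (fun s : IrrCharacter N =>
      ∀ h ∈ (⊤ : Subgroup Pg), h • s = s), n ν * kk ν : ℕ) ≡
      (if (∀ h ∈ (⊤ : Subgroup Pg), h • ϑ = ϑ) then n ϑ * kk ϑ else 0) [MOD p] := by
    by_cases hϑfix : ∀ h ∈ (⊤ : Subgroup Pg), h • ϑ = ϑ
    · rw [if_pos hϑfix]
      have hmem : ϑ ∈ Finset.univ.filter (fun s : IrrCharacter N =>
          ∀ h ∈ (⊤ : Subgroup Pg), h • s = s) := by
        rw [Finset.mem_filter]; exact ⟨Finset.mem_univ _, hϑfix⟩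
      rw [← Finset.add_sum_erase _ _ hmem]
      have hrest : p ∣ ∑ ν ∈ (Finset.univ.filter (fun s : IrrCharacter N =>
          ∀ h ∈ (⊤ : Subgroup Pg), h • s = s)).erase ϑ, n ν * kk ν := by
        apply Finset.dvd_sum
        intro ν hν
        exact hfixterm ν (Finset.mem_of_mem_erase hν) (Finset.ne_of_mem_erase hν)
      have : (n ϑ * kk ϑ + ∑ ν ∈ (Finset.univ.filter (fun s : IrrCharacter N =>
          ∀ h ∈ (⊤ : Subgroup Pg), h • s = s)).erase ϑ, n ν * kk ν) ≡ n ϑ * kk ϑ + 0 [MOD p] :=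
        Nat.ModEq.add_left _ ((Nat.modEq_zero_iff_dvd).mpr hrest)
      rwa [add_zero] at this
    · rw [if_neg hϑfix]
      apply (Nat.modEq_zero_iff_dvd).mpr
      apply Finset.dvd_sum
      intro ν hν
      apply hfixterm ν hν
      intro h
      rw [h] at hν
      exact hϑfix (Finset.mem_filter.mp hν).2
  -- but `n ϑ * kk ϑ ≡ 0` unless ϑ is fixed: if not fixed, the whole thing is ≡ 0 and we need a * ε₂ ≡ 0
  have hmod : (m : ℤ) ≡ (a : ℤ) * ε₂ [ZMOD p] := by
    have h1 : (m : ℤ) ≡ ((if (∀ h ∈ (⊤ : Subgroup Pg), h • ϑ = ϑ) then n ϑ * kk ϑ else 0 : ℕ) : ℤ)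
        [ZMOD p] := by
      rw [hm3]
      exact (Int.natCast_modEq_iff).mpr (horb.trans hsumfix)
    by_cases hϑfix : ∀ h ∈ (⊤ : Subgroup Pg), h • ϑ = ϑ
    · rw [if_pos hϑfix] at h1
      refine h1.trans ?_
      push_cast
      rw [hnϑ]
      exact hkϑ.mul_left _
    · exfalso
      exact hϑfix (fun h _ => (hfixInv ϑ).mp hϑ h)
  exact hmod.symm.trans hmmod

end Compat

end Cfsg.Agent.helper22
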