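import Mathlib
import Cfsg.Agent.Lib_helper22_Glaub17
import Cfsg.Agent.Lib_helper22_Glaub21

set_option autoImplicit false
set_option linter.unusedSectionVars false
set_option linter.unusedVariables false

/-!
Glauberman correspondence, part 22 (helper22): the conjugation action on `Irr(A)`, equivariance
lemmas and the `p`-step for a subgroup normalized by `S`.
-/

namespace Cfsg.Agent.helper22

open Cfsg
open scoped ComplexConjugate

universe u

section Action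
variable {Γ : Type u} [Group Γ]

theorem normBy_inv {P A : Subgroup Γ} (h : ∀ x ∈ P, ∀ a ∈ A, x * a * x⁻¹ ∈ A) :
    ∀ x ∈ P, ∀ a ∈ A, x⁻¹ * a * x ∈ A := by
  intro x hx a ha
  have := h x⁻¹ (P.inv_mem hx) a ha
  rwa [inv_inv] at this

/-- conjugation by an element of `P` on a subgroup normalized by `P` -/
def conjE (P A : Subgroup Γ) (h : ∀ x ∈ P, ∀ a ∈ A, x * a * x⁻¹ ∈ A) (x : P) : A ≃* A :=
  conjEquiv A (x : Γ) (h x x.2) (normBy_inv h x x.2)

theorem conjE_coe (P A : Subgroup Γ) (h : ∀ x ∈ P, ∀ a ∈ A, x * a * x⁻¹ ∈ A) (x : P) (a : A) :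
    ((conjE P A h x a : A) : Γ) = (x : Γ) * (a : Γ) * (x : Γ)⁻¹ := rfl

/-- the action of `P` on `Irr(A)` -/
noncomputable def irrConjAction (P A : Subgroup Γ) (h : ∀ x ∈ P, ∀ a ∈ A, x * a * x⁻¹ ∈ A) :
    MulAction P (IrrCharacter A) where
  smul x ν := irrComp (conjE P A h x⁻¹) ν
  one_smul ν := by
    apply Subtype.ext
    funext a
    show (ν : A → ℂ) (conjE P A h (1 : P)⁻¹ a) = (ν : A → ℂ) a
    refine congrArg (ν : A → ℂ) (Subtype.ext ?_)
    rw [conjE_coe]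
    simp
  mul_smul x y ν := by
    apply Subtype.ext
    funext a
    show (ν : A → ℂ) (conjE P A h (x * y)⁻¹ a) =
      (ν : A → ℂ) (conjE P A h y⁻¹ (conjE P A h x⁻¹ a))
    refine congrArg (ν : A → ℂ) (Subtype.ext ?_)
    rw [conjE_coe, conjE_coe, conjE_coe]
    simp only [Subgroup.coe_inv, Subgroup.coe_mul, inv_inv]
    group

theorem irrConjAction_smul (P A : Subgroup Γ) (h : ∀ x ∈ P, ∀ a ∈ A, x * a * x⁻¹ ∈ A) (x : P)
    (ν : IrrCharacter A) :
    (@HSMul.hSMul P (IrrCharacter A) (IrrCharacter A)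
      (@instHSMul P (IrrCharacter A) (irrConjAction P A h).toSMul) x ν) =
      irrComp (conjE P A h x⁻¹) ν := rfl

theorem fixed_iff_invUnder (P A : Subgroup Γ) (h : ∀ x ∈ P, ∀ a ∈ A, x * a * x⁻¹ ∈ A)
    (ν : IrrCharacter A) :
    InvUnder P A (ν : A → ℂ) ↔ ∀ x : P, irrComp (conjE P A h x⁻¹) ν = ν := by
  rw [invUnder_iff_twist P A h (normBy_inv h) ν]
  constructor
  · intro h1 x
    exact h1 x⁻¹
  · intro h1 x
    have := h1 x⁻¹
    rw [inv_inv] at this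
    exact this

end Action

section Equivariance
variable {p : ℕ} {B C : Type u} [Group B] [Group C] [Fintype C] {ι : C →* B}
  {Inv : IrrCharacter B → Prop}

theorem corr_fixed (σB : B ≃* B) (σC : C ≃* C) (hσ : ∀ c, ι (σC c) = σB (ι c))
    {χ : IrrCharacter B} (hχσ : irrComp σB χ = χ) {β : IrrCharacter C} {ε : ℤ}
    (hp : p.Prime) (hε : ε = 1 ∨ ε = -1)
    (hmult : ∀ β'' : IrrCharacter C, ∃ m : ℕ,
      classInner (fun c : C => (χ : B → ℂ) (ι c)) (β'' : C → ℂ) = m ∧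
      (m : ℤ) ≡ (if β'' = β then ε else 0) [ZMOD p]) :
    irrComp σC β = β := by
  obtain ⟨m, hm, hmod⟩ := hmult β
  rw [if_pos rfl] at hmod
  have hpm := not_dvd_of_modEq_sign hp hε hmod
  have h1 := twist_inner_2 ι σC σB hσ χ β
  rw [hχσ] at h1
  exact corr_unique hmult _ m (h1.trans hm) hpm

theorem pre_fixed (h : GCorrAbs p ι Inv) (σB : B ≃* B) (σC : C ≃* C)
    (hσ : ∀ c, ι (σC c) = σB (ι c)) {χ : IrrCharacter B} (hχ : Inv χ)
    (hχσ : Inv (irrComp σB χ)) {β : IrrCharacter C} (hβσ : irrComp σC β = β) (m : ℕ)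
    (hm : classInner (fun c : C => (χ : B → ℂ) (ι c)) (β : C → ℂ) = m) (hpm : ¬ p ∣ m) :
    irrComp σB χ = χ := by
  have h1 := twist_inner_2 ι σC σB hσ χ β
  rw [hβσ] at h1
  exact h.inj _ χ hχσ hχ β m m (h1.trans hm) hpm hm hpm

end Equivariance

section Step
variable {Γ : Type u} [Group Γ] [Fintype Γ]

/-- the `p`-step of the chain for a subgroup `G` normalized by `S` -/
theorem gcorr_step {p : ℕ} (hp : p.Prime) (G S T M P : Subgroup Γ)
    (hnorm : ∀ s ∈ S, ∀ g ∈ G, s * g * s⁻¹ ∈ G)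
    (hTn : ∀ s ∈ S, ∀ t ∈ T, s * t * s⁻¹ ∈ T)
    (hTS : T ≤ S) (hMS : M ≤ S) (hM : M = T ⊔ P) (hPp : IsPGroup p P)
    (hpG : ¬ p ∣ Nat.card G)
    [Fintype (G ⊓ Subgroup.centralizer (M : Set Γ) : Subgroup Γ)] :
    ∃ (h21 : (G ⊓ Subgroup.centralizer (M : Set Γ) : Subgroup Γ) ≤
        G ⊓ Subgroup.centralizer (T : Set Γ)),
      GCorrAbs p (Subgroup.inclusion h21)
        (fun χ : IrrCharacter (G ⊓ Subgroup.centralizer (T : Set Γ) : Subgroup Γ) =>
          InvUnder P (G ⊓ Subgroup.centralizer (T : Set Γ)) χ.1) ∧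
      ∀ χ : IrrCharacter (G ⊓ Subgroup.centralizer (T : Set Γ) : Subgroup Γ),
        InvUnder P (G ⊓ Subgroup.centralizer (T : Set Γ)) χ.1 ↔
          InvUnder M (G ⊓ Subgroup.centralizer (T : Set Γ)) χ.1 := by
  classical
  have hPM : P ≤ M := by rw [hM]; exact le_sup_right
  have hPS : P ≤ S := hPM.trans hMS
  obtain ⟨B₁, hB₁⟩ : ∃ B₁ : Subgroup Γ, B₁ = G ⊓ Subgroup.centralizer (T : Set Γ) := ⟨_, rfl⟩
  rw [← hB₁]
  have hB₁G : B₁ ≤ G := by rw [hB₁]; exact inf_le_left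
  have hn₁ : ∀ z ∈ S, ∀ b ∈ B₁, z * b * z⁻¹ ∈ B₁ := by
    rw [hB₁]; exact centralizer_inf_normalized G S T hnorm hTn
  have hB₂eq : (G ⊓ Subgroup.centralizer (M : Set Γ) : Subgroup Γ) =
      B₁ ⊓ Subgroup.centralizer (P : Set Γ) := by
    rw [hB₁, hM]
    ext x
    rw [Subgroup.mem_inf, mem_centralizer_sup, Subgroup.mem_inf, Subgroup.mem_inf]
    tauto
  have hB₂B₁ : (G ⊓ Subgroup.centralizer (M : Set Γ) : Subgroup Γ) ≤ B₁ := by
    rw [hB₂eq]; exact inf_le_left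
  have hpB₁ : P ≠ ⊥ → ¬ p ∣ Nat.card B₁ := fun _ h =>
    hpG (h.trans (Subgroup.card_dvd_of_le hB₁G))
  have h := pgroup_gcorr hp (Nat.card P) B₁ P le_rfl (fun s hs => hn₁ s (hPS hs)) hPp hpB₁
    (G ⊓ Subgroup.centralizer (M : Set Γ)) hB₂eq hB₂B₁
  refine ⟨hB₂B₁, h, ?_⟩
  have hTcent : ∀ t ∈ T, ∀ b ∈ B₁, t * b * t⁻¹ = b := by
    intro t ht b hb
    rw [hB₁, Subgroup.mem_inf, Subgroup.mem_centralizer_iff] at hb
    rw [hb.2 t ht, mul_assoc, mul_inv_cancel, mul_one]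
  intro χ
  constructor
  · intro hχ
    apply invUnder_of_le_invStab
    rw [hM]
    apply sup_le
    · apply le_invStab (fun s hs => hn₁ s (hTS hs))
      intro t ht g g' hgg'
      have : g' = g := Subtype.ext (by rw [hgg', hTcent t ht g g.2])
      rw [this]
    · exact le_invStab (fun s hs => hn₁ s (hPS hs)) hχ
  · intro hχ s hs
    exact hχ s (hPM hs)

end Step

end Cfsg.Agent.helper22
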