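import Mathlib
import Cfsg.Agent.Lib_helper22_Glaub22
import Cfsg.Agent.Lib_helper12_Clifford

set_option autoImplicit false
set_option linter.unusedSectionVars false
set_option linter.unusedVariables false
set_option maxHeartbeats 1600000

/-!
Glauberman correspondence, part 23 (helper22): invariant constituents of induced characters for a
solvable coprime action (Isaacs 13.28/13.31 for solvable `S`), by the chain induction.
-/

namespace Cfsg.Agent.helper22

open Cfsg
open scoped ComplexConjugate

universe u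

section Chain
variable {Γ : Type u} [Group Γ] [Fintype Γ]

theorem exists_inv_over_chain (G S N : Subgroup Γ)
    (hnorm : ∀ s ∈ S, ∀ g ∈ G, s * g * s⁻¹ ∈ G) (hNG : N ≤ G)
    (hNnormal : ∀ g ∈ G, ∀ n ∈ N, g * n * g⁻¹ ∈ N) (hNS : ∀ s ∈ S, ∀ n ∈ N, s * n * s⁻¹ ∈ N)
    (hcop : (Nat.card G).Coprime (Nat.card S)) (hsolv : Group.IsSolvable S) (n : ℕ) :
    ∀ (T : Subgroup Γ), Nat.card S - Nat.card T ≤ n → T ≤ S →
    (∀ s ∈ S, ∀ t ∈ T, s * t * s⁻¹ ∈ T) →
    ∀ [Fintype (N ⊓ Subgroup.centralizer (T : Set Γ) : Subgroup Γ)]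
      (ϑ : IrrCharacter (N ⊓ Subgroup.centralizer (T : Set Γ) : Subgroup Γ)),
      InvUnder S (N ⊓ Subgroup.centralizer (T : Set Γ)) ϑ.1 →
      ∃ χ : IrrCharacter (G ⊓ Subgroup.centralizer (T : Set Γ) : Subgroup Γ),
        InvUnder S (G ⊓ Subgroup.centralizer (T : Set Γ)) χ.1 ∧
        classInner (fun a : (N ⊓ Subgroup.centralizer (T : Set Γ) : Subgroup Γ) =>
          χ.1 (Subgroup.inclusion (inf_le_inf_right _ hNG) a)) ϑ.1 ≠ 0 := by
  classical
  have hbase : ∀ [Fintype (N ⊓ Subgroup.centralizer (S : Set Γ) : Subgroup Γ)]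
      (ϑ : IrrCharacter (N ⊓ Subgroup.centralizer (S : Set Γ) : Subgroup Γ)),
      ∃ χ : IrrCharacter (G ⊓ Subgroup.centralizer (S : Set Γ) : Subgroup Γ),
        InvUnder S (G ⊓ Subgroup.centralizer (S : Set Γ)) χ.1 ∧
        classInner (fun a : (N ⊓ Subgroup.centralizer (S : Set Γ) : Subgroup Γ) =>
          χ.1 (Subgroup.inclusion (inf_le_inf_right _ hNG) a)) ϑ.1 ≠ 0 := by
    intro _ ϑ
    letI : Fintype (G ⊓ Subgroup.centralizer (S : Set Γ) : Subgroup Γ) := Fintype.ofFinite _
    obtain ⟨X, hX, hne⟩ := helper12.exists_irr_over_hom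
      (Subgroup.inclusion (inf_le_inf_right (Subgroup.centralizer (S : Set Γ)) hNG))
      (Subgroup.inclusion_injective _) ϑ.2
    refine ⟨⟨X, hX⟩, ?_, hne⟩
    intro s hs g g' hgg'
    have hg : (g : Γ) ∈ Subgroup.centralizer (S : Set Γ) := (Subgroup.mem_inf.mp g.2).2
    rw [Subgroup.mem_centralizer_iff] at hg
    have : g' = g := by
      apply Subtype.ext
      rw [hgg', hg s hs, mul_assoc, mul_inv_cancel, mul_one]
    rw [this]
  induction n with
  | zero =>
    intro T hcard hTS hTn instNT ϑ hϑS
    have hle : Nat.card S ≤ Nat.card T := by omega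
    obtain rfl : T = S := Subgroup.eq_of_le_of_card_ge hTS hle
    exact hbase ϑ
  | succ n ih =>
    intro T hcard hTS hTn instNT ϑ hϑS
    by_cases hTeq : T = S
    · subst hTeq
      exact hbase ϑ
    · obtain ⟨M, p, P, hp, hTM, hMS, hMn, hlt, hPp, hMeq⟩ :=
        exists_next_normal S hsolv T hTS hTn hTeq
      have : Fact p.Prime := Fact.mk hp
      have hPM : P ≤ M := by rw [hMeq]; exact le_sup_right
      have hPS : P ≤ S := hPM.trans hMS
      have hPne : P ≠ ⊥ := by
        intro h
        rw [h, sup_bot_eq] at hMeq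
        rw [hMeq] at hlt
        exact lt_irrefl _ hlt
      have hpG : ¬ p ∣ Nat.card G := by
        intro hdvd
        have hnt : Nontrivial P := (Subgroup.nontrivial_iff_ne_bot P).mpr hPne
        obtain ⟨k, hk⟩ := hPp.exists_card_eq
        have hk0 : k ≠ 0 := by
          intro h0
          rw [h0, pow_zero] at hk
          have := Finite.one_lt_card (α := P)
          omega
        have hpP : p ∣ Nat.card P := by rw [hk]; exact dvd_pow_self p hk0
        have hpS : p ∣ Nat.card S := hpP.trans (Subgroup.card_dvd_of_le hPS)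
        have := Nat.Coprime.eq_one_of_dvd (Nat.Coprime.coprime_dvd_left hdvd hcop) hpS
        exact hp.one_lt.ne' this
      have hpN : ¬ p ∣ Nat.card N := fun h => hpG (h.trans (Subgroup.card_dvd_of_le hNG))
      let _ : Fintype (G ⊓ Subgroup.centralizer (M : Set Γ) : Subgroup Γ) := Fintype.ofFinite _
      let _ : Fintype (N ⊓ Subgroup.centralizer (M : Set Γ) : Subgroup Γ) := Fintype.ofFinite _
      let _ : Fintype (G ⊓ Subgroup.centralizer (T : Set Γ) : Subgroup Γ) := Fintype.ofFinite _
      obtain ⟨hG21, hGc, hGeq⟩ := gcorr_step hp G S T M P hnorm hTn hTS hMS hMeq hPp hpG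
      obtain ⟨hN21, hNc, hNeq⟩ := gcorr_step hp N S T M P hNS hTn hTS hMS hMeq hPp hpN
      -- normalization
      have hnGT := centralizer_inf_normalized G S T hnorm hTn
      have hnGM := centralizer_inf_normalized G S M hnorm hMn
      have hnNT := centralizer_inf_normalized N S T hNS hTn
      have hnNM := centralizer_inf_normalized N S M hNS hMn
      -- step 1: the correspondent of ϑ
      have hϑP : InvUnder P (N ⊓ Subgroup.centralizer (T : Set Γ)) ϑ.1 :=
        fun s hs => hϑS s (hPS hs)
      obtain ⟨ϑ', ε₂, hε₂, hϑ'⟩ := hNc.exist ϑ hϑP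
      have hϑ'S : InvUnder S (N ⊓ Subgroup.centralizer (M : Set Γ)) ϑ'.1 := by
        rw [invUnder_iff_twist S _ hnNM (normBy_inv hnNM)]
        intro s
        exact corr_fixed (ι := Subgroup.inclusion hN21)
          (conjEquiv _ (s : Γ) (hnNT s s.2) (normBy_inv hnNT s s.2))
          (conjEquiv _ (s : Γ) (hnNM s s.2) (normBy_inv hnNM s s.2))
          (fun c => Subtype.ext rfl)
          ((invUnder_iff_twist S _ hnNT (normBy_inv hnNT) ϑ).mp hϑS s) hp hε₂ hϑ'
      -- step 2: induction
      have hMcard : Nat.card M ≤ Nat.card S := Subgroup.card_le_of_le hMS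
      obtain ⟨χ'', hχ''S, hχ''ne⟩ := ih M (by omega) hMS hMn ϑ' hϑ'S
      obtain ⟨e', he'⟩ := helper12.classInner_char_nat
        (helper8.isCharacter_comp_monoidHom
          (Subgroup.inclusion (inf_le_inf_right (Subgroup.centralizer (M : Set Γ)) hNG))
          (helper24.irr_isCharacter χ''.2)) (helper24.irr_isCharacter ϑ'.2)
      have he'0 : e' ≠ 0 := by
        intro h0
        apply hχ''ne
        rw [he', h0, Nat.cast_zero]
      have hpe' : ¬ p ∣ e' := by
        intro hd
        have h1 := mult_dvd_degree_sub (N ⊓ Subgroup.centralizer (M : Set Γ))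
          (G ⊓ Subgroup.centralizer (M : Set Γ))
          (inf_le_inf_right (Subgroup.centralizer (M : Set Γ)) hNG)
          (by
            intro b hb a ha
            rw [Subgroup.mem_inf] at hb ha ⊢
            refine ⟨hNnormal b hb.1 a ha.1, ?_⟩
            exact (Subgroup.centralizer (M : Set Γ)).mul_mem
              ((Subgroup.centralizer (M : Set Γ)).mul_mem hb.2 ha.2)
              ((Subgroup.centralizer (M : Set Γ)).inv_mem hb.2))
          χ'' ϑ' e' he' he'0
        have h2 := helper24.irr_degree_dvd_card χ''.2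
        have h3 : Nat.card (G ⊓ Subgroup.centralizer (M : Set Γ) : Subgroup Γ) ∣ Nat.card G :=
          Subgroup.card_dvd_of_le inf_le_left
        exact hpG (hd.trans (h1.trans (h2.trans h3)))
      -- step 3: go back up
      obtain ⟨χ, hχP, m, hm, hpm⟩ := hGc.surj χ''
      have hχM := (hGeq χ).mp hχP
      have hχS : InvUnder S (G ⊓ Subgroup.centralizer (T : Set Γ)) χ.1 := by
        rw [invUnder_iff_twist S _ hnGT (normBy_inv hnGT)]
        intro s
        refine pre_fixed hGc
          (conjEquiv _ (s : Γ) (hnGT s s.2) (normBy_inv hnGT s s.2))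
          (conjEquiv _ (s : Γ) (hnGM s s.2) (normBy_inv hnGM s s.2))
          (fun c => Subtype.ext rfl) hχP ?_
          ((invUnder_iff_twist S _ hnGM (normBy_inv hnGM) χ'').mp hχ''S s) m hm hpm
        apply (hGeq _).mpr
        intro x hx g g' hgg'
        rw [irrComp_apply, irrComp_apply]
        refine hχM ((s : Γ) * x * (s : Γ)⁻¹) (hMn s s.2 x hx) _ _ ?_
        rw [conjEquiv_coe, conjEquiv_coe, hgg']
        group
      refine ⟨χ, hχS, ?_⟩
      -- step 4: compatibility
      obtain ⟨χ'₀, ε₁, hε₁, hmult⟩ := hGc.exist χ hχP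
      have hχ'eq : χ'' = χ'₀ := corr_unique hmult χ'' m hm hpm
      rw [← hχ'eq] at hmult
      obtain ⟨a, ha⟩ := helper12.classInner_char_nat
        (helper8.isCharacter_comp_monoidHom
          (Subgroup.inclusion (inf_le_inf_right (Subgroup.centralizer (T : Set Γ)) hNG))
          (helper24.irr_isCharacter χ.2)) (helper24.irr_isCharacter ϑ.2)
      have hnP_NT : ∀ x ∈ P, ∀ b ∈ (N ⊓ Subgroup.centralizer (T : Set Γ) : Subgroup Γ),
          x * b * x⁻¹ ∈ (N ⊓ Subgroup.centralizer (T : Set Γ) : Subgroup Γ) :=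
        fun x hx => hnNT x (hPS hx)
      letI act := irrConjAction P (N ⊓ Subgroup.centralizer (T : Set Γ)) hnP_NT
      have hcompat := compat_abs (p := p)
        (ιN := Subgroup.inclusion (inf_le_inf_right (Subgroup.centralizer (T : Set Γ)) hNG))
        (ιG := Subgroup.inclusion hG21)
        (κ := Subgroup.inclusion (inf_le_inf_right (Subgroup.centralizer (M : Set Γ)) hNG))
        (ιNC := Subgroup.inclusion hN21)
        (fun c => Subtype.ext rfl) hNc (Pg := P) hPp
        (fun ν => fixed_iff_invUnder P _ hnP_NT ν)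
        χ hε₁ hmult
        (by
          intro x ν
          refine twist_inner_1 _ (conjE P _ hnP_NT x⁻¹) χ ?_ ν
          intro b
          exact hχP ((x⁻¹ : P) : Γ) (x⁻¹).2 _ _ rfl)
        ϑ hϑP hε₂ hϑ'
        (by
          intro x ν
          congr 1
          funext c
          show ν.1 (conjE P _ hnP_NT x⁻¹ (Subgroup.inclusion hN21 c)) =
            ν.1 (Subgroup.inclusion hN21 c)
          refine congrArg ν.1 (Subtype.ext ?_)
          rw [conjE_coe]
          have hc : (c : Γ) ∈ Subgroup.centralizer (M : Set Γ) := (Subgroup.mem_inf.mp c.2).2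
          rw [Subgroup.mem_centralizer_iff] at hc
          have h1 := hc ((x⁻¹ : P) : Γ) (hPM (x⁻¹).2)
          show ((x⁻¹ : P) : Γ) * (c : Γ) * ((x⁻¹ : P) : Γ)⁻¹ = (c : Γ)
          rw [h1, mul_assoc, mul_inv_cancel, mul_one])
        a e' ha he'
      intro h0
      have ha0 : a = 0 := by
        have : (a : ℂ) = 0 := by rw [← ha]; exact h0
        exact_mod_cast this
      rw [ha0] at hcompat
      have h5 : (p : ℤ) ∣ ε₁ * e' := by
        have := Int.modEq_iff_dvd.mp hcompat
        simpa using this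
      have h6 : (p : ℤ) ∣ (e' : ℤ) := by
        rcases hε₁ with rfl | rfl
        · simpa using h5
        · simpa using h5
      exact hpe' (by exact_mod_cast h6)

end Chain

end Cfsg.Agent.helper22
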