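import Mathlib
import Cfsg.Agent.Lib_helper22_Glaub3

set_option autoImplicit false
set_option linter.unusedSectionVars false
set_option linter.unusedVariables false

/-!
Arithmetic of an integer valued function `f` on a finite set of size `n` in terms of
`D(f) = n ∑ f² - (∑ f)²` (helper22).

* `dfun_setup` : with `∑ f = n k + r`, `t = k + 1 - f`: `D(f) = n ∑ t² - (n - r)²`, `∑ t = n - r`;
* `dfun_nonneg`, `dfun_const_of_zero`, `dfun_ge`, `dfun_structure`.
-/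

namespace Cfsg.Agent.helper22

universe u

section DFun
variable {L : Type*} [Fintype L]

theorem dfun_setup (f : L → ℤ) (n : ℤ) (hn : (Fintype.card L : ℤ) = n) (hn1 : 1 ≤ n) :
    ∃ k r : ℤ, 0 ≤ r ∧ r < n ∧ ∑ l, f l = n * k + r ∧
      n * ∑ l, f l ^ 2 - (∑ l, f l) ^ 2 = n * ∑ l, (k + 1 - f l) ^ 2 - (n - r) ^ 2 ∧
      ∑ l, (k + 1 - f l) = n - r := by
  have hn0 : 0 < n := by omega
  obtain ⟨e, he⟩ : ∃ e : ℤ, e = ∑ l, f l := ⟨_, rfl⟩
  refine ⟨e / n, e % n, Int.emod_nonneg _ hn0.ne', Int.emod_lt_of_pos _ hn0, ?_, ?_, ?_⟩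
  · rw [← he]
    exact (Int.mul_ediv_add_emod e n).symm
  · have h1 : ∑ l, (e / n + 1 - f l) ^ 2 =
        n * (e / n + 1) ^ 2 - 2 * (e / n + 1) * e + ∑ l, f l ^ 2 := by
      have : ∀ l, (e / n + 1 - f l) ^ 2 = (e / n + 1) ^ 2 - 2 * (e / n + 1) * f l + f l ^ 2 := by
        intro l; ring
      rw [Finset.sum_congr rfl (fun l _ => this l), Finset.sum_add_distrib,
        Finset.sum_sub_distrib, Finset.sum_const, Finset.card_univ, nsmul_eq_mul, hn,
        ← Finset.mul_sum, ← he]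
    have h2 : e = n * (e / n) + e % n := (Int.mul_ediv_add_emod e n).symm
    rw [h1, ← he]
    have h3 : n - e % n = n * (e / n + 1) - e := by linarith
    rw [h3]
    ring
  · rw [Finset.sum_sub_distrib, Finset.sum_const, Finset.card_univ, nsmul_eq_mul, hn, ← he]
    have h2 : e = n * (e / n) + e % n := (Int.mul_ediv_add_emod e n).symm
    linarith

theorem dfun_nonneg (f : L → ℤ) (n : ℤ) (hn : (Fintype.card L : ℤ) = n) (hn1 : 1 ≤ n) :
    0 ≤ n * ∑ l, f l ^ 2 - (∑ l, f l) ^ 2 := by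
  obtain ⟨k, r, hr0, hrn, he, hD, hT⟩ := dfun_setup f n hn hn1
  rw [hD]
  have h1 : ∑ l, (k + 1 - f l) ≤ ∑ l, (k + 1 - f l) ^ 2 :=
    Finset.sum_le_sum (fun l _ => Int.le_self_sq _)
  rw [hT] at h1
  nlinarith

theorem dfun_const_of_zero (f : L → ℤ) (n : ℤ) (hn : (Fintype.card L : ℤ) = n) (hn1 : 1 ≤ n)
    (h0 : n * ∑ l, f l ^ 2 - (∑ l, f l) ^ 2 = 0) : ∀ l l', f l = f l' := by
  have hn0 : 0 < n := by omega
  obtain ⟨e, he⟩ : ∃ e : ℤ, e = ∑ l, f l := ⟨_, rfl⟩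
  have h1 : ∑ l, (n * f l - e) ^ 2 = n * (n * ∑ l, f l ^ 2 - (∑ l, f l) ^ 2) := by
    have : ∀ l, (n * f l - e) ^ 2 = n ^ 2 * f l ^ 2 - 2 * n * e * f l + e ^ 2 := by
      intro l; ring
    rw [Finset.sum_congr rfl (fun l _ => this l), Finset.sum_add_distrib,
      Finset.sum_sub_distrib, Finset.sum_const, Finset.card_univ, nsmul_eq_mul, hn,
      ← Finset.mul_sum, ← Finset.mul_sum, ← he]
    ring
  rw [h0, mul_zero] at h1
  have h2 : ∀ l, n * f l = e := by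
    intro l
    have := (Finset.sum_eq_zero_iff_of_nonneg (fun l _ => sq_nonneg (n * f l - e))).mp h1 l
      (Finset.mem_univ l)
    have h3 : n * f l - e = 0 := pow_eq_zero_iff (two_ne_zero) |>.mp this
    linarith
  intro l l'
  have := (h2 l).trans (h2 l').symm
  exact mul_left_cancel₀ hn0.ne' this

theorem dfun_ge (f : L → ℤ) (n : ℤ) (hn : (Fintype.card L : ℤ) = n) (hn1 : 1 ≤ n)
    (hne : n * ∑ l, f l ^ 2 - (∑ l, f l) ^ 2 ≠ 0) :
    n - 1 ≤ n * ∑ l, f l ^ 2 - (∑ l, f l) ^ 2 := by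
  obtain ⟨k, r, hr0, hrn, he, hD, hT⟩ := dfun_setup f n hn hn1
  rw [hD] at hne ⊢
  have h1 : ∑ l, (k + 1 - f l) ≤ ∑ l, (k + 1 - f l) ^ 2 :=
    Finset.sum_le_sum (fun l _ => Int.le_self_sq _)
  rw [hT] at h1
  obtain ⟨Q, hQ⟩ : ∃ Q : ℤ, Q = ∑ l, (k + 1 - f l) ^ 2 := ⟨_, rfl⟩
  rw [← hQ] at h1 hne ⊢
  by_cases hr : r = 0
  · rw [hr, sub_zero] at h1 hne ⊢
    have h2 : Q ≠ n := by
      intro h
      apply hne
      rw [h]; ring
    have h3 : n + 1 ≤ Q := by omega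
    nlinarith
  · have hr1 : 1 ≤ r := by omega
    have h4 : 0 ≤ (r - 1) * (n - r - 1) := mul_nonneg (by omega) (by omega)
    nlinarith

theorem dfun_structure (f : L → ℤ) (n : ℤ) (hn : (Fintype.card L : ℤ) = n) (hn2 : 2 ≤ n)
    (hD1 : n * ∑ l, f l ^ 2 - (∑ l, f l) ^ 2 = n - 1) :
    ∃ (l₀ : L) (k ε : ℤ), (ε = 1 ∨ ε = -1) ∧ f l₀ = k + ε ∧ ∀ l, l ≠ l₀ → f l = k := by
  have hn1 : 1 ≤ n := by omega
  obtain ⟨k, r, hr0, hrn, he, hD, hT⟩ := dfun_setup f n hn hn1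
  rw [hD] at hD1
  have h1 : ∑ l, (k + 1 - f l) ≤ ∑ l, (k + 1 - f l) ^ 2 :=
    Finset.sum_le_sum (fun l _ => Int.le_self_sq _)
  obtain ⟨Q, hQ⟩ : ∃ Q : ℤ, Q = ∑ l, (k + 1 - f l) ^ 2 := ⟨_, rfl⟩
  rw [hT, ← hQ] at h1
  rw [← hQ] at hD1
  have hr : r ≠ 0 := by
    intro hr
    rw [hr, sub_zero] at hD1
    have : n * (Q - n - 1) = -1 := by linarith
    have h2 : n ∣ 1 := by
      have : n ∣ -1 := ⟨Q - n - 1, this.symm⟩
      exact (Int.dvd_neg).mp this
    have := Int.le_of_dvd one_pos h2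
    omega
  have hr1 : 1 ≤ r := by omega
  have h4 : 0 ≤ (r - 1) * (n - r - 1) := mul_nonneg (by omega) (by omega)
  have hQT : Q = n - r := by nlinarith
  have h5 : (r - 1) * (n - r - 1) = 0 := by nlinarith
  -- each t is 0 or 1
  have ht01 : ∀ l, (k + 1 - f l) ^ 2 = k + 1 - f l := by
    have h6 : ∑ l, ((k + 1 - f l) ^ 2 - (k + 1 - f l)) = 0 := by
      rw [Finset.sum_sub_distrib, ← hQ, hT, hQT, sub_self]
    intro l
    have := (Finset.sum_eq_zero_iff_of_nonneg (fun l _ => by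
      have := Int.le_self_sq (k + 1 - f l)
      omega)).mp h6 l (Finset.mem_univ l)
    omega
  rcases mul_eq_zero.mp h5 with h | h
  · -- r = 1: T = n - 1
    have hr' : r = 1 := by omega
    have hb : ∑ l, (1 - (k + 1 - f l)) ^ 2 = 1 := by
      have : ∀ l, (1 - (k + 1 - f l)) ^ 2 = 1 - (k + 1 - f l) := by
        intro l
        have := ht01 l
        nlinarith
      rw [Finset.sum_congr rfl (fun l _ => this l), Finset.sum_sub_distrib, hT, Finset.sum_const,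
        Finset.card_univ, nsmul_eq_mul, hn, hr']
      ring
    obtain ⟨l₀, hl₀, hoth⟩ := exists_unique_of_sum_sq_eq_one _ hb
    refine ⟨l₀, k, 1, Or.inl rfl, ?_, ?_⟩
    · rcases hl₀ with h1 | h1
      · linarith
      · exfalso
        have := ht01 l₀
        have h7 : k + 1 - f l₀ = 2 := by linarith
        rw [h7] at this
        norm_num at this
    · intro l hl
      have := hoth l hl
      linarith
  · -- r = n - 1: T = 1
    have hr' : r = n - 1 := by omega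
    have hb : ∑ l, (k + 1 - f l) ^ 2 = 1 := by
      rw [← hQ, hQT, hr']
      ring
    obtain ⟨l₀, hl₀, hoth⟩ := exists_unique_of_sum_sq_eq_one _ hb
    refine ⟨l₀, k + 1, -1, Or.inr rfl, ?_, ?_⟩
    · rcases hl₀ with h1 | h1
      · linarith
      · exfalso
        have := ht01 l₀
        rw [h1] at this
        norm_num at this
    · intro l hl
      have := hoth l hl
      linarith

end DFun

end Cfsg.Agent.helper22
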