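import Mathlib
import Cfsg.Agent.Lib_helper22_ProdSplit1
import Cfsg.Agent.Lib_helper22_GalPRes1
import Cfsg.Agent.Lib_helper1_ProdChar
import Cfsg.Agent.Lib_helper24_CharCount

set_option autoImplicit false
set_option linter.unusedSectionVars false
set_option linter.unusedVariables false

/-!
A character `Ξ` of `C × S`, `S` abelian of order `n ≥ 2`, with `∑_c |Ξ(c, x)|² = |C|` for all
`x ≠ 1` (helper22): then `Ξ(c, x) = ε γ₁(c) λ₀(x)` for `x ≠ 1` and
`Ξ(c, 1) = n ∑ k_γ γ(c) + ε γ₁(c)`.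
-/

namespace Cfsg.Agent.helper22

open Cfsg
open scoped ComplexConjugate

universe u

section ProdSplit
variable {C S : Type u} [Group C] [Group S] [Fintype C] [Fintype S]

theorem prod_split [Fintype (IrrCharacter C)] (hab : ∀ x y : S, x * y = y * x)
    (hn2 : 2 ≤ Fintype.card S) {Ξ : C × S → ℂ} (hΞ : IsCharacter (C × S) Ξ)
    (h1 : ∀ x : S, x ≠ 1 → ∑ c : C, Ξ (c, x) * conj (Ξ (c, x)) = (Nat.card C : ℂ)) :
    ∃ (γ₁ : IrrCharacter C) (lam₀ : IrrCharacter S) (ε : ℤ) (k : IrrCharacter C → ℕ),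
      (ε = 1 ∨ ε = -1) ∧
      (∀ (c : C) (x : S), x ≠ 1 →
        Ξ (c, x) = (ε : ℂ) * (γ₁ : C → ℂ) c * (lam₀ : S → ℂ) x) ∧
      (∀ c : C, Ξ (c, 1) = (Fintype.card S : ℂ) *
        ∑ γ : IrrCharacter C, (k γ : ℂ) * (γ : C → ℂ) c + (ε : ℂ) * (γ₁ : C → ℂ) c) := by
  classical
  haveI : Fintype (IrrCharacter S) := Fintype.ofFinite _
  haveI : Fintype (IrrCharacter (C × S)) := Fintype.ofFinite _
  obtain ⟨n, hn⟩ : ∃ n : ℕ, n = Fintype.card S := ⟨_, rfl⟩
  rw [← hn] at hn2 ⊢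
  have hl1 : ∀ l : IrrCharacter S, (l : S → ℂ) 1 = 1 := (S0187.result (G := S)).mp hab
  have hcardL : Fintype.card (IrrCharacter S) = n := by
    rw [← Nat.card_eq_fintype_card, card_irr_of_comm hab, Nat.card_eq_fintype_card, hn]
  have hcol : ∀ x : S, x ≠ 1 → ∑ l : IrrCharacter S, (l : S → ℂ) x = 0 := by
    intro x hx
    have h := helper24.irr_column_orthogonality (G := S) x 1
    rw [if_neg (fun hc => hx (isConj_one_left.mp hc))] at h
    rw [← h]
    apply Finset.sum_congr rfl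
    intro l _
    rw [hl1, map_one, mul_one]
  obtain ⟨nn, hexp, hnn, hnorm⟩ := helper12.char_decomp hΞ
  obtain ⟨m, hm⟩ : ∃ m : IrrCharacter C → IrrCharacter S → ℕ,
      ∀ γ l, m γ l = nn (helper1.irrProd (γ, l)) := ⟨_, fun _ _ => rfl⟩
  obtain ⟨E, hE⟩ : ∃ E : IrrCharacter C × IrrCharacter S ≃ IrrCharacter (C × S),
      ∀ x, E x = helper1.irrProd x :=
    ⟨Equiv.ofBijective helper1.irrProd ⟨helper1.irrProd_injective, helper1.irrProd_surjective⟩,
      fun _ => rfl⟩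
  have hval : ∀ (c : C) (x : S), Ξ (c, x) =
      ∑ γ : IrrCharacter C, ∑ l : IrrCharacter S,
        (m γ l : ℂ) * ((γ : C → ℂ) c * (l : S → ℂ) x) := by
    intro c x
    conv_lhs => rw [hexp]
    rw [Finset.sum_apply, ← Equiv.sum_comp E, Fintype.sum_prod_type]
    apply Finset.sum_congr rfl
    intro γ _
    apply Finset.sum_congr rfl
    intro l _
    rw [Pi.smul_apply, smul_eq_mul, hE, hm]
    rfl
  have hnorm' : classInner Ξ Ξ = ((∑ γ : IrrCharacter C, ∑ l : IrrCharacter S, m γ l ^ 2 : ℕ) : ℂ) := by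
    rw [hnorm]
    congr 1
    rw [← Equiv.sum_comp E, Fintype.sum_prod_type]
    apply Finset.sum_congr rfl
    intro γ _
    apply Finset.sum_congr rfl
    intro l _
    rw [hE, hm]
  -- the restriction to `C`
  obtain ⟨a, ha⟩ : ∃ a : IrrCharacter C → ℕ, ∀ γ, a γ = ∑ l, m γ l := ⟨_, fun _ => rfl⟩
  have hR : (fun c : C => Ξ (c, 1)) = ∑ γ : IrrCharacter C, (a γ : ℂ) • (γ : C → ℂ) := by
    funext c
    rw [hval, Finset.sum_apply]
    apply Finset.sum_congr rfl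
    intro γ _
    rw [Pi.smul_apply, smul_eq_mul, ha, Nat.cast_sum, Finset.sum_mul]
    apply Finset.sum_congr rfl
    intro l _
    rw [hl1, mul_one]
  have hRγ : ∀ γ : IrrCharacter C, classInner (fun c : C => Ξ (c, 1)) (γ : C → ℂ) = a γ := by
    intro γ
    rw [hR, helper24.classInner_sum_left, Finset.sum_eq_single γ]
    · rw [helper24.classInner_smul_left, helper24.irr_classInner_self γ.2, mul_one]
    · intro γ' _ hne
      rw [helper24.classInner_smul_left,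
        helper24.irr_classInner_ne γ'.2 γ.2 (fun h => hne (Subtype.ext h)), mul_zero]
    · intro h
      exact absurd (Finset.mem_univ γ) h
  have hRR : classInner (fun c : C => Ξ (c, 1)) (fun c : C => Ξ (c, 1)) =
      ((∑ γ : IrrCharacter C, a γ ^ 2 : ℕ) : ℂ) := by
    conv_lhs => arg 1; rw [hR]
    rw [helper24.classInner_sum_left, Nat.cast_sum]
    apply Finset.sum_congr rfl
    intro γ _
    rw [helper24.classInner_smul_left, ← helper24.classInner_conj_symm, hRγ, Complex.conj_natCast]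
    push_cast
    ring
  have hC0 : (Nat.card C : ℂ) ≠ 0 := Nat.cast_ne_zero.mpr Nat.card_pos.ne'
  have hn0 : (n : ℂ) ≠ 0 := Nat.cast_ne_zero.mpr (by omega)
  have hW1 : ∑ c : C, Ξ (c, 1) * conj (Ξ (c, 1)) =
      (Nat.card C : ℂ) * ((∑ γ : IrrCharacter C, a γ ^ 2 : ℕ) : ℂ) := by
    rw [← hRR]
    unfold classInner
    rw [← mul_assoc, mul_inv_cancel₀ hC0, one_mul]
  -- the norm identity
  have hkey : (n : ℂ) * ((∑ γ : IrrCharacter C, ∑ l : IrrCharacter S, m γ l ^ 2 : ℕ) : ℂ) =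
      ((∑ γ : IrrCharacter C, a γ ^ 2 : ℕ) : ℂ) + n - 1 := by
    rw [← hnorm']
    unfold classInner
    rw [Fintype.sum_prod_type, Finset.sum_comm]
    have h2 : ∀ x : S, ∑ c : C, Ξ (c, x) * conj (Ξ (c, x)) = (Nat.card C : ℂ) +
        (if x = 1 then ((Nat.card C : ℂ) * ((∑ γ : IrrCharacter C, a γ ^ 2 : ℕ) : ℂ) -
          (Nat.card C : ℂ)) else 0) := by
      intro x
      split_ifs with hx
      · rw [hx, hW1]; ring
      · rw [h1 x hx, add_zero]
    rw [Finset.sum_congr rfl (fun x _ => h2 x), Finset.sum_add_distrib, Finset.sum_const,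
      Finset.card_univ, nsmul_eq_mul, Finset.sum_ite_eq' Finset.univ (1 : S), if_pos (Finset.mem_univ _),
      Nat.card_prod, ← hn]
    have : (Nat.card S : ℂ) = n := by rw [hn, Nat.card_eq_fintype_card]
    push_cast
    rw [this]
    field_simp
    ring
  -- to integers
  have hkeyZ : (n : ℤ) * ∑ γ : IrrCharacter C, ∑ l : IrrCharacter S, (m γ l : ℤ) ^ 2 =
      ∑ γ : IrrCharacter C, (a γ : ℤ) ^ 2 + n - 1 := by exact_mod_cast hkey
  obtain ⟨D, hD⟩ : ∃ D : IrrCharacter C → ℤ, ∀ γ, D γ =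
      (n : ℤ) * ∑ l, (m γ l : ℤ) ^ 2 - (∑ l, (m γ l : ℤ)) ^ 2 := ⟨_, fun _ => rfl⟩
  have hcardLZ : (Fintype.card (IrrCharacter S) : ℤ) = (n : ℤ) := by exact_mod_cast hcardL
  have hn1Z : (1 : ℤ) ≤ n := by exact_mod_cast (by omega : 1 ≤ n)
  have hn2Z : (2 : ℤ) ≤ n := by exact_mod_cast hn2
  have hDnn : ∀ γ, 0 ≤ D γ := fun γ => by
    rw [hD]
    exact dfun_nonneg _ _ hcardLZ hn1Z
  have hDsum : ∑ γ, D γ = (n : ℤ) - 1 := by
    rw [Finset.sum_congr rfl (fun γ _ => hD γ), Finset.sum_sub_distrib, ← Finset.mul_sum, hkeyZ]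
    have : ∀ γ : IrrCharacter C, (∑ l, (m γ l : ℤ)) ^ 2 = (a γ : ℤ) ^ 2 := by
      intro γ
      rw [ha]
      push_cast
      rfl
    rw [Finset.sum_congr rfl (fun γ _ => this γ)]
    ring
  obtain ⟨γ₁, hγ₁⟩ : ∃ γ₁, D γ₁ ≠ 0 := by
    by_contra hno
    push Not at hno
    rw [Finset.sum_congr rfl (fun γ _ => hno γ), Finset.sum_const_zero] at hDsum
    omega
  have hDγ₁ge : (n : ℤ) - 1 ≤ D γ₁ := by
    rw [hD] at hγ₁ ⊢
    exact dfun_ge _ _ hcardLZ hn1Z hγ₁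
  have hsplit : ∑ γ, D γ = D γ₁ + ∑ γ ∈ Finset.univ.erase γ₁, D γ :=
    (Finset.add_sum_erase _ _ (Finset.mem_univ γ₁)).symm
  have hrest_nn : 0 ≤ ∑ γ ∈ Finset.univ.erase γ₁, D γ :=
    Finset.sum_nonneg (fun γ _ => hDnn γ)
  have hDγ₁ : D γ₁ = (n : ℤ) - 1 := by omega
  have hrest0 : ∑ γ ∈ Finset.univ.erase γ₁, D γ = 0 := by omega
  have hDother : ∀ γ, γ ≠ γ₁ → D γ = 0 := by
    intro γ hne
    exact (Finset.sum_eq_zero_iff_of_nonneg (fun γ _ => hDnn γ)).mp hrest0 γ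
      (Finset.mem_erase.mpr ⟨hne, Finset.mem_univ γ⟩)
  obtain ⟨l₀, k₁, ε, hε, hl₀, hlk⟩ := dfun_structure (fun l => (m γ₁ l : ℤ)) n hcardLZ hn2Z
    (by rw [← hD]; exact hDγ₁)
  obtain ⟨l', hl'⟩ : ∃ l' : IrrCharacter S, l' ≠ l₀ := by
    have : 1 < Fintype.card (IrrCharacter S) := by
      rw [hcardL]
      omega
    exact Fintype.exists_ne_of_one_lt_card this l₀
  obtain ⟨k, hk⟩ : ∃ k : IrrCharacter C → ℕ, ∀ γ, k γ = m γ l' := ⟨_, fun _ => rfl⟩
  have hmkC : ∀ γ l, (m γ l : ℂ) =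
      (k γ : ℂ) + (if γ = γ₁ ∧ l = l₀ then (ε : ℂ) else 0) := by
    intro γ l
    by_cases hγ : γ = γ₁
    · rw [hγ]
      have hk1 : ((m γ₁ l' : ℕ) : ℤ) = k₁ := hlk l' hl'
      by_cases hl : l = l₀
      · rw [hl, if_pos ⟨rfl, rfl⟩, hk]
        have : ((m γ₁ l₀ : ℕ) : ℤ) = (m γ₁ l' : ℕ) + ε := by rw [hk1]; exact hl₀
        exact_mod_cast this
      · rw [if_neg (fun h => hl h.2), add_zero, hk]
        have : ((m γ₁ l : ℕ) : ℤ) = (m γ₁ l' : ℕ) := by rw [hk1]; exact hlk l hl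
        exact_mod_cast this
    · rw [if_neg (fun h => hγ h.1), add_zero, hk]
      have := dfun_const_of_zero (fun l => (m γ l : ℤ)) n hcardLZ hn1Z
        (by rw [← hD]; exact hDother γ hγ) l l'
      exact_mod_cast this
  have hgen : ∀ (c : C) (x : S), Ξ (c, x) =
      (∑ γ : IrrCharacter C, (k γ : ℂ) * (γ : C → ℂ) c) * (∑ l : IrrCharacter S, (l : S → ℂ) x) +
        (ε : ℂ) * ((γ₁ : C → ℂ) c * (l₀ : S → ℂ) x) := by
    intro c x
    have e1 : ∀ γ : IrrCharacter C,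
        ∑ l : IrrCharacter S, (m γ l : ℂ) * ((γ : C → ℂ) c * (l : S → ℂ) x) =
          (k γ : ℂ) * (γ : C → ℂ) c * (∑ l : IrrCharacter S, (l : S → ℂ) x) +
          ∑ l : IrrCharacter S, (if γ = γ₁ ∧ l = l₀ then (ε : ℂ) else 0) *
            ((γ : C → ℂ) c * (l : S → ℂ) x) := by
      intro γ
      rw [Finset.mul_sum, ← Finset.sum_add_distrib]
      apply Finset.sum_congr rfl
      intro l _
      rw [hmkC]
      ring
    rw [hval, Finset.sum_congr rfl (fun γ _ => e1 γ), Finset.sum_add_distrib, ← Finset.sum_mul]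
    congr 1
    rw [Finset.sum_eq_single γ₁, Finset.sum_eq_single l₀]
    · rw [if_pos ⟨rfl, rfl⟩]
    · intro l _ hl
      rw [if_neg (fun h => hl h.2), zero_mul]
    · intro h
      exact absurd (Finset.mem_univ _) h
    · intro γ _ hγ
      apply Finset.sum_eq_zero
      intro l _
      rw [if_neg (fun h => hγ h.1), zero_mul]
    · intro h
      exact absurd (Finset.mem_univ _) h
  refine ⟨γ₁, l₀, ε, k, hε, ?_, ?_⟩
  · intro c x hx
    rw [hgen, hcol x hx, mul_zero, zero_add]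
    ring
  · intro c
    rw [hgen, hl1]
    have : ∑ l : IrrCharacter S, (l : S → ℂ) 1 = (n : ℂ) := by
      rw [Finset.sum_congr rfl (fun l _ => hl1 l), Finset.sum_const, Finset.card_univ, hcardL,
        nsmul_eq_mul, mul_one]
    rw [this]
    ring

end ProdSplit

end Cfsg.Agent.helper22
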