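import Mathlib
import Cfsg.Agent.Lib_helper22_Glaub11
import Cfsg.Agent.Lib_helper22_ProdSplit2
import Cfsg.Agent.Lib_helper22_FrobRam1

set_option autoImplicit false
set_option linter.unusedSectionVars false
set_option linter.unusedVariables false

/-!
The counting formula on a coset `B s` in general position (helper22): `B ≤ Γ` normalized by `s`,
`(|B|, o(s)) = 1`, by transport to `B ⟨s⟩`.
-/

namespace Cfsg.Agent.helper22

open Cfsg
open scoped ComplexConjugate

universe u

section General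
variable {Γ : Type u} [Group Γ] [Fintype Γ] (B : Subgroup Γ) [Fintype B] (s : Γ)
  [Fintype (fixC B s)]

theorem coset_sum_general
    (hnorm : ∀ z ∈ Subgroup.zpowers s, ∀ b ∈ B, z * b * z⁻¹ ∈ B)
    (hcop : (Nat.card B).Coprime (orderOf s)) (F : Γ → ℂ)
    (hF : ∀ y ∈ B, ∀ x : Γ, F (y * x * y⁻¹) = F x) :
    (Nat.card (fixC B s) : ℂ) * ∑ g : B, F ((g : Γ) * s) =
      (Nat.card B : ℂ) * ∑ c : fixC B s, F ((c : Γ) * s) := by
  classical
  obtain ⟨H, hH⟩ : ∃ H : Subgroup Γ, H = B ⊔ Subgroup.zpowers s := ⟨_, rfl⟩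
  have hBH : B ≤ H := by rw [hH]; exact le_sup_left
  have hsH : s ∈ H := by rw [hH]; exact Subgroup.mem_sup_right (Subgroup.mem_zpowers s)
  have hHnorm : H ≤ Subgroup.normalizer (B : Set Γ) := by
    rw [hH]
    apply sup_le Subgroup.le_normalizer
    exact Subgroup.le_normalizer_iff.mpr hnorm
  obtain ⟨B', hB'⟩ : ∃ B' : Subgroup H, B' = B.subgroupOf H := ⟨_, rfl⟩
  obtain ⟨s', hs'⟩ : ∃ s' : H, s' = ⟨s, hsH⟩ := ⟨_, rfl⟩
  have hs'coe : (s' : Γ) = s := by rw [hs']
  have hB'n : B'.Normal := by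
    rw [hB']
    exact (Subgroup.normal_subgroupOf_iff_le_normalizer hBH).mpr hHnorm
  have htop' : B' ⊔ Subgroup.zpowers s' = ⊤ := by
    apply Subgroup.map_injective (Subgroup.subtype_injective H)
    rw [Subgroup.map_sup, MonoidHom.map_zpowers, hB', Subgroup.map_subgroupOf_eq_of_le hBH,
      ← MonoidHom.range_eq_map, Subgroup.range_subtype]
    show B ⊔ Subgroup.zpowers (s' : Γ) = H
    rw [hs'coe, hH]
  obtain ⟨e, he⟩ : ∃ e : B' ≃* B, ∀ b' : B', ((e b' : B) : Γ) = ((b' : H) : Γ) := by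
    subst hB'
    exact ⟨Subgroup.subgroupOfEquivOfLe hBH, fun b' => Subgroup.subgroupOfEquivOfLe_apply_coe hBH b'⟩
  have hcard : Nat.card B' = Nat.card B := Nat.card_congr e.toEquiv
  have hords : orderOf s' = orderOf s := by rw [hs']; exact Subgroup.orderOf_mk s hsH
  have hcop' : (Nat.card B').Coprime (orderOf s') := by
    rw [hcard, hords]
    exact hcop
  let _ : Fintype H := Fintype.ofFinite _
  let _ : Fintype B' := Fintype.ofFinite _
  let _ : Fintype (fixC B' s') := Fintype.ofFinite _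
  have hmemB' : ∀ x : H, x ∈ B' ↔ (x : Γ) ∈ B := by
    intro x; rw [hB']; exact Subgroup.mem_subgroupOf
  have hfix_to : ∀ x : fixC B' s', (((x : H) : Γ)) ∈ fixC B s := by
    intro x
    have hx := (mem_fixC B' s').mp x.2
    unfold fixC
    rw [Subgroup.mem_inf, Subgroup.mem_centralizer_iff]
    refine ⟨(hmemB' _).mp hx.1, fun y hy => ?_⟩
    rw [Set.mem_singleton_iff] at hy
    rw [hy]
    have := congrArg (Subtype.val : H → Γ) hx.2
    rw [Subgroup.coe_mul, Subgroup.coe_mul, hs'coe] at this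
    exact this.symm
  obtain ⟨f, hf⟩ : ∃ f : fixC B' s' →* fixC B s, ∀ x, ((f x : fixC B s) : Γ) = ((x : H) : Γ) :=
    ⟨MonoidHom.mk' (fun x => ⟨((x : H) : Γ), hfix_to x⟩) (fun x y => rfl), fun x => rfl⟩
  have hfbij : Function.Bijective f := by
    constructor
    · intro x y hxy
      apply Subtype.ext
      apply Subtype.ext
      rw [← hf x, ← hf y, hxy]
    · intro c
      have hcB : (c : Γ) ∈ B := fixC_le' B s c.2
      have hcs : (c : Γ) * s = s * (c : Γ) := by
        have h1 := c.2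
        unfold fixC at h1
        rw [Subgroup.mem_inf, Subgroup.mem_centralizer_iff] at h1
        exact (h1.2 s rfl).symm
      have hmem : (⟨(c : Γ), hBH hcB⟩ : H) ∈ fixC B' s' := by
        rw [mem_fixC]
        refine ⟨(hmemB' _).mpr hcB, ?_⟩
        apply Subtype.ext
        rw [Subgroup.coe_mul, Subgroup.coe_mul, hs'coe]
        exact hcs
      refine ⟨⟨⟨(c : Γ), hBH hcB⟩, hmem⟩, ?_⟩
      apply Subtype.ext
      rw [hf]
  obtain ⟨eC, heC⟩ : ∃ eC : fixC B' s' ≃* fixC B s, ∀ x, eC x = f x :=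
    ⟨MulEquiv.ofBijective f hfbij, fun x => rfl⟩
  have hmain := coset_sum B' s' hcop' htop' (fun y : H => F (y : Γ)) (fun y hy x => by
    show F (((y * x * y⁻¹ : H) : Γ)) = F (x : Γ)
    rw [Subgroup.coe_mul, Subgroup.coe_mul, Subgroup.coe_inv]
    exact hF _ ((hmemB' y).mp hy) _)
  have hs1 : ∑ g : B', F ((((g : H) * s' : H)) : Γ) = ∑ g : B, F ((g : Γ) * s) := by
    refine Fintype.sum_equiv e.toEquiv _ _ ?_
    intro g
    show F ((((g : H) * s' : H)) : Γ) = F (((e g : B) : Γ) * s)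
    rw [he, Subgroup.coe_mul, hs'coe]
  have hs2 : ∑ c : fixC B' s', F ((((c : H) * s' : H)) : Γ) = ∑ c : fixC B s, F ((c : Γ) * s) := by
    refine Fintype.sum_equiv eC.toEquiv _ _ ?_
    intro c
    show F ((((c : H) * s' : H)) : Γ) = F (((eC c : fixC B s) : Γ) * s)
    rw [heC, hf, Subgroup.coe_mul, hs'coe]
  rw [← hs1, ← hs2, ← hcard, ← Nat.card_congr eC.toEquiv]
  exact hmain

end General

end Cfsg.Agent.helper22
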