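import Mathlib
import Cfsg.Agent.Lib_helper22_GlaubUnif1

set_option autoImplicit false
set_option linter.unusedSectionVars false
set_option linter.unusedVariables false

/-!
The Glauberman correspondent for a cyclic group all of whose non-identity elements have the same
centralizer (helper22).
-/

namespace Cfsg.Agent.helper22

open Cfsg
open scoped ComplexConjugate

universe u

section Unif
variable {Γ : Type u} [Group Γ] [Fintype Γ] (G S : Subgroup Γ) [Fintype G]

theorem glauberman_uniform (hnorm : ∀ s ∈ S, ∀ g ∈ G, s * g * s⁻¹ ∈ G)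
    (hcop : (Nat.card G).Coprime (Nat.card S)) (htop : G ⊔ S = ⊤) (hcyc : IsCyclic S)
    (C : Subgroup Γ) [Fintype C] (hC : C = G ⊓ Subgroup.centralizer (S : Set Γ)) (hCG : C ≤ G)
    (hfpf : ∀ x ∈ S, x ≠ 1 → G ⊓ Subgroup.centralizer ({x} : Set Γ) = C)
    (χ : IrrCharacter G) (χh : IrrCharacter Γ)
    (hext : ∀ g : G, (χh : Γ → ℂ) g = (χ : G → ℂ) g) (β : IrrCharacter C) (ε₀ : ℤ)
    (hε₀ : ε₀ = 1 ∨ ε₀ = -1)
    (hβ : ∀ c : C, ∀ s : Γ, Subgroup.zpowers s = S →
      (χh : Γ → ℂ) ((c : Γ) * s) = (ε₀ : ℂ) * (β : C → ℂ) c) :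
    ∃ ε : ℤ, (ε = 1 ∨ ε = -1) ∧
      (∃ μ : S → ℂ, IsCharacter S μ ∧ μ 1 = 1 ∧ (∀ x : S, μ x * μ x = 1) ∧
        ∀ c : C, ∀ x : S, x ≠ 1 →
          (χh : Γ → ℂ) ((c : Γ) * x) = (ε : ℂ) * (β : C → ℂ) c * μ x) ∧
      (∃ ϑ : C → ℂ, IsCharacter C ϑ ∧ (fun c : C => (χ : G → ℂ) ⟨c, hCG c.2⟩) =
        fun c => (Nat.card S : ℂ) * ϑ c + (ε : ℂ) * (β : C → ℂ) c) ∧
      (Nat.card S : ℤ) ∣ (charDegree (χ : G → ℂ) : ℤ) - ε * (charDegree (β : C → ℂ) : ℤ) := by
  classical
  haveI : Fintype S := Fintype.ofFinite _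
  haveI : Fintype (IrrCharacter C) := Fintype.ofFinite _
  have hχG : ∀ c : C, (χ : G → ℂ) ⟨c, hCG c.2⟩ = (χh : Γ → ℂ) (c : Γ) := by
    intro c
    exact (hext ⟨c, hCG c.2⟩).symm
  by_cases hn2 : 2 ≤ Fintype.card S
  · haveI hGn : G.Normal := by
      rw [← Subgroup.normalizer_eq_top_iff, eq_top_iff, ← htop]
      exact sup_le Subgroup.le_normalizer (Subgroup.le_normalizer_iff.mpr hnorm)
    have hcf : IsClassFunction Γ (χh : Γ → ℂ) :=
      helper24.char_isClassFunction (helper24.irr_isCharacter χh.2)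
    have hresG : IsIrrCharacter G (helper5.res G (χh : Γ → ℂ)) := by
      have : helper5.res G (χh : Γ → ℂ) = (χ : G → ℂ) := funext hext
      rw [this]
      exact χ.2
    have hcomm : ∀ (c : C) (x : S), Commute ((C.subtype) c) ((S.subtype) x) := by
      intro c x
      have h1 : (c : Γ) ∈ Subgroup.centralizer (S : Set Γ) := ((le_of_eq hC) c.2).2
      exact ((Subgroup.mem_centralizer_iff.mp h1) x x.2).symm
    obtain ⟨mulCS, hmul⟩ : ∃ f : C × S →* Γ, ∀ p, f p = (p.1 : Γ) * (p.2 : Γ) :=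
      ⟨MonoidHom.noncommCoprod C.subtype S.subtype hcomm, fun p => rfl⟩
    obtain ⟨Ξ, hΞdef⟩ : ∃ Ξ : C × S → ℂ, Ξ = fun p => (χh : Γ → ℂ) (mulCS p) := ⟨_, rfl⟩
    have hΞ : IsCharacter (C × S) Ξ := by
      rw [hΞdef]
      exact helper8.isCharacter_comp_monoidHom mulCS (helper24.irr_isCharacter χh.2)
    have hΞval : ∀ (c : C) (x : S), Ξ (c, x) = (χh : Γ → ℂ) ((c : Γ) * (x : Γ)) := by
      intro c x
      rw [hΞdef]
      show (χh : Γ → ℂ) (mulCS (c, x)) = _
      rw [hmul]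
    have hab : ∀ x y : S, x * y = y * x := by
      have h := (IsCyclic.isMulCommutative : IsMulCommutative S)
      exact fun a b => h.is_comm.comm a b
    have h1 : ∀ x : S, x ≠ 1 → ∑ c : C, Ξ (c, x) * conj (Ξ (c, x)) = (Nat.card C : ℂ) := by
      intro x hx
      have hx1 : (x : Γ) ≠ 1 := fun h => hx (Subtype.ext h)
      have hfix : fixC G (x : Γ) = C := hfpf (x : Γ) x.2 hx1
      haveI : Fintype (fixC G (x : Γ)) := Fintype.ofFinite _
      have hzle : Subgroup.zpowers (x : Γ) ≤ S := Subgroup.zpowers_le.mpr x.2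
      have hnormx : ∀ z ∈ Subgroup.zpowers (x : Γ), ∀ b ∈ G, z * b * z⁻¹ ∈ G :=
        fun z hz b hb => hnorm z (hzle hz) b hb
      have hcopx : (Nat.card G).Coprime (orderOf (x : Γ)) := by
        apply Nat.Coprime.coprime_dvd_right _ hcop
        rw [Subgroup.orderOf_coe]
        exact orderOf_dvd_natCard x
      obtain ⟨F, hFdef⟩ : ∃ F : Γ → ℂ,
          F = fun y => (χh : Γ → ℂ) y * conj ((χh : Γ → ℂ) y) := ⟨_, rfl⟩
      have hFcf : ∀ a b : Γ, F (b * a * b⁻¹) = F a := by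
        intro a b
        rw [hFdef]
        show (χh : Γ → ℂ) _ * conj ((χh : Γ → ℂ) _) = _
        rw [hcf]
      have hcs := coset_sum_general G (x : Γ) hnormx hcopx F (fun y _ a => hFcf a y)
      have hA : ∑ g : G, F ((g : Γ) * (x : Γ)) = (Nat.card G : ℂ) := by
        rw [← coset_norm_of_res_irr G χh.2 hresG (x : Γ)]
        apply Finset.sum_congr rfl
        intro g _
        have : (x : Γ) * (g : Γ) = (x : Γ) * ((g : Γ) * (x : Γ)) * (x : Γ)⁻¹ := by group
        rw [hFdef]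
        show (χh : Γ → ℂ) ((g : Γ) * x) * conj ((χh : Γ → ℂ) ((g : Γ) * x)) =
          (χh : Γ → ℂ) ((x : Γ) * g) * conj ((χh : Γ → ℂ) ((x : Γ) * g))
        rw [this, hcf]
      rw [hA] at hcs
      have hG0 : (Nat.card G : ℂ) ≠ 0 := Nat.cast_ne_zero.mpr Nat.card_pos.ne'
      have hB : ∑ c : fixC G (x : Γ), F ((c : Γ) * (x : Γ)) =
          (Nat.card (fixC G (x : Γ)) : ℂ) := by
        apply mul_left_cancel₀ hG0
        rw [← hcs]
        ring
      rw [← Nat.card_congr (MulEquiv.subgroupCongr hfix).toEquiv, ← hB]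
      symm
      refine Fintype.sum_equiv (MulEquiv.subgroupCongr hfix).toEquiv _ _ ?_
      intro c
      rw [hΞval, hFdef]
      rfl
    obtain ⟨γ₁, l₀, ε, k, hε, hxne, hx1⟩ := prod_split hab hn2 hΞ h1
    obtain ⟨s₀, hs₀⟩ := hcyc.exists_generator
    have hzp : Subgroup.zpowers (s₀ : Γ) = S := by
      apply le_antisymm (Subgroup.zpowers_le.mpr s₀.2)
      intro y hy
      obtain ⟨i, hi⟩ := Subgroup.mem_zpowers_iff.mp (hs₀ ⟨y, hy⟩)
      rw [Subgroup.mem_zpowers_iff]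
      refine ⟨i, ?_⟩
      have := congrArg Subtype.val hi
      rw [Subgroup.coe_zpow] at this
      exact this
    have hs₀ne : s₀ ≠ 1 := by
      intro h
      have hall : ∀ x : S, x = 1 := by
        intro x
        have := hs₀ x
        rw [h, Subgroup.zpowers_one_eq_bot, Subgroup.mem_bot] at this
        exact this
      have : Fintype.card S ≤ 1 :=
        Fintype.card_le_one_iff.mpr (fun a b => by rw [hall a, hall b])
      omega
    obtain ⟨w, hw⟩ : ∃ w : ℂ, w = (ε : ℂ) * (l₀ : S → ℂ) s₀ := ⟨_, rfl⟩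
    have hrel : ∀ c : C, (ε₀ : ℂ) * (β : C → ℂ) c = w * (γ₁ : C → ℂ) c := by
      intro c
      rw [← hβ c (s₀ : Γ) hzp, ← hΞval, hxne c s₀ hs₀ne, hw]
      ring
    have hε₀ne : (ε₀ : ℂ) ≠ 0 := by
      rcases hε₀ with h | h <;> rw [h] <;> norm_num
    have hγβ : γ₁ = β := by
      by_contra hne
      have h2 : classInner (fun c : C => (ε₀ : ℂ) * (β : C → ℂ) c) (β : C → ℂ) = ε₀ := by
        have : (fun c : C => (ε₀ : ℂ) * (β : C → ℂ) c) = (ε₀ : ℂ) • (β : C → ℂ) := rfl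
        rw [this, helper24.classInner_smul_left, helper24.irr_classInner_self β.2, mul_one]
      have h3 : classInner (fun c : C => (ε₀ : ℂ) * (β : C → ℂ) c) (β : C → ℂ) = 0 := by
        have : (fun c : C => (ε₀ : ℂ) * (β : C → ℂ) c) = w • (γ₁ : C → ℂ) := by
          funext c
          rw [hrel c]
          rfl
        rw [this, helper24.classInner_smul_left,
          helper24.irr_classInner_ne γ₁.2 β.2 (fun h => hne (Subtype.ext h)), mul_zero]
      exact hε₀ne (h2.symm.trans h3)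
    rw [hγβ] at hxne hx1 hrel
    have hw' : w = ε₀ := by
      have h2 := hrel 1
      obtain ⟨d, hd0, hd⟩ := helper24.irr_apply_one β.2
      have hβ1 : (β : C → ℂ) 1 ≠ 0 := by
        rw [hd]
        exact Nat.cast_ne_zero.mpr hd0.ne'
      exact (mul_right_cancel₀ hβ1 h2).symm
    have hεsq : (ε : ℂ) * (ε : ℂ) = 1 := by
      rcases hε with h | h <;> rw [h] <;> norm_num
    have hε₀sq : (ε₀ : ℂ) * (ε₀ : ℂ) = 1 := by
      rcases hε₀ with h | h <;> rw [h] <;> norm_num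
    have hl₀s₀ : (l₀ : S → ℂ) s₀ * (l₀ : S → ℂ) s₀ = 1 := by
      have h2 : (l₀ : S → ℂ) s₀ = (ε : ℂ) * ε₀ := by
        calc (l₀ : S → ℂ) s₀ = (ε : ℂ) * ((ε : ℂ) * (l₀ : S → ℂ) s₀) := by
              rw [← mul_assoc, hεsq, one_mul]
          _ = (ε : ℂ) * ε₀ := by rw [← hw, hw']
      rw [h2]
      calc (ε : ℂ) * ε₀ * ((ε : ℂ) * ε₀) = ((ε : ℂ) * ε) * ((ε₀ : ℂ) * ε₀) := by ring
        _ = 1 := by rw [hεsq, hε₀sq, one_mul]
    have hl1 : (l₀ : S → ℂ) 1 = 1 := (S0187.result (G := S)).mp hab l₀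
    obtain ⟨φ, hφ⟩ := linear_iff_hom.mp ⟨helper24.irr_isCharacter l₀.2, hl1⟩
    have hμsq : ∀ x : S, (l₀ : S → ℂ) x * (l₀ : S → ℂ) x = 1 := by
      intro x
      obtain ⟨i, hi⟩ := Subgroup.mem_zpowers_iff.mp (hs₀ x)
      have h2 : φ s₀ * φ s₀ = 1 := by
        apply Units.ext
        rw [Units.val_mul, ← hφ]
        exact hl₀s₀
      rw [hφ, ← Units.val_mul, ← hi, map_zpow, ← mul_zpow, h2, one_zpow]
      rfl
    have hχhΞ : ∀ c : C, (χh : Γ → ℂ) (c : Γ) = Ξ (c, 1) := by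
      intro c
      rw [hΞval, Subgroup.coe_one, mul_one]
    refine ⟨ε, hε, ⟨(l₀ : S → ℂ), helper24.irr_isCharacter l₀.2, hl1, hμsq, ?_⟩,
      ⟨fun c => ∑ γ : IrrCharacter C, (k γ : ℂ) * (γ : C → ℂ) c, ?_, ?_⟩, ?_⟩
    · intro c x hx
      rw [← hΞval, hxne c x hx]
    · have : (fun c : C => ∑ γ : IrrCharacter C, (k γ : ℂ) * (γ : C → ℂ) c) =
          ∑ γ : IrrCharacter C, (k γ) • (γ : C → ℂ) := by
        funext c
        rw [Finset.sum_apply]
        apply Finset.sum_congr rfl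
        intro γ _
        rw [Pi.smul_apply, nsmul_eq_mul]
      rw [this]
      exact helper12.isCharacter_sum _ _
        (fun γ _ => helper12.isCharacter_nsmul _ (helper24.irr_isCharacter γ.2))
    · funext c
      rw [hχG, hχhΞ, hx1 c, Nat.card_eq_fintype_card]
    · have h2 := hx1 1
      have h3 : Ξ ((1 : C), (1 : S)) = (charDegree (χ : G → ℂ) : ℂ) := by
        rw [← hχhΞ, helper24.char_charDegree_cast (helper24.irr_isCharacter χ.2)]
        exact hext 1
      rw [h3] at h2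
      have h4 : ∀ γ : IrrCharacter C, (γ : C → ℂ) 1 = (charDegree (γ : C → ℂ) : ℂ) :=
        fun γ => (helper24.char_charDegree_cast (helper24.irr_isCharacter γ.2)).symm
      rw [Finset.sum_congr rfl (fun γ _ => by rw [h4 γ]), h4 β] at h2
      have h5 : (charDegree (χ : G → ℂ) : ℤ) = (Fintype.card S : ℤ) *
          ∑ γ : IrrCharacter C, (k γ : ℤ) * (charDegree (γ : C → ℂ) : ℤ) +
            ε * (charDegree (β : C → ℂ) : ℤ) := by exact_mod_cast h2
      refine ⟨∑ γ : IrrCharacter C, (k γ : ℤ) * (charDegree (γ : C → ℂ) : ℤ), ?_⟩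
      rw [Nat.card_eq_fintype_card, h5]
      ring
  · -- trivial `S`
    have hcard1 : Fintype.card S = 1 := by
      have : 0 < Fintype.card S := Fintype.card_pos
      omega
    have hsub : ∀ x : S, x = 1 := by
      intro x
      haveI : Subsingleton S := Fintype.card_le_one_iff_subsingleton.mp hcard1.le
      exact Subsingleton.elim _ _
    have hSbot : S = ⊥ := by
      rw [eq_bot_iff]
      intro y hy
      have := hsub ⟨y, hy⟩
      exact Subgroup.mem_bot.mpr (congrArg Subtype.val this)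
    have hz : Subgroup.zpowers (1 : Γ) = S := by rw [hSbot, Subgroup.zpowers_one_eq_bot]
    have hval : ∀ c : C, (χh : Γ → ℂ) (c : Γ) = (ε₀ : ℂ) * (β : C → ℂ) c := by
      intro c
      have := hβ c 1 hz
      rwa [mul_one] at this
    refine ⟨ε₀, hε₀, ⟨fun _ => 1, helper24.irr_isCharacter helper24.isIrrCharacter_one, rfl,
      fun _ => by rw [mul_one], fun c x hx => absurd (hsub x) hx⟩,
      ⟨0, helper12.isCharacter_zero, ?_⟩, ?_⟩
    · funext c
      rw [hχG, hval, Pi.zero_apply, mul_zero, zero_add]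
    · rw [Nat.card_eq_fintype_card, hcard1]
      exact one_dvd _

end Unif

end Cfsg.Agent.helper22
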