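import Mathlib
import Cfsg.Agent.Lib_helper22_HtZero9
import Cfsg.Agent.Lib_helper24_Induced
import Cfsg.Agent.Lib_helper24_SecondMain2
import Cfsg.Agent.Lib_helper12_CharOps
import Cfsg.Agent.Lib_helper8_Clifford

set_option autoImplicit false
set_option linter.unusedSectionVars false
set_option linter.unusedVariables false
set_option linter.style.longLine false

/-!
helper22: the block parts of a character induced from a block `b` with `b^G` defined.
-/

namespace Cfsg.Agent.helper22

open Cfsg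
open scoped ComplexConjugate

universe u

section IndBlk
variable {G : Type u} [Group G]

theorem classInner_inst_irrel (i1 i2 : Fintype G) (f g : G → ℂ) :
    @classInner G _ i1 f g = @classInner G _ i2 f g := by
  have : i1 = i2 := Subsingleton.elim _ _
  subst this
  rfl

theorem blockPart_eq_finsum [inst : Fintype G] (B : Set (IrrCharacter G)) (ϑ : G → ℂ) (g : G) :
    blockPart B ϑ g = ∑ᶠ χ ∈ B, classInner ϑ (χ : G → ℂ) * (χ : G → ℂ) g := by
  unfold blockPart
  simp only [classInner_inst_irrel (Fintype.ofFinite G) inst]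

open Classical in
theorem blockPart_eq_sum_coeff [Fintype G] (B : Set (IrrCharacter G)) (ϑ : G → ℂ)
    (hϑ : IsClassFunction G ϑ) (y : G) :
    blockPart B ϑ y = ∑ k : G, blockCoeff B k * ϑ (k * y) := by
  haveI := Fintype.ofFinite (IrrCharacter G)
  rw [blockPart_eq_finsum, finsum_mem_eq_finite_toFinset_sum _ (Set.toFinite _)]
  have h3 : (Set.toFinite B).toFinset = Finset.univ.filter (fun φ => φ ∈ B) := by
    ext φ
    simp
  rw [h3, helper24.blockPart_eq_idempotent_sum B _ hϑ y]

/-- the value at `1` of the block part of an induced function -/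
theorem blockPart_ind_one [Fintype G] (H : Subgroup G) [Fintype H] (B : Set (IrrCharacter G))
    (ξ : H → ℂ) (hξ1 : ξ 1 ≠ 0) :
    blockPart B (indFun H ξ) 1 =
      indFun H ξ 1 * helper24.omegaFn ξ (fun h : H => blockCoeff B (h : G)) := by
  have hG : (Nat.card G : ℂ) ≠ 0 := by exact_mod_cast Nat.card_pos.ne'
  have hH : (Nat.card H : ℂ) ≠ 0 := by exact_mod_cast Nat.card_pos.ne'
  have hcl : IsClassFunction G (fun g => conj (blockCoeff B g)) := by
    intro g k
    show conj (blockCoeff B (k * g * k⁻¹)) = conj (blockCoeff B g)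
    rw [helper24.blockCoeff_isClassFunction B g k]
  rw [blockPart_eq_sum_coeff B _ (helper12.indFun_isClassFunction H ξ) 1]
  have h1 : ∑ k : G, blockCoeff B k * indFun H ξ (k * 1) =
      (Nat.card G : ℂ) * classInner (indFun H ξ) (fun g => conj (blockCoeff B g)) := by
    unfold classInner
    rw [← mul_assoc, mul_inv_cancel₀ hG, one_mul]
    refine Finset.sum_congr rfl (fun k _ => ?_)
    rw [mul_one, Complex.conj_conj, mul_comm]
  rw [h1, helper12.classInner_indFun_eq_restrict H ξ _ hcl, helper8.indFun_one_eq]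
  unfold classInner helper24.omegaFn
  have h2 : ∑ g : H, ξ g * conj ((fun h : H => (fun g => conj (blockCoeff B g)) (h : G)) g) =
      ∑ h : H, (fun h : H => blockCoeff B (h : G)) h * ξ h := by
    refine Finset.sum_congr rfl (fun k _ => ?_)
    show ξ k * conj (conj (blockCoeff B (k : G))) = blockCoeff B (k : G) * ξ k
    rw [Complex.conj_conj, mul_comm]
  rw [h2]
  field_simp

/-- the block part at `1` of a character is a natural number -/
theorem blockPart_char_one [Fintype G] (B : Set (IrrCharacter G)) {Θ : G → ℂ}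
    (hΘ : IsCharacter G Θ) :
    ∃ m : IrrCharacter G → ℕ, (∀ χ : IrrCharacter G, classInner Θ (χ : G → ℂ) = (m χ : ℂ)) ∧
      blockPart B Θ 1 =
        ((∑ χ ∈ (Set.toFinite B).toFinset, m χ * charDegree (χ : G → ℂ) : ℕ) : ℂ) := by
  have hex : ∀ χ : IrrCharacter G, ∃ n : ℕ, classInner Θ (χ : G → ℂ) = n :=
    fun χ => helper12.classInner_char_nat hΘ (helper24.irr_isCharacter χ.2)
  choose m hm using hex
  refine ⟨m, hm, ?_⟩
  rw [blockPart_eq_finsum, finsum_mem_eq_finite_toFinset_sum _ (Set.toFinite _)]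
  push_cast
  refine Finset.sum_congr rfl (fun χ _ => ?_)
  rw [hm χ, helper24.char_charDegree_cast (helper24.irr_isCharacter χ.2)]

end IndBlk

section Val

open helper24 in
/-- valuation of a natural number which is a local multiple of another -/
theorem val_of_ratio {p : ℕ} {M : Ideal AlgInt} (hM : IsPModular p M) (n N : ℕ) (hN : N ≠ 0)
    (w : ℂ) (hnw : (n : ℂ) = (N : ℂ) * w) :
    (MemLocalIdeal M w → n = 0 ∨ N.factorization p < n.factorization p) ∧
    (MemLocalIdeal M (w - 1) → n ≠ 0 ∧ n.factorization p = N.factorization p) := by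
  have hp := hM.1
  have hMp : M.IsPrime := hM.2.1.isPrime
  have hMtop := hMp.ne_top
  have hp0 : (p : ℂ) ≠ 0 := by exact_mod_cast hp.ne_zero
  obtain ⟨e, he⟩ : ∃ e, e = N.factorization p := ⟨_, rfl⟩
  obtain ⟨m, hm⟩ : ∃ m, m = N / p ^ e := ⟨_, rfl⟩
  have hNe : p ^ e * m = N := by
    rw [hm, he]; exact Nat.ordProj_mul_ordCompl_eq_self N p
  have hNc : (N : ℂ) = (p : ℂ) ^ e * (m : ℂ) := by exact_mod_cast hNe.symm
  have hmR : MemLocalRing M (m : ℂ) :=
    memLocalRing_of_integral hMtop (isIntegral_natCast_complex m)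
  have hnotdvd : ¬ p ^ (e + 1) ∣ N := by
    intro h
    have := (hp.pow_dvd_iff_le_factorization hN).mp h
    omega
  have hpe : p ^ e ∣ N := ⟨m, hNe.symm⟩
  rw [← he]
  constructor
  · intro hw
    have h1 : MemLocalIdeal M ((((n : ℤ)) : ℂ) / (p : ℂ) ^ e) := by
      have e1 : (((n : ℤ)) : ℂ) / (p : ℂ) ^ e = (m : ℂ) * w := by
        push_cast
        rw [hnw, hNc]
        field_simp
      rw [e1]
      exact memLocalIdeal_mul_left hmR hw
    have h2 := int_dvd_of_div_memLocalIdeal hM e _ h1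
    have h3 : p ^ (e + 1) ∣ n := by exact_mod_cast h2
    by_cases hn : n = 0
    · exact Or.inl hn
    · right
      have := (hp.pow_dvd_iff_le_factorization hn).mp h3
      omega
  · intro hw
    have h1 : MemLocalIdeal M ((((n : ℤ) - (N : ℤ) : ℤ) : ℂ) / (p : ℂ) ^ e) := by
      have e1 : ((((n : ℤ) - (N : ℤ) : ℤ)) : ℂ) / (p : ℂ) ^ e = (m : ℂ) * (w - 1) := by
        push_cast
        rw [hnw, hNc]
        field_simp
      rw [e1]
      exact memLocalIdeal_mul_left hmR hw
    have h2 := int_dvd_of_div_memLocalIdeal hM e _ h1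
    have hpeZ : ((p : ℤ) ^ e) ∣ (N : ℤ) := by exact_mod_cast hpe
    have hnotZ : ¬ ((p : ℤ) ^ (e + 1)) ∣ (N : ℤ) := by
      intro h
      apply hnotdvd
      exact_mod_cast h
    have hn0 : n ≠ 0 := by
      rintro rfl
      apply hnotZ
      have : ((p : ℤ) ^ (e + 1)) ∣ -(N : ℤ) := by simpa using h2
      exact (dvd_neg.mp this)
    refine ⟨hn0, ?_⟩
    have h3 : ((p : ℤ) ^ e) ∣ (n : ℤ) := by
      have h4 : ((p : ℤ) ^ e) ∣ ((n : ℤ) - (N : ℤ)) :=
        (pow_dvd_pow (p : ℤ) (Nat.le_succ e)).trans h2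
      have := dvd_add h4 hpeZ
      simpa using this
    have h3' : p ^ e ∣ n := by exact_mod_cast h3
    have hle := (hp.pow_dvd_iff_le_factorization hn0).mp h3'
    have hnot2 : ¬ p ^ (e + 1) ∣ n := by
      intro h
      apply hnotZ
      have hZ : ((p : ℤ) ^ (e + 1)) ∣ (n : ℤ) := by exact_mod_cast h
      have := dvd_sub hZ h2
      simpa using this
    have : ¬ e + 1 ≤ n.factorization p := by
      intro h
      exact hnot2 ((hp.pow_dvd_iff_le_factorization hn0).mpr h)
    omega

end Val

section Main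
variable {G : Type u} [Group G] [Fintype G]

theorem block_eq_of_mem {M : Ideal AlgInt} (hMp : M.IsPrime) {B B' : Set (IrrCharacter G)}
    (hB : IsPBlock M B) (hB' : IsPBlock M B') {χ : IrrCharacter G} (h : χ ∈ B) (h' : χ ∈ B') :
    B = B' := by
  ext ψ
  rw [mem_block_iff hMp hB h ψ, mem_block_iff hMp hB' h' ψ]

theorem block_nonempty {M : Ideal AlgInt} (hMp : M.IsPrime) {B : Set (IrrCharacter G)}
    (hB : IsPBlock M B) : ∃ χ : IrrCharacter G, χ ∈ B := by
  obtain ⟨χ₀, rfl⟩ := hB
  exact ⟨χ₀, helper24.sameBlock_refl M hMp.ne_top _⟩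

/-- the key congruence: the ratio `(ξ^G)_B(1) / ξ^G(1)` is `δ_{B, b^G}` modulo `J` -/
theorem ind_ratio (p : ℕ) [Fact p.Prime] {M : Ideal AlgInt} (hM : IsPModular p M)
    (H : Subgroup G) [Fintype H] {b : Set (IrrCharacter H)} {B₀ : Set (IrrCharacter G)}
    (hind : IsInducedBlock M H b B₀) {ξ : IrrCharacter H} (hξ : ξ ∈ b)
    (B : Set (IrrCharacter G)) (hB : IsPBlock M B) :
    MemLocalRing M (helper24.omegaFn (ξ : H → ℂ) (fun h : H => blockCoeff B (h : G))) ∧
    (B = B₀ → MemLocalIdeal M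
      (helper24.omegaFn (ξ : H → ℂ) (fun h : H => blockCoeff B (h : G)) - 1)) ∧
    (B ≠ B₀ → MemLocalIdeal M
      (helper24.omegaFn (ξ : H → ℂ) (fun h : H => blockCoeff B (h : G)))) := by
  haveI hMp : M.IsPrime := hM.2.1.isPrime
  have hMtop := hMp.ne_top
  obtain ⟨χ₀, hχ₀⟩ := block_nonempty hMp hind.2.1
  obtain ⟨χB, hχB⟩ := hB
  have hprops := helper24.blockCoeff_props (M := M) χB
  rw [← hχB] at hprops
  obtain ⟨hcf, hloc, homega, -⟩ := hprops
  have hsub := helper24.induced_omegaFn_sub H hind hξ hχ₀ hcf hloc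
  have hval := homega χ₀
  rw [hval] at hsub
  have hBblock : IsPBlock M B := ⟨χB, hχB⟩
  have hR : MemLocalRing M
      (helper24.omegaFn (ξ : H → ℂ) (fun h : H => blockCoeff B (h : G))) := by
    by_cases hmem : χ₀ ∈ B
    · rw [if_pos hmem] at hsub
      have h2 := helper24.memLocalRing_add (helper24.memLocalRing_of_memLocalIdeal hsub)
        (helper24.memLocalRing_one hMtop)
      simpa using h2
    · rw [if_neg hmem, sub_zero] at hsub
      exact helper24.memLocalRing_of_memLocalIdeal hsub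
  refine ⟨hR, ?_, ?_⟩
  · intro hBB
    have : χ₀ ∈ B := by rw [hBB]; exact hχ₀
    rwa [if_pos this] at hsub
  · intro hBB
    have : χ₀ ∉ B := by
      intro h
      exact hBB (block_eq_of_mem hMp hBblock hind.2.1 h hχ₀)
    rw [if_neg this, sub_zero] at hsub
    exact hsub

end Main

end Cfsg.Agent.helper22
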