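import Mathlib
import Cfsg.Agent.Lib_helper22_IndBlk1

set_option autoImplicit false
set_option linter.unusedSectionVars false
set_option linter.unusedVariables false
set_option linter.style.longLine false

/-!
helper22: valuations of the block parts of an induced character, and the height-zero constituent.
-/

namespace Cfsg.Agent.helper22

open Cfsg
open scoped ComplexConjugate

universe u

section IndBlk2
variable {G : Type u} [Group G] [Fintype G]

theorem charDegree_indFun (H : Subgroup G) [Fintype H] {ξ : H → ℂ} (hξ : IsCharacter H ξ) :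
    charDegree (indFun H ξ) * Nat.card H = Nat.card G * charDegree ξ := by
  have hΘ : IsCharacter G (indFun H ξ) := helper12.isCharacter_indFun H hξ
  have h1 := helper24.char_charDegree_cast hΘ
  have h2 := helper24.char_charDegree_cast hξ
  have hH : (Nat.card H : ℂ) ≠ 0 := by exact_mod_cast Nat.card_pos.ne'
  rw [helper8.indFun_one_eq, ← h2] at h1
  have h3 : ((charDegree (indFun H ξ) * Nat.card H : ℕ) : ℂ) =
      ((Nat.card G * charDegree ξ : ℕ) : ℂ) := by
    push_cast
    rw [h1]
    field_simp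
  exact_mod_cast h3

theorem ind_block_val (p : ℕ) [Fact p.Prime] {M : Ideal AlgInt} (hM : IsPModular p M)
    (H : Subgroup G) [Fintype H] {b : Set (IrrCharacter H)} {B₀ : Set (IrrCharacter G)}
    (hind : IsInducedBlock M H b B₀) {ξ : IrrCharacter H} (hξ : ξ ∈ b)
    (B : Set (IrrCharacter G)) (hB : IsPBlock M B) (n : ℕ)
    (hn : blockPart B (indFun H (ξ : H → ℂ)) 1 = (n : ℂ)) :
    (B = B₀ → n ≠ 0 ∧ n.factorization p =
      (charDegree (indFun H (ξ : H → ℂ))).factorization p) ∧
    (B ≠ B₀ → n = 0 ∨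
      (charDegree (indFun H (ξ : H → ℂ))).factorization p < n.factorization p) := by
  haveI hMp : M.IsPrime := hM.2.1.isPrime
  have hξc := helper24.irr_isCharacter ξ.2
  have hΘ : IsCharacter G (indFun H (ξ : H → ℂ)) := helper12.isCharacter_indFun H hξc
  have hξ1 := helper24.irr_apply_one_ne_zero ξ.2
  have hNc := helper24.char_charDegree_cast hΘ
  have hN0 : charDegree (indFun H (ξ : H → ℂ)) ≠ 0 := by
    intro h0
    have h1 := charDegree_indFun H hξc
    rw [h0, zero_mul] at h1
    have h2 : 0 < Nat.card G * charDegree (ξ : H → ℂ) :=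
      Nat.mul_pos Nat.card_pos (helper24.irr_charDegree_pos ξ.2)
    omega
  obtain ⟨hR, h1, h2⟩ := ind_ratio p hM H hind hξ B hB
  have hrel := blockPart_ind_one H B (ξ : H → ℂ) hξ1
  rw [hn, ← hNc] at hrel
  obtain ⟨v1, v2⟩ := val_of_ratio hM _ _ hN0 _ hrel
  exact ⟨fun hBB => v2 (h1 hBB), fun hBB => v1 (h2 hBB)⟩

/-- a height-zero constituent of `p'`-multiplicity in the induced character -/
theorem exists_height_zero_constituent (p : ℕ) [Fact p.Prime] {M : Ideal AlgInt}
    (hM : IsPModular p M) (H : Subgroup G) [Fintype H] {b : Set (IrrCharacter H)}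
    {B : Set (IrrCharacter G)} (hind : IsInducedBlock M H b B)
    (hdef : blockDefect p b = blockDefect p B) {ζ : IrrCharacter H} (hζ : ζ ∈ b)
    (hζ0 : blockHeight p b (ζ : H → ℂ) = 0) :
    ∃ χ ∈ B, blockHeight p B (χ : G → ℂ) = 0 ∧ ∃ a : ℕ,
      classInner (indFun H (ζ : H → ℂ)) (χ : G → ℂ) = (a : ℂ) ∧ ¬ p ∣ a := by
  classical
  have hp : p.Prime := Fact.out
  have hζc := helper24.irr_isCharacter ζ.2
  have hΘ : IsCharacter G (indFun H (ζ : H → ℂ)) := helper12.isCharacter_indFun H hζc
  obtain ⟨m, hm, hn⟩ := blockPart_char_one B hΘ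
  obtain ⟨hv, -⟩ := ind_block_val p hM H hind hζ B hind.2.1 _ hn
  obtain ⟨hn0, hnv⟩ := hv rfl
  obtain ⟨e₀', ψ₀', -, -, -, hda', hdec', -⟩ := block_data p hM b hind.1
  obtain ⟨e₀, ψ₀, -, -, -, hda, hdec, -⟩ := block_data p hM B hind.2.1
  have hdeg := charDegree_indFun H hζc
  have hζpos := helper24.irr_charDegree_pos ζ.2
  have hNpos : charDegree (indFun H (ζ : H → ℂ)) ≠ 0 := by
    intro h0
    rw [h0, zero_mul] at hdeg
    have h2 : 0 < Nat.card G * charDegree (ζ : H → ℂ) := Nat.mul_pos Nat.card_pos hζpos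
    omega
  have hfac : (charDegree (indFun H (ζ : H → ℂ))).factorization p +
      (Nat.card H).factorization p =
      (Nat.card G).factorization p + (charDegree (ζ : H → ℂ)).factorization p := by
    have h1 : (charDegree (indFun H (ζ : H → ℂ)) * Nat.card H).factorization p =
        (Nat.card G * charDegree (ζ : H → ℂ)).factorization p := by rw [hdeg]
    rw [Nat.factorization_mul hNpos Nat.card_pos.ne',
      Nat.factorization_mul Nat.card_pos.ne' hζpos.ne'] at h1
    simpa using h1
  have hζe := hdec' ζ hζ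
  rw [hζ0, add_zero] at hζe
  have hNe : (charDegree (indFun H (ζ : H → ℂ))).factorization p = e₀ := by omega
  by_contra hcon
  push_neg at hcon
  have hall : ∀ χ ∈ (Set.toFinite B).toFinset,
      p ^ (e₀ + 1) ∣ m χ * charDegree (χ : G → ℂ) := by
    intro χ hχ
    have hχB : χ ∈ B := (Set.Finite.mem_toFinset _).mp hχ
    have hχpos := helper24.irr_charDegree_pos χ.2
    have hχe := hdec χ hχB
    by_cases h0 : blockHeight p B (χ : G → ℂ) = 0
    · have hpm : p ∣ m χ := hcon χ hχB h0 (m χ) (hm χ)
      have hpe : p ^ e₀ ∣ charDegree (χ : G → ℂ) :=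
        (hp.pow_dvd_iff_le_factorization hχpos.ne').mpr (by omega)
      rw [pow_succ, mul_comm (p ^ e₀) p]
      exact mul_dvd_mul hpm hpe
    · have hpe : p ^ (e₀ + 1) ∣ charDegree (χ : G → ℂ) :=
        (hp.pow_dvd_iff_le_factorization hχpos.ne').mpr (by omega)
      exact Dvd.dvd.mul_left hpe _
  have hdvd := Finset.dvd_sum hall
  have := (hp.pow_dvd_iff_le_factorization hn0).mp hdvd
  omega

end IndBlk2

end Cfsg.Agent.helper22
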