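import Mathlib
import Cfsg.Agent.Lib_helper22_IndBlk2

set_option autoImplicit false
set_option linter.unusedSectionVars false
set_option linter.unusedVariables false
set_option linter.style.longLine false

/-!
helper22: the inner product of the `p`-regular cut of the restriction of `χ` with a member of a
block `b` with `b^G` defined.
-/

namespace Cfsg.Agent.helper22

open Cfsg
open scoped ComplexConjugate

universe u

section IndBlk3
variable {G : Type u} [Group G] [Fintype G]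

theorem centralChar_irrConj (ζ : IrrCharacter G) (g : G) :
    centralChar ((helper1.irrConj ζ : IrrCharacter G) : G → ℂ) g =
      centralChar (ζ : G → ℂ) g⁻¹ := by
  unfold centralChar
  rw [helper24.centralizer_inv_eq]
  show _ * conj ((ζ : G → ℂ) g) / conj ((ζ : G → ℂ) 1) = _
  rw [helper24.char_inv (helper24.irr_isCharacter ζ.2) g, irr_conj_apply_one ζ.2]

open Classical in
theorem inducedCentralChar_irrConj (H : Subgroup G) [Fintype H] (ψ : IrrCharacter H) (g : G) :
    inducedCentralChar H ((helper1.irrConj ψ : IrrCharacter H) : H → ℂ) g =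
      inducedCentralChar H (ψ : H → ℂ) g⁻¹ := by
  rw [helper24.inducedCentralChar_eq_sum, helper24.inducedCentralChar_eq_sum]
  rw [← Equiv.sum_comp (Equiv.inv H)
    (fun h : H => if IsConj g⁻¹ (h : G) then (ψ : H → ℂ) h / (ψ : H → ℂ) 1 else 0)]
  refine Finset.sum_congr rfl (fun h _ => ?_)
  have hc : IsConj g (h : G) ↔ IsConj g⁻¹ ((Equiv.inv H h : H) : G) := by
    rw [Equiv.inv_apply, isConj_iff, isConj_iff]
    push_cast
    constructor
    · rintro ⟨c, hc⟩
      refine ⟨c, ?_⟩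
      rw [← hc]; group
    · rintro ⟨c, hc⟩
      refine ⟨c, ?_⟩
      have : (c * g⁻¹ * c⁻¹)⁻¹ = ((h : G)⁻¹)⁻¹ := by rw [hc]
      rw [inv_inv] at this
      rw [← this]; group
  by_cases hcj : IsConj g (h : G)
  · rw [if_pos hcj, if_pos (hc.mp hcj)]
    show conj ((ψ : H → ℂ) h) / conj ((ψ : H → ℂ) 1) = (ψ : H → ℂ) h⁻¹ / (ψ : H → ℂ) 1
    rw [helper24.char_inv (helper24.irr_isCharacter ψ.2) h, irr_conj_apply_one ψ.2]
  · rw [if_neg hcj, if_neg (fun h' => hcj (hc.mpr h'))]

/-- the conjugate version of `induced_omegaFn_sub` -/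
theorem induced_omegaFn_sub_conj {M : Ideal AlgInt} [hMp : M.IsPrime] (H : Subgroup G)
    [Fintype H] {b : Set (IrrCharacter H)} {B : Set (IrrCharacter G)}
    (hind : IsInducedBlock M H b B) {ξ : IrrCharacter H} (hξ : ξ ∈ b) {χ : IrrCharacter G}
    (hχ : χ ∈ B) {a : G → ℂ} (ha : IsClassFunction G a) (hl : ∀ g, MemLocalRing M (a g)) :
    MemLocalIdeal M
      (helper24.omegaFn ((helper1.irrConj ξ : IrrCharacter H) : H → ℂ) (fun h : H => a (h : G)) -
        helper24.omegaFn ((helper1.irrConj χ : IrrCharacter G) : G → ℂ) a) := by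
  classical
  rw [helper24.omegaFn_restrict_eq_sum H _ ha,
    helper24.omegaFn_eq_sum_classes (helper24.irr_isCharacter (helper1.irrConj χ).2) ha,
    ← Finset.sum_sub_distrib]
  apply helper24.memLocalIdeal_sum
  intro C _
  rw [← mul_sub, inducedCentralChar_irrConj, centralChar_irrConj]
  exact helper24.memLocalIdeal_mul_left (hl _) (hind.2.2 ξ hξ χ hχ _)

/-- the contribution vanishes across blocks -/
theorem contrib_eq_zero (p : ℕ) [Fact p.Prime] {M : Ideal AlgInt} (hM : IsPModular p M)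
    (χ χ₀ : IrrCharacter G) (h : ¬ SameBlock M (χ : G → ℂ) (χ₀ : G → ℂ)) :
    contrib p (χ : G → ℂ) (χ₀ : G → ℂ) = 0 := by
  have hp : p.Prime := Fact.out
  have h1 := nInt_eq_zero p hM χ χ₀ h
  have h2 := nInt_spec p χ χ₀
  rw [h1] at h2
  have h3 := classInner_cut_eq p ((Nat.card G).factorization p) (χ : G → ℂ) χ₀.2
  have h4 : classInner (fun x : G => if p ∣ orderOf x then (0 : ℂ)
      else ((p ^ (Nat.card G).factorization p : ℕ) : ℂ) * (χ : G → ℂ) x) (χ₀ : G → ℂ) = 0 := by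
    have : cutFn p (χ : G → ℂ) = (fun x : G => if p ∣ orderOf x then (0 : ℂ)
      else ((p ^ (Nat.card G).factorization p : ℕ) : ℂ) * (χ : G → ℂ) x) := rfl
    rw [← this, h2]; simp
  rw [h4, zero_mul] at h3
  have hpa : ((p ^ (Nat.card G).factorization p : ℕ) : ℂ) ≠ 0 := by
    exact_mod_cast (pow_pos hp.pos _).ne'
  have hχ1 := helper24.irr_apply_one_ne_zero χ₀.2
  rcases mul_eq_zero.mp h3.symm with h5 | h5
  · rcases mul_eq_zero.mp h5 with h6 | h6
    · exact absurd h6 hpa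
    · exact absurd h6 hχ1
  · exact h5

/-- the main statement -/
theorem ind_cut_inner (p : ℕ) [Fact p.Prime] {M : Ideal AlgInt} (hM : IsPModular p M)
    (H : Subgroup G) [Fintype H] {b : Set (IrrCharacter H)} {B₀ : Set (IrrCharacter G)}
    (hind : IsInducedBlock M H b B₀) (χ : IrrCharacter G) {ψ : IrrCharacter H} (hψ : ψ ∈ b) :
    (χ ∉ B₀ → MemLocalIdeal M (classInner (fun h : H => if p ∣ orderOf h then (0 : ℂ)
      else ((p ^ (Nat.card H).factorization p : ℕ) : ℂ) * (χ : G → ℂ) h) (ψ : H → ℂ) /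
        (ψ : H → ℂ) 1)) ∧
    (χ ∈ B₀ → blockHeight p B₀ (χ : G → ℂ) = 0 →
      ¬ MemLocalIdeal M (classInner (fun h : H => if p ∣ orderOf h then (0 : ℂ)
      else ((p ^ (Nat.card H).factorization p : ℕ) : ℂ) * (χ : G → ℂ) h) (ψ : H → ℂ) /
        (ψ : H → ℂ) 1)) := by
  have hp : p.Prime := Fact.out
  haveI hMp : M.IsPrime := hM.2.1.isPrime
  have hMtop := hMp.ne_top
  have hχc := helper24.irr_isCharacter χ.2
  have hψ1 := helper24.irr_apply_one_ne_zero ψ.2
  have hHc : (Nat.card H : ℂ) ≠ 0 := by exact_mod_cast Nat.card_pos.ne'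
  obtain ⟨aH, haH⟩ : ∃ aH, aH = (Nat.card H).factorization p := ⟨_, rfl⟩
  obtain ⟨m', hm'⟩ : ∃ m' : ℕ, m' = Nat.card H / p ^ aH := ⟨_, rfl⟩
  have hHe : p ^ aH * m' = Nat.card H := by
    rw [hm', haH]; exact Nat.ordProj_mul_ordCompl_eq_self _ p
  have hm'p : ¬ p ∣ m' := by
    rw [hm', haH]; exact Nat.not_dvd_ordCompl hp Nat.card_pos.ne'
  have hm'0 : (m' : ℂ) ≠ 0 := by
    intro h
    have : m' = 0 := by exact_mod_cast h
    rw [this, mul_zero] at hHe
    exact Nat.card_pos.ne' hHe.symm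
  have hpa0 : ((p ^ aH : ℕ) : ℂ) ≠ 0 := by exact_mod_cast (pow_pos hp.pos _).ne'
  have hHc' : (Nat.card H : ℂ) = ((p ^ aH : ℕ) : ℂ) * (m' : ℂ) := by exact_mod_cast hHe.symm
  rw [← haH]
  -- the value as a central character
  obtain ⟨W, hW⟩ : ∃ W, W = helper24.omegaFn ((helper1.irrConj ψ : IrrCharacter H) : H → ℂ)
    (fun h : H => pregCut p (χ : G → ℂ) (h : G)) := ⟨_, rfl⟩
  have hval : classInner (fun h : H => if p ∣ orderOf h then (0 : ℂ)
      else ((p ^ aH : ℕ) : ℂ) * (χ : G → ℂ) h) (ψ : H → ℂ) / (ψ : H → ℂ) 1 =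
      (m' : ℂ)⁻¹ * W := by
    rw [hW]
    unfold classInner helper24.omegaFn pregCut
    have e1 : ∀ h : H, (if p ∣ orderOf h then (0 : ℂ)
        else ((p ^ aH : ℕ) : ℂ) * (χ : G → ℂ) h) * conj ((ψ : H → ℂ) h) =
        ((p ^ aH : ℕ) : ℂ) * ((if p ∣ orderOf (h : G) then (0 : ℂ) else (χ : G → ℂ) (h : G)) *
          ((helper1.irrConj ψ : IrrCharacter H) : H → ℂ) h) := by
      intro h
      rw [Subgroup.orderOf_coe]
      show _ = ((p ^ aH : ℕ) : ℂ) * ((if p ∣ orderOf h then (0 : ℂ) else (χ : G → ℂ) (h : G)) *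
          conj ((ψ : H → ℂ) h))
      split_ifs <;> ring
    rw [Finset.sum_congr rfl (fun h _ => e1 h), ← Finset.mul_sum]
    have e2 : ((helper1.irrConj ψ : IrrCharacter H) : H → ℂ) 1 = (ψ : H → ℂ) 1 := by
      show conj ((ψ : H → ℂ) 1) = _
      exact irr_conj_apply_one ψ.2
    rw [e2, hHc']
    field_simp
  have hm'R : MemLocalRing M ((m' : ℂ)⁻¹) :=
    helper24.memLocalRing_inv
      (helper24.memLocalRing_of_integral hMtop (helper24.isIntegral_natCast_complex m'))
      (helper24.natCast_not_memLocalIdeal hM hm'p)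
  have hcut_cf : IsClassFunction G (pregCut p (χ : G → ℂ)) :=
    pregCut_isClassFunction p (helper24.char_isClassFunction hχc)
  have hcut_loc : ∀ g, MemLocalRing M (pregCut p (χ : G → ℂ) g) :=
    fun g => pregCut_memLocalRing p hMtop hχc g
  have hcongr : ∀ χ₀ : IrrCharacter G, χ₀ ∈ B₀ →
      MemLocalIdeal M (W - contrib p (χ : G → ℂ) (χ₀ : G → ℂ)) := by
    intro χ₀ hχ₀
    rw [hW]
    exact induced_omegaFn_sub_conj H hind hψ hχ₀ hcut_cf hcut_loc
  rw [hval]
  constructor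
  · intro hχB
    obtain ⟨χ₀, hχ₀⟩ := block_nonempty hMp hind.2.1
    have hnot : ¬ SameBlock M (χ : G → ℂ) (χ₀ : G → ℂ) := by
      intro h
      apply hχB
      exact (mem_block_iff hMp hind.2.1 hχ₀ χ).mpr (helper24.sameBlock_symm h)
    have h1 := hcongr χ₀ hχ₀
    rw [contrib_eq_zero p hM χ χ₀ hnot, sub_zero] at h1
    exact helper24.memLocalIdeal_mul_left hm'R h1
  · intro hχB hht hmem
    have h1 := hcongr χ hχB
    have h2 : ¬ MemLocalIdeal M (contrib p (χ : G → ℂ) (χ : G → ℂ)) :=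
      (height_zero_iff_contrib p hM hind.2.1 hχB).mp hht
    apply h2
    have h3 : MemLocalIdeal M W := by
      have h4 := helper24.memLocalIdeal_mul_left
        (helper24.memLocalRing_of_integral hMtop (helper24.isIntegral_natCast_complex m')) hmem
      have e : (m' : ℂ) * ((m' : ℂ)⁻¹ * W) = W := by
        rw [← mul_assoc, mul_inv_cancel₀ hm'0, one_mul]
      rwa [e] at h4
    have h5 := helper24.memLocalIdeal_sub h3 h1
    rwa [sub_sub_cancel] at h5

end IndBlk3

end Cfsg.Agent.helper22
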