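import Mathlib
import Cfsg.Agent.Lib_helper22_IndBlk3

set_option autoImplicit false
set_option linter.unusedSectionVars false
set_option linter.unusedVariables false
set_option linter.style.longLine false

/-!
helper22: Blau's theorem: a height-zero character of an induced block `b^G` has a height-zero
constituent of `p'`-multiplicity in `b` on restriction.
-/

namespace Cfsg.Agent.helper22

open Cfsg
open scoped ComplexConjugate

universe u

section Blau
variable {G : Type u} [Group G] [Fintype G]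

theorem blau (p : ℕ) [Fact p.Prime] {M : Ideal AlgInt} (hM : IsPModular p M)
    (H : Subgroup G) [Fintype H] {b : Set (IrrCharacter H)} {B : Set (IrrCharacter G)}
    (hind : IsInducedBlock M H b B) (χ : IrrCharacter G) (hχ : χ ∈ B)
    (h0 : blockHeight p B (χ : G → ℂ) = 0) :
    ∃ ξ ∈ b, blockHeight p b (ξ : H → ℂ) = 0 ∧ ∃ n : ℕ,
      classInner (fun h : H => (χ : G → ℂ) h) (ξ : H → ℂ) = (n : ℂ) ∧ ¬ p ∣ n := by
  classical
  haveI := Fintype.ofFinite (IrrCharacter H)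
  have hp : p.Prime := Fact.out
  haveI hMp : M.IsPrime := hM.2.1.isPrime
  have hMtop := hMp.ne_top
  have hp0 : (p : ℂ) ≠ 0 := by exact_mod_cast hp.ne_zero
  obtain ⟨e₀, ψ₀, hψ₀b, he₀, hh₀, hda, hdec, hlea⟩ := block_data p hM b hind.1
  have hkey := (ind_cut_inner p hM H hind χ hψ₀b).2 hχ h0
  obtain ⟨θ, hθ⟩ : ∃ θ : H → ℂ, θ = fun h : H => (χ : G → ℂ) h := ⟨_, rfl⟩
  have hθc : IsCharacter H θ := by
    rw [hθ]; exact helper12.isCharacter_restrict H (helper24.irr_isCharacter χ.2)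
  have hkey' : ¬ MemLocalIdeal M (classInner (cutFn p θ) (ψ₀ : H → ℂ) / (ψ₀ : H → ℂ) 1) := by
    rw [hθ]; exact hkey
  have hex : ∀ ξ : IrrCharacter H, ∃ n : ℕ, classInner θ (ξ : H → ℂ) = n :=
    fun ξ => helper12.classInner_char_nat hθc (helper24.irr_isCharacter ξ.2)
  choose m hm using hex
  by_contra hcon
  push_neg at hcon
  have hpm : ∀ ξ ∈ b, blockHeight p b (ξ : H → ℂ) = 0 → p ∣ m ξ := by
    intro ξ hξ hξ0
    apply hcon ξ hξ hξ0 (m ξ)
    rw [← hθ]; exact hm ξ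
  obtain ⟨c, hc0, hc, hexp⟩ := cut_expansion p hM ψ₀
  have hcn : ∀ ξ, c ξ = nInt p ψ₀ ξ := by
    intro ξ
    have h1 := hc ξ
    rw [nInt_spec] at h1
    exact_mod_cast h1.symm
  have hz : classInner (cutFn p θ) (ψ₀ : H → ℂ) =
      ((∑ ξ : IrrCharacter H, c ξ * (m ξ : ℤ) : ℤ) : ℂ) := by
    rw [classInner_cutFn_symm, hexp, helper24.classInner_sum_left, map_sum]
    push_cast
    apply Finset.sum_congr rfl
    intro ξ _
    rw [helper24.classInner_smul_left, ← helper24.classInner_conj_symm θ (ξ : H → ℂ), hm ξ]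
    simp
  have hdvd : ((p : ℤ) ^ (e₀ + 1)) ∣ ∑ ξ : IrrCharacter H, c ξ * (m ξ : ℤ) := by
    apply Finset.dvd_sum
    intro ξ _
    by_cases hξb : ξ ∈ b
    · have hv := nInt_val p hM hind.1 hψ₀b hh₀ ξ hξb
      have hd1 : ((p : ℤ) ^ (charDegree (ξ : H → ℂ)).factorization p) ∣ c ξ := by
        rw [hcn]; exact (padicValInt_dvd_iff _ _).mpr (Or.inr hv.2.ge)
      have hξe := hdec ξ hξb
      by_cases hξ0 : blockHeight p b (ξ : H → ℂ) = 0
      · have h1 : ((p : ℤ) ^ e₀) ∣ c ξ := by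
          rw [hξe, hξ0, add_zero] at hd1; exact hd1
        have h2 : (p : ℤ) ∣ (m ξ : ℤ) := by exact_mod_cast hpm ξ hξb hξ0
        rw [pow_succ]
        exact mul_dvd_mul h1 h2
      · have h1 : ((p : ℤ) ^ (e₀ + 1)) ∣ c ξ := (pow_dvd_pow _ (by omega)).trans hd1
        exact Dvd.dvd.mul_right h1 _
    · have h1 : c ξ = 0 :=
        hc0 ξ (fun h => hξb ((mem_block_iff hMp hind.1 hψ₀b ξ).mpr h))
      rw [h1, zero_mul]; exact dvd_zero _
  apply hkey'
  obtain ⟨t, ht⟩ := hdvd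
  rw [hz, ht]
  obtain ⟨m', hm'⟩ : ∃ m' : ℕ, m' = charDegree (ψ₀ : H → ℂ) / p ^ e₀ := ⟨_, rfl⟩
  have hDe : p ^ e₀ * m' = charDegree (ψ₀ : H → ℂ) := by
    rw [hm', ← he₀]; exact Nat.ordProj_mul_ordCompl_eq_self _ p
  have hm'p : ¬ p ∣ m' := by
    rw [hm', ← he₀]
    exact Nat.not_dvd_ordCompl hp (helper24.irr_charDegree_pos ψ₀.2).ne'
  have hm'0 : (m' : ℂ) ≠ 0 := by
    intro h
    have h1 : m' = 0 := by exact_mod_cast h
    rw [h1, mul_zero] at hDe
    exact (helper24.irr_charDegree_pos ψ₀.2).ne' hDe.symm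
  have hψ1 : (ψ₀ : H → ℂ) 1 = (p : ℂ) ^ e₀ * (m' : ℂ) := by
    rw [← helper24.char_charDegree_cast (helper24.irr_isCharacter ψ₀.2), ← hDe]
    push_cast; ring
  have e1 : (((p : ℤ) ^ (e₀ + 1) * t : ℤ) : ℂ) / (ψ₀ : H → ℂ) 1 =
      ((t : ℂ) * (m' : ℂ)⁻¹) * (p : ℂ) := by
    rw [hψ1]
    push_cast
    field_simp
    ring
  rw [e1]
  refine helper24.memLocalIdeal_mul_left ?_ (helper24.prime_memLocalIdeal hM)
  refine helper24.memLocalRing_mul ?_ ?_
  · exact helper24.memLocalRing_of_integral hMtop (by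
      have : (t : ℂ) = ((t : ℤ) : ℂ) := rfl
      exact isIntegral_algebraMap (R := ℤ) (A := ℂ) (x := t))
  · exact helper24.memLocalRing_inv
      (helper24.memLocalRing_of_integral hMtop (helper24.isIntegral_natCast_complex m'))
      (helper24.natCast_not_memLocalIdeal hM hm'p)

end Blau

end Cfsg.Agent.helper22
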