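import Mathlib
import Cfsg.Agent.Lib_helper22_IndBlk4

set_option autoImplicit false
set_option linter.unusedSectionVars false
set_option linter.unusedVariables false
set_option linter.style.longLine false

/-!
helper22: Okuyama's criterion: if `χ` and `χ_H` are irreducible of height zero, a block `e` of `H`
(with `e^G` defined) induces the block of `χ` iff it is the block of `χ_H`.
-/

namespace Cfsg.Agent.helper22

open Cfsg
open scoped ComplexConjugate

universe u

section Okuyama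
variable {G : Type u} [Group G] [Fintype G]

/-- for a character of height zero, `p^a [ψ°, ψ] / ψ(1)` is a unit -/
theorem self_inner_div_not_mem (p : ℕ) [Fact p.Prime] {M : Ideal AlgInt} (hM : IsPModular p M)
    {B : Set (IrrCharacter G)} (hB : IsPBlock M B) {ψ : IrrCharacter G} (hψ : ψ ∈ B)
    (h0 : blockHeight p B (ψ : G → ℂ) = 0) :
    ¬ MemLocalIdeal M (classInner (cutFn p (ψ : G → ℂ)) (ψ : G → ℂ) / (ψ : G → ℂ) 1) := by
  have hp : p.Prime := Fact.out
  haveI hMp : M.IsPrime := hM.2.1.isPrime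
  have hMtop := hMp.ne_top
  have hJ := (height_zero_iff_contrib p hM hB hψ).mp h0
  have hrel := inner_rel' p (ψ : G → ℂ) ψ (nInt p ψ ψ) (nInt_spec p ψ ψ)
  obtain ⟨m', hm'⟩ : ∃ m' : ℕ, m' = Nat.card G / p ^ (Nat.card G).factorization p := ⟨_, rfl⟩
  rw [← hm'] at hrel
  have hm'p : ¬ p ∣ m' := by
    rw [hm']; exact Nat.not_dvd_ordCompl hp Nat.card_pos.ne'
  have hψ1 : ((charDegree (ψ : G → ℂ) : ℕ) : ℂ) ≠ 0 := by
    exact_mod_cast (helper24.irr_charDegree_pos ψ.2).ne'
  intro hmem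
  apply hJ
  rw [nInt_spec, ← helper24.char_charDegree_cast (helper24.irr_isCharacter ψ.2)] at hmem
  have e1 : contrib p (ψ : G → ℂ) (ψ : G → ℂ) =
      (m' : ℂ) * ((nInt p ψ ψ : ℂ) / ((charDegree (ψ : G → ℂ) : ℕ) : ℂ)) := by
    field_simp
    linear_combination -hrel
  rw [e1]
  exact helper24.memLocalIdeal_mul_left
    (helper24.memLocalRing_of_integral hMtop (helper24.isIntegral_natCast_complex m')) hmem

theorem okuyama (p : ℕ) [Fact p.Prime] {M : Ideal AlgInt} (hM : IsPModular p M)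
    (H : Subgroup G) [Fintype H] (χ : IrrCharacter G)
    (hres : IsIrrCharacter H (fun h : H => (χ : G → ℂ) h))
    (hχ0 : blockHeight p (blockOf M (χ : G → ℂ)) (χ : G → ℂ) = 0)
    (hψ0 : blockHeight p (blockOf M (fun h : H => (χ : G → ℂ) h))
      (fun h : H => (χ : G → ℂ) h) = 0)
    (e : Set (IrrCharacter H)) (he : InducedBlockDefined M H e) :
    IsInducedBlock M H e (blockOf M (χ : G → ℂ)) ↔
      e = blockOf M (fun h : H => (χ : G → ℂ) h) := by
  have hp : p.Prime := Fact.out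
  haveI hMp : M.IsPrime := hM.2.1.isPrime
  have hMtop := hMp.ne_top
  obtain ⟨ψ, hψ⟩ : ∃ ψ : IrrCharacter H, (ψ : H → ℂ) = fun h : H => (χ : G → ℂ) h :=
    ⟨⟨_, hres⟩, rfl⟩
  rw [← hψ] at hψ0 ⊢
  have hbblock : IsPBlock M (blockOf M (ψ : H → ℂ)) := ⟨ψ, rfl⟩
  have hψb : ψ ∈ blockOf M (ψ : H → ℂ) := helper24.sameBlock_refl M hMtop _
  have hBblock : IsPBlock M (blockOf M (χ : G → ℂ)) := ⟨χ, rfl⟩
  have hχB : χ ∈ blockOf M (χ : G → ℂ) := helper24.sameBlock_refl M hMtop _
  have hη : (fun h : H => if p ∣ orderOf h then (0 : ℂ)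
      else ((p ^ (Nat.card H).factorization p : ℕ) : ℂ) * (χ : G → ℂ) h) =
      cutFn p (ψ : H → ℂ) := by
    rw [hψ]; rfl
  constructor
  · intro hind
    by_contra hne
    obtain ⟨ψ', hψ'⟩ := block_nonempty hMp hind.1
    have hnotb : ψ' ∉ blockOf M (ψ : H → ℂ) := by
      intro h
      exact hne (block_eq_of_mem hMp hind.1 hbblock hψ' h)
    have h1 := (ind_cut_inner p hM H hind χ hψ').2 hχB hχ0
    apply h1
    rw [hη, nInt_spec, nInt_eq_zero p hM ψ ψ' hnotb]
    simp only [Int.cast_zero, zero_div]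
    exact helper24.memLocalIdeal_zero hMtop
  · intro heq
    obtain ⟨B', hind'⟩ := he
    rw [heq] at hind'
    have hχB' : χ ∈ B' := by
      by_contra hnot
      have h1 := (ind_cut_inner p hM H hind' χ hψb).1 hnot
      rw [hη] at h1
      exact self_inner_div_not_mem p hM hbblock hψb hψ0 h1
    have hBB : B' = blockOf M (χ : G → ℂ) :=
      block_eq_of_mem hMp hind'.2.1 hBblock hχB' hχB
    rw [heq, ← hBB]
    exact hind'

end Okuyama

end Cfsg.Agent.helper22
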