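import Mathlib
import Cfsg.Agent.Lib_helper8_AbQuot
import Cfsg.Agent.Lib_helper12_Clifford
import Cfsg.Agent.Lib_helper22_LinChar
import Cfsg.Agent.Lib_helper5_Clifford
import Cfsg.Agent.Lib_helper24_Char

set_option autoImplicit false
set_option linter.unusedSectionVars false
set_option linter.unusedVariables false
set_option maxHeartbeats 800000

/-!
Invariant constituents of induced characters, part 1 (helper22): the terminal abelian step of
Isaacs 13.28/13.31.  `N ⊲ K` with `K/N` abelian, a group `S` of order coprime to `|K : N|` acting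
on `K` leaving `N` invariant, with no proper `S`-invariant subgroup strictly between `N` and `K`.
Then every `S`-invariant `ϑ ∈ Irr(N)` lies under an `S`-invariant `χ ∈ Irr(K)`.
-/

namespace Cfsg.Agent.helper22

open Cfsg
open scoped ComplexConjugate

universe u v

section Terminal
variable {K : Type u} [Group K] [Fintype K] (N : Subgroup K) [hN : N.Normal] [Fintype N]

/-- restriction of an automorphism to an invariant subgroup -/
def autRes (σ : K ≃* K) (h1 : ∀ n ∈ N, σ n ∈ N) (h2 : ∀ n ∈ N, σ.symm n ∈ N) : N ≃* N where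
  toFun n := ⟨σ n, h1 n n.2⟩
  invFun n := ⟨σ.symm n, h2 n n.2⟩
  left_inv n := Subtype.ext (σ.symm_apply_apply n)
  right_inv n := Subtype.ext (σ.apply_symm_apply n)
  map_mul' a b := Subtype.ext (map_mul σ (a : K) (b : K))

theorem over_comp (σ : K ≃* K) (h1 : ∀ n ∈ N, σ n ∈ N) (h2 : ∀ n ∈ N, σ.symm n ∈ N)
    (χ : K → ℂ) (ϑ : N → ℂ) (hinv : ∀ n : N, ϑ ⟨σ n, h1 n n.2⟩ = ϑ n) :
    classInner (fun n : N => χ (σ n)) ϑ = classInner (fun n : N => χ n) ϑ := by
  have h := helper12.classInner_comp_mulEquiv (autRes N σ h1 h2) (fun n : N => χ n) ϑ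
  rw [← h]
  have e : (fun n : N => ϑ (autRes N σ h1 h2 n)) = ϑ := by
    funext n
    exact hinv n
  rw [e]
  rfl

/-- the group of linear characters trivial on `N` -/
def trivOn : Subgroup (K →* ℂˣ) where
  carrier := {φ | ∀ x ∈ N, φ x = 1}
  one_mem' := fun x _ => rfl
  mul_mem' := by
    intro a b ha hb x hx
    rw [MonoidHom.mul_apply, ha x hx, hb x hx, one_mul]
  inv_mem' := by
    intro a ha x hx
    rw [MonoidHom.inv_apply, ha x hx, inv_one]

theorem mem_trivOn {φ : K →* ℂˣ} : φ ∈ trivOn N ↔ ∀ x ∈ N, φ x = 1 := Iff.rfl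

theorem trivOn_pow_index {φ : K →* ℂˣ} (hφ : φ ∈ trivOn N) : φ ^ N.index = 1 := by
  apply MonoidHom.ext
  intro k
  rw [MonoidHom.pow_apply, ← map_pow, MonoidHom.one_apply]
  exact hφ _ (N.pow_index_mem k)

theorem abel_terminal (hab : ∀ x y : K, x * y * x⁻¹ * y⁻¹ ∈ N)
    {S : Type v} [Group S] [Fintype S] (act : S →* MulAut K)
    (hNS : ∀ s, ∀ n ∈ N, act s n ∈ N)
    (hcop : (N.index).Coprime (Nat.card S))
    (hmin : ∀ L : Subgroup K, N ≤ L → (∀ s, ∀ l ∈ L, act s l ∈ L) → L = N ∨ L = ⊤)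
    {ϑ : N → ℂ} (hϑ : IsIrrCharacter N ϑ)
    (hinv : ∀ s (n : N), ϑ ⟨act s n, hNS s n n.2⟩ = ϑ n) :
    ∃ χ : K → ℂ, IsIrrCharacter K χ ∧ (∀ s k, χ (act s k) = χ k) ∧
      classInner (fun n : N => χ n) ϑ ≠ 0 := by
  classical
  obtain ⟨χ, hχ, hχϑ⟩ := helper12.exists_irr_over N hϑ
  have hχc := helper24.irr_isCharacter hχ
  have hNS' : ∀ s, ∀ n ∈ N, (act s).symm n ∈ N := by
    intro s n hn
    have := hNS s⁻¹ n hn
    rwa [map_inv] at this
  have hχs : ∀ s, IsIrrCharacter K (fun k => χ (act s k)) :=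
    fun s => helper8.isIrrCharacter_comp_mulEquiv (act s) hχ
  have hχsϑ : ∀ s, classInner (fun n : N => χ (act s n)) ϑ ≠ 0 := by
    intro s
    rw [over_comp N (act s) (hNS s) (hNS' s) χ ϑ (hinv s)]
    exact hχϑ
  have hfrob : ∀ {Ψ : K → ℂ}, IsCharacter K Ψ → classInner (fun n : N => Ψ n) ϑ ≠ 0 →
      classInner (indFun N ϑ) Ψ ≠ 0 := by
    intro Ψ hΨ h
    rw [helper5.classInner_indFun_irr N ϑ hΨ, ← helper24.classInner_conj_symm]
    intro h0
    apply h
    have := congrArg conj h0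
    rwa [Complex.conj_conj, map_zero] at this
  have hex : ∀ s, ∃ φ : K →* ℂˣ, (∀ x ∈ N, φ x = 1) ∧
      (fun k => χ (act s k)) = fun t => ((φ t : ℂˣ) : ℂ) * χ t := by
    intro s
    apply helper8.exists_twist_eq N hab hχ (hχs s)
    exact helper8.restrict_inner_ne_zero N hϑ hχc (helper24.irr_isCharacter (hχs s))
      (hfrob hχc hχϑ) (hfrob (helper24.irr_isCharacter (hχs s)) (hχsϑ s))
  choose φ hφN hφχ using hex
  have hφχ' : ∀ s k, χ (act s k) = ((φ s k : ℂˣ) : ℂ) * χ k := fun s k => congrFun (hφχ s) k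
  -- the support subgroup
  obtain ⟨V, hV⟩ : ∃ V : Subgroup K, V = Subgroup.closure ((N : Set K) ∪ {k | χ k ≠ 0}) :=
    ⟨_, rfl⟩
  have hNV : N ≤ V := by
    rw [hV]
    exact fun x hx => Subgroup.subset_closure (Or.inl hx)
  have hsuppV : ∀ k, χ k ≠ 0 → k ∈ V := by
    intro k hk
    rw [hV]
    exact Subgroup.subset_closure (Or.inr hk)
  have hVS : ∀ s, ∀ l ∈ V, act s l ∈ V := by
    intro s
    have : V ≤ V.comap (act s).toMonoidHom := by
      conv_lhs => rw [hV]
      rw [Subgroup.closure_le]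
      rintro x (hx | hx)
      · exact hNV (hNS s x hx)
      · apply hsuppV
        show χ (act s x) ≠ 0
        rw [hφχ']
        exact mul_ne_zero (Units.ne_zero _) hx
    exact fun l hl => this hl
  rcases hmin V hNV hVS with hVN | hVtop
  · -- `χ` vanishes off `N`, hence is invariant
    refine ⟨χ, hχ, ?_, hχϑ⟩
    intro s k
    rw [hφχ']
    by_cases hk : k ∈ N
    · rw [hφN s k hk, Units.val_one, one_mul]
    · have : χ k = 0 := by
        by_contra h0
        exact hk (hVN ▸ hsuppV k h0)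
      rw [this, mul_zero]
  · -- uniqueness of twists
    have huniq : ∀ ψ ψ' : K →* ℂˣ, ψ ∈ trivOn N → ψ' ∈ trivOn N →
        (∀ k, ((ψ k : ℂˣ) : ℂ) * χ k = ((ψ' k : ℂˣ) : ℂ) * χ k) → ψ = ψ' := by
      intro ψ ψ' h1 h2 h
      have hle : V ≤ MonoidHom.eqLocus ψ ψ' := by
        conv_lhs => rw [hV]
        rw [Subgroup.closure_le]
        rintro x (hx | hx)
        · show ψ x = ψ' x
          rw [h1 x hx, h2 x hx]
        · show ψ x = ψ' x
          apply Units.ext
          exact mul_right_cancel₀ hx (h x)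
      apply MonoidHom.ext
      intro k
      have : k ∈ V := by rw [hVtop]; exact Subgroup.mem_top k
      exact hle this
    -- the cocycle identity
    have hcomp_mem : ∀ (ψ : K →* ℂˣ) (t : S), ψ ∈ trivOn N →
        ψ.comp (act t).toMonoidHom ∈ trivOn N := by
      intro ψ t h x hx
      exact h _ (hNS t x hx)
    have hcoc : ∀ s t, φ (s * t) = (φ s).comp (act t).toMonoidHom * φ t := by
      intro s t
      apply huniq _ _ (hφN (s * t))
        ((trivOn N).mul_mem (hcomp_mem _ t (hφN s)) (hφN t))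
      intro k
      rw [← hφχ', map_mul, MulAut.mul_apply, hφχ' s, hφχ' t, MonoidHom.mul_apply,
        Units.val_mul, mul_assoc]
      rfl
    -- the product
    obtain ⟨ν, hν⟩ : ∃ ν : K →* ℂˣ, ν = ∏ s : S, φ s := ⟨_, rfl⟩
    have hνN : ν ∈ trivOn N := by
      rw [hν]
      exact Subgroup.prod_mem _ (fun s _ => hφN s)
    have hνt : ∀ t, ν = ν.comp (act t).toMonoidHom * (φ t) ^ (Nat.card S) := by
      intro t
      have h1 : ν = ∏ s : S, φ (s * t) := by
        rw [hν]
        exact (Fintype.prod_equiv (Equiv.mulRight t) _ _ (fun s => rfl)).symm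
      have h2 : (∏ s : S, (φ s).comp (act t).toMonoidHom) = ν.comp (act t).toMonoidHom := by
        apply MonoidHom.ext
        intro k
        rw [MonoidHom.finset_prod_apply, hν, MonoidHom.comp_apply, MonoidHom.finset_prod_apply]
        rfl
      conv_lhs => rw [h1]
      rw [Finset.prod_congr rfl (fun s _ => hcoc s t), Finset.prod_mul_distrib, h2,
        Finset.prod_const, Finset.card_univ, Nat.card_eq_fintype_card]
    -- Bezout
    have hbez := Nat.gcd_eq_gcd_ab (Nat.card S) N.index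
    rw [Nat.Coprime.symm hcop] at hbez
    obtain ⟨x, hx⟩ : ∃ x : ℤ, x = Nat.gcdA (Nat.card S) N.index := ⟨_, rfl⟩
    obtain ⟨y, hy⟩ : ∃ y : ℤ, y = Nat.gcdB (Nat.card S) N.index := ⟨_, rfl⟩
    rw [← hx, ← hy] at hbez
    have hroot : ∀ (ψ : K →* ℂˣ) (k : K), ψ ∈ trivOn N → ((ψ k) ^ (Nat.card S)) ^ x = ψ k := by
      intro ψ k hψ
      have h0 : (ψ k) ^ N.index = 1 := by
        have := DFunLike.congr_fun (trivOn_pow_index N hψ) k
        rwa [MonoidHom.pow_apply, MonoidHom.one_apply] at this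
      have h1 : (ψ k) ^ ((Nat.card S : ℤ) * x + (N.index : ℤ) * y) = ψ k := by
        rw [← hbez, Nat.cast_one, zpow_one]
      rw [zpow_add, zpow_mul, zpow_mul, zpow_natCast, zpow_natCast, h0, one_zpow, mul_one] at h1
      exact h1
    obtain ⟨μ, hμ⟩ : ∃ μ : K →* ℂˣ, μ = ν ^ x := ⟨_, rfl⟩
    have hμk : ∀ k, μ k = (ν k) ^ x := by
      intro k
      rw [hμ, MonoidHom.zpow_apply]
    have hμN : μ ∈ trivOn N := by
      rw [hμ]
      exact (trivOn N).zpow_mem hνN x
    have hμt : ∀ t k, μ k = μ (act t k) * φ t k := by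
      intro t k
      have h2 := DFunLike.congr_fun (hνt t) k
      rw [MonoidHom.mul_apply, MonoidHom.comp_apply, MonoidHom.pow_apply] at h2
      rw [hμk, hμk, h2, mul_zpow, hroot (φ t) k (hφN t)]
      rfl
    refine ⟨fun k => ((μ k : ℂˣ) : ℂ) * χ k, twist_isIrr μ hχ, ?_, ?_⟩
    · intro t k
      show ((μ (act t k) : ℂˣ) : ℂ) * χ (act t k) = ((μ k : ℂˣ) : ℂ) * χ k
      have h1 := hμt t k
      rw [hφχ', h1, Units.val_mul, mul_assoc]
    · have e : (fun n : N => ((μ (n : K) : ℂˣ) : ℂ) * χ n) = fun n : N => χ n := by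
        funext n
        rw [hμN n n.2, Units.val_one, one_mul]
      rw [e]
      exact hχϑ

end Terminal

end Cfsg.Agent.helper22
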