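import Mathlib
import Cfsg.Agent.Lib_helper22_InvUp1
import Cfsg.Agent.Lib_helper22_Glaub22

set_option autoImplicit false
set_option linter.unusedSectionVars false
set_option linter.unusedVariables false
set_option maxHeartbeats 800000

/-!
Invariant constituents of induced characters, part 2 (helper22): the terminal abelian step for
subgroups of an ambient group, and transitivity of "lying over".
-/

namespace Cfsg.Agent.helper22

open Cfsg
open scoped ComplexConjugate

universe u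

section Sub
variable {Γ : Type u} [Group Γ] [Fintype Γ]

/-- the conjugation action of `S` on a subgroup it normalizes -/
def conjHom (S M : Subgroup Γ) (hMS : ∀ s ∈ S, ∀ m ∈ M, s * m * s⁻¹ ∈ M) : S →* MulAut M where
  toFun s := conjEquiv M (s : Γ) (hMS s s.2) (normBy_inv hMS s s.2)
  map_one' := by
    apply MulEquiv.ext
    intro m
    apply Subtype.ext
    rw [conjEquiv_coe]
    simp
  map_mul' := by
    intro s t
    apply MulEquiv.ext
    intro m
    apply Subtype.ext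
    rw [conjEquiv_coe, MulAut.mul_apply, conjEquiv_coe, conjEquiv_coe]
    simp [mul_assoc]

theorem conjHom_coe (S M : Subgroup Γ) (hMS : ∀ s ∈ S, ∀ m ∈ M, s * m * s⁻¹ ∈ M) (s : S) (m : M) :
    ((conjHom S M hMS s m : M) : Γ) = (s : Γ) * (m : Γ) * (s : Γ)⁻¹ := rfl

/-- transitivity of "lying over" -/
theorem over_trans (N D G : Subgroup Γ) (hND : N ≤ D) (hDG : D ≤ G) [Fintype N] [Fintype D]
    [Fintype G] (χ : IrrCharacter G) (φ : IrrCharacter D) (ϑ : IrrCharacter N)
    (h1 : classInner (fun x : D => χ.1 ⟨x, hDG x.2⟩) φ.1 ≠ 0)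
    (h2 : classInner (fun x : N => φ.1 ⟨x, hND x.2⟩) ϑ.1 ≠ 0) :
    classInner (fun x : N => χ.1 ⟨x, (hND.trans hDG) x.2⟩) ϑ.1 ≠ 0 := by
  classical
  haveI : Fintype (IrrCharacter D) := Fintype.ofFinite _
  have hres : IsCharacter D (fun x : D => χ.1 ⟨x, hDG x.2⟩) :=
    helper8.isCharacter_comp_monoidHom (Subgroup.inclusion hDG) (helper24.irr_isCharacter χ.2)
  obtain ⟨m, hexp, hm, -⟩ := helper12.char_decomp hres
  have hmφ : m φ ≠ 0 := by
    intro h0
    apply h1
    rw [hm φ, h0, Nat.cast_zero]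
  have hnat : ∀ ψ : IrrCharacter D, ∃ a : ℕ,
      classInner (fun x : N => ψ.1 ⟨x, hND x.2⟩) ϑ.1 = a := fun ψ =>
    helper12.classInner_char_nat
      (helper8.isCharacter_comp_monoidHom (Subgroup.inclusion hND) (helper24.irr_isCharacter ψ.2))
      (helper24.irr_isCharacter ϑ.2)
  choose a ha using hnat
  have haφ : a φ ≠ 0 := by
    intro h0
    apply h2
    rw [ha φ, h0, Nat.cast_zero]
  have hfun : (fun x : N => χ.1 ⟨x, (hND.trans hDG) x.2⟩) =
      ∑ ψ : IrrCharacter D, (m ψ : ℂ) • (fun x : N => ψ.1 ⟨x, hND x.2⟩) := by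
    funext x
    have := congrFun hexp ⟨x, hND x.2⟩
    rw [Finset.sum_apply] at this ⊢
    exact this
  rw [hfun, helper24.classInner_sum_left]
  have : ∑ ψ : IrrCharacter D, classInner ((m ψ : ℂ) • fun x : N => ψ.1 ⟨x, hND x.2⟩) ϑ.1 =
      ((∑ ψ : IrrCharacter D, m ψ * a ψ : ℕ) : ℂ) := by
    rw [Nat.cast_sum]
    apply Finset.sum_congr rfl
    intro ψ _
    rw [helper24.classInner_smul_left, ha ψ, Nat.cast_mul]
  rw [this]
  have hpos : 0 < ∑ ψ : IrrCharacter D, m ψ * a ψ := by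
    apply Finset.sum_pos'
    · intro ψ _
      exact Nat.zero_le _
    · exact ⟨φ, Finset.mem_univ _, Nat.mul_pos (Nat.pos_of_ne_zero hmφ) (Nat.pos_of_ne_zero haφ)⟩
  exact_mod_cast hpos.ne'

/-- the terminal abelian step, for subgroups of `Γ` -/
theorem abel_terminal_sub (S N M : Subgroup Γ) (hNM : N ≤ M)
    (hab : ∀ a ∈ M, ∀ b ∈ M, a * b * a⁻¹ * b⁻¹ ∈ N)
    (hNS : ∀ s ∈ S, ∀ n ∈ N, s * n * s⁻¹ ∈ N) (hMS : ∀ s ∈ S, ∀ m ∈ M, s * m * s⁻¹ ∈ M)
    (hcop : (N.relIndex M).Coprime (Nat.card S))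
    (hmin : ∀ L : Subgroup Γ, N ≤ L → L ≤ M → (∀ s ∈ S, ∀ l ∈ L, s * l * s⁻¹ ∈ L) →
      L = N ∨ L = M)
    [Fintype N] [Fintype M] (ϑ : IrrCharacter N) (hϑ : InvUnder S N ϑ.1) :
    ∃ χ : IrrCharacter M, InvUnder S M χ.1 ∧
      classInner (fun n : N => χ.1 ⟨n, hNM n.2⟩) ϑ.1 ≠ 0 := by
  classical
  have hNn : (N.subgroupOf M).Normal := by
    constructor
    intro n hn g
    rw [Subgroup.mem_subgroupOf] at hn ⊢
    have h1 := hab g g.2 n (hNM hn)
    have h2 : ((g * n * g⁻¹ : M) : Γ) = ((g : Γ) * (n : Γ) * (g : Γ)⁻¹ * (n : Γ)⁻¹) * (n : Γ) := by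
      push_cast
      group
    rw [h2]
    exact N.mul_mem h1 hn
  haveI : Fintype (N.subgroupOf M) := Fintype.ofFinite _
  haveI : Fintype S := Fintype.ofFinite _
  obtain ⟨ε, hε⟩ : ∃ ε : N.subgroupOf M ≃* N, ε = Subgroup.subgroupOfEquivOfLe hNM := ⟨_, rfl⟩
  have hεv : ∀ a : N.subgroupOf M, ((ε a : N) : Γ) = ((a : M) : Γ) := by
    intro a; rw [hε]; rfl
  have hϑ' : IsIrrCharacter (N.subgroupOf M) (fun a => ϑ.1 (ε a)) :=
    helper8.isIrrCharacter_comp_mulEquiv ε ϑ.2
  have hNS' : ∀ s : S, ∀ n ∈ N.subgroupOf M, conjHom S M hMS s n ∈ N.subgroupOf M := by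
    intro s n hn
    rw [Subgroup.mem_subgroupOf] at hn ⊢
    rw [conjHom_coe]
    exact hNS s s.2 _ hn
  obtain ⟨χ, hχ, hχS, hχϑ⟩ := abel_terminal (N.subgroupOf M)
    (by
      intro x y
      rw [Subgroup.mem_subgroupOf]
      have := hab x x.2 y y.2
      push_cast
      exact this)
    (conjHom S M hMS) hNS' hcop
    (by
      intro L' hNL' hL'S
      have hcomap : L' = (L'.map M.subtype).comap M.subtype :=
        (Subgroup.comap_map_eq_self_of_injective M.subtype_injective L').symm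
      rcases hmin (L'.map M.subtype)
        (by
          intro n hn
          exact ⟨⟨n, hNM hn⟩, hNL' (Subgroup.mem_subgroupOf.mpr hn), rfl⟩)
        (by
          rintro _ ⟨l, -, rfl⟩
          exact l.2)
        (by
          rintro s hs _ ⟨l, hl, rfl⟩
          exact ⟨conjHom S M hMS ⟨s, hs⟩ l, hL'S ⟨s, hs⟩ l hl, rfl⟩) with h | h
      · left
        rw [hcomap, h]
        rfl
      · right
        rw [hcomap, h]
        exact Subgroup.subgroupOf_self M)
    hϑ'
    (by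
      intro s n
      show ϑ.1 (ε ⟨conjHom S M hMS s n, _⟩) = ϑ.1 (ε n)
      apply hϑ s s.2
      rw [hεv, hεv]
      rfl)
  refine ⟨⟨χ, hχ⟩, ?_, ?_⟩
  · intro s hs g g' hgg'
    have : g' = conjHom S M hMS ⟨s, hs⟩ g := by
      apply Subtype.ext
      rw [hgg']
      rfl
    rw [this]
    exact hχS ⟨s, hs⟩ g
  · have h := helper12.classInner_comp_mulEquiv ε (fun n : N => χ ⟨n, hNM n.2⟩) ϑ.1
    rw [← h]
    have e : (fun a : N.subgroupOf M => (fun n : N => χ ⟨n, hNM n.2⟩) (ε a)) =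
        fun a : N.subgroupOf M => χ a := by
      funext a
      show χ ⟨((ε a : N) : Γ), _⟩ = χ a
      congr 1
      apply Subtype.ext
      exact hεv a
    rw [e]
    exact hχϑ

end Sub

end Cfsg.Agent.helper22
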