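import Mathlib
import Cfsg.Agent.Lib_helper22_InvUp2

set_option autoImplicit false
set_option linter.unusedSectionVars false
set_option linter.unusedVariables false
set_option maxHeartbeats 800000

/-!
Invariant constituents of induced characters, part 3 (helper22): Isaacs 13.28/13.31 for a solvable
quotient `G/N`: if `S` normalizes `N ⊲ G`, `(|G : N|, |S|) = 1` and `G/N` is solvable, every
`S`-invariant `ϑ ∈ Irr(N)` lies under an `S`-invariant `χ ∈ Irr(G)`.
-/

namespace Cfsg.Agent.helper22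

open Cfsg
open scoped ComplexConjugate

universe u

section Solv
variable {Γ : Type u} [Group Γ] [Fintype Γ]

theorem two_le_relIndex {A B : Subgroup Γ} (h : ¬ B ≤ A) : 2 ≤ A.relIndex B := by
  have h0 : A.relIndex B ≠ 0 := by
    show (A.subgroupOf B).index ≠ 0
    exact Subgroup.index_ne_zero_of_finite
  have h1 : A.relIndex B ≠ 1 := fun h1 => h (Subgroup.relIndex_eq_one.mp h1)
  omega

theorem relIndex_pos' (A B : Subgroup Γ) : 0 < A.relIndex B := by
  have h0 : A.relIndex B ≠ 0 := by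
    show (A.subgroupOf B).index ≠ 0
    exact Subgroup.index_ne_zero_of_finite
  omega

theorem relIndex_lt_left {A B C : Subgroup Γ} (hAB : A ≤ B) (hBC : B < C) :
    A.relIndex B < A.relIndex C := by
  have h := Subgroup.relIndex_mul_relIndex A B C hAB hBC.le
  have h2 := two_le_relIndex (not_le_of_gt hBC)
  have h3 := relIndex_pos' A B
  nlinarith

theorem relIndex_lt_right {A B C : Subgroup Γ} (hAB : A < B) (hBC : B ≤ C) :
    B.relIndex C < A.relIndex C := by
  have h := Subgroup.relIndex_mul_relIndex A B C hAB.le hBC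
  have h2 := two_le_relIndex (not_le_of_gt hAB)
  have h3 := relIndex_pos' B C
  nlinarith

theorem closure_conj_invariant (X : Set Γ) (z : Γ)
    (h : ∀ x ∈ X, z * x * z⁻¹ ∈ Subgroup.closure X) :
    ∀ d ∈ Subgroup.closure X, z * d * z⁻¹ ∈ Subgroup.closure X := by
  have hle : Subgroup.closure X ≤ (Subgroup.closure X).comap (MulAut.conj z).toMonoidHom := by
    rw [Subgroup.closure_le]
    intro x hx
    exact h x hx
  intro d hd
  exact hle hd

/-- the generators of `N G'` -/
def commGen (N G : Subgroup Γ) : Set Γ :=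
  (N : Set Γ) ∪ {x | ∃ a ∈ G, ∃ b ∈ G, x = a * b * a⁻¹ * b⁻¹}

theorem commGen_conj (N G : Subgroup Γ) (z : Γ) (hN : ∀ x ∈ N, z * x * z⁻¹ ∈ N)
    (hG : ∀ g ∈ G, z * g * z⁻¹ ∈ G) : ∀ x ∈ commGen N G, z * x * z⁻¹ ∈ commGen N G := by
  rintro x (hx | ⟨a, ha, b, hb, rfl⟩)
  · exact Or.inl (hN x hx)
  · refine Or.inr ⟨z * a * z⁻¹, hG a ha, z * b * z⁻¹, hG b hb, ?_⟩
    group

theorem derived_sup_ne (N G : Subgroup Γ) (hNG : N ≤ G) (hne : N ≠ G)
    (hNn : ∀ g ∈ G, ∀ x ∈ N, g * x * g⁻¹ ∈ N)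
    (hsolv : ∃ k, ∀ x : G, x ∈ derivedSeries G k → (x : Γ) ∈ N) :
    Subgroup.closure (commGen N G) ≠ G := by
  intro heq
  have hN' : (N.subgroupOf G).Normal := by
    constructor
    intro n hn g
    rw [Subgroup.mem_subgroupOf] at hn ⊢
    push_cast
    exact hNn g g.2 n hn
  obtain ⟨k, hk⟩ := hsolv
  have hQs : Group.IsSolvable (G ⧸ N.subgroupOf G) := by
    rw [Group.isSolvable_def]
    refine ⟨k, ?_⟩
    rw [← map_derivedSeries_eq (f := QuotientGroup.mk' (N.subgroupOf G))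
      (QuotientGroup.mk'_surjective _) k, eq_bot_iff]
    rintro _ ⟨x, hx, rfl⟩
    rw [Subgroup.mem_bot]
    exact (QuotientGroup.eq_one_iff x).mpr (Subgroup.mem_subgroupOf.mpr (hk x hx))
  obtain ⟨g, hgG, hgN⟩ : ∃ g ∈ G, g ∉ N := by
    by_contra hcon
    push Not at hcon
    exact hne (le_antisymm hNG hcon)
  have : Nontrivial (G ⧸ N.subgroupOf G) := by
    refine nontrivial_of_ne ((⟨g, hgG⟩ : G) : G ⧸ N.subgroupOf G) 1 ?_
    intro h
    exact hgN (Subgroup.mem_subgroupOf.mp ((QuotientGroup.eq_one_iff _).mp h))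
  have hlt := Group.IsSolvable.commutator_lt_top_of_nontrivial (G ⧸ N.subgroupOf G)
  obtain ⟨T, hT⟩ : ∃ T : Subgroup Γ, T = ((commutator (G ⧸ N.subgroupOf G)).comap
      (QuotientGroup.mk' (N.subgroupOf G))).map G.subtype := ⟨_, rfl⟩
  have hXT : Subgroup.closure (commGen N G) ≤ T := by
    rw [Subgroup.closure_le]
    rintro x (hx | ⟨a, ha, b, hb, rfl⟩)
    · rw [hT]
      refine ⟨⟨x, hNG hx⟩, ?_, rfl⟩
      show QuotientGroup.mk' (N.subgroupOf G) ⟨x, hNG hx⟩ ∈ commutator _
      have : QuotientGroup.mk' (N.subgroupOf G) ⟨x, hNG hx⟩ = 1 :=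
        (QuotientGroup.eq_one_iff _).mpr (Subgroup.mem_subgroupOf.mpr hx)
      rw [this]
      exact Subgroup.one_mem _
    · rw [hT]
      refine ⟨(⟨a, ha⟩ : G) * ⟨b, hb⟩ * (⟨a, ha⟩ : G)⁻¹ * (⟨b, hb⟩ : G)⁻¹, ?_, rfl⟩
      show QuotientGroup.mk' (N.subgroupOf G) _ ∈ commutator _
      rw [map_mul, map_mul, map_mul, map_inv, map_inv, commutator_def,
        ← commutatorElement_def]
      exact Subgroup.commutator_mem_commutator (Subgroup.mem_top _) (Subgroup.mem_top _)
  apply hlt.ne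
  rw [eq_top_iff]
  intro q _
  obtain ⟨y, rfl⟩ := QuotientGroup.mk_surjective q
  have hy : (y : Γ) ∈ T := hXT (by rw [heq]; exact y.2)
  rw [hT] at hy
  obtain ⟨y', hy', hyy'⟩ := hy
  have : y' = y := Subtype.ext hyy'
  rw [this] at hy'
  exact hy'

theorem exists_inv_over_solv (S : Subgroup Γ) (n : ℕ) :
    ∀ (N G : Subgroup Γ) (hNG : N ≤ G), N.relIndex G ≤ n →
    (∀ g ∈ G, ∀ x ∈ N, g * x * g⁻¹ ∈ N) →
    (∃ k, ∀ x : G, x ∈ derivedSeries G k → (x : Γ) ∈ N) →
    (∀ s ∈ S, ∀ x ∈ N, s * x * s⁻¹ ∈ N) → (∀ s ∈ S, ∀ g ∈ G, s * g * s⁻¹ ∈ G) →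
    (N.relIndex G).Coprime (Nat.card S) →
    ∀ [Fintype N] [Fintype G] (ϑ : IrrCharacter N), InvUnder S N ϑ.1 →
      ∃ χ : IrrCharacter G, InvUnder S G χ.1 ∧
        classInner (fun x : N => χ.1 ⟨x, hNG x.2⟩) ϑ.1 ≠ 0 := by
  classical
  induction n with
  | zero =>
    intro N G hNG hle
    have := relIndex_pos' N G
    omega
  | succ n ih =>
    intro N G hNG hle hNn hsolv hNS hGS hcop instN instG ϑ hϑ
    by_cases hNGeq : N = G
    · subst hNGeq
      clear instG
      refine ⟨ϑ, hϑ, ?_⟩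
      have : (fun x : N => ϑ.1 ⟨x, hNG x.2⟩) = ϑ.1 := rfl
      rw [this, helper24.irr_classInner_self ϑ.2]
      exact one_ne_zero
    · have hNGlt : N < G := lt_of_le_of_ne hNG hNGeq
      by_cases hD : ∃ D : Subgroup Γ, N < D ∧ D < G ∧ (∀ g ∈ G, ∀ d ∈ D, g * d * g⁻¹ ∈ D) ∧
          (∀ s ∈ S, ∀ d ∈ D, s * d * s⁻¹ ∈ D)
      · obtain ⟨D, hND, hDG, hDn, hDS⟩ := hD
        haveI : Fintype D := Fintype.ofFinite _
        have h1 := relIndex_lt_left hND.le hDG
        have h2 := relIndex_lt_right hND hDG.le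
        have hmul := Subgroup.relIndex_mul_relIndex N D G hND.le hDG.le
        obtain ⟨k, hk⟩ := hsolv
        obtain ⟨φ, hφS, hφϑ⟩ := ih N D hND.le (by omega)
          (fun g hg x hx => hNn g (hDG.le hg) x hx)
          ⟨k, by
            intro x hx
            have h3 : Subgroup.inclusion hDG.le x ∈ derivedSeries G k :=
              map_derivedSeries_le_derivedSeries (Subgroup.inclusion hDG.le) k ⟨x, hx, rfl⟩
            exact hk _ h3⟩
          hNS hDS
          (Nat.Coprime.coprime_dvd_left (Dvd.intro _ hmul) hcop) ϑ hϑ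
        obtain ⟨χ, hχS, hχφ⟩ := ih D G hDG.le (by omega) hDn
          ⟨k, fun x hx => hND.le (hk x hx)⟩ hDS hGS
          (Nat.Coprime.coprime_dvd_left (Dvd.intro_left _ hmul) hcop) φ hφS
        exact ⟨χ, hχS, over_trans N D G hND.le hDG.le χ φ ϑ hχφ hφϑ⟩
      · -- terminal case
        have hno : ∀ L : Subgroup Γ, N ≤ L → L ≤ G → (∀ g ∈ G, ∀ d ∈ L, g * d * g⁻¹ ∈ L) →
            (∀ s ∈ S, ∀ d ∈ L, s * d * s⁻¹ ∈ L) → L = N ∨ L = G := by
          intro L hNL hLG hLn hLS
          by_contra hcon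
          push Not at hcon
          exact hD ⟨L, lt_of_le_of_ne hNL (Ne.symm hcon.1), lt_of_le_of_ne hLG hcon.2, hLn, hLS⟩
        have hXG : Subgroup.closure (commGen N G) ≤ G := by
          rw [Subgroup.closure_le]
          rintro x (hx | ⟨a, ha, b, hb, rfl⟩)
          · exact hNG hx
          · exact G.mul_mem (G.mul_mem (G.mul_mem ha hb) (G.inv_mem ha)) (G.inv_mem hb)
        have hNX : N ≤ Subgroup.closure (commGen N G) :=
          fun x hx => Subgroup.subset_closure (Or.inl hx)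
        have hab : ∀ a ∈ G, ∀ b ∈ G, a * b * a⁻¹ * b⁻¹ ∈ N := by
          rcases hno (Subgroup.closure (commGen N G)) hNX hXG
            (fun g hg => closure_conj_invariant _ g (fun x hx => Subgroup.subset_closure
              (commGen_conj N G g (hNn g hg)
                (fun y hy => G.mul_mem (G.mul_mem hg hy) (G.inv_mem hg)) x hx)))
            (fun s hs => closure_conj_invariant _ s (fun x hx => Subgroup.subset_closure
              (commGen_conj N G s (hNS s hs) (hGS s hs) x hx))) with h | h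
          · intro a ha b hb
            rw [← h]
            exact Subgroup.subset_closure (Or.inr ⟨a, ha, b, hb, rfl⟩)
          · exact absurd h (derived_sup_ne N G hNG hNGeq hNn hsolv)
        apply abel_terminal_sub S N G hNG hab hNS hGS hcop _ ϑ hϑ
        intro L hNL hLG hLS
        apply hno L hNL hLG _ hLS
        intro g hg d hd
        have h1 := hab g hg d (hLG hd)
        have h2 : g * d * g⁻¹ = (g * d * g⁻¹ * d⁻¹) * d := by group
        rw [h2]
        exact L.mul_mem (hNL h1) hd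

end Solv

end Cfsg.Agent.helper22
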