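import Mathlib
import Cfsg.Agent.Lib_helper22_InvUp3

set_option autoImplicit false
set_option linter.unusedSectionVars false
set_option linter.unusedVariables false
set_option maxHeartbeats 800000

/-!
Invariant constituents of induced characters, part 4 (helper22): Isaacs 13.28/13.31 for a solvable
quotient `G/N`, in the form of the statement S4448.
-/

namespace Cfsg.Agent.helper22

open Cfsg
open scoped ComplexConjugate

universe u

section Solv
variable {Γ : Type u} [Group Γ] [Fintype Γ]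

theorem derived_le_of_solvable_quot (G N : Subgroup Γ) [hNn : (N.subgroupOf G).Normal]
    (hsolv : Group.IsSolvable (G ⧸ N.subgroupOf G)) :
    ∃ k, ∀ x : G, x ∈ derivedSeries G k → (x : Γ) ∈ N := by
  obtain ⟨k, hk⟩ := (Group.isSolvable_def _).mp hsolv
  refine ⟨k, fun x hx => ?_⟩
  have h1 : QuotientGroup.mk' (N.subgroupOf G) x ∈ derivedSeries (G ⧸ N.subgroupOf G) k :=
    map_derivedSeries_le_derivedSeries (QuotientGroup.mk' (N.subgroupOf G)) k ⟨x, hx, rfl⟩
  rw [hk, Subgroup.mem_bot] at h1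
  exact Subgroup.mem_subgroupOf.mp ((QuotientGroup.eq_one_iff x).mp h1)

theorem normal_of_subgroupOf_normal (G N : Subgroup Γ) [hNn : (N.subgroupOf G).Normal]
    (hNG : N ≤ G) : ∀ g ∈ G, ∀ x ∈ N, g * x * g⁻¹ ∈ N := by
  intro g hg x hx
  have := hNn.conj_mem ⟨x, hNG hx⟩ (Subgroup.mem_subgroupOf.mpr hx) ⟨g, hg⟩
  exact Subgroup.mem_subgroupOf.mp this

/-- **Isaacs 13.28/13.31, solvable quotient.** -/
theorem exists_inv_over_of_solvable (G S N : Subgroup Γ) [Fintype G] [Fintype N]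
    (hnorm : ∀ s ∈ S, ∀ g ∈ G, s * g * s⁻¹ ∈ G) (hNG : N ≤ G)
    [hNn : (N.subgroupOf G).Normal] (hNS : ∀ s ∈ S, ∀ n ∈ N, s * n * s⁻¹ ∈ N)
    (hcop : (N.relIndex G).Coprime (Nat.card S))
    (hsolv : Group.IsSolvable (G ⧸ N.subgroupOf G)) (θ : IrrCharacter N)
    (hinv : InvUnder S N θ.1) :
    ∃ χ : IrrCharacter G, InvUnder S G χ.1 ∧
      classInner (fun n : N => χ.1 ⟨n, hNG n.2⟩) θ.1 ≠ 0 :=
  exists_inv_over_solv S (N.relIndex G) N G hNG le_rfl (normal_of_subgroupOf_normal G N hNG)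
    (derived_le_of_solvable_quot G N hsolv) hNS hnorm hcop θ hinv

end Solv

end Cfsg.Agent.helper22
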