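import Mathlib
import Cfsg.Agent.Lib_helper22_InvUp4

set_option autoImplicit false
set_option linter.unusedSectionVars false
set_option linter.unusedVariables false
set_option maxHeartbeats 800000

/-!
Invariant constituents of induced characters, part 5 (helper22): a minimal supplement `S` of a
normal subgroup `G` has order divisible only by primes dividing `|Γ : G|`.
-/

namespace Cfsg.Agent.helper22

open Cfsg
open scoped ComplexConjugate

universe u

section Supp
variable {Γ : Type u} [Group Γ] [Finite Γ]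

theorem exists_supplement_primes (G : Subgroup Γ) [hGn : G.Normal] :
    ∃ S : Subgroup Γ, S ⊔ G = ⊤ ∧ ∀ p : ℕ, p.Prime → p ∣ Nat.card S → p ∣ G.index := by
  classical
  have hex : ∃ n, ∃ S : Subgroup Γ, S ⊔ G = ⊤ ∧ Nat.card S = n := ⟨_, ⊤, top_sup_eq _, rfl⟩
  obtain ⟨S, hSG, hSn⟩ := Nat.find_spec hex
  have hmin : ∀ R : Subgroup Γ, R ⊔ G = ⊤ → Nat.card S ≤ Nat.card R := by
    intro R hR
    rw [hSn]
    exact Nat.find_min' hex ⟨R, hR, rfl⟩
  refine ⟨S, hSG, ?_⟩
  intro p hp hpS
  by_contra hpm
  haveI : Fact p.Prime := ⟨hp⟩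
  have hDidx : (G.subgroupOf S).index = G.index := by
    show G.relIndex S = G.index
    rw [← Subgroup.relIndex_sup_right (H := S) (K := G), hSG, Subgroup.relIndex_top_right]
  obtain ⟨P⟩ : Nonempty (Sylow p S) := inferInstance
  have hPD : (P : Subgroup S) ≤ G.subgroupOf S := by
    have h1 : IsPGroup p ((P : Subgroup S).map (QuotientGroup.mk' (G.subgroupOf S))) :=
      P.2.map _
    have h2 : Nat.card ((P : Subgroup S).map (QuotientGroup.mk' (G.subgroupOf S))) ∣
        (G.subgroupOf S).index := by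
      rw [Subgroup.index_eq_card]
      exact Subgroup.card_subgroup_dvd_card _
    rcases h1.card_eq_or_dvd with h3 | h3
    · have h4 := Subgroup.eq_bot_of_card_eq _ h3
      rw [Subgroup.map_eq_bot_iff, QuotientGroup.ker_mk'] at h4
      exact h4
    · exact absurd (hDidx ▸ h3.trans h2) hpm
  have hfrat := Sylow.normalizer_sup_eq_top' P hPD
  have htransfer : ∀ A : Subgroup S, A ⊔ G.subgroupOf S = ⊤ → A.map S.subtype ⊔ G = ⊤ := by
    intro A hA
    rw [eq_top_iff, ← hSG]
    apply sup_le _ le_sup_right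
    intro x hx
    have h1 : (⟨x, hx⟩ : S) ∈ A ⊔ G.subgroupOf S := by rw [hA]; trivial
    have h2 : x ∈ (A ⊔ G.subgroupOf S).map S.subtype := ⟨⟨x, hx⟩, h1, rfl⟩
    rw [Subgroup.map_sup, Subgroup.subgroupOf_map_subtype] at h2
    have h3 : A.map S.subtype ⊔ G ⊓ S ≤ A.map S.subtype ⊔ G :=
      sup_le le_sup_left (le_sup_of_le_right inf_le_left)
    exact h3 h2
  have hcardmap : ∀ A : Subgroup S, Nat.card (A.map S.subtype) = Nat.card A := fun A =>
    Subgroup.card_map_of_injective S.subtype_injective
  have hnorm : Subgroup.normalizer ((P : Subgroup S) : Set S) = ⊤ := by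
    apply Subgroup.eq_top_of_le_card
    have := hmin _ (htransfer _ hfrat)
    rwa [hcardmap] at this
  have hPn : (P : Subgroup S).Normal := Subgroup.normalizer_eq_top_iff.mp hnorm
  obtain ⟨H, hH⟩ := Subgroup.exists_right_complement'_of_coprime (N := (P : Subgroup S))
    P.card_coprime_index
  have hHD : H ⊔ G.subgroupOf S = ⊤ := by
    rw [eq_top_iff, ← hH.sup_eq_top]
    exact sup_le (le_sup_of_le_right hPD) le_sup_left
  have h5 := hmin _ (htransfer _ hHD)
  rw [hcardmap] at h5
  have h6 := hH.card_mul_card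
  have h7 : 1 < Nat.card (P : Subgroup S) := by
    rw [P.card_eq_multiplicity]
    apply Nat.one_lt_pow _ hp.one_lt
    have hS0 : Nat.card S ≠ 0 := Nat.card_pos.ne'
    have := (hp.dvd_iff_one_le_factorization hS0).mp hpS
    omega
  have h8 : 0 < Nat.card H := Nat.card_pos
  nlinarith

end Supp

end Cfsg.Agent.helper22
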