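import Mathlib
import Cfsg.Agent.Lib_helper22_InvUp5

set_option autoImplicit false
set_option linter.unusedSectionVars false
set_option linter.unusedVariables false
set_option maxHeartbeats 800000

/-!
Invariant constituents of induced characters, part 6 (helper22): Isaacs 13.31 in the `Γ`-form,
case `G/N` solvable.
-/

namespace Cfsg.Agent.helper22

open Cfsg
open scoped ComplexConjugate

universe u

section GammaSolv
variable {Γ : Type u} [Group Γ] [Fintype Γ]

/-- an `S`-invariant irreducible character of the normal subgroup `G` is `Γ`-invariant when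
`S ⊔ G = ⊤` -/
theorem gamma_inv_of_supp (G S : Subgroup Γ) [hG : G.Normal] [Fintype G] (hSG : S ⊔ G = ⊤)
    (χ : IrrCharacter G) (hχS : InvUnder S G χ.1) :
    ∀ (x : Γ) (g : G), χ.1 ⟨x * g * x⁻¹, hG.conj_mem g g.2 x⟩ = χ.1 g := by
  intro x g
  have hx : x ∈ S ⊔ G := by rw [hSG]; trivial
  obtain ⟨s, hs, g₀, hg₀, rfl⟩ := Subgroup.mem_sup_of_normal_right.mp hx
  have hcf := helper24.char_isClassFunction (helper24.irr_isCharacter χ.2)
  have h1 := hχS s hs (⟨g₀, hg₀⟩ * g * (⟨g₀, hg₀⟩ : G)⁻¹)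
    ⟨s * g₀ * g * (s * g₀)⁻¹, hG.conj_mem g g.2 (s * g₀)⟩
    (by
      push_cast
      group)
  rw [h1]
  exact hcf g ⟨g₀, hg₀⟩

theorem gamma_inv_of_solv_quot (G N : Subgroup Γ) [hG : G.Normal] [hN : N.Normal] [Fintype G]
    [Fintype N] (hNG : N ≤ G) (hcop : (G.index).Coprime (N.relIndex G))
    (hsolv : Group.IsSolvable (G ⧸ N.subgroupOf G)) (θ : IrrCharacter N)
    (hinv : ∀ (x : Γ) (n : N), θ.1 ⟨x * n * x⁻¹, hN.conj_mem n n.2 x⟩ = θ.1 n) :
    ∃ χ : IrrCharacter G, classInner (fun n : N => χ.1 ⟨n, hNG n.2⟩) θ.1 ≠ 0 ∧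
      ∀ (x : Γ) (g : G), χ.1 ⟨x * g * x⁻¹, hG.conj_mem g g.2 x⟩ = χ.1 g := by
  obtain ⟨S, hSG, hSp⟩ := exists_supplement_primes G
  have hcop' : (N.relIndex G).Coprime (Nat.card S) := by
    apply Nat.coprime_of_dvd
    intro k hk h1 h2
    have h3 := Nat.dvd_gcd (hSp k hk h2) h1
    rw [hcop.gcd_eq_one] at h3
    exact hk.one_lt.ne' (Nat.dvd_one.mp h3)
  obtain ⟨χ, hχS, hne⟩ := exists_inv_over_of_solvable G S N
    (fun s _ g hg => hG.conj_mem g hg s) hNG (fun s _ n hn => hN.conj_mem n hn s) hcop' hsolv θ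
    (by
      intro s _ g g' hgg'
      have : g' = ⟨s * g * s⁻¹, hN.conj_mem g g.2 s⟩ := Subtype.ext hgg'
      rw [this]
      exact hinv s g)
  exact ⟨χ, hne, gamma_inv_of_supp G S hSG χ hχS⟩

end GammaSolv

end Cfsg.Agent.helper22
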