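import Mathlib

set_option autoImplicit false
set_option linter.unusedSectionVars false
set_option linter.unusedVariables false
set_option maxHeartbeats 800000

/-!
Invariant constituents of induced characters, part 7 (helper22): the Hall decomposition
`G = N × H` of a group `G` which is central-by-(π'-group), `π` the primes dividing `|Γ : G|`.
-/

namespace Cfsg.Agent.helper22

universe u

section Hall
variable {Γ : Type u} [Group Γ] [Finite Γ]

/-- the elements of `Z` whose order involves only primes dividing `m` -/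
def piPart (Z : Subgroup Γ) (hZc : Z ≤ Subgroup.center Γ) (m : ℕ) : Subgroup Γ where
  carrier := {z | z ∈ Z ∧ ∀ p : ℕ, p.Prime → p ∣ orderOf z → p ∣ m}
  one_mem' := by
    refine ⟨Z.one_mem, fun p hp h => ?_⟩
    rw [orderOf_one] at h
    exact absurd (Nat.dvd_one.mp h) hp.one_lt.ne'
  mul_mem' := by
    rintro a b ⟨ha, ha'⟩ ⟨hb, hb'⟩
    refine ⟨Z.mul_mem ha hb, fun p hp h => ?_⟩
    have hcomm : Commute a b := Subgroup.mem_center_iff.mp (hZc hb) a
    have h1 := h.trans (hcomm.orderOf_mul_dvd_lcm.trans (Nat.lcm_dvd_mul _ _))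
    rcases hp.dvd_mul.mp h1 with h2 | h2
    · exact ha' p hp h2
    · exact hb' p hp h2
  inv_mem' := by
    rintro a ⟨ha, ha'⟩
    refine ⟨Z.inv_mem ha, fun p hp h => ?_⟩
    rw [orderOf_inv] at h
    exact ha' p hp h

theorem mem_piPart {Z : Subgroup Γ} {hZc : Z ≤ Subgroup.center Γ} {m : ℕ} {z : Γ} :
    z ∈ piPart Z hZc m ↔ z ∈ Z ∧ ∀ p : ℕ, p.Prime → p ∣ orderOf z → p ∣ m := Iff.rfl

theorem piPart_le (Z : Subgroup Γ) (hZc : Z ≤ Subgroup.center Γ) (m : ℕ) : piPart Z hZc m ≤ Z :=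
  fun z hz => hz.1

theorem piPart_card_prime (Z : Subgroup Γ) (hZc : Z ≤ Subgroup.center Γ) (m : ℕ) (p : ℕ)
    (hp : p.Prime) (h : p ∣ Nat.card (piPart Z hZc m)) : p ∣ m := by
  have : Fact p.Prime := ⟨hp⟩
  obtain ⟨x, hx⟩ := exists_prime_orderOf_dvd_card' p h
  apply x.2.2 p hp
  rw [Subgroup.orderOf_coe, hx]

theorem piPart_relIndex (Z : Subgroup Γ) (hZc : Z ≤ Subgroup.center Γ) (m : ℕ) (p : ℕ)
    (hp : p.Prime) (hpm : p ∣ m) : ¬ p ∣ (piPart Z hZc m).relIndex Z := by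
  have : Fact p.Prime := ⟨hp⟩
  obtain ⟨P⟩ : Nonempty (Sylow p Z) := inferInstance
  have hPN : (P : Subgroup Z) ≤ (piPart Z hZc m).subgroupOf Z := by
    intro z hz
    rw [Subgroup.mem_subgroupOf]
    refine ⟨z.2, fun q hq h => ?_⟩
    obtain ⟨k, hk⟩ := P.2 ⟨z, hz⟩
    have h1 : (z : Γ) ^ (p ^ k) = 1 := by
      have := congrArg (fun y : P => ((y : Z) : Γ)) hk
      simpa using this
    have h2 := h.trans (orderOf_dvd_of_pow_eq_one h1)
    have h3 := (Nat.prime_dvd_prime_iff_eq hq hp).mp (hq.dvd_of_dvd_pow h2)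
    rw [h3]
    exact hpm
  intro h
  have h1 : ((piPart Z hZc m).subgroupOf Z).index ∣ (P : Subgroup Z).index :=
    Subgroup.index_dvd_of_le hPN
  exact P.not_dvd_index (h.trans h1)

theorem central_hall_decomp (G Z : Subgroup Γ) [hG : G.Normal] (hZG : Z ≤ G)
    (hZc : Z ≤ Subgroup.center Γ) (hcop : (G.index).Coprime (Z.relIndex G)) :
    ∃ N H : Subgroup Γ, N ≤ Z ∧ H ≤ G ∧ (∀ x : Γ, ∀ h ∈ H, x * h * x⁻¹ ∈ H) ∧
      (Nat.card H).Coprime G.index ∧ (∀ g ∈ G, ∃ n ∈ N, ∃ h ∈ H, g = n * h) ∧ N ⊓ H = ⊥ := by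
  classical
  obtain ⟨N, hN⟩ : ∃ N : Subgroup Γ, N = piPart Z hZc G.index := ⟨_, rfl⟩
  have hNZ : N ≤ Z := by rw [hN]; exact piPart_le Z hZc _
  have hNG : N ≤ G := hNZ.trans hZG
  have hNp : ∀ p : ℕ, p.Prime → p ∣ Nat.card N → p ∣ G.index := by
    intro p hp h
    rw [hN] at h
    exact piPart_card_prime Z hZc _ p hp h
  have hrel : N.relIndex Z * Z.relIndex G = N.relIndex G :=
    Subgroup.relIndex_mul_relIndex N Z G hNZ hZG
  have hidx : ∀ p : ℕ, p.Prime → p ∣ G.index → ¬ p ∣ N.relIndex G := by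
    intro p hp hpm h
    rw [← hrel] at h
    rcases hp.dvd_mul.mp h with h1 | h1
    · rw [hN] at h1
      exact piPart_relIndex Z hZc _ p hp hpm h1
    · have h3 := Nat.dvd_gcd hpm h1
      rw [hcop.gcd_eq_one] at h3
      exact hp.one_lt.ne' (Nat.dvd_one.mp h3)
  have hcop1 : (Nat.card N).Coprime (N.relIndex G) :=
    Nat.coprime_of_dvd (fun k hk h1 h2 => hidx k hk (hNp k hk h1) h2)
  have hcop2 : (N.relIndex G).Coprime G.index :=
    Nat.coprime_of_dvd (fun k hk h1 h2 => hidx k hk h2 h1)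
  -- inside `G`
  have hNn : (N.subgroupOf G).Normal := by
    constructor
    intro n hn g
    have : g * n * g⁻¹ = n := by
      have hc := Subgroup.mem_center_iff.mp (hZc (hNZ (Subgroup.mem_subgroupOf.mp hn))) (g : Γ)
      apply Subtype.ext
      push_cast
      rw [hc, mul_assoc, mul_inv_cancel, mul_one]
    rw [this]
    exact hn
  have hcardN : Nat.card (N.subgroupOf G) = Nat.card N :=
    Nat.card_congr (Subgroup.subgroupOfEquivOfLe hNG).toEquiv
  obtain ⟨H', hH'⟩ := Subgroup.exists_right_complement'_of_coprime (N := N.subgroupOf G)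
    (by rw [hcardN]; exact hcop1)
  have hcardH' : Nat.card H' = N.relIndex G := (hH'.symm.index_eq_card).symm
  obtain ⟨H, hH⟩ : ∃ H : Subgroup Γ, H = H'.map G.subtype := ⟨_, rfl⟩
  have hcardH : Nat.card H = N.relIndex G := by
    rw [hH, Subgroup.card_map_of_injective G.subtype_injective, hcardH']
  have hHG : H ≤ G := by
    rw [hH]
    rintro _ ⟨h, -, rfl⟩
    exact h.2
  have hdec : ∀ g ∈ G, ∃ n ∈ N, ∃ h ∈ H, g = n * h := by
    intro g hg
    obtain ⟨a, ha⟩ := hH'.2 ⟨g, hg⟩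
    refine ⟨((a.1 : G) : Γ), Subgroup.mem_subgroupOf.mp a.1.2, ((a.2 : G) : Γ), ?_, ?_⟩
    · rw [hH]
      exact ⟨a.2, a.2.2, rfl⟩
    · have := congrArg (fun y : G => (y : Γ)) ha
      simpa using this.symm
  have hdisj : N ⊓ H = ⊥ := by
    rw [eq_bot_iff]
    intro x hx
    rw [Subgroup.mem_inf] at hx
    obtain ⟨hxN, hxH⟩ := hx
    rw [hH] at hxH
    obtain ⟨h', hh', rfl⟩ := hxH
    have h1 : h' ∈ N.subgroupOf G := Subgroup.mem_subgroupOf.mpr hxN
    have h2 := Subgroup.disjoint_def.mp hH'.disjoint h1 hh'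
    rw [h2]
    exact Subgroup.one_mem _
  have hchar : ∀ g ∈ G, g ^ (Nat.card H) = 1 → g ∈ H := by
    intro g hg hpow
    obtain ⟨n, hn, h, hh, rfl⟩ := hdec g hg
    have hcomm : Commute n h := (Subgroup.mem_center_iff.mp (hZc (hNZ hn)) h).symm
    have hh1 : h ^ (Nat.card H) = 1 := by
      have h0 : (⟨h, hh⟩ : H) ^ Nat.card H = 1 := pow_card_eq_one'
      have h1 : (((⟨h, hh⟩ : H) ^ Nat.card H : H) : Γ) = ((1 : H) : Γ) := congrArg Subtype.val h0
      rw [Subgroup.coe_pow, Subgroup.coe_one] at h1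
      exact h1
    rw [hcomm.mul_pow, hh1, mul_one] at hpow
    have h1 : orderOf n ∣ Nat.card H := orderOf_dvd_of_pow_eq_one hpow
    have h2 : orderOf n ∣ Nat.card N := by
      have := orderOf_dvd_natCard (⟨n, hn⟩ : N)
      rwa [← Subgroup.orderOf_coe] at this
    have h3 := Nat.dvd_gcd h2 h1
    rw [hcardH, hcop1.gcd_eq_one] at h3
    have h4 : n = 1 := orderOf_eq_one_iff.mp (Nat.dvd_one.mp h3)
    rw [h4, one_mul]
    exact hh
  refine ⟨N, H, hNZ, hHG, ?_, by rw [hcardH]; exact hcop2, hdec, hdisj⟩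
  intro x h hh
  apply hchar _ (hG.conj_mem h (hHG hh) x)
  rw [conj_pow]
  have hh1 : h ^ (Nat.card H) = 1 := by
    have h0 : (⟨h, hh⟩ : H) ^ Nat.card H = 1 := pow_card_eq_one'
    have h1 : (((⟨h, hh⟩ : H) ^ Nat.card H : H) : Γ) = ((1 : H) : Γ) := congrArg Subtype.val h0
    rw [Subgroup.coe_pow, Subgroup.coe_one] at h1
    exact h1
  rw [hh1, mul_one, mul_inv_cancel]

end Hall

end Cfsg.Agent.helper22
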