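import Mathlib
import Cfsg.Agent.Lib_helper22_Glaub23
import Cfsg.Statements.S4449
-- import your own Cfsg.Agent.* helpers here

set_option autoImplicit false
open Cfsg

namespace Cfsg.Agent.S4449

/-- Inside a finite group Γ let the solvable subgroup S normalise G with the orders of G and S coprime, and let N be a normal subgroup of G normalised by S. Then for every S-invariant irreducible character ϑ of N, the induced character ϑ^G has an S-invariant irreducible constituent. -/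
theorem result {Γ : Type*} [Group Γ] [Fintype Γ] (G S N : Subgroup Γ) [Fintype G] [Fintype N] (hnorm : ∀ s ∈ S, ∀ g ∈ G, s * g * s⁻¹ ∈ G) (hNG : N ≤ G) (hNnormal : ∀ g ∈ G, ∀ n ∈ N, g * n * g⁻¹ ∈ N) (hNS : ∀ s ∈ S, ∀ n ∈ N, s * n * s⁻¹ ∈ N) (hcop : (Nat.card G).Coprime (Nat.card S)) (hsolv : Group.IsSolvable S) (θ : Cfsg.IrrCharacter N) (hinv : (∀ s ∈ S, ∀ g g' : N, (g' : Γ) = s * g * s⁻¹ → (θ : N → ℂ) g' = (θ : N → ℂ) g)) : ∃ χ : Cfsg.IrrCharacter G, Cfsg.classInner (fun n : N => (χ : G → ℂ) ⟨n, hNG n.2⟩) (θ : N → ℂ) ≠ 0 ∧ (∀ s ∈ S, ∀ g g' : G, (g' : Γ) = s * g * s⁻¹ → (χ : G → ℂ) g' = (χ : G → ℂ) g) := by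
  classical
  have hbot : ∀ A : Subgroup Γ,
      A = A ⊓ Subgroup.centralizer (((⊥ : Subgroup Γ) : Subgroup Γ) : Set Γ) := by
    intro A
    ext x
    rw [Subgroup.mem_inf, Subgroup.mem_centralizer_iff]
    constructor
    · intro hx
      refine ⟨hx, fun h hh => ?_⟩
      have : h = 1 := by simpa using hh
      rw [this, one_mul, mul_one]
    · exact fun h => h.1
  have key : ∀ (N₁ G₁ : Subgroup Γ)
      (hN₁ : N₁ = N ⊓ Subgroup.centralizer (((⊥ : Subgroup Γ) : Subgroup Γ) : Set Γ))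
      (hG₁ : G₁ = G ⊓ Subgroup.centralizer (((⊥ : Subgroup Γ) : Subgroup Γ) : Set Γ))
      (hle : N₁ ≤ G₁) [Fintype N₁] (ϑ : Cfsg.IrrCharacter N₁),
      helper22.InvUnder S N₁ ϑ.1 →
      ∃ χ : Cfsg.IrrCharacter G₁, helper22.InvUnder S G₁ χ.1 ∧
        Cfsg.classInner (fun a : N₁ => χ.1 ⟨a, hle a.2⟩) ϑ.1 ≠ 0 := by
    intro N₁ G₁ hN₁ hG₁ hle inst ϑ hϑ
    subst hN₁ hG₁
    exact helper22.exists_inv_over_chain G S N hnorm hNG hNnormal hNS hcop hsolv (Nat.card S) ⊥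
      (Nat.sub_le _ _) bot_le
      (by
        intro s _ t ht
        rw [Subgroup.mem_bot] at ht ⊢
        rw [ht, mul_one, mul_inv_cancel]) ϑ hϑ
  obtain ⟨χ, hχS, hne⟩ := key N G (hbot N) (hbot G) hNG θ hinv
  exact ⟨χ, hne, hχS⟩

end Cfsg.Agent.S4449
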