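import Mathlib
import Cfsg.Agent.Lib_helper22_InvUp6
import Cfsg.Agent.Lib_helper22_InvUp7
import Cfsg.Agent.Lib_helper22_RepGroup
import Cfsg.Agent.Lib_helper24_SpecialClasses
import Cfsg.Agent.S4449

set_option autoImplicit false
set_option linter.unusedSectionVars false
set_option linter.unusedVariables false
set_option maxHeartbeats 1600000

/-!
Invariant constituents of induced characters, part 8 (helper22): Isaacs 13.31 in the `Γ`-form,
case `Γ/G` solvable, when the normal subgroup is central.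
-/

namespace Cfsg.Agent.helper22

open Cfsg
open scoped ComplexConjugate

universe u

section Central
variable {Γ : Type u} [Group Γ] [Fintype Γ]

/-- the internal direct product of a central subgroup and a complement -/
noncomputable def prodEquiv (G N H : Subgroup Γ) (hNc : N ≤ Subgroup.center Γ) (hNG : N ≤ G)
    (hHG : H ≤ G) (hdec : ∀ g ∈ G, ∃ n ∈ N, ∃ h ∈ H, g = n * h) (hdisj : N ⊓ H = ⊥) :
    N × H ≃* G :=
  MulEquiv.ofBijective
    ({ toFun := fun a => ⟨(a.1 : Γ) * (a.2 : Γ), G.mul_mem (hNG a.1.2) (hHG a.2.2)⟩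
       map_one' := by
         apply Subtype.ext
         simp
       map_mul' := by
         intro a b
         apply Subtype.ext
         have hc : (b.1 : Γ) * (a.2 : Γ) = (a.2 : Γ) * (b.1 : Γ) :=
           (Subgroup.mem_center_iff.mp (hNc b.1.2) (a.2 : Γ)).symm
         show ((a.1 * b.1 : N) : Γ) * ((a.2 * b.2 : H) : Γ) =
           ((a.1 : Γ) * (a.2 : Γ)) * ((b.1 : Γ) * (b.2 : Γ))
         push_cast
         rw [mul_assoc, ← mul_assoc (b.1 : Γ), hc]
         simp only [mul_assoc] } : N × H →* G)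
    (by
      constructor
      · rintro ⟨n, h⟩ ⟨n', h'⟩ heq
        have h1 : (n : Γ) * (h : Γ) = (n' : Γ) * (h' : Γ) := congrArg Subtype.val heq
        have h2 : (n' : Γ)⁻¹ * (n : Γ) = (h' : Γ) * (h : Γ)⁻¹ := by
          rw [inv_mul_eq_iff_eq_mul, ← mul_assoc, ← h1, mul_assoc, mul_inv_cancel, mul_one]
        have h3 : (n' : Γ)⁻¹ * (n : Γ) ∈ N ⊓ H := by
          refine ⟨N.mul_mem (N.inv_mem n'.2) n.2, ?_⟩
          rw [h2]
          exact H.mul_mem h'.2 (H.inv_mem h.2)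
        rw [hdisj, Subgroup.mem_bot] at h3
        have h4 : (n : Γ) = (n' : Γ) := by
          rw [inv_mul_eq_one] at h3
          exact h3.symm
        have h5 : (h : Γ) = (h' : Γ) := by
          rw [h4] at h1
          exact mul_left_cancel h1
        exact Prod.ext (Subtype.ext h4) (Subtype.ext h5)
      · intro g
        obtain ⟨n, hn, h, hh, hg⟩ := hdec g g.2
        exact ⟨(⟨n, hn⟩, ⟨h, hh⟩), Subtype.ext hg.symm⟩)

theorem prodEquiv_coe (G N H : Subgroup Γ) (hNc : N ≤ Subgroup.center Γ) (hNG : N ≤ G)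
    (hHG : H ≤ G) (hdec : ∀ g ∈ G, ∃ n ∈ N, ∃ h ∈ H, g = n * h) (hdisj : N ⊓ H = ⊥)
    (a : N × H) : ((prodEquiv G N H hNc hNG hHG hdec hdisj a : G) : Γ) = (a.1 : Γ) * (a.2 : Γ) :=
  rfl

/-- **Isaacs 13.31, central case.** -/
theorem central_case (G Z : Subgroup Γ) [hG : G.Normal] [Fintype G] [Fintype Z] (hZG : Z ≤ G)
    (hZc : Z ≤ Subgroup.center Γ) (hcop : (G.index).Coprime (Z.relIndex G))
    {Q : Type u} [Group Q] (hQ : Group.IsSolvable Q) (φ : Γ →* Q) (hφ : φ.ker ≤ G)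
    (lam : Z →* ℂˣ) :
    ∃ β : IrrCharacter G,
      (∀ (x : Γ) (g : G), β.1 ⟨x * g * x⁻¹, hG.conj_mem g g.2 x⟩ = β.1 g) ∧
      classInner (fun z : Z => β.1 ⟨z, hZG z.2⟩) (fun z : Z => ((lam z : ℂˣ) : ℂ)) ≠ 0 := by
  classical
  obtain ⟨N, H, hNZ, hHG, hHn, hHcop, hdec, hdisj⟩ := central_hall_decomp G Z hZG hZc hcop
  obtain ⟨S, hSG, hSp⟩ := exists_supplement_primes G
  have hNc : N ≤ Subgroup.center Γ := hNZ.trans hZc
  have hNG : N ≤ G := hNZ.trans hZG
  haveI : Fintype H := Fintype.ofFinite _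
  haveI : Fintype N := Fintype.ofFinite _
  have hHS : (Nat.card H).Coprime (Nat.card S) := by
    apply Nat.coprime_of_dvd
    intro k hk h1 h2
    have h3 := Nat.dvd_gcd h1 (hSp k hk h2)
    rw [hHcop.gcd_eq_one] at h3
    exact hk.one_lt.ne' (Nat.dvd_one.mp h3)
  -- `S ⊓ G ≤ N`
  have hSGN : ∀ x ∈ S, x ∈ G → x ∈ N := by
    intro x hxS hxG
    obtain ⟨n, hn, h, hh, rfl⟩ := hdec x hxG
    have hcomm : Commute n h := (Subgroup.mem_center_iff.mp (hNc hn) h).symm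
    have hpow : (n * h) ^ (Nat.card S) = 1 := by
      have h0 : (⟨n * h, hxS⟩ : S) ^ Nat.card S = 1 := pow_card_eq_one'
      have h1 : (((⟨n * h, hxS⟩ : S) ^ Nat.card S : S) : Γ) = ((1 : S) : Γ) :=
        congrArg Subtype.val h0
      rw [Subgroup.coe_pow, Subgroup.coe_one] at h1
      exact h1
    rw [hcomm.mul_pow] at hpow
    have h2 : h ^ (Nat.card S) ∈ N ⊓ H := by
      refine ⟨?_, H.pow_mem hh _⟩
      have : h ^ (Nat.card S) = (n ^ (Nat.card S))⁻¹ := eq_inv_of_mul_eq_one_right hpow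
      rw [this]
      exact N.inv_mem (N.pow_mem hn _)
    rw [hdisj, Subgroup.mem_bot] at h2
    have h3 : orderOf h ∣ Nat.card S := orderOf_dvd_of_pow_eq_one h2
    have h4 : orderOf h ∣ Nat.card H := by
      have := orderOf_dvd_natCard (⟨h, hh⟩ : H)
      rwa [← Subgroup.orderOf_coe] at this
    have h5 := Nat.dvd_gcd h4 h3
    rw [hHS.gcd_eq_one] at h5
    have h6 : h = 1 := orderOf_eq_one_iff.mp (Nat.dvd_one.mp h5)
    rw [h6, mul_one]
    exact hn
  -- `S` is solvable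
  have hSsolv : Group.IsSolvable S := by
    obtain ⟨f, hf⟩ : ∃ f : S →* Q, f = φ.comp S.subtype := ⟨_, rfl⟩
    have hker : ∀ a : S, a ∈ f.ker → (a : Γ) ∈ N := by
      intro a ha
      apply hSGN a a.2
      apply hφ
      rw [MonoidHom.mem_ker] at ha ⊢
      rw [hf] at ha
      exact ha
    have hksolv : Group.IsSolvable f.ker := by
      apply Group.isSolvable_of_comm
      intro a b
      apply Subtype.ext
      apply Subtype.ext
      show ((a : S) : Γ) * ((b : S) : Γ) = ((b : S) : Γ) * ((a : S) : Γ)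
      exact Subgroup.mem_center_iff.mp (hNc (hker b b.2)) ((a : S) : Γ)
    exact Group.isSolvable_of_ker_le_range f.ker.subtype f (by rw [Subgroup.range_subtype])
  -- the `S`-invariant character of `H`
  obtain ⟨A, hA⟩ : ∃ A : Subgroup Γ, A = Z ⊓ H := ⟨_, rfl⟩
  have hAZ : A ≤ Z := by rw [hA]; exact inf_le_left
  have hAH : A ≤ H := by rw [hA]; exact inf_le_right
  haveI : Fintype A := Fintype.ofFinite _
  have hAc : ∀ a ∈ A, ∀ x : Γ, x * a * x⁻¹ = a := by
    intro a ha x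
    rw [Subgroup.mem_center_iff.mp (hZc (hAZ ha)) x, mul_assoc, mul_inv_cancel, mul_one]
  obtain ⟨θ, hθ⟩ : ∃ θ : IrrCharacter A,
      θ.1 = fun a : A => (((lam.comp (Subgroup.inclusion hAZ)) a : ℂˣ) : ℂ) :=
    ⟨⟨_, hom_isIrrCharacter (lam.comp (Subgroup.inclusion hAZ))⟩, rfl⟩
  obtain ⟨ψ, hψθ, hψS⟩ := Cfsg.Agent.S4449.result H S A (fun s _ h hh => hHn s h hh) hAH
    (fun g _ a ha => by rw [hAc a ha g]; exact ha)
    (fun s _ a ha => by rw [hAc a ha s]; exact ha) hHS hSsolv θ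
    (by
      intro s _ g g' hgg'
      have : g' = g := by
        apply Subtype.ext
        rw [hgg', hAc g g.2 s]
      rw [this])
  -- `ψ` on the central subgroup `A`
  have hψA : ∀ a : A, ψ.1 ⟨a, hAH a.2⟩ = ψ.1 1 * ((lam ⟨a, hAZ a.2⟩ : ℂˣ) : ℂ) := by
    haveI : Fintype (A.subgroupOf H) := Fintype.ofFinite _
    obtain ⟨ε, hε⟩ : ∃ ε : A.subgroupOf H ≃* A, ε = Subgroup.subgroupOfEquivOfLe hAH := ⟨_, rfl⟩
    have hεv : ∀ a : A.subgroupOf H, ((ε a : A) : Γ) = ((a : H) : Γ) := by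
      intro a; rw [hε]; rfl
    have hcen : A.subgroupOf H ≤ Subgroup.center H := by
      intro a ha
      rw [Subgroup.mem_center_iff]
      intro g
      apply Subtype.ext
      show (g : Γ) * (a : Γ) = (a : Γ) * (g : Γ)
      exact Subgroup.mem_center_iff.mp (hZc (hAZ (Subgroup.mem_subgroupOf.mp ha))) (g : Γ)
    have hov : classInner (fun n : A.subgroupOf H => ψ.1 n)
        (fun n : A.subgroupOf H =>
          ((((lam.comp (Subgroup.inclusion hAZ)).comp ε.toMonoidHom) n : ℂˣ) : ℂ)) ≠ 0 := by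
      have h := helper12.classInner_comp_mulEquiv ε (fun a : A => ψ.1 ⟨a, hAH a.2⟩) θ.1
      have e1 : (fun a : A.subgroupOf H => (fun a : A => ψ.1 ⟨a, hAH a.2⟩) (ε a)) =
          fun n : A.subgroupOf H => ψ.1 n := by
        funext a
        show ψ.1 ⟨((ε a : A) : Γ), _⟩ = ψ.1 a
        exact congrArg ψ.1 (Subtype.ext (hεv a))
      have e2 : (fun a : A.subgroupOf H => θ.1 (ε a)) = fun n : A.subgroupOf H =>
          ((((lam.comp (Subgroup.inclusion hAZ)).comp ε.toMonoidHom) n : ℂˣ) : ℂ) := by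
        funext a
        rw [hθ]
        rfl
      rw [e1, e2] at h
      rw [h]
      exact hψθ
    intro a
    have h1 := helper24.central_over_apply (A.subgroupOf H) hcen
      ((lam.comp (Subgroup.inclusion hAZ)).comp ε.toMonoidHom) ψ hov
      ⟨⟨a, hAH a.2⟩, Subgroup.mem_subgroupOf.mpr a.2⟩
    have h2 : ε ⟨⟨a, hAH a.2⟩, Subgroup.mem_subgroupOf.mpr a.2⟩ = a := by
      apply Subtype.ext
      rw [hεv]
    have h3 : ((lam.comp (Subgroup.inclusion hAZ)).comp ε.toMonoidHom)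
        ⟨⟨a, hAH a.2⟩, Subgroup.mem_subgroupOf.mpr a.2⟩ = lam ⟨a, hAZ a.2⟩ := by
      show lam (Subgroup.inclusion hAZ (ε _)) = _
      rw [h2]
      rfl
    rw [h3] at h1
    exact h1
  -- the product character
  obtain ⟨e, he⟩ : ∃ e : N × H ≃* G, e = prodEquiv G N H hNc hNG hHG hdec hdisj := ⟨_, rfl⟩
  have hecoe : ∀ a : N × H, ((e a : G) : Γ) = (a.1 : Γ) * (a.2 : Γ) := by
    intro a; rw [he]; rfl
  obtain ⟨q, hq⟩ : ∃ q : G →* H, q = (MonoidHom.snd N H).comp e.symm.toMonoidHom := ⟨_, rfl⟩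
  obtain ⟨μ, hμ⟩ : ∃ μ : G →* ℂˣ, μ = (lam.comp (Subgroup.inclusion hNZ)).comp
      ((MonoidHom.fst N H).comp e.symm.toMonoidHom) := ⟨_, rfl⟩
  have hqe : ∀ a : N × H, q (e a) = a.2 := by
    intro a
    rw [hq]
    show (e.symm (e a)).2 = a.2
    rw [MulEquiv.symm_apply_apply]
  have hμe : ∀ a : N × H, μ (e a) = lam ⟨a.1, hNZ a.1.2⟩ := by
    intro a
    rw [hμ]
    show lam (Subgroup.inclusion hNZ (e.symm (e a)).1) = _
    rw [MulEquiv.symm_apply_apply]
    rfl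
  have hqsurj : Function.Surjective q := by
    intro h
    exact ⟨e (1, h), hqe (1, h)⟩
  have hβirr : IsIrrCharacter G (fun g => ((μ g : ℂˣ) : ℂ) * ψ.1 (q g)) :=
    twist_isIrr μ (isIrrCharacter_comp_surjective q hqsurj ψ.2)
  have hβe : ∀ a : N × H, (fun g => ((μ g : ℂˣ) : ℂ) * ψ.1 (q g)) (e a) =
      ((lam ⟨a.1, hNZ a.1.2⟩ : ℂˣ) : ℂ) * ψ.1 a.2 := by
    intro a
    show ((μ (e a) : ℂˣ) : ℂ) * ψ.1 (q (e a)) = _
    rw [hμe, hqe]
  refine ⟨⟨_, hβirr⟩, ?_, ?_⟩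
  · apply gamma_inv_of_supp G S hSG
    intro s hs g g' hgg'
    obtain ⟨a, rfl⟩ := e.surjective g
    have hg' : g' = e (a.1, ⟨s * (a.2 : Γ) * s⁻¹, hHn s _ a.2.2⟩) := by
      apply Subtype.ext
      rw [hgg', hecoe, hecoe]
      show s * ((a.1 : Γ) * (a.2 : Γ)) * s⁻¹ = (a.1 : Γ) * (s * (a.2 : Γ) * s⁻¹)
      have hc := Subgroup.mem_center_iff.mp (hNc a.1.2) s
      rw [← mul_assoc s, hc]
      simp only [mul_assoc]
    show (fun g => ((μ g : ℂˣ) : ℂ) * ψ.1 (q g)) g' = (fun g => ((μ g : ℂˣ) : ℂ) * ψ.1 (q g)) (e a)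
    rw [hg', hβe, hβe]
    congr 1
    exact hψS s hs a.2 _ rfl
  · have hval : (fun z : Z => (fun g => ((μ g : ℂˣ) : ℂ) * ψ.1 (q g)) ⟨z, hZG z.2⟩) =
        (ψ.1 1) • fun z : Z => ((lam z : ℂˣ) : ℂ) := by
      funext z
      obtain ⟨a, ha⟩ := e.surjective ⟨z, hZG z.2⟩
      have hz : (z : Γ) = (a.1 : Γ) * (a.2 : Γ) := by
        rw [← hecoe a, ha]
      have ha2 : (a.2 : Γ) ∈ A := by
        rw [hA]
        refine ⟨?_, a.2.2⟩
        have : (a.2 : Γ) = (a.1 : Γ)⁻¹ * (z : Γ) := by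
          rw [hz, inv_mul_cancel_left]
        rw [this]
        exact Z.mul_mem (Z.inv_mem (hNZ a.1.2)) z.2
      rw [← ha, hβe, Pi.smul_apply, smul_eq_mul]
      have h1 := hψA ⟨a.2, ha2⟩
      have h2 : (⟨((⟨(a.2 : Γ), ha2⟩ : A) : Γ), hAH ha2⟩ : H) = a.2 := Subtype.ext rfl
      rw [h2] at h1
      rw [h1]
      have h3 : z = ⟨a.1, hNZ a.1.2⟩ * ⟨a.2, hAZ ha2⟩ := Subtype.ext hz
      rw [h3, map_mul, Units.val_mul]
      ring
    rw [hval, helper24.classInner_smul_left, helper24.irr_classInner_self (hom_isIrrCharacter lam)]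
    rw [mul_one]
    exact helper24.irr_apply_one_ne_zero ψ.2

end Central

end Cfsg.Agent.helper22
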