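import Mathlib
import Cfsg.Agent.Lib_helper22_InvUp8
import Cfsg.Agent.Lib_helper22_Gallagher
import Cfsg.Agent.Lib_helper22_Glue
import Cfsg.Agent.Lib_helper24_CharCentral
import Cfsg.Agent.Lib_helper24_CharKer

set_option autoImplicit false
set_option linter.unusedSectionVars false
set_option linter.unusedVariables false
set_option maxHeartbeats 1600000

/-!
Invariant constituents of induced characters, part 9 (helper22): tools for the reduction of
Isaacs 13.31 (`Γ/G` solvable) to the central case: central characters as homomorphisms.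
-/

namespace Cfsg.Agent.helper22

open Cfsg
open scoped ComplexConjugate

universe u

section CentralHom
variable {K : Type u} [Group K] [Fintype K]

/-- the central character of an irreducible character, as a monoid homomorphism to `ℂ` -/
noncomputable def centralHom0 {χ : K → ℂ} (hχ : IsIrrCharacter K χ) (C : Subgroup K)
    (hC : C ≤ Subgroup.center K) : C →* ℂ where
  toFun z := χ z / χ 1
  map_one' := div_self (helper24.irr_apply_one_ne_zero hχ)
  map_mul' := by
    intro z w
    show χ ((z : K) * (w : K)) / χ 1 = χ z / χ 1 * (χ w / χ 1)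
    rw [helper24.irr_central_apply hχ (w : K) (hC w.2) (z : K)]
    ring

/-- the central character of an irreducible character -/
noncomputable def centralHom {χ : K → ℂ} (hχ : IsIrrCharacter K χ) (C : Subgroup K)
    (hC : C ≤ Subgroup.center K) : C →* ℂˣ := (centralHom0 hχ C hC).toHomUnits

theorem centralHom_val {χ : K → ℂ} (hχ : IsIrrCharacter K χ) (C : Subgroup K)
    (hC : C ≤ Subgroup.center K) (z : C) :
    ((centralHom hχ C hC z : ℂˣ) : ℂ) = χ z / χ 1 := rfl

theorem centralHom_mul {χ : K → ℂ} (hχ : IsIrrCharacter K χ) (C : Subgroup K)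
    (hC : C ≤ Subgroup.center K) (z : C) (g : K) :
    χ (g * z) = ((centralHom hχ C hC z : ℂˣ) : ℂ) * χ g := by
  rw [centralHom_val, helper24.irr_central_apply hχ (z : K) (hC z.2) g]

end CentralHom

section CentralSub
variable {Γ : Type u} [Group Γ] [Fintype Γ]

/-- an irreducible character of `H` over a linear character of a central subgroup `A` -/
theorem central_over_sub (A H : Subgroup Γ) (hAH : A ≤ H)
    (hAc : ∀ a ∈ A, ∀ h ∈ H, h * a = a * h) [Fintype A] [Fintype H] (lam : A →* ℂˣ)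
    (ψ : IrrCharacter H)
    (hov : classInner (fun a : A => ψ.1 ⟨a, hAH a.2⟩) (fun a : A => ((lam a : ℂˣ) : ℂ)) ≠ 0) :
    ∀ a : A, ψ.1 ⟨a, hAH a.2⟩ = ψ.1 1 * ((lam a : ℂˣ) : ℂ) := by
  classical
  haveI : Fintype (A.subgroupOf H) := Fintype.ofFinite _
  obtain ⟨ε, hε⟩ : ∃ ε : A.subgroupOf H ≃* A, ε = Subgroup.subgroupOfEquivOfLe hAH := ⟨_, rfl⟩
  have hεv : ∀ a : A.subgroupOf H, ((ε a : A) : Γ) = ((a : H) : Γ) := by
    intro a; rw [hε]; rfl
  have hcen : A.subgroupOf H ≤ Subgroup.center H := by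
    intro a ha
    rw [Subgroup.mem_center_iff]
    intro g
    apply Subtype.ext
    show (g : Γ) * (a : Γ) = (a : Γ) * (g : Γ)
    exact hAc _ (Subgroup.mem_subgroupOf.mp ha) _ g.2
  have hov' : classInner (fun n : A.subgroupOf H => ψ.1 n)
      (fun n : A.subgroupOf H => (((lam.comp ε.toMonoidHom) n : ℂˣ) : ℂ)) ≠ 0 := by
    have h := helper12.classInner_comp_mulEquiv ε (fun a : A => ψ.1 ⟨a, hAH a.2⟩)
      (fun a : A => ((lam a : ℂˣ) : ℂ))
    have e1 : (fun a : A.subgroupOf H => (fun a : A => ψ.1 ⟨a, hAH a.2⟩) (ε a)) =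
        fun n : A.subgroupOf H => ψ.1 n := by
      funext a
      show ψ.1 ⟨((ε a : A) : Γ), _⟩ = ψ.1 a
      exact congrArg ψ.1 (Subtype.ext (hεv a))
    rw [e1] at h
    have e2 : (fun n : A.subgroupOf H => (((lam.comp ε.toMonoidHom) n : ℂˣ) : ℂ)) =
        fun a : A.subgroupOf H => (fun a : A => ((lam a : ℂˣ) : ℂ)) (ε a) := rfl
    rw [e2, h]
    exact hov
  intro a
  have h1 := helper24.central_over_apply (A.subgroupOf H) hcen (lam.comp ε.toMonoidHom) ψ hov'
    ⟨⟨a, hAH a.2⟩, Subgroup.mem_subgroupOf.mpr a.2⟩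
  have h2 : ε ⟨⟨a, hAH a.2⟩, Subgroup.mem_subgroupOf.mpr a.2⟩ = a := by
    apply Subtype.ext
    rw [hεv]
  have h3 : (lam.comp ε.toMonoidHom) ⟨⟨a, hAH a.2⟩, Subgroup.mem_subgroupOf.mpr a.2⟩ = lam a := by
    show lam (ε _) = _
    rw [h2]
  rw [h3] at h1
  exact h1

end CentralSub

end Cfsg.Agent.helper22
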