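import Mathlib
import Cfsg.Agent.Lib_helper22_InvUp9

set_option autoImplicit false
set_option linter.unusedSectionVars false
set_option linter.unusedVariables false
set_option maxHeartbeats 3200000

/-!
Invariant constituents of induced characters, part 10 (helper22): Isaacs 13.31 in the `Γ`-form,
case `Γ/G` solvable, by reduction to the central case via a representation group.
-/

namespace Cfsg.Agent.helper22

open Cfsg
open scoped ComplexConjugate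

universe u

section Top
variable {Γ : Type u} [Group Γ] [Fintype Γ]

theorem gamma_inv_of_solv_top (G N : Subgroup Γ) [hG : G.Normal] [hN : N.Normal]
    [Fintype G] [Fintype N] (hNG : N ≤ G) (hcop : (G.index).Coprime (N.relIndex G))
    (hsolv : Group.IsSolvable (Γ ⧸ G)) (θ : IrrCharacter N)
    (hinv : ∀ (x : Γ) (n : N), θ.1 ⟨x * n * x⁻¹, hN.conj_mem n n.2 x⟩ = θ.1 n) :
    ∃ χ : IrrCharacter G, classInner (fun n : N => χ.1 ⟨n, hNG n.2⟩) θ.1 ≠ 0 ∧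
      ∀ (x : Γ) (g : G), χ.1 ⟨x * g * x⁻¹, hG.conj_mem g g.2 x⟩ = χ.1 g := by
  classical
  obtain ⟨Γs, _, _, p, s, ϑ', hp, hker, hps, hsn, hϑ', hϑs⟩ :=
    exists_repGroup N θ.1 θ.2 hinv
  have hϑ'irr : IsIrrCharacter Γs ϑ' := datum_irr N p s ϑ' θ.1 hps hϑ' hϑs θ.2
  have hϑ'cf := helper24.char_isClassFunction hϑ'
  -- subgroups of Γs
  obtain ⟨Gs, hGs⟩ : ∃ Gs : Subgroup Γs, Gs = G.comap p := ⟨_, rfl⟩
  have hGsn : Gs.Normal := by rw [hGs]; exact hG.comap p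
  have hRGs : s.range ≤ Gs := by
    rintro _ ⟨n, rfl⟩
    rw [hGs, Subgroup.mem_comap, hps]
    exact hNG n.2
  have hkGs : p.ker ≤ Gs := by
    intro z hz
    rw [hGs, Subgroup.mem_comap, MonoidHom.mem_ker.mp hz]
    exact G.one_mem
  have hmemGs : ∀ x : Γs, x ∈ Gs ↔ p x ∈ G := by intro x; rw [hGs]; rfl
  -- the quotient
  haveI : Fintype (Γs ⧸ s.range) := Fintype.ofFinite _
  obtain ⟨mkR, hmkR⟩ : ∃ mkR : Γs →* Γs ⧸ s.range, mkR = QuotientGroup.mk' s.range := ⟨_, rfl⟩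
  have hmkRsurj : Function.Surjective mkR := by rw [hmkR]; exact QuotientGroup.mk'_surjective _
  have hmkRker : mkR.ker = s.range := by rw [hmkR]; exact QuotientGroup.ker_mk' _
  have hmkR1 : ∀ x : Γs, mkR x = 1 ↔ x ∈ s.range := by
    intro x; rw [hmkR]; exact QuotientGroup.eq_one_iff x
  obtain ⟨Gt, hGt⟩ : ∃ Gt : Subgroup (Γs ⧸ s.range), Gt = Gs.map mkR := ⟨_, rfl⟩
  obtain ⟨Zt, hZt⟩ : ∃ Zt : Subgroup (Γs ⧸ s.range), Zt = p.ker.map mkR := ⟨_, rfl⟩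
  haveI hGtn : Gt.Normal := by rw [hGt]; exact hGsn.map mkR hmkRsurj
  haveI : Fintype Gt := Fintype.ofFinite _
  haveI : Fintype Zt := Fintype.ofFinite _
  have hZtGt : Zt ≤ Gt := by rw [hZt, hGt]; exact Subgroup.map_mono hkGs
  have hZtc : Zt ≤ Subgroup.center (Γs ⧸ s.range) := by
    rw [hZt]
    rintro _ ⟨z, hz, rfl⟩
    rw [Subgroup.mem_center_iff]
    intro y
    obtain ⟨y', rfl⟩ := hmkRsurj y
    rw [← map_mul, ← map_mul, Subgroup.mem_center_iff.mp (hker hz) y']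
  have hidx1 : Gt.index = G.index := by
    rw [hGt, Subgroup.index_map_eq _ hmkRsurj (by rw [hmkRker]; exact hRGs), hGs,
      Subgroup.index_comap_of_surjective _ hp]
  have hidx2 : Zt.relIndex Gt = N.relIndex G := by
    rw [hZt, hGt, Subgroup.relIndex_map_map, hmkRker, sup_comm p.ker, datum_sup_ker N p s hps,
      sup_of_le_left hRGs, hGs, Subgroup.relIndex_comap,
      Subgroup.map_comap_eq_self_of_surjective hp]
  have hcop' : (Gt.index).Coprime (Zt.relIndex Gt) := by rw [hidx1, hidx2]; exact hcop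
  -- the solvable quotient
  obtain ⟨φ, hφdef⟩ : ∃ φ : Γs ⧸ s.range →* Γ ⧸ G,
      ∀ x : Γs, φ (mkR x) = QuotientGroup.mk' G (p x) := by
    refine ⟨QuotientGroup.lift s.range ((QuotientGroup.mk' G).comp p) ?_, ?_⟩
    · rintro _ ⟨n, rfl⟩
      show QuotientGroup.mk' G (p (s n)) = 1
      rw [hps]
      exact (QuotientGroup.eq_one_iff _).mpr (hNG n.2)
    · intro x
      rw [hmkR]
      rfl
  have hφker : φ.ker ≤ Gt := by
    intro y hy
    obtain ⟨x, rfl⟩ := hmkRsurj y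
    rw [MonoidHom.mem_ker, hφdef] at hy
    rw [hGt]
    exact ⟨x, (hmemGs x).mpr ((QuotientGroup.eq_one_iff _).mp hy), rfl⟩
  -- the central character
  obtain ⟨lam0, hlam0⟩ : ∃ lam0 : p.ker →* ℂˣ, lam0 = centralHom hϑ'irr p.ker hker := ⟨_, rfl⟩
  have hlam0mul : ∀ (z : p.ker) (g : Γs), ϑ' (g * z) = ((lam0 z : ℂˣ) : ℂ) * ϑ' g := by
    intro z g; rw [hlam0]; exact centralHom_mul hϑ'irr p.ker hker z g
  -- the isomorphism ker p ≃ Zt
  obtain ⟨j, hj⟩ : ∃ j : p.ker →* Zt, ∀ z : p.ker, ((j z : Zt) : Γs ⧸ s.range) = mkR z := by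
    subst hZt
    exact ⟨mkR.subgroupMap p.ker, fun z => rfl⟩
  have hjinj : Function.Injective j := by
    rw [injective_iff_map_eq_one]
    intro z hz
    have h1 : mkR (z : Γs) = 1 := by rw [← hj, hz]; rfl
    obtain ⟨n, hn⟩ := (hmkR1 _).mp h1
    have h2 : (n : Γ) = 1 := by
      rw [← hps n, hn]
      exact MonoidHom.mem_ker.mp z.2
    apply Subtype.ext
    rw [← hn]
    have : n = 1 := Subtype.ext h2
    rw [this, map_one]
    rfl
  have hjsurj : Function.Surjective j := by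
    intro y
    obtain ⟨z, hz, hzy⟩ := hZt.le y.2
    exact ⟨⟨z, hz⟩, Subtype.ext (by rw [hj]; exact hzy)⟩
  obtain ⟨je, hje⟩ : ∃ je : p.ker ≃* Zt, ∀ z, je z = j z :=
    ⟨MulEquiv.ofBijective j ⟨hjinj, hjsurj⟩, fun z => rfl⟩
  obtain ⟨lam, hlam⟩ : ∃ lam : Zt →* ℂˣ, ∀ z : p.ker, lam (j z) = (lam0 z)⁻¹ := by
    refine ⟨(lam0⁻¹).comp je.symm.toMonoidHom, ?_⟩
    intro z
    show (lam0⁻¹) (je.symm (j z)) = _
    rw [← hje, MulEquiv.symm_apply_apply]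
    rfl
  -- central case
  obtain ⟨β, hβinv, hβlam⟩ := central_case Gt Zt hZtGt hZtc hcop' hsolv φ hφker lam
  have hβZ := central_over_sub Zt Gt hZtGt
    (fun a ha h _ => Subgroup.mem_center_iff.mp (hZtc ha) h) lam β hβlam
  -- f : Gs →* Gt
  obtain ⟨f, hf⟩ : ∃ f : Gs →* Gt, ∀ g : Gs, ((f g : Gt) : Γs ⧸ s.range) = mkR g := by
    subst hGt
    exact ⟨mkR.subgroupMap Gs, fun g => rfl⟩
  have hfsurj : Function.Surjective f := by
    intro y
    obtain ⟨g, hg, hgy⟩ := hGt.le y.2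
    exact ⟨⟨g, hg⟩, Subtype.ext (by rw [hf]; exact hgy)⟩
  haveI : Fintype Gs := Fintype.ofFinite _
  obtain ⟨Rs, hRs⟩ : ∃ Rs : Subgroup Gs, Rs = s.range.subgroupOf Gs := ⟨_, rfl⟩
  haveI hRsn : Rs.Normal := by rw [hRs]; exact Subgroup.normal_subgroupOf
  haveI : Fintype Rs := Fintype.ofFinite _
  haveI : Fintype s.range := Fintype.ofFinite _
  obtain ⟨χ₀, hχ₀⟩ : ∃ χ₀ : Gs → ℂ, χ₀ = fun g : Gs => ϑ' g := ⟨_, rfl⟩
  have hχ₀c : IsCharacter Gs χ₀ := by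
    rw [hχ₀]; exact helper8.isCharacter_comp_monoidHom Gs.subtype hϑ'
  have hresRs : IsIrrCharacter Rs (helper5.res Rs χ₀) := by
    have h1 := datum_res_irr N p s ϑ' θ.1 hps hϑs θ.2
    subst hRs
    have h2 := helper8.isIrrCharacter_comp_mulEquiv (Subgroup.subgroupOfEquivOfLe hRGs) h1
    have e : helper5.res (s.range.subgroupOf Gs) χ₀ =
        fun k => helper5.res s.range ϑ' ((Subgroup.subgroupOfEquivOfLe hRGs) k) := by
      funext k
      rw [hχ₀]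
      rfl
    rw [e]
    exact h2
  have hχ₀irr : IsIrrCharacter Gs χ₀ := isIrrCharacter_of_res_irr Rs hχ₀c hresRs
  have hβf : IsIrrCharacter Gs (fun g => β.1 (f g)) :=
    isIrrCharacter_comp_surjective f hfsurj β.2
  have hfR : ∀ r ∈ Rs, f r = 1 := by
    intro r hr
    apply Subtype.ext
    rw [hf]
    rw [hRs, Subgroup.mem_subgroupOf] at hr
    exact (hmkR1 _).mpr hr
  obtain ⟨β', hβ'irr, hβ'⟩ := helper24.irr_deflation Rs hβf
    (by
      intro r hr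
      show β.1 (f r) = β.1 (f 1)
      rw [hfR r hr, map_one])
  haveI : Fintype (IrrCharacter (Gs ⧸ Rs)) := Fintype.ofFinite _
  have hψirr := (gallagher Rs hχ₀irr hresRs).1 ⟨β', hβ'irr⟩
  obtain ⟨ψ, hψ⟩ : ∃ ψ : Gs → ℂ, ψ = fun g => β.1 (f g) * ϑ' g := ⟨_, rfl⟩
  have hψeq : infl Rs β' * χ₀ = ψ := by
    funext g
    rw [Pi.mul_apply, infl_apply, hψ, hχ₀]
    have := congrFun hβ' g
    rw [Function.comp_apply] at this
    rw [← this]
  rw [hψeq] at hψirr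
  -- deflation along `p`
  obtain ⟨pG, hpG⟩ : ∃ pG : Gs →* G, ∀ g : Gs, ((pG g : G) : Γ) = p g := by
    subst hGs
    exact ⟨p.subgroupComap G, fun g => rfl⟩
  have hpGsurj : Function.Surjective pG := by
    intro g
    obtain ⟨x, hx⟩ := hp (g : Γ)
    exact ⟨⟨x, (hmemGs x).mpr (hx ▸ g.2)⟩, Subtype.ext (by rw [hpG]; exact hx)⟩
  have hkerψ : ∀ z ∈ pG.ker, ψ z = ψ 1 := by
    intro z hz
    have hzk : (z : Γs) ∈ p.ker := by
      rw [MonoidHom.mem_ker] at hz ⊢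
      rw [← hpG, hz]
      rfl
    rw [hψ]
    show β.1 (f z) * ϑ' z = β.1 (f 1) * ϑ' ((1 : Gs) : Γs)
    have h1 : f z = ⟨(j ⟨z, hzk⟩ : Zt), hZtGt (j ⟨z, hzk⟩).2⟩ := by
      apply Subtype.ext
      rw [hf, hj]
    have h2 : ϑ' (z : Γs) = ((lam0 ⟨z, hzk⟩ : ℂˣ) : ℂ) * ϑ' 1 := by
      have := hlam0mul ⟨z, hzk⟩ 1
      rwa [one_mul] at this
    rw [h1, hβZ, hlam, h2, map_one, Subgroup.coe_one, Units.val_inv_eq_inv_val]
    have hne : ((lam0 ⟨z, hzk⟩ : ℂˣ) : ℂ) ≠ 0 := Units.ne_zero _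
    field_simp
  obtain ⟨ψbar, hψbar, hψbareq⟩ := helper24.irr_deflation pG.ker hψirr hkerψ
  obtain ⟨eq, heq⟩ : ∃ eq : Gs ⧸ pG.ker ≃* G, ∀ g : Gs, eq (QuotientGroup.mk g) = pG g :=
    ⟨QuotientGroup.quotientKerEquivOfSurjective pG hpGsurj, fun g => rfl⟩
  obtain ⟨χ, hχ⟩ : ∃ χ : G → ℂ, χ = fun g => ψbar (eq.symm g) := ⟨_, rfl⟩
  have hχirr : IsIrrCharacter G χ := by
    rw [hχ]; exact helper8.isIrrCharacter_comp_mulEquiv eq.symm hψbar
  have hχp : ∀ g : Gs, χ (pG g) = ψ g := by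
    intro g
    rw [hχ]
    show ψbar (eq.symm (pG g)) = ψ g
    rw [← heq, MulEquiv.symm_apply_apply]
    exact (congrFun hψbareq g).symm
  refine ⟨⟨χ, hχirr⟩, ?_, ?_⟩
  · have hval : (fun n : N => χ ⟨n, hNG n.2⟩) = (β.1 1) • θ.1 := by
      funext n
      have hsn' : s n ∈ Gs := hRGs ⟨n, rfl⟩
      have h1 : pG ⟨s n, hsn'⟩ = ⟨n, hNG n.2⟩ := Subtype.ext (by rw [hpG]; exact hps n)
      rw [← h1, hχp, hψ, Pi.smul_apply, smul_eq_mul]
      show β.1 (f ⟨s n, hsn'⟩) * ϑ' (s n) = _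
      have h2 : f ⟨s n, hsn'⟩ = 1 := by
        apply Subtype.ext
        rw [hf]
        exact (hmkR1 _).mpr ⟨n, rfl⟩
      rw [h2, hϑs]
    show classInner (fun n : N => χ ⟨n, hNG n.2⟩) θ.1 ≠ 0
    rw [hval, helper24.classInner_smul_left, helper24.irr_classInner_self θ.2, mul_one]
    exact helper24.irr_apply_one_ne_zero β.2
  · intro x g
    obtain ⟨xs, rfl⟩ := hp x
    obtain ⟨gs, rfl⟩ := hpGsurj g
    have hconj : xs * (gs : Γs) * xs⁻¹ ∈ Gs := hGsn.conj_mem gs gs.2 xs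
    have h1 : (⟨p xs * ((pG gs : G) : Γ) * (p xs)⁻¹, hG.conj_mem _ (pG gs).2 (p xs)⟩ : G) =
        pG ⟨xs * gs * xs⁻¹, hconj⟩ := by
      apply Subtype.ext
      show p xs * ((pG gs : G) : Γ) * (p xs)⁻¹ = ((pG ⟨xs * gs * xs⁻¹, hconj⟩ : G) : Γ)
      rw [hpG, hpG]
      simp
    show χ ⟨p xs * ((pG gs : G) : Γ) * (p xs)⁻¹, _⟩ = χ (pG gs)
    rw [h1, hχp, hχp, hψ]
    show β.1 (f ⟨xs * gs * xs⁻¹, hconj⟩) * ϑ' (xs * gs * xs⁻¹) = β.1 (f gs) * ϑ' gs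
    rw [hϑ'cf]
    congr 1
    have h2 : f ⟨xs * gs * xs⁻¹, hconj⟩ =
        ⟨mkR xs * (f gs : Γs ⧸ s.range) * (mkR xs)⁻¹, hGtn.conj_mem _ (f gs).2 (mkR xs)⟩ := by
      apply Subtype.ext
      rw [hf]
      show mkR (xs * gs * xs⁻¹) = mkR xs * ((f gs : Gt) : Γs ⧸ s.range) * (mkR xs)⁻¹
      rw [hf, map_mul, map_mul, map_inv]
    rw [h2]
    exact hβinv (mkR xs) (f gs)

end Top

end Cfsg.Agent.helper22
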