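import Mathlib

set_option autoImplicit false
set_option linter.style.haveILetI false

namespace Cfsg.Agent.helper22

open Matrix

noncomputable section

variable {n : ℕ}

/-- squared norm of a vector -/
def jNsq (x : Fin n → ℂ) : ℝ := ∑ i, Complex.normSq (x i)

theorem jNsq_nonneg (x : Fin n → ℂ) : 0 ≤ jNsq x :=
  Finset.sum_nonneg fun i _ => Complex.normSq_nonneg _

theorem jNsq_eq_zero {x : Fin n → ℂ} : jNsq x = 0 ↔ x = 0 := by
  unfold jNsq
  rw [Finset.sum_eq_zero_iff_of_nonneg (fun i _ => Complex.normSq_nonneg _)]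
  constructor
  · intro h; funext i; exact Complex.normSq_eq_zero.mp (h i (Finset.mem_univ i))
  · intro h i _; simp [h]

theorem jNsq_pos {x : Fin n → ℂ} (hx : x ≠ 0) : 0 < jNsq x :=
  lt_of_le_of_ne (jNsq_nonneg x) (fun h => hx (jNsq_eq_zero.mp h.symm))

theorem jNsq_zero : jNsq (0 : Fin n → ℂ) = 0 := jNsq_eq_zero.mpr rfl

theorem star_dot_self (x : Fin n → ℂ) : star x ⬝ᵥ x = ((jNsq x : ℝ) : ℂ) := by
  unfold jNsq dotProduct
  push_cast
  refine Finset.sum_congr rfl fun i _ => ?_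
  rw [Complex.normSq_eq_conj_mul_self]
  rfl

/-- real part of the hermitian inner product -/
def jRe (x y : Fin n → ℂ) : ℝ := (star x ⬝ᵥ y).re

theorem jRe_self (x : Fin n → ℂ) : jRe x x = jNsq x := by
  unfold jRe; rw [star_dot_self]; simp

theorem jRe_comm (x y : Fin n → ℂ) : jRe x y = jRe y x := by
  unfold jRe
  rw [Matrix.star_dotProduct]
  simp

theorem jRe_add_right (x y z : Fin n → ℂ) : jRe x (y + z) = jRe x y + jRe x z := by
  unfold jRe; rw [dotProduct_add]; simp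

theorem jRe_add_left (x y z : Fin n → ℂ) : jRe (x + y) z = jRe x z + jRe y z := by
  rw [jRe_comm, jRe_add_right, jRe_comm x, jRe_comm y]

theorem jRe_sub_right (x y z : Fin n → ℂ) : jRe x (y - z) = jRe x y - jRe x z := by
  unfold jRe; rw [dotProduct_sub]; simp

theorem jRe_sub_left (x y z : Fin n → ℂ) : jRe (x - y) z = jRe x z - jRe y z := by
  rw [jRe_comm, jRe_sub_right, jRe_comm x, jRe_comm y]

theorem jRe_smul_right (c : ℝ) (x y : Fin n → ℂ) : jRe x ((c : ℂ) • y) = c * jRe x y := by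
  unfold jRe; rw [dotProduct_smul]; simp

theorem jRe_smul_left (c : ℝ) (x y : Fin n → ℂ) : jRe ((c : ℂ) • x) y = c * jRe x y := by
  rw [jRe_comm, jRe_smul_right, jRe_comm]

theorem jNsq_add (x y : Fin n → ℂ) : jNsq (x + y) = jNsq x + jNsq y + 2 * jRe x y := by
  rw [← jRe_self, jRe_add_left, jRe_add_right, jRe_add_right, jRe_self, jRe_self, jRe_comm y x]
  ring

theorem jNsq_sub (x y : Fin n → ℂ) : jNsq (x - y) = jNsq x + jNsq y - 2 * jRe x y := by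
  rw [← jRe_self, jRe_sub_left, jRe_sub_right, jRe_sub_right, jRe_self, jRe_self, jRe_comm y x]
  ring

theorem jNsq_smul (c : ℝ) (x : Fin n → ℂ) : jNsq ((c : ℂ) • x) = c ^ 2 * jNsq x := by
  rw [← jRe_self, jRe_smul_left, jRe_smul_right, jRe_self]; ring

theorem jRe_ge (x y : Fin n → ℂ) : -(jNsq x + jNsq y) / 2 ≤ jRe x y := by
  have h := jNsq_nonneg (x + y)
  rw [jNsq_add] at h
  linarith

theorem jRe_mulVec_left (M : Matrix (Fin n) (Fin n) ℂ) (x y : Fin n → ℂ) :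
    jRe (M *ᵥ x) y = jRe x (Mᴴ *ᵥ y) := by
  unfold jRe
  rw [Matrix.star_mulVec, dotProduct_mulVec]

theorem jRe_mulVec_right (M : Matrix (Fin n) (Fin n) ℂ) (x y : Fin n → ℂ) :
    jRe x (M *ᵥ y) = jRe (Mᴴ *ᵥ x) y := by
  rw [jRe_mulVec_left, conjTranspose_conjTranspose]

/-- unitary matrices preserve norm -/
theorem jNsq_unitary {U : Matrix (Fin n) (Fin n) ℂ} (hU : Uᴴ * U = 1) (x : Fin n → ℂ) :
    jNsq (U *ᵥ x) = jNsq x := by
  rw [← jRe_self, jRe_mulVec_left, mulVec_mulVec, hU, one_mulVec, jRe_self]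

theorem unitary_mul_conj {U : Matrix (Fin n) (Fin n) ℂ} (hU : Uᴴ * U = 1) : U * Uᴴ = 1 :=
  mul_eq_one_comm.mp hU

/-- the numerical range lies in the open right half plane -/
def JHP (B : Matrix (Fin n) (Fin n) ℂ) : Prop :=
  ∀ x : Fin n → ℂ, x ≠ 0 → 0 < jRe x (B *ᵥ x)

/-- the numerical range lies in the half plane `Re z > √3/2` -/
def JNear (U : Matrix (Fin n) (Fin n) ℂ) : Prop :=
  ∀ x : Fin n → ℂ, x ≠ 0 → Real.sqrt 3 / 2 * jNsq x < jRe x (U *ᵥ x)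

theorem JNear.jhp {U : Matrix (Fin n) (Fin n) ℂ} (h : JNear U) : JHP U := by
  intro x hx
  have h1 := h x hx
  have h2 : 0 ≤ Real.sqrt 3 / 2 * jNsq x :=
    mul_nonneg (div_nonneg (Real.sqrt_nonneg 3) (by norm_num)) (jNsq_nonneg x)
  linarith

theorem JNear.conjTranspose {U : Matrix (Fin n) (Fin n) ℂ} (h : JNear U) : JNear Uᴴ := by
  intro x hx
  rw [← jRe_mulVec_left, jRe_comm]
  exact h x hx

theorem jsqrt3_sq : (Real.sqrt 3 / 2) ^ 2 = 3 / 4 := by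
  rw [div_pow, Real.sq_sqrt (by norm_num : (0:ℝ) ≤ 3)]; norm_num

theorem jsqrt3_pos : 0 < Real.sqrt 3 / 2 := by
  have : 0 < Real.sqrt 3 := Real.sqrt_pos.mpr (by norm_num)
  linarith

/-- product of two matrices near 1 has numerical range in the right half plane -/
theorem JNear.mul_jhp {U W : Matrix (Fin n) (Fin n) ℂ} (hU : Uᴴ * U = 1) (hW : Wᴴ * W = 1)
    (h1 : JNear U) (h2 : JNear W) : JHP (U * W) := by
  intro v hv
  obtain ⟨c, hc⟩ : ∃ c : ℝ, c = Real.sqrt 3 / 2 := ⟨_, rfl⟩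
  have hc2 : c ^ 2 = 3 / 4 := by rw [hc]; exact jsqrt3_sq
  have hcpos : 0 < c := by rw [hc]; exact jsqrt3_pos
  have hN : 0 < jNsq v := jNsq_pos hv
  have hrU := h1 v hv
  have hrW := h2 v hv
  rw [← hc] at hrU hrW
  obtain ⟨rU, hrU'⟩ : ∃ r : ℝ, r = jRe v (U *ᵥ v) := ⟨_, rfl⟩
  obtain ⟨rW, hrW'⟩ : ∃ r : ℝ, r = jRe v (W *ᵥ v) := ⟨_, rfl⟩
  rw [← hrU'] at hrU
  rw [← hrW'] at hrW
  -- a = Uᴴ v, b = W v
  have hUU : U * Uᴴ = 1 := unitary_mul_conj hU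
  have hUh : (Uᴴ)ᴴ * Uᴴ = 1 := by rw [conjTranspose_conjTranspose]; exact hUU
  have h3 : jRe v ((U * W) *ᵥ v) = jRe (Uᴴ *ᵥ v) (W *ᵥ v) := by
    rw [← mulVec_mulVec, jRe_mulVec_right]
  rw [h3]
  have ha : Uᴴ *ᵥ v = (Uᴴ *ᵥ v - (c : ℂ) • v) + (c : ℂ) • v := by abel
  have hb : W *ᵥ v = (W *ᵥ v - (c : ℂ) • v) + (c : ℂ) • v := by abel
  obtain ⟨p, hp⟩ : ∃ p, p = Uᴴ *ᵥ v - (c : ℂ) • v := ⟨_, rfl⟩
  obtain ⟨q, hq⟩ : ∃ q, q = W *ᵥ v - (c : ℂ) • v := ⟨_, rfl⟩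
  rw [ha, hb, ← hp, ← hq]
  have hpv : jRe p v = rU - c * jNsq v := by
    rw [hp, jRe_sub_left, jRe_smul_left, jRe_self, jRe_mulVec_left, conjTranspose_conjTranspose,
      ← hrU']
  have hvq : jRe v q = rW - c * jNsq v := by
    rw [hq, jRe_sub_right, jRe_smul_right, jRe_self, ← hrW']
  have hnp : jNsq p = jNsq v - 2 * c * rU + c ^ 2 * jNsq v := by
    rw [hp, jNsq_sub, jNsq_unitary hUh, jNsq_smul, jRe_smul_right, jRe_mulVec_left,
      conjTranspose_conjTranspose, ← hrU']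
    ring
  have hnq : jNsq q = jNsq v - 2 * c * rW + c ^ 2 * jNsq v := by
    rw [hq, jNsq_sub, jNsq_unitary hW, jNsq_smul, jRe_smul_right, jRe_comm, ← hrW']
    ring
  have hpq := jRe_ge p q
  rw [jRe_add_left, jRe_add_right, jRe_add_right, jRe_smul_right, jRe_smul_left, jRe_smul_left,
    jRe_smul_right, jRe_self, hpv, hvq]
  rw [hnp, hnq] at hpq
  nlinarith

/-- `‖(U - c) y‖² ≤ ‖y‖²/4`, strictly for `y ≠ 0` -/
theorem JNear.jNsq_sub_le {U : Matrix (Fin n) (Fin n) ℂ} (hU : Uᴴ * U = 1) (h1 : JNear U)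
    (y : Fin n → ℂ) :
    jNsq ((U - ((Real.sqrt 3 / 2 : ℝ) : ℂ) • (1 : Matrix (Fin n) (Fin n) ℂ)) *ᵥ y) ≤ jNsq y / 4 ∧
    (y ≠ 0 → jNsq ((U - ((Real.sqrt 3 / 2 : ℝ) : ℂ) • (1 : Matrix (Fin n) (Fin n) ℂ)) *ᵥ y)
      < jNsq y / 4) := by
  obtain ⟨c, hc⟩ : ∃ c : ℝ, c = Real.sqrt 3 / 2 := ⟨_, rfl⟩
  have hc2 : c ^ 2 = 3 / 4 := by rw [hc]; exact jsqrt3_sq
  have hcpos : 0 < c := by rw [hc]; exact jsqrt3_pos
  rw [← hc]
  have hexp : jNsq ((U - (c : ℂ) • (1 : Matrix (Fin n) (Fin n) ℂ)) *ᵥ y)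
      = jNsq y - 2 * c * jRe y (U *ᵥ y) + c ^ 2 * jNsq y := by
    rw [sub_mulVec, smul_mulVec, one_mulVec, jNsq_sub, jNsq_unitary hU, jNsq_smul, jRe_smul_right,
      jRe_comm]
    ring
  rw [hexp]
  by_cases hy : y = 0
  · subst hy
    refine ⟨?_, fun h => absurd rfl h⟩
    simp [jNsq_zero, jRe]
  · have h2 := h1 y hy
    rw [← hc] at h2
    have h3 : jNsq y - 2 * c * jRe y (U *ᵥ y) + c ^ 2 * jNsq y < jNsq y / 4 := by
      nlinarith [jNsq_pos hy]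
    exact ⟨h3.le, fun _ => h3⟩

/-- squared Frobenius norm -/
def jF (Y : Matrix (Fin n) (Fin n) ℂ) : ℝ := ∑ j, jNsq (fun i => Y i j)

theorem jF_nonneg (Y : Matrix (Fin n) (Fin n) ℂ) : 0 ≤ jF Y :=
  Finset.sum_nonneg fun _ _ => jNsq_nonneg _

theorem jF_eq_zero {Y : Matrix (Fin n) (Fin n) ℂ} : jF Y = 0 ↔ Y = 0 := by
  unfold jF
  rw [Finset.sum_eq_zero_iff_of_nonneg (fun _ _ => jNsq_nonneg _)]
  constructor
  · intro h
    ext i j
    have := jNsq_eq_zero.mp (h j (Finset.mem_univ j))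
    exact congrFun this i
  · intro h j _
    rw [jNsq_eq_zero, h]; rfl

theorem jF_col_mul (M Y : Matrix (Fin n) (Fin n) ℂ) :
    jF (M * Y) = ∑ j, jNsq (M *ᵥ (fun i => Y i j)) := by
  unfold jF
  refine Finset.sum_congr rfl fun j _ => ?_
  congr 1

theorem jF_conjTranspose (Y : Matrix (Fin n) (Fin n) ℂ) : jF Yᴴ = jF Y := by
  unfold jF jNsq
  rw [Finset.sum_comm]
  refine Finset.sum_congr rfl fun i _ => Finset.sum_congr rfl fun j _ => ?_
  show Complex.normSq (Yᴴ i j) = Complex.normSq (Y j i)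
  rw [conjTranspose_apply, Complex.star_def, Complex.normSq_conj]

theorem jF_unitary_mul {U : Matrix (Fin n) (Fin n) ℂ} (hU : Uᴴ * U = 1)
    (Y : Matrix (Fin n) (Fin n) ℂ) : jF (U * Y) = jF Y := by
  rw [jF_col_mul]
  unfold jF
  exact Finset.sum_congr rfl fun j _ => jNsq_unitary hU _

theorem jF_mul_unitary {U : Matrix (Fin n) (Fin n) ℂ} (hU : Uᴴ * U = 1)
    (Y : Matrix (Fin n) (Fin n) ℂ) : jF (Y * U) = jF Y := by
  rw [← jF_conjTranspose, conjTranspose_mul, jF_unitary_mul, jF_conjTranspose]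
  rw [conjTranspose_conjTranspose]; exact unitary_mul_conj hU

theorem jF_sub_le (P Q : Matrix (Fin n) (Fin n) ℂ) : jF (P - Q) ≤ 2 * jF P + 2 * jF Q := by
  unfold jF
  rw [Finset.mul_sum, Finset.mul_sum, ← Finset.sum_add_distrib]
  refine Finset.sum_le_sum fun j _ => ?_
  have h1 : (fun i => (P - Q) i j) = (fun i => P i j) - (fun i => Q i j) := by
    funext i; simp
  rw [h1, jNsq_sub]
  have h2 := jRe_ge (fun i => P i j) (fun i => Q i j)
  linarith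

theorem jF_neg (Y : Matrix (Fin n) (Fin n) ℂ) : jF (-Y) = jF Y := by
  unfold jF jNsq
  refine Finset.sum_congr rfl fun j _ => Finset.sum_congr rfl fun i _ => ?_
  simp

theorem JNear.jF_mul_le {U : Matrix (Fin n) (Fin n) ℂ} (hU : Uᴴ * U = 1) (h1 : JNear U)
    (Y : Matrix (Fin n) (Fin n) ℂ) :
    jF ((U - ((Real.sqrt 3 / 2 : ℝ) : ℂ) • (1 : Matrix (Fin n) (Fin n) ℂ)) * Y) ≤ jF Y / 4 ∧
    (Y ≠ 0 → jF ((U - ((Real.sqrt 3 / 2 : ℝ) : ℂ) • (1 : Matrix (Fin n) (Fin n) ℂ)) * Y)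
      < jF Y / 4) := by
  rw [jF_col_mul]
  unfold jF
  rw [Finset.sum_div]
  constructor
  · exact Finset.sum_le_sum fun j _ => (h1.jNsq_sub_le hU _).1
  · intro hY
    have : ∃ j, (fun i => Y i j) ≠ 0 := by
      by_contra hcon
      push Not at hcon
      apply hY
      ext i j
      exact congrFun (hcon j) i
    obtain ⟨j, hj⟩ := this
    exact Finset.sum_lt_sum (fun j _ => (h1.jNsq_sub_le hU _).1)
      ⟨j, Finset.mem_univ j, (h1.jNsq_sub_le hU _).2 hj⟩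

/-- the key strict decrease: `‖1 - [U,B]‖ < ‖1 - B‖` for `U` near 1 and `B ≠ 1` unitary -/
theorem JNear.jF_comm_lt {U B : Matrix (Fin n) (Fin n) ℂ} (hU : Uᴴ * U = 1) (hB : Bᴴ * B = 1)
    (h1 : JNear U) (hB1 : B ≠ 1) :
    jF (1 - Uᴴ * Bᴴ * U * B) < jF (1 - B) := by
  obtain ⟨X, hX⟩ : ∃ X, X = U - ((Real.sqrt 3 / 2 : ℝ) : ℂ) • (1 : Matrix (Fin n) (Fin n) ℂ) :=
    ⟨_, rfl⟩
  have hUU : U * Uᴴ = 1 := unitary_mul_conj hU
  have hBB : B * Bᴴ = 1 := unitary_mul_conj hB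
  have hUh : (Uᴴ)ᴴ * Uᴴ = 1 := by rw [conjTranspose_conjTranspose]; exact hUU
  have hBh : (Bᴴ)ᴴ * Bᴴ = 1 := by rw [conjTranspose_conjTranspose]; exact hBB
  -- 1 - UᴴBᴴUB = UᴴBᴴ (BU - UB)
  have e1 : 1 - Uᴴ * Bᴴ * U * B = Uᴴ * (Bᴴ * (B * U - U * B)) := by
    rw [mul_sub, mul_sub, ← mul_assoc Bᴴ B U, hB, one_mul, hU]
    simp only [mul_assoc]
  rw [e1, jF_unitary_mul hUh, jF_unitary_mul hBh]
  have e2 : B * U - U * B = (B - 1) * X - X * (B - 1) := by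
    rw [hX]
    simp only [sub_mul, mul_sub, one_mul, mul_one, Matrix.smul_mul, Matrix.mul_smul]
    abel
  rw [e2]
  have hne : B - 1 ≠ 0 := sub_ne_zero.mpr hB1
  have hne' : (B - 1)ᴴ ≠ 0 := by
    intro h
    apply hne
    have := congrArg (fun M : Matrix (Fin n) (Fin n) ℂ => Mᴴ) h
    simpa using this
  -- X (B-1)
  have b1 := (h1.jF_mul_le hU (B - 1)).2 hne
  rw [← hX] at b1
  -- (B-1) X = ((Xᴴ)(B-1)ᴴ)ᴴ
  have hXh : Xᴴ = Uᴴ - ((Real.sqrt 3 / 2 : ℝ) : ℂ) • (1 : Matrix (Fin n) (Fin n) ℂ) := by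
    rw [hX, conjTranspose_sub, conjTranspose_smul, conjTranspose_one]
    simp
  have b2 := (h1.conjTranspose.jF_mul_le hUh (B - 1)ᴴ).2 hne'
  rw [← hXh, ← conjTranspose_mul, jF_conjTranspose, jF_conjTranspose] at b2
  have b3 := jF_sub_le ((B - 1) * X) (X * (B - 1))
  have b4 : jF (1 - B) = jF (B - 1) := by rw [← jF_neg]; congr 1; abel
  rw [b4]
  linarith

theorem JHP.mulVec_injective {D : Matrix (Fin n) (Fin n) ℂ} (h : JHP D) :
    Function.Injective D.mulVec := by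
  intro x y hxy
  by_contra hne
  have h1 : x - y ≠ 0 := sub_ne_zero.mpr hne
  have h2 := h (x - y) h1
  rw [mulVec_sub, hxy, sub_self] at h2
  simp [jRe] at h2

theorem JHP.conj {B V : Matrix (Fin n) (Fin n) ℂ} (h : JHP B) (hV : Function.Injective Vᴴ.mulVec) :
    JHP (V * B * Vᴴ) := by
  intro x hx
  have h1 : Vᴴ *ᵥ x ≠ 0 := by
    intro h0
    apply hx
    apply hV
    rw [h0, mulVec_zero]
  have h2 := h _ h1
  rw [jRe_mulVec_left, conjTranspose_conjTranspose, mulVec_mulVec, mulVec_mulVec] at h2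
  exact h2

theorem JHP.sum {ι : Type*} (s : Finset ι) (hs : s.Nonempty) (D : ι → Matrix (Fin n) (Fin n) ℂ)
    (h : ∀ i ∈ s, JHP (D i)) : JHP (∑ i ∈ s, D i) := by
  intro x hx
  have h1 : jRe x ((∑ i ∈ s, D i) *ᵥ x) = ∑ i ∈ s, jRe x (D i *ᵥ x) := by
    unfold jRe
    rw [Matrix.sum_mulVec, dotProduct_sum, Complex.re_sum]
  rw [h1]
  exact Finset.sum_pos (fun i hi => h i hi x hx) hs

theorem JNear.conj {U V : Matrix (Fin n) (Fin n) ℂ} (h : JNear U) (hV : Vᴴ * V = 1) :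
    JNear (V * U * Vᴴ) := by
  intro x hx
  have hVV : V * Vᴴ = 1 := unitary_mul_conj hV
  have hVh : (Vᴴ)ᴴ * Vᴴ = 1 := by rw [conjTranspose_conjTranspose]; exact hVV
  have h1 : Vᴴ *ᵥ x ≠ 0 := by
    intro h0
    apply hx
    have := congrArg (fun y => V *ᵥ y) h0
    simpa [mulVec_mulVec, hVV] using this
  have h2 := h _ h1
  rw [jNsq_unitary hVh, jRe_mulVec_left, conjTranspose_conjTranspose, mulVec_mulVec,
    mulVec_mulVec] at h2
  exact h2

/-- core of Frobenius' lemma -/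
theorem jfrob_core {D B E C : Matrix (Fin n) (Fin n) ℂ} (hD : JHP D) (hDE : D = B * E)
    (hCE : C * E = E) : C = 1 := by
  have hE : Function.Injective E.mulVec := by
    intro x y hxy
    apply hD.mulVec_injective
    rw [hDE, ← mulVec_mulVec, ← mulVec_mulVec, hxy]
  have hEu : IsUnit E := mulVec_injective_iff_isUnit.mp hE
  obtain ⟨E', hE'⟩ := hEu
  have : C * E = 1 * E := by rw [hCE, one_mul]
  rw [← hE'] at this
  exact (Units.mul_left_inj E').mp this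

end

end Cfsg.Agent.helper22
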