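import Mathlib
import Cfsg.Agent.Lib_helper22_JorA

set_option autoImplicit false
set_option linter.style.haveILetI false

namespace Cfsg.Agent.helper22

open Matrix

noncomputable section

universe u

variable {G : Type u} [Group G] {n : ℕ}

theorem jor_inv (σ : G →* Matrix (Fin n) (Fin n) ℂ) (hσ : ∀ g, (σ g)ᴴ * σ g = 1) (g : G) :
    σ g⁻¹ = (σ g)ᴴ := by
  have h1 : σ g⁻¹ * σ g = 1 := by rw [← map_mul, inv_mul_cancel, map_one]
  have h2 : σ g * (σ g)ᴴ = 1 := unitary_mul_conj (hσ g)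
  calc σ g⁻¹ = σ g⁻¹ * (σ g * (σ g)ᴴ) := by rw [h2, mul_one]
    _ = (σ g)ᴴ := by rw [← mul_assoc, h1, one_mul]

theorem jor_conjT_injective (σ : G →* Matrix (Fin n) (Fin n) ℂ) (hσ : ∀ g, (σ g)ᴴ * σ g = 1)
    (g : G) : Function.Injective ((σ g)ᴴ).mulVec := by
  apply mulVec_injective_iff_isUnit.mpr
  exact ⟨⟨(σ g)ᴴ, σ g, hσ g, unitary_mul_conj (hσ g)⟩, rfl⟩

/-- the elements all of whose eigenvalues are within angle `π/6` of `1` -/
def jorS (σ : G →* Matrix (Fin n) (Fin n) ℂ) : Set G := {g | JNear (σ g)}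

theorem jorS_inv (σ : G →* Matrix (Fin n) (Fin n) ℂ) (hσ : ∀ g, (σ g)ᴴ * σ g = 1) {g : G}
    (hg : g ∈ jorS σ) : g⁻¹ ∈ jorS σ := by
  show JNear (σ g⁻¹)
  rw [jor_inv σ hσ]
  exact JNear.conjTranspose hg

theorem jorS_conj (σ : G →* Matrix (Fin n) (Fin n) ℂ) (hσ : ∀ g, (σ g)ᴴ * σ g = 1) {g : G}
    (hg : g ∈ jorS σ) (x : G) : x * g * x⁻¹ ∈ jorS σ := by
  show JNear (σ (x * g * x⁻¹))
  rw [map_mul, map_mul, jor_inv σ hσ]
  exact JNear.conj hg (hσ x)

theorem jor_pow_conj (a b : G) (hc : Commute a (a⁻¹ * b⁻¹ * a * b)) (k : ℕ) :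
    a ^ k * b * (a ^ k)⁻¹ = b * (a⁻¹ * b⁻¹ * a * b) ^ k := by
  obtain ⟨c, hcd⟩ : ∃ c, c = a⁻¹ * b⁻¹ * a * b := ⟨_, rfl⟩
  rw [← hcd] at hc ⊢
  have h1 : a * b = b * (a * c) := by rw [hcd]; group
  have h2 : ∀ k : ℕ, a ^ k * b = b * (a * c) ^ k := by
    intro k
    induction k with
    | zero => simp
    | succ k ih => rw [pow_succ', mul_assoc, ih, ← mul_assoc, h1, mul_assoc, ← pow_succ']
  rw [h2, hc.mul_pow, (hc.pow_pow k k).eq, mul_assoc, mul_assoc, mul_inv_cancel, mul_one]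

theorem jor_frob [Finite G] (σ : G →* Matrix (Fin n) (Fin n) ℂ) (hσ : ∀ g, (σ g)ᴴ * σ g = 1)
    (a b : G) (hc : Commute a (a⁻¹ * b⁻¹ * a * b)) (hb : JHP (σ b)) :
    σ (a⁻¹ * b⁻¹ * a * b) = 1 := by
  have hpc := jor_pow_conj a b hc
  obtain ⟨c, hcd⟩ : ∃ c, c = a⁻¹ * b⁻¹ * a * b := ⟨_, rfl⟩
  rw [← hcd] at hc hpc ⊢
  have hNpos : 0 < Nat.card G := Nat.card_pos
  obtain ⟨N, hN⟩ : ∃ N, N = Nat.card G := ⟨_, rfl⟩
  rw [← hN] at hNpos
  have hcN : c ^ N = 1 := by rw [hN]; exact pow_card_eq_one'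
  apply jfrob_core (D := ∑ k ∈ Finset.range N, σ (a ^ k) * σ b * (σ (a ^ k))ᴴ) (B := σ b)
    (E := ∑ k ∈ Finset.range N, σ c ^ k)
  · apply JHP.sum
    · exact ⟨0, Finset.mem_range.mpr hNpos⟩
    · intro k _
      exact hb.conj (jor_conjT_injective σ hσ _)
  · rw [Finset.mul_sum]
    refine Finset.sum_congr rfl fun k _ => ?_
    rw [← jor_inv σ hσ, ← map_mul, ← map_mul, hpc, map_mul, map_pow]
  · rw [Finset.mul_sum]
    have h1 : ∀ k ∈ Finset.range N, σ c * σ c ^ k = σ c ^ (k + 1) := fun k _ => (pow_succ' _ _).symm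
    rw [Finset.sum_congr rfl h1]
    have h2 := Finset.sum_range_succ' (fun k => σ c ^ k) N
    have h3 := Finset.sum_range_succ (fun k => σ c ^ k) N
    rw [h2] at h3
    have h4 : σ c ^ N = 1 := by rw [← map_pow, hcN, map_one]
    rw [h4, pow_zero] at h3
    exact add_right_cancel h3

theorem jor_comm [Finite G] (σ : G →* Matrix (Fin n) (Fin n) ℂ) (hσ : ∀ g, (σ g)ᴴ * σ g = 1)
    (hinj : Function.Injective σ) (a : G) (ha : a ∈ jorS σ) :
    ∀ b : G, JHP (σ b) → a * b = b * a := by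
  obtain ⟨f, hf⟩ : ∃ f : G → ℝ, f = fun b => jF (1 - σ b) := ⟨_, rfl⟩
  have hwf : WellFounded (fun x y : G => f x < f y) := by
    haveI : IsTrans G (fun x y : G => f x < f y) := ⟨fun _ _ _ h1 h2 => lt_trans h1 h2⟩
    haveI : IsIrrefl G (fun x y : G => f x < f y) := ⟨fun _ h => lt_irrefl _ h⟩
    exact Finite.wellFounded_of_trans_of_irrefl _
  intro b
  refine hwf.induction (C := fun b => JHP (σ b) → a * b = b * a) b ?_
  intro b ih hb
  by_cases hb1 : b = 1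
  · rw [hb1, mul_one, one_mul]
  obtain ⟨c, hcd⟩ : ∃ c, c = a⁻¹ * b⁻¹ * a * b := ⟨_, rfl⟩
  have hσb1 : σ b ≠ 1 := by
    intro h
    apply hb1
    apply hinj
    rw [h, map_one]
  have hσc : σ c = (σ a)ᴴ * (σ b)ᴴ * σ a * σ b := by
    rw [hcd, map_mul, map_mul, map_mul, jor_inv σ hσ, jor_inv σ hσ]
  have hlt : f c < f b := by
    rw [hf]
    show jF (1 - σ c) < jF (1 - σ b)
    rw [hσc]
    exact JNear.jF_comm_lt (hσ a) (hσ b) ha hσb1
  have hcHP : JHP (σ c) := by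
    have e : c = a⁻¹ * (b⁻¹ * a * (b⁻¹)⁻¹) := by rw [hcd]; group
    rw [e, map_mul]
    exact JNear.mul_jhp (hσ _) (hσ _) (jorS_inv σ hσ ha) (jorS_conj σ hσ ha b⁻¹)
  have hac : a * c = c * a := ih c hlt hcHP
  have hc1 : σ c = 1 := by
    rw [hcd]
    apply jor_frob σ hσ a b _ hb
    rw [← hcd]
    exact hac
  have hc1' : c = 1 := by
    apply hinj
    rw [hc1, map_one]
  have : a * b = b * a * c := by rw [hcd]; group
  rw [this, hc1', mul_one]

theorem jor_closure_normal (σ : G →* Matrix (Fin n) (Fin n) ℂ) (hσ : ∀ g, (σ g)ᴴ * σ g = 1) :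
    (Subgroup.closure (jorS σ)).Normal := by
  constructor
  intro x hx g
  induction hx using Subgroup.closure_induction with
  | mem y hy => exact Subgroup.subset_closure (jorS_conj σ hσ hy g)
  | one => simp
  | mul y z _ _ hy hz =>
    have : g * (y * z) * g⁻¹ = (g * y * g⁻¹) * (g * z * g⁻¹) := by group
    rw [this]
    exact mul_mem hy hz
  | inv y _ hy =>
    have : g * y⁻¹ * g⁻¹ = (g * y * g⁻¹)⁻¹ := by group
    rw [this]
    exact inv_mem hy

theorem jor_closure_comm [Finite G] (σ : G →* Matrix (Fin n) (Fin n) ℂ)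
    (hσ : ∀ g, (σ g)ᴴ * σ g = 1) (hinj : Function.Injective σ) :
    ∀ x ∈ Subgroup.closure (jorS σ), ∀ y ∈ Subgroup.closure (jorS σ), x * y = y * x := by
  have hS : ∀ a ∈ jorS σ, ∀ b ∈ jorS σ, a * b = b * a := fun a ha b hb =>
    jor_comm σ hσ hinj a ha b (JNear.jhp hb)
  have h1 : Subgroup.closure (jorS σ) ≤ Subgroup.centralizer (jorS σ) := by
    rw [Subgroup.closure_le]
    intro a ha
    rw [SetLike.mem_coe, Subgroup.mem_centralizer_iff]
    intro b hb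
    exact hS b hb a ha
  have h2 : Subgroup.closure (jorS σ) ≤ Subgroup.centralizer (Subgroup.centralizer (jorS σ) : Set G) :=
    Subgroup.closure_le_centralizer_centralizer _
  intro x hx y hy
  have hx' := h1 hx
  have hy' := h2 hy
  rw [Subgroup.mem_centralizer_iff] at hy'
  exact (hy' x hx').symm ▸ rfl

end

end Cfsg.Agent.helper22
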