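import Mathlib
import Cfsg.Agent.Lib_helper22_JorB

set_option autoImplicit false
set_option linter.style.haveILetI false

namespace Cfsg.Agent.helper22

open Matrix
open scoped ComplexOrder MatrixOrder

noncomputable section

universe u

variable {G : Type u} [Group G]

/-- Weyl's unitarian trick in matrix form. -/
theorem exists_unitary_rep [Finite G] (m : ℕ) (R : G →* Matrix (Fin m) (Fin m) ℂ) :
    ∃ σ : G →* Matrix (Fin m) (Fin m) ℂ, (∀ g, (σ g)ᴴ * σ g = 1) ∧ (∀ g, σ g = 1 → R g = 1) := by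
  classical
  haveI : Fintype G := Fintype.ofFinite G
  obtain ⟨Hm, hHm⟩ : ∃ Hm : Matrix (Fin m) (Fin m) ℂ, Hm = ∑ g : G, (R g)ᴴ * R g := ⟨_, rfl⟩
  have hinv : ∀ h : G, (R h)ᴴ * Hm * R h = Hm := by
    intro h
    rw [hHm, Finset.mul_sum, Finset.sum_mul]
    have : ∀ g : G, (R h)ᴴ * ((R g)ᴴ * R g) * R h = (R (g * h))ᴴ * R (g * h) := by
      intro g
      rw [map_mul, conjTranspose_mul]
      simp only [mul_assoc]
    rw [Finset.sum_congr rfl (fun g _ => this g)]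
    exact Fintype.sum_equiv (Equiv.mulRight h) _ _ (fun g => rfl)
  have hpsd : Hm.PosSemidef := by
    rw [hHm]
    exact posSemidef_sum _ (fun g _ => posSemidef_conjTranspose_mul_self (R g))
  have hpd : Hm.PosDef := by
    have h1 : Hm = (R 1)ᴴ * R 1 + ∑ g ∈ Finset.univ.erase (1 : G), (R g)ᴴ * R g := by
      rw [hHm]
      exact (Finset.add_sum_erase Finset.univ (fun g => (R g)ᴴ * R g) (Finset.mem_univ 1)).symm
    rw [h1, map_one, conjTranspose_one, one_mul]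
    exact PosDef.add_posSemidef PosDef.one
      (posSemidef_sum _ (fun g _ => posSemidef_conjTranspose_mul_self (R g)))
  obtain ⟨P, hP⟩ := CStarAlgebra.nonneg_iff_eq_star_mul_self.mp hpsd.nonneg
  rw [star_eq_conjTranspose] at hP
  have hPu : IsUnit P := by
    apply mulVec_injective_iff_isUnit.mp
    intro x y hxy
    have h2 : Hm *ᵥ x = Hm *ᵥ y := by
      rw [hP, ← mulVec_mulVec, ← mulVec_mulVec, hxy]
    exact (mulVec_injective_iff_isUnit.mpr hpd.isUnit) h2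
  obtain ⟨u, hu⟩ := hPu
  have hu1 : (u : Matrix (Fin m) (Fin m) ℂ) * ((u⁻¹ : (Matrix (Fin m) (Fin m) ℂ)ˣ) :
      Matrix (Fin m) (Fin m) ℂ) = 1 := Units.mul_inv u
  have hu2 : ((u⁻¹ : (Matrix (Fin m) (Fin m) ℂ)ˣ) : Matrix (Fin m) (Fin m) ℂ) *
      (u : Matrix (Fin m) (Fin m) ℂ) = 1 := Units.inv_mul u
  obtain ⟨Q, hQ⟩ : ∃ Q : Matrix (Fin m) (Fin m) ℂ,
      Q = ((u⁻¹ : (Matrix (Fin m) (Fin m) ℂ)ˣ) : Matrix (Fin m) (Fin m) ℂ) := ⟨_, rfl⟩
  rw [← hQ] at hu1 hu2
  rw [hu] at hu1 hu2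
  refine ⟨{ toFun := fun g => P * R g * Q, map_one' := ?_, map_mul' := ?_ }, ?_, ?_⟩
  · rw [map_one, mul_one, hu1]
  · intro g h
    rw [map_mul]
    calc P * (R g * R h) * Q = P * R g * (1 * (R h * Q)) := by rw [one_mul]; simp only [mul_assoc]
      _ = P * R g * (Q * P * (R h * Q)) := by rw [hu2]
      _ = P * R g * Q * (P * R h * Q) := by simp only [mul_assoc]
  · intro g
    show (P * R g * Q)ᴴ * (P * R g * Q) = 1
    rw [conjTranspose_mul, conjTranspose_mul]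
    calc Qᴴ * ((R g)ᴴ * Pᴴ) * (P * R g * Q) = Qᴴ * ((R g)ᴴ * (Pᴴ * P) * R g) * Q := by
          simp only [mul_assoc]
      _ = Qᴴ * Hm * Q := by rw [← hP, hinv]
      _ = (P * Q)ᴴ * (P * Q) := by rw [hP, conjTranspose_mul]; simp only [mul_assoc]
      _ = 1 := by rw [hu1, conjTranspose_one, one_mul]
  · intro g hg
    have hg' : P * R g * Q = 1 := hg
    calc R g = (Q * P) * R g * (Q * P) := by rw [hu2, one_mul, mul_one]
      _ = Q * (P * R g * Q) * P := by simp only [mul_assoc]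
      _ = 1 := by rw [hg', mul_one, hu2]

end

end Cfsg.Agent.helper22
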