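import Mathlib
import Cfsg.Agent.Lib_helper22_JorC

set_option autoImplicit false
set_option linter.style.haveILetI false

namespace Cfsg.Agent.helper22

open Matrix

noncomputable section

/-- Commuting matrices of finite order are simultaneously diagonalizable. -/
theorem exists_simul_eigenbasis {ι : Type*} (n : ℕ) (M : ι → Matrix (Fin n) (Fin n) ℂ)
    (hcomm : ∀ i j, M i * M j = M j * M i) (N : ℕ) (hN : 0 < N) (hpow : ∀ i, M i ^ N = 1) :
    ∃ (T : Matrix (Fin n) (Fin n) ℂ) (lam : Fin n → ι → ℂ), IsUnit T ∧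
      ∀ i, M i * T = T * Matrix.diagonal (fun j => lam j i) := by
  classical
  obtain ⟨f, hf⟩ : ∃ f : ι → Module.End ℂ (Fin n → ℂ), f = fun i => Matrix.toLinAlgEquiv' (M i) :=
    ⟨_, rfl⟩
  have hfapp : ∀ i v, f i v = M i *ᵥ v := by
    intro i v; rw [hf]; exact Matrix.toLinAlgEquiv'_apply _ _
  have hfc : ∀ i j, Commute (f i) (f j) := by
    intro i j
    show f i * f j = f j * f i
    rw [hf]
    show Matrix.toLinAlgEquiv' (M i) * Matrix.toLinAlgEquiv' (M j) =
      Matrix.toLinAlgEquiv' (M j) * Matrix.toLinAlgEquiv' (M i)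
    rw [← map_mul, ← map_mul, hcomm]
  have hss : ∀ i, (f i).IsSemisimple := by
    intro i
    have hsq : Squarefree (Polynomial.X ^ N - Polynomial.C (1 : ℂ)) := by
      apply Polynomial.Separable.squarefree
      apply Polynomial.separable_X_pow_sub_C
      · exact_mod_cast hN.ne'
      · exact one_ne_zero
    apply Module.End.isSemisimple_of_squarefree_aeval_eq_zero hsq
    rw [map_sub, map_pow, Polynomial.aeval_X, Polynomial.aeval_C, hf]
    show (Matrix.toLinAlgEquiv' (M i)) ^ N - algebraMap ℂ _ 1 = 0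
    rw [← map_pow, hpow, map_one, map_one, sub_self]
  obtain ⟨W, hW⟩ : ∃ W : (ι → ℂ) → Submodule ℂ (Fin n → ℂ),
      W = fun χ => ⨅ i, (f i).maxGenEigenspace (χ i) := ⟨_, rfl⟩
  have hsup : ⨆ χ, W χ = ⊤ := by
    rw [hW]
    apply Module.End.iSup_iInf_maxGenEigenspace_eq_top_of_iSup_maxGenEigenspace_eq_top_of_commute
    · intro i j _; exact hfc i j
    · intro i; exact Module.End.iSup_maxGenEigenspace_eq_top _
  have hind : iSupIndep W := by
    rw [hW]
    apply Module.End.independent_iInf_maxGenEigenspace_of_forall_mapsTo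
    intro i j φ
    exact Module.End.mapsTo_maxGenEigenspace_of_comm (hfc j i) φ
  have hint := DirectSum.isInternal_submodule_of_iSupIndep_of_iSup_eq_top hind hsup
  obtain ⟨b, hb⟩ : ∃ b : Module.Basis (Σ χ, Module.Free.ChooseBasisIndex ℂ (W χ)) ℂ (Fin n → ℂ),
      b = hint.collectedBasis (fun χ => Module.Free.chooseBasis ℂ (W χ)) := ⟨_, rfl⟩
  have hbmem : ∀ a, b a ∈ W a.1 := by
    intro a; rw [hb]; exact hint.collectedBasis_mem _ a
  haveI : Finite (Σ χ, Module.Free.ChooseBasisIndex ℂ (W χ)) := Module.Finite.finite_basis b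
  haveI : Fintype (Σ χ, Module.Free.ChooseBasisIndex ℂ (W χ)) := Fintype.ofFinite _
  have hcard : Fintype.card (Σ χ, Module.Free.ChooseBasisIndex ℂ (W χ)) = n := by
    rw [← Module.finrank_eq_card_basis b, Module.finrank_fin_fun]
  obtain ⟨e⟩ : Nonempty ((Σ χ, Module.Free.ChooseBasisIndex ℂ (W χ)) ≃ Fin n) :=
    ⟨Fintype.equivFinOfCardEq hcard⟩
  obtain ⟨b', hb'⟩ : ∃ b' : Module.Basis (Fin n) ℂ (Fin n → ℂ), b' = b.reindex e := ⟨_, rfl⟩
  obtain ⟨lam, hlam⟩ : ∃ lam : Fin n → ι → ℂ, lam = fun j i => (e.symm j).1 i := ⟨_, rfl⟩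
  have heig : ∀ i j, M i *ᵥ (b' j) = lam j i • b' j := by
    intro i j
    have h1 : b' j ∈ W (e.symm j).1 := by
      rw [hb', Module.Basis.reindex_apply]; exact hbmem _
    have hWapp : ∀ χ, W χ = ⨅ i, (f i).maxGenEigenspace (χ i) := fun χ => by rw [hW]
    rw [hWapp] at h1
    have h2 : b' j ∈ (f i).maxGenEigenspace ((e.symm j).1 i) := (Submodule.mem_iInf _).mp h1 i
    rw [(hss i).isFinitelySemisimple.maxGenEigenspace_eq_eigenspace, Module.End.mem_eigenspace_iff,
      hfapp] at h2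
    rw [h2, hlam]
  refine ⟨(Pi.basisFun ℂ (Fin n)).toMatrix b', lam, ?_, ?_⟩
  · haveI := (Pi.basisFun ℂ (Fin n)).invertibleToMatrix b'
    exact isUnit_of_invertible _
  · intro i
    ext r j
    rw [Matrix.mul_diagonal, Matrix.mul_apply]
    have h1 := congrFun (heig i j) r
    simp only [Module.Basis.toMatrix_apply, Pi.basisFun_repr]
    rw [mul_comm]
    simpa [Matrix.mulVec, dotProduct, mul_comm] using h1

end

end Cfsg.Agent.helper22
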