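import Mathlib
import Cfsg.Agent.Lib_helper22_JorD

set_option autoImplicit false
set_option linter.style.haveILetI false

namespace Cfsg.Agent.helper22

open Matrix
open scoped ComplexOrder

noncomputable section

/-- A unitary matrix diagonalizable with eigenvalues of real part `> √3/2` is near `1`. -/
theorem jnear_of_diag {n : ℕ} (U T : Matrix (Fin n) (Fin n) ℂ) (d : Fin n → ℂ)
    (hU : Uᴴ * U = 1) (hT : IsUnit T) (hUT : U * T = T * diagonal d) (hd1 : ∀ j, ‖d j‖ = 1)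
    (hd : ∀ j, Real.sqrt 3 / 2 < (d j).re) : JNear U := by
  classical
  have hdd : ∀ j, d j * (starRingEnd ℂ) (d j) = 1 := by
    intro j
    rw [Complex.mul_conj, Complex.normSq_eq_norm_sq, hd1]; simp
  -- Uᴴ T = T diag(conj d)
  have hUhT : Uᴴ * T = T * diagonal (fun j => (starRingEnd ℂ) (d j)) := by
    have h1 : Uᴴ * T * diagonal d = T := by
      rw [mul_assoc, ← hUT, ← mul_assoc, hU, one_mul]
    calc Uᴴ * T = Uᴴ * T * (diagonal d * diagonal (fun j => (starRingEnd ℂ) (d j))) := by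
          rw [diagonal_mul_diagonal]
          have : (fun i => d i * (starRingEnd ℂ) (d i)) = fun _ => (1 : ℂ) := funext hdd
          rw [this, diagonal_one, mul_one]
      _ = T * diagonal (fun j => (starRingEnd ℂ) (d j)) := by rw [← mul_assoc, h1]
  obtain ⟨Mm, hMm⟩ : ∃ Mm : Matrix (Fin n) (Fin n) ℂ,
      Mm = U + Uᴴ - ((Real.sqrt 3 : ℝ) : ℂ) • (1 : Matrix (Fin n) (Fin n) ℂ) := ⟨_, rfl⟩
  obtain ⟨e, he⟩ : ∃ e : Fin n → ℝ, e = fun j => 2 * (d j).re - Real.sqrt 3 := ⟨_, rfl⟩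
  have hepos : ∀ j, 0 < e j := by intro j; rw [he]; have := hd j; simp only; linarith
  have hMT : Mm * T = T * diagonal (fun j => ((e j : ℝ) : ℂ)) := by
    rw [hMm, sub_mul, add_mul, hUT, hUhT, smul_mul_assoc, one_mul, ← mul_add]
    have h1 : ((Real.sqrt 3 : ℝ) : ℂ) • T = T * diagonal (fun _ => ((Real.sqrt 3 : ℝ) : ℂ)) := by
      ext i j
      rw [mul_diagonal, Matrix.smul_apply, smul_eq_mul, mul_comm]
    rw [h1, ← mul_sub]
    congr 1
    rw [diagonal_add, diagonal_sub]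
    congr 1
    funext j
    rw [he]
    simp only
    rw [Complex.add_conj]
    push_cast
    ring
  have hMh : Mm.IsHermitian := by
    rw [hMm]
    show (U + Uᴴ - ((Real.sqrt 3 : ℝ) : ℂ) • (1 : Matrix (Fin n) (Fin n) ℂ))ᴴ = _
    rw [conjTranspose_sub, conjTranspose_add, conjTranspose_conjTranspose, conjTranspose_smul,
      conjTranspose_one, add_comm]
    simp
  have hpd : Mm.PosDef := by
    rw [hMh.posDef_iff_eigenvalues_pos]
    intro i
    obtain ⟨x, hx⟩ : ∃ x : Fin n → ℂ, x = ⇑(hMh.eigenvectorBasis i) := ⟨_, rfl⟩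
    have hxe : Mm *ᵥ x = (hMh.eigenvalues i) • x := by
      rw [hx]; exact hMh.mulVec_eigenvectorBasis i
    have hx0 : x ≠ 0 := by
      intro h0
      have h1 := hMh.eigenvectorBasis.orthonormal.ne_zero i
      apply h1
      apply (WithLp.ofLp_injective 2)
      rw [← hx] at *
      exact h0
    obtain ⟨u, hu⟩ := hT
    obtain ⟨a, ha⟩ : ∃ a : Fin n → ℂ, a = ((u⁻¹ : (Matrix (Fin n) (Fin n) ℂ)ˣ) :
        Matrix (Fin n) (Fin n) ℂ) *ᵥ x := ⟨_, rfl⟩
    have hxa : x = T *ᵥ a := by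
      rw [ha, mulVec_mulVec, ← hu, Units.mul_inv, one_mulVec]
    have ha0 : a ≠ 0 := by
      intro h0; apply hx0; rw [hxa, h0, mulVec_zero]
    have hTinj : Function.Injective T.mulVec := mulVec_injective_iff_isUnit.mpr ⟨u, hu⟩
    have h2 : T *ᵥ (diagonal (fun j => ((e j : ℝ) : ℂ)) *ᵥ a) =
        T *ᵥ (((hMh.eigenvalues i : ℝ) : ℂ) • a) := by
      rw [mulVec_mulVec, ← hMT, ← mulVec_mulVec, ← hxa, hxe, mulVec_smul, ← hxa]
      rfl
    have h3 := hTinj h2
    obtain ⟨j, hj⟩ : ∃ j, a j ≠ 0 := by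
      by_contra hcon
      push Not at hcon
      exact ha0 (funext hcon)
    have h4 := congrFun h3 j
    rw [mulVec_diagonal, Pi.smul_apply, smul_eq_mul] at h4
    have h5 : ((e j : ℝ) : ℂ) = ((hMh.eigenvalues i : ℝ) : ℂ) := mul_right_cancel₀ hj h4
    have h6 : e j = hMh.eigenvalues i := by exact_mod_cast h5
    rw [← h6]
    exact hepos j
  intro x hx
  have h1 := hpd.re_dotProduct_pos hx
  have h2 : RCLike.re (star x ⬝ᵥ (Mm *ᵥ x)) = jRe x (Mm *ᵥ x) := rfl
  rw [h2, hMm, sub_mulVec, add_mulVec, smul_mulVec, one_mulVec, jRe_sub_right, jRe_add_right,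
    jRe_smul_right, jRe_self, ← jRe_mulVec_left, jRe_comm (U *ᵥ x) x] at h1
  linarith

end

end Cfsg.Agent.helper22
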