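import Mathlib
import Cfsg.Agent.Lib_helper22_JorE
import Cfsg.Prelude.Def_Characters
import Cfsg.Prelude.Def_Blocks

set_option autoImplicit false
set_option linter.style.haveILetI false

namespace Cfsg.Agent.helper22

open Matrix

noncomputable section

universe u

/-- one of twelve arcs of the unit circle -/
def jbox (z : ℂ) : Fin 12 :=
  ⟨(⌈(Complex.arg z + Real.pi) * (6 / Real.pi)⌉₊ - 1) % 12, Nat.mod_lt _ (by norm_num)⟩

theorem jbox_spec {z w : ℂ} (hz : ‖z‖ = 1) (hw : ‖w‖ = 1) (h : jbox z = jbox w) :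
    Real.sqrt 3 / 2 < ((starRingEnd ℂ) z * w).re := by
  have hpi : 0 < Real.pi := Real.pi_pos
  obtain ⟨t, ht⟩ : ∃ t : ℂ → ℝ, t = fun z => (Complex.arg z + Real.pi) * (6 / Real.pi) := ⟨_, rfl⟩
  have htpos : ∀ z, 0 < t z := by
    intro z
    rw [ht]
    have := Complex.neg_pi_lt_arg z
    exact mul_pos (by linarith) (div_pos (by norm_num) hpi)
  have htle : ∀ z, t z ≤ 12 := by
    intro z
    rw [ht]
    have := Complex.arg_le_pi z
    have h1 : (Complex.arg z + Real.pi) * (6 / Real.pi) ≤ (2 * Real.pi) * (6 / Real.pi) :=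
      mul_le_mul_of_nonneg_right (by linarith) (div_pos (by norm_num) hpi).le
    have h2 : (2 * Real.pi) * (6 / Real.pi) = 12 := by field_simp; ring
    simp only
    linarith
  have hm1 : ∀ z, 1 ≤ ⌈t z⌉₊ := fun z => Nat.one_le_iff_ne_zero.mpr (by
    rw [Ne, Nat.ceil_eq_zero, not_le]; exact htpos z)
  have hm12 : ∀ z, ⌈t z⌉₊ ≤ 12 := fun z => Nat.ceil_le.mpr (by exact_mod_cast htle z)
  have hbox : ∀ z, (jbox z : ℕ) = ⌈t z⌉₊ - 1 := by
    intro z
    have : (jbox z : ℕ) = (⌈t z⌉₊ - 1) % 12 := by rw [ht]; rfl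
    rw [this]
    apply Nat.mod_eq_of_lt
    have := hm12 z
    have := hm1 z
    omega
  have hmm : ⌈t z⌉₊ = ⌈t w⌉₊ := by
    have h1 : (jbox z : ℕ) = (jbox w : ℕ) := by rw [h]
    rw [hbox, hbox] at h1
    have := hm1 z
    have := hm1 w
    omega
  have hlow : ∀ z, ((⌈t z⌉₊ : ℝ) - 1) < t z := by
    intro z
    have h1 : ⌈t z⌉₊ - 1 < ⌈t z⌉₊ := by have := hm1 z; omega
    have h2 := Nat.lt_ceil.mp h1
    have h3 : ((⌈t z⌉₊ - 1 : ℕ) : ℝ) = (⌈t z⌉₊ : ℝ) - 1 := by
      rw [Nat.cast_sub (hm1 z)]; simp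
    rw [h3] at h2
    exact h2
  have hup : ∀ z, t z ≤ (⌈t z⌉₊ : ℝ) := fun z => Nat.le_ceil _
  have hdiff : |t w - t z| < 1 := by
    rw [abs_lt]
    have a1 := hlow z
    have a2 := hlow w
    have a3 := hup z
    have a4 := hup w
    rw [hmm] at a1 a3
    constructor <;> linarith
  have hdiff2 : |Complex.arg w - Complex.arg z| < Real.pi / 6 := by
    have e : t w - t z = (Complex.arg w - Complex.arg z) * (6 / Real.pi) := by rw [ht]; ring
    rw [e, abs_mul, abs_of_pos (div_pos (by norm_num : (0:ℝ) < 6) hpi)] at hdiff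
    have h6 : 0 < 6 / Real.pi := div_pos (by norm_num) hpi
    have := (lt_div_iff₀ h6).mpr hdiff
    have e2 : 1 / (6 / Real.pi) = Real.pi / 6 := by field_simp
    rw [e2] at this
    exact this
  have hzexp : z = Complex.exp (Complex.arg z * Complex.I) := by
    have := Complex.norm_mul_exp_arg_mul_I z
    rw [hz] at this
    simpa using this.symm
  have hwexp : w = Complex.exp (Complex.arg w * Complex.I) := by
    have := Complex.norm_mul_exp_arg_mul_I w
    rw [hw] at this
    simpa using this.symm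
  have hprod : (starRingEnd ℂ) z * w =
      Complex.exp (((Complex.arg w - Complex.arg z : ℝ) : ℂ) * Complex.I) := by
    conv_lhs => rw [hzexp, hwexp]
    rw [← Complex.exp_conj, ← Complex.exp_add]
    congr 1
    simp only [map_mul, Complex.conj_ofReal, Complex.conj_I]
    push_cast
    ring
  rw [hprod, Complex.exp_ofReal_mul_I_re, ← Real.cos_abs, ← Real.cos_pi_div_six]
  apply Real.cos_lt_cos_of_nonneg_of_le_pi (abs_nonneg _) _ hdiff2
  linarith


/-- Jordan-type bound: an abelian normal subgroup meeting every abelian subgroup in index `≤ 12^n`. -/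
theorem jordan_abelian_bound {G : Type u} [Group G] [Finite G] (χ : G → ℂ)
    (hχ : Cfsg.IsCharacter G χ) (hfaith : ∀ g : G, χ g = χ 1 → g = 1) (n : ℕ)
    (hn : Cfsg.charDegree χ = n) :
    ∃ A : Subgroup G, A.Normal ∧ (∀ x ∈ A, ∀ y ∈ A, x * y = y * x) ∧
      ∀ H : Subgroup G, (∀ x ∈ H, ∀ y ∈ H, x * y = y * x) → (A.subgroupOf H).index ≤ 12 ^ n := by
  classical
  obtain ⟨m, ρ, hρ⟩ := hχ
  have hmn : m = n := by
    rw [← hn, Cfsg.charDegree, ← hρ, Representation.char_one, Module.finrank_fin_fun]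
    simp
  subst hmn
  obtain ⟨R, hR⟩ : ∃ R : G →* Matrix (Fin m) (Fin m) ℂ, ∀ g, R g = LinearMap.toMatrix' (ρ g) :=
    ⟨{ toFun := fun g => LinearMap.toMatrix' (ρ g)
       map_one' := by rw [map_one]; exact LinearMap.toMatrix'_one
       map_mul' := fun g h => by rw [map_mul]; exact LinearMap.toMatrix'_mul _ _ }, fun g => rfl⟩
  obtain ⟨σ, hσ, hσR⟩ := exists_unitary_rep m R
  have hker : ∀ g, σ g = 1 → g = 1 := by
    intro g hg
    have h1 := hσR g hg
    rw [hR] at h1
    have h2 : ρ g = 1 := by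
      apply LinearMap.toMatrix'.injective
      rw [h1]; exact LinearMap.toMatrix'_one.symm
    apply hfaith
    rw [← hρ]
    show LinearMap.trace ℂ _ (ρ g) = LinearMap.trace ℂ _ (ρ 1)
    rw [h2, (map_one ρ : ρ 1 = 1)]
  have hinj : Function.Injective σ := by
    intro g h hgh
    have h1 : σ (g * h⁻¹) = 1 := by
      rw [map_mul, hgh, ← map_mul, mul_inv_cancel, map_one]
    have := hker _ h1
    exact mul_inv_eq_one.mp this
  refine ⟨Subgroup.closure (jorS σ), jor_closure_normal σ hσ, jor_closure_comm σ hσ hinj, ?_⟩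
  intro H hH
  obtain ⟨N, hN⟩ : ∃ N, N = Nat.card G := ⟨_, rfl⟩
  have hNpos : 0 < N := by rw [hN]; exact Nat.card_pos
  obtain ⟨T, lam, hT, hUT⟩ := exists_simul_eigenbasis m (fun h : H => σ (h : G))
    (fun h k => by
      show σ (h : G) * σ (k : G) = σ (k : G) * σ (h : G)
      rw [← map_mul, ← map_mul, hH _ h.2 _ k.2]) N hNpos
    (fun h => by
      show σ (h : G) ^ N = 1
      rw [← map_pow, hN, pow_card_eq_one', map_one])
  have hTinj : ∀ X Y : Matrix (Fin m) (Fin m) ℂ, T * X = T * Y → X = Y := by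
    intro X Y hXY
    obtain ⟨u, hu⟩ := hT
    rw [← hu] at hXY
    exact (Units.mul_right_inj u).mp hXY
  have hmul : ∀ (h k : H) (j : Fin m), lam j (h * k) = lam j h * lam j k := by
    intro h k j
    have h1 : T * diagonal (fun j => lam j (h * k)) =
        T * (diagonal (fun j => lam j h) * diagonal (fun j => lam j k)) := by
      rw [← hUT (h * k), ← mul_assoc, ← hUT h, mul_assoc, ← hUT k, ← mul_assoc]
      show σ ((h * k : H) : G) * T = σ (h : G) * σ (k : G) * T
      rw [Subgroup.coe_mul, map_mul]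
    have h2 := hTinj _ _ h1
    rw [diagonal_mul_diagonal] at h2
    exact congrFun (diagonal_injective h2) j
  have hone : ∀ j : Fin m, lam j 1 = 1 := by
    intro j
    have h1 : T * diagonal (fun j => lam j (1 : H)) = T * diagonal (fun _ => (1 : ℂ)) := by
      rw [← hUT 1, diagonal_one, mul_one]
      show σ ((1 : H) : G) * T = T
      rw [Subgroup.coe_one, map_one, one_mul]
    exact congrFun (diagonal_injective (hTinj _ _ h1)) j
  have hpow : ∀ (h : H) (j : Fin m) (k : ℕ), lam j (h ^ k) = lam j h ^ k := by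
    intro h j k
    induction k with
    | zero => rw [pow_zero, pow_zero, hone]
    | succ k ih => rw [pow_succ, pow_succ, hmul, ih]
  have hnorm : ∀ (h : H) (j : Fin m), ‖lam j h‖ = 1 := by
    intro h j
    apply Complex.norm_eq_one_of_pow_eq_one (n := N) _ hNpos.ne'
    rw [← hpow]
    have : h ^ N = 1 := by
      apply Subtype.ext
      rw [Subgroup.coe_pow, hN, pow_card_eq_one', Subgroup.coe_one]
    rw [this, hone]
  have hinvl : ∀ (h : H) (j : Fin m), lam j h⁻¹ = (starRingEnd ℂ) (lam j h) := by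
    intro h j
    have h1 : lam j h⁻¹ * lam j h = 1 := by rw [← hmul, inv_mul_cancel, hone]
    have h2 : lam j h ≠ 0 := by
      intro h0; rw [h0, mul_zero] at h1; exact zero_ne_one h1
    rw [← Complex.inv_eq_conj (hnorm h j)]
    exact eq_inv_of_mul_eq_one_left h1
  obtain ⟨Φ, hΦ⟩ : ∃ Φ : H → (Fin m → Fin 12), Φ = fun h j => jbox (lam j h) := ⟨_, rfl⟩
  have hkey : ∀ h k : H, Φ h = Φ k → ((h⁻¹ * k : H) : G) ∈ Subgroup.closure (jorS σ) := by
    intro h k hhk
    apply Subgroup.subset_closure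
    show JNear (σ ((h⁻¹ * k : H) : G))
    apply jnear_of_diag (σ ((h⁻¹ * k : H) : G)) T (fun j => lam j (h⁻¹ * k)) (hσ _) hT
      (hUT (h⁻¹ * k)) (fun j => hnorm _ j)
    intro j
    rw [hmul, hinvl]
    apply jbox_spec (hnorm h j) (hnorm k j)
    have := congrFun hhk j
    rw [hΦ] at this
    exact this
  rw [Subgroup.index]
  have hcard : Nat.card (Fin m → Fin 12) = 12 ^ m := by
    rw [Nat.card_eq_fintype_card, Fintype.card_fun, Fintype.card_fin, Fintype.card_fin]
  rw [← hcard]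
  apply Nat.card_le_card_of_injective
    (fun q : H ⧸ (Subgroup.closure (jorS σ)).subgroupOf H => Φ (Quotient.out q))
  intro q q' hqq
  have h1 := hkey _ _ hqq
  have h2 : (Quotient.out q)⁻¹ * Quotient.out q' ∈ (Subgroup.closure (jorS σ)).subgroupOf H :=
    Subgroup.mem_subgroupOf.mpr h1
  have h3 := QuotientGroup.eq.mpr h2
  rwa [QuotientGroup.out_eq', QuotientGroup.out_eq'] at h3

end

end Cfsg.Agent.helper22
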