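import Mathlib
import Cfsg.Agent.Lib_helper1_Galois
import Cfsg.Agent.Lib_helper1_GalChar
import Cfsg.Agent.Lib_helper24_CharCount
import Cfsg.Agent.Lib_helper24_CharBasic

set_option autoImplicit false
set_option linter.unusedSectionVars false
set_option linter.unusedVariables false

/-!
Number-theoretic lemmas for the `k(GV)`-type bound (helper22).

* `sum_sq_norm_ge_card` : for a nonzero algebraic integer `x` of a cyclotomic field,
  `∑_σ ‖σ x‖² ≥ #embeddings`;
* `sum_roots_ne_zero` : a sum of `n` roots of unity of `p`-power order with `p ∤ n` is nonzero.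
-/

namespace Cfsg.Agent.helper22

open Cfsg
open scoped ComplexConjugate
open Cfsg.Agent.helper1

/-- positive reals with product at least one have sum at least their number -/
theorem card_le_sum_of_one_le_prod {ι : Type*} (s : Finset ι) (z : ι → ℝ)
    (hz : ∀ i ∈ s, 0 < z i) (hprod : 1 ≤ ∏ i ∈ s, z i) : (s.card : ℝ) ≤ ∑ i ∈ s, z i := by
  have h1 : ∀ i ∈ s, Real.log (z i) ≤ z i - 1 := fun i hi => Real.log_le_sub_one_of_pos (hz i hi)
  have h2 : Real.log (∏ i ∈ s, z i) = ∑ i ∈ s, Real.log (z i) :=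
    Real.log_prod (fun i hi => (hz i hi).ne')
  have h3 : 0 ≤ Real.log (∏ i ∈ s, z i) := Real.log_nonneg hprod
  have h4 : ∑ i ∈ s, Real.log (z i) ≤ ∑ i ∈ s, (z i - 1) := Finset.sum_le_sum h1
  rw [Finset.sum_sub_distrib, Finset.sum_const, nsmul_eq_mul, mul_one] at h4
  linarith

/-- for a nonzero algebraic integer of a cyclotomic field the sum of the squared absolute values
of its conjugates is at least the number of embeddings -/
theorem sum_sq_norm_ge_card (N : ℕ) (hN : N ≠ 0) (x : cycField N) (hint : IsIntegral ℤ (x : ℂ))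
    (hx0 : x ≠ 0) [Fintype (cycField N →ₐ[ℚ] ℂ)] :
    (Fintype.card (cycField N →ₐ[ℚ] ℂ) : ℝ) ≤ ∑ σ : cycField N →ₐ[ℚ] ℂ, ‖σ x‖ ^ 2 := by
  classical
  haveI := cycField_finiteDimensional N hN
  haveI := cycField_numberField N hN
  have hxint : IsIntegral ℤ x := by
    have h1 : IsIntegral ℤ (algebraMap (cycField N) ℂ x) := hint
    exact (isIntegral_algebraMap_iff (algebraMap (cycField N) ℂ).injective).mp h1
  have hNint : IsIntegral ℤ (Algebra.norm ℚ x) := Algebra.isIntegral_norm ℚ hxint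
  obtain ⟨z, hz⟩ := IsIntegrallyClosed.isIntegral_iff.mp hNint
  have hprod := Algebra.norm_eq_prod_embeddings ℚ ℂ x
  have hN0 : Algebra.norm ℚ x ≠ 0 := fun h => hx0 (Algebra.norm_eq_zero_iff.mp h)
  have hz0 : z ≠ 0 := by
    rintro rfl
    apply hN0
    rw [← hz]; simp
  have hprod' : ((z : ℚ) : ℂ) = ∏ σ : cycField N →ₐ[ℚ] ℂ, σ x := by
    have : (algebraMap ℚ ℂ) (Algebra.norm ℚ x) = ((z : ℚ) : ℂ) := by rw [← hz]; rfl
    rw [← this, hprod]
    apply Finset.prod_congr
    · ext σ; simp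
    · intro σ _; rfl
  have hnorm : (1 : ℝ) ≤ ∏ σ : cycField N →ₐ[ℚ] ℂ, ‖σ x‖ := by
    rw [← norm_prod, ← hprod']
    have h2 : ‖((z : ℚ) : ℂ)‖ = |(z : ℝ)| := by
      rw [show ((z : ℚ) : ℂ) = ((z : ℝ) : ℂ) by push_cast; rfl, Complex.norm_real,
        Real.norm_eq_abs]
    rw [h2]
    have h3 : (1 : ℤ) ≤ |z| := Int.one_le_abs hz0
    exact_mod_cast h3
  have hpos : ∀ σ : cycField N →ₐ[ℚ] ℂ, 0 < ‖σ x‖ := by
    intro σ
    rw [norm_pos_iff]
    intro h
    apply hx0
    exact (map_eq_zero_iff σ σ.injective).mp h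
  have h1 := card_le_sum_of_one_le_prod Finset.univ (fun σ : cycField N →ₐ[ℚ] ℂ => ‖σ x‖ ^ 2)
    (fun σ _ => pow_pos (hpos σ) 2) (by
      rw [Finset.prod_pow]
      exact one_le_pow₀ hnorm)
  rw [Finset.card_univ] at h1
  exact h1

/-- a sum of `n` roots of unity of `p`-power order with `p ∤ n` is nonzero -/
theorem sum_roots_ne_zero (p : ℕ) [hp : Fact p.Prime] (a : ℕ) (S : Finset ℂ) (m : ℂ → ℕ)
    (hS : ∀ μ ∈ S, μ ^ (p ^ a) = 1) (hdvd : ¬ p ∣ ∑ μ ∈ S, m μ) :
    ∑ μ ∈ S, (m μ : ℂ) * μ ≠ 0 := by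
  classical
  intro h0
  rcases a with _ | b
  · have h1 : ∑ μ ∈ S, (m μ : ℂ) * μ = ((∑ μ ∈ S, m μ : ℕ) : ℂ) := by
      push_cast
      apply Finset.sum_congr rfl
      intro μ hμ
      have := hS μ hμ
      rw [pow_zero, pow_one] at this
      rw [this, mul_one]
    rw [h1] at h0
    have h2 : ∑ μ ∈ S, m μ = 0 := by exact_mod_cast h0
    apply hdvd
    rw [h2]
    exact dvd_zero p
  · have hn0 : p ^ (b + 1) ≠ 0 := pow_ne_zero _ hp.out.ne_zero
    have hζ := zetaN_isPrimitiveRoot (p ^ (b + 1)) hn0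
    have hpos : 0 < p ^ (b + 1) := Nat.pos_of_ne_zero hn0
    have hj : ∀ μ : ℂ, ∃ j : ℕ, μ ∈ S → zetaN (p ^ (b + 1)) ^ j = μ := by
      intro μ
      by_cases hμ : μ ∈ S
      · obtain ⟨j, _, hj⟩ := hζ.eq_pow_of_pow_eq_one (hS μ hμ)
        exact ⟨j, fun _ => hj⟩
      · exact ⟨0, fun h => absurd h hμ⟩
    choose j hj using hj
    obtain ⟨f, hf⟩ : ∃ f : Polynomial ℤ, f = ∑ μ ∈ S,
        Polynomial.C (m μ : ℤ) * Polynomial.X ^ (j μ) := ⟨_, rfl⟩
    have haeval : Polynomial.aeval (zetaN (p ^ (b + 1))) f = 0 := by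
      rw [hf, map_sum, ← h0]
      apply Finset.sum_congr rfl
      intro μ hμ
      rw [map_mul, map_pow, Polynomial.aeval_X, Polynomial.aeval_C, hj μ hμ]
      simp
    have hdiv : Polynomial.cyclotomic (p ^ (b + 1)) ℤ ∣ f := by
      rw [Polynomial.cyclotomic_eq_minpoly hζ hpos]
      exact minpoly.isIntegrallyClosed_dvd (hζ.isIntegral hpos) haeval
    obtain ⟨q, hq⟩ := hdiv
    have heval : Polynomial.eval 1 f = ((∑ μ ∈ S, m μ : ℕ) : ℤ) := by
      rw [hf, Polynomial.eval_finset_sum]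
      push_cast
      apply Finset.sum_congr rfl
      intro μ _
      simp
    have h3 : (p : ℤ) ∣ ((∑ μ ∈ S, m μ : ℕ) : ℤ) := by
      rw [← heval, hq, Polynomial.eval_mul, Polynomial.eval_one_cyclotomic_prime_pow]
      exact dvd_mul_right _ _
    exact hdvd (Int.natCast_dvd_natCast.mp h3)

section GroupLevel

universe u
variable {G : Type u} [Group G] [Finite G]

/-- a character of degree prime to `p` does not vanish on elements of `p`-power order -/
theorem char_ne_zero_of_ppow_order (p : ℕ) [hp : Fact p.Prime] {χ : G → ℂ}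
    (hχ : IsCharacter G χ) (hdeg : ¬ p ∣ charDegree χ) (g : G) (a : ℕ)
    (hg : orderOf g = p ^ a) : χ g ≠ 0 := by
  classical
  obtain ⟨n, ρ, rfl⟩ := hχ
  have hpos : 0 < orderOf g := by
    rw [hg]
    exact pow_pos hp.out.pos a
  have hf : (ρ g) ^ orderOf g = 1 := by
    rw [← map_pow, pow_orderOf_eq_one, map_one]
  obtain ⟨S, m, hS, h⟩ := trace_pow_eq_sum (ρ g) (orderOf g) hpos hf
  have h1 := h 1
  have h0 := h 0
  rw [pow_one] at h1
  rw [pow_zero] at h0
  have hn : n = ∑ μ ∈ S, m μ := by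
    have h2 : ((n : ℕ) : ℂ) = ((∑ μ ∈ S, m μ : ℕ) : ℂ) := by
      push_cast
      have h3 : LinearMap.trace ℂ (Fin n → ℂ) (1 : Module.End ℂ (Fin n → ℂ)) = (n : ℂ) := by
        rw [LinearMap.trace_one, Module.finrank_fin_fun]
      rw [← h3, h0]
      apply Finset.sum_congr rfl
      intro μ _
      rw [pow_zero, mul_one]
    exact_mod_cast h2
  have hdegn : charDegree ρ.character = n := by
    apply helper24.charDegree_natCast
    rw [Representation.char_one, Module.finrank_fin_fun]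
  rw [hdegn, hn] at hdeg
  have h4 : ρ.character g = ∑ μ ∈ S, (m μ : ℂ) * μ := by
    show LinearMap.trace ℂ (Fin n → ℂ) (ρ g) = _
    rw [h1]
    apply Finset.sum_congr rfl
    intro μ _
    rw [pow_one]
  rw [h4]
  exact sum_roots_ne_zero p a S m (fun μ hμ => by rw [← hg]; exact hS μ hμ) hdeg

/-- powers prime to the group order have the same centralizer -/
theorem centralizer_pow_coprime (g : G) (t : ℕ) (ht : t.Coprime (Nat.card G)) :
    Subgroup.centralizer ({g ^ t} : Set G) = Subgroup.centralizer ({g} : Set G) := by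
  have hco : t.Coprime (orderOf g) := Nat.Coprime.coprime_dvd_right (orderOf_dvd_natCard g) ht
  obtain ⟨s, hs⟩ := exists_pow_eq_self_of_coprime hco
  ext h
  simp only [Subgroup.mem_centralizer_iff, Set.mem_singleton_iff, forall_eq]
  constructor
  · intro h1
    rw [← hs]
    exact ((Commute.pow_left (show Commute (g ^ t) h from h1) s)).eq
  · intro h1
    exact ((Commute.pow_left (show Commute g h from h1) t)).eq

/-- **`k(G) ≤ |C_G(g)|`-type bound.** If `P = C_G(g)` and no irreducible character vanishes at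
`g`, then `k(G) ≤ |P|`; in case of equality every irreducible character with `P` in its kernel
is linear. -/
theorem card_irr_le_of_regular (P : Subgroup G) (g : G) (hgP : g ∈ P)
    (hC : Subgroup.centralizer ({g} : Set G) = P)
    (hne : ∀ χ : IrrCharacter G, (χ : G → ℂ) g ≠ 0) :
    Nat.card (IrrCharacter G) ≤ Nat.card P ∧
    (Nat.card (IrrCharacter G) = Nat.card P →
      ∀ χ : IrrCharacter G, (∀ x ∈ P, (χ : G → ℂ) x = (χ : G → ℂ) 1) →
        (χ : G → ℂ) 1 = 1) := by
  classical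
  haveI : Fintype (IrrCharacter G) := Fintype.ofFinite _
  have hN : Nat.card G ≠ 0 := card_ne_zero'
  haveI := cycField_finiteDimensional (Nat.card G) hN
  haveI : Fintype (cycField (Nat.card G) →ₐ[ℚ] ℂ) := Fintype.ofFinite _
  obtain ⟨d, hd⟩ : ∃ d : ℕ, d = Fintype.card (cycField (Nat.card G) →ₐ[ℚ] ℂ) := ⟨_, rfl⟩
  have hdpos : 0 < d := by
    rw [hd]
    exact Fintype.card_pos_iff.mpr ⟨(cycField (Nat.card G)).val⟩
  obtain ⟨T, hTdef⟩ : ∃ T : IrrCharacter G → ℝ, T = fun χ : IrrCharacter G =>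
      ∑ σ : cycField (Nat.card G) →ₐ[ℚ] ℂ,
        ‖(χ : G → ℂ) (g ^ galExp (Nat.card G) hN σ)‖ ^ 2 := ⟨_, rfl⟩
  have hT : ∀ χ : IrrCharacter G, (d : ℝ) ≤ T χ := by
    intro χ
    obtain ⟨n, ρ, hρ, hρχ⟩ := χ.2
    obtain ⟨x, hx⟩ : ∃ x : cycField (Nat.card G), (x : ℂ) = ρ.character g :=
      ⟨⟨ρ.character g, char_mem_cycField ρ g⟩, rfl⟩
    have hint : IsIntegral ℤ (x : ℂ) := by
      rw [hx]
      exact isIntegral_char ρ g
    have hx0 : x ≠ 0 := by
      intro h
      apply hne χ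
      rw [← hρχ, ← hx, h]
      rfl
    have h1 := sum_sq_norm_ge_card (Nat.card G) hN x hint hx0
    rw [← hd] at h1
    rw [hTdef]
    refine h1.trans (le_of_eq ?_)
    apply Finset.sum_congr rfl
    intro σ _
    rw [galois_char σ ρ g x hx, hρχ]
  have hcol : ∀ σ : cycField (Nat.card G) →ₐ[ℚ] ℂ, ∑ χ : IrrCharacter G,
      ‖(χ : G → ℂ) (g ^ galExp (Nat.card G) hN σ)‖ ^ 2 = (Nat.card P : ℝ) := by
    intro σ
    have h1 := helper24.irr_column_orthogonality (G := G) (g ^ galExp (Nat.card G) hN σ)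
      (g ^ galExp (Nat.card G) hN σ)
    rw [if_pos (IsConj.refl _), centralizer_pow_coprime g _ (galExp_coprime (Nat.card G) hN σ),
      hC] at h1
    have h2 : ((∑ χ : IrrCharacter G,
        ‖(χ : G → ℂ) (g ^ galExp (Nat.card G) hN σ)‖ ^ 2 : ℝ) : ℂ) = ((Nat.card P : ℝ) : ℂ) := by
      push_cast
      rw [← h1]
      apply Finset.sum_congr rfl
      intro χ _
      rw [Complex.mul_conj']
    exact_mod_cast h2
  have htotal : ∑ χ : IrrCharacter G, T χ = (d : ℝ) * (Nat.card P : ℝ) := by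
    rw [hTdef, Finset.sum_comm, Finset.sum_congr rfl (fun σ _ => hcol σ), Finset.sum_const,
      Finset.card_univ, ← hd, nsmul_eq_mul]
  have hk : (Nat.card (IrrCharacter G) : ℝ) * (d : ℝ) ≤ (d : ℝ) * (Nat.card P : ℝ) := by
    rw [← htotal, Nat.card_eq_fintype_card, ← Finset.card_univ, ← nsmul_eq_mul,
      ← Finset.sum_const]
    exact Finset.sum_le_sum (fun χ _ => hT χ)
  have hdR : (0 : ℝ) < d := by exact_mod_cast hdpos
  constructor
  · have h1 : (Nat.card (IrrCharacter G) : ℝ) ≤ (Nat.card P : ℝ) := by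
      by_contra hcon
      push Not at hcon
      nlinarith
    exact_mod_cast h1
  · intro heq χ hχ
    have hzero : ∑ χ : IrrCharacter G, (T χ - d) = 0 := by
      rw [Finset.sum_sub_distrib, htotal, Finset.sum_const, Finset.card_univ,
        ← Nat.card_eq_fintype_card, heq, nsmul_eq_mul]
      ring
    have h1 := (Finset.sum_eq_zero_iff_of_nonneg (fun χ _ => sub_nonneg.mpr (hT χ))).mp hzero χ
      (Finset.mem_univ χ)
    have h2 : T χ = d := by linarith
    have h3 : T χ = (d : ℝ) * ‖(χ : G → ℂ) 1‖ ^ 2 := by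
      rw [hTdef]
      show ∑ σ : cycField (Nat.card G) →ₐ[ℚ] ℂ,
        ‖(χ : G → ℂ) (g ^ galExp (Nat.card G) hN σ)‖ ^ 2 = _
      rw [Finset.sum_congr rfl (fun σ _ => by rw [hχ _ (P.pow_mem hgP _)]), Finset.sum_const,
        Finset.card_univ, ← hd, nsmul_eq_mul]
    obtain ⟨n, hn⟩ := helper24.char_apply_one (helper24.irr_isCharacter χ.2)
    rw [h3, hn] at h2
    have h4 : ‖((n : ℕ) : ℂ)‖ = (n : ℝ) := by
      rw [Complex.norm_natCast]
    rw [h4] at h2
    have h5 : (n : ℝ) ^ 2 = 1 := by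
      have := mul_left_cancel₀ hdR.ne' (h2.trans (mul_one _).symm)
      exact this
    have h6 : n ^ 2 = 1 := by exact_mod_cast h5
    have h7 : n = 1 := by
      rcases Nat.eq_zero_or_pos n with h | h
      · rw [h] at h6
        norm_num at h6
      · nlinarith
    rw [hn, h7, Nat.cast_one]

end GroupLevel

end Cfsg.Agent.helper22
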