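import Mathlib

set_option autoImplicit false
set_option linter.unusedSectionVars false
set_option linter.unusedVariables false
set_option linter.style.haveILetI false
set_option linter.style.longLine false

/-!
helper22: primitive linear groups of degree two: the counting of poles.
Part 1: arithmetic and the abstract orbit counting lemma.
-/

namespace Cfsg.Agent.helper22

section PD1a

theorem pd_arith_a (N a b c rc : ℕ) (ha : N = 2 * a) (hb : N = 3 * b) (hc : N = rc * c)
    (hb3 : 3 ≤ b) (hc3 : 3 ≤ c) (hsum : a + b + c = N + 2) : N = 12 ∨ N = 24 ∨ N = 60 := by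
  obtain ⟨t, ht⟩ : ∃ t : ℕ, t = a - b := ⟨_, rfl⟩
  have ha' : a = 3 * t := by omega
  have hb' : b = 2 * t := by omega
  have hc' : c = t + 2 := by omega
  have hN : N = 6 * t := by omega
  rw [hc', hN] at hc
  have hdvd : (t + 2) ∣ 12 := by
    have h1 : (t + 2) ∣ rc * (t + 2) + 12 := by
      have : rc * (t + 2) + 12 = 6 * (t + 2) := by omega
      rw [this]
      exact Dvd.intro_left 6 rfl
    exact (Nat.dvd_add_right (Dvd.intro_left rc rfl)).mp h1
  have hle : t + 2 ≤ 12 := Nat.le_of_dvd (by norm_num) hdvd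
  have ht2 : 2 ≤ t := by omega
  have ht10 : t ≤ 10 := by omega
  interval_cases t
  · left; omega
  · exfalso; omega
  · right; left; omega
  · exfalso; omega
  · exfalso; omega
  · exfalso; omega
  · exfalso; omega
  · exfalso; omega
  · right; right; omega

theorem pd_arith_b (N a b c rb rc : ℕ) (ha : N = 2 * a) (hb : N = rb * b) (hc : N = rc * c)
    (hrb : 2 ≤ rb) (hrc : 2 ≤ rc)
    (hb3 : 3 ≤ b) (hc3 : 3 ≤ c) (hsum : a + b + c = N + 2) : N = 12 ∨ N = 24 ∨ N = 60 := by
  by_cases h4 : 4 ≤ rb ∧ 4 ≤ rc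
  · exfalso
    obtain ⟨h4b, h4c⟩ := h4
    have h1 : 4 * b ≤ N := by rw [hb]; exact Nat.mul_le_mul_right b h4b
    have h2 : 4 * c ≤ N := by rw [hc]; exact Nat.mul_le_mul_right c h4c
    omega
  · have h5 : rb ≤ 3 ∨ rc ≤ 3 := by omega
    rcases h5 with h5 | h5
    · have h6 : rb = 2 ∨ rb = 3 := by omega
      rcases h6 with h6 | h6
      · exfalso
        rw [h6] at hb
        omega
      · rw [h6] at hb
        exact pd_arith_a N a b c rc ha hb hc hb3 hc3 hsum
    · have h6 : rc = 2 ∨ rc = 3 := by omega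
      rcases h6 with h6 | h6
      · exfalso
        rw [h6] at hc
        omega
      · rw [h6] at hc
        exact pd_arith_a N a c b rb ha hc hb hc3 hb3 (by omega)

theorem pd_arith_c (N a b c ra rb rc : ℕ) (ha : N = ra * a) (hb : N = rb * b) (hc : N = rc * c)
    (hra : 2 ≤ ra) (hrb : 2 ≤ rb) (hrc : 2 ≤ rc)
    (ha3 : 3 ≤ a) (hb3 : 3 ≤ b) (hc3 : 3 ≤ c) (hsum : a + b + c = N + 2) :
    N = 12 ∨ N = 24 ∨ N = 60 := by
  by_cases h3 : 3 ≤ ra ∧ 3 ≤ rb ∧ 3 ≤ rc
  · exfalso
    obtain ⟨h3a, h3b, h3c⟩ := h3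
    have h1 : 3 * a ≤ N := by rw [ha]; exact Nat.mul_le_mul_right a h3a
    have h2 : 3 * b ≤ N := by rw [hb]; exact Nat.mul_le_mul_right b h3b
    have h4 : 3 * c ≤ N := by rw [hc]; exact Nat.mul_le_mul_right c h3c
    omega
  · have h5 : ra = 2 ∨ rb = 2 ∨ rc = 2 := by omega
    rcases h5 with h5 | h5 | h5
    · rw [h5] at ha
      exact pd_arith_b N a b c rb rc ha hb hc hrb hrc hb3 hc3 hsum
    · rw [h5] at hb
      exact pd_arith_b N b a c ra rc hb ha hc hra hrc ha3 hc3 (by omega)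
    · rw [h5] at hc
      exact pd_arith_b N c a b ra rb hc ha hb hra hrb ha3 hb3 (by omega)

theorem pd_arith {Ω : Type*} [Fintype Ω] (k : Ω → ℕ) (N : ℕ) (hN : N ≠ 1)
    (hdvd : ∀ ω, ∃ r : ℕ, 2 ≤ r ∧ N = r * k ω) (h3 : ∀ ω, 3 ≤ k ω)
    (heq : ∑ ω, k ω + 2 * N = Fintype.card Ω * N + 2) : N = 12 ∨ N = 24 ∨ N = 60 := by
  classical
  obtain ⟨m, hm⟩ : ∃ m : ℕ, m = Fintype.card Ω := ⟨_, rfl⟩
  rw [← hm] at heq
  have hlow : 3 * m ≤ ∑ ω, k ω := by
    calc 3 * m = ∑ _ω : Ω, 3 := by rw [Finset.sum_const, Finset.card_univ, hm, smul_eq_mul, mul_comm]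
      _ ≤ ∑ ω, k ω := Finset.sum_le_sum (fun ω _ => h3 ω)
  have hup : 2 * ∑ ω, k ω ≤ m * N := by
    calc 2 * ∑ ω, k ω = ∑ ω, 2 * k ω := by rw [Finset.mul_sum]
      _ ≤ ∑ _ω : Ω, N := by
          apply Finset.sum_le_sum
          intro ω _
          obtain ⟨r, hr, hNr⟩ := hdvd ω
          rw [hNr]
          exact Nat.mul_le_mul_right _ hr
      _ = m * N := by rw [Finset.sum_const, Finset.card_univ, hm, smul_eq_mul]
  have hm3 : m ≤ 3 := by
    by_contra h
    have h4 : 4 ≤ m := by omega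
    have h5 : 4 * N ≤ m * N := Nat.mul_le_mul_right N h4
    omega
  have hm3' : m = 3 := by
    interval_cases m
    · exfalso; omega
    · exfalso; omega
    · exfalso; omega
    · rfl
  rw [hm3'] at heq
  have e : Ω ≃ Fin 3 := Fintype.equivFinOfCardEq (by rw [← hm, hm3'])
  have hsum : ∑ ω, k ω = k (e.symm 0) + k (e.symm 1) + k (e.symm 2) := by
    rw [← Equiv.sum_comp e.symm k, Fin.sum_univ_three]
  obtain ⟨ra, hra, ha⟩ := hdvd (e.symm 0)
  obtain ⟨rb, hrb, hb⟩ := hdvd (e.symm 1)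
  obtain ⟨rc, hrc, hc⟩ := hdvd (e.symm 2)
  exact pd_arith_c N _ _ _ ra rb rc ha hb hc hra hrb hrc (h3 _) (h3 _) (h3 _) (by omega)

end PD1a

section PD1b

open MulAction

/-- the orbit counting lemma -/
theorem pd_count {G : Type*} [Group G] [Fintype G] {X : Type*} [MulAction G X] [Fintype X]
    (Z : Subgroup G) (hfix : ∀ g ∈ Z, ∀ x : X, g • x = x)
    (htwo : ∀ g : G, g ∉ Z → Nat.card (fixedBy X g) = 2)
    (hpole : ∀ x : X, ∃ g : G, g ∉ Z ∧ g • x = x)
    (hirr : ∀ x : X, stabilizer G x ≠ ⊤)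
    (hprim : ∀ x : X, (stabilizer G x).index ≠ 2)
    (hZ : Z ≠ ⊤) : Z.index = 12 ∨ Z.index = 24 ∨ Z.index = 60 := by
  classical
  haveI : ∀ g : G, Fintype (fixedBy X g) := fun g => Fintype.ofFinite _
  haveI : Fintype (Quotient (orbitRel G X)) := Fintype.ofFinite _
  haveI : ∀ b : X, Fintype (stabilizer G b) := fun b => Fintype.ofFinite _
  have hB := sum_card_fixedBy_eq_card_orbits_mul_card_group G X
  have hC := card_eq_sum_card_group_div_card_stabilizer G X
  obtain ⟨z, hz⟩ : ∃ z : ℕ, z = Nat.card Z := ⟨_, rfl⟩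
  obtain ⟨N, hNdef⟩ : ∃ N : ℕ, N = Z.index := ⟨_, rfl⟩
  have hzN : z * N = Fintype.card G := by
    rw [hz, hNdef, Subgroup.card_mul_index, Nat.card_eq_fintype_card]
  have hzpos : 0 < z := by rw [hz]; exact Nat.card_pos
  have hNpos : 0 < N := by
    rw [hNdef]
    exact Nat.pos_of_ne_zero Subgroup.index_ne_zero_of_finite
  have hN1 : N ≠ 1 := by
    rw [hNdef]
    intro h
    exact hZ (Subgroup.index_eq_one.mp h)
  -- the fixed point sum
  have hfixcard : ∀ g : G, Fintype.card (fixedBy X g) = if g ∈ Z then Fintype.card X else 2 := by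
    intro g
    by_cases hg : g ∈ Z
    · rw [if_pos hg]
      have : fixedBy X g = Set.univ := by
        ext x
        simp only [mem_fixedBy, Set.mem_univ, iff_true]
        exact hfix g hg x
      rw [← Nat.card_eq_fintype_card, this, Nat.card_eq_fintype_card]
      simp
    · rw [if_neg hg, ← Nat.card_eq_fintype_card]
      exact htwo g hg
  have hsum1 : ∑ g : G, Fintype.card (fixedBy X g) = z * Fintype.card X + (Fintype.card G - z) * 2 := by
    rw [Finset.sum_congr rfl (fun g _ => hfixcard g), Finset.sum_ite, Finset.sum_const,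
      Finset.sum_const, smul_eq_mul, smul_eq_mul]
    have h1 : (Finset.univ.filter (fun g : G => g ∈ Z)).card = z := by
      rw [hz, Nat.card_eq_fintype_card, Fintype.card_subtype]
    have h2 : (Finset.univ.filter (fun g : G => ¬ g ∈ Z)).card = Fintype.card G - z := by
      have := Finset.card_filter_add_card_filter_not (s := (Finset.univ : Finset G)) (fun g : G => g ∈ Z)
      rw [h1, Finset.card_univ] at this
      omega
    rw [h1, h2]
  -- the orbit data
  obtain ⟨k, hk⟩ : ∃ k : Quotient (orbitRel G X) → ℕ, k = fun ω => (stabilizer G ω.out).index :=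
    ⟨_, rfl⟩
  have hkdiv : ∀ ω : Quotient (orbitRel G X),
      Fintype.card G / Fintype.card (stabilizer G ω.out) = k ω := by
    intro ω
    rw [hk]
    have h1 := Subgroup.card_mul_index (stabilizer G ω.out)
    rw [Nat.card_eq_fintype_card, Nat.card_eq_fintype_card] at h1
    rw [← h1]
    exact Nat.mul_div_cancel_left _ Fintype.card_pos
  have hXsum : Fintype.card X = ∑ ω, k ω := by
    rw [hC]
    exact Finset.sum_congr rfl (fun ω _ => hkdiv ω)
  have hdvd : ∀ ω, ∃ r : ℕ, 2 ≤ r ∧ N = r * k ω := by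
    intro ω
    have hle : Z ≤ stabilizer G ω.out := fun g hg => hfix g hg _
    refine ⟨Z.relIndex (stabilizer G ω.out), ?_, ?_⟩
    · have h0 : Z.relIndex (stabilizer G ω.out) ≠ 0 := by
        have : (Z.subgroupOf (stabilizer G ω.out)).index ≠ 0 := Subgroup.index_ne_zero_of_finite
        exact this
      have h1 : Z.relIndex (stabilizer G ω.out) ≠ 1 := by
        intro h
        have h2 := Subgroup.relIndex_eq_one.mp h
        obtain ⟨g, hgZ, hgx⟩ := hpole ω.out
        exact hgZ (h2 hgx)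
      omega
    · rw [hNdef, hk]
      exact (Subgroup.relIndex_mul_index hle).symm
  have h3 : ∀ ω, 3 ≤ k ω := by
    intro ω
    rw [hk]
    have h0 : (stabilizer G ω.out).index ≠ 0 := Subgroup.index_ne_zero_of_finite
    have h1 : (stabilizer G ω.out).index ≠ 1 := fun h => hirr _ (Subgroup.index_eq_one.mp h)
    have h2 := hprim ω.out
    show 3 ≤ (stabilizer G ω.out).index
    omega
  have heq : ∑ ω, k ω + 2 * N = Fintype.card (Quotient (orbitRel G X)) * N + 2 := by
    rw [hsum1, hXsum, ← hzN] at hB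
    have h5 : z * N - z = z * (N - 1) := by
      rw [Nat.mul_sub, mul_one]
    rw [h5] at hB
    have h6 : z * (∑ ω, k ω + (N - 1) * 2) = z * (Fintype.card (Quotient (orbitRel G X)) * N) := by
      rw [Nat.mul_add]
      calc z * ∑ ω, k ω + z * ((N - 1) * 2) = z * ∑ ω, k ω + z * (N - 1) * 2 := by ring
        _ = Fintype.card (Quotient (orbitRel G X)) * (z * N) := hB
        _ = z * (Fintype.card (Quotient (orbitRel G X)) * N) := by ring
    have h7 := Nat.eq_of_mul_eq_mul_left hzpos h6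
    omega
  rw [← hNdef]
  exact pd_arith k N hN1 hdvd h3 heq

end PD1b

end Cfsg.Agent.helper22
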