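import Mathlib
import Cfsg.Agent.Lib_helper22_PD1

set_option autoImplicit false
set_option linter.unusedSectionVars false
set_option linter.unusedVariables false
set_option linter.style.haveILetI false
set_option linter.style.longLine false

/-!
helper22: primitive linear groups of degree two: the counting of poles.
Part 2: eigenvectors of a non-scalar operator of finite order on a plane.
-/

namespace Cfsg.Agent.helper22

open Polynomial

section PD2
variable {V : Type*} [AddCommGroup V] [Module ℂ V] [FiniteDimensional ℂ V]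

theorem pd_two_eigen (T : Module.End ℂ V) (h2 : Module.finrank ℂ V = 2) (k : ℕ) (hk : 0 < k)
    (hT : T ^ k = 1) (hns : ¬ ∃ ω : ℂ, T = ω • LinearMap.id) :
    ∃ (a b : ℂ) (va vb : V), a ≠ b ∧ va ≠ 0 ∧ vb ≠ 0 ∧ T va = a • va ∧ T vb = b • vb ∧
      ∀ (v : V) (c : ℂ), v ≠ 0 → T v = c • v → (∃ t : ℂ, v = t • va) ∨ (∃ t : ℂ, v = t • vb) := by
  haveI : Nontrivial V := Module.nontrivial_of_finrank_pos (R := ℂ) (by rw [h2]; norm_num)
  have hss : Module.End.IsSemisimple T := by
    apply Module.End.isSemisimple_of_squarefree_aeval_eq_zero (p := (X ^ k - 1 : ℂ[X]))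
    · apply Polynomial.Separable.squarefree
      exact Polynomial.separable_X_pow_sub_C 1 (by exact_mod_cast hk.ne') one_ne_zero
    · simp only [map_sub, map_pow, aeval_X, map_one]
      rw [hT, sub_self]
  have htop := hss.iSup_eigenspace_eq_top
  obtain ⟨a, ha⟩ := Module.End.exists_eigenvalue T
  obtain ⟨va, hva⟩ := ha.exists_hasEigenvector
  have hb : ∃ b : ℂ, b ≠ a ∧ Module.End.HasEigenvalue T b := by
    by_contra hcon
    push Not at hcon
    apply hns
    refine ⟨a, ?_⟩
    have h1 : Module.End.eigenspace T a = ⊤ := by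
      rw [← htop]
      apply le_antisymm
      · exact le_iSup (fun μ => Module.End.eigenspace T μ) a
      · apply iSup_le
        intro μ
        by_cases hμ : μ = a
        · rw [hμ]
        · have h5 : Module.End.eigenspace T μ = ⊥ := by
            by_contra hne
            exact hcon μ hμ hne
          rw [h5]
          exact bot_le
    apply LinearMap.ext
    intro v
    have h5 : v ∈ Module.End.eigenspace T a := by rw [h1]; trivial
    rw [Module.End.mem_eigenspace_iff] at h5
    rw [h5]
    simp
  obtain ⟨b, hba, hb⟩ := hb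
  obtain ⟨vb, hvb⟩ := hb.exists_hasEigenvector
  have hTa : T va = a • va := hva.apply_eq_smul
  have hTb : T vb = b • vb := hvb.apply_eq_smul
  have hva0 : va ≠ 0 := hva.2
  have hvb0 : vb ≠ 0 := hvb.2
  -- linear independence
  have hli : ∀ s t : ℂ, s • va + t • vb = 0 → s = 0 ∧ t = 0 := by
    intro s t hst
    have h5 : T (s • va + t • vb) = 0 := by rw [hst, map_zero]
    rw [map_add, map_smul, map_smul, hTa, hTb] at h5
    have h6 : ((b - a) * t) • vb = 0 := by
      have h7 : (s • a • va + t • b • vb) - a • (s • va + t • vb) = 0 := by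
        rw [h5, hst, smul_zero, sub_zero]
      have h8 : (s • a • va + t • b • vb) - a • (s • va + t • vb) = ((b - a) * t) • vb := by
        rw [smul_add, smul_smul, smul_smul, smul_smul, smul_smul, sub_mul, sub_smul]
        rw [mul_comm s a, mul_comm t b]
        abel
      rw [← h8]; exact h7
    have h7 : (b - a) * t = 0 := by
      rcases smul_eq_zero.mp h6 with h | h
      · exact h
      · exact absurd h hvb0
    have ht : t = 0 := by
      rcases mul_eq_zero.mp h7 with h | h
      · exact absurd (sub_eq_zero.mp h) hba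
      · exact h
    rw [ht, zero_smul, add_zero] at hst
    have hs : s = 0 := by
      rcases smul_eq_zero.mp hst with h | h
      · exact h
      · exact absurd h hva0
    exact ⟨hs, ht⟩
  have hlin : LinearIndependent ℂ ![va, vb] := by
    rw [LinearIndependent.pair_iff]
    exact hli
  have hspan : Submodule.span ℂ (Set.range ![va, vb]) = ⊤ := by
    apply hlin.span_eq_top_of_card_eq_finrank'
    rw [h2]
    simp
  refine ⟨a, b, va, vb, hba.symm, hva0, hvb0, hTa, hTb, ?_⟩
  intro v c hv hTv
  have hvmem : v ∈ Submodule.span ℂ (Set.range ![va, vb]) := by rw [hspan]; trivial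
  rw [Submodule.mem_span_range_iff_exists_fun] at hvmem
  obtain ⟨f, hf⟩ := hvmem
  rw [Fin.sum_univ_two] at hf
  simp only [Matrix.cons_val_zero, Matrix.cons_val_one] at hf
  obtain ⟨s, hs⟩ : ∃ s : ℂ, s = f 0 := ⟨_, rfl⟩
  obtain ⟨t, ht⟩ : ∃ t : ℂ, t = f 1 := ⟨_, rfl⟩
  rw [← hs, ← ht] at hf
  have h5 : T v = (s * a) • va + (t * b) • vb := by
    rw [← hf, map_add, map_smul, map_smul, hTa, hTb, smul_smul, smul_smul]
  have h6 : c • v = (c * s) • va + (c * t) • vb := by
    rw [← hf, smul_add, smul_smul, smul_smul]
  rw [h5, h6] at hTv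
  have h7 : (s * a - c * s) • va + (t * b - c * t) • vb = 0 := by
    rw [sub_smul, sub_smul]
    have : (s * a) • va - (c * s) • va + ((t * b) • vb - (c * t) • vb)
        = ((s * a) • va + (t * b) • vb) - ((c * s) • va + (c * t) • vb) := by abel
    rw [this, hTv, sub_self]
  obtain ⟨h8, h9⟩ := hli _ _ h7
  by_cases hs0 : s = 0
  · right
    refine ⟨t, ?_⟩
    rw [← hf, hs0, zero_smul, zero_add]
  · left
    refine ⟨s, ?_⟩
    have hca : c = a := by
      have : s * (a - c) = 0 := by rw [mul_sub]; rw [← h8]; ring
      rcases mul_eq_zero.mp this with h | h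
      · exact absurd h hs0
      · exact (sub_eq_zero.mp h).symm
    have ht0 : t = 0 := by
      by_contra ht0
      have : t * (b - c) = 0 := by rw [mul_sub]; rw [← h9]; ring
      rcases mul_eq_zero.mp this with h | h
      · exact ht0 h
      · have hcb : c = b := (sub_eq_zero.mp h).symm
        exact hba (hcb.symm.trans hca)
    rw [← hf, ht0, zero_smul, add_zero]

end PD2

end Cfsg.Agent.helper22
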