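import Mathlib
import Cfsg.Agent.Lib_helper22_PD2

set_option autoImplicit false
set_option linter.unusedSectionVars false
set_option linter.unusedVariables false
set_option linter.style.haveILetI false
set_option linter.style.longLine false

/-!
helper22: primitive linear groups of degree two: the counting of poles.
Part 3: the action on the projective line and the application of the counting lemma.
-/

namespace Cfsg.Agent.helper22

open scoped LinearAlgebra.Projectivization

section PD3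
variable {G : Type*} [Group G] {V : Type*} [AddCommGroup V] [Module ℂ V]

theorem pd_rho_inv_apply (ρ : Representation ℂ G V) (g : G) (u : V) : ρ g⁻¹ (ρ g u) = u := by
  rw [← Module.End.mul_apply, ← map_mul, inv_mul_cancel, map_one, Module.End.one_apply]

theorem pd_rho_inj (ρ : Representation ℂ G V) (g : G) : Function.Injective (ρ g) := by
  intro v w h
  rw [← pd_rho_inv_apply ρ g v, h, pd_rho_inv_apply ρ g w]

theorem pd_rho_ne_zero (ρ : Representation ℂ G V) (g : G) {v : V} (hv : v ≠ 0) : ρ g v ≠ 0 := by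
  intro h
  apply hv
  apply pd_rho_inj ρ g
  rw [h, map_zero]

/-- the action of the group on the projective space of a representation -/
noncomputable def pdAction (ρ : Representation ℂ G V) : MulAction G (ℙ ℂ V) where
  smul g x := Projectivization.map (ρ g) (pd_rho_inj ρ g) x
  one_smul x := by
    induction x using Projectivization.ind with
    | h v hv =>
      show Projectivization.map (ρ 1) (pd_rho_inj ρ 1) (Projectivization.mk ℂ v hv) = _
      rw [Projectivization.map_mk, Projectivization.mk_eq_mk_iff']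
      exact ⟨1, by rw [one_smul, map_one, Module.End.one_apply]⟩
  mul_smul g h x := by
    induction x using Projectivization.ind with
    | h v hv =>
      show Projectivization.map (ρ (g * h)) (pd_rho_inj ρ (g * h)) (Projectivization.mk ℂ v hv) =
        Projectivization.map (ρ g) (pd_rho_inj ρ g)
          (Projectivization.map (ρ h) (pd_rho_inj ρ h) (Projectivization.mk ℂ v hv))
      rw [Projectivization.map_mk, Projectivization.map_mk, Projectivization.map_mk,
        Projectivization.mk_eq_mk_iff']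
      exact ⟨1, by rw [one_smul, map_mul, Module.End.mul_apply]⟩

theorem pdAction_smul_mk (ρ : Representation ℂ G V) (g : G) (v : V) (hv : v ≠ 0) :
    letI := pdAction ρ
    g • Projectivization.mk ℂ v hv = Projectivization.mk ℂ (ρ g v) (pd_rho_ne_zero ρ g hv) := rfl

variable (ρ : Representation ℂ G V) [MulAction G (ℙ ℂ V)]
  (hsm : ∀ (g : G) (v : V) (hv : v ≠ 0), g • Projectivization.mk ℂ v hv =
    Projectivization.mk ℂ (ρ g v) (pd_rho_ne_zero ρ g hv))

include hsm in
theorem pd_fixed_iff (g : G) (v : V) (hv : v ≠ 0) :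
    g • Projectivization.mk ℂ v hv = Projectivization.mk ℂ v hv ↔ ∃ c : ℂ, ρ g v = c • v := by
  rw [hsm, Projectivization.mk_eq_mk_iff']
  constructor
  · rintro ⟨a, ha⟩; exact ⟨a, ha.symm⟩
  · rintro ⟨a, ha⟩; exact ⟨a, ha.symm⟩

include hsm in
theorem pd_two_fixed [FiniteDimensional ℂ V] [Finite G] (h2 : Module.finrank ℂ V = 2) (g : G)
    (hns : ¬ ∃ ω : ℂ, ρ g = ω • LinearMap.id) :
    ∃ pa pb : ℙ ℂ V, pa ≠ pb ∧ ∀ x : ℙ ℂ V, g • x = x ↔ (x = pa ∨ x = pb) := by
  have hpow : (ρ g) ^ (orderOf g) = 1 := by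
    rw [← map_pow, pow_orderOf_eq_one, map_one]
  obtain ⟨a, b, va, vb, hab, hva, hvb, hTa, hTb, hall⟩ :=
    pd_two_eigen (ρ g) h2 (orderOf g) (orderOf_pos g) hpow hns
  refine ⟨Projectivization.mk ℂ va hva, Projectivization.mk ℂ vb hvb, ?_, ?_⟩
  · intro heq
    rw [Projectivization.mk_eq_mk_iff'] at heq
    obtain ⟨t, ht⟩ := heq
    apply hab
    have h1 : ρ g va = b • va := by
      rw [← ht, map_smul, hTb, smul_comm]
    rw [hTa] at h1
    have h3 : (a - b) • va = 0 := by rw [sub_smul, h1, sub_self]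
    rcases smul_eq_zero.mp h3 with h4 | h4
    · exact sub_eq_zero.mp h4
    · exact absurd h4 hva
  · intro x
    induction x using Projectivization.ind with
    | h v hv =>
      rw [pd_fixed_iff ρ hsm, Projectivization.mk_eq_mk_iff', Projectivization.mk_eq_mk_iff']
      constructor
      · rintro ⟨c, hc⟩
        rcases hall v c hv hc with ⟨t, ht⟩ | ⟨t, ht⟩
        · left; exact ⟨t, ht.symm⟩
        · right; exact ⟨t, ht.symm⟩
      · rintro (⟨t, ht⟩ | ⟨t, ht⟩)
        · refine ⟨a, ?_⟩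
          rw [← ht, map_smul, hTa, smul_comm]
        · refine ⟨b, ?_⟩
          rw [← ht, map_smul, hTb, smul_comm]

include hsm in
theorem pd_main_abs [Fintype G] [FiniteDimensional ℂ V] (h2 : Module.finrank ℂ V = 2)
    (hcen : ∀ g : G, (∃ ω : ℂ, ρ g = ω • LinearMap.id) ↔ g ∈ Subgroup.center G)
    (hirr : ∀ v : V, v ≠ 0 → ¬ ∀ g : G, ∃ c : ℂ, ρ g v = c • v)
    (hprim : ∀ v : V, v ≠ 0 → ∀ H : Subgroup G, H.index = 2 →
      ¬ ∀ h ∈ H, ∃ c : ℂ, ρ h v = c • v) :
    (Subgroup.center G).index = 12 ∨ (Subgroup.center G).index = 24 ∨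
      (Subgroup.center G).index = 60 := by
  classical
  obtain ⟨S, hSdef⟩ : ∃ S : Set (ℙ ℂ V),
      S = {x | ∃ g : G, g ∉ Subgroup.center G ∧ g • x = x} := ⟨_, rfl⟩
  have hSmem : ∀ x, x ∈ S ↔ ∃ g : G, g ∉ Subgroup.center G ∧ g • x = x := by
    intro x; rw [hSdef]; rfl
  have hSfin : S.Finite := by
    have hsub : S ⊆ ⋃ g : {g : G // g ∉ Subgroup.center G}, {x : ℙ ℂ V | (g : G) • x = x} := by
      intro x hx
      obtain ⟨g, hg, hx⟩ := (hSmem x).mp hx
      exact Set.mem_iUnion.mpr ⟨⟨g, hg⟩, hx⟩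
    apply Set.Finite.subset _ hsub
    apply Set.finite_iUnion
    rintro ⟨g, hg⟩
    obtain ⟨pa, pb, -, hall⟩ := pd_two_fixed ρ hsm h2 g (fun h => hg ((hcen g).mp h))
    apply Set.Finite.subset (Set.toFinite {pa, pb})
    intro x hx
    rcases (hall x).mp hx with h | h
    · rw [h]; exact Set.mem_insert _ _
    · rw [h]; exact Set.mem_insert_of_mem _ rfl
  obtain ⟨X, hXdef⟩ : ∃ X : SubMulAction G (ℙ ℂ V), ∀ x, x ∈ X ↔ x ∈ S := by
    refine ⟨{ carrier := S, smul_mem' := ?_ }, fun x => Iff.rfl⟩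
    intro h x hx
    obtain ⟨g, hg, hx⟩ := (hSmem x).mp hx
    refine (hSmem _).mpr ⟨h * g * h⁻¹, ?_, ?_⟩
    · intro hc
      apply hg
      have h1 := (inferInstance : (Subgroup.center G).Normal).conj_mem _ hc h⁻¹
      simpa [mul_assoc] using h1
    · rw [mul_smul, mul_smul, inv_smul_smul, hx]
  haveI : Finite ↥X := by
    have : Finite ↥S := hSfin.to_subtype
    exact Finite.of_injective (fun x : ↥X => (⟨x.1, (hXdef _).mp x.2⟩ : ↥S))
      (fun a b hab => Subtype.ext (by
        have h5 := congrArg Subtype.val hab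
        exact h5))
  haveI : Fintype ↥X := Fintype.ofFinite _
  have hfixX : ∀ (g : G) (x : ↥X), g • x = x ↔ g • (x : ℙ ℂ V) = (x : ℙ ℂ V) := by
    intro g x
    rw [Subtype.ext_iff, SubMulAction.val_smul]
  have hrep : ∀ x : ℙ ℂ V, ∃ (v : V) (hv : v ≠ 0), x = Projectivization.mk ℂ v hv :=
    fun x => ⟨x.rep, x.rep_nonzero, (Projectivization.mk_rep x).symm⟩
  apply pd_count (X := ↥X) (Subgroup.center G)
  · -- central elements fix everything
    intro g hg x
    rw [hfixX]
    obtain ⟨v, hv, hx⟩ := hrep (x : ℙ ℂ V)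
    rw [hx, pd_fixed_iff ρ hsm]
    obtain ⟨ω, hω⟩ := (hcen g).mpr hg
    exact ⟨ω, by rw [hω]; rfl⟩
  · -- two fixed points
    intro g hg
    obtain ⟨pa, pb, hab, hall⟩ := pd_two_fixed ρ hsm h2 g (fun h => hg ((hcen g).mp h))
    have hpa : pa ∈ X := (hXdef _).mpr ((hSmem _).mpr ⟨g, hg, (hall pa).mpr (Or.inl rfl)⟩)
    have hpb : pb ∈ X := (hXdef _).mpr ((hSmem _).mpr ⟨g, hg, (hall pb).mpr (Or.inr rfl)⟩)
    have hset : MulAction.fixedBy ↥X g = {⟨pa, hpa⟩, ⟨pb, hpb⟩} := by
      ext x
      rw [MulAction.mem_fixedBy, hfixX, hall, Set.mem_insert_iff, Set.mem_singleton_iff,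
        Subtype.ext_iff, Subtype.ext_iff]
    rw [hset, Nat.card_coe_set_eq, Set.ncard_pair]
    intro h
    exact hab (congrArg Subtype.val h)
  · -- every point is a pole
    intro x
    obtain ⟨g, hg, hx⟩ := (hSmem _).mp ((hXdef _).mp x.2)
    exact ⟨g, hg, (hfixX g x).mpr hx⟩
  · -- no invariant line
    intro x htop
    obtain ⟨v, hv, hx⟩ := hrep (x : ℙ ℂ V)
    apply hirr v hv
    intro g
    have h1 : g ∈ MulAction.stabilizer G x := by rw [htop]; trivial
    rw [MulAction.mem_stabilizer_iff, hfixX, hx, pd_fixed_iff ρ hsm] at h1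
    exact h1
  · -- no line with stabilizer of index two
    intro x hidx
    obtain ⟨v, hv, hx⟩ := hrep (x : ℙ ℂ V)
    apply hprim v hv _ hidx
    intro g hg
    rw [MulAction.mem_stabilizer_iff, hfixX, hx, pd_fixed_iff ρ hsm] at hg
    exact hg
  · -- the centre is proper
    intro htop
    haveI : Nontrivial V := Module.nontrivial_of_finrank_pos (R := ℂ) (by rw [h2]; norm_num)
    obtain ⟨v, hv⟩ := exists_ne (0 : V)
    apply hirr v hv
    intro g
    obtain ⟨ω, hω⟩ := (hcen g).mpr (by rw [htop]; trivial)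
    exact ⟨ω, by rw [hω]; rfl⟩

/-- the counting of poles for a two-dimensional representation -/
theorem pd_main {G : Type*} [Group G] [Fintype G] {V : Type*} [AddCommGroup V] [Module ℂ V]
    [FiniteDimensional ℂ V] (ρ : Representation ℂ G V) (h2 : Module.finrank ℂ V = 2)
    (hcen : ∀ g : G, (∃ ω : ℂ, ρ g = ω • LinearMap.id) ↔ g ∈ Subgroup.center G)
    (hirr : ∀ v : V, v ≠ 0 → ¬ ∀ g : G, ∃ c : ℂ, ρ g v = c • v)
    (hprim : ∀ v : V, v ≠ 0 → ∀ H : Subgroup G, H.index = 2 →
      ¬ ∀ h ∈ H, ∃ c : ℂ, ρ h v = c • v) :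
    (Subgroup.center G).index = 12 ∨ (Subgroup.center G).index = 24 ∨
      (Subgroup.center G).index = 60 :=
  @pd_main_abs G _ V _ _ ρ (pdAction ρ) (fun g v hv => pdAction_smul_mk ρ g v hv) _ _ h2 hcen
    hirr hprim

end PD3

end Cfsg.Agent.helper22
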