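import Mathlib
import Cfsg.Agent.Lib_helper22_PD3
import Cfsg.Agent.Lib_helper22_MGroup
import Cfsg.Agent.Lib_helper24_CharKer
import Cfsg.Agent.Lib_helper24_CharCentral
import Cfsg.Agent.Lib_helper1_PrimeDeg
import Cfsg.Agent.Lib_helper23_Schur
import Cfsg.Agent.Lib_helper12_CharOps

set_option autoImplicit false
set_option linter.unusedSectionVars false
set_option linter.unusedVariables false
set_option linter.style.haveILetI false
set_option linter.style.longLine false

/-!
helper22: primitive linear groups of degree two: the counting of poles.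
Part 4: the character theoretic input.
-/

namespace Cfsg.Agent.helper22

open Cfsg
open scoped ComplexConjugate

universe u

section PD4
variable {G : Type u} [Group G] [Fintype G]

/-- a line invariant under a subgroup gives a linear constituent of the restriction -/
theorem pd_line_char {n : ℕ} (ρ : Representation ℂ G (Fin n → ℂ)) (H : Subgroup G) [Fintype H]
    (v : Fin n → ℂ) (hv : v ≠ 0) (hH : ∀ h ∈ H, ∃ c : ℂ, ρ h v = c • v) :
    ∃ θ : H →* ℂ, classInner (helper5.res H ρ.character) (θ : H → ℂ) ≠ 0 := by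
  classical
  obtain ⟨i, hi⟩ : ∃ i, v i ≠ 0 := by
    by_contra hcon
    push Not at hcon
    exact hv (funext hcon)
  have hlam : ∀ h : H, ρ (h : G) v = ((ρ (h : G) v) i / v i) • v := by
    intro h
    obtain ⟨c, hc⟩ := hH h h.2
    have : (ρ (h : G) v) i / v i = c := by
      rw [hc, Pi.smul_apply, smul_eq_mul, mul_div_assoc, div_self hi, mul_one]
    rw [this, hc]
  let θ : H →* ℂ :=
    { toFun := fun h => (ρ (h : G) v) i / v i
      map_one' := by
        show (ρ ((1 : H) : G) v) i / v i = 1
        rw [Subgroup.coe_one, map_one, Module.End.one_apply, div_self hi]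
      map_mul' := fun h k => by
        show (ρ ((h * k : H) : G) v) i / v i = (ρ (h : G) v) i / v i * ((ρ (k : G) v) i / v i)
        rw [Subgroup.coe_mul, map_mul, Module.End.mul_apply]
        conv_lhs => rw [hlam k, map_smul, hlam h]
        rw [Pi.smul_apply, Pi.smul_apply, smul_eq_mul, smul_eq_mul]
        field_simp }
  have hθ : ∀ h : H, ρ (h : G) v = θ h • v := hlam
  have hne : ∀ h : H, θ h ≠ 0 := fun h => ((Group.isUnit h).map θ).ne_zero
  have hconj : ∀ h : H, conj (θ h) = (θ h)⁻¹ := by
    intro h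
    have h1 := helper24.hom_mul_conj θ.toHomUnits h
    rw [MonoidHom.coe_toHomUnits] at h1
    exact eq_inv_of_mul_eq_one_right h1
  refine ⟨θ, ?_⟩
  obtain ⟨Q, hQ⟩ : ∃ Q : Module.End ℂ (Fin n → ℂ), Q = ∑ h : H, (θ h)⁻¹ • ρ (h : G) := ⟨_, rfl⟩
  have hcard : (Nat.card H : ℂ) ≠ 0 := by exact_mod_cast (Nat.card_pos (α := H)).ne'
  have hcardF : (Fintype.card H : ℂ) = (Nat.card H : ℂ) := by rw [Nat.card_eq_fintype_card]
  have hkQ : ∀ k : H, ρ (k : G) * Q = θ k • Q := by
    intro k
    rw [hQ, Finset.mul_sum, Finset.smul_sum]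
    rw [← Equiv.sum_comp (Equiv.mulLeft k) (fun h => θ k • (θ h)⁻¹ • ρ (h : G))]
    apply Finset.sum_congr rfl
    intro h _
    rw [Equiv.coe_mulLeft, mul_smul_comm, ← map_mul, smul_smul, map_mul θ, Subgroup.coe_mul]
    congr 1
    have hk0 := hne k
    have hh0 := hne h
    field_simp
  have hQQ : Q * Q = (Nat.card H : ℂ) • Q := by
    have h1 : Q * Q = (∑ h : H, (θ h)⁻¹ • ρ (h : G)) * Q := by rw [← hQ]
    rw [h1, Finset.sum_mul]
    have : ∀ h : H, ((θ h)⁻¹ • ρ (h : G)) * Q = Q := by
      intro h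
      rw [smul_mul_assoc, hkQ h, smul_smul, inv_mul_cancel₀ (hne h), one_smul]
    rw [Finset.sum_congr rfl (fun h _ => this h), Finset.sum_const, Finset.card_univ,
      ← hcardF, Nat.cast_smul_eq_nsmul]
  have hQv : Q v = (Nat.card H : ℂ) • v := by
    rw [hQ, LinearMap.sum_apply]
    have : ∀ h : H, ((θ h)⁻¹ • ρ (h : G)) v = v := by
      intro h
      rw [LinearMap.smul_apply, hθ h, smul_smul, inv_mul_cancel₀ (hne h), one_smul]
    rw [Finset.sum_congr rfl (fun h _ => this h), Finset.sum_const, Finset.card_univ,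
      ← hcardF, Nat.cast_smul_eq_nsmul]
  have htrQ : LinearMap.trace ℂ (Fin n → ℂ) Q = ∑ h : H, ρ.character (h : G) * conj (θ h) := by
    rw [hQ, map_sum]
    apply Finset.sum_congr rfl
    intro h _
    rw [map_smul, smul_eq_mul, hconj h, mul_comm]
    rfl
  obtain ⟨P, hP⟩ : ∃ P : Module.End ℂ (Fin n → ℂ), P = (Nat.card H : ℂ)⁻¹ • Q := ⟨_, rfl⟩
  have hidem : IsIdempotentElem P := by
    show P * P = P
    rw [hP, smul_mul_smul_comm, hQQ, smul_smul, mul_assoc, inv_mul_cancel₀ hcard, mul_one]
  have hPv : P v = v := by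
    rw [hP, LinearMap.smul_apply, hQv, smul_smul, inv_mul_cancel₀ hcard, one_smul]
  have htrP : LinearMap.trace ℂ (Fin n → ℂ) P = classInner (helper5.res H ρ.character) (θ : H → ℂ) := by
    rw [hP, map_smul, htrQ, smul_eq_mul]
    rfl
  rw [← htrP]
  obtain ⟨p, hp⟩ := (LinearMap.isProj_iff_isIdempotentElem P).mpr hidem
  rw [hp.trace]
  have hvp : v ∈ p := by
    have := hp.map_mem v
    rwa [hPv] at this
  have hpne : p ≠ ⊥ := by
    intro h
    rw [h, Submodule.mem_bot] at hvp
    exact hv hvp
  have hfr : Module.finrank ℂ p ≠ 0 := by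
    intro h
    exact hpne (Submodule.finrank_eq_zero.mp h)
  exact_mod_cast hfr

/-- primitive faithful irreducible characters of degree two -/
theorem pd_final (χ : IrrCharacter G)
    (hfaith : ∀ g : G, (χ : G → ℂ) g = (χ : G → ℂ) 1 → g = 1)
    (h2 : charDegree (χ : G → ℂ) = 2)
    (hprim : ∀ H : Subgroup G, H ≠ ⊤ → ∀ θ : H → ℂ, IsCharacter H θ →
      (χ : G → ℂ) ≠ indFun H θ) :
    (Subgroup.center G).index = 12 ∨ (Subgroup.center G).index = 24 ∨
      (Subgroup.center G).index = 60 := by
  classical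
  obtain ⟨n, ρ, hirr, hχ⟩ := χ.2
  have h1 : (χ : G → ℂ) 1 = (n : ℂ) := by rw [← hχ]; simp
  have hn : n = 2 := by
    have := helper24.charDegree_natCast (χ : G → ℂ) n h1
    omega
  subst hn
  have hinj : Function.Injective ρ := by
    intro a b hab
    have h3 : ρ (a * b⁻¹) = 1 := by
      rw [map_mul, hab, ← map_mul, mul_inv_cancel, map_one]
    have h4 := (helper24.rep_char_eq_degree_iff ρ (a * b⁻¹)).mpr h3
    have h5 : a * b⁻¹ = 1 := by
      apply hfaith
      rw [h1, ← hχ]; exact h4
    exact mul_inv_eq_one.mp h5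
  apply pd_main ρ (by simp)
  · intro g
    constructor
    · rintro ⟨ω, hω⟩
      exact helper1.mem_center_of_scalar ρ hinj g ω hω
    · intro hg
      exact helper23.exists_scalar_of_commute ρ hirr g
        (fun x => Subgroup.mem_center_iff.mp hg x)
  · -- no invariant line
    intro v hv hall
    let W : Subrepresentation ρ := ⟨Submodule.span ℂ {v}, fun g w hw => by
      obtain ⟨t, rfl⟩ := Submodule.mem_span_singleton.mp hw
      obtain ⟨c, hc⟩ := hall g
      rw [map_smul, hc, smul_comm]
      exact Submodule.smul_mem _ _ (Submodule.smul_mem _ _ (Submodule.mem_span_singleton_self v))⟩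
    have hW : W.toSubmodule = Submodule.span ℂ {v} := rfl
    rcases hirr.eq_bot_or_eq_top W with h | h
    · have h5 : W.toSubmodule = (⊥ : Submodule ℂ (Fin 2 → ℂ)) := by rw [h]; rfl
      rw [hW, Submodule.span_singleton_eq_bot] at h5
      exact hv h5
    · have h5 : W.toSubmodule = (⊤ : Submodule ℂ (Fin 2 → ℂ)) := by rw [h]; rfl
      rw [hW] at h5
      have h6 := finrank_span_singleton (K := ℂ) hv
      rw [h5, finrank_top] at h6
      simp at h6
  · intro v hv H hidx hall
    haveI : Fintype H := Fintype.ofFinite _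
    obtain ⟨θ, hθ⟩ := pd_line_char ρ H v hv hall
    have hθc : IsCharacter H (θ : H → ℂ) := helper12.isCharacter_of_monoidHom θ
    have hne : H ≠ ⊤ := by
      intro h; rw [h, Subgroup.index_top] at hidx; omega
    apply hprim H hne θ hθc
    symm
    apply indFun_eq_of_degree H χ.2 hθc
    · rw [← hχ]; exact hθ
    · rw [h2, hidx, helper24.charDegree_natCast (θ : H → ℂ) 1 (by simp)]

end PD4

end Cfsg.Agent.helper22
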