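import Mathlib
import Cfsg.Agent.Lib_helper22_PSing1
import Cfsg.Agent.Lib_helper15_AG4
import Cfsg.Agent.Lib_helper15_SylCtl
import Cfsg.Agent.Lib_helper18_ClassGraph
import Cfsg.Agent.Lib_helper20_Class
import Cfsg.Agent.Lib_helper24_ItoMichler

set_option autoImplicit false
set_option linter.unusedSectionVars false
set_option linter.unusedVariables false
set_option linter.style.longLine false

/-!
helper22: classes of size prime to `p` when a Sylow `p`-subgroup is central in its normalizer,
and the count of `p`-singular classes and characters in a group with a normal `p`-complement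
and abelian Sylow `p`-subgroup.
-/

namespace Cfsg.Agent.helper22

open Cfsg
open scoped ComplexConjugate

universe u

section PSing2

theorem card_carrier_eq_index {G : Type u} [Group G] [Finite G] (x : G) :
    Nat.card (ConjClasses.mk x).carrier = (Subgroup.centralizer ({x} : Set G)).index := by
  rw [Nat.card_coe_set_eq]
  exact helper20.ncard_carrier_eq_index x

/-- Burnside: if a `p`-subgroup `H` of index prime to `p` is central in its normalizer, the
classes of `G` of size prime to `p` correspond to the classes of `N_G(H)` -/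
theorem card_pprime_classes {G : Type u} [Group G] [Finite G] (p : ℕ) [Fact p.Prime]
    (H : Subgroup G) (hH : IsPGroup p H) (hidx : ¬ p ∣ H.index)
    (hNC : Subgroup.normalizer (H : Set G) ≤ Subgroup.centralizer (H : Set G)) :
    Nat.card {C : ConjClasses G // ¬ p ∣ Nat.card C.carrier} =
      Nat.card (ConjClasses (Subgroup.normalizer (H : Set G))) := by
  classical
  obtain ⟨X, hX⟩ : ∃ X : Subgroup G, X = Subgroup.normalizer (H : Set G) := ⟨_, rfl⟩
  rw [← hX]
  have hXC : X ≤ Subgroup.centralizer (H : Set G) := by rw [hX]; exact hNC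
  have hHX : H ≤ X := by rw [hX]; exact Subgroup.le_normalizer
  have hcent : ∀ x ∈ X, H ≤ Subgroup.centralizer ({x} : Set G) := by
    intro x hx h hh
    rw [Subgroup.mem_centralizer_iff]
    intro y hy
    rw [Set.mem_singleton_iff] at hy
    rw [hy]
    exact ((Subgroup.mem_centralizer_iff.mp (hXC hx)) h hh).symm
  have hwd : ∀ c : ConjClasses X, ¬ p ∣ Nat.card (ConjClasses.map X.subtype c).carrier := by
    intro c
    obtain ⟨x, rfl⟩ := ConjClasses.exists_rep c
    have : ConjClasses.map X.subtype (ConjClasses.mk x) = ConjClasses.mk (x : G) := rfl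
    rw [this, card_carrier_eq_index]
    intro hdvd
    exact hidx (hdvd.trans (Subgroup.index_dvd_of_le (hcent x x.2)))
  symm
  apply Nat.card_congr
  refine Equiv.ofBijective (fun c => ⟨ConjClasses.map X.subtype c, hwd c⟩) ⟨?_, ?_⟩
  · intro c c' hcc
    obtain ⟨x, rfl⟩ := ConjClasses.exists_rep c
    obtain ⟨x', rfl⟩ := ConjClasses.exists_rep c'
    have h1 : ConjClasses.mk (x : G) = ConjClasses.mk (x' : G) := congrArg Subtype.val hcc
    rw [ConjClasses.mk_eq_mk_iff_isConj, isConj_iff] at h1
    obtain ⟨g, hg⟩ := h1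
    -- the conjugate `g H g⁻¹`
    obtain ⟨E, hE⟩ : ∃ E : Subgroup G, E = Cfsg.subgroupConjRight g⁻¹ H := ⟨_, rfl⟩
    have hmemE : ∀ y, y ∈ E ↔ g⁻¹ * y * g ∈ H := by
      intro y
      rw [hE, helper15.mem_subgroupConjRight, inv_inv]
    have hEp : IsPGroup p E := by
      rw [hE]
      unfold Cfsg.subgroupConjRight
      exact hH.map _
    have hEC : E ≤ Subgroup.centralizer ({(x' : G)} : Set G) := by
      intro e he
      rw [Subgroup.mem_centralizer_iff]
      intro y hy
      rw [Set.mem_singleton_iff] at hy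
      rw [hy]
      have h2 := (Subgroup.mem_centralizer_iff.mp (hXC x.2)) _ ((hmemE e).mp he)
      -- h2 : (g⁻¹ e g) * x = x * (g⁻¹ e g)
      rw [← hg]
      calc g * (x : G) * g⁻¹ * e = g * ((x : G) * (g⁻¹ * e * g)) * g⁻¹ := by group
        _ = g * ((g⁻¹ * e * g) * (x : G)) * g⁻¹ := by rw [h2]
        _ = e * (g * (x : G) * g⁻¹) := by group
    have hrel : ¬ p ∣ H.relIndex (Subgroup.centralizer ({(x' : G)} : Set G)) := by
      intro hdvd
      exact hidx (hdvd.trans (Subgroup.relIndex_dvd_index_of_le (hcent x' x'.2)))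
    obtain ⟨a, ha, hale⟩ := helper15.exists_conj_le_of_relIndex
      (Subgroup.centralizer ({(x' : G)} : Set G)) H E hH hrel hEp hEC
    have hcardE : Nat.card E = Nat.card H := by
      rw [hE]
      unfold Cfsg.subgroupConjRight
      exact Subgroup.card_map_of_injective (MulEquiv.injective _)
    have hcardA : Nat.card (Cfsg.subgroupConjRight a E) = Nat.card E := by
      unfold Cfsg.subgroupConjRight
      exact Subgroup.card_map_of_injective (MulEquiv.injective _)
    have heq : Cfsg.subgroupConjRight a E = H :=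
      Subgroup.eq_of_le_of_card_ge hale (by rw [hcardA, hcardE])
    -- `u = g⁻¹ a` normalizes `H`
    have hu : ∀ y, y ∈ H ↔ (g⁻¹ * a) * y * (g⁻¹ * a)⁻¹ ∈ H := by
      intro y
      rw [← heq, helper15.mem_subgroupConjRight, hmemE, heq]
      have : g⁻¹ * (a * y * a⁻¹) * g = (g⁻¹ * a) * y * (g⁻¹ * a)⁻¹ := by group
      rw [this]
    have huX : g⁻¹ * a ∈ X := by
      rw [hX, Subgroup.mem_normalizer_iff]
      exact hu
    have hax : a * (x' : G) = (x' : G) * a := by
      have := (Subgroup.mem_centralizer_iff.mp ha) (x' : G) rfl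
      exact this.symm
    have hconj : (g⁻¹ * a) * (x' : G) * (g⁻¹ * a)⁻¹ = (x : G) := by
      have h3 : a * (x' : G) * a⁻¹ = (x' : G) := by rw [hax]; group
      calc (g⁻¹ * a) * (x' : G) * (g⁻¹ * a)⁻¹ = g⁻¹ * (a * (x' : G) * a⁻¹) * g := by group
        _ = g⁻¹ * (x' : G) * g := by rw [h3]
        _ = g⁻¹ * (g * (x : G) * g⁻¹) * g := by rw [hg]
        _ = (x : G) := by group
    rw [ConjClasses.mk_eq_mk_iff_isConj, isConj_comm, isConj_iff]
    refine ⟨⟨g⁻¹ * a, huX⟩, ?_⟩
    apply Subtype.ext
    exact hconj
  · rintro ⟨C, hC⟩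
    obtain ⟨g, rfl⟩ := ConjClasses.exists_rep C
    rw [card_carrier_eq_index] at hC
    obtain ⟨y, hy⟩ := helper18.CG.exists_conj_mem_centralizer H hH g hC
    have hyX : y * g * y⁻¹ ∈ X := by
      rw [hX]
      exact Subgroup.centralizer_le_normalizer _ hy
    refine ⟨ConjClasses.mk ⟨y * g * y⁻¹, hyX⟩, ?_⟩
    apply Subtype.ext
    show ConjClasses.mk (y * g * y⁻¹) = ConjClasses.mk g
    rw [ConjClasses.mk_eq_mk_iff_isConj, isConj_comm, isConj_iff]
    exact ⟨y, rfl⟩

/-- in `G = N ⋊ H` with `N` a normal `p'`-subgroup and `H` an abelian `p`-group, the number of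
classes of size divisible by `p` equals the number of irreducible characters of degree divisible
by `p` -/
theorem card_psingular_classes_eq {G : Type u} [Group G] [Fintype G] (p : ℕ) [Fact p.Prime]
    (N H : Subgroup G) [hNn : N.Normal] (hKH : N ⊔ H = ⊤) (hN : (Nat.card N).Coprime p) {k : ℕ}
    (hk : k ≠ 0) (hHc : Nat.card H = p ^ k) (hab : ∀ a ∈ H, ∀ b ∈ H, a * b = b * a) :
    Nat.card {C : ConjClasses G // p ∣ Nat.card C.carrier} =
      Nat.card {χ : IrrCharacter G // p ∣ charDegree (χ : G → ℂ)} := by
  classical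
  have hp : p.Prime := Fact.out
  have hcop : (Nat.card N).Coprime (Nat.card H) := by rw [hHc]; exact Nat.Coprime.pow_right k hN
  have hHp : IsPGroup p H := IsPGroup.of_card hHc
  have hHidx : H.index = Nat.card N := by
    have h1 := N.card_mul_index
    rw [index_eq_card_of_compl N H hKH hcop] at h1
    have h2 := H.card_mul_index
    have hpos : 0 < Nat.card H := Nat.card_pos
    have : Nat.card H * H.index = Nat.card H * Nat.card N := by rw [h2, ← h1, mul_comm]
    exact Nat.eq_of_mul_eq_mul_left hpos this
  have hidx : ¬ p ∣ H.index := by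
    rw [hHidx]
    intro h
    exact hp.one_lt.ne' (Nat.Coprime.eq_one_of_dvd hN.symm h)
  have hNC : Subgroup.normalizer (H : Set G) ≤ Subgroup.centralizer (H : Set G) := by
    intro g hg
    have hgm : g ∈ N ⊔ H := by rw [hKH]; exact Subgroup.mem_top g
    obtain ⟨n, hn, h, hh, hnh⟩ := Subgroup.mem_sup_of_normal_left.mp hgm
    have hhc : h ∈ Subgroup.centralizer (H : Set G) := by
      rw [Subgroup.mem_centralizer_iff]
      intro y hy
      exact hab y hy h hh
    have hnN : n ∈ Subgroup.normalizer (H : Set G) := by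
      have : n = g * h⁻¹ := by rw [← hnh]; group
      rw [this]
      exact Subgroup.mul_mem _ hg (Subgroup.inv_mem _ (Subgroup.le_normalizer hh))
    have hnc : n ∈ N ⊓ Subgroup.centralizer (H : Set G) := by
      rw [← inf_normalizer_eq_inf_centralizer N H hcop]
      exact Subgroup.mem_inf.mpr ⟨hn, hnN⟩
    rw [← hnh]
    exact Subgroup.mul_mem _ (Subgroup.mem_inf.mp hnc).2 hhc
  have hclass := card_pprime_classes p H hHp hidx hNC
  have hsolv : Group.IsSolvable H :=
    Group.isSolvable_of_comm (fun a b => Subtype.ext (hab a a.2 b b.2))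
  have hchar := coprime_degree_count N H hKH hcop hsolv
  have hall : ∀ η : IrrCharacter (Subgroup.normalizer (H : Set G)),
      (charDegree η.1).Coprime (Nat.card H) := by
    intro η
    haveI : (H.subgroupOf (Subgroup.normalizer (H : Set G))).Normal :=
      Subgroup.normal_in_normalizer
    have hito := helper24.ito_degree_dvd_index (H.subgroupOf (Subgroup.normalizer (H : Set G)))
      (fun a ha b hb => Subtype.ext (hab a (Subgroup.mem_subgroupOf.mp ha) b
        (Subgroup.mem_subgroupOf.mp hb))) η
    have h2 : (H.subgroupOf (Subgroup.normalizer (H : Set G))).index ∣ H.index :=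
      Subgroup.relIndex_dvd_index_of_le Subgroup.le_normalizer
    rw [hHidx] at h2
    exact Nat.Coprime.coprime_dvd_left (hito.trans h2) hcop
  have hiff : ∀ d : ℕ, d.Coprime (Nat.card H) ↔ ¬ p ∣ d := by
    intro d
    rw [hHc]
    constructor
    · intro h hd
      have h2 : d.Coprime p := Nat.Coprime.coprime_dvd_right (dvd_pow_self p hk) h
      exact hp.one_lt.ne' (Nat.Coprime.eq_one_of_dvd h2.symm hd)
    · intro h
      exact Nat.Coprime.pow_right k ((Nat.Prime.coprime_iff_not_dvd hp).mpr h).symm
  have h1 : Nat.card {χ : IrrCharacter G // ¬ p ∣ charDegree (χ : G → ℂ)} =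
      Nat.card (IrrCharacter (Subgroup.normalizer (H : Set G))) := by
    rw [← Nat.card_congr (Equiv.subtypeUnivEquiv hall), ← hchar]
    exact Nat.card_congr (Equiv.subtypeEquivRight (fun χ => (hiff _).symm))
  have h2 : Nat.card (IrrCharacter (Subgroup.normalizer (H : Set G))) =
      Nat.card (ConjClasses (Subgroup.normalizer (H : Set G))) :=
    helper24.card_irr_eq_card_conjClasses
  have h3 : Nat.card (IrrCharacter G) = Nat.card (ConjClasses G) :=
    helper24.card_irr_eq_card_conjClasses
  have h4 : Nat.card (IrrCharacter G) =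
      Nat.card {χ : IrrCharacter G // p ∣ charDegree (χ : G → ℂ)} +
      Nat.card {χ : IrrCharacter G // ¬ p ∣ charDegree (χ : G → ℂ)} := by
    rw [← Nat.card_sum]
    exact Nat.card_congr (Equiv.sumCompl (fun χ : IrrCharacter G =>
      p ∣ charDegree (χ : G → ℂ))).symm
  have h5 : Nat.card (ConjClasses G) =
      Nat.card {C : ConjClasses G // p ∣ Nat.card C.carrier} +
      Nat.card {C : ConjClasses G // ¬ p ∣ Nat.card C.carrier} := by
    rw [← Nat.card_sum]
    exact Nat.card_congr (Equiv.sumCompl (fun C : ConjClasses G =>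
      p ∣ Nat.card C.carrier)).symm
  omega

end PSing2

end Cfsg.Agent.helper22
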