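import Mathlib
import Cfsg.Agent.Lib_helper12_IndFun
import Cfsg.Agent.Lib_helper12_CharOps
import Cfsg.Agent.Lib_helper24_CharOrth
import Cfsg.Agent.Lib_helper24_CharBasic

set_option autoImplicit false
set_option linter.unusedSectionVars false
set_option linter.unusedVariables false
set_option linter.style.haveILetI false
set_option linter.style.longLine false

/-!
helper22: induced class functions when `G = Y H` (Mackey in the product case), and the norm
identity `∑_{Y} |χ|² = (|Y| / |Y ∩ H|) ∑_{Y ∩ H} ϑ conj χ` for `χ = ϑ^G`.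
-/

namespace Cfsg.Agent.helper22

open Cfsg
open scoped ComplexConjugate
open scoped Classical

universe u

section QP1
variable {G : Type u} [Group G] [Fintype G]

/-- `∑_{x ∈ X} a x * conj (b x)`, as an indicator sum over the group -/
noncomputable def qpCross (X : Subgroup G) (a b : G → ℂ) : ℂ :=
  ∑ g : G, if g ∈ X then a g * conj (b g) else 0

/-- `∑_{x ∈ X} |a x|²`, as an indicator sum over the group -/
noncomputable def qpNsq (X : Subgroup G) (a : G → ℂ) : ℝ :=
  ∑ g : G, if g ∈ X then Complex.normSq (a g) else 0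

theorem qpCross_self (X : Subgroup G) (a : G → ℂ) : qpCross X a a = (qpNsq X a : ℂ) := by
  unfold qpCross qpNsq
  push_cast
  apply Finset.sum_congr rfl
  intro g _
  by_cases hg : g ∈ X
  · rw [if_pos hg, if_pos hg, Complex.mul_conj]
  · rw [if_neg hg, if_neg hg]; simp

theorem qp_sum_subtype (X : Subgroup G) [Fintype X] (F : G → ℂ) :
    ∑ g : G, (if g ∈ X then F g else 0) = ∑ x : X, F x := by
  rw [← Finset.sum_filter, Finset.sum_subtype (Finset.univ.filter (fun y : G => y ∈ X))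
    (p := fun y => y ∈ X) (by intro y; simp) F]

theorem qp_card_cast (X : Subgroup G) :
    ∑ g : G, (if g ∈ X then (1 : ℂ) else 0) = (Nat.card X : ℂ) := by
  haveI : Fintype X := Fintype.ofFinite _
  rw [qp_sum_subtype X (fun _ => (1 : ℂ))]
  simp [Nat.card_eq_fintype_card]

/-- double counting for a product decomposition `G = Y H` -/
theorem qp_double_count (H Y : Subgroup G)
    (hYH : ∀ g : G, ∃ y ∈ Y, ∃ h ∈ H, g = y * h) (Φ : G → ℂ) :
    ∑ a : G, (if a ∈ Y then ∑ b : G, (if b ∈ H then Φ (a * b) else 0) else 0)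
      = (Nat.card ↥(Y ⊓ H) : ℂ) * ∑ g : G, Φ g := by
  have h1 : ∀ a : G, ∑ b : G, (if b ∈ H then Φ (a * b) else 0)
      = ∑ g : G, (if a⁻¹ * g ∈ H then Φ g else 0) := by
    intro a
    rw [← Equiv.sum_comp (Equiv.mulLeft a) (fun g => if a⁻¹ * g ∈ H then Φ g else 0)]
    apply Finset.sum_congr rfl
    intro b _
    simp only [Equiv.coe_mulLeft, inv_mul_cancel_left]
  have h2 : ∑ a : G, (if a ∈ Y then ∑ b : G, (if b ∈ H then Φ (a * b) else 0) else 0)
      = ∑ g : G, Φ g * ∑ a : G, (if a ∈ Y ∧ a⁻¹ * g ∈ H then (1 : ℂ) else 0) := by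
    calc ∑ a : G, (if a ∈ Y then ∑ b : G, (if b ∈ H then Φ (a * b) else 0) else 0)
        = ∑ a : G, ∑ g : G, (if a ∈ Y ∧ a⁻¹ * g ∈ H then Φ g else 0) := by
          apply Finset.sum_congr rfl
          intro a _
          rw [h1 a]
          by_cases ha : a ∈ Y
          · rw [if_pos ha]
            apply Finset.sum_congr rfl
            intro g _
            by_cases hg : a⁻¹ * g ∈ H
            · rw [if_pos hg, if_pos ⟨ha, hg⟩]
            · rw [if_neg hg, if_neg (fun h => hg h.2)]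
          · rw [if_neg ha]
            symm
            apply Finset.sum_eq_zero
            intro g _
            rw [if_neg (fun h => ha h.1)]
      _ = ∑ g : G, ∑ a : G, (if a ∈ Y ∧ a⁻¹ * g ∈ H then Φ g else 0) := Finset.sum_comm
      _ = ∑ g : G, Φ g * ∑ a : G, (if a ∈ Y ∧ a⁻¹ * g ∈ H then (1 : ℂ) else 0) := by
          apply Finset.sum_congr rfl
          intro g _
          rw [Finset.mul_sum]
          apply Finset.sum_congr rfl
          intro a _
          by_cases h : a ∈ Y ∧ a⁻¹ * g ∈ H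
          · rw [if_pos h, if_pos h, mul_one]
          · rw [if_neg h, if_neg h, mul_zero]
  have h3 : ∀ g : G, ∑ a : G, (if a ∈ Y ∧ a⁻¹ * g ∈ H then (1 : ℂ) else 0)
      = (Nat.card ↥(Y ⊓ H) : ℂ) := by
    intro g
    obtain ⟨y, hy, h, hh, rfl⟩ := hYH g
    rw [← Equiv.sum_comp (Equiv.mulLeft y)
      (fun a => if a ∈ Y ∧ a⁻¹ * (y * h) ∈ H then (1 : ℂ) else 0), ← qp_card_cast (Y ⊓ H)]
    apply Finset.sum_congr rfl
    intro a _
    have hiff : ((Equiv.mulLeft y) a ∈ Y ∧ ((Equiv.mulLeft y) a)⁻¹ * (y * h) ∈ H) ↔ a ∈ Y ⊓ H := by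
      show (y * a ∈ Y ∧ (y * a)⁻¹ * (y * h) ∈ H) ↔ a ∈ Y ⊓ H
      rw [Subgroup.mem_inf]
      have e1 : (y * a)⁻¹ * (y * h) = a⁻¹ * h := by group
      rw [e1]
      constructor
      · rintro ⟨h1, h2⟩
        refine ⟨?_, ?_⟩
        · have : a = y⁻¹ * (y * a) := by group
          rw [this]
          exact Y.mul_mem (Y.inv_mem hy) h1
        · have : a = h * (a⁻¹ * h)⁻¹ := by group
          rw [this]
          exact H.mul_mem hh (H.inv_mem h2)
      · rintro ⟨h1, h2⟩
        exact ⟨Y.mul_mem hy h1, H.mul_mem (H.inv_mem h2) hh⟩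
    by_cases hc : a ∈ Y ⊓ H
    · rw [if_pos hc, if_pos (hiff.mpr hc)]
    · rw [if_neg hc, if_neg (fun h => hc (hiff.mp h))]
  rw [h2, Finset.mul_sum]
  apply Finset.sum_congr rfl
  intro g _
  rw [h3 g, mul_comm]

/-- `|Y| |H| = |G| |Y ∩ H|` when `G = Y H` -/
theorem qp_card_prod (H Y : Subgroup G)
    (hYH : ∀ g : G, ∃ y ∈ Y, ∃ h ∈ H, g = y * h) :
    (Nat.card Y : ℂ) * (Nat.card H : ℂ) = (Nat.card ↥(Y ⊓ H) : ℂ) * (Nat.card G : ℂ) := by
  have h := qp_double_count H Y hYH (fun _ => (1 : ℂ))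
  beta_reduce at h
  rw [qp_card_cast H] at h
  have h2 : ∑ a : G, (if a ∈ Y then (Nat.card H : ℂ) else 0)
      = (Nat.card Y : ℂ) * (Nat.card H : ℂ) := by
    rw [← qp_card_cast Y, Finset.sum_mul]
    apply Finset.sum_congr rfl
    intro a _
    by_cases ha : a ∈ Y
    · rw [if_pos ha, if_pos ha, one_mul]
    · rw [if_neg ha, if_neg ha, zero_mul]
  rw [← h2, h]
  congr 1
  simp [Nat.card_eq_fintype_card]

/-- Mackey in the product case: the induced function on `Y` when `G = Y H` -/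
theorem qp_indFun_apply (H Y : Subgroup G)
    (hYH : ∀ g : G, ∃ y ∈ Y, ∃ h ∈ H, g = y * h) (ϑ : H → ℂ)
    (hϑ : IsClassFunction H ϑ) (x : G) :
    indFun H ϑ x = (Nat.card ↥(Y ⊓ H) : ℂ)⁻¹ *
      ∑ a : G, (if a ∈ Y then extendByZero H ϑ (a⁻¹ * x * a) else 0) := by
  have hd0 : (Nat.card ↥(Y ⊓ H) : ℂ) ≠ 0 := by
    exact_mod_cast Nat.card_pos.ne'
  have hH0 : (Nat.card H : ℂ) ≠ 0 := by
    exact_mod_cast Nat.card_pos.ne'
  have hinv : ∀ (b : G), b ∈ H → ∀ y : G,
      extendByZero H ϑ (b⁻¹ * y * b) = extendByZero H ϑ y := by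
    intro b hb y
    have := helper12.extendByZero_conj H ϑ (fun h y => by
      have := hϑ y h⁻¹
      rw [inv_inv] at this
      exact this) ⟨b, hb⟩ y
    exact this
  have h := qp_double_count H Y hYH (fun g => extendByZero H ϑ (g⁻¹ * x * g))
  beta_reduce at h
  have h2 : ∀ a : G, ∑ b : G, (if b ∈ H then extendByZero H ϑ ((a * b)⁻¹ * x * (a * b)) else 0)
      = (Nat.card H : ℂ) * extendByZero H ϑ (a⁻¹ * x * a) := by
    intro a
    rw [← qp_card_cast H, Finset.sum_mul]
    apply Finset.sum_congr rfl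
    intro b _
    by_cases hb : b ∈ H
    · rw [if_pos hb, if_pos hb, one_mul]
      have e1 : (a * b)⁻¹ * x * (a * b) = b⁻¹ * (a⁻¹ * x * a) * b := by group
      rw [e1, hinv b hb]
    · rw [if_neg hb, if_neg hb, zero_mul]
  have h3 : ∑ a : G, (if a ∈ Y then ∑ b : G,
      (if b ∈ H then extendByZero H ϑ ((a * b)⁻¹ * x * (a * b)) else 0) else 0)
      = (Nat.card H : ℂ) * ∑ a : G, (if a ∈ Y then extendByZero H ϑ (a⁻¹ * x * a) else 0) := by
    rw [Finset.mul_sum]
    apply Finset.sum_congr rfl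
    intro a _
    by_cases ha : a ∈ Y
    · rw [if_pos ha, if_pos ha, h2 a]
    · rw [if_neg ha, if_neg ha, mul_zero]
  have h4 : ∑ g : G, extendByZero H ϑ (g⁻¹ * x * g)
      = (Nat.card ↥(Y ⊓ H) : ℂ)⁻¹ * ((Nat.card H : ℂ) *
        ∑ a : G, (if a ∈ Y then extendByZero H ϑ (a⁻¹ * x * a) else 0)) := by
    rw [← h3, h, ← mul_assoc, inv_mul_cancel₀ hd0, one_mul]
  unfold indFun
  rw [h4]
  field_simp

/-- the norm identity `|Y ∩ H| ∑_Y |χ|² = |Y| ∑_{Y ∩ H} ϑ conj χ` for `χ = ϑ^G`, `G = Y H` -/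
theorem qp_norm_identity (H Y : Subgroup G)
    (hYH : ∀ g : G, ∃ y ∈ Y, ∃ h ∈ H, g = y * h) (ϑ : H → ℂ) (hϑ : IsClassFunction H ϑ) :
    (qpNsq Y (indFun H ϑ) : ℂ) * (Nat.card ↥(Y ⊓ H) : ℂ)
      = (Nat.card Y : ℂ) * qpCross (Y ⊓ H) (extendByZero H ϑ) (indFun H ϑ) := by
  obtain ⟨χ, hχdef⟩ : ∃ χ, χ = indFun H ϑ := ⟨_, rfl⟩
  have hcl : IsClassFunction G χ := hχdef ▸ helper12.indFun_isClassFunction H ϑ
  rw [← hχdef, ← qpCross_self]
  have hd0 : (Nat.card ↥(Y ⊓ H) : ℂ) ≠ 0 := by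
    exact_mod_cast Nat.card_pos.ne'
  have h1 : ∀ n : G, χ n * (Nat.card ↥(Y ⊓ H) : ℂ)
      = ∑ a : G, (if a ∈ Y then extendByZero H ϑ (a⁻¹ * n * a) else 0) := by
    intro n
    rw [hχdef, qp_indFun_apply H Y hYH ϑ hϑ n]
    field_simp
  have h2 : ∀ a : G, a ∈ Y →
      ∑ n : G, (if n ∈ Y then extendByZero H ϑ (a⁻¹ * n * a) * conj (χ n) else 0)
      = ∑ n : G, (if n ∈ Y ⊓ H then extendByZero H ϑ n * conj (χ n) else 0) := by
    intro a ha
    rw [← Equiv.sum_comp (MulAut.conj a).toEquiv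
      (fun n => if n ∈ Y then extendByZero H ϑ (a⁻¹ * n * a) * conj (χ n) else 0)]
    apply Finset.sum_congr rfl
    intro n _
    have e0 : (MulAut.conj a).toEquiv n = a * n * a⁻¹ := rfl
    have e1 : a⁻¹ * (a * n * a⁻¹) * a = n := by group
    have e2 : χ (a * n * a⁻¹) = χ n := hcl n a
    have hiff : (MulAut.conj a).toEquiv n ∈ Y ↔ n ∈ Y := by
      rw [e0]
      constructor
      · intro h
        have : n = a⁻¹ * (a * n * a⁻¹) * a := e1.symm
        rw [this]
        exact Y.mul_mem (Y.mul_mem (Y.inv_mem ha) h) ha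
      · intro h
        exact Y.mul_mem (Y.mul_mem ha h) (Y.inv_mem ha)
    by_cases hn : n ∈ Y
    · rw [if_pos (hiff.mpr hn), e0, e1, e2]
      by_cases hnH : n ∈ H
      · rw [if_pos (Subgroup.mem_inf.mpr ⟨hn, hnH⟩)]
      · rw [if_neg (fun h => hnH (Subgroup.mem_inf.mp h).2),
          helper12.extendByZero_of_not_mem' H ϑ n hnH, zero_mul]
    · rw [if_neg (fun h => hn (hiff.mp h)), if_neg (fun h => hn (Subgroup.mem_inf.mp h).1)]
  unfold qpCross
  rw [Finset.sum_mul]
  calc ∑ n : G, (if n ∈ Y then χ n * conj (χ n) else 0) * (Nat.card ↥(Y ⊓ H) : ℂ)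
      = ∑ n : G, ∑ a : G, (if a ∈ Y then
          (if n ∈ Y then extendByZero H ϑ (a⁻¹ * n * a) * conj (χ n) else 0) else 0) := by
        apply Finset.sum_congr rfl
        intro n _
        by_cases hn : n ∈ Y
        · rw [if_pos hn, mul_comm (χ n) (conj (χ n)), mul_assoc, h1 n, Finset.mul_sum]
          apply Finset.sum_congr rfl
          intro a _
          by_cases ha : a ∈ Y
          · rw [if_pos ha, if_pos ha, if_pos hn, mul_comm]
          · rw [if_neg ha, if_neg ha, mul_zero]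
        · rw [if_neg hn, zero_mul]
          symm
          apply Finset.sum_eq_zero
          intro a _
          rw [if_neg hn, ite_self]
    _ = ∑ a : G, ∑ n : G, (if a ∈ Y then
          (if n ∈ Y then extendByZero H ϑ (a⁻¹ * n * a) * conj (χ n) else 0) else 0) :=
        Finset.sum_comm
    _ = ∑ a : G, (if a ∈ Y then
          ∑ n : G, (if n ∈ Y ⊓ H then extendByZero H ϑ n * conj (χ n) else 0) else 0) := by
        apply Finset.sum_congr rfl
        intro a _
        by_cases ha : a ∈ Y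
        · rw [if_pos ha, ← h2 a ha]
          apply Finset.sum_congr rfl
          intro n _
          rw [if_pos ha]
        · rw [if_neg ha]
          apply Finset.sum_eq_zero
          intro n _
          rw [if_neg ha]
    _ = (Nat.card Y : ℂ) *
          ∑ n : G, (if n ∈ Y ⊓ H then extendByZero H ϑ n * conj (χ n) else 0) := by
        rw [← qp_card_cast Y, Finset.sum_mul]
        apply Finset.sum_congr rfl
        intro a _
        by_cases ha : a ∈ Y
        · rw [if_pos ha, if_pos ha, one_mul]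
        · rw [if_neg ha, if_neg ha, zero_mul]

/-- `∑_X |χ|² = e² |X|` if `χ_X = e φ` with `φ` irreducible -/
theorem qpNsq_of_res_smul (X : Subgroup G) (χ : G → ℂ) (φ : X → ℂ)
    (hφ : IsIrrCharacter X φ) (e : ℕ) (h : (fun m : X => χ m) = (e : ℂ) • φ) :
    qpNsq X χ = (e : ℝ) ^ 2 * (Nat.card X : ℝ) := by
  haveI : Fintype X := Fintype.ofFinite _
  have hX0 : (Nat.card X : ℂ) ≠ 0 := by exact_mod_cast Nat.card_pos.ne'
  have h1 : ∑ x : X, φ x * conj (φ x) = (Nat.card X : ℂ) := by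
    have := helper24.irr_classInner_self hφ
    unfold classInner at this
    rw [← mul_right_inj' hX0] at this
    rw [← mul_assoc, mul_inv_cancel₀ hX0, one_mul, mul_one] at this
    exact this
  have h2 : (qpNsq X χ : ℂ) = ((e : ℝ) ^ 2 * (Nat.card X : ℝ) : ℝ) := by
    rw [← qpCross_self]
    unfold qpCross
    rw [qp_sum_subtype X (fun g => χ g * conj (χ g))]
    have h3 : ∀ x : X, χ x * conj (χ x) = (e : ℂ) ^ 2 * (φ x * conj (φ x)) := by
      intro x
      have := congrFun h x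
      simp only [Pi.smul_apply, smul_eq_mul] at this
      rw [this, map_mul, Complex.conj_natCast]
      ring
    rw [Finset.sum_congr rfl (fun x _ => h3 x), ← Finset.mul_sum, h1]
    push_cast
    ring
  exact_mod_cast h2

/-- the cross sum on a subgroup of `H` as an inner product of restrictions -/
theorem qpCross_extendByZero (H X : Subgroup G) (hXH : X ≤ H) [Fintype X] (ϑ : H → ℂ)
    (χ : G → ℂ) :
    qpCross X (extendByZero H ϑ) χ = (Nat.card X : ℂ) *
      classInner (fun x : X => ϑ ⟨(x : G), hXH x.2⟩) (fun x : X => χ x) := by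
  have hX0 : (Nat.card X : ℂ) ≠ 0 := by exact_mod_cast Nat.card_pos.ne'
  unfold qpCross classInner
  rw [← mul_assoc, mul_inv_cancel₀ hX0, one_mul,
    qp_sum_subtype X (fun g => extendByZero H ϑ g * conj (χ g))]
  apply Finset.sum_congr rfl
  intro x _
  rw [helper12.extendByZero_of_mem' H ϑ _ (hXH x.2)]

theorem qpNsq_extendByZero (H X : Subgroup G) (hXH : X ≤ H) (ϑ : H → ℂ)
    (hirr : IsIrrCharacter X (fun x : X => ϑ ⟨(x : G), hXH x.2⟩)) :
    qpNsq X (extendByZero H ϑ) = (Nat.card X : ℝ) := by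
  have h := qpNsq_of_res_smul X (extendByZero H ϑ) _ hirr 1 (by
    funext m
    simp only [Pi.smul_apply, smul_eq_mul, Nat.cast_one, one_mul]
    rw [helper12.extendByZero_of_mem' H ϑ _ (hXH m.2)])
  rw [h]
  simp

theorem qpNsq_nonneg_term (χ : G → ℂ) (X : Subgroup G) (g : G) :
    0 ≤ (if g ∈ X then Complex.normSq (χ g) else 0) := by
  by_cases hg : g ∈ X
  · rw [if_pos hg]; exact Complex.normSq_nonneg _
  · rw [if_neg hg]

/-- if the norm sum over `Y` is at most that over `X ≤ Y`, then `χ` vanishes on `Y \ X` -/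
theorem qp_vanish_of_nsq_le (X Y : Subgroup G) (hXY : X ≤ Y) (χ : G → ℂ)
    (h : qpNsq Y χ ≤ qpNsq X χ) : ∀ g ∈ Y, g ∉ X → χ g = 0 := by
  have h1 : qpNsq Y χ - qpNsq X χ
      = ∑ g : G, (if g ∈ Y ∧ g ∉ X then Complex.normSq (χ g) else 0) := by
    unfold qpNsq
    rw [← Finset.sum_sub_distrib]
    apply Finset.sum_congr rfl
    intro g _
    by_cases hgX : g ∈ X
    · rw [if_pos (hXY hgX), if_pos hgX, if_neg (fun h => h.2 hgX), sub_self]
    · by_cases hgY : g ∈ Y
      · rw [if_pos hgY, if_neg hgX, if_pos ⟨hgY, hgX⟩, sub_zero]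
      · rw [if_neg hgY, if_neg hgX, if_neg (fun h => hgY h.1), sub_zero]
  have h2 : ∑ g : G, (if g ∈ Y ∧ g ∉ X then Complex.normSq (χ g) else 0) = 0 := by
    apply le_antisymm
    · rw [← h1]; linarith
    · apply Finset.sum_nonneg
      intro g _
      by_cases hg : g ∈ Y ∧ g ∉ X
      · rw [if_pos hg]; exact Complex.normSq_nonneg _
      · rw [if_neg hg]
  intro g hgY hgX
  have h3 := (Finset.sum_eq_zero_iff_of_nonneg (fun g _ => by
    by_cases hg : g ∈ Y ∧ g ∉ X
    · rw [if_pos hg]; exact Complex.normSq_nonneg _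
    · rw [if_neg hg])).mp h2 g (Finset.mem_univ g)
  rw [if_pos ⟨hgY, hgX⟩] at h3
  exact Complex.normSq_eq_zero.mp h3

theorem qpNsq_eq_of_vanish (X Y : Subgroup G) (hXY : X ≤ Y) (χ : G → ℂ)
    (hv : ∀ g ∈ Y, g ∉ X → χ g = 0) : qpNsq Y χ = qpNsq X χ := by
  unfold qpNsq
  apply Finset.sum_congr rfl
  intro g _
  by_cases hgX : g ∈ X
  · rw [if_pos (hXY hgX), if_pos hgX]
  · by_cases hgY : g ∈ Y
    · rw [if_pos hgY, if_neg hgX, hv g hgY hgX, map_zero]
    · rw [if_neg hgY, if_neg hgX]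

theorem qpNsq_mono (X Y : Subgroup G) (hXY : X ≤ Y) (χ : G → ℂ) :
    qpNsq X χ ≤ qpNsq Y χ := by
  unfold qpNsq
  apply Finset.sum_le_sum
  intro g _
  by_cases hgX : g ∈ X
  · rw [if_pos (hXY hgX), if_pos hgX]
  · rw [if_neg hgX]
    exact qpNsq_nonneg_term χ Y g

/-- Cauchy–Schwarz in the form needed: if `∑_X F conj χ = t ∑_X |F|²` with `t` real then
`∑_X |χ|² ≥ t² ∑_X |F|²` -/
theorem qp_cauchy (X : Subgroup G) (F χ : G → ℂ) (t : ℝ)
    (h : qpCross X F χ = ((t * qpNsq X F : ℝ) : ℂ)) :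
    t ^ 2 * qpNsq X F ≤ qpNsq X χ := by
  have h0 : 0 ≤ ∑ g : G, (if g ∈ X then Complex.normSq (χ g - (t : ℂ) * F g) else 0) := by
    apply Finset.sum_nonneg
    intro g _
    by_cases hg : g ∈ X
    · rw [if_pos hg]; exact Complex.normSq_nonneg _
    · rw [if_neg hg]
  have h1 : ∑ g : G, (if g ∈ X then Complex.normSq (χ g - (t : ℂ) * F g) else 0)
      = qpNsq X χ + t ^ 2 * qpNsq X F - 2 * t * (qpCross X F χ).re := by
    unfold qpNsq qpCross
    rw [Complex.re_sum, Finset.mul_sum, Finset.mul_sum, ← Finset.sum_add_distrib,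
      ← Finset.sum_sub_distrib]
    apply Finset.sum_congr rfl
    intro g _
    by_cases hg : g ∈ X
    · rw [if_pos hg, if_pos hg, if_pos hg, if_pos hg, Complex.normSq_sub, Complex.normSq_mul,
        Complex.normSq_ofReal]
      have e1 : (χ g * conj ((t : ℂ) * F g)).re = t * (F g * conj (χ g)).re := by
        rw [map_mul, Complex.conj_ofReal]
        have : χ g * ((t : ℂ) * conj (F g)) = (t : ℂ) * (χ g * conj (F g)) := by ring
        rw [this, Complex.re_ofReal_mul]
        congr 1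
        have : χ g * conj (F g) = conj (F g * conj (χ g)) := by
          rw [map_mul, Complex.conj_conj]; ring
        rw [this, Complex.conj_re]
      rw [e1]
      ring
    · rw [if_neg hg, if_neg hg, if_neg hg, if_neg hg]
      simp
  rw [h1, h, Complex.ofReal_re] at h0
  nlinarith [h0]

end QP1


end Cfsg.Agent.helper22
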