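import Mathlib
import Cfsg.Agent.Lib_helper20_Higman
import Cfsg.Agent.Lib_helper18_SolvPrim
import Cfsg.Agent.Lib_helper19_Pairing

set_option autoImplicit false
set_option linter.unusedSectionVars false
set_option linter.unusedVariables false
set_option linter.style.haveILetI false
set_option linter.style.longLine false

/-!
helper22: group theory around a maximal subgroup `H` with core `M` of a group with `G / M`
solvable: the abelian chief factor `K / M` complementing `H`, its self-centralizing property,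
and coprimality of the next chief factor.
-/

namespace Cfsg.Agent.helper22

universe u

section QP2
variable {G : Type u} [Group G] [Finite G]

theorem qp_solvable_quot_of_le (L M : Subgroup G) [L.Normal] [M.Normal] (h : L ≤ M)
    (hs : Group.IsSolvable (G ⧸ L)) : Group.IsSolvable (G ⧸ M) := by
  have hf : Function.Surjective (QuotientGroup.map L M (MonoidHom.id G) (by
      intro x hx; exact h hx)) := by
    intro x
    obtain ⟨g, rfl⟩ := QuotientGroup.mk_surjective x
    exact ⟨(g : G ⧸ L), rfl⟩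
  exact Group.isSolvable_of_surjective hf

/-- cardinality of the preimage of a subgroup of a quotient -/
theorem qp_card_comap (M : Subgroup G) [M.Normal] (Kb : Subgroup (G ⧸ M)) :
    Nat.card (Kb.comap (QuotientGroup.mk' M)) = Nat.card Kb * Nat.card M := by
  have hπ : Function.Surjective (QuotientGroup.mk' M) := QuotientGroup.mk'_surjective M
  have h1 : (Kb.comap (QuotientGroup.mk' M)).index = Kb.index :=
    Subgroup.index_comap_of_surjective Kb hπ
  have h2 := Subgroup.card_mul_index (Kb.comap (QuotientGroup.mk' M))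
  have h3 := Subgroup.card_mul_index Kb
  have h4 := Subgroup.card_eq_card_quotient_mul_card_subgroup M
  have hidx : Kb.index ≠ 0 := Subgroup.index_ne_zero_of_finite
  rw [h1] at h2
  have h5 : Nat.card (Kb.comap (QuotientGroup.mk' M)) * Kb.index
      = (Nat.card Kb * Nat.card M) * Kb.index := by
    rw [h2, h4, ← h3]; ring
  exact Nat.eq_of_mul_eq_mul_right (Nat.pos_of_ne_zero hidx) h5

/-- an abelian chief factor above a normal subgroup with solvable quotient -/
theorem qp_chief_above (M : Subgroup G) [hMn : M.Normal] (hsolv : Group.IsSolvable (G ⧸ M))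
    (hM : M ≠ ⊤) :
    ∃ K : Subgroup G, K.Normal ∧ M < K ∧
      (∃ p d : ℕ, p.Prime ∧ Nat.card K = p ^ d * Nat.card M) ∧
      (∀ x ∈ K, ∀ y ∈ K, x * y * x⁻¹ * y⁻¹ ∈ M) ∧
      (∀ X : Subgroup G, X.Normal → M ≤ X → X ≤ K → X = M ∨ X = K) := by
  classical
  have hπ : Function.Surjective (QuotientGroup.mk' M) := QuotientGroup.mk'_surjective M
  have hker : (QuotientGroup.mk' M).ker = M := QuotientGroup.ker_mk' M
  haveI : Nontrivial (G ⧸ M) := by
    by_contra hnt
    rw [not_nontrivial_iff_subsingleton] at hnt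
    apply hM
    rw [eq_top_iff]
    intro g _
    have : (g : G ⧸ M) = 1 := Subsingleton.elim _ _
    exact (QuotientGroup.eq_one_iff g).mp this
  obtain ⟨Kb, hKbn, hKb1, hKbmin⟩ := helper20.exists_minimal_normal (G ⧸ M)
  haveI := hKbn
  have hab : ∀ x ∈ Kb, ∀ y ∈ Kb, x * y = y * x :=
    helper18.SolvPrim.comm_of_minimal_normal Kb hKb1 hKbmin
  have hcard1 : Nat.card Kb ≠ 1 := fun h => hKb1 (Subgroup.card_eq_one.mp h)
  obtain ⟨p, hp, hpd⟩ := Nat.exists_prime_and_dvd hcard1
  haveI : Fact p.Prime := ⟨hp⟩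
  obtain ⟨x0, hx0⟩ := exists_prime_orderOf_dvd_card' p hpd
  -- the subgroup of elements of order dividing p
  let T : Subgroup (G ⧸ M) :=
    { carrier := {x | x ∈ Kb ∧ x ^ p = 1}
      one_mem' := ⟨Kb.one_mem, one_pow p⟩
      mul_mem' := by
        rintro a b ⟨ha, hap⟩ ⟨hb, hbp⟩
        refine ⟨Kb.mul_mem ha hb, ?_⟩
        have hc : Commute a b := hab a ha b hb
        rw [hc.mul_pow, hap, hbp, one_mul]
      inv_mem' := by
        rintro a ⟨ha, hap⟩
        exact ⟨Kb.inv_mem ha, by rw [inv_pow, hap, inv_one]⟩ }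
  have hTn : T.Normal := by
    constructor
    rintro a ⟨ha, hap⟩ g
    refine ⟨hKbn.conj_mem a ha g, ?_⟩
    rw [conj_pow, hap, mul_one, mul_inv_cancel]
  have hTle : T ≤ Kb := fun a ha => ha.1
  have hTne : T ≠ ⊥ := by
    intro h
    have hm : (x0 : G ⧸ M) ∈ T := by
      refine ⟨x0.2, ?_⟩
      have : x0 ^ p = 1 := by rw [← hx0]; exact pow_orderOf_eq_one x0
      have := congrArg (fun y : Kb => (y : G ⧸ M)) this
      simpa using this
    rw [h, Subgroup.mem_bot] at hm
    have : x0 = 1 := Subtype.ext hm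
    rw [this, orderOf_one] at hx0
    exact hp.one_lt.ne hx0
  have hTeq : T = Kb := by
    rcases hKbmin T hTn hTle with h | h
    · exact absurd h hTne
    · exact h
  have hpow : ∀ x ∈ Kb, x ^ p = 1 := by
    intro x hx
    have : x ∈ T := hTeq ▸ hx
    exact this.2
  have hPG : IsPGroup p Kb := by
    intro g
    refine ⟨1, ?_⟩
    apply Subtype.ext
    rw [pow_one]
    have := hpow g g.2
    simpa using this
  obtain ⟨d, hd⟩ := IsPGroup.iff_card.mp hPG
  refine ⟨Kb.comap (QuotientGroup.mk' M), hKbn.comap _, ?_, ⟨p, d, hp, ?_⟩, ?_, ?_⟩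
  · refine lt_of_le_of_ne ?_ ?_
    · intro m hm
      rw [Subgroup.mem_comap]
      have : (QuotientGroup.mk' M) m = 1 := (QuotientGroup.eq_one_iff m).mpr hm
      rw [this]; exact Kb.one_mem
    · intro h
      apply hKb1
      rw [eq_bot_iff]
      intro y hy
      obtain ⟨g, rfl⟩ := hπ y
      have : g ∈ Kb.comap (QuotientGroup.mk' M) := hy
      rw [← h] at this
      rw [Subgroup.mem_bot]
      exact (QuotientGroup.eq_one_iff g).mpr this
  · rw [qp_card_comap, hd]
  · intro x hx y hy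
    rw [Subgroup.mem_comap] at hx hy
    rw [← QuotientGroup.eq_one_iff (N := M)]
    have h1 := hab _ hx _ hy
    have : ((x * y * x⁻¹ * y⁻¹ : G) : G ⧸ M)
        = (QuotientGroup.mk' M x) * (QuotientGroup.mk' M y) * (QuotientGroup.mk' M x)⁻¹ *
          (QuotientGroup.mk' M y)⁻¹ := by
      simp
    rw [this, h1]
    group
  · intro X hXn hMX hXK
    have hXbn : (X.map (QuotientGroup.mk' M)).Normal := hXn.map _ hπ
    have hXble : X.map (QuotientGroup.mk' M) ≤ Kb := by
      rw [Subgroup.map_le_iff_le_comap]; exact hXK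
    have hback : (X.map (QuotientGroup.mk' M)).comap (QuotientGroup.mk' M) = X :=
      Subgroup.comap_map_eq_self (by rw [hker]; exact hMX)
    rcases hKbmin _ hXbn hXble with h | h
    · left
      apply le_antisymm _ hMX
      intro x hx
      have : (QuotientGroup.mk' M) x ∈ X.map (QuotientGroup.mk' M) :=
        Subgroup.mem_map_of_mem _ hx
      rw [h, Subgroup.mem_bot] at this
      exact (QuotientGroup.eq_one_iff x).mp this
    · right
      rw [← hback, h]

/-- the chief factor above the core of a maximal subgroup is a complement, and is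
self-centralizing modulo the core -/
theorem qp_core_facts (H M K : Subgroup G) (hmax : IsCoatom H) (hM : M = H.normalCore)
    [hKn : K.Normal] (hMK : M < K) (hcomm : ∀ x ∈ K, ∀ y ∈ K, x * y * x⁻¹ * y⁻¹ ∈ M) :
    (∀ g : G, ∃ k ∈ K, ∃ h ∈ H, g = k * h) ∧ K ⊓ H = M ∧
    (∀ x ∈ H, (∀ k ∈ K, x * k * x⁻¹ * k⁻¹ ∈ M) → x ∈ M) := by
  haveI hMn : M.Normal := by rw [hM]; infer_instance
  have hMH : M ≤ H := by rw [hM]; exact Subgroup.normalCore_le H
  have hnotle : ¬ K ≤ H := by
    intro h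
    have : K ≤ H.normalCore := Subgroup.normal_le_normalCore.mpr h
    rw [← hM] at this
    exact absurd this (not_le_of_gt hMK)
  have hsup : K ⊔ H = ⊤ := by
    have hlt : H < K ⊔ H := by
      refine lt_of_le_of_ne le_sup_right ?_
      intro h
      apply hnotle
      rw [h]; exact le_sup_left
    exact hmax.2 _ hlt
  have hdec : ∀ g : G, ∃ k ∈ K, ∃ h ∈ H, g = k * h := by
    intro g
    have hg : g ∈ ((K ⊔ H : Subgroup G) : Set G) := by rw [hsup]; trivial
    rw [Subgroup.normal_mul] at hg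
    obtain ⟨k, hk, h, hh, rfl⟩ := Set.mem_mul.mp hg
    exact ⟨k, hk, h, hh, rfl⟩
  have hcore : ∀ x : G, (∀ b : G, b * x * b⁻¹ ∈ H) → x ∈ M := by
    intro x hx
    rw [hM]
    exact hx
  refine ⟨hdec, ?_, ?_⟩
  · apply le_antisymm
    · intro y hy
      obtain ⟨hyK, hyH⟩ := Subgroup.mem_inf.mp hy
      apply hcore
      intro g
      obtain ⟨k, hk, h, hh, rfl⟩ := hdec g
      have hy'K : h * y * h⁻¹ ∈ K := hKn.conj_mem y hyK h
      have hy'H : h * y * h⁻¹ ∈ H := H.mul_mem (H.mul_mem hh hyH) (H.inv_mem hh)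
      have h1 : k * (h * y * h⁻¹) * k⁻¹ * (h * y * h⁻¹)⁻¹ ∈ M := hcomm k hk _ hy'K
      have h2 : k * h * y * (k * h)⁻¹ = (k * (h * y * h⁻¹) * k⁻¹ * (h * y * h⁻¹)⁻¹) * (h * y * h⁻¹) := by
        group
      rw [h2]
      exact H.mul_mem (hMH h1) hy'H
    · exact le_inf hMK.le hMH
  · intro x hxH hx
    apply hcore
    intro g
    obtain ⟨k, hk, h, hh, rfl⟩ := hdec g
    have hx'H : h * x * h⁻¹ ∈ H := H.mul_mem (H.mul_mem hh hxH) (H.inv_mem hh)
    have hk' : h⁻¹ * k * h ∈ K := by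
      have := hKn.conj_mem k hk h⁻¹
      rwa [inv_inv] at this
    have h1 : x * (h⁻¹ * k * h) * x⁻¹ * (h⁻¹ * k * h)⁻¹ ∈ M := hx _ hk'
    have h2 : h * (x * (h⁻¹ * k * h) * x⁻¹ * (h⁻¹ * k * h)⁻¹) * h⁻¹ ∈ M := hMn.conj_mem _ h1 h
    have h3 : (h * (x * (h⁻¹ * k * h) * x⁻¹ * (h⁻¹ * k * h)⁻¹) * h⁻¹)⁻¹ ∈ M := M.inv_mem h2
    have h4 : k * h * x * (k * h)⁻¹
        = (h * (x * (h⁻¹ * k * h) * x⁻¹ * (h⁻¹ * k * h)⁻¹) * h⁻¹)⁻¹ * (h * x * h⁻¹) := by
      group
    rw [h4]
    exact H.mul_mem (hMH h3) hx'H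

/-- the next chief factor cannot be a `p`-group for the same prime -/
theorem qp_coprime_step (H M K N : Subgroup G) [hMn : M.Normal] [hKn : K.Normal] [hNn : N.Normal]
    (hMK : M < K) (hKN : K ≤ N) (hdec : ∀ g : G, ∃ k ∈ K, ∃ h ∈ H, g = k * h)
    (hcent : ∀ x ∈ H, (∀ k ∈ K, x * k * x⁻¹ * k⁻¹ ∈ M) → x ∈ M)
    (hmin : ∀ X : Subgroup G, X.Normal → M ≤ X → X ≤ K → X = M ∨ X = K)
    (p : ℕ) (hp : p.Prime) (j : ℕ) (hN : Nat.card N = p ^ j * Nat.card M) : N ≤ K := by
  classical
  haveI : Fact p.Prime := ⟨hp⟩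
  have hπ : Function.Surjective (QuotientGroup.mk' M) := QuotientGroup.mk'_surjective M
  have hker : (QuotientGroup.mk' M).ker = M := QuotientGroup.ker_mk' M
  obtain ⟨Nb, hNb⟩ : ∃ Nb : Subgroup (G ⧸ M), Nb = N.map (QuotientGroup.mk' M) := ⟨_, rfl⟩
  obtain ⟨Kb, hKb⟩ : ∃ Kb : Subgroup (G ⧸ M), Kb = K.map (QuotientGroup.mk' M) := ⟨_, rfl⟩
  have hMN : M ≤ N := hMK.le.trans hKN
  have hNback : Nb.comap (QuotientGroup.mk' M) = N := by
    rw [hNb]; exact Subgroup.comap_map_eq_self (by rw [hker]; exact hMN)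
  have hKback : Kb.comap (QuotientGroup.mk' M) = K := by
    rw [hKb]; exact Subgroup.comap_map_eq_self (by rw [hker]; exact hMK.le)
  have hNbcard : Nat.card Nb = p ^ j := by
    have h1 := qp_card_comap M Nb
    rw [hNback, hN] at h1
    have hM0 : 0 < Nat.card M := Nat.card_pos
    exact (Nat.eq_of_mul_eq_mul_right hM0 h1).symm
  have hNbP : IsPGroup p Nb := IsPGroup.of_card hNbcard
  haveI hNbn : Nb.Normal := by rw [hNb]; exact hNn.map _ hπ
  haveI hKbn : Kb.Normal := by rw [hKb]; exact hKn.map _ hπ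
  have hKbNb : Kb ≤ Nb := by rw [hKb, hNb]; exact Subgroup.map_mono hKN
  have hKbne : Kb ≠ ⊥ := by
    intro h
    have : K ≤ M := by
      rw [← hKback, h]
      intro x hx
      rw [Subgroup.mem_comap, Subgroup.mem_bot] at hx
      exact (QuotientGroup.eq_one_iff x).mp hx
    exact absurd this (not_le_of_gt hMK)
  haveI : (Kb.subgroupOf Nb).Normal := Subgroup.normal_subgroupOf
  have hsne : Kb.subgroupOf Nb ≠ ⊥ := by
    intro h
    apply hKbne
    rw [eq_bot_iff]
    intro y hy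
    have : (⟨y, hKbNb hy⟩ : Nb) ∈ Kb.subgroupOf Nb := Subgroup.mem_subgroupOf.mpr hy
    rw [h, Subgroup.mem_bot] at this
    rw [Subgroup.mem_bot]
    exact congrArg Subtype.val this
  have hz := helper19.inf_center_ne_bot_of_normal hNbP (Kb.subgroupOf Nb) hsne
  obtain ⟨z, hzmem, hz1⟩ : ∃ z : Nb, z ∈ Kb.subgroupOf Nb ⊓ Subgroup.center Nb ∧ z ≠ 1 := by
    by_contra hcon
    push Not at hcon
    apply hz
    rw [eq_bot_iff]
    intro z hzm
    rw [Subgroup.mem_bot]
    exact hcon z hzm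
  obtain ⟨hzK, hzC⟩ := Subgroup.mem_inf.mp hzmem
  have hzK' : (z : G ⧸ M) ∈ Kb := Subgroup.mem_subgroupOf.mp hzK
  have hzcomm : ∀ y ∈ Nb, y * (z : G ⧸ M) = (z : G ⧸ M) * y := by
    intro y hy
    have := Subgroup.mem_center_iff.mp hzC ⟨y, hy⟩
    exact congrArg Subtype.val this
  -- the subgroup X
  haveI : (Subgroup.centralizer ((Nb : Subgroup (G ⧸ M)) : Set (G ⧸ M))).Normal :=
    Subgroup.normal_centralizer
  obtain ⟨X, hX⟩ : ∃ X : Subgroup G, X = K ⊓
      (Subgroup.centralizer ((Nb : Subgroup (G ⧸ M)) : Set (G ⧸ M))).comap (QuotientGroup.mk' M) :=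
    ⟨_, rfl⟩
  have hXn : X.Normal := by rw [hX]; infer_instance
  have hMX : M ≤ X := by
    rw [hX]
    refine le_inf hMK.le ?_
    intro m hm
    rw [Subgroup.mem_comap]
    have : (QuotientGroup.mk' M) m = 1 := (QuotientGroup.eq_one_iff m).mpr hm
    rw [this]; exact Subgroup.one_mem _
  have hXK : X ≤ K := by rw [hX]; exact inf_le_left
  have hXneM : X ≠ M := by
    intro h
    obtain ⟨g, hg⟩ := hπ (z : G ⧸ M)
    have hgX : g ∈ X := by
      rw [hX]
      refine Subgroup.mem_inf.mpr ⟨?_, ?_⟩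
      · rw [← hKback, Subgroup.mem_comap, hg]; exact hzK'
      · rw [Subgroup.mem_comap, hg, Subgroup.mem_centralizer_iff]
        intro y hy
        exact hzcomm y hy
    rw [h] at hgX
    have : (QuotientGroup.mk' M) g = 1 := (QuotientGroup.eq_one_iff g).mpr hgX
    rw [hg] at this
    apply hz1
    exact Subtype.ext this
  have hXeq : X = K := by
    rcases hmin X hXn hMX hXK with h | h
    · exact absurd h hXneM
    · exact h
  have hKcent : ∀ k ∈ K, ∀ n ∈ N,
      (QuotientGroup.mk' M n) * (QuotientGroup.mk' M k) = (QuotientGroup.mk' M k) * (QuotientGroup.mk' M n) := by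
    intro k hk n hn
    have hkX : k ∈ X := hXeq ▸ hk
    rw [hX] at hkX
    have h1 := (Subgroup.mem_inf.mp hkX).2
    rw [Subgroup.mem_comap, Subgroup.mem_centralizer_iff] at h1
    apply h1
    show (QuotientGroup.mk' M) n ∈ Nb
    rw [hNb]
    exact Subgroup.mem_map_of_mem _ hn
  intro n hn
  obtain ⟨k, hk, h, hh, rfl⟩ := hdec n
  have hhN : h ∈ N := by
    have : h = k⁻¹ * (k * h) := by group
    rw [this]
    exact N.mul_mem (N.inv_mem (hKN hk)) hn
  have hhM : h ∈ M := by
    apply hcent h hh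
    intro k' hk'
    rw [← QuotientGroup.eq_one_iff (N := M)]
    have h1 := hKcent k' hk' h hhN
    have : ((h * k' * h⁻¹ * k'⁻¹ : G) : G ⧸ M)
        = (QuotientGroup.mk' M h) * (QuotientGroup.mk' M k') * (QuotientGroup.mk' M h)⁻¹ *
          (QuotientGroup.mk' M k')⁻¹ := by
      simp
    rw [this, h1]
    group
  exact K.mul_mem hk (hMK.le hhM)

end QP2

end Cfsg.Agent.helper22
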