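import Mathlib
import Cfsg.Agent.Lib_helper22_QP1
import Cfsg.Agent.Lib_helper22_QP2
import Cfsg.Agent.Lib_helper22_Glue
import Cfsg.Agent.Lib_helper22_RepGroup
import Cfsg.Agent.Lib_helper8_Ind

set_option autoImplicit false
set_option linter.unusedSectionVars false
set_option linter.unusedVariables false
set_option linter.style.haveILetI false
set_option linter.style.longLine false

/-!
helper22: Isaacs 11.32.  If `ϑ ∈ Irr(H)`, `H` maximal, `L ◁ G`, `L ≤ H`, `G / L` solvable,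
`ϑ_L` irreducible and `ϑ^G` irreducible, then `ϑ^G` is not quasi-primitive above `L`.
-/

namespace Cfsg.Agent.helper22

open Cfsg
open scoped ComplexConjugate
open scoped Classical

universe u

section QP3
variable {G : Type u} [Group G] [Fintype G]

theorem qp_relIndex_mul_card (K N : Subgroup G) (hKN : K ≤ N) :
    K.relIndex N * Nat.card K = Nat.card N := by
  have h1 := Subgroup.card_mul_index (K.subgroupOf N)
  have h2 : Nat.card (K.subgroupOf N) = Nat.card K :=
    Nat.card_congr (Subgroup.subgroupOfEquivOfLe hKN).toEquiv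
  rw [h2, mul_comm] at h1
  exact h1

/-- restriction of `ϑ` to an intermediate subgroup `L ≤ X ≤ H` stays irreducible -/
theorem qp_res_irr (L X H : Subgroup G) (hLX : L ≤ X) (hXH : X ≤ H) (ϑ : H → ℂ)
    (hϑ : IsIrrCharacter H ϑ)
    (hϑL : IsIrrCharacter L (fun x : L => ϑ ⟨(x : G), (hLX.trans hXH) x.2⟩)) :
    IsIrrCharacter X (fun x : X => ϑ ⟨(x : G), hXH x.2⟩) := by
  haveI : Fintype X := Fintype.ofFinite _
  have hψ : IsCharacter X (fun x : X => ϑ ⟨(x : G), hXH x.2⟩) :=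
    helper8.isCharacter_comp_monoidHom (Subgroup.inclusion hXH) (helper24.irr_isCharacter hϑ)
  apply isIrrCharacter_of_res_irr (L.subgroupOf X) hψ
  exact helper8.isIrrCharacter_comp_mulEquiv (Subgroup.subgroupOfEquivOfLe hLX) hϑL

/-- an induced function vanishes on `K \\ (K ∩ H)` for `K` normal -/
theorem qp_indFun_vanish (H K M : Subgroup G) [hKn : K.Normal] [hMn : M.Normal]
    (hKH : K ⊓ H = M) (ϑ : H → ℂ) : ∀ g ∈ K, g ∉ M → indFun H ϑ g = 0 := by
  intro g hgK hgM
  unfold indFun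
  rw [Finset.sum_eq_zero, mul_zero]
  intro x _
  apply helper12.extendByZero_of_not_mem'
  intro hH
  apply hgM
  have h1 : x⁻¹ * g * x ∈ K := by
    have := hKn.conj_mem g hgK x⁻¹
    rwa [inv_inv] at this
  have h2 : x⁻¹ * g * x ∈ M := hKH ▸ Subgroup.mem_inf.mpr ⟨h1, hH⟩
  have h3 := hMn.conj_mem _ h2 x
  have h4 : x * (x⁻¹ * g * x) * x⁻¹ = g := by group
  rwa [h4] at h3

theorem qpNsq_top_irr (χ : G → ℂ) (hχ : IsIrrCharacter G χ) :
    qpNsq (⊤ : Subgroup G) χ = (Nat.card G : ℝ) := by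
  have h1 := helper24.irr_classInner_self hχ
  unfold classInner at h1
  have hG0 : (Nat.card G : ℂ) ≠ 0 := by exact_mod_cast Nat.card_pos.ne'
  have h2 : ∑ g : G, χ g * conj (χ g) = (Nat.card G : ℂ) := by
    rw [← mul_right_inj' hG0] at h1
    rw [← mul_assoc, mul_inv_cancel₀ hG0, one_mul, mul_one] at h1
    exact h1
  have h3 : (qpNsq (⊤ : Subgroup G) χ : ℂ) = ((Nat.card G : ℝ) : ℂ) := by
    rw [← qpCross_self]
    unfold qpCross
    push_cast
    rw [← h2]
    apply Finset.sum_congr rfl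
    intro g _
    rw [if_pos (Subgroup.mem_top g)]
  exact_mod_cast h3

/-- the ramification index of `ξ` over `ψ` divides the index -/
theorem qp_ratio (K N : Subgroup G) [hKn : K.Normal] (hKN : K ≤ N) (χ : G → ℂ)
    (ψ : K → ℂ) (hψ : IsIrrCharacter K ψ) (ξ : N → ℂ) (hξ : IsIrrCharacter N ξ) (e f : ℕ)
    (hK : (fun m : K => χ m) = (e : ℂ) • ψ) (hN : (fun m : N => χ m) = (f : ℂ) • ξ)
    (hχ1 : χ 1 ≠ 0) : ∃ a : ℕ, f * a = e ∧ a ∣ K.relIndex N := by
  haveI : Fintype N := Fintype.ofFinite _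
  haveI : Fintype K := Fintype.ofFinite _
  haveI : (K.subgroupOf N).Normal := Subgroup.normal_subgroupOf
  haveI : Fintype (K.subgroupOf N) := Fintype.ofFinite _
  obtain ⟨ι, hι⟩ : ∃ ι : K.subgroupOf N ≃* K, ι = Subgroup.subgroupOfEquivOfLe hKN := ⟨_, rfl⟩
  have hιv : ∀ a : K.subgroupOf N, ((ι a : K) : G) = ((a : N) : G) := by
    intro a; rw [hι]; rfl
  have hψ' : IsIrrCharacter (K.subgroupOf N) (fun a => ψ (ι a)) :=
    helper8.isIrrCharacter_comp_mulEquiv ι hψ
  have hK1 : χ 1 = (e : ℂ) * ψ 1 := by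
    have := congrFun hK 1
    simpa using this
  have hN1 : χ 1 = (f : ℂ) * ξ 1 := by
    have := congrFun hN 1
    simpa using this
  have he0 : (e : ℂ) ≠ 0 := by
    intro h; rw [h, zero_mul] at hK1; exact hχ1 hK1
  have hf0 : (f : ℂ) ≠ 0 := by
    intro h; rw [h, zero_mul] at hN1; exact hχ1 hN1
  have hres : helper5.res (K.subgroupOf N) ξ = ((e : ℂ) / (f : ℂ)) • (fun a => ψ (ι a)) := by
    funext a
    rw [helper5.res_apply, Pi.smul_apply, smul_eq_mul]
    have h1 := congrFun hN (a : N)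
    have h2 := congrFun hK (ι a)
    simp only [Pi.smul_apply, smul_eq_mul] at h1 h2
    rw [hιv] at h2
    have h3 : (f : ℂ) * ξ (a : N) = (e : ℂ) * ψ (ι a) := by rw [← h1, ← h2]
    field_simp
    rw [mul_comm, h3]
  have hcon : classInner (helper5.res (K.subgroupOf N) ξ) (fun a => ψ (ι a)) ≠ 0 := by
    rw [hres, helper24.classInner_smul_left, helper24.irr_classInner_self hψ', mul_one]
    exact div_ne_zero he0 hf0
  obtain ⟨a, ha, hadvd⟩ := degree_ratio_general (K.subgroupOf N) hξ hψ' hcon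
  refine ⟨a, ?_, hadvd⟩
  have hψ1 : ψ (ι 1) = ψ 1 := by rw [map_one]
  have hψ0 : ψ 1 ≠ 0 := helper24.irr_apply_one_ne_zero hψ
  have h5 : ((f * a : ℕ) : ℂ) * ψ 1 = (e : ℂ) * ψ 1 := by
    push_cast
    rw [← hK1, hN1, ha, hψ1]
    ring
  have h6 := mul_right_cancel₀ hψ0 h5
  exact_mod_cast h6

end QP3

end Cfsg.Agent.helper22
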