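import Mathlib
import Cfsg.Agent.Lib_helper22_QP3

set_option autoImplicit false
set_option linter.unusedSectionVars false
set_option linter.unusedVariables false
set_option linter.style.haveILetI false
set_option linter.style.longLine false
set_option maxHeartbeats 1000000

/-!
helper22: Isaacs 11.32, main argument.
-/

namespace Cfsg.Agent.helper22

open Cfsg
open scoped ComplexConjugate
open scoped Classical

universe u

section QP4
variable {G : Type u} [Group G] [Fintype G]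

/-- numerical consequences at the first chief factor `K / M` -/
theorem qp_first_level (H M K : Subgroup G) [hKn : K.Normal] [hMn : M.Normal]
    (hMH : M ≤ H) (hdec : ∀ g : G, ∃ k ∈ K, ∃ h ∈ H, g = k * h) (hKH : K ⊓ H = M)
    (ϑ : H → ℂ) (hϑ : IsIrrCharacter H ϑ)
    (hϑM : IsIrrCharacter M (fun x : M => ϑ ⟨(x : G), hMH x.2⟩))
    (hind : IsIrrCharacter G (indFun H ϑ))
    (ψ : K → ℂ) (hψ : IsIrrCharacter K ψ) (e : ℕ)
    (hK : (fun m : K => indFun H ϑ m) = (e : ℂ) • ψ)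
    (φ : M → ℂ) (hφ : IsIrrCharacter M φ) (r : ℕ)
    (hM : (fun m : M => indFun H ϑ m) = (r : ℂ) • φ) :
    r = e ^ 2 ∧ Nat.card K = e ^ 2 * Nat.card M ∧ e ≠ 0 := by
  haveI : Fintype M := Fintype.ofFinite _
  obtain ⟨χ, hχ⟩ : ∃ χ, χ = indFun H ϑ := ⟨_, rfl⟩
  rw [← hχ] at hK hM hind
  have hχ1 : χ 1 ≠ 0 := helper24.irr_apply_one_ne_zero hind
  have hK1 : χ 1 = (e : ℂ) * ψ 1 := by
    have := congrFun hK 1
    simpa using this
  have he0 : e ≠ 0 := by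
    intro h; rw [h, Nat.cast_zero, zero_mul] at hK1; exact hχ1 hK1
  have hcK : (0 : ℝ) < Nat.card K := by exact_mod_cast Nat.card_pos
  have hcM : (0 : ℝ) < Nat.card M := by exact_mod_cast Nat.card_pos
  have heR : (0 : ℝ) < e := by exact_mod_cast Nat.pos_of_ne_zero he0
  have hnK : qpNsq K χ = (e : ℝ) ^ 2 * (Nat.card K : ℝ) := qpNsq_of_res_smul K χ ψ hψ e hK
  have hnM : qpNsq M χ = (r : ℝ) ^ 2 * (Nat.card M : ℝ) := qpNsq_of_res_smul M χ φ hφ r hM
  have hv : ∀ g ∈ K, g ∉ M → χ g = 0 := by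
    rw [hχ]; exact qp_indFun_vanish H K M hKH ϑ
  have hKM : M ≤ K := by rw [← hKH]; exact inf_le_left
  have heq : qpNsq K χ = qpNsq M χ := qpNsq_eq_of_vanish M K hKM χ hv
  have hid := qp_norm_identity H K hdec ϑ (helper24.char_isClassFunction (helper24.irr_isCharacter hϑ))
  rw [hKH, ← hχ, qpCross_extendByZero H M hMH ϑ χ, hM, helper8.classInner_smul_right,
    Complex.conj_natCast, helper24.irr_classInner hϑM hφ] at hid
  by_cases hsame : (fun x : M => ϑ ⟨(x : G), hMH x.2⟩) = φ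
  · rw [if_pos hsame, mul_one] at hid
    have hid' : qpNsq K χ * (Nat.card M : ℝ) = (Nat.card K : ℝ) * ((Nat.card M : ℝ) * (r : ℝ)) := by
      exact_mod_cast hid
    rw [hnK] at hid'
    have hr : (r : ℝ) = (e : ℝ) ^ 2 := by
      have h1 : (e : ℝ) ^ 2 * ((Nat.card K : ℝ) * (Nat.card M : ℝ))
          = (r : ℝ) * ((Nat.card K : ℝ) * (Nat.card M : ℝ)) := by linarith [hid']
      have h2 : ((Nat.card K : ℝ) * (Nat.card M : ℝ)) ≠ 0 := (mul_pos hcK hcM).ne'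
      exact (mul_right_cancel₀ h2 h1).symm
    have hrN : r = e ^ 2 := by exact_mod_cast hr
    refine ⟨hrN, ?_, he0⟩
    rw [hnK, hnM, hr] at heq
    have h3 : (Nat.card K : ℝ) = (e : ℝ) ^ 2 * (Nat.card M : ℝ) := by
      have h4 : (e : ℝ) ^ 2 * (Nat.card K : ℝ) = (e : ℝ) ^ 2 * ((e : ℝ) ^ 2 * (Nat.card M : ℝ)) := by
        rw [heq]; ring
      have h5 : ((e : ℝ) ^ 2) ≠ 0 := (pow_pos heR 2).ne'
      exact mul_left_cancel₀ h5 h4
    exact_mod_cast h3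
  · exfalso
    rw [if_neg hsame, mul_zero, mul_zero, mul_zero] at hid
    have hid' : qpNsq K χ * (Nat.card M : ℝ) = 0 := by exact_mod_cast hid
    rw [hnK] at hid'
    have : (e : ℝ) ^ 2 * (Nat.card K : ℝ) * (Nat.card M : ℝ) > 0 :=
      mul_pos (mul_pos (pow_pos heR 2) hcK) hcM
    linarith

/-- the contradiction at the second chief factor `N / K` -/
theorem qp_second_level (H M K N : Subgroup G) [hKn : K.Normal] [hMn : M.Normal] [hNn : N.Normal]
    (hMH : M ≤ H) (hMK : M ≤ K) (hKN : K < N)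
    (hdec : ∀ g : G, ∃ k ∈ K, ∃ h ∈ H, g = k * h) (hKH : K ⊓ H = M)
    (hcent : ∀ x ∈ H, (∀ k ∈ K, x * k * x⁻¹ * k⁻¹ ∈ M) → x ∈ M)
    (ϑ : H → ℂ) (hϑ : IsIrrCharacter H ϑ)
    (hϑQ : IsIrrCharacter (N ⊓ H : Subgroup G)
      (fun x : (N ⊓ H : Subgroup G) => ϑ ⟨(x : G), (inf_le_right : N ⊓ H ≤ H) x.2⟩))
    (hind : IsIrrCharacter G (indFun H ϑ)) (e : ℕ) (he0 : e ≠ 0)
    (hcK : Nat.card K = e ^ 2 * Nat.card M)
    (φ : M → ℂ) (hφ : IsIrrCharacter M φ)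
    (hM : (fun m : M => indFun H ϑ m) = ((e ^ 2 : ℕ) : ℂ) • φ)
    (ξ : N → ℂ) (hξ : IsIrrCharacter N ξ)
    (hN : (fun m : N => indFun H ϑ m) = (e : ℂ) • ξ) : False := by
  haveI : Fintype M := Fintype.ofFinite _
  obtain ⟨Q, hQ⟩ : ∃ Q : Subgroup G, Q = N ⊓ H := ⟨_, rfl⟩
  haveI : Fintype Q := Fintype.ofFinite _
  obtain ⟨χ, hχ⟩ : ∃ χ, χ = indFun H ϑ := ⟨_, rfl⟩
  rw [← hχ] at hM hN hind
  have hcl : IsClassFunction G χ := helper24.char_isClassFunction (helper24.irr_isCharacter hind)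
  have hQH : Q ≤ H := by rw [hQ]; exact inf_le_right
  have hQN : Q ≤ N := by rw [hQ]; exact inf_le_left
  have hMQ : M ≤ Q := by rw [hQ]; exact le_inf (hMK.trans hKN.le) hMH
  have hdecN : ∀ g : G, ∃ y ∈ N, ∃ h ∈ H, g = y * h := by
    intro g
    obtain ⟨k, hk, h, hh, rfl⟩ := hdec g
    exact ⟨k, hKN.le hk, h, hh, rfl⟩
  have heR : (0 : ℝ) < e := by exact_mod_cast Nat.pos_of_ne_zero he0
  have hcKp : (0 : ℝ) < Nat.card K := by exact_mod_cast Nat.card_pos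
  have hcMp : (0 : ℝ) < Nat.card M := by exact_mod_cast Nat.card_pos
  have hcNp : (0 : ℝ) < Nat.card N := by exact_mod_cast Nat.card_pos
  have hcQp : (0 : ℝ) < Nat.card Q := by exact_mod_cast Nat.card_pos
  have hcHp : (0 : ℝ) < Nat.card H := by exact_mod_cast Nat.card_pos
  have hcGp : (0 : ℝ) < Nat.card G := by exact_mod_cast Nat.card_pos
  -- cardinalities
  have hc1 := qp_card_prod H K hdec
  rw [hKH] at hc1
  have hc2 := qp_card_prod H N hdecN
  rw [← hQ] at hc2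
  have hc1' : (Nat.card K : ℝ) * (Nat.card H : ℝ) = (Nat.card M : ℝ) * (Nat.card G : ℝ) := by
    exact_mod_cast hc1
  have hc2' : (Nat.card N : ℝ) * (Nat.card H : ℝ) = (Nat.card Q : ℝ) * (Nat.card G : ℝ) := by
    exact_mod_cast hc2
  have hcK' : (Nat.card K : ℝ) = (e : ℝ) ^ 2 * (Nat.card M : ℝ) := by exact_mod_cast hcK
  have hcN : (Nat.card N : ℝ) = (e : ℝ) ^ 2 * (Nat.card Q : ℝ) := by
    have h1 : (Nat.card N : ℝ) * (Nat.card M : ℝ) * ((Nat.card H : ℝ) * (Nat.card G : ℝ))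
        = (Nat.card Q : ℝ) * (Nat.card K : ℝ) * ((Nat.card H : ℝ) * (Nat.card G : ℝ)) := by
      calc (Nat.card N : ℝ) * (Nat.card M : ℝ) * ((Nat.card H : ℝ) * (Nat.card G : ℝ))
          = ((Nat.card N : ℝ) * (Nat.card H : ℝ)) * ((Nat.card M : ℝ) * (Nat.card G : ℝ)) := by ring
        _ = ((Nat.card Q : ℝ) * (Nat.card G : ℝ)) * ((Nat.card K : ℝ) * (Nat.card H : ℝ)) := by
            rw [hc2', hc1']
        _ = _ := by ring
    have h2 := mul_right_cancel₀ (mul_pos hcHp hcGp).ne' h1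
    rw [hcK'] at h2
    have h3 : (Nat.card N : ℝ) * (Nat.card M : ℝ)
        = ((e : ℝ) ^ 2 * (Nat.card Q : ℝ)) * (Nat.card M : ℝ) := by rw [h2]; ring
    exact mul_right_cancel₀ hcMp.ne' h3
  -- norms
  have hnN : qpNsq N χ = (e : ℝ) ^ 2 * (Nat.card N : ℝ) := qpNsq_of_res_smul N χ ξ hξ e hN
  have hnM : qpNsq M χ = ((e ^ 2 : ℕ) : ℝ) ^ 2 * (Nat.card M : ℝ) :=
    qpNsq_of_res_smul M χ φ hφ (e ^ 2) hM
  have hnF : qpNsq Q (extendByZero H ϑ) = (Nat.card Q : ℝ) := by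
    apply qpNsq_extendByZero H Q hQH ϑ
    have h7 := hϑQ
    subst hQ
    exact h7
  have hid := qp_norm_identity H N hdecN ϑ (helper24.char_isClassFunction (helper24.irr_isCharacter hϑ))
  rw [← hQ, ← hχ] at hid
  have hcross : qpCross Q (extendByZero H ϑ) χ
      = (((e : ℝ) ^ 2 * qpNsq Q (extendByZero H ϑ) : ℝ) : ℂ) := by
    have hN0 : (Nat.card N : ℂ) ≠ 0 := by exact_mod_cast Nat.card_pos.ne'
    have h1 : qpCross Q (extendByZero H ϑ) χ
        = (qpNsq N χ : ℂ) * (Nat.card Q : ℂ) / (Nat.card N : ℂ) := by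
      rw [hid]; field_simp
    rw [h1, hnN, hnF]
    push_cast
    field_simp
  have hcs := qp_cauchy Q (extendByZero H ϑ) χ ((e : ℝ) ^ 2) hcross
  rw [hnF] at hcs
  have hle : qpNsq N χ ≤ qpNsq Q χ := by
    rw [hnN, hcN]
    calc (e : ℝ) ^ 2 * ((e : ℝ) ^ 2 * (Nat.card Q : ℝ)) = ((e : ℝ) ^ 2) ^ 2 * (Nat.card Q : ℝ) := by ring
      _ ≤ qpNsq Q χ := hcs
  have hv1 : ∀ g ∈ N, g ∉ Q → χ g = 0 := qp_vanish_of_nsq_le Q N hQN χ hle
  have hv2 : ∀ g ∈ N, g ∉ M → χ g = 0 := by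
    intro g hgN hgM
    by_cases hgQ : g ∈ Q
    · have hgH : g ∈ H := hQH hgQ
      have hex : ∃ k ∈ K, g * k * g⁻¹ * k⁻¹ ∉ M := by
        by_contra hcon
        push Not at hcon
        exact hgM (hcent g hgH hcon)
      obtain ⟨k, hk, hkM⟩ := hex
      have hyN : k⁻¹ * g * k ∈ N := by
        have := hNn.conj_mem g hgN k⁻¹
        rwa [inv_inv] at this
      have hyQ : k⁻¹ * g * k ∉ Q := by
        intro hyQ
        apply hkM
        have hyH : k⁻¹ * g * k ∈ H := hQH hyQ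
        have huH : g⁻¹ * (k⁻¹ * g * k) ∈ H := H.mul_mem (H.inv_mem hgH) hyH
        have huK : g⁻¹ * (k⁻¹ * g * k) ∈ K := by
          have h1 : g⁻¹ * k⁻¹ * g ∈ K := by
            have := hKn.conj_mem k⁻¹ (K.inv_mem hk) g⁻¹
            rwa [inv_inv] at this
          have h2 : g⁻¹ * (k⁻¹ * g * k) = (g⁻¹ * k⁻¹ * g) * k := by group
          rw [h2]
          exact K.mul_mem h1 hk
        have huM : g⁻¹ * (k⁻¹ * g * k) ∈ M := hKH ▸ Subgroup.mem_inf.mpr ⟨huK, huH⟩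
        have h3 := hMn.conj_mem _ huM (k * g)
        have h4 : k * g * (g⁻¹ * (k⁻¹ * g * k)) * (k * g)⁻¹ = g * k * g⁻¹ * k⁻¹ := by group
        rwa [h4] at h3
      have h5 := hv1 _ hyN hyQ
      have h6 : χ (k⁻¹ * g * k) = χ g := by
        have := hcl g k⁻¹
        rwa [inv_inv] at this
      rw [← h6]; exact h5
    · exact hv1 g hgN hgQ
  have heq : qpNsq N χ = qpNsq M χ := qpNsq_eq_of_vanish M N (hMK.trans hKN.le) χ hv2
  rw [hnN, hnM] at heq
  have hfin : (Nat.card N : ℝ) = (Nat.card K : ℝ) := by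
    rw [hcK']
    have h1 : (e : ℝ) ^ 2 * (Nat.card N : ℝ) = (e : ℝ) ^ 2 * ((e : ℝ) ^ 2 * (Nat.card M : ℝ)) := by
      rw [heq]; push_cast; ring
    exact mul_left_cancel₀ (pow_pos heR 2).ne' h1
  have hfinN : Nat.card N = Nat.card K := by exact_mod_cast hfin
  have := Subgroup.eq_of_le_of_card_ge hKN.le (le_of_eq hfinN)
  exact absurd this hKN.ne

end QP4

end Cfsg.Agent.helper22
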