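import Mathlib
import Cfsg.Agent.Lib_helper22_QP4

set_option autoImplicit false
set_option linter.unusedSectionVars false
set_option linter.unusedVariables false
set_option linter.style.haveILetI false
set_option linter.style.longLine false
set_option maxHeartbeats 1000000

/-!
helper22: Isaacs 11.32, assembly.
-/

namespace Cfsg.Agent.helper22

open Cfsg
open scoped ComplexConjugate
open scoped Classical

universe u

section QP5
variable {G : Type u} [Group G] [Fintype G]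

/-- **Isaacs 11.32.** -/
theorem qp_not_quasiprimitive (L H : Subgroup G) [hLn : L.Normal] (hLH : L ≤ H)
    (hmax : IsCoatom H) (hsolv : Group.IsSolvable (G ⧸ L)) (ϑ : H → ℂ)
    (hϑ : IsIrrCharacter H ϑ)
    (hϑL : IsIrrCharacter L (fun x : L => ϑ ⟨(x : G), hLH x.2⟩))
    (hind : IsIrrCharacter G (indFun H ϑ)) :
    ∃ M : Subgroup G, M.Normal ∧ L ≤ M ∧ ¬ ∃ (φ : M → ℂ) (e : ℕ), IsIrrCharacter M φ ∧
      (fun m : M => indFun H ϑ m) = (e : ℂ) • φ := by
  by_contra hcon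
  have hq : ∀ X : Subgroup G, X.Normal → L ≤ X → ∃ (φ : X → ℂ) (e : ℕ),
      IsIrrCharacter X φ ∧ (fun m : X => indFun H ϑ m) = (e : ℂ) • φ := by
    intro X hXn hLX
    by_contra h
    exact hcon ⟨X, hXn, hLX, h⟩
  obtain ⟨M, hMdef⟩ : ∃ M : Subgroup G, M = H.normalCore := ⟨_, rfl⟩
  haveI hMn : M.Normal := by rw [hMdef]; infer_instance
  have hMH : M ≤ H := hMdef ▸ Subgroup.normalCore_le H
  have hLM : L ≤ M := by rw [hMdef]; exact Subgroup.normal_le_normalCore.mpr hLH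
  have hMtop : M ≠ ⊤ := fun h => hmax.1 (top_le_iff.mp (h ▸ hMH))
  have hsolvM := qp_solvable_quot_of_le L M hLM hsolv
  obtain ⟨K, hKn, hMK, ⟨p, d, hp, hcardK⟩, hcomm, hmin⟩ := qp_chief_above M hsolvM hMtop
  haveI := hKn
  obtain ⟨hdec, hKH, hcent⟩ := qp_core_facts H M K hmax hMdef hMK hcomm
  obtain ⟨ψ, e, hψ, hK⟩ := hq K hKn (hLM.trans hMK.le)
  obtain ⟨φ, r, hφ, hMres⟩ := hq M hMn hLM
  have hϑM := qp_res_irr L M H hLM hMH ϑ hϑ hϑL
  obtain ⟨hr, hcK, he0⟩ :=
    qp_first_level H M K hMH hdec hKH ϑ hϑ hϑM hind ψ hψ e hK φ hφ r hMres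
  have hMpos : 0 < Nat.card M := Nat.card_pos
  have hKtop : K ≠ ⊤ := by
    intro h
    subst h
    have h1 := qpNsq_of_res_smul (⊤ : Subgroup G) (indFun H ϑ) ψ hψ e hK
    rw [qpNsq_top_irr _ hind, Subgroup.card_top] at h1
    have hGp : (0 : ℝ) < Nat.card G := by exact_mod_cast Nat.card_pos
    have h2 : (e : ℝ) ^ 2 = 1 := by
      have : (e : ℝ) ^ 2 * (Nat.card G : ℝ) = 1 * (Nat.card G : ℝ) := by rw [← h1, one_mul]
      exact mul_right_cancel₀ hGp.ne' this
    have h3 : e ^ 2 = 1 := by exact_mod_cast h2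
    rw [h3, one_mul] at hcK
    have h4 : M = ⊤ := (Subgroup.eq_of_le_of_card_ge hMK.le (le_of_eq hcK))
    exact hMtop h4
  have hsolvK := qp_solvable_quot_of_le L K (hLM.trans hMK.le) hsolv
  obtain ⟨N, hNn, hKN, ⟨q, j, hq', hcardN⟩, -, -⟩ := qp_chief_above K hsolvK hKtop
  haveI := hNn
  obtain ⟨ξ, f, hξ, hNres⟩ := hq N hNn (hLM.trans (hMK.le.trans hKN.le))
  obtain ⟨a, hfa, hadvd⟩ := qp_ratio K N hKN.le (indFun H ϑ) ψ hψ ξ hξ e f hK hNres
    (helper24.irr_apply_one_ne_zero hind)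
  have hpq : p ≠ q := by
    intro h
    have hN' : Nat.card N = p ^ (j + d) * Nat.card M := by
      rw [hcardN, hcardK, ← h, pow_add]; ring
    exact absurd (qp_coprime_step H M K N hMK hKN.le hdec hcent hmin p hp (j + d) hN')
      (not_le_of_gt hKN)
  have he2 : e ^ 2 = p ^ d := by
    have : e ^ 2 * Nat.card M = p ^ d * Nat.card M := by rw [← hcK, hcardK]
    exact Nat.eq_of_mul_eq_mul_right hMpos this
  have hrel : K.relIndex N = q ^ j := by
    have h1 := qp_relIndex_mul_card K N hKN.le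
    rw [hcardN] at h1
    exact Nat.eq_of_mul_eq_mul_right Nat.card_pos h1
  have ha1 : a = 1 := by
    have h1 : a ∣ p ^ d := by
      rw [← he2]
      exact Dvd.dvd.trans (Dvd.intro_left f hfa) (Dvd.intro e (by ring))
    have h2 : a ∣ q ^ j := hrel ▸ hadvd
    have hcop : Nat.Coprime (p ^ d) (q ^ j) :=
      Nat.Coprime.pow d j ((Nat.coprime_primes hp hq').mpr hpq)
    have hcop2 : Nat.Coprime a (q ^ j) := Nat.Coprime.coprime_dvd_left h1 hcop
    exact Nat.Coprime.eq_one_of_dvd hcop2 h2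
  have hfe : f = e := by rw [ha1, mul_one] at hfa; exact hfa
  have hϑQ := qp_res_irr L (N ⊓ H) H
    (le_inf (hLM.trans (hMK.le.trans hKN.le)) hLH) inf_le_right ϑ hϑ hϑL
  rw [hr] at hMres
  rw [hfe] at hNres
  exact qp_second_level H M K N hMH hMK.le hKN hdec hKH hcent ϑ hϑ hϑQ hind e he0 hcK
    φ hφ hMres ξ hξ hNres

end QP5

end Cfsg.Agent.helper22
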