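import Mathlib
import Cfsg.Agent.Lib_helper22_IndBlk1

set_option autoImplicit false
set_option linter.unusedSectionVars false
set_option linter.unusedVariables false
set_option linter.style.longLine false

/-!
helper22: blocks of `p`-regular rank one: the single Cartan invariant is `p^d`.
-/

namespace Cfsg.Agent.helper22

open Cfsg
open scoped ComplexConjugate

universe u

section RankOne
variable {G : Type u} [Group G] [Fintype G]

theorem pRegularPart_of_reg (p : ℕ) (χ : G → ℂ) {y : G} (hy : IsPRegular p y) :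
    pRegularPart p χ y = χ y := by
  unfold pRegularPart
  simp only [if_pos hy]

theorem rank_one_prop (p : ℕ) [Fact p.Prime] (B : Set (IrrCharacter G))
    (hl : blockRank p B = 1) {χ ψ : IrrCharacter G} (hχ : χ ∈ B) (hψ : ψ ∈ B) (x : G)
    (hx : IsPRegular p x) :
    (ψ : G → ℂ) 1 * (χ : G → ℂ) x = (χ : G → ℂ) 1 * (ψ : G → ℂ) x := by
  have hp : p.Prime := Fact.out
  have h1reg : IsPRegular p (1 : G) := by
    unfold IsPRegular
    rw [orderOf_one]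
    exact fun h => hp.ne_one (Nat.dvd_one.mp h)
  unfold blockRank at hl
  obtain ⟨v, hv0, hv⟩ := finrank_eq_one_iff'.mp hl
  have hχm : pRegularPart p (χ : G → ℂ) ∈ Submodule.span ℂ
      ((fun χ : IrrCharacter G => pRegularPart p (χ : G → ℂ)) '' B) :=
    Submodule.subset_span ⟨χ, hχ, rfl⟩
  have hψm : pRegularPart p (ψ : G → ℂ) ∈ Submodule.span ℂ
      ((fun χ : IrrCharacter G => pRegularPart p (χ : G → ℂ)) '' B) :=
    Submodule.subset_span ⟨ψ, hψ, rfl⟩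
  obtain ⟨c₁, h₁⟩ := hv ⟨_, hχm⟩
  obtain ⟨c₂, h₂⟩ := hv ⟨_, hψm⟩
  have e₁ : ∀ y, pRegularPart p (χ : G → ℂ) y = c₁ * (v : G → ℂ) y := by
    intro y
    have h3 := congrArg (fun w : ↥(Submodule.span ℂ
      ((fun χ : IrrCharacter G => pRegularPart p (χ : G → ℂ)) '' B)) => (w : G → ℂ) y) h₁
    simp only [Submodule.coe_smul, Pi.smul_apply, smul_eq_mul] at h3
    exact h3.symm
  have e₂ : ∀ y, pRegularPart p (ψ : G → ℂ) y = c₂ * (v : G → ℂ) y := by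
    intro y
    have h3 := congrArg (fun w : ↥(Submodule.span ℂ
      ((fun χ : IrrCharacter G => pRegularPart p (χ : G → ℂ)) '' B)) => (w : G → ℂ) y) h₂
    simp only [Submodule.coe_smul, Pi.smul_apply, smul_eq_mul] at h3
    exact h3.symm
  have a1 := e₁ x
  rw [pRegularPart_of_reg p _ hx] at a1
  have a2 := e₁ 1
  rw [pRegularPart_of_reg p _ h1reg] at a2
  have b1 := e₂ x
  rw [pRegularPart_of_reg p _ hx] at b1
  have b2 := e₂ 1
  rw [pRegularPart_of_reg p _ h1reg] at b2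
  rw [a1, a2, b1, b2]
  ring

open Classical in
theorem rank_one_cartan (p : ℕ) [Fact p.Prime] {M : Ideal AlgInt} (hM : IsPModular p M)
    (B : Set (IrrCharacter G)) (hB : IsPBlock M B) (hl : blockRank p B = 1) :
    ∃ φ : G → ℂ, ∃ d : IrrCharacter G → ℕ,
      (∃ n : IrrCharacter G → ℤ, ∀ x : G, IsPRegular p x →
        φ x = ∑ᶠ ψ ∈ B, (n ψ : ℂ) * (ψ : G → ℂ) x) ∧
      (∀ χ ∈ B, ∀ x : G, IsPRegular p x → (χ : G → ℂ) x = (d χ : ℂ) * φ x) ∧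
      ∑ᶠ χ ∈ B, d χ ^ 2 = p ^ blockDefect p B := by
  haveI := Fintype.ofFinite (IrrCharacter G)
  have hp : p.Prime := Fact.out
  haveI hMp : M.IsPrime := hM.2.1.isPrime
  have hMtop := hMp.ne_top
  obtain ⟨e₀, ψ₀, hψ₀B, he₀, hh₀, hda, hdec, hlea⟩ := block_data p hM B hB
  have hBeq : B = blockOf M (ψ₀ : G → ℂ) :=
    block_eq_of_mem hMp hB ⟨ψ₀, rfl⟩ hψ₀B (helper24.sameBlock_refl M hMtop _)
  obtain ⟨Bf, hBf⟩ : ∃ Bf : Finset (IrrCharacter G),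
    Bf = Finset.univ.filter (fun χ : IrrCharacter G => χ ∈ blockOf M (ψ₀ : G → ℂ)) := ⟨_, rfl⟩
  have hBfmem : ∀ ξ, ξ ∈ Bf ↔ ξ ∈ B := by
    intro ξ
    rw [hBf, hBeq]
    simp
  have hsum : ∀ f : IrrCharacter G → ℂ, ∑ᶠ ψ ∈ B, f ψ = ∑ ψ ∈ Bf, f ψ := by
    intro f
    rw [finsum_mem_eq_finite_toFinset_sum _ (Set.toFinite B)]
    apply Finset.sum_congr _ (fun _ _ => rfl)
    ext ξ
    rw [Set.Finite.mem_toFinset, hBfmem]
  have hsumN : ∀ f : IrrCharacter G → ℕ, ∑ᶠ ψ ∈ B, f ψ = ∑ ψ ∈ Bf, f ψ := by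
    intro f
    rw [finsum_mem_eq_finite_toFinset_sum _ (Set.toFinite B)]
    apply Finset.sum_congr _ (fun _ _ => rfl)
    ext ξ
    rw [Set.Finite.mem_toFinset, hBfmem]
  obtain ⟨aa, haa⟩ : ∃ aa, aa = (Nat.card G).factorization p := ⟨_, rfl⟩
  rw [← haa] at hda
  -- degrees
  obtain ⟨D, hD⟩ : ∃ D : IrrCharacter G → ℕ, D = fun χ : IrrCharacter G => charDegree (χ : G → ℂ) := ⟨_, rfl⟩
  have hDpos : ∀ χ, 0 < D χ := by
    intro χ; rw [hD]; exact helper24.irr_charDegree_pos χ.2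
  have hDc : ∀ χ : IrrCharacter G, (χ : G → ℂ) 1 = (D χ : ℂ) := by
    intro χ; rw [hD]
    exact (helper24.char_charDegree_cast (helper24.irr_isCharacter χ.2)).symm
  have hDval : ∀ χ ∈ Bf, p ^ e₀ ∣ D χ := by
    intro χ hχ
    have h1 := hdec χ ((hBfmem χ).mp hχ)
    rw [hD]
    exact (hp.pow_dvd_iff_le_factorization (helper24.irr_charDegree_pos χ.2).ne').mpr (by omega)
  -- gcd with Bezout
  obtain ⟨a, ha⟩ := Finset.gcd_eq_sum_mul Bf (fun χ => (D χ : ℤ))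
  obtain ⟨gZ, hgZ⟩ : ∃ gZ : ℤ, gZ = Bf.gcd (fun χ => (D χ : ℤ)) := ⟨_, rfl⟩
  rw [← hgZ] at ha
  have hgnn : 0 ≤ gZ := by
    rw [hgZ]; exact Int.nonneg_of_normalize_eq_self Finset.normalize_gcd
  have hgdvd : ∀ χ ∈ Bf, gZ ∣ (D χ : ℤ) := by
    intro χ hχ; rw [hgZ]; exact Finset.gcd_dvd hχ
  have hψ₀Bf : ψ₀ ∈ Bf := (hBfmem ψ₀).mpr hψ₀B
  have hg0 : gZ ≠ 0 := by
    intro h0
    have h1 := hgdvd ψ₀ hψ₀Bf
    rw [h0, zero_dvd_iff] at h1
    have h2 := hDpos ψ₀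
    omega
  obtain ⟨g, hg⟩ : ∃ g : ℕ, (g : ℤ) = gZ := ⟨gZ.toNat, Int.toNat_of_nonneg hgnn⟩
  have hgpos : 0 < g := by omega
  have hgdvdN : ∀ χ ∈ Bf, g ∣ D χ := by
    intro χ hχ
    have h1 := hgdvd χ hχ
    rw [← hg] at h1
    exact_mod_cast h1
  have hgc : (g : ℂ) ≠ 0 := by exact_mod_cast hgpos.ne'
  -- d
  obtain ⟨d, hd⟩ : ∃ d : IrrCharacter G → ℕ, d = fun χ => D χ / g := ⟨_, rfl⟩
  have hdD : ∀ χ ∈ Bf, D χ = g * d χ := by
    intro χ hχ; rw [hd]; exact (Nat.mul_div_cancel' (hgdvdN χ hχ)).symm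
  have hdDc : ∀ χ ∈ Bf, (D χ : ℂ) = (g : ℂ) * (d χ : ℂ) := by
    intro χ hχ; exact_mod_cast hdD χ hχ
  -- φ
  obtain ⟨φ, hφ⟩ : ∃ φ : G → ℂ, φ = fun x => ∑ ψ ∈ Bf, (a ψ : ℂ) * (ψ : G → ℂ) x := ⟨_, rfl⟩
  have hφx : ∀ x, φ x = ∑ ψ ∈ Bf, (a ψ : ℂ) * (ψ : G → ℂ) x := by
    intro x; rw [hφ]
  have hbez : ∑ ψ ∈ Bf, (a ψ : ℂ) * (D ψ : ℂ) = (g : ℂ) := by
    have h1 : ((∑ ψ ∈ Bf, (D ψ : ℤ) * a ψ : ℤ) : ℂ) = ((g : ℤ) : ℂ) := by rw [← ha, hg]
    push_cast at h1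
    rw [← h1]
    apply Finset.sum_congr rfl
    intros; ring
  have hprop : ∀ χ ∈ Bf, ∀ x, IsPRegular p x → (χ : G → ℂ) x = (d χ : ℂ) * φ x := by
    intro χ hχ x hx
    have hχB := (hBfmem χ).mp hχ
    have h1 : (D χ : ℂ) * φ x = (g : ℂ) * (χ : G → ℂ) x := by
      rw [hφx, Finset.mul_sum, ← hbez, Finset.sum_mul]
      apply Finset.sum_congr rfl
      intro ψ hψ
      have h2 := rank_one_prop p B hl hχB ((hBfmem ψ).mp hψ) x hx
      rw [hDc, hDc] at h2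
      linear_combination (-(a ψ : ℂ)) * h2
    rw [hdDc χ hχ] at h1
    apply mul_left_cancel₀ hgc
    rw [← h1]; ring
  obtain ⟨c, hc⟩ : ∃ c : ℕ, c = ∑ χ ∈ Bf, d χ ^ 2 := ⟨_, rfl⟩
  have hΦsing : ∀ y : G, p ∣ orderOf y → ∑ χ ∈ Bf, (d χ : ℂ) * (χ : G → ℂ) y = 0 := by
    intro y hy
    have h1 := helper24.block_sum_degree_mul_eq_zero p M hM ψ₀ y hy
    rw [← hBf] at h1
    have h2 : ∑ ψ ∈ Bf, (ψ : G → ℂ) 1 * (ψ : G → ℂ) y =
        (g : ℂ) * ∑ χ ∈ Bf, (d χ : ℂ) * (χ : G → ℂ) y := by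
      rw [Finset.mul_sum]
      apply Finset.sum_congr rfl
      intro χ hχ
      rw [hDc, hdDc χ hχ]; ring
    rw [h2] at h1
    exact (mul_eq_zero.mp h1).resolve_left hgc
  have hΦreg : ∀ x : G, IsPRegular p x →
      ∑ χ ∈ Bf, (d χ : ℂ) * (χ : G → ℂ) x = (c : ℂ) * φ x := by
    intro x hx
    rw [hc]; push_cast; rw [Finset.sum_mul]
    apply Finset.sum_congr rfl
    intro χ hχ
    rw [hprop χ hχ x hx]; ring
  have hfun : ∑ χ ∈ Bf, ((c : ℂ) * (a χ : ℂ)) • cutFn p (χ : G → ℂ) =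
      ∑ χ ∈ Bf, (((p ^ aa : ℕ) : ℂ) * (d χ : ℂ)) • (χ : G → ℂ) := by
    funext x
    simp only [Finset.sum_apply, Pi.smul_apply, smul_eq_mul]
    have e3 : ∑ χ ∈ Bf, ((p ^ aa : ℕ) : ℂ) * (d χ : ℂ) * (χ : G → ℂ) x =
        ((p ^ aa : ℕ) : ℂ) * ∑ χ ∈ Bf, (d χ : ℂ) * (χ : G → ℂ) x := by
      rw [Finset.mul_sum]
      apply Finset.sum_congr rfl
      intros; ring
    by_cases hx : p ∣ orderOf x
    · have e1 : ∀ χ ∈ Bf, (c : ℂ) * (a χ : ℂ) * cutFn p (χ : G → ℂ) x = 0 := by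
        intro χ _
        unfold cutFn
        rw [if_pos hx, mul_zero]
      rw [Finset.sum_eq_zero e1, e3, hΦsing x hx, mul_zero]
    · have e1 : ∀ χ ∈ Bf, (c : ℂ) * (a χ : ℂ) * cutFn p (χ : G → ℂ) x =
          (c : ℂ) * ((p ^ aa : ℕ) : ℂ) * ((a χ : ℂ) * (χ : G → ℂ) x) := by
        intro χ _
        unfold cutFn
        rw [if_neg hx, ← haa]; ring
      rw [Finset.sum_congr rfl e1, ← Finset.mul_sum, e3, hΦreg x hx, hφx]
      ring
  have hz : ∀ ψ ∈ Bf, (c : ℤ) * ∑ χ ∈ Bf, a χ * nInt p χ ψ = (p : ℤ) ^ aa * (d ψ : ℤ) := by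
    intro ψ hψ
    have h1 : classInner (∑ χ ∈ Bf, ((c : ℂ) * (a χ : ℂ)) • cutFn p (χ : G → ℂ)) (ψ : G → ℂ) =
        classInner (∑ χ ∈ Bf, (((p ^ aa : ℕ) : ℂ) * (d χ : ℂ)) • (χ : G → ℂ)) (ψ : G → ℂ) := by
      rw [hfun]
    rw [helper24.classInner_sum_left, helper24.classInner_sum_left] at h1
    have e1 : ∀ χ ∈ Bf, classInner (((c : ℂ) * (a χ : ℂ)) • cutFn p (χ : G → ℂ)) (ψ : G → ℂ) =
        (c : ℂ) * (a χ : ℂ) * (nInt p χ ψ : ℂ) := by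
      intro χ _
      rw [helper24.classInner_smul_left, nInt_spec]
    have e2 : ∀ χ ∈ Bf, classInner ((((p ^ aa : ℕ) : ℂ) * (d χ : ℂ)) • (χ : G → ℂ))
        (ψ : G → ℂ) = if χ = ψ then ((p ^ aa : ℕ) : ℂ) * (d ψ : ℂ) else 0 := by
      intro χ _
      rw [helper24.classInner_smul_left, helper24.irr_classInner χ.2 ψ.2]
      by_cases h : χ = ψ
      · subst h; simp
      · have h' : (χ : G → ℂ) ≠ (ψ : G → ℂ) := fun h' => h (Subtype.ext h')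
        rw [if_neg h', if_neg h, mul_zero]
    rw [Finset.sum_congr rfl e1, Finset.sum_congr rfl e2, Finset.sum_ite_eq' Bf ψ, if_pos hψ] at h1
    have h2 : (((c : ℤ) * ∑ χ ∈ Bf, a χ * nInt p χ ψ : ℤ) : ℂ) =
        (((p : ℤ) ^ aa * (d ψ : ℤ) : ℤ) : ℂ) := by
      push_cast
      push_cast at h1
      rw [← h1, Finset.mul_sum]
      apply Finset.sum_congr rfl
      intros; ring
    exact_mod_cast h2
  have hone : ∑ ψ ∈ Bf, a ψ * (d ψ : ℤ) = 1 := by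
    have h1 : (g : ℤ) * ∑ ψ ∈ Bf, a ψ * (d ψ : ℤ) = (g : ℤ) := by
      rw [Finset.mul_sum]
      calc ∑ ψ ∈ Bf, (g : ℤ) * (a ψ * (d ψ : ℤ)) = ∑ ψ ∈ Bf, (D ψ : ℤ) * a ψ := by
            apply Finset.sum_congr rfl
            intro ψ hψ
            have : (D ψ : ℤ) = (g : ℤ) * (d ψ : ℤ) := by exact_mod_cast hdD ψ hψ
            rw [this]; ring
        _ = gZ := ha.symm
        _ = (g : ℤ) := hg.symm
    have hgz : (g : ℤ) ≠ 0 := by exact_mod_cast hgpos.ne'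
    exact mul_left_cancel₀ hgz (by rw [h1, mul_one])
  have hcdvd : (c : ℤ) ∣ (p : ℤ) ^ aa := by
    refine ⟨∑ ψ ∈ Bf, a ψ * ∑ χ ∈ Bf, a χ * nInt p χ ψ, ?_⟩
    calc (p : ℤ) ^ aa = (p : ℤ) ^ aa * ∑ ψ ∈ Bf, a ψ * (d ψ : ℤ) := by rw [hone, mul_one]
      _ = ∑ ψ ∈ Bf, a ψ * ((p : ℤ) ^ aa * (d ψ : ℤ)) := by
          rw [Finset.mul_sum]
          apply Finset.sum_congr rfl
          intros; ring
      _ = ∑ ψ ∈ Bf, a ψ * ((c : ℤ) * ∑ χ ∈ Bf, a χ * nInt p χ ψ) := by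
          apply Finset.sum_congr rfl
          intro ψ hψ
          rw [hz ψ hψ]
      _ = (c : ℤ) * ∑ ψ ∈ Bf, a ψ * ∑ χ ∈ Bf, a χ * nInt p χ ψ := by
          rw [Finset.mul_sum]
          apply Finset.sum_congr rfl
          intros; ring
  have hcdvdN : c ∣ p ^ aa := by exact_mod_cast hcdvd
  obtain ⟨j, hj, hcj⟩ := (Nat.dvd_prime_pow hp).mp hcdvdN
  -- valuations
  have hS : ∑ χ ∈ Bf, D χ ^ 2 = g ^ 2 * c := by
    rw [hc, Finset.mul_sum]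
    apply Finset.sum_congr rfl
    intro χ hχ
    rw [hdD χ hχ]; ring
  have hmin : ∀ ψ : IrrCharacter G, SameBlock M (ψ₀ : G → ℂ) (ψ : G → ℂ) →
      (charDegree (ψ₀ : G → ℂ)).factorization p ≤ (charDegree (ψ : G → ℂ)).factorization p := by
    intro ψ hψ
    have hψB : ψ ∈ B := by rw [hBeq]; exact hψ
    have := hdec ψ hψB
    omega
  have hval := block_sq_sum_val p hM ψ₀ hmin
  rw [← hBf, he₀, ← haa] at hval
  have hval' : (∑ χ ∈ Bf, D χ ^ 2).factorization p = aa + e₀ := by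
    rw [hD]; exact hval
  have hgval : g.factorization p = e₀ := by
    apply le_antisymm
    · have h1 := hgdvdN ψ₀ hψ₀Bf
      have h2 := (Nat.factorization_le_iff_dvd hgpos.ne' (hDpos ψ₀).ne').mpr h1 p
      have h3 : (D ψ₀).factorization p = e₀ := by rw [hD]; exact he₀
      omega
    · have h1 : ((p : ℤ) ^ e₀) ∣ gZ := by
        rw [ha]
        apply Finset.dvd_sum
        intro χ hχ
        have : ((p : ℤ) ^ e₀) ∣ (D χ : ℤ) := by exact_mod_cast hDval χ hχ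
        exact Dvd.dvd.mul_right this _
      rw [← hg] at h1
      have h2 : p ^ e₀ ∣ g := by exact_mod_cast h1
      exact (hp.pow_dvd_iff_le_factorization hgpos.ne').mp h2
  have hcpos : c ≠ 0 := by rw [hcj]; exact (pow_pos hp.pos _).ne'
  have hjd : j = blockDefect p B := by
    rw [hS, Nat.factorization_mul (pow_pos hgpos 2).ne' hcpos, Nat.factorization_pow, hcj,
      Nat.factorization_pow] at hval'
    simp only [Finsupp.coe_add, Finsupp.coe_smul, Pi.add_apply, Pi.smul_apply, smul_eq_mul,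
      hp.factorization_self, mul_one] at hval'
    rw [hgval] at hval'
    omega
  refine ⟨φ, d, ⟨a, ?_⟩, ?_, ?_⟩
  · intro x _
    rw [hsum, hφx]
  · intro χ hχ x hx
    exact hprop χ ((hBfmem χ).mpr hχ) x hx
  · rw [hsumN, ← hc, hcj, hjd]

end RankOne

end Cfsg.Agent.helper22
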