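import Mathlib
import Cfsg.Statements.S4029
import Cfsg.Agent.Lib_helper24_BrauerPerm
import Cfsg.Agent.Lib_helper23_LinChar
import Cfsg.Agent.Lib_helper8_AbQuot
import Cfsg.Agent.Lib_helper1_PGroup

set_option autoImplicit false
open Cfsg

namespace Cfsg.Agent.S4029

open Cfsg.Agent.helper24 Cfsg.Agent.helper1 Cfsg.Agent.helper8 Cfsg.Agent.helper23
open scoped ComplexConjugate commutatorElement

universe u

/-- number of real irreducible characters = number of real classes -/
theorem card_real {K : Type u} [Group K] [Finite K] :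
    Nat.card {χ : IrrCharacter K // irrConj χ = χ} =
      Nat.card {C : ConjClasses K // ccInv K C = C} := by
  let π : Equiv.Perm (IrrCharacter K) := Function.Involutive.toPerm irrConj irrConj_irrConj
  let π' : Equiv.Perm (ConjClasses K) := Function.Involutive.toPerm (ccInv K) (ccInv_ccInv K)
  have hcompat : ∀ (χ : IrrCharacter K) (k k' : K), ConjClasses.mk k' = π' (ConjClasses.mk k) →
      ((π χ : IrrCharacter K) : K → ℂ) k' = (χ : K → ℂ) k := by
    intro χ k k' h
    have h1 : ConjClasses.mk k' = ConjClasses.mk k⁻¹ := h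
    have h2 : IsConj k' k⁻¹ := ConjClasses.mk_eq_mk_iff_isConj.1 h1
    show conj ((χ : K → ℂ) k') = (χ : K → ℂ) k
    have h3 := (isClassFunction_iff_isConj.1 (char_isClassFunction (irr_isCharacter χ.2))) k' k⁻¹ h2
    rw [h3, char_inv (irr_isCharacter χ.2), Complex.conj_conj]
  exact card_fixed_eq_of_compat π π' hcompat

theorem result {P : Type*} [Group P] [Finite P] (hP : IsPGroup 2 P)
    (hirr : ∀ y : P, Subgroup.normalizer ((Subgroup.zpowers y : Subgroup P) : Set P) ≤ Subgroup.centralizer {y}) :
    Nat.card (P ⧸ frattini P) ≤ Nat.card {c : ConjClasses P // ∃ y : P, ConjClasses.mk y = c ∧ orderOf y = 2} + 1 ∧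
    Nat.card (P ⧸ frattini P) ≤ Nat.card (Subgroup.closure {y : P | orderOf y = 2}) := by
  classical
  have : Fact (Nat.Prime 2) := ⟨Nat.prime_two⟩
  -- real classes are the identity class or involution classes
  have hreal : ∀ C : ConjClasses P, ccInv P C = C → C ≠ ConjClasses.mk 1 →
      ∃ y : P, ConjClasses.mk y = C ∧ orderOf y = 2 := by
    intro C hC hC1
    induction C using Quotient.inductionOn with
    | h y =>
      have h1 : ConjClasses.mk y⁻¹ = ConjClasses.mk y := hC
      have h2 : IsConj y⁻¹ y := ConjClasses.mk_eq_mk_iff_isConj.1 h1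
      obtain ⟨g, hg⟩ := isConj_iff.1 h2
      -- g * y⁻¹ * g⁻¹ = y
      have hgy : g * y * g⁻¹ = y⁻¹ := by
        have := congrArg Inv.inv hg
        rw [← this]
        group
      have hgN : g ∈ Subgroup.normalizer ((Subgroup.zpowers y : Subgroup P) : Set P) := by
        rw [Subgroup.mem_normalizer_iff]
        intro h
        constructor
        · rintro ⟨k, rfl⟩
          have : g * y ^ k * g⁻¹ = (g * y * g⁻¹) ^ k := by
            rw [conj_zpow]
          rw [this, hgy]
          exact Subgroup.zpow_mem _ (Subgroup.inv_mem _ (Subgroup.mem_zpowers y)) k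
        · rintro ⟨k, hk⟩
          have hh : h = g⁻¹ * y ^ k * g := by
            have hk' : y ^ k = g * h * g⁻¹ := hk
            rw [hk']; group
          have e1 : y = g⁻¹ * y⁻¹ * g := by rw [← hgy]; group
          have h3 : g⁻¹ * y * g = y⁻¹ := by
            calc g⁻¹ * y * g = (g⁻¹ * y⁻¹ * g)⁻¹ := by group
              _ = y⁻¹ := by rw [← e1]
          have : g⁻¹ * y ^ k * g = (g⁻¹ * y * g) ^ k := by
            have := conj_zpow (a := g⁻¹) (b := y) (i := k)
            rw [inv_inv] at this
            exact this.symm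
          rw [hh, this, h3]
          exact Subgroup.zpow_mem _ (Subgroup.inv_mem _ (Subgroup.mem_zpowers y)) k
      have hgC := hirr y hgN
      rw [Subgroup.mem_centralizer_singleton_iff] at hgC
      have hyy : y⁻¹ = y := by
        rw [← hgy, hgC]; group
      have hy2 : y ^ 2 = 1 := by
        rw [pow_two]
        nth_rewrite 1 [← hyy]
        exact inv_mul_cancel y
      have hy1 : y ≠ 1 := by
        rintro rfl
        exact hC1 rfl
      exact ⟨y, rfl, orderOf_eq_prime hy2 hy1⟩
  set S := {c : ConjClasses P // ∃ y : P, ConjClasses.mk y = c ∧ orderOf y = 2} with hS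
  -- injection real classes → Option S
  have hle1 : Nat.card {C : ConjClasses P // ccInv P C = C} ≤ Nat.card S + 1 := by
    rw [← Finite.card_option]
    let f : {C : ConjClasses P // ccInv P C = C} → Option S := fun C =>
      if h : C.1 = ConjClasses.mk 1 then none else some ⟨C.1, hreal C.1 C.2 h⟩
    apply Nat.card_le_card_of_injective f
    intro C D hCD
    by_cases hC : C.1 = ConjClasses.mk 1
    · by_cases hD : D.1 = ConjClasses.mk 1
      · exact Subtype.ext (hC.trans hD.symm)
      · simp only [f, hC, hD, dif_pos, dif_neg, not_false_eq_true] at hCD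
        exact absurd hCD (by simp)
    · by_cases hD : D.1 = ConjClasses.mk 1
      · simp only [f, hC, hD, dif_pos, dif_neg, not_false_eq_true] at hCD
        exact absurd hCD (by simp)
      · simp only [f, hC, hD, dif_neg, not_false_eq_true, Option.some.injEq] at hCD
        have h5 : (C.1 : ConjClasses P) = D.1 := congrArg (fun s : S => s.1) hCD
        exact Subtype.ext h5
  -- the quotient is an elementary abelian 2-group
  have hab : ∀ x y : P, x * y * x⁻¹ * y⁻¹ ∈ frattini P := by
    intro x y
    apply commutator_le_frattini_of_isPGroup hP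
    rw [commutator_def]
    have : x * y * x⁻¹ * y⁻¹ = ⁅x, y⁆ := rfl
    rw [this]
    exact Subgroup.commutator_mem_commutator (Subgroup.mem_top x) (Subgroup.mem_top y)
  let _ : CommGroup (P ⧸ frattini P) := commGroupQuot (frattini P) hab
  have hne : Monoid.exponent (P ⧸ frattini P) ≠ 0 := Monoid.exponent_ne_zero_of_finite
  have : NeZero ((Monoid.exponent (P ⧸ frattini P) : ℕ) : ℂ) := ⟨by exact_mod_cast hne⟩
  have hcard : Nat.card ((P ⧸ frattini P) →* ℂˣ) = Nat.card (P ⧸ frattini P) :=
    CommGroup.card_monoidHom_of_hasEnoughRootsOfUnity (P ⧸ frattini P) ℂ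
  have : Finite ((P ⧸ frattini P) →* ℂˣ) := by
    apply Nat.finite_of_card_ne_zero
    rw [hcard]
    exact Nat.card_pos.ne'
  have hsq : ∀ (φ : (P ⧸ frattini P) →* ℂˣ) (x : P),
      ((φ (QuotientGroup.mk x) : ℂˣ) : ℂ) ^ 2 = 1 := by
    intro φ x
    have h1 : (QuotientGroup.mk x : P ⧸ frattini P) ^ 2 = 1 := by
      rw [← QuotientGroup.mk_pow, QuotientGroup.eq_one_iff]
      exact pow_mem_frattini_of_isPGroup hP x
    have h2 : (φ (QuotientGroup.mk x)) ^ 2 = 1 := by rw [← map_pow, h1, map_one]
    have := congrArg (fun u : ℂˣ => (u : ℂ)) h2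
    simpa using this
  have hle2 : Nat.card (P ⧸ frattini P) ≤ Nat.card {χ : IrrCharacter P // irrConj χ = χ} := by
    rw [← hcard]
    let F : ((P ⧸ frattini P) →* ℂˣ) → {χ : IrrCharacter P // irrConj χ = χ} := fun φ =>
      ⟨linIrr (φ.comp (QuotientGroup.mk' (frattini P))), by
        rw [irrConj_eq_self_iff]
        intro g
        rw [linIrr_apply]
        have h := hsq φ g
        show ((φ (QuotientGroup.mk g) : ℂˣ) : ℂ).im = 0
        rcases sq_eq_one_iff.mp h with h1 | h1
        · rw [h1]; simp
        · rw [h1]; simp⟩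
    apply Nat.card_le_card_of_injective F
    intro φ ψ h
    have h1 : linIrr (φ.comp (QuotientGroup.mk' (frattini P))) =
        linIrr (ψ.comp (QuotientGroup.mk' (frattini P))) := congrArg Subtype.val h
    have h2 := linIrr_injective h1
    apply MonoidHom.ext
    intro a
    induction a using QuotientGroup.induction_on with
    | _ x => exact DFunLike.congr_fun h2 x
  have hmain : Nat.card (P ⧸ frattini P) ≤ Nat.card S + 1 := by
    calc Nat.card (P ⧸ frattini P) ≤ Nat.card {χ : IrrCharacter P // irrConj χ = χ} := hle2
      _ = Nat.card {C : ConjClasses P // ccInv P C = C} := card_real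
      _ ≤ Nat.card S + 1 := hle1
  refine ⟨hmain, hmain.trans ?_⟩
  -- s + 1 ≤ |⟨involutions⟩|
  rw [← Finite.card_option]
  have hrep : ∀ c : S, ∃ y : P, ConjClasses.mk y = c.1 ∧ orderOf y = 2 := fun c => c.2
  choose rep hrep1 hrep2 using hrep
  let f : Option S → Subgroup.closure {y : P | orderOf y = 2} := fun o =>
    match o with
    | none => 1
    | some c => ⟨rep c, Subgroup.subset_closure (hrep2 c)⟩
  apply Nat.card_le_card_of_injective f
  intro a b hab'
  cases a with
  | none =>
    cases b with
    | none => rfl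
    | some d =>
      exfalso
      have h1 : (1 : P) = rep d := congrArg Subtype.val hab'
      have := hrep2 d
      rw [← h1, orderOf_one] at this
      omega
  | some c =>
    cases b with
    | none =>
      exfalso
      have h1 : rep c = (1 : P) := congrArg Subtype.val hab'
      have := hrep2 c
      rw [h1, orderOf_one] at this
      omega
    | some d =>
      have h1 : rep c = rep d := congrArg Subtype.val hab'
      have : c.1 = d.1 := by rw [← hrep1 c, ← hrep1 d, h1]
      exact congrArg some (Subtype.ext this)

end Cfsg.Agent.S4029
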