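import Mathlib
import Cfsg.Agent.Lib_helper22_Glaub20
import Cfsg.Agent.Lib_helper22_Glaub14
import Cfsg.Agent.Lib_helper1_ConjChar
import Cfsg.Agent.S4029

set_option autoImplicit false
set_option linter.unusedSectionVars false
set_option linter.unusedVariables false
set_option maxHeartbeats 1600000

/-!
Real characters and the Glauberman correspondence (helper22): for a `p`-group `P` acting on a
`p'`-group `K`, the number of `P`-invariant real irreducible characters of `K` equals the number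
of `P`-invariant real classes of `K`.
-/

namespace Cfsg.Agent.helper22

open Cfsg
open scoped ComplexConjugate

universe u

section Map
variable {p : ℕ} {B C : Type u} [Group B] [Group C] [Fintype C] {ι : C →* B}
  {Inv : IrrCharacter B → Prop}

/-- fixed points correspond under a compatible pair of maps on characters -/
theorem GCorrAbs.card_fixed_map (hp : p.Prime) (h : GCorrAbs p ι Inv)
    (τB : IrrCharacter B → IrrCharacter B) (τC : IrrCharacter C → IrrCharacter C)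
    (hInvτ : ∀ χ, Inv χ → Inv (τB χ))
    (hτ : ∀ (χ : IrrCharacter B) (β : IrrCharacter C) (m : ℕ),
      classInner (fun c : C => (χ : B → ℂ) (ι c)) (β : C → ℂ) = m →
      classInner (fun c : C => (τB χ : B → ℂ) (ι c)) (τC β : C → ℂ) = m) :
    Nat.card {χ : IrrCharacter B // Inv χ ∧ τB χ = χ} =
      Nat.card {β : IrrCharacter C // τC β = β} := by
  classical
  obtain ⟨R, hR⟩ : ∃ R : IrrCharacter B → IrrCharacter C → Prop, ∀ χ β, R χ β ↔
      ∃ m : ℕ, classInner (fun c : C => (χ : B → ℂ) (ι c)) (β : C → ℂ) = m ∧ ¬ p ∣ m :=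
    ⟨_, fun _ _ => Iff.rfl⟩
  have R1 : ∀ χ, Inv χ → ∃ β, R χ β ∧ ∀ β', R χ β' → β' = β := by
    intro χ hχ
    obtain ⟨β, ε, hε, hm⟩ := h.exist χ hχ
    refine ⟨β, ?_, ?_⟩
    · rw [hR]
      obtain ⟨m, hm1, hmod⟩ := hm β
      rw [if_pos rfl] at hmod
      exact ⟨m, hm1, not_dvd_of_modEq_sign hp hε hmod⟩
    · intro β' hβ'
      rw [hR] at hβ'
      obtain ⟨m, hm1, hpm⟩ := hβ'
      exact corr_unique hm β' m hm1 hpm
  have R2 : ∀ χ χ' β, Inv χ → Inv χ' → R χ β → R χ' β → χ = χ' := by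
    intro χ χ' β hχ hχ' h1 h2
    rw [hR] at h1 h2
    obtain ⟨m, hm, hpm⟩ := h1
    obtain ⟨m', hm', hpm'⟩ := h2
    exact h.inj χ χ' hχ hχ' β m m' hm hpm hm' hpm'
  have R3 : ∀ β, ∃ χ, Inv χ ∧ R χ β := by
    intro β
    obtain ⟨χ, hχ, m, hm, hpm⟩ := h.surj β
    exact ⟨χ, hχ, (hR χ β).mpr ⟨m, hm, hpm⟩⟩
  have R4 : ∀ χ β, R χ β → R (τB χ) (τC β) := by
    intro χ β h1
    rw [hR] at h1 ⊢
    obtain ⟨m, hm, hpm⟩ := h1
    exact ⟨m, hτ χ β m hm, hpm⟩
  choose Φ hΦ hΦu using R1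
  have hfix : ∀ (χ : IrrCharacter B) (hχ : Inv χ), τB χ = χ → τC (Φ χ hχ) = Φ χ hχ := by
    intro χ hχ hfixχ
    have h1 := R4 χ (Φ χ hχ) (hΦ χ hχ)
    rw [hfixχ] at h1
    exact hΦu χ hχ _ h1
  apply Nat.card_eq_of_bijective
    (fun χ : {χ : IrrCharacter B // Inv χ ∧ τB χ = χ} =>
      (⟨Φ χ.1 χ.2.1, hfix χ.1 χ.2.1 χ.2.2⟩ : {β : IrrCharacter C // τC β = β}))
  constructor
  · intro χ χ' hχχ'
    have h1 : Φ χ.1 χ.2.1 = Φ χ'.1 χ'.2.1 := congrArg Subtype.val hχχ'
    apply Subtype.ext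
    have h2 := hΦ χ.1 χ.2.1
    have h3 := hΦ χ'.1 χ'.2.1
    rw [← h1] at h3
    exact R2 χ.1 χ'.1 _ χ.2.1 χ'.2.1 h2 h3
  · rintro ⟨β, hβ⟩
    obtain ⟨χ, hχ, hRχ⟩ := R3 β
    have hχfix : τB χ = χ := by
      have h1 := R4 χ β hRχ
      rw [hβ] at h1
      exact R2 _ χ β (hInvτ χ hχ) hχ h1 hRχ
    refine ⟨⟨χ, hχ, hχfix⟩, ?_⟩
    apply Subtype.ext
    exact (hΦu χ hχ β hRχ).symm

end Map

section RealClass
variable {K : Type u} [Group K]

theorem real_class_iff (c : ConjClasses K) :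
    (∀ k : K, ConjClasses.mk k = c → IsConj k k⁻¹) ↔ helper24.ccInv K c = c := by
  constructor
  · intro h
    induction c using Quotient.inductionOn with
    | h k =>
      show helper24.ccInv K (ConjClasses.mk k) = ConjClasses.mk k
      rw [helper24.ccInv_mk]
      exact (ConjClasses.mk_eq_mk_iff_isConj.mpr (h k rfl)).symm
  · intro h k hk
    have h1 : helper24.ccInv K (ConjClasses.mk k) = ConjClasses.mk k := by rw [hk]; exact h
    rw [helper24.ccInv_mk] at h1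
    exact (ConjClasses.mk_eq_mk_iff_isConj.mp h1).symm

end RealClass

section RealCount
variable {Γ : Type u} [Group Γ] [Fintype Γ]

theorem isConj_inv_of_isConj {K : Type u} [Group K] {a b : K} (h : IsConj a b) :
    IsConj a⁻¹ b⁻¹ := by
  obtain ⟨c, hc⟩ := isConj_iff.mp h
  exact isConj_iff.mpr ⟨c, by rw [← hc]; group⟩

/-- the map from real classes of `C_K(P)` to `P`-invariant real classes of `K` is bijective -/
theorem real_inv_classes_card {p : ℕ} (hp : p.Prime) (P K : Subgroup Γ) (hP : IsPGroup p P)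
    (hK : ¬ p ∣ Nat.card K) (hnorm : ∀ s ∈ P, ∀ g ∈ K, s * g * s⁻¹ ∈ K) :
    Nat.card {κ : ConjClasses (K ⊓ Subgroup.centralizer (P : Set Γ) : Subgroup Γ) //
        helper24.ccInv _ κ = κ} =
      Nat.card {c : ConjClasses K // (∀ k : K, ConjClasses.mk k = c → IsConj k k⁻¹) ∧
        ∀ s ∈ P, ∀ g g' : K, (g' : Γ) = s * g * s⁻¹ → ConjClasses.mk g = c →
          ConjClasses.mk g' = c} := by
  classical
  haveI : Fact p.Prime := ⟨hp⟩
  have hcop : (Nat.card K).Coprime (Nat.card P) := by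
    obtain ⟨n, hn⟩ := hP.exists_card_eq
    rw [hn]
    exact Nat.Coprime.pow_right n ((Nat.Prime.coprime_iff_not_dvd hp).mpr hK).symm
  have hsolv : Group.IsSolvable P := by
    haveI := hP.isNilpotent
    infer_instance
  obtain ⟨ι, hι⟩ : ∃ ι : (K ⊓ Subgroup.centralizer (P : Set Γ) : Subgroup Γ) →* K,
      ι = Subgroup.inclusion inf_le_left := ⟨_, rfl⟩
  have hιcoe : ∀ c, ((ι c : K) : Γ) = (c : Γ) := by intro c; rw [hι]; rfl
  have hιcen : ∀ c, ((ι c : K) : Γ) ∈ Subgroup.centralizer (P : Set Γ) := by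
    intro c; rw [hιcoe]; exact (Subgroup.mem_inf.mp c.2).2
  have hPinv : ∀ c : (K ⊓ Subgroup.centralizer (P : Set Γ) : Subgroup Γ),
      ∀ s ∈ P, ∀ g g' : K, (g' : Γ) = s * g * s⁻¹ → ConjClasses.mk g = ConjClasses.mk (ι c) →
        ConjClasses.mk g' = ConjClasses.mk (ι c) := by
    intro c
    have := class_of_fixed_inv K P hnorm c
    rw [hι]
    exact this
  have hreal : ∀ c : (K ⊓ Subgroup.centralizer (P : Set Γ) : Subgroup Γ),
      helper24.ccInv _ (ConjClasses.mk c) = ConjClasses.mk c →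
      ∀ k : K, ConjClasses.mk k = ConjClasses.mk (ι c) → IsConj k k⁻¹ := by
    intro c hc
    rw [← real_class_iff] at hc
    have h1 : IsConj c c⁻¹ := hc c rfl
    have h2 : IsConj (ι c) (ι c)⁻¹ := by
      have := ι.map_isConj h1
      rwa [map_inv] at this
    rw [real_class_iff]
    rw [helper24.ccInv_mk]
    exact (ConjClasses.mk_eq_mk_iff_isConj.mpr h2).symm
  obtain ⟨f, hf⟩ : ∃ f : {κ : ConjClasses (K ⊓ Subgroup.centralizer (P : Set Γ) : Subgroup Γ) //
        helper24.ccInv _ κ = κ} →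
      {c : ConjClasses K // (∀ k : K, ConjClasses.mk k = c → IsConj k k⁻¹) ∧
        ∀ s ∈ P, ∀ g g' : K, (g' : Γ) = s * g * s⁻¹ → ConjClasses.mk g = c →
          ConjClasses.mk g' = c},
      ∀ (c : (K ⊓ Subgroup.centralizer (P : Set Γ) : Subgroup Γ))
        (hc : helper24.ccInv _ (ConjClasses.mk c) = ConjClasses.mk c),
        (f ⟨ConjClasses.mk c, hc⟩ : ConjClasses K) = ConjClasses.mk (ι c) := by
    refine ⟨fun κ => ⟨ConjClasses.map ι κ.1, ?_⟩, fun c hc => rfl⟩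
    obtain ⟨κ, hκ⟩ := κ
    induction κ using Quotient.inductionOn with
    | h c => exact ⟨hreal c hκ, hPinv c⟩
  apply Nat.card_eq_of_bijective f
  constructor
  · rintro ⟨κ, hκ⟩ ⟨κ', hκ'⟩ h
    induction κ using Quotient.inductionOn with
    | h c =>
      induction κ' using Quotient.inductionOn with
      | h c' =>
        have h1 : ConjClasses.mk (ι c) = ConjClasses.mk (ι c') :=
          (hf c hκ).symm.trans ((congrArg Subtype.val h).trans (hf c' hκ'))
        obtain ⟨k, hk, hkc⟩ := (class_glauberman_gen K P hnorm hcop hsolv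
          (ConjClasses.mk (ι c)) (hPinv c)).2 (ι c) (ι c') (hιcen c) (hιcen c') rfl h1.symm
        apply Subtype.ext
        show ConjClasses.mk c = ConjClasses.mk c'
        apply ConjClasses.mk_eq_mk_iff_isConj.mpr
        apply isConj_iff.mpr
        refine ⟨⟨k, hk⟩, Subtype.ext ?_⟩
        rw [hιcoe, hιcoe] at hkc
        exact hkc
  · rintro ⟨𝔠, h𝔠real, h𝔠inv⟩
    obtain ⟨hex, huniq⟩ := class_glauberman_gen K P hnorm hcop hsolv 𝔠 h𝔠inv
    obtain ⟨c, hcC, hc𝔠⟩ := hex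
    obtain ⟨c₀, hc₀⟩ : ∃ c₀ : (K ⊓ Subgroup.centralizer (P : Set Γ) : Subgroup Γ), ι c₀ = c :=
      ⟨⟨c, ⟨c.2, hcC⟩⟩, by rw [hι]; rfl⟩
    have hinvC : ((c⁻¹ : K) : Γ) ∈ Subgroup.centralizer (P : Set Γ) := by
      rw [Subgroup.coe_inv]
      exact Subgroup.inv_mem _ hcC
    have hinv𝔠 : ConjClasses.mk c⁻¹ = 𝔠 := by
      rw [← hc𝔠]
      exact (ConjClasses.mk_eq_mk_iff_isConj.mpr (h𝔠real c hc𝔠)).symm
    obtain ⟨k, hk, hkc⟩ := huniq c c⁻¹ hcC hinvC hc𝔠 hinv𝔠
    have hκ : helper24.ccInv _ (ConjClasses.mk c₀) = ConjClasses.mk c₀ := by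
      rw [helper24.ccInv_mk]
      symm
      apply ConjClasses.mk_eq_mk_iff_isConj.mpr
      apply isConj_iff.mpr
      refine ⟨⟨k, hk⟩, Subtype.ext ?_⟩
      have h1 : (c₀ : Γ) = (c : Γ) := by rw [← hιcoe, hc₀]
      show k * (c₀ : Γ) * k⁻¹ = ((c₀⁻¹ : (K ⊓ Subgroup.centralizer (P : Set Γ) : Subgroup Γ)) : Γ)
      rw [Subgroup.coe_inv, h1, hkc, Subgroup.coe_inv]
    refine ⟨⟨ConjClasses.mk c₀, hκ⟩, ?_⟩
    apply Subtype.ext
    rw [hf c₀ hκ, hc₀]
    exact hc𝔠

/-- the number of `P`-invariant real irreducible characters equals the number of `P`-invariant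
real classes -/
theorem real_inv_count {p : ℕ} (hp : p.Prime) (P K : Subgroup Γ) (hP : IsPGroup p P)
    (hK : ¬ p ∣ Nat.card K) (hnorm : ∀ s ∈ P, ∀ g ∈ K, s * g * s⁻¹ ∈ K) :
    Nat.card {θ : IrrCharacter K // (∀ k : K, ((θ : K → ℂ) k).im = 0) ∧ InvUnder P K θ.1} =
      Nat.card {c : ConjClasses K // (∀ k : K, ConjClasses.mk k = c → IsConj k k⁻¹) ∧
        ∀ s ∈ P, ∀ g g' : K, (g' : Γ) = s * g * s⁻¹ → ConjClasses.mk g = c →
          ConjClasses.mk g' = c} := by
  classical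
  haveI : Fintype (K ⊓ Subgroup.centralizer (P : Set Γ) : Subgroup Γ) := Fintype.ofFinite _
  have hgc := pgroup_gcorr hp (Nat.card P) K P le_rfl hnorm hP (fun _ => hK)
    (K ⊓ Subgroup.centralizer (P : Set Γ)) rfl inf_le_left
  have h1 := hgc.card_fixed_map hp helper1.irrConj helper1.irrConj
    (by
      intro χ hχ s hs g g' hgg'
      show conj (χ.1 g') = conj (χ.1 g)
      rw [hχ s hs g g' hgg'])
    (by
      intro χ β m hm
      have := helper1.classInner_conj_conj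
        (fun c : (K ⊓ Subgroup.centralizer (P : Set Γ) : Subgroup Γ) =>
          (χ : K → ℂ) (Subgroup.inclusion inf_le_left c)) (β : _ → ℂ)
      rw [hm, Complex.conj_natCast] at this
      exact this)
  have h2 := Cfsg.Agent.S4029.card_real
    (K := (K ⊓ Subgroup.centralizer (P : Set Γ) : Subgroup Γ))
  have h3 := real_inv_classes_card hp P K hP hK hnorm
  have h0 : Nat.card {θ : IrrCharacter K // (∀ k : K, ((θ : K → ℂ) k).im = 0) ∧
      InvUnder P K θ.1} =
      Nat.card {χ : IrrCharacter K // InvUnder P K (χ : K → ℂ) ∧ helper1.irrConj χ = χ} := by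
    apply Nat.card_congr
    apply Equiv.subtypeEquivRight
    intro θ
    rw [helper1.irrConj_eq_self_iff]
    exact and_comm
  rw [h0, h1, h2, h3]

theorem exists_fixed_in_inv_class {p : ℕ} (hp : p.Prime) (P K : Subgroup Γ) (hP : IsPGroup p P)
    (hK : ¬ p ∣ Nat.card K) (hnorm : ∀ s ∈ P, ∀ g ∈ K, s * g * s⁻¹ ∈ K) (𝔠 : ConjClasses K)
    (h : ∀ s ∈ P, ∀ g g' : K, (g' : Γ) = s * g * s⁻¹ → ConjClasses.mk g = 𝔠 →
      ConjClasses.mk g' = 𝔠) :
    ∃ c : K, (c : Γ) ∈ Subgroup.centralizer (P : Set Γ) ∧ ConjClasses.mk c = 𝔠 := by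
  haveI : Fact p.Prime := ⟨hp⟩
  have hcop : (Nat.card K).Coprime (Nat.card P) := by
    obtain ⟨n, hn⟩ := hP.exists_card_eq
    rw [hn]
    exact Nat.Coprime.pow_right n ((Nat.Prime.coprime_iff_not_dvd hp).mpr hK).symm
  have hsolv : Group.IsSolvable P := by
    haveI := hP.isNilpotent
    infer_instance
  exact (class_glauberman_gen K P hnorm hcop hsolv 𝔠 h).1

/-- if all real irreducible characters are `P`-invariant, all real classes are `P`-invariant -/
theorem real_classes_inv_of_real_chars_inv {p : ℕ} (hp : p.Prime) (P K : Subgroup Γ)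
    (hP : IsPGroup p P) (hK : ¬ p ∣ Nat.card K) (hnorm : ∀ s ∈ P, ∀ g ∈ K, s * g * s⁻¹ ∈ K)
    (hall : ∀ θ : IrrCharacter K, (∀ k : K, ((θ : K → ℂ) k).im = 0) → InvUnder P K θ.1)
    (k : K) (hk : IsConj k k⁻¹) :
    ∃ k' : K, IsConj k k' ∧ ∀ x ∈ P, x * (k' : Γ) * x⁻¹ = (k' : Γ) := by
  classical
  have hcount := real_inv_count hp P K hP hK hnorm
  have hc1 := Cfsg.Agent.S4029.card_real (K := K)
  have hc2 : Nat.card {θ : IrrCharacter K // (∀ k : K, ((θ : K → ℂ) k).im = 0) ∧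
      InvUnder P K θ.1} = Nat.card {χ : IrrCharacter K // helper1.irrConj χ = χ} := by
    apply Nat.card_congr
    apply Equiv.subtypeEquivRight
    intro θ
    rw [helper1.irrConj_eq_self_iff]
    exact ⟨fun h => h.1, fun h => ⟨h, hall θ h⟩⟩
  obtain ⟨g, hg⟩ : ∃ g : {c : ConjClasses K // (∀ k : K, ConjClasses.mk k = c → IsConj k k⁻¹) ∧
        ∀ s ∈ P, ∀ g g' : K, (g' : Γ) = s * g * s⁻¹ → ConjClasses.mk g = c →
          ConjClasses.mk g' = c} → {c : ConjClasses K // helper24.ccInv K c = c},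
      ∀ c, (g c : ConjClasses K) = c.1 :=
    ⟨fun c => ⟨c.1, (real_class_iff c.1).mp c.2.1⟩, fun c => rfl⟩
  have hginj : Function.Injective g := by
    intro a b hab
    apply Subtype.ext
    rw [← hg a, ← hg b, hab]
  have hgbij := hginj.bijective_of_nat_card_le (by rw [← hc1, ← hc2, hcount])
  have hreal : helper24.ccInv K (ConjClasses.mk k) = ConjClasses.mk k := by
    rw [helper24.ccInv_mk]
    exact (ConjClasses.mk_eq_mk_iff_isConj.mpr hk).symm
  obtain ⟨c', hc'⟩ := hgbij.2 ⟨ConjClasses.mk k, hreal⟩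
  have hc'k : (c' : ConjClasses K) = ConjClasses.mk k := by
    rw [← hg c', hc']
  have hinv := c'.2.2
  rw [hc'k] at hinv
  obtain ⟨c₀, hc₀C, hc₀k⟩ := exists_fixed_in_inv_class hp P K hP hK hnorm (ConjClasses.mk k) hinv
  refine ⟨c₀, (ConjClasses.mk_eq_mk_iff_isConj.mp hc₀k).symm, ?_⟩
  intro x hx
  rw [Subgroup.mem_centralizer_iff] at hc₀C
  rw [hc₀C x hx, mul_assoc, mul_inv_cancel, mul_one]

end RealCount

end Cfsg.Agent.helper22
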