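import Mathlib
import Cfsg.Agent.Lib_helper22_Chief
import Cfsg.Statements.S0857
-- import your own Cfsg.Agent.* helpers here

set_option autoImplicit false
open Cfsg

namespace Cfsg.Agent.S0857

open scoped commutatorElement

/-- transport of the conclusions along `↥(L.subgroupOf K) ≃* ↥L` -/
theorem transport {G : Type*} [Group G] (K L : Subgroup G) (hLK : L ≤ K) (ϑ : K → ℂ)
    (h : Cfsg.IsIrrCharacter (L.subgroupOf K) (helper5.res (L.subgroupOf K) ϑ) ∨
    (∃ (φ : L.subgroupOf K → ℂ) (e : ℕ), Cfsg.IsIrrCharacter (L.subgroupOf K) φ ∧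
      helper5.res (L.subgroupOf K) ϑ = (e : ℂ) • φ ∧ e ^ 2 = (L.subgroupOf K).index) ∨
    (∃ F : Finset (L.subgroupOf K → ℂ), (∀ ψ ∈ F, Cfsg.IsIrrCharacter (L.subgroupOf K) ψ) ∧
      F.card = (L.subgroupOf K).index ∧ helper5.res (L.subgroupOf K) ϑ = ∑ ψ ∈ F, ψ)) :
    Cfsg.IsIrrCharacter L (fun x : L => ϑ ⟨(x : G), hLK x.2⟩) ∨
    (∃ (φ : L → ℂ) (e : ℕ), Cfsg.IsIrrCharacter L φ ∧
      (fun x : L => ϑ ⟨(x : G), hLK x.2⟩) = (e : ℂ) • φ ∧ e ^ 2 = L.relIndex K) ∨
    (∃ F : Finset (L → ℂ), (∀ φ ∈ F, Cfsg.IsIrrCharacter L φ) ∧ F.card = L.relIndex K ∧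
      (fun x : L => ϑ ⟨(x : G), hLK x.2⟩) = ∑ φ ∈ F, φ) := by
  classical
  obtain ⟨ε, hε⟩ : ∃ ε : L ≃* L.subgroupOf K, ∀ x : L, ((ε x : L.subgroupOf K) : K) =
      ⟨(x : G), hLK x.2⟩ := by
    refine ⟨(Subgroup.subgroupOfEquivOfLe hLK).symm, ?_⟩
    intro x
    apply Subtype.ext
    simp
  have hres : (fun x : L => ϑ ⟨(x : G), hLK x.2⟩) =
      fun x : L => helper5.res (L.subgroupOf K) ϑ (ε x) := by
    funext x
    rw [helper5.res_apply, hε]
  have hinj : Function.Injective
      (fun (ψ : L.subgroupOf K → ℂ) => (fun x : L => ψ (ε x))) := by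
    intro ψ ψ' h
    funext y
    have := congrFun h (ε.symm y)
    simpa using this
  rcases h with h | ⟨φ, e, hφ, h1, h2⟩ | ⟨F, hF, hc, hs⟩
  · left
    rw [hres]
    exact helper8.isIrrCharacter_comp_mulEquiv ε h
  · right; left
    refine ⟨fun x : L => φ (ε x), e, helper8.isIrrCharacter_comp_mulEquiv ε hφ, ?_, h2⟩
    rw [hres, h1]
    rfl
  · right; right
    refine ⟨F.image (fun (ψ : L.subgroupOf K → ℂ) => (fun x : L => ψ (ε x))), ?_, ?_, ?_⟩
    · intro φ hφ
      rw [Finset.mem_image] at hφ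
      obtain ⟨ψ, hψ, rfl⟩ := hφ
      exact helper8.isIrrCharacter_comp_mulEquiv ε (hF ψ hψ)
    · rw [Finset.card_image_of_injective _ hinj, hc]
      rfl
    · rw [Finset.sum_image (fun a _ b _ hab => hinj hab), hres, hs]
      funext x
      rw [Finset.sum_apply, Finset.sum_apply]

/-- Let L < K be normal subgroups of the finite group G with no normal subgroup of G strictly between them and with K / L abelian (the commutator subgroup of K lies in L). Let ϑ be an irreducible character of K invariant under conjugation by G. Then the restriction of ϑ to L is irreducible; or it equals e times an irreducible character of L with e ^ 2 equal to the index of L in K; or it is the sum of a family of pairwise distinct irreducible characters of L indexed by a set whose size is the index of L in K. -/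
theorem result {G : Type*} [Group G] [Fintype G] (K L : Subgroup G) [hK : K.Normal] [L.Normal] (hLK : L < K) (hchief : ∀ M : Subgroup G, M.Normal → L ≤ M → M ≤ K → M = L ∨ M = K) (hab : ⁅K, K⁆ ≤ L) (ϑ : K → ℂ) (hϑ : Cfsg.IsIrrCharacter K ϑ) (hinv : ∀ (g : G) (n : K), ϑ ⟨g * n * g⁻¹, hK.conj_mem (n : G) n.2 g⟩ = ϑ n) : Cfsg.IsIrrCharacter L (fun x : L => ϑ ⟨(x : G), hLK.le x.2⟩) ∨ (∃ (φ : L → ℂ) (e : ℕ), Cfsg.IsIrrCharacter L φ ∧ (fun x : L => ϑ ⟨(x : G), hLK.le x.2⟩) = (e : ℂ) • φ ∧ e ^ 2 = L.relIndex K) ∨ (∃ F : Finset (L → ℂ), (∀ φ ∈ F, Cfsg.IsIrrCharacter L φ) ∧ F.card = L.relIndex K ∧ (fun x : L => ϑ ⟨(x : G), hLK.le x.2⟩) = ∑ φ ∈ F, φ) := by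
  classical
  haveI : Fintype K := Fintype.ofFinite _
  haveI : Fintype (L.subgroupOf K) := Fintype.ofFinite _
  apply transport K L hLK.le ϑ
  have hL : L.Normal := inferInstance
  have hconj : ∀ (g : G) (x : K), (MulAut.conjNormal g x : K) =
      ⟨g * x * g⁻¹, hK.conj_mem (x : G) x.2 g⟩ := by
    intro g x
    apply Subtype.ext
    rw [MulAut.conjNormal_apply]
  apply helper22.chief_trichotomy (L.subgroupOf K)
    (fun g : G => (MulAut.conjNormal g : K ≃* K))
  · -- abelian quotient
    intro a b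
    obtain ⟨x, rfl⟩ := QuotientGroup.mk_surjective a
    obtain ⟨y, rfl⟩ := QuotientGroup.mk_surjective b
    rw [← QuotientGroup.mk_mul, ← QuotientGroup.mk_mul, QuotientGroup.eq,
      Subgroup.mem_subgroupOf]
    apply hab
    have h1 : (((x * y)⁻¹ * (y * x) : K) : G) = ⁅(y : G)⁻¹, (x : G)⁻¹⁆ := by
      rw [commutatorElement_def]
      push_cast
      group
    rw [h1]
    exact Subgroup.commutator_mem_commutator (K.inv_mem y.2) (K.inv_mem x.2)
  · -- automorphisms preserve `L`
    intro g x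
    rw [Subgroup.mem_subgroupOf, Subgroup.mem_subgroupOf, MulAut.conjNormal_apply]
    constructor
    · intro h
      have := hL.conj_mem _ h g⁻¹
      simpa [mul_assoc] using this
    · intro h
      exact hL.conj_mem _ h g
  · exact hϑ
  · intro g x
    rw [hconj]
    exact hinv g x
  · intro U hLU hU
    have hnorm : (U.map K.subtype).Normal := by
      constructor
      intro y hy g
      obtain ⟨x, hx, rfl⟩ := Subgroup.mem_map.mp hy
      refine Subgroup.mem_map.mpr ⟨MulAut.conjNormal g x, hU g x hx, ?_⟩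
      rw [Subgroup.coe_subtype, MulAut.conjNormal_apply]
    have hmem : ∀ x : K, (x : G) ∈ U.map K.subtype ↔ x ∈ U := by
      intro x
      rw [Subgroup.mem_map]
      constructor
      · rintro ⟨x', hx', h⟩
        have : x' = x := Subtype.ext h
        rw [← this]
        exact hx'
      · intro hx
        exact ⟨x, hx, rfl⟩
    have hle1 : L ≤ U.map K.subtype := by
      intro l hl
      have : (⟨l, hLK.le hl⟩ : K) ∈ U := hLU (Subgroup.mem_subgroupOf.mpr hl)
      exact (hmem ⟨l, hLK.le hl⟩).mpr this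
    have hle2 : U.map K.subtype ≤ K := Subgroup.map_subtype_le U
    rcases hchief _ hnorm hle1 hle2 with h | h
    · left
      ext x
      rw [Subgroup.mem_subgroupOf, ← hmem, h]
    · right
      ext x
      rw [← hmem, h]
      simp

end Cfsg.Agent.S0857
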