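import Mathlib
import Cfsg.Agent.Lib_helper22_Chief
import Cfsg.Agent.Lib_helper22_MGroup
import Cfsg.Agent.Lib_helper22_DetExt
import Cfsg.Agent.S0857
import Cfsg.Agent.S0147

set_option autoImplicit false
set_option linter.unusedSectionVars false
set_option linter.unusedVariables false

/-!
Relative M-groups (Isaacs 6.22), helper22.
-/

namespace Cfsg.Agent.helper22

open Cfsg
open scoped ComplexConjugate
open scoped commutatorElement

universe u

section Stages
variable {G : Type u} [Group G] [Fintype G]

/-- induction in stages, for a subgroup of a subgroup, general functions -/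
theorem indFun_map_subtype' (T : Subgroup G) [Fintype T] (H' : Subgroup T) (ψ' : H' → ℂ) :
    indFun T (indFun H' ψ') = indFun (H'.map T.subtype)
      (fun h => ψ' ((H'.equivMapOfInjective T.subtype T.subtype_injective).symm h)) := by
  obtain ⟨e, he⟩ : ∃ e : H' ≃* H'.map T.subtype,
      e = H'.equivMapOfInjective T.subtype T.subtype_injective := ⟨_, rfl⟩
  rw [← he]
  have hle : H'.map T.subtype ≤ T := Subgroup.map_subtype_le H'
  rw [← Cfsg.Agent.S0147.result (H'.map T.subtype) T hle]
  congr 1
  apply indFun_congr_subgroup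
  · show H' = (H'.map T.subtype).comap T.subtype
    rw [Subgroup.comap_map_eq_self_of_injective T.subtype_injective]
  · intro x h1 h2
    show ψ' ⟨x, h1⟩ = ψ' (e.symm _)
    congr 1
    apply e.injective
    rw [MulEquiv.apply_symm_apply]
    apply Subtype.ext
    rw [he]
    rfl

end Stages

section ChiefAbelian
variable {G : Type u} [Group G] [Finite G]

/-- a chief factor `K/L` above `N` is abelian when `G/N` is solvable -/
theorem commutator_le_of_chief (N K L : Subgroup G) [N.Normal] [hK : K.Normal] [hL : L.Normal]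
    (hsolv : Group.IsSolvable (G ⧸ N)) (hNL : N ≤ L) (hLK : L < K)
    (hchief : ∀ M : Subgroup G, M.Normal → L ≤ M → M ≤ K → M = L ∨ M = K) : ⁅K, K⁆ ≤ L := by
  haveI : (⁅K, K⁆).Normal := Subgroup.commutator_normal K K
  rcases hchief (L ⊔ ⁅K, K⁆) inferInstance le_sup_left
    (sup_le hLK.le (Subgroup.commutator_le_left K K)) with h | h
  · rw [← h]
    exact le_sup_right
  · exfalso
    -- `G ⧸ L` is solvable
    have hsolvL : Group.IsSolvable (G ⧸ L) := by
      have := hsolv
      apply Group.isSolvable_of_surjective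
        (f := QuotientGroup.map N L (MonoidHom.id G) (fun x hx => hNL hx))
      intro q
      obtain ⟨g, rfl⟩ := QuotientGroup.mk_surjective q
      exact ⟨(g : G ⧸ N), rfl⟩
    have hsQ : Group.IsSolvable (↥K ⧸ L.subgroupOf K) := solvable_quot_subgroupOf L K hsolvL
    haveI : Nontrivial (↥K ⧸ L.subgroupOf K) := by
      obtain ⟨k, hkK, hkL⟩ := SetLike.exists_of_lt hLK
      refine ⟨((⟨k, hkK⟩ : K) : ↥K ⧸ L.subgroupOf K), 1, ?_⟩
      rw [Ne, QuotientGroup.eq_one_iff, Subgroup.mem_subgroupOf]
      exact hkL
    have hlt := Group.IsSolvable.commutator_lt_top_of_nontrivial (↥K ⧸ L.subgroupOf K)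
    apply hlt.ne
    rw [eq_top_iff]
    intro q _
    obtain ⟨k, rfl⟩ := QuotientGroup.mk_surjective q
    have hk : (k : G) ∈ L ⊔ ⁅K, K⁆ := by
      rw [h]
      exact k.2
    rw [Subgroup.mem_sup_of_normal_right] at hk
    obtain ⟨l, hl, c, hc, hlc⟩ := hk
    rw [← Subgroup.map_subtype_commutator, Subgroup.mem_map] at hc
    obtain ⟨c', hc', rfl⟩ := hc
    have hlK : l ∈ K := hLK.le hl
    have hk' : k = ⟨l, hlK⟩ * c' := by
      apply Subtype.ext
      rw [← hlc]
      rfl
    rw [hk', QuotientGroup.mk_mul,
      (QuotientGroup.eq_one_iff (⟨l, hlK⟩ : K)).mpr (Subgroup.mem_subgroupOf.mpr hl), one_mul]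
    have h1 : (commutator ↥K).map (QuotientGroup.mk' (L.subgroupOf K)) ≤
        commutator (↥K ⧸ L.subgroupOf K) := by
      rw [commutator_def, commutator_def, Subgroup.map_commutator]
      exact Subgroup.commutator_mono le_top le_top
    exact h1 (Subgroup.mem_map_of_mem _ hc')

end ChiefAbelian

section Hyp
variable {G : Type u} [Group G]

/-- the chief-factor hypothesis of Isaacs 6.22 -/
def NonsquareChief (N : Subgroup G) : Prop :=
  ∀ (H K L : Subgroup G), N ≤ L → L < K → K ≤ H → (∀ h ∈ H, ∀ k ∈ K, h * k * h⁻¹ ∈ K) →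
    (∀ h ∈ H, ∀ l ∈ L, h * l * h⁻¹ ∈ L) →
    (∀ M : Subgroup G, L ≤ M → M ≤ K → (∀ h ∈ H, ∀ m ∈ M, h * m * h⁻¹ ∈ M) → M = L ∨ M = K) →
    ¬ IsSquare (L.relIndex K)

theorem NonsquareChief.subgroupOf {N : Subgroup G} (hyp : NonsquareChief N) (T : Subgroup G)
    (hNT : N ≤ T) : NonsquareChief (N.subgroupOf T) := by
  intro H' K' L' hNL hLK hKH hHK hHL hch
  have hinj : Function.Injective T.subtype := T.subtype_injective
  have hmem : ∀ (U : Subgroup T) (x : T), (x : G) ∈ U.map T.subtype ↔ x ∈ U := by
    intro U x
    rw [Subgroup.mem_map]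
    constructor
    · rintro ⟨x', hx', h⟩
      have : x' = x := Subtype.ext h
      rw [← this]
      exact hx'
    · intro hx
      exact ⟨x, hx, rfl⟩
  have hmapT : ∀ (U : Subgroup T), U.map T.subtype ≤ T := fun U => Subgroup.map_subtype_le U
  rw [← Subgroup.relIndex_map_map_of_injective L' K' hinj]
  apply hyp (H'.map T.subtype) (K'.map T.subtype) (L'.map T.subtype)
  · intro n hn
    have : (⟨n, hNT hn⟩ : T) ∈ L' := hNL (Subgroup.mem_subgroupOf.mpr hn)
    exact (hmem L' ⟨n, hNT hn⟩).mpr this
  · exact (Subgroup.map_lt_map_iff_of_injective hinj).mpr hLK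
  · exact Subgroup.map_mono hKH
  · intro h hh k hk
    obtain ⟨h', hh', rfl⟩ := Subgroup.mem_map.mp hh
    obtain ⟨k', hk', rfl⟩ := Subgroup.mem_map.mp hk
    exact (hmem K' (h' * k' * h'⁻¹)).mpr (hHK h' hh' k' hk')
  · intro h hh l hl
    obtain ⟨h', hh', rfl⟩ := Subgroup.mem_map.mp hh
    obtain ⟨l', hl', rfl⟩ := Subgroup.mem_map.mp hl
    exact (hmem L' (h' * l' * h'⁻¹)).mpr (hHL h' hh' l' hl')
  · intro M hLM hMK hHM
    have hMT : M ≤ T := hMK.trans (hmapT K')
    have hM' : (M.subgroupOf T).map T.subtype = M := Subgroup.map_subgroupOf_eq_of_le hMT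
    rcases hch (M.subgroupOf T) (by
        intro x hx
        rw [Subgroup.mem_subgroupOf]
        exact hLM ((hmem L' x).mpr hx)) (by
        intro x hx
        rw [Subgroup.mem_subgroupOf] at hx
        exact (hmem K' x).mp (hMK hx)) (by
        intro h hh m hm
        rw [Subgroup.mem_subgroupOf] at hm ⊢
        exact hHM (h : G) ((hmem H' h).mpr hh) (m : G) hm) with h1 | h1
    · left
      rw [← hM', h1]
    · right
      rw [← hM', h1]

end Hyp

section SumIrr
variable {G : Type u} [Group G] [Fintype G]

/-- inner product of a sum of distinct irreducible characters with one of them -/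
theorem classInner_sum_irr_mem (F : Finset (G → ℂ)) (hF : ∀ φ ∈ F, IsIrrCharacter G φ)
    {φ : G → ℂ} (hφ : φ ∈ F) : classInner (∑ ψ ∈ F, ψ) φ = 1 := by
  classical
  rw [helper24.classInner_sum_left, Finset.sum_eq_single φ]
  · exact helper24.irr_classInner_self (hF φ hφ)
  · intro ψ hψ hne
    exact helper24.irr_classInner_ne (hF ψ hψ) (hF φ hφ) hne
  · intro h
    exact absurd hφ h

end SumIrr

/-- **Isaacs 6.22**: relative M-groups. -/
theorem relative_M : ∀ (n : ℕ) (G : Type u) [Group G] [Fintype G] (N : Subgroup G) [N.Normal],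
    Nat.card G = n → Group.IsSolvable (G ⧸ N) → NonsquareChief N →
    ∀ χ : G → ℂ, IsIrrCharacter G χ →
      ∃ (H : Subgroup G) (hNH : N ≤ H) (ψ : H → ℂ), IsIrrCharacter H ψ ∧ indFun H ψ = χ ∧
        IsIrrCharacter N (fun n : N => ψ ⟨(n : G), hNH n.2⟩) := by
  intro n
  induction n using Nat.strong_induction_on with
  | _ n ih =>
    intro G _ _ N _ hcard hsolv hyp χ hχ
    classical
    have hcf := helper24.char_isClassFunction (helper24.irr_isCharacter hχ)
    by_cases hirrN : IsIrrCharacter N (helper5.res N χ)
    · refine ⟨⊤, le_top, fun h => χ h, ?_, indFun_top hcf, hirrN⟩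
      exact helper8.isIrrCharacter_comp_mulEquiv Subgroup.topEquiv hχ
    · -- a minimal normal `K ≥ N` with `χ_K` irreducible
      obtain ⟨K, ⟨hKn, hNK, hKirr⟩, hKmin⟩ := Set.exists_min_image
        {K : Subgroup G | K.Normal ∧ N ≤ K ∧ IsIrrCharacter K (helper5.res K χ)}
        (fun K => Nat.card K) (Set.toFinite _)
        ⟨⊤, inferInstance, le_top, helper8.isIrrCharacter_comp_mulEquiv Subgroup.topEquiv hχ⟩
      have hNK' : N < K := by
        refine lt_of_le_of_ne hNK ?_
        intro h
        subst h
        exact hirrN hKirr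
      -- a maximal normal `L` with `N ≤ L < K`
      obtain ⟨L, ⟨hLn, hNL, hLK⟩, hLmax⟩ := Set.exists_max_image
        {L : Subgroup G | L.Normal ∧ N ≤ L ∧ L < K}
        (fun L => Nat.card L) (Set.toFinite _) ⟨N, inferInstance, le_refl N, hNK'⟩
      have hchief : ∀ M : Subgroup G, M.Normal → L ≤ M → M ≤ K → M = L ∨ M = K := by
        intro M hMn hLM hMK
        by_cases hMK' : M = K
        · right; exact hMK'
        · left
          have hMlt : M < K := lt_of_le_of_ne hMK hMK'
          have := hLmax M ⟨hMn, hNL.trans hLM, hMlt⟩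
          exact (Subgroup.eq_of_le_of_card_ge hLM this).symm
      haveI := hKn
      haveI := hLn
      have hab : ⁅K, K⁆ ≤ L := commutator_le_of_chief N K L hsolv hNL hLK hchief
      have hinvϑ : ∀ (g : G) (k : K), helper5.res K χ ⟨g * k * g⁻¹, hKn.conj_mem (k : G) k.2 g⟩ =
          helper5.res K χ k := by
        intro g k
        exact hcf (k : G) g
      have hcardlt : Nat.card L < Nat.card K := by
        by_contra hcon
        push Not at hcon
        exact hLK.ne (Subgroup.eq_of_le_of_card_ge hLK.le hcon)
      rcases S0857.result K L hLK hchief hab (helper5.res K χ) hKirr hinvϑ with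
        h | ⟨φ, e, hφ, h1, h2⟩ | ⟨F, hF, hFc, hFs⟩
      · exfalso
        have := hKmin L ⟨hLn, hNL, h⟩
        omega
      · exfalso
        apply hyp ⊤ K L hNL hLK le_top (fun h _ k hk => hKn.conj_mem k hk h)
          (fun h _ l hl => hLn.conj_mem l hl h)
        · intro M hLM hMK hM
          exact hchief M ⟨fun m hm g => hM g (Subgroup.mem_top g) m hm⟩ hLM hMK
        · exact ⟨e, by rw [← h2, sq]⟩
      · -- the restriction to `L` is a sum of `|K : L|` distinct conjugates
        have hFs' : helper5.res L χ = ∑ φ ∈ F, φ := hFs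
        have hcard2 : 1 < F.card := by
          rw [hFc]
          have h1 : L.relIndex K ≠ 1 := by
            rw [Ne, Subgroup.relIndex_eq_one]
            exact not_le_of_gt hLK
          have h0 : L.relIndex K ≠ 0 := by
            show (L.subgroupOf K).index ≠ 0
            exact Subgroup.index_ne_zero_of_finite
          omega
        obtain ⟨φ, hφF⟩ : F.Nonempty := Finset.card_pos.mp (by omega)
        haveI : Fintype L := Fintype.ofFinite _
        have hφc : classInner (helper5.res L χ) φ ≠ 0 := by
          rw [hFs', classInner_sum_irr_mem F hF hφF]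
          exact one_ne_zero
        obtain ⟨T, hTdef⟩ : ∃ T : Subgroup G, T = inertia L (⟨φ, hF φ hφF⟩ : IrrCharacter L) :=
          ⟨_, rfl⟩
        have hTne : T ≠ ⊤ := by
          intro hT
          have hinv : ∀ g : G, helper8.conjFunN L g φ = φ := by
            intro g
            have hg : g ∈ inertia L (⟨φ, hF φ hφF⟩ : IrrCharacter L) := by
              rw [← hTdef, hT]
              exact Subgroup.mem_top g
            exact (mem_inertia L).mp hg
          obtain ⟨e', hres, -, -⟩ := helper5.clifford_invariant L hχ (hF φ hφF) hinv hφc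
          obtain ⟨φ', hφ'F, hne⟩ := Finset.exists_mem_ne hcard2 φ
          have h1 : classInner (helper5.res L χ) φ' = 1 := by
            rw [hFs', classInner_sum_irr_mem F hF hφ'F]
          rw [hres, helper24.classInner_smul_left,
            helper24.irr_classInner_ne (hF φ hφF) (hF φ' hφ'F) hne.symm, mul_zero] at h1
          exact zero_ne_one h1
        haveI : Fintype T := Fintype.ofFinite _
        have hNT : N ≤ T := by
          rw [hTdef]
          exact hNL.trans (le_inertia L _)
        obtain ⟨ψ, hψ, hψχ, -, hdeg⟩ :=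
          clifford_degree L hχ (⟨φ, hF φ hφF⟩ : IrrCharacter L) hφc T hTdef
        have hind := indFun_eq_of_degree T hχ (helper24.irr_isCharacter hψ) hψχ hdeg
        have hlt : Nat.card T < n := by
          rw [← hcard, ← Subgroup.card_mul_index T]
          have h1 : T.index ≠ 1 := by
            rw [Ne, Subgroup.index_eq_one]
            exact hTne
          have h2 : T.index ≠ 0 := Subgroup.index_ne_zero_of_finite
          have h3 : 0 < Nat.card T := Nat.card_pos
          have h4 : 2 ≤ T.index := by omega
          nlinarith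
        obtain ⟨H', hNH', ψ', hψ', hind', hres'⟩ := ih (Nat.card T) hlt T (N.subgroupOf T) rfl
          (solvable_quot_subgroupOf N T hsolv) (hyp.subgroupOf T hNT) ψ hψ
        obtain ⟨e, he⟩ : ∃ e : H' ≃* H'.map T.subtype,
            e = H'.equivMapOfInjective T.subtype T.subtype_injective := ⟨_, rfl⟩
        have hNH : N ≤ H'.map T.subtype := by
          intro x hx
          exact Subgroup.mem_map.mpr ⟨⟨x, hNT hx⟩, hNH' (Subgroup.mem_subgroupOf.mpr hx), rfl⟩
        refine ⟨H'.map T.subtype, hNH, fun h => ψ' (e.symm h),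
          helper8.isIrrCharacter_comp_mulEquiv e.symm hψ', ?_, ?_⟩
        · rw [he, ← indFun_map_subtype', hind', hind]
        · obtain ⟨ε, hε⟩ : ∃ ε : N ≃* N.subgroupOf T, ∀ x : N, ((ε x : N.subgroupOf T) : T) =
              ⟨(x : G), hNT x.2⟩ := by
            refine ⟨(Subgroup.subgroupOfEquivOfLe hNT).symm, ?_⟩
            intro x
            apply Subtype.ext
            simp
          have h1 := helper8.isIrrCharacter_comp_mulEquiv ε hres'
          have h2 : (fun x : N => ψ' (e.symm ⟨(x : G), hNH x.2⟩)) =
              fun x : N => (fun m : N.subgroupOf T => ψ' ⟨(m : T), hNH' m.2⟩) (ε x) := by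
            funext x
            show ψ' (e.symm ⟨(x : G), hNH x.2⟩) = ψ' ⟨((ε x : N.subgroupOf T) : T), _⟩
            congr 1
            apply e.injective
            rw [MulEquiv.apply_symm_apply]
            apply Subtype.ext
            rw [he]
            show (x : G) = (((ε x : N.subgroupOf T) : T) : G)
            rw [hε]
          rw [h2]
          exact h1

end Cfsg.Agent.helper22

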