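import Mathlib
import Cfsg.Agent.Lib_helper6_S2670x

set_option autoImplicit false
open Polynomial

/-!
helper22: piece B3 of the S2670 Burnside-count sub-swarm (c not an r-th power).
-/

namespace Cfsg.Agent.helper22.S2670b

/-- B3: c not an r-th power -/
theorem pieceB3 {F : Type*} [Field F] [Fintype F] (n r : ℕ) (hn : 1 ≤ n) (hr : r.Prime) (c : F)
    (hc : ∀ b : F, b ^ r ≠ c) :
    Nat.card {f : F[X] // f.Monic ∧ f.natDegree = n ∧ f ∣ (X ^ r - C c) ^ n ∧
      ∀ a : F, f ≠ (X - C a) ^ n} = if r ∣ n then 1 else 0 := by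
  have hmon : (X ^ r - C c : F[X]).Monic := monic_X_pow_sub_C c hr.ne_zero
  have hdeg : (X ^ r - C c : F[X]).natDegree = r := natDegree_X_pow_sub_C
  split_ifs with hrn
  · rw [Nat.card_eq_one_iff_unique]
    constructor
    · constructor
      intro x y
      apply Subtype.ext
      rw [(Cfsg.Agent.helper6.S2670x.pieceS4 n r hr c hc x.1 x.2.1 x.2.2.1 x.2.2.2.1).2,
        (Cfsg.Agent.helper6.S2670x.pieceS4 n r hr c hc y.1 y.2.1 y.2.2.1 y.2.2.2.1).2]
    · refine ⟨⟨(X ^ r - C c) ^ (n / r), hmon.pow _, ?_, ?_, ?_⟩⟩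
      · rw [hmon.natDegree_pow, hdeg, Nat.div_mul_cancel hrn]
      · exact pow_dvd_pow _ (Nat.div_le_self n r)
      · intro a h
        have h1 := congrArg (eval a) h
        have hpos : n / r ≠ 0 := by
          intro h0
          rcases (Nat.div_eq_zero_iff).mp h0 with h2 | h2
          · exact hr.ne_zero h2
          · exact absurd (Nat.le_of_dvd (by omega) hrn) (by omega)
        have hn0 : n ≠ 0 := by omega
        simp only [eval_pow, eval_sub, eval_X, eval_C, sub_self] at h1
        rw [zero_pow hn0] at h1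
        have h3 : a ^ r - c = 0 := by
          by_contra hne
          exact (pow_ne_zero _ hne) h1
        exact hc a (sub_eq_zero.mp h3)
  · rw [Nat.card_eq_zero]
    left
    constructor
    intro x
    exact hrn (Cfsg.Agent.helper6.S2670x.pieceS4 n r hr c hc x.1 x.2.1 x.2.2.1 x.2.2.2.1).1

end Cfsg.Agent.helper22.S2670b
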