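import Mathlib
import Cfsg.Agent.Lib_helper6_S2670y
import Cfsg.Agent.Lib_helper16_S2670x

set_option autoImplicit false
open Polynomial

/-!
helper22: piece B1 of the S2670 Burnside-count sub-swarm (the count for c = 1 without the
r scalar polynomials).
-/

namespace Cfsg.Agent.helper22.S2670c

/-- B1: the count for c = 1 without the r scalar polynomials -/
theorem pieceB1 {F : Type*} [Field F] [Fintype F] (n r : ℕ) (hn : 1 ≤ n) (hr : r.Prime)
    (hrq : r ∣ Fintype.card F - 1) :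
    Nat.card {f : F[X] // f.Monic ∧ f.natDegree = n ∧ f ∣ (X ^ r - C 1) ^ n ∧
      ∀ a : F, f ≠ (X - C a) ^ n} + r = Nat.choose (n + r - 1) (r - 1) := by
  classical
  have hn0 : n ≠ 0 := by omega
  have hS5 := Cfsg.Agent.helper6.S2670y.pieceS5 (F := F) n r hr hrq
  have hS7 := (Cfsg.Agent.helper16.S2670x.pieceS7 (F := F) r hr hrq).2.1
  obtain ⟨S, hS⟩ : ∃ S : Set F[X], S = {f : F[X] | f.Monic ∧ f.natDegree = n ∧
      f ∣ (X ^ r - C 1) ^ n} := ⟨_, rfl⟩
  obtain ⟨S₁, hS₁⟩ : ∃ S₁ : Set F[X], S₁ = {f : F[X] | f.Monic ∧ f.natDegree = n ∧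
      f ∣ (X ^ r - C 1) ^ n ∧ ∀ a : F, f ≠ (X - C a) ^ n} := ⟨_, rfl⟩
  obtain ⟨R, hR⟩ : ∃ R : Set F, R = {μ : F | μ ^ r = 1} := ⟨_, rfl⟩
  obtain ⟨S₂, hS₂⟩ : ∃ S₂ : Set F[X], S₂ = (fun a : F => (X - C a) ^ n) '' R := ⟨_, rfl⟩
  have hScard : S.ncard = Nat.choose (n + r - 1) (r - 1) := by
    rw [← hS5, hS, ← Nat.card_coe_set_eq]
    rfl
  have hSfin : S.Finite := by
    apply Set.finite_of_ncard_pos
    rw [hScard]
    exact Nat.choose_pos (by omega)
  have hRcard : R.ncard = r := by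
    rw [← hS7, hR, ← Nat.card_coe_set_eq]
    rfl
  have hinj : Set.InjOn (fun a : F => (X - C a) ^ n) R := by
    intro a _ b _ hab
    have h1 := congrArg (eval a) hab
    simp only [eval_pow, eval_sub, eval_X, eval_C, sub_self] at h1
    rw [zero_pow hn0] at h1
    have h2 : a - b = 0 := by
      by_contra hne
      exact (pow_ne_zero _ hne) h1.symm
    exact sub_eq_zero.mp h2
  have hS₂card : S₂.ncard = r := by
    rw [hS₂, Set.ncard_image_of_injOn hinj, hRcard]
  have hunion : S = S₁ ∪ S₂ := by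
    ext f
    rw [hS, hS₁, hS₂, hR]
    simp only [Set.mem_setOf_eq, Set.mem_union, Set.mem_image]
    constructor
    · rintro ⟨hm, hd, hdvd⟩
      by_cases hq : ∀ a : F, f ≠ (X - C a) ^ n
      · exact Or.inl ⟨hm, hd, hdvd, hq⟩
      · right
        push Not at hq
        obtain ⟨a, ha⟩ := hq
        refine ⟨a, ?_, ha.symm⟩
        have h1 : (X - C a : F[X]) ∣ (X ^ r - C 1) ^ n := by
          refine dvd_trans ?_ hdvd
          rw [ha]
          exact dvd_pow_self _ hn0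
        have h2 : (X - C a : F[X]) ∣ X ^ r - C 1 := (prime_X_sub_C a).dvd_of_dvd_pow h1
        have h3 := dvd_iff_isRoot.mp h2
        simp only [IsRoot.def, eval_sub, eval_pow, eval_X, eval_C] at h3
        exact sub_eq_zero.mp h3
    · rintro (⟨hm, hd, hdvd, -⟩ | ⟨a, ha, rfl⟩)
      · exact ⟨hm, hd, hdvd⟩
      · refine ⟨(monic_X_sub_C a).pow n, ?_, ?_⟩
        · rw [(monic_X_sub_C a).natDegree_pow, natDegree_X_sub_C, mul_one]
        · apply pow_dvd_pow_of_dvd
          rw [dvd_iff_isRoot]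
          simp only [IsRoot.def, eval_sub, eval_pow, eval_X, eval_C]
          rw [ha, sub_self]
  have hdisj : Disjoint S₁ S₂ := by
    rw [Set.disjoint_left]
    intro f hf1 hf2
    rw [hS₁] at hf1
    rw [hS₂] at hf2
    obtain ⟨a, _, rfl⟩ := hf2
    exact hf1.2.2.2 a rfl
  have hS₁fin : S₁.Finite := hSfin.subset (by rw [hunion]; exact Set.subset_union_left)
  have hS₂fin : S₂.Finite := hSfin.subset (by rw [hunion]; exact Set.subset_union_right)
  have hsum : S.ncard = S₁.ncard + S₂.ncard := by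
    rw [hunion]
    exact Set.ncard_union_eq hdisj hS₁fin hS₂fin
  have hgoal : Nat.card {f : F[X] // f.Monic ∧ f.natDegree = n ∧ f ∣ (X ^ r - C 1) ^ n ∧
      ∀ a : F, f ≠ (X - C a) ^ n} = S₁.ncard := by
    rw [hS₁, ← Nat.card_coe_set_eq]
    rfl
  rw [hgoal, ← hScard, hsum, hS₂card]

end Cfsg.Agent.helper22.S2670c
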