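import Mathlib
import Cfsg.Agent.Lib_helper15_DualHH
import Cfsg.Agent.Lib_helper10_PMinFamE
import Cfsg.Agent.Lib_lead_SZ
import Cfsg.Agent.Lib_helper1_Core
import Cfsg.Agent.Lib_helper23_PSolv

set_option autoImplicit false
set_option linter.unusedSectionVars false
set_option linter.unusedVariables false
set_option linter.style.haveILetI false
set_option linter.style.longLine false

/-!
helper22: towards S4472, part B (group theory): in a `p`-solvable group there are a `p'`-subgroup
`K0` and a `p`-subgroup `P0` normalising it with `|P0 : C_{P0}(K0)| ≥ |G : O_p(G)|_p`.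
-/

namespace Cfsg.Agent.helper22

open Cfsg

universe u

section SchB
variable {G : Type u} [Group G] [Finite G]

/-- Frattini argument for complements of a normal Hall subgroup of a normal subgroup -/
theorem sg_frattini (K : Subgroup G) [hKn : K.Normal] (N' : Subgroup K) [N'.Normal]
    (hcop : (Nat.card N').Coprime N'.index)
    (hsolv : Group.IsSolvable N' ∨ Group.IsSolvable (↥K ⧸ N'))
    (H' : Subgroup K) (hH' : Nat.card H' = N'.index) (g : G) :
    ∃ k ∈ K, k⁻¹ * g ∈ Subgroup.normalizer ((H'.map K.subtype : Subgroup G) : Set G) := by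
  obtain ⟨H'', hH''⟩ : ∃ H'' : Subgroup K,
      H'' = H'.map (MulAut.conjNormal g : K ≃* K).toMonoidHom := ⟨_, rfl⟩
  have hcard'' : Nat.card H'' = N'.index := by
    rw [hH'', ← hH']
    exact Nat.card_congr (Subgroup.equivMapOfInjective H' _ (MulEquiv.injective _)).symm.toEquiv
  obtain ⟨k, hk⟩ := lead.sz_conj N' hcop hsolv H' H'' hH' hcard''
  refine ⟨(k : G), k.2, ?_⟩
  obtain ⟨K0, hK0⟩ : ∃ K0 : Subgroup G, K0 = H'.map K.subtype := ⟨_, rfl⟩
  rw [← hK0]
  have h1 : helper7.cj (k : G) K0 = helper7.cj g K0 := by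
    have e1 : helper7.cj (k : G) K0 = (helper7.cj k H').map K.subtype := by
      rw [hK0]
      show (H'.map K.subtype).map (MulAut.conj (k : G)).toMonoidHom =
        (H'.map (MulAut.conj k).toMonoidHom).map K.subtype
      rw [Subgroup.map_map, Subgroup.map_map]
      congr 1
    have e2 : helper7.cj g K0 = H''.map K.subtype := by
      rw [hK0, hH'']
      show (H'.map K.subtype).map (MulAut.conj g).toMonoidHom =
        (H'.map (MulAut.conjNormal g : K ≃* K).toMonoidHom).map K.subtype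
      rw [Subgroup.map_map, Subgroup.map_map]
      congr 1
    rw [e1, e2, hk]
  rw [Subgroup.mem_normalizer_iff]
  intro x
  constructor
  · intro hx
    have h2 : g * x * g⁻¹ ∈ helper7.cj g K0 := helper7.cj_mem_cj hx
    rw [← h1, helper7.mem_cj] at h2
    have e : (k : G)⁻¹ * g * x * ((k : G)⁻¹ * g)⁻¹ = (k : G)⁻¹ * (g * x * g⁻¹) * (k : G) := by group
    rw [e]
    exact h2
  · intro hx
    have e : (k : G)⁻¹ * g * x * ((k : G)⁻¹ * g)⁻¹ = (k : G)⁻¹ * (g * x * g⁻¹) * (k : G) := by group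
    rw [e] at hx
    have h2 : g * x * g⁻¹ ∈ helper7.cj (k : G) K0 := helper7.mem_cj.mpr hx
    rw [h1, helper7.mem_cj] at h2
    have e2 : g⁻¹ * (g * x * g⁻¹) * g = x := by group
    rw [e2] at h2
    exact h2

theorem sg_exists_aux (p : ℕ) [hp : Fact p.Prime] (Q : Subgroup G) [hQn : Q.Normal]
    (hQp : IsPGroup p Q) (Kb : Subgroup (G ⧸ Q)) [hKbn : Kb.Normal]
    (hKb : (Nat.card Kb).Coprime p)
    (hHH : Subgroup.centralizer (Kb : Set (G ⧸ Q)) ≤ Kb) :
    ∃ K0 P0 : Subgroup G, (Nat.card K0).Coprime p ∧ IsPGroup p P0 ∧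
      P0 ≤ Subgroup.normalizer (K0 : Set G) ∧
      (Q.index).factorization p +
        (Nat.card ↥(P0 ⊓ Subgroup.centralizer (K0 : Set G))).factorization p ≤
        (Nat.card P0).factorization p := by
  obtain ⟨π, hπ⟩ : ∃ π : G →* G ⧸ Q, π = QuotientGroup.mk' Q := ⟨_, rfl⟩
  have hsurj : Function.Surjective π := by rw [hπ]; exact QuotientGroup.mk'_surjective Q
  have hker : π.ker = Q := by rw [hπ]; exact QuotientGroup.ker_mk' Q
  obtain ⟨K, hK⟩ : ∃ K : Subgroup G, K = Kb.comap π := ⟨_, rfl⟩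
  haveI hKn : K.Normal := by rw [hK]; exact hKbn.comap π
  have hQK : Q ≤ K := by
    rw [hK]; exact hker.symm.le.trans (MonoidHom.ker_le_comap π Kb)
  have hmapK : K.map π = Kb := by
    rw [hK]; exact Subgroup.map_comap_eq_self_of_surjective hsurj Kb
  have hrel : Q.relIndex K = Nat.card Kb := by
    have h := Subgroup.relIndex_comap (⊥ : Subgroup (G ⧸ Q)) π K
    rw [MonoidHom.comap_bot, hker, hmapK, Subgroup.relIndex_bot_left] at h
    exact h
  obtain ⟨N', hN'⟩ : ∃ N' : Subgroup K, N' = Q.subgroupOf K := ⟨_, rfl⟩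
  haveI hN'n : N'.Normal := by rw [hN']; exact Subgroup.Normal.subgroupOf hQn K
  have hN'idx : N'.index = Nat.card Kb := by rw [hN']; exact hrel
  have hN'p : IsPGroup p N' := by rw [hN']; exact hQp.comap_subtype
  obtain ⟨a, ha⟩ := IsPGroup.iff_card.mp hN'p
  have hcop : (Nat.card N').Coprime N'.index := by
    rw [ha, hN'idx]
    exact Nat.Coprime.pow_left a hKb.symm
  have hsolvN' : Group.IsSolvable N' := by
    haveI : Group.IsNilpotent N' := hN'p.isNilpotent
    infer_instance
  obtain ⟨H', hH'⟩ := Subgroup.exists_right_complement'_of_coprime hcop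
  have hH'card : Nat.card H' = N'.index := hH'.symm.index_eq_card.symm
  obtain ⟨K0, hK0⟩ : ∃ K0 : Subgroup G, K0 = H'.map K.subtype := ⟨_, rfl⟩
  have hK0card : Nat.card K0 = Nat.card Kb := by
    rw [hK0, ← hN'idx, ← hH'card]
    exact Nat.card_congr (Subgroup.equivMapOfInjective H' _ K.subtype_injective).symm.toEquiv
  have hK0K : K0 ≤ K := by rw [hK0]; exact Subgroup.map_subtype_le H'
  have hN'Q : ∀ z : K, z ∈ N' → (z : G) ∈ Q := by
    intro z hz
    rw [hN'] at hz
    exact Subgroup.mem_subgroupOf.mp hz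
  have hdec : ∀ k ∈ K, ∃ q ∈ Q, ∃ h ∈ K0, k = q * h := by
    intro k hk
    obtain ⟨x, hx⟩ := hH'.2 ⟨k, hk⟩
    refine ⟨((x.1.1 : K) : G), ?_, ((x.2.1 : K) : G), ?_, ?_⟩
    · exact hN'Q _ x.1.2
    · rw [hK0]
      exact Subgroup.mem_map.mpr ⟨x.2.1, x.2.2, rfl⟩
    · have := congrArg (fun z : K => (z : G)) hx
      simpa using this.symm
  obtain ⟨N, hN⟩ : ∃ N : Subgroup G, N = Subgroup.normalizer (K0 : Set G) := ⟨_, rfl⟩
  have hK0N : K0 ≤ N := by rw [hN]; exact Subgroup.le_normalizer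
  have hsup : Q ⊔ N = ⊤ := by
    rw [eq_top_iff]
    intro g _
    obtain ⟨k, hk, hkg⟩ := sg_frattini K N' hcop (Or.inl hsolvN') H' hH'card g
    rw [← hK0, ← hN] at hkg
    obtain ⟨q, hq, h, hh, rfl⟩ := hdec k hk
    have e : g = q * (h * ((q * h)⁻¹ * g)) := by group
    rw [e]
    exact Subgroup.mul_mem_sup hq (N.mul_mem (hK0N hh) hkg)
  have hidx : Q.relIndex N = Q.index := by
    rw [← Subgroup.relIndex_sup_left (K := Q) (H := N), hsup, Subgroup.relIndex_top_right]
  obtain ⟨S⟩ : Nonempty (Sylow p N) := inferInstance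
  obtain ⟨P0, hP0⟩ : ∃ P0 : Subgroup G, P0 = (S : Subgroup N).map N.subtype := ⟨_, rfl⟩
  have hP0N : P0 ≤ N := by rw [hP0]; exact Subgroup.map_subtype_le _
  have hP0card : Nat.card P0 = p ^ (Nat.card N).factorization p := by
    rw [hP0, ← Sylow.card_eq_multiplicity S]
    exact Nat.card_congr
      (Subgroup.equivMapOfInjective (S : Subgroup N) _ N.subtype_injective).symm.toEquiv
  have hP0p : IsPGroup p P0 := IsPGroup.of_card hP0card
  have hmapK0 : K0.map π = Kb := by
    apply le_antisymm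
    · rw [← hmapK]; exact Subgroup.map_mono hK0K
    · rw [← hmapK]
      rintro _ ⟨k, hk, rfl⟩
      obtain ⟨q, hq, h, hh, rfl⟩ := hdec k hk
      refine ⟨h, hh, ?_⟩
      rw [map_mul]
      have h1 : π q = 1 := by rw [← MonoidHom.mem_ker, hker]; exact hq
      rw [h1, one_mul]
  have hcent : P0 ⊓ Subgroup.centralizer (K0 : Set G) ≤ Q := by
    intro x hx
    obtain ⟨hxP, hxC⟩ := Subgroup.mem_inf.mp hx
    have h1 : π x ∈ Subgroup.centralizer (Kb : Set (G ⧸ Q)) := by
      rw [Subgroup.mem_centralizer_iff]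
      intro y hy
      rw [SetLike.mem_coe, ← hmapK0] at hy
      obtain ⟨k, hk, rfl⟩ := hy
      rw [← map_mul, ← map_mul, (Subgroup.mem_centralizer_iff.mp hxC) k hk]
    have h2 : π x ∈ Kb := hHH h1
    have ho1 : orderOf (π x) ∣ Nat.card Kb := by
      have h3 := orderOf_dvd_natCard (⟨π x, h2⟩ : Kb)
      rwa [Subgroup.orderOf_mk] at h3
    obtain ⟨j, hj⟩ := hP0p ⟨x, hxP⟩
    have hxj : x ^ p ^ j = 1 := by
      have := congrArg (fun z : P0 => (z : G)) hj
      simpa using this
    have ho2 : orderOf (π x) ∣ p ^ j := by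
      apply orderOf_dvd_of_pow_eq_one
      rw [← map_pow, hxj, map_one]
    have ho3 : orderOf (π x) = 1 :=
      Nat.Coprime.eq_one_of_dvd (Nat.Coprime.coprime_dvd_left ho1 (Nat.Coprime.pow_right j hKb)) ho2
    have h4 : π x = 1 := orderOf_eq_one_iff.mp ho3
    rw [← hker, MonoidHom.mem_ker]
    exact h4
  refine ⟨K0, P0, by rw [hK0card]; exact hKb, hP0p, by rw [← hN]; exact hP0N, ?_⟩
  obtain ⟨QN, hQN⟩ : ∃ QN : Subgroup N, QN = Q.subgroupOf N := ⟨_, rfl⟩
  have hQNidx : QN.index = Q.index := by rw [hQN]; exact hidx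
  have hcardN : Nat.card N = Nat.card QN * Q.index := by
    rw [← hQNidx]; exact (Subgroup.card_mul_index QN).symm
  have hQNcard : Nat.card QN = Nat.card ↥(Q ⊓ N) := by
    rw [hQN, ← Subgroup.inf_subgroupOf_right]
    exact Nat.card_congr (Subgroup.subgroupOfEquivOfLe inf_le_right).toEquiv
  have hdvd : Nat.card ↥(P0 ⊓ Subgroup.centralizer (K0 : Set G)) ∣ Nat.card QN := by
    rw [hQNcard]
    exact Subgroup.card_dvd_of_le (le_inf hcent (inf_le_left.trans hP0N))
  have hQNpos : Nat.card QN ≠ 0 := Nat.card_pos.ne'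
  have hidxpos : Q.index ≠ 0 := Subgroup.index_ne_zero_of_finite
  have hpk : ∀ k : ℕ, (p ^ k).factorization p = k := by
    intro k
    rw [hp.out.factorization_pow]
    simp
  have h1 : (Nat.card P0).factorization p =
      (Nat.card QN).factorization p + Q.index.factorization p := by
    rw [hP0card, hpk, hcardN, Nat.factorization_mul hQNpos hidxpos]
    rfl
  have h2 : (Nat.card ↥(P0 ⊓ Subgroup.centralizer (K0 : Set G))).factorization p ≤
      (Nat.card QN).factorization p :=
    (Nat.factorization_le_iff_dvd Nat.card_pos.ne' hQNpos).mpr hdvd p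
  rw [h1]
  omega

theorem sg_exists (p : ℕ) [hp : Fact p.Prime] (hsolv : Cfsg.IsPSolvable p G) :
    ∃ K0 P0 : Subgroup G, (Nat.card K0).Coprime p ∧ IsPGroup p P0 ∧
      P0 ≤ Subgroup.normalizer (K0 : Set G) ∧
      ((Cfsg.pCore p G).index).factorization p +
        (Nat.card ↥(P0 ⊓ Subgroup.centralizer (K0 : Set G))).factorization p ≤
        (Nat.card P0).factorization p := by
  have hO : Cfsg.pCore p (G ⧸ Cfsg.pCore p G) = ⊥ := helper10.pCore_quot_eq_bot p
  have hps : helper23.PSReach p (⊤ : Subgroup (G ⧸ Cfsg.pCore p G)) := by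
    have h := (helper23.psreach_of_isPSolvable hsolv).map hp.out (helper10.pq p G)
      (helper10.pq_surj p)
    rwa [Subgroup.map_top_of_surjective _ (helper10.pq_surj p)] at h
  have hHH := helper15.DualHH.hall_higman_dual hps hO
  haveI : (Cfsg.pPrimeCore p (G ⧸ Cfsg.pCore p G)).Normal := helper1.pPrimeCore_normal p
  exact sg_exists_aux p (Cfsg.pCore p G) (helper1.pCore_isPGroup p) (Cfsg.pPrimeCore p _)
    (helper1.pPrimeCore_coprime p) hHH

end SchB

end Cfsg.Agent.helper22
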