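import Mathlib
import Cfsg.Agent.Lib_helper22_PRes
import Cfsg.Agent.Lib_helper22_Glaub2
import Cfsg.Agent.Lib_helper22_InvConst
import Cfsg.Agent.Lib_helper22_FovB
import Cfsg.Agent.Lib_helper22_IndBlk2
import Cfsg.Agent.Lib_helper24_CharCod
import Cfsg.Agent.Lib_helper24_CharIntegral
import Cfsg.Agent.Lib_helper1_GalChar

set_option autoImplicit false
set_option linter.unusedSectionVars false
set_option linter.unusedVariables false
set_option linter.style.haveILetI false
set_option linter.style.longLine false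

/-!
helper22: towards S4472. For `K0 ⊲ L` a normal `p'`-subgroup of `p`-power index and a character `χ`
of `L` faithful on `K0` there is a character `ψ` of `L` of degree at most `χ(1)`, invariant under
the power maps `g ↦ g ^ k` with `k ≡ 1 (mod |K0|)`, whose kernel centralises `K0`.
-/

namespace Cfsg.Agent.helper22

open Cfsg
open scoped ComplexConjugate

universe u

section SchC
variable {L : Type u} [Group L] [Fintype L] (p : ℕ) [hp : Fact p.Prime]

/-- the canonical extension is fixed by power maps fixing the character below -/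
theorem sc_fix (N : Subgroup L) [hN : N.Normal] (a : ℕ) (hidx : N.index = p ^ a) (k : ℕ)
    (hkc : k.Coprime (Nat.card L)) (θ : N → ℂ) (hθ : IsIrrCharacter N θ) (χ₀ : L → ℂ)
    (hχ₀ : IsIrrCharacter L χ₀) (hres : ∀ n : N, χ₀ n = θ n)
    (hdet : ∃ M₀ : ℕ, 0 < M₀ ∧ ¬ p ∣ M₀ ∧ ∀ g, detChar χ₀ g ^ M₀ = 1)
    (hdeg : ¬ p ∣ charDegree θ) (hθk : ∀ n : N, θ (n ^ k) = θ n) : ∀ g, χ₀ (g ^ k) = χ₀ g := by
  obtain ⟨M₀, hM₀pos, hM₀p, hM₀⟩ := hdet
  have hirr' : IsIrrCharacter L (fun g => χ₀ (g ^ k)) :=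
    helper1.isIrrCharacter_powMap k hkc hχ₀
  have hresirr : IsIrrCharacter N (helper5.res N χ₀) := by
    have : helper5.res N χ₀ = θ := funext hres
    rw [this]
    exact hθ
  have hreseq : helper5.res N χ₀ = helper5.res N (fun g => χ₀ (g ^ k)) := by
    funext n
    show χ₀ n = χ₀ ((n : L) ^ k)
    have : ((n : L) ^ k) = ((n ^ k : N) : L) := (SubmonoidClass.coe_pow n k).symm
    rw [this, hres, hres, hθk]
  have hdegχ₀ : ¬ p ∣ charDegree χ₀ := by
    have : charDegree χ₀ = charDegree θ := by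
      unfold charDegree
      rw [← hres 1]
      rfl
    rw [this]
    exact hdeg
  have hdo : detOrder (fun g => χ₀ (g ^ k)) = detOrder χ₀ := detOrder_powMap k hkc hχ₀
  have hdvd : detOrder χ₀ ∣ M₀ := by
    unfold detOrder
    apply orderOf_dvd_of_pow_eq_one
    funext g
    rw [Pi.pow_apply, hM₀]
    rfl
  have hM₁ : ¬ p ∣ detOrder χ₀ := fun h => hM₀p (dvd_trans h hdvd)
  have hdet' : ∀ g, detChar (fun g => χ₀ (g ^ k)) g ^ detOrder χ₀ = 1 := by
    intro g
    have h2 : detChar (fun g => χ₀ (g ^ k)) ^ detOrder χ₀ = 1 := by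
      rw [← hdo]
      exact pow_orderOf_eq_one _
    exact congrFun h2 g
  have := eq_of_res_eq_of_p'_det p N a hidx hχ₀ hirr' hresirr hreseq hdegχ₀ M₀ (detOrder χ₀)
    hM₀p hM₁ hM₀ hdet'
  intro g
  exact (congrFun this g).symm

/-- induction commutes with power maps prime to the group order -/
theorem sc_ind_pow (T : Subgroup L) (ξ : T → ℂ) (k : ℕ) (hk : k.Coprime (Nat.card L))
    (hξ : ∀ t : T, ξ (t ^ k) = ξ t) (g : L) : indFun T ξ (g ^ k) = indFun T ξ g := by
  unfold indFun
  congr 1
  apply Finset.sum_congr rfl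
  intro x _
  have hconj : x⁻¹ * g ^ k * x = (x⁻¹ * g * x) ^ k := by
    have := conj_pow (a := x⁻¹) (b := g) (i := k)
    rw [inv_inv] at this
    exact this.symm
  rw [hconj]
  by_cases hmem : x⁻¹ * g * x ∈ T
  · have hmemk : (x⁻¹ * g * x) ^ k ∈ T := T.pow_mem hmem k
    rw [helper5.extendByZero_of_mem _ _ _ hmem, helper5.extendByZero_of_mem _ _ _ hmemk]
    have := hξ ⟨x⁻¹ * g * x, hmem⟩
    rw [← this]
    rfl
  · have hmemk : (x⁻¹ * g * x) ^ k ∉ T := by
      intro h
      apply hmem
      have hco : Nat.Coprime k (orderOf (x⁻¹ * g * x)) :=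
        Nat.Coprime.coprime_dvd_right (orderOf_dvd_natCard _) hk
      obtain ⟨m, hm⟩ := exists_pow_eq_self_of_coprime hco
      rw [← hm]
      exact T.pow_mem h m
    rw [helper5.extendByZero_of_not_mem _ _ _ hmem, helper5.extendByZero_of_not_mem _ _ _ hmemk]

/-- the real part of a character value is at most the degree, with equality only on the kernel -/
theorem sc_re_le {α : L → ℂ} (hα : IsCharacter L α) (x : L) :
    (α x).re ≤ (α 1).re ∧ ((α x).re = (α 1).re → α x = α 1) := by
  obtain ⟨d, hd⟩ := helper24.char_apply_one hα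
  have h1 := helper24.char_norm_le hα x
  rw [hd] at h1 ⊢
  simp only [Complex.norm_natCast] at h1
  have h2 : (α x).re ≤ ‖α x‖ := Complex.re_le_norm _
  refine ⟨by simp only [Complex.natCast_re]; linarith, ?_⟩
  intro heq
  simp only [Complex.natCast_re] at heq
  have h3 : ‖α x‖ ^ 2 = (α x).re * (α x).re + (α x).im * (α x).im := by
    rw [Complex.sq_norm, Complex.normSq_apply]
  have h4 : ‖α x‖ ^ 2 ≤ (d : ℝ) ^ 2 := by
    have h0 : 0 ≤ ‖α x‖ := norm_nonneg _
    nlinarith
  have him : (α x).im = 0 := by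
    rw [heq] at h3
    nlinarith [mul_self_nonneg (α x).im]
  apply Complex.ext
  · simp only [Complex.natCast_re]
    exact heq
  · simp only [Complex.natCast_im]
    exact him

end SchC

end Cfsg.Agent.helper22
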