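import Mathlib
import Cfsg.Agent.Lib_helper22_SchC

set_option autoImplicit false
set_option linter.unusedSectionVars false
set_option linter.unusedVariables false
set_option linter.style.haveILetI false
set_option linter.style.longLine false
set_option maxHeartbeats 800000

/-!
helper22: towards S4472, part D: the `p`-rational replacement of a character over a normal
`p'`-subgroup of `p`-power index.
-/

namespace Cfsg.Agent.helper22

open Cfsg
open scoped ComplexConjugate

universe u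

section SchD
variable {L : Type u} [Group L] [Fintype L] (p : ℕ) [hp : Fact p.Prime]

/-- irreducible case -/
theorem sc_irr (K0 : Subgroup L) [hK : K0.Normal] (hcop : (Nat.card K0).Coprime p) (b : ℕ)
    (hidx : K0.index = p ^ b) {χ₁ : L → ℂ} (hχ₁ : IsIrrCharacter L χ₁) :
    ∃ ψ₁ : L → ℂ, IsCharacter L ψ₁ ∧ charDegree ψ₁ ≤ charDegree χ₁ ∧
      (∀ k : ℕ, k.Coprime (Nat.card L) → k ≡ 1 [MOD Nat.card K0] → ∀ g, ψ₁ (g ^ k) = ψ₁ g) ∧
      ∃ e : ℕ, ∀ y ∈ K0, χ₁ y = (e : ℂ) * ψ₁ y := by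
  classical
  haveI : Fintype K0 := Fintype.ofFinite _
  have hχc := helper24.irr_isCharacter hχ₁
  have hres1 : helper5.res K0 χ₁ 1 ≠ 0 := by
    show χ₁ ((1 : K0) : L) ≠ 0
    rw [Subgroup.coe_one]
    exact helper24.irr_apply_one_ne_zero hχ₁
  obtain ⟨φ, hφ⟩ := exists_constituent_of_char (helper5.isCharacter_res K0 hχc) hres1
  obtain ⟨T, hT⟩ : ∃ T : Subgroup L, T = inertia K0 φ := ⟨_, rfl⟩
  haveI : Fintype T := Fintype.ofFinite _
  have hKT : K0 ≤ T := by rw [hT]; exact le_inertia K0 φ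
  obtain ⟨η, hηirr, hηc, ⟨e, he0, hηres⟩, hdeg⟩ := clifford_degree K0 hχ₁ φ hφ T hT
  have hηch := helper24.irr_isCharacter hηirr
  have hind : indFun T η = χ₁ := indFun_eq_of_degree T hχ₁ hηch hηc hdeg
  haveI hNn : (K0.subgroupOf T).Normal := Subgroup.normal_subgroupOf
  haveI : Fintype (K0.subgroupOf T) := Fintype.ofFinite _
  obtain ⟨a, hNa⟩ : ∃ a, (K0.subgroupOf T).index = p ^ a := by
    have h2 : K0.relIndex T ∣ K0.index := Subgroup.relIndex_dvd_index_of_normal K0 T
    rw [hidx] at h2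
    obtain ⟨a, -, ha⟩ := (Nat.dvd_prime_pow hp.out).mp h2
    exact ⟨a, ha⟩
  obtain ⟨θ, hθdef⟩ : ∃ θ : K0.subgroupOf T → ℂ,
      θ = fun x : K0.subgroupOf T =>
        (φ : K0 → ℂ) ⟨((x : T) : L), Subgroup.mem_subgroupOf.mp x.2⟩ := ⟨_, rfl⟩
  have hθirr : IsIrrCharacter (K0.subgroupOf T) θ := by
    rw [hθdef]
    exact helper12.isIrrCharacter_comp_mulEquiv (Subgroup.subgroupOfEquivOfLe hKT) φ.2
  have hθinv : ∀ (t : T) (n : K0.subgroupOf T),
      θ ⟨t * n * t⁻¹, hNn.conj_mem (n : T) n.2 t⟩ = θ n := by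
    intro t n
    have ht : helper8.conjFunN K0 (t : L) (φ : K0 → ℂ) = φ := by
      apply (mem_inertia K0).mp
      rw [← hT]
      exact t.2
    have h2 := congrFun ht ⟨((n : T) : L), n.2⟩
    rw [helper8.conjFunN_apply] at h2
    rw [hθdef]
    exact h2
  obtain ⟨d, hd0, hd⟩ := helper24.irr_apply_one hθirr
  have hcardN : Nat.card (K0.subgroupOf T) = Nat.card K0 :=
    Nat.card_congr (Subgroup.subgroupOfEquivOfLe hKT).toEquiv
  have hdegθ : charDegree θ = d := helper24.charDegree_natCast θ d hd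
  have hpd : ¬ p ∣ d := by
    have h1 := helper24.irr_degree_dvd_card hθirr
    rw [hdegθ, hcardN] at h1
    have h2 : Nat.Coprime d p := Nat.Coprime.coprime_dvd_left h1 hcop
    exact (hp.out.coprime_iff_not_dvd).mp h2.symm
  have hm : ¬ p ∣ Nat.card K0 := (hp.out.coprime_iff_not_dvd).mp hcop.symm
  have hlin : ∀ (lam : K0.subgroupOf T →* ℂˣ) (n : K0.subgroupOf T),
      lam n ^ (Nat.card K0) = 1 := by
    intro lam n
    rw [← map_pow, ← hcardN, pow_card_eq_one', map_one]
  obtain ⟨ξ, hξirr, hξres, hξdet⟩ := exists_ext_p'_det p (K0.subgroupOf T) a hNa (Nat.card K0)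
    hm hlin θ hθirr hθinv d hd hpd
  have hξch := helper24.irr_isCharacter hξirr
  have hξ1 : ξ 1 = d := by
    have h1 := hξres 1
    rw [hd] at h1
    exact h1
  have hη1 : η 1 = ((e * d : ℕ) : ℂ) := by
    have h1 := hηres 1
    have h2 : θ 1 = (φ : K0 → ℂ) ⟨(((1 : K0.subgroupOf T) : T) : L),
        Subgroup.mem_subgroupOf.mp (1 : K0.subgroupOf T).2⟩ := by
      rw [hθdef]
    rw [← h2, hd] at h1
    push_cast
    exact h1
  refine ⟨indFun T ξ, helper12.isCharacter_indFun T hξch, ?_, ?_, ?_⟩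
  · -- degree
    have h1 := charDegree_indFun T hξch
    rw [helper24.charDegree_natCast ξ d hξ1] at h1
    have h2 : charDegree η = e * d := helper24.charDegree_natCast η (e * d) hη1
    rw [hdeg, h2]
    have h3 : T.index * Nat.card T = Nat.card L := Subgroup.index_mul_card T
    have hTpos : 0 < Nat.card T := Nat.card_pos
    have h4 : charDegree (indFun T ξ) * Nat.card T = (T.index * d) * Nat.card T := by
      rw [h1, ← h3]
      ring
    have h5 : charDegree (indFun T ξ) = T.index * d := Nat.eq_of_mul_eq_mul_right hTpos h4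
    rw [h5]
    apply Nat.mul_le_mul_left
    exact Nat.le_mul_of_pos_left d (Nat.pos_of_ne_zero he0)
  · -- invariance
    intro k hk hmod g
    apply sc_ind_pow T ξ k hk _ g
    have hkT : k.Coprime (Nat.card T) :=
      Nat.Coprime.coprime_dvd_right (Subgroup.card_subgroup_dvd_card T) hk
    apply sc_fix p (K0.subgroupOf T) a hNa k hkT θ hθirr ξ hξirr hξres hξdet
      (by rw [hdegθ]; exact hpd)
    intro n
    have hnk : n ^ k = n := by
      have h1 : orderOf n ∣ Nat.card K0 := by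
        rw [← hcardN]
        exact orderOf_dvd_natCard n
      have h2 : k ≡ 1 [MOD orderOf n] := Nat.ModEq.of_dvd h1 hmod
      have h3 := pow_eq_pow_iff_modEq.mpr h2
      rwa [pow_one] at h3
    rw [hnk]
  · refine ⟨e, ?_⟩
    intro y hy
    rw [← hind]
    show (Nat.card T : ℂ)⁻¹ * ∑ x : L, extendByZero T η (x⁻¹ * y * x) =
      (e : ℂ) * ((Nat.card T : ℂ)⁻¹ * ∑ x : L, extendByZero T ξ (x⁻¹ * y * x))
    rw [mul_left_comm]
    congr 1
    rw [Finset.mul_sum]
    apply Finset.sum_congr rfl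
    intro x _
    have hmem : x⁻¹ * y * x ∈ K0 := by
      have := hK.conj_mem y hy x⁻¹
      rwa [inv_inv] at this
    have hmemT : x⁻¹ * y * x ∈ T := hKT hmem
    rw [helper5.extendByZero_of_mem _ _ _ hmemT, helper5.extendByZero_of_mem _ _ _ hmemT]
    have h1 := hηres ⟨⟨x⁻¹ * y * x, hmemT⟩, hmem⟩
    have h2 := hξres ⟨⟨x⁻¹ * y * x, hmemT⟩, hmem⟩
    rw [hθdef] at h2
    rw [h2]
    exact h1

/-- the `p`-rational replacement -/
theorem sc_main (K0 : Subgroup L) [hK : K0.Normal] (hcop : (Nat.card K0).Coprime p) (b : ℕ)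
    (hidx : K0.index = p ^ b) {χ : L → ℂ} (hχ : IsCharacter L χ)
    (hfaith : ∀ k ∈ K0, χ k = χ 1 → k = 1) :
    ∃ ψ : L → ℂ, IsCharacter L ψ ∧ charDegree ψ ≤ charDegree χ ∧
      (∀ k : ℕ, k.Coprime (Nat.card L) → k ≡ 1 [MOD Nat.card K0] → ∀ g, ψ (g ^ k) = ψ g) ∧
      (∀ x : L, ψ x = ψ 1 → ∀ y ∈ K0, x * y = y * x) := by
  classical
  haveI : Fintype (IrrCharacter L) := Fintype.ofFinite _
  obtain ⟨n, hexp, hn, -⟩ := helper12.char_decomp hχ
  choose Ψ hΨch hΨdeg hΨinv hΨrel using fun τ : IrrCharacter L => sc_irr p K0 hcop b hidx τ.2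
  choose E hE using hΨrel
  obtain ⟨S, hS⟩ : ∃ S : Finset (IrrCharacter L),
      S = Finset.univ.filter (fun τ => n τ ≠ 0) := ⟨_, rfl⟩
  have hSmem : ∀ τ, τ ∈ S ↔ n τ ≠ 0 := by
    intro τ
    rw [hS, Finset.mem_filter]
    simp
  obtain ⟨ψ, hψdef⟩ : ∃ ψ : L → ℂ, ψ = ∑ τ ∈ S, Ψ τ := ⟨_, rfl⟩
  have hψch : IsCharacter L ψ := by
    rw [hψdef]
    apply helper12.isCharacter_sum
    intro τ _
    exact hΨch τ
  have hψval : ∀ g, ψ g = ∑ τ ∈ S, Ψ τ g := by
    intro g
    rw [hψdef, Finset.sum_apply]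
  refine ⟨ψ, hψch, ?_, ?_, ?_⟩
  · -- degree
    have hT : ∀ τ ∈ S, classInner χ (τ : L → ℂ) ≠ 0 := by
      intro τ hτ
      rw [hn]
      exact_mod_cast (hSmem τ).mp hτ
    have h1 := (sum_degree_constituents_le hχ S hT).1
    have h2 : charDegree ψ = ∑ τ ∈ S, charDegree (Ψ τ) := by
      have h3 : ((charDegree ψ : ℕ) : ℂ) = ((∑ τ ∈ S, charDegree (Ψ τ) : ℕ) : ℂ) := by
        rw [helper24.char_charDegree_cast hψch, hψval 1]
        push_cast
        apply Finset.sum_congr rfl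
        intro τ _
        rw [helper24.char_charDegree_cast (hΨch τ)]
      exact_mod_cast h3
    rw [h2]
    exact le_trans (Finset.sum_le_sum (fun τ _ => hΨdeg τ)) h1
  · intro k hk hmod g
    rw [hψval, hψval]
    apply Finset.sum_congr rfl
    intro τ _
    exact hΨinv τ k hk hmod g
  · intro x hx y hy
    obtain ⟨c, hc⟩ : ∃ c : L, c = x * y * x⁻¹ * y⁻¹ := ⟨_, rfl⟩
    have hcK : c ∈ K0 := by
      rw [hc]
      exact K0.mul_mem (hK.conj_mem y hy x) (K0.inv_mem hy)
    have hcker : ψ c = ψ 1 := by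
      have hxk : x ∈ helper24.charKer hψch := (helper24.mem_charKer hψch x).mpr hx
      have h2 : y * x⁻¹ * y⁻¹ ∈ helper24.charKer hψch :=
        (helper24.charKer_normal hψch).conj_mem x⁻¹ (Subgroup.inv_mem _ hxk) y
      have h3 : c ∈ helper24.charKer hψch := by
        have e : c = x * (y * x⁻¹ * y⁻¹) := by rw [hc]; group
        rw [e]
        exact Subgroup.mul_mem _ hxk h2
      exact (helper24.mem_charKer hψch c).mp h3
    have heach : ∀ τ ∈ S, Ψ τ c = Ψ τ 1 := by
      have hsum : ∑ τ ∈ S, ((Ψ τ 1).re - (Ψ τ c).re) = 0 := by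
        have h1 : (ψ 1).re - (ψ c).re = 0 := by rw [hcker]; ring
        rw [hψval 1, hψval c, Complex.re_sum, Complex.re_sum, ← Finset.sum_sub_distrib] at h1
        exact h1
      have hnn : ∀ τ ∈ S, 0 ≤ (Ψ τ 1).re - (Ψ τ c).re := by
        intro τ _
        have := (sc_re_le (hΨch τ) c).1
        linarith
      intro τ hτ
      have h0 := (Finset.sum_eq_zero_iff_of_nonneg hnn).mp hsum τ hτ
      apply (sc_re_le (hΨch τ) c).2
      linarith
    have hχc : χ c = χ 1 := by
      have hval : ∀ g : L, χ g = ∑ τ : IrrCharacter L, (n τ : ℂ) * (τ : L → ℂ) g := by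
        intro g
        conv_lhs => rw [hexp]
        simp [Finset.sum_apply]
      rw [hval c, hval 1]
      apply Finset.sum_congr rfl
      intro τ _
      by_cases hτ : τ ∈ S
      · rw [hE τ c hcK, hE τ 1 K0.one_mem, heach τ hτ]
      · have : n τ = 0 := by
          by_contra h
          exact hτ ((hSmem τ).mpr h)
        rw [this]
        simp
    have hc1 := hfaith c hcK hχc
    rw [hc] at hc1
    calc x * y = (x * y * x⁻¹ * y⁻¹) * y * x := by group
      _ = y * x := by rw [hc1, one_mul]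

end SchD

end Cfsg.Agent.helper22
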