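import Mathlib
import Cfsg.Agent.Lib_helper22_SchA
import Cfsg.Agent.Lib_helper22_SchD
import Cfsg.Agent.Lib_helper12_CharOps
import Cfsg.Agent.Lib_helper24_CharBasic
import Cfsg.Agent.Lib_helper24_CharCod

set_option autoImplicit false
set_option linter.unusedSectionVars false
set_option linter.unusedVariables false
set_option linter.style.haveILetI false
set_option linter.style.longLine false
set_option maxHeartbeats 800000

/-!
helper22: towards S4472, part E: a `p`-group `P0` acting on a `p'`-group `K0` inside a group with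
a faithful character of degree `n`: `|P0 : C_{P0}(K0)|` obeys the Schur bound for `n`.
-/

namespace Cfsg.Agent.helper22

open Cfsg
open scoped ComplexConjugate

universe u

section SchE

theorem se_sum_mono (p : ℕ) {n' n : ℕ} (h : n' ≤ n) :
    ∑ i ∈ Finset.range (n' + 1), n' / ((p - 1) * p ^ i) ≤
      ∑ i ∈ Finset.range (n + 1), n / ((p - 1) * p ^ i) := by
  calc ∑ i ∈ Finset.range (n' + 1), n' / ((p - 1) * p ^ i)
      ≤ ∑ i ∈ Finset.range (n' + 1), n / ((p - 1) * p ^ i) :=
        Finset.sum_le_sum (fun i _ => Nat.div_le_div_right h)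
    _ ≤ ∑ i ∈ Finset.range (n + 1), n / ((p - 1) * p ^ i) :=
        Finset.sum_le_sum_of_subset (Finset.range_subset_range.mpr (by omega))

theorem se_main {G : Type u} [Group G] [Finite G] (p : ℕ) [hp : Fact p.Prime]
    (K0 P0 : Subgroup G) (hK0 : (Nat.card K0).Coprime p) (hP0 : IsPGroup p P0)
    (hnorm : P0 ≤ Subgroup.normalizer (K0 : Set G))
    {χ : G → ℂ} (hχ : IsCharacter G χ) (hfaith : ∀ g : G, χ g = χ 1 → g = 1) :
    (Nat.card P0).factorization p ≤
      (Nat.card ↥(P0 ⊓ Subgroup.centralizer (K0 : Set G))).factorization p +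
        ∑ i ∈ Finset.range (charDegree χ + 1), charDegree χ / ((p - 1) * p ^ i) := by
  classical
  obtain ⟨L0, hL0⟩ : ∃ L0 : Subgroup G, L0 = K0 ⊔ P0 := ⟨_, rfl⟩
  have hKL : K0 ≤ L0 := by rw [hL0]; exact le_sup_left
  have hPL : P0 ≤ L0 := by rw [hL0]; exact le_sup_right
  haveI : Fintype L0 := Fintype.ofFinite _
  obtain ⟨K0', hK0'⟩ : ∃ K0' : Subgroup L0, K0' = K0.subgroupOf L0 := ⟨_, rfl⟩
  obtain ⟨P0', hP0'⟩ : ∃ P0' : Subgroup L0, P0' = P0.subgroupOf L0 := ⟨_, rfl⟩
  haveI hK0'n : K0'.Normal := by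
    rw [hK0']
    rw [Subgroup.normal_subgroupOf_iff_le_normalizer hKL, hL0]
    exact sup_le Subgroup.le_normalizer hnorm
  have hK0'card : Nat.card K0' = Nat.card K0 := by
    rw [hK0']; exact Nat.card_congr (Subgroup.subgroupOfEquivOfLe hKL).toEquiv
  have hP0'card : Nat.card P0' = Nat.card P0 := by
    rw [hP0']; exact Nat.card_congr (Subgroup.subgroupOfEquivOfLe hPL).toEquiv
  have hP0'p : IsPGroup p P0' := by rw [hP0']; exact hP0.comap_subtype
  obtain ⟨c, hc⟩ := IsPGroup.iff_card.mp hP0'p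
  have hsup : K0' ⊔ P0' = ⊤ := by
    rw [hK0', hP0', ← Subgroup.subgroupOf_sup hKL hPL, ← hL0, Subgroup.subgroupOf_self]
  have hidxdvd : K0'.index ∣ p ^ c := by
    rw [← hc, ← Subgroup.relIndex_top_right, ← hsup, Subgroup.relIndex_sup_left]
    exact Subgroup.relIndex_dvd_card K0' P0'
  obtain ⟨b, -, hb⟩ := (Nat.dvd_prime_pow hp.out).mp hidxdvd
  -- the restricted character
  obtain ⟨χL, hχL⟩ : ∃ χL : L0 → ℂ, χL = fun x : L0 => χ (x : G) := ⟨_, rfl⟩
  have hχLc : IsCharacter L0 χL := by rw [hχL]; exact helper12.isCharacter_restrict L0 hχ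
  have hχLdeg : charDegree χL = charDegree χ := by rw [hχL]; rfl
  have hχLfaith : ∀ k ∈ K0', χL k = χL 1 → k = 1 := by
    intro k _ hk
    rw [hχL] at hk
    have h1 : (k : G) = 1 := hfaith _ hk
    exact Subtype.ext h1
  have hcop' : (Nat.card K0').Coprime p := by rw [hK0'card]; exact hK0
  obtain ⟨ψ, hψc, hψdeg, hψinv, hψker⟩ := sc_main p K0' hcop' b hb hχLc hχLfaith
  rw [hχLdeg] at hψdeg
  -- restrict to P0'
  haveI : Fintype P0' := Fintype.ofFinite _
  obtain ⟨θ, hθ⟩ : ∃ θ : P0' → ℂ, θ = fun x : P0' => ψ (x : L0) := ⟨_, rfl⟩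
  have hθc : IsCharacter P0' θ := by rw [hθ]; exact helper12.isCharacter_restrict P0' hψc
  have hθ1 : θ 1 = (charDegree ψ : ℂ) := by
    rw [hθ]; exact (helper24.char_charDegree_cast hψc).symm
  have hcardL : Nat.card L0 = Nat.card K0' * p ^ b := by
    rw [← hb]; exact (Subgroup.card_mul_index K0').symm
  have hθinv : ∀ (x : P0') (t : ℕ), ¬ p ∣ t → θ (x ^ t) = θ x := by
    intro x t ht
    have hco : (p ^ (c + 1)).Coprime (Nat.card K0') := Nat.Coprime.pow_left _ hcop'.symm
    obtain ⟨k, hk1, hk2⟩ := Nat.chineseRemainder hco t 1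
    have hkp : ¬ p ∣ k := by
      intro hpk
      have h1 : k ≡ t [MOD p] := Nat.ModEq.of_dvd (dvd_pow_self p (Nat.succ_ne_zero c)) hk1
      exact ht ((Nat.ModEq.dvd_iff h1 (dvd_refl p)).mp hpk)
    have hkcop : k.Coprime (Nat.card L0) := by
      rw [hcardL]
      apply Nat.Coprime.mul_right
      · exact (Nat.ModEq.gcd_eq hk2).trans (Nat.gcd_one_left _)
      · exact Nat.Coprime.pow_right _ ((Nat.Prime.coprime_iff_not_dvd hp.out).mpr hkp).symm
    have hord : orderOf x ∣ p ^ (c + 1) := by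
      have h1 : orderOf x ∣ Nat.card P0' := orderOf_dvd_natCard x
      rw [hc] at h1
      exact h1.trans (pow_dvd_pow p (Nat.le_succ c))
    have hxk : x ^ k = x ^ t := pow_eq_pow_iff_modEq.mpr (Nat.ModEq.of_dvd hord hk1)
    have h2 := hψinv k hkcop hk2 (x : L0)
    rw [hθ]
    show ψ ((x ^ t : P0') : L0) = ψ (x : L0)
    rw [← hxk, ← h2]
    rfl
  have hbound := sbv_bound p hp.out hP0'p θ hθc (charDegree ψ) hθ1 hθinv
  -- the kernel
  have hkerp : IsPGroup p (helper24.charKer hθc) := hP0'p.to_subgroup _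
  obtain ⟨e, he⟩ := IsPGroup.iff_card.mp hkerp
  have hset : Nat.card {x : P0' // θ x = θ 1} = p ^ e := by
    rw [helper24.card_charKer hθc, he]
  have hCp : IsPGroup p ↥(P0 ⊓ Subgroup.centralizer (K0 : Set G)) := hP0.to_le inf_le_left
  obtain ⟨f, hf⟩ := IsPGroup.iff_card.mp hCp
  have hP0'mem : ∀ z : L0, z ∈ P0' → (z : G) ∈ P0 := by
    intro z hz
    rw [hP0'] at hz
    exact Subgroup.mem_subgroupOf.mp hz
  have hθval : ∀ x : P0', θ x = ψ (x : L0) := by
    intro x; rw [hθ]
  have hinj : Nat.card {x : P0' // θ x = θ 1} ≤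
      Nat.card ↥(P0 ⊓ Subgroup.centralizer (K0 : Set G)) := by
    have hmem : ∀ x : {x : P0' // θ x = θ 1},
        (((x.1 : P0') : L0) : G) ∈ P0 ⊓ Subgroup.centralizer (K0 : Set G) := by
      intro x
      refine Subgroup.mem_inf.mpr ⟨?_, ?_⟩
      · exact hP0'mem _ x.1.2
      · rw [Subgroup.mem_centralizer_iff]
        intro y hy
        have hyK : (⟨y, hKL hy⟩ : L0) ∈ K0' := by
          rw [hK0']; exact Subgroup.mem_subgroupOf.mpr hy
        have hx : ψ ((x.1 : P0') : L0) = ψ 1 :=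
          (hθval x.1).symm.trans (x.2.trans (hθval 1))
        have h3 := hψker _ hx _ hyK
        have h4 := congrArg (fun z : L0 => (z : G)) h3
        exact h4.symm
    apply Nat.card_le_card_of_injective
      (fun x => (⟨_, hmem x⟩ : ↥(P0 ⊓ Subgroup.centralizer (K0 : Set G))))
    intro x y hxy
    have h1 : (((x.1 : P0') : L0) : G) = (((y.1 : P0') : L0) : G) :=
      congrArg (fun z : ↥(P0 ⊓ Subgroup.centralizer (K0 : Set G)) => (z : G)) hxy
    exact Subtype.ext (Subtype.ext (Subtype.ext h1))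
  rw [hset, hf] at hinj
  have hef : e ≤ f := (Nat.pow_le_pow_iff_right hp.out.one_lt).mp hinj
  have hpk : ∀ k : ℕ, (p ^ k).factorization p = k := by
    intro k
    rw [hp.out.factorization_pow]
    simp
  rw [hset, hpk, hP0'card] at hbound
  rw [hf, hpk]
  have hmono := se_sum_mono p hψdeg
  omega

end SchE

end Cfsg.Agent.helper22
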