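import Mathlib
import Cfsg.Agent.Lib_helper22_TIS2
import Cfsg.Agent.Lib_helper22_TIS3

set_option autoImplicit false
set_option linter.unusedSectionVars false
set_option linter.unusedVariables false
set_option linter.style.haveILetI false
set_option linter.style.longLine false

/-!
helper22: a `p`-solvable group with a TI Sylow `p`-subgroup `P` and a faithful character of
degree `d` with `d² ≤ |P|` has `P` normal.
-/

namespace Cfsg.Agent.helper22

open Cfsg
open scoped Pointwise commutatorElement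

universe u

section TIS4
variable {G : Type u} [Group G] [Finite G]

theorem tis_final (p : ℕ) [Fact p.Prime] (hsolv : Cfsg.IsPSolvable p G) (P : Sylow p G)
    (hTI : ∀ g : G, g ∉ Subgroup.normalizer ((P : Subgroup G) : Set G) →
      (P : Subgroup G) ⊓ (MulAut.conj g • (P : Subgroup G)) = ⊥)
    (χ : G → ℂ) (hχ : Cfsg.IsCharacter G χ) (hfaith : ∀ g : G, χ g = χ 1 → g = 1)
    (hdeg : Cfsg.charDegree χ ^ 2 ≤ Nat.card ↥(P : Subgroup G)) : (P : Subgroup G).Normal := by
  classical
  have hpp : p.Prime := Fact.out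
  by_contra hnn
  obtain ⟨q, Q₀, hq, hqp, hQ₀q, hPQ₀, hcomm, hQ₀ne, hfixed, hΦc, hdisj, hirr⟩ :=
    tis_group hsolv P hTI hnn
  haveI : Fact q.Prime := ⟨hq⟩
  haveI : Fintype ↥Q₀ := Fintype.ofFinite _
  haveI : Fintype ↥(P : Subgroup G) := Fintype.ofFinite _
  obtain ⟨α, hα⟩ : ∃ α : ↥(P : Subgroup G) →* MulAut ↥Q₀,
      ∀ (a : ↥(P : Subgroup G)) (t : ↥Q₀), ((α a t : ↥Q₀) : G) = (a : G) * (t : G) * (a : G)⁻¹ :=
    ⟨(Subgroup.normalizerMonoidHom Q₀).comp (Subgroup.inclusion hPQ₀), fun a t => rfl⟩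
  obtain ⟨ψ, hψdef⟩ : ∃ ψ : ↥Q₀ → ℂ, ψ = fun t : ↥Q₀ => χ (t : G) := ⟨_, rfl⟩
  have hψ : IsCharacter ↥Q₀ ψ := hψdef ▸ helper12.isCharacter_restrict Q₀ hχ
  have hψfaith : ∀ t : ↥Q₀, ψ t = ψ 1 → t = 1 := by
    intro t ht
    rw [hψdef] at ht
    apply Subtype.ext
    exact hfaith _ ht
  have hψdeg : charDegree ψ = charDegree χ := by rw [hψdef]; rfl
  have hcardP : Nat.card ↥(P : Subgroup G) = Fintype.card ↥(P : Subgroup G) :=
    Nat.card_eq_fintype_card
  have hfix : ∀ a : ↥(P : Subgroup G), a ≠ 1 → ∀ t : ↥Q₀, α a t = t → (t : G) ∈ ⁅Q₀, Q₀⁆ := by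
    intro a ha t hat
    apply hfixed (a : G) a.2 (fun h => ha (Subtype.ext h)) (t : G) t.2
    have h5 := congrArg Subtype.val hat
    rw [hα] at h5
    calc (a : G) * t = ((a : G) * t * (a : G)⁻¹) * a := by group
      _ = t * a := by rw [h5]
  have hPcard : 1 < Fintype.card ↥(P : Subgroup G) := by
    rw [← hcardP, Subgroup.one_lt_card_iff_ne_bot]
    intro h
    apply hnn
    rw [h]
    exact Subgroup.normal_bot
  by_cases hab : ∀ a b : ↥Q₀, a * b = b * a
  · -- abelian case
    have hcomm0 : ⁅Q₀, Q₀⁆ = ⊥ := by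
      rw [Subgroup.commutator_eq_bot_iff_le_centralizer]
      intro x hx
      rw [Subgroup.mem_centralizer_iff]
      intro y hy
      exact congrArg Subtype.val (hab ⟨y, hy⟩ ⟨x, hx⟩)
    have hnt : ∃ t : ↥Q₀, t ≠ 1 := (Subgroup.ne_bot_iff_exists_ne_one).mp hQ₀ne
    have hfpf : ∀ a : ↥(P : Subgroup G), a ≠ 1 → ∀ t : ↥Q₀, α a t = t → t = 1 := by
      intro a ha t hat
      have h5 := hfix a ha t hat
      rw [hcomm0, Subgroup.mem_bot] at h5
      exact Subtype.ext h5
    have hinv : ∀ (a : ↥(P : Subgroup G)) (t : ↥Q₀), ψ (α a t) = ψ t := by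
      intro a t
      rw [hψdef]
      show χ ((α a t : ↥Q₀) : G) = χ (t : G)
      rw [hα]
      exact helper24.char_isClassFunction hχ _ _
    have h1 := tis_abelian α hab hnt hfpf ψ hψ hinv hψfaith
    rw [hψdeg] at h1
    rw [hcardP] at hdeg
    have h5 : charDegree χ * charDegree χ ≤ charDegree χ := by
      rw [← sq]; exact hdeg.trans h1
    have h6 : charDegree χ ≤ 1 := by
      by_contra h
      push Not at h
      nlinarith
    omega
  · -- special case
    have hspec : IsSpecial q ↥Q₀ := by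
      rcases hdisj with h | h
      · exfalso
        apply hab
        intro a b
        haveI := h.1
        exact mul_comm' a b
      · exact h
    obtain ⟨-, hfc, hcc⟩ := hspec
    have hmapc : ∀ t : ↥Q₀, (t : G) ∈ (Subgroup.center ↥Q₀).map Q₀.subtype →
        t ∈ Subgroup.center ↥Q₀ := by
      rintro t ⟨s, hs, hst⟩
      have : s = t := Subtype.ext hst
      rw [← this]; exact hs
    have hirrT : ∀ U : Subgroup ↥Q₀, Subgroup.center ↥Q₀ ≤ U →
        (∀ (a : ↥(P : Subgroup G)) (t : ↥Q₀), t ∈ U → α a t ∈ U) →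
        U = Subgroup.center ↥Q₀ ∨ U = ⊤ := by
      intro U hZU hUinv
      have h1 : (frattini ↥Q₀).map Q₀.subtype ≤ U.map Q₀.subtype := by
        rw [hfc]; exact Subgroup.map_mono hZU
      have h2 : U.map Q₀.subtype ≤ Q₀ := Subgroup.map_subtype_le _
      have h3 : (P : Subgroup G) ≤ Subgroup.normalizer ((U.map Q₀.subtype : Subgroup G) : Set G) := by
        intro a ha
        rw [Subgroup.mem_normalizer_iff]
        intro h
        constructor
        · rintro ⟨t, ht, rfl⟩
          refine ⟨α ⟨a, ha⟩ t, hUinv ⟨a, ha⟩ t ht, ?_⟩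
          show ((α ⟨a, ha⟩ t : ↥Q₀) : G) = a * (t : G) * a⁻¹
          rw [hα]
        · rintro ⟨s, hs, hst⟩
          refine ⟨α (⟨a, ha⟩ : ↥(P : Subgroup G))⁻¹ s, hUinv _ s hs, ?_⟩
          show ((α (⟨a, ha⟩ : ↥(P : Subgroup G))⁻¹ s : ↥Q₀) : G) = h
          rw [hα]
          have h5 : (s : G) = a * h * a⁻¹ := hst
          rw [h5]
          show a⁻¹ * (a * h * a⁻¹) * a⁻¹⁻¹ = h
          group
      rcases hirr _ h1 h2 h3 with h | h
      · left
        apply Subgroup.map_injective Q₀.subtype_injective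
        rw [h, hfc]
      · right
        apply Subgroup.map_injective Q₀.subtype_injective
        rw [h, ← MonoidHom.range_eq_map, Subgroup.range_subtype]
    have hfixT : ∀ a : ↥(P : Subgroup G), a ≠ 1 → ∀ t : ↥Q₀, α a t = t →
        t ∈ Subgroup.center ↥Q₀ := by
      intro a ha t hat
      have h5 := hfix a ha t hat
      rw [← Subgroup.map_subtype_commutator, hcc] at h5
      exact hmapc t h5
    have hZT : ∀ (a : ↥(P : Subgroup G)) (z : ↥Q₀), z ∈ Subgroup.center ↥Q₀ → α a z = z := by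
      intro a z hz
      apply Subtype.ext
      rw [hα]
      have h5 : (z : G) ∈ (frattini ↥Q₀).map Q₀.subtype := by
        rw [hfc]; exact ⟨z, hz, rfl⟩
      have h6 := hΦc (a : G) a.2 (z : G) h5
      rw [h6]; group
    have hcop : Nat.Coprime (Fintype.card ↥(P : Subgroup G)) (Fintype.card ↥Q₀) := by
      obtain ⟨n, hn⟩ := IsPGroup.iff_card.mp P.isPGroup'
      obtain ⟨m, hm⟩ := IsPGroup.iff_card.mp hQ₀q
      rw [← Nat.card_eq_fintype_card, ← Nat.card_eq_fintype_card, hn, hm]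
      apply Nat.Coprime.pow
      exact (Nat.coprime_primes hpp hq).mpr (Ne.symm hqp)
    have hnab : Subgroup.center ↥Q₀ ≠ ⊤ := by
      intro h
      apply hab
      intro a b
      have h5 : b ∈ Subgroup.center ↥Q₀ := by rw [h]; exact Subgroup.mem_top b
      exact (Subgroup.mem_center_iff.mp h5 a)
    have h1 := tis_special α hcc hirrT hfixT hZT hcop hnab ψ hψ hψfaith
    rw [hψdeg] at h1
    rw [hcardP] at hdeg
    omega

end TIS4

end Cfsg.Agent.helper22
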