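import Mathlib
import Cfsg.Prelude.Def_Solvable
import Cfsg.Agent.Lib_helper1_FrobThm
import Cfsg.Agent.Lib_helper21_FrobCount
import Cfsg.Agent.Lib_lead_Coprime2
import Cfsg.Agent.Lib_lead_Coprime5
import Cfsg.Agent.Lib_helper23_Hall

set_option autoImplicit false

namespace Cfsg.Agent.helper23

open scoped Pointwise commutatorElement

universe u

/-- If `A` is maximal, `K ⊓ A = ⊥`, then the `A`-invariant subgroups of `K` are `⊥` and `K`. -/
theorem invariant_eq_bot_or_of_coatom {G : Type u} [Group G] (A K M : Subgroup G)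
    (hA : IsCoatom A) (hKA : K ⊓ A = ⊥) (hMK : M ≤ K)
    (hAM : A ≤ Subgroup.normalizer (M : Set G)) : M = ⊥ ∨ M = K := by
  by_cases h : A ⊔ M = A
  · left
    have hMA : M ≤ A := by rw [← h]; exact le_sup_right
    rw [eq_bot_iff, ← hKA]
    exact le_inf hMK hMA
  · right
    have htop : A ⊔ M = ⊤ := hA.2 _ (lt_of_le_of_ne le_sup_left (Ne.symm h))
    apply le_antisymm hMK
    intro k hk
    have hk' : k ∈ ((A ⊔ M : Subgroup G) : Set G) := by
      rw [htop]; exact Set.mem_univ k
    rw [Subgroup.coe_mul_of_left_le_normalizer_right A M hAM] at hk'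
    obtain ⟨a, ha, m, hm, hamk⟩ := hk'
    have hamk' : a * m = k := hamk
    subst hamk'
    have haK : a ∈ K := by
      have : a = (a * m) * m⁻¹ := by group
      rw [this]; exact K.mul_mem hk (K.inv_mem (hMK hm))
    have ha1 : a = 1 := by
      have : a ∈ K ⊓ A := ⟨haK, ha⟩
      rw [hKA] at this; exact Subgroup.mem_bot.mp this
    rw [ha1, one_mul]; exact hm

/-- A Frobenius group whose complement is abelian and maximal is metabelian. -/
theorem frob_abelian_coatom {G : Type u} [Group G] [Finite G] (A : Subgroup G) (hA : IsCoatom A)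
    (hcomm : ∀ a ∈ A, ∀ b ∈ A, a * b = b * a) (hAb : A ≠ ⊥)
    (hTI : ∀ g : G, g ∉ A → ∀ t ∈ A, g * t * g⁻¹ ∈ A → t = 1) :
    derivedSeries G 2 = ⊥ := by
  obtain ⟨K, hKn, hKA, hKmem⟩ := Cfsg.Agent.helper1.frobenius_kernel_exists A hTI
  haveI := hKn
  have hFC : Cfsg.IsFrobeniusComplement A := by
    refine ⟨hAb, hA.1, ?_⟩
    intro g hg
    rw [eq_bot_iff]
    intro t ht
    rw [Subgroup.mem_bot]
    rw [Subgroup.mem_inf] at ht
    obtain ⟨ht1, ht2⟩ := ht
    rw [Cfsg.Agent.helper21.frobc_mem_conj] at ht2
    apply hTI g⁻¹ (fun h => hg (by simpa using A.inv_mem h)) t ht1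
    simpa using ht2
  have hKcard : Nat.card K = A.index := by
    rw [← Cfsg.Agent.helper21.frobc_kernel_card A hFC]
    exact Nat.card_congr (Equiv.subtypeEquivRight hKmem)
  have hcop : (Nat.card A).Coprime (Nat.card K) := by
    rw [hKcard]
    obtain ⟨c, hc⟩ := Cfsg.Agent.helper21.frobc_card_dvd A hFC
    have hpos : 0 < A.index := Nat.pos_of_ne_zero Subgroup.index_ne_zero_of_finite
    have hidx : A.index = Nat.card A * c + 1 := by omega
    rw [hidx]
    exact (Nat.coprime_mul_left_add_right _ _ _).mpr (Nat.coprime_one_right _)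
  have hsup : A ⊔ K = ⊤ := by
    have h1 := card_sup_mul_card_inf A K
    rw [hKA, Subgroup.card_bot, mul_one, hKcard, Subgroup.card_mul_index] at h1
    exact (Subgroup.card_eq_iff_eq_top _).mp h1
  have hAsolv : Group.IsSolvable A := Cfsg.Agent.lead.solvable_of_comm_subgroup A hcomm
  have hAK : A ≤ Subgroup.normalizer (K : Set G) := by
    rw [Subgroup.normalizer_eq_top]; exact le_top
  have hinv : ∀ M : Subgroup G, M ≤ K → A ≤ Subgroup.normalizer (M : Set G) → M = ⊥ ∨ M = K :=
    fun M hMK hAM => invariant_eq_bot_or_of_coatom A K M hA hKA hMK hAM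
  have hKb : K ≠ ⊥ := by
    intro h
    rw [h, Subgroup.card_bot] at hKcard
    exact hA.1 (Subgroup.index_eq_one.mp hKcard.symm)
  have hK1 : Nat.card K ≠ 1 := by
    intro h; exact hKb (Subgroup.card_eq_one.mp h)
  obtain ⟨p, hp, hpK⟩ := Nat.exists_prime_and_dvd hK1
  haveI : Fact p.Prime := ⟨hp⟩
  obtain ⟨P, hPK, hPcard, hPA⟩ :=
    Cfsg.Agent.lead.exists_invariant_sylow A K hAK hcop (Or.inl hAsolv) p
  have hPb : P ≠ ⊥ := by
    intro h
    rw [h, Subgroup.card_bot] at hPcard
    have hpos : 0 < (Nat.card K).factorization p :=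
      hp.factorization_pos_of_dvd Nat.card_pos.ne' hpK
    have : 1 < p ^ (Nat.card K).factorization p := Nat.one_lt_pow hpos.ne' hp.one_lt
    omega
  have hPK' : P = K := (hinv P hPK hPA).resolve_left hPb
  have hKp : IsPGroup p K :=
    IsPGroup.of_card (n := (Nat.card K).factorization p) (by rw [← hPcard, hPK'])
  have hcomK : ⁅K, K⁆ = ⊥ := by
    have hle : ⁅K, K⁆ ≤ K := Subgroup.commutator_le_right K K
    have hAn : A ≤ Subgroup.normalizer ((⁅K, K⁆ : Subgroup G) : Set G) := by
      rw [Subgroup.normalizer_eq_top]; exact le_top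
    rcases hinv _ hle hAn with h | h
    · exact h
    · exfalso
      haveI : Nontrivial K := (Subgroup.nontrivial_iff_ne_bot K).mpr hKb
      haveI : Group.IsNilpotent K := hKp.isNilpotent
      have hlt := Group.IsSolvable.commutator_lt_top_of_nontrivial K
      have hmap : (commutator K).map K.subtype = ⁅K, K⁆ := Subgroup.map_subtype_commutator K
      rw [h] at hmap
      have : commutator K = ⊤ := by
        apply Subgroup.map_injective K.subtype_injective
        rw [hmap, ← MonoidHom.range_eq_map, Subgroup.range_subtype]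
      exact hlt.ne this
  have hG1 : derivedSeries G 1 ≤ K := by
    rw [derivedSeries_one, commutator_def, Subgroup.commutator_le]
    intro x _ y _
    have hx : x ∈ ((A ⊔ K : Subgroup G) : Set G) := by rw [hsup]; exact Set.mem_univ x
    have hy : y ∈ ((A ⊔ K : Subgroup G) : Set G) := by rw [hsup]; exact Set.mem_univ y
    rw [Subgroup.mul_normal A K] at hx hy
    obtain ⟨a, ha, k, hk, hx'⟩ := hx
    obtain ⟨b, hb, l, hl, hy'⟩ := hy
    have hx'' : a * k = x := hx'
    have hy'' : b * l = y := hy'
    subst hx'' hy''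
    have hπ : ∀ z : G, z ∈ K ↔ QuotientGroup.mk' K z = 1 := fun z => by
      rw [QuotientGroup.mk'_apply, QuotientGroup.eq_one_iff]
    rw [hπ, map_commutatorElement, map_mul, map_mul, (hπ k).mp hk, (hπ l).mp hl, mul_one, mul_one,
      ← map_commutatorElement,
      commutatorElement_eq_one_iff_commute.mpr (show Commute a b from hcomm a ha b hb), map_one]
  rw [show (2 : ℕ) = 1 + 1 from rfl, derivedSeries_succ, eq_bot_iff, ← hcomK]
  exact Subgroup.commutator_mono hG1 hG1

/-- A finite group with an abelian maximal subgroup has derived length at most three. -/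
theorem abelian_coatom_derived {G : Type u} [Group G] [Finite G] (A : Subgroup G)
    (hA : IsCoatom A) (hcomm : ∀ a ∈ A, ∀ b ∈ A, a * b = b * a) : derivedSeries G 3 = ⊥ := by
  have hAA : ⁅A, A⁆ = ⊥ := by
    rw [eq_bot_iff, Subgroup.commutator_le]
    intro a ha b hb
    rw [Subgroup.mem_bot, commutatorElement_eq_one_iff_commute]
    exact hcomm a ha b hb
  have h32 : ∀ M : Subgroup G, ⁅M, M⁆ = ⊥ → derivedSeries G 2 ≤ M → derivedSeries G 3 = ⊥ := by
    intro M hM h2
    rw [show (3 : ℕ) = 2 + 1 from rfl, derivedSeries_succ, eq_bot_iff, ← hM]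
    exact Subgroup.commutator_mono h2 h2
  by_cases hAn : A.Normal
  · haveI := hAn
    obtain ⟨g, hg⟩ : ∃ g : G, g ∉ A := by
      by_contra h
      push Not at h
      exact hA.1 (eq_top_iff.mpr fun x _ => h x)
    have hsup : A ⊔ Subgroup.zpowers g = ⊤ := by
      apply hA.2
      apply lt_of_le_of_ne le_sup_left
      intro h
      apply hg
      rw [h]
      exact (le_sup_right : Subgroup.zpowers g ≤ _) (Subgroup.mem_zpowers g)
    have hG1 : derivedSeries G 1 ≤ A := by
      rw [derivedSeries_one, commutator_def, Subgroup.commutator_le]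
      intro x _ y _
      have hx : x ∈ ((Subgroup.zpowers g ⊔ A : Subgroup G) : Set G) := by
        rw [sup_comm, hsup]; exact Set.mem_univ x
      have hy : y ∈ ((Subgroup.zpowers g ⊔ A : Subgroup G) : Set G) := by
        rw [sup_comm, hsup]; exact Set.mem_univ y
      rw [Subgroup.mul_normal (Subgroup.zpowers g) A] at hx hy
      obtain ⟨u, hu, a, ha, hx'⟩ := hx
      obtain ⟨v, hv, b, hb, hy'⟩ := hy
      have hx'' : u * a = x := hx'
      have hy'' : v * b = y := hy'
      subst hx'' hy''
      have hπ : ∀ z : G, z ∈ A ↔ QuotientGroup.mk' A z = 1 := fun z => by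
        rw [QuotientGroup.mk'_apply, QuotientGroup.eq_one_iff]
      have huv : Commute u v := by
        obtain ⟨m, rfl⟩ := Subgroup.mem_zpowers_iff.mp hu
        obtain ⟨n, rfl⟩ := Subgroup.mem_zpowers_iff.mp hv
        show g ^ m * g ^ n = g ^ n * g ^ m
        rw [← zpow_add, ← zpow_add, add_comm]
      rw [hπ, map_commutatorElement, map_mul, map_mul, (hπ a).mp ha, (hπ b).mp hb, mul_one,
        mul_one, ← map_commutatorElement, commutatorElement_eq_one_iff_commute.mpr huv, map_one]
    have hG2 : derivedSeries G 2 ≤ A := by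
      rw [show (2 : ℕ) = 1 + 1 from rfl, derivedSeries_succ]
      exact (Subgroup.commutator_mono hG1 hG1).trans (by rw [hAA]; exact bot_le)
    exact h32 A hAA hG2
  · have hNA : Subgroup.normalizer (A : Set G) = A := by
      by_contra hne
      have : Subgroup.normalizer (A : Set G) = ⊤ :=
        hA.2 _ (lt_of_le_of_ne Subgroup.le_normalizer (Ne.symm hne))
      exact hAn (Subgroup.normalizer_eq_top_iff.mp this)
    have hZA : Subgroup.center G ≤ A := by
      by_contra hZA
      have hsup : A ⊔ Subgroup.center G = ⊤ := by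
        apply hA.2
        apply lt_of_le_of_ne le_sup_left
        intro h
        apply hZA
        rw [h]; exact le_sup_right
      apply hAn
      constructor
      intro n hn x
      have hx : x ∈ ((A ⊔ Subgroup.center G : Subgroup G) : Set G) := by
        rw [hsup]; exact Set.mem_univ x
      rw [Subgroup.mul_normal A (Subgroup.center G)] at hx
      obtain ⟨a, ha, z, hz, hx'⟩ := hx
      have hx'' : a * z = x := hx'
      subst hx''
      have hzn : z * n * z⁻¹ = n := by
        rw [← (Subgroup.mem_center_iff.mp hz n), mul_inv_cancel_right]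
      have : a * z * n * (a * z)⁻¹ = a * n * a⁻¹ := by
        calc a * z * n * (a * z)⁻¹ = a * (z * n * z⁻¹) * a⁻¹ := by group
          _ = a * n * a⁻¹ := by rw [hzn]
      rw [this]
      exact A.mul_mem (A.mul_mem ha hn) (A.inv_mem ha)
    have hTI0 : ∀ g : G, g ∉ A → ∀ t ∈ A, g * t * g⁻¹ ∈ A → t ∈ Subgroup.center G := by
      intro g hg t ht hgt
      have hAC : A ≤ Subgroup.centralizer ({t} : Set G) := by
        intro a ha
        rw [Subgroup.mem_centralizer_iff]
        intro s hs
        rw [Set.mem_singleton_iff] at hs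
        rw [hs]
        exact hcomm t ht a ha
      by_cases hCtop : Subgroup.centralizer ({t} : Set G) = ⊤
      · rw [Subgroup.mem_center_iff]
        intro w
        have hw : w ∈ Subgroup.centralizer ({t} : Set G) := by
          rw [hCtop]; exact Subgroup.mem_top w
        rw [Subgroup.mem_centralizer_iff] at hw
        exact (hw t rfl).symm
      · exfalso
        have hCA : Subgroup.centralizer ({t} : Set G) = A := by
          by_contra hne
          exact hCtop (hA.2 _ (lt_of_le_of_ne hAC (Ne.symm hne)))
        apply hg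
        have hgN : g⁻¹ ∈ Subgroup.normalizer (A : Set G) := by
          apply Subgroup.mem_normalizer_fintype
          intro a ha
          rw [inv_inv]
          show g⁻¹ * a * g ∈ A
          rw [← hCA, Subgroup.mem_centralizer_iff]
          intro s hs
          rw [Set.mem_singleton_iff] at hs
          rw [hs]
          have h1 := hcomm (g * t * g⁻¹) hgt a ha
          calc t * (g⁻¹ * a * g) = g⁻¹ * ((g * t * g⁻¹) * a) * g := by group
            _ = g⁻¹ * (a * (g * t * g⁻¹)) * g := by rw [h1]
            _ = g⁻¹ * a * g * t := by group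
        rw [hNA] at hgN
        simpa using A.inv_mem hgN
    obtain ⟨π, hπdef⟩ : ∃ π : G →* G ⧸ Subgroup.center G, π = QuotientGroup.mk' _ := ⟨_, rfl⟩
    have hπs : Function.Surjective π := by rw [hπdef]; exact QuotientGroup.mk'_surjective _
    have hker : π.ker = Subgroup.center G := by rw [hπdef]; exact QuotientGroup.ker_mk' _
    have hcomap : (A.map π).comap π = A := by
      rw [Subgroup.comap_map_eq, hker, sup_eq_left.mpr hZA]
    have hmemĀ : ∀ x : G, π x ∈ A.map π ↔ x ∈ A := by
      intro x
      rw [← Subgroup.mem_comap, hcomap]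
    have hĀco : IsCoatom (A.map π) := by
      constructor
      · intro h
        apply hA.1
        rw [← hcomap, h, Subgroup.comap_top]
      · intro B hB
        have h1 : A ≤ B.comap π := by
          rw [← hcomap]; exact Subgroup.comap_mono hB.le
        have h2 : A ≠ B.comap π := by
          intro h
          apply hB.ne
          rw [h, Subgroup.map_comap_eq_self_of_surjective hπs]
        have h3 := hA.2 _ (lt_of_le_of_ne h1 h2)
        rw [← Subgroup.map_comap_eq_self_of_surjective hπs B, h3,
          Subgroup.map_top_of_surjective π hπs]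
    have hĀcomm : ∀ a ∈ A.map π, ∀ b ∈ A.map π, a * b = b * a := by
      rintro _ ⟨a, ha, rfl⟩ _ ⟨b, hb, rfl⟩
      rw [← map_mul, ← map_mul, hcomm a ha b hb]
    have hĀb : A.map π ≠ ⊥ := by
      intro h
      apply hAn
      have hAZ : A = Subgroup.center G := by
        apply le_antisymm _ hZA
        intro a ha
        have : π a ∈ A.map π := Subgroup.mem_map_of_mem π ha
        rw [h, Subgroup.mem_bot] at this
        rw [← hker]; exact MonoidHom.mem_ker.mpr this
      rw [hAZ]; infer_instance
    have hĀTI : ∀ g : G ⧸ Subgroup.center G, g ∉ A.map π → ∀ t ∈ A.map π,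
        g * t * g⁻¹ ∈ A.map π → t = 1 := by
      intro g hg t ht hgt
      obtain ⟨g, rfl⟩ := hπs g
      obtain ⟨t, htA, rfl⟩ := ht
      have hgA : g ∉ A := fun h => hg ((hmemĀ g).mpr h)
      have hgt' : g * t * g⁻¹ ∈ A := by
        rw [← hmemĀ]; simpa using hgt
      have := hTI0 g hgA t htA hgt'
      rw [← hker] at this
      exact MonoidHom.mem_ker.mp this
    have hQ := frob_abelian_coatom (A.map π) hĀco hĀcomm hĀb hĀTI
    have h2 : derivedSeries G 2 ≤ Subgroup.center G := by
      have := map_derivedSeries_le_derivedSeries π 2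
      rw [hQ, le_bot_iff] at this
      rw [← hker]
      exact (Subgroup.map_eq_bot_iff _).mp this
    have hZZ : ⁅Subgroup.center G, Subgroup.center G⁆ = ⊥ := by
      rw [eq_bot_iff, Subgroup.commutator_le]
      intro a ha b hb
      rw [Subgroup.mem_bot, commutatorElement_eq_one_iff_commute]
      exact Subgroup.mem_center_iff.mp hb a
    exact h32 _ hZZ h2

end Cfsg.Agent.helper23
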