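import Cfsg.Statements.S0129
import Mathlib
import Cfsg.Agent.S0636
import Cfsg.Agent.S0233
import Cfsg.Agent.Lib_helper19_CP

set_option autoImplicit false
set_option linter.style.haveILetI false
open Cfsg

namespace Cfsg.Agent.S0129

/-- A normal subgroup of order `p ^ (n + 1)` of a finite `p`-group contains a normal subgroup of
order `p ^ n` of the whole group which contains all commutators `g a g⁻¹ a⁻¹`, `a ∈ A`. -/
theorem exists_normal_index_p.{u} {p : ℕ} [hp : Fact p.Prime] :
    ∀ (n : ℕ) (G : Type u) [Group G] [Finite G], IsPGroup p G → ∀ A : Subgroup G, A.Normal →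
      Nat.card A = p ^ (n + 1) →
      ∃ B : Subgroup G, B.Normal ∧ B ≤ A ∧ Nat.card B = p ^ n ∧
        ∀ g : G, ∀ a ∈ A, g * a * g⁻¹ * a⁻¹ ∈ B := by
  intro n
  induction n with
  | zero =>
    intro G _ _ hG A hAn hA
    haveI := hAn
    have hAbot : A ≠ ⊥ := by
      rintro rfl
      rw [Subgroup.card_bot, zero_add, pow_one] at hA
      have := hp.out.one_lt
      omega
    obtain ⟨b, hbA, hbo, hbc⟩ := S0636.exists_central hG A hAbot
    have hle : Subgroup.zpowers b ≤ A := by rw [Subgroup.zpowers_le]; exact hbA
    have hcard : Nat.card A ≤ Nat.card (Subgroup.zpowers b) := by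
      rw [Nat.card_zpowers, hbo, hA, zero_add, pow_one]
    have heq := Subgroup.eq_of_le_of_card_ge hle hcard
    refine ⟨⊥, inferInstance, bot_le, by simp, ?_⟩
    intro g a ha
    rw [← heq] at ha
    obtain ⟨i, rfl⟩ := Subgroup.mem_zpowers_iff.mp ha
    have hc : Commute g (b ^ i) := (show Commute g b from hbc g).zpow_right i
    rw [Subgroup.mem_bot, hc.eq, mul_inv_cancel_right, mul_inv_cancel]
  | succ n ih =>
    intro G _ _ hG A hAn hA
    haveI := hAn
    have hAbot : A ≠ ⊥ := by
      rintro rfl
      rw [Subgroup.card_bot] at hA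
      have := hp.out.one_lt
      have : 1 < p ^ (n + 1 + 1) := Nat.one_lt_pow (by omega) this
      omega
    obtain ⟨z, hzA, hzo, hzc⟩ := S0636.exists_central hG A hAbot
    set Z := Subgroup.zpowers z with hZ
    haveI hZn : Z.Normal := S0636.zpowers_normal_of_central z hzc
    have hZcard : Nat.card Z = p := by rw [hZ, Nat.card_zpowers, hzo]
    have hZA : Z ≤ A := by rw [hZ, Subgroup.zpowers_le]; exact hzA
    set π := QuotientGroup.mk' Z with hπ
    have hπs : Function.Surjective π := QuotientGroup.mk'_surjective Z
    have hker : π.ker = Z := QuotientGroup.ker_mk' Z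
    have hAcm : (A.map π).comap π = A := by
      rw [Subgroup.comap_map_eq, hker]; exact sup_eq_left.mpr hZA
    have hAq : Nat.card (A.map π) = p ^ (n + 1) := by
      have h1 := helper19.card_comap_of_surjective π hπs (A.map π)
      rw [hAcm, hA, hker, hZcard, pow_succ] at h1
      exact (Nat.eq_of_mul_eq_mul_right hp.out.pos h1).symm
    obtain ⟨Bb, hBbn, hBbA, hBbc, hBbcomm⟩ :=
      ih (G ⧸ Z) (hG.to_quotient Z) (A.map π) (Subgroup.Normal.map hAn π hπs) hAq
    refine ⟨Bb.comap π, hBbn.comap π, ?_, ?_, ?_⟩
    · rw [← hAcm]; exact Subgroup.comap_mono hBbA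
    · rw [helper19.card_comap_of_surjective π hπs, hBbc, hker, hZcard, pow_succ]
    · intro g a ha
      rw [Subgroup.mem_comap, map_mul, map_mul, map_mul, map_inv, map_inv]
      exact hBbcomm (π g) (π a) (Subgroup.mem_map_of_mem π ha)

/-- The index of the centralizer of a normal subgroup of order `p ^ a` in a finite `p`-group is
at most `p ^ (a (a - 1) / 2)`. -/
theorem card_le_centralizer {G : Type*} [Group G] [Finite G] {p : ℕ} [hp : Fact p.Prime]
    (hG : IsPGroup p G) : ∀ (a : ℕ) (A : Subgroup G), A.Normal → Nat.card A = p ^ a →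
      Nat.card G ≤ p ^ (a * (a - 1) / 2) * Nat.card (Subgroup.centralizer (A : Set G)) := by
  intro a
  induction a with
  | zero =>
    intro A _ hA
    rw [pow_zero] at hA
    have hAbot : A = ⊥ := Subgroup.card_eq_one.mp hA
    have : Subgroup.centralizer (A : Set G) = ⊤ := by
      rw [eq_top_iff]
      intro g _
      rw [Subgroup.mem_centralizer_iff]
      intro h hh
      rw [SetLike.mem_coe, hAbot, Subgroup.mem_bot] at hh
      rw [hh, one_mul, mul_one]
    rw [this, Subgroup.card_top]
    simp
  | succ a ih =>
    intro A hAn hA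
    classical
    have : Fintype G := Fintype.ofFinite G
    obtain ⟨B, hBn, hBA, hBc, hBcomm⟩ := exists_normal_index_p a G hG A hAn hA
    have h1 := ih B hBn hBc
    -- an element of A outside B
    have hne : ¬ A ≤ B := by
      intro h
      have := Subgroup.card_le_of_le h
      rw [hA, hBc] at this
      have h2 : p ^ a < p ^ (a + 1) := Nat.pow_lt_pow_right hp.out.one_lt (Nat.lt_succ_self a)
      omega
    obtain ⟨x, hxA, hxB⟩ := SetLike.not_le_iff_exists.mp hne
    -- A = B ⊔ zpowers x
    have hsup : B ⊔ Subgroup.zpowers x = A := by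
      have hle : B ⊔ Subgroup.zpowers x ≤ A :=
        sup_le hBA (by rw [Subgroup.zpowers_le]; exact hxA)
      apply Subgroup.eq_of_le_of_card_ge hle
      obtain ⟨k, hk⟩ := Subgroup.card_dvd_of_le (le_sup_left : B ≤ B ⊔ Subgroup.zpowers x)
      have hdvd := Subgroup.card_dvd_of_le hle
      rw [hk, hBc, hA, pow_succ] at hdvd
      have hkp : k ∣ p := Nat.dvd_of_mul_dvd_mul_left (pow_pos hp.out.pos a) hdvd
      rcases (Nat.dvd_prime hp.out).mp hkp with rfl | rfl
      · exfalso
        rw [mul_one] at hk
        have := Subgroup.eq_of_le_of_card_ge (le_sup_left : B ≤ B ⊔ Subgroup.zpowers x) hk.le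
        apply hxB
        rw [this]
        exact (le_sup_right : Subgroup.zpowers x ≤ B ⊔ Subgroup.zpowers x)
          (Subgroup.mem_zpowers x)
      · rw [hk, hBc, hA, pow_succ]
    -- counting
    have h2 : Nat.card (Subgroup.centralizer (B : Set G)) ≤
        Nat.card (Subgroup.centralizer (A : Set G)) * Nat.card B := by
      rw [← S0233.card_filter_mem (Subgroup.centralizer (B : Set G)), ← S0233.card_filter_mem B]
      apply Finset.card_le_mul_card_image_of_maps_to (f := fun g => g * x * g⁻¹ * x⁻¹)
      · intro g _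
        rw [Finset.mem_filter]
        exact ⟨Finset.mem_univ _, hBcomm g x hxA⟩
      · intro b _
        rcases Finset.eq_empty_or_nonempty
          ((Finset.univ.filter (· ∈ Subgroup.centralizer (B : Set G))).filter
            (fun g => g * x * g⁻¹ * x⁻¹ = b)) with he | ⟨g₀, hg₀⟩
        · rw [he, Finset.card_empty]; exact Nat.zero_le _
        · rw [← S0233.card_filter_mem (Subgroup.centralizer (A : Set G))]
          rw [Finset.mem_filter, Finset.mem_filter] at hg₀
          apply Finset.card_le_card_of_injOn (fun g => g₀⁻¹ * g)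
          · intro g hg
            rw [Finset.mem_coe, Finset.mem_filter, Finset.mem_filter] at hg
            rw [Finset.mem_coe, Finset.mem_filter]
            refine ⟨Finset.mem_univ _, ?_⟩
            have hmemB : g₀⁻¹ * g ∈ Subgroup.centralizer (B : Set G) :=
              Subgroup.mul_mem _ (Subgroup.inv_mem _ hg₀.1.2) hg.1.2
            have hcx : x * (g₀⁻¹ * g) = (g₀⁻¹ * g) * x := by
              have h3 : g * x * g⁻¹ * x⁻¹ = g₀ * x * g₀⁻¹ * x⁻¹ := by rw [hg.2, hg₀.2]
              have h4 : g * x * g⁻¹ = g₀ * x * g₀⁻¹ := mul_right_cancel h3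
              have h5 : g * x = g₀ * x * g₀⁻¹ * g := by rw [← h4]; group
              calc x * (g₀⁻¹ * g) = g₀⁻¹ * (g₀ * x * g₀⁻¹ * g) := by group
                _ = g₀⁻¹ * (g * x) := by rw [h5]
                _ = (g₀⁻¹ * g) * x := by rw [mul_assoc]
            rw [Subgroup.mem_centralizer_iff]
            have hAle : A ≤ Subgroup.centralizer ({g₀⁻¹ * g} : Set G) := by
              rw [← hsup]
              apply sup_le
              · intro b' hb'
                rw [Subgroup.mem_centralizer_singleton_iff]
                exact (Subgroup.mem_centralizer_iff.mp hmemB b' hb')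
              · rw [Subgroup.zpowers_le, Subgroup.mem_centralizer_singleton_iff]
                exact hcx
            intro h hh
            exact Subgroup.mem_centralizer_singleton_iff.mp (hAle hh)
          · intro g _ g' _ h
            exact mul_left_cancel h
    rw [hBc] at h2
    calc Nat.card G ≤ p ^ (a * (a - 1) / 2) * Nat.card (Subgroup.centralizer (B : Set G)) := h1
      _ ≤ p ^ (a * (a - 1) / 2) * (Nat.card (Subgroup.centralizer (A : Set G)) * p ^ a) :=
        Nat.mul_le_mul_left _ h2
      _ = p ^ ((a + 1) * (a + 1 - 1) / 2) * Nat.card (Subgroup.centralizer (A : Set G)) := by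
        rw [Nat.triangle_succ, pow_add]; ring

/-- A maximal normal abelian subgroup of a finite `p`-group is self-centralizing. -/
theorem centralizer_eq {G : Type*} [Group G] [Finite G] {p : ℕ} [hp : Fact p.Prime]
    (hG : IsPGroup p G) (A : Subgroup G) [hAn : A.Normal] (hA : IsMulCommutative A)
    (hmax : ∀ B : Subgroup G, B.Normal → IsMulCommutative B → A ≤ B → B = A) :
    Subgroup.centralizer (A : Set G) = A := by
  have hAC : A ≤ Subgroup.centralizer (A : Set G) := by
    intro a ha
    rw [Subgroup.mem_centralizer_iff]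
    intro h hh
    have := hA.is_comm.comm (⟨h, hh⟩ : ↥A) ⟨a, ha⟩
    exact congrArg Subtype.val this
  by_contra hne
  set C := Subgroup.centralizer (A : Set G) with hC
  haveI hCn : C.Normal := Subgroup.normal_centralizer
  set π := QuotientGroup.mk' A with hπ
  have hπs : Function.Surjective π := QuotientGroup.mk'_surjective A
  have hker : π.ker = A := QuotientGroup.ker_mk' A
  haveI : (C.map π).Normal := Subgroup.Normal.map hCn π hπs
  have hCq : C.map π ≠ ⊥ := by
    intro h
    have h1 : C ≤ A := by
      rw [← hker]; exact (Subgroup.map_eq_bot_iff C).mp h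
    exact hne (le_antisymm h1 hAC)
  obtain ⟨e, heC, heo, hec⟩ := S0636.exists_central (hG.to_quotient A) (C.map π) hCq
  haveI hEn : (Subgroup.zpowers e).Normal := S0636.zpowers_normal_of_central e hec
  set B := (Subgroup.zpowers e).comap π with hB
  have hBn : B.Normal := hEn.comap π
  have hAB : A ≤ B := by
    intro a ha
    rw [hB, Subgroup.mem_comap]
    have : π a = 1 := by rw [← MonoidHom.mem_ker, hker]; exact ha
    rw [this]; exact Subgroup.one_mem _
  have hBC : B ≤ C := by
    calc B ≤ (C.map π).comap π :=
          Subgroup.comap_mono (by rw [Subgroup.zpowers_le]; exact heC)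
      _ = C ⊔ π.ker := Subgroup.comap_map_eq π C
      _ = C := by rw [hker]; exact sup_eq_left.mpr hAC
  have hBcomm : IsMulCommutative B := by
    refine ⟨⟨fun x y => ?_⟩⟩
    let f : ↥B →* ↥(Subgroup.zpowers e) :=
      (π.comp B.subtype).codRestrict (Subgroup.zpowers e) (fun b => b.2)
    have hf : f.ker ≤ Subgroup.center ↥B := by
      intro u hu
      rw [MonoidHom.mem_ker] at hu
      have h1 : π u.1 = 1 := congrArg Subtype.val hu
      have h2 : u.1 ∈ A := by rw [← hker]; exact h1
      rw [Subgroup.mem_center_iff]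
      intro v
      apply Subtype.ext
      have hv : v.1 ∈ C := hBC v.2
      exact (Subgroup.mem_centralizer_iff.mp hv u.1 h2).symm
    exact commutative_of_cyclic_center_quotient f hf x y
  have hBA := hmax B hBn hBcomm hAB
  -- but e ≠ 1
  obtain ⟨x, hx⟩ := hπs e
  have hxB : x ∈ B := by
    rw [hB, Subgroup.mem_comap, hx]; exact Subgroup.mem_zpowers e
  rw [hBA] at hxB
  have : π x = 1 := by rw [← MonoidHom.mem_ker, hker]; exact hxB
  rw [hx] at this
  rw [this, orderOf_one] at heo
  have := hp.out.one_lt
  omega

/-- The order of a p-group is bounded by p^(a(a+1)/2) when it has a maximal normal abelian subgroup of order p^a. -/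
theorem result {G : Type*} [Group G] [Finite G] {p : ℕ} [Fact p.Prime] (hG : IsPGroup p G) (A : Subgroup G) [A.Normal] (hA : IsMulCommutative A) (hmax : ∀ B : Subgroup G, B.Normal → IsMulCommutative B → A ≤ B → B = A) (a : ℕ) (ha : Nat.card A = p ^ a) : Nat.card G ≤ p ^ (a * (a + 1) / 2) := by
  have h1 := card_le_centralizer hG a A inferInstance ha
  rw [centralizer_eq hG A hA hmax, ha, ← pow_add] at h1
  have h2 : a * (a - 1) / 2 + a = a * (a + 1) / 2 := by
    have := Nat.triangle_succ a
    rw [Nat.add_sub_cancel] at this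
    rw [← this, mul_comm]
  rw [h2] at h1
  exact h1

end Cfsg.Agent.S0129
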