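import Cfsg.Statements.S0214
import Mathlib
import Cfsg.Agent.S3203

set_option autoImplicit false
open Cfsg

namespace Cfsg.Agent.S0214

open Cfsg.Agent.S3203

/-- In a finite `p`-group `Q`, a proper subgroup is properly contained in its normalizer. -/
theorem exists_normalizing {G : Type*} [Group G] [Finite G] {p : ℕ} [Fact p.Prime]
    (Q T : Subgroup G) (hQ : IsPGroup p Q) (hTQ : T < Q) :
    ∃ s ∈ Q, s ∉ T ∧ s ∈ Subgroup.normalizer (T : Set G) := by
  haveI : Group.IsNilpotent ↥Q := hQ.isNilpotent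
  have hlt : T.subgroupOf Q < ⊤ := by
    rw [lt_top_iff_ne_top]
    intro h
    rw [Subgroup.subgroupOf_eq_top] at h
    exact (not_le_of_gt hTQ) h
  have h1 := normalizerCondition_of_isNilpotent (T.subgroupOf Q) hlt
  obtain ⟨x, hxN, hxT⟩ := SetLike.exists_of_lt h1
  refine ⟨x.1, x.2, ?_, ?_⟩
  · intro h
    exact hxT (Subgroup.mem_subgroupOf.mpr h)
  · apply mem_normalizer_of_forall
    intro t ht
    have h2 := (Subgroup.mem_normalizer_iff.mp hxN ⟨t, hTQ.le ht⟩).mp (Subgroup.mem_subgroupOf.mpr ht)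
    exact Subgroup.mem_subgroupOf.mp h2

theorem two_group_sup {G : Type*} [Group G] [Finite G] {p : ℕ} [Fact p.Prime]
    (Q T : Subgroup G) (hQ : IsPGroup p Q) (hTQ : T ≤ Q) (s : G) (hs : s ∈ Q) :
    IsPGroup p ↥(T ⊔ Subgroup.zpowers s) :=
  hQ.to_le (sup_le hTQ (by rw [Subgroup.zpowers_le]; exact hs))

/-- Let H be a proper subgroup of the finite group G and P a nontrivial Sylow 2-subgroup of H. Then H is strongly embedded in G if and only if N_G(X) ≤ H for every nontrivial subgroup X of P. -/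
theorem result {G : Type*} [Group G] [Finite G] (H : Subgroup G) (hH : H ≠ ⊤) (P : Sylow 2 ↥H) (hP : (P : Subgroup ↥H) ≠ ⊥) : Cfsg.IsStronglyEmbedded H ↔ (∀ X : Subgroup ↥H, X ≤ (P : Subgroup ↥H) → X ≠ ⊥ → Subgroup.normalizer ((X.map H.subtype : Subgroup G) : Set G) ≤ H) := by
  have : Fact (Nat.Prime 2) := ⟨Nat.prime_two⟩
  constructor
  · rintro ⟨-, -, hSE⟩ X hXP hX g hg
    by_contra hgH
    have hodd := hSE g hgH
    have hX2 : IsPGroup 2 ↥(X.map H.subtype) := (P.2.to_le hXP).map _
    have hle : X.map H.subtype ≤ H ⊓ H.map (MulAut.conj g).toMonoidHom := by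
      apply le_inf
      · rintro _ ⟨x, _, rfl⟩
        exact x.2
      · intro x hx
        rw [mem_cj]
        have h1 : g * (g⁻¹ * x * g) * g⁻¹ ∈ X.map H.subtype := by
          have : g * (g⁻¹ * x * g) * g⁻¹ = x := by group
          rw [this]; exact hx
        have h2 := (Subgroup.mem_normalizer_iff.mp hg (g⁻¹ * x * g)).mpr h1
        obtain ⟨y, _, hy⟩ := h2
        rw [← hy]
        exact y.2
    have hdvd := Subgroup.card_dvd_of_le hle
    obtain ⟨k, hk⟩ := hX2.exists_card_eq
    have hk0 : k ≠ 0 := by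
      rintro rfl
      rw [pow_zero] at hk
      apply hX
      have h1 : X.map H.subtype = ⊥ := Subgroup.card_eq_one.mp hk
      rwa [Subgroup.map_eq_bot_iff_of_injective _ H.subtype_injective] at h1
    rw [hk] at hdvd
    have h2 : 2 ∣ Nat.card ↥(H ⊓ H.map (MulAut.conj g).toMonoidHom) :=
      (dvd_pow_self 2 hk0).trans hdvd
    rw [← Nat.not_even_iff_odd, even_iff_two_dvd] at hodd
    exact hodd h2
  · intro hN
    -- P' = image of P in G
    set P' : Subgroup G := (P : Subgroup ↥H).map H.subtype with hP'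
    have hP'2 : IsPGroup 2 ↥P' := P.2.map _
    have hP'H : P' ≤ H := by
      rintro _ ⟨x, _, rfl⟩
      exact x.2
    have hP'bot : P' ≠ ⊥ := by
      intro h
      apply hP
      rwa [hP', Subgroup.map_eq_bot_iff_of_injective _ H.subtype_injective] at h
    have hNP' : Subgroup.normalizer (P' : Set G) ≤ H := hN _ le_rfl hP
    -- P' is a Sylow 2-subgroup of G
    obtain ⟨S, hS⟩ := hP'2.exists_le_sylow
    have hSP' : (S : Subgroup G) = P' := by
      by_contra hne
      have hlt : P' < (S : Subgroup G) := lt_of_le_of_ne hS (Ne.symm hne)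
      obtain ⟨s, hsS, hsP', hsN⟩ := exists_normalizing (S : Subgroup G) P' S.2 hlt
      have hsH : s ∈ H := hNP' hsN
      have hQ2 : IsPGroup 2 ↥((P' ⊔ Subgroup.zpowers s).subgroupOf H) :=
        (two_group_sup (S : Subgroup G) P' S.2 hS s hsS).comap_subtype
      have hPQ : (P : Subgroup ↥H) ≤ (P' ⊔ Subgroup.zpowers s).subgroupOf H := by
        intro x hx
        rw [Subgroup.mem_subgroupOf]
        exact Subgroup.mem_sup_left ⟨x, hx, rfl⟩
      have hQP := P.3 hQ2 hPQ
      have h1 : (⟨s, hsH⟩ : ↥H) ∈ (P' ⊔ Subgroup.zpowers s).subgroupOf H := by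
        rw [Subgroup.mem_subgroupOf]
        exact Subgroup.mem_sup_right (Subgroup.mem_zpowers s)
      rw [hQP] at h1
      exact hsP' ⟨⟨s, hsH⟩, h1, rfl⟩
    have hSH : (S : Subgroup G) ≤ H := hSP' ▸ hP'H
    -- every nontrivial 2-subgroup of H has normalizer in H
    have key : ∀ X₁ : Subgroup G, X₁ ≤ H → IsPGroup 2 ↥X₁ → X₁ ≠ ⊥ →
        Subgroup.normalizer (X₁ : Set G) ≤ H := by
      intro X₁ hX₁H hX₁2 hX₁bot n hn
      obtain ⟨h, hhH, hh⟩ := sylow_conj_in S H hSH X₁ hX₁2 hX₁H
      set X₂ : Subgroup G := X₁.map (MulAut.conj h).toMonoidHom with hX₂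
      have hX₂P' : X₂ ≤ P' := by
        rw [← hSP', hX₂, cj_le_iff]
        exact hh
      have hX₂bot : X₂ ≠ ⊥ := by
        intro hb
        apply hX₁bot
        rwa [hX₂, Subgroup.map_eq_bot_iff_of_injective _ (MulAut.conj h).injective] at hb
      have hX₂eq : (X₂.subgroupOf H).map H.subtype = X₂ := by
        rw [Subgroup.map_subgroupOf_eq_of_le (hX₂P'.trans hP'H)]
      have hle : X₂.subgroupOf H ≤ (P : Subgroup ↥H) := by
        intro x hx
        rw [Subgroup.mem_subgroupOf] at hx
        obtain ⟨y, hy, hyx⟩ := hX₂P' hx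
        have : y = x := Subtype.ext hyx
        rw [← this]; exact hy
      have hne : X₂.subgroupOf H ≠ ⊥ := by
        intro hb
        apply hX₂bot
        rw [← hX₂eq, hb, Subgroup.map_bot]
      have h1 := hN (X₂.subgroupOf H) hle hne
      rw [hX₂eq] at h1
      -- h n h⁻¹ normalizes X₂
      have h2 : h * n * h⁻¹ ∈ Subgroup.normalizer (X₂ : Set G) := by
        apply mem_normalizer_of_forall
        intro x hx
        rw [hX₂, mem_cj] at hx ⊢
        have h3 := conj_mem_of_mem_normalizer X₁ n hn _ hx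
        have : h⁻¹ * (h * n * h⁻¹ * x * (h * n * h⁻¹)⁻¹) * h = n * (h⁻¹ * x * h) * n⁻¹ := by group
        rw [this]; exact h3
      have h3 := h1 h2
      have : n = h⁻¹ * (h * n * h⁻¹) * h := by group
      rw [this]
      exact H.mul_mem (H.mul_mem (H.inv_mem hhH) h3) hhH
    refine ⟨hH, ?_, ?_⟩
    · rw [even_iff_two_dvd]
      have h1 : 2 ∣ Nat.card ↥P' := by
        obtain ⟨k, hk⟩ := hP'2.exists_card_eq
        have hk0 : k ≠ 0 := by
          rintro rfl
          rw [pow_zero] at hk
          exact hP'bot (Subgroup.card_eq_one.mp hk)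
        rw [hk]; exact dvd_pow_self 2 hk0
      exact h1.trans (Subgroup.card_dvd_of_le hP'H)
    · intro g hgH
      by_contra hodd
      rw [Nat.not_odd_iff_even, even_iff_two_dvd] at hodd
      set D : Subgroup G := H ⊓ H.map (MulAut.conj g).toMonoidHom with hD
      obtain ⟨T₀⟩ := (inferInstance : Nonempty (Sylow 2 ↥D))
      have hT₀bot := T₀.ne_bot_of_dvd_card hodd
      set T' : Subgroup G := (T₀ : Subgroup ↥D).map D.subtype with hT'
      have hT'2 : IsPGroup 2 ↥T' := T₀.2.map _
      have hT'D : T' ≤ D := by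
        rintro _ ⟨x, _, rfl⟩
        exact x.2
      have hT'bot : T' ≠ ⊥ := by
        intro h
        apply hT₀bot
        rwa [hT', Subgroup.map_eq_bot_iff_of_injective _ D.subtype_injective] at h
      have hT'max : ∀ R : Subgroup G, IsPGroup 2 ↥R → T' ≤ R → R ≤ D → R = T' := by
        intro R hR2 hTR hRD
        have h1 : (T₀ : Subgroup ↥D) ≤ R.subgroupOf D := by
          intro x hx
          rw [Subgroup.mem_subgroupOf]
          exact hTR ⟨x, hx, rfl⟩
        have h2 := T₀.3 hR2.comap_subtype h1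
        have h3 : (R.subgroupOf D).map D.subtype = R := Subgroup.map_subgroupOf_eq_of_le hRD
        rw [hT', ← h2]
        exact h3.symm
      have hT'H : T' ≤ H := hT'D.trans inf_le_left
      have hT'Hg : T' ≤ H.map (MulAut.conj g).toMonoidHom := hT'D.trans inf_le_right
      have hNT' := key T' hT'H hT'2 hT'bot
      -- a Sylow 2-subgroup of G inside H^g containing T'
      have hgS : ((g • S : Sylow 2 G) : Subgroup G) ≤ H.map (MulAut.conj g).toMonoidHom := by
        intro x hx
        rw [mem_smul_sylow] at hx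
        rw [mem_cj]
        exact hSH hx
      obtain ⟨k, hkHg, hk⟩ := sylow_conj_in (g • S) _ hgS T' hT'2 hT'Hg
      -- Q = k⁻¹ • (g • S)
      have hTQ : T' ≤ ((k⁻¹ • (g • S) : Sylow 2 G) : Subgroup G) := by
        intro x hx
        rw [mem_smul_sylow, inv_inv]
        exact hk x hx
      have hQHg : ((k⁻¹ • (g • S) : Sylow 2 G) : Subgroup G) ≤
          H.map (MulAut.conj g).toMonoidHom := by
        intro x hx
        rw [mem_smul_sylow, inv_inv] at hx
        have h1 := hgS hx
        have : x = k⁻¹ * (k * x * k⁻¹) * k := by group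
        rw [this]
        exact Subgroup.mul_mem _ (Subgroup.mul_mem _ (Subgroup.inv_mem _ hkHg) h1) hkHg
      have hTQeq : T' = ((k⁻¹ • (g • S) : Sylow 2 G) : Subgroup G) := by
        by_contra hne
        have hlt : T' < ((k⁻¹ • (g • S) : Sylow 2 G) : Subgroup G) := lt_of_le_of_ne hTQ hne
        obtain ⟨s, hsQ, hsT', hsN⟩ := exists_normalizing _ T' (k⁻¹ • (g • S) : Sylow 2 G).2 hlt
        have hsD : s ∈ D := ⟨hNT' hsN, hQHg hsQ⟩
        have h1 := hT'max (T' ⊔ Subgroup.zpowers s)
          (two_group_sup _ T' (k⁻¹ • (g • S) : Sylow 2 G).2 hTQ s hsQ) le_sup_left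
          (sup_le hT'D (by rw [Subgroup.zpowers_le]; exact hsD))
        apply hsT'
        rw [← h1]
        exact Subgroup.mem_sup_right (Subgroup.mem_zpowers s)
      -- so Q ≤ H; conjugate it into S inside H
      have hQH : ((k⁻¹ • (g • S) : Sylow 2 G) : Subgroup G) ≤ H := hTQeq ▸ hT'H
      obtain ⟨h, hhH, hh⟩ := sylow_conj_in S H hSH _ (k⁻¹ • (g • S) : Sylow 2 G).2 hQH
      have heq : (h • (k⁻¹ • (g • S)) : Sylow 2 G) = S := by
        apply Sylow.ext
        apply Subgroup.eq_of_le_of_card_ge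
        · intro x hx
          rw [mem_smul_sylow] at hx
          have := hh _ hx
          have e : h * (h⁻¹ * x * h) * h⁻¹ = x := by group
          rwa [e] at this
        · rw [Sylow.card_eq_multiplicity, Sylow.card_eq_multiplicity]
      rw [← mul_smul, ← mul_smul] at heq
      have hnorm : h * k⁻¹ * g ∈ Subgroup.normalizer ((S : Subgroup G) : Set G) :=
        Sylow.smul_eq_iff_mem_normalizer.mp heq
      rw [hSP'] at hnorm
      have h1 := hNP' hnorm
      -- k = g h' g⁻¹ with h' ∈ H
      rw [mem_cj] at hkHg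
      apply hgH
      have : g = h⁻¹ * (h * k⁻¹ * g) * (g⁻¹ * k * g) := by group
      rw [this]
      exact H.mul_mem (H.mul_mem (H.inv_mem hhH) h1) hkHg

end Cfsg.Agent.S0214
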