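import Cfsg.Statements.S0130
import Mathlib
import Cfsg.Agent.S0636
import Cfsg.Agent.S0129
import Cfsg.Agent.S0214
import Cfsg.Agent.S3203
import Cfsg.Agent.Lib_lead_Class2
import Cfsg.Agent.Lib_helper19_CP

set_option autoImplicit false
set_option linter.style.haveILetI false
open Cfsg

namespace Cfsg.Agent.S0130

/-- If A is maximal among the normal abelian subgroups of exponent dividing p^n of a p-group (p^n ≠ 2), then A contains every element of order dividing p^n in its centralizer. -/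
theorem result {G : Type*} [Group G] [Finite G] {p : ℕ} [Fact p.Prime] (hG : IsPGroup p G) (n : ℕ) (hn : p ^ n ≠ 2) (A : Subgroup G) [A.Normal] (hA : IsMulCommutative A) (hAe : ∀ a ∈ A, a ^ p ^ n = 1) (hmax : ∀ B : Subgroup G, B.Normal → IsMulCommutative B → (∀ b ∈ B, b ^ p ^ n = 1) → A ≤ B → B = A) (x : G) (hx : x ∈ Subgroup.centralizer (A : Set G)) (hxn : x ^ p ^ n = 1) : x ∈ A := by
  classical
  by_contra hxA
  have hpp : p.Prime := Fact.out
  have hAn : A.Normal := inferInstance
  set q := p ^ n with hq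
  set C := Subgroup.centralizer (A : Set G) with hC
  haveI hCn : C.Normal := Subgroup.normal_centralizer
  have hcomm : ∀ u ∈ C, ∀ a ∈ A, Commute a u := fun u hu a ha =>
    Subgroup.mem_centralizer_iff.mp hu a ha
  have hAC : A ≤ C := by
    intro a ha
    rw [hC, Subgroup.mem_centralizer_iff]
    intro h hh
    have := hA.is_comm.comm (⟨h, hh⟩ : ↥A) ⟨a, ha⟩
    exact congrArg Subtype.val this
  -- the measure
  let Nc : G → Subgroup G := fun w => Subgroup.normalClosure {w} ⊔ A
  let S' : G → Prop := fun w => w ∈ C ∧ w ^ q = 1 ∧ w ∉ A ∧ w ^ p ∈ A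
  have hS' : ∀ w, w ∈ C → w ^ q = 1 → w ∉ A → ∃ w', S' w' ∧ w' ∈ Subgroup.zpowers w := by
    intro w hwC hwq hwA
    have hex : ∃ j, w ^ (p ^ j) ∈ A := ⟨n, by rw [← hq, hwq]; exact A.one_mem⟩
    have hj : w ^ (p ^ (Nat.find hex)) ∈ A := Nat.find_spec hex
    have hj0 : Nat.find hex ≠ 0 := by
      intro h; rw [h, pow_zero, pow_one] at hj; exact hwA hj
    obtain ⟨i, hi⟩ : ∃ i, Nat.find hex = i + 1 := Nat.exists_eq_succ_of_ne_zero hj0
    refine ⟨w ^ (p ^ i), ⟨C.pow_mem hwC _, ?_, ?_, ?_⟩,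
      Subgroup.pow_mem _ (Subgroup.mem_zpowers w) _⟩
    · rw [← pow_mul, mul_comm, pow_mul, hwq, one_pow]
    · exact Nat.find_min hex (by omega : i < Nat.find hex)
    · rw [← pow_mul, ← pow_succ, ← hi]; exact hj
  obtain ⟨x₀, hx₀S, -⟩ := hS' x hx hxn hxA
  have hex : ∃ k, ∃ w, S' w ∧ Nat.card (Nc w) = k := ⟨_, x₀, hx₀S, rfl⟩
  obtain ⟨w, hwS, hwk⟩ := Nat.find_spec hex
  have hmin : ∀ w', S' w' → Nat.card (Nc w) ≤ Nat.card (Nc w') := fun w' hw' => by
    rw [hwk]; exact Nat.find_min' hex ⟨w', hw', rfl⟩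
  obtain ⟨hwC, hwq, hwA, hwp⟩ := hwS
  -- the subgroup M
  set N := Nc w with hN
  have hNn : N.Normal := Subgroup.sup_normal _ _
  have hAN : A ≤ N := le_sup_right
  have hwN : w ∈ N := (le_sup_left : Subgroup.normalClosure {w} ≤ N)
    (Subgroup.subset_normalClosure (Set.mem_singleton w))
  set π := QuotientGroup.mk' A with hπ
  have hπs : Function.Surjective π := QuotientGroup.mk'_surjective A
  have hker : π.ker = A := QuotientGroup.ker_mk' A
  have hNcm : (N.map π).comap π = N := by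
    rw [Subgroup.comap_map_eq, hker]; exact sup_eq_left.mpr hAN
  have hNqn : (N.map π).Normal := Subgroup.Normal.map hNn π hπs
  obtain ⟨j, hj⟩ := ((hG.to_quotient A).to_subgroup (N.map π)).exists_card_eq
  have hj0 : j ≠ 0 := by
    rintro rfl
    rw [pow_zero, Subgroup.card_eq_one] at hj
    apply hwA
    rw [← hker, MonoidHom.mem_ker]
    have : π w ∈ N.map π := Subgroup.mem_map_of_mem π hwN
    rw [hj, Subgroup.mem_bot] at this
    exact this
  obtain ⟨k, rfl⟩ : ∃ k, j = k + 1 := Nat.exists_eq_succ_of_ne_zero hj0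
  obtain ⟨Mb, hMbn, hMbN, hMbc, hMbcomm⟩ :=
    S0129.exists_normal_index_p k (G ⧸ A) (hG.to_quotient A) (N.map π) hNqn hj
  set M := Mb.comap π with hM
  have hMn : M.Normal := hMbn.comap π
  have hAM : A ≤ M := by
    intro a ha
    rw [hM, Subgroup.mem_comap]
    have : π a = 1 := by rw [← MonoidHom.mem_ker, hker]; exact ha
    rw [this]; exact Subgroup.one_mem _
  have hMN : M ≤ N := by rw [← hNcm]; exact Subgroup.comap_mono hMbN
  have hMcard : Nat.card M < Nat.card N := by
    have h1 := helper19.card_comap_of_surjective π hπs Mb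
    have h2 := helper19.card_comap_of_surjective π hπs (N.map π)
    rw [hNcm, hj] at h2
    rw [← hM, hMbc] at h1
    rw [h1, h2]
    have hpos : 0 < Nat.card π.ker := Nat.card_pos
    apply Nat.mul_lt_mul_of_pos_right _ hpos
    exact Nat.pow_lt_pow_right hpp.one_lt (Nat.lt_succ_self k)
  have hMcomm : ∀ g : G, ∀ a ∈ N, g * a * g⁻¹ * a⁻¹ ∈ M := by
    intro g a ha
    rw [hM, Subgroup.mem_comap, map_mul, map_mul, map_mul, map_inv, map_inv]
    exact hMbcomm (π g) (π a) (Subgroup.mem_map_of_mem π ha)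
  have hM4 : ∀ v ∈ M, v ∈ C → v ^ q = 1 → v ∈ A := by
    intro v hvM hvC hvq
    by_contra hvA
    obtain ⟨v', hv'S, hv'z⟩ := hS' v hvC hvq hvA
    have hv'M : v' ∈ M := by
      have : Subgroup.zpowers v ≤ M := by rw [Subgroup.zpowers_le]; exact hvM
      exact this hv'z
    have hle : Nc v' ≤ M := by
      apply sup_le _ hAM
      haveI := hMn
      exact Subgroup.normalClosure_le_normal (Set.singleton_subset_iff.mpr hv'M)
    have h1 := Subgroup.card_le_of_le hle
    have h2 := hmin v' hv'S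
    omega
  -- the subgroup T
  set T := A ⊔ Subgroup.zpowers w with hT
  have hAT : A ≤ T := le_sup_left
  have hwT : w ∈ T := (le_sup_right : Subgroup.zpowers w ≤ T) (Subgroup.mem_zpowers w)
  have hTC : T ≤ C := sup_le hAC (by rw [Subgroup.zpowers_le]; exact hwC)
  have hTcw : T ≤ Subgroup.centralizer ({w} : Set G) := by
    apply sup_le
    · intro a ha
      rw [Subgroup.mem_centralizer_singleton_iff]
      exact (hcomm w hwC a ha).eq
    · rw [Subgroup.zpowers_le, Subgroup.mem_centralizer_singleton_iff]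
  have hTT : T ≤ Subgroup.centralizer (T : Set G) := by
    apply sup_le
    · intro a ha
      rw [Subgroup.mem_centralizer_iff]
      intro h hh
      exact ((hcomm h (hTC hh) a ha).eq).symm
    · rw [Subgroup.zpowers_le, Subgroup.mem_centralizer_iff]
      intro h hh
      exact Subgroup.mem_centralizer_singleton_iff.mp (hTcw hh)
  have hTab : ∀ u ∈ T, ∀ v ∈ T, u * v = v * u := fun u hu v hv =>
    Subgroup.mem_centralizer_iff.mp (hTT hv) u hu
  have hTcomm : IsMulCommutative T := ⟨⟨fun u v => Subtype.ext (hTab u.1 u.2 v.1 v.2)⟩⟩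
  have hTexp : ∀ u ∈ T, u ^ q = 1 := by
    have hmul : ∀ u ∈ T, ∀ v ∈ T, (u * v) ^ q = u ^ q * v ^ q := fun u hu v hv =>
      (show Commute u v from hTab u hu v hv).mul_pow q
    have hle : T ≤ S0636.omegaSub T q hmul := by
      apply sup_le
      · intro a ha
        exact ⟨hAT ha, hAe a ha⟩
      · rw [Subgroup.zpowers_le]
        exact ⟨hwT, hwq⟩
    intro u hu
    exact (hle hu).2
  have hTnn : ¬ T.Normal := by
    intro h
    have := hmax T h hTcomm hTexp hAT
    apply hwA
    rw [← this]; exact hwT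
  -- the normalizer tower
  set N₁ := Subgroup.normalizer (T : Set G) with hN₁
  have hN₁top : N₁ < ⊤ := by
    rw [lt_top_iff_ne_top]
    intro h
    apply hTnn
    constructor
    intro t ht g
    have hg : g ∈ N₁ := by rw [h]; exact Subgroup.mem_top g
    exact (Subgroup.mem_normalizer_iff.mp hg t).mp ht
  obtain ⟨g, -, hgN₁, hgNN⟩ := S0214.exists_normalizing (p := p) ⊤ N₁ (hG.to_subgroup ⊤) hN₁top
  apply hgN₁
  set y := g * w * g⁻¹ with hy
  have hyN₁ : y ∈ N₁ := by
    have hwN₁ : w ∈ N₁ := Subgroup.le_normalizer hwT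
    exact (Subgroup.mem_normalizer_iff.mp hgNN w).mp hwN₁
  have hyC : y ∈ C := hCn.conj_mem w hwC g
  have hyq : y ^ q = 1 := by rw [hy, conj_pow, hwq, mul_one, mul_inv_cancel]
  have hyp : y ^ p ∈ A := by rw [hy, conj_pow]; exact hAn.conj_mem _ hwp g
  set c := y * w⁻¹ * y⁻¹ * w with hc
  have hcT : c ∈ T := by
    refine T.mul_mem ?_ hwT
    exact (Subgroup.mem_normalizer_iff.mp hyN₁ w⁻¹).mp (T.inv_mem hwT)
  have hcM : c ∈ M := by
    have := hMcomm y w⁻¹ (N.inv_mem hwN)
    rw [inv_inv] at this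
    exact this
  have hcA : c ∈ A := hM4 c hcM (hTC hcT) (hTexp c hcT)
  have hyx : y * w⁻¹ = c * (w⁻¹ * y) := by rw [hc]; group
  have hcw : Commute c w⁻¹ := hcomm _ (C.inv_mem hwC) c hcA
  have hcy : Commute c y := hcomm _ hyC c hcA
  set z := w⁻¹ * y with hz
  have hzq : z ^ q = 1 := by
    have h1 := lead.mul_pow_class2 w⁻¹ y c hyx hcw hcy q
    rw [h1, inv_pow, hwq, inv_one, hyq, one_mul, one_mul]
    rcases Nat.even_or_odd q with he | ho
    · -- p = 2, n ≥ 2
      have hp2 : p = 2 := by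
        rw [hq, Nat.even_pow] at he
        exact (Nat.Prime.even_iff hpp).mp he.1
      have hn0 : n ≠ 0 := by
        rw [hq, Nat.even_pow] at he; exact he.2
      have hn1 : n ≠ 1 := by
        rintro rfl
        apply hn
        rw [hq, hp2]; norm_num
      obtain ⟨m, rfl⟩ : ∃ m, n = m + 2 := ⟨n - 2, by omega⟩
      have hqk : q = 2 * 2 ^ (m + 1) := by rw [hq, hp2]; ring
      have hck : c ^ (2 ^ (m + 1)) = 1 := by
        have h2 := lead.pow_mul_comm_class2 w⁻¹ y c hyx hcy (2 ^ (m + 1))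
        have hykA : y ^ (2 ^ (m + 1)) ∈ A := by
          rw [pow_succ', pow_mul]
          rw [hp2] at hyp
          exact A.pow_mem hyp _
        have h3 : y ^ (2 ^ (m + 1)) * w⁻¹ = w⁻¹ * y ^ (2 ^ (m + 1)) :=
          (hcomm _ (C.inv_mem hwC) _ hykA).eq
        rw [h3] at h2
        have h4 : 1 * (w⁻¹ * y ^ (2 ^ (m + 1))) = c ^ (2 ^ (m + 1)) * (w⁻¹ * y ^ (2 ^ (m + 1))) := by
          rw [one_mul]; exact h2
        exact (mul_right_cancel h4).symm
      have h5 : q * (q - 1) / 2 = 2 ^ (m + 1) * (q - 1) := by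
        rw [hqk, mul_assoc, Nat.mul_div_cancel_left _ (by norm_num : 0 < 2)]
      rw [h5, pow_mul, hck, one_pow]
    · obtain ⟨k', hk'⟩ := ho
      have h5 : q * (q - 1) / 2 = q * k' := by
        have : q - 1 = 2 * k' := by omega
        rw [this, ← mul_assoc, mul_comm q 2, mul_assoc,
          Nat.mul_div_cancel_left _ (by norm_num : 0 < 2)]
      rw [h5, pow_mul, hAe c hcA, one_pow]
  have hzM : z ∈ M := by
    have h1 := hMcomm g w hwN
    have h2 := hMn.conj_mem _ h1 w⁻¹
    have e : w⁻¹ * (g * w * g⁻¹ * w⁻¹) * w⁻¹⁻¹ = z := by rw [hz, hy]; group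
    rw [e] at h2
    exact h2
  have hzC : z ∈ C := C.mul_mem (C.inv_mem hwC) hyC
  have hzA : z ∈ A := hM4 z hzM hzC hzq
  have hyT : y ∈ T := by
    have : y = w * z := by rw [hz]; group
    rw [this]
    exact T.mul_mem hwT (hAT hzA)
  apply S3203.mem_normalizer_of_forall T g
  have hle : T ≤ T.comap (MulAut.conj g).toMonoidHom := by
    apply sup_le
    · intro a ha
      rw [Subgroup.mem_comap]
      exact hAT (hAn.conj_mem a ha g)
    · rw [Subgroup.zpowers_le, Subgroup.mem_comap]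
      exact hyT
  intro t ht
  exact hle ht

end Cfsg.Agent.S0130
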