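import Cfsg.Statements.S0100
import Mathlib
import Cfsg.Agent.S0129
import Cfsg.Agent.S0130

set_option autoImplicit false
set_option linter.style.haveILetI false
open Cfsg

namespace Cfsg.Agent.S0100

/-- A normal subgroup of order `p ^ (3 + d)` of a `p`-group contains a normal subgroup of order
`p ^ 3`. -/
theorem exists_normal_cube {P : Type*} [Group P] [Finite P] {p : ℕ} [Fact p.Prime]
    (hP : IsPGroup p P) : ∀ (d : ℕ) (A : Subgroup P), A.Normal → Nat.card A = p ^ (3 + d) →
      ∃ B : Subgroup P, B.Normal ∧ B ≤ A ∧ Nat.card B = p ^ 3 := by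
  intro d
  induction d with
  | zero => intro A hAn hA; exact ⟨A, hAn, le_refl A, hA⟩
  | succ d ih =>
    intro A hAn hA
    obtain ⟨B, hBn, hBA, hBc, -⟩ := S0129.exists_normal_index_p (3 + d) P hP A hAn hA
    obtain ⟨B', hB'n, hB'B, hB'c⟩ := ih B hBn hBc
    exact ⟨B', hB'n, hB'B.trans hBA, hB'c⟩

/-- For odd p, a p-group without normal elementary abelian subgroups of order p^3 has p-rank at most 2. -/
theorem result {P : Type*} [Group P] [Finite P] {p : ℕ} [Fact p.Prime] (hp : p ≠ 2) (hP : IsPGroup p P) (h : ∀ A : Subgroup P, A.Normal → IsMulCommutative A → (∀ a ∈ A, a ^ p = 1) → Nat.card A ≠ p ^ 3) (E : Subgroup P) (hE : IsMulCommutative E) (hEe : ∀ e ∈ E, e ^ p = 1) : Nat.card E ≤ p ^ 2 := by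
  have hpp : p.Prime := Fact.out
  have hp0 : 0 < p := hpp.pos
  have hp1 : 1 < p := hpp.one_lt
  -- a normal elementary abelian subgroup of largest order
  let 𝒜 : Set (Subgroup P) := {A | A.Normal ∧ IsMulCommutative A ∧ ∀ a ∈ A, a ^ p = 1}
  have h𝒜ne : 𝒜.Nonempty := by
    refine ⟨⊥, inferInstance, ⟨⟨fun x y => ?_⟩⟩, ?_⟩
    · apply Subtype.ext
      have hx := Subgroup.mem_bot.mp x.2
      have hy := Subgroup.mem_bot.mp y.2
      show (x : P) * y = y * x
      rw [hx, hy]
    · intro a ha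
      rw [Subgroup.mem_bot.mp ha, one_pow]
  obtain ⟨A, ⟨hAn, hAc, hAe⟩, hAmax⟩ :=
    Set.exists_max_image 𝒜 (fun A => Nat.card A) (Set.toFinite 𝒜) h𝒜ne
  haveI := hAn
  obtain ⟨a, ha⟩ := (hP.to_subgroup A).exists_card_eq
  have ha2 : a ≤ 2 := by
    by_contra hgt
    push Not at hgt
    obtain ⟨d, rfl⟩ : ∃ d, a = 3 + d := ⟨a - 3, by omega⟩
    obtain ⟨B, hBn, hBA, hBc⟩ := exists_normal_cube hP d A hAn ha
    refine h B hBn ⟨⟨fun x y => ?_⟩⟩ (fun b hb => hAe b (hBA hb)) hBc
    apply Subtype.ext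
    have := hAc.is_comm.comm (⟨x.1, hBA x.2⟩ : ↥A) ⟨y.1, hBA y.2⟩
    have h2 := congrArg (fun t : ↥A => (t : P)) this
    exact h2
  set C := Subgroup.centralizer (A : Set P) with hC
  haveI hCn : C.Normal := Subgroup.normal_centralizer
  -- index of C
  have hidx : C.index ≤ p := by
    have h1 := S0129.card_le_centralizer hP a A hAn ha
    have h2 : a * (a - 1) / 2 ≤ 1 := by
      interval_cases a <;> simp
    have h3 : p ^ (a * (a - 1) / 2) ≤ p := by
      calc p ^ (a * (a - 1) / 2) ≤ p ^ 1 := Nat.pow_le_pow_right hp0 h2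
        _ = p := pow_one p
    have h4 : C.index * Nat.card C = Nat.card P := Subgroup.index_mul_card C
    have hCpos : 0 < Nat.card C := Nat.card_pos
    have h5 : C.index * Nat.card C ≤ p * Nat.card C := by
      rw [h4]
      exact h1.trans (Nat.mul_le_mul_right _ h3)
    exact Nat.le_of_mul_le_mul_right h5 hCpos
  -- elements of order p in C lie in A
  have hΩ : ∀ x ∈ C, x ^ p = 1 → x ∈ A := by
    intro x hx hxp
    have hn : p ^ 1 ≠ 2 := by rw [pow_one]; exact hp
    refine S0130.result hP 1 hn A hAc (fun a ha => by rw [pow_one]; exact hAe a ha) ?_ x hx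
      (by rw [pow_one]; exact hxp)
    intro B hBn hBc hBe hAB
    have hB𝒜 : B ∈ 𝒜 := ⟨hBn, hBc, fun b hb => by have := hBe b hb; rwa [pow_one] at this⟩
    have := hAmax B hB𝒜
    exact (Subgroup.eq_of_le_of_card_ge hAB this).symm
  have hEC : E ⊓ C ≤ A := fun x hx => hΩ x hx.2 (hEe x hx.1)
  -- counting
  have h1 : Nat.card ↥(C.subgroupOf E) * (C.subgroupOf E).index = Nat.card E :=
    Subgroup.card_mul_index _
  have h2 : (C.subgroupOf E).index ≤ p := by
    have : C.relIndex E ∣ C.index := Subgroup.relIndex_dvd_index_of_normal C E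
    exact (Nat.le_of_dvd (Nat.pos_of_ne_zero Subgroup.index_ne_zero_of_finite) this).trans hidx
  have h3 : Nat.card ↥(C.subgroupOf E) = Nat.card ↥(E ⊓ C) := by
    rw [inf_comm, ← Subgroup.inf_subgroupOf_right]
    exact Nat.card_congr (Subgroup.subgroupOfEquivOfLe inf_le_right).toEquiv
  rw [h3] at h1
  by_contra hgt
  push Not at hgt
  have hECcard : Nat.card ↥(E ⊓ C) ≤ Nat.card A := Subgroup.card_le_of_le hEC
  have hApow : Nat.card A ≤ p ^ 2 := by
    rw [ha]; exact Nat.pow_le_pow_right hp0 ha2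
  -- |E ⊓ C| > p
  have h4 : p < Nat.card ↥(E ⊓ C) := by
    by_contra hle
    push Not at hle
    have : Nat.card E ≤ p * p := by
      rw [← h1]; exact Nat.mul_le_mul hle h2
    have : p * p = p ^ 2 := by ring
    omega
  have h5 : Nat.card ↥(E ⊓ C) = p ^ 2 := by
    have hdvd := Subgroup.card_dvd_of_le hEC
    rw [ha] at hdvd
    obtain ⟨e, he, hee⟩ := (Nat.dvd_prime_pow hpp).mp hdvd
    rw [hee] at h4 ⊢
    have he2 : e = 2 := by
      have : 1 < e := by
        by_contra hle
        push Not at hle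
        have : p ^ e ≤ p ^ 1 := Nat.pow_le_pow_right hp0 hle
        rw [pow_one] at this
        omega
      omega
    rw [he2]
  have hAcard : Nat.card A = p ^ 2 := le_antisymm hApow (h5 ▸ hECcard)
  have hECA : E ⊓ C = A := Subgroup.eq_of_le_of_card_ge hEC (by rw [h5, hAcard])
  have hAE : A ≤ E := hECA ▸ inf_le_left
  have hEleC : E ≤ C := by
    intro x hx
    rw [hC, Subgroup.mem_centralizer_iff]
    intro y hy
    have := hE.is_comm.comm (⟨y, hAE hy⟩ : ↥E) ⟨x, hx⟩
    exact congrArg Subtype.val this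
  have hEA : E ≤ A := by
    rw [← hECA]; exact le_inf (le_refl E) hEleC
  have := Subgroup.card_le_of_le hEA
  omega

end Cfsg.Agent.S0100
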