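import Mathlib
import Cfsg.Agent.S0100
import Cfsg.Agent.S0126
import Cfsg.Agent.S0129
import Cfsg.Agent.Lib_helper3_EA
import Cfsg.Agent.Lib_helper1_PCenter
import Cfsg.Agent.Lib_lead_Class2

/-!
Bender–Glauberman §5 preliminaries on `p`-groups of rank ≥ 3 with a small maximal elementary abelian
subgroup.
-/

set_option autoImplicit false
open Cfsg

namespace Cfsg.Agent.helper23

section basics
variable {R : Type*} [Group R]

theorem dvd_sq_cases {p : ℕ} (hp : p.Prime) {n : ℕ} (h : n ∣ p ^ 2) : n = 1 ∨ n = p ∨ n = p ^ 2 := by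
  obtain ⟨m, hm, rfl⟩ := (Nat.dvd_prime_pow hp).1 h
  interval_cases m
  · left; simp
  · right; left; simp
  · right; right; rfl

/-- the conjugacy class of `a` has as many elements as the index of the centralizer -/
theorem ncard_conjSet [Finite R] (a : R) :
    ({w | ∃ g : R, g * a * g⁻¹ = w} : Set R).ncard = (Subgroup.centralizer ({a} : Set R)).index := by
  have h1 := MulAction.index_stabilizer (ConjAct R) a
  rw [ConjAct.stabilizer_eq_centralizer] at h1
  have h2 : MulAction.orbit (ConjAct R) a = {w | ∃ g : R, g * a * g⁻¹ = w} := by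
    ext w
    rw [ConjAct.mem_orbit_conjAct, isConj_comm, isConj_iff]
    rfl
  rw [h2] at h1
  exact h1.symm

theorem card_bot_lt {p : ℕ} [hp : Fact p.Prime] [Finite R] (hR : IsPGroup p R) (Z : Subgroup R) (hZ : Z ≠ ⊥) :
    p ≤ Nat.card Z := by
  obtain ⟨n, hn⟩ := (hR.to_subgroup Z).exists_card_eq
  rcases Nat.eq_zero_or_pos n with h0 | h0
  · exfalso
    apply hZ
    rw [h0, pow_zero] at hn
    exact Subgroup.card_eq_one.1 hn
  · rw [hn]
    calc p = p ^ 1 := (pow_one p).symm
      _ ≤ p ^ n := Nat.pow_le_pow_right hp.out.pos h0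

/-- a subgroup of a group `E` of order `p²` strictly containing a nontrivial subgroup is `E` -/
theorem eq_of_lt_of_card_sq {p : ℕ} [hp : Fact p.Prime] [Finite R] (hR : IsPGroup p R)
    {Z H E : Subgroup R} (hZ : Z ≠ ⊥) (hZH : Z < H) (hHE : H ≤ E) (hE : Nat.card E = p ^ 2) : H = E := by
  have h1 : Nat.card H ∣ p ^ 2 := hE ▸ Subgroup.card_dvd_of_le hHE
  have h2 : Nat.card Z < Nat.card H := by
    rcases lt_or_ge (Nat.card Z) (Nat.card H) with h | h
    · exact h
    · exact absurd (Subgroup.eq_of_le_of_card_ge hZH.le h) hZH.ne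
  have h3 := card_bot_lt hR Z hZ
  have h4 := hp.out.two_le
  apply Subgroup.eq_of_le_of_card_ge hHE
  rcases dvd_sq_cases hp.out h1 with h | h | h
  · exfalso; clear h1 hE; omega
  · exfalso; clear h1 hE; omega
  · rw [hE, h]

/-- an elementary abelian subgroup commuting elementwise with a maximal elementary abelian subgroup
lies in it -/
theorem ea_absorb {p : ℕ} {E D : Subgroup R} (hE : IsElementaryAbelian p E)
    (hEmax : ∀ B : Subgroup R, IsElementaryAbelian p B → E ≤ B → B = E)
    (hD : IsElementaryAbelian p D) (hcomm : ∀ a ∈ E, ∀ b ∈ D, a * b = b * a) : D ≤ E := by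
  have h := hEmax (E ⊔ D) (helper3.ea_sup hE hD hcomm) le_sup_left
  rw [← h]
  exact le_sup_right

theorem ea_absorb_elt {p : ℕ} {E : Subgroup R} (hE : IsElementaryAbelian p E)
    (hEmax : ∀ B : Subgroup R, IsElementaryAbelian p B → E ≤ B → B = E)
    (k : R) (hk : k ^ p = 1) (hcomm : ∀ a ∈ E, a * k = k * a) : k ∈ E := by
  have hD : IsElementaryAbelian p (Subgroup.zpowers k) := helper3.ea_zpowers k hk
  have : Subgroup.zpowers k ≤ E := by
    apply ea_absorb hE hEmax hD
    intro a ha b hb
    obtain ⟨n, rfl⟩ := Subgroup.mem_zpowers_iff.1 hb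
    exact ((show Commute a k from hcomm a ha).zpow_right n).eq
  exact this (Subgroup.mem_zpowers k)

end basics

section index
variable {R : Type*} [Group R] [Finite R]

/-- in a `p`-group, an element of a normal subgroup of order `p²` has centralizer of index `1` or `p` -/
theorem index_centralizer_elt_dvd {p : ℕ} [hp : Fact p.Prime] (hR : IsPGroup p R)
    (E : Subgroup R) [E.Normal] (hE : Nat.card E = p ^ 2) (e : R) (he : e ∈ E) :
    (Subgroup.centralizer ({e} : Set R)).index ∣ p := by
  obtain ⟨k, hk⟩ := hR.index (Subgroup.centralizer ({e} : Set R))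
  have hS : ({w | ∃ g : R, g * e * g⁻¹ = w} : Set R) ⊆ (E : Set R) := by
    rintro w ⟨g, rfl⟩
    exact Subgroup.Normal.conj_mem inferInstance e he g
  have hcard : ({w | ∃ g : R, g * e * g⁻¹ = w} : Set R).ncard = p ^ k := by
    rw [ncard_conjSet, hk]
  have hEn : (E : Set R).ncard = p ^ 2 := by
    rw [← Nat.card_coe_set_eq]; exact hE
  have hle : p ^ k ≤ p ^ 2 := by
    rw [← hcard, ← hEn]
    exact Set.ncard_le_ncard hS (Set.toFinite _)
  have hk2 : k ≤ 2 := (Nat.pow_le_pow_iff_right hp.out.one_lt).1 hle
  rw [hk]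
  rcases Nat.lt_or_ge k 2 with h | h
  · interval_cases k
    · simp
    · simp
  · -- k = 2 : the class is all of E, so contains 1
    exfalso
    have hk' : k = 2 := le_antisymm hk2 h
    have hEq : ({w | ∃ g : R, g * e * g⁻¹ = w} : Set R) = (E : Set R) := by
      apply Set.eq_of_subset_of_ncard_le hS _ (Set.toFinite _)
      rw [hcard, hk', hEn]
    have h1 : (1 : R) ∈ ({w | ∃ g : R, g * e * g⁻¹ = w} : Set R) := by
      rw [hEq]; exact E.one_mem
    obtain ⟨g, hg⟩ := h1
    have he1 : e = 1 := by
      have : e = g⁻¹ * (g * e * g⁻¹) * g := by group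
      rw [this, hg]; group
    have hS1 : ({w | ∃ g : R, g * e * g⁻¹ = w} : Set R) = {1} := by
      ext w
      constructor
      · rintro ⟨g, rfl⟩
        rw [he1]; simp
      · intro hw
        rw [Set.mem_singleton_iff] at hw
        exact ⟨1, by rw [hw, he1]; simp⟩
    rw [hS1, Set.ncard_singleton, hk'] at hcard
    have := hp.out.one_lt
    nlinarith

/-- in a `p`-group, a normal subgroup of order `p²` has centralizer of index `1` or `p` -/
theorem index_centralizer_dvd {p : ℕ} [hp : Fact p.Prime] (hR : IsPGroup p R)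
    (E : Subgroup R) [E.Normal] (hE : Nat.card E = p ^ 2) :
    (Subgroup.centralizer (E : Set R)).index ∣ p := by
  by_cases hc : E ≤ Subgroup.center R
  · have : Subgroup.centralizer (E : Set R) = ⊤ :=
      Subgroup.centralizer_eq_top_iff_subset.2 hc
    rw [this, Subgroup.index_top]
    exact one_dvd p
  · obtain ⟨e, heE, hec⟩ := SetLike.not_le_iff_exists.1 hc
    have hEne : E ≠ ⊥ := by
      intro h
      rw [h, Subgroup.card_bot] at hE
      have := hp.out.one_lt
      nlinarith
    obtain ⟨z, hzE, hzc, hz1⟩ := helper1.exists_central_of_normal_ne_bot hR E hEne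
    have hZne : Subgroup.zpowers z ≠ ⊥ := by
      intro h
      apply hz1
      have := Subgroup.mem_zpowers z
      rw [h] at this
      exact Subgroup.mem_bot.1 this
    have hZc : Subgroup.zpowers z ≤ Subgroup.center R := by
      rw [Subgroup.zpowers_le]; exact hzc
    have hle : Subgroup.centralizer ({e} : Set R) ≤ Subgroup.centralizer (E : Set R) := by
      intro g hg
      -- H = E ⊓ centralizer {g}
      have hH : E ⊓ Subgroup.centralizer ({g} : Set R) = E := by
        apply eq_of_lt_of_card_sq hR hZne _ inf_le_left hE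
        refine lt_of_le_of_ne (le_inf (by rw [Subgroup.zpowers_le]; exact hzE) ?_) ?_
        · intro x hx
          rw [Subgroup.mem_centralizer_iff]
          intro y hy
          rw [Set.mem_singleton_iff] at hy
          rw [hy]
          exact ((Subgroup.mem_center_iff.1 (hZc hx)) g)
        · intro h
          apply hec
          apply hZc
          rw [h]
          refine Subgroup.mem_inf.2 ⟨heE, ?_⟩
          rw [Subgroup.mem_centralizer_iff]
          intro y hy
          rw [Set.mem_singleton_iff] at hy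
          rw [hy]
          exact ((Subgroup.mem_centralizer_iff.1 hg) e rfl).symm
      rw [Subgroup.mem_centralizer_iff]
      intro x hx
      have hx' : x ∈ E ⊓ Subgroup.centralizer ({g} : Set R) := by rw [hH]; exact hx
      exact ((Subgroup.mem_centralizer_iff.1 hx'.2) g rfl).symm
    exact (Subgroup.index_dvd_of_le hle).trans (index_centralizer_elt_dvd hR E hE e heE)

/-- `card B ≤ index C * card (B ⊓ C)` -/
theorem card_le_index_mul_inf (B C : Subgroup R) [C.Normal] :
    Nat.card B ≤ C.index * Nat.card (B ⊓ C : Subgroup R) := by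
  have h1 : (⊥ : Subgroup R).relIndex (C ⊓ B) * (C ⊓ B).relIndex B = (⊥ : Subgroup R).relIndex B :=
    Subgroup.relIndex_mul_relIndex ⊥ (C ⊓ B) B bot_le inf_le_right
  rw [Subgroup.relIndex_bot_left, Subgroup.relIndex_bot_left, Subgroup.inf_relIndex_right] at h1
  have h2 : C.relIndex B ≤ C.index :=
    Nat.le_of_dvd (Nat.pos_of_ne_zero Subgroup.index_ne_zero_of_finite) (Subgroup.relIndex_dvd_index_of_normal C B)
  rw [← h1, inf_comm, mul_comm]
  exact Nat.mul_le_mul_right _ h2

end index

end Cfsg.Agent.helper23
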