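import Mathlib
import Cfsg.Prelude.Def_PLocal
import Cfsg.Prelude.Def_OddOrderLocal
import Cfsg.Prelude.Def_CaseTheorems
import Cfsg.Agent.Lib_helper23_Bk4

set_option autoImplicit false
set_option linter.style.haveILetI false
set_option linter.unusedSectionVars false

namespace Cfsg.Agent.helper23

open scoped commutatorElement

universe u

variable {G : Type u} [Group G] [Finite G] {p : ℕ} [hp : Fact p.Prime]

/-- The configuration of a rank-2 `p`-group `R` acting nontrivially on `Ω₁(R)/Z`. -/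
structure BetaCtx (p : ℕ) (R E N₁ Z D K : Subgroup G) : Prop where
  nR : R.Normal
  nE : E.Normal
  nN : N₁.Normal
  nZ : Z.Normal
  nD : D.Normal
  nK : K.Normal
  pR : IsPGroup p R
  ER : E ≤ R
  NE : N₁ ≤ E
  ZN : Z ≤ N₁
  cE : Nat.card E = p ^ 3
  cN : Nat.card N₁ = p ^ 2
  cZ : Nat.card Z = p
  expE : ∀ e ∈ E, e ^ p = 1
  memE : ∀ x ∈ R, x ^ p = 1 → x ∈ E
  commN : ∀ x ∈ N₁, ∀ y ∈ N₁, x * y = y * x
  centZ : ∀ z ∈ Z, ∀ r ∈ R, r * z = z * r
  memZ : ∀ g ∈ E, (∀ e ∈ E, e * g = g * e) → g ∈ Z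
  EE : ∀ x ∈ E, ∀ y ∈ E, ⁅x, y⁆ ∈ Z
  RE : ∀ r ∈ R, ∀ e ∈ E, ⁅r, e⁆ ∈ N₁
  RN : ∀ r ∈ R, ∀ y ∈ N₁, ⁅r, y⁆ ∈ Z
  memD : ∀ g, g ∈ D ↔ g ∈ R ∧ ∀ y ∈ N₁, g * y = y * g
  memK : ∀ g, g ∈ K ↔ g ∈ R ∧ ∀ e ∈ E, ⁅g, e⁆ ∈ Z
  nontriv : ¬ ∀ r ∈ R, ∀ e ∈ E, ⁅r, e⁆ ∈ Z

namespace BetaCtx

variable {R E N₁ Z D K : Subgroup G} (C : BetaCtx p R E N₁ Z D K)

include C

theorem sq_ne_cube : p ^ 2 ≠ p ^ 3 := by
  intro h
  have := Nat.pow_right_injective hp.out.two_le h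
  omega

theorem N_not_central : ¬ ∀ y ∈ N₁, ∀ e ∈ E, e * y = y * e := by
  intro h
  have hle : N₁ ≤ Z := fun y hy => C.memZ y (C.NE hy) (fun e he => h y hy e he)
  have := Subgroup.card_le_of_le hle
  rw [C.cN, C.cZ] at this
  have hp1 := hp.out.one_lt
  nlinarith

theorem mid (H : Subgroup G) (h1 : N₁ ≤ H) (h2 : H ≤ E) (h3 : H ≠ N₁) : H = E := by
  have hlt : N₁ < H := lt_of_le_of_ne h1 (Ne.symm h3)
  have hHp : IsPGroup p H := C.pR.to_le (h2.trans C.ER)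
  have := p_mul_card_le_of_lt H N₁ hHp hlt
  rw [C.cN] at this
  apply Subgroup.eq_of_le_of_card_ge h2
  rw [C.cE]
  calc p ^ 3 = p * p ^ 2 := by ring
    _ ≤ _ := this

theorem N_le_D : N₁ ≤ D := fun y hy =>
  (C.memD y).2 ⟨C.ER (C.NE hy), fun y' hy' => C.commN y hy y' hy'⟩

theorem D_le_R : D ≤ R := fun g hg => ((C.memD g).1 hg).1

theorem K_le_R : K ≤ R := fun g hg => ((C.memK g).1 hg).1

theorem E_le_K : E ≤ K := fun e he =>
  (C.memK e).2 ⟨C.ER he, fun e' he' => C.EE e he e' he'⟩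

theorem not_E_le_D : ¬ E ≤ D := by
  intro h
  apply C.N_not_central
  intro y hy e he
  exact ((C.memD e).1 (h he)).2 y hy

theorem DE : D ⊓ E = N₁ := by
  by_contra hne
  have h := C.mid (D ⊓ E) (le_inf C.N_le_D C.NE) inf_le_right hne
  apply C.not_E_le_D
  rw [← h]; exact inf_le_left

theorem E_gen (e₀ : G) (he₀ : e₀ ∈ E) (hn : e₀ ∉ N₁) :
    ∀ e ∈ E, ∃ i : ℕ, ∃ n ∈ N₁, e = e₀ ^ i * n := by
  haveI := C.nN
  apply idx_p_gen E N₁ (C.pR.to_le C.ER) C.NE _ _ e₀ he₀ hn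
  · rw [C.cE, C.cN]; exact (by ring : p ^ 3 = p * p ^ 2).le
  · intro h
    have h2 : Nat.card N₁ = Nat.card E := by rw [h]
    rw [C.cE, C.cN] at h2
    exact C.sq_ne_cube h2

theorem exists_N_not_Z : ∃ y ∈ N₁, y ∉ Z := by
  by_contra h
  push Not at h
  have hle : N₁ ≤ Z := h
  have := Subgroup.card_le_of_le hle
  rw [C.cN, C.cZ] at this
  have hp1 := hp.out.one_lt
  nlinarith

theorem N_gen (y : G) (hy : y ∈ N₁) (hn : y ∉ Z) :
    ∀ y' ∈ N₁, ∃ i : ℕ, ∃ z ∈ Z, y' = y ^ i * z := by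
  haveI := C.nZ
  apply idx_p_gen N₁ Z (C.pR.to_le (C.NE.trans C.ER)) C.ZN _ _ y hy hn
  · rw [C.cN, C.cZ]; exact (by ring : p ^ 2 = p * p).le
  · intro h
    exact hn (h ▸ hy)

theorem card_R_le_D : Nat.card R ≤ p * Nat.card D := by
  obtain ⟨y, hy, hyZ⟩ := C.exists_N_not_Z
  have h1 := card_le_of_comm_mem R Z y (fun r hr => by
    have := C.RN r hr y hy
    rwa [commutatorElement_def] at this)
  rw [C.cZ] at h1
  refine h1.trans (Nat.mul_le_mul_left _ (Subgroup.card_le_of_le ?_))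
  intro g hg
  rw [C.memD]
  refine ⟨hg.1, ?_⟩
  intro y' hy'
  obtain ⟨i, z, hz, rfl⟩ := C.N_gen y hy hyZ y' hy'
  have hgy : g * y = y * g := (Subgroup.mem_centralizer_iff.1 hg.2 y rfl).symm
  have hgz : g * z = z * g := C.centZ z hz g hg.1
  have hc1 : Commute g (y ^ i) := (show Commute g y from hgy).pow_right i
  exact (hc1.mul_right (show Commute g z from hgz)).eq

theorem D_gen : ∃ e₁ ∈ E, e₁ ∉ D ∧ ∀ r ∈ R, ∃ i : ℕ, ∃ d ∈ D, r = e₁ ^ i * d := by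
  obtain ⟨e₁, he₁, hd⟩ := SetLike.not_le_iff_exists.1 C.not_E_le_D
  refine ⟨e₁, he₁, hd, ?_⟩
  haveI := C.nD
  exact idx_p_gen R D C.pR C.D_le_R C.card_R_le_D (fun h => hd (h ▸ C.ER he₁)) e₁ (C.ER he₁) hd

theorem exists_E_not_N : ∃ e₀ ∈ E, e₀ ∉ N₁ := by
  by_contra h
  push Not at h
  have hle : E ≤ N₁ := h
  have := Subgroup.card_le_of_le hle
  rw [C.cN, C.cE] at this
  have hp1 := hp.out.one_lt
  have : p ^ 3 = p * p ^ 2 := by ring
  nlinarith [Nat.pos_of_ne_zero (pow_ne_zero 2 hp.out.ne_zero)]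

theorem card_R_le_K : Nat.card R ≤ p * Nat.card K := by
  obtain ⟨e₀, he₀, hn⟩ := C.exists_E_not_N
  have h1 := card_le_of_comm_mem R N₁ e₀ (fun r hr => by
    have := C.RE r hr e₀ he₀
    rwa [commutatorElement_def] at this)
  rw [C.cN] at h1
  obtain ⟨T, hT⟩ : ∃ T : Subgroup G, T = R ⊓ Subgroup.centralizer ({e₀} : Set G) := ⟨_, rfl⟩
  rw [← hT] at h1
  have hTK : T < K := by
    refine lt_of_le_of_ne ?_ ?_
    · intro g hg
      rw [hT] at hg
      rw [C.memK]; refine ⟨hg.1, ?_⟩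
      intro e he
      obtain ⟨i, n, hn', rfl⟩ := C.E_gen e₀ he₀ hn e he
      have hge : g * e₀ = e₀ * g := (Subgroup.mem_centralizer_iff.1 hg.2 e₀ rfl).symm
      have hc : Commute g (e₀ ^ i) := (show Commute g e₀ from hge).pow_right i
      have h2 : ⁅g, e₀ ^ i * n⁆ = e₀ ^ i * ⁅g, n⁆ * (e₀ ^ i)⁻¹ := by
        rw [comm_mul_right_split, commutatorElement_eq_one_iff_commute.2 hc, one_mul]
      rw [h2]
      exact C.nZ.conj_mem _ (C.RN g hg.1 n hn') _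
    · intro heq
      apply C.N_not_central
      intro y hy e he
      have hyK : y ∈ K := C.E_le_K (C.NE hy)
      rw [← heq, hT] at hyK
      have hye : y * e₀ = e₀ * y := (Subgroup.mem_centralizer_iff.1 hyK.2 e₀ rfl).symm
      obtain ⟨i, n, hn', rfl⟩ := C.E_gen e₀ he₀ hn e he
      have c1 : Commute y (e₀ ^ i) := (show Commute y e₀ from hye).pow_right i
      have c2 : Commute y n := C.commN y hy n hn'
      exact ((c1.mul_right c2).eq).symm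
  have h2 := p_mul_card_le_of_lt K T (C.pR.to_le C.K_le_R) hTK
  calc Nat.card R ≤ p ^ 2 * Nat.card T := h1
    _ = p * (p * Nat.card T) := by ring
    _ ≤ p * Nat.card K := Nat.mul_le_mul_left _ h2

theorem K_ne_R : K ≠ R := by
  intro h
  apply C.nontriv
  intro r hr e he
  have : r ∈ K := h ▸ hr
  exact ((C.memK r).1 this).2 e he

theorem D_meta (hp5 : 5 ≤ p) : Cfsg.IsMetacyclic ↥D := by
  have hDp : IsPGroup p D := C.pR.to_le C.D_le_R
  apply meta_of_small_omega hp5 _ ↥D rfl hDp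
  have h1 : {x : ↥D | x ^ p = 1}.ncard ≤ (N₁ : Set G).ncard := by
    apply Set.ncard_le_ncard_of_injOn (fun x : ↥D => (x : G))
    · intro x hx
      have hx' : x ^ p = 1 := hx
      have hxp : (x : G) ^ p = 1 := by
        have := congrArg Subtype.val hx'
        simpa using this
      have hxE : (x : G) ∈ E := C.memE _ (C.D_le_R x.2) hxp
      have : (x : G) ∈ D ⊓ E := ⟨x.2, hxE⟩
      rw [C.DE] at this; exact this
    · intro x _ y _ hxy; exact Subtype.ext hxy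
  have h2 : (N₁ : Set G).ncard = Nat.card N₁ := (Nat.card_coe_set_eq _).symm
  rw [h2, C.cN] at h1; exact h1

end BetaCtx

end Cfsg.Agent.helper23
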