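import Mathlib
import Cfsg.Prelude.Def_PLocal
import Cfsg.Prelude.Def_OddOrderLocal
import Cfsg.Prelude.Def_CaseTheorems
import Cfsg.Agent.Lib_helper23_Bk5

set_option autoImplicit false
set_option linter.style.haveILetI false
set_option linter.unusedSectionVars false
set_option maxHeartbeats 800000

namespace Cfsg.Agent.helper23

open scoped commutatorElement

universe u

variable {G : Type u} [Group G] [Finite G] {p : ℕ} [hp : Fact p.Prime]

theorem beta_elem (hp5 : 5 ≤ p) {R E N₁ Z D K : Subgroup G} (C : BetaCtx p R E N₁ Z D K) (a : G)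
    (hodd : Odd (orderOf a)) (hcop : (orderOf a).Coprime p)
    (hnt : ¬ ∀ r ∈ R, ⁅a, r⁆ ∈ K) : ∀ e ∈ E, ⁅a, e⁆ ∈ N₁ := by
  haveI := C.nR; haveI := C.nE; haveI := C.nN; haveI := C.nZ; haveI := C.nD; haveI := C.nK
  have hp2 : p ≠ 2 := by omega
  have hp1 : 1 < p := hp.out.one_lt
  have hDp : IsPGroup p D := C.pR.to_le C.D_le_R
  -- Step 1
  obtain ⟨B, hB⟩ : ∃ B : Subgroup G, B = Subgroup.zpowers a := ⟨_, rfl⟩
  have hBN : B ≤ Subgroup.normalizer (D : Set G) := fun b _ => mem_normalizer_of_normal D b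
  have hBc : (Nat.card B).Coprime p := by rw [hB, Nat.card_zpowers]; exact hcop
  obtain ⟨hMc, -⟩ := S1447.result p hp2 D B hDp (C.D_meta hp5) hBN hBc
  obtain ⟨M, hM⟩ : ∃ M : Subgroup G, M = ⁅D, B⁆ := ⟨_, rfl⟩
  rw [← hM] at hMc
  have hMD : M ≤ D := by rw [hM]; exact Subgroup.commutator_le_left D B
  have hMcomm : ∀ x ∈ M, ∀ y ∈ M, x * y = y * x := by
    intro x hx y hy
    exact congrArg Subtype.val (hMc.is_comm.comm ⟨x, hx⟩ ⟨y, hy⟩)
  have hda : ∀ d ∈ D, ⁅a, d⁆ ∈ M := by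
    intro d hd
    have h1 : ⁅d, a⁆ ∈ M := by
      rw [hM]
      exact Subgroup.commutator_mem_commutator hd (by rw [hB]; exact Subgroup.mem_zpowers a)
    have h2 : ⁅a, d⁆ = ⁅d, a⁆⁻¹ := (commutatorElement_inv d a).symm
    rw [h2]; exact M.inv_mem h1
  have haM : ∀ x ∈ M, a * x * a⁻¹ ∈ M := by
    intro x hx
    have : a * x * a⁻¹ = ⁅a, x⁆ * x := by simp only [commutatorElement_def]; group
    rw [this]; exact M.mul_mem (hda x (hMD hx)) hx
  obtain ⟨e₁, he₁, he₁D, hgenD⟩ := C.D_gen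
  have hMK : ¬ M ≤ K := by
    intro hle
    apply hnt
    intro r hr
    obtain ⟨i, d, hd, rfl⟩ := hgenD r hr
    rw [comm_mul_right_split]
    have h1 : ⁅a, e₁ ^ i⁆ ∈ K := by
      have he : e₁ ^ i ∈ E := E.pow_mem he₁ i
      apply C.E_le_K
      rw [commutatorElement_def]
      exact E.mul_mem (C.nE.conj_mem _ he a) (E.inv_mem he)
    exact K.mul_mem h1 (C.nK.conj_mem _ (hle (hda d hd)) _)
  obtain ⟨m₀, hm₀M, hm₀K⟩ := SetLike.not_le_iff_exists.1 hMK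
  have hm₀D : m₀ ∈ D := hMD hm₀M
  have hm₀R : m₀ ∈ R := C.D_le_R hm₀D
  -- Step 2
  have hgenK := idx_p_gen R K C.pR C.K_le_R C.card_R_le_K C.K_ne_R m₀ hm₀R hm₀K
  have hpowK := idx_p_pow R K C.pR C.K_le_R C.card_R_le_K C.K_ne_R
  obtain ⟨ν, k, hk, hν⟩ := hgenK (a * m₀ * a⁻¹) (C.nR.conj_mem _ hm₀R a)
  have hνp : ν.Coprime p := by
    rw [Nat.coprime_comm, Nat.Prime.coprime_iff_not_dvd hp.out]
    rintro ⟨t, rfl⟩
    apply hm₀K
    have h1 : m₀ ^ (p * t) ∈ K := by rw [pow_mul]; exact K.pow_mem (hpowK m₀ hm₀R) t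
    have h2 : a * m₀ * a⁻¹ ∈ K := by rw [hν]; exact K.mul_mem h1 hk
    have h3 := C.nK.conj_mem _ h2 a⁻¹
    have h4 : a⁻¹ * (a * m₀ * a⁻¹) * a⁻¹⁻¹ = m₀ := by group
    rw [h4] at h3; exact h3
  -- Step 3
  obtain ⟨e₀, he₀, hn₁Z⟩ : ∃ e₀ ∈ E, ⁅m₀, e₀⁆ ∉ Z := by
    by_contra h
    push Not at h
    exact hm₀K ((C.memK m₀).2 ⟨hm₀R, h⟩)
  obtain ⟨n₁, hn₁⟩ : ∃ n₁ : G, n₁ = ⁅m₀, e₀⁆ := ⟨_, rfl⟩
  rw [← hn₁] at hn₁Z
  have hn₁N : n₁ ∈ N₁ := by rw [hn₁]; exact C.RE m₀ hm₀R e₀ he₀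
  have he₀N : e₀ ∉ N₁ := by
    intro h
    apply hn₁Z
    have h0 : m₀ * e₀ = e₀ * m₀ := ((C.memD m₀).1 hm₀D).2 e₀ h
    have h1 : ⁅m₀, e₀⁆ = 1 := commutatorElement_eq_one_iff_commute.2 h0
    rw [hn₁, h1]; exact Z.one_mem
  have hgenE := C.E_gen e₀ he₀ he₀N
  obtain ⟨β, n', hn', hβ⟩ := hgenE (a * e₀ * a⁻¹) (C.nE.conj_mem _ he₀ a)
  -- Step 4
  have hR1 : QuotientGroup.mk' Z (a * n₁ * a⁻¹) = QuotientGroup.mk' Z n₁ ^ (ν * β) := by
    have h1 : a * n₁ * a⁻¹ = ⁅m₀ ^ ν * k, e₀ ^ β * n'⁆ := by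
      rw [hn₁, comm_conj, hν, hβ]
    have hkM : k ∈ M := by
      have : k = (m₀ ^ ν)⁻¹ * (a * m₀ * a⁻¹) := by rw [hν]; group
      rw [this]; exact M.mul_mem (M.inv_mem (M.pow_mem hm₀M ν)) (haM m₀ hm₀M)
    have hdD : m₀ ^ ν * k ∈ D := D.mul_mem (D.pow_mem hm₀D ν) (hMD hkM)
    have h2 : ⁅m₀ ^ ν * k, e₀ ^ β * n'⁆ = ⁅m₀ ^ ν * k, e₀ ^ β⁆ :=
      comm_mul_right_of_commute _ _ _ (((C.memD _).1 hdD).2 n' hn')
    rw [h1, h2, map_commutatorElement, map_mul, map_pow, map_pow]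
    have h3 : QuotientGroup.mk' Z k * QuotientGroup.mk' Z e₀ ^ β =
        QuotientGroup.mk' Z e₀ ^ β * QuotientGroup.mk' Z k := by
      have hc : Commute (QuotientGroup.mk' Z k) (QuotientGroup.mk' Z e₀) := by
        rw [← commutatorElement_eq_one_iff_commute, ← map_commutatorElement, mk'_eq_one]
        exact ((C.memK k).1 hk).2 e₀ he₀
      exact (hc.pow_right β).eq
    rw [comm_mul_left_of_commute _ _ _ h3]
    have h4 : ⁅QuotientGroup.mk' Z m₀, QuotientGroup.mk' Z e₀⁆ = QuotientGroup.mk' Z n₁ := by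
      rw [← map_commutatorElement, hn₁]
    rw [comm_pow_pow, h4]
    · rw [h4, ← map_mul, ← map_mul, ((C.memD m₀).1 hm₀D).2 n₁ hn₁N]
    · rw [h4]
      have hc : Commute (QuotientGroup.mk' Z e₀) (QuotientGroup.mk' Z n₁) := by
        rw [← commutatorElement_eq_one_iff_commute, ← map_commutatorElement, mk'_eq_one]
        exact C.EE e₀ he₀ n₁ (C.NE hn₁N)
      exact hc.eq
  -- Step 5
  obtain ⟨z₁, hz₁, hcn₁⟩ : ∃ z₁ ∈ Z, a * n₁ * a⁻¹ = n₁ ^ (ν * β) * z₁ := by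
    refine ⟨(n₁ ^ (ν * β))⁻¹ * (a * n₁ * a⁻¹), ?_, by group⟩
    rw [← mk'_eq_iff, map_pow]; exact hR1.symm
  obtain ⟨z₀, hz₀⟩ : ∃ z₀ : G, z₀ = ⁅e₀, n₁⁆ := ⟨_, rfl⟩
  have hz₀Z : z₀ ∈ Z := by rw [hz₀]; exact C.EE e₀ he₀ n₁ (C.NE hn₁N)
  have hz₀1 : z₀ ≠ 1 := by
    intro h
    apply hn₁Z
    apply C.memZ n₁ (C.NE hn₁N)
    intro e he
    obtain ⟨i, n, hn, rfl⟩ := hgenE e he
    have c1 : Commute e₀ n₁ := by
      rw [← commutatorElement_eq_one_iff_commute, ← hz₀]; exact h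
    have c2 : Commute n n₁ := C.commN n hn n₁ hn₁N
    exact ((c1.pow_left i).mul_left c2).eq
  have hR2 : a * z₀ * a⁻¹ = z₀ ^ (β * (ν * β)) := by
    rw [hz₀, comm_conj, hβ, hcn₁]
    rw [comm_mul_left_of_commute _ _ _
      (C.commN n' hn' _ (N₁.mul_mem (N₁.pow_mem hn₁N _) (C.ZN hz₁)))]
    rw [comm_mul_right_of_commute _ _ _ (C.centZ z₁ hz₁ _ (C.ER (E.pow_mem he₀ β)))]
    apply comm_pow_pow
    · rw [← hz₀]; exact C.centZ z₀ hz₀Z e₀ (C.ER he₀)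
    · rw [← hz₀]; exact C.centZ z₀ hz₀Z n₁ (C.ER (C.NE hn₁N))
  have hZact : ∀ z ∈ Z, a * z * a⁻¹ = z ^ (β * (ν * β)) := by
    intro z hz
    have hz₀' : (⟨z₀, hz₀Z⟩ : ↥Z) ≠ 1 := fun h => hz₀1 (congrArg Subtype.val h)
    obtain ⟨i, hi⟩ := mem_powers_of_prime_card (p := p) C.cZ hz₀' (g' := ⟨z, hz⟩)
    have hi' : z₀ ^ i = z := by
      have := congrArg Subtype.val hi
      simpa using this
    rw [← hi', ← conj_pow, hR2, ← pow_mul, ← pow_mul, mul_comm]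
  -- Step 6
  have hW : ∃ w ∈ N₁, w ≠ 1 ∧ a * w * a⁻¹ = w ^ ν := by
    by_contra hno
    push Not at hno
    have hτM : ∀ x ∈ M, a * x * a⁻¹ * (x ^ ν)⁻¹ ∈ M := fun x hx =>
      M.mul_mem (haM x hx) (M.inv_mem (M.pow_mem hx ν))
    let τ : ↥M → ↥M := fun x => ⟨a * x * a⁻¹ * ((x : G) ^ ν)⁻¹, hτM x x.2⟩
    have hinj : Function.Injective τ := by
      intro x y hxy
      have hxy' : a * x * a⁻¹ * ((x : G) ^ ν)⁻¹ = a * y * a⁻¹ * ((y : G) ^ ν)⁻¹ :=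
        congrArg Subtype.val hxy
      by_contra hne
      obtain ⟨u, hu⟩ : ∃ u : G, u = (y : G)⁻¹ * x := ⟨_, rfl⟩
      have huM : u ∈ M := by rw [hu]; exact M.mul_mem (M.inv_mem y.2) x.2
      have hu1 : u ≠ 1 := by
        intro h; apply hne; apply Subtype.ext
        have : (x : G) = y * u := by rw [hu]; group
        rw [this, h, mul_one]
      have hcu : a * u * a⁻¹ = u ^ ν := by
        have h1 : a * u * a⁻¹ = (a * y * a⁻¹)⁻¹ * (a * x * a⁻¹) := by rw [hu]; group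
        have h2 : (a * y * a⁻¹)⁻¹ * (a * x * a⁻¹) = ((y : G) ^ ν)⁻¹ * (x : G) ^ ν := by
          have : a * x * a⁻¹ = a * y * a⁻¹ * ((y : G) ^ ν)⁻¹ * (x : G) ^ ν := by
            rw [← hxy']; group
          rw [this]; group
        have hc : Commute ((y : G)⁻¹) (x : G) :=
          (show Commute (y : G) x from hMcomm y y.2 x x.2).inv_left
        rw [h1, h2, hu, hc.mul_pow, inv_pow]
      obtain ⟨k', hk'⟩ := (IsPGroup.iff_orderOf.1 (hDp.to_le hMD)) ⟨u, huM⟩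
      rw [Subgroup.orderOf_mk] at hk'
      have hk0 : k' ≠ 0 := by
        intro h
        rw [h, pow_zero, orderOf_eq_one_iff] at hk'
        exact hu1 hk'
      obtain ⟨s, rfl⟩ := Nat.exists_eq_succ_of_ne_zero hk0
      obtain ⟨w, hw⟩ : ∃ w : G, w = u ^ (p ^ s) := ⟨_, rfl⟩
      have hwp : w ^ p = 1 := by
        rw [hw, ← pow_mul, ← pow_succ, ← hk']; exact pow_orderOf_eq_one u
      have hw1 : w ≠ 1 := by
        intro h
        rw [hw] at h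
        have h5 := orderOf_dvd_of_pow_eq_one h
        rw [hk'] at h5
        have := (Nat.pow_dvd_pow_iff_le_right hp1).1 h5
        omega
      have hwM : w ∈ M := by rw [hw]; exact M.pow_mem huM _
      have hwN : w ∈ N₁ := by
        have h1 : w ∈ D ⊓ E := ⟨hMD hwM, C.memE w (C.D_le_R (hMD hwM)) hwp⟩
        rw [C.DE] at h1; exact h1
      apply hno w hwN hw1
      rw [hw, ← conj_pow, hcu, ← pow_mul, ← pow_mul, mul_comm]
    have hsurj : Function.Surjective τ := Finite.injective_iff_surjective.1 hinj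
    obtain ⟨x, hx⟩ := hsurj ⟨m₀, hm₀M⟩
    have hx' : a * x * a⁻¹ * ((x : G) ^ ν)⁻¹ = m₀ := congrArg Subtype.val hx
    apply hm₀K
    rw [← hx', ← mk'_eq_one (N := K), map_mul, map_inv, map_pow]
    obtain ⟨i, k', hk', hxi⟩ := hgenK x (C.D_le_R (hMD x.2))
    have hqx : QuotientGroup.mk' K (x : G) = (QuotientGroup.mk' K m₀) ^ i := by
      rw [hxi, map_mul, map_pow, (mk'_eq_one k').2 hk', mul_one]
    have hqm : QuotientGroup.mk' K (a * m₀ * a⁻¹) = (QuotientGroup.mk' K m₀) ^ ν := by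
      rw [hν, map_mul, map_pow, (mk'_eq_one k).2 hk, mul_one]
    have h6 : QuotientGroup.mk' K (a * x * a⁻¹) = (QuotientGroup.mk' K (x : G)) ^ ν := by
      rw [map_mul, map_mul, hqx, map_inv, ← conj_pow, ← map_inv, ← map_mul, ← map_mul, hqm,
        ← pow_mul, ← pow_mul, mul_comm]
    rw [h6, mul_inv_cancel]
  -- Step 7
  obtain ⟨w, hwN, hw1, hcw⟩ := hW
  have hwp : w ^ p = 1 := C.expE w (C.NE hwN)
  have hβ2 : β * β ≡ 1 [MOD p] := by
    by_cases hwZ : w ∈ Z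
    · have h1 := hZact w hwZ
      rw [hcw] at h1
      have h2 : orderOf w = p := orderOf_eq_prime hwp hw1
      rw [pow_eq_pow_iff_modEq, h2] at h1
      have h3 : 1 * ν ≡ (β * β) * ν [MOD p] := by
        have : β * (ν * β) = (β * β) * ν := by ring
        rw [← this, one_mul]; exact h1
      exact (Nat.ModEq.cancel_right_of_coprime hνp.symm h3).symm
    · have hNact : ∀ y ∈ N₁, QuotientGroup.mk' Z (a * y * a⁻¹) =
          QuotientGroup.mk' Z y ^ (ν * β) := by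
        intro y hy
        obtain ⟨i, z, hz, rfl⟩ := C.N_gen n₁ hn₁N hn₁Z y hy
        have h1 : a * (n₁ ^ i * z) * a⁻¹ = (a * n₁ * a⁻¹) ^ i * (a * z * a⁻¹) := by
          rw [conj_pow]; group
        rw [h1, map_mul, map_pow, hR1, (mk'_eq_one _).2 (C.nZ.conj_mem z hz a), mul_one, map_mul,
          map_pow, (mk'_eq_one z).2 hz, mul_one, ← pow_mul, ← pow_mul, mul_comm]
      have h1 := hNact w hwN
      rw [hcw, map_pow] at h1
      have hqw1 : QuotientGroup.mk' Z w ≠ 1 := by rw [Ne, mk'_eq_one]; exact hwZ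
      have hqwp : QuotientGroup.mk' Z w ^ p = 1 := by rw [← map_pow, hwp, map_one]
      have h2 : orderOf (QuotientGroup.mk' Z w) = p := orderOf_eq_prime hqwp hqw1
      rw [pow_eq_pow_iff_modEq, h2] at h1
      have h3 : 1 * ν ≡ β * ν [MOD p] := by rw [one_mul, mul_comm β ν]; exact h1
      have h4 : 1 ≡ β [MOD p] := Nat.ModEq.cancel_right_of_coprime hνp.symm h3
      have := (h4.mul h4).symm
      simpa using this
  -- Step 8
  have hconj : QuotientGroup.mk' N₁ a * QuotientGroup.mk' N₁ e₀ * (QuotientGroup.mk' N₁ a)⁻¹ =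
      QuotientGroup.mk' N₁ e₀ ^ β := by
    rw [← map_inv, ← map_mul, ← map_mul, hβ, map_mul, map_pow, (mk'_eq_one n').2 hn', mul_one]
  have hep : QuotientGroup.mk' N₁ e₀ ^ p = 1 := by rw [← map_pow, C.expE e₀ he₀, map_one]
  have hconj2 : QuotientGroup.mk' N₁ a ^ 2 * QuotientGroup.mk' N₁ e₀ *
      (QuotientGroup.mk' N₁ a ^ 2)⁻¹ = QuotientGroup.mk' N₁ e₀ := by
    have h0 : QuotientGroup.mk' N₁ a ^ 2 * QuotientGroup.mk' N₁ e₀ *
        (QuotientGroup.mk' N₁ a ^ 2)⁻¹ = QuotientGroup.mk' N₁ a *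
        (QuotientGroup.mk' N₁ a * QuotientGroup.mk' N₁ e₀ * (QuotientGroup.mk' N₁ a)⁻¹) *
        (QuotientGroup.mk' N₁ a)⁻¹ := by rw [pow_two]; group
    rw [h0, hconj, ← conj_pow, hconj, ← pow_mul]
    have := pow_eq_pow_of_modEq (QuotientGroup.mk' N₁ e₀) hep (β * β) 1 hβ2
    rw [this, pow_one]
  have hc2 : Commute (QuotientGroup.mk' N₁ a ^ 2) (QuotientGroup.mk' N₁ e₀) := by
    have : QuotientGroup.mk' N₁ a ^ 2 * QuotientGroup.mk' N₁ e₀ =
        QuotientGroup.mk' N₁ e₀ * QuotientGroup.mk' N₁ a ^ 2 := by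
      calc QuotientGroup.mk' N₁ a ^ 2 * QuotientGroup.mk' N₁ e₀ =
          QuotientGroup.mk' N₁ a ^ 2 * QuotientGroup.mk' N₁ e₀ *
            (QuotientGroup.mk' N₁ a ^ 2)⁻¹ * QuotientGroup.mk' N₁ a ^ 2 := by group
        _ = QuotientGroup.mk' N₁ e₀ * QuotientGroup.mk' N₁ a ^ 2 := by rw [hconj2]
    exact this
  obtain ⟨t, ht⟩ := hodd
  have hat : QuotientGroup.mk' N₁ a = (QuotientGroup.mk' N₁ a ^ 2) ^ (t + 1) := by
    rw [← pow_mul, ← map_pow]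
    have : a ^ (2 * (t + 1)) = a := by
      have h7 : 2 * (t + 1) = orderOf a + 1 := by omega
      rw [h7, pow_succ, pow_orderOf_eq_one, one_mul]
    rw [this]
  have hc : Commute (QuotientGroup.mk' N₁ a) (QuotientGroup.mk' N₁ e₀) := by
    rw [hat]; exact hc2.pow_left _
  intro e he
  obtain ⟨i, n, hn, rfl⟩ := hgenE e he
  rw [← mk'_eq_one (N := N₁), map_commutatorElement, commutatorElement_eq_one_iff_commute, map_mul,
    map_pow, (mk'_eq_one n).2 hn, mul_one]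
  exact hc.pow_right i

end Cfsg.Agent.helper23
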