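import Cfsg.Statements.S0640
-- import your own Cfsg.Agent.* helpers here
import Mathlib
import Cfsg.Agent.S0093
import Cfsg.Agent.Lib_lead_Class2
import Cfsg.Agent.Lib_helper1_PGroup
import Cfsg.Agent.Lib_helper4_ZJ2
import Cfsg.Agent.Lib_helper4_Glaub2

set_option autoImplicit false
open Cfsg

namespace Cfsg.Agent.S0640

open scoped commutatorElement

variable {R : Type*} [Group R]

theorem pow_apply_mul (α : MulAut R) (x k : R) (hx : α x = x * k) (hk : α k = k) (i : ℕ) :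
    (α ^ i) x = x * k ^ i := by
  induction i with
  | zero => simp
  | succ i ih =>
    rw [pow_succ', MulAut.mul_apply, ih, map_mul, map_pow, hx, hk, pow_succ', mul_assoc]

theorem fix_of_coprime {p : ℕ} (α : MulAut R) (n : ℕ) (hn : α ^ n = 1) (hco : n.Coprime p)
    (x : R) (hk : α (x⁻¹ * α x) = x⁻¹ * α x) (m : ℕ) (hpk : (x⁻¹ * α x) ^ (p ^ m) = 1) :
    α x = x := by
  have hx : α x = x * (x⁻¹ * α x) := by group
  have h1 := pow_apply_mul α x _ hx hk n
  rw [hn, MulAut.one_apply] at h1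
  have h2 : (x⁻¹ * α x) ^ n = 1 := by
    have := h1.symm
    rwa [mul_eq_left] at this
  have h3 : orderOf (x⁻¹ * α x) ∣ Nat.gcd n (p ^ m) :=
    Nat.dvd_gcd (orderOf_dvd_of_pow_eq_one h2) (orderOf_dvd_of_pow_eq_one hpk)
  rw [Nat.Coprime.pow_right m hco, Nat.dvd_one, orderOf_eq_one_iff] at h3
  rw [hx, h3, mul_one]

theorem trivial_of_fix_critical {p : ℕ} (hR : IsPGroup p R) (H : Subgroup R) [H.Normal]
    (hC : Subgroup.centralizer (H : Set R) ≤ H) (α : MulAut R) (n : ℕ) (hn : α ^ n = 1)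
    (hco : n.Coprime p) (hfix : ∀ h ∈ H, α h = h) : α = 1 := by
  ext x
  rw [MulAut.one_apply]
  obtain ⟨m, hm⟩ := hR (x⁻¹ * α x)
  refine fix_of_coprime α n hn hco x ?_ m hm
  apply hfix
  apply hC
  rw [Subgroup.mem_centralizer_iff]
  intro h hh
  have h1 : x * h * x⁻¹ ∈ H := Subgroup.Normal.conj_mem inferInstance h hh x
  have h2 := hfix _ h1
  rw [map_mul, map_mul, map_inv, hfix h hh] at h2
  calc h * (x⁻¹ * α x) = x⁻¹ * (x * h * x⁻¹) * α x := by group
    _ = x⁻¹ * (α x * h * (α x)⁻¹) * α x := by rw [h2]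
    _ = x⁻¹ * α x * h := by group

/-- class two and p-th powers central, elementwise on a subgroup -/
def KK (p : ℕ) (K : Subgroup R) : Prop :=
  (∀ x ∈ K, ∀ y ∈ K, ∀ z ∈ K, Commute ⁅x, y⁆ z) ∧ (∀ x ∈ K, ∀ z ∈ K, Commute (x ^ p) z)

theorem KK.mono {p : ℕ} {K L : Subgroup R} (h : KK p K) (hL : L ≤ K) : KK p L :=
  ⟨fun x hx y hy z hz => h.1 x (hL hx) y (hL hy) z (hL hz),
    fun x hx z hz => h.2 x (hL hx) z (hL hz)⟩

theorem KK.mul_pow {p : ℕ} (hp : p.Prime) (hp2 : p ≠ 2) {K : Subgroup R} (h : KK p K) {x y : R}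
    (hx : x ∈ K) (hy : y ∈ K) : (x * y) ^ p = x ^ p * y ^ p := by
  have hcx : Commute ⁅y, x⁆ x := h.1 y hy x hx x hx
  have hcy : Commute ⁅y, x⁆ y := h.1 y hy x hx y hy
  have h1 := Cfsg.Agent.lead.mul_pow_class2 x y ⁅y, x⁆ (Cfsg.Agent.lead.mul_eq_commutator_mul x y)
    hcx hcy p
  have h2 := Cfsg.Agent.lead.pow_mul_comm_class2 x y ⁅y, x⁆
    (Cfsg.Agent.lead.mul_eq_commutator_mul x y) hcy p
  have h3 : ⁅y, x⁆ ^ p = 1 := by
    have h4 : y ^ p * x = x * y ^ p := (h.2 y hy x hx).eq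
    rw [h4] at h2
    have := h2.symm
    rwa [mul_eq_right] at this
  obtain ⟨k, hk⟩ := hp.odd_of_ne_two hp2
  have h5 : p * (p - 1) / 2 = p * k := by
    have : p - 1 = 2 * k := by omega
    rw [this, ← mul_assoc, mul_comm p 2, mul_assoc, Nat.mul_div_cancel_left _ (by norm_num : 0 < 2)]
  rw [h1, h5, pow_mul, h3, one_pow, mul_one]

/-- the subgroup of p-th powers -/
def agemo {p : ℕ} (hp : p.Prime) (hp2 : p ≠ 2) (K : Subgroup R) (h : KK p K) : Subgroup R where
  carrier := {z | ∃ x ∈ K, x ^ p = z}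
  mul_mem' := by
    rintro _ _ ⟨x, hx, rfl⟩ ⟨y, hy, rfl⟩
    exact ⟨x * y, K.mul_mem hx hy, h.mul_pow hp hp2 hx hy⟩
  one_mem' := ⟨1, K.one_mem, one_pow _⟩
  inv_mem' := by
    rintro _ ⟨x, hx, rfl⟩
    exact ⟨x⁻¹, K.inv_mem hx, inv_pow _ _⟩

/-- the subgroup of elements of order dividing p -/
def omega {p : ℕ} (hp : p.Prime) (hp2 : p ≠ 2) (K : Subgroup R) (h : KK p K) : Subgroup R where
  carrier := {x | x ∈ K ∧ x ^ p = 1}
  mul_mem' := by
    rintro x y ⟨hx, hx1⟩ ⟨hy, hy1⟩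
    exact ⟨K.mul_mem hx hy, by rw [h.mul_pow hp hp2 hx hy, hx1, hy1, mul_one]⟩
  one_mem' := ⟨K.one_mem, one_pow _⟩
  inv_mem' := by
    rintro x ⟨hx, hx1⟩
    exact ⟨K.inv_mem hx, by rw [inv_pow, hx1, inv_one]⟩

theorem fix_of_fix_omega [Finite R] {p : ℕ} (hp : p.Prime) (hp2 : p ≠ 2) (hR : IsPGroup p R)
    (α : MulAut R) (n : ℕ) (hn : α ^ n = 1) (hco : n.Coprime p) :
    ∀ (N : ℕ) (K : Subgroup R), Nat.card K ≤ N → KK p K → (∀ x ∈ K, α x ∈ K) →
      (∀ x ∈ K, x ^ p = 1 → α x = x) → ∀ x ∈ K, α x = x := by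
  intro N
  induction N with
  | zero =>
    intro K hK
    have := Nat.card_pos (α := K)
    omega
  | succ N ih =>
    intro K hcard hKK hinv hfix
    have hle : agemo hp hp2 K hKK ≤ K := by
      rintro _ ⟨x, hx, rfl⟩
      exact K.pow_mem hx p
    rcases hle.lt_or_eq with hlt | heq
    · -- proper
      have hc : Nat.card (agemo hp hp2 K hKK) ≤ N := by
        have := Cfsg.Agent.helper4.Glaub.card_lt_of_lt hlt
        omega
      have hfixA : ∀ z ∈ agemo hp hp2 K hKK, α z = z := by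
        apply ih _ hc (hKK.mono hle)
        · rintro _ ⟨x, hx, rfl⟩
          exact ⟨α x, hinv x hx, by rw [map_pow]⟩
        · intro z hz hz1
          exact hfix z (hle hz) hz1
      intro x hx
      have hk : x⁻¹ * α x ∈ K := K.mul_mem (K.inv_mem hx) (hinv x hx)
      have hkp : (x⁻¹ * α x) ^ p = 1 := by
        rw [hKK.mul_pow hp hp2 (K.inv_mem hx) (hinv x hx), inv_pow, ← map_pow,
          hfixA _ ⟨x, hx, rfl⟩, inv_mul_cancel]
      refine fix_of_coprime α n hn hco x (hfix _ hk hkp) 1 ?_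
      rw [pow_one]; exact hkp
    · -- agemo = K : K trivial
      have hsurj : Function.Surjective (fun y : K => (⟨(y : R) ^ p, K.pow_mem y.2 p⟩ : K)) := by
        intro ⟨z, hz⟩
        have : z ∈ agemo hp hp2 K hKK := by rw [heq]; exact hz
        obtain ⟨x, hx, hxz⟩ := this
        exact ⟨⟨x, hx⟩, Subtype.ext hxz⟩
      have hinj := Finite.injective_iff_surjective.mpr hsurj
      have h1 : ∀ x ∈ K, x ^ p = 1 → x = 1 := by
        intro x hx hx1
        have := @hinj ⟨x, hx⟩ ⟨1, K.one_mem⟩ (Subtype.ext (by simp [hx1]))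
        exact congrArg Subtype.val this
      have h2 : ∀ m : ℕ, ∀ x ∈ K, x ^ (p ^ m) = 1 → x = 1 := by
        intro m
        induction m with
        | zero => intro x _ hx1; simpa using hx1
        | succ m ihm =>
          intro x hx hx1
          apply ihm x hx
          apply h1 _ (K.pow_mem hx _)
          rw [← pow_mul, ← pow_succ]; exact hx1
      intro x hx
      obtain ⟨m, hm⟩ := hR x
      rw [h2 m x hx hm, map_one]


/-- fixed subgroup of an automorphism -/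
def fixedSub (α : MulAut R) : Subgroup R where
  carrier := {x | α x = x}
  mul_mem' := by
    intro x y hx hy
    simp only [Set.mem_setOf_eq] at hx hy ⊢
    rw [map_mul, hx, hy]
  one_mem' := map_one α
  inv_mem' := by
    intro x hx
    simp only [Set.mem_setOf_eq] at hx ⊢
    rw [map_inv, hx]

theorem count [Finite R] {p q : ℕ} (hp : p.Prime) (hq : q.Prime) (hqp : q ≠ p) (hR : IsPGroup p R)
    (α : MulAut R) (hα : α ^ q = 1) (X : Subgroup R) (hX : ∀ x ∈ X, α x ∈ X)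
    (hne : ∃ x ∈ X, α x ≠ x) (hcard : Nat.card X ≤ p ^ 2 * Nat.card ↥(X ⊓ fixedSub α)) :
    q ∣ p ^ 2 - 1 := by
  classical
  haveI := Fintype.ofFinite X
  haveI : Fact q.Prime := ⟨hq⟩
  haveI : Fact p.Prime := ⟨hp⟩
  let f : Function.End X := fun x => ⟨α x, hX x x.2⟩
  have hfi : ∀ i : ℕ, ∀ x : X, (((f ^ i) x : X) : R) = (α ^ i) x := by
    intro i
    induction i with
    | zero => intro x; rfl
    | succ i ih =>
      intro x
      rw [pow_succ', pow_succ', MulAut.mul_apply, ← ih x]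
      rfl
  have hf : f ^ q ^ 1 = 1 := by
    rw [pow_one]
    funext x
    apply Subtype.ext
    rw [hfi, hα]
    rfl
  have h1 := Equiv.Perm.card_fixedPoints_modEq (f := f) hf
  rw [← Nat.card_eq_fintype_card, ← Nat.card_eq_fintype_card] at h1
  have h2 : Nat.card (Function.fixedPoints f) = Nat.card ↥(X ⊓ fixedSub α) := by
    apply Nat.card_congr
    refine ⟨fun x => ⟨x.1.1, Subgroup.mem_inf.mpr ⟨x.1.2, ?_⟩⟩,
      fun y => ⟨⟨y.1, (Subgroup.mem_inf.mp y.2).1⟩, ?_⟩, fun x => rfl, fun y => rfl⟩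
    · have := x.2
      exact congrArg Subtype.val this
    · apply Subtype.ext
      exact (Subgroup.mem_inf.mp y.2).2
  rw [h2] at h1
  -- index
  have hle : X ⊓ fixedSub α ≤ X := inf_le_left
  have hidx : (X ⊓ fixedSub α).relIndex X * Nat.card ↥(X ⊓ fixedSub α) = Nat.card X := by
    have := Subgroup.relIndex_mul_relIndex ⊥ (X ⊓ fixedSub α) X bot_le hle
    rw [Subgroup.relIndex_bot_left, Subgroup.relIndex_bot_left] at this
    rw [mul_comm]; exact this
  obtain ⟨k, hk⟩ : ∃ k, (X ⊓ fixedSub α).relIndex X = p ^ k := by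
    have hXp : IsPGroup p X := hR.to_subgroup X
    exact hXp.index _
  obtain ⟨e, he⟩ : ∃ e, Nat.card ↥(X ⊓ fixedSub α) = p ^ e :=
    (hR.to_subgroup _).exists_card_eq
  have hk1 : k ≠ 0 := by
    rintro rfl
    rw [pow_zero, Subgroup.relIndex_eq_one] at hk
    obtain ⟨x, hx, hxne⟩ := hne
    exact hxne (Subgroup.mem_inf.mp (hk hx)).2
  have hk2 : k ≤ 2 := by
    rw [← hidx, hk, mul_comm, mul_comm (p ^ 2)] at hcard
    have hpos : 0 < Nat.card ↥(X ⊓ fixedSub α) := Nat.card_pos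
    have := Nat.le_of_mul_le_mul_left hcard hpos
    exact (Nat.pow_le_pow_iff_right hp.one_lt).mp this
  -- q ∣ p^e * (p^k - 1)
  have h3 : q ∣ p ^ e * (p ^ k - 1) := by
    have h4 : Nat.card X = p ^ k * p ^ e := by rw [← hidx, hk, he]
    rw [h4, he] at h1
    have h5 := (Nat.modEq_iff_dvd' (by
      calc p ^ e = 1 * p ^ e := (one_mul _).symm
        _ ≤ p ^ k * p ^ e := Nat.mul_le_mul_right _ (Nat.one_le_pow _ _ hp.pos))).mp h1.symm
    have h6 : p ^ k * p ^ e - p ^ e = p ^ e * (p ^ k - 1) := by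
      rw [Nat.mul_sub, mul_one, mul_comm]
    rwa [h6] at h5
  have h7 : q ∣ p ^ k - 1 := by
    rcases (Nat.Prime.dvd_mul hq).mp h3 with h | h
    · exact absurd ((Nat.prime_dvd_prime_iff_eq hq hp).mp (hq.dvd_of_dvd_pow h)) hqp
    · exact h
  have hk3 : k = 1 ∨ k = 2 := by omega
  rcases hk3 with rfl | rfl
  · rw [pow_one] at h7
    have : p ^ 2 - 1 = (p - 1) * (p + 1) := by
      have := hp.pos
      obtain ⟨m, rfl⟩ : ∃ m, p = m + 1 := ⟨p - 1, by omega⟩
      simp only [Nat.add_sub_cancel]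
      ring_nf
      omega
    rw [this]
    exact Dvd.dvd.mul_right h7 _
  · exact h7


theorem card_le_of_fiber [Finite R] (D C : Subgroup R) (hCD : C ≤ D) {T : Type*} [Finite T]
    (f : D → T) (hf : ∀ g h : D, f g = f h → (g : R)⁻¹ * h ∈ C) :
    Nat.card D ≤ Nat.card C * Nat.card T := by
  have h1 := Subgroup.card_eq_card_quotient_mul_card_subgroup (C.subgroupOf D)
  have h2 : Nat.card (C.subgroupOf D) = Nat.card C :=
    Nat.card_congr (Subgroup.subgroupOfEquivOfLe hCD).toEquiv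
  have h3 : Nat.card (D ⧸ C.subgroupOf D) ≤ Nat.card T := by
    apply Nat.card_le_card_of_injective (fun q => f q.out)
    intro q q' h
    have := hf _ _ h
    rw [← QuotientGroup.out_eq' q, ← QuotientGroup.out_eq' q']
    apply QuotientGroup.eq.mpr
    exact Subgroup.mem_subgroupOf.mpr (by simpa using this)
  rw [h1, h2, mul_comm]; exact Nat.mul_le_mul_left _ h3

theorem bound [Finite R] {p : ℕ} (hp : p.Prime) (hR : IsPGroup p R) (hrk : PRankLE p 2 R)
    (D : Subgroup R) (hexp : ∀ x ∈ D, x ^ p = 1)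
    (hcl : ∀ x ∈ D, ∀ y ∈ D, ∀ z ∈ D, Commute ⁅x, y⁆ z) (a : R) (ha : a ∈ D)
    (haZ : a ∉ D ⊓ Subgroup.centralizer (D : Set R)) :
    Nat.card D ≤ p ^ 2 * Nat.card ↥(D ⊓ Subgroup.centralizer (D : Set R)) := by
  haveI : Fact p.Prime := ⟨hp⟩
  obtain ⟨Z, hZdef⟩ : ∃ Z, Z = D ⊓ Subgroup.centralizer (D : Set R) := ⟨_, rfl⟩
  rw [← hZdef] at haZ ⊢
  have hZD : Z ≤ D := hZdef ▸ inf_le_left
  have hZcent : ∀ z ∈ Z, ∀ d ∈ D, d * z = z * d := by
    intro z hz d hd
    rw [hZdef] at hz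
    exact Subgroup.mem_centralizer_iff.mp (Subgroup.mem_inf.mp hz).2 d hd
  have hZc : ∀ u ∈ Z, ∀ v ∈ Z, u * v = v * u := fun u hu v hv => (hZcent u hu v (hZD hv)).symm
  have haZc : ∀ z ∈ Z, a * z = z * a := fun z hz => hZcent z hz a ha
  have hAc := Cfsg.Agent.helper4.ZJ.sup_zpowers_comm Z a hZc haZc
  have hAp := Cfsg.Agent.helper4.ZJ.sup_zpowers_pow p Z a hZc haZc (fun z hz => hexp z (hZD hz))
    (hexp a ha)
  obtain ⟨A, hAdef⟩ : ∃ A, A = Z ⊔ Subgroup.zpowers a := ⟨_, rfl⟩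
  rw [← hAdef] at hAc hAp
  have hAD : A ≤ D := by
    rw [hAdef]; exact sup_le hZD (by rw [Subgroup.zpowers_le]; exact ha)
  have hAcard : Nat.card A ≤ p ^ 2 :=
    hrk A ⟨⟨fun u v => Subtype.ext (hAc u u.2 v v.2)⟩⟩ hAp
  have hZA : Z < A := by
    refine lt_of_le_of_ne (hAdef ▸ le_sup_left) ?_
    intro h
    apply haZ
    rw [h, hAdef]
    exact Subgroup.mem_sup_right (Subgroup.mem_zpowers a)
  -- Z nontrivial
  have hZne : Z ≠ ⊥ := by
    haveI : Nontrivial D := by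
      refine ⟨⟨a, ha⟩, 1, ?_⟩
      intro h
      apply haZ
      have : a = 1 := congrArg Subtype.val h
      rw [this]; exact Z.one_mem
    have hDp : IsPGroup p D := hR.to_subgroup D
    haveI := hDp.center_nontrivial
    obtain ⟨z, hz⟩ := exists_ne (1 : Subgroup.center D)
    intro hbot
    apply hz
    have hzZ : ((z : D) : R) ∈ Z := by
      rw [hZdef]
      refine Subgroup.mem_inf.mpr ⟨(z : D).2, ?_⟩
      rw [Subgroup.mem_centralizer_iff]
      intro d hd
      have := (Subgroup.mem_center_iff.mp z.2) ⟨d, hd⟩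
      exact congrArg Subtype.val this
    rw [hbot, Subgroup.mem_bot] at hzZ
    apply Subtype.ext
    apply Subtype.ext
    exact hzZ
  obtain ⟨i, hi⟩ := (hR.to_subgroup Z).exists_card_eq
  obtain ⟨j, hj⟩ := (hR.to_subgroup A).exists_card_eq
  have hi0 : i ≠ 0 := by
    rintro rfl
    rw [pow_zero] at hi
    exact hZne (Subgroup.eq_bot_of_card_eq Z hi)
  have hij : i < j := by
    have := Cfsg.Agent.helper4.Glaub.card_lt_of_lt hZA
    rw [hi, hj] at this
    exact (Nat.pow_lt_pow_iff_right hp.one_lt).mp this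
  have hj2 : j ≤ 2 := by
    rw [hj] at hAcard
    exact (Nat.pow_le_pow_iff_right hp.one_lt).mp hAcard
  have hj' : j = 2 := by omega
  have hi' : i = 1 := by omega
  subst hj' hi'
  -- centralizer of a in D
  obtain ⟨C, hCdef⟩ : ∃ C, C = D ⊓ Subgroup.centralizer ({a} : Set R) := ⟨_, rfl⟩
  have hCD : C ≤ D := hCdef ▸ inf_le_left
  have hCA : C ≤ A := by
    intro x hx
    rw [hCdef] at hx
    obtain ⟨hxD, hxa⟩ := Subgroup.mem_inf.mp hx
    have hxA : ∀ u ∈ A, x * u = u * x := by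
      have h1 : A ≤ Subgroup.centralizer ({x} : Set R) := by
        rw [hAdef]
        refine sup_le ?_ ?_
        · intro z hz
          rw [Subgroup.mem_centralizer_iff]
          intro y hy
          rw [Set.mem_singleton_iff] at hy
          rw [hy]
          exact hZcent z hz x hxD
        · rw [Subgroup.zpowers_le, Subgroup.mem_centralizer_iff]
          intro y hy
          rw [Set.mem_singleton_iff] at hy
          rw [hy]
          exact (Subgroup.mem_centralizer_iff.mp hxa a rfl).symm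
      intro u hu
      exact Subgroup.mem_centralizer_iff.mp (h1 hu) x rfl
    have hc2 := Cfsg.Agent.helper4.ZJ.sup_zpowers_comm A x hAc hxA
    have hp2 := Cfsg.Agent.helper4.ZJ.sup_zpowers_pow p A x hAc hxA hAp (hexp x hxD)
    have hcard2 : Nat.card ↥(A ⊔ Subgroup.zpowers x) ≤ p ^ 2 :=
      hrk _ ⟨⟨fun u v => Subtype.ext (hc2 u u.2 v v.2)⟩⟩ hp2
    have heq : A = A ⊔ Subgroup.zpowers x :=
      Subgroup.eq_of_le_of_card_ge le_sup_left (by rw [hj]; exact hcard2)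
    rw [heq]
    exact Subgroup.mem_sup_right (Subgroup.mem_zpowers x)
  have hCcard : Nat.card C ≤ p ^ 2 := hj ▸ Subgroup.card_le_of_le hCA
  have hfmem : ∀ g : D, ⁅(g : R), a⁆ ∈ Z := by
    intro g
    rw [hZdef]
    refine Subgroup.mem_inf.mpr ⟨?_, ?_⟩
    · rw [commutatorElement_def]
      exact D.mul_mem (D.mul_mem (D.mul_mem g.2 ha) (D.inv_mem g.2)) (D.inv_mem ha)
    · rw [Subgroup.mem_centralizer_iff]
      intro d hd
      exact ((hcl g g.2 a ha d hd).eq).symm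
  have h1 := card_le_of_fiber D C hCD (fun g : D => (⟨⁅(g : R), a⁆, hfmem g⟩ : Z)) (by
    intro g h hgh
    have h2 : ⁅(g : R), a⁆ = ⁅(h : R), a⁆ := congrArg Subtype.val hgh
    rw [hCdef]
    refine Subgroup.mem_inf.mpr ⟨D.mul_mem (D.inv_mem g.2) h.2, ?_⟩
    rw [Subgroup.mem_centralizer_iff]
    intro y hy
    rw [Set.mem_singleton_iff] at hy
    rw [hy]
    rw [commutatorElement_def, commutatorElement_def] at h2
    have h3 : (g : R) * a * (g : R)⁻¹ = (h : R) * a * (h : R)⁻¹ := by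
      have := congrArg (· * a) h2
      simpa using this
    calc a * ((g : R)⁻¹ * h) = (g : R)⁻¹ * ((g : R) * a * (g : R)⁻¹) * h := by group
      _ = (g : R)⁻¹ * ((h : R) * a * (h : R)⁻¹) * h := by rw [h3]
      _ = (g : R)⁻¹ * h * a := by group)
  calc Nat.card D ≤ Nat.card C * Nat.card Z := h1
    _ ≤ p ^ 2 * Nat.card Z := Nat.mul_le_mul_right _ hCcard


theorem lt_of_dvd_sq_sub_one {p q : ℕ} (hp : p.Prime) (hp2 : p ≠ 2) (hq : q.Prime)
    (h : q ∣ p ^ 2 - 1) : q < p := by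
  have hodd := hp.odd_of_ne_two hp2
  obtain ⟨k, hk⟩ := hodd
  have hk0 : k ≠ 0 := by
    rintro rfl
    rw [hk] at hp
    exact Nat.not_prime_one hp
  have hfac : p ^ 2 - 1 = (2 * k) * (2 * (k + 1)) := by
    rw [hk]
    have : (2 * k + 1) ^ 2 = (2 * k) * (2 * (k + 1)) + 1 := by ring
    rw [this, Nat.add_sub_cancel]
  rw [hfac] at h
  have h2 : q ∣ 2 ∨ q ∣ k ∨ q ∣ k + 1 := by
    rcases (Nat.Prime.dvd_mul hq).mp h with h | h
    · rcases (Nat.Prime.dvd_mul hq).mp h with h | h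
      · exact Or.inl h
      · exact Or.inr (Or.inl h)
    · rcases (Nat.Prime.dvd_mul hq).mp h with h | h
      · exact Or.inl h
      · exact Or.inr (Or.inr h)
  rcases h2 with h | h | h
  · have := Nat.le_of_dvd (by norm_num) h
    omega
  · have := Nat.le_of_dvd (by omega) h
    omega
  · have := Nat.le_of_dvd (by omega) h
    omega


/-- For odd p, a prime q ≠ p dividing the order of the automorphism group of a p-group of rank at most 2 divides p² - 1 and is less than p. -/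
theorem result {R : Type*} [Group R] [Finite R] {p : ℕ} [Fact p.Prime] (hp : p ≠ 2) (hR : IsPGroup p R) (hrk : Cfsg.PRankLE p 2 R) (q : ℕ) (hq : q.Prime) (hqp : q ≠ p) (hdvd : q ∣ Nat.card (MulAut R)) : q ∣ p ^ 2 - 1 ∧ q < p := by
  have hpp : p.Prime := Fact.out
  suffices hmain : q ∣ p ^ 2 - 1 from ⟨hmain, lt_of_dvd_sq_sub_one hpp hp hq hmain⟩
  haveI : Fact q.Prime := ⟨hq⟩
  obtain ⟨α, hαord⟩ := exists_prime_orderOf_dvd_card' q hdvd
  have hα : α ^ q = 1 := hαord ▸ pow_orderOf_eq_one α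
  have hco : q.Coprime p := (Nat.coprime_primes hq hpp).mpr hqp
  obtain ⟨H, hchar, hΦ, hHR, hC⟩ := Cfsg.Agent.S0093.result hR
  have hKK : KK p H := by
    constructor
    · intro x hx y _ z hz
      have h1 : ⁅x, y⁆ ∈ ⁅H, (⊤ : Subgroup R)⁆ :=
        Subgroup.commutator_mem_commutator hx (Subgroup.mem_top y)
      have h2 := (Subgroup.mem_inf.mp (hHR h1)).2
      exact ((Subgroup.mem_centralizer_iff.mp h2 z hz).symm)
    · intro x hx z hz
      have h1 : (⟨x, hx⟩ : H) ^ p ∈ frattini H :=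
        Cfsg.Agent.helper1.pow_mem_frattini_of_isPGroup (hR.to_subgroup H) _
      have h2 : x ^ p ∈ (frattini H).map H.subtype := ⟨_, h1, rfl⟩
      exact ((Subgroup.mem_centralizer_iff.mp (hΦ h2) z hz).symm)
  have hHinv : ∀ x ∈ H, α x ∈ H := by
    intro x hx
    have := hchar.fixed α
    rw [← this] at hx
    exact hx
  obtain ⟨D, hDdef⟩ : ∃ D, D = omega hpp hp H hKK := ⟨_, rfl⟩
  have hDmem : ∀ x, x ∈ D ↔ x ∈ H ∧ x ^ p = 1 := by
    intro x; rw [hDdef]; rfl
  have hex : ∃ x ∈ D, α x ≠ x := by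
    by_contra hcon
    push Not at hcon
    have hfixH := fix_of_fix_omega hpp hp hR α q hα hco (Nat.card H) H le_rfl hKK hHinv
      (fun x hx hx1 => hcon x ((hDmem x).mpr ⟨hx, hx1⟩))
    have h1 := trivial_of_fix_critical hR H hC α q hα hco hfixH
    rw [h1, orderOf_one] at hαord
    exact hq.one_lt.ne hαord
  have hDinv : ∀ x ∈ D, α x ∈ D := by
    intro x hx
    rw [hDmem] at hx ⊢
    exact ⟨hHinv x hx.1, by rw [← map_pow, hx.2, map_one]⟩
  have hDexp : ∀ x ∈ D, x ^ p = 1 := fun x hx => ((hDmem x).mp hx).2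
  have hDH : D ≤ H := fun x hx => ((hDmem x).mp hx).1
  have hDcl : ∀ x ∈ D, ∀ y ∈ D, ∀ z ∈ D, Commute ⁅x, y⁆ z :=
    fun x hx y hy z hz => hKK.1 x (hDH hx) y (hDH hy) z (hDH hz)
  have hDsurj : ∀ h ∈ D, ∃ h' ∈ D, α h' = h := by
    have hinj : Function.Injective (fun x : D => (⟨α x, hDinv x x.2⟩ : D)) := by
      intro x y hxy
      have : α x = α y := congrArg Subtype.val hxy
      exact Subtype.ext (α.injective this)
    have hsurj := Finite.surjective_of_injective hinj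
    intro h hh
    obtain ⟨x, hx⟩ := hsurj ⟨h, hh⟩
    exact ⟨x, x.2, congrArg Subtype.val hx⟩
  obtain ⟨Z, hZdef⟩ : ∃ Z, Z = D ⊓ Subgroup.centralizer (D : Set R) := ⟨_, rfl⟩
  have hZD : Z ≤ D := hZdef ▸ inf_le_left
  have hZcent : ∀ z ∈ Z, ∀ d ∈ D, d * z = z * d := by
    intro z hz d hd
    rw [hZdef] at hz
    exact Subgroup.mem_centralizer_iff.mp (Subgroup.mem_inf.mp hz).2 d hd
  by_cases hZ : ∃ z ∈ Z, α z ≠ z
  · -- case (i)
    have hZinv : ∀ z ∈ Z, α z ∈ Z := by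
      intro z hz
      rw [hZdef]
      refine Subgroup.mem_inf.mpr ⟨hDinv z (hZD hz), ?_⟩
      rw [Subgroup.mem_centralizer_iff]
      intro h hh
      obtain ⟨h', hh', rfl⟩ := hDsurj h hh
      rw [← map_mul, ← map_mul, hZcent z hz h' hh']
    have hZcard : Nat.card Z ≤ p ^ 2 :=
      hrk Z ⟨⟨fun u v => Subtype.ext ((hZcent u u.2 v (hZD v.2)).symm)⟩⟩
        (fun z hz => hDexp z (hZD hz))
    refine count hpp hq hqp hR α hα Z hZinv hZ ?_
    calc Nat.card Z ≤ p ^ 2 := hZcard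
      _ = p ^ 2 * 1 := (mul_one _).symm
      _ ≤ p ^ 2 * Nat.card ↥(Z ⊓ fixedSub α) := Nat.mul_le_mul_left _ Nat.card_pos
  · -- case (ii)
    push Not at hZ
    obtain ⟨x₀, hx₀D, hx₀⟩ := hex
    have hx₀Z : x₀ ∉ D ⊓ Subgroup.centralizer (D : Set R) := by
      rw [← hZdef]
      intro h
      exact hx₀ (hZ x₀ h)
    have hb := bound hpp hR hrk D hDexp hDcl x₀ hx₀D hx₀Z
    rw [← hZdef] at hb
    refine count hpp hq hqp hR α hα D hDinv ⟨x₀, hx₀D, hx₀⟩ ?_
    have hZF : Z ≤ D ⊓ fixedSub α := by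
      intro z hz
      exact Subgroup.mem_inf.mpr ⟨hZD hz, hZ z hz⟩
    calc Nat.card D ≤ p ^ 2 * Nat.card Z := hb
      _ ≤ p ^ 2 * Nat.card ↥(D ⊓ fixedSub α) :=
        Nat.mul_le_mul_left _ (Subgroup.card_le_of_le hZF)

end Cfsg.Agent.S0640
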