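import Mathlib
import Cfsg.Prelude.Def_PLocal
import Cfsg.Prelude.Def_OddOrderLocal
import Cfsg.Prelude.Def_CaseTheorems
import Cfsg.Agent.Lib_helper23_Bk6
import Cfsg.Agent.S0640

set_option autoImplicit false
set_option linter.style.haveILetI false
set_option linter.unusedSectionVars false
set_option maxHeartbeats 800000

namespace Cfsg.Agent.helper23

open scoped commutatorElement

universe u

variable {G : Type u} [Group G] [Finite G] {p : ℕ} [hp : Fact p.Prime]

theorem central_of_card_p (R N : Subgroup G) [hN : N.Normal] (hR : IsPGroup p R) (hNR : N ≤ R)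
    (hc : Nat.card N = p) : ∀ z ∈ N, ∀ r ∈ R, r * z = z * r := by
  have hNne : N ≠ ⊥ := by
    intro h; rw [h, Subgroup.card_bot] at hc; exact hp.out.one_lt.ne hc
  have hlt : ⁅N, R⁆ < N := commutator_lt_of_le_pgroup R N hR hNR hNne
  have hcl := card_lt_of_lt23 hlt
  have hdvd : Nat.card ↥⁅N, R⁆ ∣ p := by rw [← hc]; exact Subgroup.card_dvd_of_le hlt.le
  have h1 : Nat.card ↥⁅N, R⁆ = 1 := by
    rcases (Nat.dvd_prime hp.out).1 hdvd with h | h
    · exact h
    · rw [h, hc] at hcl; exact absurd hcl (lt_irrefl _)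
  have hbot : ⁅N, R⁆ = ⊥ := Subgroup.card_eq_one.1 h1
  rw [Subgroup.commutator_eq_bot_iff_le_centralizer] at hbot
  intro z hz r hr
  exact Subgroup.mem_centralizer_iff.1 (hbot hz) r hr

theorem rank2_core (hp5 : 5 ≤ p) (R A : Subgroup G) [hRn : R.Normal] (hR : IsPGroup p R)
    (hr : Cfsg.PRankLE p 2 R) (hcop : (Nat.card A).Coprime p) (hAodd : Odd (Nat.card A))
    (hRA : ⁅R, A⁆ = R) :
    IsMulCommutative R ∨ ∃ R₁ R₂ : Subgroup G, R₁ ⊔ R₂ = R ∧
      (∀ a ∈ R₁, ∀ b ∈ R₂, a * b = b * a) ∧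
        ¬ IsMulCommutative R₁ ∧ Nat.card R₁ = p ^ 3 ∧ Monoid.exponent R₁ = p ∧ IsCyclic R₂ ∧
        Subgroup.closure {x : G | x ∈ R₂ ∧ x ^ p = 1} = ⁅R₁, R₁⁆ := by
  have hp3 : 3 < p := by omega
  have hp2 : p ≠ 2 := by omega
  set E := omegaE hp3 R hR hr with hEdef
  have hER : E ≤ R := omegaE_le hp3 R hR hr
  have hEmem : ∀ g, g ∈ E ↔ g ∈ R ∧ g ^ p = 1 := mem_omegaE hp3 R hR hr
  by_cases hbig : p ^ 2 < Nat.card E
  swap
  · left
    push Not at hbig
    have hm := meta_of_omegaE_small hp5 hp3 R hR hr hbig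
    have hAN : A ≤ Subgroup.normalizer (R : Set G) := fun a _ => mem_normalizer_of_normal R a
    obtain ⟨hc, -⟩ := S1447.result p hp2 R A hR hm hAN hcop
    refine ⟨⟨fun x y => ?_⟩⟩
    apply Subtype.ext
    have hx : (x : G) ∈ ⁅R, A⁆ := by rw [hRA]; exact x.2
    have hy : (y : G) ∈ ⁅R, A⁆ := by rw [hRA]; exact y.2
    have h0 := congrArg Subtype.val (hc.is_comm.comm ⟨x, hx⟩ ⟨y, hy⟩)
    exact h0
  right
  obtain ⟨hEc, hEn⟩ := omegaE_big hp3 R hR hr hbig
  obtain ⟨Z, hZE, hZc, hZcomm, hZmem, hcomZ, hcommEE⟩ := es_center E hEc hEn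
  haveI hEnorm : E.Normal := omegaE_normal hp3 R hR hr
  by_cases htriv : ∀ r ∈ R, ∀ e ∈ E, ⁅r, e⁆ ∈ Z
  · have hsup := es_trivial_action R hR E Z hER hEc hEn hZc hZmem htriv
    obtain ⟨hCcyc, hCsec⟩ := es_centralizer_cyclic hp5 R hR E Z hEmem hZc hZmem
    refine ⟨E, R ⊓ Subgroup.centralizer (E : Set G), hsup, ?_, ?_, hEc, ?_, hCcyc, ?_⟩
    · intro a ha b hb
      exact Subgroup.mem_centralizer_iff.1 hb.2 a ha
    · intro hc
      apply hEn
      intro a b
      exact hc.is_comm.comm a b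
    · have hdvd : Monoid.exponent ↥E ∣ p := by
        apply Monoid.exponent_dvd_of_forall_pow_eq_one
        intro g
        apply Subtype.ext
        have := ((hEmem g.1).1 g.2).2
        simpa using this
      rcases (Nat.dvd_prime hp.out).1 hdvd with h | h
      · exfalso
        rw [Monoid.exp_eq_one_iff] at h
        have h1 : Nat.card ↥E = 1 := Nat.card_eq_one_iff_unique.2 ⟨h, ⟨1⟩⟩
        rw [hEc] at h1
        have : 1 < p ^ 3 := Nat.one_lt_pow (by norm_num) hp.out.one_lt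
        omega
      · exact h
    · rw [hcommEE]
      apply le_antisymm
      · rw [Subgroup.closure_le]
        intro x hx
        exact hCsec x hx.1 hx.2
      · intro z hz
        apply Subgroup.subset_closure
        refine ⟨⟨hER (hZE hz), ?_⟩, ((hEmem z).1 (hZE hz)).2⟩
        show z ∈ Subgroup.centralizer (E : Set G)
        rw [Subgroup.mem_centralizer_iff]
        intro e he
        exact hZcomm z hz e he
  · exfalso
    obtain ⟨c1, c2⟩ := es_chain R hR E Z hER hEc hZc hZmem htriv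
    obtain ⟨N₁, hN₁⟩ : ∃ N₁ : Subgroup G, N₁ = ⁅E, R⁆ := ⟨_, rfl⟩
    rw [← hN₁] at c1 c2
    obtain ⟨N₂, hN₂⟩ : ∃ N₂ : Subgroup G, N₂ = ⁅N₁, R⁆ := ⟨_, rfl⟩
    rw [← hN₂] at c2
    haveI hN1n : N₁.Normal := by rw [hN₁]; infer_instance
    haveI hN2n : N₂.Normal := by rw [hN₂]; infer_instance
    have hN1E : N₁ ≤ E := by rw [hN₁]; exact Subgroup.commutator_le_left E R
    have hN2N1 : N₂ ≤ N₁ := by rw [hN₂]; exact Subgroup.commutator_le_left N₁ R
    have hN2R : N₂ ≤ R := hN2N1.trans (hN1E.trans hER)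
    have hN2cent := central_of_card_p R N₂ hR hN2R c2
    have hN2Z : N₂ = Z := by
      have hle : N₂ ≤ Z := by
        intro g hg
        apply hZmem g (hN1E (hN2N1 hg))
        intro e he
        exact hN2cent g hg e (hER he)
      exact Subgroup.eq_of_le_of_card_ge hle (by rw [hZc, c2])
    haveI hZn : Z.Normal := hN2Z ▸ hN2n
    obtain ⟨D, hD⟩ : ∃ D : Subgroup G, D = R ⊓ Subgroup.centralizer (N₁ : Set G) := ⟨_, rfl⟩
    obtain ⟨K, hK⟩ : ∃ K : Subgroup G, K = R ⊓ secC E Z := ⟨_, rfl⟩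
    haveI hDn : D.Normal := by rw [hD]; infer_instance
    haveI hKn : K.Normal := by rw [hK]; infer_instance
    have hN1comm : ∀ x ∈ N₁, ∀ y ∈ N₁, x * y = y * x := by
      have h0 := IsPGroup.isMulCommutative_of_card_eq_prime_sq (p := p) (G := ↥N₁) c1
      intro x hx y hy
      exact congrArg Subtype.val (h0.is_comm.comm (⟨x, hx⟩ : ↥N₁) ⟨y, hy⟩)
    have ctx : BetaCtx p R E N₁ Z D K :=
      { nR := hRn, nE := hEnorm, nN := hN1n, nZ := hZn, nD := hDn, nK := hKn
        pR := hR, ER := hER, NE := hN1E, ZN := hN2Z ▸ hN2N1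
        cE := hEc, cN := c1, cZ := hZc
        expE := fun e he => ((hEmem e).1 he).2
        memE := fun x hx hxp => (hEmem x).2 ⟨hx, hxp⟩
        commN := hN1comm
        centZ := fun z hz r hr => hN2cent z (hN2Z ▸ hz) r hr
        memZ := hZmem
        EE := hcomZ
        RE := fun r hr e he => by
          have h1 : ⁅e, r⁆ ∈ N₁ := by rw [hN₁]; exact Subgroup.commutator_mem_commutator he hr
          have h2 : ⁅r, e⁆ = ⁅e, r⁆⁻¹ := (commutatorElement_inv e r).symm
          rw [h2]; exact N₁.inv_mem h1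
        RN := fun r hr y hy => by
          have h1 : ⁅y, r⁆ ∈ N₂ := by rw [hN₂]; exact Subgroup.commutator_mem_commutator hy hr
          have h2 : ⁅r, y⁆ = ⁅y, r⁆⁻¹ := (commutatorElement_inv y r).symm
          rw [h2, ← hN2Z]; exact N₂.inv_mem h1
        memD := fun g => by
          rw [hD, Subgroup.mem_inf, Subgroup.mem_centralizer_iff]
          constructor
          · rintro ⟨h1, h2⟩; exact ⟨h1, fun y hy => (h2 y hy).symm⟩
          · rintro ⟨h1, h2⟩; exact ⟨h1, fun y hy => (h2 y hy).symm⟩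
        memK := fun g => by rw [hK, Subgroup.mem_inf, mem_secC]
        nontriv := htriv }
    have hAelem : ∀ a ∈ A, a ∈ secC R K ∨ a ∈ secC R D := by
      intro a ha
      have hdvd : orderOf a ∣ Nat.card A := by
        have := orderOf_dvd_natCard (⟨a, ha⟩ : ↥A)
        rwa [Subgroup.orderOf_mk] at this
      have hodd : Odd (orderOf a) := hAodd.of_dvd_nat hdvd
      have hcopa : (orderOf a).Coprime p := Nat.Coprime.coprime_dvd_left hdvd hcop
      by_cases h : ∀ r ∈ R, ⁅a, r⁆ ∈ K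
      · left; exact h
      · right
        have hE := beta_elem hp5 ctx a hodd hcopa h
        obtain ⟨e₁, he₁, -, hgen⟩ := ctx.D_gen
        intro r hr
        obtain ⟨i, d, hd, rfl⟩ := hgen r hr
        rw [comm_mul_right_split]
        have h1 : ⁅a, e₁ ^ i⁆ ∈ D := ctx.N_le_D (hE _ (E.pow_mem he₁ i))
        have h2 : ⁅a, d⁆ ∈ D := by
          rw [commutatorElement_def]
          exact D.mul_mem (hDn.conj_mem d hd a) (D.inv_mem hd)
        exact D.mul_mem h1 (hDn.conj_mem _ h2 _)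
    rcases le_or_le_of_forall_mem A _ _ hAelem with h | h
    · have hle : ⁅R, A⁆ ≤ K := by
        rw [Subgroup.commutator_le]
        intro r hr a ha
        have h2 : ⁅r, a⁆ = ⁅a, r⁆⁻¹ := (commutatorElement_inv a r).symm
        rw [h2]; exact K.inv_mem (h ha r hr)
      rw [hRA] at hle
      exact ctx.K_ne_R (le_antisymm ctx.K_le_R hle)
    · have hle : ⁅R, A⁆ ≤ D := by
        rw [Subgroup.commutator_le]
        intro r hr a ha
        have h2 : ⁅r, a⁆ = ⁅a, r⁆⁻¹ := (commutatorElement_inv a r).symm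
        rw [h2]; exact D.inv_mem (h ha r hr)
      rw [hRA] at hle
      exact ctx.not_E_le_D (hER.trans hle)

end Cfsg.Agent.helper23
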