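import Mathlib
import Cfsg.Prelude.Def_PLocal
import Cfsg.Prelude.Def_OddOrderLocal
import Cfsg.Prelude.Def_CaseTheorems
import Cfsg.Agent.Lib_helper23_Bk7

set_option autoImplicit false
set_option linter.style.haveILetI false
set_option linter.unusedSectionVars false
set_option maxHeartbeats 800000

namespace Cfsg.Agent.helper23

open scoped commutatorElement

universe u

theorem p_gt_three {G : Type u} [Group G] [Finite G] {p : ℕ} [hp : Fact p.Prime] (hp2 : p ≠ 2)
    (R A : Subgroup G) (hR : IsPGroup p R) (hR1 : R ≠ ⊥) (hr : Cfsg.PRankLE p 2 R)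
    (hA : A ≤ Subgroup.normalizer (R : Set G)) (hcop : (Nat.card A).Coprime p)
    (hAodd : Odd (Nat.card A)) (hRA : ⁅R, A⁆ = R) : 3 < p := by
  have hex : ∃ a ∈ A, a ∉ Subgroup.centralizer (R : Set G) := by
    by_contra h
    push Not at h
    have hle : A ≤ Subgroup.centralizer (R : Set G) := h
    have hbot : ⁅R, A⁆ = ⊥ := by
      rw [Subgroup.commutator_comm, Subgroup.commutator_eq_bot_iff_le_centralizer]; exact hle
    rw [hRA] at hbot; exact hR1 hbot
  obtain ⟨a, haA, hac⟩ := hex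
  obtain ⟨φ, hφ⟩ : ∃ φ : MulAut ↥R, φ = R.normalizerMonoidHom ⟨a, hA haA⟩ := ⟨_, rfl⟩
  have hφ1 : φ ≠ 1 := by
    intro h
    apply hac
    have hker : (⟨a, hA haA⟩ : ↥(Subgroup.normalizer (R : Set G))) ∈
        R.normalizerMonoidHom.ker := by
      rw [MonoidHom.mem_ker, ← hφ]; exact h
    rw [Subgroup.normalizerMonoidHom_ker, Subgroup.mem_subgroupOf] at hker
    exact hker
  have hord1 : orderOf φ ≠ 1 := by rw [Ne, orderOf_eq_one_iff]; exact hφ1
  obtain ⟨q, hq, hqd⟩ := Nat.exists_prime_and_dvd hord1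
  have hdvdA : orderOf φ ∣ Nat.card A := by
    have h1 : orderOf φ ∣ orderOf (⟨a, hA haA⟩ : ↥(Subgroup.normalizer (R : Set G))) := by
      rw [hφ]; exact orderOf_map_dvd _ _
    have h2 : orderOf (⟨a, hA haA⟩ : ↥(Subgroup.normalizer (R : Set G))) = orderOf a :=
      Subgroup.orderOf_mk a _
    have h3 : orderOf a ∣ Nat.card A := by
      have := orderOf_dvd_natCard (⟨a, haA⟩ : ↥A)
      rwa [Subgroup.orderOf_mk] at this
    rw [h2] at h1; exact h1.trans h3
  have hqA : q ∣ Nat.card A := hqd.trans hdvdA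
  have hqp : q ≠ p := by
    intro h; rw [h] at hqA
    have := Nat.Coprime.eq_one_of_dvd hcop.symm hqA
    exact hp.out.one_lt.ne' this
  have hqaut : q ∣ Nat.card (MulAut ↥R) := hqd.trans (orderOf_dvd_natCard φ)
  obtain ⟨-, hlt⟩ := S0640.result hp2 hR hr q hq hqp hqaut
  have hq2 : q ≠ 2 := by
    intro h; rw [h] at hqA
    exact (Nat.not_even_iff_odd.2 hAodd) (even_iff_two_dvd.2 hqA)
  have := hq.two_le
  omega

theorem rank2_general {G : Type u} [Group G] [Finite G] {p : ℕ} [hp : Fact p.Prime]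
    (hp5 : 5 ≤ p) (R A : Subgroup G) (hR : IsPGroup p R) (hr : Cfsg.PRankLE p 2 R)
    (hA : A ≤ Subgroup.normalizer (R : Set G)) (hcop : (Nat.card A).Coprime p)
    (hAodd : Odd (Nat.card A)) (hRA : ⁅R, A⁆ = R) :
    IsMulCommutative R ∨ ∃ R₁ R₂ : Subgroup G, R₁ ⊔ R₂ = R ∧
      (∀ a ∈ R₁, ∀ b ∈ R₂, a * b = b * a) ∧
        ¬ IsMulCommutative R₁ ∧ Nat.card R₁ = p ^ 3 ∧ Monoid.exponent R₁ = p ∧ IsCyclic R₂ ∧
        Subgroup.closure {x : G | x ∈ R₂ ∧ x ^ p = 1} = ⁅R₁, R₁⁆ := by
  have hRN : R ≤ Subgroup.normalizer (R : Set G) := Subgroup.le_normalizer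
  haveI hRn' : (R.subgroupOf (Subgroup.normalizer (R : Set G))).Normal :=
    Subgroup.normal_in_normalizer
  have hR' : IsPGroup p (R.subgroupOf (Subgroup.normalizer (R : Set G))) :=
    hR.of_equiv (Subgroup.subgroupOfEquivOfLe hRN).symm
  have hr' : Cfsg.PRankLE p 2 (R.subgroupOf (Subgroup.normalizer (R : Set G))) :=
    prankLE_of_injective (Subgroup.subgroupOfEquivOfLe hRN).toMonoidHom
      (Subgroup.subgroupOfEquivOfLe hRN).injective hr
  have hcop' : (Nat.card (A.subgroupOf (Subgroup.normalizer (R : Set G)))).Coprime p := by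
    rw [Nat.card_congr (Subgroup.subgroupOfEquivOfLe hA).toEquiv]; exact hcop
  have hAodd' : Odd (Nat.card (A.subgroupOf (Subgroup.normalizer (R : Set G)))) := by
    rw [Nat.card_congr (Subgroup.subgroupOfEquivOfLe hA).toEquiv]; exact hAodd
  have hRA' : ⁅R.subgroupOf (Subgroup.normalizer (R : Set G)),
      A.subgroupOf (Subgroup.normalizer (R : Set G))⁆ =
      R.subgroupOf (Subgroup.normalizer (R : Set G)) := by
    apply Subgroup.map_injective (Subgroup.normalizer (R : Set G)).subtype_injective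
    rw [Subgroup.map_commutator, Subgroup.map_subgroupOf_eq_of_le hA,
      Subgroup.map_subgroupOf_eq_of_le hRN, hRA]
  rcases rank2_core hp5 (R.subgroupOf (Subgroup.normalizer (R : Set G)))
    (A.subgroupOf (Subgroup.normalizer (R : Set G))) hR' hr' hcop' hAodd' hRA' with h | h
  · left
    exact helper19.isMulCommutative_congr (Subgroup.subgroupOfEquivOfLe hRN) h
  · right
    obtain ⟨S₁, S₂, hsup, hcomm, hnc, hcard, hexp, hcyc, hcl⟩ := h
    obtain ⟨f, hf⟩ : ∃ f : ↥(Subgroup.normalizer (R : Set G)) →* G,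
      f = (Subgroup.normalizer (R : Set G)).subtype := ⟨_, rfl⟩
    have hfi : Function.Injective f := by
      rw [hf]; exact (Subgroup.normalizer (R : Set G)).subtype_injective
    refine ⟨S₁.map f, S₂.map f, ?_, ?_, ?_, ?_, ?_, ?_, ?_⟩
    · rw [← Subgroup.map_sup, hsup, hf, Subgroup.map_subgroupOf_eq_of_le hRN]
    · rintro _ ⟨a, ha, rfl⟩ _ ⟨b, hb, rfl⟩
      rw [← map_mul, ← map_mul, hcomm a ha b hb]
    · intro hc
      apply hnc
      exact helper19.isMulCommutative_congr (Subgroup.equivMapOfInjective S₁ f hfi).symm hc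
    · rw [Subgroup.card_map_of_injective hfi]; exact hcard
    · rw [← Monoid.exponent_eq_of_mulEquiv (Subgroup.equivMapOfInjective S₁ f hfi)]; exact hexp
    · haveI := hcyc
      exact isCyclic_of_surjective (Subgroup.equivMapOfInjective S₂ f hfi).toMonoidHom
        (Subgroup.equivMapOfInjective S₂ f hfi).surjective
    · rw [← Subgroup.map_commutator, ← hcl, MonoidHom.map_closure]
      congr 1
      ext x
      constructor
      · rintro ⟨⟨y, hy, rfl⟩, hxp⟩
        refine ⟨y, ⟨hy, ?_⟩, rfl⟩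
        apply hfi
        rw [map_pow, hxp, map_one]
      · rintro ⟨y, ⟨hy, hyp⟩, rfl⟩
        refine ⟨⟨y, hy, rfl⟩, ?_⟩
        rw [← map_pow, hyp, map_one]

end Cfsg.Agent.helper23
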