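import Mathlib

set_option autoImplicit false
set_option linter.deprecated false
set_option linter.style.haveILetI false

namespace Cfsg.Agent.helper23
universe u

theorem elemAb_basis_comm {Q : Type u} [CommGroup Q] [Finite Q] {p : ℕ} [hp : Fact p.Prime] (n : ℕ)
    (hpow : ∀ x : Q, x ^ p = 1) (hcard : Nat.card Q = p ^ n) :
    (∀ S : Set Q, Subgroup.closure S = ⊤ →
      ∃ T : Set Q, T ⊆ S ∧ T.ncard = n ∧ Subgroup.closure T = ⊤) ∧
    (∀ T : Finset Q, Subgroup.closure (T : Set Q) = ⊤ → n ≤ T.card) := by
  classical
  have hpa : ∀ a : Additive Q, p • a = 0 := fun a => by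
    change Additive.ofMul ((Additive.toMul a) ^ p) = 0
    rw [hpow]; rfl
  obtain ⟨inst⟩ : Nonempty (Module (ZMod p) (Additive Q)) := ⟨AddCommGroup.zmodModule hpa⟩
  haveI : Module.Finite (ZMod p) (Additive Q) := Module.Finite.of_finite
  have hfin : Module.finrank (ZMod p) (Additive Q) = n := by
    have h1 : Nat.card (Additive Q) = p ^ Module.finrank (ZMod p) (Additive Q) := by
      have := Module.natCard_eq_pow_finrank (K := ZMod p) (V := Additive Q)
      rwa [Nat.card_zmod] at this
    have h2 : Nat.card (Additive Q) = p ^ n := hcard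
    exact Nat.pow_right_injective hp.out.two_le (h1.symm.trans h2)
  have hA : ∀ S : Set Q, Subgroup.closure S = ⊤ →
      Submodule.span (ZMod p) (Additive.ofMul '' S) = ⊤ := by
    intro S hS
    rw [Submodule.eq_top_iff']
    intro v
    have hv : Additive.toMul v ∈ Subgroup.closure S := by rw [hS]; exact Subgroup.mem_top _
    have key : ∀ x : Q, x ∈ Subgroup.closure S →
        Additive.ofMul x ∈ Submodule.span (ZMod p) (Additive.ofMul '' S) := by
      intro x hx
      induction hx using Subgroup.closure_induction with
      | mem x hx => exact Submodule.subset_span ⟨x, hx, rfl⟩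
      | one => exact Submodule.zero_mem _
      | mul x y _ _ hx hy => exact Submodule.add_mem _ hx hy
      | inv x _ hx => exact Submodule.neg_mem _ hx
    exact key _ hv
  have hB : ∀ T : Set Q, Submodule.span (ZMod p) (Additive.ofMul '' T) = ⊤ →
      Subgroup.closure T = ⊤ := by
    intro T hT
    rw [Subgroup.eq_top_iff']
    intro x
    have hx : Additive.ofMul x ∈ Submodule.span (ZMod p) (Additive.ofMul '' T) := by
      rw [hT]; exact Submodule.mem_top
    have key : ∀ v : Additive Q, v ∈ Submodule.span (ZMod p) (Additive.ofMul '' T) →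
        Additive.toMul v ∈ Subgroup.closure T := by
      intro v hv
      induction hv using Submodule.span_induction with
      | mem v hv =>
        obtain ⟨t, ht, rfl⟩ := hv
        exact Subgroup.subset_closure ht
      | zero => exact Subgroup.one_mem _
      | add v w _ _ hv hw => exact Subgroup.mul_mem _ hv hw
      | smul a v _ hv =>
        have h1 : a • v = a.val • v := by
          conv_lhs => rw [← ZMod.natCast_zmod_val a]
          exact Nat.cast_smul_eq_nsmul (ZMod p) a.val v
        rw [h1, toMul_nsmul]
        exact Subgroup.pow_mem _ hv _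
    exact key _ hx
  refine ⟨?_, ?_⟩
  · intro S hS
    obtain ⟨b, hbs, hbspan, hbli⟩ := exists_linearIndependent (ZMod p) (Additive.ofMul '' S)
    have hbtop : Submodule.span (ZMod p) b = ⊤ := by rw [hbspan]; exact hA S hS
    haveI : Fintype b := Fintype.ofFinite b
    have hcardb : b.ncard = n := by
      have h1 : Module.finrank (ZMod p) (Submodule.span (ZMod p) b) = b.toFinset.card :=
        finrank_span_set_eq_card (by exact hbli)
      rw [hbtop, finrank_top, hfin] at h1
      rw [Set.ncard_eq_toFinset_card', ← h1]
    refine ⟨Additive.toMul '' b, ?_, ?_, ?_⟩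
    · rintro _ ⟨v, hv, rfl⟩
      obtain ⟨s, hs, rfl⟩ := hbs hv
      exact hs
    · rw [Set.ncard_image_of_injective b Additive.toMul.injective, hcardb]
    · apply hB
      have : Additive.ofMul '' (Additive.toMul '' b) = b := by
        rw [Set.image_image]; simp
      rw [this]; exact hbtop
  · intro T hT
    have h1 := hA _ hT
    have h2 : ((T.image Additive.ofMul : Finset (Additive Q)) : Set (Additive Q)).finrank (ZMod p)
        ≤ (T.image Additive.ofMul).card := finrank_span_finset_le_card _
    rw [Set.finrank, Finset.coe_image, h1, finrank_top, hfin] at h2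
    exact h2.trans Finset.card_image_le

/-- Elementary abelian `p`-group of order `p ^ n`: every generating set contains `n` generators;
every generating set has at least `n` elements. -/
theorem elemAb_basis {Q : Type u} [Group Q] [Finite Q] {p : ℕ} [hp : Fact p.Prime] (n : ℕ)
    (hc : ∀ a b : Q, a * b = b * a) (hpow : ∀ x : Q, x ^ p = 1) (hcard : Nat.card Q = p ^ n) :
    (∀ S : Set Q, Subgroup.closure S = ⊤ →
      ∃ T : Set Q, T ⊆ S ∧ T.ncard = n ∧ Subgroup.closure T = ⊤) ∧
    (∀ T : Finset Q, Subgroup.closure (T : Set Q) = ⊤ → n ≤ T.card) :=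
  @elemAb_basis_comm Q { ‹Group Q› with mul_comm := hc } _ p hp n hpow hcard

end Cfsg.Agent.helper23
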