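import Mathlib
import Cfsg.Prelude.Def_Characters
import Cfsg.Agent.Lib_helper23_ClassSum
import Cfsg.Agent.Lib_helper24_Char

set_option autoImplicit false

namespace Cfsg.Agent.helper23

open Cfsg.Agent.helper24
open scoped ComplexConjugate

/-- If no product of a conjugate of `x` and a conjugate of `w` is conjugate to `z`, the
structure-constant character sum vanishes. -/
theorem sum_mul_conj_eq_zero {G : Type*} [Group G] [Fintype G] [Fintype (Cfsg.IrrCharacter G)]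
    (x w z : G) (hno : ∀ g h : G, ¬ IsConj (g * x * g⁻¹ * (h * w * h⁻¹)) z) :
    ∑ χ : Cfsg.IrrCharacter G,
      (χ : G → ℂ) x * (χ : G → ℂ) w * conj ((χ : G → ℂ) z) / (χ : G → ℂ) 1 = 0 := by
  classical
  have hcard : (Nat.card G : ℂ) ≠ 0 := by
    have : Nat.card G ≠ 0 := Nat.card_pos.ne'
    exact_mod_cast this
  have h1 : ∑ g : G, ∑ h : G, ∑ χ : Cfsg.IrrCharacter G,
      (χ : G → ℂ) (g * x * g⁻¹ * (h * w * h⁻¹)) * conj ((χ : G → ℂ) z) = 0 := by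
    apply Finset.sum_eq_zero
    intro g _
    apply Finset.sum_eq_zero
    intro h _
    rw [irr_column_orthogonality, if_neg (hno g h)]
  have h3 : ∀ χ : Cfsg.IrrCharacter G, ∑ g : G, ∑ h : G,
      (χ : G → ℂ) (g * x * g⁻¹ * (h * w * h⁻¹)) * conj ((χ : G → ℂ) z) =
      (Nat.card G : ℂ) ^ 2 *
        ((χ : G → ℂ) x * (χ : G → ℂ) w * conj ((χ : G → ℂ) z) / (χ : G → ℂ) 1) := by
    intro χ
    have hcw : ∀ a : G, (χ : G → ℂ) (a * w * a⁻¹) = (χ : G → ℂ) w :=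
      fun a => char_isClassFunction (irr_isCharacter χ.2) w a
    have h1ne : (χ : G → ℂ) 1 ≠ 0 := irr_apply_one_ne_zero χ.2
    rw [Finset.sum_comm]
    have h4 : ∀ h : G, ∑ g : G,
        (χ : G → ℂ) (g * x * g⁻¹ * (h * w * h⁻¹)) * conj ((χ : G → ℂ) z) =
        (Nat.card G : ℂ) * (χ : G → ℂ) x * (χ : G → ℂ) w / (χ : G → ℂ) 1 *
          conj ((χ : G → ℂ) z) := by
      intro h
      rw [← Finset.sum_mul, irr_sum_conj_mul χ x, hcw]
    simp_rw [h4]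
    rw [Finset.sum_const, Finset.card_univ, nsmul_eq_mul, Fintype.card_eq_nat_card]
    field_simp
  have h2 : ∑ g : G, ∑ h : G, ∑ χ : Cfsg.IrrCharacter G,
      (χ : G → ℂ) (g * x * g⁻¹ * (h * w * h⁻¹)) * conj ((χ : G → ℂ) z) =
      ∑ χ : Cfsg.IrrCharacter G, (Nat.card G : ℂ) ^ 2 *
        ((χ : G → ℂ) x * (χ : G → ℂ) w * conj ((χ : G → ℂ) z) / (χ : G → ℂ) 1) := by
    calc ∑ g : G, ∑ h : G, ∑ χ : Cfsg.IrrCharacter G,
          (χ : G → ℂ) (g * x * g⁻¹ * (h * w * h⁻¹)) * conj ((χ : G → ℂ) z)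
        = ∑ g : G, ∑ χ : Cfsg.IrrCharacter G, ∑ h : G,
          (χ : G → ℂ) (g * x * g⁻¹ * (h * w * h⁻¹)) * conj ((χ : G → ℂ) z) :=
          Finset.sum_congr rfl (fun g _ => Finset.sum_comm)
      _ = ∑ χ : Cfsg.IrrCharacter G, ∑ g : G, ∑ h : G,
          (χ : G → ℂ) (g * x * g⁻¹ * (h * w * h⁻¹)) * conj ((χ : G → ℂ) z) := Finset.sum_comm
      _ = _ := Finset.sum_congr rfl (fun χ _ => h3 χ)
  rw [h2, ← Finset.mul_sum] at h1
  rcases mul_eq_zero.mp h1 with h | h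
  · exact absurd ((pow_eq_zero_iff (two_ne_zero)).mp h) hcard
  · exact h

/-- Summed over a subgroup `P`: if no product of a conjugate of `x` and a conjugate of `w`
is conjugate to a non-identity element of `P`, then
`∑ χ, χ x * χ w * (|P| * d χ) / χ 1 = ∑ χ, χ x * χ w`, where `∑_{y ∈ P} χ y = |P| * d χ`. -/
theorem sum_mul_subgroup_eq {G : Type*} [Group G] [Fintype G] [Fintype (Cfsg.IrrCharacter G)]
    (x w : G) (P : Subgroup G) [Fintype P] (d : Cfsg.IrrCharacter G → ℕ)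
    (hd : ∀ χ : Cfsg.IrrCharacter G, ∑ y : P, (χ : G → ℂ) y = (Nat.card P : ℂ) * d χ)
    (hno : ∀ z ∈ P, z ≠ 1 → ∀ g h : G, ¬ IsConj (g * x * g⁻¹ * (h * w * h⁻¹)) z) :
    ∑ χ : Cfsg.IrrCharacter G,
      (χ : G → ℂ) x * (χ : G → ℂ) w * ((Nat.card P : ℂ) * d χ) / (χ : G → ℂ) 1 =
    ∑ χ : Cfsg.IrrCharacter G, (χ : G → ℂ) x * (χ : G → ℂ) w := by
  classical
  have hS : ∀ z : P, z ≠ 1 → ∑ χ : Cfsg.IrrCharacter G,
      (χ : G → ℂ) x * (χ : G → ℂ) w * conj ((χ : G → ℂ) z) / (χ : G → ℂ) 1 = 0 := by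
    intro z hz
    apply sum_mul_conj_eq_zero
    apply hno z z.2
    intro h
    apply hz
    exact Subtype.ext h
  have hconj1 : ∀ χ : Cfsg.IrrCharacter G, conj ((χ : G → ℂ) 1) = (χ : G → ℂ) 1 := by
    intro χ
    obtain ⟨n, hn⟩ := char_apply_one (irr_isCharacter χ.2)
    rw [hn, Complex.conj_natCast]
  have h1 : ∑ z : P, ∑ χ : Cfsg.IrrCharacter G,
      (χ : G → ℂ) x * (χ : G → ℂ) w * conj ((χ : G → ℂ) z) / (χ : G → ℂ) 1 =
      ∑ χ : Cfsg.IrrCharacter G, (χ : G → ℂ) x * (χ : G → ℂ) w := by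
    rw [Finset.sum_eq_single (1 : P)]
    · apply Finset.sum_congr rfl
      intro χ _
      have h1ne : (χ : G → ℂ) 1 ≠ 0 := irr_apply_one_ne_zero χ.2
      rw [Subgroup.coe_one, hconj1 χ]
      field_simp
    · intro z _ hz
      exact hS z hz
    · intro h
      exact absurd (Finset.mem_univ _) h
  rw [← h1, Finset.sum_comm]
  apply Finset.sum_congr rfl
  intro χ _
  have hsumconj : ∑ z : P, conj ((χ : G → ℂ) z) = (Nat.card P : ℂ) * d χ := by
    rw [← map_sum, hd χ, map_mul, Complex.conj_natCast, Complex.conj_natCast]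
  rw [← hsumconj, Finset.mul_sum, Finset.sum_div]

end Cfsg.Agent.helper23
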