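import Mathlib
import Cfsg.Agent.Lib_helper23_Hall

set_option autoImplicit false
open Cfsg
open scoped Pointwise

universe u

namespace Cfsg.Agent.helper23

section SylowSys

theorem index_inf_of_coprime {G : Type*} [Group G] [Finite G] (A B : Subgroup G)
    (h : A.index.Coprime B.index) : (A ⊓ B).index = A.index * B.index := by
  have h1 : A.index ∣ (A ⊓ B).index := Subgroup.index_dvd_of_le inf_le_left
  have h2 : B.index ∣ (A ⊓ B).index := Subgroup.index_dvd_of_le inf_le_right
  have h3 : A.index * B.index ∣ (A ⊓ B).index := Nat.Coprime.mul_dvd_of_dvd_of_dvd h h1 h2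
  have h4 : (A ⊓ B).index ≤ A.index * B.index := Subgroup.index_inf_le
  exact Nat.le_antisymm h4
    (Nat.le_of_dvd (Nat.pos_of_ne_zero Subgroup.index_ne_zero_of_finite) h3)

theorem coe_mul_eq_of_card {G : Type*} [Group G] [Finite G] (A B T : Subgroup G) (hA : A ≤ T)
    (hB : B ≤ T) (hcard : Nat.card A * Nat.card B = Nat.card T)
    (hcop : (Nat.card A).Coprime (Nat.card B)) :
    (A : Set G) * (B : Set G) = (T : Set G) := by
  apply Set.Subset.antisymm
  · rintro _ ⟨a, ha, b, hb, rfl⟩
    exact T.mul_mem (hA ha) (hB hb)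
  · intro t ht
    have hcA : Nat.card (A.subgroupOf T) = Nat.card A :=
      Nat.card_congr (Subgroup.subgroupOfEquivOfLe hA).toEquiv
    have hcB : Nat.card (B.subgroupOf T) = Nat.card B :=
      Nat.card_congr (Subgroup.subgroupOfEquivOfLe hB).toEquiv
    have hc : Subgroup.IsComplement' (A.subgroupOf T) (B.subgroupOf T) :=
      Subgroup.isComplement'_of_coprime (by rw [hcA, hcB, hcard]) (by rw [hcA, hcB]; exact hcop)
    obtain ⟨⟨⟨a, ha⟩, ⟨b, hb⟩⟩, hab⟩ := hc.2 (⟨t, ht⟩ : T)
    exact ⟨a, Subgroup.mem_subgroupOf.1 ha, b, Subgroup.mem_subgroupOf.1 hb,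
      congrArg Subtype.val hab⟩

/-- Sylow systems in finite solvable groups (subgroup form). -/
theorem exists_sylow_system_aux {G : Type u} [Group G] [Finite G] [Group.IsSolvable G] (n : ℕ)
    (hn : Nat.card G = n) :
    ∃ S : ℕ → Subgroup G, (∀ p : ℕ, p.Prime → Nat.card (S p) = p ^ n.factorization p) ∧
      ∀ p q : ℕ, p.Prime → q.Prime →
        ((S p : Subgroup G) : Set G) * ((S q : Subgroup G) : Set G) =
          ((S q : Subgroup G) : Set G) * ((S p : Subgroup G) : Set G) := by
  classical
  have hn0 : n ≠ 0 := by rw [← hn]; exact Nat.card_pos.ne'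
  have hH : ∀ q : ℕ, q.Prime → ∃ H : Subgroup G, H.index = q ^ n.factorization q := by
    intro q hq
    have hfac : n / q ^ n.factorization q * q ^ n.factorization q = n := by
      rw [mul_comm]; exact Nat.ordProj_mul_ordCompl_eq_self n q
    have hcop : (n / q ^ n.factorization q).Coprime (q ^ n.factorization q) :=
      (Nat.Coprime.pow_left _ (Nat.coprime_ordCompl hq hn0)).symm
    obtain ⟨H, hHc⟩ := hall_exists (G := G) _ _ (hn.trans hfac.symm) hcop
    refine ⟨H, ?_⟩
    have h1 := H.index_mul_card
    rw [hHc, hn] at h1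
    have hpos : 0 < n / q ^ n.factorization q := by
      apply Nat.pos_of_ne_zero
      intro h0
      rw [h0, zero_mul] at hfac
      exact hn0 hfac.symm
    apply Nat.eq_of_mul_eq_mul_right hpos
    rw [h1, mul_comm]; exact hfac.symm
  choose! H hHidx using hH
  have hD : ∀ T : Finset ℕ, (∀ q ∈ T, q.Prime) →
      (T.inf H).index = ∏ q ∈ T, q ^ n.factorization q := by
    intro T
    induction T using Finset.induction_on with
    | empty => intro _; simp
    | insert q T hqT ih =>
      intro hT
      have hq : q.Prime := hT q (Finset.mem_insert_self q T)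
      have hT' : ∀ r ∈ T, r.Prime := fun r hr => hT r (Finset.mem_insert_of_mem hr)
      have hcop : (H q).index.Coprime (T.inf H).index := by
        rw [hHidx q hq, ih hT']
        apply Nat.Coprime.prod_right
        intro r hr
        have hne : q ≠ r := fun h => hqT (h ▸ hr)
        exact Nat.Coprime.pow _ _ ((Nat.coprime_primes hq (hT' r hr)).2 hne)
      rw [Finset.inf_insert, Finset.prod_insert hqT, index_inf_of_coprime _ _ hcop, hHidx q hq,
        ih hT']
  have hPπ : ∏ q ∈ n.primeFactors, q ^ n.factorization q = n := by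
    have h1 := Nat.prod_factorization_pow_eq_self hn0
    rwa [Finsupp.prod, Nat.support_factorization] at h1
  have hPerase : ∀ (T : Finset ℕ) (q : ℕ), (q ∈ T ∨ n.factorization q = 0) →
      (∏ r ∈ T.erase q, r ^ n.factorization r) * q ^ n.factorization q =
        ∏ r ∈ T, r ^ n.factorization r := by
    intro T q h
    by_cases hq : q ∈ T
    · rw [mul_comm]; exact Finset.mul_prod_erase T (fun r => r ^ n.factorization r) hq
    · have h0 : n.factorization q = 0 := h.resolve_left hq
      rw [Finset.erase_eq_of_notMem hq, h0, pow_zero, mul_one]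
  have hcard_of : ∀ (X : Subgroup G) (P c : ℕ), X.index = P → P * c = n → Nat.card X = c := by
    intro X P c h1 h2
    have h3 := X.index_mul_card
    rw [h1, hn, ← h2] at h3
    have hP : 0 < P := by
      rcases Nat.eq_zero_or_pos P with h0 | h0
      · rw [h0, zero_mul] at h2; exact absurd h2.symm hn0
      · exact h0
    exact Nat.eq_of_mul_eq_mul_left hP h3
  have hmem_or : ∀ (q : ℕ), q ∈ n.primeFactors ∨ n.factorization q = 0 := by
    intro q
    by_cases hq : q ∈ n.primeFactors
    · exact Or.inl hq
    · right
      rw [← Nat.support_factorization] at hq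
      exact Finsupp.notMem_support_iff.1 hq
  have hprime_erase : ∀ p : ℕ, ∀ q ∈ n.primeFactors.erase p, q.Prime :=
    fun p q hq => Nat.prime_of_mem_primeFactors (Finset.mem_of_mem_erase hq)
  have hScard : ∀ p : ℕ, p.Prime →
      Nat.card ((n.primeFactors.erase p).inf H : Subgroup G) = p ^ n.factorization p := by
    intro p _
    apply hcard_of _ _ _ (hD _ (hprime_erase p))
    rw [hPerase _ p (hmem_or p), hPπ]
  refine ⟨fun p => (n.primeFactors.erase p).inf H, hScard, ?_⟩
  intro p q hp hq
  by_cases hpq : p = q
  · rw [hpq]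
  · -- the common overgroup
    have hprimeT : ∀ r ∈ (n.primeFactors.erase p).erase q, r.Prime :=
      fun r hr => hprime_erase p r (Finset.mem_of_mem_erase hr)
    have hq_or : q ∈ n.primeFactors.erase p ∨ n.factorization q = 0 := by
      rcases hmem_or q with h | h
      · exact Or.inl (Finset.mem_erase.2 ⟨fun h' => hpq h'.symm, h⟩)
      · exact Or.inr h
    have hTcard : Nat.card (((n.primeFactors.erase p).erase q).inf H : Subgroup G) =
        p ^ n.factorization p * q ^ n.factorization q := by
      apply hcard_of _ _ _ (hD _ hprimeT)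
      have h1 := hPerase (n.primeFactors.erase p) q hq_or
      have h2 := hPerase n.primeFactors p (hmem_or p)
      rw [hPπ] at h2
      have h3 : (∏ r ∈ (n.primeFactors.erase p).erase q, r ^ n.factorization r) *
          q ^ n.factorization q * p ^ n.factorization p = n := by rw [h1]; exact h2
      calc (∏ r ∈ (n.primeFactors.erase p).erase q, r ^ n.factorization r) *
            (p ^ n.factorization p * q ^ n.factorization q)
          = (∏ r ∈ (n.primeFactors.erase p).erase q, r ^ n.factorization r) *
            q ^ n.factorization q * p ^ n.factorization p := by ring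
        _ = n := h3
    have hSpT : ((n.primeFactors.erase p).inf H : Subgroup G) ≤
        ((n.primeFactors.erase p).erase q).inf H :=
      Finset.inf_mono (Finset.erase_subset q _)
    have hSqT : ((n.primeFactors.erase q).inf H : Subgroup G) ≤
        ((n.primeFactors.erase p).erase q).inf H :=
      Finset.inf_mono (Finset.erase_subset_erase q (Finset.erase_subset p _))
    have hcop : (p ^ n.factorization p).Coprime (q ^ n.factorization q) :=
      Nat.Coprime.pow _ _ ((Nat.coprime_primes hp hq).2 hpq)
    have e1 := coe_mul_eq_of_card _ _ _ hSpT hSqT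
      (by rw [hScard p hp, hScard q hq, hTcard]) (by rw [hScard p hp, hScard q hq]; exact hcop)
    have e2 := coe_mul_eq_of_card _ _ _ hSqT hSpT
      (by rw [hScard p hp, hScard q hq, hTcard, mul_comm])
      (by rw [hScard p hp, hScard q hq]; exact hcop.symm)
    rw [e1, e2]

theorem exists_sylow_system {G : Type u} [Group G] [Finite G] [Group.IsSolvable G] :
    ∃ S : (p : Nat.Primes) → Sylow (p : ℕ) G,
      ∀ p q : Nat.Primes, (S p : Set G) * (S q : Set G) = (S q : Set G) * (S p : Set G) := by
  obtain ⟨S, hS1, hS2⟩ := exists_sylow_system_aux (G := G) (Nat.card G) rfl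
  haveI : ∀ p : Nat.Primes, Fact (p : ℕ).Prime := fun p => ⟨p.2⟩
  refine ⟨fun p => Sylow.ofCard (S p) (hS1 p p.2), fun p q => ?_⟩
  have h1 := hS2 p q p.2 q.2
  exact h1

end SylowSys

end Cfsg.Agent.helper23
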