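import Mathlib
import Cfsg.Prelude.Def_SolvableStructure
import Cfsg.Agent.Lib_helper23_PSolv

set_option autoImplicit false
set_option linter.deprecated false
set_option linter.style.haveILetI false

namespace Cfsg.Agent.helper23
universe u

/-- If `D` normalizes `K` then `|D : D ∩ K|` divides `|G : K|`. -/
theorem relIndex_dvd_index_of_le_normalizer {G : Type*} [Group G] {K D : Subgroup G}
    (h : D ≤ Subgroup.normalizer (K : Set G)) : K.relIndex D ∣ K.index := by
  obtain ⟨N, hN⟩ : ∃ N : Subgroup G, N = Subgroup.normalizer (K : Set G) := ⟨_, rfl⟩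
  have hKN : K ≤ N := hN ▸ Subgroup.le_normalizer
  have hDN : D ≤ N := hN ▸ h
  haveI : (K.subgroupOf N).Normal := by rw [hN]; exact Subgroup.normal_in_normalizer
  have h1 : (K.subgroupOf N).relIndex (D.subgroupOf N) = K.relIndex D :=
    Subgroup.relIndex_subgroupOf hDN
  have h2 : (K.subgroupOf N).relIndex (D.subgroupOf N) ∣ (K.subgroupOf N).index :=
    Subgroup.relIndex_dvd_index_of_normal _ _
  have h3 : K.relIndex N * N.index = K.index := Subgroup.relIndex_mul_index hKN
  rw [← h1]
  exact h2.trans ⟨N.index, h3.symm⟩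

/-- Order of a member of a complement system is prime to `p`. -/
theorem not_dvd_card_complement {G : Type u} [Group G] [Finite G] {K : Nat.Primes → Subgroup G}
    (hK : Cfsg.IsComplementSystem K) (q : Nat.Primes) : ¬ (q : ℕ) ∣ Nat.card (K q) := by
  intro hdvd
  have hn0 : Nat.card G ≠ 0 := Nat.card_pos.ne'
  have h1 : Nat.card (K q) * (q : ℕ) ^ (Nat.card G).factorization q = Nat.card G := by
    rw [← hK q]; exact Subgroup.card_mul_index _
  have hppos : 0 < (q : ℕ) ^ (Nat.card G).factorization q := pow_pos q.2.pos _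
  have h3 : Nat.card (K q) = Nat.card G / (q : ℕ) ^ (Nat.card G).factorization q :=
    (Nat.div_eq_of_eq_mul_left hppos h1.symm).symm
  rw [h3] at hdvd
  exact Nat.not_dvd_ordCompl q.2 hn0 hdvd

/-- The system normalizer of a complement system is nilpotent. -/
theorem systemNormalizer_nilpotent {G : Type u} [Group G] [Finite G] (K : Nat.Primes → Subgroup G)
    (hK : Cfsg.IsComplementSystem K) : Group.IsNilpotent (Cfsg.systemNormalizer K) := by
  classical
  obtain ⟨D, hD⟩ : ∃ D : Subgroup G, D = Cfsg.systemNormalizer K := ⟨_, rfl⟩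
  rw [← hD]
  have hDle : ∀ q : Nat.Primes, D ≤ Subgroup.normalizer (K q : Set G) := by
    intro q; rw [hD]; exact iInf_le _ q
  have hCn : ∀ q : Nat.Primes, ((K q).subgroupOf D).Normal :=
    fun q => Subgroup.normal_subgroupOf_of_le_normalizer (hDle q)
  have hCidx : ∀ q : Nat.Primes,
      ((K q).subgroupOf D).index ∣ (q : ℕ) ^ (Nat.card G).factorization q := by
    intro q
    have := relIndex_dvd_index_of_le_normalizer (hDle q)
    rw [hK q] at this
    exact this
  have hiff : Group.IsNilpotent D ↔ ∀ (p : ℕ) (_hp : Fact p.Prime) (P : Sylow p D),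
      (↑P : Subgroup D).Normal := (Group.isNilpotent_of_finite_tfae (G := D)).out 0 3
  rw [hiff]
  intro p hp P
  obtain ⟨T, hT⟩ : ∃ T : Subgroup D,
      T = ⨅ q : {q : Nat.Primes // (q : ℕ) ≠ p}, (K q.1).subgroupOf D := ⟨_, rfl⟩
  haveI hTn : T.Normal := by
    rw [hT]
    exact Subgroup.normal_iInf_normal (fun q => hCn q.1)
  have hPT : (P : Subgroup D) ≤ T := by
    rw [hT]
    refine le_iInf (fun q => ?_)
    haveI := hCn q.1
    apply sylow_le_of_not_dvd_index _ P
    intro hdvd
    have h1 := hp.out.dvd_of_dvd_pow (hdvd.trans (hCidx q.1))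
    exact q.2 ((Nat.prime_dvd_prime_iff_eq hp.out q.1.2).mp h1).symm
  have hTp : IsPGroup p T := by
    have hcard : ∀ d : ℕ, d.Prime → d ∣ Nat.card T → d = p := by
      intro d hd hdvd
      by_contra hne
      have hTle : T ≤ (K ⟨d, hd⟩).subgroupOf D := by
        rw [hT]
        exact iInf_le _ (⟨⟨d, hd⟩, hne⟩ : {q : Nat.Primes // (q : ℕ) ≠ p})
      have h1 : Nat.card T ∣ Nat.card ((K ⟨d, hd⟩).subgroupOf D) := Subgroup.card_dvd_of_le hTle
      have h2 : Nat.card ((K ⟨d, hd⟩).subgroupOf D) ∣ Nat.card (K ⟨d, hd⟩) := by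
        rw [← Subgroup.card_map_of_injective (K := (K ⟨d, hd⟩).subgroupOf D)
          D.subtype_injective, Subgroup.subgroupOf_map_subtype]
        exact Subgroup.card_dvd_of_le inf_le_left
      exact not_dvd_card_complement hK ⟨d, hd⟩ (hdvd.trans (h1.trans h2))
    have := Nat.eq_prime_pow_of_unique_prime_dvd (n := Nat.card T) (p := p) Nat.card_pos.ne'
      (fun {d} hd hdvd => hcard d hd hdvd)
    exact IsPGroup.of_card this
  have hTP : T = (P : Subgroup D) := P.3 hTp hPT
  rw [← hTP]; exact hTn

end Cfsg.Agent.helper23
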