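import Mathlib
import Cfsg.Prelude.Def_SolvableStructure
import Cfsg.Agent.Lib_helper23_SysNorm
import Cfsg.Agent.Lib_helper23_Hall
import Cfsg.Agent.Lib_helper23_SylowSys
import Cfsg.Agent.Lib_helper23_HallConv
import Cfsg.Agent.Lib_helper21_Basic
import Cfsg.Agent.Lib_helper3_Basic

set_option autoImplicit false
set_option linter.deprecated false
set_option linter.style.haveILetI false

namespace Cfsg.Agent.helper23
universe u
open scoped Pointwise

/-- For `N` normal, `|N : N ∩ K|` divides `|G : K|`. -/
theorem relIndex_dvd_index_of_normal_right {G : Type*} [Group G] [Finite G] (K N : Subgroup G)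
    [N.Normal] : K.relIndex N ∣ K.index := by
  have h1 := card_sup_mul_card_inf K N
  have h2 : Nat.card (K ⊓ N : Subgroup G) * K.relIndex N = Nat.card N := by
    have := Subgroup.relIndex_mul_relIndex ⊥ (K ⊓ N) N bot_le inf_le_right
    rwa [Subgroup.relIndex_bot_left, Subgroup.relIndex_bot_left,
      Subgroup.inf_relIndex_right] at this
  have h3 : Nat.card K * K.relIndex (K ⊔ N) = Nat.card (K ⊔ N : Subgroup G) := by
    have := Subgroup.relIndex_mul_relIndex ⊥ K (K ⊔ N) bot_le le_sup_left
    rwa [Subgroup.relIndex_bot_left, Subgroup.relIndex_bot_left] at this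
  have h4 : K.relIndex (K ⊔ N) = K.relIndex N := by
    have hpos : 0 < Nat.card K * Nat.card (K ⊓ N : Subgroup G) :=
      Nat.mul_pos Nat.card_pos Nat.card_pos
    have e : Nat.card K * Nat.card (K ⊓ N : Subgroup G) * K.relIndex (K ⊔ N) =
        Nat.card K * Nat.card (K ⊓ N : Subgroup G) * K.relIndex N := by
      calc Nat.card K * Nat.card (K ⊓ N : Subgroup G) * K.relIndex (K ⊔ N)
          = (Nat.card K * K.relIndex (K ⊔ N)) * Nat.card (K ⊓ N : Subgroup G) := by ring
        _ = Nat.card (K ⊔ N : Subgroup G) * Nat.card (N ⊓ K : Subgroup G) := by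
            rw [h3, inf_comm]
        _ = Nat.card K * Nat.card N := h1
        _ = Nat.card K * (Nat.card (K ⊓ N : Subgroup G) * K.relIndex N) := by rw [h2]
        _ = _ := by ring
    exact Nat.eq_of_mul_eq_mul_left hpos e
  rw [← h4]
  exact Subgroup.relIndex_dvd_index_of_le le_sup_left

/-- Image of a `p`-complement in a quotient is a `p`-complement. -/
theorem index_map_of_index_eq {G : Type u} [Group G] [Finite G] {p : ℕ} (hp : p.Prime)
    {H : Subgroup G} (hH : H.index = p ^ (Nat.card G).factorization p)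
    (M : Subgroup G) [M.Normal] :
    (H.map (QuotientGroup.mk' M)).index = p ^ (Nat.card (G ⧸ M)).factorization p := by
  have h1 : (H.map (QuotientGroup.mk' M)).index ∣ H.index :=
    Subgroup.index_map_dvd H (QuotientGroup.mk'_surjective M)
  rw [hH] at h1
  obtain ⟨j, -, hj⟩ := (Nat.dvd_prime_pow hp).1 h1
  have h2 : Nat.card (H.map (QuotientGroup.mk' M)) ∣ Nat.card H := Subgroup.card_map_dvd H _
  have hcop : (Nat.card (H.map (QuotientGroup.mk' M))).Coprime p :=
    Nat.Coprime.coprime_dvd_left h2 (card_coprime_of_index_eq hp hH)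
  have h3 := Subgroup.index_mul_card (H.map (QuotientGroup.mk' M))
  have h4 : (Nat.card (G ⧸ M)).factorization p = j := by
    rw [← h3, hj, Nat.factorization_mul (pow_ne_zero _ hp.ne_zero) Nat.card_pos.ne',
      Finsupp.add_apply, hp.factorization_pow, Finsupp.single_apply, if_pos rfl]
    have : (Nat.card (H.map (QuotientGroup.mk' M))).factorization p = 0 := by
      apply Nat.factorization_eq_zero_of_not_dvd
      intro hd
      have := Nat.Coprime.eq_one_of_dvd hcop.symm hd
      exact hp.one_lt.ne' this
    rw [this, add_zero]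
  rw [h4, hj]

/-- Prime divisors of the index of an intersection of subgroups of prime-power indices. -/
theorem index_finset_inf_primes {G : Type*} [Group G] [Finite G] (A : Nat.Primes → Subgroup G)
    (e : Nat.Primes → ℕ) (hA : ∀ p, (A p).index ∣ (p : ℕ) ^ e p) (S : Finset Nat.Primes) :
    ∀ r : ℕ, r.Prime → r ∣ (S.inf A).index → ∃ p ∈ S, (p : ℕ) = r := by
  classical
  induction S using Finset.induction_on with
  | empty =>
    intro r hr hdvd
    rw [Finset.inf_empty, Subgroup.index_top] at hdvd
    exact absurd (Nat.dvd_one.mp hdvd) hr.one_lt.ne'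
  | insert a S ha ih =>
    intro r hr hdvd
    rw [Finset.inf_insert] at hdvd
    have hcop : (A a).index.Coprime (S.inf A).index := by
      apply Nat.coprime_of_dvd
      intro k hk hk1 hk2
      have hka : k = (a : ℕ) :=
        (Nat.prime_dvd_prime_iff_eq hk a.2).mp (hk.dvd_of_dvd_pow (hk1.trans (hA a)))
      obtain ⟨p, hpS, hpk⟩ := ih k hk hk2
      apply ha
      have : p = a := Subtype.ext (hpk.trans hka)
      rw [← this]; exact hpS
    rw [index_inf_of_coprime _ _ hcop] at hdvd
    rcases (Nat.Prime.dvd_mul hr).mp hdvd with h1 | h1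
    · refine ⟨a, Finset.mem_insert_self a S, ?_⟩
      exact ((Nat.prime_dvd_prime_iff_eq hr a.2).mp
        (hr.dvd_of_dvd_pow (h1.trans (hA a)))).symm
    · obtain ⟨p, hpS, hpr⟩ := ih r hr h1
      exact ⟨p, Finset.mem_insert_of_mem hpS, hpr⟩

/-- Chinese-remainder type statement: if `x ∈ A_p N` for all `p ∈ S`, with `A_p` of `p`-power
index and `N` normal, then `x ∈ (⋂ A_p) N`. -/
theorem mem_finset_inf_sup_normal {G : Type*} [Group G] [Finite G] (A : Nat.Primes → Subgroup G)
    (e : Nat.Primes → ℕ) (hA : ∀ p, (A p).index ∣ (p : ℕ) ^ e p) (N : Subgroup G) [N.Normal]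
    (S : Finset Nat.Primes) :
    ∀ x : G, (∀ p ∈ S, x ∈ A p ⊔ N) → x ∈ S.inf A ⊔ N := by
  classical
  induction S using Finset.induction_on with
  | empty =>
    intro x _
    rw [Finset.inf_empty, top_sup_eq]; exact Subgroup.mem_top x
  | insert a S ha ih =>
    intro x hx
    have hxT := ih x (fun p hp => hx p (Finset.mem_insert_of_mem hp))
    have hxa := hx a (Finset.mem_insert_self a S)
    rw [← SetLike.mem_coe, Subgroup.mul_normal] at hxT hxa
    obtain ⟨t, ht, m, hm, e1⟩ := hxT
    obtain ⟨b, hb, m', hm', e2⟩ := hxa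
    have e1 : t * m = x := e1
    have e2 : b * m' = x := e2
    have hm0 : b⁻¹ * t ∈ N := by
      have h1 : b⁻¹ * t = m' * m⁻¹ := by
        have h2 : t = b * m' * m⁻¹ := by rw [e2, ← e1]; group
        rw [h2]; group
      rw [h1]; exact N.mul_mem hm' (N.inv_mem hm)
    have hcop : ((S.inf A).subgroupOf N).index.Coprime ((A a).subgroupOf N).index := by
      have h1 : ((S.inf A).subgroupOf N).index ∣ (S.inf A).index :=
        relIndex_dvd_index_of_normal_right _ N
      have h2 : ((A a).subgroupOf N).index ∣ (a : ℕ) ^ e a :=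
        (relIndex_dvd_index_of_normal_right _ N).trans (hA a)
      apply Nat.coprime_of_dvd
      intro k hk hk1 hk2
      have hka : k = (a : ℕ) :=
        (Nat.prime_dvd_prime_iff_eq hk a.2).mp (hk.dvd_of_dvd_pow (hk2.trans h2))
      obtain ⟨p, hpS, hpk⟩ := index_finset_inf_primes A e hA S k hk (hk1.trans h1)
      apply ha
      have : p = a := Subtype.ext (hpk.trans hka)
      rw [← this]; exact hpS
    obtain ⟨β, hβ, α, hα, hαβ⟩ :=
      helper21.exists_mul_of_coprime_index _ _ hcop (⟨b⁻¹ * t, hm0⟩ : N)
    have hβ' : (β : G) ∈ A a := Subgroup.mem_subgroupOf.mp hβ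
    have hα' : (α : G) ∈ S.inf A := Subgroup.mem_subgroupOf.mp hα
    have hαβ' : b⁻¹ * t = (β : G) * (α : G) := congrArg Subtype.val hαβ
    have hc : t * (α : G)⁻¹ = b * (β : G) := by
      have h2 : t = b * ((β : G) * (α : G)) := by rw [← hαβ']; group
      rw [h2]; group
    have hcmem : t * (α : G)⁻¹ ∈ (insert a S).inf A := by
      rw [Finset.inf_insert]
      refine Subgroup.mem_inf.mpr ⟨?_, ?_⟩
      · rw [hc]; exact (A a).mul_mem hb hβ'
      · exact (S.inf A).mul_mem ht ((S.inf A).inv_mem hα')
    have hx' : x = (t * (α : G)⁻¹) * ((α : G) * m) := by rw [← e1]; group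
    rw [hx']
    exact Subgroup.mul_mem_sup hcmem (N.mul_mem α.2 hm)

/-- If `K_p^x ≤ K_p N` then `x ∈ N_G(K_p) N` (Hall conjugacy inside `K_p N`). -/
theorem mem_normalizer_sup_of_conj_le {G : Type u} [Group G] [Finite G] [Group.IsSolvable G]
    {K : Nat.Primes → Subgroup G} (hK : Cfsg.IsComplementSystem K) (N : Subgroup G) [N.Normal]
    (p : Nat.Primes) (x : G) (hx : MulAut.conj x • K p ≤ K p ⊔ N) :
    x ∈ Subgroup.normalizer (K p : Set G) ⊔ N := by
  classical
  obtain ⟨H, hH⟩ : ∃ H : Subgroup G, H = K p ⊔ N := ⟨_, rfl⟩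
  rw [← hH] at hx
  have hKH : K p ≤ H := hH ▸ le_sup_left
  have hcardA : Nat.card ((K p).subgroupOf H) = Nat.card (K p) := by
    rw [← Subgroup.card_map_of_injective (K := (K p).subgroupOf H) H.subtype_injective,
      Subgroup.subgroupOf_map_subtype, inf_of_le_left hKH]
  have hcardB : Nat.card ((MulAut.conj x • K p).subgroupOf H) = Nat.card (K p) := by
    rw [← Subgroup.card_map_of_injective (K := (MulAut.conj x • K p).subgroupOf H)
      H.subtype_injective, Subgroup.subgroupOf_map_subtype, inf_of_le_left hx,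
      helper3.card_conj_smul]
  have hridx : (K p).relIndex H ∣ (p : ℕ) ^ (Nat.card G).factorization p := by
    rw [← hK p]; exact Subgroup.relIndex_dvd_index_of_le hKH
  obtain ⟨j, -, hj⟩ := (Nat.dvd_prime_pow p.2).mp hridx
  have hcardH : Nat.card H = Nat.card (K p) * (p : ℕ) ^ j := by
    have h1 : Nat.card ((K p).subgroupOf H) * (K p).relIndex H = Nat.card H :=
      Subgroup.card_mul_index ((K p).subgroupOf H)
    rw [hcardA, hj] at h1
    exact h1.symm
  have hcop : (Nat.card (K p)).Coprime ((p : ℕ) ^ j) :=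
    Nat.Coprime.pow_right _ (card_coprime_of_index_eq p.2 (hK p))
  obtain ⟨g, hg⟩ := hall_conj (G := H) _ _ hcardH hcop _ _ hcardA hcardB
  have hle : MulAut.conj x • K p ≤ MulAut.conj (g : G) • K p := by
    intro y hy
    have hyH : y ∈ H := hx hy
    have h1 : (⟨y, hyH⟩ : H) ∈ (MulAut.conj x • K p).subgroupOf H :=
      Subgroup.mem_subgroupOf.mpr hy
    rw [← hg, helper3.mem_conj_smul_iff] at h1
    rw [helper3.mem_conj_smul_iff]
    exact Subgroup.mem_subgroupOf.mp h1
  have heq : MulAut.conj x • K p = MulAut.conj (g : G) • K p :=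
    Subgroup.eq_of_le_of_card_ge hle (by rw [helper3.card_conj_smul, helper3.card_conj_smul])
  have hnorm : (g : G)⁻¹ * x ∈ Subgroup.normalizer (K p : Set G) := by
    rw [← helper3.conj_smul_eq_self_iff, map_mul, mul_smul, heq, map_inv, inv_smul_smul]
  have hgmem : (g : G) ∈ Subgroup.normalizer (K p : Set G) ⊔ N := by
    have h1 : (g : G) ∈ K p ⊔ N := hH ▸ g.2
    exact (sup_le_sup_right Subgroup.le_normalizer N) h1
  have h2 : x = (g : G) * ((g : G)⁻¹ * x) := by group
  rw [h2]
  exact Subgroup.mul_mem _ hgmem (Subgroup.mem_sup_left hnorm)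

/-- System normalizers map onto system normalizers of quotients. -/
theorem systemNormalizer_map {G : Type u} [Group G] [Finite G] [Group.IsSolvable G]
    (K : Nat.Primes → Subgroup G) (hK : Cfsg.IsComplementSystem K) (N : Subgroup G) [N.Normal] :
    Cfsg.IsComplementSystem (fun p => (K p).map (QuotientGroup.mk' N)) ∧
    Cfsg.systemNormalizer (fun p => (K p).map (QuotientGroup.mk' N)) =
      (Cfsg.systemNormalizer K).map (QuotientGroup.mk' N) := by
  classical
  refine ⟨fun p => index_map_of_index_eq p.2 (hK p) N, ?_⟩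
  apply le_antisymm
  · intro y hy
    obtain ⟨x, rfl⟩ := QuotientGroup.mk'_surjective N y
    have hxp : ∀ p : Nat.Primes, x ∈ Subgroup.normalizer (K p : Set G) ⊔ N := by
      intro p
      apply mem_normalizer_sup_of_conj_le hK N p x
      intro z hz
      have hy' : QuotientGroup.mk' N x ∈ Subgroup.normalizer
          (((K p).map (QuotientGroup.mk' N) : Subgroup (G ⧸ N)) : Set (G ⧸ N)) :=
        (Subgroup.mem_iInf.mp hy) p
      rw [helper3.mem_conj_smul_iff] at hz
      have h1 : QuotientGroup.mk' N (x⁻¹ * z * x) ∈ (K p).map (QuotientGroup.mk' N) :=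
        Subgroup.mem_map_of_mem _ hz
      have h2 := (Subgroup.mem_normalizer_iff.mp hy' _).mp h1
      have h3 : QuotientGroup.mk' N x * QuotientGroup.mk' N (x⁻¹ * z * x) *
          (QuotientGroup.mk' N x)⁻¹ = QuotientGroup.mk' N z := by
        rw [← map_inv, ← map_mul, ← map_mul]; congr 1; group
      rw [h3] at h2
      have h4 : z ∈ ((K p).map (QuotientGroup.mk' N)).comap (QuotientGroup.mk' N) := h2
      rw [Subgroup.comap_map_eq, QuotientGroup.ker_mk'] at h4
      exact h4
    have hmem := mem_finset_inf_sup_normal (fun p => Subgroup.normalizer (K p : Set G))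
      (fun p => (Nat.card G).factorization p)
      (fun p => by rw [← hK p]; exact Subgroup.index_dvd_of_le Subgroup.le_normalizer) N
      (Finset.subtype Nat.Prime (Nat.card G).primeFactors : Finset Nat.Primes) x
      (fun p _ => hxp p)
    rw [← SetLike.mem_coe, Subgroup.mul_normal] at hmem
    obtain ⟨c, hc, m, hm, e⟩ := hmem
    have e : c * m = x := e
    have hcD : c ∈ Cfsg.systemNormalizer K := by
      unfold Cfsg.systemNormalizer
      rw [Subgroup.mem_iInf]
      intro p
      by_cases hp : p ∈ (Finset.subtype Nat.Prime (Nat.card G).primeFactors : Finset Nat.Primes)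
      · have hle : (Finset.subtype Nat.Prime (Nat.card G).primeFactors : Finset Nat.Primes).inf
            (fun p : Nat.Primes => Subgroup.normalizer (K p : Set G)) ≤
            Subgroup.normalizer (K p : Set G) :=
          Finset.inf_le (f := fun p : Nat.Primes => Subgroup.normalizer (K p : Set G)) hp
        exact hle hc
      · have hp' : ¬ ((p : ℕ) ∈ (Nat.card G).primeFactors) :=
          fun h => hp (Finset.mem_subtype.mpr h)
        rw [Nat.mem_primeFactors] at hp'
        have hnd : ¬ (p : ℕ) ∣ Nat.card G := fun hd => hp' ⟨p.2, hd, Nat.card_pos.ne'⟩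
        have hf : (Nat.card G).factorization p = 0 := Nat.factorization_eq_zero_of_not_dvd hnd
        have hKt : K p = ⊤ := by
          have := hK p
          rw [hf, pow_zero] at this
          exact Subgroup.index_eq_one.mp this
        rw [hKt]
        have h5 : Subgroup.normalizer (((⊤ : Subgroup G)) : Set G) = ⊤ :=
          Subgroup.normalizer_eq_top_iff.mpr inferInstance
        rw [h5]; exact Subgroup.mem_top c
    refine ⟨c, hcD, ?_⟩
    rw [← e, map_mul]
    have h6 : QuotientGroup.mk' N m = 1 := (QuotientGroup.eq_one_iff m).mpr hm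
    rw [h6, mul_one]
  · unfold Cfsg.systemNormalizer
    refine le_iInf (fun p => ?_)
    calc (⨅ p : Nat.Primes, Subgroup.normalizer (K p : Set G)).map (QuotientGroup.mk' N)
        ≤ (Subgroup.normalizer (K p : Set G)).map (QuotientGroup.mk' N) :=
          Subgroup.map_mono (iInf_le _ p)
      _ ≤ Subgroup.normalizer
          (((K p).map (QuotientGroup.mk' N) : Subgroup (G ⧸ N)) : Set (G ⧸ N)) :=
          Subgroup.le_normalizer_map _

end Cfsg.Agent.helper23
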