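import Mathlib
import Cfsg.Prelude.Def_SolvableStructure
import Cfsg.Agent.Lib_helper23_SysNorm2
import Cfsg.Agent.Lib_helper23_PSolv3
import Cfsg.Agent.Lib_helper23_Wielandt
import Cfsg.Agent.Lib_helper1_Core
import Cfsg.Agent.Lib_helper1_PCenter
import Cfsg.Agent.Lib_helper18_SolvPrim

set_option autoImplicit false
set_option linter.deprecated false
set_option linter.style.haveILetI false

namespace Cfsg.Agent.helper23
universe u
open scoped Pointwise commutatorElement

/-- A system normalizer avoids every non-central minimal normal subgroup. -/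
theorem inf_systemNormalizer_eq_bot {G : Type u} [Group G] [Finite G] [Group.IsSolvable G]
    (K : Nat.Primes → Subgroup G) (hK : Cfsg.IsComplementSystem K) (N : Subgroup G)
    [hNn : N.Normal] (hNb : N ≠ ⊥)
    (hNmin : ∀ X : Subgroup G, X.Normal → X ≤ N → X = ⊥ ∨ X = N)
    (hNc : ¬ N ≤ Subgroup.center G) : N ⊓ Cfsg.systemNormalizer K = ⊥ := by
  classical
  have hNab := helper18.SolvPrim.comm_of_minimal_normal N hNb hNmin
  obtain ⟨p, hp, hNexp⟩ := helper18.SolvPrim.exists_prime_exponent N hNb hNmin hNab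
  haveI : Fact p.Prime := ⟨hp⟩
  have hNp : IsPGroup p N := by
    intro ⟨x, hx⟩
    refine ⟨1, ?_⟩
    apply Subtype.ext
    rw [pow_one, Subgroup.coe_pow, Subgroup.coe_one]
    exact hNexp x hx
  obtain ⟨C, hC⟩ : ∃ C : Subgroup G, C = Subgroup.centralizer (N : Set G) := ⟨_, rfl⟩
  haveI hCn : C.Normal := by rw [hC]; infer_instance
  have hCcomm : ∀ c ∈ C, ∀ x ∈ N, x * c = c * x := by
    intro c hc x hx
    rw [hC, Subgroup.mem_centralizer_iff] at hc
    exact hc x hx
  have hCtop : C ≠ ⊤ := by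
    intro h
    apply hNc
    intro x hx
    rw [Subgroup.mem_center_iff]
    intro g
    have hg : g ∈ C := by rw [h]; exact Subgroup.mem_top g
    exact (hCcomm g hg x hx).symm
  have hfix : ∀ R : Subgroup G, R.Normal → ¬ R ≤ C →
      N ⊓ Subgroup.centralizer (R : Set G) = ⊥ := by
    intro R hRn hRC
    haveI := hRn
    have hn : (N ⊓ Subgroup.centralizer (R : Set G)).Normal := inferInstance
    rcases hNmin _ hn inf_le_left with h0 | h0
    · exact h0
    · exfalso
      apply hRC
      have h1 : N ≤ Subgroup.centralizer (R : Set G) := by rw [← h0]; exact inf_le_right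
      rw [hC]
      exact Subgroup.le_centralizer_iff.mp h1
  haveI : Nontrivial (G ⧸ C) := by
    rw [← not_subsingleton_iff_nontrivial]
    intro hss
    exact hCtop (QuotientGroup.subgroup_eq_top_of_subsingleton C hss)
  obtain ⟨r, hr⟩ := exists_pCore_ne_bot_of_solvable (G ⧸ C)
  haveI : Fact (r : ℕ).Prime := ⟨r.2⟩
  obtain ⟨O, hO⟩ : ∃ O : Subgroup (G ⧸ C), O = Cfsg.pCore (r : ℕ) (G ⧸ C) := ⟨_, rfl⟩
  have hOb : O ≠ ⊥ := by rw [hO]; exact hr
  haveI hOn : O.Normal := by rw [hO]; exact helper1.pCore_normal _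
  have hOr : IsPGroup (r : ℕ) O := by rw [hO]; exact helper1.pCore_isPGroup _
  obtain ⟨R, hR⟩ : ∃ R : Subgroup G, R = O.comap (QuotientGroup.mk' C) := ⟨_, rfl⟩
  haveI hRn : R.Normal := by rw [hR]; exact hOn.comap _
  have hRC : ¬ R ≤ C := by
    intro h
    apply hOb
    rw [eq_bot_iff]
    intro y hy
    obtain ⟨x, rfl⟩ := QuotientGroup.mk'_surjective C y
    have hx : x ∈ R := by rw [hR]; exact hy
    rw [Subgroup.mem_bot]
    exact (QuotientGroup.eq_one_iff x).mpr (h hx)
  have hCRidx : ∃ k, C.relIndex R = (r : ℕ) ^ k := by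
    obtain ⟨k, hk⟩ := hOr.exists_card_eq
    refine ⟨k, ?_⟩
    rw [hR]
    have h1 := Subgroup.relIndex_comap (H := (⊥ : Subgroup (G ⧸ C))) (QuotientGroup.mk' C)
      (O.comap (QuotientGroup.mk' C))
    rw [MonoidHom.comap_bot, QuotientGroup.ker_mk', Subgroup.relIndex_bot_left,
      Subgroup.map_comap_eq_self_of_surjective (QuotientGroup.mk'_surjective C), hk] at h1
    exact h1
  have hcover : ∀ Y : Subgroup G, (Y.relIndex R).Coprime (r : ℕ) → R ≤ Y ⊔ C := by
    intro Y hcop
    rw [← Subgroup.relIndex_eq_one]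
    obtain ⟨k, hk⟩ := hCRidx
    have h1 : (Y ⊔ C).relIndex R ∣ Y.relIndex R := Subgroup.relIndex_dvd_of_le_left R le_sup_left
    have h2 : (Y ⊔ C).relIndex R ∣ (r : ℕ) ^ k :=
      hk ▸ Subgroup.relIndex_dvd_of_le_left R le_sup_right
    have h3 := Nat.dvd_gcd h1 h2
    rw [(Nat.Coprime.pow_right k hcop).gcd_eq_one] at h3
    exact Nat.dvd_one.mp h3
  -- an element of N commuting with Y (where R ≤ Y ⊔ C) is trivial
  have hkill : ∀ (Y : Subgroup G) (x : G), R ≤ Y ⊔ C → x ∈ N → (∀ y ∈ Y, y * x = x * y) →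
      x = 1 := by
    intro Y x hRY hxN hxY
    have h1 : Y ⊔ C ≤ Subgroup.centralizer ({x} : Set G) := by
      refine sup_le ?_ ?_
      · intro y hy
        rw [Subgroup.mem_centralizer_iff]
        intro h hh
        rw [Set.mem_singleton_iff] at hh
        rw [hh]; exact (hxY y hy).symm
      · intro c hc
        rw [Subgroup.mem_centralizer_iff]
        intro h hh
        rw [Set.mem_singleton_iff] at hh
        rw [hh]; exact hCcomm c hc x hxN
    have h2 : x ∈ N ⊓ Subgroup.centralizer (R : Set G) := by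
      refine Subgroup.mem_inf.mpr ⟨hxN, ?_⟩
      rw [Subgroup.mem_centralizer_iff]
      intro y hy
      have h3 := Subgroup.mem_centralizer_iff.mp (h1 (hRY hy)) x (Set.mem_singleton x)
      exact h3.symm
    rw [hfix R hRn hRC, Subgroup.mem_bot] at h2
    exact h2
  by_cases hrp : (r : ℕ) = p
  · -- impossible: a p-group acts on N with nontrivial fixed points
    exfalso
    obtain ⟨Sy⟩ : Nonempty (Sylow p R) := Sylow.nonempty
    obtain ⟨S, hS⟩ : ∃ S : Subgroup G, S = (Sy : Subgroup R).map R.subtype := ⟨_, rfl⟩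
    have hSp : IsPGroup p S := by rw [hS]; exact Sy.2.map _
    have hSR : R ≤ S ⊔ C := by
      apply hcover
      rw [hS, relIndex_map_subtype_self, hrp]
      exact (Nat.Prime.coprime_iff_not_dvd hp).mpr Sy.not_dvd_index |>.symm
    have hSNp : IsPGroup p (S ⊔ N : Subgroup G) := hSp.to_sup_of_normal_right hNp
    have hMb : N.subgroupOf (S ⊔ N) ≠ ⊥ := by
      intro h0
      rw [Subgroup.subgroupOf_eq_bot] at h0
      exact hNb (le_bot_iff.mp (h0 le_rfl le_sup_right))
    obtain ⟨z, hzM, hzc, hz1⟩ :=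
      helper1.exists_central_of_normal_ne_bot hSNp (N.subgroupOf (S ⊔ N)) hMb
    have hzN : (z : G) ∈ N := Subgroup.mem_subgroupOf.mp hzM
    have hz : (z : G) = 1 := by
      apply hkill S (z : G) hSR hzN
      intro y hy
      have h1 := Subgroup.mem_center_iff.mp hzc ⟨y, Subgroup.mem_sup_left hy⟩
      exact congrArg Subtype.val h1
    exact hz1 (Subtype.ext hz)
  · -- main case
    rw [eq_bot_iff]
    intro x hx
    obtain ⟨hxN, hxD⟩ := Subgroup.mem_inf.mp hx
    rw [Subgroup.mem_bot]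
    have hxnorm : x ∈ Subgroup.normalizer ((K ⟨p, hp⟩ : Subgroup G) : Set G) :=
      (Subgroup.mem_iInf.mp hxD) ⟨p, hp⟩
    have hNK : N ⊓ K ⟨p, hp⟩ = ⊥ := by
      apply Subgroup.inf_eq_bot_of_coprime
      obtain ⟨a, ha⟩ := hNp.exists_card_eq
      rw [ha]
      exact Nat.Coprime.pow_left _ (card_coprime_of_index_eq hp (hK ⟨p, hp⟩)).symm
    apply hkill (K ⟨p, hp⟩ ⊓ R) x
    · apply hcover
      rw [Subgroup.inf_relIndex_right]
      have h1 : (K ⟨p, hp⟩).relIndex R ∣ p ^ (Nat.card G).factorization p := by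
        have := relIndex_dvd_index_of_normal_right (K ⟨p, hp⟩) R
        rw [hK ⟨p, hp⟩] at this
        exact this
      obtain ⟨j, -, hj⟩ := (Nat.dvd_prime_pow hp).mp h1
      rw [hj]
      exact Nat.Coprime.pow_left _ ((Nat.coprime_primes hp r.2).mpr (Ne.symm hrp))
    · exact hxN
    · intro y hy
      have hyK : y ∈ K ⟨p, hp⟩ := (Subgroup.mem_inf.mp hy).1
      have h1 : x * y * x⁻¹ * y⁻¹ ∈ N ⊓ K ⟨p, hp⟩ := by
        refine Subgroup.mem_inf.mpr ⟨?_, ?_⟩
        · have h2 : x * y * x⁻¹ * y⁻¹ = x * (y * x⁻¹ * y⁻¹) := by group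
          rw [h2]; exact N.mul_mem hxN (hNn.conj_mem _ (N.inv_mem hxN) y)
        · exact (K ⟨p, hp⟩).mul_mem ((Subgroup.mem_normalizer_iff.mp hxnorm y).mp hyK)
            ((K ⟨p, hp⟩).inv_mem hyK)
      rw [hNK, Subgroup.mem_bot] at h1
      have h3 : x * y * x⁻¹ = y := mul_inv_eq_one.mp h1
      have h4 : x * y = y * x := mul_inv_eq_iff_eq_mul.mp h3
      exact h4.symm

/-- Cover-avoidance property of system normalizers. -/
theorem cover_avoid {G : Type u} [Group G] [Finite G] [Group.IsSolvable G]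
    (K : Nat.Primes → Subgroup G) (hK : Cfsg.IsComplementSystem K) (A B : Subgroup G)
    [hAn : A.Normal] [hBn : B.Normal] (hAB : A < B)
    (hchief : ∀ N : Subgroup G, N.Normal → A ≤ N → N ≤ B → N = A ∨ N = B) :
    (⁅B, (⊤ : Subgroup G)⁆ ≤ A → B ≤ A ⊔ Cfsg.systemNormalizer K) ∧
    (¬ ⁅B, (⊤ : Subgroup G)⁆ ≤ A → B ⊓ Cfsg.systemNormalizer K ≤ A) := by
  classical
  obtain ⟨hKb, hDb⟩ := systemNormalizer_map K hK A
  obtain ⟨f, hf⟩ : ∃ f : G →* G ⧸ A, f = QuotientGroup.mk' A := ⟨_, rfl⟩
  have hfs : Function.Surjective f := by rw [hf]; exact QuotientGroup.mk'_surjective A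
  have hfk : f.ker = A := by rw [hf]; exact QuotientGroup.ker_mk' A
  rw [← hf] at hKb hDb
  have hf1 : ∀ x : G, f x = 1 ↔ x ∈ A := by
    intro x; rw [← MonoidHom.mem_ker, hfk]
  constructor
  · intro hcen b hb
    have hcentral : ∀ y : G ⧸ A, f b * y = y * f b := by
      intro y
      obtain ⟨g, rfl⟩ := hfs y
      have h1 : ⁅b, g⁆ ∈ A := hcen (Subgroup.commutator_mem_commutator hb (Subgroup.mem_top g))
      have h2 : f ⁅b, g⁆ = 1 := (hf1 _).mpr h1
      rw [map_commutatorElement, commutatorElement_def] at h2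
      have h3 : f b * f g * (f b)⁻¹ = f g := mul_inv_eq_one.mp h2
      exact mul_inv_eq_iff_eq_mul.mp h3
    have h1 : f b ∈ Cfsg.systemNormalizer (fun p => (K p).map f) := by
      unfold Cfsg.systemNormalizer
      rw [Subgroup.mem_iInf]
      intro p
      rw [Subgroup.mem_normalizer_iff]
      intro h
      have h2 : f b * h * (f b)⁻¹ = h := by rw [hcentral h, mul_inv_cancel_right]
      rw [h2]
    rw [hDb] at h1
    have h2 : b ∈ ((Cfsg.systemNormalizer K).map f).comap f := h1
    rw [Subgroup.comap_map_eq, hfk, sup_comm] at h2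
    exact h2
  · intro hncen x hx
    obtain ⟨hxB, hxD⟩ := Subgroup.mem_inf.mp hx
    haveI hNbn : (B.map f).Normal := hBn.map f hfs
    have hcomapB : (B.map f).comap f = B := by
      rw [Subgroup.comap_map_eq, hfk, sup_eq_left.mpr hAB.le]
    have hNb : B.map f ≠ ⊥ := by
      intro h0
      apply hAB.not_ge
      intro b hb
      have h1 : f b ∈ B.map f := Subgroup.mem_map_of_mem f hb
      rw [h0, Subgroup.mem_bot] at h1
      exact (hf1 b).mp h1
    have hNmin : ∀ X : Subgroup (G ⧸ A), X.Normal → X ≤ B.map f → X = ⊥ ∨ X = B.map f := by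
      intro X hXn hXle
      have h1 : (X.comap f).Normal := hXn.comap f
      have h2 : A ≤ X.comap f := by
        intro a ha
        rw [Subgroup.mem_comap, (hf1 a).mpr ha]; exact X.one_mem
      have h3 : X.comap f ≤ B := by
        rw [← hcomapB]; exact Subgroup.comap_mono hXle
      rcases hchief _ h1 h2 h3 with h4 | h4
      · left
        rw [← Subgroup.map_comap_eq_self_of_surjective hfs X, h4]
        exact (Subgroup.map_eq_bot_iff A).mpr (le_of_eq hfk.symm)
      · right
        rw [← Subgroup.map_comap_eq_self_of_surjective hfs X, h4]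
    have hNc : ¬ B.map f ≤ Subgroup.center (G ⧸ A) := by
      intro hcen
      apply hncen
      rw [Subgroup.commutator_le]
      intro b hb g _
      apply (hf1 _).mp
      rw [map_commutatorElement, commutatorElement_def]
      have h1 := Subgroup.mem_center_iff.mp (hcen (Subgroup.mem_map_of_mem f hb)) (f g)
      rw [← h1, mul_inv_cancel_right, mul_inv_cancel]
    have h5 := inf_systemNormalizer_eq_bot (fun p => (K p).map f) hKb (B.map f) hNb hNmin hNc
    have h6 : f x ∈ B.map f ⊓ Cfsg.systemNormalizer (fun p => (K p).map f) := by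
      refine Subgroup.mem_inf.mpr ⟨Subgroup.mem_map_of_mem f hxB, ?_⟩
      rw [hDb]; exact Subgroup.mem_map_of_mem f hxD
    rw [h5, Subgroup.mem_bot] at h6
    exact (hf1 x).mp h6

end Cfsg.Agent.helper23
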