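import Cfsg.Statements.S4740
import Cfsg.Agent.Lib_helper23_ClassSum
import Cfsg.Agent.Lib_helper23_Integral
import Cfsg.Agent.Lib_helper24_Char

set_option autoImplicit false
open Cfsg

namespace Cfsg.Agent.S4740

open Cfsg.Agent.helper23 Cfsg.Agent.helper24
open scoped ComplexConjugate

/-- The sum of an irreducible character over a subgroup is `|P|` times a natural number. -/
theorem sum_over_subgroup {G : Type*} [Group G] [Finite G] (P : Subgroup G) [Fintype P]
    (ψ : Cfsg.IrrCharacter G) : ∃ d : ℕ, ∑ y : P, (ψ : G → ℂ) y = (Nat.card P : ℂ) * d := by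
  obtain ⟨n, ρ, _, hψ⟩ := ψ.2
  let ρ' : Representation ℂ P (Fin n → ℂ) := ρ.comp P.subtype
  letI : Invertible (Nat.card P : ℂ) := invertibleOfNonzero (by
    have : Nat.card P ≠ 0 := Nat.card_pos.ne'
    exact_mod_cast this)
  have h := Representation.card_inv_mul_sum_char_eq_finrank ρ'
  refine ⟨Module.finrank ℂ (Representation.invariants ρ'), ?_⟩
  rw [← h, ← mul_assoc, mul_inv_cancel₀, one_mul]
  · apply Finset.sum_congr rfl
    intro y _
    rw [← hψ]
    rfl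
  · have : Nat.card P ≠ 0 := Nat.card_pos.ne'
    exact_mod_cast this

/-- If no product of two conjugates of `x` is conjugate to `z`, a character sum vanishes. -/
theorem sum_sq_conj_eq_zero {G : Type*} [Group G] [Fintype G] [Fintype (Cfsg.IrrCharacter G)]
    (x z : G) (hno : ∀ g h : G, ¬ IsConj (g * x * g⁻¹ * (h * x * h⁻¹)) z) :
    ∑ χ : Cfsg.IrrCharacter G, (χ : G → ℂ) x ^ 2 * conj ((χ : G → ℂ) z) / (χ : G → ℂ) 1 = 0 := by
  classical
  have hcard : (Nat.card G : ℂ) ≠ 0 := by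
    have : Nat.card G ≠ 0 := Nat.card_pos.ne'
    exact_mod_cast this
  have h1 : ∑ g : G, ∑ h : G, ∑ χ : Cfsg.IrrCharacter G,
      (χ : G → ℂ) (g * x * g⁻¹ * (h * x * h⁻¹)) * conj ((χ : G → ℂ) z) = 0 := by
    apply Finset.sum_eq_zero
    intro g _
    apply Finset.sum_eq_zero
    intro h _
    rw [irr_column_orthogonality, if_neg (hno g h)]
  have h3 : ∀ χ : Cfsg.IrrCharacter G, ∑ g : G, ∑ h : G,
      (χ : G → ℂ) (g * x * g⁻¹ * (h * x * h⁻¹)) * conj ((χ : G → ℂ) z) =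
      (Nat.card G : ℂ) ^ 2 * ((χ : G → ℂ) x ^ 2 * conj ((χ : G → ℂ) z) / (χ : G → ℂ) 1) := by
    intro χ
    have hcx : ∀ a : G, (χ : G → ℂ) (a * x * a⁻¹) = (χ : G → ℂ) x :=
      fun a => char_isClassFunction (irr_isCharacter χ.2) x a
    have h1ne : (χ : G → ℂ) 1 ≠ 0 := irr_apply_one_ne_zero χ.2
    rw [Finset.sum_comm]
    have h4 : ∀ h : G, ∑ g : G,
        (χ : G → ℂ) (g * x * g⁻¹ * (h * x * h⁻¹)) * conj ((χ : G → ℂ) z) =
        (Nat.card G : ℂ) * (χ : G → ℂ) x * (χ : G → ℂ) x / (χ : G → ℂ) 1 *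
          conj ((χ : G → ℂ) z) := by
      intro h
      rw [← Finset.sum_mul, irr_sum_conj_mul χ x, hcx]
    simp_rw [h4]
    rw [Finset.sum_const, Finset.card_univ, nsmul_eq_mul, Fintype.card_eq_nat_card]
    field_simp
  have h2 : ∑ g : G, ∑ h : G, ∑ χ : Cfsg.IrrCharacter G,
      (χ : G → ℂ) (g * x * g⁻¹ * (h * x * h⁻¹)) * conj ((χ : G → ℂ) z) =
      ∑ χ : Cfsg.IrrCharacter G, (Nat.card G : ℂ) ^ 2 *
        ((χ : G → ℂ) x ^ 2 * conj ((χ : G → ℂ) z) / (χ : G → ℂ) 1) := by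
    calc ∑ g : G, ∑ h : G, ∑ χ : Cfsg.IrrCharacter G,
          (χ : G → ℂ) (g * x * g⁻¹ * (h * x * h⁻¹)) * conj ((χ : G → ℂ) z)
        = ∑ g : G, ∑ χ : Cfsg.IrrCharacter G, ∑ h : G,
          (χ : G → ℂ) (g * x * g⁻¹ * (h * x * h⁻¹)) * conj ((χ : G → ℂ) z) :=
          Finset.sum_congr rfl (fun g _ => Finset.sum_comm)
      _ = ∑ χ : Cfsg.IrrCharacter G, ∑ g : G, ∑ h : G,
          (χ : G → ℂ) (g * x * g⁻¹ * (h * x * h⁻¹)) * conj ((χ : G → ℂ) z) := Finset.sum_comm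
      _ = _ := Finset.sum_congr rfl (fun χ _ => h3 χ)
  rw [h2, ← Finset.mul_sum] at h1
  rcases mul_eq_zero.mp h1 with h | h
  · exact absurd ((pow_eq_zero_iff (two_ne_zero)).mp h) hcard
  · exact h

theorem invol_conj_prod {G : Type*} [Group G] (u v : G) (hu : u * u = 1) (hv : v * v = 1) :
    u * (u * v) * u⁻¹ = (u * v)⁻¹ := by
  have hu' : u⁻¹ = u := inv_eq_of_mul_eq_one_right hu
  have hv' : v⁻¹ = v := inv_eq_of_mul_eq_one_right hv
  rw [mul_inv_rev, hu', hv', ← mul_assoc, hu, one_mul]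

/-- Arithmetic core: from the class equation weighted by degrees. -/
theorem arith_core {ι : Type*} [Fintype ι] [DecidableEq ι] (p : ℕ) (hpp : p.Prime) (c a C : ℕ)
    (hC0 : C ≠ 0) (ha : C.factorization p = a)
    (deg d : ι → ℕ) (hdeg : ∀ i, deg i ≠ 0) (val : ι → ℂ) (hval : ∀ i, IsIntegral ℤ (val i))
    (hE : ∑ i, val i * ((p ^ c : ℕ) * d i : ℂ) / (deg i : ℂ) = (C : ℂ))
    (hcon : ∀ i, ¬ p ^ (c - a) ∣ deg i) : False := by
  set N := ∏ i, deg i with hN
  have hN0 : N ≠ 0 := Finset.prod_ne_zero_iff.mpr (fun i _ => hdeg i)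
  set v := N.factorization p with hv
  have hN' : ∀ i, N = deg i * ∏ j ∈ Finset.univ.erase i, deg j := by
    intro i
    rw [hN, Finset.mul_prod_erase _ _ (Finset.mem_univ i)]
  have hN'0 : ∀ i, (∏ j ∈ Finset.univ.erase i, deg j) ≠ 0 := by
    intro i
    exact Finset.prod_ne_zero_iff.mpr (fun j _ => hdeg j)
  have hlt : ∀ i, (deg i).factorization p + a + 1 ≤ c := by
    intro i
    have h1 : ¬ (c - a ≤ (deg i).factorization p) := by
      intro h
      exact hcon i ((Nat.Prime.pow_dvd_iff_le_factorization hpp (hdeg i)).mpr h)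
    omega
  have hq : ∀ i, p ^ (v + a + 1) ∣ p ^ c * ∏ j ∈ Finset.univ.erase i, deg j := by
    intro i
    have hvi : v = (deg i).factorization p +
        (∏ j ∈ Finset.univ.erase i, deg j).factorization p := by
      rw [hv, hN' i, Nat.factorization_mul (hdeg i) (hN'0 i)]
      rfl
    have e : v + a + 1 = ((deg i).factorization p + a + 1) +
        (∏ j ∈ Finset.univ.erase i, deg j).factorization p := by omega
    rw [e, pow_add]
    exact Nat.mul_dvd_mul (pow_dvd_pow p (hlt i)) (Nat.ordProj_dvd _ p)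
  choose q hq' using hq
  set T : ℂ := ∑ i, val i * (d i : ℂ) * (q i : ℂ) with hT
  have hTint : IsIntegral ℤ T := by
    apply IsIntegral.sum
    intro i _
    exact ((hval i).mul (isIntegral_natCast (d i))).mul (isIntegral_natCast (q i))
  have hmain : ((N * C : ℕ) : ℂ) = ((p ^ (v + a + 1) : ℕ) : ℂ) * T := by
    rw [Nat.cast_mul, ← hE, Finset.mul_sum, hT, Finset.mul_sum]
    apply Finset.sum_congr rfl
    intro i _
    have hdi : (deg i : ℂ) ≠ 0 := by exact_mod_cast hdeg i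
    have h1 : (N : ℂ) = (deg i : ℂ) * ((∏ j ∈ Finset.univ.erase i, deg j : ℕ) : ℂ) := by
      rw [← Nat.cast_mul, ← hN' i]
    have h2 : ((p ^ c : ℕ) : ℂ) * ((∏ j ∈ Finset.univ.erase i, deg j : ℕ) : ℂ) =
        ((p ^ (v + a + 1) : ℕ) : ℂ) * (q i : ℂ) := by
      rw [← Nat.cast_mul, ← Nat.cast_mul, hq' i]
    rw [h1]
    calc (deg i : ℂ) * ((∏ j ∈ Finset.univ.erase i, deg j : ℕ) : ℂ) *
          (val i * (((p ^ c : ℕ) : ℂ) * (d i : ℂ)) / (deg i : ℂ))
        = val i * (d i : ℂ) * (((p ^ c : ℕ) : ℂ) *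
            ((∏ j ∈ Finset.univ.erase i, deg j : ℕ) : ℂ)) := by
          field_simp
      _ = ((p ^ (v + a + 1) : ℕ) : ℂ) * (val i * (d i : ℂ) * (q i : ℂ)) := by
          rw [h2]; ring
  have hdvd : ((p ^ (v + a + 1) : ℕ) : ℤ) ∣ ((N * C : ℕ) : ℤ) := by
    apply int_dvd_of_eq_mul_isIntegral _ _ ?_ T hTint ?_
    · have : p ^ (v + a + 1) ≠ 0 := pow_ne_zero _ hpp.ne_zero
      exact_mod_cast this
    · exact_mod_cast hmain
  have hdvd' : p ^ (v + a + 1) ∣ N * C := Int.natCast_dvd_natCast.mp hdvd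
  have hNC0 : N * C ≠ 0 := Nat.mul_ne_zero hN0 hC0
  have hle := (Nat.Prime.pow_dvd_iff_le_factorization hpp hNC0).mp hdvd'
  rw [Nat.factorization_mul hN0 hC0] at hle
  have : (N.factorization + C.factorization) p = v + a := by
    rw [Finsupp.add_apply, ha]
  omega

/-- Let p be an odd prime, G a finite group of even order, x an involution of G and P a subgroup of G of order p ^ c such that no conjugate of x inverts a non-identity element of P. If p ^ a is the p-part of the order of C_G(x), then some irreducible character of G has degree divisible by p ^ (c - a). -/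
theorem result {G : Type*} [Group G] [Finite G] (p : ℕ) [Fact p.Prime] (hp2 : p ≠ 2) (hG : Even (Nat.card G)) (x : G) (hx : orderOf x = 2) (P : Subgroup G) (c : ℕ) (hP : Nat.card ↥P = p ^ c) (hinv : ∀ g : G, IsConj x g → ∀ z ∈ P, z ≠ 1 → g * z * g⁻¹ ≠ z⁻¹) (a : ℕ) (ha : (Nat.card ↥(Subgroup.centralizer ({x} : Set G))).factorization p = a) : ∃ χ : Cfsg.IrrCharacter G, p ^ (c - a) ∣ Cfsg.charDegree (χ : G → ℂ) := by
  classical
  have hfinG := Fintype.ofFinite G
  have hfinI := Fintype.ofFinite (Cfsg.IrrCharacter G)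
  have hfinP : Fintype P := Fintype.ofFinite _
  have hpp : p.Prime := Fact.out
  by_contra hcon
  push Not at hcon
  have hx2 : x * x = 1 := by rw [← pow_two, ← hx]; exact pow_orderOf_eq_one x
  have hxinv : x⁻¹ = x := inv_eq_of_mul_eq_one_right hx2
  -- Step A
  have hno : ∀ z ∈ P, z ≠ 1 → ∀ g h : G, ¬ IsConj (g * x * g⁻¹ * (h * x * h⁻¹)) z := by
    intro z hz hz1 g h hc
    obtain ⟨k, hk⟩ := isConj_iff.mp hc
    obtain ⟨x₁, hx₁⟩ : ∃ x₁ : G, x₁ = k * (g * x * g⁻¹) * k⁻¹ := ⟨_, rfl⟩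
    obtain ⟨x₂, hx₂⟩ : ∃ x₂ : G, x₂ = k * (h * x * h⁻¹) * k⁻¹ := ⟨_, rfl⟩
    have h12 : x₁ * x₂ = z := by rw [← hk, hx₁, hx₂]; group
    have hx₁sq : x₁ * x₁ = 1 := by
      have : x₁ * x₁ = k * (g * (x * x) * g⁻¹) * k⁻¹ := by rw [hx₁]; group
      rw [this, hx2]; group
    have hx₂sq : x₂ * x₂ = 1 := by
      have : x₂ * x₂ = k * (h * (x * x) * h⁻¹) * k⁻¹ := by rw [hx₂]; group
      rw [this, hx2]; group
    have hconj : IsConj x x₁ := isConj_iff.mpr ⟨k * g, by rw [hx₁]; group⟩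
    apply hinv x₁ hconj z hz hz1
    rw [← h12]
    exact invol_conj_prod x₁ x₂ hx₁sq hx₂sq
  -- Step B
  have hS : ∀ z : P, z ≠ 1 → ∑ χ : Cfsg.IrrCharacter G,
      (χ : G → ℂ) x ^ 2 * conj ((χ : G → ℂ) z) / (χ : G → ℂ) 1 = 0 := by
    intro z hz
    apply sum_sq_conj_eq_zero
    apply hno z z.2
    intro h
    apply hz
    exact Subtype.ext h
  -- Step C
  choose d hd using fun ψ : Cfsg.IrrCharacter G => sum_over_subgroup P ψ
  have hreal : ∀ χ : Cfsg.IrrCharacter G, conj ((χ : G → ℂ) x) = (χ : G → ℂ) x := by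
    intro χ
    rw [← char_inv (irr_isCharacter χ.2), hxinv]
  have hC : ∑ χ : Cfsg.IrrCharacter G, (χ : G → ℂ) x ^ 2 =
      (Nat.card (Subgroup.centralizer ({x} : Set G)) : ℂ) := by
    have := irr_column_orthogonality (G := G) x x
    rw [if_pos (IsConj.refl _)] at this
    rw [← this]
    apply Finset.sum_congr rfl
    intro χ _
    rw [hreal χ, pow_two]
  have hconj1 : ∀ χ : Cfsg.IrrCharacter G, conj ((χ : G → ℂ) 1) = (χ : G → ℂ) 1 := by
    intro χ
    obtain ⟨n, hn⟩ := char_apply_one (irr_isCharacter χ.2)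
    rw [hn, Complex.conj_natCast]
  have hE1 : ∑ χ : Cfsg.IrrCharacter G,
      (χ : G → ℂ) x ^ 2 * ((Nat.card P : ℂ) * d χ) / (χ : G → ℂ) 1 =
      (Nat.card (Subgroup.centralizer ({x} : Set G)) : ℂ) := by
    rw [← hC]
    have h1 : ∑ z : P, ∑ χ : Cfsg.IrrCharacter G,
        (χ : G → ℂ) x ^ 2 * conj ((χ : G → ℂ) z) / (χ : G → ℂ) 1 =
        ∑ χ : Cfsg.IrrCharacter G, (χ : G → ℂ) x ^ 2 := by
      rw [Finset.sum_eq_single (1 : P)]
      · apply Finset.sum_congr rfl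
        intro χ _
        have h1ne : (χ : G → ℂ) 1 ≠ 0 := irr_apply_one_ne_zero χ.2
        rw [Subgroup.coe_one, hconj1 χ]
        field_simp
      · intro z _ hz
        exact hS z hz
      · intro h
        exact absurd (Finset.mem_univ _) h
    rw [← h1, Finset.sum_comm]
    apply Finset.sum_congr rfl
    intro χ _
    have hsumconj : ∑ z : P, conj ((χ : G → ℂ) z) = (Nat.card P : ℂ) * d χ := by
      rw [← map_sum, hd χ, map_mul, Complex.conj_natCast, Complex.conj_natCast]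
    rw [← hsumconj, Finset.mul_sum, Finset.sum_div]
  -- Step D
  apply arith_core (ι := Cfsg.IrrCharacter G) p hpp c a
    (Nat.card (Subgroup.centralizer ({x} : Set G))) Nat.card_pos.ne' ha
    (fun χ => Cfsg.charDegree (χ : G → ℂ)) d
    (fun χ => (irr_charDegree_pos χ.2).ne')
    (fun χ => (χ : G → ℂ) x ^ 2)
    (fun χ => (irr_isIntegral χ x).pow 2) ?_ hcon
  rw [← hE1]
  apply Finset.sum_congr rfl
  intro χ _
  rw [char_charDegree_cast (irr_isCharacter χ.2), hP]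

end Cfsg.Agent.S4740
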