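import Mathlib
import Cfsg.Prelude.Def_Blocks
import Cfsg.Agent.Lib_helper23_ClassProd
import Cfsg.Agent.Lib_helper23_Central
import Cfsg.Agent.S4740

set_option autoImplicit false

namespace Cfsg.Agent.helper23

open Cfsg.Agent.helper24
open scoped ComplexConjugate

/-- Let `P` be a subgroup of order `p ^ c` of `G` and `z ∈ G` such that no product of a conjugate
of `z` with a conjugate of `z⁻¹` is conjugate to a non-identity element of `P`.  If `p ^ a` is the
`p`-part of `|C_G(z)|`, some irreducible character has degree divisible by `p ^ (c - a)`. -/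
theorem exists_degree_dvd {G : Type*} [Group G] [Finite G] (p : ℕ) [Fact p.Prime] (z : G)
    (P : Subgroup G) (c : ℕ) (hP : Nat.card P = p ^ c)
    (hno : ∀ y ∈ P, y ≠ 1 → ∀ g h : G, ¬ IsConj (g * z * g⁻¹ * (h * z⁻¹ * h⁻¹)) y)
    (a : ℕ) (ha : (Nat.card (Subgroup.centralizer ({z} : Set G))).factorization p = a) :
    ∃ χ : Cfsg.IrrCharacter G, p ^ (c - a) ∣ Cfsg.charDegree (χ : G → ℂ) := by
  classical
  have hfinG := Fintype.ofFinite G
  have hfinI := Fintype.ofFinite (Cfsg.IrrCharacter G)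
  have hfinP : Fintype P := Fintype.ofFinite _
  have hpp : p.Prime := Fact.out
  by_contra hcon
  push Not at hcon
  choose d hd using fun ψ : Cfsg.IrrCharacter G => Cfsg.Agent.S4740.sum_over_subgroup P ψ
  have hE := sum_mul_subgroup_eq z z⁻¹ P d hd hno
  have hC : ∑ χ : Cfsg.IrrCharacter G, (χ : G → ℂ) z * (χ : G → ℂ) z⁻¹ =
      (Nat.card (Subgroup.centralizer ({z} : Set G)) : ℂ) := by
    have := irr_column_orthogonality (G := G) z z
    rw [if_pos (IsConj.refl _)] at this
    rw [← this]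
    apply Finset.sum_congr rfl
    intro χ _
    rw [char_inv (irr_isCharacter χ.2)]
  rw [hC] at hE
  apply Cfsg.Agent.S4740.arith_core (ι := Cfsg.IrrCharacter G) p hpp c a
    (Nat.card (Subgroup.centralizer ({z} : Set G))) Nat.card_pos.ne' ha
    (fun χ => Cfsg.charDegree (χ : G → ℂ)) d
    (fun χ => (irr_charDegree_pos χ.2).ne')
    (fun χ => (χ : G → ℂ) z * (χ : G → ℂ) z⁻¹)
    (fun χ => (irr_isIntegral χ z).mul (irr_isIntegral χ z⁻¹)) ?_ hcon
  rw [← hE]
  apply Finset.sum_congr rfl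
  intro χ _
  rw [char_charDegree_cast (irr_isCharacter χ.2), hP]

/-- Defect-zero version: `P` a Sylow `p`-subgroup and `p ∤ |C_G(z)|`. -/
theorem exists_defect_zero {G : Type*} [Group G] [Finite G] (p : ℕ) [Fact p.Prime] (z : G)
    (P : Sylow p G)
    (hno : ∀ y ∈ (P : Subgroup G), y ≠ 1 → ∀ g h : G,
      ¬ IsConj (g * z * g⁻¹ * (h * z⁻¹ * h⁻¹)) y)
    (hz : ¬ p ∣ Nat.card (Subgroup.centralizer ({z} : Set G))) :
    ∃ χ : Cfsg.IrrCharacter G,
      (Cfsg.charDegree (χ : G → ℂ)).factorization p = (Nat.card G).factorization p := by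
  have hpp : p.Prime := Fact.out
  have hcard : Nat.card (P : Subgroup G) = p ^ (Nat.card G).factorization p :=
    Sylow.card_eq_multiplicity P
  have ha : (Nat.card (Subgroup.centralizer ({z} : Set G))).factorization p = 0 :=
    Nat.factorization_eq_zero_of_not_dvd hz
  obtain ⟨χ, hχ⟩ := exists_degree_dvd p z (P : Subgroup G) _ hcard hno 0 ha
  refine ⟨χ, ?_⟩
  have hpos : Cfsg.charDegree (χ : G → ℂ) ≠ 0 := (irr_charDegree_pos χ.2).ne'
  have h1 : (Nat.card G).factorization p ≤ (Cfsg.charDegree (χ : G → ℂ)).factorization p := by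
    rw [Nat.sub_zero] at hχ
    exact (Nat.Prime.pow_dvd_iff_le_factorization hpp hpos).mp hχ
  have h2 : (Cfsg.charDegree (χ : G → ℂ)).factorization p ≤ (Nat.card G).factorization p :=
    (Nat.factorization_le_iff_dvd hpos Nat.card_pos.ne').mpr (irr_degree_dvd_card χ) p
  omega

end Cfsg.Agent.helper23
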