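import Mathlib
import Cfsg.Agent.Lib_lead_Gaschutz
import Cfsg.Agent.Lib_helper1_PGroup

set_option autoImplicit false
set_option linter.style.haveILetI false
set_option linter.unusedVariables false

namespace Cfsg.Agent.lead

open scoped commutatorElement

universe u

/-- In a finite nilpotent group a nontrivial normal subgroup `D` has `[D, G] ≠ D`. -/
theorem commutator_top_ne_of_nilpotent {P : Type*} [Group P] [Group.IsNilpotent P]
    (D : Subgroup P) (hD : D ≠ ⊥) : ⁅D, (⊤ : Subgroup P)⁆ ≠ D := by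
  intro heq
  apply hD
  obtain ⟨n, hn⟩ := (Subgroup.nilpotent_iff_lowerCentralSeries (G := P)).mp inferInstance
  have hle : ∀ k, D ≤ (⊤ : Subgroup P).lowerCentralSeries k := by
    intro k
    induction k with
    | zero => simp
    | succ k ih =>
      rw [Subgroup.lowerCentralSeries_succ]
      calc D = ⁅D, (⊤ : Subgroup P)⁆ := heq.symm
        _ ≤ ⁅(⊤ : Subgroup P).lowerCentralSeries k, ⊤⁆ := Subgroup.commutator_mono ih le_rfl
  rw [eq_bot_iff, ← hn]
  exact hle n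

/-- Image of the Frattini subgroup under a surjection lies in the Frattini subgroup. -/
theorem map_frattini_le_of_surjective {P E : Type*} [Group P] [Group E] (f : P →* E)
    (hf : Function.Surjective f) : (frattini P).map f ≤ frattini E := by
  rintro _ ⟨x, hx, rfl⟩
  have h : ∀ M : Subgroup E, IsCoatom M → f x ∈ M := by
    intro M hM
    have hco : IsCoatom (M.comap f) := Subgroup.isCoatom_comap_of_surjective hf hM
    exact frattini_le_coatom hco hx
  simp only [frattini, Order.radical, Subgroup.mem_iInf]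
  exact h

/-- The core of Tate's theorem: a normal subgroup `R` generated by `p'`-elements which meets a
Sylow `p`-subgroup `P` inside `Φ(P)` meets `P` trivially. -/
theorem tate_core {G : Type u} [Group G] [Finite G] {p : ℕ} [hp : Fact p.Prime] (P : Sylow p G)
    (R : Subgroup G) [hRn : R.Normal] (s : Set G) (hs : R = Subgroup.closure s)
    (hsp : ∀ x ∈ s, Nat.Coprime (orderOf x) p)
    (hR : R ⊓ (P : Subgroup G) ≤ (frattini (P : Subgroup G)).map (P : Subgroup G).subtype) :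
    R ⊓ (P : Subgroup G) = ⊥ := by
  classical
  by_contra hDne
  haveI : Group.IsNilpotent (P : Subgroup G) := P.isPGroup'.isNilpotent
  -- D_P
  obtain ⟨DP, hDPdef⟩ : ∃ DP : Subgroup (P : Subgroup G), DP = R.subgroupOf (P : Subgroup G) :=
    ⟨_, rfl⟩
  haveI hDPn : DP.Normal := by rw [hDPdef]; infer_instance
  have hDPmem : ∀ x : (P : Subgroup G), x ∈ DP ↔ (x : G) ∈ R := by
    intro x; rw [hDPdef, Subgroup.mem_subgroupOf]
  have hDPne : DP ≠ ⊥ := by
    intro h
    apply hDne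
    rw [eq_bot_iff]
    intro x hx
    have : (⟨x, hx.2⟩ : (P : Subgroup G)) ∈ DP := (hDPmem _).mpr hx.1
    rw [h, Subgroup.mem_bot] at this
    rw [Subgroup.mem_bot]
    exact congrArg Subtype.val this
  have hDPfr : DP ≤ frattini (P : Subgroup G) := by
    intro y hy
    have h1 : (y : G) ∈ R ⊓ (P : Subgroup G) := ⟨(hDPmem y).mp hy, y.2⟩
    obtain ⟨z, hz, hzy⟩ := hR h1
    have : z = y := Subtype.ext hzy
    rw [← this]; exact hz
  -- D₀
  obtain ⟨D0, hD0def⟩ : ∃ D0 : Subgroup (P : Subgroup G), D0 = ⁅DP, (⊤ : Subgroup (P : Subgroup G))⁆ :=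
    ⟨_, rfl⟩
  haveI hD0n : D0.Normal := by rw [hD0def]; infer_instance
  have hD0le : D0 ≤ DP := by rw [hD0def]; exact Subgroup.commutator_le_left DP ⊤
  have hD0ne : D0 ≠ DP := by rw [hD0def]; exact commutator_top_ne_of_nilpotent DP hDPne
  -- ψ_P, ψ_E
  let ψP : (P : Subgroup G) →* G ⧸ R := (QuotientGroup.mk' R).comp (P : Subgroup G).subtype
  have hψP : ∀ x : (P : Subgroup G), ψP x = 1 ↔ x ∈ DP := by
    intro x
    rw [hDPmem]
    show (QuotientGroup.mk' R) (x : G) = 1 ↔ _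
    rw [QuotientGroup.mk'_apply, QuotientGroup.eq_one_iff]
  have hD0ker : D0 ≤ ψP.ker := fun x hx => MonoidHom.mem_ker.mpr ((hψP x).mpr (hD0le hx))
  let ψE : ((P : Subgroup G) ⧸ D0) →* G ⧸ R := QuotientGroup.lift D0 ψP hD0ker
  have hψE : ∀ x : (P : Subgroup G), ψE (QuotientGroup.mk' D0 x) = ψP x := fun x =>
    QuotientGroup.lift_mk D0 hD0ker x
  -- Γ
  let Γ : Subgroup (G × ((P : Subgroup G) ⧸ D0)) :=
    MonoidHom.eqLocus ((QuotientGroup.mk' R).comp (MonoidHom.fst G ((P : Subgroup G) ⧸ D0)))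
      (ψE.comp (MonoidHom.snd G ((P : Subgroup G) ⧸ D0)))
  let π : Γ →* G := (MonoidHom.fst G ((P : Subgroup G) ⧸ D0)).comp Γ.subtype
  let σ : Γ →* ((P : Subgroup G) ⧸ D0) := (MonoidHom.snd G ((P : Subgroup G) ⧸ D0)).comp Γ.subtype
  have hΓ : ∀ γ : Γ, (QuotientGroup.mk' R) (π γ) = ψE (σ γ) := fun γ => γ.2
  have hext : ∀ a b : Γ, π a = π b → σ a = σ b → a = b := by
    intro a b h1 h2
    apply Subtype.ext
    exact Prod.ext h1 h2
  have hmemΓ : ∀ (g : G) (e : (P : Subgroup G) ⧸ D0), (QuotientGroup.mk' R) g = ψE e →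
      ∃ γ : Γ, π γ = g ∧ σ γ = e := fun g e h => ⟨⟨(g, e), h⟩, rfl, rfl⟩
  -- the section over P
  have hιmem : ∀ x : (P : Subgroup G), ∃ γ : Γ, π γ = (x : G) ∧ σ γ = QuotientGroup.mk' D0 x := by
    intro x
    apply hmemΓ
    rw [hψE]
    rfl
  -- K
  obtain ⟨K, hKdef⟩ : ∃ K : Subgroup Γ, K = π.ker := ⟨_, rfl⟩
  haveI hKn : K.Normal := by rw [hKdef]; infer_instance
  have hKmem : ∀ γ : Γ, γ ∈ K ↔ π γ = 1 := by intro γ; rw [hKdef, MonoidHom.mem_ker]
  have hσK : ∀ k ∈ K, ∃ d ∈ DP, σ k = QuotientGroup.mk' D0 d := by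
    intro k hk
    obtain ⟨x, hx⟩ := QuotientGroup.mk'_surjective D0 (σ k)
    refine ⟨x, ?_, hx.symm⟩
    rw [← hψP, ← hψE, hx, ← hΓ, (hKmem k).mp hk, map_one]
  have hKc : ∀ a ∈ K, ∀ b ∈ K, a * b = b * a := by
    intro a ha b hb
    apply hext
    · rw [map_mul, map_mul, (hKmem a).mp ha, (hKmem b).mp hb]
    · rw [map_mul, map_mul]
      obtain ⟨da, hda, ha'⟩ := hσK a ha
      obtain ⟨db, hdb, hb'⟩ := hσK b hb
      rw [ha', hb', ← map_mul, ← map_mul, QuotientGroup.mk'_apply, QuotientGroup.mk'_apply,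
        QuotientGroup.eq, hD0def]
      have : (da * db)⁻¹ * (db * da) = ⁅db⁻¹, da⁻¹⁆ := by
        rw [commutatorElement_def]; group
      rw [this]
      exact Subgroup.commutator_mem_commutator (DP.inv_mem hdb) (Subgroup.mem_top _)
  -- U
  obtain ⟨U, hUdef⟩ : ∃ U : Subgroup Γ, U = (P : Subgroup G).comap π := ⟨_, rfl⟩
  have hUmem : ∀ γ : Γ, γ ∈ U ↔ π γ ∈ (P : Subgroup G) := by
    intro γ; rw [hUdef, Subgroup.mem_comap]
  have hKU : K ≤ U := by
    intro k hk
    rw [hUmem, (hKmem k).mp hk]; exact Subgroup.one_mem _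
  have hKcard : ∃ j, Nat.card K = p ^ j := by
    have hinj : Function.Injective (σ.comp K.subtype) := by
      intro a b hab
      apply Subtype.ext
      apply hext
      · rw [(hKmem a).mp a.2, (hKmem b).mp b.2]
      · exact hab
    have h1 := Subgroup.card_dvd_of_injective _ hinj
    have h2 : Nat.card ((P : Subgroup G) ⧸ D0) ∣ Nat.card (P : Subgroup G) := by
      rw [← Subgroup.index_eq_card]; exact Subgroup.index_dvd_card D0
    obtain ⟨n, hn⟩ := IsPGroup.iff_card.mp P.isPGroup'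
    rw [hn] at h2
    obtain ⟨j, _, hj⟩ := (Nat.dvd_prime_pow hp.out).1 (h1.trans h2)
    exact ⟨j, hj⟩
  have hPrange : (P : Subgroup G) ≤ π.range := by
    intro x hx
    obtain ⟨γ, hγ, _⟩ := hιmem ⟨x, hx⟩
    exact ⟨γ, hγ⟩
  have hcop : (Nat.card K).Coprime U.index := by
    obtain ⟨j, hj⟩ := hKcard
    rw [hj, hUdef, Subgroup.index_comap]
    apply Nat.Coprime.pow_left
    have h1 : (P : Subgroup G).relIndex π.range ∣ (P : Subgroup G).index :=
      Subgroup.relIndex_dvd_index_of_le hPrange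
    have h2 : (Nat.card (P : Subgroup G)).Coprime (P : Subgroup G).index := P.card_coprime_index
    obtain ⟨n, hn⟩ := IsPGroup.iff_card.mp P.isPGroup'
    have hn0 : n ≠ 0 := by
      intro h0
      rw [h0, pow_zero] at hn
      have : (P : Subgroup G) = ⊥ := Subgroup.card_eq_one.mp hn
      apply hDne
      rw [this, inf_bot_eq]
    rw [hn] at h2
    have h3 : Nat.Coprime p (P : Subgroup G).index := (Nat.coprime_pow_left_iff (Nat.pos_of_ne_zero hn0) _ _).mp h2
    exact Nat.Coprime.coprime_dvd_right h1 h3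
  -- A
  obtain ⟨A, hAdef⟩ : ∃ A : Subgroup Γ, A = Subgroup.closure
      {γ : Γ | ∃ x : (P : Subgroup G), π γ = (x : G) ∧ σ γ = QuotientGroup.mk' D0 x} := ⟨_, rfl⟩
  have hAmem : ∀ γ : Γ, γ ∈ A ↔ ∃ x : (P : Subgroup G), π γ = (x : G) ∧ σ γ = QuotientGroup.mk' D0 x := by
    intro γ
    constructor
    · intro h
      rw [hAdef] at h
      induction h using Subgroup.closure_induction with
      | mem y hy => exact hy
      | one => exact ⟨1, by simp, by simp⟩
      | mul a b _ _ iha ihb =>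
        obtain ⟨x, hx1, hx2⟩ := iha
        obtain ⟨y, hy1, hy2⟩ := ihb
        exact ⟨x * y, by rw [map_mul, hx1, hy1]; rfl, by rw [map_mul, hx2, hy2, map_mul]⟩
      | inv a _ iha =>
        obtain ⟨x, hx1, hx2⟩ := iha
        exact ⟨x⁻¹, by rw [map_inv, hx1]; rfl, by rw [map_inv, hx2, map_inv]⟩
    · intro h
      rw [hAdef]; exact Subgroup.subset_closure h
  have hAU : A ≤ U := by
    intro γ hγ
    obtain ⟨x, hx1, _⟩ := (hAmem γ).mp hγ
    rw [hUmem, hx1]; exact x.2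
  have hAK : A ⊓ K = ⊥ := by
    rw [eq_bot_iff]
    rintro γ ⟨hγA, hγK⟩
    obtain ⟨x, hx1, hx2⟩ := (hAmem γ).mp hγA
    rw [Subgroup.mem_bot]
    have hx : x = 1 := by
      apply Subtype.ext
      rw [← hx1, (hKmem γ).mp hγK]; rfl
    apply hext
    · rw [(hKmem γ).mp hγK, map_one]
    · rw [hx2, hx, map_one, map_one]
  have hKA : K ⊔ A = U := by
    apply le_antisymm (sup_le hKU hAU)
    intro u hu
    obtain ⟨γ, hγ1, hγ2⟩ := hιmem ⟨π u, (hUmem u).mp hu⟩
    have hγA : γ ∈ A := (hAmem γ).mpr ⟨_, hγ1, hγ2⟩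
    have hk : u * γ⁻¹ ∈ K := by
      rw [hKmem, map_mul, map_inv, hγ1, mul_inv_cancel]
    have : u = (u * γ⁻¹) * γ := by group
    rw [this]
    exact Subgroup.mul_mem_sup hk hγA
  obtain ⟨H, hH⟩ := gaschutz_exists K U A hKc hKU hcop hAU hAK hKA
  have hHK : K ⊓ H = ⊥ := hH.disjoint.eq_bot
  have hdecomp : ∀ γ : Γ, ∃ k ∈ K, ∃ h ∈ H, γ = k * h := by
    intro γ
    obtain ⟨⟨k, h⟩, hkh⟩ := hH.2 γ
    exact ⟨k, k.2, h, h.2, hkh.symm⟩
  have hπinj : ∀ a ∈ H, ∀ b ∈ H, π a = π b → a = b := by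
    intro a ha b hb hab
    have h1 : a⁻¹ * b ∈ K ⊓ H := by
      refine Subgroup.mem_inf.mpr ⟨(hKmem _).mpr ?_, H.mul_mem (H.inv_mem ha) hb⟩
      rw [map_mul, map_inv, hab, inv_mul_cancel]
    rw [hHK, Subgroup.mem_bot] at h1
    exact (inv_mul_eq_one.mp h1)
  have hEpg : IsPGroup p ((P : Subgroup G) ⧸ D0) := P.isPGroup'.to_quotient D0
  -- S
  have hRS : ∀ r ∈ R, ∃ h ∈ H, σ h = 1 ∧ π h = r := by
    intro r hr
    rw [hs] at hr
    induction hr using Subgroup.closure_induction with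
    | mem y hy =>
      have hyR : y ∈ R := by rw [hs]; exact Subgroup.subset_closure hy
      obtain ⟨γ, hγ1, hγ2⟩ := hmemΓ y 1 (by
        rw [map_one, QuotientGroup.mk'_apply, QuotientGroup.eq_one_iff]; exact hyR)
      obtain ⟨k, hk, h, hh, hγ⟩ := hdecomp γ
      have hπh : π h = y := by
        rw [← hγ1, hγ, map_mul, (hKmem k).mp hk, one_mul]
      refine ⟨h, hh, ?_, hπh⟩
      -- order argument
      have hpow : h ^ orderOf y = 1 := by
        apply hπinj _ (H.pow_mem hh _) _ H.one_mem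
        rw [map_pow, hπh, pow_orderOf_eq_one, map_one]
      have h1 : orderOf (σ h) ∣ orderOf y := by
        apply orderOf_dvd_of_pow_eq_one
        rw [← map_pow, hpow, map_one]
      obtain ⟨j, hj⟩ := hEpg (σ h)
      have h2 : orderOf (σ h) ∣ p ^ j := orderOf_dvd_of_pow_eq_one hj
      have hc : Nat.Coprime (orderOf y) (p ^ j) := Nat.Coprime.pow_right j (hsp y hy)
      have := Nat.eq_one_of_dvd_coprimes hc h1 h2
      exact orderOf_eq_one_iff.mp this
    | one => exact ⟨1, H.one_mem, map_one _, map_one _⟩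
    | mul a b _ _ iha ihb =>
      obtain ⟨ha, hha, hσa, hπa⟩ := iha
      obtain ⟨hb, hhb, hσb, hπb⟩ := ihb
      exact ⟨ha * hb, H.mul_mem hha hhb, by rw [map_mul, hσa, hσb, mul_one],
        by rw [map_mul, hπa, hπb]⟩
    | inv a _ iha =>
      obtain ⟨ha, hha, hσa, hπa⟩ := iha
      exact ⟨ha⁻¹, H.inv_mem hha, by rw [map_inv, hσa, inv_one], by rw [map_inv, hπa]⟩
  -- C
  obtain ⟨C, hCdef⟩ : ∃ C : Subgroup ((P : Subgroup G) ⧸ D0), C = (H ⊓ U).map σ := ⟨_, rfl⟩
  have hZfr : ψE.ker ≤ frattini ((P : Subgroup G) ⧸ D0) := by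
    intro e he
    obtain ⟨x, rfl⟩ := QuotientGroup.mk'_surjective D0 e
    rw [MonoidHom.mem_ker, hψE, hψP] at he
    exact map_frattini_le_of_surjective (QuotientGroup.mk' D0) (QuotientGroup.mk'_surjective D0)
      ⟨x, hDPfr he, rfl⟩
  have hCsup : C ⊔ ψE.ker = ⊤ := by
    rw [eq_top_iff]
    intro e _
    obtain ⟨x, rfl⟩ := QuotientGroup.mk'_surjective D0 e
    obtain ⟨γ, hγ1, hγ2⟩ := hιmem x
    obtain ⟨k, hk, h, hh, hγ⟩ := hdecomp γ
    have hπh : π h = (x : G) := by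
      rw [← hγ1, hγ, map_mul, (hKmem k).mp hk, one_mul]
    have hhU : h ∈ U := by rw [hUmem, hπh]; exact x.2
    have hσ : QuotientGroup.mk' D0 x = σ k * σ h := by rw [← hγ2, hγ, map_mul]
    rw [hσ, sup_comm]
    apply Subgroup.mul_mem_sup
    · rw [MonoidHom.mem_ker, ← hΓ, (hKmem k).mp hk, map_one]
    · rw [hCdef]; exact ⟨h, ⟨hh, hhU⟩, rfl⟩
  have hCtop : C = ⊤ := by
    apply frattini_nongenerating
    rw [eq_top_iff, ← hCsup]
    exact sup_le_sup_left hZfr C
  have hCZ : C ⊓ ψE.ker = ⊥ := by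
    rw [eq_bot_iff]
    intro e he
    obtain ⟨heC, heZ⟩ := Subgroup.mem_inf.mp he
    rw [hCdef] at heC
    obtain ⟨h, ⟨hh, _⟩, rfl⟩ := heC
    rw [MonoidHom.mem_ker, ← hΓ, QuotientGroup.mk'_apply, QuotientGroup.eq_one_iff] at heZ
    obtain ⟨h', hh', hσ', hπ'⟩ := hRS _ heZ
    have : h' = h := hπinj h' hh' h hh hπ'
    rw [Subgroup.mem_bot, ← this, hσ']
  have hZbot : ψE.ker = ⊥ := by
    rw [← hCZ, hCtop, top_inf_eq]
  -- but the kernel is nontrivial
  have hlt : D0 < DP := lt_of_le_of_ne hD0le hD0ne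
  obtain ⟨d, hd, hd0⟩ := SetLike.exists_of_lt hlt
  have hdker : QuotientGroup.mk' D0 d ∈ ψE.ker := by
    rw [MonoidHom.mem_ker, hψE, hψP]; exact hd
  rw [hZbot, Subgroup.mem_bot, QuotientGroup.mk'_apply, QuotientGroup.eq_one_iff] at hdker
  exact hd0 hdker

end Cfsg.Agent.lead
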