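import Mathlib
import Cfsg.Agent.Lib_lead_Tate
import Cfsg.Agent.Lib_helper1_PGroup
import Cfsg.Agent.Lib_helper1_ElemAb

set_option autoImplicit false
open scoped commutatorElement

namespace Cfsg.Agent.helper23.FrRank

variable {G : Type*} [Group G]

/-- Relative form of the non-generating property of the Frattini subgroup. -/
theorem le_of_le_sup_frat [Finite G] {F H : Subgroup G} (hHF : H ≤ F)
    (h : F ≤ H ⊔ (frattini ↥F).map F.subtype) : F ≤ H := by
  have h2 : ((frattini ↥F).map F.subtype).subgroupOf F = frattini ↥F :=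
    Subgroup.comap_map_eq_self_of_injective F.subtype_injective _
  have h1 : H.subgroupOf F ⊔ frattini ↥F = ⊤ := by
    rw [← h2, ← Subgroup.subgroupOf_sup hHF (Subgroup.map_subtype_le _),
      Subgroup.subgroupOf_eq_top]
    exact h
  have h3 := frattini_nongenerating h1
  rwa [Subgroup.subgroupOf_eq_top] at h3

/-- The Frattini subgroup of a normal subgroup lies in the Frattini subgroup of the group. -/
theorem frat_normal_le [Finite G] (F : Subgroup G) [F.Normal] :
    (frattini ↥F).map F.subtype ≤ frattini G := by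
  obtain ⟨Φ, hΦ⟩ : ∃ Φ : Subgroup G, Φ = (frattini ↥F).map F.subtype := ⟨_, rfl⟩
  rw [← hΦ]
  haveI : Φ.Normal := by rw [hΦ]; exact ConjAct.normal_of_characteristic_of_normal
  have hΦF : Φ ≤ F := by rw [hΦ]; exact Subgroup.map_subtype_le _
  simp only [frattini, Order.radical, le_iInf_iff]
  intro M hM
  by_contra hnot
  have htop : M ⊔ Φ = ⊤ := by
    apply hM.2
    refine lt_of_le_of_ne le_sup_left (fun h => hnot ?_)
    rw [h]; exact le_sup_right
  have hFM : F ≤ M ⊓ F := by
    apply le_of_le_sup_frat inf_le_right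
    intro f hf
    have hf' : f ∈ M ⊔ Φ := by rw [htop]; trivial
    rw [Subgroup.mem_sup_of_normal_right] at hf'
    obtain ⟨m, hm, φ, hφ, rfl⟩ := hf'
    have hmF : m ∈ F := by
      have := F.mul_mem hf (F.inv_mem (hΦF hφ))
      simpa using this
    rw [← hΦ]
    exact Subgroup.mul_mem_sup (Subgroup.mem_inf.2 ⟨hm, hmF⟩) hφ
  exact hnot (hΦF.trans (hFM.trans inf_le_left))

/-- The Frattini index is an isomorphism invariant. -/
theorem fr_congr {A B : Type*} [Group A] [Group B] (e : A ≃* B) :
    (frattini A).index = (frattini B).index := by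
  have h1 : (frattini A).map (e : A →* B) = frattini B := by
    apply le_antisymm (lead.map_frattini_le_of_surjective (e : A →* B) e.surjective)
    intro b hb
    have := lead.map_frattini_le_of_surjective (e.symm : B →* A) e.symm.surjective
      (Subgroup.mem_map_of_mem _ hb)
    exact ⟨e.symm b, this, e.apply_symm_apply b⟩
  rw [← h1, Subgroup.index_map_equiv]

theorem fr_le_mul [Finite G] (K : Subgroup G) [K.Normal] :
    (frattini G).index ≤ (frattini ↥K).index * (frattini G ⊔ K).index := by
  haveI hΦn : (frattini G).Normal := Subgroup.normal_of_characteristic _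
  have h1 : (frattini G).relIndex (frattini G ⊔ K) * (frattini G ⊔ K).index =
      (frattini G).index := Subgroup.relIndex_mul_index le_sup_left
  have h2 : (frattini G).relIndex (frattini G ⊔ K) = (frattini G).relIndex K :=
    Subgroup.relIndex_sup_left K (frattini G)
  have h3 : (frattini G).relIndex K ∣ ((frattini ↥K).map K.subtype).relIndex K :=
    Subgroup.relIndex_dvd_of_le_left K (frat_normal_le K)
  have h4 : ((frattini ↥K).map K.subtype).relIndex K = (frattini ↥K).index := by
    unfold Subgroup.relIndex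
    rw [Subgroup.subgroupOf, Subgroup.comap_map_eq_self_of_injective K.subtype_injective]
  rw [h4] at h3
  have hpos : 0 < (frattini ↥K).index := Nat.pos_of_ne_zero Subgroup.index_ne_zero_of_finite
  rw [← h1, h2]
  exact Nat.mul_le_mul_right _ (Nat.le_of_dvd hpos h3)

theorem fr_le_quot [Finite G] {p : ℕ} [hp : Fact p.Prime] (hG : IsPGroup p G)
    (K : Subgroup G) [K.Normal] :
    (frattini G).index ≤ (frattini ↥K).index * (frattini (G ⧸ K)).index := by
  refine (fr_le_mul K).trans (Nat.mul_le_mul_left _ ?_)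
  haveI hΦn : (frattini G).Normal := Subgroup.normal_of_characteristic _
  obtain ⟨L, hL⟩ : ∃ L : Subgroup G, L = frattini G ⊔ K := ⟨_, rfl⟩
  rw [← hL]
  haveI hLn : L.Normal := by rw [hL]; infer_instance
  obtain ⟨N', hN'⟩ : ∃ N' : Subgroup (G ⧸ K), N' = L.map (QuotientGroup.mk' K) := ⟨_, rfl⟩
  haveI hN'n : N'.Normal := by
    rw [hN']; exact Subgroup.Normal.map hLn _ (QuotientGroup.mk'_surjective K)
  have hΦL : frattini G ≤ L := by rw [hL]; exact le_sup_left
  have hKL : K ≤ L := by rw [hL]; exact le_sup_right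
  have hcomm : commutator (G ⧸ K) ≤ N' := by
    rw [commutator_def, Subgroup.commutator_le]
    intro a _ b _
    obtain ⟨a', rfl⟩ := QuotientGroup.mk_surjective a
    obtain ⟨b', rfl⟩ := QuotientGroup.mk_surjective b
    rw [hN']
    refine ⟨⁅a', b'⁆, hΦL (helper1.commutator_le_frattini_of_isPGroup hG ?_), ?_⟩
    · rw [commutator_def]
      exact Subgroup.commutator_mem_commutator (Subgroup.mem_top _) (Subgroup.mem_top _)
    · exact map_commutatorElement (QuotientGroup.mk' K) a' b'
  have hpow : ∀ x : G ⧸ K, x ^ p ∈ N' := by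
    intro x
    obtain ⟨a, rfl⟩ := QuotientGroup.mk_surjective x
    rw [hN']
    exact ⟨a ^ p, hΦL (helper1.pow_mem_frattini_of_isPGroup hG a), map_pow _ a p⟩
  have hfr : frattini (G ⧸ K) ≤ N' := helper1.frattini_le_of_elemAb_quot N' hcomm hpow
  have hC : (frattini (G ⧸ K)).comap (QuotientGroup.mk' K) ≤ L := by
    intro x hx
    rw [Subgroup.mem_comap] at hx
    have := hfr hx
    rw [hN'] at this
    obtain ⟨y, hy, hyx⟩ := this
    have h1 : y⁻¹ * x ∈ K := by
      rw [← QuotientGroup.eq]; exact hyx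
    have : x = y * (y⁻¹ * x) := by group
    rw [this]
    exact L.mul_mem hy (hKL h1)
  have h5 := Subgroup.index_dvd_of_le hC
  rw [Subgroup.index_comap_of_surjective _ (QuotientGroup.mk'_surjective K)] at h5
  exact Nat.le_of_dvd (Nat.pos_of_ne_zero Subgroup.index_ne_zero_of_finite) h5

theorem fr_cyclic_le [Finite G] {p : ℕ} [hp : Fact p.Prime] (hG : IsPGroup p G) [IsCyclic G] :
    (frattini G).index ≤ p := by
  haveI hΦn : (frattini G).Normal := Subgroup.normal_of_characteristic _
  haveI : IsCyclic (G ⧸ frattini G) :=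
    isCyclic_of_surjective (QuotientGroup.mk' (frattini G)) (QuotientGroup.mk'_surjective _)
  have hexp : ∀ x : G ⧸ frattini G, x ^ p = 1 :=
    helper1.quot_pow_eq_one_of_pow_mem (frattini G) (helper1.pow_mem_frattini_of_isPGroup hG)
  have h1 : Monoid.exponent (G ⧸ frattini G) ∣ p := Monoid.exponent_dvd_of_forall_pow_eq_one hexp
  rw [IsCyclic.exponent_eq_card, ← Subgroup.index_eq_card] at h1
  exact Nat.le_of_dvd hp.out.pos h1

theorem fr_le_two_mul [Finite G] (H : Subgroup G) [H.Normal] (hH : H.index ≤ 2) :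
    (frattini G).index ≤ 2 * (frattini ↥H).index := by
  refine (fr_le_mul H).trans ?_
  rw [mul_comm]
  apply Nat.mul_le_mul_right
  have h1 : (frattini G ⊔ H).index ∣ H.index := Subgroup.index_dvd_of_le le_sup_right
  exact (Nat.le_of_dvd (Nat.pos_of_ne_zero Subgroup.index_ne_zero_of_finite) h1).trans hH

/-- A 2-group with a cyclic subgroup of index at most 2: all subgroups have Frattini index ≤ 4. -/
theorem fr_le_four [Finite G] (hG : IsPGroup 2 G) (C : Subgroup G) [hCc : IsCyclic ↥C]
    (hC : C.index ≤ 2) (S : Subgroup G) : (frattini ↥S).index ≤ 4 := by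
  haveI : Fact (Nat.Prime 2) := ⟨Nat.prime_two⟩
  haveI hCn : C.Normal := by
    have h0 : C.index ≠ 0 := Subgroup.index_ne_zero_of_finite
    have h12 : C.index = 1 ∨ C.index = 2 := by omega
    rcases h12 with h | h
    · rw [Subgroup.index_eq_one] at h; rw [h]; infer_instance
    · exact Subgroup.normal_of_index_eq_two h
  obtain ⟨C', hC'⟩ : ∃ C' : Subgroup ↥S, C' = C.subgroupOf S := ⟨_, rfl⟩
  haveI hC'n : C'.Normal := by rw [hC']; infer_instance
  have hmem0 : ∀ s : ↥S, s ∈ C' → (s : G) ∈ C := by
    intro s hs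
    rw [hC'] at hs
    exact Subgroup.mem_subgroupOf.1 hs
  have hmem : ∀ t : ↥C', ((t : ↥S) : G) ∈ C := fun t => hmem0 t.1 t.2
  let f : ↥C' →* ↥C :=
    { toFun := fun t => ⟨((t : ↥S) : G), hmem t⟩
      map_one' := rfl
      map_mul' := fun _ _ => rfl }
  have hf : Function.Injective f := by
    intro a b hab
    have h0 := Subtype.ext_iff.1 hab
    have : ((a : ↥S) : G) = ((b : ↥S) : G) := h0
    exact Subtype.ext (Subtype.ext this)
  haveI : IsCyclic ↥C' := isCyclic_of_injective f hf
  have hS2 : IsPGroup 2 ↥S := hG.to_subgroup S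
  have hC'2 : IsPGroup 2 ↥C' := hS2.to_subgroup C'
  have h1 : (frattini ↥C').index ≤ 2 := fr_cyclic_le hC'2
  have h2 : C'.index ≤ 2 := by
    have : C'.index = C.relIndex S := by rw [hC']; rfl
    rw [this]
    have h3 : C.relIndex S ∣ C.index := Subgroup.relIndex_dvd_index_of_normal C S
    exact (Nat.le_of_dvd (Nat.pos_of_ne_zero Subgroup.index_ne_zero_of_finite) h3).trans hC
  have h3 := fr_le_two_mul C' h2
  omega

/-- Index of a cyclic subgroup generated by an element of large order. -/
theorem index_zpowers_le_two [Finite G] (x : G) (h : Nat.card G ≤ 2 * orderOf x) :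
    (Subgroup.zpowers x).index ≤ 2 := by
  have h1 : (Subgroup.zpowers x).index * Nat.card (Subgroup.zpowers x) = Nat.card G :=
    Subgroup.index_mul_card _
  rw [Nat.card_zpowers] at h1
  have hpos : 0 < orderOf x := orderOf_pos x
  by_contra hlt
  push_neg at hlt
  have : 3 * orderOf x ≤ (Subgroup.zpowers x).index * orderOf x :=
    Nat.mul_le_mul_right _ hlt
  omega

theorem fr_le_of_two_homs {T : Type*} [Group T] [Finite T] {p : ℕ} [hp : Fact p.Prime]
    (hT : IsPGroup p T) {A₀ A₁ : Type*} [Group A₀] [Group A₁] (f₀ : T →* A₀) (f₁ : T →* A₁)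
    (hk : f₀.ker ⊓ f₁.ker = ⊥) (b : ℕ)
    (h₀ : ∀ S : Subgroup A₀, (frattini ↥S).index ≤ b)
    (h₁ : ∀ S : Subgroup A₁, (frattini ↥S).index ≤ b) :
    (frattini T).index ≤ b * b := by
  refine (fr_le_quot hT f₀.ker).trans ?_
  apply Nat.mul_le_mul
  · obtain ⟨g, hg⟩ : ∃ g : ↥f₀.ker →* A₁, g = f₁.comp f₀.ker.subtype := ⟨_, rfl⟩
    have hginj : Function.Injective g := by
      rw [injective_iff_map_eq_one]
      intro a ha
      have h1 : (a : T) ∈ f₀.ker ⊓ f₁.ker :=
        Subgroup.mem_inf.2 ⟨a.2, MonoidHom.mem_ker.2 (by rw [hg] at ha; exact ha)⟩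
      rw [hk, Subgroup.mem_bot] at h1
      exact Subtype.ext h1
    rw [fr_congr (MonoidHom.ofInjective hginj)]
    exact h₁ g.range
  · rw [fr_congr (QuotientGroup.quotientKerEquivRange f₀)]
    exact h₀ f₀.range

end Cfsg.Agent.helper23.FrRank
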