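import Mathlib
import Cfsg.Statements.S3380
import Cfsg.Agent.Lib_helper7_NormalE2
import Cfsg.Agent.S0129
import Cfsg.Agent.S3761

set_option autoImplicit false
open Cfsg

namespace Cfsg.Agent.S3380

section Mod

variable {q : ℕ} [Fact q.Prime] {V : Type*} [AddCommGroup V] [Module (ZMod q) V]
  {G : Type*} [Group G] (ρ : G →* (V ≃ₗ[ZMod q] V))

/-- fixed space of `ρ x` -/
def Fx (x : G) : Submodule (ZMod q) V where
  carrier := {v | ρ x v = v}
  add_mem' := by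
    intro a b ha hb
    have ha' : ρ x a = a := ha
    have hb' : ρ x b = b := hb
    show ρ x (a + b) = a + b
    rw [map_add, ha', hb']
  zero_mem' := by
    show ρ x 0 = 0
    exact map_zero _
  smul_mem' := by
    intro c v hv
    have hv' : ρ x v = v := hv
    show ρ x (c • v) = c • v
    rw [map_smul, hv']

theorem rho_conj (g x : G) (v : V) : ρ (g * x * g⁻¹) v = ρ g (ρ x (ρ g⁻¹ v)) := by
  rw [map_mul, map_mul, LinearEquiv.mul_apply, LinearEquiv.mul_apply]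

theorem rho_inv_self (g : G) (v : V) : ρ g⁻¹ (ρ g v) = v := by
  rw [← LinearEquiv.mul_apply, ← map_mul, inv_mul_cancel, map_one]
  rfl

theorem rho_self_inv (g : G) (v : V) : ρ g (ρ g⁻¹ v) = v := by
  rw [← LinearEquiv.mul_apply, ← map_mul, mul_inv_cancel, map_one]
  rfl

theorem map_Fx (g x : G) :
    (Fx ρ x).map ((ρ g : V ≃ₗ[ZMod q] V) : V →ₗ[ZMod q] V) = Fx ρ (g * x * g⁻¹) := by
  ext v
  rw [Submodule.mem_map]
  constructor
  · rintro ⟨w, hw, rfl⟩
    have hw' : ρ x w = w := hw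
    show ρ (g * x * g⁻¹) (ρ g w) = ρ g w
    rw [rho_conj, rho_inv_self, hw']
  · intro hv
    have hv' : ρ (g * x * g⁻¹) v = v := hv
    refine ⟨ρ g⁻¹ v, ?_, ?_⟩
    · show ρ x (ρ g⁻¹ v) = ρ g⁻¹ v
      rw [rho_conj] at hv'
      have h1 := congrArg (ρ g⁻¹) hv'
      rw [rho_inv_self] at h1
      exact h1
    · show ρ g (ρ g⁻¹ v) = v
      exact rho_self_inv ρ g v

/-- trace operator -/
def Tr (n : ℕ) (x : G) : V →ₗ[ZMod q] V :=
  ∑ j ∈ Finset.range n, ((ρ (x ^ j) : V ≃ₗ[ZMod q] V) : V →ₗ[ZMod q] V)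

theorem Tr_apply (n : ℕ) (x : G) (v : V) :
    Tr ρ n x v = ∑ j ∈ Finset.range n, ρ (x ^ j) v := by
  unfold Tr
  rw [LinearMap.sum_apply]
  rfl

theorem Tr_mem_Fx (n : ℕ) (x : G) (hx : x ^ n = 1) (v : V) : Tr ρ n x v ∈ Fx ρ x := by
  show ρ x (Tr ρ n x v) = Tr ρ n x v
  rw [Tr_apply, map_sum]
  have h1 : ∀ j ∈ Finset.range n, ρ x (ρ (x ^ j) v) = ρ (x ^ (j + 1)) v := by
    intro j _
    rw [pow_succ', map_mul, LinearEquiv.mul_apply]
  rw [Finset.sum_congr rfl h1]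
  have h2 : ∑ k ∈ Finset.range (n + 1), ρ (x ^ k) v
      = ∑ k ∈ Finset.range n, ρ (x ^ (k + 1)) v + ρ (x ^ 0) v :=
    Finset.sum_range_succ' (fun j => ρ (x ^ j) v) n
  have h3 : ∑ k ∈ Finset.range (n + 1), ρ (x ^ k) v
      = ∑ k ∈ Finset.range n, ρ (x ^ k) v + ρ (x ^ n) v :=
    Finset.sum_range_succ (fun j => ρ (x ^ j) v) n
  rw [h3, hx, pow_zero] at h2
  exact (add_right_cancel h2).symm

theorem rho_pow_fix (x : G) (v : V) (hv : ρ x v = v) (j : ℕ) : ρ (x ^ j) v = v := by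
  induction j with
  | zero => rw [pow_zero, map_one]; rfl
  | succ j ih => rw [pow_succ, map_mul, LinearEquiv.mul_apply, hv, ih]

theorem Tr_of_mem (n : ℕ) (x : G) (v : V) (hv : ρ x v = v) : Tr ρ n x v = n • v := by
  rw [Tr_apply, Finset.sum_congr rfl (fun j _ => rho_pow_fix ρ x v hv j), Finset.sum_const,
    Finset.card_range]

theorem Tr_mem_Fx_of_comm (n : ℕ) (x y : G) (hxy : Commute y x) (v : V) (hv : ρ y v = v) :
    Tr ρ n x v ∈ Fx ρ y := by
  show ρ y (Tr ρ n x v) = Tr ρ n x v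
  rw [Tr_apply, map_sum]
  refine Finset.sum_congr rfl (fun j _ => ?_)
  have h1 : y * x ^ j = x ^ j * y := (hxy.pow_right j).eq
  rw [← LinearEquiv.mul_apply, ← map_mul, h1, map_mul, LinearEquiv.mul_apply, hv]

theorem Fx_central (hρ : Function.Injective ρ)
    (hirr : ∀ W : Submodule (ZMod q) V, (∀ g : G, ∀ w ∈ W, ρ g w ∈ W) → W = ⊥ ∨ W = ⊤)
    (x : G) (hx1 : x ≠ 1) (hxc : ∀ g : G, g * x = x * g) : Fx ρ x = ⊥ := by
  have hinv : ∀ g : G, ∀ w ∈ Fx ρ x, ρ g w ∈ Fx ρ x := by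
    intro g w hw
    have hw' : ρ x w = w := hw
    show ρ x (ρ g w) = ρ g w
    rw [← LinearEquiv.mul_apply, ← map_mul, ← hxc g, map_mul, LinearEquiv.mul_apply, hw']
  rcases hirr _ hinv with h | h
  · exact h
  · exfalso
    apply hx1
    apply hρ
    rw [map_one]
    ext v
    have hv : v ∈ Fx ρ x := by rw [h]; exact Submodule.mem_top
    exact hv

theorem key_sum (p : ℕ) (hp0 : 0 < p) (x z : G) (hxz : Commute x z) (hzp : z ^ p = 1)
    (hz : ∀ j, 0 < j → j < p → Fx ρ (z ^ j) = ⊥) (v : V) :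
    ∑ i ∈ Finset.range p, Tr ρ p (x * z ^ i) v = p • v := by
  have h1 : ∀ i ∈ Finset.range p, Tr ρ p (x * z ^ i) v
      = ∑ j ∈ Finset.range p, ρ (x ^ j) (ρ ((z ^ j) ^ i) v) := by
    intro i _
    rw [Tr_apply]
    refine Finset.sum_congr rfl (fun j _ => ?_)
    have hc : Commute x (z ^ i) := hxz.pow_right i
    rw [hc.mul_pow, map_mul, LinearEquiv.mul_apply, ← pow_mul, ← pow_mul, mul_comm i j]
  rw [Finset.sum_congr rfl h1, Finset.sum_comm]
  have h2 : ∀ j ∈ Finset.range p, ∑ i ∈ Finset.range p, ρ (x ^ j) (ρ ((z ^ j) ^ i) v)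
      = ρ (x ^ j) (Tr ρ p (z ^ j) v) := by
    intro j _
    rw [Tr_apply, map_sum]
  rw [Finset.sum_congr rfl h2]
  rw [Finset.sum_eq_single 0]
  · rw [pow_zero, pow_zero, map_one, Tr_of_mem ρ p 1 v (by rw [map_one]; rfl)]
    rfl
  · intro j hj hj0
    have hjp : j < p := Finset.mem_range.mp hj
    have h3 : Tr ρ p (z ^ j) v ∈ Fx ρ (z ^ j) :=
      Tr_mem_Fx ρ p (z ^ j) (by rw [← pow_mul, mul_comm, pow_mul, hzp, one_pow]) v
    rw [hz j (Nat.pos_of_ne_zero hj0) hjp, Submodule.mem_bot] at h3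
    rw [h3, map_zero]
  · intro h0
    exact absurd (Finset.mem_range.mpr hp0) h0

theorem pow_eq_one_aux (p : ℕ) (x z : G) (hxz : Commute x z) (hxp : x ^ p = 1) (hzp : z ^ p = 1)
    (i : ℕ) : (x * z ^ i) ^ p = 1 := by
  rw [(hxz.pow_right i).mul_pow, hxp, ← pow_mul, mul_comm, pow_mul, hzp, one_pow, one_mul]

theorem inv_smul_aux (p : ℕ) (hpq : (p : ZMod q) ≠ 0) (v : V) :
    v = (p : ZMod q)⁻¹ • (p • v) := by
  rw [← Nat.cast_smul_eq_nsmul (ZMod q) p v, smul_smul, inv_mul_cancel₀ hpq, one_smul]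

theorem Fx_iSup_eq_top (p : ℕ) (hp0 : 0 < p) (hpq : (p : ZMod q) ≠ 0) (x z : G)
    (hxz : Commute x z) (hxp : x ^ p = 1) (hzp : z ^ p = 1)
    (hz : ∀ j, 0 < j → j < p → Fx ρ (z ^ j) = ⊥) :
    (⨆ i : Fin p, Fx ρ (x * z ^ (i : ℕ))) = ⊤ := by
  rw [eq_top_iff]
  intro v _
  have h1 := key_sum ρ p hp0 x z hxz hzp hz v
  have h2 : p • v ∈ ⨆ i : Fin p, Fx ρ (x * z ^ (i : ℕ)) := by
    rw [← h1]
    refine Submodule.sum_mem _ (fun i hi => ?_)
    have hip : i < p := Finset.mem_range.mp hi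
    have h3 : Tr ρ p (x * z ^ i) v ∈ Fx ρ (x * z ^ i) :=
      Tr_mem_Fx ρ p _ (pow_eq_one_aux p x z hxz hxp hzp i) v
    exact Submodule.mem_iSup_of_mem (p := fun i : Fin p => Fx ρ (x * z ^ (i : ℕ)))
      (⟨i, hip⟩ : Fin p) h3
  rw [inv_smul_aux p hpq v]
  exact Submodule.smul_mem _ _ h2

theorem Fx_indep (p : ℕ) (hpq : (p : ZMod q) ≠ 0) (x z : G)
    (hxz : Commute x z) (hxp : x ^ p = 1) (hzp : z ^ p = 1)
    (hz : ∀ j, 0 < j → j < p → Fx ρ (z ^ j) = ⊥) :
    iSupIndep (fun i : Fin p => Fx ρ (x * z ^ (i : ℕ))) := by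
  rw [iSupIndep_def]
  intro i
  rw [Submodule.disjoint_def]
  intro v hvi hv
  have hyp : (x * z ^ (i : ℕ)) ^ p = 1 := pow_eq_one_aux p x z hxz hxp hzp i
  have hker : (⨆ j, ⨆ (_ : j ≠ i), Fx ρ (x * z ^ (j : ℕ)))
      ≤ LinearMap.ker (Tr ρ p (x * z ^ (i : ℕ))) := by
    refine iSup_le (fun j => iSup_le (fun hji => ?_))
    intro w hw
    rw [LinearMap.mem_ker]
    have hw' : ρ (x * z ^ (j : ℕ)) w = w := hw
    have h1 : Tr ρ p (x * z ^ (i : ℕ)) w ∈ Fx ρ (x * z ^ (i : ℕ)) := Tr_mem_Fx ρ p _ hyp w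
    have hc1 : Commute x (x * z ^ (i : ℕ)) := (Commute.refl x).mul_right (hxz.pow_right _)
    have hc2 : Commute (z ^ (j : ℕ)) (x * z ^ (i : ℕ)) :=
      ((hxz.pow_right _).symm).mul_right ((Commute.refl z).pow_pow _ _)
    have hcomm : Commute (x * z ^ (j : ℕ)) (x * z ^ (i : ℕ)) := hc1.mul_left hc2
    have h2 : Tr ρ p (x * z ^ (i : ℕ)) w ∈ Fx ρ (x * z ^ (j : ℕ)) :=
      Tr_mem_Fx_of_comm ρ p _ _ hcomm w hw'
    obtain ⟨u, hu⟩ : ∃ u, u = Tr ρ p (x * z ^ (i : ℕ)) w := ⟨_, rfl⟩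
    rw [← hu] at h1 h2 ⊢
    have h1' : ρ (x * z ^ (i : ℕ)) u = u := h1
    have h2' : ρ (x * z ^ (j : ℕ)) u = u := h2
    have hne : (j : ℕ) ≠ (i : ℕ) := fun h => hji (Fin.ext h)
    rcases lt_or_gt_of_ne hne with hlt | hgt
    · have h3 : x * z ^ (i : ℕ) = (x * z ^ (j : ℕ)) * z ^ ((i : ℕ) - (j : ℕ)) := by
        rw [mul_assoc, ← pow_add, Nat.add_sub_cancel' hlt.le]
      have h4 : ρ (z ^ ((i : ℕ) - (j : ℕ))) u = u := by
        have h5 := h1'
        rw [h3, map_mul, LinearEquiv.mul_apply] at h5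
        exact (ρ (x * z ^ (j : ℕ))).injective (h5.trans h2'.symm)
      have h6 : u ∈ Fx ρ (z ^ ((i : ℕ) - (j : ℕ))) := h4
      rw [hz _ (Nat.sub_pos_of_lt hlt) (lt_of_le_of_lt (Nat.sub_le _ _) i.isLt),
        Submodule.mem_bot] at h6
      exact h6
    · have h3 : x * z ^ (j : ℕ) = (x * z ^ (i : ℕ)) * z ^ ((j : ℕ) - (i : ℕ)) := by
        rw [mul_assoc, ← pow_add, Nat.add_sub_cancel' hgt.le]
      have h4 : ρ (z ^ ((j : ℕ) - (i : ℕ))) u = u := by
        have h5 := h2'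
        rw [h3, map_mul, LinearEquiv.mul_apply] at h5
        exact (ρ (x * z ^ (i : ℕ))).injective (h5.trans h1'.symm)
      have h6 : u ∈ Fx ρ (z ^ ((j : ℕ) - (i : ℕ))) := h4
      rw [hz _ (Nat.sub_pos_of_lt hgt) (lt_of_le_of_lt (Nat.sub_le _ _) j.isLt),
        Submodule.mem_bot] at h6
      exact h6
  have h0 : Tr ρ p (x * z ^ (i : ℕ)) v = 0 := LinearMap.mem_ker.mp (hker hv)
  have hvi' : ρ (x * z ^ (i : ℕ)) v = v := hvi
  rw [Tr_of_mem ρ p _ v hvi'] at h0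
  rw [inv_smul_aux p hpq v, h0, smul_zero]

end Mod

theorem p_ne_q {q : ℕ} [Fact q.Prime] {V : Type*} [AddCommGroup V] [Module (ZMod q) V]
    [Finite V] [Nontrivial V]
    {G : Type*} [Group G] [Finite G] (p : ℕ) [Fact p.Prime] (hG : IsPGroup p G)
    (ρ : G →* (V ≃ₗ[ZMod q] V)) (hρ : Function.Injective ρ)
    (hirr : ∀ W : Submodule (ZMod q) V, (∀ g : G, ∀ w ∈ W, ρ g w ∈ W) → W = ⊥ ∨ W = ⊤)
    (hnc : ¬ IsCyclic G) : p ≠ q := by
  intro hpq
  apply hnc
  obtain ⟨v0, hv0⟩ := exists_ne (0 : V)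
  have hpv : p • v0 = 0 := by
    rw [← Nat.cast_smul_eq_nsmul (ZMod q) p v0, hpq, ZMod.natCast_self, zero_smul]
  have hdvd : p ∣ Nat.card V := by
    have h1 : addOrderOf v0 = p := addOrderOf_eq_prime hpv hv0
    rw [← h1]; exact addOrderOf_dvd_natCard v0
  letI : MulAction G V := MulAction.compHom V ρ
  have hsm : ∀ (g : G) (v : V), g • v = ρ g v := fun g v => rfl
  have h0 : (0 : V) ∈ MulAction.fixedPoints G V := by
    rw [MulAction.mem_fixedPoints]; intro g; rw [hsm]; exact map_zero _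
  obtain ⟨b, hb, hb0⟩ := hG.exists_fixed_point_of_prime_dvd_card_of_fixed_point V hdvd h0
  rw [MulAction.mem_fixedPoints] at hb
  have hinv : ∀ g : G, ∀ w ∈ (⨅ g : G, Fx ρ g), ρ g w ∈ (⨅ g : G, Fx ρ g) := by
    intro g w hw
    have hw' := hw
    rw [Submodule.mem_iInf] at hw'
    have h1 : ρ g w = w := hw' g
    rw [h1]; exact hw
  have hbW : b ∈ (⨅ g : G, Fx ρ g) := by
    rw [Submodule.mem_iInf]; intro g
    show ρ g b = b
    rw [← hsm]; exact hb g
  rcases hirr _ hinv with h | h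
  · exfalso; rw [h, Submodule.mem_bot] at hbW; exact hb0 hbW.symm
  · haveI : Subsingleton G := ⟨fun g1 g2 => hρ (by
      ext v
      have hv : v ∈ (⨅ g : G, Fx ρ g) := by rw [h]; exact Submodule.mem_top
      rw [Submodule.mem_iInf] at hv
      have e1 : ρ g1 v = v := hv g1
      have e2 : ρ g2 v = v := hv g2
      rw [e1, e2])⟩
    exact isCyclic_of_subsingleton

theorem exists_E {G : Type*} [Group G] [Finite G] (p : ℕ) [hpF : Fact p.Prime] (hG : IsPGroup p G)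
    (hnc : ¬ IsCyclic G) (hnq : ∀ n : ℕ, ¬ Nonempty (G ≃* QuaternionGroup n))
    (hnd : ∀ n : ℕ, ¬ Nonempty (G ≃* DihedralGroup n)) (hnsd : ¬ Cfsg.IsQuasiDihedral G) :
    ∃ E : Subgroup G, E.Normal ∧ Cfsg.IsElementaryAbelian p E ∧ Nat.card E = p ^ 2 := by
  have hp : p.Prime := Fact.out
  have hbot : IsMulCommutative (⊥ : Subgroup G) := ⟨⟨fun a b => by
    have ha := Subgroup.mem_bot.mp a.2
    have hb := Subgroup.mem_bot.mp b.2
    exact Subtype.ext (by rw [Subgroup.coe_mul, Subgroup.coe_mul, ha, hb])⟩⟩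
  obtain ⟨U, -, hUmax⟩ := Finite.exists_le_maximal (α := Subgroup G)
    (p := fun A => A.Normal ∧ IsMulCommutative A) (a := ⊥) ⟨inferInstance, hbot⟩
  obtain ⟨⟨hUn, hUab⟩, hUmax'⟩ := hUmax
  haveI := hUn
  by_cases hUc : IsCyclic U
  · have hna : ¬ IsMulCommutative G := by
      intro hab
      have h1 : IsMulCommutative (⊤ : Subgroup G) :=
        ⟨⟨fun a b => Subtype.ext (hab.is_comm.comm a.1 b.1)⟩⟩
      have h2 : (⊤ : Subgroup G) ≤ U := hUmax' ⟨inferInstance, h1⟩ le_top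
      apply hnc
      obtain ⟨⟨g, hg⟩, hgen⟩ := hUc.exists_generator
      refine ⟨⟨g, fun x => ?_⟩⟩
      have h3 := hgen ⟨x, h2 (Subgroup.mem_top x)⟩
      obtain ⟨k, hk⟩ := Subgroup.mem_zpowers_iff.mp h3
      exact ⟨k, by have h4 := congrArg Subtype.val hk; simpa using h4⟩
    have hCU := Cfsg.Agent.S0129.centralizer_eq hG U hUab
      (fun B' hB'n hB'ab hle => le_antisymm (hUmax' ⟨hB'n, hB'ab⟩ hle) hle)
    obtain ⟨k, hk⟩ := IsPGroup.iff_card.mp (hG.to_subgroup U)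
    rcases Cfsg.Agent.S3761.result hG hna U hUc k hk hCU with
      ⟨hp2, hcard, hstr⟩ | ⟨-, hEA, hcardΩ, hchar⟩
    · exfalso
      rcases hstr with ⟨m, ⟨e⟩⟩ | ⟨m, ⟨e⟩⟩ | hqd
      · exact hnd m ⟨e⟩
      · exact hnq m ⟨e⟩
      · exact hnsd hqd
    · exact ⟨_, @Subgroup.normal_of_characteristic _ _ _ hchar, hEA, hcardΩ⟩
  · have hUab' : ∀ x ∈ U, ∀ y ∈ U, x * y = y * x := fun x hx y hy =>
      congrArg Subtype.val (hUab.is_comm.comm ⟨x, hx⟩ ⟨y, hy⟩)
    obtain ⟨N, hNdef⟩ : ∃ N : Subgroup G, N = helper7.torsionOf U hUab' p := ⟨_, rfl⟩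
    have hmemN : ∀ w, w ∈ N ↔ w ∈ U ∧ w ^ p = 1 := by
      intro w; rw [hNdef]; exact helper7.mem_torsionOf
    haveI hNn : N.Normal := by rw [hNdef]; exact helper7.torsionOf_normal
    have hNE : Cfsg.IsElementaryAbelian p N :=
      ⟨⟨⟨fun a b => Subtype.ext (hUab' a.1 ((hmemN _).mp a.2).1 b.1 ((hmemN _).mp b.2).1)⟩⟩,
        fun a ha => ((hmemN a).mp ha).2⟩
    have hcardN : p ^ 2 ≤ Nat.card N := by
      by_contra hlt
      apply hUc
      apply helper7.isCyclic_of_card_omega_le (p := p) (A := U)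
        (fun a b => hUab.is_comm.comm a b) (hG.to_subgroup U)
      obtain ⟨k, hk⟩ := IsPGroup.iff_card.mp (hG.to_subgroup N)
      have hk1 : k ≤ 1 := by
        by_contra h
        have h' : 2 ≤ k := by omega
        apply hlt; rw [hk]; exact Nat.pow_le_pow_right hp.pos h'
      have hNp : Nat.card N ≤ p := by
        rw [hk]
        calc p ^ k ≤ p ^ 1 := Nat.pow_le_pow_right hp.pos hk1
          _ = p := pow_one p
      have hinj : Nat.card {a : U // a ^ p = 1} ≤ Nat.card N := by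
        apply Nat.card_le_card_of_injective
          (fun a => (⟨a.1.1, (hmemN _).mpr ⟨a.1.2, by
            have h1 := congrArg Subtype.val a.2
            simpa using h1⟩⟩ : N))
        intro a b hab
        have h1 : a.1.1 = b.1.1 := congrArg (fun w : ↥N => (w : G)) hab
        exact Subtype.ext (Subtype.ext h1)
      exact hinj.trans hNp
    obtain ⟨E, hEN, hEn, hEc⟩ := helper7.exists_normal_card_sq_le hG N hNE hcardN
    exact ⟨E, hEn, helper3.ea_mono hNE hEN, hEc⟩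

theorem conj_eq {G : Type*} [Group G] [Finite G] {p : ℕ} [Fact p.Prime] (hG : IsPGroup p G)
    (E : Subgroup G) [hEn : E.Normal] (hEc : Nat.card E = p ^ 2)
    (x z : G) (hxE : x ∈ E) (hzE : z ∈ E) (hzc : ∀ g : G, g * z = z * g)
    (hxp : x ^ p = 1) (hoz : orderOf z = p) (hxZ : x ∉ Subgroup.zpowers z) (g : G) :
    ∃ k : ℕ, g * x * g⁻¹ = x * z ^ k := by
  have hp : p.Prime := Fact.out
  have hxz : Commute x z := hzc x
  have hx1 : x ≠ 1 := fun h => hxZ (h ▸ Subgroup.one_mem _)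
  have h6 : ∀ e ∈ E, ∃ a b : ℕ, e = x ^ a * z ^ b := by
    haveI hZn : (Subgroup.zpowers z).Normal := by
      constructor
      intro n hn g
      obtain ⟨k, rfl⟩ := Subgroup.mem_zpowers_iff.mp hn
      have hc : Commute g z := hzc g
      have h1 : g * z ^ k * g⁻¹ = z ^ k := by
        rw [(hc.zpow_right k).eq, mul_inv_cancel_right]
      rw [h1]; exact hn
    obtain ⟨S, hS⟩ : ∃ S : Subgroup G, S = Subgroup.zpowers x ⊔ Subgroup.zpowers z := ⟨_, rfl⟩
    have hSE : S ≤ E := by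
      rw [hS]; exact sup_le (Subgroup.zpowers_le.mpr hxE) (Subgroup.zpowers_le.mpr hzE)
    have hZS : Subgroup.zpowers z ≤ S := by rw [hS]; exact le_sup_right
    have hxS : x ∈ S := by
      rw [hS]; exact (le_sup_left : Subgroup.zpowers x ≤ _) (Subgroup.mem_zpowers x)
    have hcS : Nat.card S = p ^ 2 := by
      have h1 : Nat.card S ∣ p ^ 2 := hEc ▸ Subgroup.card_dvd_of_le hSE
      obtain ⟨k, hk2, hk⟩ := (Nat.dvd_prime_pow hp).mp h1
      have h2 : p ∣ Nat.card S := by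
        have h3 := Subgroup.card_dvd_of_le hZS
        rwa [Nat.card_zpowers, hoz] at h3
      interval_cases k
      · rw [hk, pow_zero] at h2
        exact absurd (Nat.le_of_dvd one_pos h2) (not_le.mpr hp.one_lt)
      · exfalso
        have h4 : Subgroup.zpowers z = S :=
          Subgroup.eq_of_le_of_card_ge hZS (by rw [hk, pow_one, Nat.card_zpowers, hoz])
        exact hxZ (h4 ▸ hxS)
      · exact hk
    have hSeq : S = E := Subgroup.eq_of_le_of_card_ge hSE (by rw [hcS, hEc])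
    intro e he
    rw [← hSeq, hS] at he
    have he' : e ∈ ((Subgroup.zpowers x ⊔ Subgroup.zpowers z : Subgroup G) : Set G) := he
    rw [Subgroup.mul_normal] at he'
    obtain ⟨a, ha, b, hb, rfl⟩ := Set.mem_mul.mp he'
    have ha' := mem_powers_iff_mem_zpowers.mpr ha
    have hb' := mem_powers_iff_mem_zpowers.mpr hb
    obtain ⟨m, rfl⟩ := (Submonoid.mem_powers_iff _ _).mp ha'
    obtain ⟨n, rfl⟩ := (Submonoid.mem_powers_iff _ _).mp hb'
    exact ⟨m, n, rfl⟩
  obtain ⟨a, b, hab⟩ := h6 (g * x * g⁻¹) (hEn.conj_mem x hxE g)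
  have hind : ∀ m : ℕ, ∃ c : ℕ, g ^ m * x * (g ^ m)⁻¹ = x ^ (a ^ m) * z ^ c := by
    intro m
    induction m with
    | zero => exact ⟨0, by simp⟩
    | succ m ih =>
      obtain ⟨c, hc⟩ := ih
      refine ⟨b * a ^ m + c, ?_⟩
      have e1 : g ^ (m + 1) * x * (g ^ (m + 1))⁻¹ = g * (g ^ m * x * (g ^ m)⁻¹) * g⁻¹ := by
        rw [pow_succ']; group
      rw [e1, hc]
      have hc' : Commute (z ^ c) g⁻¹ :=
        (((show Commute g z from hzc g).pow_right c).symm).inv_right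
      have e2 : g * (x ^ (a ^ m) * z ^ c) * g⁻¹ = (g * x * g⁻¹) ^ (a ^ m) * z ^ c := by
        rw [conj_pow]
        calc g * (x ^ (a ^ m) * z ^ c) * g⁻¹ = g * x ^ (a ^ m) * (z ^ c * g⁻¹) := by
              simp only [mul_assoc]
          _ = g * x ^ (a ^ m) * (g⁻¹ * z ^ c) := by rw [hc'.eq]
          _ = g * x ^ (a ^ m) * g⁻¹ * z ^ c := by simp only [mul_assoc]
      have e3 : a * a ^ m = a ^ (m + 1) := (pow_succ' a m).symm
      rw [e2, hab, (hxz.pow_pow a b).mul_pow, ← pow_mul, ← pow_mul, mul_assoc, ← pow_add, e3]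
  obtain ⟨n, hn⟩ := (IsPGroup.iff_orderOf.mp hG) g
  obtain ⟨c, hc⟩ := hind (p ^ n)
  have hg1 : g ^ (p ^ n) = 1 := by rw [← hn]; exact pow_orderOf_eq_one g
  rw [hg1, one_mul, inv_one, mul_one] at hc
  have hox : orderOf x = p := orderOf_eq_prime hxp hx1
  have hmod : a ^ (p ^ n) ≡ a [MOD p] := by
    rw [← ZMod.natCast_eq_natCast_iff]
    push_cast
    exact ZMod.pow_card_pow _
  have hxa : x ^ (a ^ (p ^ n)) = x ^ a := by
    rw [pow_eq_pow_iff_modEq, hox]; exact hmod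
  rw [hxa] at hc
  refine ⟨c * (p - 1) + b, ?_⟩
  rw [hab]
  have hz1 : z ^ (c + c * (p - 1)) = 1 := by
    have h1 : c + c * (p - 1) = p * c := by
      have hp1 : 1 ≤ p := hp.pos
      obtain ⟨p', hp'⟩ : ∃ p', p = p' + 1 := ⟨p - 1, by omega⟩
      rw [hp', Nat.add_sub_cancel]; ring
    rw [h1, pow_mul, ← hoz, pow_orderOf_eq_one, one_pow]
  calc x ^ a * z ^ b = x ^ a * z ^ (c + c * (p - 1)) * z ^ b := by rw [hz1, mul_one]
    _ = (x ^ a * z ^ c) * z ^ (c * (p - 1) + b) := by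
        rw [pow_add, pow_add]; simp only [mul_assoc]
    _ = x * z ^ (c * (p - 1) + b) := by rw [← hc]

/-- Let a finite p-group G act faithfully and irreducibly on a non-trivial finite vector space V over the field with q elements (q prime), and suppose G is not cyclic, generalized quaternion, dihedral or semidihedral. Then G has a subgroup H of index p and V is the direct sum of p subspaces, each invariant under H, on none of which H acts faithfully, and which every element of G outside H permutes in a single p-cycle. -/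
theorem result
    (q : ℕ) [Fact q.Prime] {V : Type*} [AddCommGroup V] [Module (ZMod q) V] [Finite V] [Nontrivial V]
    {G : Type*} [Group G] [Finite G] (p : ℕ) [Fact p.Prime] (hG : IsPGroup p G)
    (ρ : G →* (V ≃ₗ[ZMod q] V)) (hρ : Function.Injective ρ)
    (hirr : ∀ W : Submodule (ZMod q) V, (∀ g : G, ∀ w ∈ W, ρ g w ∈ W) → W = ⊥ ∨ W = ⊤)
    (hnc : ¬ IsCyclic G) (hnq : ∀ n : ℕ, ¬ Nonempty (G ≃* QuaternionGroup n))
    (hnd : ∀ n : ℕ, ¬ Nonempty (G ≃* DihedralGroup n)) (hnsd : ¬ Cfsg.IsQuasiDihedral G) :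
    ∃ (H : Subgroup G) (W : Fin p → Submodule (ZMod q) V), H.index = p ∧
      iSup W = ⊤ ∧ iSupIndep W ∧
      (∀ h ∈ H, ∀ i, ∀ w ∈ W i, ρ h w ∈ W i) ∧
      (∀ i, ∃ h ∈ H, h ≠ 1 ∧ ∀ w ∈ W i, ρ h w = w) ∧
      ∀ g : G, g ∉ H → ∃ σ : Equiv.Perm (Fin p), orderOf σ = p ∧ ∀ i, (W i).map (ρ g : V →ₗ[ZMod q] V) = W (σ i) := by
  have hp : p.Prime := Fact.out
  have hq : q.Prime := Fact.out
  have hpq : p ≠ q := p_ne_q p hG ρ hρ hirr hnc
  have hpq0 : (p : ZMod q) ≠ 0 := by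
    intro h
    rw [ZMod.natCast_eq_zero_iff] at h
    exact hpq ((Nat.prime_dvd_prime_iff_eq hq hp).mp h).symm
  obtain ⟨E, hEn, hEA, hEc⟩ := exists_E p hG hnc hnq hnd hnsd
  haveI := hEn
  have hE1 : E ≠ ⊥ := by
    intro h
    rw [h, Subgroup.card_bot] at hEc
    have := hp.one_lt
    nlinarith
  obtain ⟨z, hzE, hz1, hzc⟩ := helper7.exists_central_of_normal hG E hE1
  have hzp : z ^ p = 1 := hEA.2 z hzE
  have hoz : orderOf z = p := orderOf_eq_prime hzp hz1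
  have hx : ∃ x ∈ E, x ∉ Subgroup.zpowers z := by
    by_contra h
    simp only [not_exists, not_and, not_not] at h
    have hle : E ≤ Subgroup.zpowers z := h
    have h1 := Subgroup.card_le_of_le hle
    rw [hEc, Nat.card_zpowers, hoz] at h1
    have := hp.one_lt
    nlinarith
  obtain ⟨x, hxE, hxZ⟩ := hx
  have hxp : x ^ p = 1 := hEA.2 x hxE
  have hxz : Commute x z := hzc x
  have hzj : ∀ j, 0 < j → j < p → Fx ρ (z ^ j) = ⊥ := by
    intro j hj0 hjp
    apply Fx_central ρ hρ hirr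
    · intro h
      have h1 := orderOf_dvd_of_pow_eq_one h
      rw [hoz] at h1
      exact absurd (Nat.le_of_dvd hj0 h1) (not_le.mpr hjp)
    · intro g
      exact ((show Commute g z from hzc g).pow_right j).eq
  have hsup := Fx_iSup_eq_top ρ p hp.pos hpq0 x z hxz hxp hzp hzj
  have hind := Fx_indep ρ p hpq0 x z hxz hxp hzp hzj
  have hxzi : ∀ i : ℕ, x * z ^ i ≠ 1 := by
    intro i h
    apply hxZ
    have h1 : x = (z ^ i)⁻¹ := eq_inv_of_mul_eq_one_left h
    rw [h1]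
    exact Subgroup.inv_mem _ (Subgroup.pow_mem _ (Subgroup.mem_zpowers z) i)
  obtain ⟨H, hHdef⟩ : ∃ H : Subgroup G, H = Subgroup.centralizer ({x} : Set G) := ⟨_, rfl⟩
  have hHmem : ∀ g, g ∈ H ↔ g * x = x * g := by
    intro g; rw [hHdef, Subgroup.mem_centralizer_singleton_iff]
  have hidx : H.index = p := by
    have h1 : (Subgroup.centralizer (E : Set G)).index ∣ p :=
      helper7.index_centralizer_dvd_of_card_dvd_sq hG E (by rw [hEc])
    have h2 : Subgroup.centralizer (E : Set G) ≤ H := by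
      rw [hHdef]; exact Subgroup.centralizer_le (Set.singleton_subset_iff.mpr hxE)
    have h3 : H.index ∣ p := (Subgroup.index_dvd_of_le h2).trans h1
    rcases (Nat.dvd_prime hp).mp h3 with h | h
    · exfalso
      have hHtop : H = ⊤ := Subgroup.index_eq_one.mp h
      have hxc : ∀ g : G, g * x = x * g := fun g => (hHmem g).mp (hHtop ▸ Subgroup.mem_top g)
      have h4 : (⨆ i : Fin p, Fx ρ (x * z ^ (i : ℕ))) = ⊥ := by
        rw [iSup_eq_bot]; intro i
        apply Fx_central ρ hρ hirr _ (hxzi i)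
        intro g
        have hc1 : Commute g x := hxc g
        have hc2 : Commute g z := hzc g
        exact (hc1.mul_right (hc2.pow_right _)).eq
      rw [hsup] at h4
      exact top_ne_bot h4
    · exact h
  refine ⟨H, fun i => Fx ρ (x * z ^ (i : ℕ)), hidx, hsup, hind, ?_, ?_, ?_⟩
  · intro h hh i w hw
    have hw' : ρ (x * z ^ (i : ℕ)) w = w := hw
    show ρ (x * z ^ (i : ℕ)) (ρ h w) = ρ h w
    have hc : Commute h (x * z ^ (i : ℕ)) :=
      (show Commute h x from (hHmem h).mp hh).mul_right ((show Commute h z from hzc h).pow_right _)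
    rw [← LinearEquiv.mul_apply, ← map_mul, ← hc.eq, map_mul, LinearEquiv.mul_apply, hw']
  · intro i
    refine ⟨x * z ^ (i : ℕ), ?_, hxzi _, fun w hw => hw⟩
    rw [hHmem]
    exact ((Commute.refl x).mul_left (hxz.pow_right _).symm).eq
  · intro g hg
    have hgx : g * x ≠ x * g := fun h => hg ((hHmem g).mpr h)
    obtain ⟨k, hk⟩ : ∃ k : ℕ, g * x * g⁻¹ = x * z ^ k :=
      conj_eq hG E hEc x z hxE hzE hzc hxp hoz hxZ g
    have hkp : k % p ≠ 0 := by
      intro h0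
      apply hgx
      have h1 : z ^ k = 1 := by rw [← pow_mod_orderOf, hoz, h0, pow_zero]
      rw [h1, mul_one] at hk
      calc g * x = g * x * g⁻¹ * g := by group
        _ = x * g := by rw [hk]
    haveI : NeZero p := ⟨hp.ne_zero⟩
    obtain ⟨k', hk'⟩ : ∃ k' : Fin p, (k' : ℕ) = k % p := ⟨⟨k % p, Nat.mod_lt _ hp.pos⟩, rfl⟩
    refine ⟨Equiv.addRight k', ?_, ?_⟩
    · apply orderOf_eq_prime
      · rw [Equiv.nsmul_addRight]
        have h1 : p • k' = 0 := by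
          have h := card_nsmul_eq_zero (G := Fin p) (x := k')
          rwa [Fintype.card_fin] at h
        rw [h1, Equiv.addRight_zero]
      · intro h
        have h1 := Equiv.congr_fun h (⟨0, hp.pos⟩ : Fin p)
        have h2 : (⟨0, hp.pos⟩ : Fin p) + k' = ⟨0, hp.pos⟩ := h1
        have h3 : (0 + k % p) % p = 0 := by
          have h4 := congrArg Fin.val h2
          rw [Fin.val_add, hk'] at h4
          exact h4
        rw [Nat.zero_add, Nat.mod_mod] at h3
        exact hkp h3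
    · intro i
      show (Fx ρ (x * z ^ (i : ℕ))).map ((ρ g : V ≃ₗ[ZMod q] V) : V →ₗ[ZMod q] V)
        = Fx ρ (x * z ^ ((Equiv.addRight k' i : Fin p) : ℕ))
      have h2 : ((Equiv.addRight k' i : Fin p) : ℕ) = ((i : ℕ) + k % p) % p := by
        rw [← hk']; exact Fin.val_add i k'
      have e1 : z ^ (i : ℕ) * g⁻¹ = g⁻¹ * z ^ (i : ℕ) :=
        ((((show Commute g z from hzc g).pow_right (i : ℕ)).symm).inv_right).eq
      have h1 : g * (x * z ^ (i : ℕ)) * g⁻¹ = (g * x * g⁻¹) * z ^ (i : ℕ) := by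
        calc g * (x * z ^ (i : ℕ)) * g⁻¹ = g * x * (z ^ (i : ℕ) * g⁻¹) := by
              simp only [mul_assoc]
          _ = g * x * (g⁻¹ * z ^ (i : ℕ)) := by rw [e1]
          _ = (g * x * g⁻¹) * z ^ (i : ℕ) := by simp only [mul_assoc]
      have h3 : x * z ^ k * z ^ (i : ℕ) = x * z ^ (((i : ℕ) + k % p) % p) := by
        rw [mul_assoc, ← pow_add, ← pow_mod_orderOf z (k + (i : ℕ)),
          ← pow_mod_orderOf z ((((i : ℕ) + k % p) % p)), hoz, Nat.mod_mod, Nat.add_mod_mod,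
          Nat.add_comm]
      rw [map_Fx, h1, hk, h2, h3]

end Cfsg.Agent.S3380
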