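import Mathlib
import Cfsg.Agent.Lib_helper23_FrRank1
import Cfsg.Agent.S3380

set_option autoImplicit false
open Cfsg
open scoped commutatorElement

namespace Cfsg.Agent.helper23.FrRank

universe u v

section rep

variable {q : ℕ} [hq : Fact q.Prime] {V : Type*} [AddCommGroup V] [Module (ZMod q) V]

theorem exists_scalar_hom {A : Type*} [Group A] (ρ : A →* (V ≃ₗ[ZMod q] V))
    (hρ : Function.Injective ρ) (v₀ : V) (hv₀ : v₀ ≠ 0)
    (hspan : ∀ w : V, ∃ c : ZMod q, c • v₀ = w) :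
    ∃ f : A →* ZMod q, Function.Injective f := by
  choose c hc using fun a : A => hspan (ρ a v₀)
  have key : ∀ a w, ρ a w = c a • w := by
    intro a w
    obtain ⟨d, rfl⟩ := hspan w
    rw [map_smul, ← hc a, smul_comm]
  have hinj : Function.Injective (fun x : ZMod q => x • v₀) := smul_left_injective (ZMod q) hv₀
  refine ⟨{ toFun := c, map_one' := ?_, map_mul' := ?_ }, ?_⟩
  · apply hinj
    show c 1 • v₀ = (1 : ZMod q) • v₀
    rw [hc, map_one, one_smul]; rfl
  · intro a b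
    apply hinj
    show c (a * b) • v₀ = (c a * c b) • v₀
    rw [hc, map_mul, LinearEquiv.mul_apply, ← hc b, map_smul, ← hc a, smul_smul, mul_comm]
  · intro a b hab
    apply hρ
    ext w
    rw [key, key]
    have : c a = c b := hab
    rw [this]

theorem card_eq_pow [Finite V] : Nat.card V = q ^ Module.finrank (ZMod q) V := by
  haveI : Module.Finite (ZMod q) V := Module.Finite.of_finite
  rw [Module.natCard_eq_pow_finrank (K := ZMod q), Nat.card_zmod]

theorem cyclic_or_nine_le [Finite V] [Nontrivial V] (hq2 : q ≠ 2) {A : Type*} [Group A]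
    [Finite A] (ρ : A →* (V ≃ₗ[ZMod q] V)) (hρ : Function.Injective ρ) :
    IsCyclic A ∨ 9 ≤ Nat.card V := by
  have hcard : Nat.card V = q ^ Module.finrank (ZMod q) V := card_eq_pow
  obtain ⟨v₀, hv₀⟩ := exists_ne (0 : V)
  by_cases h1 : Module.finrank (ZMod q) V = 1
  · left
    have hspan := (finrank_eq_one_iff_of_nonzero' v₀ hv₀).1 h1
    obtain ⟨f, hf⟩ := exists_scalar_hom ρ hρ v₀ hv₀ hspan
    exact isCyclic_of_injective_ringHom f hf
  · right
    have h0 : Module.finrank (ZMod q) V ≠ 0 := by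
      intro h0
      rw [h0, pow_zero] at hcard
      have := Finite.one_lt_card (α := V)
      omega
    have h2 : 2 ≤ Module.finrank (ZMod q) V := by omega
    have hq3 : 3 ≤ q := by
      have := hq.out.two_le
      omega
    rw [hcard]
    calc 9 = 3 ^ 2 := by norm_num
      _ ≤ q ^ 2 := Nat.pow_le_pow_left hq3 2
      _ ≤ q ^ Module.finrank (ZMod q) V := Nat.pow_le_pow_right (by omega) h2

theorem card_le_of_card_prime [Finite V] {A : Type*} [Group A] [Finite A]
    (ρ : A →* (V ≃ₗ[ZMod q] V)) (hρ : Function.Injective ρ) (hV : Nat.card V = q) :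
    Nat.card A ≤ q - 1 := by
  have hcard : Nat.card V = q ^ Module.finrank (ZMod q) V := card_eq_pow
  have h1 : Module.finrank (ZMod q) V = 1 := by
    rw [hV] at hcard
    have h2 : q ^ 1 = q ^ Module.finrank (ZMod q) V := by rw [pow_one]; exact hcard
    exact (Nat.pow_right_injective hq.out.two_le h2).symm
  haveI : Nontrivial V := by
    rw [← Finite.one_lt_card_iff_nontrivial, hV]; exact hq.out.one_lt
  obtain ⟨v₀, hv₀⟩ := exists_ne (0 : V)
  obtain ⟨f, hf⟩ := exists_scalar_hom ρ hρ v₀ hv₀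
    ((finrank_eq_one_iff_of_nonzero' v₀ hv₀).1 h1)
  have hinj : Function.Injective f.toHomUnits := by
    intro a b hab
    apply hf
    have := congrArg Units.val hab
    simpa [MonoidHom.coe_toHomUnits] using this
  have := Nat.card_le_card_of_injective _ hinj
  rwa [Nat.card_units, Nat.card_zmod] at this

/-- Restriction of an action to an invariant submodule. -/
noncomputable def resHom {A : Type*} [Group A] (ρ : A →* (V ≃ₗ[ZMod q] V))
    (W : Submodule (ZMod q) V) (hW : ∀ a : A, ∀ w ∈ W, ρ a w ∈ W) :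
    A →* (↥W ≃ₗ[ZMod q] ↥W) where
  toFun a :=
    { toFun := fun w => ⟨ρ a w, hW a w w.2⟩
      map_add' := fun x y => Subtype.ext (by simp)
      map_smul' := fun c x => Subtype.ext (by simp)
      invFun := fun w => ⟨ρ a⁻¹ w, hW a⁻¹ w w.2⟩
      left_inv := fun w => Subtype.ext (by
        show ρ a⁻¹ (ρ a w) = w
        rw [← LinearEquiv.mul_apply, ← map_mul, inv_mul_cancel, map_one]; rfl)
      right_inv := fun w => Subtype.ext (by
        show ρ a (ρ a⁻¹ w) = w
        rw [← LinearEquiv.mul_apply, ← map_mul, mul_inv_cancel, map_one]; rfl) }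
  map_one' := by
    apply LinearEquiv.ext
    intro w
    apply Subtype.ext
    show ρ 1 (w : V) = w
    rw [map_one]; rfl
  map_mul' a b := by
    apply LinearEquiv.ext
    intro w
    apply Subtype.ext
    show ρ (a * b) (w : V) = ρ a (ρ b w)
    rw [map_mul]; rfl

/-- The action of a subgroup `H` on an `H`-invariant submodule. -/
noncomputable def compRep {P : Type*} [Group P] (ρ : P →* (V ≃ₗ[ZMod q] V)) (H : Subgroup P)
    (W : Submodule (ZMod q) V) (hW : ∀ h ∈ H, ∀ x ∈ W, ρ h x ∈ W) :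
    ↥H →* (↥W ≃ₗ[ZMod q] ↥W) :=
  resHom (ρ.comp H.subtype) W (fun a x hx => hW a.1 a.2 x hx)

theorem compRep_apply {P : Type*} [Group P] (ρ : P →* (V ≃ₗ[ZMod q] V)) (H : Subgroup P)
    (W : Submodule (ZMod q) V) (hW : ∀ h ∈ H, ∀ x ∈ W, ρ h x ∈ W) (a : ↥H) (x : ↥W) :
    ((compRep ρ H W hW a x : ↥W) : V) = ρ (a : P) (x : V) := rfl

theorem mem_ker_compRep {P : Type*} [Group P] {ρ : P →* (V ≃ₗ[ZMod q] V)} {H : Subgroup P}
    {W : Submodule (ZMod q) V} {hW : ∀ h ∈ H, ∀ x ∈ W, ρ h x ∈ W} {a : ↥H}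
    (ha : a ∈ (compRep ρ H W hW).ker) (x : V) (hx : x ∈ W) : ρ (a : P) x = x := by
  rw [MonoidHom.mem_ker] at ha
  have := congrArg (fun e : ↥W ≃ₗ[ZMod q] ↥W => ((e ⟨x, hx⟩ : ↥W) : V)) ha
  exact this

theorem irr_component {P : Type*} [Group P] (ρ : P →* (V ≃ₗ[ZMod q] V))
    (hirr : ∀ W : Submodule (ZMod q) V, (∀ g : P, ∀ w ∈ W, ρ g w ∈ W) → W = ⊥ ∨ W = ⊤)
    (H : Subgroup P) (hH : H.index = 2) (W₀ W₁ : Submodule (ZMod q) V) (hdisj : W₀ ⊓ W₁ = ⊥)
    (g : P) (hg : g ∉ H)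
    (hgW : W₀.map (ρ g : V →ₗ[ZMod q] V) = W₁) (U : Submodule (ZMod q) V) (hU : U ≤ W₀)
    (hUinv : ∀ h ∈ H, ∀ u ∈ U, ρ h u ∈ U) : U = ⊥ ∨ U = W₀ := by
  haveI hHn : H.Normal := Subgroup.normal_of_index_eq_two hH
  obtain ⟨X, hX⟩ : ∃ X : Submodule (ZMod q) V, X = U ⊔ U.map (ρ g : V →ₗ[ZMod q] V) :=
    ⟨_, rfl⟩
  have hmul : ∀ a b : P, ∀ x : V, ρ (a * b) x = ρ a (ρ b x) := by
    intro a b x; rw [map_mul]; rfl
  have hXinv : ∀ x : P, ∀ v ∈ X, ρ x v ∈ X := by
    intro x v hv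
    rw [hX] at hv ⊢
    obtain ⟨u, hu, t, ht, rfl⟩ := Submodule.mem_sup.1 hv
    obtain ⟨u', hu', rfl⟩ := ht
    rw [map_add]
    by_cases hx : x ∈ H
    · apply Submodule.add_mem
      · exact Submodule.mem_sup_left (hUinv x hx u hu)
      · apply Submodule.mem_sup_right
        have h1 : g⁻¹ * x * g ∈ H := by
          have := hHn.conj_mem x hx g⁻¹
          simpa using this
        refine ⟨ρ (g⁻¹ * x * g) u', hUinv _ h1 u' hu', ?_⟩
        show ρ g (ρ (g⁻¹ * x * g) u') = ρ x (ρ g u')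
        rw [← hmul, ← hmul]
        congr 2
        group
    · have hgi : g⁻¹ ∉ H := fun h => hg (by simpa using H.inv_mem h)
      have h1 : g⁻¹ * x ∈ H := by
        rw [Subgroup.mul_mem_iff_of_index_two hH]
        exact ⟨fun h => absurd h hgi, fun h => absurd h hx⟩
      have h2 : x * g ∈ H := by
        rw [Subgroup.mul_mem_iff_of_index_two hH]
        exact ⟨fun h => absurd h hx, fun h => absurd h hg⟩
      apply Submodule.add_mem
      · apply Submodule.mem_sup_right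
        refine ⟨ρ (g⁻¹ * x) u, hUinv _ h1 u hu, ?_⟩
        show ρ g (ρ (g⁻¹ * x) u) = ρ x u
        rw [← hmul]
        congr 2
        group
      · apply Submodule.mem_sup_left
        have : ρ x (ρ g u') = ρ (x * g) u' := (hmul x g u').symm
        show ρ x (ρ g u') ∈ U
        rw [this]
        exact hUinv _ h2 u' hu'
  rcases hirr X hXinv with h | h
  · left
    rw [eq_bot_iff, ← h, hX]
    exact le_sup_left
  · right
    apply le_antisymm hU
    intro w hw
    have hwX : w ∈ X := by rw [h]; trivial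
    rw [hX] at hwX
    obtain ⟨u, hu, t, ht, rfl⟩ := Submodule.mem_sup.1 hwX
    obtain ⟨u', hu', rfl⟩ := ht
    have h1 : (ρ g : V →ₗ[ZMod q] V) u' ∈ W₁ := by
      rw [← hgW]; exact ⟨u', hU hu', rfl⟩
    have h2 : (ρ g : V →ₗ[ZMod q] V) u' ∈ W₀ := by
      have := W₀.sub_mem hw (hU hu)
      simpa using this
    have h3 : (ρ g : V →ₗ[ZMod q] V) u' ∈ W₀ ⊓ W₁ := ⟨h2, h1⟩
    rw [hdisj, Submodule.mem_bot] at h3
    rw [h3, add_zero]
    exact hu

end rep

theorem perm_fin_two (σ : Equiv.Perm (Fin 2)) (h : σ ≠ 1) : σ 0 = 1 ∧ σ 1 = 0 := by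
  revert σ; decide

/-- The bound function. -/
def bnd (n : ℕ) : ℕ := if n = 3 then 2 else (n - 1) / 2

theorem two_le_bnd {n : ℕ} (h3 : 3 ≤ n) (hodd : Odd n) : 2 ≤ bnd n := by
  unfold bnd
  split_ifs with h
  · exact le_rfl
  · obtain ⟨k, rfl⟩ := hodd; omega

theorem four_le_bnd {n : ℕ} (h : 9 ≤ n) : 4 ≤ bnd n := by
  unfold bnd
  split_ifs <;> omega

theorem bnd_le {n : ℕ} (hn : 3 ≤ n) : bnd n ≤ n - 1 := by
  unfold bnd
  split_ifs <;> omega

theorem bnd_sq {w : ℕ} (hodd : Odd w) (h5 : 5 ≤ w) : 2 * (bnd w * bnd w) ≤ bnd (w * w) := by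
  obtain ⟨b, rfl⟩ := hodd
  have hb : 2 ≤ b := by omega
  have h1 : bnd (2 * b + 1) = b := by
    unfold bnd; rw [if_neg (by omega)]; omega
  have e : (2 * b + 1) * (2 * b + 1) = 2 * (2 * b * b + 2 * b) + 1 := by ring
  have h2 : bnd ((2 * b + 1) * (2 * b + 1)) = 2 * b * b + 2 * b := by
    unfold bnd
    rw [e, if_neg]
    · generalize 2 * b * b + 2 * b = X; omega
    · intro h; nlinarith
  rw [h1, h2]; nlinarith

end Cfsg.Agent.helper23.FrRank
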