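import Mathlib
import Cfsg.Agent.Lib_helper23_FrRank2

set_option autoImplicit false
set_option maxHeartbeats 800000
open Cfsg
open scoped commutatorElement

namespace Cfsg.Agent.helper23.FrRank

universe u v

theorem main_bound (q : ℕ) [hq : Fact q.Prime] (hq2 : q ≠ 2) :
    ∀ (n : ℕ) (V : Type u) [AddCommGroup V] [Module (ZMod q) V] [Finite V] [Nontrivial V]
      (P : Type v) [Group P] [Finite P], IsPGroup 2 P →
      ∀ (ρ : P →* (V ≃ₗ[ZMod q] V)), Function.Injective ρ →
      (∀ W : Submodule (ZMod q) V, (∀ g : P, ∀ w ∈ W, ρ g w ∈ W) → W = ⊥ ∨ W = ⊤) →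
      Nat.card V = n → ∀ S : Subgroup P, (frattini ↥S).index ≤ bnd n := by
  intro n
  induction n using Nat.strong_induction_on with
  | _ n ih =>
  intro V _ _ _ _ P _ _ hP ρ hρ hirr hn S
  haveI : Fact (Nat.Prime 2) := ⟨Nat.prime_two⟩
  have hcard : Nat.card V = q ^ Module.finrank (ZMod q) V := card_eq_pow
  have hqodd : Odd q := hq.out.odd_of_ne_two hq2
  have hnodd : Odd n := by rw [← hn, hcard]; exact hqodd.pow
  have hn1 : 1 < n := by rw [← hn]; exact Finite.one_lt_card
  have hn3 : 3 ≤ n := by obtain ⟨k, rfl⟩ := hnodd; omega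
  by_cases hcyc : IsCyclic P
  · haveI := hcyc
    have h1 : (frattini ↥S).index ≤ 2 := fr_cyclic_le (hP.to_subgroup S)
    exact h1.trans (two_le_bnd hn3 hnodd)
  have hn9 : 9 ≤ n := by
    rcases cyclic_or_nine_le hq2 ρ hρ with h | h
    · exact absurd h hcyc
    · rw [← hn]; exact h
  have h4 := four_le_bnd hn9
  have key4 : (∃ x : P, Nat.card P ≤ 2 * orderOf x) → (frattini ↥S).index ≤ bnd n := by
    rintro ⟨x, hx⟩
    exact (fr_le_four hP (Subgroup.zpowers x) (index_zpowers_le_two x hx) S).trans h4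
  by_cases hQ : ∃ m : ℕ, Nonempty (P ≃* QuaternionGroup m)
  · obtain ⟨m, ⟨e⟩⟩ := hQ
    apply key4
    have hm : m ≠ 0 := by
      rintro rfl
      haveI : Finite (QuaternionGroup 0) := Finite.of_equiv P e.toEquiv
      haveI : Infinite (QuaternionGroup 0) :=
        Infinite.of_injective (fun i : ℤ => (QuaternionGroup.a i : QuaternionGroup 0))
          (fun i j h => QuaternionGroup.a.inj h)
      exact not_finite (QuaternionGroup 0)
    haveI : NeZero m := ⟨hm⟩
    refine ⟨e.symm (QuaternionGroup.a 1), ?_⟩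
    rw [MulEquiv.orderOf_eq, QuaternionGroup.orderOf_a_one, Nat.card_congr e.toEquiv,
      Nat.card_eq_fintype_card, QuaternionGroup.card]
    omega
  by_cases hD : ∃ m : ℕ, Nonempty (P ≃* DihedralGroup m)
  · obtain ⟨m, ⟨e⟩⟩ := hD
    apply key4
    refine ⟨e.symm (DihedralGroup.r 1), ?_⟩
    rw [MulEquiv.orderOf_eq, DihedralGroup.orderOf_r_one, Nat.card_congr e.toEquiv,
      DihedralGroup.nat_card]
  by_cases hSD : Cfsg.IsQuasiDihedral P
  · obtain ⟨k, _, hcardP, x, _, hx, _, _⟩ := hSD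
    apply key4
    refine ⟨x, ?_⟩
    rw [hcardP, hx, pow_succ]
    omega
  have hnq : ∀ m : ℕ, ¬ Nonempty (P ≃* QuaternionGroup m) := fun m h => hQ ⟨m, h⟩
  have hnd : ∀ m : ℕ, ¬ Nonempty (P ≃* DihedralGroup m) := fun m h => hD ⟨m, h⟩
  obtain ⟨H, W, hHidx, hsup, hind, hHW, hfix, hswap⟩ :=
    Cfsg.Agent.S3380.result q 2 hP ρ hρ hirr hcyc hnq hnd hSD
  haveI hHn : H.Normal := Subgroup.normal_of_index_eq_two hHidx
  obtain ⟨g, hg⟩ : ∃ g : P, g ∉ H := by
    by_contra hall
    push_neg at hall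
    have : H = ⊤ := by rw [eq_top_iff]; intro x _; exact hall x
    rw [this, Subgroup.index_top] at hHidx
    omega
  obtain ⟨σ, hσ2, hσ⟩ := hswap g hg
  have hσne : σ ≠ 1 := by
    rintro rfl
    rw [orderOf_one] at hσ2; omega
  obtain ⟨hσ0, hσ1⟩ := perm_fin_two σ hσne
  have hg01 : (W 0).map (ρ g : V →ₗ[ZMod q] V) = W 1 := by rw [hσ 0, hσ0]
  have hg10 : (W 1).map (ρ g : V →ₗ[ZMod q] V) = W 0 := by rw [hσ 1, hσ1]
  have hdisj : W 0 ⊓ W 1 = ⊥ := by
    have := hind.pairwiseDisjoint (show (0 : Fin 2) ≠ 1 by decide)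
    exact disjoint_iff.1 this
  have hsup' : W 0 ⊔ W 1 = ⊤ := by
    rw [eq_top_iff, ← hsup]
    apply iSup_le
    intro i
    fin_cases i
    · exact le_sup_left
    · exact le_sup_right
  have hcompl : IsCompl (W 0) (W 1) := ⟨disjoint_iff.2 hdisj, codisjoint_iff.2 hsup'⟩
  have hcardV : Nat.card V = Nat.card ↥(W 0) * Nat.card ↥(W 1) := by
    rw [← Nat.card_prod]
    exact (Nat.card_congr (Submodule.prodEquivOfIsCompl (W 0) (W 1) hcompl).toEquiv).symm
  have hcard01 : Nat.card ↥(W 1) = Nat.card ↥(W 0) := by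
    rw [← hg01]
    exact (Nat.card_congr (Submodule.equivMapOfInjective (ρ g : V →ₗ[ZMod q] V)
      (ρ g).injective (W 0)).toEquiv).symm
  obtain ⟨w, hw⟩ : ∃ w, w = Nat.card ↥(W 0) := ⟨_, rfl⟩
  have hnw : n = w * w := by rw [← hn, hcardV, hcard01, hw]
  have hw2 : 2 ≤ w := by nlinarith
  have hwn : w < n := by nlinarith
  have hwodd : Odd w := by
    rw [hnw] at hnodd
    exact (Nat.odd_mul.1 hnodd).1
  have hmul : ∀ a b : P, ∀ x : V, ρ (a * b) x = ρ a (ρ b x) := by
    intro a b x; rw [map_mul]; rfl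
  -- the two components
  have comp : ∀ i j : Fin 2, (W i).map (ρ g : V →ₗ[ZMod q] V) = W j → W i ⊓ W j = ⊥ →
      Nat.card ↥(W i) = w →
      ∀ S' : Subgroup (↥H ⧸ (compRep ρ H (W i) (fun h hh x hx => hHW h hh i x hx)).ker),
        (frattini ↥S').index ≤ bnd w := by
    intro i j hij hdij hcw
    haveI : Nontrivial ↥(W i) := by rw [← Finite.one_lt_card_iff_nontrivial, hcw]; omega
    apply ih w hwn ↥(W i)
      (↥H ⧸ (compRep ρ H (W i) (fun h hh x hx => hHW h hh i x hx)).ker)
      ((hP.to_subgroup H).to_quotient _)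
      (QuotientGroup.kerLift (compRep ρ H (W i) (fun h hh x hx => hHW h hh i x hx)))
      (QuotientGroup.kerLift_injective _) ?_ hcw
    intro U' hU'
    obtain ⟨U, hU⟩ : ∃ U : Submodule (ZMod q) V, U = U'.map (W i).subtype := ⟨_, rfl⟩
    have hUle : U ≤ W i := by rw [hU]; exact Submodule.map_subtype_le _ _
    have hUinv : ∀ h ∈ H, ∀ u ∈ U, ρ h u ∈ U := by
      intro h hh u hu
      rw [hU] at hu ⊢
      obtain ⟨u', hu', rfl⟩ := hu
      have := hU' (QuotientGroup.mk ⟨h, hh⟩) u' hu'
      rw [QuotientGroup.kerLift_mk] at this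
      exact ⟨_, this, rfl⟩
    rcases irr_component ρ hirr H hHidx (W i) (W j) hdij g hg hij U hUle hUinv with h0 | h1
    · left
      apply Submodule.map_injective_of_injective (W i).injective_subtype
      rw [← hU, h0, Submodule.map_bot]
    · right
      apply Submodule.map_injective_of_injective (W i).injective_subtype
      rw [← hU, h1, Submodule.map_subtype_top]
  have hI0 := comp 0 1 hg01 hdisj hw.symm
  have hI1 := comp 1 0 hg10 (by rw [inf_comm]; exact hdisj) (hcard01.trans hw.symm)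
  have hfaith : ∀ x : P, (∀ a ∈ W 0, ρ x a = a) → (∀ b ∈ W 1, ρ x b = b) → x = 1 := by
    intro x h0 h1
    apply hρ
    rw [map_one]
    ext v
    have hv : v ∈ W 0 ⊔ W 1 := by rw [hsup']; trivial
    obtain ⟨a, ha, b, hb, rfl⟩ := Submodule.mem_sup.1 hv
    rw [map_add, h0 a ha, h1 b hb]; rfl
  by_cases hw3 : w = 3
  · -- special case |V| = 9
    have hq3 : q = 3 := by
      have h1 : Nat.card ↥(W 0) = q ^ Module.finrank (ZMod q) ↥(W 0) := card_eq_pow
      rw [← hw, hw3] at h1
      have hk : Module.finrank (ZMod q) ↥(W 0) ≠ 0 := by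
        intro h0; rw [h0, pow_zero] at h1; omega
      have hdvd : q ∣ 3 := by rw [h1]; exact dvd_pow_self q hk
      exact (Nat.prime_dvd_prime_iff_eq hq.out Nat.prime_three).1 hdvd
    have hA : ∀ i : Fin 2, Nat.card ↥(W i) = w →
        Nat.card (↥H ⧸ (compRep ρ H (W i) (fun h hh x hx => hHW h hh i x hx)).ker) ≤ 2 := by
      intro i hcw
      have := card_le_of_card_prime
        (QuotientGroup.kerLift (compRep ρ H (W i) (fun h hh x hx => hHW h hh i x hx)))
        (QuotientGroup.kerLift_injective _) (by rw [hcw, hw3, hq3])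
      have h2 : q - 1 = 2 := by omega
      exact this.trans h2.le
    have hH4 : Nat.card ↥H ≤ 4 := by
      obtain ⟨F, hF⟩ : ∃ F : ↥H →*
          (↥H ⧸ (compRep ρ H (W 0) (fun h hh x hx => hHW h hh 0 x hx)).ker) ×
          (↥H ⧸ (compRep ρ H (W 1) (fun h hh x hx => hHW h hh 1 x hx)).ker),
          F = (QuotientGroup.mk' _).prod (QuotientGroup.mk' _) := ⟨_, rfl⟩
      have hFinj : Function.Injective F := by
        rw [injective_iff_map_eq_one]
        intro a ha
        rw [hF] at ha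
        have h0 : a ∈ (compRep ρ H (W 0) (fun h hh x hx => hHW h hh 0 x hx)).ker :=
          (QuotientGroup.eq_one_iff a).1 (congrArg Prod.fst ha)
        have h1 : a ∈ (compRep ρ H (W 1) (fun h hh x hx => hHW h hh 1 x hx)).ker :=
          (QuotientGroup.eq_one_iff a).1 (congrArg Prod.snd ha)
        have := hfaith (a : P) (fun x hx => mem_ker_compRep h0 x hx)
          (fun x hx => mem_ker_compRep h1 x hx)
        exact Subtype.ext this
      have h1 := Nat.card_le_card_of_injective F hFinj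
      rw [Nat.card_prod] at h1
      have h2 := hA 0 hw.symm
      have h3 := hA 1 (hcard01.trans hw.symm)
      calc Nat.card ↥H ≤ _ := h1
        _ ≤ 2 * 2 := Nat.mul_le_mul h2 h3
    have hP8 : Nat.card P ≤ 8 := by
      have := Subgroup.index_mul_card H
      rw [hHidx] at this
      omega
    -- nonabelian
    obtain ⟨k, hkH, hk1, hkW⟩ := hfix 0
    have hgk : ¬ Commute g k := by
      intro hc
      apply hk1
      apply hfaith k hkW
      intro b hb
      rw [← hg01] at hb
      obtain ⟨a, ha, rfl⟩ := hb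
      show ρ k (ρ g a) = ρ g a
      rw [← hmul, ← hc.eq, hmul, hkW a ha]
    have hΦ : frattini P ≠ ⊥ := by
      intro hΦ
      apply hgk
      rw [← commutatorElement_eq_one_iff_commute]
      have h1 : ⁅g, k⁆ ∈ commutator P := by
        rw [commutator_def]
        exact Subgroup.commutator_mem_commutator (Subgroup.mem_top _) (Subgroup.mem_top _)
      have h2 := helper1.commutator_le_frattini_of_isPGroup hP h1
      rw [hΦ, Subgroup.mem_bot] at h2
      exact h2
    have hfrP : (frattini P).index ≤ 4 := by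
      have h1 := Subgroup.index_mul_card (frattini P)
      have h2 : 1 < Nat.card ↥(frattini P) := (Subgroup.one_lt_card_iff_ne_bot (frattini P)).2 hΦ
      by_contra hlt
      push_neg at hlt
      have : 5 * 2 ≤ (frattini P).index * Nat.card ↥(frattini P) := Nat.mul_le_mul hlt h2
      omega
    have hb9 : bnd n = 4 := by
      rw [hnw, hw3]; unfold bnd; norm_num
    rw [hb9]
    by_cases hS : S = ⊤
    · subst hS
      rw [fr_congr (Subgroup.topEquiv : ↥(⊤ : Subgroup P) ≃* P)]
      exact hfrP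
    · have h1 : S.index ≠ 1 := fun h => hS (Subgroup.index_eq_one.1 h)
      have h0 : S.index ≠ 0 := Subgroup.index_ne_zero_of_finite
      have h2 := Subgroup.index_mul_card S
      have h3 : Nat.card ↥S ≤ 4 := by
        by_contra hlt
        push_neg at hlt
        have : 2 * 5 ≤ S.index * Nat.card ↥S := Nat.mul_le_mul (by omega) hlt
        omega
      have h4 : (frattini ↥S).index ∣ Nat.card ↥S := Subgroup.index_dvd_card _
      exact (Nat.le_of_dvd Nat.card_pos h4).trans h3
  · -- generic case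
    have hw5 : 5 ≤ w := by
      obtain ⟨b, rfl⟩ := hwodd
      omega
    obtain ⟨K, hK⟩ : ∃ K : Subgroup ↥S, K = H.subgroupOf S := ⟨_, rfl⟩
    haveI hKn : K.Normal := by rw [hK]; infer_instance
    have hKidx : K.index ≤ 2 := by
      have : K.index = H.relIndex S := by rw [hK]; rfl
      rw [this]
      have h3 : H.relIndex S ∣ H.index := Subgroup.relIndex_dvd_index_of_normal H S
      rw [hHidx] at h3
      exact Nat.le_of_dvd (by norm_num) h3
    have hKmem : ∀ s : ↥S, s ∈ K → (s : P) ∈ H := by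
      intro s hs; rw [hK] at hs; exact Subgroup.mem_subgroupOf.1 hs
    let jS : ↥K →* ↥H :=
      { toFun := fun t => ⟨((t : ↥S) : P), hKmem t.1 t.2⟩
        map_one' := rfl
        map_mul' := fun _ _ => rfl }
    obtain ⟨f₀, hf₀⟩ : ∃ f₀ : ↥K →*
        ↥H ⧸ (compRep ρ H (W 0) (fun h hh x hx => hHW h hh 0 x hx)).ker,
        f₀ = (QuotientGroup.mk' _).comp jS := ⟨_, rfl⟩
    obtain ⟨f₁, hf₁⟩ : ∃ f₁ : ↥K →*
        ↥H ⧸ (compRep ρ H (W 1) (fun h hh x hx => hHW h hh 1 x hx)).ker,
        f₁ = (QuotientGroup.mk' _).comp jS := ⟨_, rfl⟩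
    have hk : f₀.ker ⊓ f₁.ker = ⊥ := by
      rw [eq_bot_iff]
      intro t ht
      rw [Subgroup.mem_bot]
      have h0 : jS t ∈ (compRep ρ H (W 0) (fun h hh x hx => hHW h hh 0 x hx)).ker := by
        have := MonoidHom.mem_ker.1 (Subgroup.mem_inf.1 ht).1
        rw [hf₀] at this
        exact (QuotientGroup.eq_one_iff _).1 this
      have h1 : jS t ∈ (compRep ρ H (W 1) (fun h hh x hx => hHW h hh 1 x hx)).ker := by
        have := MonoidHom.mem_ker.1 (Subgroup.mem_inf.1 ht).2
        rw [hf₁] at this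
        exact (QuotientGroup.eq_one_iff _).1 this
      have := hfaith ((t : ↥S) : P) (fun a ha => mem_ker_compRep h0 a ha)
        (fun b hb => mem_ker_compRep h1 b hb)
      exact Subtype.ext (Subtype.ext this)
    have hT : (frattini ↥K).index ≤ bnd w * bnd w :=
      fr_le_of_two_homs ((hP.to_subgroup S).to_subgroup K) f₀ f₁ hk (bnd w) hI0 hI1
    have hS2 : (frattini ↥S).index ≤ 2 * (frattini ↥K).index := fr_le_two_mul K hKidx
    have h5 := bnd_sq hwodd hw5
    rw [hnw]
    calc (frattini ↥S).index ≤ 2 * (frattini ↥K).index := hS2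
      _ ≤ 2 * (bnd w * bnd w) := Nat.mul_le_mul_left _ hT
      _ ≤ bnd (w * w) := h5

end Cfsg.Agent.helper23.FrRank
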