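import Mathlib
import Cfsg.Agent.Lib_helper23_FrRank3

set_option autoImplicit false
set_option maxHeartbeats 800000
open Cfsg

namespace Cfsg.Agent.helper23.FrRank

/-- An automorphism of an elementary abelian `q`-group as a `ZMod q`-linear equivalence. -/
noncomputable def autLin {E : Type*} [CommGroup E] (q : ℕ) [Module (ZMod q) (Additive E)] :
    MulAut E →* (Additive E ≃ₗ[ZMod q] Additive E) where
  toFun φ :=
    { toFun := fun v => Additive.ofMul (φ (Additive.toMul v))
      map_add' := fun x y => by
        show Additive.ofMul (φ (Additive.toMul x * Additive.toMul y)) = _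
        rw [map_mul]; rfl
      map_smul' := fun c x => by
        have := ((MonoidHom.toAdditive φ.toMonoidHom).toZModLinearMap q).map_smul c x
        exact this
      invFun := fun v => Additive.ofMul (φ.symm (Additive.toMul v))
      left_inv := fun v => by
        show Additive.ofMul (φ.symm (φ (Additive.toMul v))) = v
        rw [MulEquiv.symm_apply_apply]; rfl
      right_inv := fun v => by
        show Additive.ofMul (φ (φ.symm (Additive.toMul v))) = v
        rw [MulEquiv.apply_symm_apply]; rfl }
  map_one' := by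
    apply LinearEquiv.ext
    intro v
    rfl
  map_mul' a b := by
    apply LinearEquiv.ext
    intro v
    rfl

theorem autLin_apply {E : Type*} [CommGroup E] (q : ℕ) [Module (ZMod q) (Additive E)]
    (φ : MulAut E) (v : Additive E) :
    autLin q φ v = Additive.ofMul (φ (Additive.toMul v)) := rfl

theorem core2 {E : Type*} [CommGroup E] [Finite E] [Nontrivial E] (q : ℕ) [Fact q.Prime]
    (hq2 : q ≠ 2) [Module (ZMod q) (Additive E)] {P : Type*} [Group P] [Finite P]
    (hP : IsPGroup 2 P) (act : P →* MulAut E) (hinj : Function.Injective act)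
    (hirr : ∀ M : Subgroup E, (∀ x : P, ∀ m ∈ M, act x m ∈ M) → M = ⊥ ∨ M = ⊤)
    (h3 : 3 ≤ Nat.card E) :
    (frattini P).index ≤ Nat.card E - 1 := by
  classical
  haveI : Finite (Additive E) := inferInstanceAs (Finite E)
  haveI : Nontrivial (Additive E) := inferInstanceAs (Nontrivial E)
  obtain ⟨ρ, hρdef⟩ : ∃ ρ : P →* (Additive E ≃ₗ[ZMod q] Additive E),
      ρ = (autLin (E := E) q).comp act := ⟨_, rfl⟩
  have hρapp : ∀ (x : P) (v : Additive E),
      Additive.toMul (ρ x v) = act x (Additive.toMul v) := by
    intro x v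
    rw [hρdef]
    rfl
  have hρinj : Function.Injective ρ := by
    rw [injective_iff_map_eq_one]
    intro x hx
    apply hinj
    rw [map_one]
    ext e
    have := hρapp x (Additive.ofMul e)
    rw [hx] at this
    exact this.symm
  have hirr' : ∀ W : Submodule (ZMod q) (Additive E),
      (∀ g : P, ∀ w ∈ W, ρ g w ∈ W) → W = ⊥ ∨ W = ⊤ := by
    intro W hW
    let M : Subgroup E :=
      { carrier := {g | Additive.ofMul g ∈ W}
        mul_mem' := by
          intro a b ha hb
          exact W.add_mem ha hb
        one_mem' := W.zero_mem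
        inv_mem' := by
          intro a ha
          exact W.neg_mem ha }
    have hM : ∀ x : P, ∀ m ∈ M, act x m ∈ M := by
      intro x m hm
      have h1 : ρ x (Additive.ofMul m) ∈ W := hW x _ hm
      have h2 : ρ x (Additive.ofMul m) = Additive.ofMul (act x m) := by
        apply Additive.toMul.injective
        exact hρapp x _
      rw [h2] at h1
      exact h1
    rcases hirr M hM with h | h
    · left
      rw [eq_bot_iff]
      intro v hv
      have h1 : Additive.toMul v ∈ M := hv
      rw [h, Subgroup.mem_bot] at h1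
      rw [Submodule.mem_bot]
      exact h1
    · right
      rw [eq_top_iff]
      intro v _
      have h1 : Additive.toMul v ∈ M := by rw [h]; exact Subgroup.mem_top _
      exact h1
  have hfin := main_bound q hq2 (Nat.card (Additive E)) (Additive E) P hP ρ hρinj hirr' rfl ⊤
  rw [fr_congr (Subgroup.topEquiv : ↥(⊤ : Subgroup P) ≃* P)] at hfin
  have hcardA : Nat.card (Additive E) = Nat.card E := rfl
  rw [hcardA] at hfin
  exact hfin.trans (bnd_le h3)

theorem core {E : Type*} [CommGroup E] [Finite E] [Nontrivial E] (q : ℕ) [Fact q.Prime]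
    (hq2 : q ≠ 2) (hexp : ∀ a : E, a ^ q = 1) {P : Type*} [Group P] [Finite P]
    (hP : IsPGroup 2 P) (act : P →* MulAut E) (hinj : Function.Injective act)
    (hirr : ∀ M : Subgroup E, (∀ x : P, ∀ m ∈ M, act x m ∈ M) → M = ⊥ ∨ M = ⊤)
    (h3 : 3 ≤ Nat.card E) :
    (frattini P).index ≤ Nat.card E - 1 := by
  have hpa : ∀ a : Additive E, q • a = 0 := fun a => by
    change Additive.ofMul ((Additive.toMul a) ^ q) = 0
    rw [hexp]; rfl
  exact @core2 E _ _ _ q _ hq2 (AddCommGroup.zmodModule hpa) P _ _ hP act hinj hirr h3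

/-- The bundled commutative group structure on a commutative subgroup. -/
@[reducible] def commGroupOf {G : Type*} [Group G] (N : Subgroup G) (h : IsMulCommutative ↥N) :
    CommGroup ↥N :=
  { (inferInstance : Group ↥N) with mul_comm := fun a b => h.is_comm.comm a b }

theorem bridge {G : Type*} [Group G] [Finite G] (N P : Subgroup G) (hN : N.Normal)
    (hNab : IsMulCommutative ↥N) (hNodd : Odd (Nat.card ↥N)) (hP : IsPGroup 2 ↥P)
    (hdisj : N ⊓ P = ⊥) (hprod : N ⊔ P = ⊤)
    (hmin : N ≠ ⊥ ∧ ∀ M : Subgroup G, M.Normal → M ≠ ⊥ → N ≤ M) :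
    (frattini ↥P).index ≤ Nat.card ↥N - 1 := by
  classical
  haveI := hN
  obtain ⟨hN0, hmin⟩ := hmin
  have hab : ∀ a ∈ N, ∀ b ∈ N, a * b = b * a := by
    intro a ha b hb
    have := hNab.is_comm.comm (⟨a, ha⟩ : ↥N) ⟨b, hb⟩
    exact congrArg Subtype.val this
  -- a prime divisor
  have hcard1 : 1 < Nat.card ↥N := (Subgroup.one_lt_card_iff_ne_bot N).2 hN0
  obtain ⟨q, hqp, hqd⟩ := Nat.exists_prime_and_dvd (show Nat.card ↥N ≠ 1 by omega)
  haveI hq : Fact q.Prime := ⟨hqp⟩
  have hq2 : q ≠ 2 := by
    rintro rfl
    have : ¬ 2 ∣ Nat.card ↥N := hNodd.not_two_dvd_nat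
    exact this hqd
  -- exponent q
  have hexp : ∀ n ∈ N, n ^ q = 1 := by
    let Ω : Subgroup G :=
      { carrier := {n | n ∈ N ∧ n ^ q = 1}
        mul_mem' := by
          rintro a b ⟨ha, ha'⟩ ⟨hb, hb'⟩
          refine ⟨N.mul_mem ha hb, ?_⟩
          have hc : Commute a b := hab a ha b hb
          rw [hc.mul_pow, ha', hb', one_mul]
        one_mem' := ⟨N.one_mem, one_pow q⟩
        inv_mem' := by
          rintro a ⟨ha, ha'⟩
          exact ⟨N.inv_mem ha, by rw [inv_pow, ha', inv_one]⟩ }
    have hΩn : Ω.Normal := ⟨by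
      rintro n ⟨hn, hn'⟩ g
      refine ⟨hN.conj_mem n hn g, ?_⟩
      rw [conj_pow, hn', mul_one, mul_inv_cancel]⟩
    have hΩ0 : Ω ≠ ⊥ := by
      intro hΩ
      obtain ⟨x, hx⟩ := exists_prime_orderOf_dvd_card' q hqd
      have hxp : (x : G) ^ q = 1 := by
        rw [← Subgroup.coe_pow, ← hx, pow_orderOf_eq_one]; rfl
      have hxΩ : (x : G) ∈ Ω := ⟨x.2, hxp⟩
      rw [hΩ, Subgroup.mem_bot] at hxΩ
      have : x = 1 := Subtype.ext hxΩ
      rw [this, orderOf_one] at hx
      exact hqp.one_lt.ne hx
    intro n hn
    exact (hmin Ω hΩn hΩ0 hn).2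
  haveI : Nontrivial ↥N := (Subgroup.nontrivial_iff_ne_bot N).2 hN0
  have h3 : 3 ≤ Nat.card ↥N := by
    obtain ⟨k, hk⟩ := hNodd
    omega
  obtain ⟨act, hact⟩ : ∃ act : ↥P →* MulAut ↥N,
      act = (MulAut.conjNormal (H := N)).comp P.subtype := ⟨_, rfl⟩
  have happ : ∀ (x : ↥P) (v : ↥N), ((act x v : ↥N) : G) = (x : G) * (v : G) * (x : G)⁻¹ := by
    intro x v
    rw [hact]
    rfl
  refine @core ↥N (commGroupOf N hNab) _ _ q _ hq2 ?_ ↥P _ _ hP act ?_ ?_ h3
  · intro a
    apply Subtype.ext
    exact hexp _ a.2
  · -- injective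
    rw [injective_iff_map_eq_one]
    intro x hx
    -- x centralizes N
    have hxc : ∀ n ∈ N, (x : G) * n * (x : G)⁻¹ = n := by
      intro n hn
      have := happ x ⟨n, hn⟩
      rw [hx] at this
      exact this.symm
    obtain ⟨C, hC⟩ : ∃ C : Subgroup G, C = P ⊓ Subgroup.centralizer (N : Set G) := ⟨_, rfl⟩
    have hCn : C.Normal := by
      have hle : N ⊔ P ≤ Subgroup.normalizer (C : Set G) := by
        apply sup_le
        · intro n hn
          rw [Subgroup.mem_normalizer_iff]
          intro c
          have key : ∀ c ∈ C, ∀ m ∈ N, m * c * m⁻¹ = c := by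
            intro c hc m hm
            rw [hC] at hc
            have := Subgroup.mem_centralizer_iff.1 hc.2 m hm
            rw [this, mul_inv_cancel_right]
          constructor
          · intro hc
            rw [key c hc n hn]; exact hc
          · intro hc
            have := key _ hc n⁻¹ (N.inv_mem hn)
            rw [inv_inv] at this
            have e : n⁻¹ * (n * c * n⁻¹) * n = c := by group
            rw [e] at this
            rw [this]; exact hc
        · intro x hx
          rw [Subgroup.mem_normalizer_iff]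
          intro c
          have hcn : (Subgroup.centralizer (N : Set G)).Normal := inferInstance
          constructor
          · intro hc
            rw [hC] at hc ⊢
            exact ⟨P.mul_mem (P.mul_mem hx hc.1) (P.inv_mem hx), hcn.conj_mem c hc.2 x⟩
          · intro hc
            rw [hC] at hc ⊢
            have e : c = x⁻¹ * (x * c * x⁻¹) * x⁻¹⁻¹ := by group
            rw [e]
            exact ⟨P.mul_mem (P.mul_mem (P.inv_mem hx) hc.1) (P.inv_mem (P.inv_mem hx)),
              hcn.conj_mem _ hc.2 x⁻¹⟩
      rw [hprod] at hle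
      exact Subgroup.normalizer_eq_top_iff.1 (top_le_iff.1 hle)
    have hC0 : C = ⊥ := by
      by_contra hne
      have h1 := hmin C hCn hne
      apply hN0
      rw [eq_bot_iff, ← hdisj]
      intro n hn
      have := h1 hn
      rw [hC] at this
      exact ⟨hn, this.1⟩
    have hxC : (x : G) ∈ C := by
      rw [hC]
      refine ⟨x.2, Subgroup.mem_centralizer_iff.2 ?_⟩
      intro n hn
      have := hxc n hn
      calc n * (x : G) = ((x : G) * n * (x : G)⁻¹) * (x : G) := by rw [this]
        _ = (x : G) * n := by group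
    rw [hC0, Subgroup.mem_bot] at hxC
    exact Subtype.ext hxC
  · -- irreducible
    intro M hM
    obtain ⟨M', hM'⟩ : ∃ M' : Subgroup G, M' = Subgroup.map N.subtype M := ⟨_, rfl⟩
    have hmem : ∀ g : G, g ∈ M' ↔ ∃ m : ↥N, m ∈ M ∧ (m : G) = g := by
      intro g
      rw [hM']
      exact Subgroup.mem_map
    have hMN : M' ≤ N := by
      intro g hg
      obtain ⟨m, _, rfl⟩ := (hmem g).1 hg
      exact m.2
    have hMn : M'.Normal := by
      have hle : N ⊔ P ≤ Subgroup.normalizer (M' : Set G) := by
        apply sup_le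
        · intro n hn
          rw [Subgroup.mem_normalizer_iff]
          intro c
          have key : ∀ c ∈ N, ∀ m ∈ N, m * c * m⁻¹ = c := by
            intro c hc m hm
            rw [hab m hm c hc, mul_inv_cancel_right]
          constructor
          · intro hc
            rw [key c (hMN hc) n hn]; exact hc
          · intro hc
            have hcN : c ∈ N := by
              have := hMN hc
              have h2 := N.mul_mem (N.mul_mem (N.inv_mem hn) this) hn
              have e : n⁻¹ * (n * c * n⁻¹) * n = c := by group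
              rw [e] at h2; exact h2
            rw [key c hcN n hn] at hc; exact hc
        · intro x hx
          rw [Subgroup.mem_normalizer_iff]
          have key : ∀ y ∈ P, ∀ c ∈ M', y * c * y⁻¹ ∈ M' := by
            intro y hy c hc
            obtain ⟨m, hm, rfl⟩ := (hmem c).1 hc
            exact (hmem _).2 ⟨act ⟨y, hy⟩ m, hM ⟨y, hy⟩ m hm, happ ⟨y, hy⟩ m⟩
          intro c
          constructor
          · intro hc
            exact key x hx c hc
          · intro hc
            have := key x⁻¹ (P.inv_mem hx) _ hc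
            have e : x⁻¹ * (x * c * x⁻¹) * x⁻¹⁻¹ = c := by group
            rw [e] at this
            exact this
      rw [hprod] at hle
      exact Subgroup.normalizer_eq_top_iff.1 (top_le_iff.1 hle)
    by_cases hM0 : M' = ⊥
    · left
      rw [eq_bot_iff]
      intro m hm
      have h1 : (m : G) ∈ M' := (hmem _).2 ⟨m, hm, rfl⟩
      rw [hM0, Subgroup.mem_bot] at h1
      rw [Subgroup.mem_bot]
      exact Subtype.ext h1
    · right
      have h1 := hmin M' hMn hM0
      rw [eq_top_iff]
      intro m _
      obtain ⟨m', hm', he⟩ := (hmem _).1 (h1 m.2)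
      have : m' = m := Subtype.ext he
      rw [← this]
      exact hm'

end Cfsg.Agent.helper23.FrRank
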