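import Mathlib

set_option autoImplicit false
set_option maxHeartbeats 800000

namespace Cfsg.Agent.helper23.Frob

variable {M : Type*} [AddCommGroup M]

/-- Vandermonde injectivity for module-valued vectors, scalars in a commutative ring mapping
to the endomorphism ring. -/
theorem vand_inj' {S : Type*} [CommRing S] (ev : S →+* Module.End ℤ M) {m : ℕ}
    (v : Fin m → S) (c : Fin m → M)
    (hdet : Function.Injective (ev (∏ i : Fin m, ∏ j ∈ Finset.Ioi i, (v j - v i))))
    (h : ∀ k : Fin m, ∑ j : Fin m, (ev ((v k) ^ (j : ℕ))) (c j) = 0) :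
    c = 0 := by
  classical
  funext i
  apply hdet
  rw [Pi.zero_apply, map_zero, ← Matrix.det_vandermonde]
  obtain ⟨A, hA⟩ : ∃ A : Matrix (Fin m) (Fin m) S, A = Matrix.vandermonde v := ⟨_, rfl⟩
  rw [← hA]
  have hadj : A.adjugate * A = A.det • (1 : Matrix (Fin m) (Fin m) S) :=
    Matrix.adjugate_mul A
  have h1 : ∀ j : Fin m, (∑ k, A.adjugate i k * A k j) = if i = j then A.det else 0 := by
    intro j
    have := congrFun (congrFun hadj i) j
    rw [Matrix.mul_apply, Matrix.smul_apply, Matrix.one_apply, smul_eq_mul, mul_ite, mul_one,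
      mul_zero] at this
    exact this
  have h2 : (ev A.det) (c i) =
      ∑ j, (ev (∑ k, A.adjugate i k * A k j)) (c j) := by
    rw [Finset.sum_eq_single i]
    · rw [h1 i, if_pos rfl]
    · intro j _ hji
      rw [h1 j, if_neg (Ne.symm hji), map_zero, LinearMap.zero_apply]
    · intro hi; exact absurd (Finset.mem_univ i) hi
  have h3 : ∀ j, (ev (∑ k, A.adjugate i k * A k j)) (c j) =
      ∑ k, (ev (A.adjugate i k)) ((ev (A k j)) (c j)) := by
    intro j
    rw [map_sum, LinearMap.sum_apply]
    apply Finset.sum_congr rfl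
    intro k _
    rw [map_mul, Module.End.mul_apply]
  rw [h2]
  rw [Finset.sum_congr rfl (fun j _ => h3 j)]
  rw [Finset.sum_comm]
  apply Finset.sum_eq_zero
  intro k _
  rw [← map_sum]
  have hk := h k
  have : ∑ j, (ev (A k j)) (c j) = 0 := by
    rw [← hk]
    apply Finset.sum_congr rfl
    intro j _
    rw [hA, Matrix.vandermonde_apply]
  rw [this, map_zero]

/-- Vandermonde injectivity for pairwise commuting operators with injective differences. -/
theorem vand_inj_comm {m : ℕ} (y : Fin m → Module.End ℤ M)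
    (hcomm : ∀ k l, y k * y l = y l * y k)
    (hinj : ∀ k l, k ≠ l → ∀ v : M, y k v = y l v → v = 0) (c : Fin m → M)
    (h : ∀ k : Fin m, ∑ j : Fin m, ((y k) ^ (j : ℕ)) (c j) = 0) : c = 0 := by
  classical
  obtain ⟨s, hs⟩ : ∃ s : Set (Module.End ℤ M), s = Set.range y := ⟨_, rfl⟩
  have hsc : ∀ a ∈ s, ∀ b ∈ s, a * b = b * a := by
    rw [hs]
    rintro _ ⟨k, rfl⟩ _ ⟨l, rfl⟩
    exact hcomm k l
  letI : CommRing ↥(Subring.closure s) := Subring.closureCommRingOfComm hsc
  have hmem : ∀ k, y k ∈ Subring.closure s :=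
    fun k => Subring.subset_closure (by rw [hs]; exact ⟨k, rfl⟩)
  apply vand_inj' (Subring.closure s).subtype (fun k => ⟨y k, hmem k⟩) c
  · apply Finset.prod_induction _
      (fun p : ↥(Subring.closure s) => Function.Injective ((Subring.closure s).subtype p))
    · intro p p' hp hp'
      rw [map_mul]
      exact hp.comp hp'
    · rw [map_one]; exact fun _ _ h => h
    · intro i _
      apply Finset.prod_induction _
        (fun p : ↥(Subring.closure s) => Function.Injective ((Subring.closure s).subtype p))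
      · intro p p' hp hp'
        rw [map_mul]
        exact hp.comp hp'
      · rw [map_one]; exact fun _ _ h => h
      · intro j hj
        have hij : i < j := Finset.mem_Ioi.1 hj
        rw [injective_iff_map_eq_zero]
        intro v hv
        rw [map_sub] at hv
        have hv' : (y j - y i) v = 0 := hv
        rw [LinearMap.sub_apply, sub_eq_zero] at hv'
        exact hinj j i (ne_of_gt hij) v hv'
  · intro k
    rw [← h k]
    apply Finset.sum_congr rfl
    intro j _
    rw [map_pow]
    rfl

/-- Galois descent count: a finite group `S` acting on `M`, and an operator `x` whose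
`S`-conjugates commute and have pairwise injective differences. -/
theorem descent_card [Finite M] {S : Type*} [Group S] [Finite S] (σ : S →* Module.End ℤ M)
    (x : Module.End ℤ M)
    (hcomm : ∀ s t : S, (σ s * x * σ s⁻¹) * (σ t * x * σ t⁻¹) =
      (σ t * x * σ t⁻¹) * (σ s * x * σ s⁻¹))
    (hinj : ∀ s t : S, s ≠ t → ∀ v : M, (σ s * x * σ s⁻¹) v = (σ t * x * σ t⁻¹) v → v = 0) :
    Nat.card M = Nat.card {v : M // ∀ s : S, σ s v = v} ^ Nat.card S := by
  classical
  obtain ⟨m, hm⟩ : ∃ m, m = Nat.card S := ⟨_, rfl⟩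
  have e : S ≃ Fin m := by
    rw [hm]
    exact Finite.equivFin S
  obtain ⟨Y, hY⟩ : ∃ Y : S → Module.End ℤ M, Y = fun s => σ s * x * σ s⁻¹ := ⟨_, rfl⟩
  have hσinv : ∀ s : S, σ s * σ s⁻¹ = 1 := fun s => by rw [← map_mul, mul_inv_cancel, map_one]
  have hσinv' : ∀ s : S, σ s⁻¹ * σ s = 1 := fun s => by rw [← map_mul, inv_mul_cancel, map_one]
  have hYpow : ∀ (s : S) (j : ℕ), (Y s) ^ j = σ s * x ^ j * σ s⁻¹ := by
    intro s j
    induction j with
    | zero => rw [pow_zero, pow_zero, mul_one, hσinv]
    | succ j ih =>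
      rw [pow_succ, ih, hY]
      simp only
      calc σ s * x ^ j * σ s⁻¹ * (σ s * x * σ s⁻¹)
          = σ s * x ^ j * (σ s⁻¹ * σ s) * x * σ s⁻¹ := by simp only [mul_assoc]
        _ = σ s * x ^ (j + 1) * σ s⁻¹ := by rw [hσinv', mul_one, pow_succ, mul_assoc (σ s)]
  have hY1 : ∀ j : ℕ, (Y 1) ^ j = x ^ j := by
    intro j
    rw [hYpow, inv_one, map_one, one_mul, mul_one]
  have hmove : ∀ (t s : S) (j : ℕ), σ t * (Y s) ^ j = (Y (t * s)) ^ j * σ t := by
    intro t s j
    rw [hYpow, hYpow, mul_inv_rev, map_mul, map_mul]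
    calc σ t * (σ s * x ^ j * σ s⁻¹) = σ t * σ s * x ^ j * σ s⁻¹ * 1 := by
          simp only [mul_assoc, mul_one]
      _ = σ t * σ s * x ^ j * σ s⁻¹ * (σ t⁻¹ * σ t) := by rw [hσinv']
      _ = σ t * σ s * x ^ j * (σ s⁻¹ * σ t⁻¹) * σ t := by simp only [mul_assoc]
  have hΨker : ∀ c : Fin m → M,
      (∀ k : Fin m, ∑ j : Fin m, ((Y (e.symm k)) ^ (j : ℕ)) (c j) = 0) → c = 0 := by
    intro c hc
    apply vand_inj_comm (fun k => Y (e.symm k)) _ _ c hc
    · intro k l
      rw [hY]
      exact hcomm _ _
    · intro k l hkl v hv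
      apply hinj (e.symm k) (e.symm l) _ v
      · rw [hY] at hv
        exact hv
      · intro h
        exact hkl (e.symm.injective h)
  obtain ⟨Ψ, hΨ⟩ : ∃ Ψ : (Fin m → M) → (Fin m → M),
      Ψ = fun (c : Fin m → M) (k : Fin m) =>
        ∑ j : Fin m, ((Y (e.symm k)) ^ (j : ℕ)) (c j) := ⟨_, rfl⟩
  have hΨinj : Function.Injective Ψ := by
    intro c c' hcc
    have : c - c' = 0 := by
      apply hΨker
      intro k
      have := congrFun hcc k
      rw [hΨ] at this
      simp only at this
      simp only [Pi.sub_apply, map_sub, Finset.sum_sub_distrib]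
      rw [this, sub_self]
    exact sub_eq_zero.1 this
  have hΨsurj : Function.Surjective Ψ := Finite.injective_iff_surjective.1 hΨinj
  obtain ⟨Φ, hΦ⟩ : ∃ Φ : (Fin m → {v : M // ∀ s : S, σ s v = v}) → M,
      Φ = fun (c : Fin m → {v : M // ∀ s : S, σ s v = v}) =>
        ∑ j : Fin m, (x ^ (j : ℕ)) (c j : M) := ⟨_, rfl⟩
  have hΦinj : Function.Injective Φ := by
    intro c c' hcc
    have hd : (fun j => (c j : M) - (c' j : M)) = 0 := by
      apply hΨker
      intro k
      have h1 : ∑ j : Fin m, (x ^ (j : ℕ)) ((c j : M) - (c' j : M)) = 0 := by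
        have := hcc
        rw [hΦ] at this
        simp only at this
        simp only [map_sub, Finset.sum_sub_distrib]
        rw [this, sub_self]
      have h2 := congrArg (σ (e.symm k)) h1
      rw [map_zero, map_sum] at h2
      rw [← h2]
      apply Finset.sum_congr rfl
      intro j _
      have h3 : (σ (e.symm k)) ((x ^ (j : ℕ)) ((c j : M) - (c' j : M))) =
          ((Y (e.symm k)) ^ (j : ℕ)) ((σ (e.symm k)) ((c j : M) - (c' j : M))) := by
        rw [← Module.End.mul_apply, ← Module.End.mul_apply]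
        congr 1
        have := hmove (e.symm k) 1 (j : ℕ)
        rw [hY1, mul_one] at this
        exact this
      rw [h3]
      congr 1
      rw [map_sub, (c j).2, (c' j).2]
    funext j
    apply Subtype.ext
    have := congrFun hd j
    exact sub_eq_zero.1 this
  have hΦsurj : Function.Surjective Φ := by
    intro v
    obtain ⟨c, hc⟩ := hΨsurj (fun k : Fin m => (σ (e.symm k)) v)
    have hck : ∀ k : Fin m,
        ∑ j : Fin m, ((Y (e.symm k)) ^ (j : ℕ)) (c j) = (σ (e.symm k)) v := by
      intro k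
      have := congrFun hc k
      rw [hΨ] at this
      exact this
    have hfixc : ∀ t : S, (fun j => σ t (c j)) = c := by
      intro t
      apply hΨinj
      rw [hc]
      funext k'
      rw [hΨ]
      simp only
      obtain ⟨s, hs⟩ : ∃ s : S, s = t⁻¹ * e.symm k' := ⟨_, rfl⟩
      have hts : t * s = e.symm k' := by rw [hs, mul_inv_cancel_left]
      have h1 := hck (e s)
      rw [Equiv.symm_apply_apply] at h1
      have h2 := congrArg (σ t) h1
      rw [map_sum] at h2
      have h3 : σ t ((σ s) v) = (σ (e.symm k')) v := by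
        rw [← Module.End.mul_apply, ← map_mul, hts]
      rw [h3] at h2
      rw [← h2]
      apply Finset.sum_congr rfl
      intro j _
      rw [← Module.End.mul_apply, ← Module.End.mul_apply, hmove t s (j : ℕ), hts]
    refine ⟨fun j => ⟨c j, fun t => congrFun (hfixc t) j⟩, ?_⟩
    rw [hΦ]
    simp only
    have h0 := hck (e 1)
    rw [Equiv.symm_apply_apply, map_one, Module.End.one_apply] at h0
    rw [← h0]
    apply Finset.sum_congr rfl
    intro j _
    rw [hY1]
  have ecard := Nat.card_congr (Equiv.ofBijective Φ ⟨hΦinj, hΦsurj⟩)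
  rw [← ecard, Nat.card_fun, Nat.card_fin, hm]

end Cfsg.Agent.helper23.Frob
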