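import Mathlib
import Cfsg.Agent.Lib_helper23_Frob2

set_option autoImplicit false
set_option maxHeartbeats 1000000

namespace Cfsg.Agent.helper23.Frob

section basics

variable {V : Type*} [CommGroup V]

/-- common fixed points of a subgroup of automorphisms -/
def fixG (Y : Subgroup (MulAut V)) : Subgroup V where
  carrier := {v | ∀ g ∈ Y, g v = v}
  mul_mem' := by
    intro a b ha hb g hg
    rw [map_mul, ha g hg, hb g hg]
  one_mem' := fun g _ => map_one g
  inv_mem' := by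
    intro a ha g hg
    rw [map_inv, ha g hg]

theorem mem_fixG {Y : Subgroup (MulAut V)} {v : V} : v ∈ fixG Y ↔ ∀ g ∈ Y, g v = v := Iff.rfl

theorem fixG_anti {Y Y' : Subgroup (MulAut V)} (h : Y ≤ Y') : fixG Y' ≤ fixG Y :=
  fun _ hv g hg => hv g (h hg)

theorem fixG_bot : fixG (⊥ : Subgroup (MulAut V)) = ⊤ := by
  rw [eq_top_iff]
  intro v _ g hg
  rw [Subgroup.mem_bot] at hg
  rw [hg]; rfl

theorem fixG_sup (Y Y' : Subgroup (MulAut V)) : fixG (Y ⊔ Y') = fixG Y ⊓ fixG Y' := by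
  apply le_antisymm
  · exact le_inf (fixG_anti le_sup_left) (fixG_anti le_sup_right)
  · rintro v ⟨h1, h2⟩
    let St : Subgroup (MulAut V) :=
      { carrier := {g | g v = v}
        mul_mem' := by
          intro a b ha hb
          show a (b v) = v
          rw [hb, ha]
        one_mem' := rfl
        inv_mem' := by
          intro a ha
          show a⁻¹ v = v
          calc a⁻¹ v = a⁻¹ (a v) := by rw [ha]
            _ = v := by simp }
    have hle : Y ⊔ Y' ≤ St := sup_le (fun g hg => h1 g hg) (fun g hg => h2 g hg)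
    exact fun g hg => hle hg

/-- conjugate of a subgroup of automorphisms -/
def cj (h : MulAut V) (Y : Subgroup (MulAut V)) : Subgroup (MulAut V) :=
  Y.map (MulAut.conj h).toMonoidHom

theorem mem_cj {h : MulAut V} {Y : Subgroup (MulAut V)} {z : MulAut V} :
    z ∈ cj h Y ↔ h⁻¹ * z * h ∈ Y := by
  unfold cj
  rw [Subgroup.mem_map]
  constructor
  · rintro ⟨y, hy, rfl⟩
    have : h⁻¹ * ((MulAut.conj h).toMonoidHom y) * h = y := by
      show h⁻¹ * (h * y * h⁻¹) * h = y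
      group
    rw [this]; exact hy
  · intro hz
    refine ⟨h⁻¹ * z * h, hz, ?_⟩
    show h * (h⁻¹ * z * h) * h⁻¹ = z
    group

theorem conj_mem_cj {h : MulAut V} {Y : Subgroup (MulAut V)} {z : MulAut V} (hz : z ∈ Y) :
    h * z * h⁻¹ ∈ cj h Y := by
  rw [mem_cj]
  have : h⁻¹ * (h * z * h⁻¹) * h = z := by group
  rw [this]; exact hz

theorem cj_one (Y : Subgroup (MulAut V)) : cj 1 Y = Y := by
  ext z
  rw [mem_cj]
  simp

theorem cj_mul (h h' : MulAut V) (Y : Subgroup (MulAut V)) : cj (h * h') Y = cj h (cj h' Y) := by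
  ext z
  rw [mem_cj, mem_cj, mem_cj]
  have : (h * h')⁻¹ * z * (h * h') = h'⁻¹ * (h⁻¹ * z * h) * h' := by group
  rw [this]

theorem cj_mono (h : MulAut V) {Y Y' : Subgroup (MulAut V)} (hYY : Y ≤ Y') : cj h Y ≤ cj h Y' :=
  Subgroup.map_mono hYY

theorem cj_sup (h : MulAut V) (Y Y' : Subgroup (MulAut V)) : cj h (Y ⊔ Y') = cj h Y ⊔ cj h Y' :=
  Subgroup.map_sup _ _ _

theorem card_cj (h : MulAut V) (Y : Subgroup (MulAut V)) : Nat.card ↥(cj h Y) = Nat.card ↥Y :=
  Subgroup.card_map_of_injective (MulAut.conj h).injective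

theorem fix_cj {h : MulAut V} {Y : Subgroup (MulAut V)} {v : V} (hv : v ∈ fixG Y) :
    h v ∈ fixG (cj h Y) := by
  intro g hg
  rw [mem_cj] at hg
  have := hv _ hg
  have h2 : (h⁻¹ * g * h) v = h⁻¹ (g (h v)) := rfl
  rw [h2] at this
  have h3 := congrArg h this
  simpa using h3

theorem fix_cj_iff {h : MulAut V} {Y : Subgroup (MulAut V)} {v : V} :
    h v ∈ fixG (cj h Y) ↔ v ∈ fixG Y := by
  constructor
  · intro hv
    have := fix_cj (h := h⁻¹) hv
    rw [← cj_mul, inv_mul_cancel, cj_one] at this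
    simpa using this
  · exact fix_cj

/-- the norm map of a finite subgroup of automorphisms -/
def nu (Y : Subgroup (MulAut V)) [Fintype ↥Y] : V →* V where
  toFun v := ∏ z : ↥Y, (z : MulAut V) v
  map_one' := by simp
  map_mul' a b := by
    simp only [map_mul]
    exact Finset.prod_mul_distrib

theorem nu_apply (Y : Subgroup (MulAut V)) [Fintype ↥Y] (v : V) :
    nu Y v = ∏ z : ↥Y, (z : MulAut V) v := rfl

theorem nu_of_fix (Y : Subgroup (MulAut V)) [Fintype ↥Y] (v : V) (hv : v ∈ fixG Y) :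
    nu Y v = v ^ Nat.card ↥Y := by
  rw [nu_apply, Finset.prod_congr rfl (fun (z : ↥Y) _ => hv (z : MulAut V) z.2), Finset.prod_const,
    Finset.card_univ, Nat.card_eq_fintype_card]

theorem nu_fixed (Y : Subgroup (MulAut V)) [Fintype ↥Y] (v : V) (g : MulAut V) (hg : g ∈ Y) :
    g (nu Y v) = nu Y v := by
  rw [nu_apply, map_prod]
  exact Fintype.prod_equiv (Equiv.mulLeft (⟨g, hg⟩ : ↥Y)) _ _ (fun z => rfl)

theorem nu_mem_fix (Y : Subgroup (MulAut V)) [Fintype ↥Y] (v : V) : nu Y v ∈ fixG Y :=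
  fun g hg => nu_fixed Y v g hg

theorem nu_mem (Y : Subgroup (MulAut V)) [Fintype ↥Y] (W : Subgroup V)
    (hW : ∀ z ∈ Y, ∀ w ∈ W, z w ∈ W) (v : V) (hv : v ∈ W) : nu Y v ∈ W := by
  rw [nu_apply]
  exact Subgroup.prod_mem W (fun z _ => hW z z.2 v hv)

theorem nu_fix_comm (Y : Subgroup (MulAut V)) [Fintype ↥Y] (g : MulAut V)
    (hg : ∀ z ∈ Y, g * z = z * g) (v : V) (hv : g v = v) : g (nu Y v) = nu Y v := by
  rw [nu_apply, map_prod]
  apply Finset.prod_congr rfl
  intro z _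
  have := hg z z.2
  calc g ((z : MulAut V) v) = (g * (z : MulAut V)) v := rfl
    _ = ((z : MulAut V) * g) v := by rw [this]
    _ = (z : MulAut V) (g v) := rfl
    _ = (z : MulAut V) v := by rw [hv]

theorem nu_conj (Y : Subgroup (MulAut V)) [Fintype ↥Y] (h : MulAut V) [Fintype ↥(cj h Y)] (v : V) :
    h (nu Y v) = nu (cj h Y) (h v) := by
  rw [nu_apply, nu_apply, map_prod]
  obtain ⟨e, he⟩ : ∃ e : ↥Y ≃ ↥(cj h Y),
      ∀ z, ((e z : ↥(cj h Y)) : MulAut V) = h * (z : MulAut V) * h⁻¹ :=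
    ⟨((MulAut.conj h).subgroupMap Y).toEquiv, fun z => rfl⟩
  apply Fintype.prod_equiv e
  intro z
  rw [he z]
  show h ((z : MulAut V) v) = h ((z : MulAut V) (h⁻¹ (h v)))
  simp

theorem card_sup_of_disjoint (H K : Subgroup V) (hd : H ⊓ K = ⊥) :
    Nat.card ↥(H ⊔ K) = Nat.card ↥H * Nat.card ↥K := by
  rw [← Nat.card_prod]
  symm
  apply Nat.card_congr
  refine Equiv.ofBijective
    (fun ab : ↥H × ↥K => (⟨ab.1 * ab.2, Subgroup.mul_mem _ (Subgroup.mem_sup_left ab.1.2)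
      (Subgroup.mem_sup_right ab.2.2)⟩ : ↥(H ⊔ K))) ⟨?_, ?_⟩
  · rintro ⟨a, b⟩ ⟨a', b'⟩ hab
    have h1 : (a : V) * b = a' * b' := congrArg Subtype.val hab
    have h2 : (a' : V)⁻¹ * a = b' * (b : V)⁻¹ := by
      rw [inv_mul_eq_iff_eq_mul, ← mul_assoc, ← h1, mul_inv_cancel_right]
    have h3 : (a' : V)⁻¹ * a ∈ H ⊓ K :=
      ⟨H.mul_mem (H.inv_mem a'.2) a.2, by rw [h2]; exact K.mul_mem b'.2 (K.inv_mem b.2)⟩
    rw [hd, Subgroup.mem_bot] at h3
    have h4 : (a : V) = a' := by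
      rw [inv_mul_eq_one] at h3; exact h3.symm
    have h5 : (b : V) = b' := by
      rw [h4] at h1; exact mul_left_cancel h1
    exact Prod.ext (Subtype.ext h4) (Subtype.ext h5)
  · rintro ⟨x, hx⟩
    obtain ⟨y, hy, z, hz, rfl⟩ := Subgroup.mem_sup.1 hx
    exact ⟨(⟨y, hy⟩, ⟨z, hz⟩), rfl⟩

theorem card_iSup_of_indep [Finite V] {ι : Type*} [Fintype ι] (H : ι → Subgroup V)
    (hind : iSupIndep H) : Nat.card ↥(⨆ i, H i) = ∏ i, Nat.card ↥(H i) := by
  have hcomm : Pairwise fun i j : ι => ∀ x y : V, x ∈ H i → y ∈ H j → Commute x y :=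
    fun _ _ _ x y _ _ => Commute.all x y
  have hinj := Subgroup.injective_noncommPiCoprod_of_iSupIndep (hcomm := hcomm) hind
  have hr : (Subgroup.noncommPiCoprod hcomm).range = ⨆ i, H i := Subgroup.noncommPiCoprod_range
  have h1 : Nat.card ↥(⨆ i, H i) = Nat.card ↥(Subgroup.noncommPiCoprod hcomm).range := by rw [hr]
  rw [h1, ← Nat.card_congr (MonoidHom.ofInjective hinj).toEquiv, Nat.card_pi]

/-- fixed points split along an invariant direct decomposition -/
theorem card_fix_split (Z : Subgroup (MulAut V)) (W1 W2 : Subgroup V) (hd : W1 ⊓ W2 = ⊥)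
    (h1 : ∀ z ∈ Z, ∀ w ∈ W1, z w ∈ W1) (h2 : ∀ z ∈ Z, ∀ w ∈ W2, z w ∈ W2) :
    Nat.card ↥((W1 ⊔ W2) ⊓ fixG Z) = Nat.card ↥(W1 ⊓ fixG Z) * Nat.card ↥(W2 ⊓ fixG Z) := by
  have he : (W1 ⊔ W2) ⊓ fixG Z = (W1 ⊓ fixG Z) ⊔ (W2 ⊓ fixG Z) := by
    apply le_antisymm
    · rintro v ⟨hv, hvf⟩
      obtain ⟨a, ha, b, hb, rfl⟩ := Subgroup.mem_sup.1 hv
      have key : ∀ z ∈ Z, z a = a ∧ z b = b := by
        intro z hz
        have h3 : z a * z b = a * b := by rw [← map_mul]; exact hvf z hz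
        have h4 : a⁻¹ * z a = b * (z b)⁻¹ := by
          rw [inv_mul_eq_iff_eq_mul, ← mul_assoc, ← h3, mul_inv_cancel_right]
        have h5 : a⁻¹ * z a ∈ W1 ⊓ W2 :=
          ⟨W1.mul_mem (W1.inv_mem ha) (h1 z hz a ha),
            by rw [h4]; exact W2.mul_mem hb (W2.inv_mem (h2 z hz b hb))⟩
        rw [hd, Subgroup.mem_bot, inv_mul_eq_one] at h5
        have h6 : z a = a := h5.symm
        refine ⟨h6, ?_⟩
        rw [h6] at h3
        exact mul_left_cancel h3
      exact Subgroup.mul_mem _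
        (Subgroup.mem_sup_left ⟨ha, fun z hz => (key z hz).1⟩)
        (Subgroup.mem_sup_right ⟨hb, fun z hz => (key z hz).2⟩)
    · apply sup_le
      · exact inf_le_inf_right _ le_sup_left
      · exact inf_le_inf_right _ le_sup_right
  rw [he]
  apply card_sup_of_disjoint
  rw [eq_bot_iff, ← hd]
  exact inf_le_inf inf_le_left inf_le_left

end basics

section descent

variable {V : Type*} [CommGroup V]

/-- restriction of an automorphism to an invariant subgroup, as an additive endomorphism -/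
def resEnd (W0 : Subgroup V) (g : MulAut V) (hg : ∀ w ∈ W0, g w ∈ W0) :
    Module.End ℤ (Additive ↥W0) :=
  (MonoidHom.toAdditive
    ((g.toMonoidHom.comp W0.subtype).codRestrict W0 (fun w => hg w w.2))).toIntLinearMap

theorem resEnd_apply (W0 : Subgroup V) (g : MulAut V) (hg : ∀ w ∈ W0, g w ∈ W0) (w : ↥W0) :
    resEnd W0 g hg (Additive.ofMul w) = Additive.ofMul (⟨g w, hg w w.2⟩ : ↥W0) := rfl

theorem resEnd_mul (W0 : Subgroup V) (g h : MulAut V) (hg : ∀ w ∈ W0, g w ∈ W0)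
    (hh : ∀ w ∈ W0, h w ∈ W0) (hgh : ∀ w ∈ W0, (g * h) w ∈ W0) :
    resEnd W0 (g * h) hgh = resEnd W0 g hg * resEnd W0 h hh := by
  apply LinearMap.ext
  intro v
  rfl

theorem resEnd_one (W0 : Subgroup V) (h1 : ∀ w ∈ W0, (1 : MulAut V) w ∈ W0) :
    resEnd W0 1 h1 = 1 := by
  apply LinearMap.ext
  intro v
  rfl

/-- Descent on an invariant subgroup. -/
theorem descent_sub [Finite V] {S : Type*} [Group S] [Finite S] (τ : S →* MulAut V)
    (z0 : MulAut V) (W0 : Subgroup V) (hτW : ∀ s, ∀ w ∈ W0, τ s w ∈ W0)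
    (hzW : ∀ w ∈ W0, z0 w ∈ W0)
    (hcomm : ∀ s t : S, (τ s * z0 * (τ s)⁻¹) * (τ t * z0 * (τ t)⁻¹) =
      (τ t * z0 * (τ t)⁻¹) * (τ s * z0 * (τ s)⁻¹))
    (hinj : ∀ s t : S, s ≠ t → ∀ w ∈ W0,
      (τ s * z0 * (τ s)⁻¹) w = (τ t * z0 * (τ t)⁻¹) w → w = 1) :
    Nat.card ↥W0 = Nat.card ↥(W0 ⊓ fixG τ.range) ^ Nat.card S := by
  classical
  obtain ⟨σ, hσ⟩ : ∃ σ : S →* Module.End ℤ (Additive ↥W0),
      ∀ s, σ s = resEnd W0 (τ s) (hτW s) := by
    refine ⟨{ toFun := fun s => resEnd W0 (τ s) (hτW s)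
              map_one' := ?_
              map_mul' := ?_ }, fun s => rfl⟩
    · apply LinearMap.ext
      intro v
      show Additive.ofMul (⟨τ 1 (Additive.toMul v : ↥W0), _⟩ : ↥W0) = v
      apply Additive.toMul.injective
      apply Subtype.ext
      show τ 1 ((Additive.toMul v : ↥W0) : V) = _
      rw [map_one]; rfl
    · intro s t
      apply LinearMap.ext
      intro v
      show Additive.ofMul (⟨τ (s * t) (Additive.toMul v : ↥W0), _⟩ : ↥W0) = _
      apply Additive.toMul.injective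
      apply Subtype.ext
      show τ (s * t) ((Additive.toMul v : ↥W0) : V) = τ s (τ t ((Additive.toMul v : ↥W0) : V))
      rw [map_mul]; rfl
  have hconjW : ∀ s : S, ∀ w ∈ W0, (τ s * z0 * (τ s)⁻¹) w ∈ W0 := by
    intro s w hw
    have h1 : (τ s)⁻¹ w ∈ W0 := by
      rw [← map_inv]; exact hτW _ w hw
    exact hτW s _ (hzW _ h1)
  have hY : ∀ s : S, σ s * resEnd W0 z0 hzW * σ s⁻¹ =
      resEnd W0 (τ s * z0 * (τ s)⁻¹) (hconjW s) := by
    intro s
    rw [hσ, hσ]
    apply LinearMap.ext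
    intro v
    show Additive.ofMul (⟨τ s (z0 (τ s⁻¹ ((Additive.toMul v : ↥W0) : V))), _⟩ : ↥W0) =
      Additive.ofMul (⟨(τ s * z0 * (τ s)⁻¹) ((Additive.toMul v : ↥W0) : V), _⟩ : ↥W0)
    congr 2
    rw [map_inv]
    rfl
  have key := descent_card σ (resEnd W0 z0 hzW) ?_ ?_
  · have hc1 : Nat.card (Additive ↥W0) = Nat.card ↥W0 := rfl
    rw [hc1] at key
    rw [key]
    congr 1
    apply Nat.card_congr
    refine
      { toFun := fun v => ⟨((Additive.toMul v.1 : ↥W0) : V), ⟨(Additive.toMul v.1 : ↥W0).2, ?_⟩⟩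
        invFun := fun u => ⟨Additive.ofMul (⟨u.1, u.2.1⟩ : ↥W0), ?_⟩
        left_inv := fun v => rfl
        right_inv := fun u => rfl }
    · rintro g ⟨s, rfl⟩
      have h1 := v.2 s
      rw [hσ] at h1
      have h2 := congrArg (fun a => ((Additive.toMul a : ↥W0) : V)) h1
      exact h2
    · intro s
      rw [hσ]
      apply Additive.toMul.injective
      apply Subtype.ext
      show τ s u.1 = u.1
      exact u.2.2 _ ⟨s, rfl⟩
  · intro s t
    rw [hY, hY]
    rw [← resEnd_mul W0 _ _ (hconjW s) (hconjW t) (fun w hw => hconjW s _ (hconjW t w hw)),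
      ← resEnd_mul W0 _ _ (hconjW t) (hconjW s) (fun w hw => hconjW t _ (hconjW s w hw))]
    congr 1
    exact hcomm s t
  · intro s t hst v hv
    rw [hY, hY] at hv
    have h1 := congrArg (fun a => ((Additive.toMul a : ↥W0) : V)) hv
    have h2 := hinj s t hst _ (Additive.toMul v : ↥W0).2 h1
    apply Additive.toMul.injective
    apply Subtype.ext
    exact h2

end descent

end Cfsg.Agent.helper23.Frob
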