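import Mathlib
import Cfsg.Agent.Lib_helper23_Frob3
import Cfsg.Agent.S3775

set_option autoImplicit false
set_option maxHeartbeats 1600000

namespace Cfsg.Agent.helper23.Frob

section bc

variable {V : Type*} [CommGroup V]

theorem eq_one_of_pow_coprime {p : ℕ} (hexp : ∀ v : V, v ^ p = 1) {k : ℕ} (hk : k.Coprime p)
    {w : V} (h : w ^ k = 1) : w = 1 := by
  have h1 : orderOf w ∣ k := orderOf_dvd_of_pow_eq_one h
  have h2 : orderOf w ∣ p := orderOf_dvd_of_pow_eq_one (hexp w)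
  have h3 : orderOf w ∣ Nat.gcd k p := Nat.dvd_gcd h1 h2
  rw [hk] at h3
  exact orderOf_eq_one_iff.1 (Nat.dvd_one.1 h3)

theorem fixG_zpowers {z : MulAut V} {v : V} : v ∈ fixG (Subgroup.zpowers z) ↔ z v = v := by
  constructor
  · intro h
    exact h z (Subgroup.mem_zpowers z)
  · intro h
    let St : Subgroup (MulAut V) :=
      { carrier := {g | g v = v}
        mul_mem' := by
          intro a b ha hb
          show a (b v) = v
          rw [hb, ha]
        one_mem' := rfl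
        inv_mem' := by
          intro a ha
          show a⁻¹ v = v
          calc a⁻¹ v = a⁻¹ (a v) := by rw [ha]
            _ = v := by simp }
    have hle : Subgroup.zpowers z ≤ St := Subgroup.zpowers_le.2 h
    exact fun g hg => hle hg

theorem inv_of_sup (W : Subgroup V) (A B : Subgroup (MulAut V))
    (hA : ∀ g ∈ A, ∀ w ∈ W, g w ∈ W) (hB : ∀ g ∈ B, ∀ w ∈ W, g w ∈ W) :
    ∀ g ∈ A ⊔ B, ∀ w ∈ W, g w ∈ W := by
  let St : Subgroup (MulAut V) :=
    { carrier := {g | ∀ w, g w ∈ W ↔ w ∈ W}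
      mul_mem' := by
        intro a b ha hb w
        show a (b w) ∈ W ↔ w ∈ W
        rw [ha, hb]
      one_mem' := fun w => Iff.rfl
      inv_mem' := by
        intro a ha w
        have := ha (a⁻¹ w)
        rw [← this]
        simp }
  have h1 : ∀ (C : Subgroup (MulAut V)), (∀ g ∈ C, ∀ w ∈ W, g w ∈ W) → C ≤ St := by
    intro C hC g hg w
    constructor
    · intro hw
      have := hC g⁻¹ (C.inv_mem hg) _ hw
      simpa using this
    · exact hC g hg w
  have hle : A ⊔ B ≤ St := sup_le (h1 A hA) (h1 B hB)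
  intro g hg w hw
  exact ((hle hg) w).2 hw

theorem nu_congr {Y Y' : Subgroup (MulAut V)} [i1 : Fintype ↥Y] [i2 : Fintype ↥Y'] (h : Y = Y')
    (v : V) : nu Y v = nu Y' v := by
  subst h
  have : i1 = i2 := Subsingleton.elim _ _
  subst this
  rfl

variable [Finite V] {E : Type*} [Group E] [Finite E]

/-- normalizer in `E` of a subgroup of automorphisms -/
def stab (ρ : E →* MulAut V) (Y : Subgroup (MulAut V)) : Subgroup E where
  carrier := {e | cj (ρ e) Y = Y}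
  mul_mem' := by
    intro a b ha hb
    show cj (ρ (a * b)) Y = Y
    rw [map_mul, cj_mul]
    have hb' : cj (ρ b) Y = Y := hb
    have ha' : cj (ρ a) Y = Y := ha
    rw [hb', ha']
  one_mem' := by
    show cj (ρ 1) Y = Y
    rw [map_one, cj_one]
  inv_mem' := by
    intro a ha
    have ha' : cj (ρ a) Y = Y := ha
    show cj (ρ a⁻¹) Y = Y
    conv_lhs => rw [← ha']
    rw [← cj_mul, ← map_mul, inv_mul_cancel, map_one, cj_one]

theorem mem_stab {ρ : E →* MulAut V} {Y : Subgroup (MulAut V)} {e : E} :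
    e ∈ stab ρ Y ↔ cj (ρ e) Y = Y := Iff.rfl

/-- The abelian case. -/
theorem bc (p : ℕ) [hp : Fact p.Prime] (hexp : ∀ v : V, v ^ p = 1) (ρ : E →* MulAut V)
    (Nb : Subgroup (MulAut V)) (hNab : ∀ z ∈ Nb, ∀ z' ∈ Nb, z * z' = z' * z)
    (hnorm : ∀ e : E, cj (ρ e) Nb = Nb)
    (hfpf : ∀ e : E, e ≠ 1 → ∀ z ∈ Nb, ρ e * z * (ρ e)⁻¹ = z → z = 1)
    (hcop : (Nat.card ↥(Nb ⊔ ρ.range)).Coprime p) (hcopE : (Nat.card E).Coprime p) :
    ∀ n : ℕ, ∀ W : Subgroup V, Nat.card ↥W = n → (∀ z ∈ Nb, ∀ w ∈ W, z w ∈ W) →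
      (∀ e, ∀ w ∈ W, ρ e w ∈ W) → W ⊓ fixG Nb = ⊥ →
      Nat.card ↥W = Nat.card ↥(W ⊓ fixG ρ.range) ^ Nat.card E := by
  classical
  haveI instF : ∀ Y : Subgroup (MulAut V), Fintype ↥Y := fun Y => Fintype.ofFinite _
  haveI instFE : Fintype E := Fintype.ofFinite E
  intro n
  induction n using Nat.strong_induction_on with
  | _ n ih =>
  intro W hWn hWN hWE hWfix
  by_cases hW0 : W = ⊥
  · subst hW0
    rw [bot_inf_eq, Subgroup.card_bot, one_pow]
  -- coprimality of subgroups of Nb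
  have hcopY : ∀ Y : Subgroup (MulAut V), Y ≤ Nb → (Nat.card ↥Y).Coprime p := by
    intro Y hY
    exact Nat.Coprime.coprime_dvd_left
      (Subgroup.card_dvd_of_le (hY.trans le_sup_left)) hcop
  have hconjNb : ∀ (e : E) (z : MulAut V), z ∈ Nb → ρ e * z * (ρ e)⁻¹ ∈ Nb := by
    intro e z hz
    have := conj_mem_cj (h := ρ e) hz
    rw [hnorm] at this
    exact this
  have hcjle : ∀ (e : E) (Y : Subgroup (MulAut V)), Y ≤ Nb → cj (ρ e) Y ≤ Nb := by
    intro e Y hY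
    have := cj_mono (ρ e) hY
    rw [hnorm] at this
    exact this
  -- fixed points of a subgroup of Nb are Nb-invariant
  have hfixinv : ∀ (Y : Subgroup (MulAut V)), Y ≤ Nb → ∀ z ∈ Nb, ∀ w ∈ fixG Y, z w ∈ fixG Y := by
    intro Y hY z hz w hw g hg
    have hc := hNab g (hY hg) z hz
    calc g (z w) = (g * z) w := rfl
      _ = (z * g) w := by rw [hc]
      _ = z (g w) := rfl
      _ = z w := by rw [hw g hg]
  -- maximal N0
  obtain ⟨N0, -, hmax⟩ := Finite.exists_le_maximal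
    (p := fun Y : Subgroup (MulAut V) => Y ≤ Nb ∧ W ⊓ fixG Y ≠ ⊥) (a := ⊥)
    ⟨bot_le, by rw [fixG_bot, inf_top_eq]; exact hW0⟩
  obtain ⟨hN0le, hN0ne⟩ := hmax.prop
  have hmaxle : ∀ Y : Subgroup (MulAut V), Y ≤ Nb → W ⊓ fixG Y ≠ ⊥ → N0 ≤ Y → Y ≤ N0 :=
    fun Y h1 h2 h3 => hmax.2 ⟨h1, h2⟩ h3
  -- conjugates
  have hcjinv : ∀ e : E, cj (ρ e⁻¹) (cj (ρ e) N0) = N0 := by
    intro e
    rw [← cj_mul, ← map_mul, inv_mul_cancel, map_one, cj_one]
  have hA1 : ∀ e e' : E, cj (ρ e) N0 ≠ cj (ρ e') N0 →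
      W ⊓ fixG (cj (ρ e) N0) ⊓ fixG (cj (ρ e') N0) = ⊥ := by
    intro e e' hne
    rw [eq_bot_iff]
    rintro v ⟨⟨hvW, hv1⟩, hv2⟩
    rw [Subgroup.mem_bot]
    by_contra hv
    have h1 : ρ e⁻¹ v ∈ fixG N0 := by
      have := fix_cj (h := ρ e⁻¹) hv1
      rw [hcjinv] at this
      exact this
    have h2 : ρ e⁻¹ v ∈ fixG (cj (ρ (e⁻¹ * e')) N0) := by
      have := fix_cj (h := ρ e⁻¹) hv2
      rw [← cj_mul, ← map_mul] at this
      exact this
    have hY'le : N0 ⊔ cj (ρ (e⁻¹ * e')) N0 ≤ Nb := sup_le hN0le (hcjle _ _ hN0le)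
    have hne' : W ⊓ fixG (N0 ⊔ cj (ρ (e⁻¹ * e')) N0) ≠ ⊥ := by
      intro hbot
      have hm : ρ e⁻¹ v ∈ W ⊓ fixG (N0 ⊔ cj (ρ (e⁻¹ * e')) N0) := by
        rw [fixG_sup]
        exact ⟨hWE _ v hvW, h1, h2⟩
      rw [hbot, Subgroup.mem_bot] at hm
      apply hv
      have := (ρ e⁻¹).injective (hm.trans (map_one (ρ e⁻¹)).symm)
      exact this
    have h3 := hmaxle _ hY'le hne' le_sup_left
    have h4 : cj (ρ (e⁻¹ * e')) N0 ≤ N0 := le_sup_right.trans h3
    have h5 : cj (ρ (e⁻¹ * e')) N0 = N0 :=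
      Subgroup.eq_of_le_of_card_ge h4 (by rw [card_cj])
    apply hne
    have h6 : cj (ρ e') N0 = cj (ρ e) (cj (ρ (e⁻¹ * e')) N0) := by
      rw [← cj_mul, ← map_mul, mul_inv_cancel_left]
    rw [h6, h5]
  have hA2 : ∀ z ∈ Nb, z ∉ N0 → ∀ w ∈ W ⊓ fixG N0, z w = w → w = 1 := by
    intro z hz hzN w hw hzw
    by_contra hw1
    have hY'le : N0 ⊔ Subgroup.zpowers z ≤ Nb := sup_le hN0le (Subgroup.zpowers_le.2 hz)
    have hne' : W ⊓ fixG (N0 ⊔ Subgroup.zpowers z) ≠ ⊥ := by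
      intro hbot
      have hm : w ∈ W ⊓ fixG (N0 ⊔ Subgroup.zpowers z) := by
        rw [fixG_sup]
        exact ⟨hw.1, hw.2, fixG_zpowers.2 hzw⟩
      rw [hbot, Subgroup.mem_bot] at hm
      exact hw1 hm
    have h3 := hmaxle _ hY'le hne' le_sup_left
    exact hzN (h3 (Subgroup.mem_sup_right (Subgroup.mem_zpowers z)))
  -- W0 and S
  obtain ⟨W0, hW0def⟩ : ∃ W0 : Subgroup V, W0 = W ⊓ fixG N0 := ⟨_, rfl⟩
  obtain ⟨S, hSdef⟩ : ∃ S : Subgroup E, S = stab ρ N0 := ⟨_, rfl⟩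
  have hSmem : ∀ s ∈ S, cj (ρ s) N0 = N0 := by
    intro s hs
    rw [hSdef] at hs
    exact hs
  have hSmem' : ∀ s : E, cj (ρ s) N0 = N0 → s ∈ S := by
    intro s hs
    rw [hSdef]
    exact hs
  have hW0mem : ∀ v : V, v ∈ W0 ↔ (v ∈ W ∧ v ∈ fixG N0) := by
    intro v
    rw [hW0def]
    exact Subgroup.mem_inf
  have hN0lt : N0 ≠ Nb := by
    intro h
    rw [h] at hN0ne
    exact hN0ne hWfix
  obtain ⟨z0, hz0, hz0N⟩ := SetLike.exists_of_lt (lt_of_le_of_ne hN0le hN0lt)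
  obtain ⟨τ, hτ⟩ : ∃ τ : ↥S →* MulAut V, τ = ρ.comp S.subtype := ⟨_, rfl⟩
  have hτapp : ∀ s : ↥S, τ s = ρ (s : E) := by
    intro s
    rw [hτ]
    rfl
  have hτrange : τ.range = S.map ρ := by
    rw [hτ, MonoidHom.range_comp, Subgroup.range_subtype]
  -- descent on W0
  have hB : Nat.card ↥W0 = Nat.card ↥(W0 ⊓ fixG τ.range) ^ Nat.card ↥S := by
    apply descent_sub τ z0 W0
    · intro s w hw
      rw [hW0def] at hw ⊢
      rw [hτapp]
      refine ⟨hWE _ w hw.1, ?_⟩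
      have := fix_cj (h := ρ (s : E)) hw.2
      rw [hSmem _ s.2] at this
      exact this
    · intro w hw
      rw [hW0def] at hw ⊢
      exact ⟨hWN z0 hz0 w hw.1, hfixinv N0 hN0le z0 hz0 w hw.2⟩
    · intro s t
      rw [hτapp, hτapp]
      exact hNab _ (hconjNb _ _ hz0) _ (hconjNb _ _ hz0)
    · intro s t hst w hw hzw
      rw [hτapp, hτapp] at hzw
      rw [hW0def] at hw
      -- u = z_t⁻¹ z_s
      have hzs : ρ (s : E) * z0 * (ρ (s : E))⁻¹ ∈ Nb := hconjNb _ _ hz0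
      have hzt : ρ (t : E) * z0 * (ρ (t : E))⁻¹ ∈ Nb := hconjNb _ _ hz0
      have hu : (ρ (t : E) * z0 * (ρ (t : E))⁻¹)⁻¹ * (ρ (s : E) * z0 * (ρ (s : E))⁻¹) ∈ Nb :=
        Nb.mul_mem (Nb.inv_mem hzt) hzs
      apply hA2 _ hu _ w hw
      · show (ρ (t : E) * z0 * (ρ (t : E))⁻¹)⁻¹ ((ρ (s : E) * z0 * (ρ (s : E))⁻¹) w) = w
        rw [hzw]
        simp
      · intro huN
        -- r = t⁻¹ s
        obtain ⟨r, hr⟩ : ∃ r : E, r = (t : E)⁻¹ * (s : E) := ⟨_, rfl⟩
        have hrS : r ∈ S := by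
          rw [hr]; exact S.mul_mem (S.inv_mem t.2) s.2
        have hr1 : r ≠ 1 := by
          intro h
          rw [hr, inv_mul_eq_one] at h
          exact hst (Subtype.ext h.symm)
        have hc : z0⁻¹ * (ρ r * z0 * (ρ r)⁻¹) ∈ N0 := by
          have h1 : (ρ (t : E))⁻¹ * ((ρ (t : E) * z0 * (ρ (t : E))⁻¹)⁻¹ *
              (ρ (s : E) * z0 * (ρ (s : E))⁻¹)) * ρ (t : E) ∈ N0 := by
            have h2 := huN
            rw [← hSmem _ t.2, mem_cj] at h2
            exact h2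
          have h3 : (ρ (t : E))⁻¹ * ((ρ (t : E) * z0 * (ρ (t : E))⁻¹)⁻¹ *
              (ρ (s : E) * z0 * (ρ (s : E))⁻¹)) * ρ (t : E) =
              z0⁻¹ * (ρ r * z0 * (ρ r)⁻¹) := by
            rw [hr, map_mul, map_inv]
            group
          rw [h3] at h1
          exact h1
        -- the map κ on N0
        have hκmem : ∀ n ∈ N0, n⁻¹ * (ρ r * n * (ρ r)⁻¹) ∈ N0 := by
          intro n hn
          apply N0.mul_mem (N0.inv_mem hn)
          have := conj_mem_cj (h := ρ r) hn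
          rw [hSmem r hrS] at this
          exact this
        have hκfix : ∀ a ∈ Nb, ∀ b ∈ Nb,
            a⁻¹ * (ρ r * a * (ρ r)⁻¹) = b⁻¹ * (ρ r * b * (ρ r)⁻¹) → a = b := by
          intro a ha b hb hab
          have h1 : ρ r * (a * b⁻¹) * (ρ r)⁻¹ = a * b⁻¹ := by
            have e1 : ρ r * a * (ρ r)⁻¹ = a * (b⁻¹ * (ρ r * b * (ρ r)⁻¹)) := by
              rw [← hab]; group
            have e2 : ρ r * (a * b⁻¹) * (ρ r)⁻¹ =
                (ρ r * a * (ρ r)⁻¹) * (ρ r * b * (ρ r)⁻¹)⁻¹ := by group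
            rw [e2, e1]
            group
          have h2 := hfpf r hr1 _ (Nb.mul_mem ha (Nb.inv_mem hb)) h1
          exact mul_inv_eq_one.1 h2
        have hκinj : Function.Injective
            (fun n : ↥N0 => (⟨(n : MulAut V)⁻¹ * (ρ r * n * (ρ r)⁻¹), hκmem n n.2⟩ : ↥N0)) := by
          intro a b hab
          have := congrArg Subtype.val hab
          exact Subtype.ext (hκfix _ (hN0le a.2) _ (hN0le b.2) this)
        obtain ⟨n, hn⟩ := (Finite.injective_iff_surjective.1 hκinj) ⟨_, hc⟩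
        have hn' := congrArg Subtype.val hn
        have := hκfix _ (hN0le n.2) _ hz0 hn'
        apply hz0N
        rw [← this]
        exact n.2
  -- the translates
  have hWN0 : W0 ≠ ⊥ := by rw [hW0def]; exact hN0ne
  have hTcoset : ∀ (e : E), ∀ s ∈ S, cj (ρ (e * s)) N0 = cj (ρ e) N0 := by
    intro e s hs
    rw [map_mul, cj_mul, hSmem s hs]
  have hTout : ∀ e : E, cj (ρ (Quotient.out (QuotientGroup.mk e : E ⧸ S))) N0 = cj (ρ e) N0 := by
    intro e
    obtain ⟨h, hh⟩ := QuotientGroup.mk_out_eq_mul S e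
    rw [hh, hTcoset e _ h.2]
  have hdistinct : ∀ c c' : E ⧸ S, c ≠ c' →
      cj (ρ (Quotient.out c)) N0 ≠ cj (ρ (Quotient.out c')) N0 := by
    intro c c' hcc heq
    apply hcc
    have h1 : cj (ρ ((Quotient.out c)⁻¹ * Quotient.out c')) N0 = N0 := by
      rw [map_mul, cj_mul, ← heq, hcjinv]
    have h2 : (Quotient.out c)⁻¹ * Quotient.out c' ∈ S := hSmem' _ h1
    have h3 : (QuotientGroup.mk (Quotient.out c) : E ⧸ S) = QuotientGroup.mk (Quotient.out c') :=
      QuotientGroup.eq.2 h2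
    rw [QuotientGroup.out_eq', QuotientGroup.out_eq'] at h3
    exact h3
  -- killing
  have hkill : ∀ e e' : E, cj (ρ e) N0 ≠ cj (ρ e') N0 →
      ∀ w ∈ W ⊓ fixG (cj (ρ e') N0), nu (cj (ρ e) N0) w = 1 := by
    intro e e' hne w hw
    have h1 : nu (cj (ρ e) N0) w ∈ W ⊓ fixG (cj (ρ e) N0) ⊓ fixG (cj (ρ e') N0) := by
      refine ⟨⟨?_, nu_mem_fix _ _⟩, ?_⟩
      · exact nu_mem _ W (fun z hz => hWN z (hcjle e N0 hN0le hz)) w hw.1
      · intro g hg
        apply nu_fix_comm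
        · intro z hz
          exact hNab g (hcjle e' N0 hN0le hg) z (hcjle e N0 hN0le hz)
        · exact hw.2 g hg
    rw [hA1 e e' hne, Subgroup.mem_bot] at h1
    exact h1
  obtain ⟨Tι, hTι⟩ : ∃ Tι : E ⧸ S → Subgroup V,
      Tι = fun c => W ⊓ fixG (cj (ρ (Quotient.out c)) N0) := ⟨_, rfl⟩
  haveI : Fintype (E ⧸ S) := Fintype.ofFinite _
  have hind : iSupIndep Tι := by
    intro c
    rw [disjoint_iff, eq_bot_iff]
    rintro w ⟨hw1, hw2⟩
    rw [Subgroup.mem_bot]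
    have hker : (⨆ (j : E ⧸ S) (_ : j ≠ c), Tι j) ≤
        (nu (cj (ρ (Quotient.out c)) N0)).ker := by
      apply iSup_le
      intro j
      apply iSup_le
      intro hj v hv
      rw [MonoidHom.mem_ker]
      rw [hTι] at hv
      exact hkill _ _ (hdistinct c j (Ne.symm hj)) v hv
    have h1 := MonoidHom.mem_ker.1 (hker hw2)
    rw [hTι] at hw1
    have hw1' : w ∈ W ⊓ fixG (cj (ρ (Quotient.out c)) N0) := hw1
    rw [nu_of_fix _ w hw1'.2] at h1
    exact eq_one_of_pow_coprime hexp (hcopY _ (hcjle _ _ hN0le)) h1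
  obtain ⟨W1, hW1def⟩ : ∃ W1 : Subgroup V, W1 = ⨆ c, Tι c := ⟨_, rfl⟩
  have hcardT : ∀ e : E, Nat.card ↥(W ⊓ fixG (cj (ρ e) N0)) = Nat.card ↥W0 := by
    intro e
    symm
    apply Nat.card_congr
    refine
      { toFun := fun w => ⟨ρ e w.1, ?_⟩
        invFun := fun u => ⟨(ρ e)⁻¹ u.1, ?_⟩
        left_inv := fun w => by apply Subtype.ext; simp
        right_inv := fun u => by apply Subtype.ext; simp }
    · have hw := (hW0mem _).1 w.2
      exact ⟨hWE e _ hw.1, fix_cj hw.2⟩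
    · have hu := u.2
      rw [hW0mem]
      refine ⟨?_, ?_⟩
      · rw [← map_inv]; exact hWE _ _ hu.1
      · have := fix_cj (h := (ρ e)⁻¹) hu.2
        rw [← map_inv, hcjinv] at this
        rw [← map_inv]
        exact this
  have hcardW1 : Nat.card ↥W1 = Nat.card ↥W0 ^ Nat.card (E ⧸ S) := by
    rw [hW1def, card_iSup_of_indep Tι hind]
    have : ∀ c, Nat.card ↥(Tι c) = Nat.card ↥W0 := by
      intro c
      rw [hTι]
      exact hcardT _
    rw [Finset.prod_congr rfl (fun c _ => this c), Finset.prod_const, Finset.card_univ,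
      Nat.card_eq_fintype_card (α := E ⧸ S)]
  have hTle : ∀ e : E, W ⊓ fixG (cj (ρ e) N0) ≤ W1 := by
    intro e
    rw [hW1def, ← hTout e]
    have : W ⊓ fixG (cj (ρ (Quotient.out (QuotientGroup.mk e : E ⧸ S))) N0) =
        Tι (QuotientGroup.mk e) := by rw [hTι]
    rw [this]
    exact le_iSup Tι _
  have hW0le : W0 ≤ W1 := by
    have := hTle 1
    rw [map_one, cj_one] at this
    rw [hW0def]; exact this
  have hW1W : W1 ≤ W := by
    rw [hW1def]
    apply iSup_le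
    intro c
    rw [hTι]
    exact inf_le_left
  have hW1N : ∀ z ∈ Nb, ∀ w ∈ W1, z w ∈ W1 := by
    intro z hz
    have : W1 ≤ W1.comap z.toMonoidHom := by
      conv_lhs => rw [hW1def]
      apply iSup_le
      intro c w hw
      rw [hTι] at hw
      rw [Subgroup.mem_comap]
      apply hTle (Quotient.out c)
      exact ⟨hWN z hz w hw.1, hfixinv _ (hcjle _ _ hN0le) z hz w hw.2⟩
    exact fun w hw => this hw
  have hW1E : ∀ g : E, ∀ w ∈ W1, ρ g w ∈ W1 := by
    intro g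
    have : W1 ≤ W1.comap (ρ g).toMonoidHom := by
      conv_lhs => rw [hW1def]
      apply iSup_le
      intro c w hw
      rw [hTι] at hw
      rw [Subgroup.mem_comap]
      apply hTle (g * Quotient.out c)
      refine ⟨hWE g w hw.1, ?_⟩
      have := fix_cj (h := ρ g) hw.2
      rw [← cj_mul, ← map_mul] at this
      exact this
    exact fun w hw => this hw
  -- fixed points of E on W1
  have hC6 : Nat.card ↥(W1 ⊓ fixG ρ.range) = Nat.card ↥(W0 ⊓ fixG τ.range) := by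
    have hfwd : ∀ v ∈ W1 ⊓ fixG ρ.range, nu N0 v ∈ W0 ⊓ fixG τ.range := by
      intro v hv
      refine ⟨?_, ?_⟩
      · rw [hW0def]
        exact ⟨nu_mem _ W (fun z hz => hWN z (hN0le hz)) v (hW1W hv.1), nu_mem_fix _ _⟩
      · rintro g ⟨s, rfl⟩
        rw [hτapp, nu_conj N0 (ρ (s : E)) v, hv.2 _ ⟨_, rfl⟩]
        exact nu_congr (hSmem _ s.2) v
    have hconj1 : ∀ (e : E) (u : V), u ∈ fixG ρ.range → nu N0 u = 1 →
        nu (cj (ρ e) N0) u = 1 := by
      intro e u hu h1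
      have h2 := nu_conj N0 (ρ e) u
      rw [h1, map_one, hu _ ⟨e, rfl⟩] at h2
      exact h2.symm
    have hpow : ∀ w ∈ W1, (∏ c : E ⧸ S, nu (cj (ρ (Quotient.out c)) N0)) w =
        w ^ Nat.card ↥N0 := by
      have hle : W1 ≤ MonoidHom.eqLocus (∏ c : E ⧸ S, nu (cj (ρ (Quotient.out c)) N0))
          (powMonoidHom (Nat.card ↥N0)) := by
        conv_lhs => rw [hW1def]
        apply iSup_le
        intro c0 w hw
        rw [hTι] at hw
        show (∏ c : E ⧸ S, nu (cj (ρ (Quotient.out c)) N0)) w = w ^ Nat.card ↥N0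
        rw [MonoidHom.finset_prod_apply, Finset.prod_eq_single c0]
        · rw [nu_of_fix _ w hw.2, card_cj]
        · intro c _ hc
          exact hkill _ _ (hdistinct c c0 hc) w hw
        · intro h; exact absurd (Finset.mem_univ c0) h
      intro w hw
      exact hle hw
    apply Nat.card_congr
    refine Equiv.ofBijective (fun v => (⟨nu N0 v.1, hfwd v.1 v.2⟩ : ↥(W0 ⊓ fixG τ.range))) ⟨?_, ?_⟩
    · intro v v' hvv
      have h1 : nu N0 (v.1 * v'.1⁻¹) = 1 := by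
        have := congrArg Subtype.val hvv
        simp only at this
        rw [map_mul, map_inv, this, mul_inv_cancel]
      have hu : v.1 * v'.1⁻¹ ∈ W1 ⊓ fixG ρ.range :=
        Subgroup.mul_mem _ v.2 (Subgroup.inv_mem _ v'.2)
      have h2 := hpow _ hu.1
      rw [MonoidHom.finset_prod_apply] at h2
      rw [Finset.prod_eq_one (fun c _ => hconj1 _ _ hu.2 h1)] at h2
      have h3 := eq_one_of_pow_coprime hexp (hcopY N0 hN0le) h2.symm
      apply Subtype.ext
      exact mul_inv_eq_one.1 h3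
    · rintro ⟨w, hw⟩
      obtain ⟨k, hk⟩ : ∃ k, k = Nat.card ↥N0 * Nat.card ↥S := ⟨_, rfl⟩
      have hkcop : k.Coprime p := by
        rw [hk]
        apply Nat.Coprime.mul_left (hcopY N0 hN0le)
        exact Nat.Coprime.coprime_dvd_left (Subgroup.card_subgroup_dvd_card S) hcopE
      obtain ⟨k', -, hk'⟩ := Nat.exists_mul_mod_eq_one_of_coprime hkcop hp.out.one_lt
      have hwk : w ^ (k * k') = w := by
        rw [pow_eq_pow_mod (k * k') (hexp w), hk', pow_one]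
      obtain ⟨w', hw'⟩ : ∃ w' : V, w' = w ^ k' := ⟨_, rfl⟩
      have hw'mem : w' ∈ W0 ⊓ fixG τ.range := by
        rw [hw']; exact Subgroup.pow_mem _ hw _
      have hw'W : w' ∈ W ⊓ fixG N0 := by
        have := hw'mem.1
        rw [hW0def] at this
        exact this
      obtain ⟨v, hv⟩ : ∃ v : V, v = ∏ e : E, ρ e w' := ⟨_, rfl⟩
      have hvfix : v ∈ fixG ρ.range := by
        rintro g ⟨e0, rfl⟩
        rw [hv, map_prod]
        exact Fintype.prod_equiv (Equiv.mulLeft e0) _ _ (fun e => by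
          show ρ e0 (ρ e w') = ρ (e0 * e) w'
          rw [map_mul]; rfl)
      have hvW1 : v ∈ W1 := by
        rw [hv]
        apply Subgroup.prod_mem
        intro e _
        apply hTle e
        exact ⟨hWE e _ hw'W.1, fix_cj hw'W.2⟩
      refine ⟨⟨v, hvW1, hvfix⟩, ?_⟩
      apply Subtype.ext
      show nu N0 v = w
      rw [hv, map_prod]
      have hterm : ∀ e : E, nu N0 (ρ e w') = if e ∈ S then w' ^ Nat.card ↥N0 else 1 := by
        intro e
        by_cases he : e ∈ S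
        · rw [if_pos he]
          have : ρ e w' = w' := hw'mem.2 _ (by rw [hτrange]; exact ⟨e, he, rfl⟩)
          rw [this, nu_of_fix _ _ hw'W.2]
        · rw [if_neg he]
          have hne : cj (ρ (1 : E)) N0 ≠ cj (ρ e) N0 := by
            rw [map_one, cj_one]
            intro h
            exact he (hSmem' e h.symm)
          have h1 := hkill 1 e hne (ρ e w') ⟨hWE e _ hw'W.1, fix_cj hw'W.2⟩
          rw [← h1]
          exact nu_congr (by rw [map_one, cj_one]) _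
      rw [Finset.prod_congr rfl (fun e _ => hterm e), Finset.prod_ite, Finset.prod_const,
        Finset.prod_const_one, mul_one]
      have hcardS : (Finset.univ.filter (fun e : E => e ∈ S)).card = Nat.card ↥S := by
        rw [Nat.card_eq_fintype_card, Fintype.card_subtype]
      rw [hcardS, ← pow_mul, hw', ← pow_mul, ← hk, mul_comm k' k, hwk]
  -- Maschke complement
  have hcardE : Nat.card E = Nat.card (E ⧸ S) * Nat.card ↥S :=
    Subgroup.card_eq_card_quotient_mul_card_subgroup S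
  have hW1formula : Nat.card ↥W1 = Nat.card ↥(W1 ⊓ fixG ρ.range) ^ Nat.card E := by
    rw [hcardW1, hB, hC6, ← pow_mul, hcardE, mul_comm]
  have hinvsup : ∀ g ∈ Nb ⊔ ρ.range, ∀ w ∈ W1, g w ∈ W1 := by
    apply inv_of_sup W1 Nb ρ.range hW1N
    rintro g ⟨e, rfl⟩ w hw
    exact hW1E e w hw
  obtain ⟨W2, hW2inv, -, -, hW12, hW12top⟩ :=
    Cfsg.Agent.S3775.rel_maschke (p := p) (Nb ⊔ ρ.range).subtype hcop ⊥ W1 ⊤
      (Cfsg.Agent.S3775.inv_bot _) (fun x w hw => hinvsup x.1 x.2 w hw)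
      (Cfsg.Agent.S3775.inv_top _) bot_le le_top
      (fun y _ => by rw [Subgroup.mem_bot]; exact hexp y)
  obtain ⟨W', hW'def⟩ : ∃ W' : Subgroup V, W' = W2 ⊓ W := ⟨_, rfl⟩
  have hWsplit : W1 ⊔ W' = W := by
    rw [hW'def, ← sup_inf_assoc_of_le W2 hW1W, hW12top, top_inf_eq]
  have hW1W' : W1 ⊓ W' = ⊥ := by
    rw [eq_bot_iff, ← hW12, hW'def]
    exact inf_le_inf_left _ inf_le_left
  have hW2N : ∀ g ∈ Nb ⊔ ρ.range, ∀ w ∈ W2, g w ∈ W2 := fun g hg w hw => hW2inv ⟨g, hg⟩ w hw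
  have hW'N : ∀ z ∈ Nb, ∀ w ∈ W', z w ∈ W' := by
    intro z hz w hw
    rw [hW'def] at hw ⊢
    exact ⟨hW2N z (Subgroup.mem_sup_left hz) w hw.1, hWN z hz w hw.2⟩
  have hW'E : ∀ e, ∀ w ∈ W', ρ e w ∈ W' := by
    intro e w hw
    rw [hW'def] at hw ⊢
    exact ⟨hW2N _ (Subgroup.mem_sup_right ⟨e, rfl⟩) w hw.1, hWE e w hw.2⟩
  have hcardW : Nat.card ↥W = Nat.card ↥W1 * Nat.card ↥W' := by
    rw [← hWsplit]; exact card_sup_of_disjoint W1 W' hW1W'
  have hcardfix : Nat.card ↥(W ⊓ fixG ρ.range) =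
      Nat.card ↥(W1 ⊓ fixG ρ.range) * Nat.card ↥(W' ⊓ fixG ρ.range) := by
    rw [← hWsplit]
    apply card_fix_split _ W1 W' hW1W'
    · rintro z ⟨e, rfl⟩ w hw
      exact hW1E e w hw
    · rintro z ⟨e, rfl⟩ w hw
      exact hW'E e w hw
  have hW1gt : 1 < Nat.card ↥W1 := by
    have h1 : 1 < Nat.card ↥W0 := (Subgroup.one_lt_card_iff_ne_bot W0).2 hWN0
    exact lt_of_lt_of_le h1 (Subgroup.card_le_of_le hW0le)
  have hW'lt : Nat.card ↥W' < n := by
    rw [← hWn, hcardW]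
    have hpos : 0 < Nat.card ↥W' := Nat.card_pos
    nlinarith
  have hW'fix : W' ⊓ fixG Nb = ⊥ := by
    rw [eq_bot_iff, ← hWfix, hW'def]
    exact inf_le_inf_right _ inf_le_right
  have hIH := ih _ hW'lt W' rfl hW'N hW'E hW'fix
  rw [hcardW, hcardfix, hW1formula, hIH, mul_pow]

end bc

end Cfsg.Agent.helper23.Frob
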