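import Mathlib
import Cfsg.Agent.Lib_helper23_Frob4
import Cfsg.Agent.Lib_helper23_FpfPrime4

set_option autoImplicit false
set_option maxHeartbeats 1600000

namespace Cfsg.Agent.helper23.Frob

universe v

variable {A : Type*} [Group A] [Finite A]

/-- restriction of an action to an invariant subgroup -/
noncomputable def resHom {V : Type*} [CommGroup V] (φ : A →* MulAut V) (W : Subgroup V)
    [Finite W] (hW : ∀ a, ∀ w ∈ W, φ a w ∈ W) : A →* MulAut ↥W where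
  toFun a := Cfsg.Agent.helper23.resAut (φ a) W (hW a)
  map_one' := by
    ext w
    rw [Cfsg.Agent.helper23.resAut_apply, map_one]
    rfl
  map_mul' a b := by
    ext w
    rw [MulAut.mul_apply, Cfsg.Agent.helper23.resAut_apply, Cfsg.Agent.helper23.resAut_apply,
      Cfsg.Agent.helper23.resAut_apply, map_mul]
    rfl

theorem resHom_apply {V : Type*} [CommGroup V] (φ : A →* MulAut V) (W : Subgroup V)
    [Finite W] (hW : ∀ a, ∀ w ∈ W, φ a w ∈ W) (a : A) (w : ↥W) :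
    ((resHom φ W hW a w : ↥W) : V) = φ a w := rfl

theorem card_fix_res {V : Type*} [CommGroup V] (φ : A →* MulAut V) (W : Subgroup V)
    [Finite W] (hW : ∀ a, ∀ w ∈ W, φ a w ∈ W) (B : Subgroup A) :
    Nat.card ↥(fixG (B.map (resHom φ W hW))) = Nat.card ↥(W ⊓ fixG (B.map φ)) := by
  apply Nat.card_congr
  refine
    { toFun := fun w => ⟨((w.1 : ↥W) : V), ⟨w.1.2, ?_⟩⟩
      invFun := fun u => ⟨⟨u.1, u.2.1⟩, ?_⟩
      left_inv := fun w => rfl
      right_inv := fun u => rfl }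
  · rintro g ⟨b, hb, rfl⟩
    have := w.2 _ ⟨b, hb, rfl⟩
    exact congrArg Subtype.val this
  · rintro g ⟨b, hb, rfl⟩
    apply Subtype.ext
    exact u.2.2 _ ⟨b, hb, rfl⟩

/-- fixed-point-freeness passes to the image. -/
theorem img_fpf {V : Type*} [CommGroup V] (φ : A →* MulAut V) (U E : Subgroup A)
    (hnormU : ∀ e ∈ E, ∀ u ∈ U, e * u * e⁻¹ ∈ U)
    (hfpf : ∀ e ∈ E, e ≠ 1 → ∀ u ∈ U, e * u = u * e → u = 1) :
    ∀ e ∈ E, e ≠ 1 → ∀ z ∈ U.map φ, φ e * z * (φ e)⁻¹ = z → z = 1 := by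
  rintro e he he1 _ ⟨u, hu, rfl⟩ hz
  obtain ⟨K, hK⟩ : ∃ K : Subgroup A, K = U ⊓ φ.ker := ⟨_, rfl⟩
  have hKmem : ∀ k : A, k ∈ K ↔ (k ∈ U ∧ φ k = 1) := by
    intro k
    rw [hK, Subgroup.mem_inf, MonoidHom.mem_ker]
  have hcmem : ∀ k ∈ K, k⁻¹ * (e * k * e⁻¹) ∈ K := by
    intro k hk
    rw [hKmem] at hk ⊢
    refine ⟨U.mul_mem (U.inv_mem hk.1) (hnormU e he k hk.1), ?_⟩
    have e1 : φ (k⁻¹ * (e * k * e⁻¹)) = (φ k)⁻¹ * (φ e * φ k * (φ e)⁻¹) := by
      rw [map_mul, map_inv, map_mul, map_mul, map_inv]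
    rw [e1, hk.2]
    group
  have hcfix : ∀ a ∈ U, ∀ b ∈ U, a⁻¹ * (e * a * e⁻¹) = b⁻¹ * (e * b * e⁻¹) → a = b := by
    intro a ha b hb hab
    have h1 : e * (a * b⁻¹) * e⁻¹ = a * b⁻¹ := by
      have e1 : e * a * e⁻¹ = a * (b⁻¹ * (e * b * e⁻¹)) := by
        rw [← hab]; group
      have e2 : e * (a * b⁻¹) * e⁻¹ = (e * a * e⁻¹) * (e * b * e⁻¹)⁻¹ := by group
      rw [e2, e1]
      group
    have h2 : e * (a * b⁻¹) = (a * b⁻¹) * e := by
      calc e * (a * b⁻¹) = (e * (a * b⁻¹) * e⁻¹) * e := by group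
        _ = (a * b⁻¹) * e := by rw [h1]
    have h3 := hfpf e he he1 _ (U.mul_mem ha (U.inv_mem hb)) h2
    exact mul_inv_eq_one.1 h3
  have hinj : Function.Injective
      (fun k : ↥K => (⟨(k : A)⁻¹ * (e * k * e⁻¹), hcmem k k.2⟩ : ↥K)) := by
    intro a b hab
    have := congrArg Subtype.val hab
    exact Subtype.ext (hcfix _ ((hKmem _).1 a.2).1 _ ((hKmem _).1 b.2).1 this)
  have hcu : u⁻¹ * (e * u * e⁻¹) ∈ K := by
    rw [hKmem]
    refine ⟨U.mul_mem (U.inv_mem hu) (hnormU e he u hu), ?_⟩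
    rw [map_mul, map_inv, map_mul, map_mul, map_inv, hz, inv_mul_cancel]
  obtain ⟨k, hk⟩ := (Finite.injective_iff_surjective.1 hinj) ⟨_, hcu⟩
  have hk' := congrArg Subtype.val hk
  have := hcfix _ ((hKmem _).1 k.2).1 _ hu hk'
  rw [← this]
  exact ((hKmem _).1 k.2).2

/-- The module theorem: Frobenius group `UE` acting coprimely on an elementary abelian
group with `C_V(U) = 1`. -/
theorem modthm (U E : Subgroup A) (hUE : U ⊔ E = ⊤)
    (hnormU : ∀ e ∈ E, ∀ u ∈ U, e * u * e⁻¹ ∈ U)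
    (hfpf : ∀ e ∈ E, e ≠ 1 → ∀ u ∈ U, e * u = u * e → u = 1) (p : ℕ) [hp : Fact p.Prime]
    (hcop : (Nat.card A).Coprime p) :
    ∀ n : ℕ, ∀ (V : Type v) [CommGroup V] [Finite V], Nat.card V = n → ∀ φ : A →* MulAut V,
      (∀ v : V, v ^ p = 1) → fixG (U.map φ) = ⊥ →
      Nat.card V = Nat.card ↥(fixG (E.map φ)) ^ Nat.card ↥E := by
  intro n
  induction n using Nat.strong_induction_on with
  | _ n ih =>
  intro V _ _ hVn φ hexp hfixU
  classical
  by_cases hE : E = ⊥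
  · rw [hE, Subgroup.map_bot, fixG_bot, Subgroup.card_top, Subgroup.card_bot, pow_one]
  by_cases hV1 : (⊤ : Subgroup V) = ⊥
  · have h1 : Nat.card V = 1 := by rw [← Subgroup.card_top (G := V), hV1, Subgroup.card_bot]
    have h2 : Nat.card ↥(fixG (E.map φ)) = 1 := by
      apply le_antisymm
      · rw [← h1]; exact Subgroup.card_le_card_group _
      · exact Nat.card_pos
    rw [h1, h2, one_pow]
  -- element of prime order in E
  have hEcard : Nat.card ↥E ≠ 1 := by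
    intro h
    exact hE ((Subgroup.card_eq_one).1 h)
  obtain ⟨r, hr, hrd⟩ := Nat.exists_prime_and_dvd hEcard
  haveI : Fact r.Prime := ⟨hr⟩
  obtain ⟨e0', he0'⟩ := exists_prime_orderOf_dvd_card' (G := ↥E) r hrd
  obtain ⟨e0, he0def⟩ : ∃ e0 : A, e0 = (e0' : A) := ⟨_, rfl⟩
  have he0E : e0 ∈ E := by rw [he0def]; exact e0'.2
  have he0r : e0 ^ r = 1 := by
    rw [he0def, ← Subgroup.coe_pow, ← he0', pow_orderOf_eq_one]; rfl
  have he01 : e0 ≠ 1 := by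
    intro h
    have : e0' = 1 := Subtype.ext (by rw [← he0def, h]; rfl)
    rw [this, orderOf_one] at he0'
    exact hr.one_lt.ne he0'
  -- the image of U
  obtain ⟨Ub, hUb⟩ : ∃ Ub : Subgroup (MulAut V), Ub = U.map φ := ⟨_, rfl⟩
  obtain ⟨Eb, hEb⟩ : ∃ Eb : Subgroup (MulAut V), Eb = E.map φ := ⟨_, rfl⟩
  rw [← hUb] at hfixU
  rw [← hEb]
  have hUb1 : Ub ≠ ⊥ := by
    intro h
    rw [h, fixG_bot] at hfixU
    exact hV1 hfixU
  have himg := img_fpf φ U E hnormU hfpf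
  rw [← hUb] at himg
  have hEUb : ∀ e ∈ E, ∀ u ∈ Ub, φ e * u * (φ e)⁻¹ ∈ Ub := by
    intro e he u hu
    rw [hUb] at hu ⊢
    obtain ⟨u', hu', rfl⟩ := hu
    refine ⟨e * u' * e⁻¹, hnormU e he u' hu', ?_⟩
    rw [map_mul, map_mul, map_inv]
  have hEUb' : ∀ e ∈ E, ∀ u ∈ Ub, (φ e)⁻¹ * u * φ e ∈ Ub := by
    intro e he u hu
    have := hEUb e⁻¹ (E.inv_mem he) u hu
    rw [map_inv, inv_inv] at this
    exact this
  -- Thompson
  have hψinv : ∀ u ∈ Ub, (MulAut.conj (φ e0)) u ∈ Ub := by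
    intro u hu
    exact hEUb e0 he0E u hu
  obtain ⟨ψ, hψ⟩ : ∃ ψ : MulAut ↥Ub,
      ψ = Cfsg.Agent.helper23.resAut (MulAut.conj (φ e0)) Ub hψinv := ⟨_, rfl⟩
  have hψfpf : ∀ g : ↥Ub, ψ g = g → g = 1 := by
    intro g hg
    rw [hψ] at hg
    have h1 := congrArg Subtype.val hg
    rw [Cfsg.Agent.helper23.resAut_apply] at h1
    have h2 : φ e0 * (g : MulAut V) * (φ e0)⁻¹ = g := h1
    exact Subtype.ext (himg e0 he0E he01 _ g.2 h2)
  have hψr : ψ ^ r = 1 := by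
    rw [hψ]
    apply Cfsg.Agent.helper23.resAut_pow_eq_one
    rw [← map_pow, ← map_pow, he0r, map_one, map_one]
  have hnil : Group.IsNilpotent ↥Ub := Cfsg.Agent.helper23.fpf_prime_nilpotent ψ hψfpf r hr hψr
  haveI : Nontrivial ↥Ub := (Subgroup.nontrivial_iff_ne_bot Ub).2 hUb1
  have hcen : Subgroup.center ↥Ub ≠ ⊥ := by
    haveI := hnil
    exact Group.IsNilpotent.center_ne_bot ↥Ub
  obtain ⟨Nb, hNbdef⟩ : ∃ Nb : Subgroup (MulAut V),
      Nb = (Subgroup.center ↥Ub).map Ub.subtype := ⟨_, rfl⟩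
  have hNbmem : ∀ z : MulAut V, z ∈ Nb ↔ (z ∈ Ub ∧ ∀ u ∈ Ub, u * z = z * u) := by
    intro z
    rw [hNbdef, Subgroup.mem_map]
    constructor
    · rintro ⟨c, hc, rfl⟩
      refine ⟨c.2, fun u hu => ?_⟩
      have := Subgroup.mem_center_iff.1 hc ⟨u, hu⟩
      exact congrArg Subtype.val this
    · rintro ⟨hz, hcomm⟩
      refine ⟨⟨z, hz⟩, ?_, rfl⟩
      rw [Subgroup.mem_center_iff]
      intro g
      exact Subtype.ext (hcomm g g.2)
  have hNbUb : Nb ≤ Ub := fun z hz => ((hNbmem z).1 hz).1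
  have hNb1 : Nb ≠ ⊥ := by
    intro h
    apply hcen
    rw [hNbdef] at h
    exact (Subgroup.map_eq_bot_iff_of_injective _ Ub.subtype_injective).1 h
  have hNab : ∀ z ∈ Nb, ∀ z' ∈ Nb, z * z' = z' * z := by
    intro z hz z' hz'
    exact ((hNbmem z').1 hz').2 z (hNbUb hz)
  obtain ⟨ρ, hρ⟩ : ∃ ρ : ↥E →* MulAut V, ρ = φ.comp E.subtype := ⟨_, rfl⟩
  have hρapp : ∀ e : ↥E, ρ e = φ (e : A) := by
    intro e; rw [hρ]; rfl
  have hρrange : ρ.range = Eb := by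
    rw [hρ, MonoidHom.range_comp, Subgroup.range_subtype, hEb]
  have hnormNb : ∀ e : ↥E, cj (ρ e) Nb = Nb := by
    intro e
    apply Subgroup.eq_of_le_of_card_ge
    · intro z hz
      rw [mem_cj, hρapp] at hz
      obtain ⟨hz1, hz2⟩ := (hNbmem _).1 hz
      rw [hNbmem]
      have hzU : z ∈ Ub := by
        have := hEUb (e : A) e.2 _ hz1
        have e1 : φ (e : A) * ((φ (e : A))⁻¹ * z * φ (e : A)) * (φ (e : A))⁻¹ = z := by group
        rw [e1] at this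
        exact this
      refine ⟨hzU, ?_⟩
      intro u hu
      have h3 := hz2 _ (hEUb' (e : A) e.2 u hu)
      -- conjugate back
      have e1 : u * z = φ (e : A) * (((φ (e : A))⁻¹ * u * φ (e : A)) *
          ((φ (e : A))⁻¹ * z * φ (e : A))) * (φ (e : A))⁻¹ := by group
      have e2 : z * u = φ (e : A) * (((φ (e : A))⁻¹ * z * φ (e : A)) *
          ((φ (e : A))⁻¹ * u * φ (e : A))) * (φ (e : A))⁻¹ := by group
      rw [e1, e2, h3]
    · rw [card_cj]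
  have hfpfNb : ∀ e : ↥E, e ≠ 1 → ∀ z ∈ Nb, ρ e * z * (ρ e)⁻¹ = z → z = 1 := by
    intro e he z hz hzz
    rw [hρapp] at hzz
    apply himg (e : A) e.2 _ z (hNbUb hz) hzz
    intro h
    exact he (Subtype.ext h)
  have hrange_dvd : ∀ Y : Subgroup (MulAut V), Y ≤ φ.range → (Nat.card ↥Y).Coprime p := by
    intro Y hY
    apply Nat.Coprime.coprime_dvd_left _ hcop
    exact (Subgroup.card_dvd_of_le hY).trans (Subgroup.card_range_dvd φ)
  have hUbrange : Ub ≤ φ.range := by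
    rw [hUb]
    rintro _ ⟨u, -, rfl⟩
    exact ⟨u, rfl⟩
  have hEbrange : Eb ≤ φ.range := by
    rw [hEb]
    rintro _ ⟨u, -, rfl⟩
    exact ⟨u, rfl⟩
  have hcopNE : (Nat.card ↥(Nb ⊔ ρ.range)).Coprime p := by
    apply hrange_dvd
    rw [hρrange]
    exact sup_le (hNbUb.trans hUbrange) hEbrange
  have hcopE : (Nat.card ↥E).Coprime p :=
    Nat.Coprime.coprime_dvd_left (Subgroup.card_subgroup_dvd_card E) hcop
  -- V1
  obtain ⟨V1, hV1def⟩ : ∃ V1 : Subgroup V, V1 = fixG Nb := ⟨_, rfl⟩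
  have hV1U : ∀ u ∈ Ub, ∀ w ∈ V1, u w ∈ V1 := by
    intro u hu w hw
    rw [hV1def] at hw ⊢
    intro z hz
    have hc := ((hNbmem z).1 hz).2 u hu
    calc z (u w) = (z * u) w := rfl
      _ = (u * z) w := by rw [hc]
      _ = u (z w) := rfl
      _ = u w := by rw [hw z hz]
  have hV1E : ∀ e ∈ Eb, ∀ w ∈ V1, e w ∈ V1 := by
    intro g hg w hw
    rw [hEb] at hg
    obtain ⟨e, he, rfl⟩ := hg
    rw [hV1def] at hw ⊢
    have := fix_cj (h := φ e) hw
    have h2 := hnormNb ⟨e, he⟩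
    rw [hρapp] at h2
    rw [h2] at this
    exact this
  have hV1top : V1 ≠ ⊤ := by
    intro h
    apply hNb1
    rw [eq_bot_iff]
    intro z hz
    rw [Subgroup.mem_bot]
    ext v
    have hv : v ∈ V1 := by rw [h]; exact Subgroup.mem_top v
    rw [hV1def] at hv
    exact hv z hz
  have hinvsup : ∀ g ∈ Ub ⊔ Eb, ∀ w ∈ V1, g w ∈ V1 := inv_of_sup V1 Ub Eb hV1U hV1E
  have hAimg : ∀ a : A, φ a ∈ Ub ⊔ Eb := by
    intro a
    have ha : a ∈ U ⊔ E := by rw [hUE]; exact Subgroup.mem_top a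
    have : φ a ∈ (U ⊔ E).map φ := ⟨a, ha, rfl⟩
    rw [Subgroup.map_sup, ← hUb, ← hEb] at this
    exact this
  have hcopX : (Nat.card ↥(Ub ⊔ Eb)).Coprime p := hrange_dvd _ (sup_le hUbrange hEbrange)
  obtain ⟨Wc, hWcinv, -, -, hV1Wc, hV1Wctop⟩ :=
    Cfsg.Agent.S3775.rel_maschke (p := p) (Ub ⊔ Eb).subtype hcopX ⊥ V1 ⊤
      (Cfsg.Agent.S3775.inv_bot _) (fun x w hw => hinvsup x.1 x.2 w hw)
      (Cfsg.Agent.S3775.inv_top _) bot_le le_top
      (fun y _ => by rw [Subgroup.mem_bot]; exact hexp y)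
  have hWcsup : ∀ g ∈ Ub ⊔ Eb, ∀ w ∈ Wc, g w ∈ Wc := fun g hg w hw => hWcinv ⟨g, hg⟩ w hw
  -- BC on Wc
  have hbc := bc p hexp ρ Nb hNab hnormNb hfpfNb hcopNE hcopE (Nat.card ↥Wc) Wc rfl
    (fun z hz w hw => hWcsup z (Subgroup.mem_sup_left (hNbUb hz)) w hw)
    (fun e w hw => by
      rw [hρapp]
      exact hWcsup _ (hAimg _) w hw)
    (by
      rw [eq_bot_iff, ← hV1Wc, hV1def]
      exact le_inf inf_le_right inf_le_left)
  rw [hρrange] at hbc
  -- IH on V1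
  have hV1A : ∀ a : A, ∀ w ∈ V1, φ a w ∈ V1 := fun a w hw => hinvsup _ (hAimg a) w hw
  have hV1lt : Nat.card ↥V1 < n := by
    rw [← hVn]
    apply lt_of_le_of_ne (Subgroup.card_le_card_group V1)
    intro h
    exact hV1top (Subgroup.card_eq_iff_eq_top V1 |>.1 h)
  have hIH := ih _ hV1lt ↥V1 rfl (resHom φ V1 hV1A)
    (fun v => by
      apply Subtype.ext
      rw [Subgroup.coe_pow, hexp]; rfl)
    (by
      rw [eq_bot_iff]
      intro w hw
      rw [Subgroup.mem_bot]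
      apply Subtype.ext
      have : (w : V) ∈ fixG Ub := by
        rw [hUb]
        rintro g ⟨u, hu, rfl⟩
        have := hw _ ⟨u, hu, rfl⟩
        exact congrArg Subtype.val this
      rw [hfixU, Subgroup.mem_bot] at this
      exact this)
  rw [card_fix_res, ← hEb] at hIH
  -- combine
  have hcardV : Nat.card V = Nat.card ↥V1 * Nat.card ↥Wc := by
    rw [← Subgroup.card_top (G := V), ← hV1Wctop]
    exact card_sup_of_disjoint V1 Wc hV1Wc
  have hcardfix : Nat.card ↥(fixG Eb) =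
      Nat.card ↥(V1 ⊓ fixG Eb) * Nat.card ↥(Wc ⊓ fixG Eb) := by
    have := card_fix_split Eb V1 Wc hV1Wc hV1E
      (fun z hz w hw => hWcsup z (Subgroup.mem_sup_right hz) w hw)
    rw [hV1Wctop, top_inf_eq] at this
    exact this
  rw [hcardV, hcardfix, hIH, hbc, mul_pow]

/-- The general module formula. -/
theorem modthm2 (U E : Subgroup A) (hUE : U ⊔ E = ⊤)
    (hnormU : ∀ e ∈ E, ∀ u ∈ U, e * u * e⁻¹ ∈ U)
    (hfpf : ∀ e ∈ E, e ≠ 1 → ∀ u ∈ U, e * u = u * e → u = 1) (p : ℕ) [hp : Fact p.Prime]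
    (hcop : (Nat.card A).Coprime p) (V : Type v) [CommGroup V] [Finite V] (φ : A →* MulAut V)
    (hexp : ∀ v : V, v ^ p = 1) :
    Nat.card ↥(fixG (U.map φ) ⊓ fixG (E.map φ)) ^ Nat.card ↥E * Nat.card V =
      Nat.card ↥(fixG (E.map φ)) ^ Nat.card ↥E * Nat.card ↥(fixG (U.map φ)) := by
  classical
  obtain ⟨Ub, hUb⟩ : ∃ Ub : Subgroup (MulAut V), Ub = U.map φ := ⟨_, rfl⟩
  obtain ⟨Eb, hEb⟩ : ∃ Eb : Subgroup (MulAut V), Eb = E.map φ := ⟨_, rfl⟩
  rw [← hUb, ← hEb]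
  have hEUb : ∀ e ∈ E, ∀ u ∈ Ub, φ e * u * (φ e)⁻¹ ∈ Ub := by
    intro e he u hu
    rw [hUb] at hu ⊢
    obtain ⟨u', hu', rfl⟩ := hu
    refine ⟨e * u' * e⁻¹, hnormU e he u' hu', ?_⟩
    rw [map_mul, map_mul, map_inv]
  have hcjUb : ∀ e ∈ E, cj (φ e) Ub = Ub := by
    intro e he
    apply Subgroup.eq_of_le_of_card_ge
    · intro z hz
      rw [mem_cj] at hz
      have := hEUb e he _ hz
      have e1 : φ e * ((φ e)⁻¹ * z * φ e) * (φ e)⁻¹ = z := by group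
      rw [e1] at this
      exact this
    · rw [card_cj]
  obtain ⟨VU, hVUdef⟩ : ∃ VU : Subgroup V, VU = fixG Ub := ⟨_, rfl⟩
  have hVUU : ∀ u ∈ Ub, ∀ w ∈ VU, u w ∈ VU := by
    intro u hu w hw
    rw [hVUdef] at hw
    rw [hw u hu, hVUdef]
    exact hw
  have hVUE : ∀ e ∈ Eb, ∀ w ∈ VU, e w ∈ VU := by
    intro g hg w hw
    rw [hEb] at hg
    obtain ⟨e, he, rfl⟩ := hg
    rw [hVUdef] at hw ⊢
    have := fix_cj (h := φ e) hw
    rw [hcjUb e he] at this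
    exact this
  have hrange_dvd : ∀ Y : Subgroup (MulAut V), Y ≤ φ.range → (Nat.card ↥Y).Coprime p := by
    intro Y hY
    apply Nat.Coprime.coprime_dvd_left _ hcop
    exact (Subgroup.card_dvd_of_le hY).trans (Subgroup.card_range_dvd φ)
  have hUbrange : Ub ≤ φ.range := by
    rw [hUb]
    rintro _ ⟨u, -, rfl⟩
    exact ⟨u, rfl⟩
  have hEbrange : Eb ≤ φ.range := by
    rw [hEb]
    rintro _ ⟨u, -, rfl⟩
    exact ⟨u, rfl⟩
  have hinvsup : ∀ g ∈ Ub ⊔ Eb, ∀ w ∈ VU, g w ∈ VU := inv_of_sup VU Ub Eb hVUU hVUE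
  have hAimg : ∀ a : A, φ a ∈ Ub ⊔ Eb := by
    intro a
    have ha : a ∈ U ⊔ E := by rw [hUE]; exact Subgroup.mem_top a
    have : φ a ∈ (U ⊔ E).map φ := ⟨a, ha, rfl⟩
    rw [Subgroup.map_sup, ← hUb, ← hEb] at this
    exact this
  have hcopX : (Nat.card ↥(Ub ⊔ Eb)).Coprime p := hrange_dvd _ (sup_le hUbrange hEbrange)
  obtain ⟨Wc, hWcinv, -, -, hVUWc, hVUWctop⟩ :=
    Cfsg.Agent.S3775.rel_maschke (p := p) (Ub ⊔ Eb).subtype hcopX ⊥ VU ⊤
      (Cfsg.Agent.S3775.inv_bot _) (fun x w hw => hinvsup x.1 x.2 w hw)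
      (Cfsg.Agent.S3775.inv_top _) bot_le le_top
      (fun y _ => by rw [Subgroup.mem_bot]; exact hexp y)
  have hWcsup : ∀ g ∈ Ub ⊔ Eb, ∀ w ∈ Wc, g w ∈ Wc := fun g hg w hw => hWcinv ⟨g, hg⟩ w hw
  have hWcA : ∀ a : A, ∀ w ∈ Wc, φ a w ∈ Wc := fun a w hw => hWcsup _ (hAimg a) w hw
  have hmod := modthm U E hUE hnormU hfpf p hcop (Nat.card ↥Wc) ↥Wc rfl (resHom φ Wc hWcA)
    (fun v => by
      apply Subtype.ext
      rw [Subgroup.coe_pow, hexp]; rfl)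
    (by
      rw [eq_bot_iff]
      intro w hw
      rw [Subgroup.mem_bot]
      apply Subtype.ext
      have h1 : (w : V) ∈ fixG Ub := by
        rw [hUb]
        rintro g ⟨u, hu, rfl⟩
        have := hw _ ⟨u, hu, rfl⟩
        exact congrArg Subtype.val this
      have h2 : (w : V) ∈ VU ⊓ Wc := ⟨by rw [hVUdef]; exact h1, w.2⟩
      rw [hVUWc, Subgroup.mem_bot] at h2
      exact h2)
  rw [card_fix_res, ← hEb] at hmod
  have hcardV : Nat.card V = Nat.card ↥VU * Nat.card ↥Wc := by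
    rw [← Subgroup.card_top (G := V), ← hVUWctop]
    exact card_sup_of_disjoint VU Wc hVUWc
  have hcardfix : Nat.card ↥(fixG Eb) =
      Nat.card ↥(VU ⊓ fixG Eb) * Nat.card ↥(Wc ⊓ fixG Eb) := by
    have := card_fix_split Eb VU Wc hVUWc hVUE
      (fun z hz w hw => hWcsup z (Subgroup.mem_sup_right hz) w hw)
    rw [hVUWctop, top_inf_eq] at this
    exact this
  rw [hcardV, hcardfix, ← hVUdef, hmod, mul_pow]
  ring

end Cfsg.Agent.helper23.Frob
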