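import Mathlib
import Cfsg.Agent.Lib_helper23_Frob5
import Cfsg.Agent.Lib_lead_Coprime

/-! Frobenius group `UE` acting coprimely on a solvable group `H`: the fixed point order formula
(helper23).  Reduction to elementary abelian sections. -/

set_option autoImplicit false
set_option maxHeartbeats 1600000

namespace Cfsg.Agent.helper23.Frob

universe u v

section Mp

variable (G : Type*) [Group G]

/-- the characteristic subgroup `G' G^p` -/
def Mp (p : ℕ) : Subgroup G :=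
  ((powMonoidHom p : Abelianization G →* Abelianization G).range).comap Abelianization.of

instance Mp_normal (p : ℕ) : (Mp G p).Normal := by
  unfold Mp
  infer_instance

variable {G}

theorem mem_Mp {p : ℕ} {g : G} :
    g ∈ Mp G p ↔ ∃ y : Abelianization G, y ^ p = Abelianization.of g := by
  unfold Mp
  rw [Subgroup.mem_comap, MonoidHom.mem_range]
  simp only [powMonoidHom_apply]

theorem pow_mem_Mp (p : ℕ) (g : G) : g ^ p ∈ Mp G p := by
  rw [mem_Mp]
  exact ⟨Abelianization.of g, by rw [map_pow]⟩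

theorem comm_mem_Mp (p : ℕ) (a b : G) : (a * b)⁻¹ * (b * a) ∈ Mp G p := by
  rw [mem_Mp]
  refine ⟨1, ?_⟩
  rw [one_pow, map_mul, map_inv, map_mul, map_mul, mul_comm (Abelianization.of a),
    inv_mul_cancel]

theorem Mp_invariant (p : ℕ) (ψ : MulAut G) (g : G) (hg : g ∈ Mp G p) : ψ g ∈ Mp G p := by
  rw [mem_Mp] at hg ⊢
  obtain ⟨y, hy⟩ := hg
  refine ⟨Abelianization.map ψ.toMonoidHom y, ?_⟩
  rw [← map_pow, hy, Abelianization.map_of]
  rfl

theorem Mp_ne_top [Finite G] (p : ℕ) [hp : Fact p.Prime]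
    (hpd : p ∣ Nat.card (Abelianization G)) : Mp G p ≠ ⊤ := by
  intro h
  have hsurj : Function.Surjective (powMonoidHom p : Abelianization G →* Abelianization G) := by
    intro y
    obtain ⟨g, rfl⟩ := QuotientGroup.mk_surjective y
    have hg : g ∈ Mp G p := by rw [h]; exact Subgroup.mem_top g
    rw [mem_Mp] at hg
    obtain ⟨z, hz⟩ := hg
    exact ⟨z, hz⟩
  have hinj := (Finite.injective_iff_surjective).2 hsurj
  obtain ⟨y, hy⟩ := exists_prime_orderOf_dvd_card' (G := Abelianization G) p hpd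
  have h1 : y ^ p = 1 := by rw [← hy]; exact pow_orderOf_eq_one y
  have h2 : y = 1 := by
    apply hinj
    simp only [powMonoidHom_apply]
    rw [h1, one_pow]
  rw [h2, orderOf_one] at hy
  exact hp.out.one_lt.ne hy

/-- the commutative group structure on the section `G / G' G^p` -/
@[reducible] noncomputable def secCommGroup (G : Type*) [Group G] (p : ℕ) :
    CommGroup (G ⧸ Mp G p) :=
  { (QuotientGroup.Quotient.group (Mp G p)) with
    mul_comm := by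
      intro a b
      induction a using QuotientGroup.induction_on with
      | H a =>
      induction b using QuotientGroup.induction_on with
      | H b =>
      rw [← QuotientGroup.mk_mul, ← QuotientGroup.mk_mul, QuotientGroup.eq]
      exact comm_mem_Mp p a b }

theorem sec_exp (p : ℕ) (v : G ⧸ Mp G p) : v ^ p = 1 := by
  induction v using QuotientGroup.induction_on with
  | H g =>
  rw [← QuotientGroup.mk_pow, QuotientGroup.eq_one_iff]
  exact pow_mem_Mp p g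

end Mp

/-- conjugation action of a normalizing subgroup on a finite subgroup -/
noncomputable def conjRes {X : Type*} [Group X] (K A : Subgroup X) [Finite K]
    (hAK : ∀ a ∈ A, ∀ k ∈ K, a * k * a⁻¹ ∈ K) : ↥A →* MulAut ↥K where
  toFun a := Cfsg.Agent.helper23.resAut (MulAut.conj (a : X)) K (fun k hk => by
    rw [MulAut.conj_apply]
    exact hAK a a.2 k hk)
  map_one' := by
    ext k
    change ((1 : ↥A) : X) * (k : X) * ((1 : ↥A) : X)⁻¹ = (k : X)
    simp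
  map_mul' a b := by
    ext k
    change ((a * b : ↥A) : X) * (k : X) * ((a * b : ↥A) : X)⁻¹ =
      (a : X) * ((b : X) * (k : X) * (b : X)⁻¹) * (a : X)⁻¹
    rw [Subgroup.coe_mul]
    group

theorem conjRes_apply {X : Type*} [Group X] (K A : Subgroup X) [Finite K]
    (hAK : ∀ a ∈ A, ∀ k ∈ K, a * k * a⁻¹ ∈ K) (a : ↥A) (k : ↥K) :
    ((conjRes K A hAK a k : ↥K) : X) = (a : X) * k * (a : X)⁻¹ := rfl

/-- induced action on the section -/
noncomputable def secHom {X : Type*} [Group X] (K A : Subgroup X) [Finite K]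
    (hAK : ∀ a ∈ A, ∀ k ∈ K, a * k * a⁻¹ ∈ K) (p : ℕ) : ↥A →* MulAut (↥K ⧸ Mp ↥K p) where
  toFun a := Cfsg.Agent.helper23.quotAut (conjRes K A hAK a) (Mp ↥K p) (Mp_invariant p _)
  map_one' := by
    ext v
    induction v using QuotientGroup.induction_on with
    | H k =>
    rw [Cfsg.Agent.helper23.quotAut_mk, map_one]
    rfl
  map_mul' a b := by
    ext v
    induction v using QuotientGroup.induction_on with
    | H k =>
    rw [MulAut.mul_apply, Cfsg.Agent.helper23.quotAut_mk, Cfsg.Agent.helper23.quotAut_mk,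
      Cfsg.Agent.helper23.quotAut_mk, map_mul]
    rfl

theorem secHom_mk {X : Type*} [Group X] (K A : Subgroup X) [Finite K]
    (hAK : ∀ a ∈ A, ∀ k ∈ K, a * k * a⁻¹ ∈ K) (p : ℕ) (a : ↥A) (k : ↥K) :
    secHom K A hAK p a (QuotientGroup.mk k) =
      QuotientGroup.mk (⟨(a : X) * k * (a : X)⁻¹, hAK a a.2 k k.2⟩ : ↥K) := rfl

theorem le_normalizer_of_conj {G : Type*} [Group G] (B K : Subgroup G)
    (h : ∀ b ∈ B, ∀ k ∈ K, b * k * b⁻¹ ∈ K) : B ≤ Subgroup.normalizer (K : Set G) := by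
  intro b hb
  rw [Subgroup.mem_normalizer_iff]
  intro n
  constructor
  · exact h b hb n
  · intro hn
    have := h b⁻¹ (B.inv_mem hb) _ hn
    have e : b⁻¹ * (b * n * b⁻¹) * b⁻¹⁻¹ = n := by group
    rw [e] at this
    exact this

theorem card_eq_ker_mul_range {G H : Type*} [Group G] [Group H] (f : G →* H) :
    Nat.card G = Nat.card ↥f.ker * Nat.card ↥f.range := by
  rw [← Subgroup.index_ker, Subgroup.card_mul_index]

/-- coprime lifting of fixed points through a section. -/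
theorem lift_card {X : Type u} [Group X] [Finite X] (K A : Subgroup X)
    (hAK : ∀ a ∈ A, ∀ k ∈ K, a * k * a⁻¹ ∈ K)
    (hcop : (Nat.card ↥K).Coprime (Nat.card ↥A)) (hsolv : Group.IsSolvable ↥K)
    {V : Type v} [CommGroup V] (π : ↥K →* V) (hπ : Function.Surjective π)
    (φ : ↥A →* MulAut V)
    (hφ : ∀ (a : ↥A) (k : ↥K),
      φ a (π k) = π ⟨(a : X) * k * (a : X)⁻¹, hAK a a.2 k k.2⟩)
    (M : Subgroup X) (hM : ∀ x, x ∈ M ↔ ∃ h : x ∈ K, π ⟨x, h⟩ = 1)
    (B : Subgroup X) (hBA : B ≤ A) :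
    Nat.card ↥(K ⊓ Subgroup.centralizer (B : Set X)) =
      Nat.card ↥(M ⊓ Subgroup.centralizer (B : Set X)) *
        Nat.card ↥(fixG ((B.subgroupOf A).map φ)) := by
  classical
  have hMK : M ≤ K := fun x hx => by
    obtain ⟨h, -⟩ := (hM x).1 hx
    exact h
  obtain ⟨f, hf⟩ : ∃ f : ↥(K ⊓ Subgroup.centralizer (B : Set X)) →* V,
      f = π.comp (Subgroup.inclusion inf_le_left) := ⟨_, rfl⟩
  have hfapp : ∀ c : ↥(K ⊓ Subgroup.centralizer (B : Set X)), f c = π ⟨c.1, c.2.1⟩ := by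
    intro c; rw [hf]; rfl
  have hKM : K ≤ Subgroup.normalizer (M : Set X) := by
    apply le_normalizer_of_conj
    intro k hk m hm
    obtain ⟨h, h1⟩ := (hM m).1 hm
    rw [hM]
    refine ⟨K.mul_mem (K.mul_mem hk h) (K.inv_mem hk), ?_⟩
    have e : (⟨k * m * k⁻¹, K.mul_mem (K.mul_mem hk h) (K.inv_mem hk)⟩ : ↥K) =
        ⟨k, hk⟩ * ⟨m, h⟩ * (⟨k, hk⟩ : ↥K)⁻¹ := rfl
    rw [e, map_mul, map_mul, h1, mul_one, map_inv, mul_inv_cancel]
  have hBM : B ≤ Subgroup.normalizer (M : Set X) := by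
    apply le_normalizer_of_conj
    intro b hb m hm
    obtain ⟨h, h1⟩ := (hM m).1 hm
    rw [hM]
    refine ⟨hAK b (hBA hb) m h, ?_⟩
    have := hφ ⟨b, hBA hb⟩ ⟨m, h⟩
    rw [h1, map_one] at this
    exact this.symm
  have hcopB : (Nat.card ↥B).Coprime (Nat.card ↥K) :=
    (Nat.Coprime.coprime_dvd_right (Subgroup.card_dvd_of_le hBA) hcop).symm
  have hrange : f.range = fixG ((B.subgroupOf A).map φ) := by
    apply le_antisymm
    · rintro _ ⟨c, rfl⟩
      rintro g ⟨b, hb, rfl⟩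
      rw [hfapp, hφ]
      congr 1
      apply Subtype.ext
      have hbB : (b : X) ∈ B := hb
      have hcc : (c : X) ∈ Subgroup.centralizer (B : Set X) := c.2.2
      rw [Subgroup.mem_centralizer_iff] at hcc
      have h1 := hcc (b : X) hbB
      show (b : X) * (c : X) * (b : X)⁻¹ = (c : X)
      rw [h1, mul_inv_cancel_right]
    · intro v hv
      obtain ⟨k, rfl⟩ := hπ v
      have hfix : ∀ b ∈ B, b * (k : X) * b⁻¹ * (k : X)⁻¹ ∈ M := by
        intro b hb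
        have h1 := hv (φ ⟨b, hBA hb⟩) ⟨⟨b, hBA hb⟩, hb, rfl⟩
        rw [hφ] at h1
        rw [hM]
        refine ⟨K.mul_mem (hAK b (hBA hb) k k.2) (K.inv_mem k.2), ?_⟩
        have e : (⟨b * (k : X) * b⁻¹ * (k : X)⁻¹,
            K.mul_mem (hAK b (hBA hb) k k.2) (K.inv_mem k.2)⟩ : ↥K) =
            ⟨b * (k : X) * b⁻¹, hAK b (hBA hb) k k.2⟩ * k⁻¹ := rfl
        rw [e, map_mul, h1, map_inv, mul_inv_cancel]
      obtain ⟨c, hc, hkc⟩ := Cfsg.Agent.lead.coprime_fixed_coset B K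
        (le_normalizer_of_conj B K (fun b hb => hAK b (hBA hb)))
        hcopB (Or.inr hsolv) M hMK hKM hBM (k : X) k.2 hfix
      refine ⟨⟨c, hc⟩, ?_⟩
      rw [hfapp]
      obtain ⟨h, h1⟩ := (hM _).1 hkc
      have e : (⟨(k : X)⁻¹ * c, h⟩ : ↥K) = k⁻¹ * ⟨c, hc.1⟩ := rfl
      rw [e, map_mul, map_inv, inv_mul_eq_one] at h1
      exact h1.symm
  rw [card_eq_ker_mul_range f, hrange]
  congr 1
  apply Nat.card_congr
  refine
    { toFun := fun c => ⟨((c.1 : ↥(K ⊓ Subgroup.centralizer (B : Set X))) : X),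
        ⟨(hM _).2 ⟨c.1.2.1, ?_⟩, c.1.2.2⟩⟩
      invFun := fun m => ⟨⟨m.1, ⟨hMK m.2.1, m.2.2⟩⟩, ?_⟩
      left_inv := fun c => rfl
      right_inv := fun m => rfl }
  · have := c.2
    rw [MonoidHom.mem_ker, hfapp] at this
    exact this
  · rw [MonoidHom.mem_ker, hfapp]
    obtain ⟨h, h1⟩ := (hM _).1 m.2.1
    exact h1

/-- the inductive step, for an abstract section module. -/
theorem step {X : Type u} [Group X] [Finite X] (U E : Subgroup X)
    (hUn : ∀ e ∈ E, ∀ u ∈ U, e * u * e⁻¹ ∈ U)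
    (hfpf : ∀ e ∈ E, e ≠ 1 → ∀ u ∈ U, e * u = u * e → u = 1)
    (K M : Subgroup X)
    (hAK : ∀ a ∈ U ⊔ E, ∀ k ∈ K, a * k * a⁻¹ ∈ K)
    (hcop : (Nat.card ↥K).Coprime (Nat.card ↥(U ⊔ E))) (hsolv : Group.IsSolvable ↥K)
    (p : ℕ) [Fact p.Prime] (hpK : p ∣ Nat.card ↥K)
    {V : Type v} [CommGroup V] [Finite V] (π : ↥K →* V) (hπ : Function.Surjective π)
    (hexp : ∀ v : V, v ^ p = 1)
    (φ : ↥(U ⊔ E) →* MulAut V)
    (hφ : ∀ (a : ↥(U ⊔ E)) (k : ↥K),
      φ a (π k) = π ⟨(a : X) * k * (a : X)⁻¹, hAK a a.2 k k.2⟩)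
    (hM : ∀ x, x ∈ M ↔ ∃ h : x ∈ K, π ⟨x, h⟩ = 1)
    (hIH : Nat.card ↥(M ⊓ Subgroup.centralizer ((U ⊔ E : Subgroup X) : Set X)) ^ Nat.card ↥E *
        Nat.card ↥M =
        Nat.card ↥(M ⊓ Subgroup.centralizer (E : Set X)) ^ Nat.card ↥E *
          Nat.card ↥(M ⊓ Subgroup.centralizer (U : Set X))) :
    Nat.card ↥(K ⊓ Subgroup.centralizer ((U ⊔ E : Subgroup X) : Set X)) ^ Nat.card ↥E *
        Nat.card ↥K =
      Nat.card ↥(K ⊓ Subgroup.centralizer (E : Set X)) ^ Nat.card ↥E *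
        Nat.card ↥(K ⊓ Subgroup.centralizer (U : Set X)) := by
  classical
  have hUA : U ≤ U ⊔ E := le_sup_left
  have hEA : E ≤ U ⊔ E := le_sup_right
  have hMK : M ≤ K := fun x hx => by
    obtain ⟨h, -⟩ := (hM x).1 hx
    exact h
  have hl1 := lift_card K (U ⊔ E) hAK hcop hsolv π hπ φ hφ M hM (U ⊔ E) le_rfl
  have hl2 := lift_card K (U ⊔ E) hAK hcop hsolv π hπ φ hφ M hM E hEA
  have hl3 := lift_card K (U ⊔ E) hAK hcop hsolv π hπ φ hφ M hM U hUA
  have hcopp : (Nat.card ↥(U ⊔ E)).Coprime p := (Nat.Coprime.coprime_dvd_left hpK hcop).symm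
  have hsup : U.subgroupOf (U ⊔ E) ⊔ E.subgroupOf (U ⊔ E) = ⊤ := by
    rw [← Subgroup.subgroupOf_sup hUA hEA, Subgroup.subgroupOf_self]
  have hmod := modthm2 (U.subgroupOf (U ⊔ E)) (E.subgroupOf (U ⊔ E)) hsup
    (fun e he u hu => hUn (e : X) he (u : X) hu)
    (fun e he he1 u hu hc => Subtype.ext
      (hfpf (e : X) he (fun h => he1 (Subtype.ext h)) (u : X) hu (congrArg Subtype.val hc)))
    p hcopp V φ hexp
  have hcE : Nat.card ↥(E.subgroupOf (U ⊔ E)) = Nat.card ↥E :=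
    Nat.card_congr (Subgroup.subgroupOfEquivOfLe hEA).toEquiv
  rw [hcE] at hmod
  have htop : fixG (((U ⊔ E).subgroupOf (U ⊔ E)).map φ) =
      fixG ((U.subgroupOf (U ⊔ E)).map φ) ⊓ fixG ((E.subgroupOf (U ⊔ E)).map φ) := by
    rw [← fixG_sup, ← Subgroup.map_sup, hsup, Subgroup.subgroupOf_self]
  rw [htop] at hl1
  have hcardK : Nat.card ↥K = Nat.card ↥M * Nat.card V := by
    rw [card_eq_ker_mul_range π, MonoidHom.range_eq_top.2 hπ, Subgroup.card_top]
    congr 1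
    apply Nat.card_congr
    refine
      { toFun := fun k => ⟨((k.1 : ↥K) : X), (hM _).2 ⟨k.1.2, k.2⟩⟩
        invFun := fun m => ⟨⟨m.1, hMK m.2⟩, ?_⟩
        left_inv := fun k => rfl
        right_inv := fun m => rfl }
    rw [MonoidHom.mem_ker]
    obtain ⟨h, h1⟩ := (hM _).1 m.2
    exact h1
  rw [hl1, hl2, hl3, hcardK, mul_pow, mul_pow]
  obtain ⟨mA, hmA⟩ : ∃ mA, mA = Nat.card ↥(M ⊓ Subgroup.centralizer ((U ⊔ E : Subgroup X) : Set X)) :=
    ⟨_, rfl⟩
  obtain ⟨mE, hmE⟩ : ∃ mE, mE = Nat.card ↥(M ⊓ Subgroup.centralizer (E : Set X)) := ⟨_, rfl⟩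
  obtain ⟨mU, hmU⟩ : ∃ mU, mU = Nat.card ↥(M ⊓ Subgroup.centralizer (U : Set X)) := ⟨_, rfl⟩
  obtain ⟨vA, hvA⟩ : ∃ vA, vA = Nat.card ↥(fixG ((U.subgroupOf (U ⊔ E)).map φ) ⊓
      fixG ((E.subgroupOf (U ⊔ E)).map φ)) := ⟨_, rfl⟩
  obtain ⟨vE, hvE⟩ : ∃ vE, vE = Nat.card ↥(fixG ((E.subgroupOf (U ⊔ E)).map φ)) := ⟨_, rfl⟩
  obtain ⟨vU, hvU⟩ : ∃ vU, vU = Nat.card ↥(fixG ((U.subgroupOf (U ⊔ E)).map φ)) := ⟨_, rfl⟩
  rw [← hmA, ← hmE, ← hmU] at hIH ⊢
  rw [← hvA, ← hvE, ← hvU] at hmod ⊢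
  calc mA ^ Nat.card ↥E * vA ^ Nat.card ↥E * (Nat.card ↥M * Nat.card V)
      = (mA ^ Nat.card ↥E * Nat.card ↥M) * (vA ^ Nat.card ↥E * Nat.card V) := by ring
    _ = (mE ^ Nat.card ↥E * mU) * (vE ^ Nat.card ↥E * vU) := by rw [hIH, hmod]
    _ = mE ^ Nat.card ↥E * vE ^ Nat.card ↥E * (mU * vU) := by ring

/-- **The fixed point order formula** for a Frobenius group `UE` acting coprimely on a solvable
group. -/
theorem frob_formula {X : Type u} [Group X] [Finite X] (U E : Subgroup X)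
    (hUn : ∀ e ∈ E, ∀ u ∈ U, e * u * e⁻¹ ∈ U)
    (hfpf : ∀ e ∈ E, e ≠ 1 → ∀ u ∈ U, e * u = u * e → u = 1) :
    ∀ n : ℕ, ∀ K : Subgroup X, Nat.card ↥K = n →
      (∀ x ∈ U ⊔ E, ∀ k ∈ K, x * k * x⁻¹ ∈ K) → Group.IsSolvable ↥K →
      (Nat.card ↥K).Coprime (Nat.card ↥(U ⊔ E)) →
      Nat.card ↥(K ⊓ Subgroup.centralizer ((U ⊔ E : Subgroup X) : Set X)) ^ Nat.card ↥E *
          Nat.card ↥K =
        Nat.card ↥(K ⊓ Subgroup.centralizer (E : Set X)) ^ Nat.card ↥E *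
          Nat.card ↥(K ⊓ Subgroup.centralizer (U : Set X)) := by
  intro n
  induction n using Nat.strong_induction_on with
  | _ n ih =>
  intro K hKn hAK hsolv hcop
  classical
  by_cases hK : K = ⊥
  · subst hK
    simp only [bot_inf_eq, Subgroup.card_bot, one_pow, mul_one]
  haveI : Nontrivial ↥K := (Subgroup.nontrivial_iff_ne_bot K).2 hK
  haveI := hsolv
  have hlt := Group.IsSolvable.commutator_lt_top_of_nontrivial ↥K
  have hab1 : Nat.card (Abelianization ↥K) ≠ 1 := by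
    intro h
    have h1 : (commutator ↥K).index = 1 := h
    rw [Subgroup.index_eq_one] at h1
    exact hlt.ne h1
  obtain ⟨p, hp, hpd⟩ := Nat.exists_prime_and_dvd hab1
  haveI : Fact p.Prime := ⟨hp⟩
  have hpK : p ∣ Nat.card ↥K := hpd.trans (Subgroup.index_dvd_card (commutator ↥K))
  have hNtop : Mp ↥K p ≠ ⊤ := Mp_ne_top p hpd
  obtain ⟨M, hMdef⟩ : ∃ M : Subgroup X, M = (Mp ↥K p).map K.subtype := ⟨_, rfl⟩
  have hMK : M ≤ K := by
    rw [hMdef]
    rintro _ ⟨k, -, rfl⟩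
    exact k.2
  have hMmem : ∀ x, x ∈ M ↔ ∃ h : x ∈ K, (QuotientGroup.mk' (Mp ↥K p)) ⟨x, h⟩ = 1 := by
    intro x
    rw [hMdef, Subgroup.mem_map]
    constructor
    · rintro ⟨k, hk, rfl⟩
      exact ⟨k.2, (QuotientGroup.eq_one_iff _).2 hk⟩
    · rintro ⟨h, h1⟩
      exact ⟨⟨x, h⟩, (QuotientGroup.eq_one_iff _).1 h1, rfl⟩
  have hMcard : Nat.card ↥M = Nat.card ↥(Mp ↥K p) := by
    rw [hMdef]
    exact Subgroup.card_map_of_injective K.subtype_injective
  have hMlt : Nat.card ↥M < n := by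
    rw [hMcard, ← hKn]
    apply lt_of_le_of_ne (Subgroup.card_le_card_group _)
    intro h
    exact hNtop ((Subgroup.card_eq_iff_eq_top _).1 h)
  have hAM : ∀ x ∈ U ⊔ E, ∀ m ∈ M, x * m * x⁻¹ ∈ M := by
    intro x hx m hm
    rw [hMdef] at hm ⊢
    obtain ⟨k, hk, rfl⟩ := hm
    exact ⟨conjRes K (U ⊔ E) hAK ⟨x, hx⟩ k, Mp_invariant p _ k hk, rfl⟩
  have hIH := ih (Nat.card ↥M) hMlt M rfl hAM (Cfsg.Agent.lead.solvable_of_le hMK hsolv)
    (Nat.Coprime.coprime_dvd_left (Subgroup.card_dvd_of_le hMK) hcop)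
  exact @step X _ _ U E hUn hfpf K M hAK hcop hsolv p _ hpK (↥K ⧸ Mp ↥K p) (secCommGroup ↥K p)
    inferInstance (QuotientGroup.mk' (Mp ↥K p)) (QuotientGroup.mk'_surjective _) (sec_exp p)
    (secHom K (U ⊔ E) hAK p) (fun a k => secHom_mk K (U ⊔ E) hAK p a k) hMmem hIH

end Cfsg.Agent.helper23.Frob
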