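import Mathlib
import Cfsg.Agent.Lib_helper23_Frob5

/-! Frobenius group `UE` with `|E|` prime acting coprimely on an elementary abelian group with
`|C_V(E)| ≤ p`: the image of `U` is abelian (helper23). -/

set_option autoImplicit false
set_option maxHeartbeats 1600000

namespace Cfsg.Agent.helper23.Frob

universe v

theorem exists_mem_ne_one {G : Type*} [Group G] (H : Subgroup G) (h : H ≠ ⊥) :
    ∃ w ∈ H, w ≠ 1 := by
  obtain ⟨a, ha⟩ := (Subgroup.ne_bot_iff_exists_ne_one).1 h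
  exact ⟨a, a.2, fun h' => ha (Subtype.ext h')⟩

section dc

variable {V : Type*} [CommGroup V]

/-- double centralizer of a group of automorphisms, inside the pointwise group of endomorphisms -/
def dcent (Nb : Subgroup (MulAut V)) : Subgroup (V →* V) where
  carrier := {F | ∀ g : V →* V, (∀ z ∈ Nb, ∀ v, g (z v) = z (g v)) → ∀ v, g (F v) = F (g v)}
  mul_mem' := by
    intro F1 F2 h1 h2 g hg v
    rw [MonoidHom.mul_apply, map_mul, h1 g hg, h2 g hg, MonoidHom.mul_apply]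
  one_mem' := by
    intro g hg v
    rw [MonoidHom.one_apply, map_one, MonoidHom.one_apply]
  inv_mem' := by
    intro F h g hg v
    rw [MonoidHom.inv_apply, map_inv, h g hg, MonoidHom.inv_apply]

theorem mem_dcent {Nb : Subgroup (MulAut V)} {F : V →* V} :
    F ∈ dcent Nb ↔
      ∀ g : V →* V, (∀ z ∈ Nb, ∀ v, g (z v) = z (g v)) → ∀ v, g (F v) = F (g v) := Iff.rfl

theorem aut_mem_dcent {Nb : Subgroup (MulAut V)} {z : MulAut V} (hz : z ∈ Nb) :
    z.toMonoidHom ∈ dcent Nb := by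
  intro g hg v
  exact hg z hz v

theorem dcent_comm_aut {Nb : Subgroup (MulAut V)} {F : V →* V} (hF : F ∈ dcent Nb)
    (u : MulAut V) (hu : ∀ z ∈ Nb, u * z = z * u) (v : V) : u (F v) = F (u v) := by
  refine hF u.toMonoidHom ?_ v
  intro z hz w
  show (u * z) w = (z * u) w
  rw [hu z hz]

theorem dcent_comm {Nb : Subgroup (MulAut V)} (hab : ∀ z ∈ Nb, ∀ z' ∈ Nb, z * z' = z' * z)
    {F1 F2 : V →* V} (h1 : F1 ∈ dcent Nb) (h2 : F2 ∈ dcent Nb) (v : V) :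
    F1 (F2 v) = F2 (F1 v) := by
  refine (h1 F2 ?_ v).symm
  intro z hz w
  exact (dcent_comm_aut h2 z (fun z' hz' => hab z hz z' hz') w).symm

theorem exists_dcent_of_mem_closure (Nb : Subgroup (MulAut V)) (w0 : V) :
    ∀ w ∈ Subgroup.closure {v : V | ∃ z ∈ Nb, v = z w0}, ∃ F ∈ dcent Nb, F w0 = w := by
  intro w hw
  induction hw using Subgroup.closure_induction with
  | mem x hx =>
    obtain ⟨z, hz, rfl⟩ := hx
    exact ⟨z.toMonoidHom, aut_mem_dcent hz, rfl⟩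
  | one => exact ⟨1, (dcent Nb).one_mem, rfl⟩
  | mul x y _ _ hx hy =>
    obtain ⟨F1, h1, rfl⟩ := hx
    obtain ⟨F2, h2, rfl⟩ := hy
    exact ⟨F1 * F2, (dcent Nb).mul_mem h1 h2, rfl⟩
  | inv x _ hx =>
    obtain ⟨F1, h1, rfl⟩ := hx
    exact ⟨F1⁻¹, (dcent Nb).inv_mem h1, rfl⟩

theorem closure_inv_of_gen (S : Set V) (g : MulAut V)
    (h : ∀ v ∈ S, g v ∈ Subgroup.closure S) : ∀ w ∈ Subgroup.closure S, g w ∈ Subgroup.closure S := by
  have : Subgroup.closure S ≤ (Subgroup.closure S).comap g.toMonoidHom :=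
    (Subgroup.closure_le _).2 (fun v hv => h v hv)
  intro w hw
  exact this hw

theorem card_ge_of_ne_bot [Finite V] {p : ℕ} [hp : Fact p.Prime] (hexp : ∀ v : V, v ^ p = 1)
    (W : Subgroup V) (hW : W ≠ ⊥) : p ≤ Nat.card ↥W := by
  obtain ⟨w, hw, hw1⟩ := exists_mem_ne_one W hW
  have ho : orderOf w = p := orderOf_eq_prime (hexp w) hw1
  have h1 : orderOf (⟨w, hw⟩ : ↥W) = p := by
    rw [← ho, ← Subgroup.orderOf_coe]
  have h2 : orderOf (⟨w, hw⟩ : ↥W) ∣ Nat.card ↥W := orderOf_dvd_natCard _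
  rw [h1] at h2
  exact Nat.le_of_dvd Nat.card_pos h2

end dc

variable {A : Type*} [Group A] [Finite A]

/-- Core case `C_V(U) = 1`. -/
theorem core_abelian (U E : Subgroup A) (hUE : U ⊔ E = ⊤)
    (hnormU : ∀ e ∈ E, ∀ u ∈ U, e * u * e⁻¹ ∈ U)
    (hfpf : ∀ e ∈ E, e ≠ 1 → ∀ u ∈ U, e * u = u * e → u = 1)
    (hEpr : (Nat.card ↥E).Prime) (p : ℕ) [hp : Fact p.Prime]
    (hcop : (Nat.card A).Coprime p) (V : Type v) [CommGroup V] [Finite V] (φ : A →* MulAut V)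
    (hexp : ∀ v : V, v ^ p = 1) (hfixU : fixG (U.map φ) = ⊥)
    (hfixE : Nat.card ↥(fixG (E.map φ)) ≤ p) :
    ∀ u ∈ U.map φ, ∀ u' ∈ U.map φ, u * u' = u' * u := by
  classical
  have hcard := modthm U E hUE hnormU hfpf p hcop _ V rfl φ hexp hfixU
  obtain ⟨r, hrdef⟩ : ∃ r, r = Nat.card ↥E := ⟨_, rfl⟩
  have hr : r.Prime := by rw [hrdef]; exact hEpr
  have hE : E ≠ ⊥ := by
    intro h
    rw [h, Subgroup.card_bot] at hEpr
    exact Nat.not_prime_one hEpr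
  obtain ⟨e0, he0E, he01⟩ := exists_mem_ne_one E hE
  have he0r : e0 ^ r = 1 := by
    have : (⟨e0, he0E⟩ : ↥E) ^ Nat.card ↥E = 1 := pow_card_eq_one'
    rw [hrdef]
    exact congrArg Subtype.val this
  -- the image of U
  obtain ⟨Ub, hUb⟩ : ∃ Ub : Subgroup (MulAut V), Ub = U.map φ := ⟨_, rfl⟩
  obtain ⟨Eb, hEb⟩ : ∃ Eb : Subgroup (MulAut V), Eb = E.map φ := ⟨_, rfl⟩
  rw [← hUb] at hfixU
  rw [← hEb] at hfixE hcard
  rw [← hUb]
  by_cases hUb1 : Ub = ⊥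
  · intro u hu u' hu'
    rw [hUb1, Subgroup.mem_bot] at hu hu'
    rw [hu, hu']
  have himg := img_fpf φ U E hnormU hfpf
  rw [← hUb] at himg
  have hEUb : ∀ e ∈ E, ∀ u ∈ Ub, φ e * u * (φ e)⁻¹ ∈ Ub := by
    intro e he u hu
    rw [hUb] at hu ⊢
    obtain ⟨u', hu', rfl⟩ := hu
    refine ⟨e * u' * e⁻¹, hnormU e he u' hu', ?_⟩
    rw [map_mul, map_mul, map_inv]
  have hEUb' : ∀ e ∈ E, ∀ u ∈ Ub, (φ e)⁻¹ * u * φ e ∈ Ub := by
    intro e he u hu
    have := hEUb e⁻¹ (E.inv_mem he) u hu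
    rw [map_inv, inv_inv] at this
    exact this
  -- Thompson
  have hψinv : ∀ u ∈ Ub, (MulAut.conj (φ e0)) u ∈ Ub := by
    intro u hu
    exact hEUb e0 he0E u hu
  obtain ⟨ψ, hψ⟩ : ∃ ψ : MulAut ↥Ub,
      ψ = Cfsg.Agent.helper23.resAut (MulAut.conj (φ e0)) Ub hψinv := ⟨_, rfl⟩
  have hψfpf : ∀ g : ↥Ub, ψ g = g → g = 1 := by
    intro g hg
    rw [hψ] at hg
    have h1 := congrArg Subtype.val hg
    rw [Cfsg.Agent.helper23.resAut_apply] at h1
    have h2 : φ e0 * (g : MulAut V) * (φ e0)⁻¹ = g := h1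
    exact Subtype.ext (himg e0 he0E he01 _ g.2 h2)
  have hψr : ψ ^ r = 1 := by
    rw [hψ]
    apply Cfsg.Agent.helper23.resAut_pow_eq_one
    rw [← map_pow, ← map_pow, he0r, map_one, map_one]
  have hnil : Group.IsNilpotent ↥Ub := Cfsg.Agent.helper23.fpf_prime_nilpotent ψ hψfpf r hr hψr
  haveI : Nontrivial ↥Ub := (Subgroup.nontrivial_iff_ne_bot Ub).2 hUb1
  have hcen : Subgroup.center ↥Ub ≠ ⊥ := by
    haveI := hnil
    exact Group.IsNilpotent.center_ne_bot ↥Ub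
  obtain ⟨Nb, hNbdef⟩ : ∃ Nb : Subgroup (MulAut V),
      Nb = (Subgroup.center ↥Ub).map Ub.subtype := ⟨_, rfl⟩
  have hNbmem : ∀ z : MulAut V, z ∈ Nb ↔ (z ∈ Ub ∧ ∀ u ∈ Ub, u * z = z * u) := by
    intro z
    rw [hNbdef, Subgroup.mem_map]
    constructor
    · rintro ⟨c, hc, rfl⟩
      refine ⟨c.2, fun u hu => ?_⟩
      have := Subgroup.mem_center_iff.1 hc ⟨u, hu⟩
      exact congrArg Subtype.val this
    · rintro ⟨hz, hcomm⟩
      refine ⟨⟨z, hz⟩, ?_, rfl⟩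
      rw [Subgroup.mem_center_iff]
      intro g
      exact Subtype.ext (hcomm g g.2)
  have hNbUb : Nb ≤ Ub := fun z hz => ((hNbmem z).1 hz).1
  have hNb1 : Nb ≠ ⊥ := by
    intro h
    apply hcen
    rw [hNbdef] at h
    exact (Subgroup.map_eq_bot_iff_of_injective _ Ub.subtype_injective).1 h
  have hNab : ∀ z ∈ Nb, ∀ z' ∈ Nb, z * z' = z' * z := by
    intro z hz z' hz'
    exact ((hNbmem z').1 hz').2 z (hNbUb hz)
  obtain ⟨ρ, hρ⟩ : ∃ ρ : ↥E →* MulAut V, ρ = φ.comp E.subtype := ⟨_, rfl⟩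
  have hρapp : ∀ e : ↥E, ρ e = φ (e : A) := by
    intro e; rw [hρ]; rfl
  have hρrange : ρ.range = Eb := by
    rw [hρ, MonoidHom.range_comp, Subgroup.range_subtype, hEb]
  have hnormNb : ∀ e : ↥E, cj (ρ e) Nb = Nb := by
    intro e
    apply Subgroup.eq_of_le_of_card_ge
    · intro z hz
      rw [mem_cj, hρapp] at hz
      obtain ⟨hz1, hz2⟩ := (hNbmem _).1 hz
      rw [hNbmem]
      have hzU : z ∈ Ub := by
        have := hEUb (e : A) e.2 _ hz1
        have e1 : φ (e : A) * ((φ (e : A))⁻¹ * z * φ (e : A)) * (φ (e : A))⁻¹ = z := by group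
        rw [e1] at this
        exact this
      refine ⟨hzU, ?_⟩
      intro u hu
      have h3 := hz2 _ (hEUb' (e : A) e.2 u hu)
      have e1 : u * z = φ (e : A) * (((φ (e : A))⁻¹ * u * φ (e : A)) *
          ((φ (e : A))⁻¹ * z * φ (e : A))) * (φ (e : A))⁻¹ := by group
      have e2 : z * u = φ (e : A) * (((φ (e : A))⁻¹ * z * φ (e : A)) *
          ((φ (e : A))⁻¹ * u * φ (e : A))) * (φ (e : A))⁻¹ := by group
      rw [e1, e2, h3]
    · rw [card_cj]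
  have hfpfNb : ∀ e : ↥E, e ≠ 1 → ∀ z ∈ Nb, ρ e * z * (ρ e)⁻¹ = z → z = 1 := by
    intro e he z hz hzz
    rw [hρapp] at hzz
    apply himg (e : A) e.2 _ z (hNbUb hz) hzz
    intro h
    exact he (Subtype.ext h)
  have hrange_dvd : ∀ Y : Subgroup (MulAut V), Y ≤ φ.range → (Nat.card ↥Y).Coprime p := by
    intro Y hY
    apply Nat.Coprime.coprime_dvd_left _ hcop
    exact (Subgroup.card_dvd_of_le hY).trans (Subgroup.card_range_dvd φ)
  have hUbrange : Ub ≤ φ.range := by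
    rw [hUb]
    rintro _ ⟨u, -, rfl⟩
    exact ⟨u, rfl⟩
  have hEbrange : Eb ≤ φ.range := by
    rw [hEb]
    rintro _ ⟨u, -, rfl⟩
    exact ⟨u, rfl⟩
  have hcopNE : (Nat.card ↥(Nb ⊔ ρ.range)).Coprime p := by
    apply hrange_dvd
    rw [hρrange]
    exact sup_le (hNbUb.trans hUbrange) hEbrange
  have hcopE : (Nat.card ↥E).Coprime p :=
    Nat.Coprime.coprime_dvd_left (Subgroup.card_subgroup_dvd_card E) hcop
  -- V1
  obtain ⟨V1, hV1def⟩ : ∃ V1 : Subgroup V, V1 = fixG Nb := ⟨_, rfl⟩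
  have hV1U : ∀ u ∈ Ub, ∀ w ∈ V1, u w ∈ V1 := by
    intro u hu w hw
    rw [hV1def] at hw ⊢
    intro z hz
    have hc := ((hNbmem z).1 hz).2 u hu
    calc z (u w) = (z * u) w := rfl
      _ = (u * z) w := by rw [hc]
      _ = u (z w) := rfl
      _ = u w := by rw [hw z hz]
  have hV1E : ∀ e ∈ Eb, ∀ w ∈ V1, e w ∈ V1 := by
    intro g hg w hw
    rw [hEb] at hg
    obtain ⟨e, he, rfl⟩ := hg
    rw [hV1def] at hw ⊢
    have := fix_cj (h := φ e) hw
    have h2 := hnormNb ⟨e, he⟩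
    rw [hρapp] at h2
    rw [h2] at this
    exact this
  have hV1top : V1 ≠ ⊤ := by
    intro h
    apply hNb1
    rw [eq_bot_iff]
    intro z hz
    rw [Subgroup.mem_bot]
    ext v
    have hv : v ∈ V1 := by rw [h]; exact Subgroup.mem_top v
    rw [hV1def] at hv
    exact hv z hz
  have hinvsup : ∀ g ∈ Ub ⊔ Eb, ∀ w ∈ V1, g w ∈ V1 := inv_of_sup V1 Ub Eb hV1U hV1E
  have hAimg : ∀ a : A, φ a ∈ Ub ⊔ Eb := by
    intro a
    have ha : a ∈ U ⊔ E := by rw [hUE]; exact Subgroup.mem_top a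
    have : φ a ∈ (U ⊔ E).map φ := ⟨a, ha, rfl⟩
    rw [Subgroup.map_sup, ← hUb, ← hEb] at this
    exact this
  have hcopX : (Nat.card ↥(Ub ⊔ Eb)).Coprime p := hrange_dvd _ (sup_le hUbrange hEbrange)
  obtain ⟨Wc, hWcinv, -, -, hV1Wc, hV1Wctop⟩ :=
    Cfsg.Agent.S3775.rel_maschke (p := p) (Ub ⊔ Eb).subtype hcopX ⊥ V1 ⊤
      (Cfsg.Agent.S3775.inv_bot _) (fun x w hw => hinvsup x.1 x.2 w hw)
      (Cfsg.Agent.S3775.inv_top _) bot_le le_top
      (fun y _ => by rw [Subgroup.mem_bot]; exact hexp y)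
  have hWcsup : ∀ g ∈ Ub ⊔ Eb, ∀ w ∈ Wc, g w ∈ Wc := fun g hg w hw => hWcinv ⟨g, hg⟩ w hw
  -- BC on Wc
  have hbc := bc p hexp ρ Nb hNab hnormNb hfpfNb hcopNE hcopE (Nat.card ↥Wc) Wc rfl
    (fun z hz w hw => hWcsup z (Subgroup.mem_sup_left (hNbUb hz)) w hw)
    (fun e w hw => by
      rw [hρapp]
      exact hWcsup _ (hAimg _) w hw)
    (by
      rw [eq_bot_iff, ← hV1Wc, hV1def]
      exact le_inf inf_le_right inf_le_left)
  rw [hρrange] at hbc
  -- modthm on V1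
  have hV1A : ∀ a : A, ∀ w ∈ V1, φ a w ∈ V1 := fun a w hw => hinvsup _ (hAimg a) w hw
  have hIH := modthm U E hUE hnormU hfpf p hcop _ ↥V1 rfl (resHom φ V1 hV1A)
    (fun v => by
      apply Subtype.ext
      rw [Subgroup.coe_pow, hexp]; rfl)
    (by
      rw [eq_bot_iff]
      intro w hw
      rw [Subgroup.mem_bot]
      apply Subtype.ext
      have : (w : V) ∈ fixG Ub := by
        rw [hUb]
        rintro g ⟨u, hu, rfl⟩
        have := hw _ ⟨u, hu, rfl⟩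
        exact congrArg Subtype.val this
      rw [hfixU, Subgroup.mem_bot] at this
      exact this)
  rw [card_fix_res, ← hEb] at hIH
  have hcardfix : Nat.card ↥(fixG Eb) =
      Nat.card ↥(V1 ⊓ fixG Eb) * Nat.card ↥(Wc ⊓ fixG Eb) := by
    have := card_fix_split Eb V1 Wc hV1Wc hV1E
      (fun z hz w hw => hWcsup z (Subgroup.mem_sup_right hz) w hw)
    rw [hV1Wctop, top_inf_eq] at this
    exact this
  -- V1 = ⊥
  have hV1bot : V1 = ⊥ := by
    by_contra hV1ne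
    have h1 : V1 ⊓ fixG Eb ≠ ⊥ := by
      intro h
      rw [h, Subgroup.card_bot, one_pow] at hIH
      exact hV1ne ((Subgroup.card_eq_one).1 hIH)
    have h2 := card_ge_of_ne_bot hexp _ h1
    have h3 : Nat.card ↥(Wc ⊓ fixG Eb) = 1 := by
      by_contra h
      have h4 : 2 ≤ Nat.card ↥(Wc ⊓ fixG Eb) := by
        have := Nat.card_pos (α := ↥(Wc ⊓ fixG Eb))
        omega
      have h5 : p * 2 ≤ Nat.card ↥(fixG Eb) := by
        rw [hcardfix]
        exact Nat.mul_le_mul h2 h4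
      have := hp.out.pos
      omega
    rw [h3, one_pow] at hbc
    have hWcbot : Wc = ⊥ := (Subgroup.card_eq_one).1 hbc
    rw [hWcbot, sup_bot_eq] at hV1Wctop
    exact hV1top hV1Wctop
  have hfixNb : fixG Nb = ⊥ := by rw [← hV1def]; exact hV1bot
  -- the case of trivial fixed points of E
  by_cases hfE : fixG Eb = ⊥
  · rw [hfE, Subgroup.card_bot, one_pow] at hcard
    haveI : Subsingleton V := (Nat.card_eq_one_iff_unique.1 hcard).1
    intro u _ u' _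
    ext v
    exact Subsingleton.elim _ _
  obtain ⟨w0, hw0, hw01⟩ := exists_mem_ne_one _ hfE
  obtain ⟨W1, hW1def⟩ : ∃ W1 : Subgroup V,
      W1 = Subgroup.closure {v : V | ∃ z ∈ Nb, v = z w0} := ⟨_, rfl⟩
  have hw0W1 : w0 ∈ W1 := by
    rw [hW1def]
    exact Subgroup.subset_closure ⟨1, Nb.one_mem, rfl⟩
  have hW1N : ∀ z ∈ Nb, ∀ w ∈ W1, z w ∈ W1 := by
    intro z hz
    rw [hW1def]
    apply closure_inv_of_gen
    rintro _ ⟨z', hz', rfl⟩
    exact Subgroup.subset_closure ⟨z * z', Nb.mul_mem hz hz', rfl⟩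
  have hW1E : ∀ e : ↥E, ∀ w ∈ W1, ρ e w ∈ W1 := by
    intro e
    rw [hW1def]
    apply closure_inv_of_gen
    rintro _ ⟨z', hz', rfl⟩
    apply Subgroup.subset_closure
    refine ⟨ρ e * z' * (ρ e)⁻¹, ?_, ?_⟩
    · have := conj_mem_cj (h := ρ e) hz'
      rw [hnormNb] at this
      exact this
    · have hfix : ρ e w0 = w0 := by
        apply hw0
        rw [← hρrange]
        exact ⟨e, rfl⟩
      calc ρ e (z' w0) = (ρ e * z' * (ρ e)⁻¹) (ρ e w0) := by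
            simp [MulAut.mul_apply]
        _ = (ρ e * z' * (ρ e)⁻¹) w0 := by rw [hfix]
  have hbc1 := bc p hexp ρ Nb hNab hnormNb hfpfNb hcopNE hcopE (Nat.card ↥W1) W1 rfl
    hW1N hW1E (by rw [hfixNb, inf_bot_eq])
  rw [hρrange] at hbc1
  have hW1fix : Nat.card ↥(W1 ⊓ fixG Eb) = Nat.card ↥(fixG Eb) := by
    apply le_antisymm
    · exact Subgroup.card_le_of_le inf_le_right
    · have h1 : W1 ⊓ fixG Eb ≠ ⊥ := by
        intro h
        have : w0 ∈ W1 ⊓ fixG Eb := ⟨hw0W1, hw0⟩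
        rw [h, Subgroup.mem_bot] at this
        exact hw01 this
      exact hfixE.trans (card_ge_of_ne_bot hexp _ h1)
  have hW1top : W1 = ⊤ := by
    apply (Subgroup.card_eq_iff_eq_top W1).1
    rw [hbc1, hW1fix, ← hcard]
  -- conclusion
  intro u hu u' hu'
  have hucomm : ∀ z ∈ Nb, u * z = z * u := fun z hz => ((hNbmem z).1 hz).2 u hu
  have hu'comm : ∀ z ∈ Nb, u' * z = z * u' := fun z hz => ((hNbmem z).1 hz).2 u' hu'
  have hall : ∀ w : V, ∃ F ∈ dcent Nb, F w0 = w := by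
    intro w
    apply exists_dcent_of_mem_closure Nb w0
    rw [← hW1def, hW1top]
    exact Subgroup.mem_top w
  obtain ⟨F, hF, hFu⟩ := hall (u w0)
  obtain ⟨F', hF', hFu'⟩ := hall (u' w0)
  ext w
  obtain ⟨G, hG, rfl⟩ := hall w
  calc (u * u') (G w0) = u (u' (G w0)) := rfl
    _ = u (G (u' w0)) := by rw [dcent_comm_aut hG u' hu'comm]
    _ = G (u (u' w0)) := by rw [dcent_comm_aut hG u hucomm]
    _ = G (u (F' w0)) := by rw [hFu']
    _ = G (F' (u w0)) := by rw [dcent_comm_aut hF' u hucomm]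
    _ = G (F' (F w0)) := by rw [hFu]
    _ = G (F (F' w0)) := by rw [dcent_comm hNab hF' hF]
    _ = G (F (u' w0)) := by rw [hFu']
    _ = G (u' (F w0)) := by rw [dcent_comm_aut hF u' hu'comm]
    _ = G (u' (u w0)) := by rw [hFu]
    _ = u' (G (u w0)) := by rw [dcent_comm_aut hG u' hu'comm]
    _ = u' (u (G w0)) := by rw [dcent_comm_aut hG u hucomm]
    _ = (u' * u) (G w0) := rfl

/-- General case. -/
theorem frob_abelian (U E : Subgroup A) (hUE : U ⊔ E = ⊤)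
    (hnormU : ∀ e ∈ E, ∀ u ∈ U, e * u * e⁻¹ ∈ U)
    (hfpf : ∀ e ∈ E, e ≠ 1 → ∀ u ∈ U, e * u = u * e → u = 1)
    (hEpr : (Nat.card ↥E).Prime) (p : ℕ) [hp : Fact p.Prime]
    (hcop : (Nat.card A).Coprime p) (V : Type v) [CommGroup V] [Finite V] (φ : A →* MulAut V)
    (hexp : ∀ v : V, v ^ p = 1)
    (hfixE : Nat.card ↥(fixG (E.map φ)) ≤ p) :
    ∀ a ∈ U, ∀ b ∈ U, φ a * φ b = φ b * φ a := by
  classical
  obtain ⟨Ub, hUb⟩ : ∃ Ub : Subgroup (MulAut V), Ub = U.map φ := ⟨_, rfl⟩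
  obtain ⟨Eb, hEb⟩ : ∃ Eb : Subgroup (MulAut V), Eb = E.map φ := ⟨_, rfl⟩
  rw [← hEb] at hfixE
  have hEUb : ∀ e ∈ E, ∀ u ∈ Ub, φ e * u * (φ e)⁻¹ ∈ Ub := by
    intro e he u hu
    rw [hUb] at hu ⊢
    obtain ⟨u', hu', rfl⟩ := hu
    refine ⟨e * u' * e⁻¹, hnormU e he u' hu', ?_⟩
    rw [map_mul, map_mul, map_inv]
  have hcjUb : ∀ e ∈ E, cj (φ e) Ub = Ub := by
    intro e he
    apply Subgroup.eq_of_le_of_card_ge
    · intro z hz
      rw [mem_cj] at hz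
      have := hEUb e he _ hz
      have e1 : φ e * ((φ e)⁻¹ * z * φ e) * (φ e)⁻¹ = z := by group
      rw [e1] at this
      exact this
    · rw [card_cj]
  obtain ⟨VU, hVUdef⟩ : ∃ VU : Subgroup V, VU = fixG Ub := ⟨_, rfl⟩
  have hVUU : ∀ u ∈ Ub, ∀ w ∈ VU, u w ∈ VU := by
    intro u hu w hw
    rw [hVUdef] at hw
    rw [hw u hu, hVUdef]
    exact hw
  have hVUE : ∀ e ∈ Eb, ∀ w ∈ VU, e w ∈ VU := by
    intro g hg w hw
    rw [hEb] at hg
    obtain ⟨e, he, rfl⟩ := hg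
    rw [hVUdef] at hw ⊢
    have := fix_cj (h := φ e) hw
    rw [hcjUb e he] at this
    exact this
  have hrange_dvd : ∀ Y : Subgroup (MulAut V), Y ≤ φ.range → (Nat.card ↥Y).Coprime p := by
    intro Y hY
    apply Nat.Coprime.coprime_dvd_left _ hcop
    exact (Subgroup.card_dvd_of_le hY).trans (Subgroup.card_range_dvd φ)
  have hUbrange : Ub ≤ φ.range := by
    rw [hUb]
    rintro _ ⟨u, -, rfl⟩
    exact ⟨u, rfl⟩
  have hEbrange : Eb ≤ φ.range := by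
    rw [hEb]
    rintro _ ⟨u, -, rfl⟩
    exact ⟨u, rfl⟩
  have hinvsup : ∀ g ∈ Ub ⊔ Eb, ∀ w ∈ VU, g w ∈ VU := inv_of_sup VU Ub Eb hVUU hVUE
  have hAimg : ∀ a : A, φ a ∈ Ub ⊔ Eb := by
    intro a
    have ha : a ∈ U ⊔ E := by rw [hUE]; exact Subgroup.mem_top a
    have : φ a ∈ (U ⊔ E).map φ := ⟨a, ha, rfl⟩
    rw [Subgroup.map_sup, ← hUb, ← hEb] at this
    exact this
  have hcopX : (Nat.card ↥(Ub ⊔ Eb)).Coprime p := hrange_dvd _ (sup_le hUbrange hEbrange)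
  obtain ⟨Wc, hWcinv, -, -, hVUWc, hVUWctop⟩ :=
    Cfsg.Agent.S3775.rel_maschke (p := p) (Ub ⊔ Eb).subtype hcopX ⊥ VU ⊤
      (Cfsg.Agent.S3775.inv_bot _) (fun x w hw => hinvsup x.1 x.2 w hw)
      (Cfsg.Agent.S3775.inv_top _) bot_le le_top
      (fun y _ => by rw [Subgroup.mem_bot]; exact hexp y)
  have hWcsup : ∀ g ∈ Ub ⊔ Eb, ∀ w ∈ Wc, g w ∈ Wc := fun g hg w hw => hWcinv ⟨g, hg⟩ w hw
  have hWcA : ∀ a : A, ∀ w ∈ Wc, φ a w ∈ Wc := fun a w hw => hWcsup _ (hAimg a) w hw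
  have hcore := core_abelian U E hUE hnormU hfpf hEpr p hcop ↥Wc (resHom φ Wc hWcA)
    (fun v => by
      apply Subtype.ext
      rw [Subgroup.coe_pow, hexp]; rfl)
    (by
      rw [eq_bot_iff]
      intro w hw
      rw [Subgroup.mem_bot]
      apply Subtype.ext
      have h1 : (w : V) ∈ fixG Ub := by
        rw [hUb]
        rintro g ⟨u, hu, rfl⟩
        have := hw _ ⟨u, hu, rfl⟩
        exact congrArg Subtype.val this
      have h2 : (w : V) ∈ VU ⊓ Wc := ⟨by rw [hVUdef]; exact h1, w.2⟩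
      rw [hVUWc, Subgroup.mem_bot] at h2
      exact h2)
    (by
      rw [card_fix_res, ← hEb]
      exact (Subgroup.card_le_of_le inf_le_right).trans hfixE)
  intro a ha b hb
  have hab := hcore _ ⟨a, ha, rfl⟩ _ ⟨b, hb, rfl⟩
  ext v
  have hv : v ∈ VU ⊔ Wc := by rw [hVUWctop]; exact Subgroup.mem_top v
  obtain ⟨y, hy, z, hz, rfl⟩ := Subgroup.mem_sup.1 hv
  have hy' : ∀ c ∈ U, φ c y = y := by
    intro c hc
    rw [hVUdef] at hy
    exact hy _ (by rw [hUb]; exact ⟨c, hc, rfl⟩)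
  have hzz : (φ a * φ b) z = (φ b * φ a) z := by
    have := congrArg (fun f : MulAut ↥Wc => ((f ⟨z, hz⟩ : ↥Wc) : V)) hab
    exact this
  rw [map_mul, map_mul, hzz]
  congr 1
  show φ a (φ b y) = φ b (φ a y)
  rw [hy' b hb, hy' a ha, hy' b hb]

end Cfsg.Agent.helper23.Frob
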