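import Mathlib
import Cfsg.Agent.Lib_helper23_Frob6
import Cfsg.Agent.Lib_helper23_Frob7

/-! Frobenius group `KR`, `|R|` prime, acting coprimely on a solvable group `M` with `C_M(R)`
cyclic: `K'` centralizes `M` (helper23). -/

set_option autoImplicit false
set_option maxHeartbeats 1600000

namespace Cfsg.Agent.helper23.Frob

universe u v

/-- the fixed points on a section are the image of the fixed points. -/
theorem lift_range {X : Type u} [Group X] [Finite X] (K A : Subgroup X)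
    (hAK : ∀ a ∈ A, ∀ k ∈ K, a * k * a⁻¹ ∈ K)
    (hcop : (Nat.card ↥K).Coprime (Nat.card ↥A)) (hsolv : Group.IsSolvable ↥K)
    {V : Type v} [CommGroup V] (π : ↥K →* V) (hπ : Function.Surjective π)
    (φ : ↥A →* MulAut V)
    (hφ : ∀ (a : ↥A) (k : ↥K),
      φ a (π k) = π ⟨(a : X) * k * (a : X)⁻¹, hAK a a.2 k k.2⟩)
    (M : Subgroup X) (hM : ∀ x, x ∈ M ↔ ∃ h : x ∈ K, π ⟨x, h⟩ = 1)
    (B : Subgroup X) (hBA : B ≤ A) :
    ∃ f : ↥(K ⊓ Subgroup.centralizer (B : Set X)) →* V,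
      f.range = fixG ((B.subgroupOf A).map φ) := by
  classical
  have hMK : M ≤ K := fun x hx => by
    obtain ⟨h, -⟩ := (hM x).1 hx
    exact h
  obtain ⟨f, hf⟩ : ∃ f : ↥(K ⊓ Subgroup.centralizer (B : Set X)) →* V,
      f = π.comp (Subgroup.inclusion inf_le_left) := ⟨_, rfl⟩
  have hfapp : ∀ c : ↥(K ⊓ Subgroup.centralizer (B : Set X)), f c = π ⟨c.1, c.2.1⟩ := by
    intro c; rw [hf]; rfl
  have hKM : K ≤ Subgroup.normalizer (M : Set X) := by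
    apply le_normalizer_of_conj
    intro k hk m hm
    obtain ⟨h, h1⟩ := (hM m).1 hm
    rw [hM]
    refine ⟨K.mul_mem (K.mul_mem hk h) (K.inv_mem hk), ?_⟩
    have e : (⟨k * m * k⁻¹, K.mul_mem (K.mul_mem hk h) (K.inv_mem hk)⟩ : ↥K) =
        ⟨k, hk⟩ * ⟨m, h⟩ * (⟨k, hk⟩ : ↥K)⁻¹ := rfl
    rw [e, map_mul, map_mul, h1, mul_one, map_inv, mul_inv_cancel]
  have hBM : B ≤ Subgroup.normalizer (M : Set X) := by
    apply le_normalizer_of_conj
    intro b hb m hm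
    obtain ⟨h, h1⟩ := (hM m).1 hm
    rw [hM]
    refine ⟨hAK b (hBA hb) m h, ?_⟩
    have := hφ ⟨b, hBA hb⟩ ⟨m, h⟩
    rw [h1, map_one] at this
    exact this.symm
  have hcopB : (Nat.card ↥B).Coprime (Nat.card ↥K) :=
    (Nat.Coprime.coprime_dvd_right (Subgroup.card_dvd_of_le hBA) hcop).symm
  refine ⟨f, ?_⟩
  apply le_antisymm
  · rintro _ ⟨c, rfl⟩
    rintro g ⟨b, hb, rfl⟩
    rw [hfapp, hφ]
    congr 1
    apply Subtype.ext
    have hbB : (b : X) ∈ B := hb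
    have hcc : (c : X) ∈ Subgroup.centralizer (B : Set X) := c.2.2
    rw [Subgroup.mem_centralizer_iff] at hcc
    have h1 := hcc (b : X) hbB
    show (b : X) * (c : X) * (b : X)⁻¹ = (c : X)
    rw [h1, mul_inv_cancel_right]
  · intro v hv
    obtain ⟨k, rfl⟩ := hπ v
    have hfix : ∀ b ∈ B, b * (k : X) * b⁻¹ * (k : X)⁻¹ ∈ M := by
      intro b hb
      have h1 := hv (φ ⟨b, hBA hb⟩) ⟨⟨b, hBA hb⟩, hb, rfl⟩
      rw [hφ] at h1
      rw [hM]
      refine ⟨K.mul_mem (hAK b (hBA hb) k k.2) (K.inv_mem k.2), ?_⟩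
      have e : (⟨b * (k : X) * b⁻¹ * (k : X)⁻¹,
          K.mul_mem (hAK b (hBA hb) k k.2) (K.inv_mem k.2)⟩ : ↥K) =
          ⟨b * (k : X) * b⁻¹, hAK b (hBA hb) k k.2⟩ * k⁻¹ := rfl
      rw [e, map_mul, h1, map_inv, mul_inv_cancel]
    obtain ⟨c, hc, hkc⟩ := Cfsg.Agent.lead.coprime_fixed_coset B K
      (le_normalizer_of_conj B K (fun b hb => hAK b (hBA hb)))
      hcopB (Or.inr hsolv) M hMK hKM hBM (k : X) k.2 hfix
    refine ⟨⟨c, hc⟩, ?_⟩
    rw [hfapp]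
    obtain ⟨h, h1⟩ := (hM _).1 hkc
    have e : (⟨(k : X)⁻¹ * c, h⟩ : ↥K) = k⁻¹ * ⟨c, hc.1⟩ := rfl
    rw [e, map_mul, map_inv, inv_mul_eq_one] at h1
    exact h1.symm

/-- a coprime element stabilizing a chain `1 ≤ D ≤ M` centralizes `M`. -/
theorem chain_trivial {X : Type*} [Group X] (M D : Subgroup X) [Finite M] (c : X)
    (hDM : D ≤ M) (hcD : ∀ d ∈ D, c * d = d * c)
    (hcM : ∀ m ∈ M, c * m * c⁻¹ * m⁻¹ ∈ D) (hcop : (orderOf c).Coprime (Nat.card ↥M)) :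
    ∀ m ∈ M, c * m = m * c := by
  intro m hm
  obtain ⟨n, hn⟩ : ∃ n : X, n = c * m * c⁻¹ * m⁻¹ := ⟨_, rfl⟩
  have hnD : n ∈ D := by rw [hn]; exact hcM m hm
  have hcn : ∀ j : ℕ, c * n ^ j = n ^ j * c := fun j => hcD _ (D.pow_mem hnD j)
  have hconj : c * m * c⁻¹ = n * m := by rw [hn]; group
  have hpow : ∀ j : ℕ, c ^ j * m * (c ^ j)⁻¹ = n ^ j * m := by
    intro j
    induction j with
    | zero => simp
    | succ j ih =>
      have e1 : c ^ (j + 1) * m * (c ^ (j + 1))⁻¹ = c * (c ^ j * m * (c ^ j)⁻¹) * c⁻¹ := by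
        rw [pow_succ']
        group
      rw [e1, ih]
      have e2 : c * (n ^ j * m) * c⁻¹ = (c * n ^ j) * c⁻¹ * (c * m * c⁻¹) := by group
      rw [e2, hcn j, hconj, pow_succ]
      group
  have h1 := hpow (orderOf c)
  rw [pow_orderOf_eq_one, one_mul, inv_one, mul_one] at h1
  have h2 : n ^ orderOf c = 1 := by
    have := congrArg (· * m⁻¹) h1
    simp only [mul_inv_cancel, mul_inv_cancel_right] at this
    exact this.symm
  have h3 : n ^ Nat.card ↥M = 1 := by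
    have : (⟨n, hDM hnD⟩ : ↥M) ^ Nat.card ↥M = 1 := pow_card_eq_one'
    exact congrArg Subtype.val this
  have h4 : orderOf n ∣ Nat.gcd (orderOf c) (Nat.card ↥M) :=
    Nat.dvd_gcd (orderOf_dvd_of_pow_eq_one h2) (orderOf_dvd_of_pow_eq_one h3)
  rw [hcop] at h4
  have h5 : n = 1 := orderOf_eq_one_iff.1 (Nat.dvd_one.1 h4)
  rw [h5, one_mul] at hconj
  calc c * m = (c * m * c⁻¹) * c := by group
    _ = m * c := by rw [hconj]

theorem card_le_of_cyclic_exp {C : Type*} [Group C] [Finite C] [IsCyclic C] {p : ℕ} (hp : 0 < p)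
    (hexp : ∀ c : C, c ^ p = 1) : Nat.card C ≤ p := by
  obtain ⟨g, hg⟩ := IsCyclic.exists_ofOrder_eq_natCard (α := C)
  rw [← hg]
  exact Nat.le_of_dvd hp (orderOf_dvd_of_pow_eq_one (hexp g))

/-- the inductive step for an abstract section module. -/
theorem step_comm {X : Type u} [Group X] [Finite X] (K R : Subgroup X)
    (hRK : ∀ r ∈ R, ∀ k ∈ K, r * k * r⁻¹ ∈ K)
    (hfpf : ∀ r ∈ R, r ≠ 1 → ∀ k ∈ K, r * k = k * r → k = 1)
    (hRpr : (Nat.card ↥R).Prime)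
    (M D : Subgroup X)
    (hAM : ∀ a ∈ K ⊔ R, ∀ m ∈ M, a * m * a⁻¹ ∈ M)
    (hcop : (Nat.card ↥M).Coprime (Nat.card ↥(K ⊔ R))) (hsolv : Group.IsSolvable ↥M)
    (p : ℕ) [hp : Fact p.Prime] (hpM : p ∣ Nat.card ↥M)
    {V : Type v} [CommGroup V] [Finite V] (π : ↥M →* V) (hπ : Function.Surjective π)
    (hexp : ∀ v : V, v ^ p = 1)
    (φ : ↥(K ⊔ R) →* MulAut V)
    (hφ : ∀ (a : ↥(K ⊔ R)) (m : ↥M),
      φ a (π m) = π ⟨(a : X) * m * (a : X)⁻¹, hAM a a.2 m m.2⟩)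
    (hD : ∀ x, x ∈ D ↔ ∃ h : x ∈ M, π ⟨x, h⟩ = 1)
    (hcyc : IsCyclic ↥(M ⊓ Subgroup.centralizer (R : Set X)))
    (hIH : ∀ a ∈ K, ∀ b ∈ K, ∀ d ∈ D,
      (a * b * a⁻¹ * b⁻¹) * d = d * (a * b * a⁻¹ * b⁻¹)) :
    ∀ a ∈ K, ∀ b ∈ K, ∀ m ∈ M, (a * b * a⁻¹ * b⁻¹) * m = m * (a * b * a⁻¹ * b⁻¹) := by
  classical
  have hKA : K ≤ K ⊔ R := le_sup_left
  have hRA : R ≤ K ⊔ R := le_sup_right
  have hDM : D ≤ M := fun x hx => by
    obtain ⟨h, -⟩ := (hD x).1 hx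
    exact h
  have hcopp : (Nat.card ↥(K ⊔ R)).Coprime p := (Nat.Coprime.coprime_dvd_left hpM hcop).symm
  have hsup : K.subgroupOf (K ⊔ R) ⊔ R.subgroupOf (K ⊔ R) = ⊤ := by
    rw [← Subgroup.subgroupOf_sup hKA hRA, Subgroup.subgroupOf_self]
  have hcR : Nat.card ↥(R.subgroupOf (K ⊔ R)) = Nat.card ↥R :=
    Nat.card_congr (Subgroup.subgroupOfEquivOfLe hRA).toEquiv
  -- fixed points of R on V
  obtain ⟨f, hf⟩ := lift_range M (K ⊔ R) hAM hcop hsolv π hπ φ hφ D hD R hRA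
  have hfix : Nat.card ↥(fixG ((R.subgroupOf (K ⊔ R)).map φ)) ≤ p := by
    rw [← hf]
    haveI : IsCyclic ↥f.range :=
      isCyclic_of_surjective f.rangeRestrict f.rangeRestrict_surjective
    apply card_le_of_cyclic_exp hp.out.pos
    intro c
    apply Subtype.ext
    rw [Subgroup.coe_pow, hexp]
    rfl
  have hab := frob_abelian (K.subgroupOf (K ⊔ R)) (R.subgroupOf (K ⊔ R)) hsup
    (fun e he u hu => hRK (e : X) he (u : X) hu)
    (fun e he he1 u hu hc => Subtype.ext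
      (hfpf (e : X) he (fun h => he1 (Subtype.ext h)) (u : X) hu (congrArg Subtype.val hc)))
    (by rw [hcR]; exact hRpr) p hcopp V φ hexp hfix
  intro a ha b hb
  obtain ⟨c, hcdef⟩ : ∃ c : X, c = a * b * a⁻¹ * b⁻¹ := ⟨_, rfl⟩
  rw [← hcdef]
  have hcK : c ∈ K := by
    rw [hcdef]
    exact K.mul_mem (K.mul_mem (K.mul_mem ha hb) (K.inv_mem ha)) (K.inv_mem hb)
  have hcA : c ∈ K ⊔ R := hKA hcK
  have hφc : φ ⟨c, hcA⟩ = 1 := by
    have e : (⟨c, hcA⟩ : ↥(K ⊔ R)) =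
        ⟨a, hKA ha⟩ * ⟨b, hKA hb⟩ * (⟨a, hKA ha⟩)⁻¹ * (⟨b, hKA hb⟩)⁻¹ := by
      apply Subtype.ext
      show c = a * b * a⁻¹ * b⁻¹
      exact hcdef
    have h1 := hab ⟨a, hKA ha⟩ ha ⟨b, hKA hb⟩ hb
    rw [e, map_mul, map_mul, map_mul, map_inv, map_inv, h1]
    group
  apply chain_trivial M D c hDM
  · intro d hd
    rw [hcdef]
    exact hIH a ha b hb d hd
  · intro m hm
    rw [hD]
    refine ⟨M.mul_mem (hAM c hcA m hm) (M.inv_mem hm), ?_⟩
    have h1 := hφ ⟨c, hcA⟩ ⟨m, hm⟩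
    rw [hφc, MulAut.one_apply] at h1
    have e : (⟨c * m * c⁻¹ * m⁻¹, M.mul_mem (hAM c hcA m hm) (M.inv_mem hm)⟩ : ↥M) =
        ⟨c * m * c⁻¹, hAM c hcA m hm⟩ * (⟨m, hm⟩ : ↥M)⁻¹ := rfl
    rw [e, map_mul, ← h1, map_inv, mul_inv_cancel]
  · have h1 : orderOf c ∣ Nat.card ↥(K ⊔ R) := by
      have := orderOf_dvd_natCard (⟨c, hcA⟩ : ↥(K ⊔ R))
      rw [← Subgroup.orderOf_coe] at this
      exact this
    exact (Nat.Coprime.coprime_dvd_right h1 hcop).symm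

/-- **`K'` centralizes `M`** when `C_M(R)` is cyclic. -/
theorem frob_comm_centralizes {X : Type u} [Group X] [Finite X] (K R : Subgroup X)
    (hRK : ∀ r ∈ R, ∀ k ∈ K, r * k * r⁻¹ ∈ K)
    (hfpf : ∀ r ∈ R, r ≠ 1 → ∀ k ∈ K, r * k = k * r → k = 1)
    (hRpr : (Nat.card ↥R).Prime) :
    ∀ n : ℕ, ∀ M : Subgroup X, Nat.card ↥M = n →
      (∀ x ∈ K ⊔ R, ∀ m ∈ M, x * m * x⁻¹ ∈ M) → Group.IsSolvable ↥M →
      (Nat.card ↥M).Coprime (Nat.card ↥(K ⊔ R)) →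
      IsCyclic ↥(M ⊓ Subgroup.centralizer (R : Set X)) →
      ∀ a ∈ K, ∀ b ∈ K, ∀ m ∈ M, (a * b * a⁻¹ * b⁻¹) * m = m * (a * b * a⁻¹ * b⁻¹) := by
  intro n
  induction n using Nat.strong_induction_on with
  | _ n ih =>
  intro M hMn hAM hsolv hcop hcyc
  classical
  by_cases hM : M = ⊥
  · intro a _ b _ m hm
    rw [hM, Subgroup.mem_bot] at hm
    rw [hm, mul_one, one_mul]
  haveI : Nontrivial ↥M := (Subgroup.nontrivial_iff_ne_bot M).2 hM
  haveI := hsolv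
  have hlt := Group.IsSolvable.commutator_lt_top_of_nontrivial ↥M
  have hab1 : Nat.card (Abelianization ↥M) ≠ 1 := by
    intro h
    have h1 : (commutator ↥M).index = 1 := h
    rw [Subgroup.index_eq_one] at h1
    exact hlt.ne h1
  obtain ⟨p, hp, hpd⟩ := Nat.exists_prime_and_dvd hab1
  haveI : Fact p.Prime := ⟨hp⟩
  have hpM : p ∣ Nat.card ↥M := hpd.trans (Subgroup.index_dvd_card (commutator ↥M))
  have hNtop : Mp ↥M p ≠ ⊤ := Mp_ne_top p hpd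
  obtain ⟨D, hDdef⟩ : ∃ D : Subgroup X, D = (Mp ↥M p).map M.subtype := ⟨_, rfl⟩
  have hDM : D ≤ M := by
    rw [hDdef]
    rintro _ ⟨k, -, rfl⟩
    exact k.2
  have hDmem : ∀ x, x ∈ D ↔ ∃ h : x ∈ M, (QuotientGroup.mk' (Mp ↥M p)) ⟨x, h⟩ = 1 := by
    intro x
    rw [hDdef, Subgroup.mem_map]
    constructor
    · rintro ⟨k, hk, rfl⟩
      exact ⟨k.2, (QuotientGroup.eq_one_iff _).2 hk⟩
    · rintro ⟨h, h1⟩
      exact ⟨⟨x, h⟩, (QuotientGroup.eq_one_iff _).1 h1, rfl⟩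
  have hDcard : Nat.card ↥D = Nat.card ↥(Mp ↥M p) := by
    rw [hDdef]
    exact Subgroup.card_map_of_injective M.subtype_injective
  have hDlt : Nat.card ↥D < n := by
    rw [hDcard, ← hMn]
    apply lt_of_le_of_ne (Subgroup.card_le_card_group _)
    intro h
    exact hNtop ((Subgroup.card_eq_iff_eq_top _).1 h)
  have hAD : ∀ x ∈ K ⊔ R, ∀ m ∈ D, x * m * x⁻¹ ∈ D := by
    intro x hx m hm
    rw [hDdef] at hm ⊢
    obtain ⟨k, hk, rfl⟩ := hm
    exact ⟨conjRes M (K ⊔ R) hAM ⟨x, hx⟩ k, Mp_invariant p _ k hk, rfl⟩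
  have hDcyc : IsCyclic ↥(D ⊓ Subgroup.centralizer (R : Set X)) := by
    haveI := hcyc
    exact isCyclic_of_injective
      (Subgroup.inclusion (inf_le_inf_right _ hDM))
      (Subgroup.inclusion_injective _)
  have hIH := ih (Nat.card ↥D) hDlt D rfl hAD (Cfsg.Agent.lead.solvable_of_le hDM hsolv)
    (Nat.Coprime.coprime_dvd_left (Subgroup.card_dvd_of_le hDM) hcop) hDcyc
  exact @step_comm X _ _ K R hRK hfpf hRpr M D hAM hcop hsolv p _ hpM (↥M ⧸ Mp ↥M p)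
    (secCommGroup ↥M p) inferInstance (QuotientGroup.mk' (Mp ↥M p))
    (QuotientGroup.mk'_surjective _) (sec_exp p)
    (secHom M (K ⊔ R) hAM p) (fun a k => secHom_mk M (K ⊔ R) hAM p a k) hDmem hcyc hIH

theorem centralizer_zpowers_eq {X : Type*} [Group X] (x : X) :
    Subgroup.centralizer ((Subgroup.zpowers x : Subgroup X) : Set X) =
      Subgroup.centralizer ({x} : Set X) := by
  apply le_antisymm
  · apply Subgroup.centralizer_le
    intro y hy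
    rw [Set.mem_singleton_iff] at hy
    rw [hy]
    exact Subgroup.mem_zpowers x
  · intro m hm
    rw [Subgroup.mem_centralizer_iff] at hm ⊢
    intro y hy
    have hxm : x * m = m * x := hm x rfl
    obtain ⟨k, rfl⟩ := Subgroup.mem_zpowers_iff.1 hy
    have hc : Commute x m := hxm
    exact (hc.zpow_left k).eq

/-- `|R|` is prime and `|M| = |C_M(R)|^|R|`. -/
theorem frob_prime_card {X : Type u} [Group X] [Finite X] (K R M : Subgroup X)
    (hRK : ∀ r ∈ R, ∀ k ∈ K, r * k * r⁻¹ ∈ K)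
    (hfpf : ∀ r ∈ R, r ≠ 1 → ∀ k ∈ K, r * k = k * r → k = 1)
    (hR1 : R ≠ ⊥) (hM1 : M ≠ ⊥)
    (hAM : ∀ x ∈ K ⊔ R, ∀ m ∈ M, x * m * x⁻¹ ∈ M) (hsolv : Group.IsSolvable ↥M)
    (hcop : (Nat.card ↥M).Coprime (Nat.card ↥(K ⊔ R)))
    (hCK : M ⊓ Subgroup.centralizer (K : Set X) = ⊥)
    (hpr : ∀ x ∈ R, x ≠ 1 → M ⊓ Subgroup.centralizer ({x} : Set X) =
      M ⊓ Subgroup.centralizer (R : Set X)) :
    (Nat.card ↥R).Prime ∧
      Nat.card ↥M = Nat.card ↥(M ⊓ Subgroup.centralizer (R : Set X)) ^ Nat.card ↥R := by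
  classical
  have key : ∀ E : Subgroup X, E ≤ R →
      Nat.card ↥M = Nat.card ↥(M ⊓ Subgroup.centralizer (E : Set X)) ^ Nat.card ↥E := by
    intro E hER
    have hle : K ⊔ E ≤ K ⊔ R := sup_le_sup_left hER K
    have h := frob_formula K E (fun e he => hRK e (hER he))
      (fun e he => hfpf e (hER he)) _ M rfl (fun x hx => hAM x (hle hx)) hsolv
      (Nat.Coprime.coprime_dvd_right (Subgroup.card_dvd_of_le hle) hcop)
    have h1 : M ⊓ Subgroup.centralizer ((K ⊔ E : Subgroup X) : Set X) = ⊥ := by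
      rw [eq_bot_iff, ← hCK]
      exact inf_le_inf_left _ (Subgroup.centralizer_le (by
        intro x hx
        exact (le_sup_left : K ≤ K ⊔ E) hx))
    rw [h1, hCK, Subgroup.card_bot, one_pow, one_mul, mul_one] at h
    exact h
  have hRcard : Nat.card ↥R ≠ 1 := fun h => hR1 ((Subgroup.card_eq_one).1 h)
  obtain ⟨q, hq, hqd⟩ := Nat.exists_prime_and_dvd hRcard
  haveI : Fact q.Prime := ⟨hq⟩
  obtain ⟨x', hx'⟩ := exists_prime_orderOf_dvd_card' (G := ↥R) q hqd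
  obtain ⟨x, hxdef⟩ : ∃ x : X, x = (x' : X) := ⟨_, rfl⟩
  have hxR : x ∈ R := by rw [hxdef]; exact x'.2
  have hxo : orderOf x = q := by rw [hxdef, Subgroup.orderOf_coe]; exact hx'
  have hx1 : x ≠ 1 := by
    intro h
    rw [h, orderOf_one] at hxo
    exact hq.one_lt.ne hxo
  have hkR := key R le_rfl
  have hkx := key (Subgroup.zpowers x) (Subgroup.zpowers_le.2 hxR)
  rw [centralizer_zpowers_eq, hpr x hxR hx1, Nat.card_zpowers, hxo] at hkx
  have hbase : 2 ≤ Nat.card ↥(M ⊓ Subgroup.centralizer (R : Set X)) := by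
    by_contra h
    have h0 := Nat.card_pos (α := ↥(M ⊓ Subgroup.centralizer (R : Set X)))
    have h1 : Nat.card ↥(M ⊓ Subgroup.centralizer (R : Set X)) = 1 := by omega
    rw [h1, one_pow] at hkR
    exact hM1 ((Subgroup.card_eq_one).1 hkR)
  have heq : q = Nat.card ↥R := by
    apply Nat.pow_right_injective hbase
    show Nat.card ↥(M ⊓ Subgroup.centralizer (R : Set X)) ^ q =
      Nat.card ↥(M ⊓ Subgroup.centralizer (R : Set X)) ^ Nat.card ↥R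
    rw [← hkx, ← hkR]
  exact ⟨by rw [← heq]; exact hq, hkR⟩

end Cfsg.Agent.helper23.Frob
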