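import Mathlib

set_option autoImplicit false

namespace Cfsg.Agent.helper23

/-- Conjugation by an involution `t` restricted to a `t`-invariant subgroup. -/
noncomputable def conjInvol {G : Type*} [Group G] (X : Subgroup G) (t : G) (ht : t * t = 1)
    (hX : ∀ x ∈ X, t * x * t⁻¹ ∈ X) : MulAut X where
  toFun x := ⟨t * x * t⁻¹, hX x x.2⟩
  invFun x := ⟨t * x * t⁻¹, hX x x.2⟩
  left_inv x := by
    apply Subtype.ext
    have hti : t⁻¹ = t := inv_eq_of_mul_eq_one_right ht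
    change t * (t * (x : G) * t⁻¹) * t⁻¹ = x
    rw [hti]
    calc t * (t * (x : G) * t) * t = (t * t) * x * (t * t) := by group
      _ = x := by rw [ht]; simp
  right_inv x := by
    apply Subtype.ext
    have hti : t⁻¹ = t := inv_eq_of_mul_eq_one_right ht
    change t * (t * (x : G) * t⁻¹) * t⁻¹ = x
    rw [hti]
    calc t * (t * (x : G) * t) * t = (t * t) * x * (t * t) := by group
      _ = x := by rw [ht]; simp
  map_mul' x y := by
    apply Subtype.ext
    change t * ((x : G) * y) * t⁻¹ = (t * x * t⁻¹) * (t * y * t⁻¹)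
    group

theorem conjInvol_apply {G : Type*} [Group G] (X : Subgroup G) (t : G) (ht : t * t = 1)
    (hX : ∀ x ∈ X, t * x * t⁻¹ ∈ X) (x : X) :
    ((conjInvol X t ht hX x : X) : G) = t * x * t⁻¹ := rfl

/-- An involution normalizing a subgroup `X` of odd order normalizes some Sylow `p`-subgroup
of `X`. -/
theorem exists_invariant_sylow {G : Type*} [Group G] (p : ℕ) [Fact p.Prime] (X : Subgroup G)
    [Finite X] (hodd : Odd (Nat.card X)) (t : G) (ht : t * t = 1)
    (hX : ∀ x ∈ X, t * x * t⁻¹ ∈ X) :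
    ∃ Q : Subgroup G, Q ≤ X ∧ Nat.card Q = p ^ (Nat.card X).factorization p ∧
      ∀ q ∈ Q, t * q * t⁻¹ ∈ Q := by
  classical
  have hti : t⁻¹ = t := inv_eq_of_mul_eq_one_right ht
  let φ : MulAut X := conjInvol X t ht hX
  have hφ2 : φ ^ 2 = 1 := by
    ext x
    rw [pow_two, MulAut.mul_apply, MulAut.one_apply]
    change t * (t * (x : G) * t⁻¹) * t⁻¹ = x
    rw [hti]
    calc t * (t * (x : G) * t) * t = (t * t) * x * (t * t) := by group
      _ = x := by rw [ht]; simp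
  haveI : Fintype (Sylow p X) := Fintype.ofFinite _
  let σ : Equiv.Perm (Sylow p X) := MulAction.toPermHom (MulAut X) (Sylow p X) φ
  have hσ : σ ^ 2 ^ 1 = 1 := by
    rw [pow_one, ← map_pow, hφ2, map_one]
  have hcard : ¬ 2 ∣ Fintype.card (Sylow p X) := by
    intro h2
    obtain ⟨S⟩ : Nonempty (Sylow p X) := inferInstance
    have h1 : Nat.card (Sylow p X) ∣ Nat.card X :=
      (Sylow.card_dvd_index S).trans (Subgroup.index_dvd_card _)
    rw [Nat.card_eq_fintype_card] at h1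
    have : 2 ∣ Nat.card X := h2.trans h1
    exact (Nat.not_even_iff_odd.mpr hodd) (even_iff_two_dvd.mpr this)
  haveI : Fact (Nat.Prime 2) := ⟨Nat.prime_two⟩
  obtain ⟨S, hS⟩ := Equiv.Perm.exists_fixed_point_of_prime (p := 2) (n := 1) hcard hσ
  have hS' : φ • S = S := hS
  refine ⟨(S : Subgroup X).map X.subtype, ?_, ?_, ?_⟩
  · rintro _ ⟨x, _, rfl⟩
    exact x.2
  · rw [Subgroup.card_map_of_injective X.subtype_injective]
    exact Sylow.card_eq_multiplicity S
  · rintro _ ⟨x, hx, rfl⟩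
    refine ⟨φ x, ?_, rfl⟩
    have h1 : φ x ∈ ((φ • S : Sylow p X) : Subgroup X) := by
      rw [Sylow.pointwise_smul_def]
      exact Subgroup.smul_mem_pointwise_smul x φ S hx
    rw [hS'] at h1
    exact h1

/-- A fixed-point-free involution on a finite subgroup inverts it. -/
theorem inverts_of_fixedPointFree {G : Type*} [Group G] (Q : Subgroup G) [Finite Q] (t : G)
    (ht : t * t = 1) (hQ : ∀ q ∈ Q, t * q * t⁻¹ ∈ Q)
    (hfpf : ∀ q ∈ Q, t * q = q * t → q = 1) : ∀ q ∈ Q, t * q * t⁻¹ = q⁻¹ := by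
  have hti : t⁻¹ = t := inv_eq_of_mul_eq_one_right ht
  let f : Q → Q := fun x => ⟨(x : G)⁻¹ * (t * x * t⁻¹), Q.mul_mem (Q.inv_mem x.2) (hQ x x.2)⟩
  have hinj : Function.Injective f := by
    intro a b hab
    have h1 : (a : G)⁻¹ * (t * a * t⁻¹) = (b : G)⁻¹ * (t * b * t⁻¹) := congrArg Subtype.val hab
    have h2 : t * ((b : G) * (a : G)⁻¹) = ((b : G) * (a : G)⁻¹) * t := by
      have h3 : (b : G) * ((a : G)⁻¹ * (t * a * t⁻¹)) * (t * (a : G)⁻¹) =
          (b : G) * ((b : G)⁻¹ * (t * b * t⁻¹)) * (t * (a : G)⁻¹) := by rw [h1]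
      have h4 : (b : G) * ((a : G)⁻¹ * (t * a * t⁻¹)) * (t * (a : G)⁻¹) = (b : G) * (a : G)⁻¹ * t := by
        group
      have h5 : (b : G) * ((b : G)⁻¹ * (t * b * t⁻¹)) * (t * (a : G)⁻¹) = t * ((b : G) * (a : G)⁻¹) := by
        group
      rw [h4, h5] at h3
      exact h3.symm
    have h6 := hfpf _ (Q.mul_mem b.2 (Q.inv_mem a.2)) h2
    apply Subtype.ext
    exact (mul_inv_eq_one.mp h6).symm
  have hsurj : Function.Surjective f := Finite.surjective_of_injective hinj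
  intro q hq
  obtain ⟨x, hx⟩ := hsurj ⟨q, hq⟩
  have hx' : (x : G)⁻¹ * (t * x * t⁻¹) = q := congrArg Subtype.val hx
  rw [← hx', hti]
  calc t * ((x : G)⁻¹ * (t * x * t)) * t = t * (x : G)⁻¹ * t * x * (t * t) := by group
    _ = t * (x : G)⁻¹ * t * x := by rw [ht, mul_one]
    _ = ((x : G)⁻¹ * (t * x * t))⁻¹ := by
      rw [mul_inv_rev, mul_inv_rev, mul_inv_rev, inv_inv, hti]
      group

/-- A subgroup inverted elementwise by some element is abelian. -/
theorem commute_of_inverts {G : Type*} [Group G] (Q : Subgroup G) (t : G)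
    (hinv : ∀ q ∈ Q, t * q * t⁻¹ = q⁻¹) : ∀ a ∈ Q, ∀ b ∈ Q, a * b = b * a := by
  intro a ha b hb
  have h1 := hinv (a * b) (Q.mul_mem ha hb)
  have h2 : t * (a * b) * t⁻¹ = (t * a * t⁻¹) * (t * b * t⁻¹) := by group
  rw [h2, hinv a ha, hinv b hb, mul_inv_rev] at h1
  -- a⁻¹ * b⁻¹ = b⁻¹ * a⁻¹
  have h3 : (a⁻¹ * b⁻¹)⁻¹ = (b⁻¹ * a⁻¹)⁻¹ := by rw [h1]
  rw [mul_inv_rev, mul_inv_rev, inv_inv, inv_inv] at h3
  exact h3.symm

end Cfsg.Agent.helper23
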