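import Mathlib
import Cfsg.Prelude.Def_CaseTheorems
import Cfsg.Prelude.Def_IsolatedElements
import Cfsg.Agent.Lib_helper10_Alperin
import Cfsg.Agent.Lib_helper15_Omega
import Cfsg.Agent.Lib_helper7_Cores
import Cfsg.Agent.S0071

set_option autoImplicit false

namespace Cfsg.Agent.helper23

open scoped commutatorElement

section Iso

variable {G : Type*} [Group G] [Finite G] {p : ℕ} [hp : Fact p.Prime]

/-- An element of a `p`-subgroup `T` which is isolated (relative to `T`) is central in `T`. -/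
theorem iso_central_of_pgroup (T : Subgroup G) (hT : IsPGroup p T) (x : G) (hx : x ∈ T)
    (hiso : ∀ g ∈ T, Commute x (g * x * g⁻¹) → g * x * g⁻¹ = x) :
    ∀ t ∈ T, t * x = x * t := by
  set C : Subgroup G := T ⊓ Subgroup.centralizer {x} with hC
  by_contra hcon
  push Not at hcon
  obtain ⟨t, htT, htx⟩ := hcon
  have hlt : C < T := by
    refine lt_of_le_of_ne inf_le_left ?_
    intro h
    have h1 : t ∈ C := by rw [h]; exact htT
    have h2 := (Subgroup.mem_inf.1 h1).2
    rw [Subgroup.mem_centralizer_iff] at h2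
    exact htx (h2 x rfl).symm
  have hlt' := helper10.lt_inf_normalizer_of_lt hT hlt
  obtain ⟨s, hs, hsC⟩ := SetLike.exists_of_lt hlt'
  have hsT := (Subgroup.mem_inf.1 hs).1
  have hsN := (Subgroup.mem_inf.1 hs).2
  have hxC : x ∈ C := by
    refine Subgroup.mem_inf.2 ⟨hx, ?_⟩
    rw [Subgroup.mem_centralizer_iff]
    intro h hh
    rw [Set.mem_singleton_iff.1 hh]
  have h1 : s * x * s⁻¹ ∈ C := (Subgroup.mem_normalizer_iff.1 hsN x).1 hxC
  have h2 : Commute x (s * x * s⁻¹) := by
    have h3 := (Subgroup.mem_inf.1 h1).2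
    rw [Subgroup.mem_centralizer_iff] at h3
    exact h3 x rfl
  have h3 := hiso s hsT h2
  apply hsC
  refine Subgroup.mem_inf.2 ⟨hsT, ?_⟩
  rw [Subgroup.mem_centralizer_iff]
  intro h hh
  rw [Set.mem_singleton_iff.1 hh]
  have h4 : s * x = x * s := by
    calc s * x = s * x * s⁻¹ * s := by group
    _ = x * s := by rw [h3]
  exact h4.symm

/-- Rank bound: an abelian subgroup of exponent `p` centralized by, but not containing, an element `x`
of order dividing `p` has order at most `p` when the `p`-rank is at most `2`. -/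
theorem iso_rank_bound (hr : Cfsg.PRankLE p 2 G) (B : Subgroup G)
    (hBc : ∀ a ∈ B, ∀ b ∈ B, a * b = b * a) (hBp : ∀ b ∈ B, b ^ p = 1)
    (x : G) (hxp : x ^ p = 1) (hxB : ∀ b ∈ B, b * x = x * b) (hx : x ∉ B) :
    Nat.card B ≤ p := by
  set A : Subgroup G := B ⊔ Subgroup.zpowers x with hA
  have hnorm : Subgroup.zpowers x ≤ Subgroup.normalizer (B : Set G) := by
    rw [Subgroup.zpowers_le]
    rw [Subgroup.mem_normalizer_iff]
    intro b
    have key : ∀ b ∈ B, x * b * x⁻¹ = b := by
      intro b hb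
      rw [← hxB b hb]; group
    constructor
    · intro hb; rw [key b hb]; exact hb
    · intro hb
      have h1 := key _ hb
      have h2 : x * b * x⁻¹ = b := by
        have : x * (x * b * x⁻¹) * x⁻¹ = x * b * x⁻¹ := h1
        have h3 : x⁻¹ * (x * (x * b * x⁻¹) * x⁻¹) * x = x⁻¹ * (x * b * x⁻¹) * x := by rw [this]
        have h4 : x⁻¹ * (x * (x * b * x⁻¹) * x⁻¹) * x = x * b * x⁻¹ := by group
        have h5 : x⁻¹ * (x * b * x⁻¹) * x = b := by group
        rw [h4, h5] at h3
        exact h3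
      rw [← h2]; exact hb
  have hxz : ∀ c ∈ Subgroup.zpowers x, ∀ b ∈ B, b * c = c * b := by
    intro c hc b hb
    obtain ⟨k, rfl⟩ := Subgroup.mem_zpowers_iff.1 hc
    have : Commute b x := hxB b hb
    exact (this.zpow_right k)
  have hzp : ∀ c ∈ Subgroup.zpowers x, c ^ p = 1 := by
    intro c hc
    obtain ⟨k, rfl⟩ := Subgroup.mem_zpowers_iff.1 hc
    rw [← zpow_natCast, ← zpow_mul, mul_comm, zpow_mul, zpow_natCast, hxp, one_zpow]
  have hzc : ∀ c ∈ Subgroup.zpowers x, ∀ d ∈ Subgroup.zpowers x, c * d = d * c := by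
    intro c hc d hd
    obtain ⟨k, rfl⟩ := Subgroup.mem_zpowers_iff.1 hc
    obtain ⟨l, rfl⟩ := Subgroup.mem_zpowers_iff.1 hd
    exact ((Commute.refl x).zpow_zpow k l)
  have hmem : ∀ a ∈ A, ∃ b ∈ B, ∃ c ∈ Subgroup.zpowers x, a = b * c :=
    fun a ha => helper7.mem_sup_of_normalizer hnorm ha
  have hAcomm : ∀ a ∈ A, ∀ a' ∈ A, a * a' = a' * a := by
    intro a ha a' ha'
    obtain ⟨b, hb, c, hc, rfl⟩ := hmem a ha
    obtain ⟨b', hb', c', hc', rfl⟩ := hmem a' ha'
    have e1 : Commute b b' := hBc b hb b' hb'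
    have e2 : Commute b c' := hxz c' hc' b hb
    have e3 : Commute c b' := (hxz c hc b' hb').symm
    have e4 : Commute c c' := hzc c hc c' hc'
    exact (e1.mul_right e2).mul_left (e3.mul_right e4)
  have hAc : IsMulCommutative A := ⟨⟨fun a b => Subtype.ext (hAcomm a a.2 b b.2)⟩⟩
  have hAp : ∀ a ∈ A, a ^ p = 1 := by
    intro a ha
    obtain ⟨b, hb, c, hc, rfl⟩ := hmem a ha
    have e2 : Commute b c := hxz c hc b hb
    rw [e2.mul_pow, hBp b hb, hzp c hc, one_mul]
  have hcard := hr A hAc hAp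
  have hBA : B < A := by
    refine lt_of_le_of_ne le_sup_left ?_
    intro h
    apply hx
    rw [h]
    exact (le_sup_right : Subgroup.zpowers x ≤ A) (Subgroup.mem_zpowers x)
  have hApg : IsPGroup p A := by
    intro a
    refine ⟨1, ?_⟩
    apply Subtype.ext
    rw [pow_one, Subgroup.coe_pow, Subgroup.coe_one]
    exact hAp a a.2
  have hBpg : IsPGroup p B := hApg.to_le hBA.le
  obtain ⟨n, hn⟩ := hApg.exists_card_eq
  obtain ⟨m, hm⟩ := hBpg.exists_card_eq
  have hlt : Nat.card B < Nat.card A := helper7.card_lt_of_lt hBA.le hBA.ne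
  rw [hn, hm] at hlt
  have hmn : m < n := (Nat.pow_lt_pow_iff_right hp.out.one_lt).1 hlt
  rw [hn] at hcard
  have hn2 : n ≤ 2 := (Nat.pow_le_pow_iff_right hp.out.one_lt).1 hcard
  rw [hm]
  have hm1 : m ≤ 1 := by omega
  calc p ^ m ≤ p ^ 1 := Nat.pow_le_pow_right hp.out.pos hm1
  _ = p := pow_one p

/-- For odd `p`: if the elements of order dividing `p` of a Sylow `p`-subgroup `P` are not fused to
other elements of `P`, the group has a normal `p`-complement. -/
theorem npc_of_no_fusion (hp2 : p ≠ 2) (P : Sylow p G)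
    (h : ∀ v ∈ (P : Subgroup G), v ^ p = 1 → ∀ g : G, g * v * g⁻¹ ∈ (P : Subgroup G) →
      g * v * g⁻¹ = v) :
    ∃ N : Subgroup G, N.Normal ∧ N.IsComplement' (P : Subgroup G) := by
  rw [Cfsg.Agent.S0071.result P]
  intro Q hQ g hg hcop
  apply helper15.centralizes_of_centralizes_omega hp2 Q (P.isPGroup'.to_le hQ) g hg hcop
  intro v hv hvp
  have h1 : g * v * g⁻¹ ∈ Q := (Subgroup.mem_normalizer_iff.1 hg v).1 hv
  have h2 := h v (hQ hv) hvp g (hQ h1)
  calc g * v = g * v * g⁻¹ * g := by group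
  _ = v * g := by rw [h2]

/-- A perfect group with a normal `p`-complement has trivial Sylow `p`-subgroups. -/
theorem sylow_eq_bot_of_perfect_of_npc [hperf : Group.IsPerfect G] (P : Sylow p G)
    (N : Subgroup G) [hN : N.Normal] (hc : N.IsComplement' (P : Subgroup G)) :
    (P : Subgroup G) = ⊥ := by
  have hidx : N.index = Nat.card (P : Subgroup G) := hc.symm.index_eq_card
  obtain ⟨n, hn⟩ := P.isPGroup'.exists_card_eq
  have hq : IsPGroup p (G ⧸ N) := by
    apply IsPGroup.of_card (n := n)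
    rw [← hn, ← hidx]
    rfl
  haveI : Group.IsNilpotent (G ⧸ N) := hq.isNilpotent
  have hsub : Subsingleton (G ⧸ N) := by
    by_contra hns
    rw [not_subsingleton_iff_nontrivial] at hns
    haveI := hns
    exact Group.IsPerfect.not_isSolvable (G := G ⧸ N) inferInstance
  have h1 : N.index = 1 := by
    have : Nat.card (G ⧸ N) = 1 := Nat.card_eq_one_iff_unique.2 ⟨hsub, ⟨1⟩⟩
    exact this
  rw [hidx] at h1
  exact Subgroup.card_eq_one.1 h1

end Iso

end Cfsg.Agent.helper23
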