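import Mathlib
import Cfsg.Agent.Lib_helper23_Iso1

set_option autoImplicit false
set_option maxHeartbeats 1000000

namespace Cfsg.Agent.helper23

open scoped commutatorElement

section Iso

variable {G : Type*} [Group G] [Finite G] {p : ℕ} [hp : Fact p.Prime]

/-- Key lemma: an isolated element `x = u z'` with `u` a noncentral element of order `p` of a perfect
subgroup `L` and `z'` in a cyclic group `⟨z⟩` of order `p` centralizing `L` cannot exist in a group of
`p`-rank at most `2` (`p` odd). -/
theorem iso_key (hp2 : p ≠ 2) (hr : Cfsg.PRankLE p 2 G) (x : G) (hiso : Cfsg.IsIsolated x)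
    (L : Subgroup G) (hperf : ⁅L, L⁆ = L)
    (z : G) (hzL : z ∈ Subgroup.centralizer (L : Set G)) (hz1 : z ≠ 1) (hzp : z ^ p = 1)
    (u : G) (huL : u ∈ L) (hup : u ^ p = 1) (huc : u ∉ Subgroup.centralizer (L : Set G))
    (z' : G) (hz' : z' ∈ Subgroup.zpowers z) (hx : x = u * z') : False := by
  classical
  have hcL : ∀ c ∈ Subgroup.centralizer (L : Set G), ∀ l ∈ L, Commute l c :=
    fun c hc l hl => Subgroup.mem_centralizer_iff.1 hc l hl
  have hzpow : Subgroup.zpowers z ≤ Subgroup.centralizer (L : Set G) := Subgroup.zpowers_le.2 hzL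
  have hz'L := hzpow hz'
  have hpowp : ∀ (y : G), y ^ p = 1 → ∀ k : ℤ, (y ^ k) ^ p = 1 := by
    intro y hy k
    rw [← zpow_natCast, ← zpow_mul, mul_comm, zpow_mul, zpow_natCast, hy, one_zpow]
  have hz'p : z' ^ p = 1 := by
    obtain ⟨k, rfl⟩ := Subgroup.mem_zpowers_iff.1 hz'
    exact hpowp z hzp k
  have huz' : Commute u z' := hcL z' hz'L u huL
  have hxp : x ^ p = 1 := by rw [hx, huz'.mul_pow, hup, hz'p, one_mul]
  haveI : Group.IsPerfect ↥L := Subgroup.isPerfect_iff.2 hperf
  set u' : ↥L := ⟨u, huL⟩ with hu'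
  -- (k1) `u` is isolated in `L`
  have k1G : ∀ g ∈ L, Commute u (g * u * g⁻¹) → g * u * g⁻¹ = u := by
    intro g hg hcomm
    have hgu : g * u * g⁻¹ ∈ L := L.mul_mem (L.mul_mem hg huL) (L.inv_mem hg)
    have hgz : Commute g z' := hcL z' hz'L g hg
    have e1 : g * x * g⁻¹ = (g * u * g⁻¹) * z' := by
      rw [hx]
      calc g * (u * z') * g⁻¹ = g * u * (z' * g⁻¹) := by group
      _ = g * u * (g⁻¹ * z') := by rw [(hgz.inv_left).eq]
      _ = (g * u * g⁻¹) * z' := by group
    have hc2 : Commute (g * u * g⁻¹) z' := hcL z' hz'L _ hgu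
    have hcx : Commute x (g * x * g⁻¹) := by
      rw [e1, hx]
      exact (hcomm.mul_right huz').mul_left ((hc2.symm).mul_right (Commute.refl z'))
    have h1 := hiso g hcx
    rw [e1, hx] at h1
    exact mul_right_cancel h1
  have k1 : ∀ g : ↥L, Commute u' (g * u' * g⁻¹) → g * u' * g⁻¹ = u' := by
    intro g hg
    apply Subtype.ext
    have h1 : Commute u ((g : G) * u * (g : G)⁻¹) := by
      have h2 := congrArg Subtype.val hg.eq
      simp only [Subgroup.coe_mul, Subgroup.coe_inv] at h2
      exact h2
    have h3 := k1G (g : G) g.2 h1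
    simpa using h3
  -- a Sylow `p`-subgroup of `L` containing `u`
  have hu'p : u' ^ p = 1 := by
    apply Subtype.ext
    simpa using hup
  have hzu : IsPGroup p (Subgroup.zpowers u') := by
    intro y
    obtain ⟨k, hk⟩ := Subgroup.mem_zpowers_iff.1 y.2
    refine ⟨1, Subtype.ext ?_⟩
    rw [pow_one, Subgroup.coe_pow, Subgroup.coe_one, ← hk]
    rw [← zpow_natCast, ← zpow_mul, mul_comm, zpow_mul, zpow_natCast, hu'p, one_zpow]
  obtain ⟨P, hP⟩ := hzu.exists_le_sylow
  have hu'P : u' ∈ (P : Subgroup ↥L) := hP (Subgroup.mem_zpowers u')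
  -- (k2)
  have k2 : ∀ t ∈ (P : Subgroup ↥L), t * u' = u' * t :=
    iso_central_of_pgroup (P : Subgroup ↥L) P.isPGroup' u' hu'P (fun g _ hg => k1 g hg)
  -- (k3)
  have k3 : ∀ v ∈ (P : Subgroup ↥L), v ^ p = 1 → ∀ g : ↥L, g * v * g⁻¹ ∈ (P : Subgroup ↥L) →
      g * v * g⁻¹ = v := by
    intro v hvP hvp g hw
    by_cases hvc : (v : G) ∈ Subgroup.centralizer (L : Set G)
    · apply Subtype.ext
      have h1 : Commute (g : G) (v : G) := hcL (v : G) hvc g g.2
      have h2 : (g : G) * (v : G) * (g : G)⁻¹ = (v : G) := by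
        rw [h1.eq]; group
      simpa using h2
    · have hvL : (v : G) ∈ L := v.2
      have hvz : Commute (v : G) z := hcL z hzL v hvL
      have hvpG : (v : G) ^ p = 1 := by
        have h1 := congrArg Subtype.val hvp
        simpa using h1
      have hvu : Commute (v : G) u := by
        have h1 := congrArg Subtype.val (k2 v hvP)
        simp only [Subgroup.coe_mul] at h1
        exact h1
      have hvz' : Commute (v : G) z' := hcL z' hz'L v hvL
      have hvx : Commute (v : G) x := by rw [hx]; exact hvu.mul_right hvz'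
      have hzu' : Commute z u := (hcL z hzL u huL).symm
      have hzz' : Commute z z' := by
        obtain ⟨k, rfl⟩ := Subgroup.mem_zpowers_iff.1 hz'
        exact (Commute.refl z).zpow_right k
      have hzx : Commute z x := by rw [hx]; exact hzu'.mul_right hzz'
      set K : Subgroup G := Subgroup.closure ({(v : G), z} : Set G) with hK
      have hdec : ∀ y ∈ K, ∃ i j : ℤ, y = (v : G) ^ i * z ^ j := by
        intro y hy
        induction hy using Subgroup.closure_induction with
        | mem y hy =>
          rcases hy with rfl | hy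
          · exact ⟨1, 0, by simp⟩
          · rw [Set.mem_singleton_iff] at hy
            subst hy
            exact ⟨0, 1, by simp⟩
        | one => exact ⟨0, 0, by simp⟩
        | mul a b _ _ iha ihb =>
          obtain ⟨i, j, rfl⟩ := iha
          obtain ⟨k, l, rfl⟩ := ihb
          refine ⟨i + k, j + l, ?_⟩
          have c1 : Commute (z ^ j) ((v : G) ^ k) := hvz.symm.zpow_zpow j k
          calc (v : G) ^ i * z ^ j * ((v : G) ^ k * z ^ l)
              = (v : G) ^ i * (z ^ j * (v : G) ^ k) * z ^ l := by group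
            _ = (v : G) ^ i * ((v : G) ^ k * z ^ j) * z ^ l := by rw [c1.eq]
            _ = (v : G) ^ (i + k) * z ^ (j + l) := by rw [zpow_add, zpow_add]; group
        | inv a _ iha =>
          obtain ⟨i, j, rfl⟩ := iha
          refine ⟨-i, -j, ?_⟩
          have c1 : Commute (z ^ (-j)) ((v : G) ^ (-i)) := hvz.symm.zpow_zpow _ _
          calc ((v : G) ^ i * z ^ j)⁻¹ = z ^ (-j) * (v : G) ^ (-i) := by
                rw [mul_inv_rev, zpow_neg, zpow_neg]
            _ = (v : G) ^ (-i) * z ^ (-j) := c1.eq
      have hKc : ∀ a ∈ K, ∀ b ∈ K, a * b = b * a := by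
        intro a ha b hb
        obtain ⟨i, j, rfl⟩ := hdec a ha
        obtain ⟨k, l, rfl⟩ := hdec b hb
        have e1 : Commute ((v : G) ^ i) ((v : G) ^ k) := (Commute.refl _).zpow_zpow i k
        have e2 : Commute ((v : G) ^ i) (z ^ l) := hvz.zpow_zpow i l
        have e3 : Commute (z ^ j) ((v : G) ^ k) := hvz.symm.zpow_zpow j k
        have e4 : Commute (z ^ j) (z ^ l) := (Commute.refl _).zpow_zpow j l
        exact (e1.mul_right e2).mul_left (e3.mul_right e4)
      have hKp : ∀ a ∈ K, a ^ p = 1 := by
        intro a ha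
        obtain ⟨i, j, rfl⟩ := hdec a ha
        have e2 : Commute ((v : G) ^ i) (z ^ j) := hvz.zpow_zpow i j
        rw [e2.mul_pow, hpowp _ hvpG i, hpowp _ hzp j, one_mul]
      have hKx : ∀ b ∈ K, b * x = x * b := by
        intro b hb
        obtain ⟨i, j, rfl⟩ := hdec b hb
        exact ((hvx.zpow_left i).mul_left (hzx.zpow_left j))
      have hvK : (v : G) ∈ K := Subgroup.subset_closure (by simp)
      have hzK' : z ∈ K := Subgroup.subset_closure (by simp)
      have hKbig : p < Nat.card K := by
        by_contra hle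
        push Not at hle
        have hzK : Subgroup.zpowers z ≤ K := Subgroup.zpowers_le.2 hzK'
        have hoz : orderOf z = p := orderOf_eq_prime hzp hz1
        have hcz : Nat.card (Subgroup.zpowers z) = p := by rw [Nat.card_zpowers, hoz]
        have heq : Subgroup.zpowers z = K :=
          Subgroup.eq_of_le_of_card_ge hzK (by rw [hcz]; exact hle)
        have hvK2 := hvK
        rw [← heq] at hvK2
        exact hvc (hzpow hvK2)
      have hxK : x ∈ K := by
        by_contra hxK
        have h1 := iso_rank_bound hr K hKc hKp x hxp hKx hxK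
        omega
      obtain ⟨i, j, hxij⟩ := hdec x hxK
      set a : G := (v : G) ^ i with ha
      have haL : a ∈ L := L.zpow_mem hvL i
      set c : G := u⁻¹ * a with hc
      have hcL' : c ∈ L := L.mul_mem (L.inv_mem huL) haL
      have hc_eq : c = z' * (z ^ j)⁻¹ := by
        have h1 : u * z' = a * z ^ j := by rw [← hx, hxij]
        calc c = u⁻¹ * (a * z ^ j) * (z ^ j)⁻¹ := by rw [hc]; group
          _ = u⁻¹ * (u * z') * (z ^ j)⁻¹ := by rw [h1]
          _ = z' * (z ^ j)⁻¹ := by group
      have hcC : c ∈ Subgroup.centralizer (L : Set G) := by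
        rw [hc_eq]
        exact Subgroup.mul_mem _ hz'L (Subgroup.inv_mem _ (hzpow (Subgroup.zpow_mem_zpowers z j)))
      have hauc : a = u * c := by rw [hc]; group
      have ha1 : a ≠ 1 := by
        intro h1
        apply huc
        have h2 : u = c⁻¹ := by rw [hc, h1]; group
        rw [h2]
        exact Subgroup.inv_mem _ hcC
      have hv1 : (v : G) ≠ 1 := by
        intro h
        apply hvc
        rw [h]
        exact Subgroup.one_mem _
      have hov : orderOf (v : G) = p := orderOf_eq_prime hvpG hv1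
      have hap : a ^ p = 1 := hpowp _ hvpG i
      have hoa : orderOf a = p := orderOf_eq_prime hap ha1
      have hza : Subgroup.zpowers a = Subgroup.zpowers (v : G) := by
        apply Subgroup.eq_of_le_of_card_ge
        · rw [Subgroup.zpowers_le]; exact Subgroup.zpow_mem_zpowers _ i
        · rw [Nat.card_zpowers, Nat.card_zpowers, hoa, hov]
      obtain ⟨m, hm⟩ : ∃ m : ℤ, a ^ m = (v : G) := by
        have h1 : (v : G) ∈ Subgroup.zpowers a := by rw [hza]; exact Subgroup.mem_zpowers _
        exact Subgroup.mem_zpowers_iff.1 h1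
      have hgaP : g * (v ^ i) * g⁻¹ ∈ (P : Subgroup ↥L) := by
        have h1 : g * (v ^ i) * g⁻¹ = (g * v * g⁻¹) ^ i := by rw [conj_zpow]
        rw [h1]
        exact Subgroup.zpow_mem _ hw i
      have h5 := k2 _ hgaP
      have h5G : ((g : G) * a * (g : G)⁻¹) * u = u * ((g : G) * a * (g : G)⁻¹) := by
        have h6 := congrArg Subtype.val h5
        simpa [ha] using h6
      have hgc : Commute (g : G) c := hcL c hcC g g.2
      have e2 : (g : G) * a * (g : G)⁻¹ = ((g : G) * u * (g : G)⁻¹) * c := by
        rw [hauc]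
        calc (g : G) * (u * c) * (g : G)⁻¹ = (g : G) * u * (c * (g : G)⁻¹) := by group
          _ = (g : G) * u * ((g : G)⁻¹ * c) := by rw [(hgc.inv_left).eq]
          _ = ((g : G) * u * (g : G)⁻¹) * c := by group
      have hcu : Commute u c := hcL c hcC u huL
      have hwu : Commute u ((g : G) * u * (g : G)⁻¹) := by
        rw [e2] at h5G
        have h6 : ((g : G) * u * (g : G)⁻¹) * u * c = u * ((g : G) * u * (g : G)⁻¹) * c := by
          calc ((g : G) * u * (g : G)⁻¹) * u * c = ((g : G) * u * (g : G)⁻¹) * (u * c) := by group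
            _ = ((g : G) * u * (g : G)⁻¹) * (c * u) := by rw [hcu.eq]
            _ = ((g : G) * u * (g : G)⁻¹) * c * u := by group
            _ = u * (((g : G) * u * (g : G)⁻¹) * c) := h5G
            _ = u * ((g : G) * u * (g : G)⁻¹) * c := by group
        exact (mul_right_cancel h6).symm
      have hk1G := k1G (g : G) g.2 hwu
      have hgag : (g : G) * a * (g : G)⁻¹ = a := by rw [e2, hk1G, hauc]
      apply Subtype.ext
      have h7 : (g : G) * (v : G) * (g : G)⁻¹ = (v : G) := by
        rw [← hm, ← conj_zpow, hgag]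
      simpa using h7
  -- (k4)
  obtain ⟨N, hN, hNc⟩ := npc_of_no_fusion hp2 P k3
  haveI := hN
  have hPbot := sylow_eq_bot_of_perfect_of_npc P N hNc
  have h1 : u' ∈ (⊥ : Subgroup ↥L) := by rw [← hPbot]; exact hu'P
  have hu1 : u = 1 := by
    have h2 := Subgroup.mem_bot.1 h1
    exact congrArg Subtype.val h2
  apply huc
  rw [hu1]
  exact Subgroup.one_mem _

end Iso

end Cfsg.Agent.helper23
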