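import Mathlib
import Cfsg.Agent.Lib_helper23_Iso2
import Cfsg.Agent.Lib_helper7_FStar
import Cfsg.Agent.Lib_helper10_ChainStab

set_option autoImplicit false
set_option maxHeartbeats 1000000

namespace Cfsg.Agent.helper23

open scoped commutatorElement
open Cfsg.Agent.helper7

section Iso

variable {G : Type*} [Group G] [Finite G] {p : ℕ} [hp : Fact p.Prime]

/-- In a group of `p`-rank at most `2`: if `v, z` are commuting elements of order dividing `p`
with `z ≠ 1`, `v ∉ ⟨z⟩`, and `x` has order dividing `p` and commutes with both, then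
`x = v ^ i * z ^ j`. -/
theorem iso_pair (hr : Cfsg.PRankLE p 2 G) (v z x : G) (hvz : Commute v z)
    (hvp : v ^ p = 1) (hzp : z ^ p = 1) (hz1 : z ≠ 1) (hv : v ∉ Subgroup.zpowers z)
    (hxp : x ^ p = 1) (hvx : Commute v x) (hzx : Commute z x) :
    ∃ i j : ℤ, x = v ^ i * z ^ j := by
  have hpowp : ∀ (y : G), y ^ p = 1 → ∀ k : ℤ, (y ^ k) ^ p = 1 := by
    intro y hy k
    rw [← zpow_natCast, ← zpow_mul, mul_comm, zpow_mul, zpow_natCast, hy, one_zpow]
  set K : Subgroup G := Subgroup.closure ({v, z} : Set G) with hK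
  have hdec : ∀ y ∈ K, ∃ i j : ℤ, y = v ^ i * z ^ j := by
    intro y hy
    induction hy using Subgroup.closure_induction with
    | mem y hy =>
      rcases hy with rfl | hy
      · exact ⟨1, 0, by simp⟩
      · rw [Set.mem_singleton_iff] at hy
        subst hy
        exact ⟨0, 1, by simp⟩
    | one => exact ⟨0, 0, by simp⟩
    | mul a b _ _ iha ihb =>
      obtain ⟨i, j, rfl⟩ := iha
      obtain ⟨k, l, rfl⟩ := ihb
      refine ⟨i + k, j + l, ?_⟩
      have c1 : Commute (z ^ j) (v ^ k) := hvz.symm.zpow_zpow j k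
      calc v ^ i * z ^ j * (v ^ k * z ^ l)
          = v ^ i * (z ^ j * v ^ k) * z ^ l := by group
        _ = v ^ i * (v ^ k * z ^ j) * z ^ l := by rw [c1.eq]
        _ = v ^ (i + k) * z ^ (j + l) := by rw [zpow_add, zpow_add]; group
    | inv a _ iha =>
      obtain ⟨i, j, rfl⟩ := iha
      refine ⟨-i, -j, ?_⟩
      have c1 : Commute (z ^ (-j)) (v ^ (-i)) := hvz.symm.zpow_zpow _ _
      calc (v ^ i * z ^ j)⁻¹ = z ^ (-j) * v ^ (-i) := by
            rw [mul_inv_rev, zpow_neg, zpow_neg]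
        _ = v ^ (-i) * z ^ (-j) := c1.eq
  have hKc : ∀ a ∈ K, ∀ b ∈ K, a * b = b * a := by
    intro a ha b hb
    obtain ⟨i, j, rfl⟩ := hdec a ha
    obtain ⟨k, l, rfl⟩ := hdec b hb
    have e1 : Commute (v ^ i) (v ^ k) := (Commute.refl _).zpow_zpow i k
    have e2 : Commute (v ^ i) (z ^ l) := hvz.zpow_zpow i l
    have e3 : Commute (z ^ j) (v ^ k) := hvz.symm.zpow_zpow j k
    have e4 : Commute (z ^ j) (z ^ l) := (Commute.refl _).zpow_zpow j l
    exact (e1.mul_right e2).mul_left (e3.mul_right e4)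
  have hKp : ∀ a ∈ K, a ^ p = 1 := by
    intro a ha
    obtain ⟨i, j, rfl⟩ := hdec a ha
    have e2 : Commute (v ^ i) (z ^ j) := hvz.zpow_zpow i j
    rw [e2.mul_pow, hpowp _ hvp i, hpowp _ hzp j, one_mul]
  have hKx : ∀ b ∈ K, b * x = x * b := by
    intro b hb
    obtain ⟨i, j, rfl⟩ := hdec b hb
    exact ((hvx.zpow_left i).mul_left (hzx.zpow_left j))
  have hvK : v ∈ K := Subgroup.subset_closure (by simp)
  have hzK' : z ∈ K := Subgroup.subset_closure (by simp)
  have hKbig : p < Nat.card K := by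
    by_contra hle
    push Not at hle
    have hzK : Subgroup.zpowers z ≤ K := Subgroup.zpowers_le.2 hzK'
    have hoz : orderOf z = p := orderOf_eq_prime hzp hz1
    have hcz : Nat.card (Subgroup.zpowers z) = p := by rw [Nat.card_zpowers, hoz]
    have heq : Subgroup.zpowers z = K :=
      Subgroup.eq_of_le_of_card_ge hzK (by rw [hcz]; exact hle)
    have hvK2 := hvK
    rw [← heq] at hvK2
    exact hv hvK2
  have hxK : x ∈ K := by
    by_contra hxK
    have h1 := iso_rank_bound hr K hKc hKp x hxp hKx hxK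
    omega
  exact hdec x hxK

/-- Second form of the key lemma. -/
theorem iso_key2 (hp2 : p ≠ 2) (hr : Cfsg.PRankLE p 2 G) (x : G) (hiso : Cfsg.IsIsolated x)
    (hxp : x ^ p = 1)
    (L : Subgroup G) (hperf : ⁅L, L⁆ = L)
    (z : G) (hzL : z ∈ Subgroup.centralizer (L : Set G)) (hz1 : z ≠ 1) (hzp : z ^ p = 1)
    (u : G) (huL : u ∈ L) (hup : u ^ p = 1) (huc : u ∉ Subgroup.centralizer (L : Set G))
    (hux : Commute u x) (hzx : Commute z x) (hxz : x ∉ Subgroup.zpowers z) : False := by
  have hzpow : Subgroup.zpowers z ≤ Subgroup.centralizer (L : Set G) := Subgroup.zpowers_le.2 hzL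
  have huz : Commute u z := Subgroup.mem_centralizer_iff.1 hzL u huL
  have hu : u ∉ Subgroup.zpowers z := fun h => huc (hzpow h)
  obtain ⟨i, j, hx⟩ := iso_pair hr u z x huz hup hzp hz1 hu hxp hux hzx
  have hpowp : ∀ (y : G), y ^ p = 1 → ∀ k : ℤ, (y ^ k) ^ p = 1 := by
    intro y hy k
    rw [← zpow_natCast, ← zpow_mul, mul_comm, zpow_mul, zpow_natCast, hy, one_zpow]
  have hu1 : u ≠ 1 := by
    intro h
    apply huc
    rw [h]
    exact Subgroup.one_mem _
  have hou : orderOf u = p := orderOf_eq_prime hup hu1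
  have hui : u ^ i ∉ Subgroup.centralizer (L : Set G) := by
    intro hc
    by_cases h1 : u ^ i = 1
    · apply hxz
      rw [hx, h1, one_mul]
      exact Subgroup.zpow_mem_zpowers z j
    · have hoa : orderOf (u ^ i) = p := orderOf_eq_prime (hpowp u hup i) h1
      have hza : Subgroup.zpowers (u ^ i) = Subgroup.zpowers u := by
        apply Subgroup.eq_of_le_of_card_ge
        · rw [Subgroup.zpowers_le]; exact Subgroup.zpow_mem_zpowers _ i
        · rw [Nat.card_zpowers, Nat.card_zpowers, hoa, hou]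
      have h2 : u ∈ Subgroup.zpowers (u ^ i) := by rw [hza]; exact Subgroup.mem_zpowers _
      exact huc ((Subgroup.zpowers_le.2 hc) h2)
  exact iso_key hp2 hr x hiso L hperf z hzL hz1 hzp (u ^ i) (L.zpow_mem huL i) (hpowp u hup i) hui
    (z ^ j) (Subgroup.zpow_mem_zpowers z j) hx

end Iso

end Cfsg.Agent.helper23
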