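import Mathlib
import Cfsg.Agent.Lib_helper23_Iso3

set_option autoImplicit false
set_option maxHeartbeats 1000000

namespace Cfsg.Agent.helper23

open scoped commutatorElement
open Cfsg.Agent.helper7

section Iso

variable {G : Type*} [Group G] [Finite G] {p : ℕ} [hp : Fact p.Prime]

/-- If `O_{p'}(G) = 1` and `p` is odd, every component `L` of `G` contains, inside a given Sylow
`p`-subgroup `S` of `G`, a noncentral element of order `p`. -/
theorem comp_exists_noncentral (hp2 : p ≠ 2) (hcore : Cfsg.pPrimeCore p G = ⊥) (S : Sylow p G)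
    (L : Subgroup G) (hL : Comp L ⊤) :
    ∃ u ∈ (S : Subgroup G) ⊓ L, u ^ p = 1 ∧ u ∉ Subgroup.centralizer (L : Set G) := by
  classical
  obtain ⟨E, hE⟩ : ∃ E : Subgroup G, E = layerOf (⊤ : Subgroup G) := ⟨_, rfl⟩
  have hEn : (⊤ : Subgroup G) ≤ Subgroup.normalizer (E : Set G) := by
    rw [hE]; exact layerOf_normal ⊤
  have hLE : L ≤ E := by rw [hE]; exact comp_le_layerOf hL
  have hELn : E ≤ Subgroup.normalizer (L : Set G) := by rw [hE]; exact hL.layerOf_le_normalizer
  have hSp : IsPGroup p ↥(S : Subgroup G) := S.isPGroup'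
  have hSi : ¬ p ∣ (S : Subgroup G).relIndex ⊤ := by
    rw [Subgroup.relIndex_top_right]; exact S.not_dvd_index
  have h1 : ¬ p ∣ ((S : Subgroup G) ⊓ E).relIndex E :=
    helper10.relSylow_inf_normal (⊤ : Subgroup G) (S : Subgroup G) E le_top hSp hSi le_top hEn
  have hSEp : IsPGroup p ↥((S : Subgroup G) ⊓ E) := hSp.to_le inf_le_left
  have h2 : ¬ p ∣ (((S : Subgroup G) ⊓ E) ⊓ L).relIndex L :=
    helper10.relSylow_inf_normal E ((S : Subgroup G) ⊓ E) L inf_le_right hSEp h1 hLE hELn
  have h3 : ((S : Subgroup G) ⊓ E) ⊓ L = (S : Subgroup G) ⊓ L := by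
    rw [inf_assoc, inf_eq_right.2 hLE]
  rw [h3] at h2
  have hSLp : IsPGroup p ↥((S : Subgroup G) ⊓ L) := hSp.to_le inf_le_left
  have hPp : IsPGroup p ↥(((S : Subgroup G) ⊓ L).subgroupOf L) := hSLp.comap_subtype
  have hidx : ¬ p ∣ (((S : Subgroup G) ⊓ L).subgroupOf L).index := h2
  set P : Sylow p ↥L := hPp.toSylow hidx with hP
  have hPcoe : (P : Subgroup ↥L) = ((S : Subgroup G) ⊓ L).subgroupOf L := IsPGroup.toSylow_coe _ _
  by_contra hcon
  push Not at hcon
  haveI : Group.IsPerfect ↥L := Subgroup.isPerfect_iff.2 hL.2.1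
  have k3 : ∀ v ∈ (P : Subgroup ↥L), v ^ p = 1 → ∀ g : ↥L, g * v * g⁻¹ ∈ (P : Subgroup ↥L) →
      g * v * g⁻¹ = v := by
    intro v hv hvp g _
    rw [hPcoe, Subgroup.mem_subgroupOf] at hv
    have hvpG : (v : G) ^ p = 1 := by
      have h := congrArg Subtype.val hvp
      simpa using h
    have hc := hcon (v : G) hv hvpG
    have h4 : Commute (g : G) (v : G) := Subgroup.mem_centralizer_iff.1 hc g g.2
    apply Subtype.ext
    have h5 : (g : G) * (v : G) * (g : G)⁻¹ = (v : G) := by rw [h4.eq]; group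
    simpa using h5
  obtain ⟨N, hN, hNc⟩ := npc_of_no_fusion hp2 P k3
  haveI := hN
  have hPbot := sylow_eq_bot_of_perfect_of_npc P N hNc
  have hndvd : ¬ p ∣ Nat.card ↥L := fun hd => P.ne_bot_of_dvd_card hd hPbot
  have hpi : PiGrp {q | q ≠ p} L := by
    rw [piGrp_iff_card]
    intro q hq hdvd
    show q ≠ p
    intro hqp
    rw [hqp] at hdvd
    exact hndvd hdvd
  have hle : L ≤ piCoreIn {q | q ≠ p} ⊤ := le_piCoreIn_of_sn hL.1 hpi
  rw [← pPrimeCore_eq hp.out, hcore] at hle
  exact hL.2.2.1 (le_bot_iff.1 hle)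

/-- Main theorem on isolated elements of order `p` in groups of `p`-rank at most `2`. -/
theorem iso_main (hp2 : p ≠ 2) (hcore : Cfsg.pPrimeCore p G = ⊥) (hr : Cfsg.PRankLE p 2 G) (x : G)
    (hx : orderOf x = p) (hiso : Cfsg.IsIsolated x) (hnc : x ∉ Subgroup.center G) :
    ∃ L : Subgroup G, Cfsg.generalizedFittingSubgroup G = L ∧ QS L ∧
      L ⊓ Subgroup.centralizer (L : Set G) = ⊥ := by
  classical
  have hxp : x ^ p = 1 := by rw [← hx]; exact pow_orderOf_eq_one x
  have hx1 : x ≠ 1 := by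
    intro h
    rw [h, orderOf_one] at hx
    exact hp.out.ne_one hx.symm
  set Q : Subgroup G := fitOf (⊤ : Subgroup G) with hQ
  set E : Subgroup G := layerOf (⊤ : Subgroup G) with hE
  have hQpi : PiGrp {p} Q := by
    have h1 : Q ≤ piCoreIn {p} ⊤ := by
      rw [hQ, fitOf_eq_iSup]
      apply iSup_le
      rintro ⟨q, hq⟩
      by_cases hqp : q = p
      · show piCoreIn {q} (⊤ : Subgroup G) ≤ piCoreIn {p} ⊤
        rw [hqp]
      · have h2 : PiGrp {r | r ≠ p} (piCoreIn {q} (⊤ : Subgroup G)) := by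
          intro y hy r hr' hdvd
          have h4 := piCoreIn_piGrp {q} (⊤ : Subgroup G) y hy r hr' hdvd
          rw [Set.mem_singleton_iff] at h4
          show r ≠ p
          rw [h4]
          exact hqp
        have h3 : piCoreIn {q} (⊤ : Subgroup G) ≤ piCoreIn {r | r ≠ p} ⊤ :=
          le_piCoreIn_of_sn (SN.of_normal (piCoreIn_le _ _) (piCoreIn_normal _ _)) h2
        rw [← pPrimeCore_eq hp.out, hcore] at h3
        exact h3.trans bot_le
    exact (piCoreIn_piGrp {p} ⊤).mono h1
  have hQp : IsPGroup p Q := (isPGroup_iff_piGrp hp.out).2 hQpi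
  haveI hQn : Q.Normal := Subgroup.normalizer_eq_top_iff.1 (top_le_iff.1 (fitOf_normal ⊤))
  have hzx : IsPGroup p (Subgroup.zpowers x) := by
    intro y
    obtain ⟨k, hk⟩ := Subgroup.mem_zpowers_iff.1 y.2
    refine ⟨1, Subtype.ext ?_⟩
    rw [pow_one, Subgroup.coe_pow, Subgroup.coe_one, ← hk, ← zpow_natCast, ← zpow_mul, mul_comm,
      zpow_mul, zpow_natCast, hxp, one_zpow]
  have hT : IsPGroup p (Q ⊔ Subgroup.zpowers x : Subgroup G) := by
    rw [isPGroup_iff_piGrp hp.out]
    refine hQpi.sup ((isPGroup_iff_piGrp hp.out).1 hzx) ?_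
    rw [Subgroup.normalizer_eq_top_iff.2 hQn]
    exact le_top
  have hxQ : ∀ q ∈ Q, q * x = x * q := by
    intro q hq
    exact iso_central_of_pgroup _ hT x
      ((le_sup_right : _ ≤ Q ⊔ Subgroup.zpowers x) (Subgroup.mem_zpowers x))
      (fun g _ hg => hiso g hg) q ((le_sup_left : Q ≤ _) hq)
  have hxnQ : x ∉ Q := by
    intro hxQ'
    apply hnc
    rw [Subgroup.mem_center_iff]
    intro g
    have h1 : g * x * g⁻¹ ∈ Q := hQn.conj_mem x hxQ' g
    have h2 : Commute x (g * x * g⁻¹) := (hxQ _ h1).symm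
    have h3 := hiso g h2
    calc g * x = g * x * g⁻¹ * g := by group
      _ = x * g := by rw [h3]
  obtain ⟨S, hS⟩ := hzx.exists_le_sylow
  have hxS : x ∈ (S : Subgroup G) := hS (Subgroup.mem_zpowers x)
  have hSx : ∀ s ∈ (S : Subgroup G), s * x = x * s :=
    iso_central_of_pgroup _ S.isPGroup' x hxS (fun g _ hg => hiso g hg)
  have hFstar : Cfsg.generalizedFittingSubgroup G = E ⊔ Q := generalizedFittingSubgroup_eq
  have hex : ∃ L, Comp L (⊤ : Subgroup G) := by
    by_contra hne
    push Not at hne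
    have hE0 : E = ⊥ := by
      rw [hE]
      unfold layerOf
      rw [eq_bot_iff]
      apply sSup_le
      intro L hL
      exact absurd hL (hne L)
    have hfs : fstarOf (⊤ : Subgroup G) = Q := by
      unfold fstarOf
      rw [← hE, hE0, bot_sup_eq]
    have h1 := centralizer_fstarOf_le (⊤ : Subgroup G)
    have h2 : x ∈ (⊤ : Subgroup G) ⊓ Subgroup.centralizer (fstarOf (⊤ : Subgroup G) : Set G) := by
      refine Subgroup.mem_inf.2 ⟨Subgroup.mem_top x, ?_⟩
      rw [Subgroup.mem_centralizer_iff]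
      intro q hq
      rw [hfs] at hq
      exact hxQ q hq
    have h3 := h1 h2
    rw [hfs] at h3
    exact hxnQ h3
  obtain ⟨L, hL⟩ := hex
  have hQbot : Q = ⊥ := by
    by_contra hQne
    obtain ⟨n, hn⟩ := hQp.exists_card_eq
    have hn0 : n ≠ 0 := by
      intro h0
      rw [h0, pow_zero] at hn
      exact hQne (Subgroup.card_eq_one.1 hn)
    have hdvd : p ∣ Nat.card Q := by rw [hn]; exact dvd_pow_self p hn0
    obtain ⟨z', hz'⟩ := exists_prime_orderOf_dvd_card' (G := ↥Q) p hdvd
    have hoz : orderOf (z' : G) = p := by rw [Subgroup.orderOf_coe]; exact hz'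
    have hzQ : (z' : G) ∈ Q := z'.2
    have hzp : (z' : G) ^ p = 1 := by rw [← hoz]; exact pow_orderOf_eq_one _
    have hz1 : (z' : G) ≠ 1 := by
      intro h
      rw [h, orderOf_one] at hoz
      exact hp.out.ne_one hoz.symm
    have hQL : Q ≤ Subgroup.centralizer (L : Set G) := le_centralizer_of_comm_eq_bot hL.comm_fitOf
    obtain ⟨u, hu, hup, huc⟩ := comp_exists_noncentral hp2 hcore S L hL
    have huS := (Subgroup.mem_inf.1 hu).1
    have huL := (Subgroup.mem_inf.1 hu).2
    refine iso_key2 hp2 hr x hiso hxp L hL.2.1 (z' : G) (hQL hzQ) hz1 hzp u huL hup huc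
      (hSx u huS) (hxQ _ hzQ) ?_
    intro hxz
    exact hxnQ ((Subgroup.zpowers_le.2 hzQ) hxz)
  have huniq : ∀ L', Comp L' (⊤ : Subgroup G) → L' = L := by
    intro L' hL'
    by_contra hne
    have hcomm : ⁅L', L⁆ = ⊥ := hL'.comm_of_ne hL hne
    have hLc : L ≤ Subgroup.centralizer (L' : Set G) := le_centralizer_of_comm_eq_bot hcomm
    have hL'c : L' ≤ Subgroup.centralizer (L : Set G) :=
      le_centralizer_of_comm_eq_bot (hL.comm_of_ne hL' (Ne.symm hne))
    obtain ⟨u, hu, hup, huc⟩ := comp_exists_noncentral hp2 hcore S L hL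
    obtain ⟨u', hu', hup', huc'⟩ := comp_exists_noncentral hp2 hcore S L' hL'
    have huS := (Subgroup.mem_inf.1 hu).1
    have huL := (Subgroup.mem_inf.1 hu).2
    have hu'S := (Subgroup.mem_inf.1 hu').1
    have hu'L := (Subgroup.mem_inf.1 hu').2
    have hu1 : u ≠ 1 := by
      intro h
      apply huc
      rw [h]
      exact Subgroup.one_mem _
    have hu'1 : u' ≠ 1 := by
      intro h
      apply huc'
      rw [h]
      exact Subgroup.one_mem _
    by_cases hxz : x ∈ Subgroup.zpowers u'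
    · refine iso_key2 hp2 hr x hiso hxp L' hL'.2.1 u (hLc huL) hu1 hup u' hu'L hup' huc'
        (hSx u' hu'S) (hSx u huS) ?_
      intro hxu
      have hxc : x ∈ Subgroup.centralizer (L' : Set G) := hLc ((Subgroup.zpowers_le.2 huL) hxu)
      have hou' : orderOf u' = p := orderOf_eq_prime hup' hu'1
      have hzz : Subgroup.zpowers x = Subgroup.zpowers u' := by
        apply Subgroup.eq_of_le_of_card_ge
        · exact Subgroup.zpowers_le.2 hxz
        · rw [Nat.card_zpowers, Nat.card_zpowers, hx, hou']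
      have h5 : u' ∈ Subgroup.zpowers x := by rw [hzz]; exact Subgroup.mem_zpowers _
      exact huc' ((Subgroup.zpowers_le.2 hxc) h5)
    · exact iso_key2 hp2 hr x hiso hxp L hL.2.1 u' (hL'c hu'L) hu'1 hup' u huL hup huc
        (hSx u huS) (hSx u' hu'S) hxz
  refine ⟨L, ?_, hL.2, ?_⟩
  · rw [hFstar, hQbot, sup_bot_eq]
    apply le_antisymm
    · rw [hE]
      unfold layerOf
      apply sSup_le
      intro L' hL'
      rw [huniq L' hL']
    · exact comp_le_layerOf hL
  · set Z := L ⊓ Subgroup.centralizer (L : Set G) with hZ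
    have hZn : L ≤ Subgroup.normalizer (Z : Set G) := by
      intro l hl
      apply Subgroup.inf_normalizer_le_normalizer_inf
      exact ⟨Subgroup.le_normalizer hl,
        helper7.normalizer_le_normalizer_centralizer L (Subgroup.le_normalizer hl)⟩
    have hZsn : SN Z ⊤ := (SN.of_normal inf_le_left hZn).trans hL.1
    have hZc : ∀ a ∈ Z, ∀ b ∈ Z, a * b = b * a := by
      intro a ha b hb
      exact (Subgroup.mem_centralizer_iff.1 (Subgroup.mem_inf.1 hb).2 a (Subgroup.mem_inf.1 ha).1)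
    have hZnil : Group.IsNilpotent ↥Z := by
      letI : CommGroup ↥Z :=
        { (inferInstance : Group ↥Z) with
          mul_comm := fun a b => Subtype.ext (hZc a a.2 b b.2) }
      exact CommGroup.isNilpotent
    have h6 := nilpotent_sn_le_fitOf hZsn hZnil
    rw [← hQ, hQbot] at h6
    exact le_bot_iff.1 h6

end Iso

end Cfsg.Agent.helper23
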