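import Mathlib

set_option autoImplicit false

/-!
A finite `p`-group acting by translation on functions `P → k`, `k` a field of characteristic `p`:
every nonzero translation-stable subspace contains the constant function `1`.
-/

namespace Cfsg.Agent.helper23.Lat

open scoped Classical

/-- Left translation of functions on a group. -/
def trans {P : Type*} [Group P] {k : Type*} [AddCommGroup k] (y : P) : (P → k) →+ (P → k) where
  toFun d := fun x => d (y⁻¹ * x)
  map_zero' := rfl
  map_add' _ _ := rfl

theorem trans_apply {P : Type*} [Group P] {k : Type*} [AddCommGroup k] (y : P) (d : P → k) (x : P) :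
    trans y d x = d (y⁻¹ * x) := rfl

theorem trans_mul {P : Type*} [Group P] {k : Type*} [AddCommGroup k] (y z : P) (d : P → k) :
    trans (y * z) d = trans y (trans z d) := by
  funext x
  simp only [trans_apply, mul_inv_rev, mul_assoc]

theorem trans_one {P : Type*} [Group P] {k : Type*} [AddCommGroup k] (d : P → k) :
    trans (1 : P) d = d := by
  funext x
  simp [trans_apply]

theorem const_mem_of_stable {P : Type*} [Group P] [Finite P] {p : ℕ} [hp : Fact p.Prime]
    (hP : IsPGroup p P) {k : Type*} [Field k] [CharP k p]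
    (J : Submodule k (P → k)) (hJ : J ≠ ⊥)
    (hstab : ∀ y : P, ∀ d ∈ J, trans y d ∈ J) :
    (fun _ : P => (1 : k)) ∈ J := by
  have := Fintype.ofFinite P
  obtain ⟨v, hvJ, hv0⟩ := Submodule.exists_mem_ne_zero_of_ne_bot hJ
  let c : ZMod p →+* k := ZMod.castHom (dvd_refl p) k
  -- the additive map from `P → ZMod p`
  let Φ : (P → ZMod p) →+ (P → k) :=
    { toFun := fun n => ∑ y : P, c (n y) • trans y v
      map_zero' := by simp
      map_add' := by
        intro a b
        simp only [Pi.add_apply, map_add, add_smul, Finset.sum_add_distrib] }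
  have hΦ : ∀ n, Φ n = ∑ y : P, c (n y) • trans y v := fun _ => rfl
  let S : AddSubgroup (P → k) := Φ.range
  have hSJ : ∀ d ∈ S, d ∈ J := by
    rintro _ ⟨n, rfl⟩
    rw [hΦ]
    exact Submodule.sum_mem _ (fun y _ => Submodule.smul_mem _ _ (hstab y v hvJ))
  have hSstab : ∀ z : P, ∀ d ∈ S, trans z d ∈ S := by
    rintro z _ ⟨n, rfl⟩
    refine ⟨fun y => n (z⁻¹ * y), ?_⟩
    rw [hΦ, hΦ, map_sum]
    rw [← Fintype.sum_equiv (Equiv.mulLeft z) (fun y => trans z (c (n y) • trans y v))
      (fun y => c (n (z⁻¹ * y)) • trans y v)]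
    intro y
    simp only [Equiv.coe_mulLeft, inv_mul_cancel_left]
    funext x
    simp only [trans_apply, Pi.smul_apply, mul_inv_rev, mul_assoc]
  have hvS : v ∈ S := by
    refine ⟨fun y => if y = 1 then 1 else 0, ?_⟩
    rw [hΦ, Finset.sum_eq_single (1 : P)]
    · simp [trans_one]
    · intro b _ hb
      simp [hb]
    · intro h
      exact absurd (Finset.mem_univ _) h
  have hSfin : Finite S := by
    have : Finite (Set.range Φ) := Set.finite_range Φ
    exact this
  -- cardinality of S is a positive power of p
  have hcard : p ∣ Nat.card S := by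
    have h1 : Nat.card S ∣ Nat.card (P → ZMod p) := AddSubgroup.card_range_dvd Φ
    have h2 : Nat.card (P → ZMod p) = p ^ Nat.card P := by
      rw [Nat.card_fun, Nat.card_zmod]
    rw [h2] at h1
    obtain ⟨j, _, hj⟩ := (Nat.dvd_prime_pow hp.out).1 h1
    have hj0 : j ≠ 0 := by
      rintro rfl
      rw [pow_zero] at hj
      have hsub : Subsingleton S := (Nat.card_eq_one_iff_unique.1 hj).1
      have : (⟨v, hvS⟩ : S) = ⟨0, S.zero_mem⟩ := Subsingleton.elim _ _
      exact hv0 (congrArg Subtype.val this)
    rw [hj]
    exact dvd_pow_self p hj0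
  -- the action of P on S
  let act : MulAction P S :=
    { smul := fun y s => ⟨trans y s.1, hSstab y s.1 s.2⟩
      one_smul := fun s => Subtype.ext (trans_one s.1)
      mul_smul := fun y z s => Subtype.ext (trans_mul y z s.1) }
  have h0 : (0 : S) ∈ MulAction.fixedPoints P S := by
    intro y
    apply Subtype.ext
    show trans y (0 : P → k) = 0
    exact map_zero _
  obtain ⟨b, hb, hb0⟩ := hP.exists_fixed_point_of_prime_dvd_card_of_fixed_point S hcard h0
  have hbfix : ∀ y : P, trans y b.1 = b.1 := fun y => congrArg Subtype.val (hb y)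
  have hbconst : ∀ x : P, b.1 x = b.1 1 := by
    intro x
    have := congrFun (hbfix x) x
    rw [trans_apply, inv_mul_cancel] at this
    exact this.symm
  have hb1 : b.1 1 ≠ 0 := by
    intro h
    apply hb0
    apply Subtype.ext
    funext x
    rw [hbconst x, h]
    rfl
  have : (fun _ : P => (1 : k)) = (b.1 1)⁻¹ • b.1 := by
    funext x
    rw [Pi.smul_apply, hbconst x, smul_eq_mul, inv_mul_cancel₀ hb1]
  rw [this]
  exact Submodule.smul_mem _ _ (hSJ _ b.2)

end Cfsg.Agent.helper23.Lat
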