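import Mathlib
import Cfsg.Agent.Lib_helper23_Lat1

set_option autoImplicit false

/-!
Reduction modulo a valuation ring of `ℂ` dominating `ℤ_(p)`: if `σ w = -u` for `σ` the sum over a
`p`-subgroup `P`, `w` an integral combination of the `G`-translates of `u ≠ 0`, then the translates
`x w` (`x ∈ P`) are linearly independent.
-/

namespace Cfsg.Agent.helper23.Lat

open scoped Classical

/-- A valuation subring of `ℂ` in which `p` is not a unit. -/
theorem exists_valuationSubring (p : ℕ) (hp : p.Prime) :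
    ∃ B : ValuationSubring ℂ, B.valuation (p : ℂ) < 1 := by
  let A : Subring ℂ := ⊥
  have hpA : (p : ℂ) ∈ A := natCast_mem A p
  let I : Ideal A := Ideal.span {⟨(p : ℂ), hpA⟩}
  have hI : I ≠ ⊤ := by
    intro h
    rw [Ideal.span_singleton_eq_top] at h
    obtain ⟨b, hb⟩ := h.exists_right_inv
    obtain ⟨n, hn⟩ := Subring.mem_bot.1 b.2
    have h1 : ((p : ℂ)) * (n : ℂ) = 1 := by
      have := congrArg Subtype.val hb
      rw [hn]
      exact this
    have h2 : ((p : ℤ)) * n = 1 := by exact_mod_cast h1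
    have h3 : (p : ℤ) ∣ 1 := Dvd.intro _ h2
    have h4 : p ∣ 1 := by exact_mod_cast h3
    exact hp.one_lt.ne' (Nat.dvd_one.1 h4)
  obtain ⟨B, _, hB⟩ := Ideal.image_subset_nonunits_valuationSubring I hI
  refine ⟨B, ?_⟩
  rw [← ValuationSubring.mem_nonunits_iff]
  apply hB
  exact ⟨⟨(p : ℂ), hpA⟩, Ideal.subset_span rfl, rfl⟩

theorem linIndep_core {G : Type*} [Group G] [Fintype G] {p : ℕ} [hp : Fact p.Prime]
    (P : Subgroup G) (hP : IsPGroup p P) {W : Type*} [AddCommGroup W] [Module ℂ W]
    (τ : Representation ℂ G W) (u w : W) (hu : u ≠ 0) (ν : G → ℤ)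
    (hw : w = ∑ g : G, (ν g : ℂ) • τ g u) (hσ : ∑ x : P, τ (x : G) w = -u) :
    LinearIndependent ℂ (fun x : P => τ (x : G) w) := by
  obtain ⟨B, hpB⟩ := exists_valuationSubring p hp.out
  rw [Fintype.linearIndependent_iff]
  intro c₀ hc₀
  by_contra hne
  push_neg at hne
  obtain ⟨x1, hx1⟩ := hne
  -- residue field
  let res : B →+* IsLocalRing.ResidueField B := IsLocalRing.residue B
  have hchar : CharP (IsLocalRing.ResidueField B) p := by
    rw [CharP.charP_iff_prime_eq_zero hp.out]
    have h1 : ((p : ℕ) : IsLocalRing.ResidueField B) = res ((p : ℕ) : B) := by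
      rw [map_natCast]
    rw [h1, IsLocalRing.residue_eq_zero_iff, ValuationSubring.valuation_lt_one_iff]
    simpa using hpB
  -- the relation module
  have hτmul : ∀ a b : G, ∀ z : W, τ (a * b) z = τ a (τ b z) := by
    intro a b z
    rw [map_mul]
    rfl
  let J : Submodule (IsLocalRing.ResidueField B) (P → IsLocalRing.ResidueField B) :=
    { carrier := {d | ∃ c : P → B, (∑ x : P, (c x : ℂ) • τ (x : G) w = 0) ∧ ∀ x, d x = res (c x)}
      zero_mem' := ⟨fun _ => 0, by simp, by intro x; simp⟩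
      add_mem' := by
        rintro d d' ⟨c, hc, hd⟩ ⟨c', hc', hd'⟩
        refine ⟨fun x => c x + c' x, ?_, ?_⟩
        · have : ∀ x : P, (((c x + c' x : B)) : ℂ) • τ (x : G) w
              = (c x : ℂ) • τ (x : G) w + (c' x : ℂ) • τ (x : G) w := by
            intro x
            rw [← add_smul]
            push_cast
            rfl
          simp_rw [this]
          rw [Finset.sum_add_distrib, hc, hc', add_zero]
        · intro x
          rw [Pi.add_apply, hd x, hd' x, map_add]
      smul_mem' := by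
        rintro l d ⟨c, hc, hd⟩
        obtain ⟨ℓ, rfl⟩ := IsLocalRing.residue_surjective l
        refine ⟨fun x => ℓ * c x, ?_, ?_⟩
        · have : ∀ x : P, (((ℓ * c x : B)) : ℂ) • τ (x : G) w
              = (ℓ : ℂ) • ((c x : ℂ) • τ (x : G) w) := by
            intro x
            rw [smul_smul]
            push_cast
            rfl
          simp_rw [this]
          rw [← Finset.smul_sum, hc, smul_zero]
        · intro x
          rw [Pi.smul_apply, hd x, smul_eq_mul, map_mul] }
  have hJmem : ∀ d, d ∈ J ↔ ∃ c : P → B, (∑ x : P, (c x : ℂ) • τ (x : G) w = 0) ∧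
      ∀ x, d x = res (c x) := fun d => Iff.rfl
  -- J is nonzero
  have hJ : J ≠ ⊥ := by
    obtain ⟨x0, _, hx0⟩ := Finset.exists_max_image Finset.univ (fun x => B.valuation (c₀ x))
      ⟨x1, Finset.mem_univ _⟩
    have hv1 : B.valuation (c₀ x1) ≠ 0 := (Valuation.ne_zero_iff _).2 hx1
    have hv0 : B.valuation (c₀ x0) ≠ 0 := by
      intro h
      have := hx0 x1 (Finset.mem_univ _)
      rw [h] at this
      exact hv1 (le_zero_iff.1 this)
    have ha : c₀ x0 ≠ 0 := (Valuation.ne_zero_iff _).1 hv0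
    have hmem : ∀ x : P, c₀ x / c₀ x0 ∈ B := by
      intro x
      rw [← ValuationSubring.valuation_le_one_iff, map_div₀]
      exact (div_le_one₀ (zero_lt_iff.2 hv0)).2 (hx0 x (Finset.mem_univ _))
    intro hbot
    have hd : (fun x : P => res ⟨c₀ x / c₀ x0, hmem x⟩) ∈ J := by
      rw [hJmem]
      refine ⟨fun x => ⟨c₀ x / c₀ x0, hmem x⟩, ?_, fun x => rfl⟩
      have : ∀ x : P, ((⟨c₀ x / c₀ x0, hmem x⟩ : B) : ℂ) • τ (x : G) w
          = (c₀ x0)⁻¹ • (c₀ x • τ (x : G) w) := by
        intro x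
        rw [smul_smul]
        congr 1
        show c₀ x / c₀ x0 = _
        rw [div_eq_inv_mul]
      simp_rw [this]
      rw [← Finset.smul_sum, hc₀, smul_zero]
    rw [hbot, Submodule.mem_bot] at hd
    have h1 := congrFun hd x0
    have h2 : (⟨c₀ x0 / c₀ x0, hmem x0⟩ : B) = 1 := by
      apply Subtype.ext
      show c₀ x0 / c₀ x0 = 1
      exact div_self ha
    rw [h2, map_one] at h1
    exact one_ne_zero h1
  -- J is translation stable
  have hstab : ∀ y : P, ∀ d ∈ J, trans y d ∈ J := by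
    rintro y d ⟨c, hc, hd⟩
    refine ⟨fun x => c (y⁻¹ * x), ?_, fun x => by rw [trans_apply, hd]⟩
    rw [← Fintype.sum_equiv (Equiv.mulLeft y) (fun x' => (c x' : ℂ) • τ ((y : G)) (τ (x' : G) w))
      (fun x => ((c (y⁻¹ * x) : B) : ℂ) • τ (x : G) w)]
    · rw [← Finset.sum_congr rfl (fun x' _ => (map_smul (τ (y : G)) (c x' : ℂ) (τ (x' : G) w)))]
      rw [← map_sum, hc, map_zero]
    · intro x'
      simp only [Equiv.coe_mulLeft, inv_mul_cancel_left, Subgroup.coe_mul]
      rw [hτmul]
  have h1J := const_mem_of_stable (P := P) hP J hJ hstab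
  obtain ⟨c, hc, hc1⟩ := h1J
  -- m x = c x - 1 has valuation < 1
  have hm : ∀ x : P, B.valuation ((c x : ℂ) - 1) < 1 := by
    intro x
    have h1 : res (c x - 1) = 0 := by
      rw [map_sub, map_one, ← hc1 x, sub_self]
    rw [IsLocalRing.residue_eq_zero_iff, ValuationSubring.valuation_lt_one_iff] at h1
    simpa using h1
  have hu' : u = ∑ x : P, ((c x : ℂ) - 1) • τ (x : G) w := by
    simp_rw [sub_smul, one_smul]
    rw [Finset.sum_sub_distrib, hc, hσ]
    simp
  -- expand
  have hexp : ∀ h : G, τ h u = ∑ x : P, ∑ g : G, (((c x : ℂ) - 1) * (ν g : ℂ)) • τ (h * x * g) u := by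
    intro h
    conv_lhs => rw [hu']
    rw [map_sum]
    apply Finset.sum_congr rfl
    intro x _
    rw [map_smul, hw, map_sum, map_sum, Finset.smul_sum]
    apply Finset.sum_congr rfl
    intro g _
    rw [map_smul, map_smul, smul_smul, hτmul, hτmul]
  -- a functional
  obtain ⟨φ, hφ⟩ : ∃ φ : Module.Dual ℂ W, φ u ≠ 0 := by
    by_contra hcon
    push_neg at hcon
    exact hu ((Module.forall_dual_apply_eq_zero_iff ℂ u).1 hcon)
  obtain ⟨h0, _, hh0⟩ := Finset.exists_max_image Finset.univ
    (fun h : G => B.valuation (φ (τ h u))) ⟨1, Finset.mem_univ _⟩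
  have hγ : B.valuation (φ (τ h0 u)) ≠ 0 := by
    intro h
    have h1 := hh0 1 (Finset.mem_univ _)
    rw [h, map_one] at h1
    have : B.valuation (φ u) = 0 := le_zero_iff.1 h1
    exact hφ ((Valuation.zero_iff _).1 this)
  have key : B.valuation (φ (τ h0 u)) < B.valuation (φ (τ h0 u)) := by
    conv_lhs => rw [hexp h0, map_sum]
    apply Valuation.map_sum_lt _ hγ
    intro x _
    rw [map_sum]
    apply Valuation.map_sum_lt _ hγ
    intro g _
    rw [map_smul, smul_eq_mul, map_mul, map_mul]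
    have h1 : B.valuation ((ν g : ℂ)) ≤ 1 := by
      rw [ValuationSubring.valuation_le_one_iff]
      exact intCast_mem B (ν g)
    have h2 := hh0 (h0 * x * g) (Finset.mem_univ _)
    calc B.valuation ((c x : ℂ) - 1) * B.valuation (ν g : ℂ) * B.valuation (φ (τ (h0 * ↑x * g) u))
        ≤ B.valuation ((c x : ℂ) - 1) * 1 * B.valuation (φ (τ h0 u)) :=
          mul_le_mul' (mul_le_mul' le_rfl h1) h2
      _ = B.valuation ((c x : ℂ) - 1) * B.valuation (φ (τ h0 u)) := by rw [mul_one]
      _ < 1 * B.valuation (φ (τ h0 u)) :=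
          mul_lt_mul_of_pos_right (hm x) (zero_lt_iff.2 hγ)
      _ = B.valuation (φ (τ h0 u)) := one_mul _
  exact lt_irrefl _ key

end Cfsg.Agent.helper23.Lat
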