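import Mathlib

set_option autoImplicit false

/-!
For a TI Sylow `p`-subgroup `P` with normalizer `N`: `P` acts freely on the cosets of `N` other than
`N` itself.  Consequence for an `N`-fixed vector `u` with zero `G`-average: `u = -σ w` with `w` an
integral combination of translates of `u`.
-/

namespace Cfsg.Agent.helper23.Lat

open scoped Classical Pointwise

theorem exists_w {G : Type*} [Group G] [Fintype G] {p : ℕ} [hp : Fact p.Prime] (P : Sylow p G)
    (hTI : ∀ g : G, g ∉ Subgroup.normalizer ((P : Subgroup G) : Set G) →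
      (P : Subgroup G) ⊓ (MulAut.conj g • (P : Subgroup G)) = ⊥)
    {W : Type*} [AddCommGroup W] [Module ℂ W] (τ : Representation ℂ G W) (u : W)
    (hN : ∀ n ∈ Subgroup.normalizer ((P : Subgroup G) : Set G), τ n u = u)
    (hsum : ∑ g : G, τ g u = 0) :
    ∃ ν : G → ℤ, ∑ x : (P : Subgroup G), τ (x : G) (∑ g : G, (ν g : ℂ) • τ g u) = -u := by
  obtain ⟨N, hNdef⟩ : ∃ N : Subgroup G, N = Subgroup.normalizer ((P : Subgroup G) : Set G) := ⟨_, rfl⟩
  rw [← hNdef] at hTI hN
  have hPN : (P : Subgroup G) ≤ N := by rw [hNdef]; exact Subgroup.le_normalizer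
  have hτmul : ∀ a b : G, ∀ z : W, τ (a * b) z = τ a (τ b z) := by
    intro a b z
    rw [map_mul]
    rfl
  -- p-elements of N lie in P
  have hpel : ∀ y ∈ N, (∃ k : ℕ, y ^ p ^ k = 1) → y ∈ (P : Subgroup G) := by
    rintro y hy ⟨k, hk⟩
    have hz : IsPGroup p (Subgroup.zpowers y) := by
      rintro ⟨z, hz⟩
      obtain ⟨j, rfl⟩ := Subgroup.mem_zpowers_iff.1 hz
      refine ⟨k, Subtype.ext ?_⟩
      show (y ^ j) ^ p ^ k = 1
      rw [← zpow_natCast, ← zpow_mul, mul_comm, zpow_mul, zpow_natCast, hk, one_zpow]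
    have hle : Subgroup.zpowers y ≤ Subgroup.normalizer ((P : Subgroup G) : Set G) := by
      rw [Subgroup.zpowers_le, ← hNdef]
      exact hy
    have hsup : IsPGroup p ((P : Subgroup G) ⊔ Subgroup.zpowers y : Subgroup G) :=
      IsPGroup.to_sup_of_normal_left' P.2 hz hle
    have h1 := P.is_maximal' hsup le_sup_left
    have h2 : Subgroup.zpowers y ≤ (P : Subgroup G) := by
      rw [← h1]
      exact le_sup_right
    exact h2 (Subgroup.mem_zpowers y)
  -- freeness
  have hfree : ∀ x ∈ (P : Subgroup G), ∀ n ∈ N, ∀ g : G, g ∉ N → x * g * n = g → x = 1 ∧ n = 1 := by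
    intro x hx n hn g hg h
    have hy : g⁻¹ * x * g = n⁻¹ := by
      have : g⁻¹ * x * g * n = 1 := by
        rw [mul_assoc, mul_assoc, ← mul_assoc x, h, inv_mul_cancel]
      exact eq_inv_of_mul_eq_one_left this
    have hyN : g⁻¹ * x * g ∈ N := by rw [hy]; exact N.inv_mem hn
    obtain ⟨k, hk⟩ := P.2 ⟨x, hx⟩
    have hk' : x ^ p ^ k = 1 := congrArg Subtype.val hk
    have hyP : g⁻¹ * x * g ∈ (P : Subgroup G) := by
      apply hpel _ hyN ⟨k, ?_⟩
      have : g⁻¹ * x * g = (MulAut.conj g⁻¹) x := by simp [MulAut.conj_apply]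
      rw [this, ← map_pow, hk', map_one]
    have hxc : x ∈ MulAut.conj g • (P : Subgroup G) := by
      rw [Subgroup.mem_pointwise_smul_iff_inv_smul_mem]
      have : (MulAut.conj g)⁻¹ • x = g⁻¹ * x * g := by
        rw [← map_inv, MulAut.smul_def, MulAut.conj_apply, inv_inv]
      rw [this]
      exact hyP
    have hmem : x ∈ (P : Subgroup G) ⊓ MulAut.conj g • (P : Subgroup G) := ⟨hx, hxc⟩
    rw [hTI g hg, Subgroup.mem_bot] at hmem
    subst hmem
    refine ⟨rfl, ?_⟩
    rw [one_mul] at h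
    exact mul_eq_left.mp h
  -- the double coset relation
  let s : Setoid G :=
    { r := fun g g' => ∃ x ∈ (P : Subgroup G), ∃ n ∈ N, g' = x * g * n
      iseqv := ⟨fun g => ⟨1, one_mem _, 1, one_mem _, by simp⟩,
        by
          rintro g g' ⟨x, hx, n, hn, rfl⟩
          exact ⟨x⁻¹, inv_mem hx, n⁻¹, inv_mem hn, by group⟩,
        by
          rintro g g' g'' ⟨x, hx, n, hn, rfl⟩ ⟨x', hx', n', hn', rfl⟩
          exact ⟨x' * x, mul_mem hx' hx, n * n', mul_mem hn hn', by group⟩⟩ }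
  let rep : G → G := fun g => (Quotient.mk s g).out
  have hrep : ∀ g, ∃ x ∈ (P : Subgroup G), ∃ n ∈ N, g = x * rep g * n := by
    intro g
    exact Quotient.exact (Quotient.out_eq (Quotient.mk s g))
  have hrep_eq : ∀ g g', (∃ x ∈ (P : Subgroup G), ∃ n ∈ N, g' = x * g * n) → rep g = rep g' := by
    intro g g' h
    show (Quotient.mk s g).out = (Quotient.mk s g').out
    have : Quotient.mk s g = Quotient.mk s g' := Quotient.sound h
    rw [this]
  have hclassN : ∀ g g', (∃ x ∈ (P : Subgroup G), ∃ n ∈ N, g' = x * g * n) → g ∈ N → g' ∈ N := by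
    rintro g g' ⟨x, hx, n, hn, rfl⟩ hg
    exact N.mul_mem (N.mul_mem (hPN hx) hg) hn
  let T : Finset G := (Finset.univ.filter (fun g => g ∉ N)).image rep
  have hT : ∀ t ∈ T, t ∉ N ∧ rep t = t := by
    intro t ht
    obtain ⟨g, hg, rfl⟩ := Finset.mem_image.1 ht
    have hgN : g ∉ N := (Finset.mem_filter.1 hg).2
    obtain ⟨x, hx, n, hn, hgx⟩ := hrep g
    constructor
    · intro hcon
      exact hgN (hclassN (rep g) g ⟨x, hx, n, hn, hgx⟩ hcon)
    · exact hrep_eq (rep g) g ⟨x, hx, n, hn, hgx⟩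
  refine ⟨fun g => if g ∈ T then 1 else 0, ?_⟩
  have hw : (∑ g : G, (((if g ∈ T then (1 : ℤ) else 0) : ℤ) : ℂ) • τ g u) = ∑ t ∈ T, τ t u := by
    have : ∀ g : G, (((if g ∈ T then (1 : ℤ) else 0) : ℤ) : ℂ) • τ g u
        = if g ∈ T then τ g u else 0 := by
      intro g
      split_ifs <;> simp
    simp_rw [this]
    rw [Finset.sum_ite_mem, Finset.univ_inter]
  rw [hw]
  -- the sum over N
  have hcardN : (Finset.univ.filter (fun g : G => g ∈ N)).card = Fintype.card N :=
    (Fintype.card_of_subtype _ (fun x => by simp)).symm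
  have h1 : ∑ g ∈ Finset.univ.filter (fun g : G => g ∈ N), τ g u = (Fintype.card N) • u := by
    rw [Finset.sum_congr rfl (fun g hg => hN g (Finset.mem_filter.1 hg).2), Finset.sum_const, hcardN]
  -- the sum over the complement
  have hbij : ∑ a ∈ (Finset.univ : Finset (P : Subgroup G)) ×ˢ T ×ˢ (Finset.univ : Finset N),
      τ ((a.1 : G) * a.2.1 * (a.2.2 : G)) u
        = ∑ g ∈ Finset.univ.filter (fun g : G => g ∉ N), τ g u := by
    apply Finset.sum_bij (fun a _ => (a.1 : G) * a.2.1 * (a.2.2 : G))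
    · intro a ha
      have hat : a.2.1 ∈ T := (Finset.mem_product.1 (Finset.mem_product.1 ha).2).1
      rw [Finset.mem_filter]
      refine ⟨Finset.mem_univ _, ?_⟩
      intro hcon
      apply (hT _ hat).1
      have : a.2.1 = (a.1 : G)⁻¹ * ((a.1 : G) * a.2.1 * (a.2.2 : G)) * (a.2.2 : G)⁻¹ := by group
      rw [this]
      exact N.mul_mem (N.mul_mem (N.inv_mem (hPN a.1.2)) hcon) (N.inv_mem a.2.2.2)
    · intro a ha b hb hab
      have hat : a.2.1 ∈ T := (Finset.mem_product.1 (Finset.mem_product.1 ha).2).1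
      have hbt : b.2.1 ∈ T := (Finset.mem_product.1 (Finset.mem_product.1 hb).2).1
      have hrel : b.2.1 = ((b.1 : G)⁻¹ * (a.1 : G)) * a.2.1 * ((a.2.2 : G) * (b.2.2 : G)⁻¹) := by
        have : b.2.1 = (b.1 : G)⁻¹ * ((b.1 : G) * b.2.1 * (b.2.2 : G)) * (b.2.2 : G)⁻¹ := by group
        rw [this, ← hab]
        group
      have hteq : a.2.1 = b.2.1 := by
        rw [← (hT _ hat).2, ← (hT _ hbt).2]
        exact hrep_eq _ _ ⟨_, mul_mem (inv_mem b.1.2) a.1.2, _, N.mul_mem a.2.2.2 (N.inv_mem b.2.2.2), hrel⟩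
      rw [← hteq] at hrel
      obtain ⟨e1, e2⟩ := hfree _ (mul_mem (inv_mem b.1.2) a.1.2) _
        (N.mul_mem a.2.2.2 (N.inv_mem b.2.2.2)) a.2.1 (hT _ hat).1 hrel.symm
      have e1' : (a.1 : G) = b.1 := by
        have := inv_mul_eq_one.1 e1
        exact this.symm
      have e2' : (a.2.2 : G) = b.2.2 := mul_inv_eq_one.1 e2
      apply Prod.ext
      · exact Subtype.ext e1'
      · apply Prod.ext
        · exact hteq
        · exact Subtype.ext e2'
    · intro g hg
      have hgN : g ∉ N := (Finset.mem_filter.1 hg).2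
      obtain ⟨x, hx, n, hn, hgx⟩ := hrep g
      refine ⟨(⟨x, hx⟩, rep g, ⟨n, hn⟩), ?_, hgx.symm⟩
      rw [Finset.mem_product, Finset.mem_product]
      exact ⟨Finset.mem_univ _, Finset.mem_image.2 ⟨g, Finset.mem_filter.2 ⟨Finset.mem_univ _, hgN⟩, rfl⟩,
        Finset.mem_univ _⟩
    · intro a _
      rfl
  have h2 : ∑ g ∈ Finset.univ.filter (fun g : G => g ∉ N), τ g u
      = (Fintype.card N) • ∑ x : (P : Subgroup G), τ (x : G) (∑ t ∈ T, τ t u) := by
    rw [← hbij, Finset.sum_product, Finset.smul_sum]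
    apply Finset.sum_congr rfl
    intro x _
    rw [Finset.sum_product, map_sum, Finset.smul_sum]
    apply Finset.sum_congr rfl
    intro t _
    have : ∀ n : N, τ ((x : G) * t * (n : G)) u = τ (x : G) (τ t u) := by
      intro n
      rw [hτmul, hN n n.2, hτmul]
    rw [Finset.sum_congr rfl (fun n _ => this n), Finset.sum_const, Finset.card_univ]
  have htot : (Fintype.card N : ℂ) • (u + ∑ x : (P : Subgroup G), τ (x : G) (∑ t ∈ T, τ t u)) = 0 := by
    rw [Nat.cast_smul_eq_nsmul, smul_add, ← h1, ← h2,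
      Finset.sum_filter_add_sum_filter_not Finset.univ (fun g : G => g ∈ N), hsum]
  have hne : (Fintype.card N : ℂ) ≠ 0 := by
    have : Fintype.card N ≠ 0 := Fintype.card_ne_zero
    exact_mod_cast this
  have := (smul_eq_zero.1 htot).resolve_left hne
  exact (eq_neg_of_add_eq_zero_right this)

end Cfsg.Agent.helper23.Lat
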