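import Mathlib
import Cfsg.Agent.Lib_helper23_Lat2
import Cfsg.Agent.Lib_helper23_Lat3

set_option autoImplicit false

/-!
TI Sylow `p`-subgroup `P`, `N = N_G(P)`: in a complex representation of dimension at most `|P|` having a
nonzero `G`-fixed vector, every `N`-fixed vector is `G`-fixed.
-/

namespace Cfsg.Agent.helper23.Lat

open scoped Classical Pointwise

theorem invariant_of_normalizer_invariant {G : Type*} [Group G] [Fintype G] {p : ℕ}
    [hp : Fact p.Prime] (P : Sylow p G)
    (hTI : ∀ g : G, g ∉ Subgroup.normalizer ((P : Subgroup G) : Set G) →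
      (P : Subgroup G) ⊓ (MulAut.conj g • (P : Subgroup G)) = ⊥)
    {W : Type*} [AddCommGroup W] [Module ℂ W] [FiniteDimensional ℂ W] (τ : Representation ℂ G W)
    (hdim : Module.finrank ℂ W ≤ Nat.card (P : Subgroup G))
    (e : W) (he : ∀ g : G, τ g e = e) (he0 : e ≠ 0)
    (f : W) (hf : ∀ n ∈ Subgroup.normalizer ((P : Subgroup G) : Set G), τ n f = f) :
    ∀ g : G, τ g f = f := by
  have hτmul : ∀ a b : G, ∀ z : W, τ (a * b) z = τ a (τ b z) := by
    intro a b z
    rw [map_mul]
    rfl
  let A : W →ₗ[ℂ] W := ∑ g : G, τ g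
  have hA : ∀ z, A z = ∑ g : G, τ g z := by
    intro z
    simp [A, LinearMap.sum_apply]
  have hAτ : ∀ h : G, ∀ z, A (τ h z) = A z := by
    intro h z
    rw [hA, hA]
    rw [← Fintype.sum_equiv (Equiv.mulRight h) (fun g => τ g (τ h z)) (fun g => τ g z)]
    intro g
    simp only [Equiv.coe_mulRight]
    rw [hτmul]
  have hτA : ∀ h : G, ∀ z, τ h (A z) = A z := by
    intro h z
    rw [hA, map_sum]
    rw [Fintype.sum_equiv (Equiv.mulLeft h) (fun g => τ h (τ g z)) (fun g => τ g z)]
    intro g
    simp only [Equiv.coe_mulLeft]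
    rw [hτmul]
  have hAA : ∀ z, A (A z) = (Fintype.card G : ℂ) • A z := by
    intro z
    rw [hA (A z), Finset.sum_congr rfl (fun g _ => hτA g z), Finset.sum_const, Finset.card_univ,
      Nat.cast_smul_eq_nsmul]
  have hcard : (Fintype.card G : ℂ) ≠ 0 := by
    have : Fintype.card G ≠ 0 := Fintype.card_ne_zero
    exact_mod_cast this
  obtain ⟨u, hu⟩ : ∃ u : W, u = f - (Fintype.card G : ℂ)⁻¹ • A f := ⟨_, rfl⟩
  have huN : ∀ n ∈ Subgroup.normalizer ((P : Subgroup G) : Set G), τ n u = u := by
    intro n hn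
    rw [hu, map_sub, map_smul, hf n hn, hτA]
  have hAu : A u = 0 := by
    rw [hu, map_sub, map_smul, hAA, smul_smul, inv_mul_cancel₀ hcard, one_smul, sub_self]
  by_cases hu0 : u = 0
  · intro g
    have hfe : f = (Fintype.card G : ℂ)⁻¹ • A f := by
      rw [hu0] at hu
      exact sub_eq_zero.1 hu.symm
    rw [hfe, map_smul, hτA]
  · exfalso
    have hsum : ∑ g : G, τ g u = 0 := by rw [← hA, hAu]
    obtain ⟨ν, hν⟩ := exists_w P hTI τ u huN hsum
    obtain ⟨w, hw⟩ : ∃ w : W, w = ∑ g : G, (ν g : ℂ) • τ g u := ⟨_, rfl⟩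
    rw [← hw] at hν
    have hli := linIndep_core (P : Subgroup G) P.2 τ u w hu0 ν hw hν
    have hAw : A w = 0 := by
      rw [hw, map_sum]
      apply Finset.sum_eq_zero
      intro g _
      rw [map_smul, hAτ, hAu, smul_zero]
    have hspan : Submodule.span ℂ (Set.range (fun x : (P : Subgroup G) => τ (x : G) w)) ≤ LinearMap.ker A := by
      rw [Submodule.span_le]
      rintro _ ⟨x, rfl⟩
      show A (τ (x : G) w) = 0
      rw [hAτ, hAw]
    have h1 : Module.finrank ℂ (Submodule.span ℂ (Set.range (fun x : (P : Subgroup G) => τ (x : G) w)))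
        = Fintype.card (P : Subgroup G) := finrank_span_eq_card hli
    have h2 := Submodule.finrank_mono hspan
    have hker : LinearMap.ker A ≠ ⊤ := by
      intro h
      have : e ∈ LinearMap.ker A := by rw [h]; exact Submodule.mem_top
      rw [LinearMap.mem_ker, hA, Finset.sum_congr rfl (fun g _ => he g), Finset.sum_const,
        Finset.card_univ, ← Nat.cast_smul_eq_nsmul ℂ] at this
      exact he0 ((smul_eq_zero.1 this).resolve_left hcard)
    have h3 := Submodule.finrank_lt hker
    rw [Nat.card_eq_fintype_card] at hdim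
    omega

end Cfsg.Agent.helper23.Lat
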