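import Mathlib
import Cfsg.Prelude.Def_SolvableStructure
import Cfsg.Agent.Lib_helper23_SysNorm
import Cfsg.Agent.Lib_helper23_SysNorm2
import Cfsg.Agent.Lib_helper23_Hall
import Cfsg.Agent.Lib_helper23_HallConv
import Cfsg.Agent.Lib_helper23_Carter
import Cfsg.Agent.Lib_helper23_CoverAvoid
import Cfsg.Agent.Lib_helper1_Core
import Cfsg.Agent.Lib_helper3_Basic
import Cfsg.Agent.Lib_helper18_SolvPrim

set_option autoImplicit false
set_option linter.deprecated false
set_option linter.style.haveILetI false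

namespace Cfsg.Agent.helper23
universe u
open scoped Pointwise commutatorElement

/-- In a nilpotent group every Hall `p`-complement is normal. -/
theorem complement_normal_of_nilpotent {X : Type u} [Group X] [Finite X]
    (hX : Group.IsNilpotent X) {p : ℕ} (hp : p.Prime) {H : Subgroup X}
    (hH : H.index = p ^ (Nat.card X).factorization p) : H.Normal := by
  classical
  haveI : Fact p.Prime := ⟨hp⟩
  have hcop : (Nat.card H).Coprime p := card_coprime_of_index_eq hp hH
  have hle : H ≤ Cfsg.pPrimeCore p X := by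
    intro h hh
    apply mem_pPrimeCore_of_nilpotent hX p h (Nat.card H) _ hcop
    have h1 : (⟨h, hh⟩ : H) ^ Nat.card H = 1 := pow_card_eq_one'
    have h2 := congrArg Subtype.val h1
    rw [Subgroup.coe_pow, Subgroup.coe_one] at h2
    exact h2
  have hcard : Nat.card (Cfsg.pPrimeCore p X) ∣ Nat.card H := by
    have h1 : Nat.card (Cfsg.pPrimeCore p X) ∣ Nat.card X := Subgroup.card_subgroup_dvd_card _
    rw [← Subgroup.card_mul_index H, hH] at h1
    exact Nat.Coprime.dvd_of_dvd_mul_right
      (Nat.Coprime.pow_right _ (helper1.pPrimeCore_coprime p)) h1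
  have heq : H = Cfsg.pPrimeCore p X :=
    Subgroup.eq_of_le_of_card_ge hle (Nat.le_of_dvd Nat.card_pos hcard)
  rw [heq]; exact helper1.pPrimeCore_normal p

/-- The system normalizer of a nilpotent group is the whole group. -/
theorem systemNormalizer_eq_top_of_nilpotent {X : Type u} [Group X] [Finite X]
    (hX : Group.IsNilpotent X) (K : Nat.Primes → Subgroup X)
    (hK : Cfsg.IsComplementSystem K) : Cfsg.systemNormalizer K = ⊤ := by
  unfold Cfsg.systemNormalizer
  rw [iInf_eq_top]
  intro p
  exact Subgroup.normalizer_eq_top_iff.mpr (complement_normal_of_nilpotent hX p.2 (hK p))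

/-- Nilpotent-by-nilpotent groups are solvable. -/
theorem solvable_of_nilpotent_by_nilpotent {G : Type u} [Group G] (F : Subgroup G) [F.Normal]
    (hF : Group.IsNilpotent F) (hGF : Group.IsNilpotent (G ⧸ F)) : Group.IsSolvable G := by
  haveI := hF
  haveI := hGF
  apply solvable_of_ker_le_range F.subtype (QuotientGroup.mk' F)
  rw [QuotientGroup.ker_mk', Subgroup.range_subtype]

/-- Existence of Hall complement systems in finite solvable groups. -/
theorem exists_complementSystem {G : Type u} [Group G] [Finite G] [Group.IsSolvable G] :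
    ∃ K : Nat.Primes → Subgroup G, Cfsg.IsComplementSystem K := by
  classical
  have hn0 : Nat.card G ≠ 0 := Nat.card_pos.ne'
  have hex : ∀ p : Nat.Primes, ∃ Q : Subgroup G,
      Q.index = (p : ℕ) ^ (Nat.card G).factorization p := by
    intro p
    obtain ⟨Q, hQcard⟩ := hall_exists (G := G)
      (Nat.card G / (p : ℕ) ^ (Nat.card G).factorization p)
      ((p : ℕ) ^ (Nat.card G).factorization p)
      (Nat.div_mul_cancel (Nat.ordProj_dvd _ _)).symm
      (Nat.Coprime.pow_right _ (Nat.coprime_ordCompl p.2 hn0).symm)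
    refine ⟨Q, ?_⟩
    have h1 := Subgroup.card_mul_index Q
    rw [hQcard] at h1
    have h2 : Nat.card G / (p : ℕ) ^ (Nat.card G).factorization p *
        (p : ℕ) ^ (Nat.card G).factorization p = Nat.card G :=
      Nat.div_mul_cancel (Nat.ordProj_dvd _ _)
    have h3 : 0 < Nat.card G / (p : ℕ) ^ (Nat.card G).factorization p :=
      Nat.div_pos (Nat.le_of_dvd Nat.card_pos (Nat.ordProj_dvd _ _)) (pow_pos p.2.pos _)
    exact Nat.eq_of_mul_eq_mul_left h3 (h1.trans h2.symm)
  choose K hK using hex
  exact ⟨K, hK⟩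

/-- A minimal normal subgroup contained in a nilpotent normal subgroup is centralized by it. -/
theorem commutator_eq_bot_of_minimal_le_nilpotent {G : Type u} [Group G] (F N : Subgroup G)
    [F.Normal] [N.Normal] (hF : Group.IsNilpotent F) (hNF : N ≤ F) (hNb : N ≠ ⊥)
    (hNmin : ∀ X : Subgroup G, X.Normal → X ≤ N → X = ⊥ ∨ X = N) : ⁅N, F⁆ = ⊥ := by
  have hn : (⁅N, F⁆ : Subgroup G).Normal := inferInstance
  rcases hNmin _ hn (Subgroup.commutator_le_left N F) with h | h
  · exact h
  · exfalso
    obtain ⟨n, hn⟩ := (Subgroup.isNilpotent_iff_lowerCentralSeries F).mp hF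
    have hall : ∀ k : ℕ, N ≤ F.lowerCentralSeries k := by
      intro k
      induction k with
      | zero => exact hNF
      | succ k ih =>
        rw [Subgroup.lowerCentralSeries_succ]
        calc N = ⁅N, F⁆ := h.symm
          _ ≤ ⁅F.lowerCentralSeries k, F⁆ := Subgroup.commutator_mono ih le_rfl
    have h1 := hall n
    rw [hn, le_bot_iff] at h1
    exact hNb h1

/-- Key lemma: in a nilpotent-by-nilpotent group, system normalizers are self-normalizing. -/
theorem normalizer_systemNormalizer_aux : ∀ (n : ℕ) (G : Type u) [Group G] [Finite G]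
    (F : Subgroup G) [F.Normal], Nat.card G = n → Group.IsNilpotent F →
    Group.IsNilpotent (G ⧸ F) → ∀ K : Nat.Primes → Subgroup G, Cfsg.IsComplementSystem K →
      Subgroup.normalizer ((Cfsg.systemNormalizer K : Subgroup G) : Set G) ≤
        Cfsg.systemNormalizer K := by
  intro n
  induction n using Nat.strong_induction_on with
  | _ n ih =>
  intro G _ _ F _ hn hF hGF K hK
  classical
  haveI hsolv : Group.IsSolvable G := solvable_of_nilpotent_by_nilpotent F hF hGF
  obtain ⟨D, hD⟩ : ∃ D : Subgroup G, D = Cfsg.systemNormalizer K := ⟨_, rfl⟩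
  rw [← hD]
  -- `G = D F`
  have hDF : D ⊔ F = ⊤ := by
    obtain ⟨hKb, hDb⟩ := systemNormalizer_map K hK F
    rw [systemNormalizer_eq_top_of_nilpotent hGF _ hKb, ← hD] at hDb
    have h1 := congrArg (Subgroup.comap (QuotientGroup.mk' F)) hDb
    rw [Subgroup.comap_top, Subgroup.comap_map_eq, QuotientGroup.ker_mk'] at h1
    exact h1.symm
  by_cases hFb : F = ⊥
  · rw [hFb, sup_bot_eq] at hDF
    rw [hDF]; exact le_top
  obtain ⟨N, hNn, hNb, hNF, hNmin0⟩ : ∃ N : Subgroup G, N.Normal ∧ N ≠ ⊥ ∧ N ≤ F ∧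
      ∀ X : Subgroup G, X.Normal → X ≠ ⊥ → X ≤ F → ¬ X < N := by
    have hne : ({X : Subgroup G | X.Normal ∧ X ≠ ⊥ ∧ X ≤ F} : Set (Subgroup G)).Nonempty :=
      ⟨F, inferInstance, hFb, le_rfl⟩
    obtain ⟨N, hN, hmin⟩ := WellFounded.has_min (wellFounded_lt (α := Subgroup G)) _ hne
    exact ⟨N, hN.1, hN.2.1, hN.2.2, fun X hX hXb hXF => hmin X ⟨hX, hXb, hXF⟩⟩
  have hNmin : ∀ X : Subgroup G, X.Normal → X ≤ N → X = ⊥ ∨ X = N := by
    intro X hX hXN
    by_cases hXb : X = ⊥
    · exact Or.inl hXb
    · right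
      by_contra hne'
      exact hNmin0 X hX hXb (hXN.trans hNF) (lt_of_le_of_ne hXN hne')
  haveI := hNn
  have hlt : Nat.card (G ⧸ N) < n := hn ▸ card_quotient_lt N hNb
  obtain ⟨f, hf⟩ : ∃ f : G →* G ⧸ N, f = QuotientGroup.mk' N := ⟨_, rfl⟩
  have hfs : Function.Surjective f := by rw [hf]; exact QuotientGroup.mk'_surjective N
  have hfk : f.ker = N := by rw [hf]; exact QuotientGroup.ker_mk' N
  obtain ⟨hKb, hDb⟩ := systemNormalizer_map K hK N
  rw [← hf] at hKb hDb
  rw [← hD] at hDb
  -- the induction hypothesis in `G / N`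
  obtain ⟨F', hF'⟩ : ∃ F' : Subgroup (G ⧸ N), F' = F.map f := ⟨_, rfl⟩
  haveI hF'n : F'.Normal := by
    rw [hF']; exact Subgroup.Normal.map inferInstance f hfs
  have hF'nil : Group.IsNilpotent F' := by
    rw [hF']
    haveI := hF
    exact nilpotent_of_surjective (f.subgroupMap F) (f.subgroupMap_surjective F)
  have hle : F ≤ F'.comap f := by rw [hF']; exact Subgroup.le_comap_map f F
  have hsurj : Function.Surjective (QuotientGroup.map F F' f hle) := by
    intro y
    obtain ⟨z, rfl⟩ := QuotientGroup.mk_surjective y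
    obtain ⟨x, rfl⟩ := hfs z
    exact ⟨(x : G ⧸ F), rfl⟩
  have hGF' : Group.IsNilpotent ((G ⧸ N) ⧸ F') := by
    haveI := hGF
    exact nilpotent_of_surjective _ hsurj
  have hIH := ih _ hlt (G ⧸ N) F' rfl hF'nil hGF' _ hKb
  rw [hDb] at hIH
  intro x hx
  have hfx : f x ∈ Subgroup.normalizer ((D.map f : Subgroup (G ⧸ N)) : Set (G ⧸ N)) := by
    apply Subgroup.mem_normalizer_fintype
    intro y hy
    obtain ⟨d, hd, rfl⟩ := hy
    refine ⟨x * d * x⁻¹, (Subgroup.mem_normalizer_iff.mp hx d).mp hd, ?_⟩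
    rw [map_mul, map_mul, map_inv]
  obtain ⟨d, hd, hdx⟩ := hIH hfx
  obtain ⟨m, hm⟩ : ∃ m : G, m = d⁻¹ * x := ⟨_, rfl⟩
  have hmN : m ∈ N := by
    rw [← hfk, MonoidHom.mem_ker, hm, map_mul, map_inv, hdx, inv_mul_cancel]
  have hmnorm : m ∈ Subgroup.normalizer (D : Set G) := by
    rw [hm]
    exact Subgroup.mul_mem _ (Subgroup.inv_mem _ (Subgroup.le_normalizer hd)) hx
  suffices hmD : m ∈ D by
    have hx' : x = d * m := by rw [hm]; group
    rw [hx']; exact D.mul_mem hd hmD
  by_cases hNc : N ≤ Subgroup.center G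
  · -- central case: `D` covers `N`
    have hcov := (cover_avoid K hK ⊥ N (bot_lt_iff_ne_bot.mpr hNb)
      (fun M hM _ hMN => hNmin M hM hMN)).1
    have hcomm : ⁅N, (⊤ : Subgroup G)⁆ ≤ ⊥ := by
      rw [Subgroup.commutator_le]
      intro a ha g _
      have h1 : g * a = a * g := (Subgroup.mem_center_iff.mp (hNc ha)) g
      rw [Subgroup.mem_bot, commutatorElement_def, ← h1]
      group
    have h2 := hcov hcomm
    rw [bot_sup_eq, ← hD] at h2
    exact h2 hmN
  · -- eccentric case: `D` avoids `N`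
    have havoid : N ⊓ D = ⊥ := by
      rw [hD]; exact inf_systemNormalizer_eq_bot K hK N hNb hNmin hNc
    have hNFc : ⁅N, F⁆ = ⊥ := commutator_eq_bot_of_minimal_le_nilpotent F N hF hNF hNb hNmin
    have hcD : D ≤ Subgroup.centralizer ({m} : Set G) := by
      intro e he
      rw [Subgroup.mem_centralizer_iff]
      intro y hy
      rw [Set.mem_singleton_iff] at hy
      rw [hy]
      have h1 : m * e * m⁻¹ ∈ D := (Subgroup.mem_normalizer_iff.mp hmnorm e).mp he
      have h2 : m * e * m⁻¹ * e⁻¹ ∈ D := D.mul_mem h1 (D.inv_mem he)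
      have h3 : e * m⁻¹ * e⁻¹ ∈ N := hNn.conj_mem _ (N.inv_mem hmN) e
      have h4 : m * e * m⁻¹ * e⁻¹ ∈ N := by
        have : m * e * m⁻¹ * e⁻¹ = m * (e * m⁻¹ * e⁻¹) := by group
        rw [this]; exact N.mul_mem hmN h3
      have h5 : m * e * m⁻¹ * e⁻¹ ∈ N ⊓ D := Subgroup.mem_inf.mpr ⟨h4, h2⟩
      rw [havoid, Subgroup.mem_bot] at h5
      have h6 : m * e * m⁻¹ = e := mul_inv_eq_one.mp h5
      exact mul_inv_eq_iff_eq_mul.mp h6
    have hcF : F ≤ Subgroup.centralizer ({m} : Set G) := by
      intro y hy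
      rw [Subgroup.mem_centralizer_iff]
      intro z hz
      rw [Set.mem_singleton_iff] at hz
      rw [hz]
      have h1 : ⁅m, y⁆ ∈ ⁅N, F⁆ := Subgroup.commutator_mem_commutator hmN hy
      rw [hNFc, Subgroup.mem_bot] at h1
      exact commutatorElement_eq_one_iff_mul_comm.mp h1
    have hctop : (⊤ : Subgroup G) ≤ Subgroup.centralizer ({m} : Set G) := by
      rw [← hDF]; exact sup_le hcD hcF
    have hmc : m ∈ Subgroup.center G := by
      rw [Subgroup.mem_center_iff]
      intro g
      have h1 := hctop (Subgroup.mem_top g)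
      rw [Subgroup.mem_centralizer_iff] at h1
      exact (h1 m rfl).symm
    have hZn : (N ⊓ Subgroup.center G).Normal := inferInstance
    rcases hNmin _ hZn inf_le_left with h | h
    · have h1 : m ∈ N ⊓ Subgroup.center G := Subgroup.mem_inf.mpr ⟨hmN, hmc⟩
      rw [h, Subgroup.mem_bot] at h1
      rw [h1]; exact D.one_mem
    · exfalso
      apply hNc
      rw [← h]; exact inf_le_right

/-- In a nilpotent-by-nilpotent group, system normalizers are Carter subgroups. -/
theorem isCarter_systemNormalizer {G : Type u} [Group G] [Finite G] (F : Subgroup G) [F.Normal]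
    (hF : Group.IsNilpotent F) (hGF : Group.IsNilpotent (G ⧸ F)) (K : Nat.Primes → Subgroup G)
    (hK : Cfsg.IsComplementSystem K) : Cfsg.IsCarterSubgroup (Cfsg.systemNormalizer K) :=
  ⟨systemNormalizer_nilpotent K hK,
    le_antisymm (normalizer_systemNormalizer_aux _ G F rfl hF hGF K hK) Subgroup.le_normalizer⟩

/-- Conjugating a complement system conjugates its system normalizer. -/
theorem systemNormalizer_conj {G : Type u} [Group G] [Finite G] (K : Nat.Primes → Subgroup G)
    (hK : Cfsg.IsComplementSystem K) (g : G) :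
    Cfsg.IsComplementSystem (fun p => MulAut.conj g • K p) ∧
      Cfsg.systemNormalizer (fun p => MulAut.conj g • K p) =
        MulAut.conj g • Cfsg.systemNormalizer K := by
  constructor
  · intro p
    have h1 := Subgroup.card_mul_index (MulAut.conj g • K p)
    have h2 := Subgroup.card_mul_index (K p)
    rw [helper3.card_conj_smul] at h1
    have h3 : (MulAut.conj g • K p).index = (K p).index :=
      Nat.eq_of_mul_eq_mul_left Nat.card_pos (h1.trans h2.symm)
    show (MulAut.conj g • K p).index = _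
    rw [h3]; exact hK p
  · ext x
    rw [helper3.mem_conj_smul_iff]
    unfold Cfsg.systemNormalizer
    rw [Subgroup.mem_iInf, Subgroup.mem_iInf]
    refine forall_congr' fun p => ?_
    rw [← helper3.conj_smul_eq_self_iff, ← helper3.conj_smul_eq_self_iff]
    constructor
    · intro h
      rw [map_mul, map_mul, mul_smul, mul_smul, h, map_inv, inv_smul_smul]
    · intro h
      have h1 : MulAut.conj x • MulAut.conj g • K p =
          MulAut.conj g • MulAut.conj (g⁻¹ * x * g) • K p := by
        rw [map_mul, map_mul, mul_smul, mul_smul, map_inv, smul_inv_smul]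
      rw [h1, h]

end Cfsg.Agent.helper23
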