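import Mathlib
import Cfsg.Prelude.Def_Characters
import Cfsg.Agent.Lib_helper23_Schur

set_option autoImplicit false

namespace Cfsg.Agent.helper23

open Representation

/-- The bilinear pairing `|G|⁻¹ ∑ f(g) h(g⁻¹)` of two functions on a finite group. -/
noncomputable def pairing {G : Type*} [Group G] [Fintype G] (f h : G → ℂ) : ℂ :=
  (Nat.card G : ℂ)⁻¹ * ∑ g : G, f g * h g⁻¹

theorem pairing_add_left {G : Type*} [Group G] [Fintype G] (f₁ f₂ h : G → ℂ) :
    pairing (f₁ + f₂) h = pairing f₁ h + pairing f₂ h := by
  unfold pairing
  rw [← mul_add, ← Finset.sum_add_distrib]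
  congr 1
  apply Finset.sum_congr rfl
  intro g _
  simp [add_mul]

theorem pairing_smul_left {G : Type*} [Group G] [Fintype G] (a : ℂ) (f h : G → ℂ) :
    pairing (a • f) h = a * pairing f h := by
  unfold pairing
  rw [mul_left_comm]
  congr 1
  rw [Finset.mul_sum]
  apply Finset.sum_congr rfl
  intro g _
  simp [mul_assoc]

theorem pairing_zero_left {G : Type*} [Group G] [Fintype G] (h : G → ℂ) :
    pairing (0 : G → ℂ) h = 0 := by
  unfold pairing
  simp

theorem pairing_sum_left {G : Type*} [Group G] [Fintype G] {ι : Type*} (s : Finset ι)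
    (f : ι → G → ℂ) (h : G → ℂ) :
    pairing (∑ i ∈ s, f i) h = ∑ i ∈ s, pairing (f i) h := by
  classical
  induction s using Finset.induction_on with
  | empty => simp [pairing_zero_left]
  | insert i s hi ih => rw [Finset.sum_insert hi, Finset.sum_insert hi, pairing_add_left, ih]

noncomputable def invertibleCard (G : Type*) [Group G] [Fintype G] : Invertible (Nat.card G : ℂ) :=
  invertibleOfNonzero (by
    have : Nat.card G ≠ 0 := Nat.card_pos.ne'
    exact_mod_cast this)

/-- First orthogonality relation for irreducible representations on coordinate spaces. -/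
theorem pairing_character {G : Type*} [Group G] [Fintype G] {n m : ℕ}
    (ρ : Representation ℂ G (Fin n → ℂ)) (σ : Representation ℂ G (Fin m → ℂ))
    (hρ : ρ.IsIrreducible) (hσ : σ.IsIrreducible) :
    pairing ρ.character σ.character = if ρ.character = σ.character then 1 else 0 := by
  classical
  have := hρ
  have := hσ
  letI := invertibleCard G
  have key := Representation.char_orthonormal ρ σ
  have keyσ := Representation.char_orthonormal σ σ
  rw [if_pos ⟨Representation.Equiv.refl σ⟩] at keyσ
  unfold pairing
  by_cases h : ρ.character = σ.character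
  · rw [if_pos h, h]
    simpa using keyσ
  · rw [if_neg h]
    rw [key, if_neg]
    rintro ⟨φ⟩
    exact h (Representation.char_iso φ).symm

/-- First orthogonality relation for irreducible characters. -/
theorem pairing_irr {G : Type*} [Group G] [Fintype G] (χ ψ : Cfsg.IrrCharacter G) :
    pairing (χ : G → ℂ) (ψ : G → ℂ) = if χ = ψ then 1 else 0 := by
  obtain ⟨n, ρ, hρ, hχ⟩ := χ.2
  obtain ⟨m, σ, hσ, hψ⟩ := ψ.2
  have := pairing_character ρ σ hρ hσ
  rw [hχ, hψ] at this
  rw [this]
  by_cases h : χ = ψ
  · rw [if_pos h, if_pos (congrArg Subtype.val h)]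
  · rw [if_neg h, if_neg (fun h' => h (Subtype.ext h'))]

/-- The irreducible characters are linearly independent. -/
theorem irr_linearIndependent (G : Type*) [Group G] [Fintype G] :
    LinearIndependent ℂ (fun χ : Cfsg.IrrCharacter G => (χ : G → ℂ)) := by
  classical
  rw [linearIndependent_iff']
  intro s a hsum j hj
  have h1 := congrArg (fun f => pairing f (j : G → ℂ)) hsum
  simp only [pairing_sum_left, pairing_smul_left, pairing_zero_left, pairing_irr] at h1
  rw [Finset.sum_eq_single j] at h1
  · simpa using h1
  · intro b _ hb
    rw [if_neg hb, mul_zero]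
  · intro hj'
    exact absurd hj hj'

/-- A finite group has finitely many irreducible characters. -/
instance irr_finite (G : Type*) [Group G] [Finite G] : Finite (Cfsg.IrrCharacter G) := by
  have := Fintype.ofFinite G
  exact (irr_linearIndependent G).finite_of_isNoetherian

end Cfsg.Agent.helper23
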