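import Mathlib

set_option autoImplicit false

namespace Cfsg.Agent.helper23

open scoped Pointwise

theorem coe_sup_of_perm {G : Type*} [Group G] (A B : Subgroup G)
    (h : (A : Set G) * (B : Set G) = (B : Set G) * (A : Set G)) :
    ((A ⊔ B : Subgroup G) : Set G) = (A : Set G) * (B : Set G) := by
  let C : Subgroup G :=
    { carrier := (A : Set G) * (B : Set G)
      mul_mem' := by
        rintro _ _ ⟨a, ha, b, hb, rfl⟩ ⟨a', ha', b', hb', rfl⟩
        have hm : b * a' ∈ (B : Set G) * (A : Set G) := Set.mul_mem_mul hb ha'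
        rw [← h] at hm
        obtain ⟨a'', ha'', b'', hb'', e⟩ := hm
        have e : a'' * b'' = b * a' := e
        refine ⟨a * a'', A.mul_mem ha ha'', b'' * b', B.mul_mem hb'' hb', ?_⟩
        calc a * a'' * (b'' * b') = a * (a'' * b'') * b' := by group
          _ = a * (b * a') * b' := by rw [e]
          _ = a * b * (a' * b') := by group
      one_mem' := ⟨1, A.one_mem, 1, B.one_mem, one_mul 1⟩
      inv_mem' := by
        rintro _ ⟨a, ha, b, hb, rfl⟩
        have hm : b⁻¹ * a⁻¹ ∈ (B : Set G) * (A : Set G) :=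
          Set.mul_mem_mul (B.inv_mem hb) (A.inv_mem ha)
        rw [← h] at hm
        rw [mul_inv_rev]; exact hm }
  apply Set.Subset.antisymm
  · have hle : A ⊔ B ≤ C :=
      sup_le (fun a ha => ⟨a, ha, 1, B.one_mem, mul_one a⟩)
        (fun b hb => ⟨1, A.one_mem, b, hb, one_mul b⟩)
    exact hle
  · rintro _ ⟨a, ha, b, hb, rfl⟩
    exact Subgroup.mul_mem_sup ha hb

theorem exists_join_of_perm {G : Type*} [Group G] [Finite G] (S : ℕ → Subgroup G)
    (hperm : ∀ q r : ℕ, ((S q : Subgroup G) : Set G) * (S r : Set G) = (S r : Set G) * (S q : Set G))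
    (c : ℕ → ℕ) (hc : ∀ q, Nat.card (S q) = c q)
    (T : Finset ℕ) (hcop : ∀ q ∈ T, ∀ r ∈ T, q ≠ r → (c q).Coprime (c r)) :
    ∃ J : Subgroup G, (∀ r : ℕ, (J : Set G) * (S r : Set G) = (S r : Set G) * (J : Set G)) ∧
      Nat.card J = ∏ q ∈ T, c q := by
  classical
  induction T using Finset.induction_on with
  | empty =>
    refine ⟨⊥, ?_, by simp⟩
    intro r
    rw [Subgroup.coe_bot, Set.singleton_one, one_mul, mul_one]
  | insert t T ht ih =>
    obtain ⟨J, hJperm, hJcard⟩ := ih (fun q hq r hr =>
      hcop q (Finset.mem_insert_of_mem hq) r (Finset.mem_insert_of_mem hr))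
    have hcoe := coe_sup_of_perm J (S t) (hJperm t)
    refine ⟨J ⊔ S t, ?_, ?_⟩
    · intro r
      rw [hcoe]
      calc (J : Set G) * (S t : Set G) * (S r : Set G)
          = (J : Set G) * ((S t : Set G) * (S r : Set G)) := mul_assoc _ _ _
        _ = (J : Set G) * ((S r : Set G) * (S t : Set G)) := by rw [hperm t r]
        _ = ((J : Set G) * (S r : Set G)) * (S t : Set G) := (mul_assoc _ _ _).symm
        _ = ((S r : Set G) * (J : Set G)) * (S t : Set G) := by rw [hJperm r]
        _ = (S r : Set G) * ((J : Set G) * (S t : Set G)) := mul_assoc _ _ _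
    · have hcopJ : (Nat.card J).Coprime (Nat.card (S t)) := by
        rw [hJcard, hc t]
        apply Nat.Coprime.prod_left
        intro q hq
        exact hcop q (Finset.mem_insert_of_mem hq) t (Finset.mem_insert_self t T)
          (by rintro rfl; exact ht hq)
      have hd1 : Nat.card J ∣ Nat.card (J ⊔ S t : Subgroup G) := Subgroup.card_dvd_of_le le_sup_left
      have hd2 : Nat.card (S t) ∣ Nat.card (J ⊔ S t : Subgroup G) :=
        Subgroup.card_dvd_of_le le_sup_right
      have hd : Nat.card J * Nat.card (S t) ∣ Nat.card (J ⊔ S t : Subgroup G) :=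
        Nat.Coprime.mul_dvd_of_dvd_of_dvd hcopJ hd1 hd2
      have hle : Nat.card (J ⊔ S t : Subgroup G) ≤ Nat.card J * Nat.card (S t) := by
        have e : Nat.card (J ⊔ S t : Subgroup G) = Nat.card ((J : Set G) * (S t : Set G) : Set G) := by
          rw [← hcoe]; rfl
        rw [e]
        exact Set.natCard_mul_le
      have heq := Nat.le_antisymm hle (Nat.le_of_dvd Nat.card_pos hd)
      rw [heq, Finset.prod_insert ht, hJcard, hc t, mul_comm]

end Cfsg.Agent.helper23
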