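import Mathlib

/-! helper23: pieces S2b and S2 of the S2670 swarm (scaling of polynomials). -/

set_option autoImplicit false
open Polynomial

namespace Cfsg.Agent.helper23.S2670x

/-- PIECE S2b: the scaling is an action -/
theorem pieceS2b {F : Type*} [Field F] (n : ℕ) (f : F[X]) :
    C ((1 : F) ^ n) * f.comp (C (1 : F)⁻¹ * X) = f ∧
    ∀ μ ν : F, μ ≠ 0 → ν ≠ 0 → C ((μ * ν) ^ n) * f.comp (C (μ * ν)⁻¹ * X) =
      C (μ ^ n) * (C (ν ^ n) * f.comp (C ν⁻¹ * X)).comp (C μ⁻¹ * X) := by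
  constructor
  · simp
  · intro μ ν hμ hν
    rw [mul_comp, C_comp, comp_assoc, mul_comp, C_comp, X_comp, ← mul_assoc, ← mul_assoc, ← C_mul,
      ← C_mul, mul_pow]
    congr 2
    rw [mul_inv, mul_comm ν⁻¹ μ⁻¹]

theorem scale_pow_sub {F : Type*} [Field F] (r : ℕ) (μ : F) (hμ : μ ≠ 0) (c : F) (k : ℕ) :
    C (μ ^ (r * k)) * ((X ^ r - C c) ^ k).comp (C μ⁻¹ * X) = (X ^ r - C (μ ^ r * c)) ^ k := by
  have h1 : C μ * C μ⁻¹ = (1 : F[X]) := by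
    rw [← C_mul, mul_inv_cancel₀ hμ, C_1]
  have h2 : C (μ ^ r) * ((C μ⁻¹ * X) ^ r - C c) = X ^ r - C (μ ^ r * c) := by
    rw [mul_sub, C_pow, ← mul_pow, ← mul_assoc, h1, one_mul, C_mul, C_pow]
  rw [pow_comp, sub_comp, pow_comp, X_comp, C_comp, pow_mul, C_pow, ← mul_pow, h2]

/-- PIECE S2: basic facts on the scaling `f ↦ C (μ ^ n) * f.comp (C μ⁻¹ * X)` -/
theorem pieceS2 {F : Type*} [Field F] (n r : ℕ) (μ : F) (hμ : μ ≠ 0) (f : F[X]) (hf : f.Monic)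
    (hd : f.natDegree = n) :
    (C (μ ^ n) * f.comp (C μ⁻¹ * X)).Monic ∧ (C (μ ^ n) * f.comp (C μ⁻¹ * X)).natDegree = n ∧
    (∀ c : F, f ∣ (X ^ r - C c) ^ n →
      (C (μ ^ n) * f.comp (C μ⁻¹ * X)) ∣ (X ^ r - C (μ ^ r * c)) ^ n) ∧
    (∀ a : F, f = (X - C a) ^ n → C (μ ^ n) * f.comp (C μ⁻¹ * X) = (X - C (μ * a)) ^ n) ∧
    (∀ (c : F) (k : ℕ), f = (X ^ r - C c) ^ k → r * k = n →
      C (μ ^ n) * f.comp (C μ⁻¹ * X) = (X ^ r - C (μ ^ r * c)) ^ k) := by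
  have hμi : μ⁻¹ ≠ 0 := inv_ne_zero hμ
  have hμn : μ ^ n ≠ 0 := pow_ne_zero n hμ
  have hldeg : (C μ⁻¹ * X : F[X]).natDegree = 1 := natDegree_C_mul_X _ hμi
  have hllead : (C μ⁻¹ * X : F[X]).leadingCoeff = μ⁻¹ := by
    rw [leadingCoeff_mul, leadingCoeff_C, leadingCoeff_X, mul_one]
  have hdeg : (C (μ ^ n) * f.comp (C μ⁻¹ * X)).natDegree = n := by
    rw [natDegree_C_mul hμn, natDegree_comp, hldeg, mul_one, hd]
  refine ⟨?_, hdeg, ?_, ?_, ?_⟩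
  · unfold Polynomial.Monic
    rw [leadingCoeff_mul, leadingCoeff_C, leadingCoeff_comp (by rw [hldeg]; exact one_ne_zero),
      hllead, hf.leadingCoeff, one_mul, hd, ← mul_pow, mul_inv_cancel₀ hμ, one_pow]
  · intro c hc
    have hu : IsUnit (C (μ ^ n) : F[X]) := isUnit_C.mpr (isUnit_iff_ne_zero.mpr hμn)
    rw [hu.mul_left_dvd]
    have h1 : f.comp (C μ⁻¹ * X) ∣ ((X ^ r - C c) ^ n).comp (C μ⁻¹ * X) := by
      obtain ⟨g, hg⟩ := hc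
      exact ⟨g.comp (C μ⁻¹ * X), by rw [hg, mul_comp]⟩
    rw [← scale_pow_sub r μ hμ c n]
    exact dvd_mul_of_dvd_right h1 _
  · intro a ha
    have h1 : C μ * C μ⁻¹ = (1 : F[X]) := by
      rw [← C_mul, mul_inv_cancel₀ hμ, C_1]
    have h2 : C μ * (C μ⁻¹ * X - C a) = X - C (μ * a) := by
      rw [mul_sub, ← mul_assoc, h1, one_mul, C_mul]
    rw [ha, pow_comp, sub_comp, X_comp, C_comp, C_pow, ← mul_pow, h2]
  · intro c k hfk hrk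
    rw [hfk, ← hrk]
    exact scale_pow_sub r μ hμ c k

end Cfsg.Agent.helper23.S2670x
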