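import Mathlib
import Cfsg.Agent.Lib_helper23_S2670x
import Cfsg.Agent.Lib_helper24_S2670x

/-! helper23: pieces B4 (fibre decomposition over `c`) and B6 (fixed points force `μ ^ r = 1`)
of the S2670 Burnside count. -/

set_option autoImplicit false
open Polynomial

namespace Cfsg.Agent.helper23.S2670b

theorem finite_of_natDegree {F : Type*} [Field F] [Finite F] (n : ℕ) (p : F[X] → Prop)
    (hp : ∀ f, p f → f.natDegree = n) : Finite {f : F[X] // p f} := by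
  apply Finite.of_injective (fun f : {f : F[X] // p f} => fun i : Fin (n + 1) => (f : F[X]).coeff i)
  intro f g h
  apply Subtype.ext
  ext i
  by_cases hi : i < n + 1
  · exact congrFun h ⟨i, hi⟩
  · rw [coeff_eq_zero_of_natDegree_lt, coeff_eq_zero_of_natDegree_lt]
    · rw [hp _ g.2]; omega
    · rw [hp _ f.2]; omega

/-- B6: no fixed points unless μ ^ r = 1 -/
theorem pieceB6 {F : Type*} [Field F] (n r : ℕ) (hn : 1 ≤ n) (hr : 1 ≤ r) (μ : F) (hμ : μ ≠ 0)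
    (f : F[X]) (hf : f.Monic) (hd : f.natDegree = n) (c : F) (hc : c ≠ 0)
    (h : f ∣ (X ^ r - C c) ^ n) (hfix : C (μ ^ n) * f.comp (C μ⁻¹ * X) = f) : μ ^ r = 1 := by
  have h3 := (S2670x.pieceS2 n r μ hμ f hf hd).2.2.1 c h
  rw [hfix] at h3
  have h4 := helper24.S2670x.pieceS3 n r hn hr f hf hd c (μ ^ r * c) h h3
  exact mul_right_cancel₀ hc (by rw [one_mul]; exact h4.symm)

/-- B4: fibre decomposition over c (c is unique by S3) -/
theorem pieceB4 {F : Type*} [Field F] [Fintype F] [DecidableEq F] (n r : ℕ) (hn : 1 ≤ n)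
    (hr : 1 ≤ r) :
    Nat.card {f : F[X] // f.Monic ∧ f.natDegree = n ∧ (∃ c : F, c ≠ 0 ∧ f ∣ (X ^ r - C c) ^ n) ∧
      ∀ a : F, f ≠ (X - C a) ^ n} =
    ∑ u : Fˣ, Nat.card {f : F[X] // f.Monic ∧ f.natDegree = n ∧
      f ∣ (X ^ r - C (u : F)) ^ n ∧ ∀ a : F, f ≠ (X - C a) ^ n} := by
  haveI : ∀ u : Fˣ, Finite {f : F[X] // f.Monic ∧ f.natDegree = n ∧
      f ∣ (X ^ r - C (u : F)) ^ n ∧ ∀ a : F, f ≠ (X - C a) ^ n} :=
    fun u => finite_of_natDegree n _ (fun f hf => hf.2.1)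
  rw [← Nat.card_sigma]
  symm
  refine Nat.card_congr (Equiv.ofBijective
    (fun y : (Σ u : Fˣ, {f : F[X] // f.Monic ∧ f.natDegree = n ∧
      f ∣ (X ^ r - C (u : F)) ^ n ∧ ∀ a : F, f ≠ (X - C a) ^ n}) =>
      (⟨y.2.1, y.2.2.1, y.2.2.2.1, ⟨(y.1 : F), y.1.ne_zero, y.2.2.2.2.1⟩, y.2.2.2.2.2⟩ :
        {f : F[X] // f.Monic ∧ f.natDegree = n ∧ (∃ c : F, c ≠ 0 ∧ f ∣ (X ^ r - C c) ^ n) ∧
          ∀ a : F, f ≠ (X - C a) ^ n})) ⟨?_, ?_⟩)
  · rintro ⟨u, f, hf⟩ ⟨u', f', hf'⟩ h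
    have hff : f = f' := congrArg Subtype.val h
    subst hff
    have huu : u = u' := Units.ext
      (helper24.S2670x.pieceS3 n r hn hr f hf.1 hf.2.1 (u : F) (u' : F) hf.2.2.1 hf'.2.2.1)
    subst huu
    rfl
  · rintro ⟨f, hm, hd, ⟨c, hc, hdiv⟩, hna⟩
    exact ⟨⟨Units.mk0 c hc, ⟨f, hm, hd, by rw [Units.val_mk0]; exact hdiv, hna⟩⟩, rfl⟩

end Cfsg.Agent.helper23.S2670b
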