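import Mathlib

/-! helper23: a generic Burnside count (group with exactly `r` solutions of `g ^ r = 1`,
fixed points only for those). -/

set_option autoImplicit false

namespace Cfsg.Agent.helper23.S2670g

theorem burnside_count {G X : Type*} [Group G] [Fintype G] [MulAction G X] [Finite X]
    (r N A : ℕ) (hr : 1 ≤ r) (hroots : Nat.card {g : G // g ^ r = 1} = r)
    (hN : Nat.card X = N)
    (hA : ∀ g : G, g ≠ 1 → g ^ r = 1 → Nat.card (MulAction.fixedBy X g) = A)
    (h0 : ∀ g : G, g ^ r ≠ 1 → Nat.card (MulAction.fixedBy X g) = 0) :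
    Nat.card (Quotient (MulAction.orbitRel G X)) * Nat.card G = N + (r - 1) * A := by
  classical
  have hfix : ∀ g : G, Nat.card (MulAction.fixedBy X g) =
      if g = 1 then N else if g ^ r = 1 then A else 0 := by
    intro g
    by_cases hg1 : g = 1
    · rw [if_pos hg1, hg1, ← hN]
      exact Nat.card_congr (Equiv.subtypeUnivEquiv
        (fun f => MulAction.mem_fixedBy.mpr (one_smul _ f)))
    · rw [if_neg hg1]
      by_cases hgr : g ^ r = 1
      · rw [if_pos hgr]; exact hA g hg1 hgr
      · rw [if_neg hgr]; exact h0 g hgr
  haveI : Fintype X := Fintype.ofFinite _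
  haveI : ∀ u : G, Fintype (MulAction.fixedBy X u) := fun u => Fintype.ofFinite _
  haveI : Fintype (Quotient (MulAction.orbitRel G X)) := Fintype.ofFinite _
  have hB := MulAction.sum_card_fixedBy_eq_card_orbits_mul_card_group G X
  simp only [Fintype.card_eq_nat_card] at hB
  rw [← hB]
  have hB' : ∑ u : G, Nat.card (MulAction.fixedBy X u) =
      ∑ u : G, (if u = 1 then N else if u ^ r = 1 then A else 0) :=
    Finset.sum_congr rfl (fun u _ => hfix u)
  rw [hB']
  have hroots' : (Finset.univ.filter (fun u : G => u ^ r = 1)).card = r := by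
    refine Eq.trans ?_ hroots
    rw [← Fintype.card_subtype, Fintype.card_eq_nat_card]
  have hsum : ∑ u : G, (if u = 1 then N else if u ^ r = 1 then A else 0) + A = r * A + N := by
    have h1 : ∀ u : G, (if u = 1 then N else if u ^ r = 1 then A else 0) +
        (if u = 1 then A else 0) = (if u ^ r = 1 then A else 0) + (if u = 1 then N else 0) := by
      intro u
      by_cases hu1 : u = 1
      · subst hu1
        simp [add_comm]
      · simp [hu1]
    have h2 := Finset.sum_congr (s₁ := (Finset.univ : Finset G)) rfl (fun u _ => h1 u)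
    rw [Finset.sum_add_distrib, Finset.sum_add_distrib, Finset.sum_ite_eq' Finset.univ (1 : G),
      Finset.sum_ite_eq' Finset.univ (1 : G), if_pos (Finset.mem_univ _),
      if_pos (Finset.mem_univ _), ← Finset.sum_filter, Finset.sum_const, hroots', smul_eq_mul] at h2
    exact h2
  have hr' : r = (r - 1) + 1 := by omega
  have : ∑ u : G, (if u = 1 then N else if u ^ r = 1 then A else 0) + A =
      N + (r - 1) * A + A := by
    rw [hsum]; conv_lhs => rw [hr']
    ring
  exact Nat.add_right_cancel this

end Cfsg.Agent.helper23.S2670g
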