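import Mathlib

set_option autoImplicit false
open Polynomial

namespace Cfsg.Agent.helper7.S2670y

/-- rotation: a power of a linear factor dividing `f` is rotated to one dividing the rotated `f` -/
theorem rot_dvd {F : Type*} [Field F] (n : ℕ) (ω : F) (hω0 : ω ≠ 0) (f : F[X])
    (hfix : C (ω ^ n) * f.comp (C ω⁻¹ * X) = f) (t : F) (k : ℕ) (hk : (X - C t) ^ k ∣ f) :
    (X - C (ω * t)) ^ k ∣ f := by
  obtain ⟨g, hg⟩ := hk
  have h1 : f.comp (C ω⁻¹ * X) = (C ω⁻¹ * X - C t) ^ k * g.comp (C ω⁻¹ * X) := by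
    rw [hg, mul_comp, pow_comp, sub_comp, X_comp, C_comp]
  have h2 : C ω⁻¹ * X - C t = C ω⁻¹ * (X - C (ω * t)) := by
    rw [mul_sub, ← C_mul, ← mul_assoc, inv_mul_cancel₀ hω0, one_mul]
  rw [← hfix, h1, h2, mul_pow]
  exact ⟨C (ω ^ n) * C ω⁻¹ ^ k * g.comp (C ω⁻¹ * X), by ring⟩

/-- PIECE S6: fixed points of the rotation for `c = 1` -/
theorem pieceS6 {F : Type*} [Field F] (n r : ℕ) (hr : r.Prime) (ω : F) (hω : ω ^ r = 1)
    (hω1 : ω ≠ 1) (f : F[X]) (hf : f.Monic) (hd : f.natDegree = n)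
    (h : f ∣ (X ^ r - C 1) ^ n) (hfix : C (ω ^ n) * f.comp (C ω⁻¹ * X) = f) :
    r ∣ n ∧ f = (X ^ r - C 1) ^ (n / r) := by
  classical
  have hr0 : 0 < r := hr.pos
  have : NeZero r := ⟨hr.ne_zero⟩
  have hprim : IsPrimitiveRoot ω r := by
    have h1 : orderOf ω ∣ r := orderOf_dvd_of_pow_eq_one hω
    rcases (Nat.dvd_prime hr).mp h1 with h2 | h2
    · exact absurd (orderOf_eq_one_iff.mp h2) hω1
    · rw [← h2]; exact IsPrimitiveRoot.orderOf ω
  have hω0 : ω ≠ 0 := by
    rintro rfl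
    rw [zero_pow hr.ne_zero] at hω
    exact zero_ne_one hω
  have hf0 : f ≠ 0 := hf.ne_zero
  -- multiplicities are rotation invariant
  have hle : ∀ t : F, rootMultiplicity t f ≤ rootMultiplicity (ω * t) f := by
    intro t
    rw [le_rootMultiplicity_iff hf0]
    exact rot_dvd n ω hω0 f hfix t _ (pow_rootMultiplicity_dvd f t)
  have hlej : ∀ (j : ℕ) (t : F), rootMultiplicity t f ≤ rootMultiplicity (ω ^ j * t) f := by
    intro j
    induction j with
    | zero => intro t; simp
    | succ j ih =>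
      intro t
      calc rootMultiplicity t f ≤ rootMultiplicity (ω ^ j * t) f := ih t
        _ ≤ rootMultiplicity (ω * (ω ^ j * t)) f := hle _
        _ = rootMultiplicity (ω ^ (j + 1) * t) f := by
            congr 1
            rw [pow_succ]
            ring
  have heq : ∀ t : F, rootMultiplicity (ω * t) f = rootMultiplicity t f := by
    intro t
    apply le_antisymm _ (hle t)
    have h1 := hlej (r - 1) (ω * t)
    have h2 : ω ^ (r - 1) * (ω * t) = t := by
      rw [← mul_assoc, ← pow_succ, Nat.sub_add_cancel hr0, hω, one_mul]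
    rwa [h2] at h1
  have heqj : ∀ j : ℕ, rootMultiplicity (ω ^ j) f = rootMultiplicity 1 f := by
    intro j
    induction j with
    | zero => simp
    | succ j ih => rw [pow_succ, mul_comm, heq, ih]
  set a := rootMultiplicity (1 : F) f with ha
  -- the roots
  have hXm : (X ^ r - C (1 : F)).Monic := monic_X_pow_sub_C 1 hr.ne_zero
  have hXd : (X ^ r - C (1 : F)).natDegree = r := natDegree_X_pow_sub_C
  have hXroots : (X ^ r - C (1 : F)).roots = nthRoots r (1 : F) := rfl
  have hXs : (X ^ r - C (1 : F)).Splits := by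
    rw [splits_iff_card_roots, hXroots, hprim.card_nthRoots_one, hXd]
  have hXn0 : (X ^ r - C (1 : F)) ^ n ≠ 0 := pow_ne_zero _ hXm.ne_zero
  have hfs : f.Splits := (hXs.pow n).of_dvd hXn0 h
  have hnotroot : ∀ t : F, t ^ r ≠ 1 → ¬ IsRoot f t := by
    intro t ht hroot
    have h1 : IsRoot ((X ^ r - C (1 : F)) ^ n) t := hroot.dvd h
    rw [IsRoot.def, eval_pow, eval_sub, eval_pow, eval_X, eval_C] at h1
    exact ht (sub_eq_zero.mp (eq_zero_of_pow_eq_zero h1))
  have hroots : f.roots = a • nthRoots r (1 : F) := by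
    ext t
    rw [count_roots, Multiset.count_nsmul]
    by_cases ht : t ^ r = 1
    · obtain ⟨j, -, rfl⟩ := hprim.eq_pow_of_pow_eq_one ht
      rw [heqj j, Multiset.count_eq_one_of_mem hprim.nthRoots_one_nodup
        ((mem_nthRoots hr0).mpr ht), mul_one]
    · rw [rootMultiplicity_eq_zero (hnotroot t ht), Multiset.count_eq_zero_of_notMem
        (fun hm => ht ((mem_nthRoots hr0).mp hm)), mul_zero]
  have hfa : f = (X ^ r - C (1 : F)) ^ a := by
    conv_lhs => rw [hfs.eq_prod_roots_of_monic hf, hroots, Multiset.map_nsmul, Multiset.prod_nsmul]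
    rw [← hXroots, ← hXs.eq_prod_roots_of_monic hXm]
  have hna : n = a * r := by
    rw [← hd]
    conv_lhs => rw [hfa]
    rw [natDegree_pow, hXd]
  have hdiv : n / r = a := by
    rw [hna, Nat.mul_div_cancel _ hr0]
  refine ⟨⟨a, by rw [hna, mul_comm]⟩, ?_⟩
  rw [hdiv]
  exact hfa

end Cfsg.Agent.helper7.S2670y
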