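import Mathlib
import Cfsg.Agent.Lib_helper3_S2670x
import Cfsg.Agent.Lib_helper9_S2670x
import Cfsg.Agent.Lib_helper6_S2670x
import Cfsg.Agent.Lib_helper7_S2670y

set_option autoImplicit false
open Polynomial

namespace Cfsg.Agent.helper7.S2670t

/-- a polynomial over the fibre of `c ≠ 0` fixed by a nontrivial `r`-th root of unity -/
theorem fixed_eq {F : Type*} [Field F] (n r : ℕ) (hr : r.Prime) (μ : F) (hμ : μ ^ r = 1)
    (hμ1 : μ ≠ 1) (f : F[X]) (hf : f.Monic) (hd : f.natDegree = n) (c : F) (hc0 : c ≠ 0)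
    (h : f ∣ (X ^ r - C c) ^ n) (hfix : C (μ ^ n) * f.comp (C μ⁻¹ * X) = f) :
    r ∣ n ∧ f = (X ^ r - C c) ^ (n / r) := by
  have hμ0 : μ ≠ 0 := by
    rintro rfl
    rw [zero_pow hr.ne_zero] at hμ
    exact zero_ne_one hμ
  by_cases hc : ∃ ν : F, ν ^ r = c
  · obtain ⟨ν, rfl⟩ := hc
    have hν : ν ≠ 0 := by
      rintro rfl
      rw [zero_pow hr.ne_zero] at hc0
      exact hc0 rfl
    have hνi : ν⁻¹ ≠ 0 := inv_ne_zero hν
    set g := C (ν⁻¹ ^ n) * f.comp (C (ν⁻¹)⁻¹ * X) with hg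
    obtain ⟨hgm, hgd, hgdiv, -, -⟩ := helper3.S2670x.pieceS2 n r ν⁻¹ hνi f hf hd
    have hg1 : g ∣ (X ^ r - C 1) ^ n := by
      have h1 := hgdiv (ν ^ r) h
      have e1 : ν⁻¹ ^ r * ν ^ r = 1 := by rw [inv_pow, inv_mul_cancel₀ (pow_ne_zero r hν)]
      rw [e1] at h1
      exact h1
    have hgfix : C (μ ^ n) * g.comp (C μ⁻¹ * X) = g := by
      have h1 := (helper9.S2670x.pieceS2b n f).2 μ ν⁻¹ hμ0 hνi
      have h2 := (helper9.S2670x.pieceS2b n f).2 ν⁻¹ μ hνi hμ0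
      rw [hg, ← h1, mul_comm μ ν⁻¹, h2, hfix]
    obtain ⟨hrn, hgeq⟩ := S2670y.pieceS6 n r hr μ hμ hμ1 g hgm hgd hg1 hgfix
    refine ⟨hrn, ?_⟩
    have hf_eq : f = C (ν ^ n) * g.comp (C ν⁻¹ * X) := by
      have h3 := (helper9.S2670x.pieceS2b n f).2 ν ν⁻¹ hν hνi
      rw [mul_inv_cancel₀ hν, (helper9.S2670x.pieceS2b n f).1] at h3
      exact h3
    obtain ⟨-, -, -, -, hpow⟩ := helper3.S2670x.pieceS2 n r ν hν g hgm hgd
    have h4 := hpow 1 (n / r) hgeq (Nat.mul_div_cancel' hrn)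
    rw [hf_eq, h4, mul_one]
  · push Not at hc
    exact helper6.S2670x.pieceS4 n r hr c hc f hf hd h

/-- the fixed points `(X ^ r - c) ^ (n / r)` -/
theorem mem_fixed {F : Type*} [Field F] (n r : ℕ) (hn : 1 ≤ n) (hr : r.Prime) (hrn : r ∣ n)
    (μ : F) (hμ : μ ^ r = 1) (hμ1 : μ ≠ 1) (c : F) (hc0 : c ≠ 0) :
    (((X ^ r - C c) ^ (n / r) : F[X]).Monic ∧ ((X ^ r - C c) ^ (n / r) : F[X]).natDegree = n ∧
        (∃ c' : F, c' ≠ 0 ∧ ((X ^ r - C c) ^ (n / r) : F[X]) ∣ (X ^ r - C c') ^ n) ∧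
        ¬ ∃ a : F, ((X ^ r - C c) ^ (n / r) : F[X]) = (X - C a) ^ n) ∧
      C (μ ^ n) * ((X ^ r - C c) ^ (n / r) : F[X]).comp (C μ⁻¹ * X) = (X ^ r - C c) ^ (n / r) := by
  have hμ0 : μ ≠ 0 := by
    rintro rfl
    rw [zero_pow hr.ne_zero] at hμ
    exact zero_ne_one hμ
  have hk : 1 ≤ n / r := Nat.div_pos (Nat.le_of_dvd hn hrn) hr.pos
  have hm : ((X ^ r - C c) ^ (n / r) : F[X]).Monic := (monic_X_pow_sub_C c hr.ne_zero).pow _
  have hdeg : ((X ^ r - C c) ^ (n / r) : F[X]).natDegree = n := by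
    rw [natDegree_pow, natDegree_X_pow_sub_C, Nat.div_mul_cancel hrn]
  refine ⟨⟨hm, hdeg, ⟨c, hc0, pow_dvd_pow _ (Nat.div_le_self n r)⟩, ?_⟩, ?_⟩
  · rintro ⟨a, ha⟩
    have h1 := congrArg (eval a) ha
    simp only [eval_pow, eval_sub, eval_X, eval_C, sub_self] at h1
    rw [zero_pow (by omega : n ≠ 0)] at h1
    have h2 : a ^ r = c := sub_eq_zero.mp (eq_zero_of_pow_eq_zero h1)
    have h3 := congrArg (eval (μ * a)) ha
    simp only [eval_pow, eval_sub, eval_X, eval_C] at h3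
    rw [mul_pow, hμ, one_mul, h2, sub_self, zero_pow (by omega : n / r ≠ 0)] at h3
    have h4 : μ * a - a = 0 := eq_zero_of_pow_eq_zero h3.symm
    have h5 : (μ - 1) * a = 0 := by rw [sub_mul, one_mul]; exact h4
    rcases mul_eq_zero.mp h5 with h6 | h6
    · exact hμ1 (sub_eq_zero.mp h6)
    · rw [h6, zero_pow hr.ne_zero] at h2
      exact hc0 h2.symm
  · obtain ⟨-, -, -, -, hpow⟩ := helper3.S2670x.pieceS2 n r μ hμ0 _ hm hdeg
    have h4 := hpow c (n / r) rfl (Nat.mul_div_cancel' hrn)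
    rw [h4, hμ, one_mul]

/-- PIECE T1: fixed points of a nontrivial r-th root of unity (uses S2, S2b, S3, S4, S6) -/
theorem pieceT1 {F : Type*} [Field F] [Fintype F] (n r : ℕ) (hn : 1 ≤ n) (hr : r.Prime)
    (_hrq : r ∣ Fintype.card F - 1) (μ : F) (hμ : μ ^ r = 1) (hμ1 : μ ≠ 1) :
    Nat.card {f : F[X] // (f.Monic ∧ f.natDegree = n ∧
        (∃ c : F, c ≠ 0 ∧ f ∣ (X ^ r - C c) ^ n) ∧ ¬ ∃ a : F, f = (X - C a) ^ n) ∧
        C (μ ^ n) * f.comp (C μ⁻¹ * X) = f} =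
      (Fintype.card F - 1) * (if r ∣ n then 1 else 0) := by
  classical
  by_cases hrn : r ∣ n
  · rw [if_pos hrn, mul_one]
    let e : {c : F // c ≠ 0} → {f : F[X] // (f.Monic ∧ f.natDegree = n ∧
        (∃ c : F, c ≠ 0 ∧ f ∣ (X ^ r - C c) ^ n) ∧ ¬ ∃ a : F, f = (X - C a) ^ n) ∧
        C (μ ^ n) * f.comp (C μ⁻¹ * X) = f} :=
      fun c => ⟨(X ^ r - C c.1) ^ (n / r), mem_fixed n r hn hr hrn μ hμ hμ1 c.1 c.2⟩
    have hbij : Function.Bijective e := by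
      constructor
      · intro c c' hcc
        have h1 : ((X ^ r - C c.1) ^ (n / r) : F[X]) = (X ^ r - C c'.1) ^ (n / r) :=
          congrArg Subtype.val hcc
        have hm := (mem_fixed n r hn hr hrn μ hμ hμ1 c.1 c.2).1
        apply Subtype.ext
        apply helper9.S2670x.pieceS3 n r hn hr.one_le _ hm.1 hm.2.1 c.1 c'.1
        · exact pow_dvd_pow _ (Nat.div_le_self n r)
        · rw [h1]
          exact pow_dvd_pow _ (Nat.div_le_self n r)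
      · rintro ⟨f, ⟨hfm, hfd, ⟨c, hc0, hdiv⟩, hns⟩, hfix⟩
        refine ⟨⟨c, hc0⟩, Subtype.ext ?_⟩
        exact (fixed_eq n r hr μ hμ hμ1 f hfm hfd c hc0 hdiv hfix).2.symm
    rw [← Nat.card_congr (Equiv.ofBijective e hbij), ← Nat.card_congr unitsEquivNeZero,
      Nat.card_eq_fintype_card, Fintype.card_units]
  · rw [if_neg hrn, mul_zero]
    have : IsEmpty {f : F[X] // (f.Monic ∧ f.natDegree = n ∧
        (∃ c : F, c ≠ 0 ∧ f ∣ (X ^ r - C c) ^ n) ∧ ¬ ∃ a : F, f = (X - C a) ^ n) ∧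
        C (μ ^ n) * f.comp (C μ⁻¹ * X) = f} := by
      refine ⟨?_⟩
      rintro ⟨f, ⟨hfm, hfd, ⟨c, hc0, hdiv⟩, hns⟩, hfix⟩
      exact hrn (fixed_eq n r hr μ hμ hμ1 f hfm hfd c hc0 hdiv hfix).1
    exact Nat.card_of_isEmpty

end Cfsg.Agent.helper7.S2670t
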