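import Mathlib

set_option autoImplicit false

namespace Cfsg.Agent.lead.S2670b

/-- B8: final arithmetic -/
theorem pieceB8 (Q r Cn I N O : ℕ) (hr : 2 ≤ r) (hQ : 0 < Q) (hrQ : r ∣ Q) (hI : I ≤ 1)
    (hNI : Q * I ≤ N) (hN : N * r + Q * r + Q * I = Q * Cn + Q * r * I)
    (hO : O * Q = N + (r - 1) * (Q * I)) :
    O = (Cn - r - I) / r + r * I := by
  obtain ⟨r', rfl⟩ : ∃ r', r = r' + 1 := ⟨r - 1, by omega⟩
  simp only [Nat.add_sub_cancel] at hO
  interval_cases I
  · -- I = 0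
    simp only [mul_zero, add_zero, Nat.sub_zero] at *
    have h1 : Q * (O * (r' + 1) + (r' + 1)) = Q * Cn := by
      rw [← hN, ← hO]; ring
    have h2 : O * (r' + 1) + (r' + 1) = Cn := Nat.eq_of_mul_eq_mul_left hQ h1
    rw [← h2, Nat.add_sub_cancel, Nat.mul_div_cancel _ (by omega)]
  · -- I = 1
    simp only [mul_one] at *
    have hOr : r' + 1 ≤ O := by
      by_contra hlt
      push Not at hlt
      have h3 : O * Q ≤ r' * Q := Nat.mul_le_mul_right Q (by omega)
      omega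
    obtain ⟨O', rfl⟩ : ∃ O', O = O' + (r' + 1) := ⟨O - (r' + 1), by omega⟩
    have hN' : N = O' * Q + Q := by nlinarith [hO]
    subst hN'
    have h1 : Q * Cn = Q * ((r' + 1) * O' + (r' + 1) + 1) := by nlinarith [hN]
    have h2 : Cn = (r' + 1) * O' + (r' + 1) + 1 := Nat.eq_of_mul_eq_mul_left hQ h1
    rw [h2]
    have h4 : (r' + 1) * O' + (r' + 1) + 1 - (r' + 1) - 1 = (r' + 1) * O' := by omega
    rw [h4, Nat.mul_div_cancel_left _ (by omega)]

end Cfsg.Agent.lead.S2670b
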