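import Mathlib
import Cfsg.Agent.Lib_helper23_S2670x
import Cfsg.Agent.Lib_helper16_S2670x
import Cfsg.Agent.Lib_helper23_S2670b
import Cfsg.Agent.Lib_helper16_S2670b
import Cfsg.Agent.Lib_helper20_S2670b
import Cfsg.Agent.Lib_helper19_S2670t
import Cfsg.Agent.Lib_lead_S2670b
import Cfsg.Agent.Lib_helper7_S2670t

/-! helper23: polynomial-side Burnside count for S2670 (orbits of the scaling action of `Fˣ`). -/

set_option autoImplicit false
open Polynomial

namespace Cfsg.Agent.helper23.S2670y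

/-- the set of charpolys of lifts of elements of order `r` of `PGL_n` -/
def P (F : Type*) [Field F] (n r : ℕ) : Set F[X] :=
  {f | f.Monic ∧ f.natDegree = n ∧ (∃ c : F, c ≠ 0 ∧ f ∣ (X ^ r - C c) ^ n) ∧
    ∀ a : F, f ≠ (X - C a) ^ n}

theorem sc_mem {F : Type*} [Field F] {n r : ℕ} (μ : F) (hμ : μ ≠ 0) {f : F[X]}
    (hf : f ∈ P F n r) : C (μ ^ n) * f.comp (C μ⁻¹ * X) ∈ P F n r := by
  obtain ⟨hm, hd, ⟨c, hc, hdiv⟩, hna⟩ := hf
  obtain ⟨h1, h2, h3, h4, h5⟩ := S2670x.pieceS2 n r μ hμ f hm hd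
  refine ⟨h1, h2, ⟨μ ^ r * c, mul_ne_zero (pow_ne_zero _ hμ) hc, h3 c hdiv⟩, ?_⟩
  intro a ha
  have hb := (S2670x.pieceS2b n f).2 μ⁻¹ μ (inv_ne_zero hμ) hμ
  rw [inv_mul_cancel₀ hμ, (S2670x.pieceS2b n f).1] at hb
  have h6 := (S2670x.pieceS2 n r μ⁻¹ (inv_ne_zero hμ) _ h1 h2).2.2.2.1 a ha
  exact hna (μ⁻¹ * a) (hb.trans h6)

noncomputable instance instAct (F : Type*) [Field F] (n r : ℕ) : MulAction Fˣ (P F n r) where
  smul u f := ⟨C ((u : F) ^ n) * (f : F[X]).comp (C (u : F)⁻¹ * X), sc_mem (u : F) u.ne_zero f.2⟩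
  one_smul f := by
    apply Subtype.ext
    show C (((1 : Fˣ) : F) ^ n) * (f : F[X]).comp (C ((1 : Fˣ) : F)⁻¹ * X) = f
    rw [Units.val_one]
    exact (S2670x.pieceS2b n (f : F[X])).1
  mul_smul u v f := by
    apply Subtype.ext
    show C (((u * v : Fˣ) : F) ^ n) * (f : F[X]).comp (C ((u * v : Fˣ) : F)⁻¹ * X) =
      C ((u : F) ^ n) * (C ((v : F) ^ n) * (f : F[X]).comp (C (v : F)⁻¹ * X)).comp
        (C (u : F)⁻¹ * X)
    rw [Units.val_mul]
    exact (S2670x.pieceS2b n (f : F[X])).2 u v u.ne_zero v.ne_zero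

theorem smul_coe {F : Type*} [Field F] {n r : ℕ} (u : Fˣ) (f : P F n r) :
    ((u • f : P F n r) : F[X]) = C ((u : F) ^ n) * (f : F[X]).comp (C (u : F)⁻¹ * X) := rfl

instance instFin (F : Type*) [Field F] [Finite F] (n r : ℕ) : Finite (P F n r) := by
  apply Finite.of_injective (fun f : P F n r => fun i : Fin (n + 1) => (f : F[X]).coeff i)
  intro f g h
  apply Subtype.ext
  ext i
  by_cases hi : i < n + 1
  · exact congrFun h ⟨i, hi⟩
  · rw [coeff_eq_zero_of_natDegree_lt, coeff_eq_zero_of_natDegree_lt]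
    · rw [g.2.2.1]; omega
    · rw [f.2.2.1]; omega

/-- the orbit relation of the scaling action -/
noncomputable def scaleSetoid (F : Type*) [Field F] (n r : ℕ) : Setoid (P F n r) :=
  MulAction.orbitRel Fˣ (P F n r)

theorem scaleSetoid_iff {F : Type*} [Field F] {n r : ℕ} (f g : P F n r) :
    (scaleSetoid F n r).r f g ↔
      ∃ μ : F, μ ≠ 0 ∧ (g : F[X]) = C (μ ^ n) * (f : F[X]).comp (C μ⁻¹ * X) := by
  constructor
  · intro h
    have h' : (MulAction.orbitRel Fˣ (P F n r)).r g f := (MulAction.orbitRel Fˣ (P F n r)).symm h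
    rw [MulAction.orbitRel_apply] at h'
    obtain ⟨u, hu⟩ := h'
    exact ⟨(u : F), u.ne_zero, by rw [← smul_coe u f]; exact congrArg Subtype.val hu.symm⟩
  · rintro ⟨μ, hμ, h⟩
    refine (MulAction.orbitRel Fˣ (P F n r)).symm ?_
    exact MulAction.orbitRel_apply.mpr
      ⟨Units.mk0 μ hμ, Subtype.ext (by rw [smul_coe, Units.val_mk0]; exact h.symm)⟩

/-- fixed points as a subtype of polynomials -/
noncomputable def fixEquiv {F : Type*} [Field F] (n r : ℕ) (u : Fˣ) :
    MulAction.fixedBy (P F n r) u ≃ {f : F[X] // (f.Monic ∧ f.natDegree = n ∧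
      (∃ c : F, c ≠ 0 ∧ f ∣ (X ^ r - C c) ^ n) ∧ ∀ a : F, f ≠ (X - C a) ^ n) ∧
      C ((u : F) ^ n) * f.comp (C (u : F)⁻¹ * X) = f} where
  toFun x := ⟨x.1.1, x.1.2, congrArg Subtype.val x.2⟩
  invFun y := ⟨⟨y.1, y.2.1⟩, Subtype.ext y.2.2⟩
  left_inv x := rfl
  right_inv y := rfl

theorem card_orbits {F : Type*} [Field F] [Fintype F] (n r : ℕ) (hn : 2 ≤ n) (hr : r.Prime)
    (hrq : r ∣ Fintype.card F - 1) :
    Nat.card (Quotient (scaleSetoid F n r)) =
      (Nat.choose (n + r - 1) (r - 1) - r - (if r ∣ n then 1 else 0)) / r +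
        r * (if r ∣ n then 1 else 0) := by
  classical
  have hn1 : 1 ≤ n := by omega
  have hr1 : 1 ≤ r := hr.one_lt.le
  obtain ⟨h7a, h7b, ω, hω, hω1⟩ := helper16.S2670x.pieceS7 (F := F) r hr hrq
  obtain ⟨Q, hQdef⟩ : ∃ Q, Q = Fintype.card F - 1 := ⟨_, rfl⟩
  obtain ⟨I, hIdef⟩ : ∃ I : ℕ, I = if r ∣ n then 1 else 0 := ⟨_, rfl⟩
  obtain ⟨N, hNdef⟩ : ∃ N, N = Nat.card (P F n r) := ⟨_, rfl⟩
  obtain ⟨N1, hN1def⟩ : ∃ N1, N1 = Nat.card {f : F[X] // f.Monic ∧ f.natDegree = n ∧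
      f ∣ (X ^ r - C 1) ^ n ∧ ∀ a : F, f ≠ (X - C a) ^ n} := ⟨_, rfl⟩
  rw [← hIdef]
  have hI1 : I ≤ 1 := by rw [hIdef]; split_ifs <;> omega
  have hQu : Fintype.card Fˣ = Q := by rw [Fintype.card_units, hQdef]
  have hQpos : 0 < Q := by rw [← hQu]; exact Fintype.card_pos
  -- fixed point counts
  have hfix : ∀ u : Fˣ, Nat.card (MulAction.fixedBy (P F n r) u) =
      if u = 1 then N else if (u : F) ^ r = 1 then Q * I else 0 := by
    intro u
    by_cases hu1 : u = 1
    · rw [if_pos hu1, hu1, hNdef]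
      exact Nat.card_congr (Equiv.subtypeUnivEquiv
        (fun f => MulAction.mem_fixedBy.mpr (one_smul _ f)))
    · rw [if_neg hu1]
      by_cases hur : (u : F) ^ r = 1
      · rw [if_pos hur, Nat.card_congr (fixEquiv n r u), hQdef, hIdef]
        rw [← helper7.S2670t.pieceT1 n r hn1 hr hrq (u : F) hur (fun h => hu1 (Units.ext h))]
        exact Nat.card_congr (Equiv.subtypeEquivRight (fun f => by rw [not_exists]))
      · rw [if_neg hur]
        haveI : IsEmpty (MulAction.fixedBy (P F n r) u) := by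
          constructor
          rintro ⟨⟨f, hm, hd, ⟨c, hc, hdiv⟩, hna⟩, hf⟩
          exact hur (S2670b.pieceB6 n r hn1 hr1 (u : F) u.ne_zero f hm hd c hc hdiv
            (congrArg Subtype.val hf))
        exact Nat.card_of_isEmpty
  -- Burnside
  haveI : Fintype (P F n r) := Fintype.ofFinite _
  haveI : ∀ u : Fˣ, Fintype (MulAction.fixedBy (P F n r) u) := fun u => Fintype.ofFinite _
  haveI : Fintype (Quotient (MulAction.orbitRel Fˣ (P F n r))) := Fintype.ofFinite _
  have hB := MulAction.sum_card_fixedBy_eq_card_orbits_mul_card_group Fˣ (P F n r)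
  simp only [Fintype.card_eq_nat_card] at hB
  rw [← Fintype.card_eq_nat_card (α := Fˣ), hQu] at hB
  obtain ⟨O, hOdef⟩ : ∃ O, O = Nat.card (Quotient (scaleSetoid F n r)) := ⟨_, rfl⟩
  rw [← hOdef]
  have hB' : ∑ u : Fˣ, (if u = 1 then N else if (u : F) ^ r = 1 then Q * I else 0) = O * Q := by
    rw [hOdef]
    show _ = Nat.card (Quotient (MulAction.orbitRel Fˣ (P F n r))) * Q
    rw [← hB]
    exact Finset.sum_congr rfl (fun u _ => (hfix u).symm)
  -- number of r-th roots of unity among the units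
  have hroots : (Finset.univ.filter (fun u : Fˣ => (u : F) ^ r = 1)).card = r := by
    refine Eq.trans ?_ h7b
    rw [← Fintype.card_subtype, Fintype.card_eq_nat_card]
    refine Nat.card_congr ⟨fun u => ⟨(u.1 : F), u.2⟩, fun μ => ⟨Units.mk0 μ.1 ?_, ?_⟩, ?_, ?_⟩
    · intro h0
      have := μ.2
      rw [h0, zero_pow hr.ne_zero] at this
      exact zero_ne_one this
    · show ((Units.mk0 μ.1 _ : Fˣ) : F) ^ r = 1
      rw [Units.val_mk0]; exact μ.2
    · intro u; apply Subtype.ext; apply Units.ext; rfl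
    · intro μ; rfl
  have hsum : ∑ u : Fˣ, (if u = 1 then N else if (u : F) ^ r = 1 then Q * I else 0) + Q * I =
      r * (Q * I) + N := by
    have h1 : ∀ u : Fˣ, (if u = 1 then N else if (u : F) ^ r = 1 then Q * I else 0) +
        (if u = 1 then Q * I else 0) =
        (if (u : F) ^ r = 1 then Q * I else 0) + (if u = 1 then N else 0) := by
      intro u
      by_cases hu1 : u = 1
      · subst hu1
        simp [add_comm]
      · simp [hu1]
    have h2 := Finset.sum_congr (s₁ := (Finset.univ : Finset Fˣ)) rfl (fun u _ => h1 u)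
    rw [Finset.sum_add_distrib, Finset.sum_add_distrib, Finset.sum_ite_eq' Finset.univ (1 : Fˣ),
      Finset.sum_ite_eq' Finset.univ (1 : Fˣ), if_pos (Finset.mem_univ _),
      if_pos (Finset.mem_univ _), ← Finset.sum_filter, Finset.sum_const, hroots, smul_eq_mul] at h2
    exact h2
  -- the count of `P`
  have hNsum : N = ∑ u : Fˣ, Nat.card {f : F[X] // f.Monic ∧ f.natDegree = n ∧
      f ∣ (X ^ r - C (u : F)) ^ n ∧ ∀ a : F, f ≠ (X - C a) ^ n} := by
    rw [hNdef, ← S2670b.pieceB4 n r hn1 hr1]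
    exact Nat.card_congr (Equiv.subtypeEquivRight (fun f => Iff.rfl))
  have hfib : ∀ u : Fˣ, Nat.card {f : F[X] // f.Monic ∧ f.natDegree = n ∧
      f ∣ (X ^ r - C (u : F)) ^ n ∧ ∀ a : F, f ≠ (X - C a) ^ n} =
      if (∃ b : F, b ^ r = (u : F)) then N1 else I := by
    intro u
    by_cases hb : ∃ b : F, b ^ r = (u : F)
    · rw [if_pos hb]
      obtain ⟨b, hb⟩ := hb
      have hb0 : b ≠ 0 := by
        intro h0
        rw [h0, zero_pow hr.ne_zero] at hb
        exact u.ne_zero hb.symm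
      rw [← hb, hN1def]
      exact helper20.S2670b.pieceB2 n r b hb0
    · rw [if_neg hb, hIdef]
      rw [← helper19.S2670t.pieceT4 n r hn1 hr (u : F) u.ne_zero (fun b h => hb ⟨b, h⟩)]
      exact Nat.card_congr (Equiv.subtypeEquivRight (fun f => by rw [not_exists]))
  have hpow : (Finset.univ.filter (fun u : Fˣ => ∃ b : F, b ^ r = (u : F))).card * r = Q := by
    rw [hQdef, ← h7a, ← Fintype.card_subtype, Fintype.card_eq_nat_card]
    congr 1
    refine Nat.card_congr ⟨fun u => ⟨(u.1 : F), u.1.ne_zero, u.2⟩,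
      fun c => ⟨Units.mk0 c.1 c.2.1, ?_⟩, ?_, ?_⟩
    · show ∃ b : F, b ^ r = ((Units.mk0 c.1 c.2.1 : Fˣ) : F)
      rw [Units.val_mk0]; exact c.2.2
    · intro u; apply Subtype.ext; apply Units.ext; rfl
    · intro c; rfl
  obtain ⟨m1, hm1⟩ : ∃ m1, m1 = (Finset.univ.filter
    (fun u : Fˣ => ∃ b : F, b ^ r = (u : F))).card := ⟨_, rfl⟩
  obtain ⟨m2, hm2⟩ : ∃ m2, m2 = (Finset.univ.filter
    (fun u : Fˣ => ¬ ∃ b : F, b ^ r = (u : F))).card := ⟨_, rfl⟩
  have hm12 : m1 + m2 = Q := by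
    rw [hm1, hm2, Finset.card_filter_add_card_filter_not, Finset.card_univ, hQu]
  have hN2 : N = m1 * N1 + m2 * I := by
    rw [hNsum, Finset.sum_congr rfl (fun u _ => hfib u), Finset.sum_ite, Finset.sum_const,
      Finset.sum_const, smul_eq_mul, smul_eq_mul, ← hm1, ← hm2]
  have hCn : N1 + r = Nat.choose (n + r - 1) (r - 1) := by
    rw [hN1def]; exact helper16.S2670b.pieceB1 n r hn1 hr hrq
  rw [← hm1] at hpow
  -- `Q * I ≤ N`
  have hNI : Q * I ≤ N := by
    have h := hfix (Units.mk0 ω (by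
      intro h0
      rw [h0, zero_pow hr.ne_zero] at hω
      exact zero_ne_one hω))
    rw [if_neg (by intro h; exact hω1 (by simpa using congrArg Units.val h)), Units.val_mk0,
      if_pos hω] at h
    rw [← h, hNdef]
    exact Nat.card_le_card_of_injective Subtype.val Subtype.val_injective
  have hN : N * r + Q * r + Q * I = Q * Nat.choose (n + r - 1) (r - 1) + Q * r * I := by
    rw [← hCn, hN2]
    have e1 : m2 * r + Q = Q * r := by
      calc m2 * r + Q = m2 * r + m1 * r := by rw [hpow]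
        _ = (m1 + m2) * r := by ring
        _ = Q * r := by rw [hm12]
    calc (m1 * N1 + m2 * I) * r + Q * r + Q * I
        = (m1 * r) * N1 + (m2 * r + Q) * I + Q * r := by ring
      _ = Q * N1 + (Q * r) * I + Q * r := by rw [hpow, e1]
      _ = Q * (N1 + r) + Q * r * I := by ring
  have hO : O * Q = N + (r - 1) * (Q * I) := by
    rw [← hB']
    have hr' : r = (r - 1) + 1 := by omega
    have : ∑ u : Fˣ, (if u = 1 then N else if (u : F) ^ r = 1 then Q * I else 0) + Q * I =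
        N + (r - 1) * (Q * I) + Q * I := by
      rw [hsum]; conv_lhs => rw [hr']
      ring
    exact Nat.add_right_cancel this
  exact lead.S2670b.pieceB8 Q r _ I N O hr.two_le hQpos (by rw [hQdef]; exact hrq) hI1 hNI hN hO

end Cfsg.Agent.helper23.S2670y
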