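import Mathlib
import Cfsg.Agent.Lib_helper23_FpfPrime2

/-! Splitting automorphisms of prime order (towards Kegel's theorem), helper23. -/

set_option autoImplicit false
set_option linter.style.haveILetI false

open scoped Pointwise

namespace Cfsg.Agent.helper23

section norm

variable {G : Type*} [Group G]

/-- `x * φ x * ⋯ * φ^(n-1) x` -/
def normProd (φ : MulAut G) (n : ℕ) (x : G) : G :=
  ((List.range n).map (fun i : ℕ => (φ ^ i) x)).prod

theorem normProd_zero (φ : MulAut G) (x : G) : normProd φ 0 x = 1 := by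
  simp [normProd]

theorem normProd_succ (φ : MulAut G) (n : ℕ) (x : G) :
    normProd φ (n + 1) x = normProd φ n x * (φ ^ n) x := by
  unfold normProd
  rw [List.range_succ, List.map_append, List.prod_append]
  simp

/-- `φ` is a splitting automorphism with `φ ^ p = 1` -/
def IsSplit (φ : MulAut G) (p : ℕ) : Prop := φ ^ p = 1 ∧ ∀ x, normProd φ p x = 1

theorem normProd_fixed (φ : MulAut G) (x : G) (hx : φ x = x) (n : ℕ) :
    normProd φ n x = x ^ n := by
  induction n with
  | zero => rw [normProd_zero, pow_zero]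
  | succ n ih => rw [normProd_succ, ih, mulAut_pow_fixed φ n x hx, pow_succ]

theorem conj_mul_pow_apply (φ : MulAut G) (y g : G) (n : ℕ) :
    ((MulAut.conj y * φ) ^ n) g = normProd φ n y * (φ ^ n) g * (normProd φ n y)⁻¹ := by
  induction n generalizing g with
  | zero => simp [normProd_zero]
  | succ n ih =>
    rw [pow_succ, MulAut.mul_apply, ih, MulAut.mul_apply, MulAut.conj_apply, normProd_succ,
      pow_succ φ n, map_mul, map_mul, map_inv, MulAut.mul_apply, mul_inv_rev]
    group

theorem normProd_conj_mul (φ : MulAut G) (y g : G) (n : ℕ) :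
    normProd (MulAut.conj y * φ) n g = normProd φ n (g * y) * (normProd φ n y)⁻¹ := by
  induction n with
  | zero => simp [normProd_zero]
  | succ n ih =>
    rw [normProd_succ, ih, conj_mul_pow_apply, normProd_succ, normProd_succ, map_mul,
      mul_inv_rev]
    group

theorem isSplit_conj_mul {φ : MulAut G} {p : ℕ} (h : IsSplit φ p) (y : G) :
    IsSplit (MulAut.conj y * φ) p := by
  refine ⟨?_, ?_⟩
  · ext g
    rw [conj_mul_pow_apply, h.2 y, h.1]
    simp
  · intro g
    rw [normProd_conj_mul, h.2, h.2]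
    simp

theorem normProd_resAut (φ : MulAut G) (U : Subgroup G) [Finite U] (hU : ∀ u ∈ U, φ u ∈ U)
    (n : ℕ) (u : U) : ((normProd (resAut φ U hU) n u : U) : G) = normProd φ n u := by
  induction n with
  | zero => simp [normProd_zero]
  | succ n ih => rw [normProd_succ, normProd_succ, Subgroup.coe_mul, ih, resAut_pow_apply]

theorem isSplit_resAut {φ : MulAut G} {p : ℕ} (h : IsSplit φ p) (U : Subgroup G) [Finite U]
    (hU : ∀ u ∈ U, φ u ∈ U) : IsSplit (resAut φ U hU) p :=
  ⟨resAut_pow_eq_one φ U hU p h.1, fun u => Subtype.ext (by rw [normProd_resAut, h.2]; rfl)⟩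

theorem normProd_quotAut [Finite G] (φ : MulAut G) (N : Subgroup G) [N.Normal]
    (hN : ∀ n ∈ N, φ n ∈ N) (n : ℕ) (x : G) :
    normProd (quotAut φ N hN) n (QuotientGroup.mk x) = QuotientGroup.mk (normProd φ n x) := by
  induction n with
  | zero => simp [normProd_zero]
  | succ n ih => rw [normProd_succ, normProd_succ, ih, quotAut_pow_mk, QuotientGroup.mk_mul]

theorem isSplit_quotAut [Finite G] {φ : MulAut G} {p : ℕ} (h : IsSplit φ p) (N : Subgroup G)
    [N.Normal] (hN : ∀ n ∈ N, φ n ∈ N) : IsSplit (quotAut φ N hN) p := by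
  refine ⟨quotAut_pow_eq_one φ N hN p h.1, ?_⟩
  intro y
  induction y using QuotientGroup.induction_on with
  | H x => rw [normProd_quotAut, h.2]; rfl

theorem normProd_eq_prod {V : Type*} [CommGroup V] (θ : MulAut V) (n : ℕ) (v : V) :
    normProd θ n v = ∏ j ∈ Finset.range n, (θ ^ j) v := by
  induction n with
  | zero => simp [normProd_zero]
  | succ n ih => rw [normProd_succ, Finset.prod_range_succ, ih]

theorem split_two_comm (φ : MulAut G) (hs : IsSplit φ 2) : ∀ a b : G, a * b = b * a := by
  have h1 : ∀ x, φ x = x⁻¹ := by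
    intro x
    have := hs.2 x
    rw [show (2 : ℕ) = 0 + 1 + 1 from rfl, normProd_succ, normProd_succ, normProd_zero, one_mul,
      pow_zero] at this
    simp only [zero_add, pow_one, MulAut.one_apply] at this
    exact eq_inv_of_mul_eq_one_right this
  intro a b
  have h2 := h1 (a * b)
  rw [map_mul, h1, h1, mul_inv_rev] at h2
  have h3 := congrArg Inv.inv h2
  simp only [mul_inv_rev, inv_inv] at h3
  exact h3.symm

end norm

section abstract

/-- two commuting automorphisms `a`, `b` of an abelian `p'`-group with `a ^ p = 1` such that all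
`a ^ i * b` are splitting: then `a = 1` -/
theorem split_commuting_trivial {V : Type*} [CommGroup V] [Finite V] (p : ℕ) (hp : p.Prime)
    (hcop : (Nat.card V).Coprime p) (a b : MulAut V) (hab : a * b = b * a) (ha : a ^ p = 1)
    (hs : ∀ i < p, ∀ v : V, normProd (a ^ i * b) p v = 1) : a = 1 := by
  classical
  have hp0 : 0 < p := hp.pos
  let N : V → V := fun w => ∏ k ∈ Finset.range p, (a ^ k) w
  have hN_one : N 1 = 1 := by
    show ∏ k ∈ Finset.range p, (a ^ k) 1 = 1
    simp
  have hN_mul : ∀ w w', N (w * w') = N w * N w' := by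
    intro w w'
    show ∏ k ∈ Finset.range p, (a ^ k) (w * w') = _
    simp only [map_mul]
    exact Finset.prod_mul_distrib
  have hN_prod : ∀ (s : Finset ℕ) (f : ℕ → V), N (∏ j ∈ s, f j) = ∏ j ∈ s, N (f j) := by
    intro s f
    induction s using Finset.induction_on with
    | empty => simpa using hN_one
    | insert x s hx ih => rw [Finset.prod_insert hx, Finset.prod_insert hx, hN_mul, ih]
  have hN_fix : ∀ w, a (N w) = N w := by
    intro w
    show a (∏ k ∈ Finset.range p, (a ^ k) w) = ∏ k ∈ Finset.range p, (a ^ k) w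
    rw [map_prod]
    have h1 : ∀ k, a ((a ^ k) w) = (a ^ (k + 1)) w := by
      intro k; rw [pow_succ', MulAut.mul_apply]
    simp only [h1]
    have h2 := Finset.prod_range_succ' (fun k => (a ^ k) w) p
    have h3 := Finset.prod_range_succ (fun k => (a ^ k) w) p
    rw [h2] at h3
    simp only [ha, pow_zero, MulAut.one_apply] at h3
    exact mul_right_cancel h3
  have hreindex : ∀ j, 0 < j → j < p → ∀ w : V,
      ∏ i ∈ Finset.range p, (a ^ (i * j)) w = N w := by
    intro j hj0 hjp w
    have hcopj : Nat.Coprime p j := Nat.coprime_of_lt_prime hj0.ne' hjp hp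
    have hmod : ∀ i, (a ^ (i * j)) w = (a ^ ((i * j) % p)) w := by
      intro i; rw [pow_eq_pow_mod (i * j) ha]
    simp only [hmod]
    have hinj : Set.InjOn (fun i => (i * j) % p) (Finset.range p : Set ℕ) := by
      intro i hi i' hi' h
      simp only [Finset.coe_range, Set.mem_Iio] at hi hi'
      have h1 : i * j ≡ i' * j [MOD p] := h
      have h2 : i ≡ i' [MOD p] := Nat.ModEq.cancel_right_of_coprime hcopj h1
      exact Nat.ModEq.eq_of_lt_of_lt h2 hi hi'
    have himg : (Finset.range p).image (fun i => (i * j) % p) = Finset.range p := by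
      apply Finset.eq_of_subset_of_card_le
      · intro k hk
        rw [Finset.mem_image] at hk
        obtain ⟨i, _, rfl⟩ := hk
        exact Finset.mem_range.mpr (Nat.mod_lt _ hp0)
      · rw [Finset.card_image_of_injOn hinj]
    show _ = ∏ k ∈ Finset.range p, (a ^ k) w
    conv_rhs => rw [← himg]
    rw [Finset.prod_image hinj]
  have hpow_mul : ∀ i j : ℕ, (a ^ i * b) ^ j = a ^ (i * j) * b ^ j := by
    intro i j
    have hc : Commute (a ^ i) b := Commute.pow_left (show Commute a b from hab) i
    rw [hc.mul_pow, ← pow_mul]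
  have key : ∀ v : V, v ^ p = N v := by
    intro v
    have h1 : ∏ i ∈ Finset.range p, ∏ j ∈ Finset.range p, ((a ^ i * b) ^ j) v = 1 := by
      apply Finset.prod_eq_one
      intro i hi
      rw [← normProd_eq_prod]
      exact hs i (Finset.mem_range.mp hi) v
    rw [Finset.prod_comm] at h1
    have h2 : ∀ j ∈ Finset.range p, ∏ i ∈ Finset.range p, ((a ^ i * b) ^ j) v =
        if j = 0 then v ^ p else N ((b ^ j) v) := by
      intro j hj
      split_ifs with h0
      · subst h0
        simp [Finset.prod_const]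
      · have : ∀ i, ((a ^ i * b) ^ j) v = (a ^ (i * j)) ((b ^ j) v) := by
          intro i; rw [hpow_mul, MulAut.mul_apply]
        simp only [this]
        exact hreindex j (Nat.pos_of_ne_zero h0) (Finset.mem_range.mp hj) _
    rw [Finset.prod_congr rfl h2] at h1
    have h0mem : 0 ∈ Finset.range p := Finset.mem_range.mpr hp0
    rw [← Finset.mul_prod_erase _ _ h0mem, if_pos rfl] at h1
    have h3 : ∏ j ∈ (Finset.range p).erase 0, (if j = 0 then v ^ p else N ((b ^ j) v)) =
        ∏ j ∈ (Finset.range p).erase 0, N ((b ^ j) v) := by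
      apply Finset.prod_congr rfl
      intro j hj
      rw [if_neg (Finset.ne_of_mem_erase hj)]
    rw [h3] at h1
    have h4 : ∏ j ∈ Finset.range p, (b ^ j) v = 1 := by
      have := hs 0 hp0 v
      rw [normProd_eq_prod] at this
      simpa using this
    have h5 : ∏ j ∈ Finset.range p, N ((b ^ j) v) = 1 := by
      rw [← hN_prod, h4, hN_one]
    rw [← Finset.mul_prod_erase _ _ h0mem] at h5
    simp only [pow_zero, MulAut.one_apply] at h5
    exact mul_right_cancel (h1.trans h5.symm)
  ext v
  rw [MulAut.one_apply]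
  have h1 : a (v ^ p) = v ^ p := by rw [key v]; exact hN_fix v
  rw [map_pow] at h1
  have h2 : (a v * v⁻¹) ^ p = 1 := by rw [mul_pow, inv_pow, h1, mul_inv_cancel]
  have h3 : orderOf (a v * v⁻¹) ∣ p := orderOf_dvd_of_pow_eq_one h2
  have h4 : orderOf (a v * v⁻¹) ∣ Nat.card V := orderOf_dvd_natCard _
  have h5 : orderOf (a v * v⁻¹) ∣ Nat.gcd (Nat.card V) p := Nat.dvd_gcd h4 h3
  rw [Nat.Coprime.gcd_eq_one hcop] at h5
  exact mul_inv_eq_one.mp (orderOf_eq_one_iff.mp (Nat.dvd_one.mp h5))

/-- powers of the twisted elements `a * θ` run over the coset bijectively -/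
theorem twist_pow_bij {B : Type*} [Group B] (A : Subgroup B) [Finite A] (θ : B)
    (hθ : ∀ a ∈ A, θ * a * θ⁻¹ ∈ A) (p : ℕ) (hp : p.Prime) (hpow : ∀ a ∈ A, (a * θ) ^ p = 1)
    (j : ℕ) (hj0 : 0 < j) (hjp : j < p) :
    ∃ e : A ≃ A, ∀ a : A, ((e a : A) : B) * θ ^ j = ((a : B) * θ) ^ j := by
  have hθpow : ∀ n : ℕ, ∀ a ∈ A, θ ^ n * a * (θ ^ n)⁻¹ ∈ A := by
    intro n
    induction n with
    | zero => intro a ha; simpa using ha
    | succ n ih =>
      intro a ha
      have := hθ _ (ih a ha)
      have e : θ ^ (n + 1) * a * (θ ^ (n + 1))⁻¹ = θ * (θ ^ n * a * (θ ^ n)⁻¹) * θ⁻¹ := by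
        rw [pow_succ']; group
      rw [e]; exact this
  have hmem : ∀ n : ℕ, ∀ a ∈ A, (a * θ) ^ n * (θ ^ n)⁻¹ ∈ A := by
    intro n
    induction n with
    | zero => intro a _; simp
    | succ n ih =>
      intro a ha
      have e : (a * θ) ^ (n + 1) * (θ ^ (n + 1))⁻¹ =
          ((a * θ) ^ n * (θ ^ n)⁻¹) * (θ ^ n * a * (θ ^ n)⁻¹) := by
        rw [pow_succ, pow_succ, mul_inv_rev]
        simp only [mul_assoc, inv_mul_cancel_left, mul_inv_cancel_left]
      rw [e]
      exact A.mul_mem (ih a ha) (hθpow n a ha)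
  let f : A → A := fun a => ⟨((a : B) * θ) ^ j * (θ ^ j)⁻¹, hmem j a a.2⟩
  have hcopj : Nat.Coprime j p := (Nat.coprime_of_lt_prime hj0.ne' hjp hp).symm
  obtain ⟨m, _, hm⟩ := Nat.exists_mul_mod_eq_one_of_coprime hcopj hp.one_lt
  have hroot : ∀ c : B, c ^ p = 1 → (c ^ j) ^ m = c := by
    intro c hc
    rw [← pow_mul, pow_eq_pow_mod (j * m) hc, hm, pow_one]
  have hinj : Function.Injective f := by
    intro a a' h
    have h1 : ((a : B) * θ) ^ j * (θ ^ j)⁻¹ = ((a' : B) * θ) ^ j * (θ ^ j)⁻¹ :=
      congrArg Subtype.val h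
    have h2 : ((a : B) * θ) ^ j = ((a' : B) * θ) ^ j := mul_right_cancel h1
    have h3 : (a : B) * θ = (a' : B) * θ := by
      rw [← hroot _ (hpow a a.2), ← hroot _ (hpow a' a'.2), h2]
    exact Subtype.ext (mul_right_cancel h3)
  refine ⟨Equiv.ofBijective f (Finite.injective_iff_bijective.mp hinj), ?_⟩
  intro a
  show ((a : B) * θ) ^ j * (θ ^ j)⁻¹ * θ ^ j = _
  rw [inv_mul_cancel_right]

/-- a `p'`-group `A` of automorphisms of an elementary abelian `p`-group, normalized by `θ`, such
that all elements of the coset `A θ` are splitting of order dividing `p`, is trivial -/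
theorem split_coprime_trivial {V : Type*} [CommGroup V] [Finite V] (p : ℕ) (hp : p.Prime)
    (hexp : ∀ v : V, v ^ p = 1) (A : Subgroup (MulAut V)) [Finite A]
    (hcop : (Nat.card A).Coprime p) (θ : MulAut V) (hθ : ∀ a ∈ A, θ * a * θ⁻¹ ∈ A)
    (hpow : ∀ a ∈ A, (a * θ) ^ p = 1)
    (hs : ∀ a ∈ A, ∀ v : V, normProd (a * θ) p v = 1) : ∀ a ∈ A, a = 1 := by
  classical
  haveI : Fintype A := Fintype.ofFinite A
  have hp0 : 0 < p := hp.pos
  let T : V → V := fun w => ∏ c : A, (c : MulAut V) w
  have hT_one : T 1 = 1 := by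
    show ∏ c : A, (c : MulAut V) 1 = 1
    simp
  have hT_mul : ∀ w w', T (w * w') = T w * T w' := by
    intro w w'
    show ∏ c : A, (c : MulAut V) (w * w') = _
    simp only [map_mul]
    exact Finset.prod_mul_distrib
  have hT_prod : ∀ (s : Finset ℕ) (f : ℕ → V), T (∏ j ∈ s, f j) = ∏ j ∈ s, T (f j) := by
    intro s f
    induction s using Finset.induction_on with
    | empty => simpa using hT_one
    | insert x s hx ih => rw [Finset.prod_insert hx, Finset.prod_insert hx, hT_mul, ih]
  have hT_fix : ∀ (b : A) w, (b : MulAut V) (T w) = T w := by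
    intro b w
    show (b : MulAut V) (∏ c : A, (c : MulAut V) w) = ∏ c : A, (c : MulAut V) w
    rw [map_prod]
    have : ∀ c : A, (b : MulAut V) ((c : MulAut V) w) = (((b * c : A) : MulAut V)) w := by
      intro c; rw [Subgroup.coe_mul, MulAut.mul_apply]
    simp only [this]
    exact Fintype.prod_equiv (Equiv.mulLeft b) _ _ (fun c => rfl)
  have key : ∀ v : V, v ^ Fintype.card A = T v := by
    intro v
    have h1 : ∏ a : A, ∏ j ∈ Finset.range p, ((((a : MulAut V) * θ) ^ j) v) = 1 := by
      apply Finset.prod_eq_one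
      intro a _
      rw [← normProd_eq_prod]
      exact hs a a.2 v
    rw [Finset.prod_comm] at h1
    have h2 : ∀ j ∈ Finset.range p, ∏ a : A, ((((a : MulAut V) * θ) ^ j) v) =
        if j = 0 then v ^ Fintype.card A else T ((θ ^ j) v) := by
      intro j hj
      split_ifs with h0
      · subst h0
        simp [Finset.prod_const, Finset.card_univ]
      · obtain ⟨e, he⟩ := twist_pow_bij A θ hθ p hp hpow j (Nat.pos_of_ne_zero h0)
          (Finset.mem_range.mp hj)
        have : ∀ a : A, ((((a : MulAut V) * θ) ^ j) v) = ((e a : A) : MulAut V) ((θ ^ j) v) := by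
          intro a; rw [← he a, MulAut.mul_apply]
        simp only [this]
        exact Fintype.prod_equiv e _ _ (fun a => rfl)
    rw [Finset.prod_congr rfl h2] at h1
    have h0mem : 0 ∈ Finset.range p := Finset.mem_range.mpr hp0
    rw [← Finset.mul_prod_erase _ _ h0mem, if_pos rfl] at h1
    have h3 : ∏ j ∈ (Finset.range p).erase 0,
        (if j = 0 then v ^ Fintype.card A else T ((θ ^ j) v)) =
        ∏ j ∈ (Finset.range p).erase 0, T ((θ ^ j) v) := by
      apply Finset.prod_congr rfl
      intro j hj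
      rw [if_neg (Finset.ne_of_mem_erase hj)]
    rw [h3] at h1
    have h4 : ∏ j ∈ Finset.range p, (θ ^ j) v = 1 := by
      have := hs 1 A.one_mem v
      rw [normProd_eq_prod] at this
      simpa using this
    have h5 : ∏ j ∈ Finset.range p, T ((θ ^ j) v) = 1 := by
      rw [← hT_prod, h4, hT_one]
    rw [← Finset.mul_prod_erase _ _ h0mem] at h5
    simp only [pow_zero, MulAut.one_apply] at h5
    exact mul_right_cancel (h1.trans h5.symm)
  intro b hb
  ext v
  rw [MulAut.one_apply]
  have h1 : b (v ^ Fintype.card A) = v ^ Fintype.card A := by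
    rw [key v]; exact hT_fix ⟨b, hb⟩ v
  rw [map_pow] at h1
  have h2 : (b v * v⁻¹) ^ Fintype.card A = 1 := by rw [mul_pow, inv_pow, h1, mul_inv_cancel]
  have h3 : orderOf (b v * v⁻¹) ∣ Fintype.card A := orderOf_dvd_of_pow_eq_one h2
  have h4 : orderOf (b v * v⁻¹) ∣ p := orderOf_dvd_of_pow_eq_one (hexp _)
  have h5 : orderOf (b v * v⁻¹) ∣ Nat.gcd (Nat.card A) p := by
    rw [Nat.card_eq_fintype_card]; exact Nat.dvd_gcd h3 h4
  rw [Nat.Coprime.gcd_eq_one hcop] at h5
  exact mul_inv_eq_one.mp (orderOf_eq_one_iff.mp (Nat.dvd_one.mp h5))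

end abstract

end Cfsg.Agent.helper23
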