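import Mathlib
import Cfsg.Agent.Lib_helper23_Split1
import Cfsg.Agent.Lib_helper23_FpfPrime4

/-! Kegel's theorem: a finite group with a splitting automorphism of prime order is nilpotent
(helper23). -/

set_option autoImplicit false
set_option linter.style.haveILetI false

open scoped Pointwise

namespace Cfsg.Agent.helper23

universe u

section concrete

variable {G : Type*} [Group G] [Finite G]

/-- a `φ`-fixed element centralizes every `φ`-invariant abelian normal `p'`-subgroup -/
theorem split_fixed_centralizes (φ : MulAut G) (p : ℕ) (hp : p.Prime) (hs : IsSplit φ p) (x : G)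
    (hx : φ x = x) (V : Subgroup G) [hVn : V.Normal] (hVc : ∀ a ∈ V, ∀ b ∈ V, a * b = b * a)
    (hVφ : ∀ v ∈ V, φ v ∈ V) (hcop : (Nat.card V).Coprime p) : ∀ v ∈ V, x * v * x⁻¹ = v := by
  have hxp : x ^ p = 1 := by rw [← normProd_fixed φ x hx p]; exact hs.2 x
  have hVx : ∀ v ∈ V, (MulAut.conj x) v ∈ V := by
    intro v hv; rw [MulAut.conj_apply]; exact hVn.conj_mem v hv _
  have hVψ : ∀ i : ℕ, ∀ v ∈ V, (MulAut.conj (x ^ i) * φ) v ∈ V := by
    intro i v hv
    rw [MulAut.mul_apply, MulAut.conj_apply]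
    exact hVn.conj_mem _ (hVφ v hv) _
  have h1 : resAut (MulAut.conj x) V hVx * resAut φ V hVφ =
      resAut φ V hVφ * resAut (MulAut.conj x) V hVx := by
    ext v
    simp only [MulAut.mul_apply, resAut_apply, MulAut.conj_apply, map_mul, map_inv, hx]
  have h2 : (resAut (MulAut.conj x) V hVx) ^ p = 1 :=
    resAut_pow_eq_one _ V hVx p (by rw [← map_pow, hxp, map_one])
  have h3 : ∀ i < p, ∀ v : V,
      normProd ((resAut (MulAut.conj x) V hVx) ^ i * resAut φ V hVφ) p v = 1 := by
    intro i _ v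
    have hc : (resAut (MulAut.conj x) V hVx) ^ i * resAut φ V hVφ =
        resAut (MulAut.conj (x ^ i) * φ) V (hVψ i) := by
      ext w
      simp only [MulAut.mul_apply, resAut_apply, resAut_pow_apply, map_pow]
    rw [hc]
    apply Subtype.ext
    rw [normProd_resAut]
    exact (isSplit_conj_mul hs (x ^ i)).2 v
  have key := @split_commuting_trivial ↥V
    { (inferInstance : Group V) with mul_comm := fun a b => Subtype.ext (hVc a a.2 b b.2) }
    inferInstance p hp hcop (resAut (MulAut.conj x) V hVx) (resAut φ V hVφ) h1 h2 h3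
  intro v hv
  have := congrArg (fun f : MulAut V => ((f ⟨v, hv⟩ : V) : G)) key
  simpa [resAut_apply, MulAut.conj_apply] using this

/-- a `φ`-invariant elementary abelian normal `p`-subgroup whose centralizer has `p'`-index is
central -/
theorem split_central_of_coprime_index (φ : MulAut G) (p : ℕ) (hp : p.Prime) (hs : IsSplit φ p)
    (V : Subgroup G) [hVn : V.Normal] (hVc : ∀ a ∈ V, ∀ b ∈ V, a * b = b * a)
    (hVφ : ∀ v ∈ V, φ v ∈ V) (hexp : ∀ v ∈ V, v ^ p = 1)
    (hcop : ((Subgroup.centralizer (V : Set G)).index).Coprime p) : V ≤ Subgroup.center G := by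
  have hVψ : ∀ g : G, ∀ v ∈ V, (MulAut.conj g * φ) v ∈ V := by
    intro g v hv
    rw [MulAut.mul_apply, MulAut.conj_apply]
    exact hVn.conj_mem _ (hVφ v hv) _
  have hρθ : ∀ g : G, (MulAut.conjNormal g : MulAut V) * resAut φ V hVφ =
      resAut (MulAut.conj g * φ) V (hVψ g) := by
    intro g
    ext v
    simp only [MulAut.mul_apply, resAut_apply, MulAut.conjNormal_apply, MulAut.conj_apply]
  haveI : Finite (MulAut.conjNormal (H := V)).range :=
    Finite.of_surjective (MulAut.conjNormal (H := V)).rangeRestrict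
      (MulAut.conjNormal (H := V)).rangeRestrict_surjective
  have hle : Subgroup.centralizer (V : Set G) ≤ (MulAut.conjNormal (H := V)).ker := by
    intro g hg
    rw [MonoidHom.mem_ker]
    ext v
    rw [MulAut.conjNormal_apply, MulAut.one_apply]
    have := Subgroup.mem_centralizer_iff.mp hg v v.2
    rw [← this, mul_inv_cancel_right]
  have hcopA : (Nat.card (MulAut.conjNormal (H := V)).range).Coprime p := by
    rw [← Subgroup.index_ker]
    exact Nat.Coprime.coprime_dvd_left (Subgroup.index_dvd_of_le hle) hcop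
  have hθ : ∀ a ∈ (MulAut.conjNormal (H := V)).range,
      resAut φ V hVφ * a * (resAut φ V hVφ)⁻¹ ∈ (MulAut.conjNormal (H := V)).range := by
    rintro _ ⟨g, rfl⟩
    refine ⟨φ g, ?_⟩
    rw [eq_mul_inv_iff_mul_eq]
    ext v
    simp only [MulAut.mul_apply, resAut_apply, MulAut.conjNormal_apply, map_mul, map_inv]
  have hpow : ∀ a ∈ (MulAut.conjNormal (H := V)).range, (a * resAut φ V hVφ) ^ p = 1 := by
    rintro _ ⟨g, rfl⟩
    rw [hρθ]
    exact resAut_pow_eq_one _ V _ p (isSplit_conj_mul hs g).1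
  have hsp : ∀ a ∈ (MulAut.conjNormal (H := V)).range, ∀ v : V,
      normProd (a * resAut φ V hVφ) p v = 1 := by
    rintro _ ⟨g, rfl⟩ v
    rw [hρθ]
    apply Subtype.ext
    rw [normProd_resAut]
    exact (isSplit_conj_mul hs g).2 v
  have hexp' : ∀ v : V, v ^ p = 1 := fun v => Subtype.ext (by
    rw [Subgroup.coe_pow]; exact hexp v v.2)
  have key := @split_coprime_trivial ↥V
    { (inferInstance : Group V) with mul_comm := fun a b => Subtype.ext (hVc a a.2 b b.2) }
    inferInstance p hp hexp' (MulAut.conjNormal (H := V)).range inferInstance hcopA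
    (resAut φ V hVφ) hθ hpow hsp
  intro v hv
  rw [Subgroup.mem_center_iff]
  intro g
  have h1 := key _ ⟨g, rfl⟩
  have h2 := congrArg (fun f : MulAut V => ((f ⟨v, hv⟩ : V) : G)) h1
  simp only [MulAut.conjNormal_apply, MulAut.one_apply] at h2
  calc g * v = (g * v * g⁻¹) * g := by rw [inv_mul_cancel_right]
    _ = v * g := by rw [h2]

theorem exists_invariant_sylow_of_pow (φ : MulAut G) (p : ℕ) [hp : Fact p.Prime]
    (hφ : φ ^ p = 1) : ∃ P : Sylow p G, ∀ u ∈ (P : Subgroup G), φ u ∈ (P : Subgroup G) := by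
  classical
  haveI : Fintype (Sylow p G) := Fintype.ofFinite _
  have hnd : ¬ p ∣ Fintype.card (Sylow p G) := by
    intro h
    have h1 : Nat.card (Sylow p G) ≡ 1 [MOD p] := card_sylow_modEq_one p G
    rw [Nat.card_eq_fintype_card] at h1
    have h2 : Fintype.card (Sylow p G) ≡ 0 [MOD p] := (Nat.modEq_zero_iff_dvd).mpr h
    have h3 : 1 ≡ 0 [MOD p] := h1.symm.trans h2
    have h4 : p ∣ 1 := (Nat.modEq_zero_iff_dvd).mp h3
    exact hp.out.one_lt.ne' (Nat.dvd_one.mp h4)
  obtain ⟨P, hP⟩ := Equiv.Perm.exists_fixed_point_of_prime (p := p) (n := 1) hnd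
    (σ := MulAction.toPermHom (MulAut G) (Sylow p G) φ)
    (by rw [pow_one, ← map_pow, hφ, map_one])
  refine ⟨P, ?_⟩
  intro u hu
  have h1 : φ • P = P := hP
  have h2 : φ • u ∈ φ • (P : Subgroup G) := Subgroup.smul_mem_pointwise_smul u φ _ hu
  rw [← Sylow.pointwise_smul_def, h1, MulAut.smul_def] at h2
  exact h2

theorem exists_fixed_ne_one (φ : MulAut G) (p : ℕ) [hp : Fact p.Prime] (hφ : φ ^ p = 1)
    (Z : Subgroup G) (hZφ : ∀ u ∈ Z, φ u ∈ Z) (hZp : IsPGroup p Z) (hZne : Z ≠ ⊥) :
    ∃ x ∈ Z, φ x = x ∧ x ≠ 1 := by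
  classical
  haveI : Fintype Z := Fintype.ofFinite _
  have hpd : p ∣ Fintype.card Z := by
    rw [← Nat.card_eq_fintype_card]
    obtain ⟨k, hk⟩ := IsPGroup.iff_card.mp hZp
    rcases Nat.eq_zero_or_pos k with h0 | h0
    · exfalso; apply hZne; rw [← Subgroup.card_eq_one, hk, h0, pow_zero]
    · rw [hk]; exact dvd_pow_self p h0.ne'
  obtain ⟨b, hb, hb1⟩ := Equiv.Perm.exists_fixed_point_of_prime' (p := p) (n := 1) hpd
    (σ := MulAut.toPerm Z (resAut φ Z hZφ))
    (by rw [pow_one, ← map_pow, resAut_pow_eq_one φ Z hZφ p hφ, map_one])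
    (a := 1) (by show resAut φ Z hZφ 1 = 1; exact map_one _)
  refine ⟨b, b.2, ?_, ?_⟩
  · have h1 : resAut φ Z hZφ b = b := hb
    have := congrArg Subtype.val h1
    rwa [resAut_apply] at this
  · intro h; exact hb1 (Subtype.ext h)

end concrete

end Cfsg.Agent.helper23
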