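import Mathlib
import Cfsg.Agent.Lib_helper23_Split2

/-! Kegel's theorem: a finite group with a splitting automorphism of prime order is nilpotent:
the induction (helper23). -/

set_option autoImplicit false
set_option linter.style.haveILetI false

namespace Cfsg.Agent.helper23

universe u

section main

variable {G : Type u} [Group G] [Finite G]

theorem exists_order_p (p : ℕ) [hp : Fact p.Prime] (Z : Subgroup G) (hZp : IsPGroup p Z)
    (hZne : Z ≠ ⊥) : ∃ z ∈ Z, orderOf z = p := by
  have hpd : p ∣ Nat.card Z := by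
    obtain ⟨k, hk⟩ := IsPGroup.iff_card.mp hZp
    rcases Nat.eq_zero_or_pos k with h0 | h0
    · exfalso; apply hZne; rw [← Subgroup.card_eq_one, hk, h0, pow_zero]
    · rw [hk]; exact dvd_pow_self p h0.ne'
  obtain ⟨z, hz⟩ := exists_prime_orderOf_dvd_card' (G := Z) p hpd
  exact ⟨(z : G), z.2, by rw [Subgroup.orderOf_coe]; exact hz⟩

theorem split_center_ne_bot [Nontrivial G] (φ : MulAut G) (p : ℕ) (hp : p.Prime) (hp2 : p ≠ 2)
    (hs : IsSplit φ p) (hpd : p ∣ Nat.card G)
    (IHsub : ∀ U : Subgroup G, (∀ u ∈ U, φ u ∈ U) → U ≠ ⊤ → Group.IsNilpotent U)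
    (IHquot : ∀ (N : Subgroup G) [N.Normal], (∀ u ∈ N, φ u ∈ N) → N ≠ ⊥ →
      Group.IsNilpotent (G ⧸ N)) :
    Subgroup.center G ≠ ⊥ := by
  classical
  haveI : Fact p.Prime := ⟨hp⟩
  obtain ⟨P, hPφ⟩ := exists_invariant_sylow_of_pow φ p hs.1
  have hPne : (P : Subgroup G) ≠ ⊥ := P.ne_bot_of_dvd_card hpd
  have hfin : ∀ z : G, z ∈ Subgroup.center G → z ≠ 1 → Subgroup.center G ≠ ⊥ := by
    intro z hz hz1 hbot
    rw [hbot, Subgroup.mem_bot] at hz
    exact hz1 hz
  -- J
  obtain ⟨J, hJdef⟩ : ∃ J : Subgroup G, J = Cfsg.thompsonSubgroupOf p (P : Subgroup G) :=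
    ⟨_, rfl⟩
  have hJP : J ≤ P := by
    rw [hJdef]; exact Cfsg.Agent.helper3.thompsonSubgroupOf_le_self p _
  have hJφ : ∀ u ∈ J, φ u ∈ J := by
    intro u hu
    have h1 := Cfsg.Agent.helper3.thompsonSubgroupOf_map_le p (P : Subgroup G) φ
    rw [map_eq_of_invariant φ (P : Subgroup G) hPφ] at h1
    rw [hJdef] at hu ⊢
    exact h1 (Subgroup.mem_map_of_mem _ hu)
  have hJne : J ≠ ⊥ := by
    rw [hJdef]
    exact (Cfsg.Agent.helper10.induced_isConjugacyFunctor (X := G)
      (fun Q _ => Cfsg.thompsonSubgroup p Q) (isCharPFunctor_thompson p)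
      (P : Subgroup G) P.isPGroup').2.1 hPne
  -- Z
  obtain ⟨Z, hZdef⟩ : ∃ Z : Subgroup G,
      Z = (P : Subgroup G) ⊓ Subgroup.centralizer ((P : Subgroup G) : Set G) := ⟨_, rfl⟩
  have hZP : Z ≤ P := by rw [hZdef]; exact inf_le_left
  have hZφ : ∀ u ∈ Z, φ u ∈ Z := by
    intro u hu
    rw [hZdef] at hu ⊢
    exact Subgroup.mem_inf.mpr ⟨hPφ u (Subgroup.mem_inf.mp hu).1,
      centralizer_invariant φ _ hPφ u (Subgroup.mem_inf.mp hu).2⟩
  have hZne : Z ≠ ⊥ := by
    haveI : Nontrivial (P : Subgroup G) := (Subgroup.nontrivial_iff_ne_bot _).mpr hPne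
    have h1 : Subgroup.center (P : Subgroup G) ≠ ⊥ :=
      (Subgroup.nontrivial_iff_ne_bot _).mp P.isPGroup'.center_nontrivial
    rw [hZdef, ← Cfsg.Agent.helper19.map_center_eq_inf_centralizer]
    intro h2
    exact h1 ((Subgroup.map_eq_bot_iff_of_injective _ (Subgroup.subtype_injective _)).mp h2)
  have hZp : IsPGroup p Z := P.isPGroup'.to_le hZP
  by_cases hN2 : Subgroup.centralizer (Z : Set G) = ⊤
  · obtain ⟨z, hz1⟩ := Subgroup.ne_bot_iff_exists_ne_one.mp hZne
    refine hfin (z : G) ?_ (fun h => hz1 (Subtype.ext h))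
    rw [Subgroup.mem_center_iff]
    intro g
    have hg : g ∈ Subgroup.centralizer (Z : Set G) := by rw [hN2]; exact Subgroup.mem_top g
    exact (Subgroup.mem_centralizer_iff.mp hg z z.2).symm
  by_cases hN1 : Subgroup.normalizer (J : Set G) = ⊤
  · haveI hJn : J.Normal := Subgroup.normalizer_eq_top_iff.mp hN1
    have hq := IHquot J hJφ hJne
    haveI hPn : (P : Subgroup G).Normal := by
      have hsurj : Function.Surjective (QuotientGroup.mk' J) := QuotientGroup.mk'_surjective J
      have h1 : ((P.mapSurjective hsurj : Sylow p (G ⧸ J)) : Subgroup (G ⧸ J)).Normal := by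
        haveI := hq
        infer_instance
      have h2 : ((P : Subgroup G).map (QuotientGroup.mk' J)).comap (QuotientGroup.mk' J) =
          (P : Subgroup G) := by
        apply Subgroup.comap_map_eq_self
        rw [QuotientGroup.ker_mk']
        exact hJP
      rw [← h2]
      exact Subgroup.Normal.comap h1 _
    obtain ⟨V, hVdef⟩ : ∃ V : Subgroup G, V = omegaZ p (P : Subgroup G) := ⟨_, rfl⟩
    haveI hVn : V.Normal := by rw [hVdef]; exact omegaZ_normal p _
    have hVφ : ∀ v ∈ V, φ v ∈ V := by
      intro v hv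
      rw [hVdef, mem_omegaZ] at hv ⊢
      exact ⟨hPφ v hv.1, centralizer_invariant φ _ hPφ v hv.2.1,
        by rw [← map_pow, hv.2.2, map_one]⟩
    have hVc : ∀ a ∈ V, ∀ b ∈ V, a * b = b * a := by
      intro a ha b hb
      rw [hVdef, mem_omegaZ] at ha hb
      exact Subgroup.mem_centralizer_iff.mp hb.2.1 a ha.1
    have hVexp : ∀ v ∈ V, v ^ p = 1 := by
      intro v hv; rw [hVdef, mem_omegaZ] at hv; exact hv.2.2
    have hVcop : ((Subgroup.centralizer (V : Set G)).index).Coprime p := by
      have hle : (P : Subgroup G) ≤ Subgroup.centralizer (V : Set G) := by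
        rw [hVdef]; exact le_centralizer_omegaZ p _
      have h1 : (Subgroup.centralizer (V : Set G)).index ∣ (P : Subgroup G).index :=
        Subgroup.index_dvd_of_le hle
      have h2 : ((P : Subgroup G).index).Coprime p := by
        rw [Nat.coprime_comm, hp.coprime_iff_not_dvd]; exact P.not_dvd_index
      exact Nat.Coprime.coprime_dvd_left h1 h2
    have hVcen := split_central_of_coprime_index φ p hp hs V hVc hVφ hVexp hVcop
    obtain ⟨z, hzZ, hzo⟩ := exists_order_p p Z hZp hZne
    have hzV : z ∈ V := by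
      rw [hVdef, mem_omegaZ]
      rw [hZdef] at hzZ
      exact ⟨(Subgroup.mem_inf.mp hzZ).1, (Subgroup.mem_inf.mp hzZ).2,
        by rw [← hzo]; exact pow_orderOf_eq_one z⟩
    refine hfin z (hVcen hzV) ?_
    intro h
    rw [h, orderOf_one] at hzo
    exact hp.one_lt.ne hzo
  -- both proper: normal p-complement
  have hnil1 := IHsub _ (normalizer_invariant φ J hJφ) hN1
  have hnil2 := IHsub _ (centralizer_invariant φ Z hZφ) hN2
  have hnpc : Cfsg.HasNormalPComplement p G := by
    have hnpc1 := npc_of_nilpotent hnil1 p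
    have hnpc2 := npc_of_nilpotent hnil2 p
    subst hJdef
    subst hZdef
    exact (Cfsg.Agent.S0108.result hp2 P).mpr ⟨hnpc1, hnpc2⟩
  obtain ⟨S, K, hKn, hKS⟩ := hnpc
  haveI := hKn
  have hKφ : ∀ u ∈ K, φ u ∈ K := by
    intro u hu
    rw [Cfsg.Agent.S0086.result S K hKS] at hu ⊢
    rwa [MulEquiv.orderOf_eq]
  have hKtop : K ≠ ⊤ := by
    intro htop
    have h1 : K.index = Nat.card (S : Subgroup G) := hKS.symm.index_eq_card
    rw [htop, Subgroup.index_top] at h1
    exact S.ne_bot_of_dvd_card hpd (Subgroup.card_eq_one.mp h1.symm)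
  have hKnil := IHsub K hKφ hKtop
  have hKcop : (Nat.card K).Coprime p :=
    Cfsg.Agent.helper10.card_coprime_of_isComplement' S K hKS
  obtain ⟨x, hxZ, hxφ, hx1⟩ := exists_fixed_ne_one φ p hs.1 Z hZφ hZp hZne
  have hxp : x ^ p = 1 := by rw [← normProd_fixed φ x hxφ p]; exact hs.2 x
  have hxcP : ∀ y ∈ (P : Subgroup G), y * x = x * y := by
    rw [hZdef] at hxZ
    exact fun y hy => Subgroup.mem_centralizer_iff.mp (Subgroup.mem_inf.mp hxZ).2 y hy
  have hxK : ∀ k ∈ K, x * k * x⁻¹ = k := by
    by_cases hKbot : K = ⊥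
    · intro k hk
      rw [hKbot, Subgroup.mem_bot] at hk
      rw [hk, mul_one, mul_inv_cancel]
    · obtain ⟨ZK, hZKdef⟩ : ∃ ZK : Subgroup G,
          ZK = K ⊓ Subgroup.centralizer (K : Set G) := ⟨_, rfl⟩
      have hZKK : ZK ≤ K := by rw [hZKdef]; exact inf_le_left
      have hZKne : ZK ≠ ⊥ := by
        haveI : Nontrivial K := (Subgroup.nontrivial_iff_ne_bot _).mpr hKbot
        haveI := hKnil
        have h1 : Subgroup.center K ≠ ⊥ := Group.IsNilpotent.center_ne_bot K
        rw [hZKdef, ← Cfsg.Agent.helper19.map_center_eq_inf_centralizer]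
        intro h2
        exact h1 ((Subgroup.map_eq_bot_iff_of_injective _ (Subgroup.subtype_injective _)).mp h2)
      haveI hZKn : ZK.Normal := by
        constructor
        intro z hz g
        rw [hZKdef] at hz ⊢
        refine Subgroup.mem_inf.mpr ⟨hKn.conj_mem z (Subgroup.mem_inf.mp hz).1 g, ?_⟩
        exact (Subgroup.normal_centralizer (H := K)).conj_mem z (Subgroup.mem_inf.mp hz).2 g
      have hZKφ : ∀ u ∈ ZK, φ u ∈ ZK := by
        intro u hu
        rw [hZKdef] at hu ⊢
        exact Subgroup.mem_inf.mpr ⟨hKφ u (Subgroup.mem_inf.mp hu).1,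
          centralizer_invariant φ K hKφ u (Subgroup.mem_inf.mp hu).2⟩
      have hZKc : ∀ a ∈ ZK, ∀ b ∈ ZK, a * b = b * a := by
        intro a ha b hb
        rw [hZKdef] at ha hb
        exact Subgroup.mem_centralizer_iff.mp (Subgroup.mem_inf.mp hb).2 a
          (Subgroup.mem_inf.mp ha).1
      have hZKcop : (Nat.card ZK).Coprime p :=
        Nat.Coprime.coprime_dvd_left (Subgroup.card_dvd_of_le hZKK) hKcop
      have hxZK := split_fixed_centralizes φ p hp hs x hxφ ZK hZKc hZKφ hZKcop
      have hq := IHquot ZK hZKφ hZKne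
      intro k hk
      haveI := hq
      have hox : ∃ b, orderOf (QuotientGroup.mk' ZK x) = p ^ b := by
        have h1 : orderOf (QuotientGroup.mk' ZK x) ∣ p := by
          apply orderOf_dvd_of_pow_eq_one
          rw [← map_pow, hxp, map_one]
        rcases (Nat.dvd_prime hp).mp h1 with h | h
        · exact ⟨0, by rw [h, pow_zero]⟩
        · exact ⟨1, by rw [h, pow_one]⟩
      obtain ⟨b, hb⟩ := hox
      have hok : (orderOf (QuotientGroup.mk' ZK k)).Coprime p := by
        have h1 : orderOf (QuotientGroup.mk' ZK k) ∣ orderOf k := orderOf_map_dvd _ k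
        have h2 : orderOf k ∣ Nat.card K := by
          have := orderOf_dvd_natCard (⟨k, hk⟩ : K)
          rwa [Subgroup.orderOf_mk] at this
        exact Nat.Coprime.coprime_dvd_left (h1.trans h2) hKcop
      have hcomm := Cfsg.Agent.helper20.commute_of_coprime_order p (QuotientGroup.mk' ZK x)
        (QuotientGroup.mk' ZK k) b hb hok
      have hz : k⁻¹ * (x * k * x⁻¹) ∈ ZK := by
        rw [← QuotientGroup.eq]
        have : (QuotientGroup.mk' ZK) (x * k * x⁻¹) = QuotientGroup.mk' ZK k := by
          rw [map_mul, map_mul, hcomm, map_inv, mul_inv_cancel_right]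
        exact this.symm
      obtain ⟨z, hzdef⟩ : ∃ z, z = k⁻¹ * (x * k * x⁻¹) := ⟨_, rfl⟩
      rw [← hzdef] at hz
      have hxk : x * k * x⁻¹ = k * z := by rw [hzdef, mul_inv_cancel_left]
      have hxz : x * z * x⁻¹ = z := hxZK z hz
      have hpow : ∀ n : ℕ, x ^ n * k * (x ^ n)⁻¹ = k * z ^ n := by
        intro n
        induction n with
        | zero => simp
        | succ n ih =>
          have e : x ^ (n + 1) * k * (x ^ (n + 1))⁻¹ = x * (x ^ n * k * (x ^ n)⁻¹) * x⁻¹ := by
            rw [pow_succ']; group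
          rw [e, ih]
          have e2 : x * (k * z ^ n) * x⁻¹ = (x * k * x⁻¹) * (x * z * x⁻¹) ^ n := by
            rw [conj_pow]; group
          rw [e2, hxk, hxz, pow_succ', mul_assoc]
      have hzp : z ^ p = 1 := by
        have := hpow p
        rw [hxp, one_mul, inv_one, mul_one] at this
        have h : k * z ^ p = k * 1 := by rw [mul_one]; exact this.symm
        exact mul_left_cancel h
      have hzK : z ∈ K := hZKK hz
      have hz1 : z = 1 := by
        have h1 : orderOf z ∣ p := orderOf_dvd_of_pow_eq_one hzp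
        have h2 : orderOf z ∣ Nat.card K := by
          have := orderOf_dvd_natCard (⟨z, hzK⟩ : K)
          rwa [Subgroup.orderOf_mk] at this
        have h3 : orderOf z ∣ Nat.gcd (Nat.card K) p := Nat.dvd_gcd h2 h1
        rw [Nat.Coprime.gcd_eq_one hKcop] at h3
        exact orderOf_eq_one_iff.mp (Nat.dvd_one.mp h3)
      rw [hxk, hz1, mul_one]
  refine hfin x ?_ hx1
  have hC : Subgroup.centralizer ({x} : Set G) = ⊤ := by
    rw [← Subgroup.card_eq_iff_eq_top]
    have hKC : K ≤ Subgroup.centralizer ({x} : Set G) := by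
      intro k hk
      rw [Subgroup.mem_centralizer_iff]
      intro y hy
      rw [Set.mem_singleton_iff] at hy
      rw [hy]
      have := hxK k hk
      calc x * k = (x * k * x⁻¹) * x := by rw [inv_mul_cancel_right]
        _ = k * x := by rw [this]
    have hPC : (P : Subgroup G) ≤ Subgroup.centralizer ({x} : Set G) := by
      intro y hy
      rw [Subgroup.mem_centralizer_iff]
      intro w hw
      rw [Set.mem_singleton_iff] at hw
      rw [hw]
      exact (hxcP y hy).symm
    have h1 : Nat.card K ∣ Nat.card (Subgroup.centralizer ({x} : Set G)) :=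
      Subgroup.card_dvd_of_le hKC
    have h2 : Nat.card (P : Subgroup G) ∣ Nat.card (Subgroup.centralizer ({x} : Set G)) :=
      Subgroup.card_dvd_of_le hPC
    have h3 : (Nat.card K).Coprime (Nat.card (P : Subgroup G)) := by
      rw [P.card_eq_multiplicity]
      exact Nat.Coprime.pow_right _ hKcop
    have h4 : Nat.card K * Nat.card (P : Subgroup G) = Nat.card G := by
      rw [P.card_eq_multiplicity, ← S.card_eq_multiplicity]
      exact hKS.card_mul_card
    have h5 : Nat.card G ∣ Nat.card (Subgroup.centralizer ({x} : Set G)) := by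
      rw [← h4]; exact Nat.Coprime.mul_dvd_of_dvd_of_dvd h3 h1 h2
    exact le_antisymm (Subgroup.card_le_card_group _) (Nat.le_of_dvd Nat.card_pos h5)
  rw [Subgroup.mem_center_iff]
  intro g
  have hg : g ∈ Subgroup.centralizer ({x} : Set G) := by rw [hC]; exact Subgroup.mem_top g
  exact (Subgroup.mem_centralizer_iff.mp hg x (Set.mem_singleton x)).symm

end main

theorem split_nilpotent_aux (p : ℕ) (hp : p.Prime) :
    ∀ (n : ℕ) (G : Type u) [Group G] [Finite G], Nat.card G = n → ∀ φ : MulAut G,
      IsSplit φ p → Group.IsNilpotent G := by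
  intro n
  induction n using Nat.strong_induction_on with
  | _ n ih =>
    intro G _ _ hn φ hs
    have IHsub : ∀ U : Subgroup G, (∀ u ∈ U, φ u ∈ U) → U ≠ ⊤ → Group.IsNilpotent U := by
      intro U hU hUtop
      exact ih (Nat.card U) (by rw [← hn]; exact card_lt_of_ne_top U hUtop) U rfl
        (resAut φ U hU) (isSplit_resAut hs U hU)
    have IHquot : ∀ (N : Subgroup G) [N.Normal], (∀ u ∈ N, φ u ∈ N) → N ≠ ⊥ →
        Group.IsNilpotent (G ⧸ N) := by
      intro N _ hN hNbot
      exact ih (Nat.card (G ⧸ N)) (by rw [← hn]; exact card_quotient_lt N hNbot) (G ⧸ N) rfl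
        (quotAut φ N hN) (isSplit_quotAut hs N hN)
    rcases subsingleton_or_nontrivial G with hsub | hnt
    · infer_instance
    by_cases hp2 : p = 2
    · subst hp2
      have hc := split_two_comm φ hs
      exact Subgroup.isNilpotent_of_ker_le_center (1 : G →* Unit)
        (fun g _ => Subgroup.mem_center_iff.mpr (fun h => hc h g))
    by_cases hpd : p ∣ Nat.card G
    · have hc := split_center_ne_bot φ p hp hp2 hs hpd IHsub IHquot
      have hq := IHquot (Subgroup.center G) (center_invariant φ) hc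
      exact Group.of_quotient_center_nilpotent hq
    · -- fixed-point-free
      apply fpf_prime_nilpotent φ ?_ p hp hs.1
      intro g hg
      have h1 : g ^ p = 1 := by rw [← normProd_fixed φ g hg p]; exact hs.2 g
      have h2 : orderOf g ∣ p := orderOf_dvd_of_pow_eq_one h1
      rcases (Nat.dvd_prime hp).mp h2 with h | h
      · exact orderOf_eq_one_iff.mp h
      · exfalso
        apply hpd
        rw [← h]
        exact orderOf_dvd_natCard g

/-- **Kegel**: a finite group with a splitting automorphism `φ`, `φ ^ p = 1`, `p` prime, is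
nilpotent. -/
theorem split_nilpotent {G : Type u} [Group G] [Finite G] (φ : MulAut G) (p : ℕ) (hp : p.Prime)
    (hs : IsSplit φ p) : Group.IsNilpotent G :=
  split_nilpotent_aux p hp (Nat.card G) G rfl φ hs

end Cfsg.Agent.helper23
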