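import Mathlib
import Cfsg.Prelude.Def_SolvableStructure
import Cfsg.Agent.Lib_helper23_NilLen2

set_option autoImplicit false
set_option linter.deprecated false
set_option linter.style.haveILetI false

namespace Cfsg.Agent.helper23
universe u
open scoped Pointwise commutatorElement

/-- `K.relIndex (K ⊔ N) = K.relIndex N` for normal `N`. -/
theorem relIndex_sup_normal_right {G : Type*} [Group G] [Finite G] (K N : Subgroup G)
    [N.Normal] : K.relIndex (K ⊔ N) = K.relIndex N := by
  have h1 := card_sup_mul_card_inf K N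
  have h2 : Nat.card (K ⊓ N : Subgroup G) * K.relIndex N = Nat.card N := by
    have := Subgroup.relIndex_mul_relIndex ⊥ (K ⊓ N) N bot_le inf_le_right
    rwa [Subgroup.relIndex_bot_left, Subgroup.relIndex_bot_left,
      Subgroup.inf_relIndex_right] at this
  have h3 : Nat.card K * K.relIndex (K ⊔ N) = Nat.card (K ⊔ N : Subgroup G) := by
    have := Subgroup.relIndex_mul_relIndex ⊥ K (K ⊔ N) bot_le le_sup_left
    rwa [Subgroup.relIndex_bot_left, Subgroup.relIndex_bot_left] at this
  have hpos : 0 < Nat.card K * Nat.card (K ⊓ N : Subgroup G) :=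
    Nat.mul_pos Nat.card_pos Nat.card_pos
  have e : Nat.card K * Nat.card (K ⊓ N : Subgroup G) * K.relIndex (K ⊔ N) =
      Nat.card K * Nat.card (K ⊓ N : Subgroup G) * K.relIndex N := by
    calc Nat.card K * Nat.card (K ⊓ N : Subgroup G) * K.relIndex (K ⊔ N)
        = (Nat.card K * K.relIndex (K ⊔ N)) * Nat.card (K ⊓ N : Subgroup G) := by ring
      _ = Nat.card (K ⊔ N : Subgroup G) * Nat.card (N ⊓ K : Subgroup G) := by
          rw [h3, inf_comm]
      _ = Nat.card K * Nat.card N := h1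
      _ = Nat.card K * (Nat.card (K ⊓ N : Subgroup G) * K.relIndex N) := by rw [h2]
      _ = _ := by ring
  exact Nat.eq_of_mul_eq_mul_left hpos e

/-- If `K N` has `p`-power index in `H ≥ N` and `K` has `p`-power index in `G`, then `K ∩ H`
has `p`-power index in `H`. -/
theorem relIndex_pow_of_sup {G : Type*} [Group G] [Finite G] {p : ℕ} (hp : p.Prime)
    (Kp N H : Subgroup G) [N.Normal] (hNH : N ≤ H) (hidx : ∃ a, Kp.index = p ^ a)
    (hq : ∃ k, (Kp ⊔ N).relIndex H = p ^ k) : ∃ k, Kp.relIndex H = p ^ k := by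
  obtain ⟨a, ha⟩ := hidx
  obtain ⟨k, hk⟩ := hq
  obtain ⟨M, hM⟩ : ∃ M : Subgroup G, M = (Kp ⊔ N) ⊓ H := ⟨_, rfl⟩
  have e1 : Kp.relIndex M * (Kp ⊔ N).relIndex H = Kp.relIndex H := by
    have h := Subgroup.relIndex_inf_mul_relIndex Kp (Kp ⊔ N) H
    rwa [inf_sup_self, ← hM] at h
  have hNM : N ≤ M := hM ▸ le_inf le_sup_right hNH
  obtain ⟨A, hA⟩ : ∃ A : Subgroup G, A = M ⊓ Kp := ⟨_, rfl⟩
  have hAM : A ≤ M := hA ▸ inf_le_left
  have e2 : A ⊔ N = M := by
    apply le_antisymm (sup_le hAM hNM)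
    intro x hx
    have hx1 : x ∈ Kp ⊔ N := by
      have hx' := hx
      rw [hM] at hx'
      exact (Subgroup.mem_inf.mp hx').1
    obtain ⟨y, hy, z, hz, rfl⟩ := Subgroup.mem_sup_of_normal_right.mp hx1
    have hyM : y ∈ M := by
      have h1 : y = y * z * z⁻¹ := by group
      rw [h1]; exact M.mul_mem hx (M.inv_mem (hNM hz))
    have hyA : y ∈ A := by rw [hA]; exact Subgroup.mem_inf.mpr ⟨hyM, hy⟩
    exact Subgroup.mul_mem _ (Subgroup.mem_sup_left hyA) (Subgroup.mem_sup_right hz)
  have e3 : Kp.relIndex M = A.relIndex M := by rw [hA, Subgroup.inf_relIndex_left]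
  have e4 : A.relIndex M = A.relIndex N := by
    rw [← e2]
    exact relIndex_sup_normal_right A N
  have e5 : A.relIndex N = Kp.relIndex N := by
    have h1 : A ⊓ N = Kp ⊓ N := by
      rw [hA]
      ext x
      simp only [Subgroup.mem_inf]
      constructor
      · rintro ⟨⟨_, h2⟩, h3⟩; exact ⟨h2, h3⟩
      · rintro ⟨h2, h3⟩; exact ⟨⟨hNM h3, h2⟩, h3⟩
    rw [← Subgroup.inf_relIndex_right A N, ← Subgroup.inf_relIndex_right Kp N, h1]
  have e6 : Kp.relIndex M ∣ p ^ a := by
    rw [e3, e4, e5, ← ha]; exact relIndex_dvd_index_of_normal_right Kp N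
  obtain ⟨j, -, hj⟩ := (Nat.dvd_prime_pow hp).mp e6
  exact ⟨j + k, by rw [← e1, hj, hk, pow_add]⟩

/-- A complement system reducing into `H` restricts to a complement system of `H`. -/
theorem isComplementSystem_subgroupOf {G : Type u} [Group G] [Finite G]
    {K : Nat.Primes → Subgroup G} (hK : Cfsg.IsComplementSystem K) (H : Subgroup G)
    (hR : ∀ p : Nat.Primes, ∃ k, (K p).relIndex H = (p : ℕ) ^ k) :
    Cfsg.IsComplementSystem (fun p => (K p).subgroupOf H) := by
  intro p
  obtain ⟨k, hk⟩ := hR p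
  show ((K p).subgroupOf H).index = (p : ℕ) ^ (Nat.card H).factorization p
  have h0 : ((K p).subgroupOf H).index = (p : ℕ) ^ k := hk
  have h1 : Nat.card ((K p).subgroupOf H) * (p : ℕ) ^ k = Nat.card H := by
    rw [← h0]; exact Subgroup.card_mul_index _
  have hcop : (Nat.card (K p)).Coprime p := card_coprime_of_index_eq p.2 (hK p)
  have hdvd : Nat.card ((K p).subgroupOf H) ∣ Nat.card (K p) := by
    have e : Nat.card ((K p).subgroupOf H) = Nat.card ((K p ⊓ H : Subgroup G)) := by
      rw [← Subgroup.card_map_of_injective (K := (K p).subgroupOf H) H.subtype_injective,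
        Subgroup.subgroupOf_map_subtype]
    rw [e]; exact Subgroup.card_dvd_of_le inf_le_left
  have hnd : ¬ (p : ℕ) ∣ Nat.card ((K p).subgroupOf H) := by
    intro h
    have h2 := Nat.Coprime.coprime_dvd_left hdvd hcop
    exact (Nat.Prime.coprime_iff_not_dvd p.2).mp h2.symm h
  have hk' : k = (Nat.card H).factorization p := by
    rw [← h1, Nat.factorization_mul Nat.card_pos.ne' (pow_pos p.2.pos _).ne',
      Finsupp.add_apply, Nat.factorization_eq_zero_of_not_dvd hnd, p.2.factorization_pow,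
      Finsupp.single_eq_same, zero_add]
  rw [h0, hk']

/-- Every system normalizer lies in a Carter subgroup into which the complement system
reduces. -/
theorem sysNorm_le_carter_aux : ∀ (n : ℕ) (G : Type u) [Group G] [Finite G]
    [Group.IsSolvable G], Nat.card G = n → ∀ K : Nat.Primes → Subgroup G,
    Cfsg.IsComplementSystem K →
      ∃ C : Subgroup G, Cfsg.IsCarterSubgroup C ∧
        (∀ p : Nat.Primes, ∃ k, (K p).relIndex C = (p : ℕ) ^ k) ∧
        Cfsg.systemNormalizer K ≤ C := by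
  intro n
  induction n using Nat.strong_induction_on with
  | _ n ih =>
  intro G _ _ _ hn K hK
  classical
  obtain ⟨D, hD⟩ : ∃ D : Subgroup G, D = Cfsg.systemNormalizer K := ⟨_, rfl⟩
  rw [← hD]
  by_cases hnt : Nontrivial G
  swap
  · haveI : Subsingleton G := not_nontrivial_iff_subsingleton.mp hnt
    refine ⟨⊤, ⟨inferInstance, Subgroup.normalizer_eq_top_iff.mpr inferInstance⟩,
      fun p => ⟨(Nat.card G).factorization p, ?_⟩, le_top⟩
    rw [Subgroup.relIndex_top_right]; exact hK p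
  have hGnt : (⊤ : Subgroup G) ≠ ⊥ := top_ne_bot
  obtain ⟨N, hNn, hNb, hNmin⟩ : ∃ N : Subgroup G, N.Normal ∧ N ≠ ⊥ ∧
      ∀ K : Subgroup G, K.Normal → K ≤ N → K = ⊥ ∨ K = N := by
    have hne : ({K : Subgroup G | K.Normal ∧ K ≠ ⊥} : Set (Subgroup G)).Nonempty :=
      ⟨⊤, inferInstance, hGnt⟩
    obtain ⟨N, hN, hmin⟩ := WellFounded.has_min (wellFounded_lt (α := Subgroup G)) _ hne
    refine ⟨N, hN.1, hN.2, fun K hK hKN => ?_⟩
    by_cases hKb : K = ⊥
    · exact Or.inl hKb
    · right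
      by_contra hne'
      exact hmin K ⟨hK, hKb⟩ (lt_of_le_of_ne hKN hne')
  haveI := hNn
  have hlt : Nat.card (G ⧸ N) < n := hn ▸ card_quotient_lt N hNb
  obtain ⟨f, hf⟩ : ∃ f : G →* G ⧸ N, f = QuotientGroup.mk' N := ⟨_, rfl⟩
  have hfs : Function.Surjective f := by rw [hf]; exact QuotientGroup.mk'_surjective N
  have hfk : f.ker = N := by rw [hf]; exact QuotientGroup.ker_mk' N
  obtain ⟨hKb, hDb⟩ := systemNormalizer_map K hK N
  rw [← hf] at hKb hDb
  rw [← hD] at hDb
  obtain ⟨Cb, hCb, hRb, hSb⟩ := ih _ hlt (G ⧸ N) rfl _ hKb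
  rw [hDb] at hSb
  -- lift `Cb` to a Carter subgroup of `G`
  have hconjB : CarterConjBelow.{u} (Nat.card G) :=
    fun m _ X _ _ _ _ C D hC hD => (carter (G := X)).2 C D hC hD
  obtain ⟨C0, hC0⟩ := (carter (G := G)).1
  have hC0b := isCarter_map hconjB f hfs hC0
  obtain ⟨gb, hgb⟩ := (carter (G := G ⧸ N)).2 _ _ hC0b hCb
  obtain ⟨g, rfl⟩ := hfs gb
  obtain ⟨C, hCdef⟩ : ∃ C : Subgroup G, C = MulAut.conj g • C0 := ⟨_, rfl⟩
  have hC : Cfsg.IsCarterSubgroup C := by rw [hCdef]; exact isCarter_conj_smul g hC0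
  have hCmap : C.map f = Cb := by rw [hCdef, map_conj_smul, hgb]
  obtain ⟨H, hH⟩ : ∃ H : Subgroup G, H = C ⊔ N := ⟨_, rfl⟩
  have hCH : C ≤ H := hH ▸ le_sup_left
  have hNH : N ≤ H := hH ▸ le_sup_right
  have hHcomap : H = Cb.comap f := by rw [hH, ← hCmap, Subgroup.comap_map_eq, hfk]
  have hHmap : H.map f = Cb := by
    rw [hHcomap, Subgroup.map_comap_eq_self_of_surjective hfs]
  have hDH : D ≤ H := by
    intro d hd
    rw [hHcomap, Subgroup.mem_comap]
    exact hSb (Subgroup.mem_map_of_mem f hd)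
  -- `K` reduces into `H`
  have hRH : ∀ p : Nat.Primes, ∃ k, (K p).relIndex H = (p : ℕ) ^ k := by
    intro p
    apply relIndex_pow_of_sup p.2 (K p) N H hNH ⟨_, hK p⟩
    obtain ⟨k, hk⟩ := hRb p
    refine ⟨k, ?_⟩
    have h1 := Subgroup.relIndex_map_map f (K p) H
    rw [hfk, hHmap, sup_eq_left.mpr hNH] at h1
    rw [← h1]; exact hk
  by_cases hHtop : H = ⊤
  · -- `G = C N`: nilpotent-by-nilpotent
    have hNab := helper18.SolvPrim.comm_of_minimal_normal N hNb hNmin
    have hNnil : Group.IsNilpotent N := by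
      rw [Subgroup.isNilpotent_iff_lowerCentralSeries]
      refine ⟨1, ?_⟩
      rw [Subgroup.lowerCentralSeries_succ, Subgroup.lowerCentralSeries_zero, eq_bot_iff,
        Subgroup.commutator_le]
      intro a ha b hb
      rw [Subgroup.mem_bot, commutatorElement_eq_one_iff_mul_comm]
      exact hNab a ha b hb
    have hGN : Group.IsNilpotent (G ⧸ N) := by
      have h1 : Cb = ⊤ := by
        rw [← hHmap, hHtop, ← MonoidHom.range_eq_map]
        exact MonoidHom.range_eq_top.mpr hfs
      have h2 : Group.IsNilpotent Cb := hCb.1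
      rw [h1] at h2
      haveI := h2
      exact nilpotent_of_mulEquiv (Subgroup.topEquiv : (⊤ : Subgroup (G ⧸ N)) ≃* G ⧸ N)
    refine ⟨D, ?_, ?_, le_rfl⟩
    · rw [hD]; exact isCarter_systemNormalizer N hNnil hGN K hK
    · intro p
      have hle : D ≤ Subgroup.normalizer (K p : Set G) := by rw [hD]; exact iInf_le _ p
      have h1 := relIndex_dvd_index_of_le_normalizer hle
      rw [hK p] at h1
      obtain ⟨j, -, hj⟩ := (Nat.dvd_prime_pow p.2).mp h1
      exact ⟨j, hj⟩
  · -- `H` proper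
    have hHlt : Nat.card H < n := hn ▸ card_lt_of_ne_top H hHtop
    have hKH := isComplementSystem_subgroupOf hK H hRH
    obtain ⟨C', hC', hR', hS'⟩ := ih _ hHlt H rfl _ hKH
    obtain ⟨C'', hC''⟩ : ∃ C'' : Subgroup G, C'' = C'.map H.subtype := ⟨_, rfl⟩
    have hC''H : C'' ≤ H := by rw [hC'']; exact Subgroup.map_subtype_le C'
    have hsub : C''.subgroupOf H = C' := by
      rw [hC'']
      exact Subgroup.comap_map_eq_self_of_injective H.subtype_injective C'
    obtain ⟨k, hk⟩ := (carter (G := H)).2 _ _ (isCarter_subgroupOf hCH hC) hC'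
    rw [← hsub] at hk
    have hconj := conj_smul_eq_of_subgroupOf hCH hC''H k hk
    refine ⟨C'', ?_, ?_, ?_⟩
    · rw [← hconj]; exact isCarter_conj_smul _ hC
    · intro p
      obtain ⟨j, hj⟩ := hR' p
      refine ⟨j, ?_⟩
      have h1 := Subgroup.relIndex_comap (K p) H.subtype C'
      rw [hC'', ← h1]; exact hj
    · intro d hd
      have hdH : d ∈ H := hDH hd
      have hmem : (⟨d, hdH⟩ : H) ∈ Cfsg.systemNormalizer (fun p => (K p).subgroupOf H) := by
        unfold Cfsg.systemNormalizer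
        rw [Subgroup.mem_iInf]
        intro p
        have hdp : d ∈ Subgroup.normalizer (K p : Set G) := by
          have hle : D ≤ Subgroup.normalizer (K p : Set G) := by rw [hD]; exact iInf_le _ p
          exact hle hd
        rw [Subgroup.mem_normalizer_iff]
        intro y
        rw [Subgroup.mem_subgroupOf, Subgroup.mem_subgroupOf]
        exact Subgroup.mem_normalizer_iff.mp hdp y
      have h2 := hS' hmem
      rw [hC'']
      exact ⟨⟨d, hdH⟩, h2, rfl⟩

end Cfsg.Agent.helper23
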