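import Mathlib
import Cfsg.Agent.Lib_helper7_Fitting
import Cfsg.Agent.Lib_helper3_Basic
import Cfsg.Agent.Lib_helper5_Sylow

set_option autoImplicit false
open Cfsg
open scoped Pointwise

namespace Cfsg.Agent.helper23

open Cfsg.Agent.helper7

section TI
variable {H : Type*} [Group H] [Finite H] {p : ℕ} [hp : Fact p.Prime]

/-- A nonempty family of subgroups of a finite group closed under pairwise meets has a least
element. -/
theorem exists_least_subgroup (S : Set (Subgroup H)) (hne : S.Nonempty)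
    (hinf : ∀ a ∈ S, ∀ b ∈ S, a ⊓ b ∈ S) : ∃ m ∈ S, ∀ a ∈ S, m ≤ a := by
  obtain ⟨m, hm, hmin⟩ := WellFounded.has_min
    (wellFounded_lt : WellFounded ((· < ·) : Subgroup H → Subgroup H → Prop)) S hne
  refine ⟨m, hm, fun a ha => ?_⟩
  have h1 : m ⊓ a ∈ S := hinf m hm a ha
  have h2 : ¬ (m ⊓ a < m) := hmin _ h1
  have h3 : m ⊓ a = m := eq_of_le_of_not_lt inf_le_left h2
  exact inf_eq_left.1 h3

theorem sn_pprime_eq_bot (hOp' : Cfsg.pPrimeCore p H = ⊥) {S : Subgroup H} (hS : SN S ⊤)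
    (hc : (Nat.card S).Coprime p) : S = ⊥ := by
  have h1 : S ≤ piCoreIn {q | q ≠ p} (⊤ : Subgroup H) :=
    le_piCoreIn_of_sn hS ((coprime_card_iff_piGrp hp.out).1 hc)
  rw [← pPrimeCore_eq hp.out, hOp'] at h1
  exact le_bot_iff.1 h1

theorem sn_p_eq_bot (hOp : Cfsg.pCore p H = ⊥) {S : Subgroup H} (hS : SN S ⊤)
    (hc : IsPGroup p S) : S = ⊥ := by
  have h1 : S ≤ piCoreIn {p} (⊤ : Subgroup H) :=
    le_piCoreIn_of_sn hS ((isPGroup_iff_piGrp hp.out).1 hc)
  rw [← pCore_eq hp.out, hOp] at h1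
  exact le_bot_iff.1 h1

/-- Element form of "every Sylow `p`-subgroup is a TI-set". -/
def SylowTI (p : ℕ) (H : Type*) [Group H] : Prop :=
  ∀ Q : Sylow p H, ∀ x ∈ (Q : Subgroup H), x ≠ 1 → ∀ g : H, g * x * g⁻¹ ∈ (Q : Subgroup H) →
    g ∈ Subgroup.normalizer ((Q : Subgroup H) : Set H)

theorem sylowTI_of_TI (P : Sylow p H)
    (hTI : ∀ g : H, g ∉ Subgroup.normalizer ((P : Subgroup H) : Set H) →
      (P : Subgroup H) ⊓ (MulAut.conj g • (P : Subgroup H)) = ⊥) :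
    SylowTI p H := by
  intro Q x hx hx1 g hg
  obtain ⟨c, rfl⟩ := MulAction.exists_smul_eq H P Q
  rw [Cfsg.Agent.helper5.mem_smul_sylow_iff] at hx hg
  have hh : c⁻¹ * g * c ∈ Subgroup.normalizer ((P : Subgroup H) : Set H) := by
    by_contra hh
    have hh' : (c⁻¹ * g * c)⁻¹ ∉ Subgroup.normalizer ((P : Subgroup H) : Set H) := by
      intro h
      exact hh (by simpa using Subgroup.inv_mem _ h)
    have h0 := hTI _ hh'
    have h1 : c⁻¹ * x * c ∈
        (P : Subgroup H) ⊓ (MulAut.conj (c⁻¹ * g * c)⁻¹ • (P : Subgroup H)) := by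
      refine Subgroup.mem_inf.2 ⟨hx, ?_⟩
      rw [Cfsg.Agent.helper3.mem_conj_smul_iff]
      have e : ((c⁻¹ * g * c)⁻¹)⁻¹ * (c⁻¹ * x * c) * (c⁻¹ * g * c)⁻¹
          = c⁻¹ * (g * x * g⁻¹) * c := by group
      rw [e]; exact hg
    rw [h0, Subgroup.mem_bot] at h1
    apply hx1
    have e : x = c * (c⁻¹ * x * c) * c⁻¹ := by group
    rw [e, h1]; group
  rw [Subgroup.mem_normalizer_iff] at hh ⊢
  intro z
  rw [Cfsg.Agent.helper5.mem_smul_sylow_iff, Cfsg.Agent.helper5.mem_smul_sylow_iff]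
  have h2 := hh (c⁻¹ * z * c)
  have e : c⁻¹ * g * c * (c⁻¹ * z * c) * (c⁻¹ * g * c)⁻¹ = c⁻¹ * (g * z * g⁻¹) * c := by group
  rw [e] at h2
  exact h2

theorem exists_order_p_of_sn (hOp' : Cfsg.pPrimeCore p H = ⊥) {S : Subgroup H} (hS : SN S ⊤)
    (hne : S ≠ ⊥) : ∃ x ∈ S, orderOf x = p := by
  have h1 : ¬ (Nat.card S).Coprime p := fun hc => hne (sn_pprime_eq_bot hOp' hS hc)
  have h2 : p ∣ Nat.card S := by
    by_contra h
    exact h1 ((Nat.Prime.coprime_iff_not_dvd hp.out).2 h).symm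
  obtain ⟨x, hx⟩ := exists_prime_orderOf_dvd_card' (G := S) p h2
  exact ⟨x, x.2, by rw [Subgroup.orderOf_coe]; exact hx⟩

theorem zpowers_isPGroup_of_order {x : H} (hx : orderOf x = p) :
    IsPGroup p (Subgroup.zpowers x) := by
  apply IsPGroup.of_card (n := 1)
  rw [Nat.card_zpowers, hx, pow_one]

theorem exists_sylow_mem_of_order_p {x : H} (hx : orderOf x = p) :
    ∃ Q : Sylow p H, x ∈ (Q : Subgroup H) := by
  obtain ⟨Q, hQ⟩ := (zpowers_isPGroup_of_order hx).exists_le_sylow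
  exact ⟨Q, hQ (Subgroup.mem_zpowers x)⟩

theorem ne_one_of_order_p {x : H} (hx : orderOf x = p) : x ≠ 1 := by
  rintro rfl
  rw [orderOf_one] at hx
  exact hp.out.ne_one hx.symm

/-- A nontrivial subnormal subgroup does not normalize a Sylow `p`-subgroup, when
`O_p = O_{p'} = 1`. -/
theorem sn_not_le_normalizer_sylow (hOp : Cfsg.pCore p H = ⊥) (hOp' : Cfsg.pPrimeCore p H = ⊥)
    {B : Subgroup H} (hB : SN B ⊤) (hne : B ≠ ⊥) (Q : Sylow p H) :
    ¬ B ≤ Subgroup.normalizer ((Q : Subgroup H) : Set H) := by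
  intro hBN
  obtain ⟨x, hxB, hxo⟩ := exists_order_p_of_sn hOp' hB hne
  have hxQ : x ∈ (Q : Subgroup H) := by
    have h1 : x ∈ Subgroup.zpowers x ⊓ Subgroup.normalizer ((Q : Subgroup H) : Set H) :=
      ⟨Subgroup.mem_zpowers x, hBN hxB⟩
    have h2 : x ∈ Subgroup.zpowers x ⊓ (Q : Subgroup H) := by
      rw [← (zpowers_isPGroup_of_order hxo).inf_normalizer_sylow Q]
      exact h1
    exact h2.2
  have hsn : SN ((Q : Subgroup H) ⊓ B) ⊤ := by
    refine SN.trans (SN.of_normal inf_le_right ?_) hB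
    rw [Subgroup.le_normalizer_iff]
    intro b hb k hk
    refine ⟨?_, B.mul_mem (B.mul_mem hb hk.2) (B.inv_mem hb)⟩
    have h2 := hBN hb
    rw [Subgroup.mem_normalizer_iff] at h2
    exact (h2 k).1 hk.1
  have hbot := sn_p_eq_bot hOp hsn (Q.2.to_le inf_le_left)
  have h3 : x ∈ (Q : Subgroup H) ⊓ B := ⟨hxQ, hxB⟩
  rw [hbot, Subgroup.mem_bot] at h3
  exact ne_one_of_order_p hxo h3

/-- Two nontrivial subnormal subgroups never centralize each other (TI Sylow, `O_p = O_{p'} = 1`). -/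
theorem sn_not_commute (hOp : Cfsg.pCore p H = ⊥) (hOp' : Cfsg.pPrimeCore p H = ⊥)
    (hT : SylowTI p H) {A B : Subgroup H} (hA : SN A ⊤) (hB : SN B ⊤) (hAne : A ≠ ⊥) (hBne : B ≠ ⊥)
    (hcomm : ∀ a ∈ A, ∀ b ∈ B, b * a = a * b) : False := by
  obtain ⟨x, hxA, hxo⟩ := exists_order_p_of_sn hOp' hA hAne
  obtain ⟨Q, hxQ⟩ := exists_sylow_mem_of_order_p hxo
  apply sn_not_le_normalizer_sylow hOp hOp' hB hBne Q
  intro b hb
  apply hT Q x hxQ (ne_one_of_order_p hxo) b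
  have e : b * x * b⁻¹ = x := by rw [hcomm x hxA b hb]; group
  rw [e]; exact hxQ

omit [Finite H] in
theorem commute_of_inf_eq_bot {A B M : Subgroup H} (hAM : A ≤ M) (hBM : B ≤ M)
    (hA : M ≤ Subgroup.normalizer (A : Set H)) (hB : M ≤ Subgroup.normalizer (B : Set H))
    (hbot : A ⊓ B = ⊥) : ∀ a ∈ A, ∀ b ∈ B, b * a = a * b := by
  intro a ha b hb
  have h1 : b * a * b⁻¹ * a⁻¹ ∈ A ⊓ B := by
    constructor
    · have h2 := hA (hBM hb)
      rw [Subgroup.mem_normalizer_iff] at h2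
      exact A.mul_mem ((h2 a).1 ha) (A.inv_mem ha)
    · have h2 := hB (hAM ha)
      rw [Subgroup.mem_normalizer_iff] at h2
      have h3 : a * b⁻¹ * a⁻¹ ∈ B := (h2 b⁻¹).1 (B.inv_mem hb)
      have e : b * a * b⁻¹ * a⁻¹ = b * (a * b⁻¹ * a⁻¹) := by group
      rw [e]; exact B.mul_mem hb h3
  rw [hbot, Subgroup.mem_bot] at h1
  have e : b * a = (b * a * b⁻¹ * a⁻¹) * (a * b) := by group
  rw [e, h1, one_mul]

/-- Main structure theorem: `O_p(H) = O_{p'}(H) = 1` and TI Sylow `p`-subgroups. -/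
theorem TI_main (hOp : Cfsg.pCore p H = ⊥) (hOp' : Cfsg.pPrimeCore p H = ⊥) (hT : SylowTI p H)
    (htop : (⊤ : Subgroup H) ≠ ⊥) :
    ∃ N : Subgroup H, N.Normal ∧ N ≠ ⊥ ∧ (∀ K : Subgroup H, K.Normal → K ≠ ⊥ → N ≤ K) ∧
      IsSimpleGroup N ∧ ¬ IsMulCommutative N ∧ Subgroup.centralizer (N : Set H) = ⊥ ∧
      ∀ Q : Sylow p N, (Q : Subgroup N) ≠ ⊥ ∧
        ∀ n : N, n ∉ Subgroup.normalizer ((Q : Subgroup N) : Set N) →
          (Q : Subgroup N) ⊓ (MulAut.conj n • (Q : Subgroup N)) = ⊥ := by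
  have snN : ∀ K : Subgroup H, K.Normal → SN K ⊤ := fun K hK =>
    SN.of_normal le_top (Subgroup.normalizer_eq_top_iff.2 hK).ge
  obtain ⟨N, ⟨hNn, hNne⟩, hNmin⟩ := exists_least_subgroup {K : Subgroup H | K.Normal ∧ K ≠ ⊥}
    ⟨⊤, inferInstance, htop⟩
    (by
      rintro K₁ ⟨hK₁, hK₁ne⟩ K₂ ⟨hK₂, hK₂ne⟩
      refine ⟨?_, ?_⟩
      · haveI := hK₁
        haveI := hK₂
        exact inferInstance
      · intro hbot
        exact sn_not_commute hOp hOp' hT (snN K₁ hK₁) (snN K₂ hK₂) hK₁ne hK₂ne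
          (commute_of_inf_eq_bot (M := ⊤) le_top le_top
            (Subgroup.normalizer_eq_top_iff.2 hK₁).ge (Subgroup.normalizer_eq_top_iff.2 hK₂).ge hbot))
  have hNsn : SN N ⊤ := snN N hNn
  have hNtop : (⊤ : Subgroup H) ≤ Subgroup.normalizer (N : Set H) :=
    (Subgroup.normalizer_eq_top_iff.2 hNn).ge
  -- centralizer
  have hcent : Subgroup.centralizer (N : Set H) = ⊥ := by
    by_contra hC
    haveI := hNn
    have hCn : (Subgroup.centralizer (N : Set H)).Normal := Subgroup.normal_centralizer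
    apply sn_not_commute hOp hOp' hT hNsn (snN _ hCn) hNne hC
    intro a ha b hb
    rw [Subgroup.mem_centralizer_iff] at hb
    exact (hb a ha).symm
  -- nonabelian
  have hnc : ¬ IsMulCommutative N := by
    intro hc
    apply hNne
    rw [eq_bot_iff]
    intro x hx
    have h1 : x ∈ Subgroup.centralizer (N : Set H) := by
      rw [Subgroup.mem_centralizer_iff]
      intro y hy
      have h2 := hc.is_comm.comm (⟨y, hy⟩ : N) ⟨x, hx⟩
      exact congrArg Subtype.val h2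
    rwa [hcent] at h1
  -- simple
  obtain ⟨M, ⟨hMN, hMnorm, hMne⟩, hMmin⟩ := exists_least_subgroup
    {S : Subgroup H | S ≤ N ∧ N ≤ Subgroup.normalizer (S : Set H) ∧ S ≠ ⊥}
    ⟨N, le_rfl, Subgroup.le_normalizer, hNne⟩
    (by
      rintro S₁ ⟨h1a, h1b, h1c⟩ S₂ ⟨h2a, h2b, h2c⟩
      refine ⟨inf_le_left.trans h1a, ?_, ?_⟩
      · rw [Subgroup.le_normalizer_iff]
        intro n hn k hk
        have e1 := h1b hn
        have e2 := h2b hn
        rw [Subgroup.mem_normalizer_iff] at e1 e2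
        exact ⟨(e1 k).1 hk.1, (e2 k).1 hk.2⟩
      · intro hbot
        have sn1 : SN S₁ ⊤ := (SN.of_normal h1a h1b).trans hNsn
        have sn2 : SN S₂ ⊤ := (SN.of_normal h2a h2b).trans hNsn
        exact sn_not_commute hOp hOp' hT sn1 sn2 h1c h2c
          (commute_of_inf_eq_bot h1a h2a h1b h2b hbot))
  have hMconj : ∀ g : H, cj g M ∈
      {S : Subgroup H | S ≤ N ∧ N ≤ Subgroup.normalizer (S : Set H) ∧ S ≠ ⊥} := by
    intro g
    have hNg : cj g N = N := cj_eq_of_mem_normalizer (hNtop (Subgroup.mem_top g))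
    refine ⟨?_, ?_, ?_⟩
    · rw [← hNg]; exact cj_mono hMN
    · rw [← cj_normalizer]
      conv_lhs => rw [← hNg]
      exact cj_mono hMnorm
    · rw [Ne, cj_eq_bot_iff]; exact hMne
  have hMnormal : M.Normal := by
    constructor
    intro x hx g
    have h1 : M ≤ cj g⁻¹ M := hMmin _ (hMconj g⁻¹)
    have h2 := h1 hx
    rw [mem_cj] at h2
    simpa using h2
  have hMeq : M = N := le_antisymm hMN (hNmin M ⟨hMnormal, hMne⟩)
  have hnt : Nontrivial N := (Subgroup.nontrivial_iff_ne_bot N).2 hNne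
  have hsimple : IsSimpleGroup N := by
    refine { toNontrivial := hnt, eq_bot_or_eq_top_of_normal := fun S' hS' => ?_ }
    by_cases hS'bot : S' = ⊥
    · exact Or.inl hS'bot
    · right
      have hle : S'.map N.subtype ≤ N := Subgroup.map_subtype_le S'
      have hcomap : (S'.map N.subtype).subgroupOf N = S' :=
        Subgroup.comap_map_eq_self_of_injective N.subtype_injective S'
      have hnorm : N ≤ Subgroup.normalizer ((S'.map N.subtype : Subgroup H) : Set H) := by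
        rw [← Subgroup.normal_subgroupOf_iff_le_normalizer hle, hcomap]; exact hS'
      have hne' : S'.map N.subtype ≠ ⊥ := by
        rw [Ne, Subgroup.map_eq_bot_iff_of_injective _ N.subtype_injective]; exact hS'bot
      have h1 : M ≤ S'.map N.subtype := hMmin _ ⟨hle, hnorm, hne'⟩
      have h2 : S'.map N.subtype = N := le_antisymm hle (hMeq ▸ h1)
      rw [← hcomap, h2, Subgroup.subgroupOf_self]
  refine ⟨N, hNn, hNne, fun K hK hKne => hNmin K ⟨hK, hKne⟩, hsimple, hnc, hcent, fun Q => ?_⟩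
  obtain ⟨x0, hx0N, hx0o⟩ := exists_order_p_of_sn hOp' hNsn hNne
  have hpN : p ∣ Nat.card N := hx0o ▸ N.orderOf_dvd_natCard hx0N
  refine ⟨Q.ne_bot_of_dvd_card hpN, fun n hn => ?_⟩
  rw [eq_bot_iff]
  intro x hx
  rw [Subgroup.mem_bot]
  by_contra hx1
  apply hn
  obtain ⟨hxQ, hxQ'⟩ := Subgroup.mem_inf.1 hx
  rw [Cfsg.Agent.helper3.mem_conj_smul_iff] at hxQ'
  have hQp : IsPGroup p ((Q : Subgroup N).map N.subtype) := Q.2.map N.subtype
  obtain ⟨R, hR⟩ := hQp.exists_le_sylow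
  have hQR : ∀ z : N, z ∈ (Q : Subgroup N) ↔ (z : H) ∈ (R : Subgroup H) := by
    have hle : (Q : Subgroup N) ≤ (R : Subgroup H).subgroupOf N := by
      intro z hz
      rw [Subgroup.mem_subgroupOf]
      exact hR ⟨z, hz, rfl⟩
    have heq : (R : Subgroup H).subgroupOf N = (Q : Subgroup N) :=
      Q.is_maximal' (R.2.comap_subtype) hle
    intro z
    rw [← heq, Subgroup.mem_subgroupOf]
  have hy : ((n⁻¹ * x * n : N) : H) ∈ (R : Subgroup H) := (hQR _).1 hxQ'
  have hy1 : ((n⁻¹ * x * n : N) : H) ≠ 1 := by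
    intro h
    apply hx1
    have h' : n⁻¹ * x * n = 1 := by
      apply Subtype.ext
      exact h
    calc x = n * (n⁻¹ * x * n) * n⁻¹ := by group
      _ = 1 := by rw [h']; group
  have hg : (n : H) * ((n⁻¹ * x * n : N) : H) * (n : H)⁻¹ ∈ (R : Subgroup H) := by
    have e : (n : H) * ((n⁻¹ * x * n : N) : H) * (n : H)⁻¹ = (x : H) := by
      simp only [Subgroup.coe_mul, Subgroup.coe_inv]
      group
    rw [e]; exact (hQR x).1 hxQ
  have hn' := hT R _ hy hy1 (n : H) hg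
  rw [Subgroup.mem_normalizer_iff] at hn' ⊢
  intro z
  rw [hQR, hQR]
  exact hn' (z : H)

end TI

end Cfsg.Agent.helper23
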