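import Mathlib
import Cfsg.Prelude.Def_Solvable
import Cfsg.Agent.Lib_helper1_Core
import Cfsg.Agent.Lib_helper3_Basic
import Cfsg.Agent.Lib_helper23_PSolv3
import Cfsg.Agent.Lib_helper23_HallConv

set_option autoImplicit false
set_option linter.style.haveILetI false
set_option linter.deprecated false

namespace Cfsg.Agent.helper23

open scoped Pointwise

universe u

/-- Wielandt-type theorem: `G = H₁H₂ = H₁H₃` with solvable `Hᵢ` and `|G:H₂|`, `|G:H₃|` coprime
implies `G` solvable. -/
theorem three_solvable : ∀ (n : ℕ) (G : Type u) [Group G] [Finite G], Nat.card G = n →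
    ∀ (H₁ H₂ H₃ : Subgroup G), Group.IsSolvable H₁ → Group.IsSolvable H₂ → Group.IsSolvable H₃ →
    (∀ g : G, ∃ x ∈ H₁, ∃ y ∈ H₂, g = x * y) → (∀ g : G, ∃ x ∈ H₁, ∃ y ∈ H₃, g = x * y) →
    H₂.index.Coprime H₃.index → Group.IsSolvable G := by
  intro n
  induction n using Nat.strong_induction_on with
  | _ n ih =>
    intro G _ _ hn H₁ H₂ H₃ h₁ h₂ h₃ h12 h13 hcop
    by_cases hH1 : H₁ = ⊥
    · have htop : H₂ = ⊤ := by
        rw [eq_top_iff]; intro g _
        obtain ⟨x, hx, y, hy, rfl⟩ := h12 g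
        rw [hH1, Subgroup.mem_bot] at hx
        rw [hx, one_mul]; exact hy
      haveI := h₂
      refine Group.isSolvable_of_surjective (f := H₂.subtype) ?_
      intro g
      exact ⟨⟨g, htop ▸ Subgroup.mem_top g⟩, rfl⟩
    · haveI := h₁
      haveI : Nontrivial H₁ := (Subgroup.nontrivial_iff_ne_bot H₁).2 hH1
      obtain ⟨s, hs⟩ := exists_pCore_ne_bot_of_solvable H₁
      haveI : Fact (s : ℕ).Prime := ⟨s.2⟩
      have hNp0 : IsPGroup (s : ℕ) (Cfsg.pCore (s : ℕ) H₁) := helper1.pCore_isPGroup _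
      haveI hNn : (Cfsg.pCore (s : ℕ) H₁).Normal := helper1.pCore_normal _
      obtain ⟨N, hNdef⟩ : ∃ N : Subgroup G, N = (Cfsg.pCore (s : ℕ) H₁).map H₁.subtype := ⟨_, rfl⟩
      have hNbot : N ≠ ⊥ := by
        rw [hNdef]
        intro h
        exact hs ((Subgroup.map_eq_bot_iff_of_injective _ H₁.subtype_injective).1 h)
      have hNp : IsPGroup (s : ℕ) N := by rw [hNdef]; exact hNp0.map _
      have hNnorm : ∀ a ∈ H₁, ∀ x ∈ N, a * x * a⁻¹ ∈ N := by
        intro a ha x hx
        rw [hNdef] at hx ⊢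
        obtain ⟨y, hy, rfl⟩ := Subgroup.mem_map.1 hx
        refine Subgroup.mem_map.2 ⟨⟨a, ha⟩ * y * ⟨a, ha⟩⁻¹, hNn.conj_mem y hy ⟨a, ha⟩, rfl⟩
      have key : ∀ Hj : Subgroup G, (∀ g : G, ∃ x ∈ H₁, ∃ y ∈ Hj, g = x * y) →
          ¬ (s : ℕ) ∣ Hj.index → Subgroup.normalClosure (N : Set G) ≤ Hj := by
        intro Hj hprod hnd
        obtain ⟨P, hP⟩ := exists_sylow_le_of_not_dvd_index Hj hnd
        obtain ⟨Q, hQ⟩ := hNp.exists_le_sylow
        obtain ⟨g, rfl⟩ := MulAction.exists_smul_eq G P Q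
        obtain ⟨x, hx, y, hy, rfl⟩ := hprod g
        have hNHj : N ≤ Hj := by
          intro w hw
          have hz : x * w * x⁻¹ ∈ N := hNnorm x hx w hw
          have h1 : x * w * x⁻¹ ∈ (((x * y) • P : Sylow (s : ℕ) G) : Subgroup G) := hQ hz
          rw [Sylow.coe_subgroup_smul, helper3.mem_conj_smul_iff] at h1
          have h2 : (x * y)⁻¹ * (x * w * x⁻¹) * (x * y) ∈ Hj := hP h1
          have e : w = y * ((x * y)⁻¹ * (x * w * x⁻¹) * (x * y)) * y⁻¹ := by group
          rw [e]
          exact Hj.mul_mem (Hj.mul_mem hy h2) (Hj.inv_mem hy)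
        rw [Subgroup.normalClosure, Subgroup.closure_le]
        intro z hz
        rw [Group.mem_conjugatesOfSet_iff] at hz
        obtain ⟨w, hw, hwz⟩ := hz
        obtain ⟨g', rfl⟩ := isConj_iff.1 hwz
        obtain ⟨x', hx', y', hy', e'⟩ := hprod g'⁻¹
        have eg : g' = y'⁻¹ * x'⁻¹ := by
          rw [← mul_inv_rev, ← e', inv_inv]
        rw [SetLike.mem_coe, eg]
        have e2 : y'⁻¹ * x'⁻¹ * w * (y'⁻¹ * x'⁻¹)⁻¹ = y'⁻¹ * (x'⁻¹ * w * x'⁻¹⁻¹) * y' := by group
        rw [e2]
        exact Hj.mul_mem (Hj.mul_mem (Hj.inv_mem hy')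
          (hNHj (hNnorm x'⁻¹ (H₁.inv_mem hx') w hw))) hy'
      -- choose j
      have hj : ∃ Hj : Subgroup G, Group.IsSolvable Hj ∧ Subgroup.normalClosure (N : Set G) ≤ Hj := by
        by_cases hd2 : (s : ℕ) ∣ H₂.index
        · have hd3 : ¬ (s : ℕ) ∣ H₃.index := by
            intro hd3
            have hg := Nat.dvd_gcd hd2 hd3
            rw [Nat.Coprime.gcd_eq_one hcop] at hg
            exact s.2.one_lt.ne' (Nat.dvd_one.1 hg)
          exact ⟨H₃, h₃, key H₃ h13 hd3⟩
        · exact ⟨H₂, h₂, key H₂ h12 hd2⟩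
      obtain ⟨Hj, hjs, hMle⟩ := hj
      haveI := hjs
      haveI hMn : (Subgroup.normalClosure (N : Set G)).Normal := Subgroup.normalClosure_normal
      have hMbot : Subgroup.normalClosure (N : Set G) ≠ ⊥ := by
        intro h
        apply hNbot
        rw [eq_bot_iff, ← h]
        exact Subgroup.le_normalClosure
      haveI hMs : Group.IsSolvable (Subgroup.normalClosure (N : Set G)) :=
        solvable_of_solvable_injective (Subgroup.inclusion_injective hMle)
      haveI hQs : Group.IsSolvable (G ⧸ Subgroup.normalClosure (N : Set G)) := by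
        have hπ := QuotientGroup.mk'_surjective (Subgroup.normalClosure (N : Set G))
        refine ih (Nat.card (G ⧸ Subgroup.normalClosure (N : Set G))) ?_ _ rfl
          (H₁.map (QuotientGroup.mk' _)) (H₂.map (QuotientGroup.mk' _)) (H₃.map (QuotientGroup.mk' _))
          ?_ ?_ ?_ ?_ ?_ ?_
        · rw [← hn, ← Subgroup.index_eq_card,
            ← Subgroup.index_mul_card (Subgroup.normalClosure (N : Set G))]
          have h1 : 1 < Nat.card (Subgroup.normalClosure (N : Set G)) :=
            (Subgroup.one_lt_card_iff_ne_bot _).2 hMbot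
          have hpos : 0 < (Subgroup.normalClosure (N : Set G)).index :=
            Nat.pos_of_ne_zero Subgroup.index_ne_zero_of_finite
          exact lt_mul_of_one_lt_right hpos h1
        · exact Group.isSolvable_of_surjective (MonoidHom.subgroupMap_surjective _ H₁)
        · haveI := h₂
          exact Group.isSolvable_of_surjective (MonoidHom.subgroupMap_surjective _ H₂)
        · haveI := h₃
          exact Group.isSolvable_of_surjective (MonoidHom.subgroupMap_surjective _ H₃)
        · intro gbar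
          obtain ⟨g, rfl⟩ := hπ gbar
          obtain ⟨x, hx, y, hy, rfl⟩ := h12 g
          exact ⟨_, Subgroup.mem_map_of_mem _ hx, _, Subgroup.mem_map_of_mem _ hy, map_mul _ x y⟩
        · intro gbar
          obtain ⟨g, rfl⟩ := hπ gbar
          obtain ⟨x, hx, y, hy, rfl⟩ := h13 g
          exact ⟨_, Subgroup.mem_map_of_mem _ hx, _, Subgroup.mem_map_of_mem _ hy, map_mul _ x y⟩
        · exact Nat.Coprime.coprime_dvd_left (Subgroup.index_map_dvd H₂ hπ)
            (Nat.Coprime.coprime_dvd_right (Subgroup.index_map_dvd H₃ hπ) hcop)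
      exact solvable_of_ker_le_range (Subgroup.normalClosure (N : Set G)).subtype
        (QuotientGroup.mk' (Subgroup.normalClosure (N : Set G)))
        (by rw [QuotientGroup.ker_mk', Subgroup.range_subtype])

end Cfsg.Agent.helper23
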