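import Mathlib
import Cfsg.Prelude.Def_Solvable
import Cfsg.Agent.Lib_lead_Tate
import Cfsg.Agent.Lib_helper10_PResidual
import Cfsg.Agent.Lib_helper19_Sylow
import Cfsg.Agent.Lib_helper23_Reg2

set_option autoImplicit false
open Cfsg
open scoped Pointwise

namespace Cfsg.Agent.helper23.TwoGen

variable {G : Type*} [Group G]

/-- The subgroup generated by the `p'`-elements of `M`. -/
def ppc (p : ℕ) (M : Subgroup G) : Subgroup G :=
  Subgroup.closure {g | g ∈ M ∧ (orderOf g).Coprime p}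

theorem ppc_le (p : ℕ) (M : Subgroup G) : ppc p M ≤ M := by
  rw [ppc, Subgroup.closure_le]; intro g hg; exact hg.1

theorem mem_ppc {p : ℕ} {M : Subgroup G} {g : G} (hg : g ∈ M) (h : (orderOf g).Coprime p) :
    g ∈ ppc p M := Subgroup.subset_closure ⟨hg, h⟩

theorem orderOf_conj' (g x : G) : orderOf (g * x * g⁻¹) = orderOf x := by
  have := orderOf_injective (MulAut.conj g).toMonoidHom (MulAut.conj g).injective x
  simpa [MulAut.conj_apply] using this

theorem ppc_normal (p : ℕ) (M : Subgroup G) [hM : M.Normal] : (ppc p M).Normal := by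
  apply helper10.closure_normal_of_conj_invariant
  intro x hx g
  refine ⟨hM.conj_mem x hx.1 g, ?_⟩
  show (orderOf (g * x * g⁻¹)).Coprime p
  rw [orderOf_conj']; exact hx.2

/-- Tate's theorem inside the normalizer of `M`. -/
theorem tate_gen [Finite G] {p : ℕ} [Fact p.Prime] (P : Sylow p G) (M : Subgroup G)
    (hPM : (P : Subgroup G) ≤ Subgroup.normalizer (M : Set G))
    (h : M ⊓ (P : Subgroup G) ≤ (frattini ↥(P : Subgroup G)).map (P : Subgroup G).subtype) :
    ¬ p ∣ Nat.card ↥(ppc p M) := by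
  classical
  obtain ⟨X, hX⟩ : ∃ X : Subgroup G, X = Subgroup.normalizer (M : Set G) := ⟨_, rfl⟩
  have hPX : (P : Subgroup G) ≤ X := hX ▸ hPM
  have hMX : M ≤ X := hX ▸ Subgroup.le_normalizer
  obtain ⟨P', hP'⟩ : ∃ P' : Sylow p ↥X, P' = P.subtype hPX := ⟨_, rfl⟩
  have hP'c : (P' : Subgroup ↥X) = (P : Subgroup G).subgroupOf X := by rw [hP']; rfl
  haveI hM'n : (M.subgroupOf X).Normal := by
    rw [Subgroup.normal_subgroupOf_iff_le_normalizer hMX]; exact hX.le
  obtain ⟨s, hs⟩ : ∃ s : Set ↥X, s = {g | g ∈ M.subgroupOf X ∧ (orderOf g).Coprime p} := ⟨_, rfl⟩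
  obtain ⟨R, hR⟩ : ∃ R : Subgroup ↥X, R = Subgroup.closure s := ⟨_, rfl⟩
  haveI hRn : R.Normal := by
    rw [hR]; apply helper10.closure_normal_of_conj_invariant
    intro x hx g
    rw [hs] at hx ⊢
    refine ⟨hM'n.conj_mem x hx.1 g, ?_⟩
    show (orderOf (g * x * g⁻¹)).Coprime p
    rw [orderOf_conj']; exact hx.2
  have hRM : R ≤ M.subgroupOf X := by
    rw [hR, Subgroup.closure_le]; intro x hx; rw [hs] at hx; exact hx.1
  have hRP : R ⊓ (P' : Subgroup ↥X) ≤
      (frattini ↥(P' : Subgroup ↥X)).map (P' : Subgroup ↥X).subtype := by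
    intro z hz
    have hzM : (z : G) ∈ M := Subgroup.mem_subgroupOf.1 (hRM hz.1)
    have hzP' : z ∈ (P : Subgroup G).subgroupOf X := hP'c ▸ hz.2
    have hzP : (z : G) ∈ (P : Subgroup G) := Subgroup.mem_subgroupOf.1 hzP'
    obtain ⟨w, hw, hwz⟩ := h ⟨hzM, hzP⟩
    have hmem : ∀ w : ↥(P : Subgroup G), (⟨w.1, hPX w.2⟩ : ↥X) ∈ (P' : Subgroup ↥X) := by
      intro w; rw [hP'c]; exact Subgroup.mem_subgroupOf.2 w.2
    let e : ↥(P : Subgroup G) →* ↥(P' : Subgroup ↥X) :=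
      { toFun := fun w => ⟨⟨w.1, hPX w.2⟩, hmem w⟩
        map_one' := rfl
        map_mul' := fun _ _ => rfl }
    have he : Function.Surjective e := by
      rintro ⟨⟨a, ha⟩, ha'⟩
      have ha'' : a ∈ (P : Subgroup G) := by
        have : (⟨a, ha⟩ : ↥X) ∈ (P : Subgroup G).subgroupOf X := hP'c ▸ ha'
        exact Subgroup.mem_subgroupOf.1 this
      exact ⟨⟨a, ha''⟩, rfl⟩
    have := lead.map_frattini_le_of_surjective e he (Subgroup.mem_map_of_mem e hw)
    refine ⟨e w, this, ?_⟩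
    apply Subtype.ext
    exact hwz
  have hbot := lead.tate_core P' R s hR (fun x hx => by rw [hs] at hx; exact hx.2) hRP
  have hnd : ¬ p ∣ Nat.card R := by
    have h1 := helper19.sylow_inf_normal_not_dvd P' R
    rw [inf_comm, hbot, Subgroup.relIndex_bot_left] at h1
    exact h1
  have hmap : R.map X.subtype = ppc p M := by
    rw [hR, MonoidHom.map_closure, ppc]
    congr 1
    ext g
    constructor
    · rintro ⟨x, hx, rfl⟩
      rw [hs] at hx
      exact ⟨Subgroup.mem_subgroupOf.1 hx.1, by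
        rw [Subgroup.coe_subtype, Subgroup.orderOf_coe]; exact hx.2⟩
    · rintro ⟨hgM, hgo⟩
      refine ⟨⟨g, hMX hgM⟩, ?_, rfl⟩
      rw [hs]
      exact ⟨Subgroup.mem_subgroupOf.2 hgM, by rw [← Subgroup.orderOf_coe]; exact hgo⟩
  rw [← hmap, Subgroup.card_map_of_injective X.subtype_injective]
  exact hnd

/-- A normal `p`-subgroup lies in every Sylow `p`-subgroup. -/
theorem normal_pgroup_le [Finite G] {p : ℕ} [Fact p.Prime] (P : Sylow p G) (K : Subgroup G)
    [hK : K.Normal] (hp : IsPGroup p ↥K) : K ≤ (P : Subgroup G) := by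
  obtain ⟨Q, hQ⟩ := hp.exists_le_sylow
  obtain ⟨g, hg⟩ := MulAction.exists_smul_eq G Q P
  intro x hx
  rw [← hg, Sylow.coe_subgroup_smul]
  have h1 : g⁻¹ * x * g ∈ K := by simpa using hK.conj_mem x hx g⁻¹
  have h2 := (Subgroup.smul_mem_pointwise_smul_iff (a := MulAut.conj g) (S := (Q : Subgroup G))
    (x := g⁻¹ * x * g)).mpr (hQ h1)
  simpa [MulAut.smul_def, MulAut.conj_apply, mul_assoc] using h2

/-- Under `O_{p'}(G) = 1`, a normal subgroup meeting `P` inside `Φ(P)` is a `p`-group. -/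
theorem pgroup_of_inf_le [Finite G] {p : ℕ} [hp : Fact p.Prime] (P : Sylow p G)
    (hcore : Cfsg.pPrimeCore p G = ⊥) (K : Subgroup G) [hK : K.Normal]
    (h : K ⊓ (P : Subgroup G) ≤ (frattini ↥(P : Subgroup G)).map (P : Subgroup G).subtype) :
    IsPGroup p ↥K := by
  have hnd := tate_gen P K (by rw [Subgroup.normalizer_eq_top]; exact le_top) h
  haveI := ppc_normal p K
  have hRbot : ppc p K = ⊥ := by
    have : ppc p K ≤ Cfsg.pPrimeCore p G := by
      apply le_sSup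
      refine ⟨inferInstance, ?_⟩
      exact ((Nat.Prime.coprime_iff_not_dvd hp.out).2 hnd).symm
    rw [hcore] at this
    exact le_bot_iff.1 this
  intro g
  obtain ⟨a, m, hm, hgm⟩ := Nat.exists_eq_pow_mul_and_not_dvd (orderOf_pos (g : G)).ne' p
    hp.out.ne_one
  refine ⟨a, ?_⟩
  have h1 : orderOf ((g : G) ^ (p ^ a)) = m := by
    rw [orderOf_pow_of_dvd (pow_pos hp.out.pos a).ne' ⟨m, hgm⟩, hgm,
      Nat.mul_div_cancel_left _ (pow_pos hp.out.pos a)]
  have h2 : (g : G) ^ (p ^ a) ∈ ppc p K := by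
    apply mem_ppc (K.pow_mem g.2 _)
    rw [h1]
    exact ((Nat.Prime.coprime_iff_not_dvd hp.out).2 hm).symm
  rw [hRbot, Subgroup.mem_bot] at h2
  apply Subtype.ext
  rw [Subgroup.coe_pow]; exact h2

/-- The running hypotheses. -/
structure Hyp (p : ℕ) [Fact p.Prime] (P : Sylow p G) : Prop where
  hna : ¬ IsMulCommutative ↥(P : Subgroup G)
  hgen : (frattini ↥(P : Subgroup G)).index = p ^ 2
  hcore : Cfsg.pPrimeCore p G = ⊥
  hfrat : ((frattini ↥(P : Subgroup G)).map (P : Subgroup G).subtype).normalCore = ⊥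

theorem Hyp.not_le_frat [Finite G] {p : ℕ} [Fact p.Prime] {P : Sylow p G} (H : Hyp p P)
    (K : Subgroup G) [hK : K.Normal] (hK0 : K ≠ ⊥) :
    ¬ K.subgroupOf (P : Subgroup G) ≤ frattini ↥(P : Subgroup G) := by
  intro hle
  have h1 : K ⊓ (P : Subgroup G) ≤
      (frattini ↥(P : Subgroup G)).map (P : Subgroup G).subtype := by
    intro x hx
    exact ⟨⟨x, hx.2⟩, hle (Subgroup.mem_subgroupOf.2 hx.1), rfl⟩
  have h2 := pgroup_of_inf_le P H.hcore K h1
  have h3 := normal_pgroup_le P K h2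
  have h4 : K ≤ (frattini ↥(P : Subgroup G)).map (P : Subgroup G).subtype :=
    le_trans (le_inf le_rfl h3) h1
  have h5 := Subgroup.normal_le_normalCore.2 h4
  rw [H.hfrat] at h5
  exact hK0 (le_bot_iff.1 h5)

theorem Hyp.cyc [Finite G] {p : ℕ} [hp : Fact p.Prime] {P : Sylow p G} (H : Hyp p P)
    (D : Subgroup ↥(P : Subgroup G)) [D.Normal] (hD : ¬ D ≤ frattini ↥(P : Subgroup G)) :
    IsCyclic (↥(P : Subgroup G) ⧸ D) := by
  have hT : IsPGroup p (↥(P : Subgroup G) ⧸ D) := P.isPGroup'.to_quotient D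
  apply isCyclic_of_frattini_index_le hT
  obtain ⟨C, hC⟩ : ∃ C : Subgroup ↥(P : Subgroup G),
      C = (frattini (↥(P : Subgroup G) ⧸ D)).comap (QuotientGroup.mk' D) := ⟨_, rfl⟩
  have h1 : frattini ↥(P : Subgroup G) ≤ C := by
    rw [hC, ← Subgroup.map_le_iff_le_comap]
    exact lead.map_frattini_le_of_surjective _ (QuotientGroup.mk'_surjective D)
  have h2 : D ≤ C := by
    rw [hC]; intro d hd
    rw [Subgroup.mem_comap]
    have : QuotientGroup.mk' D d = 1 := by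
      rw [QuotientGroup.mk'_apply, QuotientGroup.eq_one_iff]; exact hd
    rw [this]; exact Subgroup.one_mem _
  have h3 : C.index = (frattini (↥(P : Subgroup G) ⧸ D)).index := by
    rw [hC]; exact Subgroup.index_comap_of_surjective _ (QuotientGroup.mk'_surjective D)
  rw [← h3]
  have h4 : C.index ∣ p ^ 2 := H.hgen ▸ Subgroup.index_dvd_of_le h1
  obtain ⟨k, hk2, hk⟩ := (Nat.dvd_prime_pow hp.out).1 h4
  have hk1 : k ≠ 2 := by
    rintro rfl
    apply hD
    have h5 : (frattini ↥(P : Subgroup G)).relIndex C = 1 := by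
      have := Subgroup.relIndex_mul_index h1
      rw [H.hgen, hk] at this
      have hpos : 0 < p ^ 2 := pow_pos hp.out.pos 2
      exact Nat.eq_of_mul_eq_mul_right hpos (by rw [this, one_mul])
    have h6 : C ≤ frattini ↥(P : Subgroup G) := Subgroup.relIndex_eq_one.1 h5
    exact h2.trans h6
  rw [hk]
  have hk' : k ≤ 1 := by omega
  calc p ^ k ≤ p ^ 1 := Nat.pow_le_pow_right hp.out.pos hk'
    _ = p := pow_one p

theorem Hyp.comm_mem [Finite G] {p : ℕ} [hp : Fact p.Prime] {P : Sylow p G} (H : Hyp p P)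
    (D : Subgroup ↥(P : Subgroup G)) [D.Normal] (hD : ¬ D ≤ frattini ↥(P : Subgroup G))
    (y z : ↥(P : Subgroup G)) : y * z * y⁻¹ * z⁻¹ ∈ D := by
  haveI := H.cyc D hD
  rw [← QuotientGroup.eq_one_iff]
  have hc : ∀ a b : ↥(P : Subgroup G) ⧸ D, a * b = b * a := fun a b =>
    (IsCyclic.commGroup (α := ↥(P : Subgroup G) ⧸ D)).mul_comm a b
  rw [QuotientGroup.mk_mul, QuotientGroup.mk_mul, QuotientGroup.mk_mul, QuotientGroup.mk_inv,
    QuotientGroup.mk_inv, hc (↑y) (↑z)]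
  group

theorem Hyp.two [Finite G] {p : ℕ} [hp : Fact p.Prime] {P : Sylow p G} (H : Hyp p P)
    (D₁ D₂ : Subgroup ↥(P : Subgroup G)) [D₁.Normal] [D₂.Normal]
    (h1 : ¬ D₁ ≤ frattini ↥(P : Subgroup G)) (h2 : ¬ D₂ ≤ frattini ↥(P : Subgroup G))
    (hd : D₁ ⊓ D₂ = ⊥) : False := by
  apply H.hna
  refine ⟨⟨fun y z => ?_⟩⟩
  have h := H.comm_mem D₁ h1 y z
  have h' := H.comm_mem D₂ h2 y z
  have h3 : y * z * y⁻¹ * z⁻¹ ∈ D₁ ⊓ D₂ := ⟨h, h'⟩
  rw [hd, Subgroup.mem_bot] at h3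
  calc y * z = (y * z * y⁻¹ * z⁻¹) * (z * y) := by group
    _ = z * y := by rw [h3, one_mul]

/-- There is a unique minimal normal subgroup. -/
theorem Hyp.exists_min [Finite G] {p : ℕ} [hp : Fact p.Prime] {P : Sylow p G} (H : Hyp p P) :
    ∃ N : Subgroup G, N.Normal ∧ N ≠ ⊥ ∧ ∀ K : Subgroup G, K.Normal → K ≠ ⊥ → N ≤ K := by
  have htop : (⊤ : Subgroup G) ≠ ⊥ := by
    intro h
    apply H.hna
    refine ⟨⟨fun y z => ?_⟩⟩
    have h1 : ∀ g : G, g = 1 := fun g => by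
      have : g ∈ (⊤ : Subgroup G) := Subgroup.mem_top g
      rw [h, Subgroup.mem_bot] at this; exact this
    apply Subtype.ext
    rw [Subgroup.coe_mul, Subgroup.coe_mul, h1 (y : G), h1 (z : G)]
  let S : Set (Subgroup G) := {N | N.Normal ∧ N ≠ ⊥}
  obtain ⟨N, hN⟩ := (Set.toFinite S).exists_minimal ⟨⊤, inferInstance, htop⟩
  obtain ⟨⟨hNn, hN0⟩, hmin⟩ := hN
  refine ⟨N, hNn, hN0, fun K hKn hK0 => ?_⟩
  haveI := hNn; haveI := hKn
  by_contra hNK
  have hinf : N ⊓ K = ⊥ := by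
    by_contra hne
    have h1 : N ≤ N ⊓ K := hmin ⟨inferInstance, hne⟩ inf_le_left
    exact hNK (h1.trans inf_le_right)
  refine H.two (N.subgroupOf (P : Subgroup G)) (K.subgroupOf (P : Subgroup G))
    (H.not_le_frat N hN0) (H.not_le_frat K hK0) ?_
  rw [eq_bot_iff]
  intro x hx
  have h1 : (x : G) ∈ N ⊓ K := ⟨Subgroup.mem_subgroupOf.1 hx.1, Subgroup.mem_subgroupOf.1 hx.2⟩
  rw [hinf, Subgroup.mem_bot] at h1
  rw [Subgroup.mem_bot]
  exact Subtype.ext h1

end Cfsg.Agent.helper23.TwoGen
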