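import Mathlib
import Cfsg.Prelude.Def_Local
import Cfsg.Agent.Lib_helper23_TwoGen1
import Cfsg.Agent.Lib_helper7_FStar
import Cfsg.Agent.Lib_helper7_Local
import Cfsg.Agent.Lib_lead_Gaschutz

set_option autoImplicit false
open Cfsg
open scoped Pointwise commutatorElement

namespace Cfsg.Agent.helper23.TwoGen

open Cfsg.Agent.helper7

variable {G : Type*} [Group G]

theorem fstar_ne_bot [Finite G] (h : (⊤ : Subgroup G) ≠ ⊥) :
    Cfsg.generalizedFittingSubgroup G ≠ ⊥ := by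
  rw [generalizedFittingSubgroup_eq]
  intro h0
  apply h
  rw [eq_bot_iff]
  intro g _
  have h1 := centralizer_fstarOf_le (⊤ : Subgroup G)
  rw [h0] at h1
  have hg : g ∈ ⊤ ⊓ Subgroup.centralizer ((⊥ : Subgroup G) : Set G) := by
    refine ⟨Subgroup.mem_top g, Subgroup.mem_centralizer_iff.2 (fun x hx => ?_)⟩
    have : x = 1 := Subgroup.mem_bot.1 (SetLike.mem_coe.1 hx)
    rw [this, one_mul, mul_one]
  exact h1 hg

theorem fit_normal [Finite G] : (Cfsg.fittingSubgroup G).Normal := by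
  rw [fittingSubgroup_eq]
  exact Subgroup.normalizer_eq_top_iff.1 (top_le_iff.1 (fitOf_normal ⊤))

theorem fstar_normal [Finite G] : (Cfsg.generalizedFittingSubgroup G).Normal := by
  rw [generalizedFittingSubgroup_eq]
  exact Subgroup.normalizer_eq_top_iff.1 (top_le_iff.1 (fstarOf_normal ⊤))

/-- With `O_{p'}(G) = 1`, `F(G) ≤ O_p(G)` (local copy of a lemma of helper7). -/
theorem fit_le_pcore' [Finite G] {p : ℕ} [Fact p.Prime]
    (hO : piCoreIn {q | q ≠ p} (⊤ : Subgroup G) = ⊥) :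
    fitOf (⊤ : Subgroup G) ≤ piCoreIn {p} (⊤ : Subgroup G) := by
  rw [fitOf_eq_iSup]
  apply iSup_le
  rintro ⟨q, hq⟩
  by_cases hqp : q = p
  · subst hqp; exact le_rfl
  · have h1 : piCoreIn {q} (⊤ : Subgroup G) ≤ piCoreIn {r | r ≠ p} (⊤ : Subgroup G) := by
      apply le_piCoreIn_of_sn (SN.of_normal le_top (piCoreIn_normal {q} ⊤))
      intro x hx r hr hdvd
      have := piCoreIn_piGrp {q} (⊤ : Subgroup G) x hx r hr hdvd
      rw [Set.mem_singleton_iff] at this
      show r ≠ p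
      rw [this]; exact hqp
    rw [hO] at h1
    exact h1.trans bot_le

theorem fit_pgroup [Finite G] {p : ℕ} [hp : Fact p.Prime] (hcore : Cfsg.pPrimeCore p G = ⊥) :
    IsPGroup p ↥(Cfsg.fittingSubgroup G) := by
  rw [fittingSubgroup_eq]
  have hO : piCoreIn {q | q ≠ p} (⊤ : Subgroup G) = ⊥ := by
    rw [← pPrimeCore_eq hp.out]; exact hcore
  exact (piCoreIn_isPGroup hp.out ⊤).to_le (fit_le_pcore' hO)

/-- The centre of a nontrivial normal `p`-subgroup, as a normal subgroup of `G`. -/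
theorem center_map_ne_bot [Finite G] {p : ℕ} [hp : Fact p.Prime] (Q : Subgroup G)
    (hQ0 : Q ≠ ⊥) (hQp : IsPGroup p ↥Q) : (Subgroup.center ↥Q).map Q.subtype ≠ ⊥ := by
  haveI : Nontrivial ↥Q := (Subgroup.nontrivial_iff_ne_bot Q).2 hQ0
  intro h
  rw [Subgroup.map_eq_bot_iff_of_injective _ Q.subtype_injective] at h
  have := hQp.center_nontrivial
  rw [Subgroup.nontrivial_iff_ne_bot] at this
  exact this h

theorem comm_of_le_center_map {Q : Subgroup G} {n q : G}
    (hn : n ∈ (Subgroup.center ↥Q).map Q.subtype) (hq : q ∈ Q) : n * q = q * n := by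
  obtain ⟨z, hz, hzn⟩ := hn
  have hz' : z ∈ Subgroup.center ↥Q := hz
  rw [Subgroup.mem_center_iff] at hz'
  have h1 := congrArg Subtype.val (hz' ⟨q, hq⟩)
  simp only [Subgroup.coe_mul] at h1
  rw [Subgroup.coe_subtype] at hzn
  rw [← hzn]; exact h1.symm

theorem abelian_of_pgroup [Finite G] {p : ℕ} [hp : Fact p.Prime] (N : Subgroup G)
    [hN : N.Normal] (hN0 : N ≠ ⊥)
    (hmin : ∀ K : Subgroup G, K.Normal → K ≠ ⊥ → N ≤ K) (hNp : IsPGroup p ↥N) :
    ∀ a ∈ N, ∀ b ∈ N, a * b = b * a := by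
  have hZn : ((Subgroup.center ↥N).map N.subtype).Normal :=
    ConjAct.normal_of_characteristic_of_normal
  have hNZ := hmin _ hZn (center_map_ne_bot N hN0 hNp)
  intro a ha b hb
  exact comm_of_le_center_map (hNZ ha) hb

theorem nonab_case [Finite G] {p : ℕ} [hp : Fact p.Prime] {P : Sylow p G} (H : Hyp p P)
    (N : Subgroup G) [hN : N.Normal] (hN0 : N ≠ ⊥)
    (hmin : ∀ K : Subgroup G, K.Normal → K ≠ ⊥ → N ≤ K)
    (hnab : ¬ ∀ a ∈ N, ∀ b ∈ N, a * b = b * a) :
    Subgroup.centralizer (N : Set G) = ⊥ ∧ Cfsg.fittingSubgroup G = ⊥ ∧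
      (∀ L : Subgroup G, Cfsg.IsComponent L → L ≤ N) ∧
      Cfsg.generalizedFittingSubgroup G ≤ N := by
  have hC : Subgroup.centralizer (N : Set G) = ⊥ := by
    by_contra hC
    have h1 := hmin _ inferInstance hC
    apply hnab
    intro a ha b hb
    have := h1 ha
    rw [Subgroup.mem_centralizer_iff] at this
    exact (this b hb).symm
  have hF : Cfsg.fittingSubgroup G = ⊥ := by
    by_contra hF
    have h1 := hmin _ fit_normal hF
    exact hnab (abelian_of_pgroup N hN0 hmin ((fit_pgroup H.hcore).to_le h1))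
  have hL : ∀ L : Subgroup G, Cfsg.IsComponent L → L ≤ N := by
    intro L hL
    rw [isComponent_iff] at hL
    have hNsn : SN N ⊤ := SN.of_normal le_top (by rw [Subgroup.normalizer_eq_top])
    rcases comp_le_or_comm hL.1 hL.2 hNsn with h | h
    · exact h
    · exfalso
      have h1 : L ≤ Subgroup.centralizer (N : Set G) :=
        Subgroup.commutator_eq_bot_iff_le_centralizer.1 h
      rw [hC] at h1
      exact hL.2.2.1 (le_bot_iff.1 h1)
  refine ⟨hC, hF, hL, ?_⟩
  unfold Cfsg.generalizedFittingSubgroup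
  rw [hF, sup_bot_eq]
  exact sSup_le hL

theorem exp_p_of_abelian [Finite G] {p : ℕ} [hp : Fact p.Prime]
    (hcore : Cfsg.pPrimeCore p G = ⊥) (N : Subgroup G) [hN : N.Normal] (hN0 : N ≠ ⊥)
    (hmin : ∀ K : Subgroup G, K.Normal → K ≠ ⊥ → N ≤ K)
    (hab : ∀ a ∈ N, ∀ b ∈ N, a * b = b * a) : ∀ n ∈ N, n ^ p = 1 := by
  let Ω : Subgroup G :=
    { carrier := {n | n ∈ N ∧ n ^ p = 1}
      mul_mem' := by
        rintro a b ⟨ha, ha'⟩ ⟨hb, hb'⟩
        refine ⟨N.mul_mem ha hb, ?_⟩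
        have hc : Commute a b := hab a ha b hb
        rw [hc.mul_pow, ha', hb', one_mul]
      one_mem' := ⟨N.one_mem, one_pow p⟩
      inv_mem' := by
        rintro a ⟨ha, ha'⟩
        exact ⟨N.inv_mem ha, by rw [inv_pow, ha', inv_one]⟩ }
  have hΩn : Ω.Normal := ⟨by
    rintro n ⟨hn, hn'⟩ g
    refine ⟨hN.conj_mem n hn g, ?_⟩
    rw [conj_pow, hn', mul_one, mul_inv_cancel]⟩
  have hΩ0 : Ω ≠ ⊥ := by
    intro hΩ
    apply hN0
    have hnd : ¬ p ∣ Nat.card ↥N := by
      intro hdvd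
      obtain ⟨x, hx⟩ := exists_prime_orderOf_dvd_card' p hdvd
      have hxp : (x : G) ^ p = 1 := by
        rw [← Subgroup.coe_pow, ← hx, pow_orderOf_eq_one]; rfl
      have hxΩ : (x : G) ∈ Ω := ⟨x.2, hxp⟩
      rw [hΩ, Subgroup.mem_bot] at hxΩ
      have : x = 1 := Subtype.ext hxΩ
      rw [this, orderOf_one] at hx
      exact hp.out.one_lt.ne hx
    have : N ≤ Cfsg.pPrimeCore p G :=
      le_sSup ⟨hN, ((Nat.Prime.coprime_iff_not_dvd hp.out).2 hnd).symm⟩
    rw [hcore] at this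
    exact le_bot_iff.1 this
  intro n hn
  exact (hmin Ω hΩn hΩ0 hn).2

theorem Hyp.gen_mod [Finite G] {p : ℕ} [hp : Fact p.Prime] {P : Sylow p G} (H : Hyp p P)
    (K : Subgroup G) [K.Normal] (hK0 : K ≠ ⊥) :
    ∃ x ∈ (P : Subgroup G), ∀ y ∈ (P : Subgroup G), ∃ k : ℤ, ∃ n ∈ K, y = x ^ k * n := by
  haveI := H.cyc (K.subgroupOf (P : Subgroup G)) (H.not_le_frat K hK0)
  obtain ⟨g, hg⟩ := IsCyclic.exists_generator
    (α := ↥(P : Subgroup G) ⧸ K.subgroupOf (P : Subgroup G))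
  obtain ⟨x, rfl⟩ := QuotientGroup.mk_surjective g
  refine ⟨x.1, x.2, fun y hy => ?_⟩
  obtain ⟨k, hk⟩ := Subgroup.mem_zpowers_iff.1 (hg (QuotientGroup.mk ⟨y, hy⟩))
  rw [← QuotientGroup.mk_zpow, QuotientGroup.eq] at hk
  have hk' := Subgroup.mem_subgroupOf.1 hk
  refine ⟨k, _, hk', ?_⟩
  simp only [Subgroup.coe_mul, Subgroup.coe_inv, Subgroup.coe_zpow]
  group

theorem comm_of_gen {x : G} {N : Subgroup G} (hab : ∀ a ∈ N, ∀ b ∈ N, a * b = b * a)
    {a b : G} (ha : a ∈ Subgroup.centralizer (N : Set G))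
    (hb : b ∈ Subgroup.centralizer (N : Set G))
    {k l : ℤ} {n m : G} (hn : n ∈ N) (hm : m ∈ N) (hak : a = x ^ k * n) (hbl : b = x ^ l * m) :
    a * b = b * a := by
  have hNC : ∀ n ∈ N, n ∈ Subgroup.centralizer (N : Set G) := by
    intro n hn
    rw [Subgroup.mem_centralizer_iff]
    intro h hh
    exact hab h hh n hn
  have hxk : x ^ k ∈ Subgroup.centralizer (N : Set G) := by
    have : x ^ k = a * n⁻¹ := by rw [hak]; group
    rw [this]
    exact Subgroup.mul_mem _ ha (Subgroup.inv_mem _ (hNC n hn))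
  have hxl : x ^ l ∈ Subgroup.centralizer (N : Set G) := by
    have : x ^ l = b * m⁻¹ := by rw [hbl]; group
    rw [this]
    exact Subgroup.mul_mem _ hb (Subgroup.inv_mem _ (hNC m hm))
  rw [Subgroup.mem_centralizer_iff] at hxk hxl
  have e1 : n * x ^ l = x ^ l * n := hxl n hn
  have e2 : m * x ^ k = x ^ k * m := hxk m hm
  have e3 : n * m = m * n := hab n hn m hm
  have e4 : x ^ k * x ^ l = x ^ l * x ^ k := by rw [← zpow_add, ← zpow_add, add_comm]
  rw [hak, hbl]
  calc x ^ k * n * (x ^ l * m) = x ^ k * (n * x ^ l) * m := by simp only [mul_assoc]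
    _ = x ^ k * (x ^ l * n) * m := by rw [e1]
    _ = (x ^ k * x ^ l) * (n * m) := by simp only [mul_assoc]
    _ = (x ^ l * x ^ k) * (m * n) := by rw [e4, e3]
    _ = x ^ l * (x ^ k * m) * n := by simp only [mul_assoc]
    _ = x ^ l * (m * x ^ k) * n := by rw [e2]
    _ = x ^ l * m * (x ^ k * n) := by simp only [mul_assoc]

/-- Transfer: with an abelian Sylow `p`-subgroup `R`, `Z(H) ∩ R ∩ H' = 1`. -/
theorem center_inf_commutator_sylow {H : Type*} [Group H] [Finite H] {p : ℕ} [hp : Fact p.Prime]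
    (R : Sylow p H) (hR : ∀ a b : ↥(R : Subgroup H), a * b = b * a) (z : H)
    (hzc : z ∈ Subgroup.center H) (hzR : z ∈ (R : Subgroup H)) (hzd : z ∈ commutator H) :
    z = 1 := by
  letI : CommGroup ↥(R : Subgroup H) :=
    { (inferInstance : Group ↥(R : Subgroup H)) with mul_comm := hR }
  have key : ∀ (k : ℕ) (g₀ : H), g₀⁻¹ * z ^ k * g₀ ∈ (R : Subgroup H) →
      g₀⁻¹ * z ^ k * g₀ = z ^ k := by
    intro k g₀ _
    have hc : z ^ k ∈ Subgroup.center H := Subgroup.pow_mem _ hzc k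
    rw [Subgroup.mem_center_iff] at hc
    rw [mul_assoc, ← hc g₀, inv_mul_cancel_left]
  have h1 := MonoidHom.transfer_eq_pow (MonoidHom.id ↥(R : Subgroup H)) z key
  have h2 : MonoidHom.transfer (MonoidHom.id ↥(R : Subgroup H)) z = 1 := by
    have : commutator H ≤ (MonoidHom.transfer (MonoidHom.id ↥(R : Subgroup H))).ker :=
      Abelianization.commutator_subset_ker _
    exact this hzd
  rw [h2] at h1
  have h3 : z ^ (R : Subgroup H).index = 1 := by
    have := congrArg Subtype.val h1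
    simpa using this.symm
  obtain ⟨k, hk⟩ := R.isPGroup' ⟨z, hzR⟩
  have h4 : z ^ (p ^ k) = 1 := by
    have := congrArg Subtype.val hk
    simpa using this
  have hcop : (p ^ k).Coprime (R : Subgroup H).index :=
    Nat.Coprime.pow_left k ((Nat.Prime.coprime_iff_not_dvd hp.out).2 R.not_dvd_index)
  have h5 : z ^ Nat.gcd (p ^ k) (R : Subgroup H).index = 1 := pow_gcd_eq_one.2 ⟨h4, h3⟩
  rw [Nat.Coprime.gcd_eq_one hcop, pow_one] at h5
  exact h5

theorem centralizer_abelian [Finite G] {p : ℕ} [hp : Fact p.Prime] {P : Sylow p G}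
    (H : Hyp p P) (N : Subgroup G) [hN : N.Normal] (hN0 : N ≠ ⊥)
    (hmin : ∀ K : Subgroup G, K.Normal → K ≠ ⊥ → N ≤ K)
    (hab : ∀ a ∈ N, ∀ b ∈ N, a * b = b * a) :
    ∀ a ∈ Subgroup.centralizer (N : Set G), ∀ b ∈ Subgroup.centralizer (N : Set G),
      a * b = b * a := by
  obtain ⟨C, hC⟩ : ∃ C : Subgroup G, C = Subgroup.centralizer (N : Set G) := ⟨_, rfl⟩
  haveI hCn : C.Normal := by rw [hC]; infer_instance
  have hexp := exp_p_of_abelian H.hcore N hN0 hmin hab
  have hNp : IsPGroup p ↥N := fun g => ⟨1, by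
    apply Subtype.ext; rw [pow_one, Subgroup.coe_pow]; exact hexp _ g.2⟩
  have hNP : N ≤ (P : Subgroup G) := normal_pgroup_le P N hNp
  have hNC : N ≤ C := by
    rw [hC]; intro n hn; rw [Subgroup.mem_centralizer_iff]; intro h hh; exact hab h hh n hn
  obtain ⟨x, hxP, hx⟩ := H.gen_mod N hN0
  have hidx : ¬ p ∣ ((P : Subgroup G).subgroupOf C).index := by
    have := helper19.sylow_inf_normal_not_dvd P C
    rwa [Subgroup.inf_relIndex_right] at this
  have hpg : IsPGroup p ↥((P : Subgroup G).subgroupOf C) := P.isPGroup'.comap_subtype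
  obtain ⟨R, hR⟩ : ∃ R : Sylow p ↥C, (R : Subgroup ↥C) = (P : Subgroup G).subgroupOf C :=
    ⟨hpg.toSylow hidx, IsPGroup.toSylow_coe hpg hidx⟩
  have hRmem : ∀ c : ↥C, c ∈ (R : Subgroup ↥C) → (c : G) ∈ (P : Subgroup G) := by
    intro c hc; rw [hR] at hc; exact Subgroup.mem_subgroupOf.1 hc
  have hRc : ∀ a b : ↥(R : Subgroup ↥C), a * b = b * a := by
    intro a b
    have haP : ((a : ↥C) : G) ∈ (P : Subgroup G) := hRmem _ a.2
    have hbP : ((b : ↥C) : G) ∈ (P : Subgroup G) := hRmem _ b.2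
    obtain ⟨k, n, hn, hak⟩ := hx _ haP
    obtain ⟨l, m, hm, hbl⟩ := hx _ hbP
    have haC : ((a : ↥C) : G) ∈ Subgroup.centralizer (N : Set G) := hC ▸ (a : ↥C).2
    have hbC : ((b : ↥C) : G) ∈ Subgroup.centralizer (N : Set G) := hC ▸ (b : ↥C).2
    have := comm_of_gen hab haC hbC hn hm hak hbl
    apply Subtype.ext; apply Subtype.ext
    simp only [Subgroup.coe_mul]; exact this
  have hinf : N ⊓ ⁅C, C⁆ = ⊥ := by
    rw [eq_bot_iff]
    intro z hz
    have hzC : z ∈ C := hNC hz.1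
    have h1 : (⟨z, hzC⟩ : ↥C) ∈ Subgroup.center ↥C := by
      rw [Subgroup.mem_center_iff]
      intro g
      apply Subtype.ext
      simp only [Subgroup.coe_mul]
      have hg : (g : G) ∈ Subgroup.centralizer (N : Set G) := hC ▸ g.2
      rw [Subgroup.mem_centralizer_iff] at hg
      exact (hg z hz.1).symm
    have h2 : (⟨z, hzC⟩ : ↥C) ∈ (R : Subgroup ↥C) := by
      rw [hR]; exact Subgroup.mem_subgroupOf.2 (hNP hz.1)
    have h3 : (⟨z, hzC⟩ : ↥C) ∈ commutator ↥C := by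
      have := hz.2
      rw [← Subgroup.map_subtype_commutator] at this
      obtain ⟨w, hw, hwz⟩ := this
      have : w = ⟨z, hzC⟩ := Subtype.ext hwz
      rw [← this]; exact hw
    have h4 := center_inf_commutator_sylow R hRc _ h1 h2 h3
    rw [Subgroup.mem_bot]
    exact congrArg Subtype.val h4
  have hcomm : ⁅C, C⁆ = ⊥ := by
    by_contra hne
    have h1 := hmin ⁅C, C⁆ inferInstance hne
    apply hN0
    rw [eq_bot_iff, ← hinf]
    exact le_inf le_rfl h1
  have := Subgroup.commutator_eq_bot_iff_le_centralizer.1 hcomm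
  intro a ha b hb
  rw [← hC] at ha hb
  have h1 := this ha
  rw [Subgroup.mem_centralizer_iff] at h1
  exact (h1 b hb).symm

end Cfsg.Agent.helper23.TwoGen
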