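import Mathlib
import Cfsg.Prelude.Def_Local
import Cfsg.Agent.Lib_helper23_TwoGen2

set_option autoImplicit false
open Cfsg
open scoped Pointwise commutatorElement

namespace Cfsg.Agent.helper23.TwoGen

open Cfsg.Agent.helper7

variable {G : Type*} [Group G]

theorem sn_of_normal' (N : Subgroup G) [N.Normal] : SN N ⊤ :=
  SN.of_normal le_top (by rw [Subgroup.normalizer_eq_top])

theorem ab_case [Finite G] {p : ℕ} [hp : Fact p.Prime] {P : Sylow p G} (H : Hyp p P)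
    (N : Subgroup G) [hN : N.Normal] (hN0 : N ≠ ⊥)
    (hmin : ∀ K : Subgroup G, K.Normal → K ≠ ⊥ → N ≤ K)
    (hab : ∀ a ∈ N, ∀ b ∈ N, a * b = b * a) :
    Cfsg.generalizedFittingSubgroup G ≤ N := by
  have hCab := centralizer_abelian H N hN0 hmin hab
  have hexp := exp_p_of_abelian H.hcore N hN0 hmin hab
  have hNp : IsPGroup p ↥N := fun g => ⟨1, by
    apply Subtype.ext; rw [pow_one, Subgroup.coe_pow]; exact hexp _ g.2⟩
  have hNP : N ≤ (P : Subgroup G) := normal_pgroup_le P N hNp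
  have hlayer : Cfsg.layer G = ⊥ := by
    rw [eq_bot_iff]; unfold Cfsg.layer
    apply sSup_le
    intro L hL
    exfalso
    rw [Set.mem_setOf_eq, isComponent_iff] at hL
    have hsolv : Group.IsSolvable ↥N :=
      isSolvable_of_comm (fun a b => Subtype.ext (by
        rw [Subgroup.coe_mul, Subgroup.coe_mul]; exact hab a a.2 b b.2))
    have h1 := hL.comm_solvable (sn_of_normal' N) hsolv
    have h2 : L ≤ Subgroup.centralizer (N : Set G) :=
      Subgroup.commutator_eq_bot_iff_le_centralizer.1 h1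
    apply hL.2.not_abelian
    intro a ha
    rw [Subgroup.mem_centralizer_iff]
    intro b hb
    exact hCab b (h2 hb) a (h2 ha)
  unfold Cfsg.generalizedFittingSubgroup
  rw [hlayer, bot_sup_eq]
  obtain ⟨Q, hQ⟩ : ∃ Q : Subgroup G, Q = Cfsg.fittingSubgroup G := ⟨_, rfl⟩
  rw [← hQ]
  haveI hQn : Q.Normal := hQ ▸ fit_normal
  have hQp : IsPGroup p ↥Q := hQ ▸ fit_pgroup H.hcore
  by_cases hQ0 : Q = ⊥
  · rw [hQ0]; exact bot_le
  have hNQ : N ≤ Q := hmin Q hQn hQ0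
  have hQP : Q ≤ (P : Subgroup G) := normal_pgroup_le P Q hQp
  have hQC : Q ≤ Subgroup.centralizer (N : Set G) := by
    have hZn : ((Subgroup.center ↥Q).map Q.subtype).Normal :=
      ConjAct.normal_of_characteristic_of_normal
    have hNZ := hmin _ hZn (center_map_ne_bot Q hQ0 hQp)
    intro q hq
    rw [Subgroup.mem_centralizer_iff]
    intro n hn
    exact comm_of_le_center_map (hNZ hn) hq
  have hQab : ∀ a ∈ Q, ∀ b ∈ Q, a * b = b * a :=
    fun a ha b hb => hCab a (hQC ha) b (hQC hb)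
  have hQexp : ∀ q ∈ Q, q ^ p = 1 := by
    obtain ⟨T, hT⟩ : ∃ T : Subgroup G, T = Subgroup.closure {g | ∃ q ∈ Q, g = q ^ p} :=
      ⟨_, rfl⟩
    haveI hTn : T.Normal := by
      rw [hT]; apply helper10.closure_normal_of_conj_invariant
      rintro _ ⟨q, hq, rfl⟩ g
      exact ⟨g * q * g⁻¹, hQn.conj_mem q hq g, by rw [conj_pow]⟩
    have hTle : T ≤ (frattini ↥(P : Subgroup G)).map (P : Subgroup G).subtype := by
      rw [hT, Subgroup.closure_le]
      rintro _ ⟨q, hq, rfl⟩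
      exact ⟨(⟨q, hQP hq⟩ : ↥(P : Subgroup G)) ^ p,
        helper1.pow_mem_frattini_of_isPGroup P.isPGroup' _, rfl⟩
    have h5 := Subgroup.normal_le_normalCore.2 hTle
    rw [H.hfrat] at h5
    intro q hq
    have : q ^ p ∈ T := by rw [hT]; exact Subgroup.subset_closure ⟨q, hq, rfl⟩
    exact Subgroup.mem_bot.1 (h5 this)
  by_contra hQN
  obtain ⟨q₀, hq₀, hq₀N⟩ := SetLike.not_le_iff_exists.1 hQN
  obtain ⟨x, hxP, hx⟩ := H.gen_mod N hN0
  obtain ⟨k, n, hn, hq₀k⟩ := hx q₀ (hQP hq₀)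
  obtain ⟨y, hy⟩ : ∃ y, y = x ^ k := ⟨_, rfl⟩
  have hyQ : y ∈ Q := by
    have : y = q₀ * n⁻¹ := by rw [hy, hq₀k]; group
    rw [this]; exact Q.mul_mem hq₀ (Q.inv_mem (hNQ hn))
  have hyN : y ∉ N := by
    intro h
    apply hq₀N
    rw [hq₀k, ← hy]; exact N.mul_mem h hn
  obtain ⟨A, hA⟩ : ∃ A : Subgroup G, A = Subgroup.zpowers x := ⟨_, rfl⟩
  have hyA : y ∈ A := by rw [hA, hy]; exact Subgroup.zpow_mem_zpowers x k
  have hAN : A ⊓ N = ⊥ := by
    rw [eq_bot_iff]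
    intro b hb
    rw [Subgroup.mem_bot]
    by_contra hb1
    apply hyN
    haveI : IsCyclic ↥A := by rw [hA]; infer_instance
    haveI : IsCyclic ↥(A ⊓ Q) := Subgroup.isCyclic_of_le (inf_le_left : A ⊓ Q ≤ A)
    obtain ⟨w, hw⟩ := IsCyclic.exists_generator (α := ↥(A ⊓ Q))
    have hcard : Nat.card ↥(A ⊓ Q) = orderOf w :=
      (orderOf_eq_card_of_forall_mem_zpowers hw).symm
    have hwp : w ^ p = 1 := Subtype.ext (by rw [Subgroup.coe_pow]; exact hQexp _ w.2.2)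
    have hdvd : orderOf w ∣ p := orderOf_dvd_of_pow_eq_one hwp
    have hy' : (⟨y, hyA, hyQ⟩ : ↥(A ⊓ Q)) ≠ 1 := by
      intro h
      apply hyN
      have h1 : y = 1 := congrArg Subtype.val h
      rw [h1]; exact N.one_mem
    have hcardp : Nat.card ↥(A ⊓ Q) = p := by
      rcases (Nat.dvd_prime hp.out).1 hdvd with h1 | h1
      · exfalso
        rw [h1] at hcard
        haveI : Subsingleton ↥(A ⊓ Q) := (Nat.card_eq_one_iff_unique.1 hcard).1
        exact hy' (Subsingleton.elim _ _)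
      · rw [hcard, h1]
    have hb' : (⟨b, hb.1, hNQ hb.2⟩ : ↥(A ⊓ Q)) ≠ 1 := fun h => hb1 (congrArg Subtype.val h)
    have htop := zpowers_eq_top_of_prime_card hcardp hb'
    have hmem : (⟨y, hyA, hyQ⟩ : ↥(A ⊓ Q)) ∈
        Subgroup.zpowers (⟨b, hb.1, hNQ hb.2⟩ : ↥(A ⊓ Q)) := by rw [htop]; trivial
    obtain ⟨j, hj⟩ := Subgroup.mem_zpowers_iff.1 hmem
    have hj' : b ^ j = y := by
      have := congrArg Subtype.val hj
      simpa using this
    rw [← hj']; exact N.zpow_mem hb.2 j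
  have hAP : A ≤ (P : Subgroup G) := by rw [hA, Subgroup.zpowers_le]; exact hxP
  have hsup : N ⊔ A = (P : Subgroup G) := by
    apply le_antisymm (sup_le hNP hAP)
    intro z hz
    obtain ⟨k, n, hn, hzk⟩ := hx z hz
    rw [hzk]
    exact Subgroup.mul_mem _
      (Subgroup.mem_sup_right (by rw [hA]; exact Subgroup.zpow_mem_zpowers x k))
      (Subgroup.mem_sup_left hn)
  have hcop : (Nat.card ↥N).Coprime (P : Subgroup G).index := by
    obtain ⟨a, ha⟩ := hNp.exists_card_eq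
    rw [ha]
    exact Nat.Coprime.pow_left a ((Nat.Prime.coprime_iff_not_dvd hp.out).2 P.not_dvd_index)
  obtain ⟨Hc, hHc⟩ := lead.gaschutz_exists N (P : Subgroup G) A hab hNP hcop hAP hAN hsup
  have hdec : ∀ g : G, ∃ n ∈ N, ∃ h ∈ Hc, g = n * h := by
    intro g
    have hg : g ∈ N ⊔ Hc := by rw [hHc.sup_eq_top]; trivial
    rw [← SetLike.mem_coe, Subgroup.normal_mul] at hg
    obtain ⟨n, hn, h, hh, rfl⟩ := Set.mem_mul.1 hg
    exact ⟨n, hn, h, hh, rfl⟩
  obtain ⟨M, hM⟩ : ∃ M : Subgroup G, M = Q ⊓ Hc := ⟨_, rfl⟩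
  haveI hMn : M.Normal := by
    refine ⟨fun m hm g => ?_⟩
    rw [hM] at hm ⊢
    obtain ⟨n, hn, h, hh, rfl⟩ := hdec g
    have h1 : h * m * h⁻¹ ∈ Q ⊓ Hc :=
      ⟨hQn.conj_mem m hm.1 h, Hc.mul_mem (Hc.mul_mem hh hm.2) (Hc.inv_mem hh)⟩
    have h2 : n * h * m * (n * h)⁻¹ = h * m * h⁻¹ := by
      have e : n * (h * m * h⁻¹) = (h * m * h⁻¹) * n := hQab n (hNQ hn) _ h1.1
      calc n * h * m * (n * h)⁻¹ = n * (h * m * h⁻¹) * n⁻¹ := by group
        _ = (h * m * h⁻¹) * n * n⁻¹ := by rw [e]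
        _ = h * m * h⁻¹ := by group
    rw [h2]; exact h1
  have hM0 : M ≠ ⊥ := by
    intro hM0
    obtain ⟨n, hn, h, hh, hq⟩ := hdec q₀
    have hhQ : h ∈ Q := by
      have : h = n⁻¹ * q₀ := by rw [hq]; group
      rw [this]; exact Q.mul_mem (Q.inv_mem (hNQ hn)) hq₀
    have hhM : h ∈ M := by rw [hM]; exact ⟨hhQ, hh⟩
    rw [hM0, Subgroup.mem_bot] at hhM
    apply hq₀N
    rw [hq, hhM, mul_one]; exact hn
  have hNM := hmin M hMn hM0
  apply hN0
  rw [eq_bot_iff]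
  intro n hn
  have h0 : n ∈ Q ⊓ Hc := hM ▸ hNM hn
  have h1 : n ∈ N ⊓ Hc := ⟨hn, h0.2⟩
  rw [hHc.disjoint.eq_bot] at h1
  exact h1

/-- Structure of `F*(G)` under the hypotheses. -/
theorem main_struct [Finite G] {p : ℕ} [hp : Fact p.Prime] {P : Sylow p G} (H : Hyp p P) :
    ∃ N : Subgroup G, N.Normal ∧ N ≠ ⊥ ∧ (∀ K : Subgroup G, K.Normal → K ≠ ⊥ → N ≤ K) ∧
      Cfsg.generalizedFittingSubgroup G = N ∧
      ((¬ ∀ a ∈ N, ∀ b ∈ N, a * b = b * a) →
        Subgroup.centralizer (N : Set G) = ⊥ ∧ Cfsg.layer G = N) := by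
  obtain ⟨N, hNn, hN0, hmin⟩ := H.exists_min
  haveI := hNn
  have htop : (⊤ : Subgroup G) ≠ ⊥ := by
    intro h
    apply hN0
    rw [eq_bot_iff, ← h]; exact le_top
  have hF0 := fstar_ne_bot htop
  have hNF := hmin _ fstar_normal hF0
  by_cases hab : ∀ a ∈ N, ∀ b ∈ N, a * b = b * a
  · refine ⟨N, hNn, hN0, hmin, le_antisymm (ab_case H N hN0 hmin hab) hNF, fun h => absurd hab h⟩
  · obtain ⟨hC, hFit, _, hle⟩ := nonab_case H N hN0 hmin hab
    have hFN : Cfsg.generalizedFittingSubgroup G = N := le_antisymm hle hNF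
    have hlay : Cfsg.layer G = N := by
      have : Cfsg.generalizedFittingSubgroup G = Cfsg.layer G := by
        unfold Cfsg.generalizedFittingSubgroup; rw [hFit, sup_bot_eq]
      rw [← this]; exact hFN
    exact ⟨N, hNn, hN0, hmin, hFN, fun _ => ⟨hC, hlay⟩⟩

end Cfsg.Agent.helper23.TwoGen
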