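import Mathlib
import Cfsg.Prelude.Def_Local
import Cfsg.Agent.Lib_helper23_TwoGen3

set_option autoImplicit false
open Cfsg
open scoped Pointwise commutatorElement

namespace Cfsg.Agent.helper23.TwoGen

open Cfsg.Agent.helper7

variable {G : Type*} [Group G]

theorem cj_top' (g : G) : cj g (⊤ : Subgroup G) = ⊤ := by
  ext x; rw [mem_cj]; simp

theorem comp_conj_top' {L : Subgroup G} (h : Comp L ⊤) (g : G) : Comp (cj g L) ⊤ := by
  have := h.conj g
  rwa [cj_top'] at this

/-- The join of the `P`-conjugates of `L`. -/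
def oj (P L : Subgroup G) : Subgroup G := ⨆ g : ↥P, cj (g : G) L

theorem le_oj (P L : Subgroup G) : L ≤ oj P L := by
  have := le_iSup (fun g : ↥P => cj (g : G) L) 1
  rw [OneMemClass.coe_one, cj_one] at this
  exact this

theorem cj_le_oj {P L : Subgroup G} {g : G} (hg : g ∈ P) : cj g L ≤ oj P L :=
  le_iSup (fun g : ↥P => cj (g : G) L) ⟨g, hg⟩

theorem oj_comm [Finite G] {P L₁ L₂ : Subgroup G} (hL₁ : Comp L₁ ⊤) (hL₂ : Comp L₂ ⊤)
    (hD : ∀ g ∈ P, cj g L₁ ≠ L₂) :
    oj P L₁ ≤ Subgroup.centralizer ((oj P L₂ : Subgroup G) : Set G) := by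
  have h1 : ∀ g h : ↥P,
      cj (h : G) L₂ ≤ Subgroup.centralizer ((cj (g : G) L₁ : Subgroup G) : Set G) := by
    intro g h
    have hne : cj (g : G) L₁ ≠ cj (h : G) L₂ := by
      intro he
      apply hD ((h : G)⁻¹ * g) (P.mul_mem (P.inv_mem h.2) g.2)
      rw [← cj_cj, he, cj_inv_cj]
    exact le_centralizer_of_comm_eq_bot
      (Comp.comm_of_ne (comp_conj_top' hL₁ g) (comp_conj_top' hL₂ h) hne)
  have h2 : ∀ g : ↥P,
      oj P L₂ ≤ Subgroup.centralizer ((cj (g : G) L₁ : Subgroup G) : Set G) :=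
    fun g => iSup_le fun h => h1 g h
  exact iSup_le fun g => Subgroup.le_centralizer_iff.1 (h2 g)

theorem oj_le_normalizer {P L : Subgroup G} :
    P ≤ Subgroup.normalizer ((oj P L : Subgroup G) : Set G) := by
  intro h hh
  apply mem_normalizer_of_cj_eq
  apply le_antisymm
  · unfold oj cj
    rw [Subgroup.map_iSup]
    apply iSup_le
    intro g
    have : cj h (cj (g : G) L) = cj (h * g) L := cj_cj _ _ _
    exact this.le.trans (le_iSup (fun g : ↥P => cj (g : G) L) ⟨h * g, P.mul_mem hh g.2⟩)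
  · have h0 := (cj_le_iff (g := h⁻¹) (H := oj P L) (K := oj P L)).1 ?_
    · rwa [inv_inv] at h0
    unfold oj cj
    rw [Subgroup.map_iSup]
    apply iSup_le
    intro g
    have : cj h⁻¹ (cj (g : G) L) = cj (h⁻¹ * g) L := cj_cj _ _ _
    exact this.le.trans (le_iSup (fun g : ↥P => cj (g : G) L)
      ⟨h⁻¹ * g, P.mul_mem (P.inv_mem hh) g.2⟩)

theorem ppc_mono (p : ℕ) {M M' : Subgroup G} (h : M ≤ M') : ppc p M ≤ ppc p M' := by
  apply Subgroup.closure_mono
  intro g hg
  exact ⟨h hg.1, hg.2⟩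

/-- A perfect subgroup is generated by its `p'`-elements. -/
theorem perfect_le_ppc [Finite G] {p : ℕ} [hp : Fact p.Prime] (K : Subgroup G)
    (hK : ⁅K, K⁆ = K) : K ≤ ppc p K := by
  obtain ⟨T, hT⟩ : ∃ T : Subgroup ↥K, T = ppc p (⊤ : Subgroup ↥K) := ⟨_, rfl⟩
  haveI hTn : T.Normal := hT ▸ ppc_normal p ⊤
  have hTmap : T.map K.subtype ≤ ppc p K := by
    rw [hT, ppc, MonoidHom.map_closure, Subgroup.closure_le]
    rintro _ ⟨g, hg, rfl⟩
    apply mem_ppc g.2
    rw [Subgroup.orderOf_coe]; exact hg.2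
  have hperf : commutator ↥K = ⊤ := by
    have hmap : (commutator ↥K).map K.subtype = ⁅K, K⁆ := Subgroup.map_subtype_commutator K
    rw [hK] at hmap
    apply Subgroup.map_injective K.subtype_injective
    rw [hmap, ← MonoidHom.range_eq_map, Subgroup.range_subtype]
  have hQp : IsPGroup p (↥K ⧸ T) := by
    intro q
    obtain ⟨g, rfl⟩ := QuotientGroup.mk_surjective q
    obtain ⟨a, m, hm, hgm⟩ := Nat.exists_eq_pow_mul_and_not_dvd (orderOf_pos g).ne' p
      hp.out.ne_one
    refine ⟨a, ?_⟩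
    have h1 : orderOf (g ^ (p ^ a)) = m := by
      rw [orderOf_pow_of_dvd (pow_pos hp.out.pos a).ne' ⟨m, hgm⟩, hgm,
        Nat.mul_div_cancel_left _ (pow_pos hp.out.pos a)]
    have h2 : g ^ (p ^ a) ∈ T := by
      rw [hT]
      apply mem_ppc (Subgroup.mem_top _)
      rw [h1]
      exact ((Nat.Prime.coprime_iff_not_dvd hp.out).2 hm).symm
    rw [← QuotientGroup.mk_pow]
    exact (QuotientGroup.eq_one_iff _).2 h2
  have hsub : Subsingleton (↥K ⧸ T) := by
    by_contra hns
    rw [not_subsingleton_iff_nontrivial] at hns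
    haveI := hns
    haveI : Group.IsNilpotent (↥K ⧸ T) := hQp.isNilpotent
    have hlt := Group.IsSolvable.commutator_lt_top_of_nontrivial (↥K ⧸ T)
    have : commutator (↥K ⧸ T) = ⊤ := by
      have h1 : (commutator ↥K).map (QuotientGroup.mk' T) = commutator (↥K ⧸ T) := by
        rw [commutator_def, commutator_def, Subgroup.map_commutator,
          Subgroup.map_top_of_surjective _ (QuotientGroup.mk'_surjective T)]
      rw [← h1, hperf, Subgroup.map_top_of_surjective _ (QuotientGroup.mk'_surjective T)]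
    exact hlt.ne this
  have hTtop : T = ⊤ := QuotientGroup.subgroup_eq_top_of_subsingleton T hsub
  intro k hk
  apply hTmap
  exact ⟨⟨k, hk⟩, by rw [hTtop]; trivial, rfl⟩

theorem oj_not_le_frat [Finite G] {p : ℕ} [hp : Fact p.Prime] {P : Sylow p G} (H : Hyp p P)
    {K : Subgroup G} (hK : Comp K ⊤) :
    ¬ (oj (P : Subgroup G) K).subgroupOf (P : Subgroup G) ≤ frattini ↥(P : Subgroup G) := by
  intro hle
  have h1 : oj (P : Subgroup G) K ⊓ (P : Subgroup G) ≤
      (frattini ↥(P : Subgroup G)).map (P : Subgroup G).subtype := by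
    intro x hx
    exact ⟨⟨x, hx.2⟩, hle (Subgroup.mem_subgroupOf.2 hx.1), rfl⟩
  have hnd := tate_gen P (oj (P : Subgroup G) K) oj_le_normalizer h1
  have hperf : ⁅K, K⁆ = K := hK.2.1
  have h2 : K ≤ ppc p (oj (P : Subgroup G) K) :=
    (perfect_le_ppc K hperf).trans (ppc_mono p (le_oj (P : Subgroup G) K))
  have h3 : ¬ p ∣ Nat.card ↥K := fun h => hnd (h.trans (Subgroup.card_dvd_of_le h2))
  have h4 : PiGrp {q | q ≠ p} K := by
    intro x hx q hq hdvd
    show q ≠ p
    rintro rfl
    exact h3 (hdvd.trans (Subgroup.orderOf_dvd_natCard K hx))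
  have h5 : K ≤ piCoreIn {q | q ≠ p} ⊤ := le_piCoreIn_of_sn hK.1 h4
  rw [← pPrimeCore_eq hp.out, H.hcore] at h5
  exact hK.2.2.1 (le_bot_iff.1 h5)

theorem subgroupOf_normal_of_le_normalizer {P M : Subgroup G}
    (h : P ≤ Subgroup.normalizer (M : Set G)) : (M.subgroupOf P).Normal := by
  refine ⟨fun d hd g => ?_⟩
  rw [Subgroup.mem_subgroupOf] at hd ⊢
  have := (Subgroup.mem_normalizer_iff.1 (h g.2) (d : G)).1 hd
  simpa using this

theorem transitive_comp [Finite G] {p : ℕ} [hp : Fact p.Prime] {P : Sylow p G} (H : Hyp p P)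
    (N : Subgroup G) (hlayer : Cfsg.layer G = N)
    (hC : Subgroup.centralizer (N : Set G) = ⊥)
    (K L : Subgroup G) (hK : Cfsg.IsComponent K) (hL : Cfsg.IsComponent L) :
    ∃ x ∈ (P : Subgroup G), L = K.map (MulAut.conj x).toMonoidHom := by
  by_contra hcon
  push_neg at hcon
  have hK' := isComponent_iff.1 hK
  have hL' := isComponent_iff.1 hL
  have hD : ∀ g ∈ (P : Subgroup G), cj g K ≠ L := fun g hg h => hcon g hg h.symm
  have h12 := oj_comm hK' hL' hD
  have hinf : oj (P : Subgroup G) K ⊓ oj (P : Subgroup G) L = ⊥ := by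
    rw [eq_bot_iff]
    intro z hz
    have hzc : z ∈ Subgroup.centralizer (N : Set G) := by
      have hlz : Cfsg.layer G ≤ Subgroup.centralizer ({z} : Set G) := by
        unfold Cfsg.layer
        apply sSup_le
        intro M hM
        have hM' := isComponent_iff.1 hM
        by_cases hMK : ∃ g ∈ (P : Subgroup G), cj g K = M
        · obtain ⟨g, hg, rfl⟩ := hMK
          intro m hm
          have h3 := h12 (cj_le_oj hg hm)
          rw [Subgroup.mem_centralizer_iff] at h3 ⊢
          intro w hw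
          rw [Set.mem_singleton_iff] at hw
          rw [hw]
          exact h3 z hz.2
        · push_neg at hMK
          have h3 := oj_comm hK' hM' hMK
          have hz1 := h3 hz.1
          intro m hm
          rw [Subgroup.mem_centralizer_iff] at hz1 ⊢
          intro w hw
          rw [Set.mem_singleton_iff] at hw
          rw [hw]
          exact (hz1 m (le_oj (P : Subgroup G) M hm)).symm
      rw [hlayer] at hlz
      rw [Subgroup.mem_centralizer_iff]
      intro n hn
      have h4 := hlz hn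
      rw [Subgroup.mem_centralizer_iff] at h4
      exact (h4 z rfl).symm
    rw [hC] at hzc
    exact hzc
  haveI := subgroupOf_normal_of_le_normalizer
    (oj_le_normalizer (P := (P : Subgroup G)) (L := K))
  haveI := subgroupOf_normal_of_le_normalizer
    (oj_le_normalizer (P := (P : Subgroup G)) (L := L))
  refine H.two ((oj (P : Subgroup G) K).subgroupOf (P : Subgroup G))
    ((oj (P : Subgroup G) L).subgroupOf (P : Subgroup G))
    (oj_not_le_frat H hK') (oj_not_le_frat H hL') ?_
  rw [eq_bot_iff]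
  intro x hx
  have h1 : (x : G) ∈ oj (P : Subgroup G) K ⊓ oj (P : Subgroup G) L :=
    ⟨Subgroup.mem_subgroupOf.1 hx.1, Subgroup.mem_subgroupOf.1 hx.2⟩
  rw [hinf, Subgroup.mem_bot] at h1
  rw [Subgroup.mem_bot]
  exact Subtype.ext h1

end Cfsg.Agent.helper23.TwoGen
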