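import Mathlib
import Cfsg.Agent.Lib_helper1_Scalar
import Cfsg.Agent.Lib_helper12_CharOps
import Cfsg.Agent.Lib_helper24_Inertia
import Cfsg.Agent.Lib_helper23_LinChar
import Cfsg.Agent.Lib_helper23_Eigen

set_option autoImplicit false
set_option linter.style.haveILetI false
set_option linter.unusedSectionVars false
set_option linter.unusedVariables false
set_option linter.deprecated false

namespace Cfsg.Agent.helper23

open IntermediateField Cfsg
open scoped ComplexConjugate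

universe u v

theorem sum_ge_card_of_prod_ge_one {E : Type*} [Fintype E] (z : E → ℝ) (hz : ∀ σ, 0 < z σ)
    (hprod : 1 ≤ ∏ σ, z σ) : (Fintype.card E : ℝ) ≤ ∑ σ, z σ := by
  have h1 : ∀ σ, Real.log (z σ) ≤ z σ - 1 := fun σ => Real.log_le_sub_one_of_pos (hz σ)
  have h2 : 0 ≤ Real.log (∏ σ, z σ) := Real.log_nonneg hprod
  rw [Real.log_prod (fun σ _ => (hz σ).ne')] at h2
  have h3 : ∑ σ, Real.log (z σ) ≤ ∑ σ, (z σ - 1) := Finset.sum_le_sum (fun σ _ => h1 σ)
  rw [Finset.sum_sub_distrib] at h3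
  simp only [Finset.sum_const, Finset.card_univ, nsmul_eq_mul, mul_one] at h3
  linarith

/-- Galois averaging: for sums of `N`-th roots of unity, a nonzero sum stays nonzero under the
exponents `tt σ` coming from the embeddings of `ℚ(ζ_N)`, and the mean of the squared norms over
these exponents is at least one. -/
theorem galois_avg (N : ℕ) (hN : N ≠ 0) :
    ∃ (E : Type) (_ : Fintype E) (_ : Nonempty E) (tt : E → ℕ), (∀ σ, Nat.Coprime (tt σ) N) ∧
      ∀ (ι : Type v) [Fintype ι] (n : ι → ℕ) (μ : ι → ℂ), (∀ i, μ i ^ N = 1) →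
        (∑ i, (n i : ℂ) * μ i ≠ 0) →
        (∀ σ : E, ∑ i, (n i : ℂ) * μ i ^ (tt σ) ≠ 0) ∧
        (Fintype.card E : ℝ) ≤ ∑ σ : E, ‖∑ i, (n i : ℂ) * μ i ^ (tt σ)‖ ^ 2 := by
  classical
  haveI : NeZero N := ⟨hN⟩
  set ζ : ℂ := Complex.exp (2 * Real.pi * Complex.I / N) with hζdef
  have hζ : IsPrimitiveRoot ζ N := Complex.isPrimitiveRoot_exp N hN
  have hζint : IsIntegral ℚ ζ := by
    refine ⟨Polynomial.X ^ N - 1, Polynomial.monic_X_pow_sub_C 1 hN, ?_⟩
    simp [hζ.pow_eq_one]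
  let K : IntermediateField ℚ ℂ := ℚ⟮ζ⟯
  haveI : FiniteDimensional ℚ K := adjoin.finiteDimensional hζint
  haveI : NumberField K := { to_charZero := inferInstance, to_finiteDimensional := inferInstance }
  have hζK : ζ ∈ K := mem_adjoin_simple_self ℚ ζ
  let ζK : K := ⟨ζ, hζK⟩
  have hζKpow : ζK ^ N = 1 := by
    apply Subtype.ext
    simp [ζK, hζ.pow_eq_one]
  have hζKprim : IsPrimitiveRoot ζK N :=
    IsPrimitiveRoot.of_map_of_injective (f := algebraMap K ℂ) (by exact hζ)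
      (algebraMap K ℂ).injective
  have hex : ∀ σ : K →ₐ[ℚ] ℂ, ∃ t : ℕ, t < N ∧ ζ ^ t = σ ζK := by
    intro σ
    have h1 : (σ ζK) ^ N = 1 := by rw [← map_pow, hζKpow, map_one]
    exact hζ.eq_pow_of_pow_eq_one h1
  choose tt htlt htt using hex
  have hcop : ∀ σ, Nat.Coprime (tt σ) N := by
    intro σ
    have hprim : IsPrimitiveRoot (σ ζK) N := hζKprim.map_of_injective σ.toRingHom.injective
    rw [← htt σ] at hprim
    exact (hζ.pow_iff_coprime (Nat.pos_of_ne_zero hN) _).1 hprim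
  refine ⟨(K →ₐ[ℚ] ℂ), inferInstance, ⟨K.val⟩, tt, hcop, ?_⟩
  intro ι _ n μ hμ hne
  have hexp : ∀ i, ∃ e : ℕ, e < N ∧ ζ ^ e = μ i := fun i => hζ.eq_pow_of_pow_eq_one (hμ i)
  choose e _ he using hexp
  let x : K := ∑ i, (n i : K) * ζK ^ (e i)
  have hσx : ∀ σ : K →ₐ[ℚ] ℂ, σ x = ∑ i, (n i : ℂ) * μ i ^ (tt σ) := by
    intro σ
    simp only [x, map_sum, map_mul, map_natCast, map_pow]
    apply Finset.sum_congr rfl
    intro i _
    rw [← htt σ, ← he i, ← pow_mul, ← pow_mul, Nat.mul_comm (tt σ) (e i)]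
  have hιx : K.val x = ∑ i, (n i : ℂ) * μ i := by
    simp only [x, map_sum, map_mul, map_natCast, map_pow]
    apply Finset.sum_congr rfl
    intro i _
    rw [← he i]; rfl
  have hx0 : x ≠ 0 := by
    intro h; apply hne; rw [← hιx, h, map_zero]
  have hζKint : IsIntegral ℤ ζK := by
    refine ⟨Polynomial.X ^ N - 1, Polynomial.monic_X_pow_sub_C 1 hN, ?_⟩
    simp [hζKpow]
  have hxint : IsIntegral ℤ x := by
    apply IsIntegral.sum
    intro i _
    apply IsIntegral.mul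
    · exact isIntegral_natCast (n i)
    · exact IsIntegral.pow hζKint _
  have hσx0 : ∀ σ : K →ₐ[ℚ] ℂ, σ x ≠ 0 := by
    intro σ h
    apply hx0
    exact (map_eq_zero_iff σ σ.toRingHom.injective).1 h
  constructor
  · intro σ; rw [← hσx σ]; exact hσx0 σ
  · have hNint : IsIntegral ℤ (Algebra.norm ℚ x) := Algebra.isIntegral_norm ℚ hxint
    obtain ⟨z, hz⟩ := IsIntegrallyClosed.isIntegral_iff.mp hNint
    have hz0 : z ≠ 0 := by
      intro h
      rw [h] at hz
      have h0 : Algebra.norm ℚ x = 0 := by rw [← hz]; simp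
      exact hx0 (Algebra.norm_eq_zero_iff.mp h0)
    have hprod := Algebra.norm_eq_prod_embeddings ℚ ℂ x
    have hprod2 : (1 : ℝ) ≤ ∏ σ : K →ₐ[ℚ] ℂ, ‖σ x‖ ^ 2 := by
      rw [Finset.prod_pow, ← norm_prod, ← hprod]
      have h1 : (algebraMap ℚ ℂ) (Algebra.norm ℚ x) = ((z : ℚ) : ℂ) := by
        rw [← hz]; rfl
      rw [h1]
      have h2 : ‖((z : ℚ) : ℂ)‖ = |(z : ℝ)| := by
        rw [show ((z : ℚ) : ℂ) = ((z : ℝ) : ℂ) by push_cast; rfl, Complex.norm_real,
          Real.norm_eq_abs]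
      rw [h2]
      have h3 : (1 : ℝ) ≤ |(z : ℝ)| := by
        have : (1 : ℤ) ≤ |z| := Int.one_le_abs hz0
        exact_mod_cast this
      nlinarith [abs_nonneg (z : ℝ)]
    have hpos : ∀ σ : K →ₐ[ℚ] ℂ, 0 < ‖σ x‖ ^ 2 := by
      intro σ
      have : 0 < ‖σ x‖ := norm_pos_iff.2 (hσx0 σ)
      positivity
    have hfin := sum_ge_card_of_prod_ge_one (fun σ : K →ₐ[ℚ] ℂ => ‖σ x‖ ^ 2) hpos hprod2
    calc (Fintype.card (K →ₐ[ℚ] ℂ) : ℝ) ≤ ∑ σ : K →ₐ[ℚ] ℂ, ‖σ x‖ ^ 2 := hfin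
      _ = _ := Finset.sum_congr rfl (fun σ _ => by rw [hσx σ])

/-- Eigenvalue data of a character along the powers of an element. -/
theorem char_pow_data {G : Type u} [Group G] [Finite G] {χ : G → ℂ} (hχ : IsCharacter G χ) (g : G) :
    ∃ (ι : Type u) (_ : Fintype ι) (n : ι → ℕ) (μ : ι → ℂ), (∀ i, μ i ^ orderOf g = 1) ∧
      ∀ k : ℕ, χ (g ^ k) = ∑ i, (n i : ℂ) * μ i ^ k := by
  classical
  haveI : Fintype (Subgroup.zpowers g) := Fintype.ofFinite _
  haveI : Fintype (IrrCharacter (Subgroup.zpowers g)) := Fintype.ofFinite _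
  have hθ : IsCharacter (Subgroup.zpowers g) (fun h : Subgroup.zpowers g => χ h) :=
    helper12.isCharacter_restrict (Subgroup.zpowers g) hχ
  obtain ⟨n, hdec, -, -⟩ := helper12.char_decomp hθ
  have hcomm : ∀ a b : Subgroup.zpowers g, a * b = b * a := fun a b => mul_comm' a b
  have hlin : ∀ ψ : IrrCharacter (Subgroup.zpowers g), ∃ lam : Subgroup.zpowers g →* ℂˣ,
      ∀ h, (ψ : Subgroup.zpowers g → ℂ) h = ((lam h : ℂˣ) : ℂ) := by
    intro ψ
    apply helper23.exists_hom_of_linear (helper24.irr_isCharacter ψ.2)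
    have h1 := helper24.irr_degree_eq_one_of_comm hcomm ψ
    have h2 := helper24.char_charDegree_cast (helper24.irr_isCharacter ψ.2)
    rw [← h2, h1]; simp
  choose lam hlam using hlin
  refine ⟨IrrCharacter (Subgroup.zpowers g), inferInstance, n,
    fun ψ => ((lam ψ ⟨g, Subgroup.mem_zpowers g⟩ : ℂˣ) : ℂ), ?_, ?_⟩
  · intro ψ
    rw [← Units.val_pow_eq_pow_val, ← map_pow]
    have : (⟨g, Subgroup.mem_zpowers g⟩ : Subgroup.zpowers g) ^ orderOf g = 1 :=
      Subtype.ext (pow_orderOf_eq_one g)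
    rw [this, map_one, Units.val_one]
  · intro k
    have h2 : χ (g ^ k) = (∑ ψ : IrrCharacter (Subgroup.zpowers g),
        (n ψ : ℂ) • (ψ : Subgroup.zpowers g → ℂ)) ((⟨g, Subgroup.mem_zpowers g⟩ : Subgroup.zpowers g) ^ k) :=
      congrFun hdec ((⟨g, Subgroup.mem_zpowers g⟩ : Subgroup.zpowers g) ^ k)
    rw [h2, Finset.sum_apply]
    apply Finset.sum_congr rfl
    intro ψ _
    rw [Pi.smul_apply, smul_eq_mul, hlam ψ, map_pow, Units.val_pow_eq_pow_val]

theorem sum_norm_sq_eq_card {G : Type u} [Group G] [Fintype G] {χ : G → ℂ}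
    (hχ : IsIrrCharacter G χ) : ∑ g : G, ‖χ g‖ ^ 2 = (Fintype.card G : ℝ) := by
  have h := helper24.irr_classInner_self hχ
  unfold classInner at h
  have hc : (Nat.card G : ℂ) ≠ 0 := by
    rw [Nat.card_eq_fintype_card]; exact Nat.cast_ne_zero.2 Fintype.card_ne_zero
  have h2 : (Nat.card G : ℂ) = ∑ g : G, χ g * conj (χ g) := (inv_mul_eq_one₀ hc).1 h
  have h3 : ((∑ g : G, ‖χ g‖ ^ 2 : ℝ) : ℂ) = ((Fintype.card G : ℝ) : ℂ) := by
    push_cast
    rw [← Nat.card_eq_fintype_card, h2]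
    apply Finset.sum_congr rfl
    intro g _
    rw [Complex.mul_conj, Complex.normSq_eq_norm_sq]; push_cast; rfl
  exact Complex.ofReal_injective h3

/-- Key inequality: on the set where `χ` is nonzero and not of maximal norm, the mean of
`‖χ‖²` is at least one (Burnside / Gallagher via Galois conjugation and AM-GM). -/
theorem sum_norm_sq_ge_card {G : Type u} [Group G] [Fintype G] {n : ℕ}
    (ρ : Representation ℂ G (Fin n → ℂ)) (S : Finset G)
    (hS : ∀ g, g ∈ S ↔ (ρ.character g ≠ 0 ∧ ‖ρ.character g‖ ≠ (n : ℝ))) :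
    (S.card : ℝ) ≤ ∑ g ∈ S, ‖ρ.character g‖ ^ 2 := by
  classical
  have hχc : IsCharacter G ρ.character := ⟨n, ρ, rfl⟩
  obtain ⟨E, hEf, hEn, tt, hcop, hmain⟩ := galois_avg.{u} (Fintype.card G) Fintype.card_ne_zero
  have hdata : ∀ g : G, ρ.character g ≠ 0 →
      (∀ σ : E, ρ.character (g ^ tt σ) ≠ 0) ∧
        (Fintype.card E : ℝ) ≤ ∑ σ : E, ‖ρ.character (g ^ tt σ)‖ ^ 2 := by
    intro g hg
    obtain ⟨ι, hι, m, μ, hμ, hpow⟩ := char_pow_data hχc g
    have hμN : ∀ i, μ i ^ Fintype.card G = 1 := by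
      intro i
      obtain ⟨c, hc⟩ := orderOf_dvd_card (x := g)
      rw [hc, pow_mul, hμ i, one_pow]
    have hg1 : ρ.character g = ∑ i, (m i : ℂ) * μ i := by
      have := hpow 1
      simpa only [pow_one] using this
    have := hmain ι m μ hμN (by rw [← hg1]; exact hg)
    constructor
    · intro σ; rw [hpow (tt σ)]; exact this.1 σ
    · refine le_trans this.2 (le_of_eq ?_)
      apply Finset.sum_congr rfl
      intro σ _
      rw [hpow (tt σ)]
  have hC : ∀ (g : G) (k : ℕ), ‖ρ.character g‖ = (n : ℝ) → ‖ρ.character (g ^ k)‖ = (n : ℝ) := by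
    intro g k h
    obtain ⟨ω, hω⟩ := helper1.rep_scalar_of_norm_char_eq ρ g h
    apply helper1.rep_norm_char_of_scalar ρ (g ^ k) (ω ^ k)
    rw [map_pow, hω, ← Module.End.one_eq_id, smul_pow, one_pow]
  -- invariance of sums over S
  have hD : ∀ σ : E, ∑ g ∈ S, ‖ρ.character (g ^ tt σ)‖ ^ 2 = ∑ g ∈ S, ‖ρ.character g‖ ^ 2 := by
    intro σ
    have hc : (Nat.card G).Coprime (tt σ) := by
      rw [Nat.card_eq_fintype_card]; exact (hcop σ).symm
    have hinj : Function.Injective (fun g : G => g ^ tt σ) := (powCoprime hc).injective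
    -- the set of elements of maximal norm is mapped onto itself
    have hZimg : (Finset.univ.filter (fun g : G => ‖ρ.character g‖ = (n : ℝ))).image
        (fun g : G => g ^ tt σ) = Finset.univ.filter (fun g : G => ‖ρ.character g‖ = (n : ℝ)) := by
      apply Finset.eq_of_subset_of_card_le
      · intro x hx
        obtain ⟨g, hg, rfl⟩ := Finset.mem_image.1 hx
        rw [Finset.mem_filter] at hg ⊢
        exact ⟨Finset.mem_univ _, hC g _ hg.2⟩
      · rw [Finset.card_image_of_injective _ hinj]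
    have hmapS : ∀ g ∈ S, g ^ tt σ ∈ S := by
      intro g hg
      rw [hS] at hg ⊢
      refine ⟨(hdata g hg.1).1 σ, ?_⟩
      intro h
      have hmem : g ^ tt σ ∈ Finset.univ.filter (fun g : G => ‖ρ.character g‖ = (n : ℝ)) := by
        rw [Finset.mem_filter]; exact ⟨Finset.mem_univ _, h⟩
      rw [← hZimg] at hmem
      obtain ⟨h', hh', e⟩ := Finset.mem_image.1 hmem
      have : h' = g := hinj e
      rw [this, Finset.mem_filter] at hh'
      exact hg.2 hh'.2
    have himg : S.image (fun g : G => g ^ tt σ) = S := by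
      apply Finset.eq_of_subset_of_card_le
      · intro x hx
        obtain ⟨g, hg, rfl⟩ := Finset.mem_image.1 hx
        exact hmapS g hg
      · rw [Finset.card_image_of_injective _ hinj]
    conv_rhs => rw [← himg]
    rw [Finset.sum_image (fun a _ b _ h => hinj h)]
  have hEpos : (0 : ℝ) < Fintype.card E := by
    have : 0 < Fintype.card E := Fintype.card_pos
    exact_mod_cast this
  have h1 : (Fintype.card E : ℝ) * ∑ g ∈ S, ‖ρ.character g‖ ^ 2 =
      ∑ g ∈ S, ∑ σ : E, ‖ρ.character (g ^ tt σ)‖ ^ 2 := by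
    rw [Finset.sum_comm]
    rw [Finset.sum_congr rfl (fun σ _ => hD σ)]
    rw [Finset.sum_const, Finset.card_univ, nsmul_eq_mul]
  have h2 : (S.card : ℝ) * (Fintype.card E : ℝ) ≤ ∑ g ∈ S, ∑ σ : E, ‖ρ.character (g ^ tt σ)‖ ^ 2 := by
    have : ∑ g ∈ S, (Fintype.card E : ℝ) ≤ ∑ g ∈ S, ∑ σ : E, ‖ρ.character (g ^ tt σ)‖ ^ 2 := by
      apply Finset.sum_le_sum
      intro g hg
      exact (hdata g ((hS g).1 hg).1).2
    rwa [Finset.sum_const, nsmul_eq_mul] at this
  rw [← h1] at h2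
  have h3 : (S.card : ℝ) * (Fintype.card E : ℝ) ≤ (∑ g ∈ S, ‖ρ.character g‖ ^ 2) * (Fintype.card E : ℝ) := by
    rw [mul_comm (∑ g ∈ S, ‖ρ.character g‖ ^ 2)]; exact h2
  exact le_of_mul_le_mul_right h3 hEpos

theorem zeros_bound {G : Type u} [Group G] [Fintype G] {n : ℕ}
    (ρ : Representation ℂ G (Fin n → ℂ)) (hirr : ρ.IsIrreducible) (hn1 : 1 ≤ n)
    [DecidablePred (fun g : G => ‖ρ.character g‖ = (n : ℝ))]
    [DecidablePred (fun g : G => ρ.character g = 0)] :
    (n ^ 2 - 1) * (Finset.univ.filter (fun g : G => ‖ρ.character g‖ = (n : ℝ))).card ≤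
        (Finset.univ.filter (fun g : G => ρ.character g = 0)).card ∧
      ((∀ g : G, ‖ρ.character g‖ = 0 ∨ ‖ρ.character g‖ = 1 ∨ ‖ρ.character g‖ = (n : ℝ)) →
        (n ^ 2 - 1) * (Finset.univ.filter (fun g : G => ‖ρ.character g‖ = (n : ℝ))).card =
          (Finset.univ.filter (fun g : G => ρ.character g = 0)).card) := by
  have hχi : IsIrrCharacter G ρ.character := ⟨n, ρ, hirr, rfl⟩
  obtain ⟨Z, hZ⟩ : ∃ Z : Finset G, Z = Finset.univ.filter (fun g : G => ‖ρ.character g‖ = (n : ℝ)) :=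
    ⟨_, rfl⟩
  obtain ⟨N0, hN0⟩ : ∃ N0 : Finset G, N0 = Finset.univ.filter (fun g : G => ρ.character g = 0) :=
    ⟨_, rfl⟩
  obtain ⟨S, hSdef⟩ : ∃ S : Finset G, S = Finset.univ.filter
      (fun g : G => ρ.character g ≠ 0 ∧ ‖ρ.character g‖ ≠ (n : ℝ)) := ⟨_, rfl⟩
  rw [← hZ, ← hN0]
  classical
  have hS : ∀ g, g ∈ S ↔ (ρ.character g ≠ 0 ∧ ‖ρ.character g‖ ≠ (n : ℝ)) := by
    intro g; rw [hSdef, Finset.mem_filter]; simp
  have hmemZ : ∀ g, g ∈ Z ↔ ‖ρ.character g‖ = (n : ℝ) := by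
    intro g; rw [hZ, Finset.mem_filter]; simp
  have hmemN0 : ∀ g, g ∈ N0 ↔ ρ.character g = 0 := by
    intro g; rw [hN0, Finset.mem_filter]; simp
  have hkey := sum_norm_sq_ge_card ρ S hS
  have hsum := sum_norm_sq_eq_card hχi
  have hnR : (1 : ℝ) ≤ n := by exact_mod_cast hn1
  -- pointwise decompositions
  have hpt1 : ∀ g : G, (1 : ℝ) = (if g ∈ Z then 1 else 0) + (if g ∈ N0 then 1 else 0) +
      (if g ∈ S then 1 else 0) := by
    intro g
    by_cases h1 : ‖ρ.character g‖ = (n : ℝ)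
    · have h2 : ρ.character g ≠ 0 := by
        intro h0; rw [h0, norm_zero] at h1; linarith
      rw [if_pos ((hmemZ g).2 h1), if_neg (fun h => h2 ((hmemN0 g).1 h)),
        if_neg (fun h => ((hS g).1 h).2 h1)]
      norm_num
    · by_cases h2 : ρ.character g = 0
      · rw [if_neg (fun h => h1 ((hmemZ g).1 h)), if_pos ((hmemN0 g).2 h2),
          if_neg (fun h => ((hS g).1 h).1 h2)]
        norm_num
      · rw [if_neg (fun h => h1 ((hmemZ g).1 h)), if_neg (fun h => h2 ((hmemN0 g).1 h)),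
          if_pos ((hS g).2 ⟨h2, h1⟩)]
        norm_num
  have hpt2 : ∀ g : G, ‖ρ.character g‖ ^ 2 = (if g ∈ Z then (n : ℝ) ^ 2 else 0) +
      (if g ∈ S then ‖ρ.character g‖ ^ 2 else 0) := by
    intro g
    by_cases h1 : ‖ρ.character g‖ = (n : ℝ)
    · rw [if_pos ((hmemZ g).2 h1), if_neg (fun h => ((hS g).1 h).2 h1), h1, add_zero]
    · by_cases h2 : ρ.character g = 0
      · rw [if_neg (fun h => h1 ((hmemZ g).1 h)), if_neg (fun h => ((hS g).1 h).1 h2), h2,
          norm_zero]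
        norm_num
      · rw [if_neg (fun h => h1 ((hmemZ g).1 h)), if_pos ((hS g).2 ⟨h2, h1⟩), zero_add]
  have hcount : (Fintype.card G : ℝ) = Z.card + N0.card + S.card := by
    have h0 : ∑ g : G, (1 : ℝ) = ∑ g : G, ((if g ∈ Z then (1 : ℝ) else 0) +
        (if g ∈ N0 then 1 else 0) + (if g ∈ S then 1 else 0)) :=
      Finset.sum_congr rfl (fun g _ => hpt1 g)
    rw [Finset.sum_add_distrib, Finset.sum_add_distrib, Finset.sum_const, Finset.card_univ,
      nsmul_eq_mul, mul_one] at h0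
    rw [h0]
    simp only [Finset.sum_ite_mem, Finset.univ_inter, Finset.sum_const, nsmul_eq_mul, mul_one]
  have hsq : (Fintype.card G : ℝ) = (n : ℝ) ^ 2 * Z.card + ∑ g ∈ S, ‖ρ.character g‖ ^ 2 := by
    rw [← hsum, Finset.sum_congr rfl (fun g _ => hpt2 g), Finset.sum_add_distrib]
    simp only [Finset.sum_ite_mem, Finset.univ_inter, Finset.sum_const, nsmul_eq_mul]
    ring
  have hcast : ((n ^ 2 - 1 : ℕ) : ℝ) = (n : ℝ) ^ 2 - 1 := by
    have h1 : 1 ≤ n ^ 2 := Nat.one_le_pow _ _ hn1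
    rw [Nat.cast_sub h1]; push_cast; ring
  constructor
  · have : (((n ^ 2 - 1) * Z.card : ℕ) : ℝ) ≤ (N0.card : ℝ) := by
      rw [Nat.cast_mul, hcast]
      nlinarith
    exact_mod_cast this
  · intro hall
    have hS1 : ∑ g ∈ S, ‖ρ.character g‖ ^ 2 = S.card := by
      have : ∀ g ∈ S, ‖ρ.character g‖ ^ 2 = 1 := by
        intro g hg
        obtain ⟨h1, h2⟩ := (hS g).1 hg
        rcases hall g with h | h | h
        · exact absurd (norm_eq_zero.1 h) h1
        · rw [h]; norm_num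
        · exact absurd h h2
      rw [Finset.sum_congr rfl this, Finset.sum_const, nsmul_eq_mul, mul_one]
    have : (((n ^ 2 - 1) * Z.card : ℕ) : ℝ) = (N0.card : ℝ) := by
      rw [Nat.cast_mul, hcast]
      nlinarith
    exact_mod_cast this

end Cfsg.Agent.helper23
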