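import Mathlib

set_option autoImplicit false

/-!
Sums of roots of unity (shared library, helper24; imports Mathlib only).

* `sum_roots_ne_zero_of_not_dvd` : a combination `∑ c_j μ_j` of `p^a`-th roots of unity with natural
  coefficients whose sum is prime to `p` is nonzero;
* `exists_coprime_family` : for `m ≠ 0` there is a finite nonempty family `κ` of exponents coprime to
  `m` such that for every combination `∑ c_j μ_j ≠ 0` of `m`-th roots of unity,
  `∑_i ‖∑ c_j μ_j ^ κ i‖² ≥ #family` (norm + AM–GM).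
-/

universe u

namespace Cfsg.Agent.helper24

open IntermediateField Polynomial

theorem sum_roots_ne_zero_of_not_dvd (p : ℕ) [hp : Fact p.Prime] (a : ℕ) {J : Type*} [Fintype J]
    (c : J → ℕ) (μ : J → ℂ) (hμ : ∀ j, μ j ^ (p ^ a) = 1) (hc : ¬ p ∣ ∑ j, c j) :
    ∑ j, (c j : ℂ) * μ j ≠ 0 := by
  classical
  cases a with
  | zero =>
    have h1 : ∀ j, μ j = 1 := fun j => by simpa using hμ j
    simp only [h1, mul_one]
    rw [← Nat.cast_sum]
    intro h0
    have : ∑ j, c j = 0 := by exact_mod_cast h0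
    exact hc (this ▸ dvd_zero p)
  | succ b =>
    intro h0
    set m := p ^ (b + 1) with hm
    have hm0 : m ≠ 0 := pow_ne_zero _ hp.out.ne_zero
    have : NeZero m := ⟨hm0⟩
    set ζ : ℂ := Complex.exp (2 * Real.pi * Complex.I / m) with hζdef
    have hζ : IsPrimitiveRoot ζ m := Complex.isPrimitiveRoot_exp m hm0
    have hex : ∀ j, ∃ i : ℕ, ζ ^ i = μ j := by
      intro j
      obtain ⟨i, _, hi⟩ := hζ.eq_pow_of_pow_eq_one (hμ j)
      exact ⟨i, hi⟩
    choose e he using hex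
    set f : ℤ[X] := ∑ j, C (c j : ℤ) * X ^ e j with hf
    have hfz : aeval ζ f = 0 := by
      rw [hf, map_sum, ← h0]
      refine Finset.sum_congr rfl (fun j _ => ?_)
      rw [map_mul, aeval_C, map_pow, aeval_X, he]
      simp
    have hint : IsIntegral ℤ ζ := hζ.isIntegral (Nat.pos_of_ne_zero hm0)
    have hdvd : cyclotomic m ℤ ∣ f := by
      rw [cyclotomic_eq_minpoly hζ (Nat.pos_of_ne_zero hm0)]
      exact minpoly.isIntegrallyClosed_dvd hint hfz
    have h1 : (cyclotomic m ℤ).eval 1 ∣ f.eval 1 := eval_dvd hdvd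
    rw [hm, eval_one_cyclotomic_prime_pow] at h1
    have h2 : f.eval 1 = ((∑ j, c j : ℕ) : ℤ) := by
      rw [hf, eval_finsetSum, Nat.cast_sum]
      refine Finset.sum_congr rfl (fun j _ => ?_)
      simp
    rw [h2] at h1
    exact hc (Int.natCast_dvd_natCast.1 h1)

/-- AM–GM for a family of nonnegative reals with product at least one. -/
theorem card_le_sum_of_one_le_prod {ι : Type*} [Fintype ι] (z : ι → ℝ) (hz : ∀ i, 0 ≤ z i)
    (hprod : 1 ≤ ∏ i, z i) : (Fintype.card ι : ℝ) ≤ ∑ i, z i := by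
  by_cases hι : IsEmpty ι
  · simp
  rw [not_isEmpty_iff] at hι
  have hcard : (0 : ℝ) < Fintype.card ι := by exact_mod_cast Fintype.card_pos
  have h := Real.geom_mean_le_arith_mean Finset.univ (fun _ : ι => (1 : ℝ)) z
    (fun _ _ => zero_le_one) (by simpa using hcard) (fun i _ => hz i)
  simp only [Real.rpow_one, one_mul, Finset.sum_const, Finset.card_univ, nsmul_eq_mul,
    mul_one] at h
  have h1 : (1 : ℝ) ≤ (∏ i, z i) ^ ((Fintype.card ι : ℝ))⁻¹ :=
    Real.one_le_rpow hprod (inv_nonneg.2 hcard.le)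
  have h2 := le_trans h1 h
  rwa [le_div_iff₀ hcard, one_mul] at h2

theorem exists_coprime_family (m : ℕ) (hm : m ≠ 0) :
    ∃ (ι : Type) (_ : Fintype ι) (_ : Nonempty ι) (κ : ι → ℕ), (∀ i, (κ i).Coprime m) ∧
      ∀ (J : Type u) [Fintype J] (c : J → ℕ) (μ : J → ℂ), (∀ j, μ j ^ m = 1) →
        ∑ j, (c j : ℂ) * μ j ≠ 0 →
        (Fintype.card ι : ℝ) ≤ ∑ i, ‖∑ j, (c j : ℂ) * μ j ^ κ i‖ ^ 2 := by
  classical
  have : NeZero m := ⟨hm⟩
  set ζ : ℂ := Complex.exp (2 * Real.pi * Complex.I / m) with hζdef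
  have hζ : IsPrimitiveRoot ζ m := Complex.isPrimitiveRoot_exp m hm
  have hζint : IsIntegral ℚ ζ := by
    refine ⟨Polynomial.X ^ m - 1, Polynomial.monic_X_pow_sub_C 1 hm, ?_⟩
    simp [hζ.pow_eq_one]
  let K : IntermediateField ℚ ℂ := ℚ⟮ζ⟯
  have hfd : FiniteDimensional ℚ K := adjoin.finiteDimensional hζint
  have hnf : NumberField K := { to_charZero := inferInstance, to_finiteDimensional := inferInstance }
  have hζK : ζ ∈ K := mem_adjoin_simple_self ℚ ζ
  let ζK : K := ⟨ζ, hζK⟩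
  have hζKprim : IsPrimitiveRoot ζK m := by
    have : IsPrimitiveRoot ((algebraMap K ℂ) ζK) m := hζ
    exact IsPrimitiveRoot.of_map_of_injective (f := algebraMap K ℂ) this (algebraMap K ℂ).injective
  have hex : ∀ σ : K →ₐ[ℚ] ℂ, ∃ k : ℕ, k.Coprime m ∧ ζ ^ k = σ ζK := by
    intro σ
    have h1 : IsPrimitiveRoot (σ ζK) m := hζKprim.map_of_injective σ.toRingHom.injective
    obtain ⟨k, _, hk⟩ := hζ.eq_pow_of_pow_eq_one h1.pow_eq_one
    refine ⟨k, ?_, hk⟩
    rw [← hk] at h1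
    exact (hζ.pow_iff_coprime (Nat.pos_of_ne_zero hm) k).1 h1
  choose κ hκ using hex
  refine ⟨K →ₐ[ℚ] ℂ, inferInstance, ⟨K.val⟩, κ, fun σ => (hκ σ).1, ?_⟩
  intro J _ c μ hμ hne
  have hexp : ∀ j, ∃ i : ℕ, ζ ^ i = μ j := by
    intro j
    obtain ⟨i, _, hi⟩ := hζ.eq_pow_of_pow_eq_one (hμ j)
    exact ⟨i, hi⟩
  choose e he using hexp
  let x : K := ∑ j, (c j : K) * ζK ^ e j
  have hσx : ∀ σ : K →ₐ[ℚ] ℂ, σ x = ∑ j, (c j : ℂ) * μ j ^ κ σ := by
    intro σ
    simp only [x, map_sum, map_mul, map_natCast, map_pow]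
    refine Finset.sum_congr rfl (fun j _ => ?_)
    rw [← (hκ σ).2, ← he j, ← pow_mul, ← pow_mul, mul_comm (κ σ) (e j)]
  have hιx : (K.val : K →ₐ[ℚ] ℂ) x = ∑ j, (c j : ℂ) * μ j := by
    simp only [x, map_sum, map_mul, map_natCast, map_pow]
    refine Finset.sum_congr rfl (fun j _ => ?_)
    rw [← he j]
    rfl
  have hx0 : x ≠ 0 := by
    intro h0
    apply hne
    rw [← hιx, h0, map_zero]
  have hζKint : IsIntegral ℤ ζK := hζKprim.isIntegral (Nat.pos_of_ne_zero hm)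
  have hxint : IsIntegral ℤ x := by
    apply IsIntegral.sum
    intro j _
    have h1 : IsIntegral ℤ ((c j : ℕ) : K) := by
      have := isIntegral_algebraMap (R := ℤ) (A := K) (x := (c j : ℤ))
      simpa using this
    exact h1.mul (hζKint.pow _)
  have hNint : IsIntegral ℤ (Algebra.norm ℚ x) := Algebra.isIntegral_norm ℚ hxint
  obtain ⟨z, hz⟩ := IsIntegrallyClosed.isIntegral_iff.mp hNint
  have hprod := Algebra.norm_eq_prod_embeddings ℚ ℂ x
  have hN0 : Algebra.norm ℚ x ≠ 0 := fun h => hx0 (Algebra.norm_eq_zero_iff.mp h)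
  have hz0 : z ≠ 0 := by
    intro h0
    apply hN0
    rw [← hz, h0]
    simp
  have hnormN : (1 : ℝ) ≤ ‖(algebraMap ℚ ℂ) (Algebra.norm ℚ x)‖ := by
    have h1 : (algebraMap ℚ ℂ) (Algebra.norm ℚ x) = ((z : ℝ) : ℂ) := by
      rw [← hz]
      push_cast
      rfl
    rw [h1, Complex.norm_real, Real.norm_eq_abs]
    have : (1 : ℤ) ≤ |z| := Int.one_le_abs hz0
    exact_mod_cast this
  have hprod1 : (1 : ℝ) ≤ ∏ σ : K →ₐ[ℚ] ℂ, ‖σ x‖ ^ 2 := by
    rw [Finset.prod_pow, ← norm_prod, ← hprod]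
    exact one_le_pow₀ hnormN
  have h := card_le_sum_of_one_le_prod (fun σ : K →ₐ[ℚ] ℂ => ‖σ x‖ ^ 2)
    (fun σ => by positivity) hprod1
  simp only [hσx] at h
  exact h

end Cfsg.Agent.helper24
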