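import Mathlib
import Cfsg.Agent.Lib_helper24_Char
import Cfsg.Agent.Lib_helper24_Inertia
import Cfsg.Agent.Lib_helper24_RootSums
import Cfsg.Agent.Lib_helper23_LinChar
import Cfsg.Agent.Lib_helper12_CharOps
import Cfsg.Agent.S0169

set_option autoImplicit false

/-!
Characters over an abelian normal Sylow subgroup (shared library, helper24).

* `char_pow_decomp` : the values `χ (v ^ k)` of a character on the powers of an element of an abelian
  subgroup are `∑ c_l μ_l ^ k` for roots of unity `μ_l` (linear constituents of the restriction);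
* `card_centralizer_of_complement`, `centralizer_pow_eq`, `conjClassesCongr`, `sum_normSq_char`;
* `knorr_robinson_bound` : `k(X) + |G| ≤ |C_X(v)| + k(G)` for an abelian normal Sylow `p`-subgroup `V`
  with complement `G` and `v ∈ V`.
-/

universe u

namespace Cfsg.Agent.helper24

open Cfsg
open scoped ComplexConjugate
open Cfsg.Agent.helper12 Cfsg.Agent.helper23

theorem char_pow_decomp {X : Type u} [Group X] [Finite X] (V : Subgroup X)
    [Fintype (IrrCharacter V)]
    (hab : ∀ a ∈ V, ∀ b ∈ V, a * b = b * a) {χ : X → ℂ} (hχ : IsCharacter X χ) (v : X)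
    (hv : v ∈ V) :
    ∃ (c : IrrCharacter V → ℕ) (μ : IrrCharacter V → ℂ),
      (∀ m : ℕ, v ^ m = 1 → ∀ l, μ l ^ m = 1) ∧
      (∀ k : ℕ, χ (v ^ k) = ∑ l, (c l : ℂ) * μ l ^ k) := by
  classical
  have : Fintype V := Fintype.ofFinite _
  obtain ⟨n, hn, _, _⟩ := char_decomp (isCharacter_restrict V hχ)
  have hlin : ∀ l : IrrCharacter V, ∃ lam : V →* ℂˣ,
      ∀ g, (l : V → ℂ) g = ((lam g : ℂˣ) : ℂ) := by
    intro l
    apply exists_hom_of_linear (irr_isCharacter l.2)
    have h1 := irr_degree_eq_one_of_comm (A := V) (fun a b => Subtype.ext (hab a a.2 b b.2)) l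
    rw [← char_charDegree_cast (irr_isCharacter l.2), h1, Nat.cast_one]
  choose lam hlam using hlin
  refine ⟨n, fun l => (l : V → ℂ) ⟨v, hv⟩, ?_, ?_⟩
  · intro m hm l
    show (l : V → ℂ) ⟨v, hv⟩ ^ m = 1
    rw [hlam, ← Units.val_pow_eq_pow_val, ← map_pow]
    have : (⟨v, hv⟩ : V) ^ m = 1 := Subtype.ext (by simpa using hm)
    rw [this, map_one, Units.val_one]
  · intro k
    have h1 := congrFun hn ((⟨v, hv⟩ : V) ^ k)
    simp only [Finset.sum_apply, Pi.smul_apply, smul_eq_mul] at h1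
    have h2 : (((⟨v, hv⟩ : V) ^ k : V) : X) = v ^ k := by simp
    rw [h2] at h1
    rw [h1]
    refine Finset.sum_congr rfl (fun l _ => ?_)
    show (n l : ℂ) * (l : V → ℂ) (⟨v, hv⟩ ^ k) = (n l : ℂ) * (l : V → ℂ) ⟨v, hv⟩ ^ k
    rw [hlam l, hlam l, map_pow, Units.val_pow_eq_pow_val]

theorem card_centralizer_of_complement {X : Type*} [Group X] [Finite X] (V G : Subgroup X)
    (hab : ∀ a ∈ V, ∀ b ∈ V, a * b = b * a) (hGV : Subgroup.IsComplement' V G) (v : X)
    (hv : v ∈ V) :
    Nat.card (Subgroup.centralizer ({v} : Set X)) =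
      Nat.card V * Nat.card ↥(G ⊓ Subgroup.centralizer ({v} : Set X)) := by
  rw [← Nat.card_prod]
  symm
  apply Nat.card_congr
  have hVC : ∀ a ∈ V, a ∈ Subgroup.centralizer ({v} : Set X) := by
    intro a ha
    rw [Subgroup.mem_centralizer_iff]
    intro h hh
    rw [Set.mem_singleton_iff] at hh
    rw [hh]
    exact hab v hv a ha
  refine Equiv.ofBijective
    (fun q : V × ↥(G ⊓ Subgroup.centralizer ({v} : Set X)) =>
      (⟨q.1.1 * q.2.1, mul_mem (hVC _ q.1.2) q.2.2.2⟩ : Subgroup.centralizer ({v} : Set X)))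
    ⟨?_, ?_⟩
  · intro q q' h
    have h1 : (q.1 : X) * q.2.1 = q'.1 * q'.2.1 := congrArg Subtype.val h
    have h2 := hGV.1 (a₁ := (q.1, ⟨q.2.1, q.2.2.1⟩)) (a₂ := (q'.1, ⟨q'.2.1, q'.2.2.1⟩)) h1
    apply Prod.ext
    · exact (Prod.ext_iff.1 h2).1
    · apply Subtype.ext
      have h3 := congrArg Subtype.val (Prod.ext_iff.1 h2).2
      exact h3
  · rintro ⟨x, hx⟩
    obtain ⟨⟨a, g⟩, hag⟩ := hGV.2 x
    have hag' : (a : X) * (g : X) = x := hag
    have hg : (g : X) ∈ Subgroup.centralizer ({v} : Set X) := by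
      have : (g : X) = (a : X)⁻¹ * x := by rw [← hag']; group
      rw [this]
      exact mul_mem (inv_mem (hVC a a.2)) hx
    exact ⟨(a, ⟨g, ⟨g.2, hg⟩⟩), Subtype.ext hag'⟩

theorem centralizer_pow_eq {X : Type*} [Group X] (v : X) (k : ℕ) (hk : k.Coprime (orderOf v)) :
    Subgroup.centralizer ({v ^ k} : Set X) = Subgroup.centralizer ({v} : Set X) := by
  ext x
  simp only [Subgroup.mem_centralizer_iff, Set.mem_singleton_iff, forall_eq]
  constructor
  · intro h
    obtain ⟨j, hj⟩ := exists_pow_eq_self_of_coprime hk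
    have h1 : Commute (v ^ k) x := h
    have h2 := h1.pow_left j
    rw [hj] at h2
    exact h2
  · intro h
    have h1 : Commute v x := h
    exact h1.pow_left k

/-- conjugacy classes of isomorphic groups -/
def conjClassesCongr {α β : Type*} [Group α] [Group β] (e : α ≃* β) :
    ConjClasses α ≃ ConjClasses β where
  toFun := ConjClasses.map e.toMonoidHom
  invFun := ConjClasses.map e.symm.toMonoidHom
  left_inv := by
    intro C
    induction C using Quotient.inductionOn with
    | h x =>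
      show ConjClasses.mk (e.symm (e x)) = ConjClasses.mk x
      rw [e.symm_apply_apply]
  right_inv := by
    intro C
    induction C using Quotient.inductionOn with
    | h x =>
      show ConjClasses.mk (e (e.symm x)) = ConjClasses.mk x
      rw [e.apply_symm_apply]

theorem sum_normSq_char {X : Type u} [Group X] [Finite X] [Fintype (IrrCharacter X)] (w : X) :
    ∑ χ : IrrCharacter X, ‖(χ : X → ℂ) w‖ ^ 2 =
      (Nat.card (Subgroup.centralizer ({w} : Set X)) : ℝ) := by
  classical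
  have h := irr_column_orthogonality w w
  rw [if_pos (IsConj.refl w)] at h
  have h1 : ∀ χ : IrrCharacter X, (χ : X → ℂ) w * conj ((χ : X → ℂ) w) =
      ((‖(χ : X → ℂ) w‖ ^ 2 : ℝ) : ℂ) := by
    intro χ
    rw [Complex.mul_conj, Complex.normSq_eq_norm_sq]
  rw [Finset.sum_congr rfl (fun χ _ => h1 χ), ← Complex.ofReal_sum] at h
  have h2 : ((Nat.card (Subgroup.centralizer ({w} : Set X)) : ℕ) : ℂ) =
      (((Nat.card (Subgroup.centralizer ({w} : Set X)) : ℕ) : ℝ) : ℂ) := by simp
  rw [h2] at h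
  exact Complex.ofReal_injective h

theorem knorr_robinson_bound {X : Type u} [Group X] [Finite X] (p : ℕ) [Fact p.Prime]
    (V : Subgroup X) [V.Normal] (hVp : IsPGroup p V) (hidx : ¬ p ∣ V.index)
    (hab : ∀ a ∈ V, ∀ b ∈ V, a * b = b * a) (G : Subgroup X)
    (hGV : Subgroup.IsComplement' V G) (v : X) (hv : v ∈ V) :
    Nat.card (ConjClasses X) + Nat.card G ≤
      Nat.card (Subgroup.centralizer ({v} : Set X)) + Nat.card (ConjClasses G) := by
  classical
  have := Fintype.ofFinite X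
  have := Fintype.ofFinite (IrrCharacter X)
  have := Fintype.ofFinite (IrrCharacter V)
  obtain ⟨a, ha⟩ := IsPGroup.iff_card.1 hVp
  set m := Nat.card V with hm
  have hm0 : m ≠ 0 := Nat.card_pos.ne'
  have hvm : v ^ m = 1 := by
    have h1 : (⟨v, hv⟩ : V) ^ Nat.card V = 1 := pow_card_eq_one'
    have h2 := congrArg Subtype.val h1
    rw [Subgroup.coe_pow, Subgroup.coe_one] at h2
    exact h2
  obtain ⟨ι, hιf, hιn, κ, hκ, hfam⟩ := exists_coprime_family.{u} m hm0
  let P : IrrCharacter X → Prop := fun χ => ∀ n ∈ V, (χ : X → ℂ) n = (χ : X → ℂ) 1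
  have hF : ∀ i : ι, ∑ χ : IrrCharacter X, ‖(χ : X → ℂ) (v ^ κ i)‖ ^ 2 =
      (Nat.card (Subgroup.centralizer ({v} : Set X)) : ℝ) := by
    intro i
    rw [sum_normSq_char, centralizer_pow_eq v (κ i)
      (Nat.Coprime.coprime_dvd_right (orderOf_dvd_of_pow_eq_one hvm) (hκ i))]
  have hidxG : V.index = Nat.card G := hGV.symm.index_eq_card
  have hP : ∀ i : ι, ∑ χ ∈ Finset.univ.filter P, ‖(χ : X → ℂ) (v ^ κ i)‖ ^ 2 =
      (Nat.card G : ℝ) := by
    intro i
    have h1 := sum_degree_sq_ker V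
    rw [← hidxG, ← h1, Nat.cast_sum]
    refine Finset.sum_congr rfl (fun χ hχ => ?_)
    have hχP : P χ := (Finset.mem_filter.1 hχ).2
    rw [hχP _ (V.pow_mem hv _), ← char_charDegree_cast (irr_isCharacter χ.2),
      Complex.norm_natCast, Nat.cast_pow]
  have hnotP : ∀ χ : IrrCharacter X,
      (Fintype.card ι : ℝ) ≤ ∑ i, ‖(χ : X → ℂ) (v ^ κ i)‖ ^ 2 := by
    intro χ
    obtain ⟨c, μ, hμ, hdec⟩ := char_pow_decomp V hab (irr_isCharacter χ.2) v hv
    have hne : ∑ l, (c l : ℂ) * μ l ≠ 0 := by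
      apply sum_roots_ne_zero_of_not_dvd p a c μ (fun l => by rw [← ha]; exact hμ m hvm l)
      have h1 := hdec 0
      simp only [pow_zero, mul_one] at h1
      obtain ⟨n, ρ, hρ, hρχ⟩ := χ.2
      have hdvd : n ∣ V.index := Cfsg.Agent.S0169.ito_coord ρ hρ V hab
      have h2 : (χ : X → ℂ) 1 = n := by
        rw [← hρχ]
        simp
      have h3 : ∑ l, c l = n := by
        have h4 : ((∑ l, c l : ℕ) : ℂ) = (n : ℂ) := by
          rw [Nat.cast_sum, ← h1, h2]
        exact_mod_cast h4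
      rw [h3]
      exact fun h => hidx (h.trans hdvd)
    have h4 := hfam (IrrCharacter V) c μ (hμ m hvm) hne
    refine h4.trans (le_of_eq (Finset.sum_congr rfl (fun i _ => ?_)))
    rw [hdec]
  have htotal : (Fintype.card ι : ℝ) * (Nat.card (Subgroup.centralizer ({v} : Set X)) : ℝ) =
      ∑ i : ι, ∑ χ : IrrCharacter X, ‖(χ : X → ℂ) (v ^ κ i)‖ ^ 2 := by
    rw [Finset.sum_congr rfl (fun i _ => hF i), Finset.sum_const, Finset.card_univ, nsmul_eq_mul]
  have hsplit : ∀ i : ι, ∑ χ : IrrCharacter X, ‖(χ : X → ℂ) (v ^ κ i)‖ ^ 2 =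
      (Nat.card G : ℝ) +
        ∑ χ ∈ Finset.univ.filter (fun χ => ¬ P χ), ‖(χ : X → ℂ) (v ^ κ i)‖ ^ 2 := by
    intro i
    rw [← Finset.sum_filter_add_sum_filter_not Finset.univ P, hP i]
  have h5 : ((Finset.univ.filter (fun χ : IrrCharacter X => ¬ P χ)).card : ℝ) *
      (Fintype.card ι : ℝ) ≤
      ∑ i : ι, ∑ χ ∈ Finset.univ.filter (fun χ => ¬ P χ), ‖(χ : X → ℂ) (v ^ κ i)‖ ^ 2 := by
    rw [Finset.sum_comm]
    calc ((Finset.univ.filter (fun χ : IrrCharacter X => ¬ P χ)).card : ℝ) * (Fintype.card ι : ℝ)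
        = ∑ χ ∈ Finset.univ.filter (fun χ : IrrCharacter X => ¬ P χ), (Fintype.card ι : ℝ) := by
          rw [Finset.sum_const, nsmul_eq_mul]
      _ ≤ _ := Finset.sum_le_sum (fun χ _ => hnotP χ)
  have hcardP : (Finset.univ.filter P).card = Nat.card (ConjClasses G) := by
    have h1 : (Finset.univ.filter P).card = Nat.card {χ : IrrCharacter X // P χ} := by
      rw [Nat.card_eq_fintype_card, Fintype.card_subtype]
    rw [h1, ← Nat.card_congr (inflEquiv V), card_irr_eq_card_conjClasses]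
    exact Nat.card_congr (conjClassesCongr hGV.symm.QuotientMulEquiv)
  have hcardnotP : (Finset.univ.filter (fun χ : IrrCharacter X => ¬ P χ)).card +
      Nat.card (ConjClasses G) = Nat.card (ConjClasses X) := by
    rw [← hcardP, ← card_irr_eq_card_conjClasses, Nat.card_eq_fintype_card, add_comm]
    exact Finset.card_filter_add_card_filter_not P
  -- combine
  have hιpos : (0 : ℝ) < Fintype.card ι := by exact_mod_cast Fintype.card_pos
  have h6 : (Fintype.card ι : ℝ) * (Nat.card (Subgroup.centralizer ({v} : Set X)) : ℝ) =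
      (Fintype.card ι : ℝ) * (Nat.card G : ℝ) +
      ∑ i : ι, ∑ χ ∈ Finset.univ.filter (fun χ => ¬ P χ), ‖(χ : X → ℂ) (v ^ κ i)‖ ^ 2 := by
    rw [htotal, Finset.sum_congr rfl (fun i _ => hsplit i), Finset.sum_add_distrib,
      Finset.sum_const, Finset.card_univ, nsmul_eq_mul]
  have h7 : (Fintype.card ι : ℝ) * ((Nat.card G : ℝ) +
      ((Finset.univ.filter (fun χ : IrrCharacter X => ¬ P χ)).card : ℝ)) ≤
      (Fintype.card ι : ℝ) * (Nat.card (Subgroup.centralizer ({v} : Set X)) : ℝ) := by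
    rw [h6, mul_add]
    have := h5
    nlinarith [h5]
  have h8 : (Nat.card G : ℝ) +
      ((Finset.univ.filter (fun χ : IrrCharacter X => ¬ P χ)).card : ℝ) ≤
      (Nat.card (Subgroup.centralizer ({v} : Set X)) : ℝ) :=
    le_of_mul_le_mul_left h7 hιpos
  have h9 : Nat.card G + (Finset.univ.filter (fun χ : IrrCharacter X => ¬ P χ)).card ≤
      Nat.card (Subgroup.centralizer ({v} : Set X)) := by exact_mod_cast h8
  omega

end Cfsg.Agent.helper24
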