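import Mathlib
import Cfsg.Agent.Lib_helper22_IndBlk4
import Cfsg.Agent.Lib_helper23_Schur

/-!
helper24: the Broue-Puig nonvanishing statement: for a height-zero character `χ` of the block
`B = b^G`, `b` a block of a subgroup `H` having a central `p`-element `x`, the `b`-part of
`c ↦ χ (x c)` does not vanish on all `p`-regular elements of `H`.
-/

set_option autoImplicit false
set_option linter.unusedSectionVars false
set_option linter.unusedVariables false
set_option linter.style.longLine false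

namespace Cfsg.Agent.helper24

open Cfsg
open scoped ComplexConjugate

universe u

section BP
variable {G : Type u} [Group G] [Fintype G]

/-- a central element acts on an irreducible character through a root of unity -/
theorem irr_central_root {χ : G → ℂ} (hχ : IsIrrCharacter G χ) (z : G)
    (hz : ∀ g, g * z = z * g) :
    ∃ c : ℂ, c ^ orderOf z = 1 ∧ ∀ g, χ (g * z) = c * χ g := by
  obtain ⟨n, ρ, hirr, rfl⟩ := hχ
  obtain ⟨c, hc⟩ := helper23.exists_scalar_of_commute ρ hirr z hz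
  have h1 := helper23.scalar_pow_eq_one ρ (helper23.pos_of_irreducible ρ hirr) hc (orderOf z)
    (pow_orderOf_eq_one z)
  exact ⟨c, h1, fun g => helper23.char_mul_scalar ρ hc g⟩

theorem root_mul_conj {c : ℂ} {n : ℕ} (hn : n ≠ 0) (h : c ^ n = 1) : c * conj c = 1 := by
  have h1 : ‖c‖ = 1 := Complex.norm_eq_one_of_pow_eq_one h hn
  rw [Complex.mul_conj, Complex.normSq_eq_norm_sq, h1]
  simp

theorem broue_puig_aux (p : ℕ) [Fact p.Prime] {M : Ideal AlgInt} (hM : IsPModular p M)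
    (H : Subgroup G) [Fintype H] {b : Set (IrrCharacter H)} {B : Set (IrrCharacter G)}
    (hind : IsInducedBlock M H b B) (χ : IrrCharacter G) (hχ : χ ∈ B)
    (h0 : blockHeight p B (χ : G → ℂ) = 0) (x : H) (hxc : ∀ h : H, h * x = x * h)
    {k : ℕ} (hxo : orderOf x = p ^ k) :
    ∃ y : H, ¬ p ∣ orderOf y ∧
      blockPart b (fun c : H => (χ : G → ℂ) ((x : G) * (c : G))) y ≠ 0 := by
  classical
  haveI := Fintype.ofFinite (IrrCharacter H)
  have hp : p.Prime := Fact.out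
  haveI hMp : M.IsPrime := hM.2.1.isPrime
  have hMtop := hMp.ne_top
  by_contra hcon
  push Not at hcon
  obtain ⟨e₀, ψ₀, hψ₀b, he₀, hh₀, hda, hdec, hlea⟩ := helper22.block_data p hM b hind.1
  have hkey := (helper22.ind_cut_inner p hM H hind χ hψ₀b).2 hχ h0
  obtain ⟨θ, hθ⟩ : ∃ θ : H → ℂ, θ = fun h : H => (χ : G → ℂ) h := ⟨_, rfl⟩
  obtain ⟨ϑ, hϑ⟩ : ∃ ϑ : H → ℂ, ϑ = fun c : H => (χ : G → ℂ) ((x : G) * (c : G)) := ⟨_, rfl⟩
  rw [← hϑ] at hcon
  have hθc : IsCharacter H θ := by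
    rw [hθ]; exact helper12.isCharacter_restrict H (irr_isCharacter χ.2)
  have hkey' : ¬ MemLocalIdeal M
      (classInner (helper22.cutFn p θ) (ψ₀ : H → ℂ) / (ψ₀ : H → ℂ) 1) := by
    rw [hθ]; exact hkey
  have hex : ∀ ξ : IrrCharacter H, ∃ n : ℕ, classInner θ (ξ : H → ℂ) = n :=
    fun ξ => helper12.classInner_char_nat hθc (irr_isCharacter ξ.2)
  choose m hm using hex
  have hexc : ∀ ξ : IrrCharacter H, ∃ c : ℂ, c ^ orderOf x = 1 ∧
      ∀ g, (ξ : H → ℂ) (g * x) = c * (ξ : H → ℂ) g := fun ξ => irr_central_root ξ.2 x hxc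
  choose ε hε1 hε using hexc
  have hox : orderOf x ≠ 0 := by rw [hxo]; exact (pow_pos hp.pos k).ne'
  -- the inner products of the shifted function
  have hϑξ : ∀ ξ : IrrCharacter H, classInner ϑ (ξ : H → ℂ) = ε ξ * (m ξ : ℂ) := by
    intro ξ
    rw [← hm ξ]
    have hsum : ∑ c : H, ϑ c * conj ((ξ : H → ℂ) c) =
        ε ξ * ∑ g : H, θ g * conj ((ξ : H → ℂ) g) := by
      rw [Finset.mul_sum,
        ← Equiv.sum_comp (Equiv.mulLeft x) (fun g : H => ε ξ * (θ g * conj ((ξ : H → ℂ) g)))]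
      refine Finset.sum_congr rfl (fun c _ => ?_)
      rw [hϑ, hθ]
      show (χ : G → ℂ) ((x : G) * (c : G)) * conj ((ξ : H → ℂ) c) =
        ε ξ * ((χ : G → ℂ) ((x * c : H) : G) * conj ((ξ : H → ℂ) (x * c)))
      rw [← hxc c, hε ξ c, map_mul]
      have h1 := root_mul_conj hox (hε1 ξ)
      have h2 : ((c * x : H) : G) = (x : G) * (c : G) := by
        rw [hxc c]; rfl
      rw [h2]
      linear_combination (-(χ : G → ℂ) ((x : G) * (c : G)) * conj ((ξ : H → ℂ) c)) * h1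
    unfold classInner
    rw [hsum]
    ring
  -- the coefficient function of the block part
  obtain ⟨a, ha⟩ : ∃ a : IrrCharacter H → ℂ,
    a = fun φ => if φ ∈ b then classInner ϑ (φ : H → ℂ) else 0 := ⟨_, rfl⟩
  obtain ⟨bp, hbp⟩ : ∃ bp : H → ℂ,
    bp = fun y => ∑ᶠ φ : IrrCharacter H, a φ * (φ : H → ℂ) y := ⟨_, rfl⟩
  have hbp_eq : blockPart b ϑ = bp := by
    funext y
    rw [helper22.blockPart_eq_finsum, hbp, finsum_mem_eq_finite_toFinset_sum _ (Set.toFinite _)]
    show _ = ∑ᶠ φ : IrrCharacter H, a φ * (φ : H → ℂ) y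
    rw [finsum_eq_sum_of_fintype]
    have h3 : (Set.toFinite b).toFinset = Finset.univ.filter (fun φ => φ ∈ b) := by
      ext φ
      simp
    rw [h3, Finset.sum_filter]
    refine Finset.sum_congr rfl (fun φ _ => ?_)
    rw [ha]
    by_cases hφ : φ ∈ b
    · simp only [if_pos hφ]
    · simp only [if_neg hφ, zero_mul]
  have hcut0 : helper22.cutFn p bp = fun _ => 0 := by
    funext y
    unfold helper22.cutFn
    by_cases hy : p ∣ orderOf y
    · rw [if_pos hy]
    · rw [if_neg hy, ← hbp_eq, hcon y hy, mul_zero]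
  have hin0 : classInner (helper22.cutFn p bp) (ψ₀ : H → ℂ) = 0 := by
    rw [hcut0]
    unfold classInner
    simp
  obtain ⟨c, hc0, hc, hexp⟩ := helper22.cut_expansion p hM ψ₀
  have hbpφ : ∀ φ : IrrCharacter H, classInner bp (φ : H → ℂ) = a φ := by
    intro φ
    rw [hbp]
    exact helper22.classInner_finsum_irr a φ
  -- first relation
  have hrel1 : ∑ ξ : IrrCharacter H, (c ξ : ℂ) * a ξ = 0 := by
    have h1 : classInner (helper22.cutFn p (ψ₀ : H → ℂ)) bp = 0 := by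
      have h2 := helper22.classInner_cutFn_symm p bp (ψ₀ : H → ℂ)
      rw [hin0] at h2
      have h3 : conj (conj (classInner (helper22.cutFn p (ψ₀ : H → ℂ)) bp)) = conj 0 := by
        rw [← h2]
      rwa [Complex.conj_conj, map_zero] at h3
    rw [hexp, classInner_sum_left] at h1
    have h4 : ∀ ξ : IrrCharacter H, classInner ((c ξ : ℂ) • (ξ : H → ℂ)) bp =
        (c ξ : ℂ) * conj (a ξ) := by
      intro ξ
      rw [classInner_smul_left, ← classInner_conj_symm bp (ξ : H → ℂ), hbpφ]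
    rw [Finset.sum_congr rfl (fun ξ _ => h4 ξ)] at h1
    have h5 : conj (∑ ξ : IrrCharacter H, (c ξ : ℂ) * conj (a ξ)) = conj 0 := by rw [h1]
    rw [map_sum, map_zero] at h5
    rw [← h5]
    refine Finset.sum_congr rfl (fun ξ _ => ?_)
    rw [map_mul, Complex.conj_conj]
    simp
  -- second relation
  have hz : classInner (helper22.cutFn p θ) (ψ₀ : H → ℂ) =
      ∑ ξ : IrrCharacter H, (c ξ : ℂ) * (m ξ : ℂ) := by
    rw [helper22.classInner_cutFn_symm, hexp, classInner_sum_left, map_sum]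
    apply Finset.sum_congr rfl
    intro ξ _
    rw [classInner_smul_left, ← classInner_conj_symm θ (ξ : H → ℂ), hm ξ]
    simp
  have hcn : ∀ ξ, c ξ = helper22.nInt p ψ₀ ξ := by
    intro ξ
    have h1 := hc ξ
    rw [helper22.nInt_spec] at h1
    exact_mod_cast h1.symm
  obtain ⟨m', hm'⟩ : ∃ m' : ℕ, m' = charDegree (ψ₀ : H → ℂ) / p ^ e₀ := ⟨_, rfl⟩
  have hDe : p ^ e₀ * m' = charDegree (ψ₀ : H → ℂ) := by
    rw [hm', ← he₀]; exact Nat.ordProj_mul_ordCompl_eq_self _ p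
  have hm'p : ¬ p ∣ m' := by
    rw [hm', ← he₀]
    exact Nat.not_dvd_ordCompl hp (irr_charDegree_pos ψ₀.2).ne'
  have hm'0 : (m' : ℂ) ≠ 0 := by
    intro h
    have h1 : m' = 0 := by exact_mod_cast h
    rw [h1, mul_zero] at hDe
    exact (irr_charDegree_pos ψ₀.2).ne' hDe.symm
  have hp0 : (p : ℂ) ≠ 0 := by exact_mod_cast hp.ne_zero
  have hψ1 : (ψ₀ : H → ℂ) 1 = (p : ℂ) ^ e₀ * (m' : ℂ) := by
    rw [← char_charDegree_cast (irr_isCharacter ψ₀.2), ← hDe]
    push_cast; ring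
  have hm'R : MemLocalRing M ((m' : ℂ)⁻¹) :=
    memLocalRing_inv
      (memLocalRing_of_integral hMtop (isIntegral_natCast_complex m'))
      (natCast_not_memLocalIdeal hM hm'p)
  apply hkey'
  have hdiff : classInner (helper22.cutFn p θ) (ψ₀ : H → ℂ) =
      ∑ ξ : IrrCharacter H, (c ξ : ℂ) * ((m ξ : ℂ) - a ξ) := by
    rw [hz]
    have : ∑ ξ : IrrCharacter H, (c ξ : ℂ) * ((m ξ : ℂ) - a ξ) =
        ∑ ξ : IrrCharacter H, (c ξ : ℂ) * (m ξ : ℂ) - ∑ ξ : IrrCharacter H, (c ξ : ℂ) * a ξ := by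
      rw [← Finset.sum_sub_distrib]
      refine Finset.sum_congr rfl (fun ξ _ => ?_)
      ring
    rw [this, hrel1, sub_zero]
  rw [hdiff, Finset.sum_div]
  apply memLocalIdeal_sum
  intro ξ _
  by_cases hξb : ξ ∈ b
  · have hv := helper22.nInt_val p hM hind.1 hψ₀b hh₀ ξ hξb
    have hd1 : ((p : ℤ) ^ (charDegree (ξ : H → ℂ)).factorization p) ∣ c ξ := by
      rw [hcn]; exact (padicValInt_dvd_iff _ _).mpr (Or.inr hv.2.ge)
    have hξe := hdec ξ hξb
    have hd2 : ((p : ℤ) ^ e₀) ∣ c ξ := (pow_dvd_pow _ (by omega)).trans hd1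
    obtain ⟨t, ht⟩ := hd2
    have haξ : a ξ = ε ξ * (m ξ : ℂ) := by
      rw [ha]
      simp only [if_pos hξb]
      exact hϑξ ξ
    have hεJ : MemLocalIdeal M (ε ξ - 1) := by
      apply MemIdeal.memLocalIdeal hMtop
      apply memIdeal_sub_one_of_pow hM (j := k)
      rw [← hxo]; exact hε1 ξ
    have e1 : ((c ξ : ℤ) : ℂ) * ((m ξ : ℂ) - a ξ) / (ψ₀ : H → ℂ) 1 =
        (-((t : ℂ) * (m ξ : ℂ)) * (m' : ℂ)⁻¹) * (ε ξ - 1) := by
      rw [haξ, hψ1, ht]
      push_cast
      field_simp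
      ring
    rw [e1]
    refine memLocalIdeal_mul_left ?_ hεJ
    refine memLocalRing_mul ?_ hm'R
    have hint : IsIntegral ℤ (-((t : ℂ) * (m ξ : ℂ))) := by
      have h1 : (-((t : ℂ) * (m ξ : ℂ))) = ((-(t * (m ξ : ℤ)) : ℤ) : ℂ) := by push_cast; ring
      rw [h1]
      exact isIntegral_algebraMap (R := ℤ) (A := ℂ) (x := -(t * (m ξ : ℤ)))
    exact memLocalRing_of_integral hMtop hint
  · have h1 : c ξ = 0 :=
      hc0 ξ (fun h => hξb ((helper22.mem_block_iff hMp hind.1 hψ₀b ξ).mpr h))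
    rw [h1]
    simp only [Int.cast_zero, zero_mul, zero_div]
    exact memLocalIdeal_zero hMtop

end BP

end Cfsg.Agent.helper24
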