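import Mathlib

/-! helper24: auxiliary lemmas on class sizes (import Mathlib only), for S4257. -/

set_option autoImplicit false

namespace Cfsg.Agent.helper24.CSaux

/-- a finite group is not the union of the conjugates of a proper subgroup -/
theorem union_conj_top {X : Type*} [Group X] [Finite X] (H : Subgroup X)
    (h : ∀ x : X, ∃ y : X, y * x * y⁻¹ ∈ H) : H = ⊤ := by
  classical
  have := Fintype.ofFinite X
  have hB := MulAction.sum_card_fixedBy_eq_card_orbits_mul_card_group X (X ⧸ H)
  have hone : Fintype.card (Quotient (MulAction.orbitRel X (X ⧸ H))) = 1 := by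
    have hsub : Subsingleton (MulAction.orbitRel.Quotient X (X ⧸ H)) :=
      (MulAction.pretransitive_iff_subsingleton_quotient X (X ⧸ H)).1 inferInstance
    have hsub' : Subsingleton (Quotient (MulAction.orbitRel X (X ⧸ H))) := hsub
    have hle : Fintype.card (Quotient (MulAction.orbitRel X (X ⧸ H))) ≤ 1 :=
      Fintype.card_le_one_iff_subsingleton.2 hsub'
    have hpos : 0 < Fintype.card (Quotient (MulAction.orbitRel X (X ⧸ H))) :=
      Fintype.card_pos_iff.2 ⟨Quotient.mk _ ((1 : X) : X ⧸ H)⟩
    omega
  rw [hone, one_mul] at hB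
  have hfix : ∀ x : X, 1 ≤ Fintype.card (MulAction.fixedBy (X ⧸ H) x) := by
    intro x
    obtain ⟨y, hy⟩ := h x
    apply Fintype.card_pos_iff.2
    refine ⟨⟨((y⁻¹ : X) : X ⧸ H), ?_⟩⟩
    rw [MulAction.mem_fixedBy]
    show ((x * y⁻¹ : X) : X ⧸ H) = ((y⁻¹ : X) : X ⧸ H)
    rw [QuotientGroup.eq]
    have : (x * y⁻¹)⁻¹ * y⁻¹ = (y * x * y⁻¹)⁻¹ := by group
    rw [this]
    exact H.inv_mem hy
  have hfix1 : Fintype.card (MulAction.fixedBy (X ⧸ H) (1 : X)) = H.index := by
    rw [Subgroup.index, Nat.card_eq_fintype_card]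
    apply Fintype.card_congr
    exact (Equiv.subtypeUnivEquiv (fun q => by rw [MulAction.mem_fixedBy, one_smul]))
  have hsplit := Finset.add_sum_erase Finset.univ
    (fun x : X => Fintype.card (MulAction.fixedBy (X ⧸ H) x)) (Finset.mem_univ (1 : X))
  have hrest : (Finset.univ.erase (1 : X)).card ≤
      ∑ x ∈ Finset.univ.erase (1 : X), Fintype.card (MulAction.fixedBy (X ⧸ H) x) := by
    calc (Finset.univ.erase (1 : X)).card = ∑ x ∈ Finset.univ.erase (1 : X), 1 := by simp
      _ ≤ _ := Finset.sum_le_sum (fun x _ => hfix x)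
  have hcard : (Finset.univ.erase (1 : X)).card = Fintype.card X - 1 := by
    rw [Finset.card_erase_of_mem (Finset.mem_univ _), Finset.card_univ]
  have hpos : 0 < Fintype.card X := Fintype.card_pos
  have hidx : H.index ≤ 1 := by
    have e1 : Fintype.card (MulAction.fixedBy (X ⧸ H) (1 : X)) +
        ∑ x ∈ Finset.univ.erase (1 : X), Fintype.card (MulAction.fixedBy (X ⧸ H) x) =
        Fintype.card X := hsplit.trans hB
    rw [hfix1] at e1
    omega
  have hidx0 : H.index ≠ 0 := Subgroup.index_ne_zero_of_finite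
  exact Subgroup.index_eq_one.1 (by omega)


/-- if the prime `s` divides no class size, every Sylow `s`-subgroup is central -/
theorem sylow_central_of_not_dvd {G : Type*} [Group G] [Finite G] (s : ℕ) [hs : Fact s.Prime]
    (h : ∀ g : G, ¬ s ∣ (Subgroup.centralizer ({g} : Set G)).index) (S : Sylow s G) :
    (S : Subgroup G) ≤ Subgroup.center G := by
  have hC : Subgroup.centralizer ((S : Subgroup G) : Set G) = ⊤ := by
    apply union_conj_top
    intro x
    have hx := h x
    obtain ⟨P⟩ : Nonempty (Sylow s (Subgroup.centralizer ({x} : Set G))) := inferInstance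
    have hPp : IsPGroup s ((P : Subgroup (Subgroup.centralizer ({x} : Set G))).map
        (Subgroup.centralizer ({x} : Set G)).subtype) := P.2.map _
    obtain ⟨Q, hQ⟩ := hPp.exists_le_sylow
    have hcP : Nat.card (P : Subgroup (Subgroup.centralizer ({x} : Set G))) =
        s ^ (Nat.card (Subgroup.centralizer ({x} : Set G))).factorization s := P.card_eq_multiplicity
    have hcQ : Nat.card (Q : Subgroup G) = s ^ (Nat.card G).factorization s := Q.card_eq_multiplicity
    have hmul : Nat.card (Subgroup.centralizer ({x} : Set G)) *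
        (Subgroup.centralizer ({x} : Set G)).index = Nat.card G := Subgroup.card_mul_index _
    have hidx0 : (Subgroup.centralizer ({x} : Set G)).index ≠ 0 := Subgroup.index_ne_zero_of_finite
    have hc0 : Nat.card (Subgroup.centralizer ({x} : Set G)) ≠ 0 := Nat.card_pos.ne'
    have hfac : (Nat.card G).factorization s =
        (Nat.card (Subgroup.centralizer ({x} : Set G))).factorization s := by
      rw [← hmul, Nat.factorization_mul hc0 hidx0]
      simp [Nat.factorization_eq_zero_of_not_dvd hx]
    have hcmap : Nat.card ((P : Subgroup (Subgroup.centralizer ({x} : Set G))).map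
        (Subgroup.centralizer ({x} : Set G)).subtype) =
        Nat.card (P : Subgroup (Subgroup.centralizer ({x} : Set G))) :=
      Subgroup.card_map_of_injective (Subgroup.subtype_injective _)
    have hQeq : ((P : Subgroup (Subgroup.centralizer ({x} : Set G))).map
        (Subgroup.centralizer ({x} : Set G)).subtype) = (Q : Subgroup G) := by
      apply Subgroup.eq_of_le_of_card_ge hQ
      rw [hcmap, hcP, hcQ, hfac]
    obtain ⟨g, hg⟩ := MulAction.exists_smul_eq G Q S
    refine ⟨g, ?_⟩
    rw [Subgroup.mem_centralizer_iff]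
    intro t ht
    have ht' : t ∈ ((g • Q : Sylow s G) : Subgroup G) := by rw [hg]; exact ht
    rw [Sylow.smul_def, Sylow.pointwise_smul_def,
      Subgroup.mem_pointwise_smul_iff_inv_smul_mem] at ht'
    have ht2 : g⁻¹ * t * g ∈ (Q : Subgroup G) := by
      have : (MulAut.conj g)⁻¹ • t = g⁻¹ * t * g := by
        rw [MulAut.smul_def, MulAut.conj_inv_apply]
      rw [this] at ht'
      exact ht'
    rw [← hQeq] at ht2
    obtain ⟨⟨y, hy⟩, -, hyt⟩ := ht2
    have hyt' : y = g⁻¹ * t * g := hyt
    rw [Subgroup.mem_centralizer_iff] at hy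
    have e : x * (g⁻¹ * t * g) = g⁻¹ * t * g * x := by
      rw [← hyt']
      exact hy x rfl
    calc t * (g * x * g⁻¹) = g * ((g⁻¹ * t * g) * x) * g⁻¹ := by group
      _ = g * (x * (g⁻¹ * t * g)) * g⁻¹ := by rw [e]
      _ = g * x * g⁻¹ * t := by group
  intro t ht
  rw [Subgroup.mem_center_iff]
  intro y
  have hy : y ∈ Subgroup.centralizer ((S : Subgroup G) : Set G) := by rw [hC]; trivial
  rw [Subgroup.mem_centralizer_iff] at hy
  exact (hy t ht).symm

end Cfsg.Agent.helper24.CSaux
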