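import Mathlib

set_option autoImplicit false

namespace Cfsg.Agent.helper24

open Finset

/-- `1 - x` divides `n - ∑_{i<n} x^i` on the left. -/
theorem exists_one_sub_mul_eq {R : Type*} [Ring R] (x : R) (n : ℕ) :
    ∃ r : R, (n : R) - ∑ i ∈ range n, x ^ i = (1 - x) * r := by
  induction n with
  | zero => exact ⟨0, by simp⟩
  | succ n ih =>
    obtain ⟨r, hr⟩ := ih
    refine ⟨r + ∑ i ∈ range n, x ^ i, ?_⟩
    rw [mul_add, ← hr, mul_neg_geom_sum, Finset.sum_range_succ, Nat.cast_succ]
    abel

theorem sum_pow_apply_fixed {A : Type*} [AddCommGroup A] (α : AddMonoid.End A) (u : A)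
    (h : ∀ i : ℕ, (α ^ i) u = u) (n : ℕ) : (∑ i ∈ range n, α ^ i) u = n • u := by
  induction n with
  | zero => simp
  | succ n ih =>
    rw [Finset.sum_range_succ]
    have e : ((∑ i ∈ range n, α ^ i) + α ^ n) u = (∑ i ∈ range n, α ^ i) u + (α ^ n) u := rfl
    rw [e, ih, h, succ_nsmul]

theorem card_eq_card_ker_mul_card_range {A B : Type*} [AddGroup A] [AddGroup B] [Finite A]
    (f : A →+ B) : Nat.card A = Nat.card f.ker * Nat.card f.range := by
  rw [← AddSubgroup.index_ker f, mul_comm]
  exact (AddSubgroup.index_mul_card f.ker).symm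

theorem coprime_action_count_add {A : Type*} [AddCommGroup A] [Finite A] (α β : AddMonoid.End A)
    (hc : Commute α β) (a b : ℕ) (ha : α ^ a = 1) (hb : β ^ b = 1)
    (hcop : Nat.Coprime (a * b) (Nat.card A)) :
    Nat.card {p : A × A // p.1 + α p.2 = p.2 + β p.1} =
      Nat.card A * Nat.card {u : A // α u = u ∧ β u = u} := by
  classical
  set P : AddMonoid.End A := ∑ i ∈ range a, α ^ i with hPdef
  set Q : AddMonoid.End A := ∑ j ∈ range b, β ^ j with hQdef
  have hP1 : (1 - α) * P = 0 := by rw [hPdef, mul_neg_geom_sum, ha, sub_self]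
  have hP2 : P * (1 - α) = 0 := by rw [hPdef, geom_sum_mul_neg, ha, sub_self]
  have hQ1 : (1 - β) * Q = 0 := by rw [hQdef, mul_neg_geom_sum, hb, sub_self]
  have hQ2 : Q * (1 - β) = 0 := by rw [hQdef, geom_sum_mul_neg, hb, sub_self]
  have hPβ : Commute P (1 - β) := by
    apply Commute.sum_left
    intro i _
    exact (Commute.one_right (α ^ i)).sub_right (hc.pow_left i)
  have hQα : Commute Q (1 - α) := by
    apply Commute.sum_left
    intro j _
    exact (Commute.one_right (β ^ j)).sub_right ((hc.symm).pow_left j)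
  set N : AddMonoid.End A := P * Q with hNdef
  have hN1 : N * (1 - α) = 0 := by
    rw [hNdef, mul_assoc, hQα.eq, ← mul_assoc, hP2, zero_mul]
  have hN2 : N * (1 - β) = 0 := by
    rw [hNdef, mul_assoc, hQ2, mul_zero]
  have hN3 : (1 - α) * N = 0 := by
    rw [hNdef, ← mul_assoc, hP1, zero_mul]
  have hN4 : (1 - β) * N = 0 := by
    rw [hNdef, ← mul_assoc, ← hPβ.eq, mul_assoc, hQ1, mul_zero]
  obtain ⟨Rα, hRα⟩ := exists_one_sub_mul_eq α a
  obtain ⟨Rβ, hRβ⟩ := exists_one_sub_mul_eq β b
  have hkey : ((a * b : ℕ) : AddMonoid.End A) = N + (1 - α) * (Rα * Q) + (1 - β) * ((a : AddMonoid.End A) * Rβ) := by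
    have h1 : ((a * b : ℕ) : AddMonoid.End A) - N = (a : AddMonoid.End A) * ((b : AddMonoid.End A) - Q)
        + ((a : AddMonoid.End A) - P) * Q := by
      rw [hNdef, Nat.cast_mul]
      noncomm_ring
    rw [← hPdef] at hRα
    rw [← hQdef] at hRβ
    rw [hRα, hRβ] at h1
    have h2 : (a : AddMonoid.End A) * ((1 - β) * Rβ) = (1 - β) * ((a : AddMonoid.End A) * Rβ) := by
      rw [← mul_assoc, ← mul_assoc, (Nat.cast_commute a (1 - β)).eq]
    rw [h2] at h1
    rw [sub_eq_iff_eq_add] at h1
    rw [h1]
    noncomm_ring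
  -- the homomorphism T
  let T : A × A →+ A :=
    { toFun := fun p => (p.1 - β p.1) - (p.2 - α p.2)
      map_zero' := by simp
      map_add' := by
        intro p q
        simp only [Prod.fst_add, Prod.snd_add, map_add]
        abel }
  have hT : ∀ p : A × A, T p = (p.1 - β p.1) - (p.2 - α p.2) := fun p => rfl
  let Nh : A →+ A :=
    { toFun := fun m => N m
      map_zero' := map_zero N
      map_add' := map_add N }
  have hNh : ∀ m : A, Nh m = N m := fun m => rfl
  let C : AddSubgroup A :=
    { carrier := {u | α u = u ∧ β u = u}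
      zero_mem' := ⟨map_zero _, map_zero _⟩
      add_mem' := fun {x y} hx hy => ⟨by rw [map_add, hx.1, hy.1], by rw [map_add, hx.2, hy.2]⟩
      neg_mem' := fun {x} hx => ⟨by rw [map_neg, hx.1], by rw [map_neg, hx.2]⟩ }
  -- Bezout
  have hbez : ∃ x y : ℤ, x * ((a * b : ℕ) : ℤ) + y * (Nat.card A : ℤ) = 1 := by
    have := Nat.isCoprime_iff_coprime.mpr hcop
    obtain ⟨x, y, hxy⟩ := this
    exact ⟨x, y, hxy⟩
  obtain ⟨x, y, hxy⟩ := hbez
  have hinv : ∀ m : A, m = x • ((a * b : ℕ) • m) := by
    intro m
    have h1 : (x * ((a * b : ℕ) : ℤ) + y * (Nat.card A : ℤ)) • m = m := by rw [hxy, one_zsmul]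
    rw [add_zsmul, mul_zsmul, mul_zsmul, natCast_zsmul, natCast_zsmul, card_nsmul_eq_zero',
      zsmul_zero, add_zero] at h1
    exact h1.symm
  have hT1 : ∀ t : A, t - β t ∈ T.range := fun t => ⟨(t, 0), by rw [hT]; simp⟩
  have hT2 : ∀ r : A, r - α r ∈ T.range := fun r => by
    have h0 : -(r - α r) ∈ T.range := ⟨(0, r), by rw [hT]; simp⟩
    simpa using T.range.neg_mem h0
  have hrangeT : T.range = Nh.ker := by
    ext m
    constructor
    · rintro ⟨p, rfl⟩
      rw [AddMonoidHom.mem_ker, hNh, hT]
      have e1 : N (p.1 - β p.1) = (N * (1 - β)) p.1 := rfl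
      have e2 : N (p.2 - α p.2) = (N * (1 - α)) p.2 := rfl
      rw [map_sub, e1, e2, hN1, hN2]
      simp
    · intro hm
      rw [AddMonoidHom.mem_ker, hNh] at hm
      have h1 : (a * b : ℕ) • m ∈ T.range := by
        have h2 : (a * b : ℕ) • m = ((a * b : ℕ) : AddMonoid.End A) m := rfl
        rw [h2, hkey]
        have e0 : (N + (1 - α) * (Rα * Q) + (1 - β) * ((a : AddMonoid.End A) * Rβ)) m =
          N m + ((1 - α) * (Rα * Q)) m + ((1 - β) * ((a : AddMonoid.End A) * Rβ)) m := rfl
        rw [e0, hm, zero_add]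
        have e1 : ((1 - α) * (Rα * Q)) m = (Rα * Q) m - α ((Rα * Q) m) := rfl
        have e2 : ((1 - β) * ((a : AddMonoid.End A) * Rβ)) m =
          ((a : AddMonoid.End A) * Rβ) m - β (((a : AddMonoid.End A) * Rβ) m) := rfl
        rw [e1, e2]
        exact T.range.add_mem (hT2 _) (hT1 _)
      rw [hinv m]
      exact T.range.zsmul_mem h1 x
  have hrangeN : Nh.range = C := by
    ext u
    constructor
    · rintro ⟨m, rfl⟩
      rw [hNh]
      constructor
      · have e1 : ((1 - α) * N) m = N m - α (N m) := rfl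
        rw [hN3] at e1
        have : N m - α (N m) = 0 := e1.symm
        exact (sub_eq_zero.mp this).symm
      · have e1 : ((1 - β) * N) m = N m - β (N m) := rfl
        rw [hN4] at e1
        have : N m - β (N m) = 0 := e1.symm
        exact (sub_eq_zero.mp this).symm
    · rintro ⟨hu1, hu2⟩
      have hαi : ∀ i : ℕ, (α ^ i) u = u := by
        intro i
        induction i with
        | zero => rfl
        | succ i ih =>
          rw [pow_succ]
          change (α ^ i) (α u) = u
          rw [hu1, ih]
      have hβj : ∀ j : ℕ, (β ^ j) u = u := by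
        intro j
        induction j with
        | zero => rfl
        | succ j ih =>
          rw [pow_succ]
          change (β ^ j) (β u) = u
          rw [hu2, ih]
      have hQu : Q u = b • u := by
        rw [hQdef]
        exact sum_pow_apply_fixed β u hβj b
      have hPu : P u = a • u := by
        rw [hPdef]
        exact sum_pow_apply_fixed α u hαi a
      have hNu : N u = (a * b : ℕ) • u := by
        change P (Q u) = _
        rw [hQu, map_nsmul, hPu, mul_nsmul]
      refine ⟨x • u, ?_⟩
      rw [hNh]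
      rw [map_zsmul, hNu]
      exact (hinv u).symm
  have hsol : Nat.card {p : A × A // p.1 + α p.2 = p.2 + β p.1} = Nat.card T.ker := by
    apply Nat.card_congr
    refine Equiv.subtypeEquivRight (fun p => ?_)
    rw [AddMonoidHom.mem_ker, hT]
    constructor
    · intro h
      have : p.1 - β p.1 - (p.2 - α p.2) = (p.1 + α p.2) - (p.2 + β p.1) := by abel
      rw [this, h, sub_self]
    · intro h
      have : p.1 - β p.1 - (p.2 - α p.2) = (p.1 + α p.2) - (p.2 + β p.1) := by abel
      rw [this] at h
      exact sub_eq_zero.mp h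
  have hC : Nat.card {u : A // α u = u ∧ β u = u} = Nat.card C := rfl
  have c1 := card_eq_card_ker_mul_card_range T
  have c2 := card_eq_card_ker_mul_card_range Nh
  rw [hrangeT] at c1
  rw [hrangeN] at c2
  rw [Nat.card_prod] at c1
  rw [hsol, hC]
  have hpos : 0 < Nat.card Nh.ker := Nat.card_pos
  apply Nat.eq_of_mul_eq_mul_right hpos
  rw [← c1]
  nth_rewrite 2 [c2]
  ring


/-- Multiplicative version: counting solutions of `v * α w = w * β v` for commuting endomorphisms
of coprime order. -/
theorem coprime_action_count {M : Type*} [CommGroup M] [Finite M] (α β : M →* M)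
    (hc : ∀ x, α (β x) = β (α x)) (a b : ℕ) (ha : ∀ x, (α^[a]) x = x) (hb : ∀ x, (β^[b]) x = x)
    (hcop : Nat.Coprime (a * b) (Nat.card M)) :
    Nat.card {p : M × M // p.1 * α p.2 = p.2 * β p.1} =
      Nat.card M * Nat.card {u : M // α u = u ∧ β u = u} := by
  let α' : AddMonoid.End (Additive M) := MonoidHom.toAdditive α
  let β' : AddMonoid.End (Additive M) := MonoidHom.toAdditive β
  have hc' : Commute α' β' := by
    refine DFunLike.ext _ _ (fun x => ?_)
    exact hc x
  have hpowα : ∀ (k : ℕ) (x : Additive M), (α' ^ k) x = Additive.ofMul ((α^[k]) x.toMul) := by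
    intro k
    induction k with
    | zero => intro x; rfl
    | succ k ih =>
      intro x
      rw [pow_succ]
      change (α' ^ k) (α' x) = _
      rw [ih, Function.iterate_succ_apply]
      rfl
  have hpowβ : ∀ (k : ℕ) (x : Additive M), (β' ^ k) x = Additive.ofMul ((β^[k]) x.toMul) := by
    intro k
    induction k with
    | zero => intro x; rfl
    | succ k ih =>
      intro x
      rw [pow_succ]
      change (β' ^ k) (β' x) = _
      rw [ih, Function.iterate_succ_apply]
      rfl
  have ha' : α' ^ a = 1 := by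
    refine DFunLike.ext _ _ (fun x => ?_)
    rw [hpowα, ha]
    rfl
  have hb' : β' ^ b = 1 := by
    refine DFunLike.ext _ _ (fun x => ?_)
    rw [hpowβ, hb]
    rfl
  have hcop' : Nat.Coprime (a * b) (Nat.card (Additive M)) := hcop
  exact coprime_action_count_add α' β' hc' a b ha' hb' hcop'

end Cfsg.Agent.helper24
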