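import Mathlib

/-!
Combinatorial lemma on exceptional characters (helper24), case `e = 2`:
integer vectors `c μ` with `c μ o = 1`, Gram matrix `2 + r μ ν`, form a "star".
-/

set_option autoImplicit false

namespace Cfsg.Agent.helper24

section ExcComb
variable {I : Type*} [Fintype I] [DecidableEq I]

theorem exc_sum_split3 (f : I → ℤ) {o a b : I} (hao : a ≠ o) (hbo : b ≠ o) (hab : a ≠ b) :
    ∑ ψ, f ψ = f o + f a + f b + ∑ ψ ∈ ((Finset.univ.erase o).erase a).erase b, f ψ := by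
  have h2 : a ∈ (Finset.univ : Finset I).erase o := Finset.mem_erase.mpr ⟨hao, Finset.mem_univ _⟩
  have h1 : b ∈ ((Finset.univ : Finset I).erase o).erase a :=
    Finset.mem_erase.mpr ⟨hab.symm, Finset.mem_erase.mpr ⟨hbo, Finset.mem_univ _⟩⟩
  rw [← Finset.add_sum_erase _ f (Finset.mem_univ o), ← Finset.add_sum_erase _ f h2,
    ← Finset.add_sum_erase _ f h1]
  ring

theorem exc_unit_of_sq_le (w : ℤ) (hw : w ≠ 0) (h : w * w ≤ 2) : w = 1 ∨ w = -1 := by
  have hl : -1 ≤ w := by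
    by_contra hcon
    push Not at hcon
    have h' : w ≤ -2 := by omega
    nlinarith
  have hu : w ≤ 1 := by
    by_contra hcon
    push Not at hcon
    have h' : 2 ≤ w := by omega
    nlinarith
  omega

theorem exc_norm3 (w : I → ℤ) (o : I) (ho : w o = 1) (h3 : ∑ ψ, w ψ * w ψ = 3) :
    ∃ a b : I, a ≠ o ∧ b ≠ o ∧ a ≠ b ∧ (w a = 1 ∨ w a = -1) ∧ (w b = 1 ∨ w b = -1) ∧
      ∀ ψ ∈ ((Finset.univ.erase o).erase a).erase b, w ψ = 0 := by
  have hnn : ∀ (s : Finset I), 0 ≤ ∑ ψ ∈ s, w ψ * w ψ :=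
    fun s => Finset.sum_nonneg (fun ψ _ => mul_self_nonneg _)
  have h1 : ∑ ψ ∈ Finset.univ.erase o, w ψ * w ψ = 2 := by
    have := Finset.add_sum_erase Finset.univ (fun ψ => w ψ * w ψ) (Finset.mem_univ o)
    rw [h3] at this
    have h' : w o * w o = 1 := by rw [ho]; norm_num
    linarith
  obtain ⟨a, ha, hwa⟩ : ∃ a ∈ Finset.univ.erase o, w a ≠ 0 := by
    by_contra hcon
    push Not at hcon
    have : ∑ ψ ∈ Finset.univ.erase o, w ψ * w ψ = 0 :=
      Finset.sum_eq_zero (fun ψ hψ => by rw [hcon ψ hψ, mul_zero])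
    omega
  have h2 := Finset.add_sum_erase (Finset.univ.erase o) (fun ψ => w ψ * w ψ) ha
  have h2' := hnn ((Finset.univ.erase o).erase a)
  have hwa1 : w a = 1 ∨ w a = -1 := by
    apply exc_unit_of_sq_le _ hwa
    have h2'' : w a * w a + ∑ ψ ∈ (Finset.univ.erase o).erase a, w ψ * w ψ = 2 := by
      rw [← h1]; exact h2
    linarith
  have h3' : ∑ ψ ∈ (Finset.univ.erase o).erase a, w ψ * w ψ = 1 := by
    have : w a * w a = 1 := by rcases hwa1 with h | h <;> rw [h] <;> norm_num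
    have h2'' : w a * w a + ∑ ψ ∈ (Finset.univ.erase o).erase a, w ψ * w ψ = 2 := by
      rw [← h1]; exact h2
    linarith
  obtain ⟨b, hb, hwb⟩ : ∃ b ∈ (Finset.univ.erase o).erase a, w b ≠ 0 := by
    by_contra hcon
    push Not at hcon
    have : ∑ ψ ∈ (Finset.univ.erase o).erase a, w ψ * w ψ = 0 :=
      Finset.sum_eq_zero (fun ψ hψ => by rw [hcon ψ hψ, mul_zero])
    omega
  have h4 := Finset.add_sum_erase ((Finset.univ.erase o).erase a) (fun ψ => w ψ * w ψ) hb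
  have h4' := hnn (((Finset.univ.erase o).erase a).erase b)
  have h4'' : w b * w b + ∑ ψ ∈ ((Finset.univ.erase o).erase a).erase b, w ψ * w ψ = 1 := by
    rw [← h3']; exact h4
  have hwb1 : w b = 1 ∨ w b = -1 := by
    apply exc_unit_of_sq_le _ hwb
    linarith
  have h5 : ∑ ψ ∈ ((Finset.univ.erase o).erase a).erase b, w ψ * w ψ = 0 := by
    have : w b * w b = 1 := by rcases hwb1 with h | h <;> rw [h] <;> norm_num
    linarith
  have h6 := (Finset.sum_eq_zero_iff_of_nonneg (fun ψ _ => mul_self_nonneg (w ψ))).mp h5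
  refine ⟨a, b, (Finset.mem_erase.mp ha).1, ?_, ?_, hwa1, hwb1, ?_⟩
  · exact (Finset.mem_erase.mp (Finset.mem_erase.mp hb).2).1
  · exact fun h => (Finset.mem_erase.mp hb).1 h.symm
  · intro ψ hψ
    exact mul_self_eq_zero.mp (h6 ψ hψ)

theorem exc_star {M : Type*} (c : M → I → ℤ) (r : M → M → ℤ) (o : I)
    (h0 : ∀ μ, c μ o = 1)
    (hG : ∀ μ ν, ∑ ψ, c μ ψ * c ν ψ = 2 + r μ ν)
    (hr01 : ∀ μ ν, r μ ν = 0 ∨ r μ ν = 1)
    (hrr : ∀ μ, r μ μ = 1)
    (h4 : ∀ μ ν ν', ∃ ν'', r μ ν'' = 0 ∧ r ν ν'' = 0 ∧ r ν' ν'' = 0)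
    (μ : M) :
    ∃ a b : I, a ≠ o ∧ b ≠ o ∧ a ≠ b ∧ ∃ s s' : ℤ, (s = 1 ∨ s = -1) ∧ (s' = 1 ∨ s' = -1) ∧
      (∀ f : I → ℤ, ∑ ψ, c μ ψ * f ψ = f o + s * f a + s' * f b) ∧
      (∀ ν, c ν a = s) ∧ (∀ ν, c ν b = s' * r μ ν) := by
  obtain ⟨a, b, hao, hbo, hab, hsa, hsb, hz⟩ :=
    exc_norm3 (c μ) o (h0 μ) (by rw [hG μ μ, hrr μ]; norm_num)
  obtain ⟨R, hR⟩ : ∃ R : Finset I, R = ((Finset.univ.erase o).erase a).erase b := ⟨_, rfl⟩
  rw [← hR] at hz
  -- splitting of the Gram relations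
  have hsplit : ∀ ν ν', 2 + r ν ν' =
      1 + c ν a * c ν' a + c ν b * c ν' b + ∑ ψ ∈ R, c ν ψ * c ν' ψ := by
    intro ν ν'
    rw [← hG ν ν', exc_sum_split3 (fun ψ => c ν ψ * c ν' ψ) hao hbo hab, h0, h0, hR]
    ring
  have hsa2 : c μ a * c μ a = 1 := by rcases hsa with h | h <;> rw [h] <;> norm_num
  have hsb2 : c μ b * c μ b = 1 := by rcases hsb with h | h <;> rw [h] <;> norm_num
  have hWμ : ∀ ν, ∑ ψ ∈ R, c μ ψ * c ν ψ = 0 := by
    intro ν
    exact Finset.sum_eq_zero (fun ψ hψ => by rw [hz ψ hψ, zero_mul])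
  have hWnn : ∀ ν, 0 ≤ ∑ ψ ∈ R, c ν ψ * c ν ψ :=
    fun ν => Finset.sum_nonneg (fun ψ _ => mul_self_nonneg _)
  -- same orbit implies equal vectors
  have hsame : ∀ ν ν', r ν ν' = 1 → ∀ ψ, c ν ψ = c ν' ψ := by
    intro ν ν' h ψ
    have e : ∀ ψ, (c ν ψ - c ν' ψ) * (c ν ψ - c ν' ψ) =
        c ν ψ * c ν ψ + c ν' ψ * c ν' ψ - 2 * (c ν ψ * c ν' ψ) := fun ψ => by ring
    have hs : ∑ ψ, (c ν ψ - c ν' ψ) * (c ν ψ - c ν' ψ) = 0 := by
      rw [Finset.sum_congr rfl (fun ψ _ => e ψ), Finset.sum_sub_distrib, Finset.sum_add_distrib,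
        ← Finset.mul_sum, hG, hG, hG, hrr, hrr, h]
      norm_num
    have h6 := (Finset.sum_eq_zero_iff_of_nonneg
      (fun ψ _ => mul_self_nonneg (c ν ψ - c ν' ψ))).mp hs ψ (Finset.mem_univ _)
    have := mul_self_eq_zero.mp h6
    linarith
  -- types
  have htype : ∀ ν, r μ ν = 0 →
      (c ν a = c μ a ∧ c ν b = 0) ∨ (c ν a = 0 ∧ c ν b = c μ b) := by
    intro ν hν
    have h1 := hsplit μ ν
    rw [hν, hWμ ν] at h1
    have h2 := hsplit ν ν
    rw [hrr ν] at h2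
    have h3 := hWnn ν
    have hXY : c ν a * c ν a + c ν b * c ν b ≤ 2 := by linarith
    have hX1 : -1 ≤ c ν a ∧ c ν a ≤ 1 := by
      constructor
      · by_contra hcon
        push Not at hcon
        have h' : c ν a ≤ -2 := by omega
        nlinarith [mul_self_nonneg (c ν b)]
      · by_contra hcon
        push Not at hcon
        have h' : 2 ≤ c ν a := by omega
        nlinarith [mul_self_nonneg (c ν b)]
    have hY1 : -1 ≤ c ν b ∧ c ν b ≤ 1 := by
      constructor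
      · by_contra hcon
        push Not at hcon
        have h' : c ν b ≤ -2 := by omega
        nlinarith [mul_self_nonneg (c ν a)]
      · by_contra hcon
        push Not at hcon
        have h' : 2 ≤ c ν b := by omega
        nlinarith [mul_self_nonneg (c ν a)]
    obtain ⟨hX1l, hX1u⟩ := hX1
    obtain ⟨hY1l, hY1u⟩ := hY1
    rcases hsa with h | h <;> rcases hsb with h' | h' <;> rw [h, h'] at h1 ⊢ <;> omega
  -- the two types cannot coexist
  have hexcl : ∀ ν ν', r μ ν = 0 → r μ ν' = 0 → (c ν a = c μ a ∧ c ν b = 0) →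
      (c ν' a = 0 ∧ c ν' b = c μ b) → False := by
    intro ν ν' hν hν' hA hB
    have hνν' : r ν ν' = 0 := by
      rcases hr01 ν ν' with h | h
      · exact h
      · exfalso
        have := hsame ν ν' h a
        rw [hA.1, hB.1] at this
        rw [this] at hsa2
        norm_num at hsa2
    obtain ⟨ν'', h1'', h2'', h3''⟩ := h4 μ ν ν'
    have hW1 : ∑ ψ ∈ R, c ν ψ * c ν ψ = 1 := by
      have := hsplit ν ν
      rw [hrr, hA.1, hA.2, hsa2] at this
      linarith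
    have hW2 : ∑ ψ ∈ R, c ν' ψ * c ν' ψ = 1 := by
      have := hsplit ν' ν'
      rw [hrr, hB.1, hB.2, hsb2] at this
      linarith
    have hW3 : ∑ ψ ∈ R, c ν ψ * c ν' ψ = 1 := by
      have := hsplit ν ν'
      rw [hνν', hA.1, hA.2, hB.1, hB.2] at this
      linarith
    have e : ∀ ψ, (c ν ψ - c ν' ψ) * (c ν ψ - c ν' ψ) =
        c ν ψ * c ν ψ + c ν' ψ * c ν' ψ - 2 * (c ν ψ * c ν' ψ) := fun ψ => by ring
    have hs : ∑ ψ ∈ R, (c ν ψ - c ν' ψ) * (c ν ψ - c ν' ψ) = 0 := by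
      rw [Finset.sum_congr rfl (fun ψ _ => e ψ), Finset.sum_sub_distrib, Finset.sum_add_distrib,
        ← Finset.mul_sum, hW1, hW2, hW3]
      norm_num
    have h6 := (Finset.sum_eq_zero_iff_of_nonneg
      (fun ψ _ => mul_self_nonneg (c ν ψ - c ν' ψ))).mp hs
    have heq : ∑ ψ ∈ R, c ν ψ * c ν'' ψ = ∑ ψ ∈ R, c ν' ψ * c ν'' ψ := by
      apply Finset.sum_congr rfl
      intro ψ hψ
      have := mul_self_eq_zero.mp (h6 ψ hψ)
      have h' : c ν ψ = c ν' ψ := by linarith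
      rw [h']
    have hs1 := hsplit ν ν''
    have hs2 := hsplit ν' ν''
    rw [h2'', hA.1, hA.2] at hs1
    rw [h3'', hB.1, hB.2] at hs2
    rcases htype ν'' h1'' with hA'' | hB''
    · rw [hA''.1, hA''.2, hsa2] at hs1
      rw [hA''.1, hA''.2] at hs2
      linarith
    · rw [hB''.1, hB''.2] at hs1
      rw [hB''.1, hB''.2, hsb2] at hs2
      linarith
  -- conclusion
  have hsumf : ∀ f : I → ℤ, ∑ ψ, c μ ψ * f ψ = f o + c μ a * f a + c μ b * f b := by
    intro f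
    rw [exc_sum_split3 (fun ψ => c μ ψ * f ψ) hao hbo hab, h0, ← hR,
      Finset.sum_eq_zero (fun ψ hψ => by rw [hz ψ hψ, zero_mul])]
    ring
  by_cases hB : ∃ ν, r μ ν = 0 ∧ (c ν a = 0 ∧ c ν b = c μ b)
  · obtain ⟨ν₀, hν₀, hB₀⟩ := hB
    have hall : ∀ ν, r μ ν = 0 → (c ν a = 0 ∧ c ν b = c μ b) := by
      intro ν hν
      rcases htype ν hν with h | h
      · exact absurd (hexcl ν ν₀ hν hν₀ h hB₀) id
      · exact h
    refine ⟨b, a, hbo, hao, hab.symm, c μ b, c μ a, hsb, hsa, ?_, ?_, ?_⟩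
    · intro f
      rw [hsumf f]
      ring
    · intro ν
      rcases hr01 μ ν with h | h
      · exact (hall ν h).2
      · exact (hsame μ ν h b).symm
    · intro ν
      rcases hr01 μ ν with h | h
      · rw [h, (hall ν h).1, mul_zero]
      · rw [h, mul_one]
        exact (hsame μ ν h a).symm
  · have hall : ∀ ν, r μ ν = 0 → (c ν a = c μ a ∧ c ν b = 0) := by
      intro ν hν
      rcases htype ν hν with h | h
      · exact h
      · exact absurd ⟨ν, hν, h⟩ hB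
    refine ⟨a, b, hao, hbo, hab, c μ a, c μ b, hsa, hsb, hsumf, ?_, ?_⟩
    · intro ν
      rcases hr01 μ ν with h | h
      · exact (hall ν h).1
      · exact (hsame μ ν h a).symm
    · intro ν
      rcases hr01 μ ν with h | h
      · rw [h, (hall ν h).2, mul_zero]
      · rw [h, mul_one]
        exact (hsame μ ν h b).symm

end ExcComb

end Cfsg.Agent.helper24
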