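import Mathlib

/-!
Linear algebra for the determinant computation used in S4508 (helper24).

* `pm1_det_one_add_smul_idem` : `det (1 + c E) = (1 + c) ^ tr E` for an idempotent `E`;
* `pm1_det_sum_idem` : determinant of `1 + ∑ (c i - 1) E i` for orthogonal idempotents;
* `pm1_det_of_trace_pow` : if `A ^ m = 1` and `tr (A ^ k) = 0` for `0 < k < m`, then
  `det A = (∏ j < m, ω ^ j) ^ r`, where `dim V = m r` and `ω` is a primitive `m`-th root of unity;
* `pm1_det_eq_neg_one` : the case `m` even, `r` odd: `det A = -1`.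
-/

set_option autoImplicit false

namespace Cfsg.Agent.helper24

open Finset

section LinAlg
variable {V : Type*} [AddCommGroup V] [Module ℂ V] [FiniteDimensional ℂ V]

theorem pm1_det_one_add_smul_idem (E : Module.End ℂ V) (hE : E * E = E) (c : ℂ) (r : ℕ)
    (hr : LinearMap.trace ℂ V E = r) :
    LinearMap.det (1 + c • E) = (1 + c) ^ r := by
  have hidem : IsIdempotentElem E := hE
  obtain ⟨p, hp⟩ := (LinearMap.isProj_iff_isIdempotentElem E).mpr hidem
  have hcompl : IsCompl p (LinearMap.ker E) := hp.isCompl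
  have htr := hp.trace
  have hfr : Module.finrank ℂ p = r := by
    rw [hr] at htr
    exact_mod_cast htr.symm
  obtain ⟨φ, hφ⟩ : ∃ φ : (p × LinearMap.ker E) ≃ₗ[ℂ] V,
      φ = Submodule.prodEquivOfIsCompl p (LinearMap.ker E) hcompl := ⟨_, rfl⟩
  have hconj : (1 + c • E : Module.End ℂ V) =
      (φ : (p × LinearMap.ker E) →ₗ[ℂ] V) ∘ₗ
        (LinearMap.prodMap ((1 + c) • (LinearMap.id : p →ₗ[ℂ] p))
          (LinearMap.id : LinearMap.ker E →ₗ[ℂ] LinearMap.ker E)) ∘ₗ
        (φ.symm : V →ₗ[ℂ] (p × LinearMap.ker E)) := by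
    apply LinearMap.ext
    intro v
    obtain ⟨⟨a, b⟩, rfl⟩ := φ.surjective v
    simp only [LinearMap.comp_apply, LinearEquiv.coe_coe, LinearEquiv.symm_apply_apply,
      LinearMap.prodMap_apply, LinearMap.smul_apply, LinearMap.id_apply, LinearMap.add_apply,
      Module.End.one_apply]
    rw [hφ, Submodule.coe_prodEquivOfIsCompl', Submodule.coe_prodEquivOfIsCompl']
    have h1 : E (a : V) = a := hp.map_id a a.2
    have h2 : E (b : V) = 0 := LinearMap.mem_ker.mp b.2
    simp only [map_add, h1, h2, add_zero, Submodule.coe_smul]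
    rw [add_smul, one_smul]
    abel
  rw [hconj, LinearMap.det_conj, LinearMap.det_prodMap, LinearMap.det_smul, LinearMap.det_id,
    LinearMap.det_id, hfr, mul_one, mul_one]

theorem pm1_det_sum_idem {ι : Type*} [DecidableEq ι] (s : Finset ι) (E : ι → Module.End ℂ V)
    (horth : ∀ i ∈ s, ∀ j ∈ s, i ≠ j → E i * E j = 0) (hidem : ∀ i ∈ s, E i * E i = E i)
    (c : ι → ℂ) (r : ι → ℕ) (hr : ∀ i ∈ s, LinearMap.trace ℂ V (E i) = r i) :
    LinearMap.det (1 + ∑ i ∈ s, (c i - 1) • E i) = ∏ i ∈ s, c i ^ r i := by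
  induction s using Finset.induction_on with
  | empty =>
    simp
  | insert i s hi ih =>
    have hfac : (1 + ∑ j ∈ insert i s, (c j - 1) • E j : Module.End ℂ V) =
        (1 + (c i - 1) • E i) * (1 + ∑ j ∈ s, (c j - 1) • E j) := by
      rw [Finset.sum_insert hi, add_mul, one_mul, mul_add, mul_one, Finset.mul_sum]
      have hz : ∑ j ∈ s, ((c i - 1) • E i) * ((c j - 1) • E j) = 0 := by
        apply Finset.sum_eq_zero
        intro j hj
        have hne : i ≠ j := fun h => hi (h ▸ hj)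
        rw [smul_mul_smul_comm, horth i (Finset.mem_insert_self i s) j
          (Finset.mem_insert_of_mem hj) hne, smul_zero]
      rw [hz, add_zero]
      abel
    rw [hfac, map_mul, Finset.prod_insert hi,
      ih (fun a ha b hb hab => horth a (Finset.mem_insert_of_mem ha) b
        (Finset.mem_insert_of_mem hb) hab)
        (fun a ha => hidem a (Finset.mem_insert_of_mem ha))
        (fun a ha => hr a (Finset.mem_insert_of_mem ha)),
      pm1_det_one_add_smul_idem (E i) (hidem i (Finset.mem_insert_self i s)) (c i - 1) (r i)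
        (hr i (Finset.mem_insert_self i s))]
    congr 2
    ring

theorem pm1_geom_zero {ξ : ℂ} {m : ℕ} (h1 : ξ ^ m = 1) (h2 : ξ ≠ 1) :
    ∑ k ∈ range m, ξ ^ k = 0 := by
  have h := geom_sum_mul ξ m
  rw [h1, sub_self] at h
  rcases mul_eq_zero.mp h with h3 | h3
  · exact h3
  · exact absurd (sub_eq_zero.mp h3) h2

theorem pm1_det_of_trace_pow (A : Module.End ℂ V) (m r : ℕ) (hm : 0 < m) (hAm : A ^ m = 1)
    (htr : ∀ k, 0 < k → k < m → LinearMap.trace ℂ V (A ^ k) = 0)
    (hdim : Module.finrank ℂ V = m * r) (ω : ℂ) (hω : IsPrimitiveRoot ω m) :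
    LinearMap.det A = (∏ j ∈ range m, ω ^ j) ^ r := by
  classical
  have hmC : (m : ℂ) ≠ 0 := by exact_mod_cast hm.ne'
  have hω0 : ω ≠ 0 := hω.ne_zero hm.ne'
  have hωm : ω ^ m = 1 := hω.pow_eq_one
  -- the operators
  obtain ⟨F, hF⟩ : ∃ F : ℕ → Module.End ℂ V,
      F = fun j => ∑ k ∈ range m, ((ω ^ j)⁻¹ • A) ^ k := ⟨_, rfl⟩
  have hB : ∀ j, ((ω ^ j)⁻¹ • A) ^ m = 1 := by
    intro j
    rw [smul_pow, hAm, inv_pow, ← pow_mul, mul_comm, pow_mul, hωm, one_pow, inv_one, one_smul]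
  have hBF : ∀ j, ((ω ^ j)⁻¹ • A) * F j = F j := by
    intro j
    have h := mul_geom_sum ((ω ^ j)⁻¹ • A) m
    rw [hB j, sub_self, sub_mul, one_mul, sub_eq_zero] at h
    rw [hF]
    exact h
  have hAF : ∀ j, A * F j = (ω ^ j) • F j := by
    intro j
    have h := hBF j
    rw [smul_mul_assoc] at h
    have h2 : (ω ^ j) • ((ω ^ j)⁻¹ • (A * F j)) = (ω ^ j) • F j := by rw [h]
    rw [smul_smul, mul_inv_cancel₀ (pow_ne_zero j hω0), one_smul] at h2
    exact h2
  have hAkF : ∀ j k, A ^ k * F j = ((ω ^ j) ^ k) • F j := by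
    intro j k
    induction k with
    | zero => simp
    | succ k ih =>
      rw [pow_succ, mul_assoc, hAF j, mul_smul_comm, ih, smul_smul]
      congr 1
      ring
  have hFF : ∀ i j, F i * F j = (∑ k ∈ range m, ((ω ^ i)⁻¹ * ω ^ j) ^ k) • F j := by
    intro i j
    have hFi : F i = ∑ k ∈ range m, ((ω ^ i)⁻¹ • A) ^ k := by rw [hF]
    rw [hFi, Finset.sum_mul, Finset.sum_smul]
    apply Finset.sum_congr rfl
    intro k _
    rw [smul_pow, smul_mul_assoc, hAkF j k, smul_smul, mul_pow]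
  have hFF_ne : ∀ i ∈ range m, ∀ j ∈ range m, i ≠ j → F i * F j = 0 := by
    intro i hi j hj hij
    rw [hFF i j, pm1_geom_zero (ξ := (ω ^ i)⁻¹ * ω ^ j), zero_smul]
    · rw [mul_pow, inv_pow, ← pow_mul, ← pow_mul, mul_comm i m, mul_comm j m, pow_mul, pow_mul,
        hωm, one_pow, one_pow, inv_one, one_mul]
    · intro h
      have h2 : ω ^ j = ω ^ i := by
        have h3 : ω ^ i * ((ω ^ i)⁻¹ * ω ^ j) = ω ^ i * 1 := by rw [h]
        rw [← mul_assoc, mul_inv_cancel₀ (pow_ne_zero i hω0), one_mul, mul_one] at h3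
        exact h3
      exact hij (hω.pow_inj (Finset.mem_range.mp hi) (Finset.mem_range.mp hj) h2.symm)
  have hFF_self : ∀ j, F j * F j = (m : ℂ) • F j := by
    intro j
    rw [hFF j j, inv_mul_cancel₀ (pow_ne_zero j hω0)]
    simp
  have hFsum : ∑ j ∈ range m, F j = (m : ℂ) • (1 : Module.End ℂ V) := by
    have hFj : ∀ j, F j = ∑ k ∈ range m, ((ω ^ j)⁻¹ • A) ^ k := fun j => by rw [hF]
    rw [Finset.sum_congr rfl (fun j _ => hFj j), Finset.sum_comm]
    have hterm : ∀ k ∈ range m, ∑ j ∈ range m, ((ω ^ j)⁻¹ • A) ^ k =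
        (∑ j ∈ range m, ((ω ^ k)⁻¹) ^ j) • A ^ k := by
      intro k _
      rw [Finset.sum_smul]
      apply Finset.sum_congr rfl
      intro j _
      rw [smul_pow, inv_pow, inv_pow, ← pow_mul, ← pow_mul, mul_comm]
    rw [Finset.sum_congr rfl hterm]
    rw [← Finset.add_sum_erase (range m) _ (Finset.mem_range.mpr hm)]
    have hz : ∑ k ∈ (range m).erase 0, (∑ j ∈ range m, ((ω ^ k)⁻¹) ^ j) • A ^ k = 0 := by
      apply Finset.sum_eq_zero
      intro k hk
      have hk0 : k ≠ 0 := (Finset.mem_erase.mp hk).1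
      have hkm : k < m := Finset.mem_range.mp (Finset.mem_erase.mp hk).2
      rw [pm1_geom_zero (ξ := (ω ^ k)⁻¹), zero_smul]
      · rw [inv_pow, ← pow_mul, mul_comm, pow_mul, hωm, one_pow, inv_one]
      · intro h
        have h2 : ω ^ k = 1 := by
          rw [inv_eq_one] at h
          exact h
        exact hω.pow_ne_one_of_pos_of_lt hk0 hkm h2
    rw [hz, add_zero]
    simp
  have hFtr : ∀ j, LinearMap.trace ℂ V (F j) = (m : ℂ) * (r : ℂ) := by
    intro j
    have hFj : F j = ∑ k ∈ range m, ((ω ^ j)⁻¹ • A) ^ k := by rw [hF]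
    rw [hFj, map_sum, ← Finset.add_sum_erase (range m) _ (Finset.mem_range.mpr hm)]
    have hz : ∑ k ∈ (range m).erase 0, LinearMap.trace ℂ V (((ω ^ j)⁻¹ • A) ^ k) = 0 := by
      apply Finset.sum_eq_zero
      intro k hk
      have hk0 : k ≠ 0 := (Finset.mem_erase.mp hk).1
      have hkm : k < m := Finset.mem_range.mp (Finset.mem_erase.mp hk).2
      rw [smul_pow, map_smul, htr k (Nat.pos_of_ne_zero hk0) hkm, smul_zero]
    rw [hz, add_zero, pow_zero, LinearMap.trace_one, hdim]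
    push_cast
    ring
  -- the idempotents
  obtain ⟨E, hEdef⟩ : ∃ E : ℕ → Module.End ℂ V, E = fun j => (m : ℂ)⁻¹ • F j := ⟨_, rfl⟩
  have hE : ∀ j, E j = (m : ℂ)⁻¹ • F j := fun j => by rw [hEdef]
  have hEorth : ∀ i ∈ range m, ∀ j ∈ range m, i ≠ j → E i * E j = 0 := by
    intro i hi j hj hij
    rw [hE i, hE j, smul_mul_smul_comm, hFF_ne i hi j hj hij, smul_zero]
  have hEidem : ∀ j ∈ range m, E j * E j = E j := by
    intro j _
    rw [hE j, smul_mul_smul_comm, hFF_self j, smul_smul, mul_assoc, inv_mul_cancel₀ hmC, mul_one]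
  have hEtr : ∀ j ∈ range m, LinearMap.trace ℂ V (E j) = r := by
    intro j _
    rw [hE j, map_smul, hFtr j, smul_eq_mul, ← mul_assoc, inv_mul_cancel₀ hmC, one_mul]
  have hEsum : ∑ j ∈ range m, E j = 1 := by
    have : ∑ j ∈ range m, E j = (m : ℂ)⁻¹ • ∑ j ∈ range m, F j := by
      rw [Finset.smul_sum]
      exact Finset.sum_congr rfl (fun j _ => hE j)
    rw [this, hFsum, smul_smul, inv_mul_cancel₀ hmC, one_smul]
  have hAE : ∀ j, A * E j = (ω ^ j) • E j := by
    intro j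
    rw [hE j, mul_smul_comm, hAF j, smul_comm]
  have hA : A = 1 + ∑ j ∈ range m, (ω ^ j - 1) • E j := by
    have h1 : A = ∑ j ∈ range m, (ω ^ j) • E j := by
      calc A = A * ∑ j ∈ range m, E j := by rw [hEsum, mul_one]
        _ = ∑ j ∈ range m, (ω ^ j) • E j := by
          rw [Finset.mul_sum]
          exact Finset.sum_congr rfl (fun j _ => hAE j)
    have h2 : ∑ j ∈ range m, (ω ^ j - 1) • E j =
        ∑ j ∈ range m, (ω ^ j) • E j - ∑ j ∈ range m, E j := by
      rw [← Finset.sum_sub_distrib]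
      apply Finset.sum_congr rfl
      intro j _
      rw [sub_smul, one_smul]
    rw [h2, hEsum, ← h1]
    abel
  rw [hA, pm1_det_sum_idem (range m) E hEorth hEidem (fun j => ω ^ j) (fun _ => r) hEtr,
    Finset.prod_pow]

theorem pm1_det_eq_neg_one (A : Module.End ℂ V) (m' r : ℕ) (hm' : 0 < m')
    (hAm : A ^ (2 * m') = 1)
    (htr : ∀ k, 0 < k → k < 2 * m' → LinearMap.trace ℂ V (A ^ k) = 0)
    (hdim : Module.finrank ℂ V = 2 * m' * r) (hr : Odd r) : LinearMap.det A = -1 := by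
  have hm : 0 < 2 * m' := by omega
  obtain ⟨ω, hω⟩ : ∃ ω : ℂ, IsPrimitiveRoot ω (2 * m') :=
    ⟨_, Complex.isPrimitiveRoot_exp (2 * m') hm.ne'⟩
  rw [pm1_det_of_trace_pow A (2 * m') r hm hAm htr hdim ω hω, Finset.prod_pow_eq_pow_sum]
  have hsum : ∑ j ∈ range (2 * m'), j = m' * (2 * m' - 1) := by
    have h := Finset.sum_range_id_mul_two (2 * m')
    have h2 : (∑ j ∈ range (2 * m'), j) * 2 = (m' * (2 * m' - 1)) * 2 := by
      rw [h]
      ring
    exact Nat.eq_of_mul_eq_mul_right (by norm_num) h2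
  have hneg : ω ^ m' = -1 := by
    have h1 : (ω ^ m') ^ 2 = 1 := by
      rw [← pow_mul, mul_comm]
      exact hω.pow_eq_one
    have h1' : ω ^ m' * ω ^ m' = 1 := by rw [← sq]; exact h1
    rcases mul_self_eq_one_iff.mp h1' with h2 | h2
    · exact absurd h2 (hω.pow_ne_one_of_pos_of_lt hm'.ne' (by omega))
    · exact h2
  rw [hsum, pow_mul, hneg, ← pow_mul]
  have hodd : Odd ((2 * m' - 1) * r) := by
    apply Odd.mul _ hr
    exact ⟨m' - 1, by omega⟩
  exact hodd.neg_one_pow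

end LinAlg

end Cfsg.Agent.helper24
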