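import Mathlib
import Cfsg.Agent.Lib_helper24_CharCount

/-!
Group theory for S4508 (helper24): `x` of prime order `p` with `C_G(x) = ⟨x⟩`.

* `pm1_zpowers_eq`, `pm1_centralizer_eq` : nontrivial elements of `P = ⟨x⟩` generate `P` and have
  centralizer `P`;
* `pm1_exists_sylow`, `pm1_conj_into` : `P` is a Sylow subgroup; elements of order `p` are conjugate
  into `P`;
* `pm1_mem_normalizer_iff`, `pm1_card_fusion` : the normalizer and the size of fusion classes in `P`;
* `pm1_count` : sums of class functions over `P` and over the elements of order `p`;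
* `pm1_exists_two_elt` : a `2`-element of the normalizer of prescribed order;
* `pm1_two` : the case `p = 2` (Burnside transfer).
-/

set_option autoImplicit false

namespace Cfsg.Agent.helper24

open Cfsg

universe u

section PM1Grp
variable {G : Type u} [Group G] [Finite G]

omit [Finite G] in
theorem pm1_mem_centralizer_singleton (g u : G) :
    g ∈ Subgroup.centralizer ({u} : Set G) ↔ u * g = g * u := by
  rw [Subgroup.mem_centralizer_iff]
  simp

theorem pm1_orderOf_conj (z g : G) : orderOf (z * g * z⁻¹) = orderOf g := by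
  have h := orderOf_injective (MulAut.conj z).toMonoidHom (MulAut.conj z).injective g
  simpa [MulAut.conj_apply] using h

theorem pm1_orderOf_of_mem {p : ℕ} (hp : p.Prime) {x u : G} (hx : orderOf x = p)
    (hu : u ∈ Subgroup.zpowers x) (hu1 : u ≠ 1) : orderOf u = p := by
  have hdvd : orderOf u ∣ p := by
    have := Subgroup.orderOf_dvd_natCard (Subgroup.zpowers x) hu
    rwa [Nat.card_zpowers, hx] at this
  rcases (Nat.dvd_prime hp).mp hdvd with h | h
  · exact absurd (orderOf_eq_one_iff.mp h) hu1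
  · exact h

theorem pm1_zpowers_eq {p : ℕ} (hp : p.Prime) {x u : G} (hx : orderOf x = p)
    (hu : u ∈ Subgroup.zpowers x) (hu1 : u ≠ 1) : Subgroup.zpowers u = Subgroup.zpowers x := by
  have hle : Subgroup.zpowers u ≤ Subgroup.zpowers x := Subgroup.zpowers_le.mpr hu
  apply Subgroup.eq_of_le_of_card_ge hle
  rw [Nat.card_zpowers, Nat.card_zpowers, hx, pm1_orderOf_of_mem hp hx hu hu1]

theorem pm1_ne_one {p : ℕ} (hp : p.Prime) {x : G} (hx : orderOf x = p) : x ≠ 1 := by
  intro h
  rw [h, orderOf_one] at hx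
  exact hp.one_lt.ne hx

theorem pm1_centralizer_eq {p : ℕ} (hp : p.Prime) {x u : G} (hx : orderOf x = p)
    (hC : Subgroup.centralizer ({x} : Set G) = Subgroup.zpowers x)
    (hu : u ∈ Subgroup.zpowers x) (hu1 : u ≠ 1) :
    Subgroup.centralizer ({u} : Set G) = Subgroup.zpowers x := by
  have hz := pm1_zpowers_eq hp hx hu hu1
  have hxu : x ∈ Subgroup.zpowers u := by
    rw [hz]
    exact Subgroup.mem_zpowers x
  rw [← hC]
  ext g
  rw [pm1_mem_centralizer_singleton, pm1_mem_centralizer_singleton]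
  constructor
  · intro h
    obtain ⟨k, rfl⟩ := Subgroup.mem_zpowers_iff.mp hxu
    have hc : Commute u g := h
    exact (hc.zpow_left k)
  · intro h
    obtain ⟨k, rfl⟩ := Subgroup.mem_zpowers_iff.mp hu
    have hc : Commute x g := h
    exact (hc.zpow_left k)

theorem pm1_exists_sylow {p : ℕ} (hp : p.Prime) {x : G} (hx : orderOf x = p)
    (hC : Subgroup.centralizer ({x} : Set G) = Subgroup.zpowers x) :
    ∃ Q : Sylow p G, (Q : Subgroup G) = Subgroup.zpowers x := by
  have : Fact p.Prime := ⟨hp⟩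
  have hPp : IsPGroup p (Subgroup.zpowers x) :=
    IsPGroup.of_card (n := 1) (by rw [Nat.card_zpowers, hx, pow_one])
  obtain ⟨Q, hQ⟩ := hPp.exists_le_sylow
  refine ⟨Q, le_antisymm ?_ hQ⟩
  have hxQ : x ∈ (Q : Subgroup G) := hQ (Subgroup.mem_zpowers x)
  have hx1 := pm1_ne_one hp hx
  have : Nontrivial (Q : Subgroup G) :=
    ⟨⟨⟨x, hxQ⟩, 1, fun h => hx1 (congrArg Subtype.val h)⟩⟩
  have : Nontrivial (Subgroup.center (Q : Subgroup G)) := IsPGroup.center_nontrivial Q.isPGroup'
  obtain ⟨c, hc1⟩ := exists_ne (1 : Subgroup.center (Q : Subgroup G))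
  have hc := Subgroup.mem_center_iff.mp c.2
  have hc0 : ((c : (Q : Subgroup G)) : G) ≠ 1 := by
    intro h
    apply hc1
    apply Subtype.ext
    apply Subtype.ext
    exact h
  have hcx : ((c : (Q : Subgroup G)) : G) ∈ Subgroup.zpowers x := by
    rw [← hC, pm1_mem_centralizer_singleton]
    have := hc ⟨x, hxQ⟩
    exact congrArg Subtype.val this
  have hz := pm1_zpowers_eq hp hx hcx hc0
  intro q hq
  rw [← hC, pm1_mem_centralizer_singleton]
  have hxc : x ∈ Subgroup.zpowers ((c : (Q : Subgroup G)) : G) := by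
    rw [hz]
    exact Subgroup.mem_zpowers x
  obtain ⟨k, hk⟩ := Subgroup.mem_zpowers_iff.mp hxc
  have h1 : ((c : (Q : Subgroup G)) : G) * q = q * ((c : (Q : Subgroup G)) : G) := by
    have := hc ⟨q, hq⟩
    exact (congrArg Subtype.val this).symm
  have hcm : Commute ((c : (Q : Subgroup G)) : G) q := h1
  rw [← hk]
  exact hcm.zpow_left k

theorem pm1_conj_into {p : ℕ} (hp : p.Prime) {x : G} (hx : orderOf x = p)
    (hC : Subgroup.centralizer ({x} : Set G) = Subgroup.zpowers x) {g : G}
    (hg : orderOf g = p) : ∃ z : G, z⁻¹ * g * z ∈ Subgroup.zpowers x := by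
  have : Fact p.Prime := ⟨hp⟩
  obtain ⟨Q, hQ⟩ := pm1_exists_sylow hp hx hC
  have hgp : IsPGroup p (Subgroup.zpowers g) :=
    IsPGroup.of_card (n := 1) (by rw [Nat.card_zpowers, hg, pow_one])
  obtain ⟨Q', hQ'⟩ := hgp.exists_le_sylow
  obtain ⟨z, hz⟩ := MulAction.exists_smul_eq G Q Q'
  refine ⟨z, ?_⟩
  have hgQ' : g ∈ (Q' : Subgroup G) := hQ' (Subgroup.mem_zpowers g)
  rw [← hz, Sylow.coe_subgroup_smul, Subgroup.mem_smul_pointwise_iff_exists] at hgQ'
  obtain ⟨s, hs, hsg⟩ := hgQ'
  rw [MulAut.smul_def, MulAut.conj_apply] at hsg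
  rw [hQ] at hs
  have : z⁻¹ * g * z = s := by
    rw [← hsg]
    group
  rw [this]
  exact hs

theorem pm1_mem_normalizer_iff {p : ℕ} (hp : p.Prime) {x : G} (hx : orderOf x = p) (w : G) :
    w ∈ (Subgroup.normalizer (Subgroup.zpowers x : Set G)) ↔ w * x * w⁻¹ ∈ Subgroup.zpowers x := by
  constructor
  · intro h
    exact (Subgroup.mem_normalizer_iff.mp h x).mp (Subgroup.mem_zpowers x)
  · intro h
    have hx1 := pm1_ne_one hp hx
    have hu1 : w * x * w⁻¹ ≠ 1 := by
      intro h1
      apply hx1
      have h2 : x = w⁻¹ * (w * x * w⁻¹) * w := by group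
      rw [h2, h1]
      group
    have hz := pm1_zpowers_eq hp hx h hu1
    have hfw : ∀ a ∈ Subgroup.zpowers x, w * a * w⁻¹ ∈ Subgroup.zpowers x := by
      intro a ha
      obtain ⟨k, rfl⟩ := Subgroup.mem_zpowers_iff.mp ha
      rw [← conj_zpow]
      exact Subgroup.zpow_mem _ h k
    have hbw : ∀ a ∈ Subgroup.zpowers x, w⁻¹ * a * w ∈ Subgroup.zpowers x := by
      intro a ha
      rw [← hz] at ha
      obtain ⟨k, rfl⟩ := Subgroup.mem_zpowers_iff.mp ha
      have h2 : w⁻¹ * (w * x * w⁻¹) ^ k * w = x ^ k := by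
        rw [conj_zpow]
        group
      rw [h2]
      exact Subgroup.zpow_mem _ (Subgroup.mem_zpowers x) k
    rw [Subgroup.mem_normalizer_iff]
    intro a
    constructor
    · exact hfw a
    · intro ha
      have h3 := hbw _ ha
      have h2 : w⁻¹ * (w * a * w⁻¹) * w = a := by group
      rwa [h2] at h3

theorem pm1_card_fusion {p : ℕ} (hp : p.Prime) {x : G} (hx : orderOf x = p)
    (hC : Subgroup.centralizer ({x} : Set G) = Subgroup.zpowers x) (e : ℕ)
    (he : Nat.card (Subgroup.normalizer (Subgroup.zpowers x : Set G)) = p * e) {u₀ : G}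
    (hu₀ : u₀ ∈ Subgroup.zpowers x) (hu₀1 : u₀ ≠ 1) :
    Nat.card {u : Subgroup.zpowers x // IsConj (u : G) u₀} = e := by
  have hPN : Subgroup.zpowers x ≤ (Subgroup.normalizer (Subgroup.zpowers x : Set G)) := Subgroup.le_normalizer
  have h1 := card_conj_mul_card_centralizer
    (G := (Subgroup.normalizer (Subgroup.zpowers x : Set G))) ⟨u₀, hPN hu₀⟩
  have hcu := pm1_centralizer_eq hp hx hC hu₀ hu₀1
  have hcent : Nat.card (Subgroup.centralizer
      ({(⟨u₀, hPN hu₀⟩ : (Subgroup.normalizer (Subgroup.zpowers x : Set G)))} :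
        Set (Subgroup.normalizer (Subgroup.zpowers x : Set G)))) = p := by
    rw [← hx, ← Nat.card_zpowers x]
    apply Nat.card_congr
    refine
      { toFun := fun c => ⟨((c : (Subgroup.normalizer (Subgroup.zpowers x : Set G))) : G), ?_⟩
        invFun := fun v => ⟨⟨(v : G), hPN v.2⟩, ?_⟩
        left_inv := fun c => rfl
        right_inv := fun v => rfl }
    · have h3 : ((c : (Subgroup.normalizer (Subgroup.zpowers x : Set G))) : G) ∈
          Subgroup.centralizer ({u₀} : Set G) := by
        rw [pm1_mem_centralizer_singleton]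
        have := (pm1_mem_centralizer_singleton _ _).mp c.2
        exact congrArg Subtype.val this
      rw [hcu] at h3
      exact h3
    · rw [pm1_mem_centralizer_singleton]
      apply Subtype.ext
      have hv : (v : G) ∈ Subgroup.centralizer ({u₀} : Set G) := by
        rw [hcu]
        exact v.2
      exact (pm1_mem_centralizer_singleton _ _).mp hv
  have hconj : Nat.card {n' : (Subgroup.normalizer (Subgroup.zpowers x : Set G)) //
      IsConj n' (⟨u₀, hPN hu₀⟩ : (Subgroup.normalizer (Subgroup.zpowers x : Set G)))} =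
      Nat.card {u : Subgroup.zpowers x // IsConj (u : G) u₀} := by
    apply Nat.card_congr
    refine
      { toFun := fun n' => ⟨⟨((n' : (Subgroup.normalizer (Subgroup.zpowers x : Set G))) : G), ?_⟩, ?_⟩
        invFun := fun u => ⟨⟨((u : Subgroup.zpowers x) : G), hPN u.1.2⟩, ?_⟩
        left_inv := fun n' => rfl
        right_inv := fun u => rfl }
    · obtain ⟨c, hc⟩ := isConj_iff.mp n'.2
      have hc' : (c : G) * ((n' : (Subgroup.normalizer (Subgroup.zpowers x : Set G))) : G) * (c : G)⁻¹ = u₀ :=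
        congrArg Subtype.val hc
      have h3 : (c : G)⁻¹ * u₀ * (c : G)⁻¹⁻¹ ∈ Subgroup.zpowers x :=
        (Subgroup.mem_normalizer_iff.mp (inv_mem c.2) u₀).mp hu₀
      have h2 : (c : G)⁻¹ * u₀ * (c : G)⁻¹⁻¹ =
          ((n' : (Subgroup.normalizer (Subgroup.zpowers x : Set G))) : G) :=
        calc (c : G)⁻¹ * u₀ * (c : G)⁻¹⁻¹
            = (c : G)⁻¹ * ((c : G) *
                ((n' : (Subgroup.normalizer (Subgroup.zpowers x : Set G))) : G) * (c : G)⁻¹) *
                (c : G)⁻¹⁻¹ := by rw [hc']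
          _ = ((n' : (Subgroup.normalizer (Subgroup.zpowers x : Set G))) : G) := by group
      rw [← h2]
      exact h3
    · obtain ⟨c, hc⟩ := isConj_iff.mp n'.2
      exact isConj_iff.mpr ⟨(c : G), congrArg Subtype.val hc⟩
    · obtain ⟨c, hc⟩ := isConj_iff.mp u.2
      have hu1 : ((u : Subgroup.zpowers x) : G) ≠ 1 := by
        intro h
        rw [h] at hc
        apply hu₀1
        rw [← hc]
        group
      have hzu := pm1_zpowers_eq hp hx u.1.2 hu1
      have hxu : x ∈ Subgroup.zpowers ((u : Subgroup.zpowers x) : G) := by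
        rw [hzu]
        exact Subgroup.mem_zpowers x
      obtain ⟨k, hk⟩ := Subgroup.mem_zpowers_iff.mp hxu
      have hcN : c ∈ (Subgroup.normalizer (Subgroup.zpowers x : Set G)) := by
        rw [pm1_mem_normalizer_iff hp hx]
        have h5 : c * x * c⁻¹ = u₀ ^ k := by
          rw [← hk, ← conj_zpow, hc]
        rw [h5]
        exact Subgroup.zpow_mem _ hu₀ k
      exact isConj_iff.mpr ⟨⟨c, hcN⟩, Subtype.ext hc⟩
  rw [hconj, hcent, he, mul_comm] at h1
  exact Nat.eq_of_mul_eq_mul_left hp.pos h1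

open scoped Classical in
theorem pm1_count {R : Type*} [CommRing R] [Fintype G] {p : ℕ} (hp : p.Prime) {x : G}
    (hx : orderOf x = p)
    (hC : Subgroup.centralizer ({x} : Set G) = Subgroup.zpowers x) (e : ℕ)
    (he : Nat.card (Subgroup.normalizer (Subgroup.zpowers x : Set G)) = p * e) (φ : ConjClasses G → R) :
    (∑ u : Subgroup.zpowers x, (if (u : G) = 1 then 0 else φ (ConjClasses.mk (u : G)))) =
      (e : R) * ∑ C ∈ (Finset.univ.filter
        (fun C : ConjClasses G => ∃ g ∈ C.carrier, orderOf g = p)), φ C ∧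
    (p : R) * (∑ g : G, (if orderOf g = p then φ (ConjClasses.mk g) else 0)) =
      (Nat.card G : R) * ∑ C ∈ (Finset.univ.filter
        (fun C : ConjClasses G => ∃ g ∈ C.carrier, orderOf g = p)), φ C := by
  -- every class in `T` has a representative in `P`
  have hrep : ∀ C : ConjClasses G, (∃ g ∈ C.carrier, orderOf g = p) →
      ∃ u₀ : G, u₀ ∈ Subgroup.zpowers x ∧ u₀ ≠ 1 ∧ ConjClasses.mk u₀ = C := by
    intro C hCT
    obtain ⟨g, hgC, hg⟩ := hCT
    obtain ⟨z, hz⟩ := pm1_conj_into hp hx hC hg
    refine ⟨z⁻¹ * g * z, hz, ?_, ?_⟩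
    · intro h1
      have h2 : g = z * (z⁻¹ * g * z) * z⁻¹ := by group
      rw [h1] at h2
      have : g = 1 := by
        rw [h2]
        group
      exact pm1_ne_one hp hg this
    · rw [← ConjClasses.mem_carrier_iff_mk_eq.mp hgC, ConjClasses.mk_eq_mk_iff_isConj]
      refine isConj_iff.mpr ⟨z, ?_⟩
      group
  constructor
  · rw [← Finset.sum_fiberwise Finset.univ (fun u : Subgroup.zpowers x => ConjClasses.mk (u : G))]
    rw [Finset.mul_sum, Finset.sum_filter]
    apply Finset.sum_congr rfl
    intro C _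
    by_cases hCT : ∃ g ∈ C.carrier, orderOf g = p
    · rw [if_pos hCT]
      obtain ⟨u₀, hu₀, hu₀1, rfl⟩ := hrep C hCT
      have hterm : ∀ u ∈ Finset.univ.filter
          (fun u : Subgroup.zpowers x => ConjClasses.mk (u : G) = ConjClasses.mk u₀),
          (if (u : G) = 1 then 0 else φ (ConjClasses.mk (u : G))) = φ (ConjClasses.mk u₀) := by
        intro u hu
        have hu' := (Finset.mem_filter.mp hu).2
        have hu1 : (u : G) ≠ 1 := by
          intro h
          rw [h, ConjClasses.mk_eq_mk_iff_isConj, isConj_comm, isConj_one_left] at hu'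
          exact hu₀1 hu'
        rw [if_neg hu1, hu']
      rw [Finset.sum_congr rfl hterm, Finset.sum_const, nsmul_eq_mul]
      congr 2
      rw [← pm1_card_fusion hp hx hC e he hu₀ hu₀1, Nat.card_eq_fintype_card, Fintype.card_subtype]
      congr 1
      ext u
      simp only [Finset.mem_filter, Finset.mem_univ, true_and]
      exact ConjClasses.mk_eq_mk_iff_isConj
    · rw [if_neg hCT]
      apply Finset.sum_eq_zero
      intro u hu
      have hu' := (Finset.mem_filter.mp hu).2
      by_cases hu1 : (u : G) = 1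
      · rw [if_pos hu1]
      · exfalso
        apply hCT
        refine ⟨(u : G), ConjClasses.mem_carrier_iff_mk_eq.mpr hu', ?_⟩
        exact pm1_orderOf_of_mem hp hx u.2 hu1
  · rw [← Finset.sum_fiberwise Finset.univ (fun g : G => ConjClasses.mk g)]
    rw [Finset.mul_sum, Finset.mul_sum, Finset.sum_filter]
    apply Finset.sum_congr rfl
    intro C _
    by_cases hCT : ∃ g ∈ C.carrier, orderOf g = p
    · rw [if_pos hCT]
      obtain ⟨u₀, hu₀, hu₀1, rfl⟩ := hrep C hCT
      have hterm : ∀ g ∈ Finset.univ.filter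
          (fun g : G => ConjClasses.mk g = ConjClasses.mk u₀),
          (if orderOf g = p then φ (ConjClasses.mk g) else 0) = φ (ConjClasses.mk u₀) := by
        intro g hg
        have hg' := (Finset.mem_filter.mp hg).2
        have hgo : orderOf g = p := by
          obtain ⟨c, hc⟩ := isConj_iff.mp (ConjClasses.mk_eq_mk_iff_isConj.mp hg')
          rw [← pm1_orderOf_of_mem hp hx hu₀ hu₀1, ← hc, pm1_orderOf_conj]
        rw [if_pos hgo, hg']
      rw [Finset.sum_congr rfl hterm, Finset.sum_const, nsmul_eq_mul, ← mul_assoc]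
      congr 1
      have h1 := card_conj_mul_card_centralizer u₀
      rw [pm1_centralizer_eq hp hx hC hu₀ hu₀1, Nat.card_zpowers, hx] at h1
      have h2 : (Finset.univ.filter
          (fun g : G => ConjClasses.mk g = ConjClasses.mk u₀)).card =
          Nat.card {g : G // IsConj g u₀} := by
        rw [Nat.card_eq_fintype_card, Fintype.card_subtype]
        congr 1
        ext g
        simp only [Finset.mem_filter, Finset.mem_univ, true_and]
        exact ConjClasses.mk_eq_mk_iff_isConj
      rw [h2, ← h1]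
      push_cast
      ring
    · rw [if_neg hCT]
      rw [Finset.sum_eq_zero, mul_zero]
      intro g hg
      have hg' := (Finset.mem_filter.mp hg).2
      by_cases hgo : orderOf g = p
      · exfalso
        exact hCT ⟨g, ConjClasses.mem_carrier_iff_mk_eq.mpr hg', hgo⟩
      · rw [if_neg hgo]

theorem pm1_exists_two_elt {p : ℕ} (hp : p.Prime) (hp2 : p ≠ 2) {x : G} (hx : orderOf x = p)
    (hC : Subgroup.centralizer ({x} : Set G) = Subgroup.zpowers x) (k : ℕ)
    (hk : 2 ^ k ∣ Nat.card (Subgroup.normalizer (Subgroup.zpowers x : Set G))) :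
    ∃ y : G, y ∈ (Subgroup.normalizer (Subgroup.zpowers x : Set G)) ∧ orderOf y = 2 ^ k := by
  have : Fact p.Prime := ⟨hp⟩
  have : Fact (Nat.Prime 2) := ⟨Nat.prime_two⟩
  obtain ⟨K, hK⟩ := Sylow.exists_subgroup_card_pow_prime 2 hk
  have hex : ∀ n : (Subgroup.normalizer (Subgroup.zpowers x : Set G)), ∃ j : ℤ, x ^ j = (n : G) * x * (n : G)⁻¹ :=
    fun n => Subgroup.mem_zpowers_iff.mp
      ((Subgroup.mem_normalizer_iff.mp n.2 x).mp (Subgroup.mem_zpowers x))
  choose kf hkf using hex
  have hcast : ∀ a b : ℤ, x ^ a = x ^ b → ((a : ℤ) : ZMod p) = ((b : ℤ) : ZMod p) := by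
    intro a b hab
    rw [zpow_eq_zpow_iff_modEq, hx] at hab
    exact (ZMod.intCast_eq_intCast_iff a b p).mpr hab
  obtain ⟨κ, hκ⟩ : ∃ κ : (Subgroup.normalizer (Subgroup.zpowers x : Set G)) →* ZMod p,
      ∀ n, κ n = ((kf n : ℤ) : ZMod p) := by
    refine ⟨
      { toFun := fun n => ((kf n : ℤ) : ZMod p)
        map_one' := ?_
        map_mul' := ?_ }, fun n => rfl⟩
    · have h1 : x ^ (kf 1) = x ^ (1 : ℤ) := by
        rw [hkf 1, zpow_one]
        simp
      have := hcast _ _ h1
      rw [this, Int.cast_one]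
    · intro n n'
      have h1 : x ^ (kf (n * n')) = x ^ (kf n * kf n') := by
        rw [hkf (n * n'), zpow_mul, hkf n, conj_zpow, hkf n']
        simp only [Subgroup.coe_mul, mul_inv_rev]
        group
      have := hcast _ _ h1
      rw [this, Int.cast_mul]
  have hinj : Function.Injective (κ.comp K.subtype) := by
    rw [injective_iff_map_eq_one]
    intro a ha
    have ha' : ((kf (a : (Subgroup.normalizer (Subgroup.zpowers x : Set G))) : ℤ) : ZMod p) = ((1 : ℤ) : ZMod p) := by
      rw [Int.cast_one, ← hκ]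
      exact ha
    have h1 : (kf (a : (Subgroup.normalizer (Subgroup.zpowers x : Set G)))) ≡ 1 [ZMOD (p : ℤ)] :=
      (ZMod.intCast_eq_intCast_iff _ _ p).mp ha'
    have h2 : x ^ (kf (a : (Subgroup.normalizer (Subgroup.zpowers x : Set G)))) = x ^ (1 : ℤ) := by
      rw [zpow_eq_zpow_iff_modEq, hx]
      exact h1
    rw [hkf, zpow_one] at h2
    have haC : ((a : (Subgroup.normalizer (Subgroup.zpowers x : Set G))) : G) ∈
        Subgroup.centralizer ({x} : Set G) := by
      rw [pm1_mem_centralizer_singleton]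
      have h3 : ((a : (Subgroup.normalizer (Subgroup.zpowers x : Set G))) : G) * x *
          ((a : (Subgroup.normalizer (Subgroup.zpowers x : Set G))) : G)⁻¹ *
          ((a : (Subgroup.normalizer (Subgroup.zpowers x : Set G))) : G) =
          x * ((a : (Subgroup.normalizer (Subgroup.zpowers x : Set G))) : G) := by rw [h2]
      rw [← h3]
      group
    have haP : ((a : (Subgroup.normalizer (Subgroup.zpowers x : Set G))) : G) ∈
        Subgroup.zpowers x := by
      rw [hC] at haC
      exact haC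
    have ho1 : orderOf ((a : (Subgroup.normalizer (Subgroup.zpowers x : Set G))) : G) ∣ p := by
      have := Subgroup.orderOf_dvd_natCard (Subgroup.zpowers x) haP
      rwa [Nat.card_zpowers, hx] at this
    have ho2 : orderOf ((a : (Subgroup.normalizer (Subgroup.zpowers x : Set G))) : G) ∣ 2 ^ k := by
      rw [Subgroup.orderOf_coe, Subgroup.orderOf_coe, ← hK]
      exact orderOf_dvd_natCard a
    have hcop : Nat.Coprime p (2 ^ k) := by
      apply Nat.Coprime.pow_right
      rw [Nat.coprime_primes hp Nat.prime_two]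
      exact hp2
    have ho3 : orderOf ((a : (Subgroup.normalizer (Subgroup.zpowers x : Set G))) : G) = 1 :=
      Nat.eq_one_of_dvd_coprimes hcop ho1 ho2
    have h4 : ((a : (Subgroup.normalizer (Subgroup.zpowers x : Set G))) : G) = 1 := orderOf_eq_one_iff.mp ho3
    apply Subtype.ext
    apply Subtype.ext
    exact h4
  have : IsCyclic K := isCyclic_of_subgroup_isDomain (κ.comp K.subtype) hinj
  obtain ⟨g₀, hg₀⟩ := IsCyclic.exists_generator (α := K)
  refine ⟨((g₀ : (Subgroup.normalizer (Subgroup.zpowers x : Set G))) : G), (g₀ : (Subgroup.normalizer (Subgroup.zpowers x : Set G))).2, ?_⟩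
  rw [Subgroup.orderOf_coe, Subgroup.orderOf_coe, orderOf_eq_card_of_forall_mem_zpowers hg₀, hK]

theorem pm1_two {x : G} (hx : orderOf x = 2)
    (hC : Subgroup.centralizer ({x} : Set G) = Subgroup.zpowers x) :
    Even (commutator G).index := by
  have : Fact (Nat.Prime 2) := ⟨Nat.prime_two⟩
  obtain ⟨Q, hQ⟩ := pm1_exists_sylow Nat.prime_two hx hC
  have hmemP : ∀ a ∈ Subgroup.zpowers x, a = 1 ∨ a = x := by
    intro a ha
    obtain ⟨k, rfl⟩ := Subgroup.mem_zpowers_iff.mp ha
    rw [← zpow_mod_orderOf, hx]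
    have h1 : k % 2 = 0 ∨ k % 2 = 1 := Int.emod_two_eq_zero_or_one k
    rcases h1 with h1 | h1
    · left
      rw [show k % ((2 : ℕ) : ℤ) = 0 from h1, zpow_zero]
    · right
      rw [show k % ((2 : ℕ) : ℤ) = 1 from h1, zpow_one]
  have hP : Subgroup.normalizer ((Q : Subgroup G) : Set G) ≤ Subgroup.centralizer ((Q : Subgroup G) : Set G) := by
    intro w hw
    rw [hQ] at hw ⊢
    have h1 := (pm1_mem_normalizer_iff Nat.prime_two hx w).mp hw
    have hwx : w * x * w⁻¹ = x := by
      rcases hmemP _ h1 with h2 | h2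
      · exfalso
        apply pm1_ne_one Nat.prime_two hx
        have h3 : x = w⁻¹ * (w * x * w⁻¹) * w := by group
        rw [h3, h2]
        group
      · exact h2
    rw [Subgroup.mem_centralizer_iff]
    intro a ha
    rcases hmemP a ha with h2 | h2
    · rw [h2, one_mul, mul_one]
    · rw [h2]
      have : x * w = w * x * w⁻¹ * w := by rw [hwx]
      rw [this]
      group
  have hcompl := MonoidHom.ker_transferSylow_isComplement' Q hP
  have hidx : (MonoidHom.transferSylow Q hP).ker.index = 2 := by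
    rw [hcompl.symm.index_eq_card, hQ, Nat.card_zpowers, hx]
  have hcommQ : ∀ a b : (Q : Subgroup G), a * b = b * a := by
    intro a b
    apply Subtype.ext
    have ha : (a : G) ∈ Subgroup.zpowers x := hQ ▸ a.2
    have hb : (b : G) ∈ Subgroup.zpowers x := hQ ▸ b.2
    obtain ⟨i, hi⟩ := Subgroup.mem_zpowers_iff.mp ha
    obtain ⟨j, hj⟩ := Subgroup.mem_zpowers_iff.mp hb
    rw [Subgroup.coe_mul, Subgroup.coe_mul, ← hi, ← hj, ← zpow_add, ← zpow_add, add_comm]
  have hcomm : commutator G ≤ (MonoidHom.transferSylow Q hP).ker := by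
    rw [commutator_def, Subgroup.commutator_le]
    intro a _ b _
    rw [MonoidHom.mem_ker, map_commutatorElement, commutatorElement_eq_one_iff_commute]
    exact hcommQ _ _
  have hdvd := Subgroup.index_dvd_of_le hcomm
  rw [hidx] at hdvd
  exact even_iff_two_dvd.mpr hdvd

end PM1Grp

end Cfsg.Agent.helper24
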