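import Mathlib
import Cfsg.Agent.Lib_helper24_PM1a
import Cfsg.Agent.Lib_helper24_PM1b
import Cfsg.Agent.Lib_helper24_CharValues
import Cfsg.Agent.Lib_helper24_CharIntegral
import Cfsg.Agent.Lib_helper24_Inertia
import Cfsg.Agent.Lib_helper12_CharOps

/-!
Character theory for S4508 (helper24): `x` of prime order `p` with `C_G(x) = ⟨x⟩ = P`, `χ` irreducible
of degree `p - 1`.

* `pm1_sum_zero` : if `|N_G(P) : P| = e ≥ 2` then `∑_{u ∈ P} χ u = 0` (Leonard-type inequality plus
  integrality);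
* `pm1_vanish` : then `χ` vanishes on `N_G(P) \ P`;
* `pm1_main` : `t` is even or `|G : G'|` is even.
-/

set_option autoImplicit false

namespace Cfsg.Agent.helper24

open Cfsg
open scoped ComplexConjugate

universe u

section PM1Char
variable {G : Type u} [Group G] [Finite G]

open scoped Classical in
theorem pm1_split {R : Type*} [CommRing R] [Fintype G] (x : G) (f : Subgroup.zpowers x → R) :
    ∑ u : Subgroup.zpowers x, f u =
      f 1 + ∑ u : Subgroup.zpowers x, (if (u : G) = 1 then 0 else f u) := by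
  have h1 : ∀ u : Subgroup.zpowers x, f u =
      (if u = 1 then f 1 else 0) + (if (u : G) = 1 then 0 else f u) := by
    intro u
    by_cases hu : u = 1
    · have hu' : (u : G) = 1 := by rw [hu]; rfl
      rw [if_pos hu, if_pos hu', add_zero, hu]
    · have hu' : ¬ (u : G) = 1 := fun h => hu (Subtype.ext h)
      rw [if_neg hu, if_neg hu', zero_add]
  rw [Finset.sum_congr rfl (fun u _ => h1 u), Finset.sum_add_distrib, Finset.sum_ite_eq']
  simp

theorem pm1_proj_zero {V : Type*} [AddCommGroup V] [Module ℂ V] [FiniteDimensional ℂ V]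
    (E : Module.End ℂ V) (c : ℂ) (hc : c ≠ 0) (hE : E * E = c • E)
    (htr : LinearMap.trace ℂ V E = 0) : E = 0 := by
  obtain ⟨E', hE'⟩ : ∃ E' : Module.End ℂ V, E' = c⁻¹ • E := ⟨_, rfl⟩
  have hidem : IsIdempotentElem E' := by
    show E' * E' = E'
    rw [hE', smul_mul_smul_comm, hE, smul_smul, mul_assoc, inv_mul_cancel₀ hc, mul_one]
  obtain ⟨q, hq⟩ := (LinearMap.isProj_iff_isIdempotentElem E').mpr hidem
  have h1 := hq.trace
  have h2 : LinearMap.trace ℂ V E' = 0 := by rw [hE', map_smul, htr, smul_zero]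
  rw [h2] at h1
  have h3 : Module.finrank ℂ q = 0 := by exact_mod_cast h1.symm
  have h4 : q = ⊥ := Submodule.finrank_eq_zero.mp h3
  have h5 : E' = 0 := by
    apply LinearMap.ext
    intro v
    have := hq.map_mem v
    rw [h4, Submodule.mem_bot] at this
    exact this
  have h6 : E = c • E' := by rw [hE', smul_smul, mul_inv_cancel₀ hc, one_smul]
  rw [h6, h5, smul_zero]

open scoped Classical in
theorem pm1_vanish [Fintype G] {p : ℕ} (hp : p.Prime) {x : G} (hx : orderOf x = p)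
    (hC : Subgroup.centralizer ({x} : Set G) = Subgroup.zpowers x) {n : ℕ}
    (ρ : Representation ℂ G (Fin n → ℂ)) (hE : ∑ u : Subgroup.zpowers x, ρ (u : G) = 0)
    {z : G} (hzN : z ∈ Subgroup.normalizer (Subgroup.zpowers x : Set G))
    (hzP : z ∉ Subgroup.zpowers x) : ρ.character z = 0 := by
  have hmem : ∀ v : Subgroup.zpowers x, z⁻¹ * (v : G)⁻¹ * z * (v : G) ∈ Subgroup.zpowers x := by
    intro v
    have h1 : z⁻¹ * (v : G)⁻¹ * z⁻¹⁻¹ ∈ Subgroup.zpowers x :=
      (Subgroup.mem_normalizer_iff.mp (inv_mem hzN) _).mp (inv_mem v.2)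
    rw [inv_inv] at h1
    exact mul_mem h1 v.2
  have hinj : Function.Injective (fun v : Subgroup.zpowers x =>
      (⟨z⁻¹ * (v : G)⁻¹ * z * (v : G), hmem v⟩ : Subgroup.zpowers x)) := by
    intro v w hvw
    have h1 : z⁻¹ * (v : G)⁻¹ * z * (v : G) = z⁻¹ * (w : G)⁻¹ * z * (w : G) :=
      congrArg Subtype.val hvw
    by_contra hne
    have hc1 : (w : G) * (v : G)⁻¹ ≠ 1 := by
      intro h
      apply hne
      apply Subtype.ext
      rw [mul_inv_eq_one] at h
      exact h.symm
    have hcP : (w : G) * (v : G)⁻¹ ∈ Subgroup.zpowers x := mul_mem w.2 (inv_mem v.2)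
    have h2 : (v : G)⁻¹ * z * (v : G) = (w : G)⁻¹ * z * (w : G) := by
      have h3 : z * (z⁻¹ * (v : G)⁻¹ * z * (v : G)) = z * (z⁻¹ * (w : G)⁻¹ * z * (w : G)) := by
        rw [h1]
      have h4 : z * (z⁻¹ * (v : G)⁻¹ * z * (v : G)) = (v : G)⁻¹ * z * (v : G) := by group
      have h5 : z * (z⁻¹ * (w : G)⁻¹ * z * (w : G)) = (w : G)⁻¹ * z * (w : G) := by group
      rw [← h4, h3, h5]
    have hcomm : ((w : G) * (v : G)⁻¹) * z = z * ((w : G) * (v : G)⁻¹) :=
      calc ((w : G) * (v : G)⁻¹) * z = (w : G) * ((v : G)⁻¹ * z * (v : G)) * (v : G)⁻¹ := by group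
        _ = (w : G) * ((w : G)⁻¹ * z * (w : G)) * (v : G)⁻¹ := by rw [h2]
        _ = z * ((w : G) * (v : G)⁻¹) := by group
    have hzc : z ∈ Subgroup.centralizer ({(w : G) * (v : G)⁻¹} : Set G) :=
      (pm1_mem_centralizer_singleton _ _).mpr hcomm
    rw [pm1_centralizer_eq hp hx hC hcP hc1] at hzc
    exact hzP hzc
  have hsurj := Finite.injective_iff_surjective.mp hinj
  have hconst : ∀ u : Subgroup.zpowers x, ρ.character (z * (u : G)) = ρ.character z := by
    intro u
    obtain ⟨v, hv⟩ := hsurj u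
    have hv' : z⁻¹ * (v : G)⁻¹ * z * (v : G) = (u : G) := congrArg Subtype.val hv
    have h1 : z * (u : G) = (v : G)⁻¹ * z * (v : G)⁻¹⁻¹ := by
      rw [← hv']
      group
    rw [h1, Representation.char_conj]
  have hsum : ∑ u : Subgroup.zpowers x, ρ.character (z * (u : G)) = 0 := by
    have h1 : ∑ u : Subgroup.zpowers x, ρ.character (z * (u : G)) =
        LinearMap.trace ℂ (Fin n → ℂ) (ρ z * ∑ u : Subgroup.zpowers x, ρ (u : G)) := by
      rw [Finset.mul_sum, map_sum]
      apply Finset.sum_congr rfl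
      intro u _
      show LinearMap.trace ℂ (Fin n → ℂ) (ρ (z * (u : G))) = _
      rw [map_mul]
    rw [h1, hE, mul_zero, map_zero]
  rw [Finset.sum_congr rfl (fun u _ => hconst u), Finset.sum_const, Finset.card_univ,
    nsmul_eq_mul] at hsum
  rcases mul_eq_zero.mp hsum with h | h
  · exfalso
    have h1 : (Fintype.card (Subgroup.zpowers x) : ℂ) ≠ 0 := by
      exact_mod_cast Fintype.card_ne_zero
    exact h1 h
  · exact h

open scoped Classical in
theorem pm1_et [Fintype G] {p : ℕ} (hp : p.Prime) {x : G} (hx : orderOf x = p)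
    (hC : Subgroup.centralizer ({x} : Set G) = Subgroup.zpowers x) (e : ℕ)
    (he : Nat.card (Subgroup.normalizer (Subgroup.zpowers x : Set G)) = p * e) :
    p = 1 + e * (Finset.univ.filter
      (fun C : ConjClasses G => ∃ g ∈ C.carrier, orderOf g = p)).card := by
  have h1 := (pm1_count (R := ℂ) hp hx hC e he (fun _ => 1)).1
  have h2 := pm1_split (R := ℂ) x (fun _ => 1)
  rw [h1, Finset.sum_const, Finset.sum_const, Finset.card_univ, nsmul_eq_mul, nsmul_eq_mul,
    mul_one, mul_one, ← Nat.card_eq_fintype_card, Nat.card_zpowers, hx] at h2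
  exact_mod_cast h2

open scoped Classical in
theorem pm1_sum_zero [Fintype G] {p : ℕ} (hp : p.Prime) {x : G} (hx : orderOf x = p)
    (hC : Subgroup.centralizer ({x} : Set G) = Subgroup.zpowers x) (e : ℕ)
    (he : Nat.card (Subgroup.normalizer (Subgroup.zpowers x : Set G)) = p * e) (he2 : 2 ≤ e)
    {χ : G → ℂ} (hχ : IsIrrCharacter G χ) (hdeg : χ 1 = ((p - 1 : ℕ) : ℂ)) :
    ∑ u : Subgroup.zpowers x, χ (u : G) = 0 := by
  have hχc := irr_isCharacter hχ
  have hp2 : 2 ≤ p := hp.two_le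
  have hcardP : Fintype.card (Subgroup.zpowers x) = p := by
    rw [← Nat.card_eq_fintype_card, Nat.card_zpowers, hx]
  obtain ⟨φ₁, hφ₁⟩ := exists_lift_classFunction (char_isClassFunction hχc)
  obtain ⟨t', ht'⟩ : ∃ t' : ℕ, t' = (Finset.univ.filter
      (fun C : ConjClasses G => ∃ g ∈ C.carrier, orderOf g = p)).card := ⟨_, rfl⟩
  have het : p = 1 + e * t' := by
    rw [ht']
    exact pm1_et hp hx hC e he
  -- integrality
  have hcountχ := (pm1_count (R := ℂ) hp hx hC e he φ₁).1
  simp only [hφ₁] at hcountχ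
  obtain ⟨S₁, hS₁⟩ : ∃ S₁ : ℂ, S₁ = ∑ C ∈ (Finset.univ.filter
      (fun C : ConjClasses G => ∃ g ∈ C.carrier, orderOf g = p)), φ₁ C := ⟨_, rfl⟩
  rw [← hS₁] at hcountχ
  have hS₁int : IsIntegral ℤ S₁ := by
    rw [hS₁]
    apply IsIntegral.sum
    intro C _
    obtain ⟨g, rfl⟩ := ConjClasses.mk_surjective C
    rw [hφ₁]
    exact char_isIntegral hχc g
  have hsplitχ := pm1_split (R := ℂ) x (fun u => χ (u : G))
  rw [hcountχ] at hsplitχ
  have hone : χ ((1 : Subgroup.zpowers x) : G) = ((p - 1 : ℕ) : ℂ) := by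
    rw [← hdeg]
    rfl
  rw [hone] at hsplitχ
  -- decomposition on `P`
  have hψ : IsCharacter (Subgroup.zpowers x) (fun u : Subgroup.zpowers x => χ (u : G)) :=
    helper12.isCharacter_restrict (Subgroup.zpowers x) hχc
  have : Fintype (IrrCharacter (Subgroup.zpowers x)) := Fintype.ofFinite _
  obtain ⟨nμ, hexp, hin, hnorm⟩ := helper12.char_decomp hψ
  obtain ⟨triv, htriv⟩ : ∃ triv : IrrCharacter (Subgroup.zpowers x),
      (triv : Subgroup.zpowers x → ℂ) = fun _ => 1 := ⟨⟨fun _ => 1, isIrrCharacter_one⟩, rfl⟩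
  obtain ⟨m₀, hm₀⟩ : ∃ m₀ : ℕ, m₀ = nμ triv := ⟨_, rfl⟩
  have hI : ∑ u : Subgroup.zpowers x, χ (u : G) = (p : ℂ) * (m₀ : ℂ) := by
    have h1 := hin triv
    unfold classInner at h1
    rw [htriv, Nat.card_eq_fintype_card, hcardP] at h1
    simp only [map_one, mul_one] at h1
    rw [hm₀, ← h1, ← mul_assoc, mul_inv_cancel₀ (by exact_mod_cast hp.ne_zero), one_mul]
  have hII : ∑ u : Subgroup.zpowers x, χ (u : G) * conj (χ (u : G)) =
      (p : ℂ) * ((∑ μ : IrrCharacter (Subgroup.zpowers x), nμ μ ^ 2 : ℕ) : ℂ) := by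
    have h1 := hnorm
    unfold classInner at h1
    rw [Nat.card_eq_fintype_card, hcardP] at h1
    rw [← h1, ← mul_assoc, mul_inv_cancel₀ (by exact_mod_cast hp.ne_zero), one_mul]
  have hcommP : ∀ a b : Subgroup.zpowers x, a * b = b * a := by
    intro a b
    apply Subtype.ext
    obtain ⟨i, hi⟩ := Subgroup.mem_zpowers_iff.mp a.2
    obtain ⟨j, hj⟩ := Subgroup.mem_zpowers_iff.mp b.2
    rw [Subgroup.coe_mul, Subgroup.coe_mul, ← hi, ← hj, ← zpow_add, ← zpow_add, add_comm]
  have hμ1 : ∀ μ : IrrCharacter (Subgroup.zpowers x), (μ : Subgroup.zpowers x → ℂ) 1 = 1 := by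
    intro μ
    have h1 := irr_degree_eq_one_of_comm hcommP μ
    have h2 := char_charDegree_cast (irr_isCharacter μ.2)
    rw [h1] at h2
    rw [← h2]
    simp
  have hIII : ∑ μ : IrrCharacter (Subgroup.zpowers x), nμ μ = p - 1 := by
    have h1 := congrFun hexp 1
    simp only [Finset.sum_apply, Pi.smul_apply, smul_eq_mul, hμ1, mul_one] at h1
    rw [hone] at h1
    exact_mod_cast h1.symm
  have hIV : m₀ ^ 2 + (p - 1) ≤ (∑ μ : IrrCharacter (Subgroup.zpowers x), nμ μ ^ 2) + m₀ := by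
    rw [← hIII, ← Finset.add_sum_erase Finset.univ (fun μ => nμ μ) (Finset.mem_univ triv),
      ← Finset.add_sum_erase Finset.univ (fun μ => nμ μ ^ 2) (Finset.mem_univ triv), ← hm₀]
    have h1 : ∑ μ ∈ Finset.univ.erase triv, nμ μ ≤ ∑ μ ∈ Finset.univ.erase triv, nμ μ ^ 2 := by
      apply Finset.sum_le_sum
      intro μ _
      exact Nat.le_self_pow (by norm_num) _
    omega
  -- Leonard-type inequality
  have hself := irr_classInner_self hχ
  unfold classInner at hself
  have hGpos : (0 : ℝ) < (Nat.card G : ℝ) := by exact_mod_cast Nat.card_pos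
  have hselfR : ∑ g : G, Complex.normSq (χ g) = (Nat.card G : ℝ) := by
    have h1 : ∑ g : G, χ g * conj (χ g) = (Nat.card G : ℂ) := by
      have hne : (Nat.card G : ℂ) ≠ 0 := by exact_mod_cast Nat.card_pos.ne'
      have h2 : (Nat.card G : ℂ) * ((Nat.card G : ℂ)⁻¹ * ∑ g : G, χ g * conj (χ g)) =
          (Nat.card G : ℂ) * 1 := by rw [hself]
      rw [← mul_assoc, mul_inv_cancel₀ hne, one_mul, mul_one] at h2
      exact h2
    have h3 : ((∑ g : G, Complex.normSq (χ g) : ℝ) : ℂ) = ((Nat.card G : ℝ) : ℂ) := by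
      rw [Complex.ofReal_sum]
      simp only [← Complex.mul_conj]
      rw [h1]
      simp
    exact_mod_cast h3
  have hcount2 := pm1_count (R := ℝ) hp hx hC e he (fun C => Complex.normSq (φ₁ C))
  simp only [hφ₁] at hcount2
  obtain ⟨S₂, hS₂⟩ : ∃ S₂ : ℝ, S₂ = ∑ C ∈ (Finset.univ.filter
      (fun C : ConjClasses G => ∃ g ∈ C.carrier, orderOf g = p)), Complex.normSq (φ₁ C) :=
    ⟨_, rfl⟩
  rw [← hS₂] at hcount2
  obtain ⟨hc2a, hc2b⟩ := hcount2
  have hF1 : Complex.normSq (χ 1) = ((p : ℝ) - 1) ^ 2 := by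
    rw [hdeg, Complex.normSq_natCast, Nat.cast_sub hp.one_lt.le]
    push_cast
    ring
  have hdrop : (∑ g : G, (if orderOf g = p then Complex.normSq (χ g) else 0)) +
      Complex.normSq (χ 1) ≤ ∑ g : G, Complex.normSq (χ g) := by
    have h1 : ∑ g : G, Complex.normSq (χ g) =
        (∑ g : G, (if orderOf g = p then Complex.normSq (χ g) else 0)) +
        ∑ g : G, (if orderOf g = p then 0 else Complex.normSq (χ g)) := by
      rw [← Finset.sum_add_distrib]
      apply Finset.sum_congr rfl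
      intro g _
      by_cases hg : orderOf g = p
      · rw [if_pos hg, if_pos hg, add_zero]
      · rw [if_neg hg, if_neg hg, zero_add]
    rw [h1]
    have h2 : (if orderOf (1 : G) = p then 0 else Complex.normSq (χ 1)) ≤
        ∑ g : G, (if orderOf g = p then 0 else Complex.normSq (χ g)) := by
      apply Finset.single_le_sum (f := fun g : G =>
        (if orderOf g = p then (0 : ℝ) else Complex.normSq (χ g))) _ (Finset.mem_univ 1)
      intro g _
      show (0 : ℝ) ≤ (if orderOf g = p then (0 : ℝ) else Complex.normSq (χ g))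
      split_ifs
      · exact le_refl 0
      · exact Complex.normSq_nonneg _
    have h3 : ¬ orderOf (1 : G) = p := by
      rw [orderOf_one]
      exact hp.one_lt.ne
    rw [if_neg h3] at h2
    linarith
  have hsplit2 := pm1_split (R := ℝ) x (fun u => Complex.normSq (χ (u : G)))
  rw [hc2a] at hsplit2
  have hone2 : Complex.normSq (χ ((1 : Subgroup.zpowers x) : G)) = ((p : ℝ) - 1) ^ 2 := hF1
  rw [hone2] at hsplit2
  have hIIR : ∑ u : Subgroup.zpowers x, Complex.normSq (χ (u : G)) =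
      (p : ℝ) * ((∑ μ : IrrCharacter (Subgroup.zpowers x), nμ μ ^ 2 : ℕ) : ℝ) := by
    have h3 : ((∑ u : Subgroup.zpowers x, Complex.normSq (χ (u : G)) : ℝ) : ℂ) =
        (((p : ℝ) * ((∑ μ : IrrCharacter (Subgroup.zpowers x), nμ μ ^ 2 : ℕ) : ℝ) : ℝ) : ℂ) := by
      rw [Complex.ofReal_sum]
      simp only [← Complex.mul_conj]
      rw [hII]
      push_cast
      ring
    exact_mod_cast h3
  -- real arithmetic
  obtain ⟨sq₂, hsq₂⟩ : ∃ sq₂ : ℕ, sq₂ = ∑ μ : IrrCharacter (Subgroup.zpowers x), nμ μ ^ 2 := ⟨_, rfl⟩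
  rw [← hsq₂] at hIIR hIV
  have hpR : (2 : ℝ) ≤ (p : ℝ) := by exact_mod_cast hp2
  have heR : (2 : ℝ) ≤ (e : ℝ) := by exact_mod_cast he2
  have hIVR : (m₀ : ℝ) ^ 2 + ((p : ℝ) - 1) ≤ (sq₂ : ℝ) + (m₀ : ℝ) := by
    have h1 : ((m₀ ^ 2 + (p - 1) : ℕ) : ℝ) ≤ ((sq₂ + m₀ : ℕ) : ℝ) := by exact_mod_cast hIV
    rw [Nat.cast_add, Nat.cast_add, Nat.cast_pow, Nat.cast_sub hp.one_lt.le] at h1
    simpa using h1
  have hS₂lt : S₂ < (p : ℝ) := by
    have h1 : (Nat.card G : ℝ) * S₂ ≤ (p : ℝ) * ((Nat.card G : ℝ) - ((p : ℝ) - 1) ^ 2) := by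
      rw [← hc2b]
      apply mul_le_mul_of_nonneg_left _ (by linarith)
      linarith
    have h2 : (0 : ℝ) < (p : ℝ) * ((p : ℝ) - 1) ^ 2 := by
      apply mul_pos (by linarith)
      apply pow_pos
      linarith
    have h3 : (Nat.card G : ℝ) * S₂ < (Nat.card G : ℝ) * (p : ℝ) := by nlinarith
    exact lt_of_mul_lt_mul_left h3 hGpos.le
  have hkey : (m₀ : ℝ) ^ 2 - (m₀ : ℝ) < (e : ℝ) := by
    have h1 : (p : ℝ) * (sq₂ : ℝ) < ((p : ℝ) - 1) ^ 2 + (e : ℝ) * (p : ℝ) := by
      rw [← hIIR, hsplit2]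
      have : (e : ℝ) * S₂ < (e : ℝ) * (p : ℝ) := mul_lt_mul_of_pos_left hS₂lt (by linarith)
      linarith
    have h2 : (p : ℝ) * ((m₀ : ℝ) ^ 2 + ((p : ℝ) - 1) - (m₀ : ℝ)) ≤ (p : ℝ) * (sq₂ : ℝ) := by
      apply mul_le_mul_of_nonneg_left _ (by linarith)
      linarith
    by_contra hcon
    push Not at hcon
    have h3 : (p : ℝ) * (e : ℝ) ≤ (p : ℝ) * ((m₀ : ℝ) ^ 2 - (m₀ : ℝ)) :=
      mul_le_mul_of_nonneg_left hcon (by linarith)
    nlinarith
  -- divisibility
  have hdiv : e ∣ m₀ := by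
    have he0 : e ≠ 0 := by omega
    have heC : (e : ℂ) ≠ 0 := by exact_mod_cast he0
    have h1 : (p : ℂ) * (m₀ : ℂ) = (e : ℂ) * ((t' : ℂ) + S₁) := by
      rw [← hI, hsplitχ]
      have h2 : ((p - 1 : ℕ) : ℂ) = (e : ℂ) * (t' : ℂ) := by
        have : p - 1 = e * t' := by omega
        rw [this]
        push_cast
        ring
      rw [h2]
      ring
    have hint : IsIntegral ℤ ((t' : ℂ) + S₁) := by
      apply IsIntegral.add _ hS₁int
      have h3 : IsIntegral ℤ (algebraMap ℤ ℂ (t' : ℤ)) := isIntegral_algebraMap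
      simpa using h3
    have h4 : ((p * m₀ : ℕ) : ℂ) / ((e : ℕ) : ℂ) = (t' : ℂ) + S₁ := by
      rw [Nat.cast_mul, h1, mul_div_assoc, mul_comm, div_mul_cancel₀]
      · exact heC
    rw [← h4] at hint
    have h5 := dvd_of_isIntegral_div he0 hint
    have hcop : Nat.Coprime e p := by
      rw [Nat.coprime_comm, Nat.Prime.coprime_iff_not_dvd hp]
      intro hpe
      have h6 : p ∣ e * t' := Dvd.dvd.mul_right hpe t'
      have h7 : 0 < e * t' := by omega
      have := Nat.le_of_dvd h7 h6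
      omega
    exact hcop.dvd_of_dvd_mul_left h5
  have hm0 : m₀ = 0 := by
    by_contra hne
    have h1 : e ≤ m₀ := Nat.le_of_dvd (Nat.pos_of_ne_zero hne) hdiv
    have h1R : (e : ℝ) ≤ (m₀ : ℝ) := by exact_mod_cast h1
    nlinarith
  rw [hI, hm0]
  simp

end PM1Char

end Cfsg.Agent.helper24

namespace Cfsg.Agent.helper24

open Cfsg
open scoped ComplexConjugate

universe u

section PM1Main
variable {G : Type u} [Group G] [Finite G]

theorem pm1_main (p : ℕ) (hp : p.Prime) (x : G) (hx : orderOf x = p)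
    (hC : Subgroup.centralizer ({x} : Set G) = Subgroup.zpowers x) (t : ℕ)
    (ht : Nat.card {C : ConjClasses G // ∃ g ∈ C.carrier, orderOf g = p} = t)
    (χ : G → ℂ) (hχ : IsIrrCharacter G χ) (hdeg : χ 1 = ((p - 1 : ℕ) : ℂ)) :
    Even t ∨ Even (commutator G).index := by
  classical
  have := Fintype.ofFinite G
  by_cases hp2 : p = 2
  · right
    subst hp2
    exact pm1_two hx hC
  -- `p` odd
  have hPN : Subgroup.zpowers x ≤ Subgroup.normalizer (Subgroup.zpowers x : Set G) :=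
    Subgroup.le_normalizer
  obtain ⟨e, he⟩ : ∃ e : ℕ, Nat.card (Subgroup.normalizer (Subgroup.zpowers x : Set G)) = p * e := by
    have h1 := Subgroup.card_dvd_of_le hPN
    rw [Nat.card_zpowers, hx] at h1
    exact h1
  have het := pm1_et hp hx hC e he
  have htcard : (Finset.univ.filter
      (fun C : ConjClasses G => ∃ g ∈ C.carrier, orderOf g = p)).card = t := by
    rw [← ht, Nat.card_eq_fintype_card, Fintype.card_subtype]
  rw [htcard] at het
  by_cases hte : Even t
  · left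
    exact hte
  right
  have hto : Odd t := Nat.not_even_iff_odd.mp hte
  have hpodd : Odd p := hp.odd_of_ne_two hp2
  have hp3 : 3 ≤ p := by
    have := hp.two_le
    omega
  have het' : e * t = p - 1 := by omega
  have heven : Even e := by
    have h1 : Even (e * t) := by
      rw [het']
      obtain ⟨k, hk⟩ := hpodd
      exact ⟨k, by omega⟩
    rcases Nat.even_mul.mp h1 with h2 | h2
    · exact h2
    · exact absurd h2 hte
  have he2 : 2 ≤ e := by
    obtain ⟨k, hk⟩ := heven
    have : e ≠ 0 := by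
      intro h0
      rw [h0] at het'
      omega
    omega
  obtain ⟨n, ρ, hρ, hρχ⟩ := id hχ
  have hn : n = p - 1 := by
    have h1 := congrFun hρχ 1
    rw [Representation.char_one, Module.finrank_fin_fun, hdeg] at h1
    exact_mod_cast h1
  -- `∑ ρ u = 0`
  have hsum0 := pm1_sum_zero hp hx hC e he he2 hχ hdeg
  have hcardP : Fintype.card (Subgroup.zpowers x) = p := by
    rw [← Nat.card_eq_fintype_card, Nat.card_zpowers, hx]
  have hE : ∑ u : Subgroup.zpowers x, ρ (u : G) = 0 := by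
    apply pm1_proj_zero _ (p : ℂ) (by exact_mod_cast hp.ne_zero)
    · rw [Finset.sum_mul]
      have h1 : ∀ u ∈ (Finset.univ : Finset (Subgroup.zpowers x)),
          ρ (u : G) * ∑ v : Subgroup.zpowers x, ρ (v : G) =
          ∑ v : Subgroup.zpowers x, ρ (v : G) := by
        intro u _
        rw [Finset.mul_sum]
        have h2 : ∀ v : Subgroup.zpowers x, ρ (u : G) * ρ (v : G) =
            ρ (((Equiv.mulLeft u) v : Subgroup.zpowers x) : G) := by
          intro v
          rw [← map_mul]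
          rfl
        rw [Finset.sum_congr rfl (fun v _ => h2 v)]
        exact Equiv.sum_comp (Equiv.mulLeft u) (fun w : Subgroup.zpowers x => ρ (w : G))
      rw [Finset.sum_congr rfl h1, Finset.sum_const, Finset.card_univ, hcardP]
      rw [← Nat.cast_smul_eq_nsmul ℂ]
    · rw [map_sum]
      have h1 : ∀ u : Subgroup.zpowers x,
          LinearMap.trace ℂ (Fin n → ℂ) (ρ (u : G)) = χ (u : G) := by
        intro u
        rw [← hρχ]
        rfl
      rw [Finset.sum_congr rfl (fun u _ => h1 u)]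
      exact hsum0
  -- the 2-element
  obtain ⟨k, r, hr, hkr⟩ := Nat.exists_eq_two_pow_mul_odd (n := p - 1) (by omega)
  have hk0 : k ≠ 0 := by
    intro h0
    rw [h0, pow_zero, one_mul] at hkr
    obtain ⟨a, ha⟩ := hr
    obtain ⟨b, hb⟩ := hpodd
    omega
  have hkdvd : 2 ^ k ∣ Nat.card (Subgroup.normalizer (Subgroup.zpowers x : Set G)) := by
    rw [he]
    apply Dvd.dvd.mul_left
    have h1 : 2 ^ k ∣ e * t := by
      rw [het', hkr]
      exact Dvd.intro _ rfl
    have hcop : Nat.Coprime (2 ^ k) t := by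
      apply Nat.Coprime.pow_left
      rw [Nat.coprime_comm]
      exact hto.coprime_two_right
    exact hcop.dvd_of_dvd_mul_right h1
  obtain ⟨y, hyN, hyo⟩ := pm1_exists_two_elt hp hp2 hx hC k hkdvd
  obtain ⟨m', hm'⟩ : ∃ m' : ℕ, 2 ^ k = 2 * m' := by
    obtain ⟨k', rfl⟩ := Nat.exists_eq_succ_of_ne_zero hk0
    exact ⟨2 ^ k', by rw [pow_succ]; ring⟩
  have hm'pos : 0 < m' := by
    have : 0 < 2 ^ k := pow_pos (by norm_num) k
    omega
  have hdet : LinearMap.det (ρ y) = -1 := by
    apply pm1_det_eq_neg_one (ρ y) m' r hm'pos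
    · rw [← hm', ← map_pow, ← hyo, pow_orderOf_eq_one, map_one]
    · intro j hj0 hjlt
      rw [← map_pow]
      have hyj : y ^ j ∈ Subgroup.normalizer (Subgroup.zpowers x : Set G) := pow_mem hyN j
      have hyjP : y ^ j ∉ Subgroup.zpowers x := by
        intro hmem
        have ho1 : orderOf (y ^ j) ∣ p := by
          have := Subgroup.orderOf_dvd_natCard (Subgroup.zpowers x) hmem
          rwa [Nat.card_zpowers, hx] at this
        have ho2 : orderOf (y ^ j) ∣ 2 ^ k := by
          rw [← hyo]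
          exact orderOf_pow_dvd j
        have hcop : Nat.Coprime p (2 ^ k) := by
          apply Nat.Coprime.pow_right
          rw [Nat.coprime_primes hp Nat.prime_two]
          exact hp2
        have ho3 : orderOf (y ^ j) = 1 := Nat.eq_one_of_dvd_coprimes hcop ho1 ho2
        have h4 : y ^ j = 1 := orderOf_eq_one_iff.mp ho3
        have h5 : orderOf y ∣ j := orderOf_dvd_of_pow_eq_one h4
        rw [hyo, hm'] at h5
        have := Nat.le_of_dvd hj0 h5
        omega
      exact pm1_vanish hp hx hC ρ hE hyj hyjP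
    · rw [Module.finrank_fin_fun, hn, hkr, hm']
    · exact hr
  -- the determinant character
  obtain ⟨D, hD⟩ : ∃ D : G →* ℂˣ, ∀ g, ((D g : ℂˣ) : ℂ) = LinearMap.det (ρ g) :=
    ⟨((LinearMap.det : ((Fin n → ℂ) →ₗ[ℂ] (Fin n → ℂ)) →* ℂ).comp ρ).toHomUnits, fun g => rfl⟩
  have h1 : (Abelianization.of y) ^ Nat.card (Abelianization G) = 1 := pow_card_eq_one'
  have h2 := congrArg (Abelianization.lift D) h1
  rw [map_pow, Abelianization.lift_apply_of, map_one] at h2
  have h3 : ((D y : ℂˣ) : ℂ) ^ Nat.card (Abelianization G) = 1 := by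
    rw [← Units.val_pow_eq_pow_val, h2]
    rfl
  rw [hD, hdet] at h3
  have h4 : Even (Nat.card (Abelianization G)) :=
    (neg_one_pow_eq_one_iff_even (by norm_num)).mp h3
  have h5 : (commutator G).index = Nat.card (Abelianization G) :=
    Subgroup.index_eq_card (commutator G)
  rw [h5]
  exact h4

end PM1Main

end Cfsg.Agent.helper24
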