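import Mathlib
import Cfsg.Agent.Lib_helper24_PM1c
import Cfsg.Agent.Lib_helper24_CharCount
import Cfsg.Agent.Lib_helper24_CharOrth
import Cfsg.Agent.Lib_helper23_Linear
import Cfsg.Agent.Lib_helper8_Ind
import Cfsg.Agent.Lib_helper24_Exc1

/-!
Exceptional characters (helper24), case `e = 2`: `x` of prime order `p` with `C_G(x) = ⟨x⟩ = P`
and `|N_G(P)| = 2p`.  Part A: the group `P`, its irreducible characters and fusion.
-/

set_option autoImplicit false

namespace Cfsg.Agent.helper24

open Cfsg
open scoped ComplexConjugate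

universe u

section ExcA
variable {G : Type u} [Group G] [Finite G]

omit [Finite G] in
theorem exc_comm (x : G) (a b : Subgroup.zpowers x) : a * b = b * a := by
  obtain ⟨i, hi⟩ := Subgroup.mem_zpowers_iff.mp a.2
  obtain ⟨j, hj⟩ := Subgroup.mem_zpowers_iff.mp b.2
  apply Subtype.ext
  rw [Subgroup.coe_mul, Subgroup.coe_mul, ← hi, ← hj, ← zpow_add, ← zpow_add, add_comm]

/-- conjugation by an element of the normalizer, as an automorphism of `⟨x⟩` -/
noncomputable def excConj (x z : G)
    (hz : z ∈ Subgroup.normalizer (Subgroup.zpowers x : Set G)) :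
    Subgroup.zpowers x ≃* Subgroup.zpowers x where
  toFun u := ⟨z * (u : G) * z⁻¹, (Subgroup.mem_normalizer_iff.mp hz _).mp u.2⟩
  invFun u := ⟨z⁻¹ * (u : G) * z, by
    have h := (Subgroup.mem_normalizer_iff.mp (inv_mem hz) _).mp u.2
    rwa [inv_inv] at h⟩
  left_inv u := by
    apply Subtype.ext
    show z⁻¹ * (z * (u : G) * z⁻¹) * z = u
    group
  right_inv u := by
    apply Subtype.ext
    show z * (z⁻¹ * (u : G) * z) * z⁻¹ = u
    group
  map_mul' u v := by
    apply Subtype.ext
    show z * ((u : G) * (v : G)) * z⁻¹ = (z * (u : G) * z⁻¹) * (z * (v : G) * z⁻¹)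
    group

omit [Finite G] in
theorem excConj_coe (x z : G) (hz : z ∈ Subgroup.normalizer (Subgroup.zpowers x : Set G))
    (u : Subgroup.zpowers x) : ((excConj x z hz u : Subgroup.zpowers x) : G) = z * (u : G) * z⁻¹ :=
  rfl

theorem exc_card_irr {p : ℕ} {x : G} (hx : orderOf x = p) :
    Nat.card (IrrCharacter (Subgroup.zpowers x)) = p := by
  have hbij : Function.Bijective
      (ConjClasses.mk : Subgroup.zpowers x → ConjClasses (Subgroup.zpowers x)) := by
    refine ⟨?_, ConjClasses.mk_surjective⟩
    intro a b hab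
    rw [ConjClasses.mk_eq_mk_iff_isConj] at hab
    obtain ⟨c, hc⟩ := isConj_iff.mp hab
    rw [← hc, exc_comm x c a, mul_inv_cancel_right]
  rw [card_irr_eq_card_conjClasses, ← Nat.card_congr (Equiv.ofBijective _ hbij),
    Nat.card_zpowers, hx]

theorem exc_irr_one (x : G) (ν : IrrCharacter (Subgroup.zpowers x)) :
    (ν : Subgroup.zpowers x → ℂ) 1 = 1 := by
  have h1 := irr_degree_eq_one_of_comm (exc_comm x) ν
  have h2 := char_charDegree_cast (irr_isCharacter ν.2)
  rw [h1] at h2
  exact_mod_cast h2.symm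

theorem exc_irr_mul (x : G) (ν : IrrCharacter (Subgroup.zpowers x)) (a b : Subgroup.zpowers x) :
    (ν : Subgroup.zpowers x → ℂ) (a * b) =
      (ν : Subgroup.zpowers x → ℂ) a * (ν : Subgroup.zpowers x → ℂ) b :=
  helper23.linear_char_mul (irr_isCharacter ν.2) (exc_irr_one x ν) a b

theorem exc_conj_ne {p : ℕ} (hp : p.Prime) {x : G} (hx : orderOf x = p)
    (hC : Subgroup.centralizer ({x} : Set G) = Subgroup.zpowers x) {z : G}
    (hz : z ∈ Subgroup.normalizer (Subgroup.zpowers x : Set G)) (hzP : z ∉ Subgroup.zpowers x)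
    (w : Subgroup.zpowers x) (hw : excConj x z hz w = w) : w = 1 := by
  by_contra hw1
  have hw1' : (w : G) ≠ 1 := fun h => hw1 (Subtype.ext h)
  have h1 : z * (w : G) * z⁻¹ = w := congrArg Subtype.val hw
  have h2 : z ∈ Subgroup.centralizer ({(w : G)} : Set G) := by
    rw [pm1_mem_centralizer_singleton]
    have : z * (w : G) = (w : G) * z := by
      calc z * (w : G) = z * (w : G) * z⁻¹ * z := by group
        _ = (w : G) * z := by rw [h1]
    exact this.symm
  rw [pm1_centralizer_eq hp hx hC w.2 hw1'] at h2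
  exact hzP h2

theorem exc_free {p : ℕ} (hp : p.Prime) {x : G} (hx : orderOf x = p)
    (hC : Subgroup.centralizer ({x} : Set G) = Subgroup.zpowers x) {z : G}
    (hz : z ∈ Subgroup.normalizer (Subgroup.zpowers x : Set G)) (hzP : z ∉ Subgroup.zpowers x)
    (ν : IrrCharacter (Subgroup.zpowers x))
    (h : ∀ u, (ν : Subgroup.zpowers x → ℂ) (excConj x z hz u) = (ν : Subgroup.zpowers x → ℂ) u) :
    ∀ u, (ν : Subgroup.zpowers x → ℂ) u = 1 := by
  have hinj : Function.Injective (fun u : Subgroup.zpowers x => excConj x z hz u * u⁻¹) := by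
    intro u v huv
    have huv' : excConj x z hz u * u⁻¹ = excConj x z hz v * v⁻¹ := huv
    have h1 : excConj x z hz (v⁻¹ * u) = v⁻¹ * u := by
      rw [map_mul, map_inv]
      have h2 : excConj x z hz u = excConj x z hz v * v⁻¹ * u := by
        rw [← huv']; group
      rw [h2]; group
    have h3 := exc_conj_ne hp hx hC hz hzP _ h1
    have : u = v * (v⁻¹ * u) := by group
    rw [this, h3, mul_one]
  have hsurj := Finite.injective_iff_surjective.mp hinj
  intro w
  obtain ⟨u, rfl⟩ := hsurj w
  show (ν : Subgroup.zpowers x → ℂ) (excConj x z hz u * u⁻¹) = 1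
  rw [exc_irr_mul, h u, ← exc_irr_mul, mul_inv_cancel, exc_irr_one]

/-- the conjugate of an irreducible character of `⟨x⟩` -/
noncomputable def excConjIrr (x z : G)
    (hz : z ∈ Subgroup.normalizer (Subgroup.zpowers x : Set G))
    (ν : IrrCharacter (Subgroup.zpowers x)) : IrrCharacter (Subgroup.zpowers x) :=
  ⟨fun u => (ν : Subgroup.zpowers x → ℂ) (excConj x z hz u),
    helper8.isIrrCharacter_comp_mulEquiv (excConj x z hz) ν.2⟩

omit [Finite G] in
theorem excConjIrr_injective (x z : G)
    (hz : z ∈ Subgroup.normalizer (Subgroup.zpowers x : Set G)) :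
    Function.Injective (excConjIrr x z hz) := by
  intro ν ν' h
  apply Subtype.ext
  funext w
  obtain ⟨u, rfl⟩ := (excConj x z hz).surjective w
  exact congrFun (congrArg Subtype.val h) u

open scoped Classical in
theorem exc_fusion_sum [Fintype G] {p : ℕ} (hp : p.Prime) {x : G} (hx : orderOf x = p)
    (hC : Subgroup.centralizer ({x} : Set G) = Subgroup.zpowers x)
    (he : Nat.card (Subgroup.normalizer (Subgroup.zpowers x : Set G)) = p * 2) {z : G}
    (hz : z ∈ Subgroup.normalizer (Subgroup.zpowers x : Set G)) (hzP : z ∉ Subgroup.zpowers x)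
    (u : Subgroup.zpowers x) (hu1 : (u : G) ≠ 1) (H : Subgroup.zpowers x → ℂ) :
    ∑ v : Subgroup.zpowers x, (if IsConj (u : G) (v : G) then H v else 0) =
      H u + H (excConj x z hz u) := by
  have hcard := pm1_card_fusion hp hx hC 2 he u.2 hu1
  rw [Nat.card_eq_fintype_card, Fintype.card_subtype] at hcard
  have hne : u ≠ excConj x z hz u := by
    intro h
    have := exc_conj_ne hp hx hC hz hzP u h.symm
    exact hu1 (by rw [this]; rfl)
  have hsub : ({u, excConj x z hz u} : Finset (Subgroup.zpowers x)) ⊆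
      Finset.univ.filter (fun w : Subgroup.zpowers x => IsConj (w : G) (u : G)) := by
    intro w hw
    rw [Finset.mem_insert, Finset.mem_singleton] at hw
    rw [Finset.mem_filter]
    refine ⟨Finset.mem_univ _, ?_⟩
    rcases hw with rfl | rfl
    · exact IsConj.refl _
    · rw [excConj_coe]
      exact (isConj_iff.mpr ⟨z, rfl⟩).symm
  have heq := Finset.eq_of_subset_of_card_le hsub (by rw [hcard, Finset.card_pair hne])
  have hfilter : Finset.univ.filter (fun v : Subgroup.zpowers x => IsConj (u : G) (v : G)) =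
      ({u, excConj x z hz u} : Finset (Subgroup.zpowers x)) := by
    rw [heq]
    apply Finset.filter_congr
    intro w _
    exact isConj_comm
  rw [← Finset.sum_filter, hfilter, Finset.sum_pair hne]

end ExcA

end Cfsg.Agent.helper24
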