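import Mathlib
import Cfsg.Agent.Lib_helper24_Exc2

/-!
Exceptional characters (helper24), case `e = 2`, part B: the integers
`c_ν(ψ) = [ψ_P, 1_P] - [ψ_P, ν]` and their Gram matrix.
-/

set_option autoImplicit false

namespace Cfsg.Agent.helper24

open Cfsg
open scoped ComplexConjugate

universe u

section ExcK
variable {A : Type u} [Group A] [Fintype A]

theorem exc_K {μ ν : A → ℂ} (hμ : IsIrrCharacter A μ) (hν : IsIrrCharacter A ν)
    (hμ1 : μ ≠ fun _ => 1) (hν1 : ν ≠ fun _ => 1) :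
    classInner ((fun _ => (1 : ℂ)) - ν) ((fun _ => (1 : ℂ)) - μ) = 1 + if ν = μ then 1 else 0 := by
  have h1 : IsIrrCharacter A (fun _ => (1 : ℂ)) := isIrrCharacter_one
  have e1 : classInner (fun _ => (1 : ℂ)) ((fun _ => (1 : ℂ)) - μ) = 1 := by
    rw [← classInner_conj_symm ((fun _ => (1 : ℂ)) - μ) (fun _ => (1 : ℂ)), classInner_sub_left,
      irr_classInner_self h1, irr_classInner_ne hμ h1 hμ1, sub_zero, map_one]
  have e2 : classInner ν ((fun _ => (1 : ℂ)) - μ) = -(if ν = μ then 1 else 0) := by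
    rw [← classInner_conj_symm ((fun _ => (1 : ℂ)) - μ) ν, classInner_sub_left,
      irr_classInner_ne h1 hν (Ne.symm hν1), irr_classInner hμ hν, zero_sub, map_neg]
    by_cases h : μ = ν
    · rw [if_pos h, if_pos h.symm, map_one]
    · rw [if_neg h, if_neg (fun h' => h h'.symm), map_zero]
  rw [classInner_sub_left, e1, e2, sub_neg_eq_add]

end ExcK

section ExcB
variable {G : Type u} [Group G] [Finite G]

open scoped Classical in
/-- `c_ν(ψ) = [ψ_P, 1_P] - [ψ_P, ν]` -/
noncomputable def excC [Fintype G] (x : G) (ψ : G → ℂ) (ν : Subgroup.zpowers x → ℂ) : ℂ :=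
  classInner (fun u : Subgroup.zpowers x => ψ (u : G)) (fun _ => 1) -
    classInner (fun u : Subgroup.zpowers x => ψ (u : G)) ν

open scoped Classical in
theorem excC_eq [Fintype G] {p : ℕ} {x : G} (hx : orderOf x = p) (ψ : G → ℂ)
    (ν : Subgroup.zpowers x → ℂ) :
    excC x ψ ν = (p : ℂ)⁻¹ * ∑ u : Subgroup.zpowers x, ψ (u : G) * conj (1 - ν u) := by
  unfold excC classInner
  rw [Nat.card_zpowers, hx, ← mul_sub, ← Finset.sum_sub_distrib]
  congr 1
  apply Finset.sum_congr rfl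
  intro u _
  show ψ (u : G) * conj (1 : ℂ) - ψ (u : G) * conj (ν u) = _
  rw [map_sub, map_one]
  ring

open scoped Classical in
theorem excC_conj [Fintype G] {p : ℕ} {x : G} (hx : orderOf x = p) (ψ : G → ℂ)
    (ν : Subgroup.zpowers x → ℂ) :
    conj (excC x ψ ν) =
      (p : ℂ)⁻¹ * ∑ v : Subgroup.zpowers x, conj (ψ (v : G)) * (1 - ν v) := by
  rw [excC_eq hx, map_mul, map_inv₀, map_natCast, map_sum]
  congr 1
  apply Finset.sum_congr rfl
  intro v _
  rw [map_mul, Complex.conj_conj]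

open scoped Classical in
theorem exc_pair [Fintype G] [Fintype (IrrCharacter G)] (x : G)
    (F H : Subgroup.zpowers x → ℂ) :
    ∑ ψ : IrrCharacter G, (∑ u : Subgroup.zpowers x, (ψ : G → ℂ) (u : G) * F u) *
        (∑ v : Subgroup.zpowers x, conj ((ψ : G → ℂ) (v : G)) * H v) =
      ∑ u : Subgroup.zpowers x, ∑ v : Subgroup.zpowers x, F u * H v *
        (if IsConj (u : G) (v : G) then
          (Nat.card (Subgroup.centralizer ({(v : G)} : Set G)) : ℂ) else 0) := by
  have h1 : ∀ ψ : IrrCharacter G, (∑ u : Subgroup.zpowers x, (ψ : G → ℂ) (u : G) * F u) *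
        (∑ v : Subgroup.zpowers x, conj ((ψ : G → ℂ) (v : G)) * H v) =
      ∑ u : Subgroup.zpowers x, ∑ v : Subgroup.zpowers x,
        F u * H v * ((ψ : G → ℂ) (u : G) * conj ((ψ : G → ℂ) (v : G))) := by
    intro ψ
    rw [Finset.sum_mul_sum]
    apply Finset.sum_congr rfl; intro u _
    apply Finset.sum_congr rfl; intro v _
    ring
  rw [Finset.sum_congr rfl (fun ψ _ => h1 ψ), Finset.sum_comm]
  apply Finset.sum_congr rfl; intro u _
  rw [Finset.sum_comm]
  apply Finset.sum_congr rfl; intro v _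
  rw [← Finset.mul_sum, irr_column_orthogonality (u : G) (v : G)]
  by_cases hc : IsConj (u : G) (v : G)
  · rw [if_pos hc, if_pos hc]
  · rw [if_neg hc, if_neg hc]

open scoped Classical in
theorem exc_inner [Fintype G] {p : ℕ} (hp : p.Prime) {x : G} (hx : orderOf x = p)
    (hC : Subgroup.centralizer ({x} : Set G) = Subgroup.zpowers x)
    (he : Nat.card (Subgroup.normalizer (Subgroup.zpowers x : Set G)) = p * 2) {z : G}
    (hz : z ∈ Subgroup.normalizer (Subgroup.zpowers x : Set G)) (hzP : z ∉ Subgroup.zpowers x)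
    (u : Subgroup.zpowers x) (F0 : ℂ) (hF : (u : G) = 1 → F0 = 0) (H : Subgroup.zpowers x → ℂ) :
    ∑ v : Subgroup.zpowers x, F0 * H v *
        (if IsConj (u : G) (v : G) then
          (Nat.card (Subgroup.centralizer ({(v : G)} : Set G)) : ℂ) else 0) =
      (p : ℂ) * F0 * (H u + H (excConj x z hz u)) := by
  by_cases hu : (u : G) = 1
  · rw [hF hu]
    simp
  · have h1 : ∀ v : Subgroup.zpowers x, F0 * H v *
        (if IsConj (u : G) (v : G) then
          (Nat.card (Subgroup.centralizer ({(v : G)} : Set G)) : ℂ) else 0) =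
        if IsConj (u : G) (v : G) then (p : ℂ) * F0 * H v else 0 := by
      intro v
      split_ifs with hc
      · have hv1 : (v : G) ≠ 1 := by
          intro h
          rw [h] at hc
          exact hu (isConj_one_left.mp hc)
        rw [pm1_centralizer_eq hp hx hC v.2 hv1, Nat.card_zpowers, hx]
        ring
      · rw [mul_zero]
    rw [Finset.sum_congr rfl (fun v _ => h1 v),
      exc_fusion_sum hp hx hC he hz hzP u hu (fun v => (p : ℂ) * F0 * H v)]
    ring

omit [Finite G] in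
theorem excConjIrr_ne_one (x z : G)
    (hz : z ∈ Subgroup.normalizer (Subgroup.zpowers x : Set G))
    (ν : IrrCharacter (Subgroup.zpowers x))
    (hν1 : (ν : Subgroup.zpowers x → ℂ) ≠ fun _ => 1) :
    ((excConjIrr x z hz ν : IrrCharacter (Subgroup.zpowers x)) : Subgroup.zpowers x → ℂ) ≠
      fun _ => 1 := by
  intro h
  apply hν1
  funext w
  obtain ⟨u, rfl⟩ := (excConj x z hz).surjective w
  exact congrFun h u

open scoped Classical in
theorem exc_gram [Fintype G] [Fintype (IrrCharacter G)] {p : ℕ} (hp : p.Prime) {x : G}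
    (hx : orderOf x = p)
    (hC : Subgroup.centralizer ({x} : Set G) = Subgroup.zpowers x)
    (he : Nat.card (Subgroup.normalizer (Subgroup.zpowers x : Set G)) = p * 2) {z : G}
    (hz : z ∈ Subgroup.normalizer (Subgroup.zpowers x : Set G)) (hzP : z ∉ Subgroup.zpowers x)
    (μ ν : IrrCharacter (Subgroup.zpowers x))
    (hμ1 : (μ : Subgroup.zpowers x → ℂ) ≠ fun _ => 1)
    (hν1 : (ν : Subgroup.zpowers x → ℂ) ≠ fun _ => 1) :
    ∑ ψ : IrrCharacter G, excC x (ψ : G → ℂ) (μ : Subgroup.zpowers x → ℂ) *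
        conj (excC x (ψ : G → ℂ) (ν : Subgroup.zpowers x → ℂ)) =
      2 + (if (ν : Subgroup.zpowers x → ℂ) = (μ : Subgroup.zpowers x → ℂ) then 1 else 0) +
        (if ((excConjIrr x z hz ν : IrrCharacter (Subgroup.zpowers x)) :
          Subgroup.zpowers x → ℂ) = (μ : Subgroup.zpowers x → ℂ) then 1 else 0) := by
  have hp0 : (p : ℂ) ≠ 0 := by exact_mod_cast hp.ne_zero
  obtain ⟨F, hF⟩ : ∃ F : Subgroup.zpowers x → ℂ,
      F = fun u => conj (1 - (μ : Subgroup.zpowers x → ℂ) u) := ⟨_, rfl⟩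
  obtain ⟨H, hH⟩ : ∃ H : Subgroup.zpowers x → ℂ,
      H = fun v => 1 - (ν : Subgroup.zpowers x → ℂ) v := ⟨_, rfl⟩
  have h1 : ∀ ψ : IrrCharacter G, excC x (ψ : G → ℂ) (μ : Subgroup.zpowers x → ℂ) *
        conj (excC x (ψ : G → ℂ) (ν : Subgroup.zpowers x → ℂ)) =
      ((p : ℂ)⁻¹ * (p : ℂ)⁻¹) * ((∑ u : Subgroup.zpowers x, (ψ : G → ℂ) (u : G) * F u) *
        (∑ v : Subgroup.zpowers x, conj ((ψ : G → ℂ) (v : G)) * H v)) := by
    intro ψ
    rw [excC_eq hx, excC_conj hx, hF, hH]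
    ring
  rw [Finset.sum_congr rfl (fun ψ _ => h1 ψ), ← Finset.mul_sum, exc_pair x F H]
  have h2 : ∀ u : Subgroup.zpowers x, ∑ v : Subgroup.zpowers x, F u * H v *
        (if IsConj (u : G) (v : G) then
          (Nat.card (Subgroup.centralizer ({(v : G)} : Set G)) : ℂ) else 0) =
      (p : ℂ) * F u * (H u + H (excConj x z hz u)) := by
    intro u
    apply exc_inner hp hx hC he hz hzP u (F u) _ H
    intro hu
    have hu' : u = 1 := Subtype.ext hu
    rw [hF, hu']
    show conj (1 - (μ : Subgroup.zpowers x → ℂ) 1) = 0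
    rw [exc_irr_one, sub_self, map_zero]
  rw [Finset.sum_congr rfl (fun u _ => h2 u)]
  have h3 := exc_K μ.2 ν.2 hμ1 hν1
  have h4 := exc_K μ.2 (excConjIrr x z hz ν).2 hμ1 (excConjIrr_ne_one x z hz ν hν1)
  have h5 : (p : ℂ)⁻¹ * (p : ℂ)⁻¹ * ∑ u : Subgroup.zpowers x,
        (p : ℂ) * F u * (H u + H (excConj x z hz u)) =
      classInner ((fun _ => (1 : ℂ)) - (ν : Subgroup.zpowers x → ℂ))
          ((fun _ => (1 : ℂ)) - (μ : Subgroup.zpowers x → ℂ)) +
        classInner ((fun _ => (1 : ℂ)) -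
          ((excConjIrr x z hz ν : IrrCharacter (Subgroup.zpowers x)) : Subgroup.zpowers x → ℂ))
          ((fun _ => (1 : ℂ)) - (μ : Subgroup.zpowers x → ℂ)) := by
    unfold classInner
    rw [Nat.card_zpowers, hx, Finset.mul_sum, Finset.mul_sum, Finset.mul_sum,
      ← Finset.sum_add_distrib]
    apply Finset.sum_congr rfl
    intro u _
    rw [hF, hH]
    show (p : ℂ)⁻¹ * (p : ℂ)⁻¹ * ((p : ℂ) * conj (1 - (μ : Subgroup.zpowers x → ℂ) u) *
        ((1 - (ν : Subgroup.zpowers x → ℂ) u) +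
          (1 - (ν : Subgroup.zpowers x → ℂ) (excConj x z hz u)))) =
      (p : ℂ)⁻¹ * ((1 - (ν : Subgroup.zpowers x → ℂ) u) *
          conj (1 - (μ : Subgroup.zpowers x → ℂ) u)) +
        (p : ℂ)⁻¹ * ((1 - (ν : Subgroup.zpowers x → ℂ) (excConj x z hz u)) *
          conj (1 - (μ : Subgroup.zpowers x → ℂ) u))
    field_simp
  rw [h5, h3, h4]
  ring

open scoped Classical in
theorem excC_one [Fintype G] (x : G) (μ : IrrCharacter (Subgroup.zpowers x))
    (hμ1 : (μ : Subgroup.zpowers x → ℂ) ≠ fun _ => 1) :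
    excC x (fun _ : G => (1 : ℂ)) (μ : Subgroup.zpowers x → ℂ) = 1 := by
  have h1 : IsIrrCharacter (Subgroup.zpowers x) (fun _ => (1 : ℂ)) := isIrrCharacter_one
  show classInner (fun _ : Subgroup.zpowers x => (1 : ℂ)) (fun _ => 1) -
    classInner (fun _ : Subgroup.zpowers x => (1 : ℂ)) (μ : Subgroup.zpowers x → ℂ) = 1
  rw [irr_classInner_self h1, irr_classInner_ne h1 μ.2 (Ne.symm hμ1), sub_zero]

open scoped Classical in
theorem exc_sum_deg [Fintype G] [Fintype (IrrCharacter G)] {p : ℕ} {x : G}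
    (hx : orderOf x = p) (μ : IrrCharacter (Subgroup.zpowers x)) :
    ∑ ψ : IrrCharacter G, excC x (ψ : G → ℂ) (μ : Subgroup.zpowers x → ℂ) *
      (ψ : G → ℂ) 1 = 0 := by
  have h1 : ∀ ψ : IrrCharacter G, excC x (ψ : G → ℂ) (μ : Subgroup.zpowers x → ℂ) *
        (ψ : G → ℂ) 1 =
      (p : ℂ)⁻¹ * ∑ u : Subgroup.zpowers x, conj (1 - (μ : Subgroup.zpowers x → ℂ) u) *
        ((ψ : G → ℂ) (u : G) * conj ((ψ : G → ℂ) 1)) := by
    intro ψ
    obtain ⟨n, -, hn⟩ := irr_apply_one ψ.2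
    rw [excC_eq hx, hn, Complex.conj_natCast, mul_assoc, Finset.sum_mul]
    congr 1
    apply Finset.sum_congr rfl
    intro u _
    ring
  rw [Finset.sum_congr rfl (fun ψ _ => h1 ψ), ← Finset.mul_sum, Finset.sum_comm]
  have h2 : ∀ u : Subgroup.zpowers x, ∑ ψ : IrrCharacter G,
      conj (1 - (μ : Subgroup.zpowers x → ℂ) u) *
        ((ψ : G → ℂ) (u : G) * conj ((ψ : G → ℂ) 1)) = 0 := by
    intro u
    rw [← Finset.mul_sum, irr_column_orthogonality (u : G) 1]
    by_cases hu : (u : G) = 1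
    · have hu' : u = 1 := Subtype.ext hu
      rw [hu', exc_irr_one, sub_self, map_zero, zero_mul]
    · rw [if_neg (fun hc => hu (isConj_one_left.mp hc)), mul_zero]
  rw [Finset.sum_congr rfl (fun u _ => h2 u), Finset.sum_const_zero, mul_zero]

open scoped Classical in
theorem exc_sum_c [Fintype G] {p : ℕ} {x : G} [Fintype (IrrCharacter (Subgroup.zpowers x))]
    (hx : orderOf x = p) {ψ : G → ℂ} (hψ : IsCharacter G ψ) :
    ∑ ν : IrrCharacter (Subgroup.zpowers x), excC x ψ (ν : Subgroup.zpowers x → ℂ) =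
      (p : ℂ) * classInner (fun u : Subgroup.zpowers x => ψ (u : G)) (fun _ => 1) - ψ 1 := by
  have hres : IsCharacter (Subgroup.zpowers x) (fun u : Subgroup.zpowers x => ψ (u : G)) :=
    helper12.isCharacter_restrict _ hψ
  have hexp := classFunction_expansion (char_isClassFunction hres)
  have h1 := congrFun hexp 1
  rw [Finset.sum_apply] at h1
  have h2 : ψ 1 = ∑ ν : IrrCharacter (Subgroup.zpowers x),
      classInner (fun u : Subgroup.zpowers x => ψ (u : G)) (ν : Subgroup.zpowers x → ℂ) := by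
    have h3 : ψ 1 = ψ ((1 : Subgroup.zpowers x) : G) := rfl
    rw [h3, h1]
    apply Finset.sum_congr rfl
    intro ν _
    rw [Pi.smul_apply, smul_eq_mul, exc_irr_one, mul_one]
  unfold excC
  rw [Finset.sum_sub_distrib, ← h2, Finset.sum_const, Finset.card_univ, nsmul_eq_mul,
    ← Nat.card_eq_fintype_card, exc_card_irr hx]

end ExcB

end Cfsg.Agent.helper24
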