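import Mathlib
import Cfsg.Agent.Lib_helper24_Exc3
import Cfsg.Agent.Lib_helper5_Simple

/-!
Exceptional characters (helper24), case `e = 2`, part C: the degree equation, and the
non-existence of a simple group of order 3744.
-/

set_option autoImplicit false

namespace Cfsg.Agent.helper24

open Cfsg
open scoped ComplexConjugate

universe u

section ExcMain
variable {G : Type u} [Group G] [Finite G]

/-- the nonprincipal irreducible characters of `⟨x⟩` -/
abbrev ExcM (x : G) (o : IrrCharacter (Subgroup.zpowers x)) : Type u :=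
  {ν : IrrCharacter (Subgroup.zpowers x) // ν ≠ o}

theorem exc_main2 {p : ℕ} (hp : p.Prime) (h7 : 7 < p) {x : G} (hx : orderOf x = p)
    (hC : Subgroup.centralizer ({x} : Set G) = Subgroup.zpowers x)
    (he : Nat.card (Subgroup.normalizer (Subgroup.zpowers x : Set G)) = p * 2) :
    ∃ a b : IrrCharacter G, (a : G → ℂ) ≠ (fun _ => 1) ∧ (b : G → ℂ) ≠ (fun _ => 1) ∧
      ∃ s s' : ℤ, (s = 1 ∨ s = -1) ∧ (s' = 1 ∨ s' = -1) ∧
        1 + s * (charDegree (a : G → ℂ) : ℤ) + s' * (charDegree (b : G → ℂ) : ℤ) = 0 ∧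
        (∃ k : ℤ, (charDegree (a : G → ℂ) : ℤ) = p * k - (p - 1) * s) ∧
        (∃ k : ℤ, (charDegree (b : G → ℂ) : ℤ) = p * k - 2 * s') := by
  classical
  have := Fintype.ofFinite G
  have := Fintype.ofFinite (IrrCharacter G)
  have := Fintype.ofFinite (IrrCharacter (Subgroup.zpowers x))
  -- an element of `N \ P`
  obtain ⟨z, hz, hzP⟩ : ∃ z, z ∈ Subgroup.normalizer (Subgroup.zpowers x : Set G) ∧
      z ∉ Subgroup.zpowers x := by
    by_contra hcon
    push Not at hcon
    have hle : Subgroup.normalizer (Subgroup.zpowers x : Set G) ≤ Subgroup.zpowers x :=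
      fun z hz => hcon z hz
    have h1 := Subgroup.card_le_of_le hle
    rw [he, Nat.card_zpowers, hx] at h1
    have := hp.pos
    omega
  -- multiplicities
  have hnat : ∀ (ψ : IrrCharacter G) (ν : IrrCharacter (Subgroup.zpowers x)), ∃ n : ℕ,
      classInner (fun u : Subgroup.zpowers x => (ψ : G → ℂ) (u : G))
        (ν : Subgroup.zpowers x → ℂ) = n :=
    fun ψ ν => helper12.classInner_char_nat
      (helper12.isCharacter_restrict _ (irr_isCharacter ψ.2)) (irr_isCharacter ν.2)
  choose n hn using hnat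
  obtain ⟨oneP, honeP⟩ : ∃ o : IrrCharacter (Subgroup.zpowers x),
      (o : Subgroup.zpowers x → ℂ) = fun _ => 1 := ⟨⟨_, isIrrCharacter_one⟩, rfl⟩
  obtain ⟨oneG, honeG⟩ : ∃ o : IrrCharacter G, (o : G → ℂ) = fun _ => 1 :=
    ⟨⟨_, isIrrCharacter_one⟩, rfl⟩
  have hexcC : ∀ (ν : IrrCharacter (Subgroup.zpowers x)) (ψ : IrrCharacter G),
      excC x (ψ : G → ℂ) (ν : Subgroup.zpowers x → ℂ) =
        ((n ψ oneP : ℤ) : ℂ) - ((n ψ ν : ℤ) : ℂ) := by
    intro ν ψ
    rw [Int.cast_natCast, Int.cast_natCast, ← hn, ← hn, honeP]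
    rfl
  obtain ⟨cc, hcc⟩ : ∃ cc : IrrCharacter (Subgroup.zpowers x) → IrrCharacter G → ℤ,
      ∀ ν ψ, ((cc ν ψ : ℤ) : ℂ) = excC x (ψ : G → ℂ) (ν : Subgroup.zpowers x → ℂ) := by
    refine ⟨fun ν ψ => (n ψ oneP : ℤ) - (n ψ ν : ℤ), ?_⟩
    intro ν ψ
    rw [hexcC, Int.cast_sub]
  have hccn : ∀ ν ψ, cc ν ψ = (n ψ oneP : ℤ) - (n ψ ν : ℤ) := by
    intro ν ψ
    apply Int.cast_injective (α := ℂ)
    rw [hcc, hexcC, Int.cast_sub]
  have hM : ∀ ν : ExcM x oneP, ((ν.1 : IrrCharacter (Subgroup.zpowers x)) :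
      Subgroup.zpowers x → ℂ) ≠ fun _ => 1 :=
    fun ν h => ν.2 (Subtype.ext (h.trans honeP.symm))
  obtain ⟨r, hr⟩ : ∃ r : ExcM x oneP → ExcM x oneP → ℤ, ∀ μ ν, r μ ν =
      (if ((ν.1 : IrrCharacter (Subgroup.zpowers x)) : Subgroup.zpowers x → ℂ) =
        ((μ.1 : IrrCharacter (Subgroup.zpowers x)) : Subgroup.zpowers x → ℂ) then 1 else 0) +
      (if ((excConjIrr x z hz ν.1 : IrrCharacter (Subgroup.zpowers x)) :
        Subgroup.zpowers x → ℂ) =
        ((μ.1 : IrrCharacter (Subgroup.zpowers x)) : Subgroup.zpowers x → ℂ) then 1 else 0) :=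
    ⟨_, fun _ _ => rfl⟩
  -- Gram matrix
  have hG : ∀ μ ν : ExcM x oneP, ∑ ψ : IrrCharacter G, cc μ.1 ψ * cc ν.1 ψ = 2 + r μ ν := by
    intro μ ν
    have h := exc_gram hp hx hC he hz hzP μ.1 ν.1 (hM μ) (hM ν)
    have hconj : ∀ ψ : IrrCharacter G,
        conj (excC x (ψ : G → ℂ) ((ν.1 : IrrCharacter (Subgroup.zpowers x)) :
          Subgroup.zpowers x → ℂ)) =
        excC x (ψ : G → ℂ) ((ν.1 : IrrCharacter (Subgroup.zpowers x)) :
          Subgroup.zpowers x → ℂ) := by
      intro ψ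
      rw [← hcc]
      exact map_intCast (starRingEnd ℂ) _
    apply Int.cast_injective (α := ℂ)
    rw [Int.cast_sum, hr]
    push_cast
    rw [← add_assoc, ← h]
    apply Finset.sum_congr rfl
    intro ψ _
    rw [hcc, hcc, hconj]
  have h0 : ∀ μ : ExcM x oneP, cc μ.1 oneG = 1 := by
    intro μ
    apply Int.cast_injective (α := ℂ)
    rw [hcc, honeG, Int.cast_one]
    exact excC_one x μ.1 (hM μ)
  have hfree : ∀ ν : ExcM x oneP,
      ((excConjIrr x z hz ν.1 : IrrCharacter (Subgroup.zpowers x)) : Subgroup.zpowers x → ℂ) ≠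
        ((ν.1 : IrrCharacter (Subgroup.zpowers x)) : Subgroup.zpowers x → ℂ) := by
    intro ν h
    apply hM ν
    funext u
    exact exc_free hp hx hC hz hzP ν.1 (fun u => congrFun h u) u
  have hr01 : ∀ μ ν, r μ ν = 0 ∨ r μ ν = 1 := by
    intro μ ν
    rw [hr]
    by_cases h1 : ((ν.1 : IrrCharacter (Subgroup.zpowers x)) : Subgroup.zpowers x → ℂ) =
        ((μ.1 : IrrCharacter (Subgroup.zpowers x)) : Subgroup.zpowers x → ℂ)
    · by_cases h2 : ((excConjIrr x z hz ν.1 : IrrCharacter (Subgroup.zpowers x)) :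
          Subgroup.zpowers x → ℂ) =
          ((μ.1 : IrrCharacter (Subgroup.zpowers x)) : Subgroup.zpowers x → ℂ)
      · exact absurd (h2.trans h1.symm) (hfree ν)
      · rw [if_pos h1, if_neg h2]
        right; norm_num
    · by_cases h2 : ((excConjIrr x z hz ν.1 : IrrCharacter (Subgroup.zpowers x)) :
          Subgroup.zpowers x → ℂ) =
          ((μ.1 : IrrCharacter (Subgroup.zpowers x)) : Subgroup.zpowers x → ℂ)
      · rw [if_neg h1, if_pos h2]
        right; norm_num
      · rw [if_neg h1, if_neg h2]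
        left; norm_num
  have hrr : ∀ μ, r μ μ = 1 := by
    intro μ
    rw [hr, if_pos rfl, if_neg (hfree μ)]
    norm_num
  -- the permutation induced by `z`
  obtain ⟨τ, hτ⟩ : ∃ τ : ExcM x oneP → ExcM x oneP, ∀ ν, (τ ν).1 = excConjIrr x z hz ν.1 := by
    refine ⟨fun ν => ⟨excConjIrr x z hz ν.1, ?_⟩, fun _ => rfl⟩
    intro h
    apply excConjIrr_ne_one x z hz ν.1 (hM ν)
    rw [h, honeP]
  have hτinj : Function.Injective τ := by
    intro ν ν' h
    apply Subtype.ext
    apply excConjIrr_injective x z hz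
    rw [← hτ, ← hτ, h]
  have hτsurj : Function.Surjective τ := Finite.injective_iff_surjective.mp hτinj
  have hrsum : ∀ μ : ExcM x oneP, ∑ ν, r μ ν = 2 := by
    intro μ
    rw [Finset.sum_congr rfl (fun ν _ => hr μ ν), Finset.sum_add_distrib]
    have e1 : ∑ ν : ExcM x oneP,
        (if ((ν.1 : IrrCharacter (Subgroup.zpowers x)) : Subgroup.zpowers x → ℂ) =
          ((μ.1 : IrrCharacter (Subgroup.zpowers x)) : Subgroup.zpowers x → ℂ)
          then (1 : ℤ) else 0) = 1 := by
      rw [Finset.sum_eq_single μ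
        (fun ν _ hne => if_neg (fun h => hne (Subtype.ext (Subtype.ext h))))
        (fun h => absurd (Finset.mem_univ _) h), if_pos rfl]
    obtain ⟨ν₀, hν₀⟩ := hτsurj μ
    have e2 : ∑ ν : ExcM x oneP,
        (if ((excConjIrr x z hz ν.1 : IrrCharacter (Subgroup.zpowers x)) :
          Subgroup.zpowers x → ℂ) =
          ((μ.1 : IrrCharacter (Subgroup.zpowers x)) : Subgroup.zpowers x → ℂ)
          then (1 : ℤ) else 0) = 1 := by
      rw [Finset.sum_eq_single ν₀ _ (fun h => absurd (Finset.mem_univ _) h), if_pos]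
      · rw [← hτ, hν₀]
      · intro ν _ hne
        apply if_neg
        intro h
        apply hne
        apply hτinj
        rw [hν₀]
        apply Subtype.ext
        rw [hτ]
        exact Subtype.ext h
    rw [e1, e2]
    norm_num
  -- cardinality of `M`
  have hcardP : Fintype.card (IrrCharacter (Subgroup.zpowers x)) = p := by
    rw [← Nat.card_eq_fintype_card]
    exact exc_card_irr hx
  have hcardM : (Fintype.card (ExcM x oneP) : ℤ) = p - 1 := by
    have h := Fintype.sum_eq_add_sum_subtype_ne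
      (fun _ : IrrCharacter (Subgroup.zpowers x) => (1 : ℤ)) oneP
    simp only [Finset.sum_const, Finset.card_univ, nsmul_eq_mul, mul_one] at h
    rw [hcardP] at h
    linarith
  have hp7 : (7 : ℤ) < p := by exact_mod_cast h7
  have h4 : ∀ μ ν ν' : ExcM x oneP, ∃ ν'', r μ ν'' = 0 ∧ r ν ν'' = 0 ∧ r ν' ν'' = 0 := by
    intro μ ν ν'
    have hlt : ∑ ν'' : ExcM x oneP, (r μ ν'' + r ν ν'' + r ν' ν'') <
        ∑ _ν'' : ExcM x oneP, (1 : ℤ) := by
      rw [Finset.sum_add_distrib, Finset.sum_add_distrib, hrsum, hrsum, hrsum, Finset.sum_const,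
        Finset.card_univ, nsmul_eq_mul, mul_one, hcardM]
      omega
    obtain ⟨ν'', -, hν''⟩ := Finset.exists_lt_of_sum_lt hlt
    refine ⟨ν'', ?_, ?_, ?_⟩ <;>
    rcases hr01 μ ν'' with h1 | h1 <;> rcases hr01 ν ν'' with h2 | h2 <;>
    rcases hr01 ν' ν'' with h3 | h3 <;> omega
  have hMne : Nonempty (ExcM x oneP) := by
    apply Fintype.card_pos_iff.mp
    have : (0 : ℤ) < (Fintype.card (ExcM x oneP) : ℤ) := by rw [hcardM]; omega
    exact_mod_cast this
  obtain ⟨μ₀⟩ := hMne
  obtain ⟨a, b, hao, hbo, hab, s, s', hs, hs', hsum, hca, hcb⟩ :=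
    exc_star (fun (μ : ExcM x oneP) (ψ : IrrCharacter G) => cc μ.1 ψ) r oneG h0 hG hr01 hrr h4 μ₀
  -- degrees
  have hdeg : ∀ ψ : IrrCharacter G, (((charDegree (ψ : G → ℂ) : ℕ) : ℤ) : ℂ) = (ψ : G → ℂ) 1 := by
    intro ψ
    rw [Int.cast_natCast]
    exact char_charDegree_cast (irr_isCharacter ψ.2)
  have hdeg1 : ((charDegree (oneG : G → ℂ) : ℕ) : ℤ) = 1 := by
    apply Int.cast_injective (α := ℂ)
    rw [hdeg, honeG, Int.cast_one]
  have hzero : ∑ ψ : IrrCharacter G, cc μ₀.1 ψ * ((charDegree (ψ : G → ℂ) : ℕ) : ℤ) = 0 := by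
    apply Int.cast_injective (α := ℂ)
    rw [Int.cast_sum, Int.cast_zero, ← exc_sum_deg hx μ₀.1]
    apply Finset.sum_congr rfl
    intro ψ _
    rw [Int.cast_mul, hcc, hdeg]
  have heq := hsum (fun ψ => ((charDegree (ψ : G → ℂ) : ℕ) : ℤ))
  rw [hzero, hdeg1] at heq
  -- sums over `ν`
  have hccone : ∀ ψ : IrrCharacter G, cc oneP ψ = 0 := by
    intro ψ
    rw [hccn, sub_self]
  have hsumν : ∀ ψ : IrrCharacter G, (∑ ν : ExcM x oneP, cc ν.1 ψ) =
      (p : ℤ) * (n ψ oneP : ℤ) - ((charDegree (ψ : G → ℂ) : ℕ) : ℤ) := by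
    intro ψ
    have h1 := exc_sum_c hx (irr_isCharacter ψ.2)
    have h2 := Fintype.sum_eq_add_sum_subtype_ne
      (fun ν : IrrCharacter (Subgroup.zpowers x) => cc ν ψ) oneP
    rw [hccone, zero_add] at h2
    rw [← h2]
    apply Int.cast_injective (α := ℂ)
    rw [Int.cast_sum, Int.cast_sub, Int.cast_mul, hdeg, Int.cast_natCast, Int.cast_natCast,
      ← hn, honeP, ← h1]
    apply Finset.sum_congr rfl
    intro ν _
    rw [hcc]
  have hAa := hsumν a
  rw [Finset.sum_congr rfl (fun ν _ => hca ν), Finset.sum_const, Finset.card_univ, nsmul_eq_mul,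
    hcardM] at hAa
  have hBb := hsumν b
  rw [Finset.sum_congr rfl (fun ν _ => hcb ν), ← Finset.mul_sum, hrsum] at hBb
  refine ⟨a, b, ?_, ?_, s, s', hs, hs', ?_, ⟨(n a oneP : ℤ), ?_⟩, ⟨(n b oneP : ℤ), ?_⟩⟩
  · intro h
    apply hao
    apply Subtype.ext
    rw [h, honeG]
  · intro h
    apply hbo
    apply Subtype.ext
    rw [h, honeG]
  · linarith
  · linarith
  · linarith

end ExcMain

section Exc3744

theorem exc_div288_1 : ∀ n : ℕ, n ∣ 288 → n % 13 = 1 → n = 1 ∨ n = 144 := by
  intro n hn h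
  have hle : n ≤ 288 := Nat.le_of_dvd (by norm_num) hn
  interval_cases n <;> omega

theorem exc_div288_12 : ∀ n : ℕ, n ∣ 288 → n % 13 = 12 → n = 12 := by
  intro n hn h
  have hle : n ≤ 288 := Nat.le_of_dvd (by norm_num) hn
  interval_cases n <;> omega

theorem exc_div288_11 : ∀ n : ℕ, n ∣ 288 → n % 13 = 11 → n = 24 := by
  intro n hn h
  have hle : n ≤ 288 := Nat.le_of_dvd (by norm_num) hn
  interval_cases n <;> omega

theorem exc_div288_2 : ∀ n : ℕ, n ∣ 288 → n % 13 = 2 → n = 2 ∨ n = 288 := by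
  intro n hn h
  have hle : n ≤ 288 := Nat.le_of_dvd (by norm_num) hn
  interval_cases n <;> omega

theorem exc_arith (da db : ℕ) (s s' k k' : ℤ) (hs : s = 1 ∨ s = -1) (hs' : s' = 1 ∨ s' = -1)
    (hda : da ∣ 3744) (hdb : db ∣ 3744) (heq : 1 + s * (da : ℤ) + s' * (db : ℤ) = 0)
    (ha : (da : ℤ) = 13 * k - 12 * s) (hb : (db : ℤ) = 13 * k' - 2 * s') : da = 1 := by
  have h288 : ∀ d : ℕ, d ∣ 3744 → d % 13 ≠ 0 → d ∣ 288 := by
    intro d hd h13
    have hc : Nat.Coprime d 13 := by
      rw [Nat.coprime_comm]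
      exact (Nat.Prime.coprime_iff_not_dvd (by norm_num)).mpr
        (fun h => h13 (Nat.mod_eq_zero_of_dvd h))
    have hd' : d ∣ 288 * 13 := by
      have : 288 * 13 = 3744 := by norm_num
      rw [this]; exact hd
    exact Nat.Coprime.dvd_of_dvd_mul_right hc hd'
  rcases hs with rfl | rfl <;> rcases hs' with rfl | rfl
  · omega
  · have h1 : da % 13 = 1 := by omega
    have h2 : db % 13 = 2 := by omega
    rcases exc_div288_1 da (h288 da hda (by omega)) h1 with h | h
    · exact h
    · rcases exc_div288_2 db (h288 db hdb (by omega)) h2 with h' | h' <;> omega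
  · have h1 : da % 13 = 12 := by omega
    have h2 : db % 13 = 11 := by omega
    have h3 := exc_div288_12 da (h288 da hda (by omega)) h1
    have h4 := exc_div288_11 db (h288 db hdb (by omega)) h2
    omega
  · omega

open scoped commutatorElement in
theorem exc_linear_trivial {G : Type u} [Group G] [IsSimpleGroup G]
    (hG : ∃ a b : G, a * b ≠ b * a) {χ : G → ℂ} (hχ : IsCharacter G χ) (h1 : χ 1 = 1) :
    χ = fun _ => 1 := by
  have hcomm : commutator G = ⊤ := by
    rcases (inferInstance : (commutator G).Normal).eq_bot_or_eq_top with h | h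
    · exfalso
      obtain ⟨a, b, hab⟩ := hG
      apply hab
      have h2 : ⁅a, b⁆ ∈ commutator G := by
        rw [commutator_def]
        exact Subgroup.commutator_mem_commutator (Subgroup.mem_top a) (Subgroup.mem_top b)
      rw [h, Subgroup.mem_bot] at h2
      exact commutatorElement_eq_one_iff_mul_comm.mp h2
    · exact h
  funext g
  have h3 := helper23.linear_char_mul_commutator hχ h1 1 g (by rw [hcomm]; exact Subgroup.mem_top g)
  rw [one_mul] at h3
  rw [h3, h1]

theorem exc_sylow_3744 {G : Type u} [Group G] [Finite G] [IsSimpleGroup G]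
    (hcard : Nat.card G = 3744) :
    ∃ x : G, orderOf x = 13 ∧ Subgroup.centralizer ({x} : Set G) = Subgroup.zpowers x ∧
      Nat.card (Subgroup.normalizer (Subgroup.zpowers x : Set G)) = 13 * 2 := by
  classical
  have : Fact (Nat.Prime 13) := ⟨by norm_num⟩
  have hG : ∃ a b : G, a * b ≠ b * a :=
    helper5.nonabelian_of_card_not_prime (by rw [hcard]; norm_num)
  obtain ⟨P⟩ : Nonempty (Sylow 13 G) := inferInstance
  obtain ⟨hPcard', hPidx⟩ :=
    helper5.sylow_card_of_card_eq P 1 288 (by rw [hcard]; norm_num) (by norm_num)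
  have hPcard : Nat.card (P : Subgroup G) = 13 := by simpa using hPcard'
  obtain ⟨hmod, hdvd, hmul⟩ := helper5.sylow_count_facts P
  have hPbot : (P : Subgroup G) ≠ ⊥ := helper5.sylow_ne_bot P (by rw [hcard]; norm_num)
  have hPtop : (P : Subgroup G) ≠ ⊤ := by
    intro h
    have := (Subgroup.card_eq_iff_eq_top _).mpr h
    rw [hPcard, hcard] at this; omega
  have hne1 := helper5.sylow_count_ne_one P hPbot hPtop
  have hn144 : Nat.card (Sylow 13 G) = 144 := by
    rw [hPidx] at hdvd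
    rcases exc_div288_1 _ hdvd hmod with h | h
    · exact absurd h hne1
    · exact h
  have hNcard : Nat.card (Subgroup.normalizer ((P : Subgroup G) : Set G)) = 26 := by
    rw [hn144, hcard] at hmul; omega
  obtain ⟨x, hxP, hx1⟩ : ∃ x ∈ (P : Subgroup G), x ≠ 1 := by
    by_contra hcon
    push Not at hcon
    exact hPbot ((Subgroup.eq_bot_iff_forall _).mpr hcon)
  have hox : orderOf x = 13 := by
    have h1 := Subgroup.orderOf_dvd_natCard _ hxP
    rw [hPcard] at h1
    rcases (Nat.dvd_prime (by norm_num : Nat.Prime 13)).mp h1 with h | h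
    · exact absurd (orderOf_eq_one_iff.mp h) hx1
    · exact h
  have hzP : Subgroup.zpowers x = (P : Subgroup G) := by
    apply Subgroup.eq_of_le_of_card_ge (Subgroup.zpowers_le.mpr hxP)
    rw [Nat.card_zpowers, hox, hPcard]
  have hcent : Subgroup.centralizer ({x} : Set G) =
      Subgroup.centralizer ((P : Subgroup G) : Set G) := by
    ext g
    rw [pm1_mem_centralizer_singleton, Subgroup.mem_centralizer_iff]
    constructor
    · intro h y hy
      have hy' : y ∈ Subgroup.zpowers x := by rw [hzP]; exact hy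
      obtain ⟨k, rfl⟩ := Subgroup.mem_zpowers_iff.mp hy'
      have hc : Commute x g := h
      exact (hc.zpow_left k)
    · intro h
      exact h x hxP
  refine ⟨x, hox, ?_, ?_⟩
  · have hle1 : Subgroup.zpowers x ≤ Subgroup.centralizer ({x} : Set G) := by
      rw [Subgroup.zpowers_le, pm1_mem_centralizer_singleton]
    have hle2 : Subgroup.centralizer ({x} : Set G) ≤
        Subgroup.normalizer ((P : Subgroup G) : Set G) := by
      rw [hcent]
      exact Subgroup.centralizer_le_normalizer _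
    have hd1 : 13 ∣ Nat.card (Subgroup.centralizer ({x} : Set G)) := by
      have := Subgroup.card_dvd_of_le hle1
      rwa [Nat.card_zpowers, hox] at this
    have hd2 : Nat.card (Subgroup.centralizer ({x} : Set G)) ∣ 26 := by
      have := Subgroup.card_dvd_of_le hle2
      rwa [hNcard] at this
    have hcases : Nat.card (Subgroup.centralizer ({x} : Set G)) = 13 ∨
        Nat.card (Subgroup.centralizer ({x} : Set G)) = 26 := by
      have hle : Nat.card (Subgroup.centralizer ({x} : Set G)) ≤ 26 :=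
        Nat.le_of_dvd (by norm_num) hd2
      obtain ⟨m, hm⟩ := hd1
      rw [hm] at hd2 hle ⊢
      have : m ≤ 2 := by omega
      interval_cases m
      · simp at hd2
      · left; rfl
      · right; rfl
    rcases hcases with h | h
    · exact (Subgroup.eq_of_le_of_card_ge hle1 (by rw [h, Nat.card_zpowers, hox])).symm
    · exfalso
      apply helper5.burnside_simple hG P hPbot
      have hCN : Subgroup.centralizer ({x} : Set G) =
          Subgroup.normalizer ((P : Subgroup G) : Set G) :=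
        Subgroup.eq_of_le_of_card_ge hle2 (by rw [h, hNcard])
      rw [← hcent, hCN]
  · rw [hzP, hNcard]

theorem exc_no_simple_3744 {G : Type u} [Group G] [Finite G] [IsSimpleGroup G] :
    Nat.card G ≠ 3744 := by
  intro hcard
  have hG : ∃ a b : G, a * b ≠ b * a :=
    helper5.nonabelian_of_card_not_prime (by rw [hcard]; norm_num)
  obtain ⟨x, hox, hC, hN⟩ := exc_sylow_3744 hcard
  obtain ⟨a, b, ha1, hb1, s, s', hs, hs', heq, ⟨k, hk⟩, ⟨k', hk'⟩⟩ :=
    exc_main2 (by norm_num : Nat.Prime 13) (by norm_num) hox hC hN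
  have hda : charDegree (a : G → ℂ) ∣ 3744 := hcard ▸ irr_degree_dvd_card a.2
  have hdb : charDegree (b : G → ℂ) ∣ 3744 := hcard ▸ irr_degree_dvd_card b.2
  have hk2 : ((charDegree (a : G → ℂ) : ℕ) : ℤ) = 13 * k - 12 * s := by
    rw [hk]; push_cast; ring
  have hk2' : ((charDegree (b : G → ℂ) : ℕ) : ℤ) = 13 * k' - 2 * s' := by
    rw [hk']; push_cast; ring
  have hd1 := exc_arith _ _ s s' k k' hs hs' hda hdb heq hk2 hk2'
  apply ha1
  apply exc_linear_trivial hG (irr_isCharacter a.2)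
  rw [← char_charDegree_cast (irr_isCharacter a.2), hd1, Nat.cast_one]

end Exc3744

end Cfsg.Agent.helper24
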