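import Mathlib
import Cfsg.Agent.Lib_helper24_Exc1

/-!
Combinatorial lemma on exceptional characters (helper24), case `e = 3`:
integer vectors `c μ` with `c μ o = 1`, Gram matrix `3 + r μ ν`, form a "sunflower".
-/

set_option autoImplicit false

namespace Cfsg.Agent.helper24

section ExcComb3
variable {I : Type*} [Fintype I] [DecidableEq I]

theorem exc_sum_split4 (f : I → ℤ) {o a b d : I} (hao : a ≠ o) (hbo : b ≠ o) (hab : a ≠ b)
    (hdo : d ≠ o) (hda : d ≠ a) (hdb : d ≠ b) :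
    ∑ ψ, f ψ = f o + f a + f b + f d +
      ∑ ψ ∈ (((Finset.univ.erase o).erase a).erase b).erase d, f ψ := by
  have h0 : d ∈ (((Finset.univ : Finset I).erase o).erase a).erase b :=
    Finset.mem_erase.mpr ⟨hdb, Finset.mem_erase.mpr ⟨hda,
      Finset.mem_erase.mpr ⟨hdo, Finset.mem_univ _⟩⟩⟩
  rw [exc_sum_split3 f hao hbo hab, ← Finset.add_sum_erase _ f h0]
  ring

theorem exc_unit_of_sq_le3 (w : ℤ) (hw : w ≠ 0) (h : w * w ≤ 3) : w = 1 ∨ w = -1 := by
  have hl : -1 ≤ w := by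
    by_contra hcon
    push Not at hcon
    have h' : w ≤ -2 := by omega
    nlinarith
  have hu : w ≤ 1 := by
    by_contra hcon
    push Not at hcon
    have h' : 2 ≤ w := by omega
    nlinarith
  omega

theorem exc_norm4 (w : I → ℤ) (o : I) (ho : w o = 1) (h4 : ∑ ψ, w ψ * w ψ = 4) :
    ∃ a b d : I, a ≠ o ∧ b ≠ o ∧ a ≠ b ∧ d ≠ o ∧ d ≠ a ∧ d ≠ b ∧
      (w a = 1 ∨ w a = -1) ∧ (w b = 1 ∨ w b = -1) ∧ (w d = 1 ∨ w d = -1) ∧
      ∀ ψ ∈ (((Finset.univ.erase o).erase a).erase b).erase d, w ψ = 0 := by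
  have hnn : ∀ (s : Finset I), 0 ≤ ∑ ψ ∈ s, w ψ * w ψ :=
    fun s => Finset.sum_nonneg (fun ψ _ => mul_self_nonneg _)
  have h1 : ∑ ψ ∈ Finset.univ.erase o, w ψ * w ψ = 3 := by
    have := Finset.add_sum_erase Finset.univ (fun ψ => w ψ * w ψ) (Finset.mem_univ o)
    rw [h4] at this
    have h' : w o * w o = 1 := by rw [ho]; norm_num
    linarith
  obtain ⟨a, ha, hwa⟩ : ∃ a ∈ Finset.univ.erase o, w a ≠ 0 := by
    by_contra hcon
    push Not at hcon
    have : ∑ ψ ∈ Finset.univ.erase o, w ψ * w ψ = 0 :=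
      Finset.sum_eq_zero (fun ψ hψ => by rw [hcon ψ hψ, mul_zero])
    omega
  have h2 := Finset.add_sum_erase (Finset.univ.erase o) (fun ψ => w ψ * w ψ) ha
  have h2' := hnn ((Finset.univ.erase o).erase a)
  have h2'' : w a * w a + ∑ ψ ∈ (Finset.univ.erase o).erase a, w ψ * w ψ = 3 := by
    rw [← h1]; exact h2
  have hwa1 : w a = 1 ∨ w a = -1 := by
    apply exc_unit_of_sq_le3 _ hwa
    linarith
  have h3' : ∑ ψ ∈ (Finset.univ.erase o).erase a, w ψ * w ψ = 2 := by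
    have : w a * w a = 1 := by rcases hwa1 with h | h <;> rw [h] <;> norm_num
    linarith
  obtain ⟨b, hb, hwb⟩ : ∃ b ∈ (Finset.univ.erase o).erase a, w b ≠ 0 := by
    by_contra hcon
    push Not at hcon
    have : ∑ ψ ∈ (Finset.univ.erase o).erase a, w ψ * w ψ = 0 :=
      Finset.sum_eq_zero (fun ψ hψ => by rw [hcon ψ hψ, mul_zero])
    omega
  have h4a := Finset.add_sum_erase ((Finset.univ.erase o).erase a) (fun ψ => w ψ * w ψ) hb
  have h4' := hnn (((Finset.univ.erase o).erase a).erase b)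
  have h4'' : w b * w b + ∑ ψ ∈ ((Finset.univ.erase o).erase a).erase b, w ψ * w ψ = 2 := by
    rw [← h3']; exact h4a
  have hwb1 : w b = 1 ∨ w b = -1 := by
    apply exc_unit_of_sq_le3 _ hwb
    linarith
  have h5 : ∑ ψ ∈ ((Finset.univ.erase o).erase a).erase b, w ψ * w ψ = 1 := by
    have : w b * w b = 1 := by rcases hwb1 with h | h <;> rw [h] <;> norm_num
    linarith
  obtain ⟨d, hd, hwd⟩ : ∃ d ∈ ((Finset.univ.erase o).erase a).erase b, w d ≠ 0 := by
    by_contra hcon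
    push Not at hcon
    have : ∑ ψ ∈ ((Finset.univ.erase o).erase a).erase b, w ψ * w ψ = 0 :=
      Finset.sum_eq_zero (fun ψ hψ => by rw [hcon ψ hψ, mul_zero])
    omega
  have h6a := Finset.add_sum_erase (((Finset.univ.erase o).erase a).erase b)
    (fun ψ => w ψ * w ψ) hd
  have h6' := hnn ((((Finset.univ.erase o).erase a).erase b).erase d)
  have h6'' : w d * w d +
      ∑ ψ ∈ (((Finset.univ.erase o).erase a).erase b).erase d, w ψ * w ψ = 1 := by
    rw [← h5]; exact h6a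
  have hwd1 : w d = 1 ∨ w d = -1 := by
    apply exc_unit_of_sq_le3 _ hwd
    linarith
  have h7 : ∑ ψ ∈ (((Finset.univ.erase o).erase a).erase b).erase d, w ψ * w ψ = 0 := by
    have : w d * w d = 1 := by rcases hwd1 with h | h <;> rw [h] <;> norm_num
    linarith
  have h8 := (Finset.sum_eq_zero_iff_of_nonneg (fun ψ _ => mul_self_nonneg (w ψ))).mp h7
  have hd1 := Finset.mem_erase.mp hd
  have hd2 := Finset.mem_erase.mp hd1.2
  have hd3 := Finset.mem_erase.mp hd2.2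
  refine ⟨a, b, d, (Finset.mem_erase.mp ha).1, ?_, ?_, hd3.1, hd2.1, hd1.1, hwa1, hwb1, hwd1, ?_⟩
  · exact (Finset.mem_erase.mp (Finset.mem_erase.mp hb).2).1
  · exact fun h => (Finset.mem_erase.mp hb).1 h.symm
  · intro ψ hψ
    exact mul_self_eq_zero.mp (h8 ψ hψ)

theorem exc_star3 {M : Type*} (c : M → I → ℤ) (r : M → M → ℤ) (o : I)
    (h0 : ∀ μ, c μ o = 1)
    (hG : ∀ μ ν, ∑ ψ, c μ ψ * c ν ψ = 3 + r μ ν)
    (hr01 : ∀ μ ν, r μ ν = 0 ∨ r μ ν = 1)
    (hrr : ∀ μ, r μ μ = 1)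
    (h5 : ∀ μ ν ν' ν'', ∃ ν''', r μ ν''' = 0 ∧ r ν ν''' = 0 ∧ r ν' ν''' = 0 ∧ r ν'' ν''' = 0)
    (μ : M) :
    ∃ a b d : I, a ≠ o ∧ b ≠ o ∧ d ≠ o ∧ ∃ sa sb sd : ℤ,
      (sa = 1 ∨ sa = -1) ∧ (sb = 1 ∨ sb = -1) ∧ (sd = 1 ∨ sd = -1) ∧
      (∀ f : I → ℤ, ∑ ψ, c μ ψ * f ψ = f o + sa * f a + sb * f b + sd * f d) ∧
      (∀ ν, c ν a = sa) ∧ (∀ ν, c ν b = sb) ∧ (∀ ν, c ν d = sd * r μ ν) := by
  obtain ⟨a, b, d, hao, hbo, hab, hdo, hda, hdb, hsa, hsb, hsd, hz⟩ :=
    exc_norm4 (c μ) o (h0 μ) (by rw [hG μ μ, hrr μ]; norm_num)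
  obtain ⟨R, hR⟩ : ∃ R : Finset I, R = (((Finset.univ.erase o).erase a).erase b).erase d :=
    ⟨_, rfl⟩
  rw [← hR] at hz
  obtain ⟨W, hW⟩ : ∃ W : M → M → ℤ, ∀ ν ν', W ν ν' = ∑ ψ ∈ R, c ν ψ * c ν' ψ :=
    ⟨_, fun _ _ => rfl⟩
  have hsplit : ∀ ν ν', 3 + r ν ν' =
      1 + c ν a * c ν' a + c ν b * c ν' b + c ν d * c ν' d + W ν ν' := by
    intro ν ν'
    rw [← hG ν ν', exc_sum_split4 (fun ψ => c ν ψ * c ν' ψ) hao hbo hab hdo hda hdb, h0, h0, hW,
      hR]
    ring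
  have hsa2 : c μ a * c μ a = 1 := by rcases hsa with h | h <;> rw [h] <;> norm_num
  have hsb2 : c μ b * c μ b = 1 := by rcases hsb with h | h <;> rw [h] <;> norm_num
  have hsd2 : c μ d * c μ d = 1 := by rcases hsd with h | h <;> rw [h] <;> norm_num
  have hWμ : ∀ ν, W μ ν = 0 := by
    intro ν
    rw [hW]
    exact Finset.sum_eq_zero (fun ψ hψ => by rw [hz ψ hψ, zero_mul])
  have hWnn : ∀ ν, 0 ≤ W ν ν := by
    intro ν
    rw [hW]
    exact Finset.sum_nonneg (fun ψ _ => mul_self_nonneg _)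
  have hsame : ∀ ν ν', r ν ν' = 1 → ∀ ψ, c ν ψ = c ν' ψ := by
    intro ν ν' h ψ
    have e : ∀ ψ, (c ν ψ - c ν' ψ) * (c ν ψ - c ν' ψ) =
        c ν ψ * c ν ψ + c ν' ψ * c ν' ψ - 2 * (c ν ψ * c ν' ψ) := fun ψ => by ring
    have hs : ∑ ψ, (c ν ψ - c ν' ψ) * (c ν ψ - c ν' ψ) = 0 := by
      rw [Finset.sum_congr rfl (fun ψ _ => e ψ), Finset.sum_sub_distrib, Finset.sum_add_distrib,
        ← Finset.mul_sum, hG, hG, hG, hrr, hrr, h]
      norm_num
    have h6 := (Finset.sum_eq_zero_iff_of_nonneg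
      (fun ψ _ => mul_self_nonneg (c ν ψ - c ν' ψ))).mp hs ψ (Finset.mem_univ _)
    have := mul_self_eq_zero.mp h6
    linarith
  -- equal `W`-vectors
  have hWeq : ∀ ν₁ ν₂, W ν₁ ν₁ = 1 → W ν₂ ν₂ = 1 → W ν₁ ν₂ = 1 → ∀ ν₃, W ν₁ ν₃ = W ν₂ ν₃ := by
    intro ν₁ ν₂ h1 h2 h3 ν₃
    rw [hW] at h1 h2 h3
    have e : ∀ ψ, (c ν₁ ψ - c ν₂ ψ) * (c ν₁ ψ - c ν₂ ψ) =
        c ν₁ ψ * c ν₁ ψ + c ν₂ ψ * c ν₂ ψ - 2 * (c ν₁ ψ * c ν₂ ψ) := fun ψ => by ring
    have hs : ∑ ψ ∈ R, (c ν₁ ψ - c ν₂ ψ) * (c ν₁ ψ - c ν₂ ψ) = 0 := by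
      rw [Finset.sum_congr rfl (fun ψ _ => e ψ), Finset.sum_sub_distrib, Finset.sum_add_distrib,
        ← Finset.mul_sum, h1, h2, h3]
      norm_num
    have h6 := (Finset.sum_eq_zero_iff_of_nonneg
      (fun ψ _ => mul_self_nonneg (c ν₁ ψ - c ν₂ ψ))).mp hs
    rw [hW, hW]
    apply Finset.sum_congr rfl
    intro ψ hψ
    have := mul_self_eq_zero.mp (h6 ψ hψ)
    have h' : c ν₁ ψ = c ν₂ ψ := by linarith
    rw [h']
  -- types
  have htype : ∀ ν, r μ ν = 0 →
      (c ν a = c μ a ∧ c ν b = c μ b ∧ c ν d = 0) ∨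
      (c ν a = c μ a ∧ c ν b = 0 ∧ c ν d = c μ d) ∨
      (c ν a = 0 ∧ c ν b = c μ b ∧ c ν d = c μ d) := by
    intro ν hν
    have h1 := hsplit μ ν
    rw [hν, hWμ ν] at h1
    have h2 := hsplit ν ν
    rw [hrr ν] at h2
    have h3 := hWnn ν
    have hXY : c ν a * c ν a + c ν b * c ν b + c ν d * c ν d ≤ 3 := by linarith
    have hb1 : ∀ t u v : ℤ, t * t + u * u + v * v ≤ 3 → -1 ≤ t ∧ t ≤ 1 := by
      intro t u v h
      constructor
      · by_contra hcon
        push Not at hcon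
        have h' : t ≤ -2 := by omega
        nlinarith [mul_self_nonneg u, mul_self_nonneg v]
      · by_contra hcon
        push Not at hcon
        have h' : 2 ≤ t := by omega
        nlinarith [mul_self_nonneg u, mul_self_nonneg v]
    obtain ⟨hX1l, hX1u⟩ := hb1 (c ν a) (c ν b) (c ν d) hXY
    obtain ⟨hY1l, hY1u⟩ := hb1 (c ν b) (c ν a) (c ν d) (by linarith)
    obtain ⟨hZ1l, hZ1u⟩ := hb1 (c ν d) (c ν a) (c ν b) (by linarith)
    rcases hsa with h | h <;> rcases hsb with h' | h' <;> rcases hsd with h'' | h'' <;>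
      rw [h, h', h''] at h1 ⊢ <;> omega
  have hW1 : ∀ ν, r μ ν = 0 → W ν ν = 1 := by
    intro ν hν
    have h2 := hsplit ν ν
    rw [hrr ν] at h2
    rcases htype ν hν with h | h | h <;> rw [h.1, h.2.1, h.2.2] at h2 <;>
      simp only [hsa2, hsb2, hsd2, mul_zero] at h2 <;> linarith
  -- two different types cannot coexist
  have hexcl : ∀ ν ν', r μ ν = 0 → r μ ν' = 0 →
      c ν a * c ν' a + c ν b * c ν' b + c ν d * c ν' d = 1 → False := by
    intro ν ν' hν hν' hov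
    have hνν' : r ν ν' = 0 := by
      rcases hr01 ν ν' with h | h
      · exact h
      · exfalso
        have ea := hsame ν ν' h a
        have eb := hsame ν ν' h b
        have ed := hsame ν ν' h d
        rw [ea, eb, ed] at hov
        rcases htype ν' hν' with h | h | h <;> rw [h.1, h.2.1, h.2.2] at hov <;>
          simp only [hsa2, hsb2, hsd2, mul_zero] at hov <;> omega
    have hWνν' : W ν ν' = 1 := by
      have := hsplit ν ν'
      rw [hνν'] at this
      linarith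
    have heq1 := hWeq ν ν' (hW1 ν hν) (hW1 ν' hν') hWνν'
    obtain ⟨ν₃, h31, h32, h33, -⟩ := h5 μ ν ν' ν'
    obtain ⟨ν₄, h41, h42, h43, h44⟩ := h5 μ ν ν' ν₃
    have s13 := hsplit ν ν₃
    have s23 := hsplit ν' ν₃
    have s14 := hsplit ν ν₄
    have s24 := hsplit ν' ν₄
    have s34 := hsplit ν₃ ν₄
    rw [h32] at s13
    rw [h33] at s23
    rw [h42] at s14
    rw [h43] at s24
    rw [h44] at s34
    have e3 := heq1 ν₃
    have e4 := heq1 ν₄
    -- `ν₃` has the third type, so `W ν ν₃ = 1`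
    have hW13 : W ν ν₃ = 1 := by
      rcases htype ν hν with h | h | h <;> rcases htype ν' hν' with h' | h' | h' <;>
        rcases htype ν₃ h31 with g | g | g <;>
        rw [h.1, h.2.1, h.2.2, g.1, g.2.1, g.2.2] at s13 <;>
        rw [h'.1, h'.2.1, h'.2.2, g.1, g.2.1, g.2.2] at s23 <;>
        rw [h.1, h.2.1, h.2.2, h'.1, h'.2.1, h'.2.2] at hov <;>
        simp only [hsa2, hsb2, hsd2, mul_zero, zero_mul] at s13 s23 hov <;> omega
    have heq3 := hWeq ν ν₃ (hW1 ν hν) (hW1 ν₃ h31) hW13 ν₄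
    rcases htype ν hν with h | h | h <;> rcases htype ν' hν' with h' | h' | h' <;>
      rcases htype ν₃ h31 with g | g | g <;> rcases htype ν₄ h41 with k | k | k <;>
      rw [h.1, h.2.1, h.2.2, k.1, k.2.1, k.2.2] at s14 <;>
      rw [h'.1, h'.2.1, h'.2.2, k.1, k.2.1, k.2.2] at s24 <;>
      rw [g.1, g.2.1, g.2.2, k.1, k.2.1, k.2.2] at s34 <;>
      rw [h.1, h.2.1, h.2.2, g.1, g.2.1, g.2.2] at s13 <;>
      rw [h'.1, h'.2.1, h'.2.2, g.1, g.2.1, g.2.2] at s23 <;>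
      rw [h.1, h.2.1, h.2.2, h'.1, h'.2.1, h'.2.2] at hov <;>
      simp only [hsa2, hsb2, hsd2, mul_zero, zero_mul] at s13 s23 s14 s24 s34 hov <;> omega
  -- conclusion
  have hsumf : ∀ f : I → ℤ,
      ∑ ψ, c μ ψ * f ψ = f o + c μ a * f a + c μ b * f b + c μ d * f d := by
    intro f
    rw [exc_sum_split4 (fun ψ => c μ ψ * f ψ) hao hbo hab hdo hda hdb, h0, ← hR,
      Finset.sum_eq_zero (fun ψ hψ => by rw [hz ψ hψ, zero_mul])]
    ring
  obtain ⟨ν₁, hν₁, -, -, -⟩ := h5 μ μ μ μ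
  -- all `ν` outside the orbit of `μ` have the same type as `ν₁`
  have hall : ∀ ν, r μ ν = 0 →
      c ν a * c ν₁ a + c ν b * c ν₁ b + c ν d * c ν₁ d = 2 := by
    intro ν hν
    have hne := hexcl ν ν₁ hν hν₁
    rcases htype ν hν with h | h | h <;> rcases htype ν₁ hν₁ with g | g | g <;>
      rw [h.1, h.2.1, h.2.2, g.1, g.2.1, g.2.2] at hne ⊢ <;>
      simp only [hsa2, hsb2, hsd2, mul_zero, zero_mul] at hne ⊢ <;>
      first | omega | (exfalso; apply hne; omega)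
  rcases htype ν₁ hν₁ with g | g | g
  · -- `d` exceptional
    have hall' : ∀ ν, r μ ν = 0 → (c ν a = c μ a ∧ c ν b = c μ b ∧ c ν d = 0) := by
      intro ν hν
      have h2 := hall ν hν
      rcases htype ν hν with h | h | h
      · exact h
      · exfalso
        rw [h.1, h.2.1, h.2.2, g.1, g.2.1, g.2.2] at h2
        simp only [hsa2, hsb2, hsd2, mul_zero, zero_mul] at h2
        omega
      · exfalso
        rw [h.1, h.2.1, h.2.2, g.1, g.2.1, g.2.2] at h2
        simp only [hsa2, hsb2, hsd2, mul_zero, zero_mul] at h2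
        omega
    refine ⟨a, b, d, hao, hbo, hdo, c μ a, c μ b, c μ d, hsa, hsb, hsd, hsumf, ?_, ?_, ?_⟩
    · intro ν
      rcases hr01 μ ν with h | h
      · exact (hall' ν h).1
      · exact (hsame μ ν h a).symm
    · intro ν
      rcases hr01 μ ν with h | h
      · exact (hall' ν h).2.1
      · exact (hsame μ ν h b).symm
    · intro ν
      rcases hr01 μ ν with h | h
      · rw [h, (hall' ν h).2.2, mul_zero]
      · rw [h, mul_one]
        exact (hsame μ ν h d).symm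
  · -- `b` exceptional
    have hall' : ∀ ν, r μ ν = 0 → (c ν a = c μ a ∧ c ν b = 0 ∧ c ν d = c μ d) := by
      intro ν hν
      have h2 := hall ν hν
      rcases htype ν hν with h | h | h
      · exfalso
        rw [h.1, h.2.1, h.2.2, g.1, g.2.1, g.2.2] at h2
        simp only [hsa2, hsb2, hsd2, mul_zero, zero_mul] at h2
        omega
      · exact h
      · exfalso
        rw [h.1, h.2.1, h.2.2, g.1, g.2.1, g.2.2] at h2
        simp only [hsa2, hsb2, hsd2, mul_zero, zero_mul] at h2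
        omega
    refine ⟨a, d, b, hao, hdo, hbo, c μ a, c μ d, c μ b, hsa, hsd, hsb, ?_, ?_, ?_, ?_⟩
    · intro f
      rw [hsumf f]
      ring
    · intro ν
      rcases hr01 μ ν with h | h
      · exact (hall' ν h).1
      · exact (hsame μ ν h a).symm
    · intro ν
      rcases hr01 μ ν with h | h
      · exact (hall' ν h).2.2
      · exact (hsame μ ν h d).symm
    · intro ν
      rcases hr01 μ ν with h | h
      · rw [h, (hall' ν h).2.1, mul_zero]
      · rw [h, mul_one]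
        exact (hsame μ ν h b).symm
  · -- `a` exceptional
    have hall' : ∀ ν, r μ ν = 0 → (c ν a = 0 ∧ c ν b = c μ b ∧ c ν d = c μ d) := by
      intro ν hν
      have h2 := hall ν hν
      rcases htype ν hν with h | h | h
      · exfalso
        rw [h.1, h.2.1, h.2.2, g.1, g.2.1, g.2.2] at h2
        simp only [hsa2, hsb2, hsd2, mul_zero, zero_mul] at h2
        omega
      · exfalso
        rw [h.1, h.2.1, h.2.2, g.1, g.2.1, g.2.2] at h2
        simp only [hsa2, hsb2, hsd2, mul_zero, zero_mul] at h2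
        omega
      · exact h
    refine ⟨b, d, a, hbo, hdo, hao, c μ b, c μ d, c μ a, hsb, hsd, hsa, ?_, ?_, ?_, ?_⟩
    · intro f
      rw [hsumf f]
      ring
    · intro ν
      rcases hr01 μ ν with h | h
      · exact (hall' ν h).2.1
      · exact (hsame μ ν h b).symm
    · intro ν
      rcases hr01 μ ν with h | h
      · exact (hall' ν h).2.2
      · exact (hsame μ ν h d).symm
    · intro ν
      rcases hr01 μ ν with h | h
      · rw [h, (hall' ν h).1, mul_zero]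
      · rw [h, mul_one]
        exact (hsame μ ν h a).symm

end ExcComb3

end Cfsg.Agent.helper24
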