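import Mathlib
import Cfsg.Agent.Lib_helper24_Exc3
import Cfsg.Agent.Lib_helper24_Exc5

/-!
Exceptional characters (helper24), case `e = 3`: fusion and Gram matrix.
-/

set_option autoImplicit false

namespace Cfsg.Agent.helper24

open Cfsg
open scoped ComplexConjugate

universe u

section ExcE3
variable {G : Type u} [Group G] [Finite G]

theorem exc_conj_conj_ne {p : ℕ} (hp : p.Prime) {x : G} (hx : orderOf x = p)
    (hC : Subgroup.centralizer ({x} : Set G) = Subgroup.zpowers x) {z : G}
    (hz : z ∈ Subgroup.normalizer (Subgroup.zpowers x : Set G))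
    (hzzP : z * z ∉ Subgroup.zpowers x)
    (w : Subgroup.zpowers x) (hw : excConj x z hz (excConj x z hz w) = w) : w = 1 := by
  have hzz : z * z ∈ Subgroup.normalizer (Subgroup.zpowers x : Set G) := mul_mem hz hz
  apply exc_conj_ne hp hx hC hzz hzzP w
  apply Subtype.ext
  have h1 : z * (z * (w : G) * z⁻¹) * z⁻¹ = w := congrArg Subtype.val hw
  rw [excConj_coe]
  have h2 : z * z * (w : G) * (z * z)⁻¹ = z * (z * (w : G) * z⁻¹) * z⁻¹ := by group
  rw [h2, h1]

open scoped Classical in
theorem exc_fusion_sum3 [Fintype G] {p : ℕ} (hp : p.Prime) {x : G} (hx : orderOf x = p)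
    (hC : Subgroup.centralizer ({x} : Set G) = Subgroup.zpowers x)
    (he : Nat.card (Subgroup.normalizer (Subgroup.zpowers x : Set G)) = p * 3) {z : G}
    (hz : z ∈ Subgroup.normalizer (Subgroup.zpowers x : Set G)) (hzP : z ∉ Subgroup.zpowers x)
    (hzzP : z * z ∉ Subgroup.zpowers x)
    (u : Subgroup.zpowers x) (hu1 : (u : G) ≠ 1) (H : Subgroup.zpowers x → ℂ) :
    ∑ v : Subgroup.zpowers x, (if IsConj (u : G) (v : G) then H v else 0) =
      H u + H (excConj x z hz u) + H (excConj x z hz (excConj x z hz u)) := by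
  have hcard := pm1_card_fusion hp hx hC 3 he u.2 hu1
  rw [Nat.card_eq_fintype_card, Fintype.card_subtype] at hcard
  have hu1' : u ≠ 1 := fun h => hu1 (by rw [h]; rfl)
  have hne1 : u ≠ excConj x z hz u := by
    intro h
    exact hu1' (exc_conj_ne hp hx hC hz hzP u h.symm)
  have hne2 : u ≠ excConj x z hz (excConj x z hz u) := by
    intro h
    exact hu1' (exc_conj_conj_ne hp hx hC hz hzzP u h.symm)
  have hne3 : excConj x z hz u ≠ excConj x z hz (excConj x z hz u) := by
    intro h
    exact hne1 ((excConj x z hz).injective h)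
  have hsub : ({u, excConj x z hz u, excConj x z hz (excConj x z hz u)} :
      Finset (Subgroup.zpowers x)) ⊆
      Finset.univ.filter (fun w : Subgroup.zpowers x => IsConj (w : G) (u : G)) := by
    intro w hw
    rw [Finset.mem_insert, Finset.mem_insert, Finset.mem_singleton] at hw
    rw [Finset.mem_filter]
    refine ⟨Finset.mem_univ _, ?_⟩
    rcases hw with rfl | rfl | rfl
    · exact IsConj.refl _
    · rw [excConj_coe]
      exact (isConj_iff.mpr ⟨z, rfl⟩).symm
    · rw [excConj_coe, excConj_coe]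
      refine (isConj_iff.mpr ⟨z * z, ?_⟩).symm
      group
  have hc3 : ({u, excConj x z hz u, excConj x z hz (excConj x z hz u)} :
      Finset (Subgroup.zpowers x)).card = 3 := by
    rw [Finset.card_insert_of_notMem, Finset.card_pair hne3]
    rw [Finset.mem_insert, Finset.mem_singleton]
    push Not
    exact ⟨hne1, hne2⟩
  have heq := Finset.eq_of_subset_of_card_le hsub (by rw [hcard, hc3])
  have hfilter : Finset.univ.filter (fun v : Subgroup.zpowers x => IsConj (u : G) (v : G)) =
      ({u, excConj x z hz u, excConj x z hz (excConj x z hz u)} :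
        Finset (Subgroup.zpowers x)) := by
    rw [heq]
    apply Finset.filter_congr
    intro w _
    exact isConj_comm
  rw [← Finset.sum_filter, hfilter, Finset.sum_insert, Finset.sum_pair hne3, add_assoc]
  rw [Finset.mem_insert, Finset.mem_singleton]
  push Not
  exact ⟨hne1, hne2⟩

open scoped Classical in
theorem exc_inner3 [Fintype G] {p : ℕ} (hp : p.Prime) {x : G} (hx : orderOf x = p)
    (hC : Subgroup.centralizer ({x} : Set G) = Subgroup.zpowers x)
    (he : Nat.card (Subgroup.normalizer (Subgroup.zpowers x : Set G)) = p * 3) {z : G}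
    (hz : z ∈ Subgroup.normalizer (Subgroup.zpowers x : Set G)) (hzP : z ∉ Subgroup.zpowers x)
    (hzzP : z * z ∉ Subgroup.zpowers x)
    (u : Subgroup.zpowers x) (F0 : ℂ) (hF : (u : G) = 1 → F0 = 0) (H : Subgroup.zpowers x → ℂ) :
    ∑ v : Subgroup.zpowers x, F0 * H v *
        (if IsConj (u : G) (v : G) then
          (Nat.card (Subgroup.centralizer ({(v : G)} : Set G)) : ℂ) else 0) =
      (p : ℂ) * F0 * (H u + H (excConj x z hz u) +
        H (excConj x z hz (excConj x z hz u))) := by
  by_cases hu : (u : G) = 1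
  · rw [hF hu]
    simp
  · have h1 : ∀ v : Subgroup.zpowers x, F0 * H v *
        (if IsConj (u : G) (v : G) then
          (Nat.card (Subgroup.centralizer ({(v : G)} : Set G)) : ℂ) else 0) =
        if IsConj (u : G) (v : G) then (p : ℂ) * F0 * H v else 0 := by
      intro v
      split_ifs with hc
      · have hv1 : (v : G) ≠ 1 := by
          intro h
          rw [h] at hc
          exact hu (isConj_one_left.mp hc)
        rw [pm1_centralizer_eq hp hx hC v.2 hv1, Nat.card_zpowers, hx]
        ring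
      · rw [mul_zero]
    rw [Finset.sum_congr rfl (fun v _ => h1 v),
      exc_fusion_sum3 hp hx hC he hz hzP hzzP u hu (fun v => (p : ℂ) * F0 * H v)]
    ring

open scoped Classical in
theorem exc_gram3 [Fintype G] [Fintype (IrrCharacter G)] {p : ℕ} (hp : p.Prime) {x : G}
    (hx : orderOf x = p)
    (hC : Subgroup.centralizer ({x} : Set G) = Subgroup.zpowers x)
    (he : Nat.card (Subgroup.normalizer (Subgroup.zpowers x : Set G)) = p * 3) {z : G}
    (hz : z ∈ Subgroup.normalizer (Subgroup.zpowers x : Set G)) (hzP : z ∉ Subgroup.zpowers x)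
    (hzzP : z * z ∉ Subgroup.zpowers x)
    (μ ν : IrrCharacter (Subgroup.zpowers x))
    (hμ1 : (μ : Subgroup.zpowers x → ℂ) ≠ fun _ => 1)
    (hν1 : (ν : Subgroup.zpowers x → ℂ) ≠ fun _ => 1) :
    ∑ ψ : IrrCharacter G, excC x (ψ : G → ℂ) (μ : Subgroup.zpowers x → ℂ) *
        conj (excC x (ψ : G → ℂ) (ν : Subgroup.zpowers x → ℂ)) =
      3 + (if (ν : Subgroup.zpowers x → ℂ) = (μ : Subgroup.zpowers x → ℂ) then 1 else 0) +
        (if ((excConjIrr x z hz ν : IrrCharacter (Subgroup.zpowers x)) :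
          Subgroup.zpowers x → ℂ) = (μ : Subgroup.zpowers x → ℂ) then 1 else 0) +
        (if ((excConjIrr x z hz (excConjIrr x z hz ν) : IrrCharacter (Subgroup.zpowers x)) :
          Subgroup.zpowers x → ℂ) = (μ : Subgroup.zpowers x → ℂ) then 1 else 0) := by
  have hp0 : (p : ℂ) ≠ 0 := by exact_mod_cast hp.ne_zero
  obtain ⟨F, hF⟩ : ∃ F : Subgroup.zpowers x → ℂ,
      F = fun u => conj (1 - (μ : Subgroup.zpowers x → ℂ) u) := ⟨_, rfl⟩
  obtain ⟨H, hH⟩ : ∃ H : Subgroup.zpowers x → ℂ,
      H = fun v => 1 - (ν : Subgroup.zpowers x → ℂ) v := ⟨_, rfl⟩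
  have h1 : ∀ ψ : IrrCharacter G, excC x (ψ : G → ℂ) (μ : Subgroup.zpowers x → ℂ) *
        conj (excC x (ψ : G → ℂ) (ν : Subgroup.zpowers x → ℂ)) =
      ((p : ℂ)⁻¹ * (p : ℂ)⁻¹) * ((∑ u : Subgroup.zpowers x, (ψ : G → ℂ) (u : G) * F u) *
        (∑ v : Subgroup.zpowers x, conj ((ψ : G → ℂ) (v : G)) * H v)) := by
    intro ψ
    rw [excC_eq hx, excC_conj hx, hF, hH]
    ring
  rw [Finset.sum_congr rfl (fun ψ _ => h1 ψ), ← Finset.mul_sum, exc_pair x F H]
  have h2 : ∀ u : Subgroup.zpowers x, ∑ v : Subgroup.zpowers x, F u * H v *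
        (if IsConj (u : G) (v : G) then
          (Nat.card (Subgroup.centralizer ({(v : G)} : Set G)) : ℂ) else 0) =
      (p : ℂ) * F u * (H u + H (excConj x z hz u) +
        H (excConj x z hz (excConj x z hz u))) := by
    intro u
    apply exc_inner3 hp hx hC he hz hzP hzzP u (F u) _ H
    intro hu
    have hu' : u = 1 := Subtype.ext hu
    rw [hF, hu']
    show conj (1 - (μ : Subgroup.zpowers x → ℂ) 1) = 0
    rw [exc_irr_one, sub_self, map_zero]
  rw [Finset.sum_congr rfl (fun u _ => h2 u)]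
  have hν2 := excConjIrr_ne_one x z hz ν hν1
  have h3 := exc_K μ.2 ν.2 hμ1 hν1
  have h4 := exc_K μ.2 (excConjIrr x z hz ν).2 hμ1 hν2
  have h4' := exc_K μ.2 (excConjIrr x z hz (excConjIrr x z hz ν)).2 hμ1
    (excConjIrr_ne_one x z hz _ hν2)
  have h5 : (p : ℂ)⁻¹ * (p : ℂ)⁻¹ * ∑ u : Subgroup.zpowers x,
        (p : ℂ) * F u * (H u + H (excConj x z hz u) +
          H (excConj x z hz (excConj x z hz u))) =
      classInner ((fun _ => (1 : ℂ)) - (ν : Subgroup.zpowers x → ℂ))
          ((fun _ => (1 : ℂ)) - (μ : Subgroup.zpowers x → ℂ)) +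
        classInner ((fun _ => (1 : ℂ)) -
          ((excConjIrr x z hz ν : IrrCharacter (Subgroup.zpowers x)) : Subgroup.zpowers x → ℂ))
          ((fun _ => (1 : ℂ)) - (μ : Subgroup.zpowers x → ℂ)) +
        classInner ((fun _ => (1 : ℂ)) -
          ((excConjIrr x z hz (excConjIrr x z hz ν) : IrrCharacter (Subgroup.zpowers x)) :
            Subgroup.zpowers x → ℂ))
          ((fun _ => (1 : ℂ)) - (μ : Subgroup.zpowers x → ℂ)) := by
    unfold classInner
    rw [Nat.card_zpowers, hx, Finset.mul_sum, Finset.mul_sum, Finset.mul_sum, Finset.mul_sum,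
      ← Finset.sum_add_distrib, ← Finset.sum_add_distrib]
    apply Finset.sum_congr rfl
    intro u _
    rw [hF, hH]
    show (p : ℂ)⁻¹ * (p : ℂ)⁻¹ * ((p : ℂ) * conj (1 - (μ : Subgroup.zpowers x → ℂ) u) *
        ((1 - (ν : Subgroup.zpowers x → ℂ) u) +
          (1 - (ν : Subgroup.zpowers x → ℂ) (excConj x z hz u)) +
          (1 - (ν : Subgroup.zpowers x → ℂ) (excConj x z hz (excConj x z hz u))))) =
      (p : ℂ)⁻¹ * ((1 - (ν : Subgroup.zpowers x → ℂ) u) *
          conj (1 - (μ : Subgroup.zpowers x → ℂ) u)) +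
        (p : ℂ)⁻¹ * ((1 - (ν : Subgroup.zpowers x → ℂ) (excConj x z hz u)) *
          conj (1 - (μ : Subgroup.zpowers x → ℂ) u)) +
        (p : ℂ)⁻¹ * ((1 - (ν : Subgroup.zpowers x → ℂ) (excConj x z hz (excConj x z hz u))) *
          conj (1 - (μ : Subgroup.zpowers x → ℂ) u))
    field_simp
  rw [h5, h3, h4, h4']
  ring

end ExcE3

end Cfsg.Agent.helper24
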