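import Mathlib
import Cfsg.Agent.Lib_helper24_Exc4
import Cfsg.Agent.Lib_helper24_Exc6

/-!
Exceptional characters (helper24), case `e = 3`: the degree equation, and the
non-existence of a simple group of order 5472.
-/

set_option autoImplicit false

namespace Cfsg.Agent.helper24

open Cfsg
open scoped ComplexConjugate

universe u

section ExcMain3
variable {G : Type u} [Group G] [Finite G]

theorem exc_main3 {p : ℕ} (hp : p.Prime) (h13 : 13 < p) {x : G} (hx : orderOf x = p)
    (hC : Subgroup.centralizer ({x} : Set G) = Subgroup.zpowers x)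
    (he : Nat.card (Subgroup.normalizer (Subgroup.zpowers x : Set G)) = p * 3) :
    ∃ a b d : IrrCharacter G, (a : G → ℂ) ≠ (fun _ => 1) ∧ (b : G → ℂ) ≠ (fun _ => 1) ∧
      (d : G → ℂ) ≠ (fun _ => 1) ∧
      ∃ sa sb sd : ℤ, (sa = 1 ∨ sa = -1) ∧ (sb = 1 ∨ sb = -1) ∧ (sd = 1 ∨ sd = -1) ∧
        1 + sa * (charDegree (a : G → ℂ) : ℤ) + sb * (charDegree (b : G → ℂ) : ℤ) +
          sd * (charDegree (d : G → ℂ) : ℤ) = 0 ∧
        (∃ k : ℤ, (charDegree (a : G → ℂ) : ℤ) = p * k - (p - 1) * sa) ∧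
        (∃ k : ℤ, (charDegree (b : G → ℂ) : ℤ) = p * k - (p - 1) * sb) ∧
        (∃ k : ℤ, (charDegree (d : G → ℂ) : ℤ) = p * k - 3 * sd) := by
  classical
  have := Fintype.ofFinite G
  have := Fintype.ofFinite (IrrCharacter G)
  have := Fintype.ofFinite (IrrCharacter (Subgroup.zpowers x))
  have : Fact (Nat.Prime 3) := ⟨by norm_num⟩
  -- an element of order 3 in `N`
  obtain ⟨⟨z, hz⟩, hzo⟩ := exists_prime_orderOf_dvd_card'
    (G := Subgroup.normalizer (Subgroup.zpowers x : Set G)) 3 (by rw [he]; exact dvd_mul_left 3 p)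
  have hzo' : orderOf z = 3 := by rwa [Subgroup.orderOf_mk] at hzo
  have hz3 : z * z * z = 1 := by
    have h := pow_orderOf_eq_one z
    rw [hzo', pow_succ, pow_succ, pow_one] at h
    exact h
  have hzP : z ∉ Subgroup.zpowers x := by
    intro h
    have h1 := Subgroup.orderOf_dvd_natCard _ h
    rw [hzo', Nat.card_zpowers, hx] at h1
    have := (Nat.prime_dvd_prime_iff_eq (by norm_num : Nat.Prime 3) hp).mp h1
    omega
  have hzzP : z * z ∉ Subgroup.zpowers x := by
    intro h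
    apply hzP
    have h1 : z = (z * z) * (z * z) := by
      calc z = (z * z * z) * z := by rw [hz3, one_mul]
        _ = (z * z) * (z * z) := by group
    rw [h1]
    exact mul_mem h h
  have hσ3 : ∀ u : Subgroup.zpowers x,
      excConj x z hz (excConj x z hz (excConj x z hz u)) = u := by
    intro u
    apply Subtype.ext
    show z * (z * (z * (u : G) * z⁻¹) * z⁻¹) * z⁻¹ = u
    have h1 : z * (z * (z * (u : G) * z⁻¹) * z⁻¹) * z⁻¹ =
        (z * z * z) * (u : G) * (z * z * z)⁻¹ := by group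
    rw [h1, hz3, one_mul, inv_one, mul_one]
  -- multiplicities
  have hnat : ∀ (ψ : IrrCharacter G) (ν : IrrCharacter (Subgroup.zpowers x)), ∃ n : ℕ,
      classInner (fun u : Subgroup.zpowers x => (ψ : G → ℂ) (u : G))
        (ν : Subgroup.zpowers x → ℂ) = n :=
    fun ψ ν => helper12.classInner_char_nat
      (helper12.isCharacter_restrict _ (irr_isCharacter ψ.2)) (irr_isCharacter ν.2)
  choose n hn using hnat
  obtain ⟨oneP, honeP⟩ : ∃ o : IrrCharacter (Subgroup.zpowers x),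
      (o : Subgroup.zpowers x → ℂ) = fun _ => 1 := ⟨⟨_, isIrrCharacter_one⟩, rfl⟩
  obtain ⟨oneG, honeG⟩ : ∃ o : IrrCharacter G, (o : G → ℂ) = fun _ => 1 :=
    ⟨⟨_, isIrrCharacter_one⟩, rfl⟩
  have hexcC : ∀ (ν : IrrCharacter (Subgroup.zpowers x)) (ψ : IrrCharacter G),
      excC x (ψ : G → ℂ) (ν : Subgroup.zpowers x → ℂ) =
        ((n ψ oneP : ℤ) : ℂ) - ((n ψ ν : ℤ) : ℂ) := by
    intro ν ψ
    rw [Int.cast_natCast, Int.cast_natCast, ← hn, ← hn, honeP]
    rfl
  obtain ⟨cc, hcc⟩ : ∃ cc : IrrCharacter (Subgroup.zpowers x) → IrrCharacter G → ℤ,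
      ∀ ν ψ, ((cc ν ψ : ℤ) : ℂ) = excC x (ψ : G → ℂ) (ν : Subgroup.zpowers x → ℂ) := by
    refine ⟨fun ν ψ => (n ψ oneP : ℤ) - (n ψ ν : ℤ), ?_⟩
    intro ν ψ
    rw [hexcC, Int.cast_sub]
  have hccn : ∀ ν ψ, cc ν ψ = (n ψ oneP : ℤ) - (n ψ ν : ℤ) := by
    intro ν ψ
    apply Int.cast_injective (α := ℂ)
    rw [hcc, hexcC, Int.cast_sub]
  have hM : ∀ ν : ExcM x oneP, ((ν.1 : IrrCharacter (Subgroup.zpowers x)) :
      Subgroup.zpowers x → ℂ) ≠ fun _ => 1 :=
    fun ν h => ν.2 (Subtype.ext (h.trans honeP.symm))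
  obtain ⟨r, hr⟩ : ∃ r : ExcM x oneP → ExcM x oneP → ℤ, ∀ μ ν, r μ ν =
      (if ((ν.1 : IrrCharacter (Subgroup.zpowers x)) : Subgroup.zpowers x → ℂ) =
        ((μ.1 : IrrCharacter (Subgroup.zpowers x)) : Subgroup.zpowers x → ℂ) then 1 else 0) +
      (if ((excConjIrr x z hz ν.1 : IrrCharacter (Subgroup.zpowers x)) :
        Subgroup.zpowers x → ℂ) =
        ((μ.1 : IrrCharacter (Subgroup.zpowers x)) : Subgroup.zpowers x → ℂ) then 1 else 0) +
      (if ((excConjIrr x z hz (excConjIrr x z hz ν.1) : IrrCharacter (Subgroup.zpowers x)) :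
        Subgroup.zpowers x → ℂ) =
        ((μ.1 : IrrCharacter (Subgroup.zpowers x)) : Subgroup.zpowers x → ℂ) then 1 else 0) :=
    ⟨_, fun _ _ => rfl⟩
  -- Gram matrix
  have hG : ∀ μ ν : ExcM x oneP, ∑ ψ : IrrCharacter G, cc μ.1 ψ * cc ν.1 ψ = 3 + r μ ν := by
    intro μ ν
    have h := exc_gram3 hp hx hC he hz hzP hzzP μ.1 ν.1 (hM μ) (hM ν)
    have hconj : ∀ ψ : IrrCharacter G,
        conj (excC x (ψ : G → ℂ) ((ν.1 : IrrCharacter (Subgroup.zpowers x)) :
          Subgroup.zpowers x → ℂ)) =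
        excC x (ψ : G → ℂ) ((ν.1 : IrrCharacter (Subgroup.zpowers x)) :
          Subgroup.zpowers x → ℂ) := by
      intro ψ
      rw [← hcc]
      exact map_intCast (starRingEnd ℂ) _
    apply Int.cast_injective (α := ℂ)
    rw [Int.cast_sum, hr]
    push_cast
    rw [← add_assoc, ← add_assoc, ← h]
    apply Finset.sum_congr rfl
    intro ψ _
    rw [hcc, hcc, hconj]
  have h0 : ∀ μ : ExcM x oneP, cc μ.1 oneG = 1 := by
    intro μ
    apply Int.cast_injective (α := ℂ)
    rw [hcc, honeG, Int.cast_one]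
    exact excC_one x μ.1 (hM μ)
  have hfree1 : ∀ ν : IrrCharacter (Subgroup.zpowers x),
      (ν : Subgroup.zpowers x → ℂ) ≠ (fun _ => 1) →
      ((excConjIrr x z hz ν : IrrCharacter (Subgroup.zpowers x)) : Subgroup.zpowers x → ℂ) ≠
        (ν : Subgroup.zpowers x → ℂ) := by
    intro ν hν h
    apply hν
    funext u
    exact exc_free hp hx hC hz hzP ν (fun u => congrFun h u) u
  have hfree2 : ∀ ν : IrrCharacter (Subgroup.zpowers x),
      (ν : Subgroup.zpowers x → ℂ) ≠ (fun _ => 1) →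
      ((excConjIrr x z hz (excConjIrr x z hz ν) : IrrCharacter (Subgroup.zpowers x)) :
        Subgroup.zpowers x → ℂ) ≠ (ν : Subgroup.zpowers x → ℂ) := by
    intro ν hν h
    apply hfree1 ν hν
    funext u
    have h1 := congrFun h (excConj x z hz u)
    have h2 : ((excConjIrr x z hz (excConjIrr x z hz ν) : IrrCharacter (Subgroup.zpowers x)) :
        Subgroup.zpowers x → ℂ) (excConj x z hz u) =
        (ν : Subgroup.zpowers x → ℂ)
          (excConj x z hz (excConj x z hz (excConj x z hz u))) := rfl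
    rw [h2, hσ3] at h1
    exact h1.symm
  have hr01 : ∀ μ ν, r μ ν = 0 ∨ r μ ν = 1 := by
    intro μ ν
    rw [hr]
    by_cases h1 : ((ν.1 : IrrCharacter (Subgroup.zpowers x)) : Subgroup.zpowers x → ℂ) =
        ((μ.1 : IrrCharacter (Subgroup.zpowers x)) : Subgroup.zpowers x → ℂ)
    · have h2 : ¬ ((excConjIrr x z hz ν.1 : IrrCharacter (Subgroup.zpowers x)) :
          Subgroup.zpowers x → ℂ) =
          ((μ.1 : IrrCharacter (Subgroup.zpowers x)) : Subgroup.zpowers x → ℂ) :=
        fun h2 => hfree1 ν.1 (hM ν) (h2.trans h1.symm)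
      have h3 : ¬ ((excConjIrr x z hz (excConjIrr x z hz ν.1) :
          IrrCharacter (Subgroup.zpowers x)) : Subgroup.zpowers x → ℂ) =
          ((μ.1 : IrrCharacter (Subgroup.zpowers x)) : Subgroup.zpowers x → ℂ) :=
        fun h3 => hfree2 ν.1 (hM ν) (h3.trans h1.symm)
      rw [if_pos h1, if_neg h2, if_neg h3]
      right; norm_num
    · by_cases h2 : ((excConjIrr x z hz ν.1 : IrrCharacter (Subgroup.zpowers x)) :
          Subgroup.zpowers x → ℂ) =
          ((μ.1 : IrrCharacter (Subgroup.zpowers x)) : Subgroup.zpowers x → ℂ)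
      · have h3 : ¬ ((excConjIrr x z hz (excConjIrr x z hz ν.1) :
            IrrCharacter (Subgroup.zpowers x)) : Subgroup.zpowers x → ℂ) =
            ((μ.1 : IrrCharacter (Subgroup.zpowers x)) : Subgroup.zpowers x → ℂ) :=
          fun h3 => hfree1 (excConjIrr x z hz ν.1) (excConjIrr_ne_one x z hz ν.1 (hM ν))
            (h3.trans h2.symm)
        rw [if_neg h1, if_pos h2, if_neg h3]
        right; norm_num
      · by_cases h3 : ((excConjIrr x z hz (excConjIrr x z hz ν.1) :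
            IrrCharacter (Subgroup.zpowers x)) : Subgroup.zpowers x → ℂ) =
            ((μ.1 : IrrCharacter (Subgroup.zpowers x)) : Subgroup.zpowers x → ℂ)
        · rw [if_neg h1, if_neg h2, if_pos h3]
          right; norm_num
        · rw [if_neg h1, if_neg h2, if_neg h3]
          left; norm_num
  have hrr : ∀ μ, r μ μ = 1 := by
    intro μ
    rw [hr, if_pos rfl, if_neg (hfree1 μ.1 (hM μ)), if_neg (hfree2 μ.1 (hM μ))]
    norm_num
  -- the permutation induced by `z`
  obtain ⟨τ, hτ⟩ : ∃ τ : ExcM x oneP → ExcM x oneP, ∀ ν, (τ ν).1 = excConjIrr x z hz ν.1 := by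
    refine ⟨fun ν => ⟨excConjIrr x z hz ν.1, ?_⟩, fun _ => rfl⟩
    intro h
    apply excConjIrr_ne_one x z hz ν.1 (hM ν)
    rw [h, honeP]
  have hτinj : Function.Injective τ := by
    intro ν ν' h
    apply Subtype.ext
    apply excConjIrr_injective x z hz
    rw [← hτ, ← hτ, h]
  have hτsurj : Function.Surjective τ := Finite.injective_iff_surjective.mp hτinj
  have hrsum : ∀ μ : ExcM x oneP, ∑ ν, r μ ν = 3 := by
    intro μ
    rw [Finset.sum_congr rfl (fun ν _ => hr μ ν), Finset.sum_add_distrib, Finset.sum_add_distrib]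
    have e1 : ∑ ν : ExcM x oneP,
        (if ((ν.1 : IrrCharacter (Subgroup.zpowers x)) : Subgroup.zpowers x → ℂ) =
          ((μ.1 : IrrCharacter (Subgroup.zpowers x)) : Subgroup.zpowers x → ℂ)
          then (1 : ℤ) else 0) = 1 := by
      rw [Finset.sum_eq_single μ
        (fun ν _ hne => if_neg (fun h => hne (Subtype.ext (Subtype.ext h))))
        (fun h => absurd (Finset.mem_univ _) h), if_pos rfl]
    obtain ⟨ν₀, hν₀⟩ := hτsurj μ
    have e2 : ∑ ν : ExcM x oneP,
        (if ((excConjIrr x z hz ν.1 : IrrCharacter (Subgroup.zpowers x)) :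
          Subgroup.zpowers x → ℂ) =
          ((μ.1 : IrrCharacter (Subgroup.zpowers x)) : Subgroup.zpowers x → ℂ)
          then (1 : ℤ) else 0) = 1 := by
      rw [Finset.sum_eq_single ν₀ _ (fun h => absurd (Finset.mem_univ _) h), if_pos]
      · rw [← hτ, hν₀]
      · intro ν _ hne
        apply if_neg
        intro h
        apply hne
        apply hτinj
        rw [hν₀]
        apply Subtype.ext
        rw [hτ]
        exact Subtype.ext h
    obtain ⟨ν₁, hν₁⟩ := hτsurj ν₀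
    have e3 : ∑ ν : ExcM x oneP,
        (if ((excConjIrr x z hz (excConjIrr x z hz ν.1) : IrrCharacter (Subgroup.zpowers x)) :
          Subgroup.zpowers x → ℂ) =
          ((μ.1 : IrrCharacter (Subgroup.zpowers x)) : Subgroup.zpowers x → ℂ)
          then (1 : ℤ) else 0) = 1 := by
      rw [Finset.sum_eq_single ν₁ _ (fun h => absurd (Finset.mem_univ _) h), if_pos]
      · rw [← hτ, hν₁, ← hτ, hν₀]
      · intro ν _ hne
        apply if_neg
        intro h
        apply hne
        apply hτinj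
        apply hτinj
        rw [hν₁, hν₀]
        apply Subtype.ext
        rw [hτ, hτ]
        exact Subtype.ext h
    rw [e1, e2, e3]
    norm_num
  -- cardinality of `M`
  have hcardP : Fintype.card (IrrCharacter (Subgroup.zpowers x)) = p := by
    rw [← Nat.card_eq_fintype_card]
    exact exc_card_irr hx
  have hcardM : (Fintype.card (ExcM x oneP) : ℤ) = p - 1 := by
    have h := Fintype.sum_eq_add_sum_subtype_ne
      (fun _ : IrrCharacter (Subgroup.zpowers x) => (1 : ℤ)) oneP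
    simp only [Finset.sum_const, Finset.card_univ, nsmul_eq_mul, mul_one] at h
    rw [hcardP] at h
    linarith
  have hp13 : (13 : ℤ) < p := by exact_mod_cast h13
  have h5 : ∀ μ ν ν' ν'' : ExcM x oneP, ∃ ν''', r μ ν''' = 0 ∧ r ν ν''' = 0 ∧ r ν' ν''' = 0 ∧
      r ν'' ν''' = 0 := by
    intro μ ν ν' ν''
    have hlt : ∑ ν''' : ExcM x oneP, (r μ ν''' + r ν ν''' + r ν' ν''' + r ν'' ν''') <
        ∑ _ν''' : ExcM x oneP, (1 : ℤ) := by
      rw [Finset.sum_add_distrib, Finset.sum_add_distrib, Finset.sum_add_distrib, hrsum, hrsum,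
        hrsum, hrsum, Finset.sum_const, Finset.card_univ, nsmul_eq_mul, mul_one, hcardM]
      omega
    obtain ⟨ν''', -, hν'''⟩ := Finset.exists_lt_of_sum_lt hlt
    refine ⟨ν''', ?_, ?_, ?_, ?_⟩ <;>
    rcases hr01 μ ν''' with h1 | h1 <;> rcases hr01 ν ν''' with h2 | h2 <;>
    rcases hr01 ν' ν''' with h3 | h3 <;> rcases hr01 ν'' ν''' with h4 | h4 <;> omega
  have hMne : Nonempty (ExcM x oneP) := by
    apply Fintype.card_pos_iff.mp
    have : (0 : ℤ) < (Fintype.card (ExcM x oneP) : ℤ) := by rw [hcardM]; omega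
    exact_mod_cast this
  obtain ⟨μ₀⟩ := hMne
  obtain ⟨a, b, d, hao, hbo, hdo, sa, sb, sd, hsa, hsb, hsd, hsum, hca, hcb, hcd⟩ :=
    exc_star3 (fun (μ : ExcM x oneP) (ψ : IrrCharacter G) => cc μ.1 ψ) r oneG h0 hG hr01 hrr h5 μ₀
  -- degrees
  have hdeg : ∀ ψ : IrrCharacter G, (((charDegree (ψ : G → ℂ) : ℕ) : ℤ) : ℂ) = (ψ : G → ℂ) 1 := by
    intro ψ
    rw [Int.cast_natCast]
    exact char_charDegree_cast (irr_isCharacter ψ.2)
  have hdeg1 : ((charDegree (oneG : G → ℂ) : ℕ) : ℤ) = 1 := by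
    apply Int.cast_injective (α := ℂ)
    rw [hdeg, honeG, Int.cast_one]
  have hzero : ∑ ψ : IrrCharacter G, cc μ₀.1 ψ * ((charDegree (ψ : G → ℂ) : ℕ) : ℤ) = 0 := by
    apply Int.cast_injective (α := ℂ)
    rw [Int.cast_sum, Int.cast_zero, ← exc_sum_deg hx μ₀.1]
    apply Finset.sum_congr rfl
    intro ψ _
    rw [Int.cast_mul, hcc, hdeg]
  have heq := hsum (fun ψ => ((charDegree (ψ : G → ℂ) : ℕ) : ℤ))
  rw [hzero, hdeg1] at heq
  -- sums over `ν`
  have hccone : ∀ ψ : IrrCharacter G, cc oneP ψ = 0 := by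
    intro ψ
    rw [hccn, sub_self]
  have hsumν : ∀ ψ : IrrCharacter G, (∑ ν : ExcM x oneP, cc ν.1 ψ) =
      (p : ℤ) * (n ψ oneP : ℤ) - ((charDegree (ψ : G → ℂ) : ℕ) : ℤ) := by
    intro ψ
    have h1 := exc_sum_c hx (irr_isCharacter ψ.2)
    have h2 := Fintype.sum_eq_add_sum_subtype_ne
      (fun ν : IrrCharacter (Subgroup.zpowers x) => cc ν ψ) oneP
    rw [hccone, zero_add] at h2
    rw [← h2]
    apply Int.cast_injective (α := ℂ)
    rw [Int.cast_sum, Int.cast_sub, Int.cast_mul, hdeg, Int.cast_natCast, Int.cast_natCast,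
      ← hn, honeP, ← h1]
    apply Finset.sum_congr rfl
    intro ν _
    rw [hcc]
  have hAa := hsumν a
  rw [Finset.sum_congr rfl (fun ν _ => hca ν), Finset.sum_const, Finset.card_univ, nsmul_eq_mul,
    hcardM] at hAa
  have hBb := hsumν b
  rw [Finset.sum_congr rfl (fun ν _ => hcb ν), Finset.sum_const, Finset.card_univ, nsmul_eq_mul,
    hcardM] at hBb
  have hDd := hsumν d
  rw [Finset.sum_congr rfl (fun ν _ => hcd ν), ← Finset.mul_sum, hrsum] at hDd
  refine ⟨a, b, d, ?_, ?_, ?_, sa, sb, sd, hsa, hsb, hsd, ?_, ⟨(n a oneP : ℤ), ?_⟩,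
    ⟨(n b oneP : ℤ), ?_⟩, ⟨(n d oneP : ℤ), ?_⟩⟩
  · intro h
    apply hao
    apply Subtype.ext
    rw [h, honeG]
  · intro h
    apply hbo
    apply Subtype.ext
    rw [h, honeG]
  · intro h
    apply hdo
    apply Subtype.ext
    rw [h, honeG]
  · linarith
  · linarith
  · linarith
  · linarith

end ExcMain3

section Exc5472

theorem exc_div288_19_1 : ∀ n : ℕ, n ∣ 288 → n % 19 = 1 → n = 1 ∨ n = 96 := by
  intro n hn h
  have hle : n ≤ 288 := Nat.le_of_dvd (by norm_num) hn
  interval_cases n <;> omega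

theorem exc_div288_19_18 : ∀ n : ℕ, n ∣ 288 → n % 19 = 18 → n = 18 := by
  intro n hn h
  have hle : n ≤ 288 := Nat.le_of_dvd (by norm_num) hn
  interval_cases n <;> omega

theorem exc_div288_19_16 : ∀ n : ℕ, n ∣ 288 → n % 19 = 16 → n = 16 := by
  intro n hn h
  have hle : n ≤ 288 := Nat.le_of_dvd (by norm_num) hn
  interval_cases n <;> omega

theorem exc_div288_19_3 : ∀ n : ℕ, n ∣ 288 → n % 19 = 3 → n = 3 ∨ n = 288 := by
  intro n hn h
  have hle : n ≤ 288 := Nat.le_of_dvd (by norm_num) hn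
  interval_cases n <;> omega

theorem exc_dvd288_of_5472 (d : ℕ) (hd : d ∣ 5472) (h19 : d % 19 ≠ 0) : d ∣ 288 := by
  have hc : Nat.Coprime d 19 := by
    rw [Nat.coprime_comm]
    exact (Nat.Prime.coprime_iff_not_dvd (by norm_num)).mpr
      (fun h => h19 (Nat.mod_eq_zero_of_dvd h))
  have hd' : d ∣ 288 * 19 := by
    have : 288 * 19 = 5472 := by norm_num
    rw [this]; exact hd
  exact Nat.Coprime.dvd_of_dvd_mul_right hc hd'

theorem exc_candA (d : ℕ) (s k : ℤ) (hs : s = 1 ∨ s = -1) (hd : d ∣ 5472)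
    (h : (d : ℤ) = 19 * k - 18 * s) : (s = 1 ∧ (d = 1 ∨ d = 96)) ∨ (s = -1 ∧ d = 18) := by
  rcases hs with rfl | rfl
  · left
    refine ⟨rfl, ?_⟩
    have h1 : d % 19 = 1 := by omega
    exact exc_div288_19_1 d (exc_dvd288_of_5472 d hd (by omega)) h1
  · right
    refine ⟨rfl, ?_⟩
    have h1 : d % 19 = 18 := by omega
    exact exc_div288_19_18 d (exc_dvd288_of_5472 d hd (by omega)) h1

theorem exc_candD (d : ℕ) (s k : ℤ) (hs : s = 1 ∨ s = -1) (hd : d ∣ 5472)
    (h : (d : ℤ) = 19 * k - 3 * s) : (s = 1 ∧ d = 16) ∨ (s = -1 ∧ (d = 3 ∨ d = 288)) := by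
  rcases hs with rfl | rfl
  · left
    refine ⟨rfl, ?_⟩
    have h1 : d % 19 = 16 := by omega
    exact exc_div288_19_16 d (exc_dvd288_of_5472 d hd (by omega)) h1
  · right
    refine ⟨rfl, ?_⟩
    have h1 : d % 19 = 3 := by omega
    exact exc_div288_19_3 d (exc_dvd288_of_5472 d hd (by omega)) h1

theorem exc_arith3 (da db dd : ℕ) (sa sb sd k1 k2 k3 : ℤ) (hsa : sa = 1 ∨ sa = -1)
    (hsb : sb = 1 ∨ sb = -1) (hsd : sd = 1 ∨ sd = -1)
    (hda : da ∣ 5472) (hdb : db ∣ 5472) (hdd : dd ∣ 5472)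
    (heq : 1 + sa * (da : ℤ) + sb * (db : ℤ) + sd * (dd : ℤ) = 0)
    (ha : (da : ℤ) = 19 * k1 - 18 * sa) (hb : (db : ℤ) = 19 * k2 - 18 * sb)
    (hd : (dd : ℤ) = 19 * k3 - 3 * sd) : da = 1 ∨ db = 1 := by
  rcases exc_candA da sa k1 hsa hda ha with ⟨rfl, h | h⟩ | ⟨rfl, h⟩ <;>
  rcases exc_candA db sb k2 hsb hdb hb with ⟨rfl, h' | h'⟩ | ⟨rfl, h'⟩ <;>
  rcases exc_candD dd sd k3 hsd hdd hd with ⟨rfl, h''⟩ | ⟨rfl, h'' | h''⟩ <;>
  omega

theorem exc_sylow_5472 {G : Type u} [Group G] [Finite G] [IsSimpleGroup G]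
    (hcard : Nat.card G = 5472) :
    ∃ x : G, orderOf x = 19 ∧ Subgroup.centralizer ({x} : Set G) = Subgroup.zpowers x ∧
      Nat.card (Subgroup.normalizer (Subgroup.zpowers x : Set G)) = 19 * 3 := by
  classical
  have : Fact (Nat.Prime 19) := ⟨by norm_num⟩
  have hG : ∃ a b : G, a * b ≠ b * a :=
    helper5.nonabelian_of_card_not_prime (by rw [hcard]; norm_num)
  obtain ⟨P⟩ : Nonempty (Sylow 19 G) := inferInstance
  obtain ⟨hPcard', hPidx⟩ :=
    helper5.sylow_card_of_card_eq P 1 288 (by rw [hcard]; norm_num) (by norm_num)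
  have hPcard : Nat.card (P : Subgroup G) = 19 := by simpa using hPcard'
  obtain ⟨hmod, hdvd, hmul⟩ := helper5.sylow_count_facts P
  have hPbot : (P : Subgroup G) ≠ ⊥ := helper5.sylow_ne_bot P (by rw [hcard]; norm_num)
  have hPtop : (P : Subgroup G) ≠ ⊤ := by
    intro h
    have := (Subgroup.card_eq_iff_eq_top _).mpr h
    rw [hPcard, hcard] at this; omega
  have hne1 := helper5.sylow_count_ne_one P hPbot hPtop
  have hn96 : Nat.card (Sylow 19 G) = 96 := by
    rw [hPidx] at hdvd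
    rcases exc_div288_19_1 _ hdvd hmod with h | h
    · exact absurd h hne1
    · exact h
  have hNcard : Nat.card (Subgroup.normalizer ((P : Subgroup G) : Set G)) = 57 := by
    rw [hn96, hcard] at hmul; omega
  obtain ⟨x, hxP, hx1⟩ : ∃ x ∈ (P : Subgroup G), x ≠ 1 := by
    by_contra hcon
    push Not at hcon
    exact hPbot ((Subgroup.eq_bot_iff_forall _).mpr hcon)
  have hox : orderOf x = 19 := by
    have h1 := Subgroup.orderOf_dvd_natCard _ hxP
    rw [hPcard] at h1
    rcases (Nat.dvd_prime (by norm_num : Nat.Prime 19)).mp h1 with h | h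
    · exact absurd (orderOf_eq_one_iff.mp h) hx1
    · exact h
  have hzP : Subgroup.zpowers x = (P : Subgroup G) := by
    apply Subgroup.eq_of_le_of_card_ge (Subgroup.zpowers_le.mpr hxP)
    rw [Nat.card_zpowers, hox, hPcard]
  have hcent : Subgroup.centralizer ({x} : Set G) =
      Subgroup.centralizer ((P : Subgroup G) : Set G) := by
    ext g
    rw [pm1_mem_centralizer_singleton, Subgroup.mem_centralizer_iff]
    constructor
    · intro h y hy
      have hy' : y ∈ Subgroup.zpowers x := by rw [hzP]; exact hy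
      obtain ⟨k, rfl⟩ := Subgroup.mem_zpowers_iff.mp hy'
      have hc : Commute x g := h
      exact (hc.zpow_left k)
    · intro h
      exact h x hxP
  refine ⟨x, hox, ?_, ?_⟩
  · have hle1 : Subgroup.zpowers x ≤ Subgroup.centralizer ({x} : Set G) := by
      rw [Subgroup.zpowers_le, pm1_mem_centralizer_singleton]
    have hle2 : Subgroup.centralizer ({x} : Set G) ≤
        Subgroup.normalizer ((P : Subgroup G) : Set G) := by
      rw [hcent]
      exact Subgroup.centralizer_le_normalizer _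
    have hd1 : 19 ∣ Nat.card (Subgroup.centralizer ({x} : Set G)) := by
      have := Subgroup.card_dvd_of_le hle1
      rwa [Nat.card_zpowers, hox] at this
    have hd2 : Nat.card (Subgroup.centralizer ({x} : Set G)) ∣ 57 := by
      have := Subgroup.card_dvd_of_le hle2
      rwa [hNcard] at this
    have hcases : Nat.card (Subgroup.centralizer ({x} : Set G)) = 19 ∨
        Nat.card (Subgroup.centralizer ({x} : Set G)) = 57 := by
      have hle : Nat.card (Subgroup.centralizer ({x} : Set G)) ≤ 57 :=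
        Nat.le_of_dvd (by norm_num) hd2
      obtain ⟨m, hm⟩ := hd1
      rw [hm] at hd2 hle ⊢
      have : m ≤ 3 := by omega
      interval_cases m
      · simp at hd2
      · left; rfl
      · exfalso; omega
      · right; rfl
    rcases hcases with h | h
    · exact (Subgroup.eq_of_le_of_card_ge hle1 (by rw [h, Nat.card_zpowers, hox])).symm
    · exfalso
      apply helper5.burnside_simple hG P hPbot
      have hCN : Subgroup.centralizer ({x} : Set G) =
          Subgroup.normalizer ((P : Subgroup G) : Set G) :=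
        Subgroup.eq_of_le_of_card_ge hle2 (by rw [h, hNcard])
      rw [← hcent, hCN]
  · rw [hzP, hNcard]

theorem exc_no_simple_5472 {G : Type u} [Group G] [Finite G] [IsSimpleGroup G] :
    Nat.card G ≠ 5472 := by
  intro hcard
  have hG : ∃ a b : G, a * b ≠ b * a :=
    helper5.nonabelian_of_card_not_prime (by rw [hcard]; norm_num)
  obtain ⟨x, hox, hC, hN⟩ := exc_sylow_5472 hcard
  obtain ⟨a, b, d, ha1, hb1, -, sa, sb, sd, hsa, hsb, hsd, heq, ⟨k1, hk1⟩, ⟨k2, hk2⟩,
      ⟨k3, hk3⟩⟩ :=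
    exc_main3 (by norm_num : Nat.Prime 19) (by norm_num) hox hC hN
  have hda : charDegree (a : G → ℂ) ∣ 5472 := hcard ▸ irr_degree_dvd_card a.2
  have hdb : charDegree (b : G → ℂ) ∣ 5472 := hcard ▸ irr_degree_dvd_card b.2
  have hdd : charDegree (d : G → ℂ) ∣ 5472 := hcard ▸ irr_degree_dvd_card d.2
  have hk1' : ((charDegree (a : G → ℂ) : ℕ) : ℤ) = 19 * k1 - 18 * sa := by
    rw [hk1]; push_cast; ring
  have hk2' : ((charDegree (b : G → ℂ) : ℕ) : ℤ) = 19 * k2 - 18 * sb := by
    rw [hk2]; push_cast; ring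
  have hk3' : ((charDegree (d : G → ℂ) : ℕ) : ℤ) = 19 * k3 - 3 * sd := by
    rw [hk3]; push_cast; ring
  rcases exc_arith3 _ _ _ sa sb sd k1 k2 k3 hsa hsb hsd hda hdb hdd heq hk1' hk2' hk3' with
    hd1 | hd1
  · apply ha1
    apply exc_linear_trivial hG (irr_isCharacter a.2)
    rw [← char_charDegree_cast (irr_isCharacter a.2), hd1, Nat.cast_one]
  · apply hb1
    apply exc_linear_trivial hG (irr_isCharacter b.2)
    rw [← char_charDegree_cast (irr_isCharacter b.2), hd1, Nat.cast_one]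

end Exc5472

end Cfsg.Agent.helper24
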