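import Mathlib
import Cfsg.Agent.Lib_helper24_BrouePuig
import Cfsg.Agent.Lib_helper24_Inertia
import Cfsg.Agent.Lib_helper22_CoprimeExt
import Cfsg.Agent.Lib_helper12_CharOps

/-!
Cyclic fixed-point-free action on an extraspecial group (helper24).

* `fpf_arith` : the arithmetic core (multiplicities `a i` with prescribed sum and square sum);
* `fpf_coset` : for `x` acting fixed-point-freely modulo a central `Z`, every element of the coset
  `x N` is `N`-conjugate to an element of `x Z`;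
* `fpf_main` : the abstract statement; `fpf_final` the statement for subgroups of an ambient group.
-/

set_option autoImplicit false

namespace Cfsg.Agent.helper24

open Cfsg
open scoped ComplexConjugate

universe u

theorem fpf_arith {ι : Type*} [Fintype ι] (a : ι → ℕ) (m N : ℕ) (hm : Fintype.card ι = m)
    (hN : 0 < N) (h1 : ∑ i, a i = N) (h2 : m * ∑ i, a i ^ 2 + 1 = N ^ 2 + m) :
    m ∣ N + 1 ∨ m ∣ N - 1 := by
  rcases Nat.eq_zero_or_pos m with rfl | hm0
  · have : IsEmpty ι := Fintype.card_eq_zero_iff.mp hm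
    simp at h1
    omega
  obtain ⟨q, hq⟩ : ∃ q, q = N / m := ⟨_, rfl⟩
  obtain ⟨r, hr⟩ : ∃ r, r = N % m := ⟨_, rfl⟩
  have hNqr : N = m * q + r := by rw [hq, hr]; exact (Nat.div_add_mod N m).symm
  have hrm : r < m := by rw [hr]; exact Nat.mod_lt N hm0
  have hb1 : ∑ i, ((a i : ℤ) - q) = r := by
    rw [Finset.sum_sub_distrib, Finset.sum_const, Finset.card_univ, hm, ← Nat.cast_sum, h1, hNqr]
    push_cast
    simp
  have hb2 : (m : ℤ) * ∑ i, ((a i : ℤ) - q) ^ 2 = (r : ℤ) ^ 2 + m - 1 := by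
    have e1 : ∑ i, ((a i : ℤ) - q) ^ 2 = ∑ i, (a i : ℤ) ^ 2 - 2 * q * ∑ i, (a i : ℤ) + m * (q : ℤ) ^ 2 := by
      have : ∀ i, ((a i : ℤ) - q) ^ 2 = (a i : ℤ) ^ 2 - 2 * q * (a i : ℤ) + (q : ℤ) ^ 2 := fun i => by ring
      simp_rw [this]
      rw [Finset.sum_add_distrib, Finset.sum_sub_distrib, ← Finset.mul_sum, Finset.sum_const,
        Finset.card_univ, hm]
      simp
    have e2 : (m : ℤ) * ∑ i, (a i : ℤ) ^ 2 + 1 = (N : ℤ) ^ 2 + m := by exact_mod_cast h2
    have e3 : ∑ i, (a i : ℤ) = N := by exact_mod_cast h1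
    have e4 : (N : ℤ) = m * q + r := by exact_mod_cast hNqr
    rw [e1, e3]
    have : (m : ℤ) * ∑ i, (a i : ℤ) ^ 2 = (N : ℤ) ^ 2 + m - 1 := by linarith
    calc (m : ℤ) * (∑ i, (a i : ℤ) ^ 2 - 2 * q * N + m * (q : ℤ) ^ 2)
        = (m : ℤ) * ∑ i, (a i : ℤ) ^ 2 - 2 * (m * q) * N + (m * q) ^ 2 := by ring
      _ = (N : ℤ) ^ 2 + m - 1 - 2 * (m * q) * N + (m * q) ^ 2 := by rw [this]
      _ = (r : ℤ) ^ 2 + m - 1 := by rw [e4]; ring
  have hb3 : (r : ℤ) ≤ ∑ i, ((a i : ℤ) - q) ^ 2 := by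
    rw [← hb1]
    exact Finset.sum_le_sum (fun i _ => Int.le_self_sq _)
  obtain ⟨S, hS⟩ : ∃ S : ℤ, S = ∑ i, ((a i : ℤ) - q) ^ 2 := ⟨_, rfl⟩
  rw [← hS] at hb2 hb3
  have hm0' : (0 : ℤ) < m := by exact_mod_cast hm0
  have hrm' : (r : ℤ) < m := by exact_mod_cast hrm
  have hr0 : (0 : ℤ) ≤ r := by positivity
  rcases Nat.lt_or_ge r 2 with hr2 | hr2
  · interval_cases r
    · -- r = 0
      have hb2' : (m : ℤ) * S = m - 1 := by
        rw [hb2]; push_cast; ring
      have hb3' : (0 : ℤ) ≤ S := by exact_mod_cast hb3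
      have hS0 : S = 0 := by
        by_contra hne
        have hSpos : 1 ≤ S := by omega
        nlinarith
      have : m = 1 := by
        have : (m : ℤ) = 1 := by rw [hS0] at hb2'; linarith
        exact_mod_cast this
      left; rw [this]; exact one_dvd _
    · right
      refine ⟨q, ?_⟩
      omega
  · left
    have hr2' : (2 : ℤ) ≤ r := by exact_mod_cast hr2
    have h5 : (m : ℤ) * r ≤ (r : ℤ) ^ 2 + m - 1 := by
      calc (m : ℤ) * r ≤ m * S := mul_le_mul_of_nonneg_left hb3 hm0'.le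
        _ = _ := hb2
    have h6 : (m : ℤ) ≤ r + 1 := by
      by_contra hcon
      push Not at hcon
      nlinarith
    have h7 : m = r + 1 := by
      have : (m : ℤ) = r + 1 := by linarith
      exact_mod_cast this
    refine ⟨q + 1, ?_⟩
    rw [hNqr, h7]
    ring

section Coset
variable {K : Type u} [Group K] [Finite K]

theorem fpf_key1 (x w c : K) (hcc : ∀ g : K, g * c = c * g) (h : x⁻¹ * w * x = c * w)
    (p : ℕ) (hxp : (orderOf x).Coprime p) (hcp : c ^ p = 1) : c = 1 := by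
  have hpow : ∀ k : ℕ, (x ^ k)⁻¹ * w * x ^ k = c ^ k * w := by
    intro k
    induction k with
    | zero => simp
    | succ k ih =>
      have hck : ∀ g : K, g * c ^ k = c ^ k * g := by
        intro g
        exact ((Commute.pow_right (show Commute g c from hcc g) k)).eq
      calc (x ^ (k + 1))⁻¹ * w * x ^ (k + 1)
          = x⁻¹ * ((x ^ k)⁻¹ * w * x ^ k) * x := by
            rw [pow_succ, mul_inv_rev]; group
        _ = x⁻¹ * (c ^ k * w) * x := by rw [ih]
        _ = c ^ k * (x⁻¹ * w * x) := by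
            rw [← mul_assoc, hck x⁻¹]; group
        _ = c ^ k * (c * w) := by rw [h]
        _ = c ^ (k + 1) * w := by rw [pow_succ, mul_assoc]
  have h1 := hpow (orderOf x)
  rw [pow_orderOf_eq_one, inv_one, one_mul, mul_one] at h1
  have h2 : c ^ orderOf x = 1 := by
    have : c ^ orderOf x * w = 1 * w := by rw [one_mul]; exact h1.symm
    exact mul_right_cancel this
  have h3 : orderOf c ∣ Nat.gcd (orderOf x) p :=
    Nat.dvd_gcd (orderOf_dvd_of_pow_eq_one h2) (orderOf_dvd_of_pow_eq_one hcp)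
  rw [hxp] at h3
  exact orderOf_eq_one_iff.mp (Nat.dvd_one.mp h3)

theorem fpf_coset (N Z : Subgroup K) [hN : N.Normal] (hZN : Z ≤ N)
    (hZc : ∀ z ∈ Z, ∀ g : K, g * z = z * g) (p : ℕ) (hZp : ∀ z ∈ Z, z ^ p = 1)
    (x : K) (hxp : (orderOf x).Coprime p)
    (hfix : ∀ u ∈ N, x * u = u * x → u ∈ Z) (u : K) (hu : u ∈ N) :
    ∃ v ∈ N, ∃ z ∈ Z, x * u = v * x * v⁻¹ * z := by
  classical
  have hfN : ∀ v : N, x⁻¹ * (v : K) * x * (v : K)⁻¹ ∈ N := by
    intro v
    have h1 : x⁻¹ * (v : K) * x⁻¹⁻¹ ∈ N := hN.conj_mem v v.2 x⁻¹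
    rw [inv_inv] at h1
    exact N.mul_mem h1 (N.inv_mem v.2)
  let f : N → N := fun v => ⟨x⁻¹ * (v : K) * x * (v : K)⁻¹, hfN v⟩
  let Z' : Subgroup N := Z.subgroupOf N
  have hwd : ∀ v v' : N, v⁻¹ * v' ∈ Z' → f v = f v' := by
    intro v v' h
    have hc : (v : K)⁻¹ * (v' : K) ∈ Z := by
      have := Subgroup.mem_subgroupOf.mp h
      simpa using this
    obtain ⟨c, hc', hcdef⟩ : ∃ c, c ∈ Z ∧ c = (v : K)⁻¹ * (v' : K) := ⟨_, hc, rfl⟩
    have hv' : (v' : K) = (v : K) * c := by rw [hcdef]; group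
    apply Subtype.ext
    show x⁻¹ * (v : K) * x * (v : K)⁻¹ = x⁻¹ * (v' : K) * x * (v' : K)⁻¹
    rw [hv', mul_inv_rev]
    have hcx : c * x = x * c := (hZc c hc' x).symm
    have e1 : x⁻¹ * ((v : K) * c) * x = x⁻¹ * (v : K) * x * c := by
      calc x⁻¹ * ((v : K) * c) * x = x⁻¹ * (v : K) * (c * x) := by group
        _ = x⁻¹ * (v : K) * (x * c) := by rw [hcx]
        _ = x⁻¹ * (v : K) * x * c := by group
    rw [e1]
    group
  have hinj : ∀ v v' : N, (f v)⁻¹ * f v' ∈ Z' → v⁻¹ * v' ∈ Z' := by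
    intro v v' h
    have hc : ((f v : N) : K)⁻¹ * ((f v' : N) : K) ∈ Z := by
      have := Subgroup.mem_subgroupOf.mp h
      simpa using this
    obtain ⟨c, hcZ, hcdef⟩ : ∃ c, c ∈ Z ∧ c = ((f v : N) : K)⁻¹ * ((f v' : N) : K) := ⟨_, hc, rfl⟩
    obtain ⟨w, hw⟩ : ∃ w : K, w = (v : K)⁻¹ * (v' : K) := ⟨_, rfl⟩
    have hwN : w ∈ N := by rw [hw]; exact N.mul_mem (N.inv_mem v.2) v'.2
    have hv' : (v' : K) = (v : K) * w := by rw [hw]; group
    -- c = v (x⁻¹ w x) w⁻¹ v⁻¹
    have e1 : c = (v : K) * (x⁻¹ * w * x * w⁻¹) * (v : K)⁻¹ := by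
      rw [hcdef]
      show (x⁻¹ * (v : K) * x * (v : K)⁻¹)⁻¹ * (x⁻¹ * (v' : K) * x * (v' : K)⁻¹) = _
      rw [hv']
      group
    have e2 : x⁻¹ * w * x = c * w := by
      have : (v : K)⁻¹ * c * (v : K) = x⁻¹ * w * x * w⁻¹ := by rw [e1]; group
      have h3 : (v : K)⁻¹ * c * (v : K) = c := by
        rw [mul_assoc, ← hZc c hcZ (v : K), ← mul_assoc, inv_mul_cancel, one_mul]
      rw [h3] at this
      rw [this]; group
    have hc1 : c = 1 := fpf_key1 x w c (hZc c hcZ) e2 p hxp (hZp c hcZ)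
    rw [hc1, one_mul] at e2
    have hcomm : x * w = w * x := by
      calc x * w = x * (x⁻¹ * w * x) := by rw [e2]
        _ = w * x := by group
    have hwZ : w ∈ Z := hfix w hwN hcomm
    apply Subgroup.mem_subgroupOf.mpr
    simpa [hw] using hwZ
  let φ : N ⧸ Z' → N ⧸ Z' :=
    Quotient.map' f (fun a b hab => by
      have h1 : a⁻¹ * b ∈ Z' := QuotientGroup.leftRel_apply.mp hab
      rw [hwd a b h1])
  have hφinj : Function.Injective φ := by
    intro a b
    induction a using Quotient.inductionOn' with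
    | h v =>
      induction b using Quotient.inductionOn' with
      | h v' =>
        intro h
        have h1 : (QuotientGroup.mk (f v) : N ⧸ Z') = QuotientGroup.mk (f v') := h
        have h2 := QuotientGroup.eq.mp h1
        exact QuotientGroup.eq.mpr (hinj v v' h2)
  have hφsurj : Function.Surjective φ := Finite.surjective_of_injective hφinj
  obtain ⟨a, ha⟩ := hφsurj (QuotientGroup.mk ⟨u, hu⟩)
  induction a using Quotient.inductionOn' with
  | h v =>
    have h1 : (QuotientGroup.mk (f v) : N ⧸ Z') = QuotientGroup.mk ⟨u, hu⟩ := ha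
    have h2 := QuotientGroup.eq.mp h1
    have h3 : ((f v : N) : K)⁻¹ * u ∈ Z := by
      have := Subgroup.mem_subgroupOf.mp h2
      simpa using this
    refine ⟨v, v.2, _, h3, ?_⟩
    show x * u = (v : K) * x * (v : K)⁻¹ * ((x⁻¹ * (v : K) * x * (v : K)⁻¹)⁻¹ * u)
    group

end Coset

section Main
variable {K : Type u} [Group K] [Finite K]

/-- a faithful-on-`Z` irreducible character of `N`: vanishing off `Z`, degree `p ^ n` -/
theorem fpf_theta (N Z : Subgroup K) (p n : ℕ) (hp : p.Prime)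
    (hZN : Z ≤ N) (hZc : ∀ z ∈ Z, ∀ g : K, g * z = z * g) (hZcard : Nat.card Z = p)
    (hNcard : Nat.card N = p ^ (2 * n + 1))
    (hcomm : ∀ u ∈ N, ∀ v ∈ N, u * v * u⁻¹ * v⁻¹ ∈ Z)
    (hnc : ∀ u ∈ N, u ∉ Z → ∃ v ∈ N, u * v ≠ v * u) :
    ∃ θ : N → ℂ, IsIrrCharacter N θ ∧ (∀ u : N, (u : K) ∉ Z → θ u = 0) ∧ θ 1 = (p ^ n : ℕ) := by
  classical
  have : Fintype N := Fintype.ofFinite N
  have : Fintype (IrrCharacter N) := Fintype.ofFinite _
  let Z' : Subgroup N := Z.subgroupOf N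
  have hZ'card : Nat.card Z' = p := by
    rw [← hZcard]
    exact Nat.card_congr (Subgroup.subgroupOfEquivOfLe hZN).toEquiv
  have hZ'c : ∀ z ∈ Z', ∀ g : N, g * z = z * g := by
    intro z hz g
    apply Subtype.ext
    exact hZc z (Subgroup.mem_subgroupOf.mp hz) g
  -- a nonidentity element of Z'
  have hnt : Nontrivial Z' := by
    rw [← Finite.one_lt_card_iff_nontrivial, hZ'card]
    exact hp.one_lt
  obtain ⟨z₀', hz₀'⟩ := exists_ne (1 : Z')
  obtain ⟨z₀, hz₀Z, hz₀1⟩ : ∃ z₀ : N, z₀ ∈ Z' ∧ z₀ ≠ 1 :=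
    ⟨z₀', z₀'.2, fun h => hz₀' (Subtype.ext h)⟩
  -- θ with θ z₀ ≠ θ 1
  have hex : ∃ θ : IrrCharacter N, (θ : N → ℂ) z₀ ≠ (θ : N → ℂ) 1 := by
    by_contra hcon
    push Not at hcon
    have h1 := irr_column_orthogonality (G := N) z₀ 1
    have h2 := irr_column_orthogonality (G := N) 1 1
    rw [if_neg (by rw [isConj_one_left]; exact hz₀1)] at h1
    rw [if_pos (IsConj.refl _)] at h2
    have h3 : ∑ χ : IrrCharacter N, (χ : N → ℂ) z₀ * conj ((χ : N → ℂ) 1) =
        ∑ χ : IrrCharacter N, (χ : N → ℂ) 1 * conj ((χ : N → ℂ) 1) :=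
      Finset.sum_congr rfl (fun χ _ => by rw [hcon χ])
    rw [h3, h2] at h1
    have h4 : Nat.card (Subgroup.centralizer ({(1 : N)} : Set N)) ≠ 0 := Nat.card_pos.ne'
    exact h4 (by exact_mod_cast h1)
  obtain ⟨⟨θ, hθ⟩, hθz₀⟩ := hex
  have hθz₀ : θ z₀ ≠ θ 1 := hθz₀
  have hθcf : IsClassFunction N θ := char_isClassFunction (irr_isCharacter hθ)
  -- the subgroup of Z' acting trivially
  let D : Subgroup N :=
    { carrier := {w | w ∈ Z' ∧ ∀ g : N, θ (g * w) = θ g}
      one_mem' := ⟨Z'.one_mem, fun g => by rw [mul_one]⟩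
      mul_mem' := by
        rintro a b ⟨ha, ha'⟩ ⟨hb, hb'⟩
        exact ⟨Z'.mul_mem ha hb, fun g => by rw [← mul_assoc, hb', ha']⟩
      inv_mem' := by
        rintro a ⟨ha, ha'⟩
        refine ⟨Z'.inv_mem ha, fun g => ?_⟩
        have := ha' (g * a⁻¹)
        rw [inv_mul_cancel_right] at this
        exact this.symm }
  have hDZ : D ≤ Z' := fun w hw => hw.1
  have hDbot : D = ⊥ := by
    have hdvd : Nat.card D ∣ p := by
      rw [← hZ'card]; exact Subgroup.card_dvd_of_le hDZ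
    rcases (Nat.dvd_prime hp).mp hdvd with h1 | h1
    · exact Subgroup.card_eq_one.mp h1
    · exfalso
      have hDeq : D = Z' := Subgroup.eq_of_le_of_card_ge hDZ (by rw [h1, hZ'card])
      have : z₀ ∈ D := by rw [hDeq]; exact hz₀Z
      have h2 := this.2 1
      rw [one_mul] at h2
      exact hθz₀ h2
  -- central scalars
  have hroot : ∀ z ∈ Z', ∃ c : ℂ, c * conj c = 1 ∧ (∀ g : N, θ (g * z) = c * θ g) ∧
      (z ≠ 1 → c ≠ 1) := by
    intro z hz
    obtain ⟨c, hc1, hc2⟩ := irr_central_root hθ z (hZ'c z hz)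
    refine ⟨c, root_mul_conj (orderOf_pos z).ne' hc1, hc2, ?_⟩
    intro hz1 hc
    have : z ∈ D := ⟨hz, fun g => by rw [hc2 g, hc, one_mul]⟩
    rw [hDbot, Subgroup.mem_bot] at this
    exact hz1 this
  -- vanishing off Z
  have hvan : ∀ u : N, (u : K) ∉ Z → θ u = 0 := by
    intro u hu
    obtain ⟨v, hvN, hv⟩ := hnc u u.2 hu
    obtain ⟨w, hw⟩ : ∃ w : N, w = (⟨v, hvN⟩ : N) * u * (⟨v, hvN⟩ : N)⁻¹ * u⁻¹ := ⟨_, rfl⟩
    have hwZ : w ∈ Z' := by
      apply Subgroup.mem_subgroupOf.mpr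
      rw [hw]
      exact hcomm v hvN u u.2
    have hw1 : w ≠ 1 := by
      intro h
      rw [h] at hw
      apply hv
      have h2 : (⟨v, hvN⟩ : N) * u = u * (⟨v, hvN⟩ : N) := by
        have := hw
        calc (⟨v, hvN⟩ : N) * u
            = ((⟨v, hvN⟩ : N) * u * (⟨v, hvN⟩ : N)⁻¹ * u⁻¹) * (u * (⟨v, hvN⟩ : N)) := by group
          _ = u * (⟨v, hvN⟩ : N) := by rw [← this, one_mul]
      have h3 := congrArg (Subtype.val) h2
      exact h3.symm
    obtain ⟨c, -, hc2, hc3⟩ := hroot w hwZ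
    have h1 : θ (u * w) = θ u := by
      have e : u * w = (⟨v, hvN⟩ : N) * u * (⟨v, hvN⟩ : N)⁻¹ := by
        rw [hZ'c w hwZ u, hw]; group
      rw [e]
      exact hθcf u _
    rw [hc2 u] at h1
    have h2 : (c - 1) * θ u = 0 := by rw [sub_mul, h1, one_mul, sub_self]
    rcases mul_eq_zero.mp h2 with h3 | h3
    · exact absurd (sub_eq_zero.mp h3) (hc3 hw1)
    · exact h3
  -- the degree
  obtain ⟨d, hd⟩ := char_apply_one (irr_isCharacter hθ)
  have hnorm : classInner θ θ = 1 := irr_classInner_self hθ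
  have hsum : ∑ u : N, θ u * conj (θ u) = (Nat.card N : ℂ) := by
    unfold classInner at hnorm
    have hN0 : (Nat.card N : ℂ) ≠ 0 := by exact_mod_cast Nat.card_pos.ne'
    field_simp at hnorm
    rw [hnorm]
  have hterm : ∀ u : N, θ u * conj (θ u) = if u ∈ Z' then (d : ℂ) ^ 2 else 0 := by
    intro u
    by_cases hu : u ∈ Z'
    · rw [if_pos hu]
      obtain ⟨c, hc1, hc2, -⟩ := hroot u hu
      have := hc2 1
      rw [one_mul] at this
      rw [this, hd, map_mul, Complex.conj_natCast]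
      calc c * (d : ℂ) * (conj c * (d : ℂ)) = (c * conj c) * (d : ℂ) ^ 2 := by ring
        _ = (d : ℂ) ^ 2 := by rw [hc1, one_mul]
    · rw [if_neg hu, hvan u (fun h => hu (Subgroup.mem_subgroupOf.mpr h)), zero_mul]
  have hcount : ((Finset.univ.filter (fun u : N => u ∈ Z')).card : ℕ) = p := by
    rw [← hZ'card, Nat.card_eq_fintype_card, Fintype.card_subtype]
  have hsum2 : ∑ u : N, θ u * conj (θ u) = (p : ℂ) * (d : ℂ) ^ 2 := by
    rw [Finset.sum_congr rfl (fun u _ => hterm u), Finset.sum_ite, Finset.sum_const_zero, add_zero,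
      Finset.sum_const, hcount, nsmul_eq_mul]
  have hnat : p * d ^ 2 = p ^ (2 * n + 1) := by
    have : ((p * d ^ 2 : ℕ) : ℂ) = ((p ^ (2 * n + 1) : ℕ) : ℂ) := by
      push_cast
      rw [← hsum2, hsum, hNcard]
      push_cast
      rfl
    exact_mod_cast this
  have hd2 : d ^ 2 = (p ^ n) ^ 2 := by
    have h1 : p * d ^ 2 = p * (p ^ n) ^ 2 := by rw [hnat]; ring
    exact Nat.eq_of_mul_eq_mul_left hp.pos h1
  have hdn : d = p ^ n := Nat.pow_left_injective (by norm_num : 2 ≠ 0) hd2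
  exact ⟨θ, hθ, hvan, by rw [hd, hdn]⟩

end Main

section Main2
variable {K : Type u} [Group K] [Finite K]

open scoped Pointwise

theorem fpf_main (N H Z : Subgroup K) [hN : N.Normal] (p n : ℕ) (hp : p.Prime)
    (hZN : Z ≤ N) (hZc : ∀ z ∈ Z, ∀ g : K, g * z = z * g) (hZcard : Nat.card Z = p)
    (hNcard : Nat.card N = p ^ (2 * n + 1))
    (hcomm : ∀ u ∈ N, ∀ v ∈ N, u * v * u⁻¹ * v⁻¹ ∈ Z)
    (hnc : ∀ u ∈ N, u ∉ Z → ∃ v ∈ N, u * v ≠ v * u)
    (hdisj : H ⊓ N = ⊥) (hsup : H ⊔ N = ⊤)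
    (hHab : ∀ a ∈ H, ∀ b ∈ H, a * b = b * a)
    (hcop : (Nat.card H).Coprime p)
    (hfix : ∀ x ∈ H, x ≠ 1 → ∀ u ∈ N, x * u = u * x → u ∈ Z) :
    Nat.card H ∣ p ^ n + 1 ∨ Nat.card H ∣ p ^ n - 1 := by
  classical
  have : Fintype K := Fintype.ofFinite K
  have : Fintype N := Fintype.ofFinite N
  have : Fintype H := Fintype.ofFinite H
  have : Fintype (IrrCharacter H) := Fintype.ofFinite _
  obtain ⟨θ, hθ, hvan, hθ1⟩ := fpf_theta N Z p n hp hZN hZc hZcard hNcard hcomm hnc
  -- complement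
  have hmul : (H : Set K) * (N : Set K) = Set.univ := by
    rw [← Subgroup.mul_normal H N, hsup, Subgroup.coe_top]
  have hcompl : Subgroup.IsComplement' H N :=
    Subgroup.isComplement'_of_disjoint_and_mul_eq_univ (disjoint_iff.mpr hdisj) hmul
  have hindex : N.index = Nat.card H := hcompl.index_eq_card
  have hcardK : Nat.card H * Nat.card N = Nat.card K := hcompl.card_mul_card
  -- invariance of θ
  have hinv : ∀ (g : K) (u : N), θ ⟨g * u * g⁻¹, hN.conj_mem (u : K) u.2 g⟩ = θ u := by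
    intro g u
    by_cases hu : (u : K) ∈ Z
    · congr 1
      apply Subtype.ext
      show g * (u : K) * g⁻¹ = (u : K)
      rw [hZc u hu g, mul_inv_cancel_right]
    · rw [hvan u hu]
      apply hvan
      intro h
      apply hu
      have h' : g * (u : K) * g⁻¹ ∈ Z := h
      have h2 : (u : K) = g⁻¹ * (g * (u : K) * g⁻¹) * g := by group
      rw [h2, hZc _ h' g⁻¹, inv_mul_cancel_right]
      exact h'
  -- solvable quotient
  have hquot : ∀ a : K, ∃ h ∈ H, (QuotientGroup.mk a : K ⧸ N) = QuotientGroup.mk h := by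
    intro a
    have ha : a ∈ H ⊔ N := by rw [hsup]; exact Subgroup.mem_top a
    obtain ⟨h, hh, u, hu, rfl⟩ := Subgroup.mem_sup_of_normal_right.mp ha
    refine ⟨h, hh, ?_⟩
    rw [QuotientGroup.mk_mul, (QuotientGroup.eq_one_iff u).mpr hu, mul_one]
  have hsolv : Group.IsSolvable (K ⧸ N) := by
    apply isSolvable_of_comm
    intro a b
    obtain ⟨a', rfl⟩ := QuotientGroup.mk_surjective a
    obtain ⟨b', rfl⟩ := QuotientGroup.mk_surjective b
    obtain ⟨h₁, hh₁, e₁⟩ := hquot a'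
    obtain ⟨h₂, hh₂, e₂⟩ := hquot b'
    rw [e₁, e₂, ← QuotientGroup.mk_mul, ← QuotientGroup.mk_mul, hHab h₁ hh₁ h₂ hh₂]
  have hcop2 : Nat.Coprime N.index (Nat.card N) := by
    rw [hindex, hNcard]
    exact Nat.Coprime.pow_right _ hcop
  obtain ⟨χ, hχ, hχN⟩ := helper22.extends_of_coprime_solvable N hsolv θ hθ hinv hcop2
  have hχcf : IsClassFunction K χ := char_isClassFunction (irr_isCharacter hχ)
  -- the norm of χ
  have hnormK : ∑ g : K, χ g * conj (χ g) = (Nat.card K : ℂ) := by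
    have hnorm : classInner χ χ = 1 := irr_classInner_self hχ
    unfold classInner at hnorm
    have hK0 : (Nat.card K : ℂ) ≠ 0 := by exact_mod_cast Nat.card_pos.ne'
    field_simp at hnorm
    rw [hnorm]
  have hnormN : ∑ u : N, θ u * conj (θ u) = (Nat.card N : ℂ) := by
    have hnorm : classInner θ θ = 1 := irr_classInner_self hθ
    unfold classInner at hnorm
    have hN0 : (Nat.card N : ℂ) ≠ 0 := by exact_mod_cast Nat.card_pos.ne'
    field_simp at hnorm
    rw [hnorm]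
  -- values on cosets
  have hcoset : ∀ h : H, h ≠ 1 → ∀ u : N,
      χ ((h : K) * (u : K)) * conj (χ ((h : K) * (u : K))) = χ (h : K) * conj (χ (h : K)) := by
    intro h hh u
    have hh1 : (h : K) ≠ 1 := fun e => hh (Subtype.ext e)
    have hord : (orderOf (h : K)).Coprime p := by
      apply Nat.Coprime.coprime_dvd_left _ hcop
      rw [Subgroup.orderOf_coe]
      exact orderOf_dvd_natCard h
    have hZp : ∀ z ∈ Z, z ^ p = 1 := by
      intro z hz
      have := pow_card_eq_one' (G := Z) (x := ⟨z, hz⟩)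
      rw [hZcard] at this
      exact congrArg Subtype.val this
    obtain ⟨v, -, z, hz, e⟩ := fpf_coset N Z hZN hZc p hZp (h : K) hord
      (fun w hw hc => hfix h h.2 hh1 w hw hc) u u.2
    obtain ⟨c, hc1, hc2⟩ := irr_central_root hχ z (hZc z hz)
    have hcc : c * conj c = 1 := root_mul_conj (orderOf_pos z).ne' hc1
    rw [e, hc2, hχcf, map_mul]
    calc c * χ (h : K) * (conj c * conj (χ (h : K)))
        = (c * conj c) * (χ (h : K) * conj (χ (h : K))) := by ring
      _ = _ := by rw [hcc, one_mul]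
  obtain ⟨F, hF⟩ : ∃ F : H → ℂ, F = fun h : H => χ (h : K) * conj (χ (h : K)) := ⟨_, rfl⟩
  have hrow : ∀ h : H, ∑ u : N, χ ((h : K) * (u : K)) * conj (χ ((h : K) * (u : K))) =
      (Nat.card N : ℂ) * (if h = 1 then 1 else F h) := by
    intro h
    by_cases hh : h = 1
    · rw [if_pos hh, mul_one, hh, ← hnormN]
      apply Finset.sum_congr rfl
      intro u _
      rw [Subgroup.coe_one, one_mul, hχN u]
    · rw [if_neg hh, Finset.sum_congr rfl (fun u _ => hcoset h hh u), Finset.sum_const,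
        Finset.card_univ, nsmul_eq_mul, ← Nat.card_eq_fintype_card, hF]
  have hsplit : ∑ g : K, χ g * conj (χ g) =
      ∑ h : H, ∑ u : N, χ ((h : K) * (u : K)) * conj (χ ((h : K) * (u : K))) := by
    rw [← Finset.sum_product']
    exact (Fintype.sum_equiv (Equiv.ofBijective _ hcompl)
      (fun x : H × N => χ ((x.1 : K) * (x.2 : K)) * conj (χ ((x.1 : K) * (x.2 : K))))
      (fun g => χ g * conj (χ g)) (fun x => rfl)).symm
  have hN0 : (Nat.card N : ℂ) ≠ 0 := by exact_mod_cast Nat.card_pos.ne'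
  have hsumite : ∑ h : H, (if h = 1 then (1 : ℂ) else F h) = (Nat.card H : ℂ) := by
    have h1 : (Nat.card N : ℂ) * ∑ h : H, (if h = 1 then (1 : ℂ) else F h) =
        (Nat.card N : ℂ) * (Nat.card H : ℂ) := by
      rw [Finset.mul_sum, ← Finset.sum_congr rfl (fun h _ => hrow h), ← hsplit, hnormK, ← hcardK]
      push_cast
      ring
    exact mul_left_cancel₀ hN0 h1
  have hF1 : F 1 = ((p ^ n : ℕ) : ℂ) ^ 2 := by
    rw [hF]
    show χ ((1 : H) : K) * conj (χ ((1 : H) : K)) = _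
    have : χ ((1 : H) : K) = θ 1 := by
      have := hχN 1
      simpa using this
    rw [this, hθ1, Complex.conj_natCast]
    ring
  have hsumF : ∑ h : H, F h = (Nat.card H : ℂ) + (((p ^ n : ℕ) : ℂ) ^ 2 - 1) := by
    have h2 : ∀ h : H, F h = (if h = 1 then (1 : ℂ) else F h) + (if h = 1 then F 1 - 1 else 0) := by
      intro h
      by_cases hh : h = 1
      · rw [if_pos hh, if_pos hh, hh]; ring
      · rw [if_neg hh, if_neg hh, add_zero]
    rw [Finset.sum_congr rfl (fun h _ => h2 h), Finset.sum_add_distrib, hsumite,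
      Finset.sum_ite_eq' Finset.univ (1 : H) (fun _ => F 1 - 1), if_pos (Finset.mem_univ _), hF1]
  -- restriction to H
  have hAcomm : ∀ a b : H, a * b = b * a := fun a b => Subtype.ext (hHab a a.2 b b.2)
  have hres : IsCharacter H (fun h => χ (h : K)) :=
    helper12.isCharacter_restrict H (irr_isCharacter hχ)
  obtain ⟨a, hexp, -, hnorm⟩ := helper12.char_decomp hres
  have hψ1 : ∀ ψ : IrrCharacter H, (ψ : H → ℂ) 1 = 1 := by
    intro ψ
    rw [← char_charDegree_cast (irr_isCharacter ψ.2), irr_degree_eq_one_of_comm hAcomm ψ]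
    simp
  have hsum1 : ∑ ψ : IrrCharacter H, a ψ = p ^ n := by
    have h1 := congrFun hexp 1
    simp only [Finset.sum_apply, Pi.smul_apply, smul_eq_mul] at h1
    have h2 : χ ((1 : H) : K) = ((p ^ n : ℕ) : ℂ) := by
      have := hχN 1
      rw [← hθ1]
      simpa using this
    rw [h2, Finset.sum_congr rfl (fun ψ _ => by rw [hψ1 ψ, mul_one])] at h1
    exact_mod_cast h1.symm
  have hcardIrr : Fintype.card (IrrCharacter H) = Nat.card H := by
    rw [← Nat.card_eq_fintype_card, card_irr_eq_card_conjClasses]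
    have hbij : Function.Bijective (ConjClasses.mk : H → ConjClasses H) := by
      refine ⟨?_, ConjClasses.mk_surjective⟩
      intro x y hxy
      rw [ConjClasses.mk_eq_mk_iff_isConj] at hxy
      obtain ⟨c, hc⟩ := isConj_iff.mp hxy
      rw [← hc, hAcomm c x, mul_inv_cancel_right]
    exact (Nat.card_congr (Equiv.ofBijective _ hbij)).symm
  have hsum2 : Nat.card H * ∑ ψ : IrrCharacter H, a ψ ^ 2 + 1 = (p ^ n) ^ 2 + Nat.card H := by
    have hH0 : (Nat.card H : ℂ) ≠ 0 := by exact_mod_cast Nat.card_pos.ne'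
    have h1 : classInner (fun h : H => χ (h : K)) (fun h : H => χ (h : K)) =
        (Nat.card H : ℂ)⁻¹ * ∑ h : H, F h := by
      unfold classInner
      rw [hF]
    rw [h1, hsumF] at hnorm
    have h2 : (Nat.card H : ℂ) * ((∑ ψ : IrrCharacter H, a ψ ^ 2 : ℕ) : ℂ) + 1 =
        ((p ^ n : ℕ) : ℂ) ^ 2 + (Nat.card H : ℂ) := by
      rw [← hnorm]
      field_simp
      ring
    exact_mod_cast h2
  exact fpf_arith a (Nat.card H) (p ^ n) hcardIrr (pow_pos hp.pos n) hsum1 hsum2

end Main2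

section Final
variable {G : Type u} [Group G] [Finite G]

theorem fpf_final {p : ℕ} [hpF : Fact p.Prime] (P H : Subgroup G) (hP : Cfsg.IsExtraspecial p ↥P)
    (n : ℕ) (hn : Nat.card P = p ^ (2 * n + 1)) (hH : IsCyclic H) (hcop : (Nat.card H).Coprime p)
    (hHP : H ≤ Subgroup.normalizer (P : Set G))
    (hfix : ∀ x ∈ H, x ≠ 1 → P ⊓ Subgroup.centralizer {x} = (Subgroup.center ↥P).map P.subtype) :
    Nat.card H ∣ p ^ n + 1 ∨ Nat.card H ∣ p ^ n - 1 := by
  classical
  have hp : p.Prime := hpF.out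
  obtain ⟨⟨hPp, hfrat, hcommP⟩, hZP⟩ := hP
  obtain ⟨K, hK⟩ : ∃ K : Subgroup G, K = P ⊔ H := ⟨_, rfl⟩
  obtain ⟨ZP, hZPdef⟩ : ∃ ZP : Subgroup G, ZP = (Subgroup.center ↥P).map P.subtype := ⟨_, rfl⟩
  have hPK : P ≤ K := by rw [hK]; exact le_sup_left
  have hHK : H ≤ K := by rw [hK]; exact le_sup_right
  have hZPP : ZP ≤ P := by
    rw [hZPdef]
    rintro _ ⟨c, -, rfl⟩
    exact c.2
  have hZPK : ZP ≤ K := hZPP.trans hPK
  have hmemZP : ∀ z : G, z ∈ ZP ↔ ∃ hz : z ∈ P, ∀ y : P, y * ⟨z, hz⟩ = ⟨z, hz⟩ * y := by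
    intro z
    rw [hZPdef]
    constructor
    · rintro ⟨c, hc, rfl⟩
      exact ⟨c.2, fun y => (Subgroup.mem_center_iff.mp hc y)⟩
    · rintro ⟨hz, h⟩
      exact ⟨⟨z, hz⟩, Subgroup.mem_center_iff.mpr h, rfl⟩
  -- ZP is centralized by P and by H
  have hZcentK : ∀ z ∈ ZP, ∀ g ∈ K, g * z = z * g := by
    intro z hz
    have hle : K ≤ Subgroup.centralizer ({z} : Set G) := by
      rw [hK]
      apply sup_le
      · intro y hy
        rw [Subgroup.mem_centralizer_iff]
        intro w hw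
        rw [Set.mem_singleton_iff] at hw
        subst hw
        obtain ⟨hzP, h⟩ := (hmemZP w).mp hz
        have := h ⟨y, hy⟩
        exact (congrArg Subtype.val this).symm
      · intro x hx
        rw [Subgroup.mem_centralizer_iff]
        intro w hw
        rw [Set.mem_singleton_iff] at hw
        subst hw
        by_cases hx1 : x = 1
        · rw [hx1, mul_one, one_mul]
        · have h1 : w ∈ P ⊓ Subgroup.centralizer {x} := by rw [hfix x hx hx1, ← hZPdef]; exact hz
          have h2 := Subgroup.mem_centralizer_iff.mp h1.2 x (Set.mem_singleton x)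
          exact h2.symm
    intro g hg
    have := Subgroup.mem_centralizer_iff.mp (hle hg) z (Set.mem_singleton z)
    exact this.symm
  have hKnorm : K ≤ Subgroup.normalizer (P : Set G) := by
    rw [hK]
    exact sup_le Subgroup.le_normalizer hHP
  have hNnormal : (P.subgroupOf K).Normal :=
    (Subgroup.normal_subgroupOf_iff_le_normalizer hPK).mpr hKnorm
  have hres := fpf_main (K := K) (P.subgroupOf K) (H.subgroupOf K) (ZP.subgroupOf K) p n hp
    (fun z hz => Subgroup.mem_subgroupOf.mpr (hZPP (Subgroup.mem_subgroupOf.mp hz)))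
    (fun z hz g => Subtype.ext (hZcentK z (Subgroup.mem_subgroupOf.mp hz) g g.2))
    (by
      rw [Nat.card_congr (Subgroup.subgroupOfEquivOfLe hZPK).toEquiv, hZPdef,
        Subgroup.card_map_of_injective P.subtype_injective, hZP])
    (by rw [Nat.card_congr (Subgroup.subgroupOfEquivOfLe hPK).toEquiv, hn])
    (by
      intro u hu v hv
      apply Subgroup.mem_subgroupOf.mpr
      have huP : (u : G) ∈ P := Subgroup.mem_subgroupOf.mp hu
      have hvP : (v : G) ∈ P := Subgroup.mem_subgroupOf.mp hv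
      have h1 : (⟨(u : G), huP⟩ : P) * ⟨(v : G), hvP⟩ * (⟨(u : G), huP⟩ : P)⁻¹ *
          (⟨(v : G), hvP⟩ : P)⁻¹ ∈ commutator P :=
        Subgroup.commutator_mem_commutator (Subgroup.mem_top (⟨(u : G), huP⟩ : P))
          (Subgroup.mem_top (⟨(v : G), hvP⟩ : P))
      rw [hcommP] at h1
      rw [hZPdef]
      refine ⟨_, h1, ?_⟩
      simp)
    (by
      intro u hu huZ
      have huP : (u : G) ∈ P := Subgroup.mem_subgroupOf.mp hu
      have h1 : ¬ ∀ y : P, y * ⟨u, huP⟩ = ⟨u, huP⟩ * y := by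
        intro h
        exact huZ (Subgroup.mem_subgroupOf.mpr ((hmemZP u).mpr ⟨huP, h⟩))
      push Not at h1
      obtain ⟨y, hy⟩ := h1
      refine ⟨⟨y, hPK y.2⟩, Subgroup.mem_subgroupOf.mpr y.2, ?_⟩
      intro h
      apply hy
      apply Subtype.ext
      have := congrArg (fun t : K => (t : G)) h
      exact this.symm)
    (by
      rw [eq_bot_iff]
      intro x hx
      have h1 : (x : G) ∈ H ⊓ P :=
        ⟨Subgroup.mem_subgroupOf.mp hx.1, Subgroup.mem_subgroupOf.mp hx.2⟩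
      have h2 : H ⊓ P = ⊥ := by
        apply (Subgroup.disjoint_of_coprime_natCard _).eq_bot
        rw [hn]
        exact Nat.Coprime.pow_right _ hcop
      rw [h2, Subgroup.mem_bot] at h1
      rw [Subgroup.mem_bot]
      exact Subtype.ext h1)
    (by
      rw [← Subgroup.subgroupOf_sup hHK hPK, sup_comm, ← hK, Subgroup.subgroupOf_self])
    (by
      intro a ha b hb
      have haH : (a : G) ∈ H := Subgroup.mem_subgroupOf.mp ha
      have hbH : (b : G) ∈ H := Subgroup.mem_subgroupOf.mp hb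
      obtain ⟨g, hg⟩ := IsCyclic.exists_generator (α := H)
      obtain ⟨i, hi⟩ := Subgroup.mem_zpowers_iff.mp (hg ⟨a, haH⟩)
      obtain ⟨j, hj⟩ := Subgroup.mem_zpowers_iff.mp (hg ⟨b, hbH⟩)
      have h1 : (⟨a, haH⟩ : H) * ⟨b, hbH⟩ = ⟨b, hbH⟩ * ⟨a, haH⟩ := by
        rw [← hi, ← hj]
        exact zpow_mul_comm g i j
      apply Subtype.ext
      exact congrArg (fun t : H => (t : G)) h1)
    (by rw [Nat.card_congr (Subgroup.subgroupOfEquivOfLe hHK).toEquiv]; exact hcop)
    (by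
      intro x hx hx1 u hu hxu
      have hxH : (x : G) ∈ H := Subgroup.mem_subgroupOf.mp hx
      have huP : (u : G) ∈ P := Subgroup.mem_subgroupOf.mp hu
      have hx1' : (x : G) ≠ 1 := fun h => hx1 (Subtype.ext h)
      apply Subgroup.mem_subgroupOf.mpr
      rw [hZPdef, ← hfix (x : G) hxH hx1']
      refine ⟨huP, Subgroup.mem_centralizer_iff.mpr ?_⟩
      intro w hw
      rw [Set.mem_singleton_iff] at hw
      subst hw
      exact congrArg (fun t : K => (t : G)) hxu)
  rw [Nat.card_congr (Subgroup.subgroupOfEquivOfLe hHK).toEquiv] at hres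
  exact hres

end Final

end Cfsg.Agent.helper24
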