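import Mathlib
import Cfsg.Prelude.Def_Solvable
import Cfsg.Agent.Lib_helper3_Basic

set_option autoImplicit false

/-!
Frobenius groups with kernel of prime order (shared library, helper24).

* `exists_normal_of_card_prime_mul` : `|G| = p * d` with `0 < d < p` gives a normal subgroup of order `p`;
* `frobenius_of_prime_kernel` : a self-centralizing normal subgroup `P` of prime order `p` and index
  `d > 1` prime to `p` has a complement `H` which is a Frobenius complement with Frobenius kernel `P`.
-/

namespace Cfsg.Agent.helper24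

open scoped Pointwise

theorem exists_normal_of_card_prime_mul {G : Type*} [Group G] [Finite G] (p d : ℕ) (hp : p.Prime)
    (hdpos : 0 < d) (hdlt : d < p) (hcard : Nat.card G = p * d) :
    ∃ P : Subgroup G, P.Normal ∧ Nat.card P = p ∧ P.index = d := by
  classical
  have hpd : ¬ p ∣ d := Nat.not_dvd_of_pos_of_lt hdpos hdlt
  have : Fact p.Prime := ⟨hp⟩
  let P : Sylow p G := default
  have hPcard : Nat.card P = p := by
    rw [Sylow.card_eq_multiplicity, hcard, Nat.factorization_mul hp.ne_zero hdpos.ne']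
    simp [hp.factorization_self, Nat.factorization_eq_zero_of_not_dvd hpd]
  have hPindex : (P : Subgroup G).index = d := by
    have h1 := Subgroup.card_mul_index (P : Subgroup G)
    rw [hPcard, hcard] at h1
    exact Nat.eq_of_mul_eq_mul_left hp.pos h1
  have hn1 : Nat.card (Sylow p G) = 1 := by
    have h1 : Nat.card (Sylow p G) ∣ d := hPindex ▸ Sylow.card_dvd_index P
    have h2 : Nat.card (Sylow p G) ≡ 1 [MOD p] := card_sylow_modEq_one p G
    have h3 : Nat.card (Sylow p G) ≤ d := Nat.le_of_dvd hdpos h1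
    have h4 : Nat.card (Sylow p G) < p := lt_of_le_of_lt h3 hdlt
    unfold Nat.ModEq at h2
    rwa [Nat.mod_eq_of_lt h4, Nat.mod_eq_of_lt hp.one_lt] at h2
  have hsub : Subsingleton (Sylow p G) := (Nat.card_eq_one_iff_unique.mp hn1).1
  have hPn : (P : Subgroup G).Normal := Sylow.normal_of_subsingleton P
  exact ⟨P, hPn, hPcard, hPindex⟩

theorem frobenius_of_prime_kernel {G : Type*} [Group G] [Finite G] (p d : ℕ) (hp : p.Prime)
    (hd1 : 1 < d) (hdlt : d < p) (P : Subgroup G) [hPn : P.Normal] (hPcard : Nat.card P = p)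
    (hPindex : P.index = d)
    (hcent : ∀ y : G, (∀ x ∈ P, y * x = x * y) → y ∈ P) :
    ∃ H : Subgroup G, Cfsg.IsFrobeniusComplement H ∧ Nat.card ↥(Cfsg.frobeniusKernel H) = p := by
  classical
  have : Fact p.Prime := ⟨hp⟩
  have hdpos : 0 < d := by omega
  have hpd : ¬ p ∣ d := Nat.not_dvd_of_pos_of_lt hdpos hdlt
  have hcop : Nat.Coprime (Nat.card P) P.index := by
    rw [hPcard, hPindex]
    exact (Nat.Prime.coprime_iff_not_dvd hp).2 hpd
  obtain ⟨H, hH⟩ := Subgroup.exists_right_complement'_of_coprime hcop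
  have hHcard : Nat.card H = d := by
    have h1 := hH.card_mul_card
    have h2 := Subgroup.card_mul_index P
    rw [hPindex] at h2
    rw [← h2, hPcard] at h1
    exact Nat.eq_of_mul_eq_mul_left hp.pos h1
  have hGcard : Nat.card G = p * d := by
    rw [← Subgroup.card_mul_index P, hPcard, hPindex]
  have hdisj : ∀ x : G, x ∈ P → x ∈ H → x = 1 := by
    intro x hxP hxH
    have h1 : x ∈ P ⊓ H := ⟨hxP, hxH⟩
    rw [hH.disjoint.eq_bot] at h1
    exact h1
  -- decomposition
  have hdecomp : ∀ g : G, ∃ a ∈ P, ∃ h ∈ H, g = a * h := by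
    intro g
    obtain ⟨⟨a, h⟩, hah⟩ := hH.2 g
    exact ⟨a, a.2, h, h.2, hah.symm⟩
  -- every element of P is a power of a nontrivial element
  have hpow : ∀ x ∈ P, x ≠ 1 → ∀ z ∈ P, ∃ k : ℤ, z = x ^ k := by
    intro x hx hx1 z hz
    have h1 : Subgroup.zpowers (⟨x, hx⟩ : P) = ⊤ :=
      zpowers_eq_top_of_prime_card hPcard (fun h => hx1 (congrArg Subtype.val h))
    have h2 : (⟨z, hz⟩ : P) ∈ Subgroup.zpowers (⟨x, hx⟩ : P) := by rw [h1]; trivial
    obtain ⟨k, hk⟩ := Subgroup.mem_zpowers_iff.1 h2
    refine ⟨k, ?_⟩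
    have := congrArg Subtype.val hk
    simpa using this.symm
  -- centralizer of a nontrivial element of P lies in P
  have hcent1 : ∀ x ∈ P, x ≠ 1 → ∀ y : G, y * x = x * y → y ∈ P := by
    intro x hx hx1 y hy
    apply hcent
    intro z hz
    obtain ⟨k, rfl⟩ := hpow x hx hx1 z hz
    have h1 : Commute y x := hy
    exact (h1.zpow_right k).eq
  have hHbot : H ≠ ⊥ := by
    intro h
    rw [h, Subgroup.card_bot] at hHcard
    omega
  have hHtop : H ≠ ⊤ := by
    intro h
    rw [h, Subgroup.card_top, hGcard] at hHcard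
    have : p * d > d := by nlinarith [hp.one_lt]
    omega
  -- elements of H commuting with a nontrivial element of P are trivial
  have hHcent : ∀ x ∈ P, x ≠ 1 → ∀ y ∈ H, y * x = x * y → y = 1 := by
    intro x hx hx1 y hy hyx
    exact hdisj y (hcent1 x hx hx1 y hyx) hy
  have hTI : ∀ g : G, g ∉ H → H ⊓ (MulAut.conj g • H) = ⊥ := by
    intro g hg
    rw [eq_bot_iff]
    intro y hy
    rw [Subgroup.mem_bot]
    rw [Subgroup.mem_inf] at hy
    have hyH : y ∈ H := hy.1
    have hyg : y ∈ MulAut.conj g • H := hy.2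
    rw [Cfsg.Agent.helper3.mem_conj_smul_iff] at hyg
    obtain ⟨a, ha, h, hh, rfl⟩ := hdecomp g
    have ha1 : a ≠ 1 := by
      intro h1
      apply hg
      rw [h1, one_mul]
      exact hh
    -- a⁻¹ y a ∈ H
    have h1 : a⁻¹ * y * a ∈ H := by
      have h2 : a⁻¹ * y * a = h * ((a * h)⁻¹ * y * (a * h)) * h⁻¹ := by group
      rw [h2]
      exact H.mul_mem (H.mul_mem hh hyg) (H.inv_mem hh)
    have h3 : y⁻¹ * (a⁻¹ * y * a) ∈ H := H.mul_mem (H.inv_mem hyH) h1
    have h4 : y⁻¹ * (a⁻¹ * y * a) ∈ P := by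
      have h5 : y⁻¹ * (a⁻¹ * y * a) = (y⁻¹ * a⁻¹ * y⁻¹⁻¹) * a := by group
      rw [h5]
      exact P.mul_mem (hPn.conj_mem _ (P.inv_mem ha) _) ha
    have h6 := hdisj _ h4 h3
    have h7 : y * a = a * y := by
      have h8 : a⁻¹ * y * a = y := by
        have : a⁻¹ * y * a = y * (y⁻¹ * (a⁻¹ * y * a)) := by group
        rw [this, h6, mul_one]
      calc y * a = a * (a⁻¹ * y * a) := by group
        _ = a * y := by rw [h8]
    exact hHcent a ha ha1 y hyH h7
  refine ⟨H, ⟨hHbot, hHtop, hTI⟩, ?_⟩
  have hker : Cfsg.frobeniusKernel H = (P : Set G) := by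
    ext x
    constructor
    · intro hx
      rcases hx with rfl | hx
      · exact P.one_mem
      · by_contra hxP
        have hxP' : x ∉ P := hxP
        obtain ⟨a, ha, h, hh, rfl⟩ := hdecomp x
        have hh1 : h ≠ 1 := by
          intro h1
          apply hxP'
          rw [h1, mul_one]
          exact ha
        -- the map b ↦ b * h * b⁻¹ * h⁻¹ on P is injective, hence surjective
        let φ : P → P := fun b => ⟨(b : G) * h * (b : G)⁻¹ * h⁻¹, by
          have : (b : G) * h * (b : G)⁻¹ * h⁻¹ = (b : G) * (h * (b : G)⁻¹ * h⁻¹) := by group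
          rw [this]
          exact P.mul_mem b.2 (hPn.conj_mem _ (P.inv_mem b.2) _)⟩
        have hφinj : Function.Injective φ := by
          intro b b' hbb
          have h1 : (b : G) * h * (b : G)⁻¹ * h⁻¹ = (b' : G) * h * (b' : G)⁻¹ * h⁻¹ :=
            congrArg Subtype.val hbb
          have h2 : (b : G) * h * (b : G)⁻¹ = (b' : G) * h * (b' : G)⁻¹ :=
            mul_right_cancel h1
          by_contra hne
          have hc1 : (b' : G)⁻¹ * (b : G) ≠ 1 := by
            intro h3
            apply hne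
            apply Subtype.ext
            have : (b : G) = (b' : G) * ((b' : G)⁻¹ * (b : G)) := by group
            rw [this, h3, mul_one]
          have hcP : (b' : G)⁻¹ * (b : G) ∈ P := P.mul_mem (P.inv_mem b'.2) b.2
          have hcomm : h * ((b' : G)⁻¹ * (b : G)) = ((b' : G)⁻¹ * (b : G)) * h := by
            have : ((b' : G)⁻¹ * (b : G)) * h = (b' : G)⁻¹ * ((b : G) * h * (b : G)⁻¹) * (b : G) := by
              group
            rw [this, h2]
            group
          exact hh1 (hHcent _ hcP hc1 h hh hcomm)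
        have hφsurj : Function.Surjective φ := Finite.injective_iff_surjective.1 hφinj
        obtain ⟨b, hb⟩ := hφsurj ⟨a, ha⟩
        have hb' : (b : G) * h * (b : G)⁻¹ * h⁻¹ = a := congrArg Subtype.val hb
        apply hx (b : G)
        rw [Cfsg.Agent.helper3.mem_conj_smul_iff, ← hb']
        have : (b : G)⁻¹ * ((b : G) * h * (b : G)⁻¹ * h⁻¹ * h) * (b : G) = h := by group
        rw [this]
        exact hh
    · intro hx
      have hxP : x ∈ P := hx
      by_cases hx1 : x = 1
      · exact Or.inl hx1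
      · right
        intro g hxg
        rw [Cfsg.Agent.helper3.mem_conj_smul_iff] at hxg
        have h1 : g⁻¹ * x * g ∈ P := by
          have := hPn.conj_mem x hxP g⁻¹
          rwa [inv_inv] at this
        have h2 := hdisj _ h1 hxg
        apply hx1
        have : x = g * (g⁻¹ * x * g) * g⁻¹ := by group
        rw [this, h2]
        group
  rw [hker]
  exact hPcard

end Cfsg.Agent.helper24
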