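import Cfsg.Agent.Lib_helper24_CharCod
import Cfsg.Prelude.Def_Transfer

set_option autoImplicit false
open Cfsg

namespace Cfsg.Agent.helper24

open scoped ComplexConjugate

universe u
variable {G : Type u} [Group G]

/-- A character nonzero on exactly two classes is nonzero exactly at `1` and at the conjugates of
some `x ≠ 1`. -/
theorem two_classes_structure [Finite G] (χ : IrrCharacter G)
    (hχ : Nat.card {C : ConjClasses G // ∃ g ∈ C.carrier, (χ : G → ℂ) g ≠ 0} = 2) :
    ∃ x : G, x ≠ 1 ∧ ∀ g, (χ : G → ℂ) g ≠ 0 ↔ (g = 1 ∨ IsConj g x) := by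
  have hcf : ∀ a b : G, IsConj a b → (χ : G → ℂ) a = (χ : G → ℂ) b :=
    isClassFunction_iff_isConj.mp (char_isClassFunction (irr_isCharacter χ.2))
  have h1 : (χ : G → ℂ) 1 ≠ 0 := irr_apply_one_ne_zero χ.2
  let c1 : {C : ConjClasses G // ∃ g ∈ C.carrier, (χ : G → ℂ) g ≠ 0} :=
    ⟨ConjClasses.mk 1, 1, ConjClasses.mem_carrier_mk, h1⟩
  obtain ⟨⟨C₀, g₀, hg₀C, hg₀⟩, hne, huniq⟩ := (Nat.card_eq_two_iff' c1).mp hχ
  have hC₀ : C₀ = ConjClasses.mk g₀ := (ConjClasses.mem_carrier_iff_mk_eq.mp hg₀C).symm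
  refine ⟨g₀, ?_, ?_⟩
  · rintro rfl
    apply hne
    apply Subtype.ext
    exact hC₀
  · intro g
    constructor
    · intro hg
      by_cases hg1 : g = 1
      · left; exact hg1
      · right
        have hgne : (⟨ConjClasses.mk g, g, ConjClasses.mem_carrier_mk, hg⟩ :
            {C : ConjClasses G // ∃ g ∈ C.carrier, (χ : G → ℂ) g ≠ 0}) ≠ c1 := by
          intro h
          have h2 : ConjClasses.mk g = ConjClasses.mk (1 : G) := congrArg Subtype.val h
          rw [ConjClasses.mk_eq_mk_iff_isConj] at h2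
          exact hg1 (isConj_one_left.mp h2)
        have h3 := huniq _ hgne
        have h4 : ConjClasses.mk g = C₀ := congrArg Subtype.val h3
        rw [hC₀, ConjClasses.mk_eq_mk_iff_isConj] at h4
        exact h4
    · rintro (rfl | hg)
      · exact h1
      · rw [hcf g g₀ hg]
        exact hg₀

theorem sum_two_classes [Fintype G] (χ ψ : G → ℂ) (hχ : IsClassFunction G χ)
    (hψ : IsClassFunction G ψ) (x : G) (hx : x ≠ 1)
    (hsupp : ∀ g, χ g ≠ 0 → (g = 1 ∨ IsConj g x)) :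
    ∑ g : G, χ g * conj (ψ g) = χ 1 * conj (ψ 1) +
      (Nat.card {y : G // IsConj y x} : ℂ) * (χ x * conj (ψ x)) := by
  classical
  have hcf : IsClassFunction G (fun g => χ g * conj (ψ g)) := by
    intro g h
    simp only [hχ g h, hψ g h]
  have hpt : ∀ g : G, χ g * conj (ψ g) = (if g = 1 then χ 1 * conj (ψ 1) else 0) +
      (if IsConj g x then (fun g => χ g * conj (ψ g)) g else 0) := by
    intro g
    by_cases hg1 : g = 1
    · subst hg1
      have : ¬ IsConj (1 : G) x := fun h => hx (isConj_one_left.mp h.symm)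
      rw [if_pos rfl, if_neg this, add_zero]
    · rw [if_neg hg1, zero_add]
      by_cases hgx : IsConj g x
      · rw [if_pos hgx]
      · rw [if_neg hgx]
        have : χ g = 0 := by
          by_contra h
          rcases hsupp g h with h1 | h1
          · exact hg1 h1
          · exact hgx h1
        rw [this, zero_mul]
  rw [Finset.sum_congr rfl (fun g _ => hpt g), Finset.sum_add_distrib,
    Finset.sum_ite_eq' Finset.univ (1 : G), if_pos (Finset.mem_univ _),
    sum_indicator_conj hcf x]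

theorem gagola_core [Finite G] (hG : 2 < Nat.card G) (χ : IrrCharacter G) (x : G) (hx : x ≠ 1)
    (hsupp : ∀ g, (χ : G → ℂ) g ≠ 0 ↔ (g = 1 ∨ IsConj g x)) :
    (χ : G → ℂ) x ≠ (χ : G → ℂ) 1 ∧
      (∀ ψ : IrrCharacter G, ψ ≠ χ → (ψ : G → ℂ) x = (ψ : G → ℂ) 1) ∧ irrOne G ≠ χ := by
  classical
  have := Fintype.ofFinite G
  set c : ℕ := Nat.card {y : G // IsConj y x} with hc
  have hGne : (Nat.card G : ℂ) ≠ 0 := by
    have : 0 < Nat.card G := Nat.card_pos
    exact_mod_cast this.ne'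
  have hform : ∀ ψ : IrrCharacter G, (χ : G → ℂ) 1 * conj ((ψ : G → ℂ) 1) +
      (c : ℂ) * ((χ : G → ℂ) x * conj ((ψ : G → ℂ) x)) =
      (Nat.card G : ℂ) * (if (χ : G → ℂ) = (ψ : G → ℂ) then 1 else 0) := by
    intro ψ
    have hs := sum_two_classes (χ : G → ℂ) (ψ : G → ℂ) (char_isClassFunction (irr_isCharacter χ.2))
        (char_isClassFunction (irr_isCharacter ψ.2)) x hx (fun g hg => (hsupp g).mp hg)
    have hi := irr_classInner χ.2 ψ.2
    rw [classInner, inv_mul_eq_iff_eq_mul₀ hGne] at hi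
    rw [← hs, hi]
  have hχ1 : (χ : G → ℂ) 1 ≠ 0 := irr_apply_one_ne_zero χ.2
  -- Step A
  have hA : irrOne G ≠ χ := by
    intro h
    have h1 : ∀ g, (χ : G → ℂ) g = 1 := by
      intro g
      rw [← h]
      rfl
    have h2 := hform χ
    rw [if_pos rfl, h1, h1] at h2
    simp only [map_one, mul_one] at h2
    have h3 : 1 + c = Nat.card G := by exact_mod_cast h2
    have h4 : c * Nat.card (Subgroup.centralizer ({x} : Set G)) = Nat.card G :=
      card_conj_mul_card_centralizer x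
    have h5 : c ∣ 1 + c := by
      rw [h3]
      exact Dvd.intro _ h4
    have h6 : c ∣ 1 := (Nat.dvd_add_left (dvd_refl c)).mp h5
    have h7 : c = 1 := Nat.dvd_one.mp h6
    omega
  -- Step B
  have hB : (χ : G → ℂ) 1 + (c : ℂ) * (χ : G → ℂ) x = 0 := by
    have h2 := hform (irrOne G)
    have hne : ¬ ((χ : G → ℂ) = ((irrOne G : IrrCharacter G) : G → ℂ)) := by
      intro h
      exact hA (Subtype.ext h.symm)
    rw [if_neg hne, mul_zero] at h2
    have e1 : ((irrOne G : IrrCharacter G) : G → ℂ) 1 = 1 := rfl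
    have e2 : ((irrOne G : IrrCharacter G) : G → ℂ) x = 1 := rfl
    rw [e1, e2] at h2
    simpa using h2
  refine ⟨?_, ?_, hA⟩
  · intro h
    rw [h] at hB
    have h1 : ((1 + c : ℕ) : ℂ) * (χ : G → ℂ) 1 = 0 := by
      push_cast
      linear_combination hB
    rcases mul_eq_zero.mp h1 with h2 | h2
    · have : (1 + c : ℕ) = 0 := by exact_mod_cast h2
      omega
    · exact hχ1 h2
  · intro ψ hψ
    have h2 := hform ψ
    have hne : ¬ ((χ : G → ℂ) = (ψ : G → ℂ)) := by
      intro h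
      exact hψ (Subtype.ext h.symm)
    rw [if_neg hne, mul_zero] at h2
    have h3 : (χ : G → ℂ) 1 * (conj ((ψ : G → ℂ) 1) - conj ((ψ : G → ℂ) x)) = 0 := by
      linear_combination h2 - conj ((ψ : G → ℂ) x) * hB
    rcases mul_eq_zero.mp h3 with h4 | h4
    · exact absurd h4 hχ1
    · have h5 : conj ((ψ : G → ℂ) 1) = conj ((ψ : G → ℂ) x) := sub_eq_zero.mp h4
      exact ((starRingEnd ℂ).injective h5).symm

/-- A sum of `|ψ(1)|^2` over a set of irreducible characters containing the principal one is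
nonzero. -/
theorem sum_degree_sq_ne_zero {H : Type*} [Group H] (s : Finset (IrrCharacter H))
    (hs : irrOne H ∈ s) :
    ∑ ψ ∈ s, (ψ : H → ℂ) 1 * conj ((ψ : H → ℂ) 1) ≠ 0 := by
  intro h
  have h1 : ∑ ψ ∈ s, Complex.normSq ((ψ : H → ℂ) 1) = 0 := by
    have := congrArg Complex.re h
    simp only [Complex.re_sum, Complex.mul_conj, Complex.ofReal_re, Complex.zero_re] at this
    exact this
  have h2 := (Finset.sum_eq_zero_iff_of_nonneg (fun ψ _ => Complex.normSq_nonneg _)).mp h1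
    (irrOne H) hs
  have e1 : ((irrOne H : IrrCharacter H) : H → ℂ) 1 = 1 := rfl
  rw [e1, Complex.normSq_one] at h2
  exact one_ne_zero h2

theorem gagola_main [Finite G] (hG : 2 < Nat.card G) (χ : IrrCharacter G)
    (hχ : Nat.card {C : ConjClasses G // ∃ g ∈ C.carrier, (χ : G → ℂ) g ≠ 0} = 2) :
    (∀ g, (χ : G → ℂ) g = (χ : G → ℂ) 1 → g = 1) ∧
    (∀ ψ : IrrCharacter G, (∀ g, (ψ : G → ℂ) g = (ψ : G → ℂ) 1 → g = 1) → ψ = χ) ∧
    ∃ N : Subgroup G, N.Normal ∧ N ≠ ⊥ ∧ (∀ K : Subgroup G, K.Normal → K ≠ ⊥ → N ≤ K) ∧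
      (∀ g, (χ : G → ℂ) g ≠ 0 ↔ g ∈ N) ∧
      (∀ a ∈ N, ∀ b ∈ N, a ≠ 1 → b ≠ 1 → IsConj a b) := by
  classical
  have := Fintype.ofFinite (IrrCharacter G)
  obtain ⟨x, hx, hsupp⟩ := two_classes_structure χ hχ
  obtain ⟨hxne, hker, hone⟩ := gagola_core hG χ x hx hsupp
  have hcf : ∀ (ψ : IrrCharacter G) (a b : G), IsConj a b → (ψ : G → ℂ) a = (ψ : G → ℂ) b :=
    fun ψ => isClassFunction_iff_isConj.mp (char_isClassFunction (irr_isCharacter ψ.2))
  have hχ1 : (χ : G → ℂ) 1 ≠ 0 := irr_apply_one_ne_zero χ.2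
  have hfaith : ∀ g, (χ : G → ℂ) g = (χ : G → ℂ) 1 → g = 1 := by
    intro g hg
    have h1 : (χ : G → ℂ) g ≠ 0 := by rw [hg]; exact hχ1
    rcases (hsupp g).mp h1 with h2 | h2
    · exact h2
    · exfalso
      rw [hcf χ g x h2] at hg
      exact hxne hg
  refine ⟨hfaith, ?_, ?_⟩
  · intro ψ hψ
    by_contra hne
    exact hx (hψ x (hker ψ hne))
  let N : Subgroup G := ⨅ ψ : {ψ : IrrCharacter G // ψ ≠ χ}, charKer (irr_isCharacter ψ.1.2)
  have hNmem : ∀ g, g ∈ N ↔ ∀ ψ : IrrCharacter G, ψ ≠ χ → (ψ : G → ℂ) g = (ψ : G → ℂ) 1 := by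
    intro g
    simp only [N, Subgroup.mem_iInf, mem_charKer, Subtype.forall]
  have hNnormal : N.Normal := Subgroup.normal_iInf_normal (fun ψ => charKer_normal _)
  have hNiff : ∀ g, (χ : G → ℂ) g ≠ 0 ↔ g ∈ N := by
    intro g
    constructor
    · intro hg
      rw [hNmem]
      intro ψ hψ
      rcases (hsupp g).mp hg with h2 | h2
      · rw [h2]
      · rw [hcf ψ g x h2]
        exact hker ψ hψ
    · intro hg hzero
      rw [hNmem] at hg
      by_cases hg1 : g = 1
      · rw [hg1] at hzero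
        exact hχ1 hzero
      · have hcol := irr_column_orthogonality (G := G) g 1
        have hnc : ¬ IsConj g 1 := fun h => hg1 (isConj_one_left.mp h)
        rw [if_neg hnc, ← Finset.add_sum_erase Finset.univ _ (Finset.mem_univ χ), hzero, zero_mul,
          zero_add] at hcol
        have hcol2 : ∑ ψ ∈ Finset.univ.erase χ, (ψ : G → ℂ) 1 * conj ((ψ : G → ℂ) 1) = 0 := by
          rw [← hcol]
          apply Finset.sum_congr rfl
          intro ψ hψ
          rw [hg ψ (Finset.ne_of_mem_erase hψ)]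
        exact sum_degree_sq_ne_zero (Finset.univ.erase χ)
          (Finset.mem_erase.mpr ⟨hone, Finset.mem_univ _⟩) hcol2
  refine ⟨N, hNnormal, ?_, ?_, hNiff, ?_⟩
  · intro hbot
    have hxN : x ∈ N := (hNiff x).mp ((hsupp x).mpr (Or.inr (IsConj.refl x)))
    rw [hbot, Subgroup.mem_bot] at hxN
    exact hx hxN
  · intro K hKn hKb y hy
    have := hKn
    rw [hNmem] at hy
    obtain ⟨k, hk1⟩ := (Subgroup.ne_bot_iff_exists_ne_one).mp hKb
    have hk1' : (k : G) ≠ 1 := fun h => hk1 (Subtype.ext h)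
    have := Fintype.ofFinite (IrrCharacter (G ⧸ K))
    have hall : ∀ φ : IrrCharacter (G ⧸ K),
        (φ : G ⧸ K → ℂ) (QuotientGroup.mk y) = (φ : G ⧸ K → ℂ) 1 := by
      intro φ
      have hne : (inflEquiv K φ).1 ≠ χ := by
        intro h
        have h1 : (χ : G → ℂ) k = (χ : G → ℂ) 1 := by
          rw [← h]
          exact (inflEquiv K φ).2 k k.2
        exact hk1' (hfaith k h1)
      have h2 := hy _ hne
      rw [inflEquiv_apply, inflEquiv_apply] at h2
      exact h2
    have hcol := irr_column_orthogonality (G := G ⧸ K) (QuotientGroup.mk y) 1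
    have hlhs : ∑ φ : IrrCharacter (G ⧸ K), (φ : G ⧸ K → ℂ) (QuotientGroup.mk y) *
        conj ((φ : G ⧸ K → ℂ) 1) ≠ 0 := by
      rw [Finset.sum_congr rfl (fun φ _ => by rw [hall φ])]
      exact sum_degree_sq_ne_zero Finset.univ (Finset.mem_univ _)
    have hconj : IsConj (QuotientGroup.mk y : G ⧸ K) 1 := by
      by_contra hnc
      rw [if_neg hnc] at hcol
      exact hlhs hcol
    have : (QuotientGroup.mk y : G ⧸ K) = 1 := isConj_one_left.mp hconj
    exact (QuotientGroup.eq_one_iff y).mp this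
  · intro a ha b hb ha1 hb1
    have h1 : IsConj a x := ((hsupp a).mp ((hNiff a).mpr ha)).resolve_left ha1
    have h2 : IsConj b x := ((hsupp b).mp ((hNiff b).mpr hb)).resolve_left hb1
    exact h1.trans h2.symm

/-- A nontrivial normal subgroup all of whose nonidentity elements are conjugate in `G` is
elementary abelian. -/
theorem elemAb_of_conj [Finite G] (N : Subgroup G) [hN : N.Normal] (hNb : N ≠ ⊥)
    (hconj : ∀ a ∈ N, ∀ b ∈ N, a ≠ 1 → b ≠ 1 → IsConj a b) :
    ∃ p : ℕ, p.Prime ∧ IsElementaryAbelian p N := by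
  obtain ⟨⟨x, hxN⟩, hx1⟩ := (Subgroup.ne_bot_iff_exists_ne_one).mp hNb
  have hx1' : x ≠ 1 := fun h => hx1 (Subtype.ext h)
  have hox : orderOf x ≠ 1 := fun h => hx1' (orderOf_eq_one_iff.mp h)
  set p := Nat.minFac (orderOf x) with hp
  have hpp : p.Prime := Nat.minFac_prime hox
  have hpd : p ∣ orderOf x := Nat.minFac_dvd _
  set y := x ^ (orderOf x / p) with hy
  have hoy : orderOf y = p := orderOf_pow_orderOf_div (orderOf_pos x).ne' hpd
  have hyN : y ∈ N := N.pow_mem hxN _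
  have hy1 : y ≠ 1 := by
    intro h
    rw [h, orderOf_one] at hoy
    exact hpp.one_lt.ne' hoy.symm
  have hpow : ∀ a ∈ N, a ^ p = 1 := by
    intro a ha
    by_cases ha1 : a = 1
    · rw [ha1, one_pow]
    · obtain ⟨c, hc⟩ := isConj_iff.mp (hconj y hyN a ha hy1 ha1)
      rw [← hc, conj_pow, ← hoy, pow_orderOf_eq_one]
      group
  refine ⟨p, hpp, ?_, hpow⟩
  have hfact : Fact p.Prime := ⟨hpp⟩
  have hpg : IsPGroup p N := by
    intro a
    refine ⟨1, ?_⟩
    rw [pow_one]
    exact Subtype.ext (hpow a a.2)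
  have hnt : Nontrivial N := by
    rw [Subgroup.nontrivial_iff_ne_bot]
    exact hNb
  have hcen : Nontrivial (Subgroup.center N) := hpg.center_nontrivial
  obtain ⟨z, hz, hz1⟩ := (Subgroup.nontrivial_iff_exists_ne_one _).mp hcen
  have hz1' : (z : G) ≠ 1 := fun h => hz1 (Subtype.ext h)
  have hzc : ∀ n : N, (z : G) * n = n * z := by
    intro n
    have := (Subgroup.mem_center_iff.mp hz) n
    exact (congrArg Subtype.val this).symm
  refine ⟨⟨fun a b => ?_⟩⟩
  apply Subtype.ext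
  rw [Subgroup.coe_mul, Subgroup.coe_mul]
  by_cases ha1 : (a : G) = 1
  · rw [ha1, one_mul, mul_one]
  · obtain ⟨c, hc⟩ := isConj_iff.mp (hconj z z.2 a a.2 hz1' ha1)
    have hb' : c⁻¹ * b * c ∈ N := by
      have := hN.conj_mem b b.2 c⁻¹
      simpa using this
    have h1 := hzc ⟨c⁻¹ * b * c, hb'⟩
    simp only at h1
    rw [← hc]
    calc c * z * c⁻¹ * b = c * (z * (c⁻¹ * b * c)) * c⁻¹ := by group
      _ = c * ((c⁻¹ * b * c) * z) * c⁻¹ := by rw [h1]
      _ = b * (c * z * c⁻¹) := by group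

end Cfsg.Agent.helper24
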