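import Cfsg.Agent.Lib_helper24_Gagola
import Cfsg.Agent.Lib_helper12_CharOps

set_option autoImplicit false
open Cfsg

namespace Cfsg.Agent.helper24

open scoped ComplexConjugate

universe u
variable {G : Type u} [Group G]

/-- Values of a character supported on two classes. -/
theorem gagola_values [Finite G] (hG : 2 < Nat.card G) (χ : IrrCharacter G) (x : G) (hx : x ≠ 1)
    (hsupp : ∀ g, (χ : G → ℂ) g ≠ 0 ↔ (g = 1 ∨ IsConj g x)) :
    ((χ : G → ℂ) 1 + (Nat.card {y : G // IsConj y x} : ℂ) * (χ : G → ℂ) x = 0) ∧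
      Nat.card {y : G // IsConj y x} * Nat.card G =
        (charDegree (χ : G → ℂ)) ^ 2 * (Nat.card {y : G // IsConj y x} + 1) := by
  classical
  have := Fintype.ofFinite G
  obtain ⟨_, _, hone⟩ := gagola_core hG χ x hx hsupp
  set c : ℕ := Nat.card {y : G // IsConj y x} with hc
  have hGne : (Nat.card G : ℂ) ≠ 0 := by
    have : 0 < Nat.card G := Nat.card_pos
    exact_mod_cast this.ne'
  have hform : ∀ ψ : IrrCharacter G, (χ : G → ℂ) 1 * conj ((ψ : G → ℂ) 1) +
      (c : ℂ) * ((χ : G → ℂ) x * conj ((ψ : G → ℂ) x)) =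
      (Nat.card G : ℂ) * (if (χ : G → ℂ) = (ψ : G → ℂ) then 1 else 0) := by
    intro ψ
    have hs := sum_two_classes (χ : G → ℂ) (ψ : G → ℂ) (char_isClassFunction (irr_isCharacter χ.2))
        (char_isClassFunction (irr_isCharacter ψ.2)) x hx (fun g hg => (hsupp g).mp hg)
    have hi := irr_classInner χ.2 ψ.2
    rw [classInner, inv_mul_eq_iff_eq_mul₀ hGne] at hi
    rw [← hs, hi]
  have hB : (χ : G → ℂ) 1 + (c : ℂ) * (χ : G → ℂ) x = 0 := by
    have h2 := hform (irrOne G)
    have hne : ¬ ((χ : G → ℂ) = ((irrOne G : IrrCharacter G) : G → ℂ)) := by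
      intro h
      exact hone (Subtype.ext h.symm)
    rw [if_neg hne, mul_zero] at h2
    have e1 : ((irrOne G : IrrCharacter G) : G → ℂ) 1 = 1 := rfl
    have e2 : ((irrOne G : IrrCharacter G) : G → ℂ) x = 1 := rfl
    rw [e1, e2] at h2
    simpa using h2
  refine ⟨hB, ?_⟩
  have hd : ((charDegree (χ : G → ℂ) : ℕ) : ℂ) = (χ : G → ℂ) 1 :=
    char_charDegree_cast (irr_isCharacter χ.2)
  have h3 := hform χ
  rw [if_pos rfl, mul_one, ← hd] at h3
  rw [← hd] at hB
  have hcx : (c : ℂ) * (χ : G → ℂ) x = -(charDegree (χ : G → ℂ) : ℂ) := by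
    linear_combination hB
  have h4 : (c : ℂ) * (Nat.card G : ℂ) =
      (charDegree (χ : G → ℂ) : ℂ) ^ 2 * ((c : ℂ) + 1) := by
    have h5 : conj ((c : ℂ) * (χ : G → ℂ) x) = -(charDegree (χ : G → ℂ) : ℂ) := by
      rw [hcx, map_neg, Complex.conj_natCast]
    rw [map_mul, Complex.conj_natCast] at h5
    rw [Complex.conj_natCast] at h3
    have h6 : (c : ℂ) * (Nat.card G : ℂ) = (c : ℂ) * ((charDegree (χ : G → ℂ) : ℂ) *
        (charDegree (χ : G → ℂ) : ℂ)) + ((c : ℂ) * (χ : G → ℂ) x) *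
        ((c : ℂ) * conj ((χ : G → ℂ) x)) := by
      rw [← h3]
      ring
    rw [h6, hcx, h5]
    ring
  exact_mod_cast h4

/-- If an irreducible character vanishes on the nonidentity elements of a subgroup, the order of
the subgroup divides the degree. -/
theorem card_dvd_degree_of_vanishing [Finite G] {χ : G → ℂ} (hχ : IsCharacter G χ) (Q : Subgroup G)
    (hvan : ∀ y ∈ Q, y ≠ 1 → χ y = 0) : Nat.card Q ∣ charDegree χ := by
  classical
  have := Fintype.ofFinite Q
  have h1 : IsCharacter Q (fun h : Q => χ (h : G)) := helper12.isCharacter_restrict Q hχ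
  have h2 : IsCharacter Q (fun _ : Q => (1 : ℂ)) := irr_isCharacter isIrrCharacter_one
  obtain ⟨k, hk⟩ := helper12.classInner_char_nat h1 h2
  have hQne : (Nat.card Q : ℂ) ≠ 0 := by
    have : 0 < Nat.card Q := Nat.card_pos
    exact_mod_cast this.ne'
  rw [classInner, inv_mul_eq_iff_eq_mul₀ hQne] at hk
  have h3 : ∑ g : Q, (fun h : Q => χ (h : G)) g * conj ((fun _ : Q => (1 : ℂ)) g) = χ 1 := by
    rw [Finset.sum_eq_single (1 : Q)]
    · simp
    · intro b _ hb
      have : χ (b : G) = 0 := hvan b b.2 (fun h => hb (Subtype.ext h))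
      simp [this]
    · intro h
      exact absurd (Finset.mem_univ _) h
  rw [h3, ← char_charDegree_cast hχ] at hk
  have h4 : charDegree χ = Nat.card Q * k := by exact_mod_cast hk
  exact Dvd.intro k h4.symm

theorem gagola_arith (c g d e a p : ℕ) (hp : p.Prime) (hg : g ≠ 0) (hd : d ≠ 0)
    (hce : g = c * e) (h1 : c * g = d ^ 2 * (c + 1)) (hc1 : c + 1 = p ^ a)
    (hq : ∀ q : ℕ, q.Prime → q ≠ p → q ^ (g.factorization q) ∣ d) : ∃ k : ℕ, e = p ^ k := by
  have hc0 : c ≠ 0 := by
    rintro rfl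
    rw [zero_mul] at hce
    exact hg hce
  have he0 : e ≠ 0 := by
    rintro rfl
    rw [mul_zero] at hce
    exact hg hce
  refine ⟨e.primeFactorsList.length, Nat.eq_prime_pow_of_unique_prime_dvd he0 ?_⟩
  intro q hqp hqe
  by_contra hne
  have hve : 0 < e.factorization q := hqp.factorization_pos_of_dvd he0 hqe
  have hvg : g.factorization q = c.factorization q + e.factorization q := by
    rw [hce, Nat.factorization_mul hc0 he0]
    rfl
  have hvd : g.factorization q ≤ d.factorization q :=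
    (hqp.pow_dvd_iff_le_factorization hd).mp (hq q hqp hne)
  have hndvd : ¬ q ∣ p ^ a := by
    intro h
    exact hne ((Nat.prime_dvd_prime_iff_eq hqp hp).mp (hqp.dvd_of_dvd_pow h))
  have h2 : (c * g).factorization q = (d ^ 2 * (c + 1)).factorization q := by rw [h1]
  rw [Nat.factorization_mul hc0 hg, Nat.factorization_mul (pow_ne_zero 2 hd) (by omega),
    Nat.factorization_pow, hc1] at h2
  simp only [Finsupp.coe_add, Pi.add_apply, Finsupp.coe_smul, Pi.smul_apply, smul_eq_mul,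
    Nat.factorization_eq_zero_of_not_dvd hndvd, add_zero] at h2
  omega

theorem card_eq_one_add_card_conj [Finite G] (N : Subgroup G) (x : G) (hx : x ≠ 1)
    (hN : ∀ g, g ∈ N ↔ (g = 1 ∨ IsConj g x)) :
    Nat.card N = 1 + Nat.card {y : G // IsConj y x} := by
  classical
  have := Fintype.ofFinite G
  have e1 : Nat.card N = Nat.card {g : G // g = 1 ∨ IsConj g x} :=
    Nat.card_congr (Equiv.subtypeEquivRight hN)
  rw [e1, Nat.card_eq_fintype_card, Nat.card_eq_fintype_card, Fintype.card_subtype,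
    Fintype.card_subtype, Finset.filter_or, Finset.card_union_of_disjoint]
  · congr 1
    rw [Finset.card_eq_one]
    refine ⟨1, ?_⟩
    ext g
    simp
  · rw [Finset.disjoint_filter]
    intro g _ hg1 hgx
    rw [hg1] at hgx
    exact hx (isConj_one_left.mp hgx.symm)

theorem gagola_setup [Finite G] (hG : 2 < Nat.card G) (χ : IrrCharacter G)
    (hχ : Nat.card {C : ConjClasses G // ∃ g ∈ C.carrier, (χ : G → ℂ) g ≠ 0} = 2)
    (p : ℕ) [hp : Fact p.Prime] (N : Subgroup G) [N.Normal]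
    (hN : ∀ g : G, g ∈ N ↔ (χ : G → ℂ) g ≠ 0) (hNp : IsPGroup p N) (hN1 : N ≠ ⊥)
    (x : G) (hxN : x ∈ N) (hx1 : x ≠ 1) :
    (∀ g, (χ : G → ℂ) g ≠ 0 ↔ (g = 1 ∨ IsConj g x)) ∧
      Nat.card {y : G // IsConj y x} + 1 = Nat.card N ∧
      ¬ p ∣ Nat.card {y : G // IsConj y x} ∧
      ∃ k : ℕ, Nat.card (Subgroup.centralizer ({x} : Set G)) = p ^ k := by
  classical
  obtain ⟨x₀, hx₀, hsupp₀⟩ := two_classes_structure χ hχ
  have hxx₀ : IsConj x x₀ := ((hsupp₀ x).mp ((hN x).mp hxN)).resolve_left hx1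
  have hsupp : ∀ g, (χ : G → ℂ) g ≠ 0 ↔ (g = 1 ∨ IsConj g x) := by
    intro g
    rw [hsupp₀ g]
    constructor
    · rintro (h | h)
      · left; exact h
      · right; exact h.trans hxx₀.symm
    · rintro (h | h)
      · left; exact h
      · right; exact h.trans hxx₀
  set c := Nat.card {y : G // IsConj y x} with hc
  have hcardN : c + 1 = Nat.card N := by
    rw [card_eq_one_add_card_conj N x hx1 (fun g => (hN g).trans (hsupp g)), add_comm]
  have hNcard1 : Nat.card N ≠ 1 := by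
    intro h
    exact hN1 ((Subgroup.eq_bot_iff_card N).mpr h)
  have hpN : p ∣ Nat.card N := (hNp.card_eq_or_dvd).resolve_left hNcard1
  have hpc : ¬ p ∣ c := by
    intro h
    rw [← hcardN] at hpN
    have : p ∣ 1 := (Nat.dvd_add_right h).mp hpN
    exact hp.1.one_lt.ne' (Nat.dvd_one.mp this)
  refine ⟨hsupp, hcardN, hpc, ?_⟩
  obtain ⟨a, ha⟩ := (IsPGroup.iff_card).mp hNp
  obtain ⟨_, hval⟩ := gagola_values hG χ x hx1 hsupp
  have hce : Nat.card G = c * Nat.card (Subgroup.centralizer ({x} : Set G)) :=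
    (card_conj_mul_card_centralizer x).symm
  apply gagola_arith c (Nat.card G) (charDegree (χ : G → ℂ)) _ a p hp.1 Nat.card_pos.ne'
    (irr_charDegree_pos χ.2).ne' hce hval (hcardN.trans ha)
  intro q hq hqp
  have hqf : Fact q.Prime := ⟨hq⟩
  let Q : Sylow q G := default
  have hQcard : Nat.card Q = q ^ (Nat.card G).factorization q := Sylow.card_eq_multiplicity Q
  rw [← hQcard]
  apply card_dvd_degree_of_vanishing (irr_isCharacter χ.2)
  intro y hyQ hy1
  by_contra hne
  have hyN : y ∈ N := (hN y).mpr hne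
  have hdisj : Disjoint (Q : Subgroup G) N := IsPGroup.disjoint_of_ne q p hqp _ _ Q.2 hNp
  have : y ∈ (Q : Subgroup G) ⊓ N := ⟨hyQ, hyN⟩
  rw [hdisj.eq_bot, Subgroup.mem_bot] at this
  exact hy1 this

end Cfsg.Agent.helper24
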