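import Cfsg.Agent.Lib_helper24_Inertia
import Cfsg.Agent.Lib_helper5_Sylow

set_option autoImplicit false
open Cfsg

namespace Cfsg.Agent.helper24

open scoped ComplexConjugate

universe u
variable {G : Type u} [Group G]

/-- In Gagola's situation, all irreducible characters other than `χ` contain `N` in their
kernel, and `χ` does not. -/
theorem gagola_ker_iff [Finite G] (hG : 2 < Nat.card G) (χ : IrrCharacter G)
    (hχ : Nat.card {C : ConjClasses G // ∃ g ∈ C.carrier, (χ : G → ℂ) g ≠ 0} = 2)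
    (N : Subgroup G) (hN : ∀ g : G, g ∈ N ↔ (χ : G → ℂ) g ≠ 0) (ψ : IrrCharacter G) :
    (∀ n ∈ N, (ψ : G → ℂ) n = (ψ : G → ℂ) 1) ↔ ψ ≠ χ := by
  obtain ⟨x, hx, hsupp⟩ := two_classes_structure χ hχ
  obtain ⟨hxne, hker, hone⟩ := gagola_core hG χ x hx hsupp
  have hcf : ∀ (a b : G), IsConj a b → (ψ : G → ℂ) a = (ψ : G → ℂ) b :=
    isClassFunction_iff_isConj.mp (char_isClassFunction (irr_isCharacter ψ.2))
  constructor
  · intro h hψ
    have hxN : x ∈ N := (hN x).mpr ((hsupp x).mpr (Or.inr (IsConj.refl x)))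
    have := h x hxN
    rw [hψ] at this
    exact hxne this
  · intro hψ n hn
    rcases (hsupp n).mp ((hN n).mp hn) with h | h
    · rw [h]
    · rw [hcf n x h]
      exact hker ψ hψ

theorem gagola_centralizer_quotient [Finite G] (hG : 2 < Nat.card G) (χ : IrrCharacter G)
    (hχ : Nat.card {C : ConjClasses G // ∃ g ∈ C.carrier, (χ : G → ℂ) g ≠ 0} = 2)
    (N : Subgroup G) [N.Normal] (hN : ∀ g : G, g ∈ N ↔ (χ : G → ℂ) g ≠ 0) (x : G) (hx : x ∉ N) :
    Nat.card (Subgroup.centralizer ({x} : Set G)) =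
      Nat.card (Subgroup.centralizer ({(x : G ⧸ N)} : Set (G ⧸ N))) := by
  classical
  have := Fintype.ofFinite (IrrCharacter G)
  have := Fintype.ofFinite (IrrCharacter (G ⧸ N))
  have h1 := irr_column_orthogonality (G := G) x x
  have h2 := irr_column_orthogonality (G := G ⧸ N) (x : G ⧸ N) (x : G ⧸ N)
  rw [if_pos (IsConj.refl _)] at h1 h2
  have hχx : (χ : G → ℂ) x = 0 := by
    by_contra h
    exact hx ((hN x).mpr h)
  have h3 : ∑ ψ : IrrCharacter G, (ψ : G → ℂ) x * conj ((ψ : G → ℂ) x) =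
      ∑ φ : IrrCharacter (G ⧸ N), (φ : G ⧸ N → ℂ) (x : G ⧸ N) * conj ((φ : G ⧸ N → ℂ) (x : G ⧸ N)) := by
    rw [← Finset.add_sum_erase Finset.univ _ (Finset.mem_univ χ), hχx, zero_mul, zero_add]
    have hfilter : Finset.univ.erase χ = Finset.univ.filter (fun ψ : IrrCharacter G =>
        ∀ n ∈ N, (ψ : G → ℂ) n = (ψ : G → ℂ) 1) := by
      ext ψ
      simp only [Finset.mem_erase, Finset.mem_univ, and_true, Finset.mem_filter, true_and]
      exact (gagola_ker_iff hG χ hχ N hN ψ).symm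
    rw [hfilter, Finset.sum_subtype (p := fun ψ : IrrCharacter G =>
      ∀ n ∈ N, (ψ : G → ℂ) n = (ψ : G → ℂ) 1) _ (fun ψ => by simp)]
    symm
    refine Fintype.sum_equiv (inflEquiv N) _ _ (fun φ => ?_)
    rw [inflEquiv_apply]
  rw [h3, h2] at h1
  exact_mod_cast h1.symm

/-- If `M` is a normal subgroup of a finite nilpotent group `Q` such that every element outside
`M` has a centralizer of order at most `|Q| / |M|`, then `M` is a term of the upper central
series. -/
theorem exists_upperCentralSeries_eq {Q : Type u} [Group Q] [Finite Q] [hnil : Group.IsNilpotent Q]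
    (M : Subgroup Q)
    (hM : ∀ z : Q, z ∉ M → Nat.card (Subgroup.centralizer ({z} : Set Q)) * Nat.card M ≤ Nat.card Q) :
    ∃ i : ℕ, Subgroup.upperCentralSeries Q i = M := by
  classical
  obtain ⟨n, hn⟩ := hnil.nilpotent'
  by_cases hMtop : M = ⊤
  · exact ⟨n, hn.trans hMtop.symm⟩
  have hex : ∃ i : ℕ, ¬ Subgroup.upperCentralSeries Q i ≤ M := by
    refine ⟨n, ?_⟩
    rw [hn]
    intro h
    exact hMtop (top_le_iff.mp h)
  set i := Nat.find hex with hi
  have hi1 : ¬ Subgroup.upperCentralSeries Q i ≤ M := Nat.find_spec hex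
  have hi0 : i ≠ 0 := by
    intro h0
    rw [h0, Subgroup.upperCentralSeries_zero] at hi1
    exact hi1 bot_le
  obtain ⟨j, hj⟩ := Nat.exists_eq_succ_of_ne_zero hi0
  have hjle : Subgroup.upperCentralSeries Q j ≤ M := by
    by_contra h
    have := Nat.find_min' hex h
    omega
  refine ⟨j, le_antisymm hjle ?_⟩
  rw [hj] at hi1
  obtain ⟨z, hzZ, hzM⟩ := SetLike.not_le_iff_exists.mp hi1
  have hcomm : ∀ y : Q, y * z * y⁻¹ * z⁻¹ ∈ Subgroup.upperCentralSeries Q j := by
    intro y
    have h1 := Subgroup.mem_upperCentralSeries_succ_iff.mp hzZ y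
    rw [commutatorElement_def] at h1
    have h2 := (Subgroup.upperCentralSeries Q j).inv_mem h1
    have e : (z * y * z⁻¹ * y⁻¹)⁻¹ = y * z * y⁻¹ * z⁻¹ := by group
    rwa [e] at h2
  -- the injection from the class of z into M
  let f : {w : Q // IsConj w z} → M := fun w => ⟨w.1 * z⁻¹, by
    obtain ⟨y, hy⟩ := isConj_iff.mp w.2.symm
    rw [← hy]
    exact hjle (hcomm y)⟩
  have hf : Function.Injective f := by
    intro w₁ w₂ h
    have h1 : w₁.1 * z⁻¹ = w₂.1 * z⁻¹ := congrArg Subtype.val h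
    exact Subtype.ext (mul_right_cancel h1)
  have hcard : Nat.card M ≤ Nat.card {w : Q // IsConj w z} := by
    have h1 := card_conj_mul_card_centralizer z
    have h2 := hM z hzM
    rw [← h1, mul_comm] at h2
    exact Nat.le_of_mul_le_mul_right h2 Nat.card_pos
  have hbij : Function.Bijective f := hf.bijective_of_nat_card_le hcard
  intro m hm
  obtain ⟨w, hw⟩ := hbij.2 ⟨m, hm⟩
  obtain ⟨y, hy⟩ := isConj_iff.mp w.2.symm
  have h1 : w.1 * z⁻¹ = m := congrArg Subtype.val hw
  rw [← h1, ← hy]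
  exact hcomm y

theorem gagola_centralizer_bound [Finite G] (hG : 2 < Nat.card G) (χ : IrrCharacter G)
    (hχ : Nat.card {C : ConjClasses G // ∃ g ∈ C.carrier, (χ : G → ℂ) g ≠ 0} = 2)
    (p : ℕ) [hp : Fact p.Prime] (N : Subgroup G) [N.Normal]
    (hN : ∀ g : G, g ∈ N ↔ (χ : G → ℂ) g ≠ 0) (hNp : IsPGroup p N)
    (P : Sylow p G) (z : ↥(P : Subgroup G)) (hz : (z : G) ∉ N) :
    Nat.card (Subgroup.centralizer ({z} : Set ↥(P : Subgroup G))) *
      Nat.card (N.subgroupOf (P : Subgroup G)) ≤ Nat.card (P : Subgroup G) := by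
  have hNP : N ≤ (P : Subgroup G) := helper5.normal_le_sylow p N hNp P
  have hcardN : Nat.card (N.subgroupOf (P : Subgroup G)) = Nat.card N :=
    Nat.card_congr (Subgroup.subgroupOfEquivOfLe hNP).toEquiv
  obtain ⟨b, hb⟩ := (IsPGroup.iff_card).mp hNp
  have hCp : IsPGroup p (Subgroup.centralizer ({z} : Set ↥(P : Subgroup G))) :=
    P.isPGroup'.to_subgroup _
  obtain ⟨j, hj⟩ := (IsPGroup.iff_card).mp hCp
  -- injection into the centralizer in G
  let φ : (Subgroup.centralizer ({z} : Set ↥(P : Subgroup G))) →*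
      (Subgroup.centralizer ({(z : G)} : Set G)) :=
    { toFun := fun w => ⟨((w : ↥(P : Subgroup G)) : G), by
        have hw := w.2
        rw [Subgroup.mem_centralizer_iff] at hw ⊢
        intro k hk
        rw [Set.mem_singleton_iff] at hk
        subst hk
        have := hw z (Set.mem_singleton z)
        exact congrArg Subtype.val this⟩
      map_one' := rfl
      map_mul' := fun a b => rfl }
  have hφ : Function.Injective φ := by
    intro a b h
    have h1 := congrArg (fun t : (Subgroup.centralizer ({(z : G)} : Set G)) => (t : G)) h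
    exact Subtype.ext (Subtype.ext h1)
  have h1 : Nat.card (Subgroup.centralizer ({z} : Set ↥(P : Subgroup G))) ∣
      Nat.card (Subgroup.centralizer ({(z : G)} : Set G)) := Subgroup.card_dvd_of_injective φ hφ
  rw [gagola_centralizer_quotient hG χ hχ N hN (z : G) hz] at h1
  have h2 : Nat.card (Subgroup.centralizer ({((z : G) : G ⧸ N)} : Set (G ⧸ N))) ∣ Nat.card (G ⧸ N) :=
    Subgroup.card_subgroup_dvd_card _
  have h3 : p ^ j * p ^ b ∣ Nat.card G := by
    rw [Subgroup.card_eq_card_quotient_mul_card_subgroup N, ← hj, ← hb]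
    exact Nat.mul_dvd_mul_right (h1.trans h2) _
  rw [← pow_add, hp.1.pow_dvd_iff_le_factorization Nat.card_pos.ne'] at h3
  rw [hcardN, hj, hb, ← pow_add, Sylow.card_eq_multiplicity]
  exact Nat.pow_le_pow_right hp.1.pos h3


/-- In Gagola's situation the centralizer of a nonidentity element of `N` is a Sylow subgroup. -/
theorem gagola_centralizer_sylow [Finite G] (hG : 2 < Nat.card G) (χ : IrrCharacter G)
    (hχ : Nat.card {C : ConjClasses G // ∃ g ∈ C.carrier, (χ : G → ℂ) g ≠ 0} = 2)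
    (p : ℕ) [hp : Fact p.Prime] (N : Subgroup G) [N.Normal]
    (hN : ∀ g : G, g ∈ N ↔ (χ : G → ℂ) g ≠ 0) (hNp : IsPGroup p N) (hN1 : N ≠ ⊥)
    (x : G) (hxN : x ∈ N) (hx1 : x ≠ 1) :
    ∃ P : Sylow p G, Subgroup.centralizer ({x} : Set G) = P := by
  obtain ⟨hsupp, hcardN, hpc, k, hk⟩ := gagola_setup hG χ hχ p N hN hNp hN1 x hxN hx1
  have hidx : (Subgroup.centralizer ({x} : Set G)).index = Nat.card {y : G // IsConj y x} :=
    (card_conj_eq_index x).symm
  have h2 : ¬ p ∣ (Subgroup.centralizer ({x} : Set G)).index := by rw [hidx]; exact hpc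
  exact ⟨(IsPGroup.of_card hk).toSylow h2, (IsPGroup.toSylow_coe _ _).symm⟩

end Cfsg.Agent.helper24
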