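import Cfsg.Agent.Lib_helper24_Coprime

set_option autoImplicit false

namespace Cfsg.Agent.helper24

universe u


theorem card_subtype_prod {A B : Type*} [Finite A] [Fintype B] (P : A → B → Prop) :
    Nat.card {q : A × B // P q.1 q.2} = ∑ b, Nat.card {a : A // P a b} := by
  have e1 : {q : A × B // P q.1 q.2} ≃ {q : B × A // P q.2 q.1} :=
    Equiv.subtypeEquiv (Equiv.prodComm A B) (fun q => Iff.rfl)
  have e2 : {q : B × A // P q.2 q.1} ≃ Σ b, {a : A // P a b} :=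
    Equiv.subtypeProdEquivSigmaSubtype (fun b a => P a b)
  rw [Nat.card_congr (e1.trans e2), Nat.card_sigma]

theorem card_subtype_prod' {A B : Type*} [Fintype A] [Finite B] (P : A → B → Prop) :
    Nat.card {q : A × B // P q.1 q.2} = ∑ a, Nat.card {b : B // P a b} := by
  have e2 : {q : A × B // P q.1 q.2} ≃ Σ a, {b : B // P a b} :=
    Equiv.subtypeProdEquivSigmaSubtype (fun a b => P a b)
  rw [Nat.card_congr e2, Nat.card_sigma]

/-- Commuting of two elements written in the form `v * g` for a complement `G` of a normal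
subgroup `V`. -/
theorem commute_decomp {X : Type u} [Group X] (V G : Subgroup X) [hV : V.Normal]
    (hGV : Subgroup.IsComplement' V G) (v w : V) (g h : G) :
    ((v : X) * g) * ((w : X) * h) = ((w : X) * h) * ((v : X) * g) ↔
      ((g : X) * h = h * g) ∧ (v : X) * (g * w * (g : X)⁻¹) = w * (h * v * (h : X)⁻¹) := by
  have hinj : Function.Injective (fun x : V × G => (x.1 : X) * (x.2 : X)) := hGV.1
  have e1 : ((v : X) * g) * ((w : X) * h) = ((v : X) * (g * w * (g : X)⁻¹)) * ((g : X) * h) := by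
    group
  have e2 : ((w : X) * h) * ((v : X) * g) = ((w : X) * (h * v * (h : X)⁻¹)) * ((h : X) * g) := by
    group
  have m1 : (v : X) * (g * w * (g : X)⁻¹) ∈ V := V.mul_mem v.2 (hV.conj_mem _ w.2 _)
  have m2 : (w : X) * (h * v * (h : X)⁻¹) ∈ V := V.mul_mem w.2 (hV.conj_mem _ v.2 _)
  constructor
  · intro hcomm
    rw [e1, e2] at hcomm
    have := @hinj (⟨_, m1⟩, g * h) (⟨_, m2⟩, h * g) hcomm
    simp only [Prod.mk.injEq, Subtype.mk.injEq] at this
    refine ⟨?_, this.1⟩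
    have h2 := congrArg (Subtype.val) this.2
    simpa using h2
  · rintro ⟨h1, h2⟩
    rw [e1, e2, h1, h2]

/-- Decomposition of the commuting pairs of `X = V ⋊ G`. -/
theorem card_commuting_pairs_decomp {X : Type u} [Group X] [Finite X] (V G : Subgroup X)
    [hV : V.Normal] (hGV : Subgroup.IsComplement' V G) [Fintype (G × G)] :
    Nat.card {p : X × X // Commute p.1 p.2} =
      ∑ gh : G × G, Nat.card {vw : V × V //
        ((gh.1 : X) * gh.2 = gh.2 * gh.1) ∧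
          (vw.1 : X) * (gh.1 * vw.2 * (gh.1 : X)⁻¹) = vw.2 * (gh.2 * vw.1 * (gh.2 : X)⁻¹)} := by
  let e : V × G ≃ X := Equiv.ofBijective (fun x : V × G => (x.1 : X) * (x.2 : X)) hGV
  let E : (V × V) × (G × G) ≃ X × X :=
    (Equiv.prodProdProdComm V V G G).trans (e.prodCongr e)
  have hE : ∀ q : (V × V) × (G × G), E q = ((q.1.1 : X) * q.2.1, (q.1.2 : X) * q.2.2) :=
    fun q => rfl
  have e1 : {p : X × X // Commute p.1 p.2} ≃
      {q : (V × V) × (G × G) // ((q.2.1 : X) * q.2.2 = q.2.2 * q.2.1) ∧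
          (q.1.1 : X) * (q.2.1 * q.1.2 * (q.2.1 : X)⁻¹) = q.1.2 * (q.2.2 * q.1.1 * (q.2.2 : X)⁻¹)} := by
    refine (Equiv.subtypeEquiv E.symm (fun p => ?_))
    obtain ⟨q, rfl⟩ := E.surjective p
    rw [Equiv.symm_apply_apply, hE]
    exact commute_decomp V G hGV q.1.1 q.1.2 q.2.1 q.2.2
  rw [Nat.card_congr e1]
  exact card_subtype_prod (fun (vw : V × V) (gh : G × G) => ((gh.1 : X) * gh.2 = gh.2 * gh.1) ∧
          (vw.1 : X) * (gh.1 * vw.2 * (gh.1 : X)⁻¹) = vw.2 * (gh.2 * vw.1 * (gh.2 : X)⁻¹))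



theorem conjNormal_iterate {X : Type u} [Group X] (V : Subgroup X) [hV : V.Normal] (g : X) (k : ℕ)
    (u : V) : (((MulAut.conjNormal g : MulAut V).toMonoidHom)^[k]) u = MulAut.conjNormal (g ^ k) u := by
  induction k with
  | zero => simp
  | succ k ih =>
    rw [Function.iterate_succ_apply', ih, pow_succ', map_mul]
    rfl

theorem card_solutions {X : Type u} [Group X] [Finite X] (V : Subgroup X) [hV : V.Normal]
    (hab : ∀ a ∈ V, ∀ b ∈ V, a * b = b * a) (g h : X) (hgh : g * h = h * g)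
    (hg : (orderOf g).Coprime (Nat.card V)) (hh : (orderOf h).Coprime (Nat.card V)) :
    Nat.card {vw : V × V // (vw.1 : X) * (g * vw.2 * g⁻¹) = vw.2 * (h * vw.1 * h⁻¹)} =
      Nat.card V * Nat.card {u : V // g * u * g⁻¹ = u ∧ h * u * h⁻¹ = u} := by
  let _ : CommGroup V :=
    { (inferInstance : Group V) with mul_comm := fun a b => Subtype.ext (hab a a.2 b b.2) }
  let α : V →* V := (MulAut.conjNormal g : MulAut V).toMonoidHom
  let β : V →* V := (MulAut.conjNormal h : MulAut V).toMonoidHom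
  have hα : ∀ u : V, ((α u : V) : X) = g * u * g⁻¹ := fun u => rfl
  have hβ : ∀ u : V, ((β u : V) : X) = h * u * h⁻¹ := fun u => rfl
  have hc : ∀ x, α (β x) = β (α x) := by
    intro x
    apply Subtype.ext
    rw [hα, hβ, hβ, hα]
    calc g * (h * x * h⁻¹) * g⁻¹ = (g * h) * x * (g * h)⁻¹ := by group
      _ = (h * g) * x * (h * g)⁻¹ := by rw [hgh]
      _ = h * (g * x * g⁻¹) * h⁻¹ := by group
  have ha : ∀ x, (α^[orderOf g]) x = x := by
    intro x
    rw [conjNormal_iterate, pow_orderOf_eq_one, map_one]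
    rfl
  have hb : ∀ x, (β^[orderOf h]) x = x := by
    intro x
    rw [conjNormal_iterate, pow_orderOf_eq_one, map_one]
    rfl
  have hcop : Nat.Coprime (orderOf g * orderOf h) (Nat.card V) := Nat.Coprime.mul_left hg hh
  have key := coprime_action_count α β hc (orderOf g) (orderOf h) ha hb hcop
  have e1 : {vw : V × V // (vw.1 : X) * (g * vw.2 * g⁻¹) = vw.2 * (h * vw.1 * h⁻¹)} ≃
      {p : V × V // p.1 * α p.2 = p.2 * β p.1} := by
    refine Equiv.subtypeEquivRight (fun p => ?_)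
    rw [Subtype.ext_iff, Subgroup.coe_mul, Subgroup.coe_mul, hα, hβ]
  have e2 : {u : V // g * u * g⁻¹ = u ∧ h * u * h⁻¹ = u} ≃ {u : V // α u = u ∧ β u = u} := by
    refine Equiv.subtypeEquivRight (fun u => ?_)
    rw [Subtype.ext_iff, Subtype.ext_iff, hα, hβ]
  rw [Nat.card_congr e1, Nat.card_congr e2]
  exact key



/-- The number of commuting pairs of elements of `G` fixing `u` under conjugation. -/
noncomputable def fixPairs {X : Type u} [Group X] (G : Subgroup X) (u : X) : ℕ :=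
  Nat.card {gh : G × G // ((gh.1 : X) * gh.2 = gh.2 * gh.1) ∧
    (gh.1 : X) * u * (gh.1 : X)⁻¹ = u ∧ (gh.2 : X) * u * (gh.2 : X)⁻¹ = u}

theorem fixPairs_conj {X : Type u} [Group X] (G : Subgroup X) (u : X) (g₀ : G) :
    fixPairs G ((g₀ : X) * u * (g₀ : X)⁻¹) = fixPairs G u := by
  unfold fixPairs
  symm
  apply Nat.card_congr
  let c : G ≃ G := (MulAut.conj g₀).toEquiv
  have hc : ∀ a : G, ((c a : G) : X) = (g₀ : X) * a * (g₀ : X)⁻¹ := fun a => rfl
  refine Equiv.subtypeEquiv (c.prodCongr c) (fun gh => ?_)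
  simp only [Equiv.prodCongr_apply, Prod.map_fst, Prod.map_snd, hc]
  constructor
  · rintro ⟨h1, h2, h3⟩
    refine ⟨?_, ?_, ?_⟩
    · calc (g₀ : X) * gh.1 * (g₀ : X)⁻¹ * ((g₀ : X) * gh.2 * (g₀ : X)⁻¹)
          = (g₀ : X) * ((gh.1 : X) * gh.2) * (g₀ : X)⁻¹ := by group
        _ = (g₀ : X) * ((gh.2 : X) * gh.1) * (g₀ : X)⁻¹ := by rw [h1]
        _ = (g₀ : X) * gh.2 * (g₀ : X)⁻¹ * ((g₀ : X) * gh.1 * (g₀ : X)⁻¹) := by group
    · calc (g₀ : X) * gh.1 * (g₀ : X)⁻¹ * ((g₀ : X) * u * (g₀ : X)⁻¹) * ((g₀ : X) * gh.1 * (g₀ : X)⁻¹)⁻¹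
          = (g₀ : X) * ((gh.1 : X) * u * (gh.1 : X)⁻¹) * (g₀ : X)⁻¹ := by group
        _ = (g₀ : X) * u * (g₀ : X)⁻¹ := by rw [h2]
    · calc (g₀ : X) * gh.2 * (g₀ : X)⁻¹ * ((g₀ : X) * u * (g₀ : X)⁻¹) * ((g₀ : X) * gh.2 * (g₀ : X)⁻¹)⁻¹
          = (g₀ : X) * ((gh.2 : X) * u * (gh.2 : X)⁻¹) * (g₀ : X)⁻¹ := by group
        _ = (g₀ : X) * u * (g₀ : X)⁻¹ := by rw [h3]
  · rintro ⟨h1, h2, h3⟩
    refine ⟨?_, ?_, ?_⟩
    · have : (g₀ : X)⁻¹ * ((g₀ : X) * gh.1 * (g₀ : X)⁻¹ * ((g₀ : X) * gh.2 * (g₀ : X)⁻¹)) * g₀ =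
          (g₀ : X)⁻¹ * ((g₀ : X) * gh.2 * (g₀ : X)⁻¹ * ((g₀ : X) * gh.1 * (g₀ : X)⁻¹)) * g₀ := by
        rw [h1]
      calc (gh.1 : X) * gh.2 = (g₀ : X)⁻¹ * ((g₀ : X) * gh.1 * (g₀ : X)⁻¹ * ((g₀ : X) * gh.2 * (g₀ : X)⁻¹)) * g₀ := by group
        _ = (g₀ : X)⁻¹ * ((g₀ : X) * gh.2 * (g₀ : X)⁻¹ * ((g₀ : X) * gh.1 * (g₀ : X)⁻¹)) * g₀ := this
        _ = (gh.2 : X) * gh.1 := by group
    · have := congrArg (fun t => (g₀ : X)⁻¹ * t * g₀) h2
      calc (gh.1 : X) * u * (gh.1 : X)⁻¹ = (g₀ : X)⁻¹ * ((g₀ : X) * gh.1 * (g₀ : X)⁻¹ * ((g₀ : X) * u * (g₀ : X)⁻¹) * ((g₀ : X) * gh.1 * (g₀ : X)⁻¹)⁻¹) * g₀ := by group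
        _ = (g₀ : X)⁻¹ * ((g₀ : X) * u * (g₀ : X)⁻¹) * g₀ := this
        _ = u := by group
    · have := congrArg (fun t => (g₀ : X)⁻¹ * t * g₀) h3
      calc (gh.2 : X) * u * (gh.2 : X)⁻¹ = (g₀ : X)⁻¹ * ((g₀ : X) * gh.2 * (g₀ : X)⁻¹ * ((g₀ : X) * u * (g₀ : X)⁻¹) * ((g₀ : X) * gh.2 * (g₀ : X)⁻¹)⁻¹) * g₀ := by group
        _ = (g₀ : X)⁻¹ * ((g₀ : X) * u * (g₀ : X)⁻¹) * g₀ := this
        _ = u := by group

theorem mem_inf_centralizer_iff {X : Type u} [Group X] (G : Subgroup X) (s a : X) :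
    a ∈ G ⊓ Subgroup.centralizer ({s} : Set X) ↔ a ∈ G ∧ a * s * a⁻¹ = s := by
  rw [Subgroup.mem_inf, Subgroup.mem_centralizer_iff]
  constructor
  · rintro ⟨h1, h2⟩
    refine ⟨h1, ?_⟩
    have := h2 s (Set.mem_singleton s)
    rw [← this]
    group
  · rintro ⟨h1, h2⟩
    refine ⟨h1, ?_⟩
    intro k hk
    rw [Set.mem_singleton_iff] at hk
    subst hk
    nth_rewrite 1 [← h2]
    group

theorem fixPairs_eq {X : Type u} [Group X] (G : Subgroup X) (s : X) :
    fixPairs G s = Nat.card (ConjClasses ↥(G ⊓ Subgroup.centralizer ({s} : Set X))) *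
      Nat.card ↥(G ⊓ Subgroup.centralizer ({s} : Set X)) := by
  rw [← card_comm_eq_card_conjClasses_mul_card]
  unfold fixPairs
  apply Nat.card_congr
  exact
    { toFun := fun q => ⟨(⟨q.1.1, (mem_inf_centralizer_iff G s _).mpr ⟨q.1.1.2, q.2.2.1⟩⟩,
          ⟨q.1.2, (mem_inf_centralizer_iff G s _).mpr ⟨q.1.2.2, q.2.2.2⟩⟩), Subtype.ext q.2.1⟩
      invFun := fun p => ⟨(⟨p.1.1, ((mem_inf_centralizer_iff G s _).mp p.1.1.2).1⟩,
          ⟨p.1.2, ((mem_inf_centralizer_iff G s _).mp p.1.2.2).1⟩),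
          congrArg Subtype.val p.2, ((mem_inf_centralizer_iff G s _).mp p.1.1.2).2,
          ((mem_inf_centralizer_iff G s _).mp p.1.2.2).2⟩
      left_inv := fun _ => rfl
      right_inv := fun _ => rfl }



theorem orbit_card_mul {X : Type u} [Group X] [Finite X] (V G : Subgroup X) [hV : V.Normal]
    (s : X) (hs : s ∈ V) :
    Nat.card {u : V // ∃ g ∈ G, g * (u : X) * g⁻¹ = s} *
      Nat.card ↥(G ⊓ Subgroup.centralizer ({s} : Set X)) = Nat.card G := by
  classical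
  have := Fintype.ofFinite ↥G
  have := Fintype.ofFinite ↥V
  have c1 : Nat.card {q : G × V // (q.1 : X) * q.2 * (q.1 : X)⁻¹ = s} = Nat.card G := by
    rw [card_subtype_prod' (fun (g : G) (u : V) => (g : X) * u * (g : X)⁻¹ = s)]
    have : ∀ g : G, Nat.card {u : V // (g : X) * u * (g : X)⁻¹ = s} = 1 := by
      intro g
      rw [Nat.card_eq_one_iff_unique]
      refine ⟨⟨fun a b => Subtype.ext (Subtype.ext ?_)⟩, ⟨⟨⟨(g : X)⁻¹ * s * g, ?_⟩, ?_⟩⟩⟩
      · have ha := a.2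
        have hb := b.2
        have : (g : X) * (a.1 : X) * (g : X)⁻¹ = (g : X) * (b.1 : X) * (g : X)⁻¹ := by rw [ha, hb]
        exact mul_left_cancel (mul_right_cancel this)
      · have := hV.conj_mem s hs (g : X)⁻¹
        simpa using this
      · simp only
        group
    simp only [this, Finset.sum_const, Finset.card_univ, smul_eq_mul, mul_one,
      Nat.card_eq_fintype_card]
  have c2 : Nat.card {q : G × V // (q.1 : X) * q.2 * (q.1 : X)⁻¹ = s} =
      ∑ u : V, if (∃ g ∈ G, g * (u : X) * g⁻¹ = s) then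
        Nat.card ↥(G ⊓ Subgroup.centralizer ({s} : Set X)) else 0 := by
    rw [card_subtype_prod (fun (g : G) (u : V) => (g : X) * u * (g : X)⁻¹ = s)]
    apply Finset.sum_congr rfl
    intro u _
    split_ifs with hu
    · obtain ⟨g₀, hg₀, hg₀u⟩ := hu
      apply Nat.card_congr
      have hu' : (u : X) = g₀⁻¹ * s * g₀ := by rw [← hg₀u]; group
      exact
        { toFun := fun g => ⟨(g.1 : X) * g₀⁻¹, by
            rw [mem_inf_centralizer_iff]
            refine ⟨G.mul_mem g.1.2 (G.inv_mem hg₀), ?_⟩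
            have h1 : (g.1 : X) * (g₀⁻¹ * s * g₀) * (g.1 : X)⁻¹ = s := by
              rw [← hu']
              exact g.2
            calc (g.1 : X) * g₀⁻¹ * s * ((g.1 : X) * g₀⁻¹)⁻¹ =
                (g.1 : X) * (g₀⁻¹ * s * g₀) * (g.1 : X)⁻¹ := by group
              _ = s := h1⟩
          invFun := fun c => ⟨⟨(c : X) * g₀, G.mul_mem ((mem_inf_centralizer_iff G s _).mp c.2).1 hg₀⟩, by
            have := ((mem_inf_centralizer_iff G s _).mp c.2).2
            rw [hu']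
            simp only
            calc (c : X) * g₀ * (g₀⁻¹ * s * g₀) * ((c : X) * g₀)⁻¹ = (c : X) * s * (c : X)⁻¹ := by group
              _ = s := this⟩
          left_inv := fun g => by
            apply Subtype.ext
            apply Subtype.ext
            simp
          right_inv := fun c => by
            apply Subtype.ext
            simp }
    · rw [Nat.card_eq_zero]
      left
      refine ⟨fun g => hu ⟨g.1, g.1.2, g.2⟩⟩
  rw [c1] at c2
  rw [c2, Finset.sum_ite, Finset.sum_const_zero, add_zero, Finset.sum_const, smul_eq_mul,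
    Nat.card_eq_fintype_card (α := {u : V // ∃ g ∈ G, g * (u : X) * g⁻¹ = s}), Fintype.card_subtype]

end Cfsg.Agent.helper24
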