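import Cfsg.Agent.S4798
import Cfsg.Agent.Lib_helper24_CharCentral
import Cfsg.Agent.Lib_helper1_ConjChar
import Cfsg.Agent.Lib_helper8_Clifford

set_option autoImplicit false

namespace Cfsg.Agent.helper24

open Cfsg Cfsg.Agent.helper12 Cfsg.Agent.helper23
open scoped ComplexConjugate

universe u
variable {G : Type u} [Group G]

/-- If `ψ` is an irreducible character of `H` whose restriction to a subgroup `K` has norm one, and
`μ` is a linear character trivial on `K` with `μ ψ = ψ`, then `μ` is trivial. -/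
theorem hom_eq_one_of_mul_eq [Fintype G] (K : Subgroup G) [Fintype K] {ψ : G → ℂ}
    (hψ : IsIrrCharacter G ψ)
    (hK : classInner (fun k : K => ψ k) (fun k : K => ψ k) = 1)
    (mu : G →* ℂˣ) (hmuK : ∀ k ∈ K, mu k = 1)
    (hmul : ∀ x : G, ((mu x : ℂˣ) : ℂ) * ψ x = ψ x) : mu = 1 := by
  classical
  have := Fintype.ofFinite (IrrCharacter G)
  by_contra hne
  set Ξ : G → ℂ := ψ * (fun g => conj (ψ g)) with hΞ
  have hΞc : IsCharacter G Ξ :=
    Cfsg.Agent.helper1.isCharacter_mul (irr_isCharacter hψ)
      (Cfsg.Agent.helper1.isCharacter_conj (irr_isCharacter hψ))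
  obtain ⟨c, hexp, hc, -⟩ := char_decomp hΞc
  -- multiplicities of `1` and `μ`
  have h1 : c (irrOne G) = 1 := by
    have h := hc (irrOne G)
    have h2 : classInner Ξ ((irrOne G : IrrCharacter G) : G → ℂ) = classInner ψ ψ := by
      unfold classInner
      congr 1
      refine Finset.sum_congr rfl (fun g _ => ?_)
      show ψ g * conj (ψ g) * conj (1 : ℂ) = ψ g * conj (ψ g)
      rw [map_one, mul_one]
    rw [h2, irr_classInner_self hψ] at h
    exact_mod_cast h.symm
  have h2 : c (linIrr mu) = 1 := by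
    have h := hc (linIrr mu)
    have h2 : classInner Ξ ((linIrr mu : IrrCharacter G) : G → ℂ) = classInner ψ ψ := by
      unfold classInner
      congr 1
      refine Finset.sum_congr rfl (fun g _ => ?_)
      show ψ g * conj (ψ g) * conj (((mu g : ℂˣ) : ℂ)) = ψ g * conj (ψ g)
      have h3 := congrArg conj (hmul g)
      rw [map_mul] at h3
      calc ψ g * conj (ψ g) * conj (((mu g : ℂˣ) : ℂ))
          = ψ g * (conj (((mu g : ℂˣ) : ℂ)) * conj (ψ g)) := by ring
        _ = ψ g * conj (ψ g) := by rw [h3]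
    rw [h2, irr_classInner_self hψ] at h
    exact_mod_cast h.symm
  have hdiff : irrOne G ≠ linIrr mu := by
    intro h
    apply hne
    ext g
    have := congrFun (congrArg Subtype.val h) g
    have h' : (1 : ℂ) = ((mu g : ℂˣ) : ℂ) := this
    rw [MonoidHom.one_apply, Units.val_one]
    exact h'.symm
  -- restrict to K
  choose n hn using fun χ : IrrCharacter G =>
    classInner_char_nat (isCharacter_restrict K (irr_isCharacter χ.2))
      (irr_isCharacter (isIrrCharacter_one (G := K)))
  have hn1 : n (irrOne G) = 1 := by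
    have h := hn (irrOne G)
    have h3 : classInner (fun k : K => ((irrOne G : IrrCharacter G) : G → ℂ) k) (fun _ : K => (1 : ℂ)) = 1 :=
      irr_classInner_self (isIrrCharacter_one (G := K))
    rw [h3] at h
    exact_mod_cast h.symm
  have hn2 : n (linIrr mu) = 1 := by
    have h := hn (linIrr mu)
    have h3 : (fun k : K => ((linIrr mu : IrrCharacter G) : G → ℂ) k) = (fun _ : K => (1 : ℂ)) := by
      funext k
      show ((mu (k : G) : ℂˣ) : ℂ) = 1
      rw [hmuK k k.2, Units.val_one]
    rw [h3, irr_classInner_self (isIrrCharacter_one (G := K))] at h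
    exact_mod_cast h.symm
  have hres : classInner (fun k : K => Ξ k) (fun _ : K => (1 : ℂ)) =
      ((∑ χ : IrrCharacter G, c χ * n χ : ℕ) : ℂ) := by
    have hfun : (fun k : K => Ξ k) = ∑ χ : IrrCharacter G, (c χ : ℂ) • (fun k : K => (χ : G → ℂ) k) := by
      funext k
      conv_lhs => rw [hexp]
      simp only [Finset.sum_apply, Pi.smul_apply]
    rw [hfun, classInner_sum_left, Nat.cast_sum]
    refine Finset.sum_congr rfl (fun χ _ => ?_)
    rw [classInner_smul_left, hn χ, Nat.cast_mul]
  have hres2 : classInner (fun k : K => Ξ k) (fun _ : K => (1 : ℂ)) = 1 := by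
    have h3 : classInner (fun k : K => Ξ k) (fun _ : K => (1 : ℂ)) =
        classInner (fun k : K => ψ k) (fun k : K => ψ k) := by
      unfold classInner
      congr 1
      refine Finset.sum_congr rfl (fun k _ => ?_)
      show ψ k * conj (ψ k) * conj (1 : ℂ) = ψ k * conj (ψ k)
      rw [map_one, mul_one]
    exact h3.trans hK
  rw [hres2] at hres
  have hsum : ∑ χ : IrrCharacter G, c χ * n χ = 1 := by exact_mod_cast hres.symm
  have hge : c (irrOne G) * n (irrOne G) + c (linIrr mu) * n (linIrr mu) ≤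
      ∑ χ : IrrCharacter G, c χ * n χ := by
    have hsub : ({irrOne G, linIrr mu} : Finset (IrrCharacter G)) ⊆ Finset.univ := Finset.subset_univ _
    have := Finset.sum_le_sum_of_subset (f := fun χ : IrrCharacter G => c χ * n χ) hsub
    rw [Finset.sum_pair hdiff] at this
    exact this
  rw [h1, h2, hn1, hn2, hsum] at hge
  omega

/-- The number of linear characters of `G` with a prescribed restriction to a subgroup `I` is at
most the index of `I`. -/
theorem card_linear_restrict_le [Fintype G] (I : Subgroup G) [Fintype I] (S : Finset (IrrCharacter G))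
    (hS1 : ∀ χ ∈ S, (χ : G → ℂ) 1 = 1)
    (hS : ∀ χ ∈ S, ∀ χ' ∈ S, ∀ x : I, (χ : G → ℂ) x = (χ' : G → ℂ) x) :
    S.card ≤ I.index := by
  classical
  have := Fintype.ofFinite (IrrCharacter G)
  rcases S.eq_empty_or_nonempty with h0 | ⟨χ₀, hχ₀⟩
  · rw [h0]; simp
  set f : I → ℂ := fun x => (χ₀ : G → ℂ) x with hf
  have hfc : IsCharacter I f := isCharacter_restrict I (irr_isCharacter χ₀.2)
  obtain ⟨lam, hlam⟩ := exists_hom_of_linear (irr_isCharacter χ₀.2) (hS1 χ₀ hχ₀)
  have hff : classInner f f = 1 := by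
    unfold classInner
    have hI0 : (Nat.card I : ℂ) ≠ 0 := by exact_mod_cast (Nat.card_pos (α := I)).ne'
    have : ∀ x : I, f x * conj (f x) = 1 := by
      intro x
      show (χ₀ : G → ℂ) x * conj ((χ₀ : G → ℂ) x) = 1
      rw [hlam]
      exact hom_mul_conj lam _
    rw [Finset.sum_congr rfl (fun x _ => this x), Finset.sum_const, Finset.card_univ,
      nsmul_eq_mul, mul_one, ← Nat.card_eq_fintype_card]
    exact inv_mul_cancel₀ hI0
  have hΘ : IsCharacter G (indFun I f) := isCharacter_indFun I hfc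
  obtain ⟨a, hexp, ha, -⟩ := char_decomp hΘ
  have hdeg := Cfsg.Agent.S4798.degree_decomp a hexp
  have haS : ∀ χ ∈ S, a χ = 1 := by
    intro χ hχ
    have h := ha χ
    rw [classInner_indFun_eq_restrict I f _ (char_isClassFunction (irr_isCharacter χ.2))] at h
    have h2 : (fun x : I => (χ : G → ℂ) x) = f := by
      funext x; exact hS χ hχ χ₀ hχ₀ x
    rw [h2, hff] at h
    exact_mod_cast h.symm
  have hind1 : indFun I f 1 = ((I.index : ℕ) : ℂ) := by
    rw [Cfsg.Agent.helper5.indFun_one]
    have : f 1 = 1 := hS1 χ₀ hχ₀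
    rw [this, mul_one]
  rw [hind1] at hdeg
  have hsum : I.index = ∑ φ : IrrCharacter G, a φ * charDegree (φ : G → ℂ) := by exact_mod_cast hdeg
  rw [hsum]
  calc S.card = ∑ χ ∈ S, 1 := by simp
    _ = ∑ χ ∈ S, a χ * charDegree (χ : G → ℂ) := by
        refine Finset.sum_congr rfl (fun χ hχ => ?_)
        rw [haS χ hχ, charDegree_natCast _ 1 (by rw [hS1 χ hχ]; simp)]
    _ ≤ ∑ φ : IrrCharacter G, a φ * charDegree (φ : G → ℂ) :=
        Finset.sum_le_sum_of_subset (Finset.subset_univ S)

end Cfsg.Agent.helper24
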