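import Mathlib
import Cfsg.Agent.Lib_helper24_ThirdMain
import Cfsg.Agent.Lib_helper24_BrauerMap
import Cfsg.Agent.Lib_helper24_Fong3
import Cfsg.Agent.Lib_helper12_CharOps
import Cfsg.Agent.Lib_helper23_PSolv

/-!
Characters of `p'`-degree in the principal block lying over an extendible character of a normal
subgroup (helper24): if `θ` is a `p'`-degree member of the principal block of `N ⊲ G` which
extends to `N P` (`P` a Sylow `p`-subgroup of `G`), then some `p'`-degree member of the principal
block of `G` lies over `θ`.  The proof evaluates central characters on the sum of the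
`p`-regular elements.
-/

set_option autoImplicit false

namespace Cfsg.Agent.helper24

open Cfsg
open scoped ComplexConjugate

universe u

section PExt

variable {G : Type u} [Group G]

/-- composing a character with a group homomorphism gives a character -/
theorem isCharacter_comp_hom {K : Type u} [Group K] (f : K →* G) {ξ : G → ℂ}
    (hξ : IsCharacter G ξ) : IsCharacter K (fun k => ξ (f k)) := by
  obtain ⟨n, ρ, rfl⟩ := hξ
  exact ⟨n, ρ.comp f, rfl⟩

/-- `p`-regular elements of `N P` lie in `N` -/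
theorem pregular_mem_of_sup_sylow [Finite G] (N : Subgroup G) [N.Normal] (p : ℕ) [Fact p.Prime]
    (P : Sylow p G) (h : ↥(N ⊔ (P : Subgroup G))) (hreg : ¬ p ∣ orderOf (h : G)) :
    (h : G) ∈ N := by
  have hpp : p.Prime := Fact.out
  obtain ⟨H, hHdef⟩ : ∃ H : Subgroup G, H = N ⊔ (P : Subgroup G) := ⟨_, rfl⟩
  have h1 : N.relIndex (N ⊔ (P : Subgroup G)) = N.relIndex (P : Subgroup G) :=
    Subgroup.relIndex_sup_left _ _
  have h2 : N.relIndex (P : Subgroup G) ∣ Nat.card (P : Subgroup G) :=
    Subgroup.relIndex_dvd_card _ _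
  obtain ⟨k, hk⟩ := IsPGroup.exists_card_eq P.2
  rw [hk] at h2
  obtain ⟨j, _, hj⟩ := (Nat.dvd_prime_pow hpp).1 h2
  have h3 : (N.subgroupOf (N ⊔ (P : Subgroup G))).index = p ^ j := by
    rw [← hj, ← h1]
    rfl
  have h4 : orderOf h = orderOf (h : G) := (Subgroup.orderOf_coe h).symm
  have h5 : h ∈ N.subgroupOf (N ⊔ (P : Subgroup G)) := by
    apply Cfsg.Agent.helper23.mem_of_pow_eq_one_of_coprime_index (pow_orderOf_eq_one h)
    rw [h3, h4]
    exact Nat.Coprime.pow_right j ((Nat.Prime.coprime_iff_not_dvd hpp).2 hreg).symm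
  exact Subgroup.mem_subgroupOf.1 h5

end PExt

section PExt2

variable {G : Type u} [Group G] [Fintype G]

/-- the sum of an extension over the `p`-regular elements of `N P` is the sum of the extended
character over the `p`-regular elements of `N` -/
theorem sum_pregInd_ext (N : Subgroup G) [N.Normal] [Fintype N] (p : ℕ) [Fact p.Prime]
    (P : Sylow p G) [Fintype ↥(N ⊔ (P : Subgroup G))] (θ : N → ℂ)
    (η : ↥(N ⊔ (P : Subgroup G)) → ℂ)
    (hη : ∀ n : N, η (Subgroup.inclusion le_sup_left n) = θ n) :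
    ∑ h : ↥(N ⊔ (P : Subgroup G)), pregInd G p (h : G) * η h =
      ∑ n : N, pregInd N p n * θ n := by
  classical
  symm
  apply Fintype.sum_of_injective (Subgroup.inclusion (le_sup_left : N ≤ N ⊔ (P : Subgroup G)))
    (Subgroup.inclusion_injective _)
  · intro h hh
    have h1 : p ∣ orderOf (h : G) := by
      by_contra hreg
      apply hh
      have hmem := pregular_mem_of_sup_sylow N p P h hreg
      exact ⟨⟨(h : G), hmem⟩, Subtype.ext rfl⟩
    unfold pregInd
    rw [if_pos h1, zero_mul]
  · intro n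
    rw [hη n]
    congr 1
    unfold pregInd
    rw [Subgroup.coe_inclusion, Subgroup.orderOf_coe]

/-- the main identity: the central character of `θ` on the `p`-regular sum of `N` in terms of
the central characters of `G` -/
theorem pext_identity (N : Subgroup G) [N.Normal] [Fintype N] (p : ℕ) [Fact p.Prime]
    (P : Sylow p G) [Fintype ↥(N ⊔ (P : Subgroup G))] (θ : IrrCharacter N)
    (η : ↥(N ⊔ (P : Subgroup G)) → ℂ)
    (hη : ∀ n : N, η (Subgroup.inclusion le_sup_left n) = (θ : N → ℂ) n)
    [Fintype (IrrCharacter G)] :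
    ((θ : N → ℂ) 1) * ((N ⊔ (P : Subgroup G)).index : ℂ) * omegaFn (θ : N → ℂ) (pregInd N p) =
      ∑ χ : IrrCharacter G, (χ : G → ℂ) 1 * omegaFn (χ : G → ℂ) (pregInd G p) *
        classInner η (fun h : ↥(N ⊔ (P : Subgroup G)) => (χ : G → ℂ) h) := by
  classical
  have h1 := sum_pregInd_ext N p P (θ : N → ℂ) η hη
  have hθ1 : (θ : N → ℂ) 1 ≠ 0 := irr_apply_one_ne_zero θ.2
  have h2 : (θ : N → ℂ) 1 * omegaFn (θ : N → ℂ) (pregInd N p) =
      ∑ n : N, pregInd N p n * (θ : N → ℂ) n := by
    unfold omegaFn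
    rw [mul_div_cancel₀ _ hθ1]
  have h3 : ∀ h : ↥(N ⊔ (P : Subgroup G)), pregInd G p (h : G) * η h =
      (Nat.card G : ℂ)⁻¹ * ∑ χ : IrrCharacter G,
        (χ : G → ℂ) 1 * omegaFn (χ : G → ℂ) (pregInd G p) * (η h * conj ((χ : G → ℂ) h)) := by
    intro h
    rw [classFunction_eq_sum_omega (pregInd_isClassFunction p) (h : G), mul_assoc, Finset.sum_mul]
    congr 1
    refine Finset.sum_congr rfl (fun χ _ => ?_)
    ring
  have hcardG : (Nat.card G : ℂ) ≠ 0 := by
    have : 0 < Nat.card G := Nat.card_pos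
    exact_mod_cast this.ne'
  have hcardH : (Nat.card ↥(N ⊔ (P : Subgroup G)) : ℂ) ≠ 0 := by
    have : 0 < Nat.card ↥(N ⊔ (P : Subgroup G)) := Nat.card_pos
    exact_mod_cast this.ne'
  have hidx : (Nat.card G : ℂ) =
      (Nat.card ↥(N ⊔ (P : Subgroup G)) : ℂ) * ((N ⊔ (P : Subgroup G)).index : ℂ) := by
    rw [← Nat.cast_mul, Subgroup.card_mul_index]
  have h4 : ∑ h : ↥(N ⊔ (P : Subgroup G)), pregInd G p (h : G) * η h =
      (Nat.card G : ℂ)⁻¹ * ∑ χ : IrrCharacter G,
        (χ : G → ℂ) 1 * omegaFn (χ : G → ℂ) (pregInd G p) *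
          ((Nat.card ↥(N ⊔ (P : Subgroup G)) : ℂ) *
            classInner η (fun h : ↥(N ⊔ (P : Subgroup G)) => (χ : G → ℂ) h)) := by
    rw [Finset.sum_congr rfl (fun h _ => h3 h), ← Finset.mul_sum, Finset.sum_comm]
    congr 1
    refine Finset.sum_congr rfl (fun χ _ => ?_)
    rw [← Finset.mul_sum]
    congr 1
    unfold classInner
    rw [← mul_assoc, mul_inv_cancel₀ hcardH, one_mul]
  rw [mul_right_comm, h2, ← h1, h4, hidx, Finset.mul_sum, Finset.sum_mul]
  refine Finset.sum_congr rfl (fun χ _ => ?_)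
  have hidx0 : ((N ⊔ (P : Subgroup G)).index : ℂ) ≠ 0 := by
    intro h0
    rw [h0, mul_zero] at hidx
    exact hcardG hidx
  field_simp

end PExt2

section PExt3

variable {G : Type u} [Group G] [Fintype G]

/-- a character of `G` whose restriction to `H` contains an extension `η` of `θ` lies over `θ` -/
theorem under_of_under_ext (N : Subgroup G) [Fintype N] (H : Subgroup G) [Fintype H]
    (hNH : N ≤ H) (θ : IrrCharacter N) (η : IrrCharacter H)
    (hη : ∀ n : N, (η : H → ℂ) (Subgroup.inclusion hNH n) = (θ : N → ℂ) n)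
    (χ : G → ℂ) (hχ : IsCharacter G χ)
    (hne : classInner (η : H → ℂ) (fun h : H => χ h) ≠ 0) :
    classInner (fun n : N => χ n) (θ : N → ℂ) ≠ 0 := by
  classical
  have := Fintype.ofFinite (IrrCharacter H)
  have hψ : IsCharacter H (fun h : H => χ h) :=
    Cfsg.Agent.helper12.isCharacter_restrict H hχ
  obtain ⟨n, hexp, hn, _⟩ := Cfsg.Agent.helper12.char_decomp hψ
  have hk : ∀ ξ : IrrCharacter H, ∃ k : ℕ,
      classInner (fun m : N => (ξ : H → ℂ) (Subgroup.inclusion hNH m)) (θ : N → ℂ) = k :=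
    fun ξ => Cfsg.Agent.helper12.classInner_char_nat
      (isCharacter_comp_hom (Subgroup.inclusion hNH) (irr_isCharacter ξ.2))
      (irr_isCharacter θ.2)
  choose k hk using hk
  have h1 : (fun m : N => χ m) =
      ∑ ξ : IrrCharacter H, (n ξ : ℂ) • (fun m : N => (ξ : H → ℂ) (Subgroup.inclusion hNH m)) := by
    funext m
    have h2 := congrFun hexp (Subgroup.inclusion hNH m)
    rw [Finset.sum_apply] at h2 ⊢
    simp only [Pi.smul_apply] at h2 ⊢
    rw [← h2]
    rfl
  have h3 : classInner (fun m : N => χ m) (θ : N → ℂ) =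
      ((∑ ξ : IrrCharacter H, n ξ * k ξ : ℕ) : ℂ) := by
    rw [h1, classInner_sum_left, Nat.cast_sum]
    refine Finset.sum_congr rfl (fun ξ _ => ?_)
    rw [classInner_smul_left, hk ξ, Nat.cast_mul]
  rw [h3]
  intro h0
  have h4 : (∑ ξ : IrrCharacter H, n ξ * k ξ) = 0 := by exact_mod_cast h0
  have h5 := (Finset.sum_eq_zero_iff.1 h4) η (Finset.mem_univ _)
  have h6 : k η = 1 := by
    have h7 := hk η
    have h8 : (fun m : N => (η : H → ℂ) (Subgroup.inclusion hNH m)) = (θ : N → ℂ) :=
      funext hη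
    rw [h8, irr_classInner_self θ.2] at h7
    exact_mod_cast h7.symm
  rw [h6, mul_one] at h5
  apply hne
  rw [← classInner_conj_symm, hn η, h5]
  simp

end PExt3

section PExt4

variable {G : Type u} [Group G] [Fintype G]

/-- **`p'`-degree characters of the principal block over an extendible character** -/
theorem pprime_principal_over_ext (N : Subgroup G) [N.Normal] [Fintype N] (p : ℕ) [Fact p.Prime]
    (M : Ideal AlgInt) (hM : IsPModular p M) (P : Sylow p G)
    (θ : IrrCharacter N) (hθ : θ ∈ principalBlock M N)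
    (hdeg : ¬ p ∣ charDegree (θ : N → ℂ))
    (η : IrrCharacter ↥(N ⊔ (P : Subgroup G)))
    (hη : ∀ n : N, (η : ↥(N ⊔ (P : Subgroup G)) → ℂ) (Subgroup.inclusion le_sup_left n) =
      (θ : N → ℂ) n) :
    ∃ χ : IrrCharacter G, χ ∈ principalBlock M G ∧ ¬ p ∣ charDegree (χ : G → ℂ) ∧
      classInner (fun n : N => (χ : G → ℂ) n) (θ : N → ℂ) ≠ 0 := by
  classical
  have := Fintype.ofFinite (IrrCharacter G)
  have := Fintype.ofFinite ↥(N ⊔ (P : Subgroup G))
  have hpp : p.Prime := Fact.out
  have hMp : M.IsPrime := hM.2.1.isPrime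
  have hMtop := hMp.ne_top
  by_contra hcon
  push Not at hcon
  have hid := pext_identity N p P θ (η : ↥(N ⊔ (P : Subgroup G)) → ℂ) hη
  -- the right-hand side lies in the ideal
  have hR : MemLocalIdeal M (∑ χ : IrrCharacter G,
      (χ : G → ℂ) 1 * omegaFn (χ : G → ℂ) (pregInd G p) *
        classInner (η : ↥(N ⊔ (P : Subgroup G)) → ℂ)
          (fun h : ↥(N ⊔ (P : Subgroup G)) => (χ : G → ℂ) h)) := by
    apply memLocalIdeal_sum
    intro χ _
    by_cases hχB : χ ∈ principalBlock M G
    · obtain ⟨m, hm⟩ := Cfsg.Agent.helper12.classInner_char_nat (irr_isCharacter η.2)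
        (Cfsg.Agent.helper12.isCharacter_restrict (N ⊔ (P : Subgroup G)) (irr_isCharacter χ.2))
      by_cases hm0 : classInner (η : ↥(N ⊔ (P : Subgroup G)) → ℂ)
          (fun h : ↥(N ⊔ (P : Subgroup G)) => (χ : G → ℂ) h) = 0
      · rw [hm0, mul_zero]
        exact memLocalIdeal_zero hMtop
      · have hunder := under_of_under_ext N (N ⊔ (P : Subgroup G)) le_sup_left θ η hη
          (χ : G → ℂ) (irr_isCharacter χ.2) hm0
        have hdvd : p ∣ charDegree (χ : G → ℂ) := by
          by_contra hnd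
          exact hunder (hcon χ hχB hnd)
        have h1 : MemLocalIdeal M ((charDegree (χ : G → ℂ) : ℕ) : ℂ) :=
          natCast_memLocalIdeal_of_dvd hM hdvd
        rw [char_charDegree_cast (irr_isCharacter χ.2)] at h1
        have h2 : MemLocalRing M (omegaFn (χ : G → ℂ) (pregInd G p) *
            classInner (η : ↥(N ⊔ (P : Subgroup G)) → ℂ)
              (fun h : ↥(N ⊔ (P : Subgroup G)) => (χ : G → ℂ) h)) := by
          apply memLocalRing_mul
          · exact omegaFn_memLocalRing χ (pregInd_isClassFunction p)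
              (fun g => pregInd_memLocalRing hMtop p g)
          · rw [hm]
            exact memLocalRing_of_integral hMtop (isIntegral_natCast _)
        have h3 := memLocalIdeal_mul_left h2 h1
        have h4 : (χ : G → ℂ) 1 * omegaFn (χ : G → ℂ) (pregInd G p) *
            classInner (η : ↥(N ⊔ (P : Subgroup G)) → ℂ)
              (fun h : ↥(N ⊔ (P : Subgroup G)) => (χ : G → ℂ) h) =
            omegaFn (χ : G → ℂ) (pregInd G p) *
            classInner (η : ↥(N ⊔ (P : Subgroup G)) → ℂ)
              (fun h : ↥(N ⊔ (P : Subgroup G)) => (χ : G → ℂ) h) * (χ : G → ℂ) 1 := by ring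
        rw [h4]
        exact h3
    · rw [omegaFn_pregInd_eq_zero p M hM χ hχB, mul_zero, zero_mul]
      exact memLocalIdeal_zero hMtop
  rw [← hid] at hR
  -- the left-hand side does not
  have hidx : ¬ p ∣ (N ⊔ (P : Subgroup G)).index := by
    intro hd
    have h1 : (N ⊔ (P : Subgroup G)).index ∣ (P : Subgroup G).index :=
      Subgroup.index_dvd_of_le le_sup_right
    exact P.not_dvd_index (hd.trans h1)
  have hnat : ¬ p ∣ charDegree (θ : N → ℂ) * (N ⊔ (P : Subgroup G)).index := by
    intro hd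
    rcases (Nat.Prime.dvd_mul hpp).1 hd with h | h
    · exact hdeg h
    · exact hidx h
  have hL1 : ¬ MemLocalIdeal M
      (((charDegree (θ : N → ℂ) * (N ⊔ (P : Subgroup G)).index : ℕ)) : ℂ) :=
    natCast_not_memLocalIdeal hM hnat
  have hL2 : ¬ MemLocalIdeal M (omegaFn (θ : N → ℂ) (pregInd N p)) :=
    omegaFn_pregInd_not_mem p M hM θ hθ
  have hL3 := not_memLocalIdeal_mul
    (memLocalRing_of_integral hMtop (isIntegral_natCast _))
    (omegaFn_memLocalRing θ (pregInd_isClassFunction p)
      (fun g => pregInd_memLocalRing hMtop p g)) hL1 hL2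
  apply hL3
  rw [Nat.cast_mul, char_charDegree_cast (irr_isCharacter θ.2)]
  exact hR

end PExt4

end Cfsg.Agent.helper24
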