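import Cfsg.Statements.S0081
import Cfsg.Agent.Lib_lead_Tate
import Cfsg.Agent.Lib_helper10_PResidual

set_option autoImplicit false
open Cfsg

namespace Cfsg.Agent.S0081

open scoped Pointwise in
/-- If a normal subgroup meets a Sylow p-subgroup P inside the Frattini subgroup of P, then it has a normal p-complement. -/
theorem result {G : Type*} [Group G] [Finite G] {p : ℕ} [Fact p.Prime] (P : Sylow p G) (N : Subgroup G) [N.Normal] (h : N ⊓ (P : Subgroup G) ≤ (frattini P).map (P : Subgroup G).subtype) : Cfsg.HasNormalPComplement p N := by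
  classical
  have hp : p.Prime := Fact.out
  obtain ⟨s, hsdef⟩ : ∃ s : Set G, s = {g | g ∈ N ∧ Nat.Coprime (orderOf g) p} := ⟨_, rfl⟩
  obtain ⟨R, hRdef⟩ : ∃ R : Subgroup G, R = Subgroup.closure s := ⟨_, rfl⟩
  haveI hRn : R.Normal := by
    rw [hRdef]
    apply helper10.closure_normal_of_conj_invariant
    intro x hx g
    rw [hsdef] at hx ⊢
    refine ⟨‹N.Normal›.conj_mem x hx.1 g, ?_⟩
    have : orderOf (g * x * g⁻¹) = orderOf x := by
      have := orderOf_injective (MulAut.conj g).toMonoidHom (MulAut.conj g).injective x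
      simpa [MulAut.conj_apply] using this
    show Nat.Coprime (orderOf (g * x * g⁻¹)) p
    rw [this]; exact hx.2
  have hRN : R ≤ N := by
    rw [hRdef, Subgroup.closure_le]; intro x hx; rw [hsdef] at hx; exact hx.1
  have hRP : R ⊓ (P : Subgroup G) ≤ (frattini P).map (P : Subgroup G).subtype :=
    le_trans (inf_le_inf_right _ hRN) h
  have hbot := lead.tate_core P R s hRdef (fun x hx => by rw [hsdef] at hx; exact hx.2) hRP
  -- p ∤ card R
  have hcopR : Nat.Coprime (Nat.card R) p := by
    rw [Nat.coprime_comm, Nat.Prime.coprime_iff_not_dvd hp]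
    intro hdvd
    obtain ⟨x, hx⟩ := exists_prime_orderOf_dvd_card' p hdvd
    have hxG : orderOf (x : G) = p := by rw [Subgroup.orderOf_coe]; exact hx
    have hpg : IsPGroup p (Subgroup.zpowers (x : G)) := by
      apply IsPGroup.of_card (n := 1)
      rw [Nat.card_zpowers, hxG, pow_one]
    obtain ⟨Q, hQ⟩ := hpg.exists_le_sylow
    obtain ⟨g, hg⟩ := MulAction.exists_smul_eq G Q P
    have hxQ : (x : G) ∈ (Q : Subgroup G) := hQ (Subgroup.mem_zpowers _)
    have hy : g * (x : G) * g⁻¹ ∈ (P : Subgroup G) := by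
      rw [← hg, Sylow.coe_subgroup_smul]
      have := (Subgroup.smul_mem_pointwise_smul_iff (a := MulAut.conj g) (S := (Q : Subgroup G))
        (x := (x : G))).mpr hxQ
      simpa [MulAut.smul_def, MulAut.conj_apply] using this
    have hyR : g * (x : G) * g⁻¹ ∈ R := hRn.conj_mem _ x.2 g
    have hy1 : g * (x : G) * g⁻¹ ∈ R ⊓ (P : Subgroup G) := ⟨hyR, hy⟩
    rw [hbot, Subgroup.mem_bot] at hy1
    have hx1 : (x : G) = 1 := by
      have := congrArg (fun z => g⁻¹ * z * g) hy1
      simpa [mul_assoc] using this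
    rw [hx1, orderOf_one] at hxG
    exact hp.one_lt.ne hxG
  have hmap : (pResidual p ↥N).map N.subtype ≤ R := by
    rw [pResidual, MonoidHom.map_closure, hRdef]
    apply Subgroup.closure_mono
    rintro _ ⟨g, hg, rfl⟩
    rw [hsdef]
    refine ⟨g.2, ?_⟩
    show Nat.Coprime (orderOf (g : G)) p
    rw [Subgroup.orderOf_coe]; exact hg
  have hcard : Nat.card (pResidual p ↥N) = Nat.card ((pResidual p ↥N).map N.subtype) :=
    Nat.card_congr ((pResidual p ↥N).equivMapOfInjective N.subtype N.subtype_injective).toEquiv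
  apply helper10.hasNormalPComplement_of_pResidual_coprime
  rw [hcard]
  exact Nat.Coprime.coprime_dvd_left (Subgroup.card_dvd_of_le hmap) hcopR

end Cfsg.Agent.S0081
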