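import Cfsg.Statements.S0939
import Mathlib
import Cfsg.Agent.Lib_helper8_Cover
import Cfsg.Agent.Lib_helper1_Core
import Cfsg.Agent.Lib_helper24_CharValues

set_option autoImplicit false
open Cfsg

namespace Cfsg.Agent.S0939

/-- Let G be a finite group with a normal p-complement (the largest normal subgroup O_p'(G) of order prime to p has p-power index). Then, relative to any maximal ideal M of the algebraic integers containing p, the principal block of G is the set of irreducible characters χ with χ n = χ 1 for every n ∈ O_p'(G). -/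
theorem result {G : Type*} [Group G] [Finite G] (p : ℕ) [Fact p.Prime] (M : Ideal Cfsg.AlgInt) (hM : Cfsg.IsPModular p M) (hnc : ∃ k : ℕ, (Cfsg.pPrimeCore p G).index = p ^ k) : Cfsg.principalBlock M G = {χ : Cfsg.IrrCharacter G | ∀ n ∈ Cfsg.pPrimeCore p G, (χ : G → ℂ) n = (χ : G → ℂ) 1} := by
  classical
  haveI : Fintype G := Fintype.ofFinite G
  have hM' := hM
  obtain ⟨hp, hmax, _⟩ := hM'
  haveI hMp : M.IsPrime := hmax.isPrime
  haveI hNn : (Cfsg.pPrimeCore p G).Normal := Cfsg.Agent.helper1.pPrimeCore_normal p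
  haveI : Fintype (Cfsg.pPrimeCore p G) := Fintype.ofFinite _
  haveI : Fintype (Cfsg.IrrCharacter (Cfsg.pPrimeCore p G)) := Fintype.ofFinite _
  have hNp : ¬ p ∣ Nat.card (Cfsg.pPrimeCore p G) := by
    have h1 := Cfsg.Agent.helper1.pPrimeCore_coprime (G := G) p
    intro h2
    have h3 : p ∣ Nat.gcd (Nat.card (Cfsg.pPrimeCore p G)) p := Nat.dvd_gcd h2 (dvd_refl p)
    rw [h1] at h3
    exact hp.one_lt.ne' (Nat.dvd_one.mp h3)
  obtain ⟨k, hk⟩ := hnc
  obtain ⟨one, hone⟩ : ∃ one : Cfsg.IrrCharacter G, (one : G → ℂ) = fun _ => 1 :=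
    ⟨⟨fun _ => 1, Cfsg.Agent.helper24.isIrrCharacter_one⟩, rfl⟩
  obtain ⟨oneN, honeN⟩ : ∃ oneN : Cfsg.IrrCharacter (Cfsg.pPrimeCore p G),
      (oneN : Cfsg.pPrimeCore p G → ℂ) = fun _ => 1 :=
    ⟨⟨fun _ => 1, Cfsg.Agent.helper24.isIrrCharacter_one⟩, rfl⟩
  have h1under : Cfsg.classInner (Cfsg.Agent.helper5.res (Cfsg.pPrimeCore p G) (one : G → ℂ))
      (oneN : Cfsg.pPrimeCore p G → ℂ) ≠ 0 := by
    have : Cfsg.Agent.helper5.res (Cfsg.pPrimeCore p G) (one : G → ℂ)
        = (oneN : Cfsg.pPrimeCore p G → ℂ) := by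
      rw [hone, honeN]; rfl
    rw [this, Cfsg.Agent.helper24.irr_classInner_self oneN.2]
    exact one_ne_zero
  unfold Cfsg.principalBlock
  ext χ
  constructor
  · intro hχ
    have hχ' : Cfsg.SameBlock M (one : G → ℂ) (χ : G → ℂ) := by rw [hone]; exact hχ
    have h2 := Cfsg.Agent.helper8.Cover.under_of_sameBlock_pprime (Cfsg.pPrimeCore p G) hM hNp
      hχ' h1under
    have hχcl := Cfsg.Agent.helper24.char_isClassFunction (Cfsg.Agent.helper24.irr_isCharacter χ.2)
    have hexp := Cfsg.Agent.helper24.classFunction_expansion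
      (Cfsg.Agent.helper8.Cover.res_isClassFunction (Cfsg.pPrimeCore p G) hχcl)
    have key : ∀ m : Cfsg.pPrimeCore p G, (χ : G → ℂ) m
        = Cfsg.classInner (Cfsg.Agent.helper5.res (Cfsg.pPrimeCore p G) (χ : G → ℂ))
          (oneN : Cfsg.pPrimeCore p G → ℂ) := by
      intro m
      have h3 := congrFun hexp m
      rw [Finset.sum_apply, Finset.sum_eq_single oneN] at h3
      · rw [Cfsg.Agent.helper5.res_apply, Pi.smul_apply, honeN, smul_eq_mul, mul_one] at h3
        rw [h3, honeN]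
      · intro φ _ hφ
        by_cases h0 : Cfsg.classInner (Cfsg.Agent.helper5.res (Cfsg.pPrimeCore p G) (χ : G → ℂ))
            (φ : Cfsg.pPrimeCore p G → ℂ) = 0
        · rw [h0, zero_smul]; rfl
        · exfalso
          obtain ⟨g, hg⟩ := Cfsg.Agent.helper5.clifford_conj (Cfsg.pPrimeCore p G) χ.2 oneN.2 φ.2 h2 h0
          apply hφ
          apply Subtype.ext
          rw [hg, honeN]
          rfl
      · intro h
        exact absurd (Finset.mem_univ _) h
    intro n hn
    have e1 := key ⟨n, hn⟩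
    have e2 := key 1
    rw [Subgroup.coe_one] at e2
    rw [e2]
    exact e1
  · intro hχ
    show Cfsg.SameBlock M (fun _ : G => (1 : ℂ)) (χ : G → ℂ)
    rw [← hone]
    have h3 : Cfsg.classInner (Cfsg.Agent.helper5.res (Cfsg.pPrimeCore p G) (χ : G → ℂ))
        (oneN : Cfsg.pPrimeCore p G → ℂ) ≠ 0 := by
      have : Cfsg.Agent.helper5.res (Cfsg.pPrimeCore p G) (χ : G → ℂ)
          = ((χ : G → ℂ) 1) • (oneN : Cfsg.pPrimeCore p G → ℂ) := by
        funext m
        rw [Cfsg.Agent.helper5.res_apply, Pi.smul_apply, honeN, smul_eq_mul, mul_one]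
        exact hχ m m.2
      rw [this, Cfsg.Agent.helper24.classInner_smul_left,
        Cfsg.Agent.helper24.irr_classInner_self oneN.2, mul_one]
      exact Cfsg.Agent.helper24.irr_apply_one_ne_zero χ.2
    exact Cfsg.Agent.helper8.Cover.sameBlock_of_under_of_index (Cfsg.pPrimeCore p G) hM hk
      h1under h3 (Cfsg.Agent.helper24.sameBlock_refl M hMp.ne_top _)

end Cfsg.Agent.S0939
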