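import Mathlib
import Cfsg.Agent.Lib_helper24_PExt
import Cfsg.Agent.Lib_helper23_Linear
import Cfsg.Agent.Lib_helper12_Gl2Irr
import Cfsg.Agent.Lib_helper1_PGroup
import Cfsg.Agent.Lib_helper1_Core
import Cfsg.Agent.Lib_helper10_PResidual
import Cfsg.Agent.S0081
import Cfsg.Agent.S0939

/-!
Principal blocks and normal `p`-complements (helper24): a `p'`-degree character of the principal
block of a subgroup of `p'`-index lies under a `p'`-degree character of the principal block of
the group; if all `p'`-degree characters of the principal block are linear then the group has a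
normal `p`-complement (via Tate's theorem).
-/

set_option autoImplicit false

namespace Cfsg.Agent.helper24

open Cfsg
open scoped ComplexConjugate

universe u

section PExtA

variable {G : Type u} [Group G] [Fintype G]

/-- the central-character identity for a subgroup -/
theorem pext_identity_sub (H : Subgroup G) [Fintype H] (p : ℕ)
    (η : IrrCharacter H) [Fintype (IrrCharacter G)] :
    ((η : H → ℂ) 1) * (H.index : ℂ) * omegaFn (η : H → ℂ) (pregInd H p) =
      ∑ χ : IrrCharacter G, (χ : G → ℂ) 1 * omegaFn (χ : G → ℂ) (pregInd G p) *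
        classInner (η : H → ℂ) (fun h : H => (χ : G → ℂ) h) := by
  classical
  have h1 : ∑ h : H, pregInd G p (h : G) * (η : H → ℂ) h =
      ∑ h : H, pregInd H p h * (η : H → ℂ) h := by
    refine Finset.sum_congr rfl (fun h _ => ?_)
    congr 1
    unfold pregInd
    rw [Subgroup.orderOf_coe]
  have hη1 : (η : H → ℂ) 1 ≠ 0 := irr_apply_one_ne_zero η.2
  have h2 : (η : H → ℂ) 1 * omegaFn (η : H → ℂ) (pregInd H p) =
      ∑ h : H, pregInd H p h * (η : H → ℂ) h := by
    unfold omegaFn
    rw [mul_div_cancel₀ _ hη1]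
  have h3 : ∀ h : H, pregInd G p (h : G) * (η : H → ℂ) h =
      (Nat.card G : ℂ)⁻¹ * ∑ χ : IrrCharacter G,
        (χ : G → ℂ) 1 * omegaFn (χ : G → ℂ) (pregInd G p) *
          ((η : H → ℂ) h * conj ((χ : G → ℂ) h)) := by
    intro h
    rw [classFunction_eq_sum_omega (pregInd_isClassFunction p) (h : G), mul_assoc, Finset.sum_mul]
    congr 1
    refine Finset.sum_congr rfl (fun χ _ => ?_)
    ring
  have hcardG : (Nat.card G : ℂ) ≠ 0 := by
    have : 0 < Nat.card G := Nat.card_pos
    exact_mod_cast this.ne'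
  have hcardH : (Nat.card H : ℂ) ≠ 0 := by
    have : 0 < Nat.card H := Nat.card_pos
    exact_mod_cast this.ne'
  have hidx : (Nat.card G : ℂ) = (Nat.card H : ℂ) * (H.index : ℂ) := by
    rw [← Nat.cast_mul, Subgroup.card_mul_index]
  have h4 : ∑ h : H, pregInd G p (h : G) * (η : H → ℂ) h =
      (Nat.card G : ℂ)⁻¹ * ∑ χ : IrrCharacter G,
        (χ : G → ℂ) 1 * omegaFn (χ : G → ℂ) (pregInd G p) *
          ((Nat.card H : ℂ) * classInner (η : H → ℂ) (fun h : H => (χ : G → ℂ) h)) := by
    rw [Finset.sum_congr rfl (fun h _ => h3 h), ← Finset.mul_sum, Finset.sum_comm]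
    congr 1
    refine Finset.sum_congr rfl (fun χ _ => ?_)
    rw [← Finset.mul_sum]
    congr 1
    unfold classInner
    rw [← mul_assoc, mul_inv_cancel₀ hcardH, one_mul]
  rw [mul_right_comm, h2, ← h1, h4, hidx, Finset.mul_sum, Finset.sum_mul]
  refine Finset.sum_congr rfl (fun χ _ => ?_)
  have hidx0 : (H.index : ℂ) ≠ 0 := by
    intro h0
    rw [h0, mul_zero] at hidx
    exact hcardG hidx
  field_simp

/-- a `p'`-degree character of a subgroup of `p'`-index whose central character does not vanish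
on the `p`-regular sum lies under a `p'`-degree character of the principal block -/
theorem pprime_principal_over_sub (H : Subgroup G) [Fintype H] (p : ℕ) [Fact p.Prime]
    (M : Ideal AlgInt) (hM : IsPModular p M) (hidx : ¬ p ∣ H.index)
    (η : IrrCharacter H) (hdeg : ¬ p ∣ charDegree (η : H → ℂ))
    (hη : ¬ MemLocalIdeal M (omegaFn (η : H → ℂ) (pregInd H p))) :
    ∃ χ : IrrCharacter G, χ ∈ principalBlock M G ∧ ¬ p ∣ charDegree (χ : G → ℂ) ∧
      classInner (η : H → ℂ) (fun h : H => (χ : G → ℂ) h) ≠ 0 := by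
  classical
  have := Fintype.ofFinite (IrrCharacter G)
  have hpp : p.Prime := Fact.out
  have hMp : M.IsPrime := hM.2.1.isPrime
  have hMtop := hMp.ne_top
  by_contra hcon
  push Not at hcon
  have hid := pext_identity_sub H p η
  have hR : MemLocalIdeal M (∑ χ : IrrCharacter G,
      (χ : G → ℂ) 1 * omegaFn (χ : G → ℂ) (pregInd G p) *
        classInner (η : H → ℂ) (fun h : H => (χ : G → ℂ) h)) := by
    apply memLocalIdeal_sum
    intro χ _
    by_cases hχB : χ ∈ principalBlock M G
    · obtain ⟨m, hm⟩ := Cfsg.Agent.helper12.classInner_char_nat (irr_isCharacter η.2)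
        (Cfsg.Agent.helper12.isCharacter_restrict H (irr_isCharacter χ.2))
      by_cases hm0 : classInner (η : H → ℂ) (fun h : H => (χ : G → ℂ) h) = 0
      · rw [hm0, mul_zero]
        exact memLocalIdeal_zero hMtop
      · have hdvd : p ∣ charDegree (χ : G → ℂ) := by
          by_contra hnd
          exact hm0 (hcon χ hχB hnd)
        have h1 : MemLocalIdeal M ((charDegree (χ : G → ℂ) : ℕ) : ℂ) :=
          natCast_memLocalIdeal_of_dvd hM hdvd
        rw [char_charDegree_cast (irr_isCharacter χ.2)] at h1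
        have h2 : MemLocalRing M (omegaFn (χ : G → ℂ) (pregInd G p) *
            classInner (η : H → ℂ) (fun h : H => (χ : G → ℂ) h)) := by
          apply memLocalRing_mul
          · exact omegaFn_memLocalRing χ (pregInd_isClassFunction p)
              (fun g => pregInd_memLocalRing hMtop p g)
          · rw [hm]
            exact memLocalRing_of_integral hMtop (isIntegral_natCast _)
        have h3 := memLocalIdeal_mul_left h2 h1
        have h4 : (χ : G → ℂ) 1 * omegaFn (χ : G → ℂ) (pregInd G p) *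
            classInner (η : H → ℂ) (fun h : H => (χ : G → ℂ) h) =
            omegaFn (χ : G → ℂ) (pregInd G p) *
            classInner (η : H → ℂ) (fun h : H => (χ : G → ℂ) h) * (χ : G → ℂ) 1 := by ring
        rw [h4]
        exact h3
    · rw [omegaFn_pregInd_eq_zero p M hM χ hχB, mul_zero, zero_mul]
      exact memLocalIdeal_zero hMtop
  rw [← hid] at hR
  have hnat : ¬ p ∣ charDegree (η : H → ℂ) * H.index := by
    intro hd
    rcases (Nat.Prime.dvd_mul hpp).1 hd with h | h
    · exact hdeg h
    · exact hidx h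
  have hL1 : ¬ MemLocalIdeal M (((charDegree (η : H → ℂ) * H.index : ℕ)) : ℂ) :=
    natCast_not_memLocalIdeal hM hnat
  have hL3 := not_memLocalIdeal_mul
    (memLocalRing_of_integral hMtop (isIntegral_natCast _))
    (omegaFn_memLocalRing η (pregInd_isClassFunction p)
      (fun g => pregInd_memLocalRing hMtop p g)) hL1 hη
  apply hL3
  rw [Nat.cast_mul, char_charDegree_cast (irr_isCharacter η.2)]
  exact hR

end PExtA

section PExtB

/-- in a `p`-group the central characters take the value one on the `p`-regular sum -/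
theorem omegaFn_pregInd_pgroup {Q : Type u} [Group Q] [Fintype Q] (p : ℕ) [Fact p.Prime]
    (hQ : IsPGroup p Q) (η : Q → ℂ) (h1 : η 1 ≠ 0) : omegaFn η (pregInd Q p) = 1 := by
  classical
  have hpp : p.Prime := Fact.out
  unfold omegaFn
  have h2 : ∑ h : Q, pregInd Q p h * η h = η 1 := by
    rw [Finset.sum_eq_single (1 : Q)]
    · unfold pregInd
      rw [orderOf_one, if_neg (Nat.Prime.not_dvd_one hpp), one_mul]
    · intro h _ hne
      obtain ⟨k, hk⟩ : ∃ k, orderOf h = p ^ k := exists_orderOf_eq_prime_pow_iff.2 (hQ h)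
      have hk0 : k ≠ 0 := by
        intro h0
        rw [h0, pow_zero] at hk
        exact hne (orderOf_eq_one_iff.1 hk)
      unfold pregInd
      rw [if_pos (by rw [hk]; exact dvd_pow_self p hk0), zero_mul]
    · intro h
      exact absurd (Finset.mem_univ _) h
  rw [h2, div_self h1]

variable {G : Type u} [Group G] [Fintype G]

set_option maxHeartbeats 800000 in
/-- if all `p'`-degree members of the principal block are linear, then `O^p(G) ∩ P ≤ Φ(P)` -/
theorem residual_inf_sylow_le_frattini (p : ℕ) [Fact p.Prime] (M : Ideal AlgInt)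
    (hM : IsPModular p M)
    (hlin : ∀ χ : IrrCharacter G, χ ∈ principalBlock M G → ¬ p ∣ charDegree (χ : G → ℂ) →
      charDegree (χ : G → ℂ) = 1)
    (P : Sylow p G) :
    pResidual p G ⊓ (P : Subgroup G) ≤ (frattini P).map (P : Subgroup G).subtype := by
  classical
  have hpp : p.Prime := Fact.out
  have hMp : M.IsPrime := hM.2.1.isPrime
  intro x hx
  obtain ⟨hxR, hxP⟩ := Subgroup.mem_inf.1 hx
  have hPg : IsPGroup p ↥(P : Subgroup G) := P.isPGroup'
  rw [Subgroup.mem_map]
  refine ⟨⟨x, hxP⟩, ?_, rfl⟩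
  by_contra hnot
  have hy : (⟨x, hxP⟩ : ↥(P : Subgroup G)) ∉ commutator ↥(P : Subgroup G) :=
    fun h => hnot (Cfsg.Agent.helper1.commutator_le_frattini_of_isPGroup hPg h)
  have hne : (Abelianization.of (⟨x, hxP⟩ : ↥(P : Subgroup G)) :
      Abelianization ↥(P : Subgroup G)) ≠ 1 := by
    intro h1
    apply hy
    rw [← Abelianization.ker_of]
    exact h1
  obtain ⟨φ, hφ⟩ := CommGroup.exists_apply_ne_one_of_hasEnoughRootsOfUnity
    (Abelianization ↥(P : Subgroup G)) ℂ hne
  obtain ⟨μ, hμ⟩ : ∃ μ : ↥(P : Subgroup G) →* ℂ,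
      ∀ y, μ y = ((φ (Abelianization.of y) : ℂˣ) : ℂ) :=
    ⟨(Units.coeHom ℂ).comp (φ.comp Abelianization.of), fun y => rfl⟩
  have hμx : μ ⟨x, hxP⟩ ≠ 1 := by
    rw [hμ]
    intro h
    apply hφ
    exact Units.ext h
  obtain ⟨η, hηdef⟩ : ∃ η : IrrCharacter ↥(P : Subgroup G), (η : ↥(P : Subgroup G) → ℂ) = ⇑μ :=
    ⟨⟨⇑μ, Cfsg.Agent.helper12.isIrrCharacter_of_monoidHom μ⟩, rfl⟩
  have hη1 : (η : ↥(P : Subgroup G) → ℂ) 1 = 1 := by rw [hηdef, map_one]
  have hηdeg : charDegree (η : ↥(P : Subgroup G) → ℂ) = 1 :=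
    charDegree_natCast _ 1 (by rw [hη1, Nat.cast_one])
  obtain ⟨χ, hχB, hχdeg, hχne⟩ := pprime_principal_over_sub (P : Subgroup G) p M hM
    P.not_dvd_index η (by rw [hηdeg]; exact Nat.Prime.not_dvd_one hpp)
    (by
      rw [omegaFn_pregInd_pgroup p hPg _ (by rw [hη1]; exact one_ne_zero)]
      exact not_memLocalIdeal_one)
  have hχ1 : (χ : G → ℂ) 1 = 1 := by
    rw [← char_charDegree_cast (irr_isCharacter χ.2), hlin χ hχB hχdeg, Nat.cast_one]
  have hmul := Cfsg.Agent.helper23.linear_char_mul (irr_isCharacter χ.2) hχ1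
  obtain ⟨f, hf⟩ : ∃ f : G →* ℂ, ∀ g, f g = (χ : G → ℂ) g :=
    ⟨{ toFun := (χ : G → ℂ), map_one' := hχ1, map_mul' := hmul }, fun g => rfl⟩
  have hfP : IsIrrCharacter ↥(P : Subgroup G) (fun h : ↥(P : Subgroup G) => (χ : G → ℂ) h) := by
    have h1 := Cfsg.Agent.helper12.isIrrCharacter_of_monoidHom (f.comp (P : Subgroup G).subtype)
    have h2 : ⇑(f.comp (P : Subgroup G).subtype) =
        (fun h : ↥(P : Subgroup G) => (χ : G → ℂ) h) := by
      funext h
      rw [MonoidHom.comp_apply, hf]
      rfl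
    rwa [h2] at h1
  have heq : (η : ↥(P : Subgroup G) → ℂ) = (fun h : ↥(P : Subgroup G) => (χ : G → ℂ) h) := by
    by_contra hneq
    apply hχne
    rw [irr_classInner η.2 hfP, if_neg hneq]
  -- `χ x = 1`
  have hcardP : ∃ a, Nat.card ↥(P : Subgroup G) = p ^ a := IsPGroup.exists_card_eq hPg
  obtain ⟨a, ha⟩ := hcardP
  have hcop : Nat.Coprime (P : Subgroup G).index (Nat.card ↥(P : Subgroup G)) := by
    rw [ha]
    exact Nat.Coprime.pow_right a
      ((Nat.Prime.coprime_iff_not_dvd hpp).2 P.not_dvd_index).symm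
  have hRes : ∀ g ∈ pResidual p G, (f g) ^ (P : Subgroup G).index = 1 := by
    intro g hg
    unfold pResidual at hg
    induction hg using Subgroup.closure_induction with
    | mem g hg =>
      have h1 : orderOf g ∣ Nat.card ↥(P : Subgroup G) * (P : Subgroup G).index := by
        rw [Subgroup.card_mul_index]
        exact orderOf_dvd_natCard g
      have h2 : Nat.Coprime (orderOf g) (Nat.card ↥(P : Subgroup G)) := by
        rw [ha]
        exact Nat.Coprime.pow_right a hg
      have h3 : orderOf g ∣ (P : Subgroup G).index := h2.dvd_of_dvd_mul_left h1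
      rw [← map_pow, orderOf_dvd_iff_pow_eq_one.1 h3, map_one]
    | one => rw [map_one, one_pow]
    | mul g h _ _ ihg ihh => rw [map_mul, mul_pow, ihg, ihh, one_mul]
    | inv g _ ih =>
      have h1 : f g⁻¹ * f g = 1 := by rw [← map_mul, inv_mul_cancel, map_one]
      have h2 : (f g⁻¹) ^ (P : Subgroup G).index * (f g) ^ (P : Subgroup G).index = 1 := by
        rw [← mul_pow, h1, one_pow]
      rwa [ih, mul_one] at h2
  have hx1 : (f x) ^ (P : Subgroup G).index = 1 := hRes x hxR
  have hx2 : (f x) ^ (Nat.card ↥(P : Subgroup G)) = 1 := by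
    have h1 : (⟨x, hxP⟩ : ↥(P : Subgroup G)) ^ (Nat.card ↥(P : Subgroup G)) = 1 :=
      pow_card_eq_one'
    have h2 : x ^ (Nat.card ↥(P : Subgroup G)) = 1 := by
      have h3 := congrArg Subtype.val h1
      simpa only [SubmonoidClass.coe_pow, OneMemClass.coe_one] using h3
    rw [← map_pow, h2, map_one]
  have hx3 := pow_gcd_eq_one.2 ⟨hx1, hx2⟩
  rw [Nat.Coprime.gcd_eq_one hcop, pow_one] at hx3
  apply hμx
  have h4 := congrFun heq ⟨x, hxP⟩
  rw [hηdef] at h4
  rw [h4]
  show (χ : G → ℂ) x = 1
  rw [← hf, hx3]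

end PExtB

section PExtC

variable {G : Type u} [Group G] [Finite G]

/-- if `O^p(G) ∩ P ≤ Φ(P)` then `G` has a normal `p`-complement -/
theorem npc_of_residual_inf_sylow (p : ℕ) [Fact p.Prime] (P : Sylow p G)
    (h : pResidual p G ⊓ (P : Subgroup G) ≤ (frattini P).map (P : Subgroup G).subtype) :
    HasNormalPComplement p G := by
  classical
  have hpp : p.Prime := Fact.out
  have hRn := Cfsg.Agent.helper10.pResidual_normal p G
  have hT := Cfsg.Agent.S0081.result P (pResidual p G) h
  obtain ⟨Q, K, hKn, hKQ⟩ := hT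
  have hidx : K.index = Nat.card ↥(Q : Subgroup ↥(pResidual p G)) :=
    hKQ.symm.index_eq_card
  obtain ⟨a, ha⟩ := IsPGroup.exists_card_eq Q.isPGroup'
  have hgen : pResidual p G ≤ K.map (pResidual p G).subtype := by
    show Subgroup.closure {g : G | Nat.Coprime (orderOf g) p} ≤ K.map (pResidual p G).subtype
    rw [Subgroup.closure_le]
    intro g hg
    have hgR : g ∈ pResidual p G := Subgroup.subset_closure hg
    rw [SetLike.mem_coe, Subgroup.mem_map]
    refine ⟨⟨g, hgR⟩, ?_, rfl⟩
    apply Cfsg.Agent.helper23.mem_of_pow_eq_one_of_coprime_index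
      (pow_orderOf_eq_one (⟨g, hgR⟩ : ↥(pResidual p G)))
    rw [hidx, ha]
    have h1 : orderOf (⟨g, hgR⟩ : ↥(pResidual p G)) = orderOf g :=
      (Subgroup.orderOf_coe (⟨g, hgR⟩ : ↥(pResidual p G))).symm
    rw [h1]
    exact Nat.Coprime.pow_right a hg
  have hKtop : K = ⊤ := by
    rw [eq_top_iff]
    intro r _
    obtain ⟨k, hk, hkr⟩ := Subgroup.mem_map.1 (hgen r.2)
    have : k = r := Subtype.ext hkr
    rwa [← this]
  rw [hKtop, Subgroup.isComplement'_top_left] at hKQ
  have hcard : Nat.card ↥(Q : Subgroup ↥(pResidual p G)) = 1 := by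
    rw [hKQ]
    exact Subgroup.card_bot
  have h2 := Q.card_eq_multiplicity
  rw [hcard] at h2
  have h3 : (Nat.card ↥(pResidual p G)).factorization p = 0 := by
    by_contra h0
    have h4 : 1 < p ^ (Nat.card ↥(pResidual p G)).factorization p :=
      Nat.one_lt_pow h0 hpp.one_lt
    omega
  have h5 : ¬ p ∣ Nat.card ↥(pResidual p G) := by
    intro hd
    have h6 := (Nat.Prime.factorization_pos_of_dvd hpp Nat.card_pos.ne' hd)
    omega
  apply Cfsg.Agent.helper10.hasNormalPComplement_of_pResidual_coprime p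
  exact ((Nat.Prime.coprime_iff_not_dvd hpp).2 h5).symm

/-- the minimal `p`-exponent of the degrees in the principal block is zero -/
theorem sInf_principal_eq_zero (p : ℕ) [Fact p.Prime] (M : Ideal AlgInt) (hMtop : M ≠ ⊤) :
    sInf ((fun ψ : IrrCharacter G => (charDegree (ψ : G → ℂ)).factorization p) ''
      (principalBlock M G)) = 0 := by
  classical
  have := Fintype.ofFinite G
  rw [Nat.sInf_eq_zero]
  left
  refine ⟨oneIrr G, oneIrr_mem_principalBlock hMtop, ?_⟩
  have h1 : charDegree ((oneIrr G : IrrCharacter G) : G → ℂ) = 1 :=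
    charDegree_natCast _ 1 (by simp [oneIrr])
  show (charDegree ((oneIrr G : IrrCharacter G) : G → ℂ)).factorization p = 0
  rw [h1]
  simp

/-- **the principal block has all its height zero characters of the same degree iff the group
has a normal `p`-complement** -/
theorem principal_equal_height_zero_iff_npc (p : ℕ) [Fact p.Prime] (M : Ideal AlgInt)
    (hM : IsPModular p M) :
    (∃ d : ℕ, ∀ χ : IrrCharacter G, χ ∈ principalBlock M G →
      blockHeight p (principalBlock M G) (χ : G → ℂ) = 0 → charDegree (χ : G → ℂ) = d) ↔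
    HasNormalPComplement p G := by
  classical
  have := Fintype.ofFinite G
  have hpp : p.Prime := Fact.out
  have hMp : M.IsPrime := hM.2.1.isPrime
  have hMtop := hMp.ne_top
  have hinf := sInf_principal_eq_zero (G := G) p M hMtop
  have hht : ∀ χ : IrrCharacter G, blockHeight p (principalBlock M G) (χ : G → ℂ) = 0 ↔
      ¬ p ∣ charDegree (χ : G → ℂ) := by
    intro χ
    unfold blockHeight
    rw [hinf, Nat.sub_zero]
    have hpos : charDegree (χ : G → ℂ) ≠ 0 := (irr_charDegree_pos χ.2).ne'
    constructor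
    · intro h0 hd
      have := Nat.Prime.factorization_pos_of_dvd hpp hpos hd
      omega
    · intro hnd
      exact Nat.factorization_eq_zero_of_not_dvd hnd
  constructor
  · rintro ⟨d, hd⟩
    have h1 : charDegree ((oneIrr G : IrrCharacter G) : G → ℂ) = 1 :=
      charDegree_natCast _ 1 (by simp [oneIrr])
    have hd1 : d = 1 := by
      rw [← hd (oneIrr G) (oneIrr_mem_principalBlock hMtop)
        ((hht _).2 (by rw [h1]; exact Nat.Prime.not_dvd_one hpp)), h1]
    have hlin : ∀ χ : IrrCharacter G, χ ∈ principalBlock M G → ¬ p ∣ charDegree (χ : G → ℂ) →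
        charDegree (χ : G → ℂ) = 1 := by
      intro χ hχ hnd
      rw [hd χ hχ ((hht χ).2 hnd), hd1]
    obtain ⟨P⟩ : Nonempty (Sylow p G) := inferInstance
    exact npc_of_residual_inf_sylow p P (residual_inf_sylow_le_frattini p M hM hlin P)
  · rintro ⟨P, K, hKn, hKP⟩
    refine ⟨1, ?_⟩
    intro χ hχ hh
    have hnd := (hht χ).1 hh
    -- the index of the `p'`-core is a power of `p`
    have hKidx : K.index = Nat.card ↥(P : Subgroup G) := by
      have h1 := hKP.symm.index_eq_card
      exact h1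
    have hKcard : (Nat.card ↥K).Coprime p := by
      have h1 : Nat.card ↥K = (P : Subgroup G).index := (hKP.index_eq_card).symm
      rw [h1]
      exact ((Nat.Prime.coprime_iff_not_dvd hpp).2 P.not_dvd_index).symm
    have hKle : K ≤ pPrimeCore p G := Cfsg.Agent.helper1.le_pPrimeCore hKn hKcard
    obtain ⟨a, ha⟩ := IsPGroup.exists_card_eq P.isPGroup'
    have hdvd : (pPrimeCore p G).index ∣ p ^ a := by
      rw [← ha, ← hKidx]
      exact Subgroup.index_dvd_of_le hKle
    obtain ⟨k, _, hk⟩ := (Nat.dvd_prime_pow hpp).1 hdvd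
    have hB := Cfsg.Agent.S0939.result p M hM ⟨k, hk⟩
    rw [hB] at hχ
    have hNn : (pPrimeCore p G).Normal := Cfsg.Agent.helper1.pPrimeCore_normal p
    obtain ⟨ψ, hψ, hχψ⟩ := irr_deflation (pPrimeCore p G) χ.2 hχ
    have h1 : charDegree ψ ∣ Nat.card (G ⧸ pPrimeCore p G) := irr_degree_dvd_card hψ
    have h2 : charDegree (χ : G → ℂ) = charDegree ψ := by
      simp only [charDegree, hχψ, Function.comp_apply]
      rfl
    rw [← h2, ← Subgroup.index_eq_card, hk] at h1
    obtain ⟨j, _, hj⟩ := (Nat.dvd_prime_pow hpp).1 h1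
    rcases Nat.eq_zero_or_pos j with h0 | hpos
    · rw [hj, h0, pow_zero]
    · exfalso
      apply hnd
      rw [hj]
      exact dvd_pow_self p hpos.ne'

end PExtC

end Cfsg.Agent.helper24
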