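import Mathlib
import Cfsg.Agent.Lib_helper24_PExt2
import Cfsg.Agent.Lib_helper1_PrincQuot

/-!
Normal `p`-complements and extension of characters of exponent `p` of a Sylow subgroup
(helper24): if every homomorphism `P → ℂ` of exponent `p` extends to the group then
`O^p(G) ∩ P ≤ Φ(P)`; the principal block of a group with a normal `p`-complement; the
`2`-power Galois action and a fixed point count.
-/

set_option autoImplicit false

namespace Cfsg.Agent.helper24

open Cfsg
open scoped ComplexConjugate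

universe u

section PExtD

/-- in a finite `p`-group, an element outside the Frattini subgroup is detected by a
homomorphism to `ℂ` of exponent `p` -/
theorem exists_hom_pow_ne_one {Q : Type u} [Group Q] [Finite Q] (p : ℕ) [Fact p.Prime]
    (hQ : IsPGroup p Q) (x : Q) (hx : x ∉ frattini Q) :
    ∃ μ : Q →* ℂ, (∀ y, μ y ^ p = 1) ∧ μ x ≠ 1 := by
  classical
  obtain ⟨S, hSdef⟩ : ∃ S : Subgroup (Abelianization Q),
      S = (powMonoidHom p : Abelianization Q →* Abelianization Q).range := ⟨_, rfl⟩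
  have hv : (QuotientGroup.mk (Abelianization.of x) : Abelianization Q ⧸ S) ≠ 1 := by
    intro h1
    apply hx
    rw [QuotientGroup.eq_one_iff, hSdef] at h1
    obtain ⟨a, ha⟩ := h1
    obtain ⟨y, rfl⟩ := QuotientGroup.mk_surjective a
    have h2 : Abelianization.of (y ^ p) = Abelianization.of x := by
      rw [map_pow]
      exact ha
    have h3 : (y ^ p)⁻¹ * x ∈ commutator Q := by
      rw [← Abelianization.ker_of, MonoidHom.mem_ker, map_mul, map_inv, h2, inv_mul_cancel]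
    have h4 : x = y ^ p * ((y ^ p)⁻¹ * x) := by group
    rw [h4]
    exact (frattini Q).mul_mem (Cfsg.Agent.helper1.pow_mem_frattini_of_isPGroup hQ y)
      (Cfsg.Agent.helper1.commutator_le_frattini_of_isPGroup hQ h3)
  obtain ⟨φ, hφ⟩ := CommGroup.exists_apply_ne_one_of_hasEnoughRootsOfUnity
    (Abelianization Q ⧸ S) ℂ hv
  refine ⟨(Units.coeHom ℂ).comp ((φ.comp (QuotientGroup.mk' S)).comp Abelianization.of), ?_, ?_⟩
  · intro y
    rw [← map_pow]
    have h1 : (QuotientGroup.mk' S) (Abelianization.of (y ^ p)) = 1 := by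
      rw [QuotientGroup.mk'_apply, QuotientGroup.eq_one_iff, hSdef, map_pow]
      exact ⟨Abelianization.of y, rfl⟩
    simp only [MonoidHom.comp_apply]
    rw [h1, map_one, map_one]
  · intro h
    apply hφ
    apply Units.ext
    exact h

variable {G : Type u} [Group G] [Finite G]

/-- if every homomorphism `P → ℂ` of exponent `p` extends to `G`, then `O^p(G) ∩ P ≤ Φ(P)` -/
theorem residual_inf_sylow_le_frattini_of_ext (p : ℕ) [Fact p.Prime] (P : Sylow p G)
    (hext : ∀ μ : ↥(P : Subgroup G) →* ℂ, (∀ y, μ y ^ p = 1) →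
      ∃ f : G →* ℂ, ∀ y : ↥(P : Subgroup G), f y = μ y) :
    pResidual p G ⊓ (P : Subgroup G) ≤ (frattini P).map (P : Subgroup G).subtype := by
  classical
  have hpp : p.Prime := Fact.out
  intro x hx
  obtain ⟨hxR, hxP⟩ := Subgroup.mem_inf.1 hx
  have hPg : IsPGroup p ↥(P : Subgroup G) := P.isPGroup'
  rw [Subgroup.mem_map]
  refine ⟨⟨x, hxP⟩, ?_, rfl⟩
  by_contra hnot
  obtain ⟨μ, hμp, hμx⟩ := exists_hom_pow_ne_one p hPg ⟨x, hxP⟩ hnot
  obtain ⟨f, hf⟩ := hext μ hμp
  obtain ⟨a, ha⟩ := IsPGroup.exists_card_eq hPg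
  have hcop : Nat.Coprime (P : Subgroup G).index (Nat.card ↥(P : Subgroup G)) := by
    rw [ha]
    exact Nat.Coprime.pow_right a
      ((Nat.Prime.coprime_iff_not_dvd hpp).2 P.not_dvd_index).symm
  have hRes : ∀ g ∈ pResidual p G, (f g) ^ (P : Subgroup G).index = 1 := by
    intro g hg
    unfold pResidual at hg
    induction hg using Subgroup.closure_induction with
    | mem g hg =>
      have h1 : orderOf g ∣ Nat.card ↥(P : Subgroup G) * (P : Subgroup G).index := by
        rw [Subgroup.card_mul_index]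
        exact orderOf_dvd_natCard g
      have h2 : Nat.Coprime (orderOf g) (Nat.card ↥(P : Subgroup G)) := by
        rw [ha]
        exact Nat.Coprime.pow_right a hg
      have h3 : orderOf g ∣ (P : Subgroup G).index := h2.dvd_of_dvd_mul_left h1
      rw [← map_pow, orderOf_dvd_iff_pow_eq_one.1 h3, map_one]
    | one => rw [map_one, one_pow]
    | mul g h _ _ ihg ihh => rw [map_mul, mul_pow, ihg, ihh, one_mul]
    | inv g _ ih =>
      have h1 : f g⁻¹ * f g = 1 := by rw [← map_mul, inv_mul_cancel, map_one]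
      have h2 : (f g⁻¹) ^ (P : Subgroup G).index * (f g) ^ (P : Subgroup G).index = 1 := by
        rw [← mul_pow, h1, one_pow]
      rwa [ih, mul_one] at h2
  have hx1 : (f x) ^ (P : Subgroup G).index = 1 := hRes x hxR
  have hx2 : (f x) ^ (Nat.card ↥(P : Subgroup G)) = 1 := by
    have h1 : (⟨x, hxP⟩ : ↥(P : Subgroup G)) ^ (Nat.card ↥(P : Subgroup G)) = 1 :=
      pow_card_eq_one'
    have h2 : x ^ (Nat.card ↥(P : Subgroup G)) = 1 := by
      have h3 := congrArg Subtype.val h1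
      simpa only [SubmonoidClass.coe_pow, OneMemClass.coe_one] using h3
    rw [← map_pow, h2, map_one]
  have hx3 := pow_gcd_eq_one.2 ⟨hx1, hx2⟩
  rw [Nat.Coprime.gcd_eq_one hcop, pow_one] at hx3
  apply hμx
  rw [← hf ⟨x, hxP⟩]
  exact hx3

/-- in a group with a normal `p`-complement the `p'`-degree members of the principal block are
linear -/
theorem npc_principal_pprime_linear (p : ℕ) [Fact p.Prime] (M : Ideal AlgInt)
    (hM : IsPModular p M) (hnpc : HasNormalPComplement p G)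
    (χ : IrrCharacter G) (hχ : χ ∈ principalBlock M G) (hnd : ¬ p ∣ charDegree (χ : G → ℂ)) :
    charDegree (χ : G → ℂ) = 1 := by
  classical
  have hpp : p.Prime := Fact.out
  obtain ⟨P, K, hKn, hKP⟩ := hnpc
  have hKidx : K.index = Nat.card ↥(P : Subgroup G) := hKP.symm.index_eq_card
  have hKcard : (Nat.card ↥K).Coprime p := by
    have h1 : Nat.card ↥K = (P : Subgroup G).index := (hKP.index_eq_card).symm
    rw [h1]
    exact ((Nat.Prime.coprime_iff_not_dvd hpp).2 P.not_dvd_index).symm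
  have hKle : K ≤ pPrimeCore p G := Cfsg.Agent.helper1.le_pPrimeCore hKn hKcard
  obtain ⟨a, ha⟩ := IsPGroup.exists_card_eq P.isPGroup'
  have hdvd : (pPrimeCore p G).index ∣ p ^ a := by
    rw [← ha, ← hKidx]
    exact Subgroup.index_dvd_of_le hKle
  obtain ⟨k, _, hk⟩ := (Nat.dvd_prime_pow hpp).1 hdvd
  have hB := Cfsg.Agent.S0939.result p M hM ⟨k, hk⟩
  rw [hB] at hχ
  have hNn : (pPrimeCore p G).Normal := Cfsg.Agent.helper1.pPrimeCore_normal p
  obtain ⟨ψ, hψ, hχψ⟩ := irr_deflation (pPrimeCore p G) χ.2 hχ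
  have h1 : charDegree ψ ∣ Nat.card (G ⧸ pPrimeCore p G) := irr_degree_dvd_card hψ
  have h2 : charDegree (χ : G → ℂ) = charDegree ψ := by
    simp only [charDegree, hχψ, Function.comp_apply]
    rfl
  rw [← h2, ← Subgroup.index_eq_card, hk] at h1
  obtain ⟨j, _, hj⟩ := (Nat.dvd_prime_pow hpp).1 h1
  rcases Nat.eq_zero_or_pos j with h0 | hpos
  · rw [hj, h0, pow_zero]
  · exfalso
    apply hnd
    rw [hj]
    exact dvd_pow_self p hpos.ne'

end PExtD

section PExtE

variable {G : Type u} [Group G] [Finite G]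

/-- an exponent acting as cubing on `2`-elements and trivially on elements of odd order is
prime to the group order -/
theorem coprime_of_cube_conditions (k : ℕ)
    (hk₁ : ∀ g : G, (∃ j : ℕ, orderOf g = 2 ^ j) → g ^ k = g ^ 3)
    (hk₂ : ∀ g : G, Odd (orderOf g) → g ^ k = g) : k.Coprime (Nat.card G) := by
  classical
  apply Nat.coprime_of_dvd
  intro r hr hrk hrG
  have : Fact r.Prime := ⟨hr⟩
  obtain ⟨g, hg⟩ := exists_prime_orderOf_dvd_card' r hrG
  have hgk : g ^ k = 1 := by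
    rw [← orderOf_dvd_iff_pow_eq_one, hg]
    exact hrk
  by_cases h2 : r = 2
  · have h3 := hk₁ g ⟨1, by rw [hg, h2, pow_one]⟩
    rw [hgk] at h3
    have h4 : orderOf g ∣ 3 := orderOf_dvd_iff_pow_eq_one.2 h3.symm
    rw [hg, h2] at h4
    omega
  · have hodd : Odd (orderOf g) := by
      rw [hg]
      exact hr.odd_of_ne_two h2
    have h3 := hk₂ g hodd
    rw [hgk] at h3
    rw [← h3, orderOf_one] at hg
    exact hr.one_lt.ne' hg.symm

/-- `3 ^ (2 ^ a) ≡ 1` modulo `2 ^ i` for `i ≤ a` -/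
theorem three_pow_two_pow_modEq (a i : ℕ) (hia : i ≤ a) : 3 ^ (2 ^ a) ≡ 1 [MOD 2 ^ i] := by
  have hcop : Nat.Coprime 3 (2 ^ i) := Nat.Coprime.pow_right i (by norm_num)
  have h1 := Nat.ModEq.pow_totient hcop
  have h2 : Nat.totient (2 ^ i) ∣ 2 ^ a := by
    rcases Nat.eq_zero_or_pos i with h0 | hpos
    · rw [h0, pow_zero, Nat.totient_one]
      exact one_dvd _
    · rw [Nat.totient_prime_pow Nat.prime_two hpos]
      simp only [Nat.add_one_sub_one, mul_one]
      exact pow_dvd_pow 2 (by omega)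
  obtain ⟨q, hq⟩ := h2
  rw [hq, pow_mul]
  have h3 := Nat.ModEq.pow q h1
  rwa [one_pow] at h3

/-- the `2 ^ a`-th power of the Galois exponent acts trivially -/
theorem pow_pow_two_pow_eq (k : ℕ)
    (hk₁ : ∀ g : G, (∃ j : ℕ, orderOf g = 2 ^ j) → g ^ k = g ^ 3)
    (hk₂ : ∀ g : G, Odd (orderOf g) → g ^ k = g) (g : G) :
    g ^ (k ^ (2 ^ (Nat.card G).factorization 2)) = g := by
  classical
  obtain ⟨a, hadef⟩ : ∃ a : ℕ, a = (Nat.card G).factorization 2 := ⟨_, rfl⟩
  rw [← hadef]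
  have hn0 : orderOf g ≠ 0 := (orderOf_pos g).ne'
  obtain ⟨i, m, hm, hn⟩ := Nat.exists_eq_two_pow_mul_odd hn0
  have hm0 : m ≠ 0 := by
    rintro rfl
    simp at hm
  have h2i0 : (2 : ℕ) ^ i ≠ 0 := by positivity
  -- the `2`-part
  have hy : orderOf (g ^ m) = 2 ^ i := by
    rw [orderOf_pow' g hm0, hn, Nat.gcd_eq_right (Dvd.intro_left _ rfl),
      Nat.mul_div_cancel _ (Nat.pos_of_ne_zero hm0)]
  have hz : orderOf (g ^ (2 ^ i)) = m := by
    rw [orderOf_pow' g h2i0, hn, Nat.gcd_eq_right (Dvd.intro _ rfl),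
      Nat.mul_div_cancel_left _ (Nat.pos_of_ne_zero h2i0)]
  have hia : i ≤ a := by
    have h1 : 2 ^ i ∣ Nat.card G := by
      have h2 : 2 ^ i ∣ orderOf g := by rw [hn]; exact Dvd.intro _ rfl
      exact h2.trans (orderOf_dvd_natCard g)
    rw [hadef]
    exact (Nat.Prime.pow_dvd_iff_le_factorization Nat.prime_two Nat.card_pos.ne').1 h1
  have hk3 : k ≡ 3 [MOD 2 ^ i] := by
    have h1 := hk₁ (g ^ m) ⟨i, hy⟩
    rw [pow_eq_pow_iff_modEq, hy] at h1
    exact h1
  have hk1 : k ≡ 1 [MOD m] := by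
    have h1 := hk₂ (g ^ (2 ^ i)) (by rw [hz]; exact hm)
    have h2 : (g ^ (2 ^ i)) ^ k = (g ^ (2 ^ i)) ^ 1 := by rw [pow_one]; exact h1
    rw [pow_eq_pow_iff_modEq, hz] at h2
    exact h2
  have hA : k ^ (2 ^ a) ≡ 1 [MOD 2 ^ i] :=
    (Nat.ModEq.pow (2 ^ a) hk3).trans (three_pow_two_pow_modEq a i hia)
  have hB : k ^ (2 ^ a) ≡ 1 [MOD m] := by
    have h1 := Nat.ModEq.pow (2 ^ a) hk1
    rwa [one_pow] at h1
  have hcop : Nat.Coprime (2 ^ i) m :=
    Nat.Coprime.pow_left i (Nat.coprime_two_left.mpr hm)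
  have hC : k ^ (2 ^ a) ≡ 1 [MOD 2 ^ i * m] :=
    (Nat.modEq_and_modEq_iff_modEq_mul hcop).1 ⟨hA, hB⟩
  rw [← hn] at hC
  have h3 : g ^ (k ^ (2 ^ a)) = g ^ 1 := pow_eq_pow_iff_modEq.2 hC
  rwa [pow_one] at h3

end PExtE

section PExtF

variable {G : Type u} [Group G] [Fintype G]

/-- the multiplicity of a power-invariant function of a subgroup in the restriction of a
Galois conjugate -/
theorem classInner_res_pow (H : Subgroup G) [Fintype H] (k : ℕ) (hk : (Nat.card H).Coprime k)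
    (η : H → ℂ) (hη : ∀ y : H, η (y ^ k) = η y) (χ : G → ℂ) :
    classInner η (fun h : H => χ ((h : G) ^ k)) = classInner η (fun h : H => χ h) := by
  classical
  unfold classInner
  congr 1
  apply Fintype.sum_equiv (powCoprime hk)
  intro h
  rw [powCoprime_apply, hη]
  rfl

/-- a self-map of `2`-power order of a finite set of odd cardinality has a fixed point -/
theorem exists_fixed_of_odd_card {Ω : Type u} [Fintype Ω] (f : Function.End Ω) (a : ℕ)
    (hf : f ^ 2 ^ a = 1) (hodd : Odd (Fintype.card Ω)) : ∃ x : Ω, f x = x := by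
  classical
  have h1 := Equiv.Perm.card_fixedPoints_modEq (p := 2) (n := a) hf
  have h2 : Odd (Fintype.card (Function.fixedPoints f)) := by
    rw [Nat.odd_iff] at hodd ⊢
    rw [← hodd]
    exact h1.symm
  have h3 : 0 < Fintype.card (Function.fixedPoints f) := h2.pos
  obtain ⟨x⟩ := Fintype.card_pos_iff.1 h3
  exact ⟨x.1, x.2⟩

set_option maxHeartbeats 1600000 in
/-- **a Galois-fixed odd-degree member of the principal `2`-block over a quadratic character of
a Sylow `2`-subgroup** -/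
theorem exists_fixed_over (k : ℕ)
    (hk₁ : ∀ g : G, (∃ j : ℕ, orderOf g = 2 ^ j) → g ^ k = g ^ 3)
    (hk₂ : ∀ g : G, Odd (orderOf g) → g ^ k = g)
    (M : Ideal AlgInt) (hM : IsPModular 2 M) (P : Sylow 2 G) [Fintype ↥(P : Subgroup G)]
    (μ : ↥(P : Subgroup G) →* ℂ) (hμ : ∀ y, μ y ^ 2 = 1) :
    ∃ χ : IrrCharacter G, χ ∈ principalBlock M G ∧ Odd (charDegree (χ : G → ℂ)) ∧
      (∀ g : G, (χ : G → ℂ) (g ^ k) = (χ : G → ℂ) g) ∧
      classInner (⇑μ) (fun h : ↥(P : Subgroup G) => (χ : G → ℂ) h) ≠ 0 := by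
  classical
  have := Fintype.ofFinite (IrrCharacter G)
  have hMp : M.IsPrime := hM.2.1.isPrime
  have hMtop := hMp.ne_top
  have hcop := coprime_of_cube_conditions k hk₁ hk₂
  have hPg : IsPGroup 2 ↥(P : Subgroup G) := P.isPGroup'
  obtain ⟨η, hηdef⟩ : ∃ η : IrrCharacter ↥(P : Subgroup G), (η : ↥(P : Subgroup G) → ℂ) = ⇑μ :=
    ⟨⟨⇑μ, Cfsg.Agent.helper12.isIrrCharacter_of_monoidHom μ⟩, rfl⟩
  have hη1 : (η : ↥(P : Subgroup G) → ℂ) 1 = 1 := by rw [hηdef, map_one]
  -- `μ` is invariant under the power map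
  have hμk : ∀ y : ↥(P : Subgroup G), (η : ↥(P : Subgroup G) → ℂ) (y ^ k) =
      (η : ↥(P : Subgroup G) → ℂ) y := by
    intro y
    have h1 : (y : G) ^ k = (y : G) ^ 3 := by
      apply hk₁
      obtain ⟨j, hj⟩ := exists_orderOf_eq_prime_pow_iff.2 (hPg y)
      exact ⟨j, by rw [← hj, Subgroup.orderOf_coe]⟩
    have h2 : y ^ k = y ^ 3 := by
      apply Subtype.ext
      rw [SubmonoidClass.coe_pow, SubmonoidClass.coe_pow]
      exact h1
    rw [h2, hηdef, map_pow]
    have h3 : μ y ^ 3 = μ y ^ 2 * μ y := by ring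
    rw [h3, hμ y, one_mul]
  have hcopP : (Nat.card ↥(P : Subgroup G)).Coprime k :=
    (Nat.Coprime.coprime_dvd_right (Subgroup.card_subgroup_dvd_card _) hcop).symm
  -- multiplicities
  have hmex : ∀ χ : IrrCharacter G, ∃ m : ℕ,
      classInner (η : ↥(P : Subgroup G) → ℂ) (fun h : ↥(P : Subgroup G) => (χ : G → ℂ) h) = m :=
    fun χ => Cfsg.Agent.helper12.classInner_char_nat (irr_isCharacter η.2)
      (Cfsg.Agent.helper12.isCharacter_restrict (P : Subgroup G) (irr_isCharacter χ.2))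
  choose m hm using hmex
  obtain ⟨d, hd⟩ : ∃ d : IrrCharacter G → ℕ, ∀ χ, d χ = charDegree (χ : G → ℂ) :=
    ⟨_, fun _ => rfl⟩
  have hdval : ∀ χ : IrrCharacter G, (χ : G → ℂ) 1 = (d χ : ℂ) := fun χ => by
    rw [hd χ, char_charDegree_cast (irr_isCharacter χ.2)]
  -- the identity
  have hid := pext_identity_sub (P : Subgroup G) 2 η
  rw [hη1, one_mul, omegaFn_pregInd_pgroup 2 hPg _ (by rw [hη1]; exact one_ne_zero), mul_one] at hid
  obtain ⟨c, hcdef⟩ : ∃ c : ℂ, c = omegaFn ((oneIrr G : IrrCharacter G) : G → ℂ) (pregInd G 2) :=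
    ⟨_, rfl⟩
  have hcR : MemLocalRing M c := by
    rw [hcdef]
    exact omegaFn_memLocalRing _ (pregInd_isClassFunction 2)
      (fun g => pregInd_memLocalRing hMtop 2 g)
  obtain ⟨F, hFdef⟩ : ∃ F : Finset (IrrCharacter G),
      F = Finset.univ.filter (fun χ => χ ∈ principalBlock M G) := ⟨_, rfl⟩
  obtain ⟨S, hSdef⟩ : ∃ S : ℕ, S = ∑ χ ∈ F, d χ * m χ := ⟨_, rfl⟩
  have hdiff : MemLocalIdeal M ((((P : Subgroup G).index : ℕ) : ℂ) - c * (S : ℂ)) := by
    rw [hid, hSdef, Nat.cast_sum, Finset.mul_sum]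
    have h1 : ∑ χ : IrrCharacter G, (χ : G → ℂ) 1 * omegaFn (χ : G → ℂ) (pregInd G 2) *
        classInner (η : ↥(P : Subgroup G) → ℂ) (fun h : ↥(P : Subgroup G) => (χ : G → ℂ) h) =
        ∑ χ ∈ F, (χ : G → ℂ) 1 * omegaFn (χ : G → ℂ) (pregInd G 2) *
        classInner (η : ↥(P : Subgroup G) → ℂ) (fun h : ↥(P : Subgroup G) => (χ : G → ℂ) h) := by
      rw [hFdef, Finset.sum_filter]
      refine Finset.sum_congr rfl (fun χ _ => ?_)
      by_cases hχ : χ ∈ principalBlock M G
      · rw [if_pos hχ]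
      · rw [if_neg hχ, omegaFn_pregInd_eq_zero 2 M hM χ hχ, mul_zero, zero_mul]
    rw [h1, ← Finset.sum_sub_distrib]
    apply memLocalIdeal_sum
    intro χ hχ
    rw [hFdef, Finset.mem_filter] at hχ
    have h2 : SameBlock M ((oneIrr G : IrrCharacter G) : G → ℂ) (χ : G → ℂ) := hχ.2
    have h3 := omegaFn_sub_memLocalIdeal (M := M) h2 (pregInd_isClassFunction 2)
      (pregInd_memLocalRing hMtop 2)
    rw [← hcdef] at h3
    have h4 : (χ : G → ℂ) 1 * omegaFn (χ : G → ℂ) (pregInd G 2) *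
        classInner (η : ↥(P : Subgroup G) → ℂ) (fun h : ↥(P : Subgroup G) => (χ : G → ℂ) h) -
        c * ((d χ * m χ : ℕ) : ℂ) =
        -(((d χ * m χ : ℕ) : ℂ) * (c - omegaFn (χ : G → ℂ) (pregInd G 2))) := by
      rw [hm χ, hdval χ]
      push_cast
      ring
    rw [h4]
    exact memLocalIdeal_neg (memLocalIdeal_mul_left
      (memLocalRing_of_integral hMtop (isIntegral_natCast _)) h3)
  -- `S` is odd
  have hSodd : Odd S := by
    by_contra hnot
    rw [Nat.not_odd_iff_even] at hnot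
    obtain ⟨S', hS'⟩ := hnot
    have h1 : MemLocalIdeal M (c * (S : ℂ)) := by
      have h2 : (S : ℂ) = ((2 : ℕ) : ℂ) * (S' : ℂ) := by
        rw [hS']
        push_cast
        ring
      rw [h2, ← mul_assoc, mul_comm c, mul_assoc]
      rw [mul_comm]
      exact memLocalIdeal_mul_left (memLocalRing_mul hcR
        (memLocalRing_of_integral hMtop (isIntegral_natCast _)))
        (natCast_memLocalIdeal_of_dvd hM (dvd_refl 2))
    have h3 := memLocalIdeal_add hdiff h1
    rw [sub_add_cancel] at h3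
    exact natCast_not_memLocalIdeal hM P.not_dvd_index h3
  -- the set of characters with odd weight
  rw [hSdef, Finset.odd_sum_iff_odd_card_odd] at hSodd
  obtain ⟨Ω, hΩdef⟩ : ∃ Ω : Finset (IrrCharacter G),
      Ω = F.filter (fun χ => Odd (d χ * m χ)) := ⟨_, rfl⟩
  rw [← hΩdef] at hSodd
  have hΩmem : ∀ χ, χ ∈ Ω ↔ χ ∈ principalBlock M G ∧ Odd (d χ * m χ) := by
    intro χ
    rw [hΩdef, Finset.mem_filter, hFdef, Finset.mem_filter]
    simp
  -- invariance under the Galois conjugation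
  have hstab : ∀ χ ∈ Ω, Cfsg.Agent.helper1.powIrr k hcop χ ∈ Ω := by
    intro χ hχ
    rw [hΩmem] at hχ ⊢
    refine ⟨(Cfsg.Agent.helper1.powIrr_mem_principalBlock_iff 2 M hM k hcop χ).2 hχ.1, ?_⟩
    have hd' : d (Cfsg.Agent.helper1.powIrr k hcop χ) = d χ := by
      rw [hd, hd]
      unfold charDegree
      show ⌊((χ : G → ℂ) (1 ^ k)).re⌋₊ = _
      rw [one_pow]
    have hm' : m (Cfsg.Agent.helper1.powIrr k hcop χ) = m χ := by
      have h1 := hm (Cfsg.Agent.helper1.powIrr k hcop χ)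
      have h2 := classInner_res_pow (P : Subgroup G) k hcopP
        (η : ↥(P : Subgroup G) → ℂ) hμk (χ : G → ℂ)
      have h3 : (fun h : ↥(P : Subgroup G) =>
          ((Cfsg.Agent.helper1.powIrr k hcop χ : IrrCharacter G) : G → ℂ) h) =
          (fun h : ↥(P : Subgroup G) => (χ : G → ℂ) ((h : G) ^ k)) := rfl
      rw [h3, h2, hm χ] at h1
      exact_mod_cast h1.symm
    rw [hd', hm']
    exact hχ.2
  obtain ⟨f, hfdef⟩ : ∃ f : Function.End {χ // χ ∈ Ω},
      ∀ x, f x = ⟨Cfsg.Agent.helper1.powIrr k hcop x.1, hstab x.1 x.2⟩ :=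
    ⟨fun x => ⟨Cfsg.Agent.helper1.powIrr k hcop x.1, hstab x.1 x.2⟩, fun _ => rfl⟩
  have hiter : ∀ (n : ℕ) (x : {χ // χ ∈ Ω}) (g : G),
      (((f ^ n) x).1 : G → ℂ) g = ((x.1 : IrrCharacter G) : G → ℂ) (g ^ (k ^ n)) := by
    intro n
    induction n with
    | zero =>
      intro x g
      rw [pow_zero, pow_zero, pow_one]
      rfl
    | succ n ih =>
      intro x g
      rw [pow_succ]
      show (((f ^ n) (f x)).1 : G → ℂ) g = _
      rw [ih (f x) g, hfdef x]
      show ((x.1 : IrrCharacter G) : G → ℂ) ((g ^ (k ^ n)) ^ k) = _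
      rw [← pow_mul, ← pow_succ]
  have hfpow : f ^ 2 ^ ((Nat.card G).factorization 2) = 1 := by
    funext x
    apply Subtype.ext
    apply Subtype.ext
    funext g
    rw [hiter, pow_pow_two_pow_eq k hk₁ hk₂ g]
    rfl
  have hcard : Odd (Fintype.card {χ // χ ∈ Ω}) := by
    rw [Fintype.card_coe]
    exact hSodd
  obtain ⟨x, hx⟩ := exists_fixed_of_odd_card f _ hfpow hcard
  have hxΩ := (hΩmem x.1).1 x.2
  refine ⟨x.1, hxΩ.1, ?_, ?_, ?_⟩
  · have h1 : Odd (d x.1) := (Nat.odd_mul.1 hxΩ.2).1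
    rwa [hd] at h1
  · intro g
    have h1 := congrArg (fun y : {χ // χ ∈ Ω} => ((y.1 : IrrCharacter G) : G → ℂ) g) hx
    rw [hfdef] at h1
    exact h1
  · rw [← hηdef, hm x.1]
    have h1 : Odd (m x.1) := (Nat.odd_mul.1 hxΩ.2).2
    have h2 : m x.1 ≠ 0 := by
      rintro h0
      rw [h0] at h1
      simp at h1
    exact_mod_cast h2

end PExtF

section PExtG

variable {G : Type u} [Group G] [Finite G]

set_option maxHeartbeats 800000 in
/-- **a group has a normal `2`-complement iff the Galois-fixed odd-degree members of the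
principal `2`-block are linear** -/
theorem npc_two_iff_fixed_linear (M : Ideal AlgInt) (hM : IsPModular 2 M) (k : ℕ)
    (hk₁ : ∀ g : G, (∃ j : ℕ, orderOf g = 2 ^ j) → g ^ k = g ^ 3)
    (hk₂ : ∀ g : G, Odd (orderOf g) → g ^ k = g) :
    HasNormalPComplement 2 G ↔ ∀ χ ∈ principalBlock M G, Odd (charDegree (χ : G → ℂ)) →
      (∀ g : G, (χ : G → ℂ) (g ^ k) = (χ : G → ℂ) g) → charDegree (χ : G → ℂ) = 1 := by
  classical
  have := Fintype.ofFinite G
  constructor
  · intro hnpc χ hχ hodd _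
    apply npc_principal_pprime_linear 2 M hM hnpc χ hχ
    intro h2
    rw [Nat.odd_iff] at hodd
    omega
  · intro hyp
    obtain ⟨P⟩ : Nonempty (Sylow 2 G) := inferInstance
    have := Fintype.ofFinite ↥(P : Subgroup G)
    apply npc_of_residual_inf_sylow 2 P
    apply residual_inf_sylow_le_frattini_of_ext 2 P
    intro μ hμ
    obtain ⟨χ, hχB, hχodd, hχfix, hχne⟩ := exists_fixed_over k hk₁ hk₂ M hM P μ hμ
    have hdeg := hyp χ hχB hχodd hχfix
    have hχ1 : (χ : G → ℂ) 1 = 1 := by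
      rw [← char_charDegree_cast (irr_isCharacter χ.2), hdeg, Nat.cast_one]
    have hmul := Cfsg.Agent.helper23.linear_char_mul (irr_isCharacter χ.2) hχ1
    obtain ⟨f, hf⟩ : ∃ f : G →* ℂ, ∀ g, f g = (χ : G → ℂ) g :=
      ⟨{ toFun := (χ : G → ℂ), map_one' := hχ1, map_mul' := hmul }, fun g => rfl⟩
    refine ⟨f, ?_⟩
    have hfP : IsIrrCharacter ↥(P : Subgroup G)
        (fun h : ↥(P : Subgroup G) => (χ : G → ℂ) h) := by
      have h1 := Cfsg.Agent.helper12.isIrrCharacter_of_monoidHom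
        (f.comp (P : Subgroup G).subtype)
      have h2 : ⇑(f.comp (P : Subgroup G).subtype) =
          (fun h : ↥(P : Subgroup G) => (χ : G → ℂ) h) := by
        funext h
        rw [MonoidHom.comp_apply, hf]
        rfl
      rwa [h2] at h1
    have hμirr : IsIrrCharacter ↥(P : Subgroup G) (⇑μ) :=
      Cfsg.Agent.helper12.isIrrCharacter_of_monoidHom μ
    have heq : (⇑μ) = (fun h : ↥(P : Subgroup G) => (χ : G → ℂ) h) := by
      by_contra hneq
      apply hχne
      rw [irr_classInner hμirr hfP, if_neg hneq]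
    intro y
    rw [hf, heq]

end PExtG

end Cfsg.Agent.helper24
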