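import Mathlib
import Cfsg.Agent.Lib_helper24_PExt3
import Cfsg.Agent.Lib_helper22_Gallagher
import Cfsg.Agent.Lib_helper22_FS
import Cfsg.Agent.Lib_helper22_RepGroup
import Cfsg.Agent.Lib_helper12_Clifford
import Cfsg.Agent.Lib_helper1_ConjChar

/-!
Characters over a normal subgroup of odd index (helper24): reindexing inner products by a
power map, Burnside's theorem that a group of odd order has no nontrivial real irreducible
character, a parity count over the irreducible characters of a group of odd order, the parity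
of the inner product of the restrictions of two characters over the same character of a normal
subgroup of odd index, and the uniqueness of a power-map-fixed character over a given one.
-/

set_option autoImplicit false

namespace Cfsg.Agent.helper24

open Cfsg
open scoped ComplexConjugate

universe u

section OddIdxA

variable {G : Type u} [Group G] [Fintype G]

/-- reindexing the inner product by a power map of exponent prime to the order -/
theorem classInner_pow_pow (k : ℕ) (hk : (Nat.card G).Coprime k) (φ ψ : G → ℂ) :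
    classInner (fun g => φ (g ^ k)) (fun g => ψ (g ^ k)) = classInner φ ψ := by
  classical
  unfold classInner
  congr 1
  exact Fintype.sum_equiv (powCoprime hk) _ _ (fun g => rfl)

/-- **Burnside**: a real irreducible character of a group of odd order is trivial -/
theorem eq_oneIrr_of_real_of_odd (hodd : Odd (Nat.card G)) (β : IrrCharacter G)
    (hreal : Cfsg.Agent.helper1.irrConj β = β) : β = oneIrr G := by
  classical
  have h1 : Cfsg.Agent.helper22.fsInd (β : G → ℂ) ≠ 0 :=
    (Cfsg.Agent.helper22.fsInd_ne_zero_iff β.2).2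
      ((Cfsg.Agent.helper1.irrConj_eq_self_iff β).1 hreal)
  have hcop : (Nat.card G).Coprime 2 := (Nat.coprime_two_left.2 hodd).symm
  have h2 : Cfsg.Agent.helper22.fsInd (β : G → ℂ) =
      classInner (β : G → ℂ) ((oneIrr G : IrrCharacter G) : G → ℂ) := by
    unfold Cfsg.Agent.helper22.fsInd classInner
    congr 1
    apply Fintype.sum_equiv (powCoprime hcop)
    intro s
    show (β : G → ℂ) (s * s) = (β : G → ℂ) (s ^ 2) * conj (1 : ℂ)
    rw [map_one, mul_one, pow_two]
  rw [h2, irr_classInner β.2 (oneIrr G).2] at h1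
  by_contra hne
  apply h1
  rw [if_neg]
  intro h
  exact hne (Subtype.ext h)

/-- a parity count over the irreducible characters of a group of odd order -/
theorem sum_irr_odd_parity (hodd : Odd (Nat.card G)) [Fintype (IrrCharacter G)]
    (c : IrrCharacter G → ℕ) (hc : ∀ β, c (Cfsg.Agent.helper1.irrConj β) = c β) :
    (∑ β : IrrCharacter G, charDegree (β : G → ℂ) * c β) % 2 = c (oneIrr G) % 2 := by
  classical
  have hd1 : charDegree ((oneIrr G : IrrCharacter G) : G → ℂ) = 1 := by
    have h1 := char_charDegree_cast (irr_isCharacter (oneIrr G).2)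
    have h2 : ((oneIrr G : IrrCharacter G) : G → ℂ) 1 = 1 := rfl
    rw [h2] at h1
    exact_mod_cast h1
  have hsplit : ∑ β : IrrCharacter G, charDegree (β : G → ℂ) * c β =
      c (oneIrr G) + ∑ β ∈ Finset.univ.erase (oneIrr G), charDegree (β : G → ℂ) * c β := by
    rw [← Finset.add_sum_erase _ _ (Finset.mem_univ (oneIrr G)), hd1, one_mul]
  have hz : ((∑ β ∈ Finset.univ.erase (oneIrr G), charDegree (β : G → ℂ) * c β : ℕ) : ZMod 2)
      = 0 := by
    rw [Nat.cast_sum]
    apply Finset.sum_involution (fun β _ => Cfsg.Agent.helper1.irrConj β)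
    · intro β _
      rw [Cfsg.Agent.helper1.charDegree_irrConj, hc]
      exact CharTwo.add_self_eq_zero _
    · intro β hβ _ hfix
      rw [Finset.mem_erase] at hβ
      exact hβ.1 (eq_oneIrr_of_real_of_odd hodd β hfix)
    · intro β _
      exact Cfsg.Agent.helper1.irrConj_irrConj β
    · intro β hβ
      rw [Finset.mem_erase] at hβ ⊢
      refine ⟨?_, Finset.mem_univ _⟩
      intro h
      apply hβ.1
      have h2 := congrArg Cfsg.Agent.helper1.irrConj h
      rw [Cfsg.Agent.helper1.irrConj_irrConj] at h2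
      rw [h2]
      apply Subtype.ext
      funext g
      show conj (1 : ℂ) = 1
      rw [map_one]
  have h3 : ((∑ β : IrrCharacter G, charDegree (β : G → ℂ) * c β : ℕ) : ZMod 2) =
      ((c (oneIrr G) : ℕ) : ZMod 2) := by
    rw [hsplit, Nat.cast_add, hz, add_zero]
  exact (ZMod.natCast_eq_natCast_iff' _ _ 2).1 h3

end OddIdxA

section OddIdxB

variable {G : Type u} [Group G] [Fintype G]

open scoped Classical in
/-- the multiplicities of the restriction of an irreducible character to a normal subgroup are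
constant on the orbit of a constituent and vanish elsewhere -/
theorem res_mult_eq (N : Subgroup G) [N.Normal] [Fintype N] (θ : IrrCharacter N)
    (χ : IrrCharacter G)
    (ho : classInner (Cfsg.Agent.helper5.res N (χ : G → ℂ)) (θ : N → ℂ) ≠ 0)
    (θ' : IrrCharacter N) :
    classInner (Cfsg.Agent.helper5.res N (χ : G → ℂ)) (θ' : N → ℂ) =
      if θ' ∈ MulAction.orbit G θ then
        classInner (Cfsg.Agent.helper5.res N (χ : G → ℂ)) (θ : N → ℂ) else 0 := by
  classical
  by_cases h : θ' ∈ MulAction.orbit G θ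
  · rw [if_pos h]
    obtain ⟨g, rfl⟩ := h
    exact Cfsg.Agent.helper5.classInner_res_conjFunN N (χ : G → ℂ)
      (char_isClassFunction (irr_isCharacter χ.2)) g⁻¹ (θ : N → ℂ)
  · rw [if_neg h]
    by_contra hne
    apply h
    obtain ⟨x, hx⟩ := Cfsg.Agent.helper12.clifford_conj N χ.2 θ.2 θ'.2 ho hne
    refine ⟨x⁻¹, ?_⟩
    apply Subtype.ext
    show Cfsg.Agent.helper8.conjFunN N (x⁻¹)⁻¹ (θ : N → ℂ) = (θ' : N → ℂ)
    rw [inv_inv, hx]
    funext n
    rw [Cfsg.Agent.helper8.conjFunN_apply]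
    congr 1

set_option maxHeartbeats 800000 in
/-- the inner product of the restrictions of two irreducible characters over the same
irreducible character of a normal subgroup of odd index is an odd natural number -/
theorem classInner_res_res_odd (N : Subgroup G) [N.Normal] [Fintype N] (hidx : Odd N.index)
    (θ : IrrCharacter N) (χ₁ χ₂ : IrrCharacter G)
    (ho1 : classInner (Cfsg.Agent.helper5.res N (χ₁ : G → ℂ)) (θ : N → ℂ) ≠ 0)
    (ho2 : classInner (Cfsg.Agent.helper5.res N (χ₂ : G → ℂ)) (θ : N → ℂ) ≠ 0) :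
    ∃ a : ℕ, Odd a ∧ classInner (Cfsg.Agent.helper5.res N (χ₁ : G → ℂ))
      (Cfsg.Agent.helper5.res N (χ₂ : G → ℂ)) = a := by
  classical
  have := Fintype.ofFinite (IrrCharacter N)
  have hθ1 : (θ : N → ℂ) 1 ≠ 0 := irr_apply_one_ne_zero θ.2
  obtain ⟨O, hO⟩ : ∃ O : Finset (IrrCharacter N), ∀ θ', θ' ∈ O ↔ θ' ∈ MulAction.orbit G θ :=
    ⟨Finset.univ.filter (fun θ' => θ' ∈ MulAction.orbit G θ), by
      intro θ'
      rw [Finset.mem_filter]
      simp⟩
  have hdeg : ∀ θ' ∈ O, (θ' : N → ℂ) 1 = (θ : N → ℂ) 1 := by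
    intro θ' hθ'
    obtain ⟨g, rfl⟩ := (hO θ').1 hθ'
    show Cfsg.Agent.helper8.conjFunN N g⁻¹ (θ : N → ℂ) 1 = _
    rw [Cfsg.Agent.helper8.conjFunN_apply]
    have h1 : (⟨g⁻¹ * ((1 : N) : G) * g⁻¹⁻¹, ‹N.Normal›.conj_mem _ (1 : N).2 g⁻¹⟩ : N) = 1 := by
      apply Subtype.ext
      simp
    rw [h1]
  -- the key facts for one character
  have key : ∀ χ : IrrCharacter G,
      classInner (Cfsg.Agent.helper5.res N (χ : G → ℂ)) (θ : N → ℂ) ≠ 0 →
      ∃ e : ℕ, Odd (O.card * e) ∧ ∀ θ' : IrrCharacter N,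
        classInner (Cfsg.Agent.helper5.res N (χ : G → ℂ)) (θ' : N → ℂ) =
          if θ' ∈ O then (e : ℂ) else 0 := by
    intro χ ho
    have hχres : IsCharacter N (Cfsg.Agent.helper5.res N (χ : G → ℂ)) :=
      Cfsg.Agent.helper5.isCharacter_res N (irr_isCharacter χ.2)
    obtain ⟨e, he⟩ := Cfsg.Agent.helper12.classInner_char_nat hχres (irr_isCharacter θ.2)
    have hm : ∀ θ' : IrrCharacter N,
        classInner (Cfsg.Agent.helper5.res N (χ : G → ℂ)) (θ' : N → ℂ) =
          if θ' ∈ O then (e : ℂ) else 0 := by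
      intro θ'
      rw [res_mult_eq N θ χ ho θ', he]
      by_cases h : θ' ∈ O
      · rw [if_pos h, if_pos ((hO θ').1 h)]
      · rw [if_neg h, if_neg (fun h' => h ((hO θ').2 h'))]
    refine ⟨e, ?_, hm⟩
    have hexp := classFunction_expansion (char_isClassFunction hχres)
    have hval : (χ : G → ℂ) 1 = ((O.card * e : ℕ) : ℂ) * (θ : N → ℂ) 1 := by
      have h1 := congrFun hexp 1
      rw [Cfsg.Agent.helper5.res_apply, Finset.sum_apply] at h1
      rw [OneMemClass.coe_one] at h1
      rw [h1]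
      have h2 : ∀ θ' ∈ (Finset.univ : Finset (IrrCharacter N)),
          (classInner (Cfsg.Agent.helper5.res N (χ : G → ℂ)) (θ' : N → ℂ) • (θ' : N → ℂ)) 1 =
            if θ' ∈ O then (e : ℂ) * (θ : N → ℂ) 1 else 0 := by
        intro θ' _
        rw [Pi.smul_apply, smul_eq_mul, hm θ']
        by_cases h : θ' ∈ O
        · rw [if_pos h, if_pos h, hdeg θ' h]
        · rw [if_neg h, if_neg h, zero_mul]
      rw [Finset.sum_congr rfl h2, Finset.sum_ite_mem, Finset.univ_inter, Finset.sum_const,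
        nsmul_eq_mul]
      push_cast
      ring
    obtain ⟨r, hr, hdvd⟩ := Cfsg.Agent.helper22.degree_ratio_general N χ.2 θ.2 ho
    have hreq : ((O.card * e : ℕ) : ℂ) = (r : ℂ) := by
      rw [hval] at hr
      exact mul_right_cancel₀ hθ1 hr
    have hreq' : O.card * e = r := by exact_mod_cast hreq
    rw [hreq']
    exact Odd.of_dvd_nat hidx hdvd
  obtain ⟨e₁, hodd₁, hm₁⟩ := key χ₁ ho1
  obtain ⟨e₂, hodd₂, hm₂⟩ := key χ₂ ho2
  have hχres : IsCharacter N (Cfsg.Agent.helper5.res N (χ₁ : G → ℂ)) :=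
    Cfsg.Agent.helper5.isCharacter_res N (irr_isCharacter χ₁.2)
  have hexp := classFunction_expansion (char_isClassFunction hχres)
  refine ⟨O.card * e₁ * e₂, ?_, ?_⟩
  · rw [Nat.odd_mul] at hodd₁ hodd₂ ⊢
    exact ⟨Nat.odd_mul.2 hodd₁, hodd₂.2⟩
  · conv_lhs => arg 1; rw [hexp]
    rw [classInner_sum_left]
    have h2 : ∀ θ' ∈ (Finset.univ : Finset (IrrCharacter N)),
        classInner (classInner (Cfsg.Agent.helper5.res N (χ₁ : G → ℂ)) (θ' : N → ℂ) •
          (θ' : N → ℂ)) (Cfsg.Agent.helper5.res N (χ₂ : G → ℂ)) =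
          if θ' ∈ O then (e₁ : ℂ) * (e₂ : ℂ) else 0 := by
      intro θ' _
      rw [classInner_smul_left, hm₁ θ',
        ← classInner_conj_symm (Cfsg.Agent.helper5.res N (χ₂ : G → ℂ)) (θ' : N → ℂ), hm₂ θ']
      by_cases h : θ' ∈ O
      · rw [if_pos h, if_pos h, if_pos h, Complex.conj_natCast]
      · rw [if_neg h, if_neg h, if_neg h, zero_mul]
    rw [Finset.sum_congr rfl h2, Finset.sum_ite_mem, Finset.univ_inter, Finset.sum_const,
      nsmul_eq_mul]
    push_cast
    ring

set_option maxHeartbeats 800000 in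
/-- **uniqueness of a fixed character over a character of a normal subgroup of odd index**:
if the power map of exponent `k` inverts the quotient, two irreducible characters fixed by it
lying over the same irreducible character of the subgroup coincide -/
theorem unique_fixed_over_odd_index (N : Subgroup G) [N.Normal] [Fintype N]
    (hidx : Odd N.index) (k : ℕ) (hk : (Nat.card G).Coprime k) (hkq : ∀ g : G, g ^ k * g ∈ N)
    (θ : IrrCharacter N) (χ₁ χ₂ : IrrCharacter G)
    (h1 : ∀ g, (χ₁ : G → ℂ) (g ^ k) = (χ₁ : G → ℂ) g)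
    (h2 : ∀ g, (χ₂ : G → ℂ) (g ^ k) = (χ₂ : G → ℂ) g)
    (ho1 : classInner (Cfsg.Agent.helper5.res N (χ₁ : G → ℂ)) (θ : N → ℂ) ≠ 0)
    (ho2 : classInner (Cfsg.Agent.helper5.res N (χ₂ : G → ℂ)) (θ : N → ℂ) ≠ 0) : χ₁ = χ₂ := by
  classical
  have := Fintype.ofFinite (G ⧸ N)
  have := Fintype.ofFinite (IrrCharacter (G ⧸ N))
  obtain ⟨a, hodd, ha⟩ := classInner_res_res_odd N hidx θ χ₁ χ₂ ho1 ho2
  have hcl₁ : IsClassFunction G (χ₁ : G → ℂ) := char_isClassFunction (irr_isCharacter χ₁.2)
  have hcl₂ : IsClassFunction G (χ₂ : G → ℂ) := char_isClassFunction (irr_isCharacter χ₂.2)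
  have hA : classInner (Cfsg.Agent.helper5.res N (χ₁ : G → ℂ))
      (Cfsg.Agent.helper5.res N (χ₂ : G → ℂ)) =
      ∑ β : IrrCharacter (G ⧸ N), (β : G ⧸ N → ℂ) 1 *
        classInner (Cfsg.Agent.helper22.infl N (β : G ⧸ N → ℂ) * (χ₁ : G → ℂ))
          (χ₂ : G → ℂ) := by
    have h := Cfsg.Agent.helper12.classInner_indFun_eq_restrict N
      (Cfsg.Agent.helper5.res N (χ₁ : G → ℂ)) (χ₂ : G → ℂ) hcl₂
    rw [Cfsg.Agent.helper22.indFun_res_eq_sum N hcl₁, classInner_sum_left] at h
    refine Eq.trans h.symm ?_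
    refine Finset.sum_congr rfl (fun β _ => ?_)
    rw [classInner_smul_left]
  have hcex : ∀ β : IrrCharacter (G ⧸ N), ∃ c : ℕ,
      classInner (Cfsg.Agent.helper22.infl N (β : G ⧸ N → ℂ) * (χ₁ : G → ℂ))
        (χ₂ : G → ℂ) = c := by
    intro β
    exact Cfsg.Agent.helper12.classInner_char_nat
      (Cfsg.Agent.helper1.isCharacter_mul (char_inflation N (irr_isCharacter β.2))
        (irr_isCharacter χ₁.2)) (irr_isCharacter χ₂.2)
  choose c hc using hcex
  have hsym : ∀ β, c (Cfsg.Agent.helper1.irrConj β) = c β := by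
    intro β
    have ef : Cfsg.Agent.helper22.infl N
        ((Cfsg.Agent.helper1.irrConj β : IrrCharacter (G ⧸ N)) : G ⧸ N → ℂ) * (χ₁ : G → ℂ) =
        fun g => (Cfsg.Agent.helper22.infl N (β : G ⧸ N → ℂ) * (χ₁ : G → ℂ)) (g ^ k) := by
      funext g
      rw [Pi.mul_apply, Pi.mul_apply, Cfsg.Agent.helper22.infl_apply,
        Cfsg.Agent.helper22.infl_apply, h1 g]
      congr 1
      show conj ((β : G ⧸ N → ℂ) (g : G ⧸ N)) = _
      rw [← char_inv (irr_isCharacter β.2)]
      congr 1
      have h3 : ((g ^ k * g : G) : G ⧸ N) = 1 := (QuotientGroup.eq_one_iff _).2 (hkq g)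
      rw [QuotientGroup.mk_mul] at h3
      rw [eq_inv_of_mul_eq_one_left h3]
    have eg : (χ₂ : G → ℂ) = fun g => (χ₂ : G → ℂ) (g ^ k) := funext (fun g => (h2 g).symm)
    have hpp := classInner_pow_pow k hk
      (Cfsg.Agent.helper22.infl N (β : G ⧸ N → ℂ) * (χ₁ : G → ℂ)) (χ₂ : G → ℂ)
    rw [← ef, ← eg, hc, hc] at hpp
    exact_mod_cast hpp
  have hcardQ : Odd (Nat.card (G ⧸ N)) := by
    rw [← Subgroup.index_eq_card]
    exact hidx
  have hpar := sum_irr_odd_parity hcardQ c hsym
  have hA' : (a : ℂ) =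
      ((∑ β : IrrCharacter (G ⧸ N), charDegree (β : G ⧸ N → ℂ) * c β : ℕ) : ℂ) := by
    rw [← ha, hA]
    push_cast
    refine Finset.sum_congr rfl (fun β _ => ?_)
    rw [hc, char_charDegree_cast (irr_isCharacter β.2)]
  have hA'' : a = ∑ β : IrrCharacter (G ⧸ N), charDegree (β : G ⧸ N → ℂ) * c β := by
    exact_mod_cast hA'
  rw [← hA''] at hpar
  have hc1 : c (oneIrr (G ⧸ N)) ≠ 0 := by
    intro h0
    rw [h0] at hpar
    rw [Nat.odd_iff] at hodd
    omega
  have h5 := hc (oneIrr (G ⧸ N))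
  have h6 : Cfsg.Agent.helper22.infl N ((oneIrr (G ⧸ N) : IrrCharacter (G ⧸ N)) : G ⧸ N → ℂ) *
      (χ₁ : G → ℂ) = (χ₁ : G → ℂ) := by
    funext g
    rw [Pi.mul_apply, Cfsg.Agent.helper22.infl_apply]
    show (1 : ℂ) * _ = _
    rw [one_mul]
  rw [h6, irr_classInner χ₁.2 χ₂.2] at h5
  by_contra hne
  rw [if_neg (fun h => hne (Subtype.ext h))] at h5
  apply hc1
  exact_mod_cast h5.symm

end OddIdxB

end Cfsg.Agent.helper24
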