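import Mathlib
import Cfsg.Agent.Lib_helper24_OddIdx1
import Cfsg.Agent.Lib_helper1_PrincCover

/-!
Galois-fixed characters of the principal `2`-block over a normal subgroup of odd index
(helper24): existence of a fixed member of the principal block over a fixed member of the
principal block of the subgroup, and the equivalence `χ ∈ B₀(G) ↔ θ ∈ B₀(N)` for fixed
characters `χ` over `θ`.
-/

set_option autoImplicit false

namespace Cfsg.Agent.helper24

open Cfsg
open scoped ComplexConjugate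

universe u

section OddIdxC

variable {G : Type u} [Group G]

/-- an exponent inverting the elements of odd order inverts a quotient of odd order -/
theorem pow_mul_self_mem_of_odd_index [Finite G] (N : Subgroup G) [N.Normal]
    (hidx : Odd N.index) (k : ℕ) (hk₂ : ∀ g : G, Odd (orderOf g) → g ^ k = g⁻¹) (g : G) :
    g ^ k * g ∈ N := by
  classical
  have hn0 : orderOf g ≠ 0 := (orderOf_pos g).ne'
  obtain ⟨i, m, hm, hn⟩ := Nat.exists_eq_two_pow_mul_odd hn0
  have h2i0 : (2 : ℕ) ^ i ≠ 0 := by positivity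
  have hz : orderOf (g ^ (2 ^ i)) = m := by
    rw [orderOf_pow' g h2i0, hn, Nat.gcd_eq_right (Dvd.intro _ rfl),
      Nat.mul_div_cancel_left _ (Nat.pos_of_ne_zero h2i0)]
  have h1 := hk₂ (g ^ (2 ^ i)) (by rw [hz]; exact hm)
  have h2 : (g ^ k * g) ^ (2 ^ i) = 1 := by
    have h3 : g ^ k * g = g ^ (k + 1) := (pow_succ g k).symm
    rw [h3, ← pow_mul, mul_comm, pow_mul, pow_succ, h1, inv_mul_cancel]
  have h4 : ((g ^ k * g : G) : G ⧸ N) ^ (2 ^ i) = 1 := by
    rw [← QuotientGroup.mk_pow, h2]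
    rfl
  have h5 : ((g ^ k * g : G) : G ⧸ N) ^ (Nat.card (G ⧸ N)) = 1 := pow_card_eq_one'
  have h6 := pow_gcd_eq_one.2 ⟨h4, h5⟩
  have hcop : Nat.Coprime (2 ^ i) (Nat.card (G ⧸ N)) := by
    rw [← Subgroup.index_eq_card]
    exact Nat.Coprime.pow_left i (Nat.coprime_two_left.2 hidx)
  rw [Nat.Coprime.gcd_eq_one hcop, pow_one] at h6
  exact (QuotientGroup.eq_one_iff _).1 h6

end OddIdxC

section OddIdxD

variable {G : Type u} [Group G] [Fintype G]

set_option maxHeartbeats 1600000 in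
/-- **a Galois-fixed member of the principal `2`-block over a Galois-fixed member of the
principal `2`-block of a normal subgroup of odd index** -/
theorem exists_fixed_principal_over (M : Ideal AlgInt) (hM : IsPModular 2 M)
    (N : Subgroup G) [N.Normal] [Fintype N] (hidx : Odd N.index) (k e : ℕ)
    (hk : Nat.Coprime k (Nat.card G)) (hke : k ^ (2 ^ e) ≡ 1 [MOD Nat.card G])
    (θ : IrrCharacter N) (hθ : ∀ n : N, (θ : N → ℂ) (n ^ k) = (θ : N → ℂ) n)
    (hθB : θ ∈ principalBlock M N) :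
    ∃ χ : IrrCharacter G, χ ∈ principalBlock M G ∧
      (∀ g : G, (χ : G → ℂ) (g ^ k) = (χ : G → ℂ) g) ∧
      classInner (θ : N → ℂ) (fun n : N => (χ : G → ℂ) n) ≠ 0 := by
  classical
  have := Fintype.ofFinite (IrrCharacter G)
  have hMp : M.IsPrime := hM.2.1.isPrime
  have hMtop := hMp.ne_top
  have hθ1 : (θ : N → ℂ) 1 ≠ 0 := irr_apply_one_ne_zero θ.2
  have hcopN : (Nat.card ↥N).Coprime k :=
    (Nat.Coprime.coprime_dvd_right (Subgroup.card_subgroup_dvd_card _) hk).symm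
  -- multiplicities
  have hmex : ∀ χ : IrrCharacter G, ∃ m : ℕ,
      classInner (θ : N → ℂ) (fun h : N => (χ : G → ℂ) h) = m :=
    fun χ => Cfsg.Agent.helper12.classInner_char_nat (irr_isCharacter θ.2)
      (Cfsg.Agent.helper12.isCharacter_restrict N (irr_isCharacter χ.2))
  choose m hm using hmex
  -- degree ratios
  obtain ⟨r, hrdef⟩ : ∃ r : IrrCharacter G → ℕ,
      ∀ χ, r χ = charDegree (χ : G → ℂ) / charDegree (θ : N → ℂ) := ⟨_, fun _ => rfl⟩
  have hdθ : (charDegree (θ : N → ℂ) : ℂ) = (θ : N → ℂ) 1 :=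
    char_charDegree_cast (irr_isCharacter θ.2)
  have hdθ0 : charDegree (θ : N → ℂ) ≠ 0 := by
    intro h0
    rw [h0, Nat.cast_zero] at hdθ
    exact hθ1 hdθ.symm
  have hrval : ∀ χ : IrrCharacter G, m χ ≠ 0 →
      (χ : G → ℂ) 1 = (r χ : ℂ) * (θ : N → ℂ) 1 := by
    intro χ hmχ
    have hne : classInner (Cfsg.Agent.helper5.res N (χ : G → ℂ)) (θ : N → ℂ) ≠ 0 := by
      rw [← classInner_conj_symm]
      intro h0
      have h1 : classInner (θ : N → ℂ) (Cfsg.Agent.helper5.res N (χ : G → ℂ)) = m χ := hm χ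
      rw [h1, Complex.conj_natCast] at h0
      exact hmχ (by exact_mod_cast h0)
    obtain ⟨e', he', -⟩ := Cfsg.Agent.helper22.degree_ratio_general N χ.2 θ.2 hne
    have h2 : charDegree (χ : G → ℂ) = e' * charDegree (θ : N → ℂ) := by
      have h3 : ((charDegree (χ : G → ℂ) : ℕ) : ℂ) =
          ((e' * charDegree (θ : N → ℂ) : ℕ) : ℂ) := by
        rw [char_charDegree_cast (irr_isCharacter χ.2), he']
        push_cast
        rw [hdθ]
      exact_mod_cast h3
    have h4 : r χ = e' := by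
      rw [hrdef, h2, Nat.mul_div_cancel _ (Nat.pos_of_ne_zero hdθ0)]
    rw [h4, he']
  -- the identity
  have hid := pext_identity_sub N 2 θ
  obtain ⟨c, hcdef⟩ : ∃ c : ℂ, c = omegaFn ((oneIrr G : IrrCharacter G) : G → ℂ) (pregInd G 2) :=
    ⟨_, rfl⟩
  have hcR : MemLocalRing M c := by
    rw [hcdef]
    exact omegaFn_memLocalRing _ (pregInd_isClassFunction 2)
      (fun g => pregInd_memLocalRing hMtop 2 g)
  obtain ⟨F, hFdef⟩ : ∃ F : Finset (IrrCharacter G),
      F = Finset.univ.filter (fun χ => χ ∈ principalBlock M G) := ⟨_, rfl⟩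
  obtain ⟨S, hSdef⟩ : ∃ S : ℕ, S = ∑ χ ∈ F, r χ * m χ := ⟨_, rfl⟩
  have hid2 : (N.index : ℂ) * omegaFn (θ : N → ℂ) (pregInd N 2) =
      ∑ χ ∈ F, ((r χ * m χ : ℕ) : ℂ) * omegaFn (χ : G → ℂ) (pregInd G 2) := by
    have h1 : ∑ χ : IrrCharacter G, (χ : G → ℂ) 1 * omegaFn (χ : G → ℂ) (pregInd G 2) *
        classInner (θ : N → ℂ) (fun h : N => (χ : G → ℂ) h) =
        ∑ χ ∈ F, (θ : N → ℂ) 1 *
          (((r χ * m χ : ℕ) : ℂ) * omegaFn (χ : G → ℂ) (pregInd G 2)) := by
      rw [hFdef, Finset.sum_filter]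
      refine Finset.sum_congr rfl (fun χ _ => ?_)
      by_cases hχ : χ ∈ principalBlock M G
      · rw [if_pos hχ, hm χ]
        by_cases hm0 : m χ = 0
        · rw [hm0]
          push_cast
          ring
        · rw [hrval χ hm0]
          push_cast
          ring
      · rw [if_neg hχ, omegaFn_pregInd_eq_zero 2 M hM χ hχ, mul_zero, zero_mul]
    rw [h1, ← Finset.mul_sum, mul_assoc] at hid
    exact mul_left_cancel₀ hθ1 hid
  have hdiff : MemLocalIdeal M ((N.index : ℂ) * omegaFn (θ : N → ℂ) (pregInd N 2) -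
      c * (S : ℂ)) := by
    rw [hid2, hSdef, Nat.cast_sum, Finset.mul_sum, ← Finset.sum_sub_distrib]
    apply memLocalIdeal_sum
    intro χ hχ
    rw [hFdef, Finset.mem_filter] at hχ
    have h2 : SameBlock M ((oneIrr G : IrrCharacter G) : G → ℂ) (χ : G → ℂ) := hχ.2
    have h3 := omegaFn_sub_memLocalIdeal (M := M) h2 (pregInd_isClassFunction 2)
      (pregInd_memLocalRing hMtop 2)
    rw [← hcdef] at h3
    have h4 : ((r χ * m χ : ℕ) : ℂ) * omegaFn (χ : G → ℂ) (pregInd G 2) -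
        c * ((r χ * m χ : ℕ) : ℂ) =
        -(((r χ * m χ : ℕ) : ℂ) * (c - omegaFn (χ : G → ℂ) (pregInd G 2))) := by
      ring
    rw [h4]
    exact memLocalIdeal_neg (memLocalIdeal_mul_left
      (memLocalRing_of_integral hMtop (isIntegral_natCast _)) h3)
  have h2idx : ¬ 2 ∣ N.index := by
    intro h2
    rw [Nat.odd_iff] at hidx
    omega
  -- `S` is odd
  have hSodd : Odd S := by
    by_contra hnot
    rw [Nat.not_odd_iff_even] at hnot
    obtain ⟨S', hS'⟩ := hnot
    have h1 : MemLocalIdeal M (c * (S : ℂ)) := by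
      have h2 : (S : ℂ) = ((2 : ℕ) : ℂ) * (S' : ℂ) := by
        rw [hS']
        push_cast
        ring
      rw [h2, ← mul_assoc, mul_comm c, mul_assoc]
      rw [mul_comm]
      exact memLocalIdeal_mul_left (memLocalRing_mul hcR
        (memLocalRing_of_integral hMtop (isIntegral_natCast _)))
        (natCast_memLocalIdeal_of_dvd hM (dvd_refl 2))
    have h3 := memLocalIdeal_add hdiff h1
    rw [sub_add_cancel] at h3
    have hidxR : MemLocalRing M ((N.index : ℕ) : ℂ) :=
      memLocalRing_of_integral hMtop (isIntegral_natCast _)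
    have hinv := memLocalRing_inv hidxR (natCast_not_memLocalIdeal hM h2idx)
    have h4 := memLocalIdeal_mul_left hinv h3
    have hidx0 : ((N.index : ℕ) : ℂ) ≠ 0 := by
      intro h0
      apply natCast_not_memLocalIdeal hM h2idx
      rw [h0]
      exact memLocalIdeal_zero hMtop
    rw [← mul_assoc, inv_mul_cancel₀ hidx0, one_mul] at h4
    exact omegaFn_pregInd_not_mem 2 M hM θ hθB h4
  -- the set of characters with odd weight
  rw [hSdef, Finset.odd_sum_iff_odd_card_odd] at hSodd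
  obtain ⟨Ω, hΩdef⟩ : ∃ Ω : Finset (IrrCharacter G),
      Ω = F.filter (fun χ => Odd (r χ * m χ)) := ⟨_, rfl⟩
  rw [← hΩdef] at hSodd
  have hΩmem : ∀ χ, χ ∈ Ω ↔ χ ∈ principalBlock M G ∧ Odd (r χ * m χ) := by
    intro χ
    rw [hΩdef, Finset.mem_filter, hFdef, Finset.mem_filter]
    simp
  -- invariance under the Galois conjugation
  have hstab : ∀ χ ∈ Ω, Cfsg.Agent.helper1.powIrr k hk χ ∈ Ω := by
    intro χ hχ
    rw [hΩmem] at hχ ⊢
    refine ⟨(Cfsg.Agent.helper1.powIrr_mem_principalBlock_iff 2 M hM k hk χ).2 hχ.1, ?_⟩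
    have hd' : r (Cfsg.Agent.helper1.powIrr k hk χ) = r χ := by
      rw [hrdef, hrdef]
      congr 1
      unfold charDegree
      show ⌊((χ : G → ℂ) (1 ^ k)).re⌋₊ = _
      rw [one_pow]
    have hm' : m (Cfsg.Agent.helper1.powIrr k hk χ) = m χ := by
      have h1 := hm (Cfsg.Agent.helper1.powIrr k hk χ)
      have h2 := classInner_res_pow N k hcopN (θ : N → ℂ) hθ (χ : G → ℂ)
      have h3 : (fun h : N =>
          ((Cfsg.Agent.helper1.powIrr k hk χ : IrrCharacter G) : G → ℂ) h) =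
          (fun h : N => (χ : G → ℂ) ((h : G) ^ k)) := rfl
      rw [h3, h2, hm χ] at h1
      exact_mod_cast h1.symm
    rw [hd', hm']
    exact hχ.2
  obtain ⟨f, hfdef⟩ : ∃ f : Function.End {χ // χ ∈ Ω},
      ∀ x, f x = ⟨Cfsg.Agent.helper1.powIrr k hk x.1, hstab x.1 x.2⟩ :=
    ⟨fun x => ⟨Cfsg.Agent.helper1.powIrr k hk x.1, hstab x.1 x.2⟩, fun _ => rfl⟩
  have hiter : ∀ (n : ℕ) (x : {χ // χ ∈ Ω}) (g : G),
      (((f ^ n) x).1 : G → ℂ) g = ((x.1 : IrrCharacter G) : G → ℂ) (g ^ (k ^ n)) := by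
    intro n
    induction n with
    | zero =>
      intro x g
      rw [pow_zero, pow_zero, pow_one]
      rfl
    | succ n ih =>
      intro x g
      rw [pow_succ]
      show (((f ^ n) (f x)).1 : G → ℂ) g = _
      rw [ih (f x) g, hfdef x]
      show ((x.1 : IrrCharacter G) : G → ℂ) ((g ^ (k ^ n)) ^ k) = _
      rw [← pow_mul, ← pow_succ]
  have hfpow : f ^ 2 ^ e = 1 := by
    funext x
    apply Subtype.ext
    apply Subtype.ext
    funext g
    rw [hiter]
    have h1 : g ^ (k ^ (2 ^ e)) = g ^ 1 :=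
      pow_eq_pow_iff_modEq.2 (Nat.ModEq.of_dvd (orderOf_dvd_natCard g) hke)
    rw [h1, pow_one]
    rfl
  have hcard : Odd (Fintype.card {χ // χ ∈ Ω}) := by
    rw [Fintype.card_coe]
    exact hSodd
  obtain ⟨x, hx⟩ := exists_fixed_of_odd_card f _ hfpow hcard
  have hxΩ := (hΩmem x.1).1 x.2
  refine ⟨x.1, hxΩ.1, ?_, ?_⟩
  · intro g
    have h1 := congrArg (fun y : {χ // χ ∈ Ω} => ((y.1 : IrrCharacter G) : G → ℂ) g) hx
    rw [hfdef] at h1
    exact h1
  · rw [hm x.1]
    have h1 : Odd (m x.1) := (Nat.odd_mul.1 hxΩ.2).2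
    have h2 : m x.1 ≠ 0 := by
      rintro h0
      rw [h0] at h1
      simp at h1
    exact_mod_cast h2

/-- **Galois-fixed characters over a normal subgroup of odd index and principal `2`-blocks** -/
theorem fixed_over_principal_iff (M : Ideal AlgInt) (hM : IsPModular 2 M)
    (N : Subgroup G) [N.Normal] [Fintype N] (hidx : Odd N.index) (k e : ℕ)
    (hk : Nat.Coprime k (Nat.card G)) (hke : k ^ (2 ^ e) ≡ 1 [MOD Nat.card G])
    (hk₂ : ∀ g : G, Odd (orderOf g) → g ^ k = g⁻¹)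
    (θ : IrrCharacter N) (hθ : ∀ n : N, (θ : N → ℂ) (n ^ k) = (θ : N → ℂ) n)
    (χ : IrrCharacter G) (hχ : ∀ g : G, (χ : G → ℂ) (g ^ k) = (χ : G → ℂ) g)
    (hover : classInner (fun n : N => (χ : G → ℂ) n) (θ : N → ℂ) ≠ 0) :
    χ ∈ principalBlock M G ↔ θ ∈ principalBlock M N := by
  classical
  have : Fact (Nat.Prime 2) := ⟨Nat.prime_two⟩
  constructor
  · intro hχB
    exact Cfsg.Agent.helper1.principal_under 2 M hM N χ hχB θ hover
  · intro hθB
    obtain ⟨χ₀, hχ₀B, hχ₀fix, hχ₀over⟩ :=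
      exists_fixed_principal_over M hM N hidx k e hk hke θ hθ hθB
    have hover₀ : classInner (Cfsg.Agent.helper5.res N (χ₀ : G → ℂ)) (θ : N → ℂ) ≠ 0 := by
      intro h0
      apply hχ₀over
      rw [← classInner_conj_symm]
      show conj (classInner (Cfsg.Agent.helper5.res N (χ₀ : G → ℂ)) (θ : N → ℂ)) = 0
      rw [h0, map_zero]
    have heq := unique_fixed_over_odd_index N hidx k hk.symm
      (pow_mul_self_mem_of_odd_index N hidx k hk₂) θ χ χ₀ hχ hχ₀fix hover hover₀
    rw [heq]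
    exact hχ₀B

end OddIdxD

end Cfsg.Agent.helper24
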