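import Mathlib
import Cfsg.Agent.Lib_helper24_OddIdx1

/-!
Frobenius–Schur indicators over a normal subgroup of odd index (helper24): the indicator of an
induced function, and the unique character of indicator `+1` over a character of indicator `+1`.
-/

set_option autoImplicit false

namespace Cfsg.Agent.helper24

open Cfsg
open scoped ComplexConjugate

universe u

section OddIdxE

variable {G : Type u} [Group G] [Fintype G]

/-- summing a function vanishing off a subgroup -/
theorem sum_eq_sum_subgroup_of_vanish (N : Subgroup G) [Fintype N] (F : G → ℂ)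
    (hF : ∀ s, s ∉ N → F s = 0) : ∑ s : G, F s = ∑ n : N, F n := by
  classical
  have h1 : ∑ s : G, F s = ∑ s ∈ Finset.univ.filter (fun s : G => s ∈ N), F s := by
    symm
    apply Finset.sum_subset (Finset.subset_univ _)
    intro s _ hs
    apply hF
    intro h
    apply hs
    rw [Finset.mem_filter]
    exact ⟨Finset.mem_univ _, h⟩
  rw [h1]
  rw [Finset.sum_subtype (Finset.univ.filter (fun s : G => s ∈ N)) (p := fun s => s ∈ N)
    (fun x => by rw [Finset.mem_filter]; simp) F]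

/-- in a normal subgroup of odd index, an element whose square lies in the subgroup lies in it -/
theorem mem_of_sq_mem_of_odd_index (N : Subgroup G) [N.Normal] (hidx : Odd N.index) (s : G)
    (hs : s * s ∈ N) : s ∈ N := by
  classical
  have h4 : ((s : G) : G ⧸ N) ^ 2 = 1 := by
    rw [← QuotientGroup.mk_pow, pow_two]
    exact (QuotientGroup.eq_one_iff _).2 hs
  have h5 : ((s : G) : G ⧸ N) ^ (Nat.card (G ⧸ N)) = 1 := pow_card_eq_one'
  have h6 := pow_gcd_eq_one.2 ⟨h4, h5⟩
  have hcop : Nat.Coprime 2 (Nat.card (G ⧸ N)) := by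
    rw [← Subgroup.index_eq_card]
    exact Nat.coprime_two_left.2 hidx
  rw [Nat.Coprime.gcd_eq_one hcop, pow_one] at h6
  exact (QuotientGroup.eq_one_iff _).1 h6

/-- the Frobenius–Schur indicator of the function induced from a normal subgroup of odd index -/
theorem fsInd_indFun_of_odd_index (N : Subgroup G) [N.Normal] [Fintype N] (hidx : Odd N.index)
    (φ : N → ℂ) :
    Cfsg.Agent.helper22.fsInd (indFun N φ) = Cfsg.Agent.helper22.fsInd φ := by
  classical
  have hcardG : (Nat.card G : ℂ) ≠ 0 := by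
    have : 0 < Nat.card G := Nat.card_pos
    exact_mod_cast this.ne'
  have hinner : ∀ x : G, ∑ s : G, extendByZero N φ (x⁻¹ * (s * s) * x) =
      ∑ s : G, extendByZero N φ (s * s) := by
    intro x
    apply Fintype.sum_equiv (MulAut.conj x⁻¹).toEquiv
    intro s
    congr 1
    show x⁻¹ * (s * s) * x = (x⁻¹ * s * x⁻¹⁻¹) * (x⁻¹ * s * x⁻¹⁻¹)
    group
  have hsum : ∑ s : G, extendByZero N φ (s * s) = ∑ n : N, φ (n * n) := by
    rw [sum_eq_sum_subgroup_of_vanish N (fun s => extendByZero N φ (s * s))]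
    · refine Finset.sum_congr rfl (fun n _ => ?_)
      have hmem : ((n : G) * (n : G)) ∈ N := N.mul_mem n.2 n.2
      rw [Cfsg.Agent.helper5.extendByZero_of_mem N φ _ hmem]
      rfl
    · intro s hs
      apply Cfsg.Agent.helper5.extendByZero_of_not_mem
      intro h
      exact hs (mem_of_sq_mem_of_odd_index N hidx s h)
  unfold Cfsg.Agent.helper22.fsInd
  have h1 : ∑ s : G, indFun N φ (s * s) =
      (Nat.card N : ℂ)⁻¹ * ((Nat.card G : ℂ) * ∑ n : N, φ (n * n)) := by
    have h2 : ∀ s : G, indFun N φ (s * s) =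
        (Nat.card N : ℂ)⁻¹ * ∑ x : G, extendByZero N φ (x⁻¹ * (s * s) * x) := fun s => rfl
    rw [Finset.sum_congr rfl (fun s _ => h2 s), ← Finset.mul_sum, Finset.sum_comm,
      Finset.sum_congr rfl (fun x _ => hinner x), Finset.sum_const, nsmul_eq_mul, hsum,
      Finset.card_univ, ← Nat.card_eq_fintype_card]
  rw [h1]
  field_simp

/-- linearity of the Frobenius–Schur indicator -/
theorem fsInd_sum_smul {ι : Type*} (s : Finset ι) (c : ι → ℂ) (f : ι → G → ℂ) :
    Cfsg.Agent.helper22.fsInd (∑ i ∈ s, c i • f i) =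
      ∑ i ∈ s, c i * Cfsg.Agent.helper22.fsInd (f i) := by
  classical
  unfold Cfsg.Agent.helper22.fsInd
  have h1 : ∀ t : G, (∑ i ∈ s, c i • f i) (t * t) = ∑ i ∈ s, c i * f i (t * t) := by
    intro t
    rw [Finset.sum_apply]
    rfl
  rw [Finset.sum_congr rfl (fun t _ => h1 t), Finset.sum_comm, Finset.mul_sum]
  refine Finset.sum_congr rfl (fun i _ => ?_)
  rw [← Finset.mul_sum]
  ring

set_option maxHeartbeats 800000 in
/-- **over a character of indicator `+1` of a normal subgroup of odd index there is exactly one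
irreducible character of indicator `+1`** -/
theorem existsUnique_fsInd_one_over (N : Subgroup G) [N.Normal] [Fintype N] (hidx : Odd N.index)
    (φ : IrrCharacter N) (hφ : Cfsg.Agent.helper22.fsInd (φ : N → ℂ) = 1) :
    ∃! χ : IrrCharacter G, Cfsg.Agent.helper22.fsInd (χ : G → ℂ) = 1 ∧
      classInner (Cfsg.Agent.helper5.res N (χ : G → ℂ)) (φ : N → ℂ) ≠ 0 := by
  classical
  have := Fintype.ofFinite (IrrCharacter G)
  -- existence
  have hex : ∃ χ : IrrCharacter G, Cfsg.Agent.helper22.fsInd (χ : G → ℂ) = 1 ∧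
      classInner (Cfsg.Agent.helper5.res N (χ : G → ℂ)) (φ : N → ℂ) ≠ 0 := by
    have hind : IsCharacter G (indFun N (φ : N → ℂ)) :=
      Cfsg.Agent.helper12.isCharacter_indFun N (irr_isCharacter φ.2)
    have hexp := classFunction_expansion (char_isClassFunction hind)
    have h1 := fsInd_indFun_of_odd_index N hidx (φ : N → ℂ)
    rw [hφ, hexp, fsInd_sum_smul] at h1
    by_contra hno
    push Not at hno
    have hterm : ∀ χ : IrrCharacter G,
        (classInner (indFun N (φ : N → ℂ)) (χ : G → ℂ) *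
          Cfsg.Agent.helper22.fsInd (χ : G → ℂ)).re ≤ 0 := by
      intro χ
      obtain ⟨m, hm⟩ := Cfsg.Agent.helper12.classInner_char_nat hind (irr_isCharacter χ.2)
      rw [hm]
      by_cases hm0 : m = 0
      · rw [hm0]
        simp
      · have hne : classInner (Cfsg.Agent.helper5.res N (χ : G → ℂ)) (φ : N → ℂ) ≠ 0 := by
          have h2 := Cfsg.Agent.helper12.classInner_indFun_eq_restrict N (φ : N → ℂ)
            (χ : G → ℂ) (char_isClassFunction (irr_isCharacter χ.2))
          rw [hm] at h2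
          rw [← classInner_conj_symm]
          intro h0
          have h3 : classInner (φ : N → ℂ) (Cfsg.Agent.helper5.res N (χ : G → ℂ)) = m := h2.symm
          rw [h3, Complex.conj_natCast] at h0
          exact hm0 (by exact_mod_cast h0)
        have hν : Cfsg.Agent.helper22.fsInd (χ : G → ℂ) ≠ 1 := fun h => hne (hno χ h)
        rcases Cfsg.Agent.helper22.fsInd_cases χ.2 with h | h | h
        · rw [h]
          simp
        · exact absurd h hν
        · rw [h]
          simp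
    have h2 := congrArg Complex.re h1
    rw [Complex.re_sum, Complex.one_re] at h2
    have h3 : ∑ χ : IrrCharacter G, (classInner (indFun N (φ : N → ℂ)) (χ : G → ℂ) *
        Cfsg.Agent.helper22.fsInd (χ : G → ℂ)).re ≤ 0 :=
      Finset.sum_nonpos (fun χ _ => hterm χ)
    linarith
  obtain ⟨χ₀, hχ₀ν, hχ₀o⟩ := hex
  refine ⟨χ₀, ⟨hχ₀ν, hχ₀o⟩, ?_⟩
  rintro χ ⟨hχν, hχo⟩
  -- both are real hence fixed by inversion
  have hcardpos : 0 < Nat.card G := Nat.card_pos
  obtain ⟨k, hkdef⟩ : ∃ k : ℕ, k = 2 * Nat.card G - 1 := ⟨_, rfl⟩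
  have hk1 : k + 1 = 2 * Nat.card G := by omega
  have hcop : (Nat.card G).Coprime k := by
    have h3 : Nat.gcd (Nat.card G) k ∣ k := Nat.gcd_dvd_right _ _
    have h4 : Nat.gcd (Nat.card G) k ∣ k + 1 := by
      rw [hk1]
      exact Dvd.dvd.mul_left (Nat.gcd_dvd_left _ _) 2
    exact Nat.eq_one_of_dvd_one ((Nat.dvd_add_right h3).1 h4)
  have hpowinv : ∀ g : G, g ^ k = g⁻¹ := by
    intro g
    have h1 : g ^ (k + 1) = 1 := by
      rw [hk1, mul_comm, pow_mul, pow_card_eq_one', one_pow]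
    rw [pow_succ] at h1
    exact eq_inv_of_mul_eq_one_left h1
  have hfix : ∀ ψ : IrrCharacter G, Cfsg.Agent.helper22.fsInd (ψ : G → ℂ) = 1 →
      ∀ g : G, (ψ : G → ℂ) (g ^ k) = (ψ : G → ℂ) g := by
    intro ψ hψ g
    have hreal := (Cfsg.Agent.helper22.fsInd_ne_zero_iff ψ.2).1 (by rw [hψ]; exact one_ne_zero)
    rw [hpowinv g, char_inv (irr_isCharacter ψ.2)]
    exact Complex.conj_eq_iff_im.2 (hreal g)
  have hkq : ∀ g : G, g ^ k * g ∈ N := by
    intro g
    rw [hpowinv g, inv_mul_cancel]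
    exact N.one_mem
  exact unique_fixed_over_odd_index N hidx k hcop hkq φ χ χ₀ (hfix χ hχν) (hfix χ₀ hχ₀ν)
    hχo hχ₀o

end OddIdxE

section OddIdxF

variable {G : Type u} [Group G] [Finite G]

/-- the same statement written with finite sums over a `Finite` group -/
theorem existsUnique_strongly_real_over (N : Subgroup G) [N.Normal] (hodd : Odd N.index)
    (φ : IrrCharacter ↥N)
    (hφ : (Nat.card ↥N : ℂ)⁻¹ * ∑ᶠ g : ↥N, (φ : ↥N → ℂ) (g * g) = 1) :
    ∃! χ : IrrCharacter G, (Nat.card G : ℂ)⁻¹ * ∑ᶠ g : G, (χ : G → ℂ) (g * g) = 1 ∧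
      (∑ᶠ n : ↥N, (χ : G → ℂ) n * (starRingEnd ℂ) ((φ : ↥N → ℂ) n)) ≠ 0 := by
  classical
  have := Fintype.ofFinite G
  have := Fintype.ofFinite ↥N
  have hcardN : (Nat.card ↥N : ℂ) ≠ 0 := by
    have : 0 < Nat.card ↥N := Nat.card_pos
    exact_mod_cast this.ne'
  have hφ' : Cfsg.Agent.helper22.fsInd (φ : ↥N → ℂ) = 1 := by
    unfold Cfsg.Agent.helper22.fsInd
    rw [← finsum_eq_sum_of_fintype]
    exact hφ
  obtain ⟨χ, ⟨h1, h2⟩, huniq⟩ := existsUnique_fsInd_one_over N hodd φ hφ'
  have conv1 : ∀ ψ : IrrCharacter G,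
      ((Nat.card G : ℂ)⁻¹ * ∑ᶠ g : G, (ψ : G → ℂ) (g * g) = 1) ↔
        Cfsg.Agent.helper22.fsInd (ψ : G → ℂ) = 1 := by
    intro ψ
    unfold Cfsg.Agent.helper22.fsInd
    rw [finsum_eq_sum_of_fintype]
  have conv2 : ∀ ψ : IrrCharacter G,
      (∑ᶠ n : ↥N, (ψ : G → ℂ) n * (starRingEnd ℂ) ((φ : ↥N → ℂ) n)) ≠ 0 ↔
        classInner (Cfsg.Agent.helper5.res N (ψ : G → ℂ)) (φ : ↥N → ℂ) ≠ 0 := by
    intro ψ
    rw [finsum_eq_sum_of_fintype]
    unfold classInner
    constructor
    · intro h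
      exact mul_ne_zero (inv_ne_zero hcardN) h
    · intro h h0
      apply h
      have h3 : ∑ g : ↥N, Cfsg.Agent.helper5.res N (ψ : G → ℂ) g *
          (starRingEnd ℂ) ((φ : ↥N → ℂ) g) = 0 := h0
      rw [h3, mul_zero]
  refine ⟨χ, ⟨(conv1 χ).2 h1, (conv2 χ).2 h2⟩, fun ψ hψ => ?_⟩
  exact huniq ψ ⟨(conv1 ψ).1 hψ.1, (conv2 ψ).1 hψ.2⟩

end OddIdxF

end Cfsg.Agent.helper24
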