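import Mathlib
import Cfsg.Agent.Lib_helper24_OddIdx2
import Cfsg.Agent.Lib_helper24_CharCentral
import Cfsg.Agent.Lib_helper22_CyclicExt
import Cfsg.Agent.Lib_helper1_GalChar

/-!
Galois-fixed extensions over a normal subgroup of odd index (helper24): if a fixed character
extends then it has a fixed extension; the cyclic case; a normal subgroup of prime index in a
group with a nontrivial prime-power quotient.
-/

set_option autoImplicit false

namespace Cfsg.Agent.helper24

open Cfsg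
open scoped ComplexConjugate

universe u

section OddIdxG

variable {G : Type u} [Group G] [Fintype G]

set_option maxHeartbeats 800000 in
/-- if a character of a normal subgroup of odd index fixed by a power map inverting the quotient
extends to the group, it has an extension fixed by the power map -/
theorem exists_fixed_extension (N : Subgroup G) [N.Normal] [Fintype N] (hidx : Odd N.index)
    (k : ℕ) (hk : k.Coprime (Nat.card G)) (hkq : ∀ g : G, g ^ k * g ∈ N)
    (θ : N → ℂ) (hθ : IsIrrCharacter N θ) (hfix : ∀ n : N, θ (n ^ k) = θ n)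
    (ψ : G → ℂ) (hψ : IsIrrCharacter G ψ) (hext : ∀ n : N, ψ n = θ n) :
    ∃ ψ' : G → ℂ, IsIrrCharacter G ψ' ∧ (∀ g : G, ψ' (g ^ k) = ψ' g) ∧ ∀ n : N, ψ' n = θ n := by
  classical
  have := Fintype.ofFinite (IrrCharacter (G ⧸ N))
  have hres : Cfsg.Agent.helper5.res N ψ = θ := funext hext
  have hϑ : IsIrrCharacter N (Cfsg.Agent.helper5.res N ψ) := by
    rw [hres]
    exact hθ
  obtain ⟨-, -, hgal⟩ := Cfsg.Agent.helper22.gallagher N hψ hϑ
  have hcb : IsIrrCharacter G (fun g => ψ (g ^ k)) :=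
    Cfsg.Agent.helper1.isIrrCharacter_powMap k hk hψ
  have hover : classInner (Cfsg.Agent.helper5.res N (fun g => ψ (g ^ k)))
      (Cfsg.Agent.helper5.res N ψ) ≠ 0 := by
    have h1 : Cfsg.Agent.helper5.res N (fun g => ψ (g ^ k)) = Cfsg.Agent.helper5.res N ψ := by
      funext n
      show ψ ((n : G) ^ k) = ψ n
      have h2 := hext (n ^ k)
      rw [SubmonoidClass.coe_pow] at h2
      rw [h2, hfix n, hext n]
    rw [h1, irr_classInner_self hϑ]
    exact one_ne_zero
  obtain ⟨β, hβ⟩ := hgal _ hcb hover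
  have hψ1 : ψ 1 ≠ 0 := irr_apply_one_ne_zero hψ
  have hval : ∀ g : G, ψ (g ^ k) = (β : G ⧸ N → ℂ) (g : G ⧸ N) * ψ g := by
    intro g
    have h1 := congrFun hβ g
    rw [Pi.mul_apply, Cfsg.Agent.helper22.infl_apply] at h1
    exact h1
  have hβ1 : (β : G ⧸ N → ℂ) 1 = 1 := by
    have h1 := hval 1
    rw [one_pow, QuotientGroup.mk_one] at h1
    have h3 : (β : G ⧸ N → ℂ) 1 * ψ 1 = 1 * ψ 1 := by
      rw [one_mul]
      exact h1.symm
    exact mul_right_cancel₀ hψ1 h3
  obtain ⟨βhom, hβhom⟩ : ∃ f : (G ⧸ N) →* ℂ, ∀ x, f x = (β : G ⧸ N → ℂ) x :=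
    ⟨{ toFun := (β : G ⧸ N → ℂ), map_one' := hβ1,
       map_mul' := Cfsg.Agent.helper23.linear_char_mul (irr_isCharacter β.2) hβ1 }, fun _ => rfl⟩
  obtain ⟨lam, hlam⟩ : ∃ lam : G →* ℂˣ,
      ∀ g : G, ((lam g : ℂˣ) : ℂ) = (β : G ⧸ N → ℂ) (g : G ⧸ N) :=
    ⟨βhom.toHomUnits.comp (QuotientGroup.mk' N), fun g => by
      rw [MonoidHom.comp_apply, MonoidHom.coe_toHomUnits, hβhom]
      rfl⟩
  have hpow : ∀ g : G, ψ (g ^ k) = ((lam g : ℂˣ) : ℂ) * ψ g := by
    intro g
    rw [hlam]
    exact hval g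
  have hlamN : ∀ g : G, g ∈ N → lam g = 1 := by
    intro g hg
    apply Units.ext
    rw [hlam, (QuotientGroup.eq_one_iff _).2 hg, hβ1]
    rfl
  -- `lam ^ index = 1`
  have hlamo : ∀ g : G, lam g ^ N.index = 1 := by
    intro g
    rw [← map_pow]
    apply hlamN
    rw [← QuotientGroup.eq_one_iff, QuotientGroup.mk_pow, Subgroup.index_eq_card]
    exact pow_card_eq_one'
  obtain ⟨m, hm⟩ : ∃ m, N.index + 1 = 2 * m := by
    obtain ⟨c, hc⟩ := hidx
    exact ⟨c + 1, by omega⟩
  have hlamk : ∀ g : G, lam (g ^ k) = (lam g)⁻¹ := by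
    intro g
    have h1 := hlamN _ (hkq g)
    rw [map_mul] at h1
    exact eq_inv_of_mul_eq_one_left h1
  have hirr := isIrrCharacter_hom_mul (lam ^ m) hψ
  refine ⟨_, hirr, ?_, ?_⟩
  · intro g
    show (((lam ^ m) (g ^ k) : ℂˣ) : ℂ) * ψ (g ^ k) = (((lam ^ m) g : ℂˣ) : ℂ) * ψ g
    rw [hpow g, ← mul_assoc, ← Units.val_mul]
    congr 2
    rw [MonoidHom.pow_apply, MonoidHom.pow_apply, hlamk g]
    have h1 : lam g = lam g ^ (2 * m) := by
      rw [← hm, pow_succ, hlamo g, one_mul]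
    have h2 : (lam g)⁻¹ ^ m * lam g = (lam g)⁻¹ ^ m * lam g ^ (2 * m) := by
      rw [← h1]
    rw [h2, two_mul, pow_add, ← mul_assoc, inv_pow, inv_mul_cancel, one_mul]
  · intro n
    show (((lam ^ m) (n : G) : ℂˣ) : ℂ) * ψ n = θ n
    rw [MonoidHom.pow_apply, hlamN _ n.2, one_pow, Units.val_one, one_mul, hext n]

/-- the cyclic case: an invariant fixed character of a normal subgroup of odd index with cyclic
quotient has a fixed extension -/
theorem exists_fixed_extension_of_cyclic (N : Subgroup G) [hN : N.Normal] [Fintype N]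
    (hidx : Odd N.index) (hcyc : IsCyclic (G ⧸ N))
    (k : ℕ) (hk : k.Coprime (Nat.card G)) (hkq : ∀ g : G, g ^ k * g ∈ N)
    (θ : N → ℂ) (hθ : IsIrrCharacter N θ) (hfix : ∀ n : N, θ (n ^ k) = θ n)
    (hinv : ∀ (g : G) (n : N), θ ⟨g * n * g⁻¹, hN.conj_mem (n : G) n.2 g⟩ = θ n) :
    ∃ ψ' : G → ℂ, IsIrrCharacter G ψ' ∧ (∀ g : G, ψ' (g ^ k) = ψ' g) ∧ ∀ n : N, ψ' n = θ n := by
  classical
  obtain ⟨d, ρ, hρ, hρθ⟩ := hθ
  have hinv' : ∀ (g : G) (n : N),
      ρ.character ⟨g * n * g⁻¹, hN.conj_mem (n : G) n.2 g⟩ = ρ.character n := by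
    intro g n
    rw [hρθ]
    exact hinv g n
  obtain ⟨ρG, hρG, hρGN⟩ := Cfsg.Agent.helper22.exists_extension_of_cyclic N hcyc ρ hρ hinv'
  have hψ : IsIrrCharacter G ρG.character := ⟨d, ρG, hρG, rfl⟩
  have hext : ∀ n : N, ρG.character n = θ n := by
    intro n
    rw [← hρθ]
    show LinearMap.trace ℂ _ (ρG (n : G)) = LinearMap.trace ℂ _ (ρ n)
    rw [hρGN n]
  exact exists_fixed_extension N hidx k hk hkq θ ⟨d, ρ, hρ, hρθ⟩ hfix ρG.character hψ hext

end OddIdxG

section OddIdxH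

variable {G : Type u} [Group G] [Finite G]

/-- a normal subgroup with a nontrivial quotient of prime-power order lies in a normal subgroup
of prime index -/
theorem exists_normal_index_prime_of_pow (N : Subgroup G) [N.Normal] (q : ℕ) [Fact q.Prime]
    (n : ℕ) (hidx : N.index = q ^ (n + 1)) :
    ∃ M : Subgroup G, M.Normal ∧ N ≤ M ∧ M.index = q ∧ N.relIndex M = q ^ n := by
  classical
  have hq : q.Prime := Fact.out
  have hcard : Nat.card (G ⧸ N) = q ^ (n + 1) := by
    rw [← Subgroup.index_eq_card]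
    exact hidx
  have hQ : IsPGroup q (G ⧸ N) := IsPGroup.of_card hcard
  have : Group.IsNilpotent (G ⧸ N) := hQ.isNilpotent
  have hCne : commutator (G ⧸ N) ≠ ⊤ := by
    intro h
    have h1 : Nontrivial (G ⧸ N) := by
      rw [← Finite.one_lt_card_iff_nontrivial, hcard]
      exact Nat.one_lt_pow (Nat.succ_ne_zero n) hq.one_lt
    have hsol : Group.IsSolvable (G ⧸ N) := inferInstance
    exact (Group.IsSolvable.commutator_lt_top_of_nontrivial (G ⧸ N)).ne h
  obtain ⟨c, hc⟩ := IsPGroup.iff_card.1 (hQ.to_subgroup (commutator (G ⧸ N)))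
  have hcle : c ≤ n := by
    by_contra hlt
    push Not at hlt
    apply hCne
    apply Subgroup.eq_top_of_card_eq
    rw [hc, hcard]
    have h1 : q ^ c ∣ q ^ (n + 1) := by
      rw [← hc, ← hcard]
      exact Subgroup.card_subgroup_dvd_card _
    have h2 : c ≤ n + 1 := (Nat.pow_dvd_pow_iff_le_right hq.one_lt).1 h1
    have h3 : c = n + 1 := by omega
    rw [h3]
  have hdvd : q ^ n ∣ Nat.card (G ⧸ N) := by
    rw [hcard]
    exact pow_dvd_pow q (Nat.le_succ n)
  obtain ⟨K, hKcard, hKle⟩ := Sylow.exists_subgroup_card_pow_prime_le q hdvd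
    (commutator (G ⧸ N)) hc hcle
  have hKn : K.Normal := by
    constructor
    intro x hx g
    have h1 : g * x * g⁻¹ = (g * x * g⁻¹ * x⁻¹) * x := by group
    rw [h1]
    apply K.mul_mem _ hx
    apply hKle
    rw [commutator_def]
    exact Subgroup.commutator_mem_commutator (Subgroup.mem_top g) (Subgroup.mem_top x)
  have hKidx : K.index = q := by
    have h1 := K.card_mul_index
    rw [hKcard, hcard, pow_succ] at h1
    exact Nat.eq_of_mul_eq_mul_left (pow_pos hq.pos n) h1
  refine ⟨K.comap (QuotientGroup.mk' N), ?_, ?_, ?_, ?_⟩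
  · exact Subgroup.Normal.comap hKn _
  · intro x hx
    rw [Subgroup.mem_comap, QuotientGroup.mk'_apply, (QuotientGroup.eq_one_iff x).2 hx]
    exact K.one_mem
  · rw [Subgroup.index_comap_of_surjective _ (QuotientGroup.mk'_surjective N), hKidx]
  · have hle : N ≤ K.comap (QuotientGroup.mk' N) := by
      intro x hx
      rw [Subgroup.mem_comap, QuotientGroup.mk'_apply, (QuotientGroup.eq_one_iff x).2 hx]
      exact K.one_mem
    have h1 := Subgroup.relIndex_mul_index hle
    rw [Subgroup.index_comap_of_surjective _ (QuotientGroup.mk'_surjective N), hKidx, hidx,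
      pow_succ] at h1
    exact Nat.eq_of_mul_eq_mul_right hq.pos h1

end OddIdxH

end Cfsg.Agent.helper24
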