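import Mathlib
import Cfsg.Agent.Lib_helper24_OddIdx4
import Cfsg.Agent.Lib_helper12_PslChars

/-!
Galois-fixed extensions over a normal subgroup whose quotient has odd prime-power order
(helper24): an invariant fixed irreducible character has a fixed extension.
-/

set_option autoImplicit false

namespace Cfsg.Agent.helper24

open Cfsg
open scoped ComplexConjugate

universe u

section OddIdxI

set_option maxHeartbeats 1600000 in
/-- an invariant irreducible character of a normal subgroup of odd prime-power index fixed by a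
power map inverting the elements of odd order has an extension fixed by the power map -/
theorem exists_fixed_extension_of_prime_pow (q : ℕ) [Fact q.Prime] :
    ∀ (n : ℕ) (G : Type u) [Group G] [Finite G] (N : Subgroup G) [hN : N.Normal]
      (_ : N.index = q ^ n) (_ : Odd N.index) (k : ℕ) (_ : k.Coprime (Nat.card G))
      (_ : ∀ g : G, Odd (orderOf g) → g ^ k = g⁻¹)
      (θ : N → ℂ) (_ : IsIrrCharacter N θ) (_ : ∀ n : N, θ (n ^ k) = θ n)
      (_ : ∀ (g : G) (n : N), θ ⟨g * n * g⁻¹, hN.conj_mem (n : G) n.2 g⟩ = θ n),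
      ∃ ψ : G → ℂ, IsIrrCharacter G ψ ∧ (∀ g : G, ψ (g ^ k) = ψ g) ∧ ∀ n : N, ψ n = θ n := by
  classical
  have hq : q.Prime := Fact.out
  intro n
  induction n with
  | zero =>
    intro G _ _ N hN hidx _ k _ _ θ hθ hfix _
    rw [pow_zero, Subgroup.index_eq_one] at hidx
    obtain ⟨e, he⟩ : ∃ e : G ≃* N, ∀ g : G, ((e g : N) : G) = g :=
      ⟨(Subgroup.topEquiv.symm).trans (MulEquiv.subgroupCongr hidx.symm), fun g => rfl⟩
    refine ⟨fun g => θ (e g), Cfsg.Agent.helper12.isIrrCharacter_comp_mulEquiv' e hθ, ?_, ?_⟩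
    · intro g
      show θ (e (g ^ k)) = θ (e g)
      rw [map_pow, hfix]
    · intro m
      show θ (e (m : G)) = θ m
      congr 1
      apply Subtype.ext
      exact he _
  | succ n ih =>
    intro G _ _ N hN hidx hodd k hk hk₂ θ hθ hfix hinv
    have := Fintype.ofFinite G
    obtain ⟨M, hMn, hNM, hMidx, hrel⟩ := exists_normal_index_prime_of_pow N q n hidx
    have hqodd : Odd q := by
      rw [hidx] at hodd
      exact Nat.Odd.of_mul_right (by rwa [pow_succ] at hodd)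
    have := Fintype.ofFinite ↥M
    obtain ⟨N', hN'def⟩ : ∃ N' : Subgroup ↥M, N' = N.subgroupOf M := ⟨_, rfl⟩
    have hN'n : N'.Normal := by
      rw [hN'def]
      exact Subgroup.normal_subgroupOf
    have := Fintype.ofFinite ↥N'
    have hN'idx : N'.index = q ^ n := by
      rw [hN'def]
      exact hrel
    have hN'odd : Odd N'.index := by
      rw [hN'idx]
      exact hqodd.pow
    have hk' : k.Coprime (Nat.card ↥M) :=
      Nat.Coprime.coprime_dvd_right (Subgroup.card_subgroup_dvd_card M) hk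
    have hk₂' : ∀ h : ↥M, Odd (orderOf h) → h ^ k = h⁻¹ := by
      intro h hh
      apply Subtype.ext
      rw [SubmonoidClass.coe_pow, InvMemClass.coe_inv]
      apply hk₂
      rwa [Subgroup.orderOf_coe]
    have hmemN' : ∀ a : ↥M, a ∈ N' ↔ (a : G) ∈ N := by
      intro a
      rw [hN'def, Subgroup.mem_subgroupOf]
    obtain ⟨ε, hε⟩ : ∃ ε : ↥N' ≃* ↥N, ∀ a : ↥N', ((ε a : N) : G) = ((a : ↥M) : G) := by
      subst hN'def
      exact ⟨Subgroup.subgroupOfEquivOfLe hNM, fun a => rfl⟩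
    obtain ⟨θ', hθ'def⟩ : ∃ θ' : ↥N' → ℂ, θ' = fun a => θ (ε a) := ⟨_, rfl⟩
    have hθ'irr : IsIrrCharacter ↥N' θ' := by
      rw [hθ'def]
      exact Cfsg.Agent.helper12.isIrrCharacter_comp_mulEquiv' ε hθ
    have hθ'fix : ∀ a : ↥N', θ' (a ^ k) = θ' a := by
      intro a
      rw [hθ'def]
      show θ (ε (a ^ k)) = θ (ε a)
      rw [map_pow, hfix]
    have hθ'inv : ∀ (h : ↥M) (a : ↥N'),
        θ' ⟨h * a * h⁻¹, hN'n.conj_mem (a : ↥M) a.2 h⟩ = θ' a := by
      intro h a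
      rw [hθ'def]
      show θ (ε ⟨h * a * h⁻¹, hN'n.conj_mem (a : ↥M) a.2 h⟩) = θ (ε a)
      have h1 : ε ⟨h * a * h⁻¹, hN'n.conj_mem (a : ↥M) a.2 h⟩ =
          ⟨(h : G) * ((ε a : N) : G) * (h : G)⁻¹, hN.conj_mem _ (ε a).2 (h : G)⟩ := by
        apply Subtype.ext
        show ((ε ⟨h * a * h⁻¹, hN'n.conj_mem (a : ↥M) a.2 h⟩ : N) : G) =
          (h : G) * ((ε a : N) : G) * (h : G)⁻¹
        rw [hε, hε]
        rfl
      rw [h1]
      exact hinv (h : G) (ε a)
    obtain ⟨θ₁, hθ₁irr, hθ₁fix, hθ₁ext⟩ :=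
      ih ↥M N' hN'idx hN'odd k hk' hk₂' θ' hθ'irr hθ'fix hθ'inv
    -- `θ₁` is `G`-invariant
    have hcopM : (Nat.card ↥M).Coprime k := hk'.symm
    have hkq' : ∀ h : ↥M, h ^ k * h ∈ N' := pow_mul_self_mem_of_odd_index N' hN'odd k hk₂'
    have hres₁ : Cfsg.Agent.helper5.res N' θ₁ = θ' := funext hθ₁ext
    have hθ₁inv : ∀ (g : G) (h : ↥M),
        θ₁ ⟨g * h * g⁻¹, hMn.conj_mem (h : G) h.2 g⟩ = θ₁ h := by
      intro g h
      have hcirr : IsIrrCharacter ↥M (Cfsg.Agent.helper8.conjFunN M g θ₁) :=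
        Cfsg.Agent.helper8.isIrrCharacter_conjFunN M g hθ₁irr
      have hcfix : ∀ y : ↥M, Cfsg.Agent.helper8.conjFunN M g θ₁ (y ^ k) =
          Cfsg.Agent.helper8.conjFunN M g θ₁ y := by
        intro y
        rw [Cfsg.Agent.helper8.conjFunN_apply, Cfsg.Agent.helper8.conjFunN_apply]
        have h1 : (⟨g * ((y ^ k : ↥M) : G) * g⁻¹, hMn.conj_mem _ (y ^ k).2 g⟩ : ↥M) =
            (⟨g * (y : G) * g⁻¹, hMn.conj_mem _ y.2 g⟩ : ↥M) ^ k := by
          apply Subtype.ext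
          show g * ((y ^ k : ↥M) : G) * g⁻¹ =
            (((⟨g * (y : G) * g⁻¹, hMn.conj_mem _ y.2 g⟩ : ↥M) ^ k : ↥M) : G)
          rw [SubmonoidClass.coe_pow, SubmonoidClass.coe_pow]
          exact (conj_pow (a := g) (b := (y : G)) (i := k)).symm
        rw [h1, hθ₁fix]
      have hcres : Cfsg.Agent.helper5.res N' (Cfsg.Agent.helper8.conjFunN M g θ₁) = θ' := by
        funext a
        show Cfsg.Agent.helper8.conjFunN M g θ₁ (a : ↥M) = θ' a
        rw [Cfsg.Agent.helper8.conjFunN_apply]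
        have hmem : (⟨g * ((a : ↥M) : G) * g⁻¹, hMn.conj_mem _ (a : ↥M).2 g⟩ : ↥M) ∈ N' := by
          rw [hmemN']
          exact hN.conj_mem _ ((hmemN' _).1 a.2) g
        have h2 := hθ₁ext ⟨_, hmem⟩
        rw [h2, hθ'def]
        show θ (ε ⟨_, hmem⟩) = θ (ε a)
        have h3 : ε ⟨_, hmem⟩ =
            ⟨g * ((ε a : N) : G) * g⁻¹, hN.conj_mem _ (ε a).2 g⟩ := by
          apply Subtype.ext
          show ((ε ⟨_, hmem⟩ : N) : G) = g * ((ε a : N) : G) * g⁻¹
          rw [hε, hε]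
        rw [h3]
        exact hinv g (ε a)
      have hne : ∀ F : ↥M → ℂ, Cfsg.Agent.helper5.res N' F = θ' →
          classInner (Cfsg.Agent.helper5.res N' F) θ' ≠ 0 := by
        intro F hF
        rw [hF, irr_classInner_self hθ'irr]
        exact one_ne_zero
      have heq := unique_fixed_over_odd_index N' hN'odd k hcopM hkq' ⟨θ', hθ'irr⟩
        ⟨_, hcirr⟩ ⟨θ₁, hθ₁irr⟩ hcfix hθ₁fix (hne _ hcres) (hne _ hres₁)
      have h4 := congrFun (congrArg Subtype.val heq) h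
      exact h4
    -- the cyclic step
    have hMcard : Nat.card (G ⧸ M) = q := by
      rw [← Subgroup.index_eq_card]
      exact hMidx
    have hcyc : IsCyclic (G ⧸ M) := isCyclic_of_prime_card hMcard
    have hModd : Odd M.index := by
      rw [hMidx]
      exact hqodd
    have hkq : ∀ g : G, g ^ k * g ∈ M := pow_mul_self_mem_of_odd_index M hModd k hk₂
    obtain ⟨ψ, hψirr, hψfix, hψext⟩ := exists_fixed_extension_of_cyclic M hModd hcyc k hk hkq
      θ₁ hθ₁irr hθ₁fix hθ₁inv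
    refine ⟨ψ, hψirr, hψfix, ?_⟩
    intro m
    have hmM : (m : G) ∈ M := hNM m.2
    have h1 := hψext ⟨(m : G), hmM⟩
    have hmN' : (⟨(m : G), hmM⟩ : ↥M) ∈ N' := by
      rw [hmemN']
      exact m.2
    have h2 := hθ₁ext ⟨⟨(m : G), hmM⟩, hmN'⟩
    have h3 : ψ (m : G) = θ₁ ⟨(m : G), hmM⟩ := h1
    rw [h3]
    have h4 : θ₁ ⟨(m : G), hmM⟩ = θ' ⟨⟨(m : G), hmM⟩, hmN'⟩ := h2
    rw [h4, hθ'def]
    show θ (ε ⟨⟨(m : G), hmM⟩, hmN'⟩) = θ m
    congr 1
    apply Subtype.ext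
    rw [hε]

end OddIdxI

end Cfsg.Agent.helper24
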