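import Mathlib
import Cfsg.Agent.Lib_helper24_OddIdx5
import Cfsg.Agent.Lib_helper22_RepGroup2

/-!
Galois-fixed characters over a normal subgroup of odd index (helper24): existence of a fixed
character over a fixed character, fixed extensions of invariant fixed characters, and the
resulting unique fixed character over a fixed character.
-/

set_option autoImplicit false

namespace Cfsg.Agent.helper24

open Cfsg
open scoped ComplexConjugate

universe u

section OddIdxJ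

variable {G : Type u} [Group G] [Fintype G]

set_option maxHeartbeats 1600000 in
/-- **a Galois-fixed irreducible character over a Galois-fixed irreducible character of a normal
subgroup of odd index** -/
theorem exists_fixed_over_odd_index (N : Subgroup G) [N.Normal] [Fintype N] (hidx : Odd N.index)
    (k e : ℕ) (hk : Nat.Coprime k (Nat.card G)) (hke : k ^ (2 ^ e) ≡ 1 [MOD Nat.card G])
    (θ : IrrCharacter N) (hθ : ∀ n : N, (θ : N → ℂ) (n ^ k) = (θ : N → ℂ) n) :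
    ∃ χ : IrrCharacter G, (∀ g : G, (χ : G → ℂ) (g ^ k) = (χ : G → ℂ) g) ∧
      classInner (θ : N → ℂ) (fun n : N => (χ : G → ℂ) n) ≠ 0 := by
  classical
  have := Fintype.ofFinite (IrrCharacter G)
  have hθ1 : (θ : N → ℂ) 1 ≠ 0 := irr_apply_one_ne_zero θ.2
  have hcopN : (Nat.card ↥N).Coprime k :=
    (Nat.Coprime.coprime_dvd_right (Subgroup.card_subgroup_dvd_card _) hk).symm
  have hmex : ∀ χ : IrrCharacter G, ∃ m : ℕ,
      classInner (θ : N → ℂ) (fun h : N => (χ : G → ℂ) h) = m :=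
    fun χ => Cfsg.Agent.helper12.classInner_char_nat (irr_isCharacter θ.2)
      (Cfsg.Agent.helper12.isCharacter_restrict N (irr_isCharacter χ.2))
  choose m hm using hmex
  obtain ⟨r, hrdef⟩ : ∃ r : IrrCharacter G → ℕ,
      ∀ χ, r χ = charDegree (χ : G → ℂ) / charDegree (θ : N → ℂ) := ⟨_, fun _ => rfl⟩
  have hdθ : (charDegree (θ : N → ℂ) : ℂ) = (θ : N → ℂ) 1 :=
    char_charDegree_cast (irr_isCharacter θ.2)
  have hdθ0 : charDegree (θ : N → ℂ) ≠ 0 := by
    intro h0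
    rw [h0, Nat.cast_zero] at hdθ
    exact hθ1 hdθ.symm
  have hrval : ∀ χ : IrrCharacter G, m χ ≠ 0 →
      (χ : G → ℂ) 1 = (r χ : ℂ) * (θ : N → ℂ) 1 := by
    intro χ hmχ
    have hne : classInner (Cfsg.Agent.helper5.res N (χ : G → ℂ)) (θ : N → ℂ) ≠ 0 := by
      rw [← classInner_conj_symm]
      intro h0
      have h1 : classInner (θ : N → ℂ) (Cfsg.Agent.helper5.res N (χ : G → ℂ)) = m χ := hm χ
      rw [h1, Complex.conj_natCast] at h0
      exact hmχ (by exact_mod_cast h0)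
    obtain ⟨e', he', -⟩ := Cfsg.Agent.helper22.degree_ratio_general N χ.2 θ.2 hne
    have h2 : charDegree (χ : G → ℂ) = e' * charDegree (θ : N → ℂ) := by
      have h3 : ((charDegree (χ : G → ℂ) : ℕ) : ℂ) =
          ((e' * charDegree (θ : N → ℂ) : ℕ) : ℂ) := by
        rw [char_charDegree_cast (irr_isCharacter χ.2), he']
        push_cast
        rw [hdθ]
      exact_mod_cast h3
    have h4 : r χ = e' := by
      rw [hrdef, h2, Nat.mul_div_cancel _ (Nat.pos_of_ne_zero hdθ0)]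
    rw [h4, he']
  obtain ⟨S, hSdef⟩ : ∃ S : ℕ, S = ∑ χ : IrrCharacter G, r χ * m χ := ⟨_, rfl⟩
  -- the degree identity
  have hSidx : S = N.index := by
    have hexp := classFunction_expansion (Cfsg.Agent.helper12.indFun_isClassFunction N (θ : N → ℂ))
    have h1 := congrFun hexp 1
    rw [Cfsg.Agent.helper5.indFun_one, Finset.sum_apply] at h1
    have h2 : ∀ χ ∈ (Finset.univ : Finset (IrrCharacter G)),
        (classInner (indFun N (θ : N → ℂ)) (χ : G → ℂ) • (χ : G → ℂ)) 1 =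
          (θ : N → ℂ) 1 * ((r χ * m χ : ℕ) : ℂ) := by
      intro χ _
      rw [Pi.smul_apply, smul_eq_mul, Cfsg.Agent.helper12.classInner_indFun_eq_restrict N
        (θ : N → ℂ) (χ : G → ℂ) (char_isClassFunction (irr_isCharacter χ.2)), hm χ]
      by_cases hm0 : m χ = 0
      · rw [hm0]
        push_cast
        ring
      · rw [hrval χ hm0]
        push_cast
        ring
    rw [Finset.sum_congr rfl h2, ← Finset.mul_sum, mul_comm] at h1
    have h3 := mul_left_cancel₀ hθ1 h1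
    rw [← Nat.cast_sum, ← hSdef] at h3
    exact_mod_cast h3.symm
  have hSodd : Odd S := by
    rw [hSidx]
    exact hidx
  rw [hSdef, Finset.odd_sum_iff_odd_card_odd] at hSodd
  obtain ⟨Ω, hΩdef⟩ : ∃ Ω : Finset (IrrCharacter G),
      Ω = Finset.univ.filter (fun χ => Odd (r χ * m χ)) := ⟨_, rfl⟩
  rw [← hΩdef] at hSodd
  have hΩmem : ∀ χ, χ ∈ Ω ↔ Odd (r χ * m χ) := by
    intro χ
    rw [hΩdef, Finset.mem_filter]
    simp
  have hstab : ∀ χ ∈ Ω, Cfsg.Agent.helper1.powIrr k hk χ ∈ Ω := by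
    intro χ hχ
    rw [hΩmem] at hχ ⊢
    have hd' : r (Cfsg.Agent.helper1.powIrr k hk χ) = r χ := by
      rw [hrdef, hrdef]
      congr 1
      unfold charDegree
      show ⌊((χ : G → ℂ) (1 ^ k)).re⌋₊ = _
      rw [one_pow]
    have hm' : m (Cfsg.Agent.helper1.powIrr k hk χ) = m χ := by
      have h1 := hm (Cfsg.Agent.helper1.powIrr k hk χ)
      have h2 := classInner_res_pow N k hcopN (θ : N → ℂ) hθ (χ : G → ℂ)
      have h3 : (fun h : N =>
          ((Cfsg.Agent.helper1.powIrr k hk χ : IrrCharacter G) : G → ℂ) h) =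
          (fun h : N => (χ : G → ℂ) ((h : G) ^ k)) := rfl
      rw [h3, h2, hm χ] at h1
      exact_mod_cast h1.symm
    rw [hd', hm']
    exact hχ
  obtain ⟨f, hfdef⟩ : ∃ f : Function.End {χ // χ ∈ Ω},
      ∀ x, f x = ⟨Cfsg.Agent.helper1.powIrr k hk x.1, hstab x.1 x.2⟩ :=
    ⟨fun x => ⟨Cfsg.Agent.helper1.powIrr k hk x.1, hstab x.1 x.2⟩, fun _ => rfl⟩
  have hiter : ∀ (n : ℕ) (x : {χ // χ ∈ Ω}) (g : G),
      (((f ^ n) x).1 : G → ℂ) g = ((x.1 : IrrCharacter G) : G → ℂ) (g ^ (k ^ n)) := by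
    intro n
    induction n with
    | zero =>
      intro x g
      rw [pow_zero, pow_zero, pow_one]
      rfl
    | succ n ih =>
      intro x g
      rw [pow_succ]
      show (((f ^ n) (f x)).1 : G → ℂ) g = _
      rw [ih (f x) g, hfdef x]
      show ((x.1 : IrrCharacter G) : G → ℂ) ((g ^ (k ^ n)) ^ k) = _
      rw [← pow_mul, ← pow_succ]
  have hfpow : f ^ 2 ^ e = 1 := by
    funext x
    apply Subtype.ext
    apply Subtype.ext
    funext g
    rw [hiter]
    have h1 : g ^ (k ^ (2 ^ e)) = g ^ 1 :=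
      pow_eq_pow_iff_modEq.2 (Nat.ModEq.of_dvd (orderOf_dvd_natCard g) hke)
    rw [h1, pow_one]
    rfl
  have hcard : Odd (Fintype.card {χ // χ ∈ Ω}) := by
    rw [Fintype.card_coe]
    exact hSodd
  obtain ⟨x, hx⟩ := exists_fixed_of_odd_card f _ hfpow hcard
  have hxΩ := (hΩmem x.1).1 x.2
  refine ⟨x.1, ?_, ?_⟩
  · intro g
    have h1 := congrArg (fun y : {χ // χ ∈ Ω} => ((y.1 : IrrCharacter G) : G → ℂ) g) hx
    rw [hfdef] at h1
    exact h1
  · rw [hm x.1]
    have h1 : Odd (m x.1) := (Nat.odd_mul.1 hxΩ).2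
    have h2 : m x.1 ≠ 0 := by
      rintro h0
      rw [h0] at h1
      simp at h1
    exact_mod_cast h2

set_option maxHeartbeats 1600000 in
/-- **an invariant Galois-fixed irreducible character of a normal subgroup of odd index has a
Galois-fixed extension** -/
theorem exists_fixed_extension_of_invariant (N : Subgroup G) [hN : N.Normal] [Fintype N]
    (hidx : Odd N.index) (k : ℕ) (hk : Nat.Coprime k (Nat.card G))
    (hk₂ : ∀ g : G, Odd (orderOf g) → g ^ k = g⁻¹)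
    (θ : N → ℂ) (hθ : IsIrrCharacter N θ) (hfix : ∀ n : N, θ (n ^ k) = θ n)
    (hinv : ∀ (g : G) (n : N), θ ⟨g * n * g⁻¹, hN.conj_mem (n : G) n.2 g⟩ = θ n) :
    ∃ ψ : G → ℂ, IsIrrCharacter G ψ ∧ (∀ g : G, ψ (g ^ k) = ψ g) ∧ ∀ n : N, ψ n = θ n := by
  classical
  obtain ⟨Γ, _, _, p, s, ϑ', hp, hker, hps, hsn, hϑ', hϑs⟩ :=
    Cfsg.Agent.helper22.exists_repGroup N θ hθ hinv
  have hsyl : ∀ q : ℕ, q.Prime → ∃ (P : Subgroup G) (hNP : N ≤ P) (η : P → ℂ),
      Nat.Coprime P.index q ∧ (∃ j : ℕ, N.relIndex P = q ^ j) ∧ IsIrrCharacter P η ∧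
        ∀ n : N, η ⟨(n : G), hNP n.2⟩ = θ n := by
    intro q hq
    have : Fact q.Prime := ⟨hq⟩
    obtain ⟨S⟩ : Nonempty (Sylow q (G ⧸ N)) := inferInstance
    obtain ⟨P, hPdef⟩ : ∃ P : Subgroup G,
        P = (S : Subgroup (G ⧸ N)).comap (QuotientGroup.mk' N) := ⟨_, rfl⟩
    have hNP : N ≤ P := by
      intro x hx
      rw [hPdef, Subgroup.mem_comap, QuotientGroup.mk'_apply, (QuotientGroup.eq_one_iff x).2 hx]
      exact (S : Subgroup (G ⧸ N)).one_mem
    have hPidx : P.index = (S : Subgroup (G ⧸ N)).index := by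
      rw [hPdef, Subgroup.index_comap_of_surjective _ (QuotientGroup.mk'_surjective N)]
    have hcop : Nat.Coprime P.index q := by
      rw [hPidx]
      exact ((Nat.Prime.coprime_iff_not_dvd hq).2 S.not_dvd_index).symm
    obtain ⟨j, hj⟩ := IsPGroup.iff_card.1 S.isPGroup'
    have hrel : N.relIndex P = q ^ j := by
      have h1 := Subgroup.relIndex_mul_index hNP
      have h2 := (S : Subgroup (G ⧸ N)).card_mul_index
      rw [← Subgroup.index_eq_card N, ← h1, hPidx, hj] at h2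
      have hpos : 0 < (S : Subgroup (G ⧸ N)).index := by
        have h3 : (S : Subgroup (G ⧸ N)).index ≠ 0 := Subgroup.index_ne_zero_of_finite
        omega
      exact (Nat.eq_of_mul_eq_mul_right hpos h2).symm
    have := Fintype.ofFinite ↥P
    obtain ⟨N', hN'def⟩ : ∃ N' : Subgroup ↥P, N' = N.subgroupOf P := ⟨_, rfl⟩
    have hN'n : N'.Normal := by
      rw [hN'def]
      exact Subgroup.normal_subgroupOf
    have hN'idx : N'.index = q ^ j := by
      rw [hN'def]
      exact hrel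
    have hN'odd : Odd N'.index := by
      rw [hN'idx, ← hrel]
      exact Odd.of_dvd_nat hidx (Dvd.intro _ (Subgroup.relIndex_mul_index hNP))
    have hk' : k.Coprime (Nat.card ↥P) :=
      Nat.Coprime.coprime_dvd_right (Subgroup.card_subgroup_dvd_card P) hk
    have hk₂' : ∀ h : ↥P, Odd (orderOf h) → h ^ k = h⁻¹ := by
      intro h hh
      apply Subtype.ext
      rw [SubmonoidClass.coe_pow, InvMemClass.coe_inv]
      apply hk₂
      rwa [Subgroup.orderOf_coe]
    have hmemN' : ∀ a : ↥P, a ∈ N' ↔ (a : G) ∈ N := by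
      intro a
      rw [hN'def, Subgroup.mem_subgroupOf]
    obtain ⟨ε, hε⟩ : ∃ ε : ↥N' ≃* ↥N, ∀ a : ↥N', ((ε a : N) : G) = ((a : ↥P) : G) := by
      subst hN'def
      exact ⟨Subgroup.subgroupOfEquivOfLe hNP, fun a => rfl⟩
    obtain ⟨θ', hθ'def⟩ : ∃ θ' : ↥N' → ℂ, θ' = fun a => θ (ε a) := ⟨_, rfl⟩
    have hθ'irr : IsIrrCharacter ↥N' θ' := by
      rw [hθ'def]
      exact Cfsg.Agent.helper12.isIrrCharacter_comp_mulEquiv' ε hθ
    have hθ'fix : ∀ a : ↥N', θ' (a ^ k) = θ' a := by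
      intro a
      rw [hθ'def]
      show θ (ε (a ^ k)) = θ (ε a)
      rw [map_pow, hfix]
    have hθ'inv : ∀ (h : ↥P) (a : ↥N'),
        θ' ⟨h * a * h⁻¹, hN'n.conj_mem (a : ↥P) a.2 h⟩ = θ' a := by
      intro h a
      rw [hθ'def]
      show θ (ε ⟨h * a * h⁻¹, hN'n.conj_mem (a : ↥P) a.2 h⟩) = θ (ε a)
      have h1 : ε ⟨h * a * h⁻¹, hN'n.conj_mem (a : ↥P) a.2 h⟩ =
          ⟨(h : G) * ((ε a : N) : G) * (h : G)⁻¹, hN.conj_mem _ (ε a).2 (h : G)⟩ := by
        apply Subtype.ext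
        show ((ε ⟨h * a * h⁻¹, hN'n.conj_mem (a : ↥P) a.2 h⟩ : N) : G) =
          (h : G) * ((ε a : N) : G) * (h : G)⁻¹
        rw [hε, hε]
        rfl
      rw [h1]
      exact hinv (h : G) (ε a)
    obtain ⟨η, hηirr, -, hηext⟩ := exists_fixed_extension_of_prime_pow q j ↥P N' hN'idx hN'odd
      k hk' hk₂' θ' hθ'irr hθ'fix hθ'inv
    refine ⟨P, hNP, η, hcop, ⟨j, hrel⟩, hηirr, ?_⟩
    intro m
    have hmN' : (⟨(m : G), hNP m.2⟩ : ↥P) ∈ N' := by
      rw [hmemN']
      exact m.2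
    have h2 : η ⟨(m : G), hNP m.2⟩ = θ' ⟨⟨(m : G), hNP m.2⟩, hmN'⟩ :=
      hηext ⟨⟨(m : G), hNP m.2⟩, hmN'⟩
    rw [h2, hθ'def]
    show θ (ε ⟨⟨(m : G), hNP m.2⟩, hmN'⟩) = θ m
    congr 1
    apply Subtype.ext
    rw [hε]
  obtain ⟨χ₁, hχ₁irr, hχ₁ext⟩ := Cfsg.Agent.helper22.extends_of_sylow_of_datum N p s ϑ' θ
    hp hker hps hϑ' hϑs hθ hsyl
  exact exists_fixed_extension N hidx k hk (pow_mul_self_mem_of_odd_index N hidx k hk₂) θ hθ hfix
    χ₁ hχ₁irr hχ₁ext

/-- **over a Galois-fixed irreducible character of a normal subgroup of odd index lies exactly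
one Galois-fixed irreducible character, which is an extension when the character is invariant** -/
theorem existsUnique_fixed_over_odd_index (N : Subgroup G) [hN : N.Normal] [Fintype N]
    (hidx : Odd N.index) (k e : ℕ) (hk : Nat.Coprime k (Nat.card G))
    (hke : k ^ (2 ^ e) ≡ 1 [MOD Nat.card G])
    (hk₂ : ∀ g : G, Odd (orderOf g) → g ^ k = g⁻¹) (θ : IrrCharacter N)
    (hθ : ∀ n : N, (θ : N → ℂ) (n ^ k) = (θ : N → ℂ) n) :
    ∃ χ : IrrCharacter G,
      (classInner (fun n : N => (χ : G → ℂ) n) (θ : N → ℂ) ≠ 0 ∧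
        (∀ g : G, (χ : G → ℂ) (g ^ k) = (χ : G → ℂ) g) ∧
        ((∀ g : G, ∀ n : N,
          (θ : N → ℂ) ⟨g * n * g⁻¹, hN.conj_mem n n.2 g⟩ = (θ : N → ℂ) n) →
            ∀ n : N, (χ : G → ℂ) n = (θ : N → ℂ) n)) ∧
      ∀ χ' : IrrCharacter G, classInner (fun n : N => (χ' : G → ℂ) n) (θ : N → ℂ) ≠ 0 →
        (∀ g : G, (χ' : G → ℂ) (g ^ k) = (χ' : G → ℂ) g) → χ' = χ := by
  classical
  obtain ⟨χ, hχfix, hχover⟩ := exists_fixed_over_odd_index N hidx k e hk hke θ hθ
  have hkq := pow_mul_self_mem_of_odd_index N hidx k hk₂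
  have hover : classInner (Cfsg.Agent.helper5.res N (χ : G → ℂ)) (θ : N → ℂ) ≠ 0 := by
    intro h0
    apply hχover
    rw [← classInner_conj_symm]
    show conj (classInner (Cfsg.Agent.helper5.res N (χ : G → ℂ)) (θ : N → ℂ)) = 0
    rw [h0, map_zero]
  have huniq : ∀ χ' : IrrCharacter G,
      classInner (fun n : N => (χ' : G → ℂ) n) (θ : N → ℂ) ≠ 0 →
      (∀ g : G, (χ' : G → ℂ) (g ^ k) = (χ' : G → ℂ) g) → χ' = χ := by
    intro χ' ho' hfix'
    exact unique_fixed_over_odd_index N hidx k hk.symm hkq θ χ' χ hfix' hχfix ho' hover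
  refine ⟨χ, ⟨hover, hχfix, ?_⟩, huniq⟩
  intro hinv
  obtain ⟨ψ, hψirr, hψfix, hψext⟩ :=
    exists_fixed_extension_of_invariant N hidx k hk hk₂ (θ : N → ℂ) θ.2 hθ hinv
  have hψover : classInner (fun n : N => ψ n) (θ : N → ℂ) ≠ 0 := by
    have h1 : (fun n : N => ψ n) = (θ : N → ℂ) := funext hψext
    rw [h1, irr_classInner_self θ.2]
    exact one_ne_zero
  have h2 := huniq ⟨ψ, hψirr⟩ hψover hψfix
  intro n
  rw [← h2]
  exact hψext n

end OddIdxJ

end Cfsg.Agent.helper24
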