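import Mathlib
import Cfsg.Agent.Lib_helper24_BPair37
import Cfsg.Agent.Lib_helper24_CharNormal
import Cfsg.Agent.Lib_helper24_Induced

/-!
Kernels of blocks and normal `p'`-subgroups (helper24), part 1: the indicator function of a normal
subgroup, invariance of kernel membership in blocks, under block induction and under normal
inclusion of Brauer pairs.
-/

set_option autoImplicit false

namespace Cfsg.Agent.helper24

open Cfsg Cfsg.Agent.helper5 Cfsg.Agent.helper8
open scoped ComplexConjugate

universe u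

section IndFn

open Classical in
/-- the indicator function of a subgroup -/
noncomputable def indFn {H : Type u} [Group H] (N : Subgroup H) : H → ℂ :=
  fun h => if h ∈ N then 1 else 0

variable {H : Type u} [Group H]

theorem indFn_of_mem {N : Subgroup H} {h : H} (hh : h ∈ N) : indFn N h = 1 := by
  unfold indFn
  rw [if_pos hh]

theorem indFn_of_not_mem {N : Subgroup H} {h : H} (hh : h ∉ N) : indFn N h = 0 := by
  unfold indFn
  rw [if_neg hh]

theorem indFn_isClassFunction (N : Subgroup H) [N.Normal] : IsClassFunction H (indFn N) := by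
  classical
  exact isClassFunction_indicator_normal N

theorem indFn_memLocalRing {M : Ideal AlgInt} (hMtop : M ≠ ⊤) (N : Subgroup H) (h : H) :
    MemLocalRing M (indFn N h) := by
  by_cases hh : h ∈ N
  · rw [indFn_of_mem hh]
    exact memLocalRing_one hMtop
  · rw [indFn_of_not_mem hh]
    exact memLocalRing_zero hMtop

theorem indFn_conj_of_mem_normalizer {N : Subgroup H} {s : H}
    (hs : s ∈ Subgroup.normalizer (N : Set H)) (x : H) :
    indFn N (s * x * s⁻¹) = indFn N x := by
  have h := Subgroup.mem_normalizer_iff.1 hs x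
  by_cases hx : x ∈ N
  · rw [indFn_of_mem hx, indFn_of_mem (h.1 hx)]
  · rw [indFn_of_not_mem hx, indFn_of_not_mem (fun h' => hx (h.2 h'))]

theorem indFn_subgroupOf (K L : Subgroup H) (y : L) :
    indFn (K.subgroupOf L) y = indFn K (y : H) := by
  by_cases hy : (y : H) ∈ K
  · rw [indFn_of_mem hy, indFn_of_mem (Subgroup.mem_subgroupOf.2 hy)]
  · rw [indFn_of_not_mem hy, indFn_of_not_mem (fun h' => hy (Subgroup.mem_subgroupOf.1 h'))]

variable [Fintype H]

theorem omegaFn_indFn_of_ker {ψ : H → ℂ} (hψ : IsIrrCharacter H ψ) (N : Subgroup H)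
    (hker : ∀ n ∈ N, ψ n = ψ 1) : omegaFn ψ (indFn N) = (Nat.card N : ℂ) := by
  classical
  unfold omegaFn
  have h1 : ∑ h : H, indFn N h * ψ h = ∑ h : H, if h ∈ N then ψ 1 else 0 := by
    refine Finset.sum_congr rfl (fun h _ => ?_)
    by_cases hh : h ∈ N
    · rw [indFn_of_mem hh, if_pos hh, one_mul, hker h hh]
    · rw [indFn_of_not_mem hh, if_neg hh, zero_mul]
  rw [h1, ← Finset.sum_filter, Finset.sum_const, nsmul_eq_mul,
    mul_div_assoc, div_self (irr_apply_one_ne_zero hψ), mul_one]
  congr 1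
  rw [Nat.card_eq_fintype_card, Fintype.card_subtype]

theorem omegaFn_indFn_of_not_ker {ψ : H → ℂ} (hψ : IsIrrCharacter H ψ) (N : Subgroup H)
    [N.Normal] (hker : ¬ ∀ n ∈ N, ψ n = ψ 1) : omegaFn ψ (indFn N) = 0 := by
  classical
  rcases irr_normal_dichotomy hψ N with h0 | h1
  · unfold omegaFn
    have h2 := h0 1
    have h3 : ∑ h : H, indFn N h * ψ h = ∑ h : H, if h ∈ N then ψ (1 * h) else 0 := by
      refine Finset.sum_congr rfl (fun h _ => ?_)
      by_cases hh : h ∈ N
      · rw [indFn_of_mem hh, if_pos hh, one_mul, one_mul]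
      · rw [indFn_of_not_mem hh, if_neg hh, zero_mul]
    rw [h3, h2, zero_div]
  · exact absurd h1 hker

variable {M : Ideal AlgInt} {p : ℕ} [Fact p.Prime]

/-- a normal `p'`-subgroup lies in the kernel of an irreducible character iff the central
character of the subgroup sum is a unit -/
theorem ker_iff_omega (hM : IsPModular p M) {ψ : H → ℂ} (hψ : IsIrrCharacter H ψ) (N : Subgroup H)
    [N.Normal] (hN : ¬ p ∣ Nat.card N) :
    (∀ n ∈ N, ψ n = ψ 1) ↔ ¬ MemLocalIdeal M (omegaFn ψ (indFn N)) := by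
  have hMp : M.IsPrime := hM.2.1.isPrime
  constructor
  · intro hker
    rw [omegaFn_indFn_of_ker hψ N hker]
    exact natCast_not_memLocalIdeal hM hN
  · intro h
    by_contra hker
    rw [omegaFn_indFn_of_not_ker hψ N hker] at h
    exact h (memLocalIdeal_zero hMp.ne_top)

/-- membership of a normal `p'`-subgroup in the kernel is a block invariant -/
theorem ker_block_invariant (hM : IsPModular p M) {ψ ψ' : IrrCharacter H}
    (hs : SameBlock M (ψ : H → ℂ) (ψ' : H → ℂ)) (N : Subgroup H) [N.Normal]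
    (hN : ¬ p ∣ Nat.card N) (hker : ∀ n ∈ N, (ψ : H → ℂ) n = (ψ : H → ℂ) 1) :
    ∀ n ∈ N, (ψ' : H → ℂ) n = (ψ' : H → ℂ) 1 := by
  have hMp : M.IsPrime := hM.2.1.isPrime
  have h1 := omegaFn_sub_memLocalIdeal hs (indFn_isClassFunction N)
    (indFn_memLocalRing hMp.ne_top N)
  rw [ker_iff_omega hM ψ'.2 N hN]
  intro h2
  have h3 := (ker_iff_omega hM ψ.2 N hN).1 hker
  apply h3
  have h4 := memLocalIdeal_add h1 h2
  rwa [sub_add_cancel] at h4

end IndFn

section IndKer

variable {G : Type u} [Group G] [Fintype G] {M : Ideal AlgInt} {p : ℕ} [Fact p.Prime]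

/-- kernel membership of a normal `p'`-subgroup passes through block induction -/
theorem ker_induced_iff (hM : IsPModular p M) (H : Subgroup G) [Fintype H]
    {b : Set (IrrCharacter H)} {B : Set (IrrCharacter G)} (hind : IsInducedBlock M H b B)
    (K : Subgroup G) [K.Normal] (hK : ¬ p ∣ Nat.card K)
    {ξ : IrrCharacter H} (hξ : ξ ∈ b) {χ : IrrCharacter G} (hχ : χ ∈ B) :
    (∀ k ∈ K, (χ : G → ℂ) k = (χ : G → ℂ) 1) ↔
      (∀ h : H, (h : G) ∈ K → (ξ : H → ℂ) h = (ξ : H → ℂ) 1) := by
  have hMp : M.IsPrime := hM.2.1.isPrime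
  have hKH : (K.subgroupOf H).Normal := Subgroup.Normal.subgroupOf inferInstance H
  have hKH' : ¬ p ∣ Nat.card (K.subgroupOf H) := by
    intro hdvd
    apply hK
    have e : Nat.card (K.subgroupOf H) = Nat.card (K ⊓ H : Subgroup G) := by
      rw [← Subgroup.inf_subgroupOf_right]
      exact Nat.card_congr (Subgroup.subgroupOfEquivOfLe inf_le_right).toEquiv
    rw [e] at hdvd
    exact hdvd.trans (Subgroup.card_dvd_of_le inf_le_left)
  have h1 := induced_omegaFn_sub H hind hξ hχ (indFn_isClassFunction K)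
    (indFn_memLocalRing hMp.ne_top K)
  have h2 : (fun h : H => indFn K (h : G)) = indFn (K.subgroupOf H) := by
    funext h
    rw [indFn_subgroupOf]
  rw [h2] at h1
  rw [ker_iff_omega hM χ.2 K hK]
  have h3 := ker_iff_omega hM ξ.2 (K.subgroupOf H) hKH'
  have h4 : (∀ h : H, (h : G) ∈ K → (ξ : H → ℂ) h = (ξ : H → ℂ) 1) ↔
      (∀ n ∈ K.subgroupOf H, (ξ : H → ℂ) n = (ξ : H → ℂ) 1) := by
    constructor
    · intro h n hn
      exact h n (Subgroup.mem_subgroupOf.1 hn)
    · intro h n hn
      exact h n (Subgroup.mem_subgroupOf.2 hn)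
  rw [h4, h3]
  constructor
  · intro h5 h6
    apply h5
    have h7 := memLocalIdeal_sub h6 h1
    rwa [sub_sub_cancel] at h7
  · intro h5 h6
    apply h5
    have h7 := memLocalIdeal_add h1 h6
    rwa [sub_add_cancel] at h7

end IndKer

end Cfsg.Agent.helper24
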