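import Mathlib
import Cfsg.Agent.Lib_helper24_PiKer1

/-!
Kernels of blocks and normal `p'`-subgroups (helper24), part 2: block induction between subgroups
of the ambient group, and the step along a normal inclusion of Brauer pairs.
-/

set_option autoImplicit false

namespace Cfsg.Agent.helper24

open Cfsg Cfsg.Agent.helper5 Cfsg.Agent.helper8
open scoped ComplexConjugate

universe u

section IndKerSub

variable {G : Type u} [Group G] [Fintype G] {M : Ideal AlgInt} {p : ℕ} [Fact p.Prime]

/-- kernel membership through an induction between two subgroups of the ambient group -/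
theorem ker_induced_iff_sub (hM : IsPModular p M) {Y H : Subgroup G} (hYH : Y ≤ H)
    {f : Set (IrrCharacter Y)} {β : Set (IrrCharacter H)}
    (hind : IsInducedBlock M (Y.subgroupOf H)
      (transportSet (Subgroup.subgroupOfEquivOfLe hYH) f) β)
    (K : Subgroup G) (hHK : H ≤ Subgroup.normalizer (K : Set G)) (hK : ¬ p ∣ Nat.card K)
    {ξ : IrrCharacter Y} (hξ : ξ ∈ f) {χ : IrrCharacter H} (hχ : χ ∈ β) :
    (∀ h : H, (h : G) ∈ K → (χ : H → ℂ) h = (χ : H → ℂ) 1) ↔
      (∀ y : Y, (y : G) ∈ K → (ξ : Y → ℂ) y = (ξ : Y → ℂ) 1) := by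
  classical
  have := Fintype.ofFinite ↥H
  have := Fintype.ofFinite ↥(Y.subgroupOf H)
  have hKn : (K.subgroupOf H).Normal := Subgroup.normal_subgroupOf_of_le_normalizer hHK
  have hK' : ¬ p ∣ Nat.card (K.subgroupOf H) := by
    intro hdvd
    apply hK
    have e : Nat.card (K.subgroupOf H) = Nat.card (K ⊓ H : Subgroup G) := by
      rw [← Subgroup.inf_subgroupOf_right]
      exact Nat.card_congr (Subgroup.subgroupOfEquivOfLe inf_le_right).toEquiv
    rw [e] at hdvd
    exact hdvd.trans (Subgroup.card_dvd_of_le inf_le_left)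
  have hξ' : irrTransport (Subgroup.subgroupOfEquivOfLe hYH) ξ ∈
      transportSet (Subgroup.subgroupOfEquivOfLe hYH) f :=
    (mem_transportSet_iff _ f ξ).2 hξ
  have h1 := ker_induced_iff hM (Y.subgroupOf H) hind (K.subgroupOf H) hK' hξ' hχ
  constructor
  · intro h y hy
    have hy' : (((Subgroup.subgroupOfEquivOfLe hYH).symm y : ↥(Y.subgroupOf H)) : ↥H)
        ∈ K.subgroupOf H := by
      rw [Subgroup.mem_subgroupOf]
      exact hy
    have h2 := h1.1 (fun k hk => h k (Subgroup.mem_subgroupOf.1 hk))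
      ((Subgroup.subgroupOfEquivOfLe hYH).symm y) hy'
    rw [irrTransport_apply, irrTransport_apply, MulEquiv.apply_symm_apply, map_one] at h2
    exact h2
  · intro h k hk
    apply h1.2 _ k (Subgroup.mem_subgroupOf.2 hk)
    intro y' hy'
    rw [irrTransport_apply, irrTransport_apply, map_one]
    apply h
    exact Subgroup.mem_subgroupOf.1 hy'

end IndKerSub

section StepKer

variable {G : Type u} [Group G] [Fintype G] {M : Ideal AlgInt} {p : ℕ} [Fact p.Prime]

omit [Fintype G] in
theorem extZ_smul24 (K : Subgroup G) (c : ℂ) (a : K → ℂ) : extZ K (c • a) = c • extZ K a := by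
  funext g
  by_cases hg : g ∈ K
  · rw [extZ_of_mem K _ hg, Pi.smul_apply, Pi.smul_apply, extZ_of_mem K _ hg]
  · rw [extZ_of_not_mem K _ hg, Pi.smul_apply, extZ_of_not_mem K _ hg, smul_zero]

omit [Fintype G] in
theorem extZ_zero24 (K : Subgroup G) : extZ K (0 : K → ℂ) = 0 := by
  funext g
  by_cases hg : g ∈ K
  · rw [extZ_of_mem K _ hg]
    rfl
  · rw [extZ_of_not_mem K _ hg]
    rfl

omit [Fintype G] in
theorem indFn_eq_extZ {Y K : Subgroup G} (hYK : Y ≤ K) :
    indFn Y = extZ K (indFn (Y.subgroupOf K)) := by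
  funext g
  by_cases hg : g ∈ K
  · rw [extZ_of_mem K _ hg, indFn_subgroupOf]
  · rw [extZ_of_not_mem K _ hg, indFn_of_not_mem (fun h => hg (hYK h))]

set_option maxHeartbeats 1600000 in
/-- along a normal inclusion of Brauer pairs `(Q, f) ≤ (R, e)`, a `p'`-subgroup `Y` of `C(Q)`
normalized by `C(Q)` and `R` lies in the kernel of `f` iff `C_Y(R)` lies in the kernel of `e` -/
theorem step_ker (hM : IsPModular p M) {Q R : Subgroup G}
    {f : Set (IrrCharacter (Subgroup.centralizer (Q : Set G)))}
    {e : Set (IrrCharacter (Subgroup.centralizer (R : Set G)))}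
    (hn : IsNormalSubpair p M Q f R e) (Y : Subgroup G)
    (hYK : Y ≤ Subgroup.centralizer (Q : Set G))
    (hKY : Subgroup.centralizer (Q : Set G) ≤ Subgroup.normalizer (Y : Set G))
    (hRY : R ≤ Subgroup.normalizer (Y : Set G)) (hYp : ¬ p ∣ Nat.card Y)
    {ψ : IrrCharacter (Subgroup.centralizer (Q : Set G))} (hψ : ψ ∈ f)
    {ξ : IrrCharacter (Subgroup.centralizer (R : Set G))} (hξ : ξ ∈ e) :
    (∀ k : ↥(Subgroup.centralizer (Q : Set G)), (k : G) ∈ Y →
        (ψ : ↥(Subgroup.centralizer (Q : Set G)) → ℂ) k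
          = (ψ : ↥(Subgroup.centralizer (Q : Set G)) → ℂ) 1) ↔
      (∀ c : ↥(Subgroup.centralizer (R : Set G)), (c : G) ∈ Y →
        (ξ : ↥(Subgroup.centralizer (R : Set G)) → ℂ) c
          = (ξ : ↥(Subgroup.centralizer (R : Set G)) → ℂ) 1) := by
  classical
  have hMp : M.IsPrime := hM.2.1.isPrime
  have hMtop := hMp.ne_top
  have := Fintype.ofFinite ↥(Subgroup.centralizer (Q : Set G))
  have := Fintype.ofFinite ↥(Subgroup.centralizer (R : Set G))
  obtain ⟨hQf, hRe, hQR, hRN, hst, hbr⟩ := hn
  have hf : IsPBlock M f := hQf.2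
  have hRp : IsPGroup p R := hRe.1
  have hCK : Subgroup.centralizer (R : Set G) ≤ Subgroup.centralizer (Q : Set G) :=
    Subgroup.centralizer_le hQR
  -- the two functions
  obtain ⟨u, hu_def⟩ : ∃ u : G → ℂ,
    u = subgroupBlockCoeff (Subgroup.centralizer (Q : Set G)) f := ⟨_, rfl⟩
  have hu : BrGood M R u := by
    rw [hu_def]
    exact brGood_sbc hCK hf hst
  have hv : BrGood M R (indFn Y) := by
    refine ⟨?_, ?_, indFn_memLocalRing hMtop Y⟩
    · intro s hs x
      exact indFn_conj_of_mem_normalizer (hRY hs) x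
    · intro s hs x
      exact indFn_conj_of_mem_normalizer (hKY (hCK hs)) x
  have hmul := brOmega_mul hM hRp ξ hu hv
  have hone : MemLocalIdeal M (brOmega R (Subgroup.centralizer (R : Set G))
      (ξ : ↥(Subgroup.centralizer (R : Set G)) → ℂ) u - 1) := by
    have h := hbr ξ hξ
    rw [brauerOmega_eq] at h
    rw [hu_def]
    exact h
  have huR := brOmega_memLocalRing ξ hu
  -- the value on the indicator
  have hYCn : (Y.subgroupOf (Subgroup.centralizer (R : Set G))).Normal :=
    Subgroup.normal_subgroupOf_of_le_normalizer (hCK.trans hKY)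
  have hYKn : (Y.subgroupOf (Subgroup.centralizer (Q : Set G))).Normal :=
    Subgroup.normal_subgroupOf_of_le_normalizer hKY
  have hvval : brOmega R (Subgroup.centralizer (R : Set G))
      (ξ : ↥(Subgroup.centralizer (R : Set G)) → ℂ) (indFn Y)
      = omegaFn (ξ : ↥(Subgroup.centralizer (R : Set G)) → ℂ)
        (indFn (Y.subgroupOf (Subgroup.centralizer (R : Set G)))) := by
    unfold brOmega
    congr 1
    funext h
    unfold brRes
    rw [if_pos h.2, indFn_subgroupOf]
  have hcardC : ¬ p ∣ Nat.card (Y.subgroupOf (Subgroup.centralizer (R : Set G))) := by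
    intro hdvd
    apply hYp
    have e1 : Nat.card (Y.subgroupOf (Subgroup.centralizer (R : Set G)))
        = Nat.card (Y ⊓ Subgroup.centralizer (R : Set G) : Subgroup G) := by
      rw [← Subgroup.inf_subgroupOf_right]
      exact Nat.card_congr (Subgroup.subgroupOfEquivOfLe inf_le_right).toEquiv
    rw [e1] at hdvd
    exact hdvd.trans (Subgroup.card_dvd_of_le inf_le_left)
  have hcardK : Nat.card (Y.subgroupOf (Subgroup.centralizer (Q : Set G))) = Nat.card Y :=
    Nat.card_congr (Subgroup.subgroupOfEquivOfLe hYK).toEquiv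
  -- the convolution inside `C(Q)`
  have hconv : cconv u (indFn Y) = extZ (Subgroup.centralizer (Q : Set G))
      (cconv (blockCoeff f) (indFn (Y.subgroupOf (Subgroup.centralizer (Q : Set G))))) := by
    rw [hu_def, sbc_eq_extZ, indFn_eq_extZ hYK, ← extZ_cconv]
  have hw_cf : IsClassFunction ↥(Subgroup.centralizer (Q : Set G))
      (cconv (blockCoeff f) (indFn (Y.subgroupOf (Subgroup.centralizer (Q : Set G))))) :=
    cconv_isClassFunction (blockCoeff_isClassFunction f) (indFn_isClassFunction _)
  have hrest : ∀ (φ : IrrCharacter (Subgroup.centralizer (Q : Set G))),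
      (∀ n ∈ Y.subgroupOf (Subgroup.centralizer (Q : Set G)),
        (φ : ↥(Subgroup.centralizer (Q : Set G)) → ℂ) n
          = (φ : ↥(Subgroup.centralizer (Q : Set G)) → ℂ) 1) ↔
      (∀ k : ↥(Subgroup.centralizer (Q : Set G)), (k : G) ∈ Y →
        (φ : ↥(Subgroup.centralizer (Q : Set G)) → ℂ) k
          = (φ : ↥(Subgroup.centralizer (Q : Set G)) → ℂ) 1) := by
    intro φ
    constructor
    · intro h k hk
      exact h k (Subgroup.mem_subgroupOf.2 hk)
    · intro h n hn
      exact h n (Subgroup.mem_subgroupOf.1 hn)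
  have hrestC : (∀ n ∈ Y.subgroupOf (Subgroup.centralizer (R : Set G)),
        (ξ : ↥(Subgroup.centralizer (R : Set G)) → ℂ) n
          = (ξ : ↥(Subgroup.centralizer (R : Set G)) → ℂ) 1) ↔
      (∀ c : ↥(Subgroup.centralizer (R : Set G)), (c : G) ∈ Y →
        (ξ : ↥(Subgroup.centralizer (R : Set G)) → ℂ) c
          = (ξ : ↥(Subgroup.centralizer (R : Set G)) → ℂ) 1) := by
    constructor
    · intro h k hk
      exact h k (Subgroup.mem_subgroupOf.2 hk)
    · intro h n hn
      exact h n (Subgroup.mem_subgroupOf.1 hn)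
  have hcardK' : ¬ p ∣ Nat.card (Y.subgroupOf (Subgroup.centralizer (Q : Set G))) := by
    rw [hcardK]
    exact hYp
  rw [← hrest ψ, ← hrestC]
  constructor
  · -- case A
    intro hker
    by_contra hnot
    have hall : ∀ φ ∈ f, ∀ n ∈ Y.subgroupOf (Subgroup.centralizer (Q : Set G)),
        (φ : ↥(Subgroup.centralizer (Q : Set G)) → ℂ) n
          = (φ : ↥(Subgroup.centralizer (Q : Set G)) → ℂ) 1 := by
      intro φ hφ
      have hs : SameBlock M (ψ : ↥(Subgroup.centralizer (Q : Set G)) → ℂ)
          (φ : ↥(Subgroup.centralizer (Q : Set G)) → ℂ) := by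
        have h1 : φ ∈ blockOf M (ψ : ↥(Subgroup.centralizer (Q : Set G)) → ℂ) := by
          rw [blockOf_eq_of_mem hf hψ]
          exact hφ
        exact h1
      exact ker_block_invariant hM hs _ hcardK' hker
    have hw : cconv (blockCoeff f) (indFn (Y.subgroupOf (Subgroup.centralizer (Q : Set G))))
        = (Nat.card Y : ℂ) • blockCoeff f := by
      apply classFunction_ext_omega hw_cf
      · intro g k
        rw [Pi.smul_apply, Pi.smul_apply, blockCoeff_isClassFunction f g k]
      · intro φ
        rw [omegaFn_cconv φ.2 _ (indFn_isClassFunction _), omegaFn_smul, omegaFn_blockCoeff]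
        by_cases hφ : φ ∈ f
        · rw [if_pos hφ, omegaFn_indFn_of_ker φ.2 _ (hall φ hφ), hcardK, one_mul, mul_one]
        · rw [if_neg hφ, zero_mul, mul_zero]
    have h0 : omegaFn (ξ : ↥(Subgroup.centralizer (R : Set G)) → ℂ)
        (indFn (Y.subgroupOf (Subgroup.centralizer (R : Set G)))) = 0 :=
      omegaFn_indFn_of_not_ker ξ.2 _ hnot
    rw [hvval, h0, mul_zero, sub_zero, hconv, hw, extZ_smul24, ← sbc_eq_extZ, ← hu_def] at hmul
    have h1 : brOmega R (Subgroup.centralizer (R : Set G))
        (ξ : ↥(Subgroup.centralizer (R : Set G)) → ℂ) ((Nat.card Y : ℂ) • u)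
        = (Nat.card Y : ℂ) * brOmega R (Subgroup.centralizer (R : Set G))
          (ξ : ↥(Subgroup.centralizer (R : Set G)) → ℂ) u := by
      unfold brOmega
      rw [brRes_smul, omegaFn_smul]
    rw [h1] at hmul
    have h2 := memLocalIdeal_mul_integral hone (isIntegral_natCast (Nat.card Y))
    have h3 := memLocalIdeal_sub hmul h2
    have e3 : (Nat.card Y : ℂ) * brOmega R (Subgroup.centralizer (R : Set G))
        (ξ : ↥(Subgroup.centralizer (R : Set G)) → ℂ) u
        - (Nat.card Y : ℂ) * (brOmega R (Subgroup.centralizer (R : Set G))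
          (ξ : ↥(Subgroup.centralizer (R : Set G)) → ℂ) u - 1) = (Nat.card Y : ℂ) := by ring
    rw [e3] at h3
    exact natCast_not_memLocalIdeal hM hYp h3
  · -- case B
    intro hker
    by_contra hnot
    have hnone : ∀ φ ∈ f, ¬ ∀ n ∈ Y.subgroupOf (Subgroup.centralizer (Q : Set G)),
        (φ : ↥(Subgroup.centralizer (Q : Set G)) → ℂ) n
          = (φ : ↥(Subgroup.centralizer (Q : Set G)) → ℂ) 1 := by
      intro φ hφ hcon
      apply hnot
      have hs : SameBlock M (φ : ↥(Subgroup.centralizer (Q : Set G)) → ℂ)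
          (ψ : ↥(Subgroup.centralizer (Q : Set G)) → ℂ) := by
        have h1 : ψ ∈ blockOf M (φ : ↥(Subgroup.centralizer (Q : Set G)) → ℂ) := by
          rw [blockOf_eq_of_mem hf hφ]
          exact hψ
        exact h1
      exact ker_block_invariant hM hs _ hcardK' hcon
    have hw : cconv (blockCoeff f) (indFn (Y.subgroupOf (Subgroup.centralizer (Q : Set G))))
        = 0 := by
      apply classFunction_ext_omega hw_cf
      · intro g k
        rfl
      · intro φ
        rw [omegaFn_cconv φ.2 _ (indFn_isClassFunction _), omegaFn_zero, omegaFn_blockCoeff]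
        by_cases hφ : φ ∈ f
        · rw [if_pos hφ, omegaFn_indFn_of_not_ker φ.2 _ (hnone φ hφ), mul_zero]
        · rw [if_neg hφ, zero_mul]
    have hm : omegaFn (ξ : ↥(Subgroup.centralizer (R : Set G)) → ℂ)
        (indFn (Y.subgroupOf (Subgroup.centralizer (R : Set G))))
        = (Nat.card (Y.subgroupOf (Subgroup.centralizer (R : Set G))) : ℂ) :=
      omegaFn_indFn_of_ker ξ.2 _ hker
    rw [hvval, hm, hconv, hw, extZ_zero24, brOmega_zero, zero_sub] at hmul
    have hmul' := memLocalIdeal_neg hmul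
    rw [neg_neg] at hmul'
    have h2 := memLocalIdeal_mul_integral hone
      (isIntegral_natCast (Nat.card (Y.subgroupOf (Subgroup.centralizer (R : Set G)))))
    have h3 := memLocalIdeal_sub hmul' h2
    have e3 : brOmega R (Subgroup.centralizer (R : Set G))
        (ξ : ↥(Subgroup.centralizer (R : Set G)) → ℂ) u
          * (Nat.card (Y.subgroupOf (Subgroup.centralizer (R : Set G))) : ℂ)
        - (Nat.card (Y.subgroupOf (Subgroup.centralizer (R : Set G))) : ℂ)
          * (brOmega R (Subgroup.centralizer (R : Set G))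
            (ξ : ↥(Subgroup.centralizer (R : Set G)) → ℂ) u - 1)
        = (Nat.card (Y.subgroupOf (Subgroup.centralizer (R : Set G))) : ℂ) := by ring
    rw [e3] at h3
    exact natCast_not_memLocalIdeal hM hcardC h3

end StepKer

end Cfsg.Agent.helper24
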