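import Mathlib
import Cfsg.Agent.Lib_helper24_PiKer2
import Cfsg.Agent.Lib_helper7_Cores
import Cfsg.Agent.Lib_helper1_PrincFusion

/-!
Kernels of blocks and normal `p'`-subgroups (helper24), part 3: the `π'`-core of the centralizer
along chains of Brauer pairs and under conjugation.
-/

set_option autoImplicit false

namespace Cfsg.Agent.helper24

open Cfsg Cfsg.Agent.helper5 Cfsg.Agent.helper8
open scoped ComplexConjugate

universe u

section CoreC

variable {G : Type u} [Group G]

/-- the `π`-core of the centralizer of `Q`, as a subgroup of the ambient group -/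
def coreC (π : Set ℕ) (Q : Subgroup G) : Subgroup G :=
  helper7.piCoreIn π (Subgroup.centralizer (Q : Set G))

theorem coreC_le (π : Set ℕ) (Q : Subgroup G) : coreC π Q ≤ Subgroup.centralizer (Q : Set G) :=
  helper7.piCoreIn_le π _

theorem cent_le_normalizer_coreC (π : Set ℕ) (Q : Subgroup G) :
    Subgroup.centralizer (Q : Set G) ≤ Subgroup.normalizer ((coreC π Q : Subgroup G) : Set G) :=
  helper7.piCoreIn_normal π _

theorem normalizer_le_normalizer_coreC (π : Set ℕ) (Q : Subgroup G) :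
    Subgroup.normalizer (Q : Set G) ≤ Subgroup.normalizer ((coreC π Q : Subgroup G) : Set G) := by
  intro g hg
  exact helper7.normalizer_le_normalizer_radOf (fun g _ h => h.conj g) _
    (helper1.normalizer_le_normalizer_centralizer Q hg)

theorem coreC_piGrp [Finite G] (π : Set ℕ) (Q : Subgroup G) : helper7.PiGrp π (coreC π Q) :=
  helper7.piCoreIn_piGrp π _

theorem le_coreC {π : Set ℕ} {Q N : Subgroup G} (h1 : N ≤ Subgroup.centralizer (Q : Set G))
    (h2 : Subgroup.centralizer (Q : Set G) ≤ Subgroup.normalizer (N : Set G))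
    (h3 : helper7.PiGrp π N) : N ≤ coreC π Q :=
  helper7.le_radOf h1 h2 h3

theorem coreC_conj (π : Set ℕ) (Q : Subgroup G) (x : G) :
    helper7.cj x (coreC π Q) = coreC π (Q.map (MulAut.conj x).toMonoidHom) := by
  unfold coreC helper7.piCoreIn
  rw [helper7.cj_radOf (fun g _ h => h.conj g), helper7.cj_centralizer]

theorem coreC_not_dvd [Finite G] {p : ℕ} [hp : Fact p.Prime] {π : Set ℕ} (hpπ : p ∈ π)
    (Q : Subgroup G) : ¬ p ∣ Nat.card (coreC {q | q ∉ π} Q) := by
  intro hdvd
  exact (helper7.piGrp_iff_card.1 (coreC_piGrp {q | q ∉ π} Q)) p hp.out hdvd hpπ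

/-- the part of the core of `C(Q)` centralizing `R ≥ Q` lies in the core of `C(R)` -/
theorem coreC_inf_le [Finite G] (π : Set ℕ) {Q R : Subgroup G} (hQR : Q ≤ R) :
    coreC π Q ⊓ Subgroup.centralizer (R : Set G) ≤ coreC π R := by
  have hCK : Subgroup.centralizer (R : Set G) ≤ Subgroup.centralizer (Q : Set G) :=
    Subgroup.centralizer_le hQR
  apply le_coreC inf_le_right
  · intro x hx
    apply Subgroup.inf_normalizer_le_normalizer_inf
    exact ⟨cent_le_normalizer_coreC π Q (hCK hx), Subgroup.le_normalizer hx⟩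
  · exact (coreC_piGrp π Q).mono inf_le_left

end CoreC

section Chain

variable {G : Type u} [Group G] [Fintype G] {M : Ideal AlgInt} {p : ℕ} [Fact p.Prime]

/-- the `π'`-core of the centralizer lies in the kernel of the block of the pair -/
def PairKer (π : Set ℕ) (a : BrauerPairIdx G) : Prop :=
  ∀ x : ↥(Subgroup.centralizer (a.1 : Set G)), (x : G) ∈ coreC {q | q ∉ π} a.1 → x ∈ blockKer a.2

/-- the `π'`-core of the centralizer contains all `π'`-elements of the centralizer -/
def HallCent (π : Set ℕ) (Q : Subgroup G) : Prop :=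
  ∀ x ∈ Subgroup.centralizer (Q : Set G), (∀ q : ℕ, q.Prime → q ∣ orderOf x → q ∉ π) →
    x ∈ coreC {q | q ∉ π} Q

theorem pairKer_down_step (hM : IsPModular p M) {π : Set ℕ} (hpπ : p ∈ π)
    {a b : BrauerPairIdx G} (hn : NormalSubpairRel p M a b) (hb : PairKer π b) :
    PairKer π a := by
  obtain ⟨Q, f⟩ := a
  obtain ⟨R, e⟩ := b
  have hn' : IsNormalSubpair p M Q f R e := hn
  have hQR : Q ≤ R := hn'.2.2.1
  have hRN : R ≤ Subgroup.normalizer (Q : Set G) := hn'.2.2.2.1
  have hMp : M.IsPrime := hM.2.1.isPrime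
  have := Fintype.ofFinite ↥(Subgroup.centralizer (R : Set G))
  obtain ⟨ξ, hξ⟩ := isPBlock_nonempty hn'.2.1.2
  intro x hx ψ hψ
  have h1 := step_ker hM hn' (coreC {q | q ∉ π} Q) (coreC_le _ Q)
    (cent_le_normalizer_coreC _ Q) (hRN.trans (normalizer_le_normalizer_coreC _ Q))
    (coreC_not_dvd hpπ Q) hψ hξ
  apply h1.2 _ x hx
  intro c hc
  exact hb c (coreC_inf_le _ hQR ⟨hc, c.2⟩) ξ hξ

theorem pairKer_up_step (hM : IsPModular p M) {π : Set ℕ} (hpπ : p ∈ π)
    {a b : BrauerPairIdx G} (hn : NormalSubpairRel p M a b)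
    (ha : HallCent π a.1 ∧ PairKer π a) : HallCent π b.1 ∧ PairKer π b := by
  obtain ⟨Q, f⟩ := a
  obtain ⟨R, e⟩ := b
  have hn' : IsNormalSubpair p M Q f R e := hn
  have hQR : Q ≤ R := hn'.2.2.1
  have hRN : R ≤ Subgroup.normalizer (Q : Set G) := hn'.2.2.2.1
  have hCK : Subgroup.centralizer (R : Set G) ≤ Subgroup.centralizer (Q : Set G) :=
    Subgroup.centralizer_le hQR
  obtain ⟨hHall, hker⟩ := ha
  have hHall' : HallCent π Q := hHall
  have hMp : M.IsPrime := hM.2.1.isPrime
  have := Fintype.ofFinite ↥(Subgroup.centralizer (Q : Set G))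
  obtain ⟨ψ, hψ⟩ := isPBlock_nonempty hn'.1.2
  refine ⟨?_, ?_⟩
  · intro x hx hord
    exact coreC_inf_le _ hQR ⟨hHall' x (hCK hx) hord, hx⟩
  · intro c hc ξ hξ
    have h1 := step_ker hM hn' (coreC {q | q ∉ π} Q) (coreC_le _ Q)
      (cent_le_normalizer_coreC _ Q) (hRN.trans (normalizer_le_normalizer_coreC _ Q))
      (coreC_not_dvd hpπ Q) hψ hξ
    apply h1.1 _ c
    · apply hHall' (c : G) (hCK c.2)
      intro q hq hdvd
      exact coreC_piGrp {q | q ∉ π} R (c : G) hc q hq hdvd
    · intro k hk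
      exact hker k hk ψ hψ

theorem pairKer_down (hM : IsPModular p M) {π : Set ℕ} (hpπ : p ∈ π)
    {a b : BrauerPairIdx G} (h : Relation.ReflTransGen (NormalSubpairRel p M) a b)
    (hb : PairKer π b) : PairKer π a := by
  induction h with
  | refl => exact hb
  | tail _ hstep ih => exact ih (pairKer_down_step hM hpπ hstep hb)

theorem pairKer_up (hM : IsPModular p M) {π : Set ℕ} (hpπ : p ∈ π)
    {a b : BrauerPairIdx G} (h : Relation.ReflTransGen (NormalSubpairRel p M) a b)
    (ha : HallCent π a.1 ∧ PairKer π a) : HallCent π b.1 ∧ PairKer π b := by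
  induction h with
  | refl => exact ha
  | tail _ hstep ih => exact pairKer_up_step hM hpπ hstep ih

omit [Fintype G] in
theorem hallCent_conj [Finite G] {π : Set ℕ} {Q : Subgroup G} (h : HallCent π Q) (x : G) :
    HallCent π (Q.map (MulAut.conj x).toMonoidHom) := by
  intro y hy hord
  rw [← coreC_conj, helper7.mem_cj]
  have hy' : y ∈ helper7.cj x (Subgroup.centralizer (Q : Set G)) := by
    rw [helper7.cj_centralizer]
    exact hy
  rw [helper7.mem_cj] at hy'
  apply h _ hy'
  intro q hq hdvd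
  apply hord q hq
  have e : orderOf (x⁻¹ * y * x) = orderOf y := by
    have := orderOf_injective (MulAut.conj x⁻¹).toMonoidHom (MulAut.conj x⁻¹).injective y
    simpa using this
  rwa [e] at hdvd

omit [Fintype G] in
theorem pairKer_conj [Finite G] {π : Set ℕ} {a : BrauerPairIdx G} (h : PairKer π a) (x : G) :
    PairKer π (cjPair x a) := by
  obtain ⟨Q, f⟩ := a
  intro x' hx' ξ' hξ'
  obtain ⟨ξ, hξ, hrel⟩ := hξ'
  have h1 : (x' : G) ∈ helper7.cj x (Subgroup.centralizer (Q : Set G)) := by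
    rw [helper7.cj_centralizer]
    exact x'.2
  rw [helper7.mem_cj] at h1
  have h2 : (x' : G) ∈ helper7.cj x (coreC {q | q ∉ π} Q) := by
    rw [coreC_conj]
    exact hx'
  rw [helper7.mem_cj] at h2
  have h3 := h ⟨x⁻¹ * (x' : G) * x, h1⟩ h2 ξ hξ
  have h4 := hrel ⟨x⁻¹ * (x' : G) * x, h1⟩ x' (by
    show (x' : G) = x * (x⁻¹ * (x' : G) * x) * x⁻¹
    group)
  have h5 := hrel 1 1 (by
    show ((1 : ↥(Subgroup.centralizer ((Q.map (MulAut.conj x).toMonoidHom : Subgroup G) : Set G))) : G)
      = x * ((1 : ↥(Subgroup.centralizer (Q : Set G))) : G) * x⁻¹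
    simp)
  exact h4.trans (h3.trans h5.symm)

end Chain

end Cfsg.Agent.helper24
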