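import Mathlib
import Cfsg.Agent.Lib_helper24_PiKer3
import Cfsg.Agent.Lib_helper1_IndCent
import Cfsg.Agent.Lib_helper23_Tr1

/-!
Kernels of blocks and normal `p'`-subgroups (helper24), part 4: roots in centralizers of defect
groups and the top pair attached to a Brauer correspondent.
-/

set_option autoImplicit false

namespace Cfsg.Agent.helper24

open Cfsg Cfsg.Agent.helper5 Cfsg.Agent.helper8
open scoped ComplexConjugate

universe u

section Root

variable {X : Type u} [Group X] [Fintype X] {M : Ideal AlgInt} {p : ℕ} [Fact p.Prime]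

set_option maxHeartbeats 1600000 in
/-- a block with defect group `P` is induced from a block of `C(P)` -/
theorem exists_cent_root (hM : IsPModular p M) (B : Set (IrrCharacter X)) (hB : IsPBlock M B)
    (P : Subgroup X) (hP : IsDefectGroup p M B P) :
    ∃ f : Set (IrrCharacter ↥(Subgroup.centralizer (P : Set X))),
      IsInducedBlock M (Subgroup.centralizer (P : Set X)) f B := by
  classical
  have hMp : M.IsPrime := hM.2.1.isPrime
  have hMtop : M ≠ ⊤ := hMp.ne_top
  have hPp : IsPGroup p P := defectGroup_isPGroup p M B P hP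
  obtain ⟨L, hL⟩ : ∃ L : Subgroup X, L = P ⊔ Subgroup.centralizer (P : Set X) := ⟨_, rfl⟩
  have hPL : P ≤ L := by rw [hL]; exact le_sup_left
  have hCL : Subgroup.centralizer (P : Set X) ≤ L := by rw [hL]; exact le_sup_right
  have hLN : L ≤ Subgroup.normalizer (P : Set X) := by
    rw [hL]
    exact sup_centralizer_le_normalizer P
  have := Fintype.ofFinite ↥L
  have := Fintype.ofFinite ↥(Subgroup.centralizer (P : Set X))
  obtain ⟨b, hbD, hbind⟩ := helper1.ext_first_main_exists_eq p M hM B hB P hP L hL
  have hb : IsPBlock M b := hbind.1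
  have hQn : (P.subgroupOf L).Normal := Subgroup.normal_subgroupOf_of_le_normalizer hLN
  have hLNC : L ≤ Subgroup.normalizer
      ((Subgroup.centralizer (P : Set X) : Subgroup X) : Set X) :=
    fun x hx => helper1.normalizer_le_normalizer_centralizer P (hLN hx)
  have hYn : ((Subgroup.centralizer (P : Set X)).subgroupOf L).Normal :=
    Subgroup.normal_subgroupOf_of_le_normalizer hLNC
  have := Fintype.ofFinite ↥((Subgroup.centralizer (P : Set X)).subgroupOf L)
  have hCY : Subgroup.centralizer ((P.subgroupOf L : Subgroup ↥L) : Set ↥L) ≤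
      (Subgroup.centralizer (P : Set X)).subgroupOf L := by
    rw [centralizer_subgroupOf_eq hPL]
  have hinn : ∀ (g : ↥L) (θ : IrrCharacter ↥((Subgroup.centralizer (P : Set X)).subgroupOf L))
      (n : ↥((Subgroup.centralizer (P : Set X)).subgroupOf L)),
      (θ : ↥((Subgroup.centralizer (P : Set X)).subgroupOf L) → ℂ)
        ⟨g * n * g⁻¹, hYn.conj_mem n n.2 g⟩
      = (θ : ↥((Subgroup.centralizer (P : Set X)).subgroupOf L) → ℂ) n := by
    intro g θ n
    obtain ⟨q, hq, c, hc, hqc⟩ := qc_decomp P (g : X) (by rw [← hL]; exact g.2)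
    have hcf := char_isClassFunction (irr_isCharacter θ.2)
    have hy : (⟨c, hCL hc⟩ : ↥L) ∈ (Subgroup.centralizer (P : Set X)).subgroupOf L :=
      Subgroup.mem_subgroupOf.2 hc
    have hn : ((n : ↥L) : X) ∈ Subgroup.centralizer (P : Set X) := Subgroup.mem_subgroupOf.1 n.2
    have hz : c * ((n : ↥L) : X) * c⁻¹ ∈ Subgroup.centralizer (P : Set X) :=
      mul_mem (mul_mem hc hn) (inv_mem hc)
    have hqz := Subgroup.mem_centralizer_iff.1 hz q hq
    have key : (⟨g * n * g⁻¹, hYn.conj_mem n n.2 g⟩ :
        ↥((Subgroup.centralizer (P : Set X)).subgroupOf L))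
        = ⟨⟨c, hCL hc⟩, hy⟩ * n * ⟨⟨c, hCL hc⟩, hy⟩⁻¹ := by
      apply Subtype.ext
      apply Subtype.ext
      show (g : X) * ((n : ↥L) : X) * (g : X)⁻¹ = c * ((n : ↥L) : X) * c⁻¹
      rw [← hqc]
      calc q * c * ((n : ↥L) : X) * (q * c)⁻¹ = q * (c * ((n : ↥L) : X) * c⁻¹) * q⁻¹ := by group
        _ = (c * ((n : ↥L) : X) * c⁻¹) * q * q⁻¹ := by rw [hqz]
        _ = c * ((n : ↥L) : X) * c⁻¹ := by group
    rw [key]
    exact hcf n _
  obtain ⟨c, hcind, -⟩ := helper1.cov_defect p M hM (P.subgroupOf L)
    ((Subgroup.centralizer (P : Set X)).subgroupOf L) hPp.comap_subtype hCY hinn b hb hbD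
  obtain ⟨f, hfdef⟩ : ∃ f : Set (IrrCharacter ↥(Subgroup.centralizer (P : Set X))),
      f = transportSet (Subgroup.subgroupOfEquivOfLe hCL).symm c := ⟨_, rfl⟩
  have hf : IsPBlock M f := by
    rw [hfdef]
    exact isPBlock_transportSet _ c hcind.1
  have htrf : transportSet (Subgroup.subgroupOfEquivOfLe hCL) f = c := by
    rw [hfdef]
    exact transportSet_symm _ c
  exact ⟨f, induced_trans_transport' hCL f hf b B (by rw [htrf]; exact hcind) hbind⟩

/-- a block with defect group `P` is induced from a block of a subgroup equal to `C(P)` -/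
theorem exists_cent_root_eq (hM : IsPModular p M) (B : Set (IrrCharacter X)) (hB : IsPBlock M B)
    (P : Subgroup X) (hP : IsDefectGroup p M B P) (Y : Subgroup X)
    (hY : Y = Subgroup.centralizer (P : Set X)) :
    ∃ f : Set (IrrCharacter ↥Y), IsInducedBlock M Y f B := by
  subst hY
  exact exists_cent_root hM B hB P hP

end Root

section RootSub

variable {G : Type u} [Group G] [Fintype G] {M : Ideal AlgInt} {p : ℕ} [Fact p.Prime]

/-- a block of a subgroup `H` with defect group `Q` and `C_G(Q) ≤ H` is induced from a block of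
`C_G(Q)` -/
theorem exists_cent_root_sub (hM : IsPModular p M) {H : Subgroup G} (β : Set (IrrCharacter ↥H))
    (hβ : IsPBlock M β) (Q : Subgroup G) (hQH : Q ≤ H)
    (hD : IsDefectGroup p M β (Q.subgroupOf H))
    (hC : Subgroup.centralizer (Q : Set G) ≤ H) :
    ∃ f : Set (IrrCharacter ↥(Subgroup.centralizer (Q : Set G))), IsPBlock M f ∧
      IsInducedBlock M ((Subgroup.centralizer (Q : Set G)).subgroupOf H)
        (transportSet (Subgroup.subgroupOfEquivOfLe hC) f) β := by
  classical
  have := Fintype.ofFinite ↥H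
  obtain ⟨c, hc⟩ := exists_cent_root_eq hM β hβ (Q.subgroupOf H) hD
    ((Subgroup.centralizer (Q : Set G)).subgroupOf H) (centralizer_subgroupOf_eq hQH).symm
  refine ⟨transportSet (Subgroup.subgroupOfEquivOfLe hC).symm c,
    isPBlock_transportSet _ c hc.1, ?_⟩
  rw [transportSet_symm]
  exact hc

/-- a block of `C(Q)` inducing `B` gives a Brauer pair of `B` -/
theorem pairOf_of_induced (hM : IsPModular p M) {B : Set (IrrCharacter G)} {Q : Subgroup G}
    (hQ : IsPGroup p Q) {f : Set (IrrCharacter ↥(Subgroup.centralizer (Q : Set G)))}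
    (hf : IsInducedBlock M (Subgroup.centralizer (Q : Set G)) f B) :
    IsBrauerPairOf p M B Q f := by
  classical
  have hMp : M.IsPrime := hM.2.1.isPrime
  have := Fintype.ofFinite ↥(Subgroup.centralizer (Q : Set G))
  obtain ⟨B', hB', -⟩ := brauer_pair_unique_block p M hM Q f ⟨hQ, hf.1⟩
  have hBB' : B' = B :=
    induced_block_unique (Subgroup.centralizer (Q : Set G)) (induced_of_brauerPair hM hB') hf
  rw [hBB'] at hB'
  exact hB'

/-- the pair attached to a block of a subgroup containing the centralizer of its defect group and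
inducing `B` -/
theorem exists_pair_of_sub (hM : IsPModular p M) {B : Set (IrrCharacter G)} {H : Subgroup G}
    (β : Set (IrrCharacter ↥H)) (hβB : IsInducedBlock M H β B) (Q : Subgroup G) (hQH : Q ≤ H)
    (hD : IsDefectGroup p M β (Q.subgroupOf H))
    (hC : Subgroup.centralizer (Q : Set G) ≤ H) :
    ∃ f : Set (IrrCharacter ↥(Subgroup.centralizer (Q : Set G))),
      IsInducedBlock M ((Subgroup.centralizer (Q : Set G)).subgroupOf H)
        (transportSet (Subgroup.subgroupOfEquivOfLe hC) f) β ∧
      IsInducedBlock M (Subgroup.centralizer (Q : Set G)) f B ∧ IsBrauerPairOf p M B Q f := by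
  classical
  have hMp : M.IsPrime := hM.2.1.isPrime
  have := Fintype.ofFinite ↥H
  have := Fintype.ofFinite ↥(Subgroup.centralizer (Q : Set G))
  have := Fintype.ofFinite ↥((Subgroup.centralizer (Q : Set G)).subgroupOf H)
  obtain ⟨f, hf, hind⟩ := exists_cent_root_sub hM β hβB.1 Q hQH hD hC
  have hfB := induced_trans_transport' hC f hf β B hind hβB
  have hQp : IsPGroup p Q := by
    have h1 := defectGroup_isPGroup p M β _ hD
    have h2 : IsPGroup p ((Q.subgroupOf H).map H.subtype) := h1.map _
    rwa [Subgroup.map_subgroupOf_eq_of_le hQH] at h2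
  exact ⟨f, hind, hfB, pairOf_of_induced hM hQp hfB⟩

end RootSub

end Cfsg.Agent.helper24
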