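import Mathlib
import Cfsg.Agent.Lib_helper24_PiKer4

/-!
Kernels of blocks and normal `p'`-subgroups (helper24), part 5: `π'`-cores in the kernels of
Brauer correspondents and of local blocks.
-/

set_option autoImplicit false

namespace Cfsg.Agent.helper24

open Cfsg Cfsg.Agent.helper5 Cfsg.Agent.helper8
open scoped ComplexConjugate

universe u

section Main

variable {G : Type u} [Group G] [Fintype G] {M : Ideal AlgInt} {p : ℕ} [Fact p.Prime]

omit [Fintype G] in
theorem mem_piCore_iff [Finite G] (π : Set ℕ) (X : Subgroup G) (x : ↥X) :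
    x ∈ Cfsg.piCore π ↥X ↔ (x : G) ∈ helper7.piCoreIn π X := by
  rw [← helper23.piCoreOf_eq_piCoreIn]
  unfold Cfsg.piCoreOf
  exact (Subgroup.mem_map_iff_mem X.subtype_injective).symm

omit [Fintype G] in
theorem piCoreIn_not_dvd [Finite G] {π : Set ℕ} (hpπ : p ∈ π) (X : Subgroup G) :
    ¬ p ∣ Nat.card (helper7.piCoreIn {q | q ∉ π} X) := by
  intro hdvd
  exact (helper7.piGrp_iff_card.1 (helper7.piCoreIn_piGrp {q | q ∉ π} X)) p
    (Fact.out : p.Prime) hdvd hpπ

/-- from the pair to the block of the subgroup -/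
theorem ker_of_pairKer_sub (hM : IsPModular p M) {π : Set ℕ} (hpπ : p ∈ π) {H Q : Subgroup G}
    (hC : Subgroup.centralizer (Q : Set G) ≤ H)
    {f : Set (IrrCharacter ↥(Subgroup.centralizer (Q : Set G)))} {β : Set (IrrCharacter ↥H)}
    (hind : IsInducedBlock M ((Subgroup.centralizer (Q : Set G)).subgroupOf H)
      (transportSet (Subgroup.subgroupOfEquivOfLe hC) f) β) (hf : IsPBlock M f)
    (hpk : PairKer π (⟨Q, f⟩ : BrauerPairIdx G)) :
    ∀ x : ↥H, x ∈ Cfsg.piCore {q | q ∉ π} ↥H → x ∈ blockKer β := by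
  classical
  have hMp : M.IsPrime := hM.2.1.isPrime
  have := Fintype.ofFinite ↥(Subgroup.centralizer (Q : Set G))
  obtain ⟨ξ, hξ⟩ := isPBlock_nonempty hf
  intro x hx χ hχ
  rw [mem_piCore_iff] at hx
  have h1 := ker_induced_iff_sub hM hC hind (helper7.piCoreIn {q | q ∉ π} H)
    (helper7.piCoreIn_normal _ H) (piCoreIn_not_dvd hpπ H) hξ hχ
  apply h1.2 _ x hx
  intro y hy
  have hy' : (y : G) ∈ coreC {q | q ∉ π} Q := by
    have hle : helper7.piCoreIn {q | q ∉ π} H ⊓ Subgroup.centralizer (Q : Set G)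
        ≤ coreC {q | q ∉ π} Q := by
      apply le_coreC inf_le_right
      · intro z hz
        apply Subgroup.inf_normalizer_le_normalizer_inf
        exact ⟨helper7.piCoreIn_normal _ H (hC hz), Subgroup.le_normalizer hz⟩
      · exact (helper7.piCoreIn_piGrp _ H).mono inf_le_left
    exact hle ⟨hy, y.2⟩
  exact hpk y hy' ξ hξ

/-- from the block of the subgroup to the pair -/
theorem pairKer_of_ker_sub (hM : IsPModular p M) {π : Set ℕ} (hpπ : p ∈ π) {H Q : Subgroup G}
    (hC : Subgroup.centralizer (Q : Set G) ≤ H) (hHN : H ≤ Subgroup.normalizer (Q : Set G))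
    {f : Set (IrrCharacter ↥(Subgroup.centralizer (Q : Set G)))} {β : Set (IrrCharacter ↥H)}
    (hind : IsInducedBlock M ((Subgroup.centralizer (Q : Set G)).subgroupOf H)
      (transportSet (Subgroup.subgroupOfEquivOfLe hC) f) β)
    (hk : ∀ h : ↥H, (h : G) ∈ coreC {q | q ∉ π} Q → h ∈ blockKer β) :
    PairKer π (⟨Q, f⟩ : BrauerPairIdx G) := by
  classical
  have hMp : M.IsPrime := hM.2.1.isPrime
  have := Fintype.ofFinite ↥H
  obtain ⟨χ, hχ⟩ := isPBlock_nonempty hind.2.1
  intro y hy ξ hξ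
  have h1 := ker_induced_iff_sub hM hC hind (coreC {q | q ∉ π} Q)
    (hHN.trans (normalizer_le_normalizer_coreC _ Q)) (coreC_not_dvd hpπ Q) hξ hχ
  exact h1.1 (fun h hh => hk h hh χ hχ) y hy

omit [Fintype G] in
theorem coreC_le_piCoreIn_normalizer [Finite G] (π : Set ℕ) (Q : Subgroup G) {H : Subgroup G}
    (hC : Subgroup.centralizer (Q : Set G) ≤ H) (hHN : H ≤ Subgroup.normalizer (Q : Set G)) :
    coreC π Q ≤ helper7.piCoreIn π H :=
  helper7.le_radOf ((coreC_le π Q).trans hC) (hHN.trans (normalizer_le_normalizer_coreC π Q))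
    (coreC_piGrp π Q)

set_option maxHeartbeats 1600000 in
/-- the top pair attached to the Brauer correspondent -/
theorem exists_top_pair (hM : IsPModular p M) (B : Set (IrrCharacter G)) (D : Subgroup G)
    (hBD : IsDefectGroup p M B D)
    (B₁ : Set (IrrCharacter ↥(Subgroup.normalizer (D : Set G))))
    (hB₁ : IsInducedBlock M (Subgroup.normalizer (D : Set G)) B₁ B)
    (hB₁D : IsDefectGroup p M B₁ (D.subgroupOf (Subgroup.normalizer (D : Set G)))) :
    ∃ f : Set (IrrCharacter ↥(Subgroup.centralizer (D : Set G))),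
      IsInducedBlock M ((Subgroup.centralizer (D : Set G)).subgroupOf
          (Subgroup.normalizer (D : Set G)))
        (transportSet (Subgroup.subgroupOfEquivOfLe
          (Subgroup.centralizer_le_normalizer (D : Set G))) f) B₁ ∧
      IsMaximalBrauerPair p M B D f := by
  obtain ⟨f, h1, h2, -⟩ := exists_pair_of_sub hM B₁ hB₁ D Subgroup.le_normalizer hB₁D
    (Subgroup.centralizer_le_normalizer (D : Set G))
  exact ⟨f, h1, maximal_of_induced_defect hM B D hBD f h2⟩

set_option maxHeartbeats 1600000 in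
/-- if the `π'`-core of `N(D)` lies in the kernel of the Brauer correspondent, then the `π'`-core
of any subgroup `G₀ ≥ C(D₀)` lies in the kernel of a block of `G₀` with defect group `D₀`
inducing `B` -/
theorem piCore_ker_descends (hM : IsPModular p M) {π : Set ℕ} (hpπ : p ∈ π)
    (B : Set (IrrCharacter G)) (D : Subgroup G) (hBD : IsDefectGroup p M B D)
    (B₁ : Set (IrrCharacter ↥(Subgroup.normalizer (D : Set G))))
    (hB₁ : IsInducedBlock M (Subgroup.normalizer (D : Set G)) B₁ B)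
    (hB₁D : IsDefectGroup p M B₁ (D.subgroupOf (Subgroup.normalizer (D : Set G))))
    (hker : ∀ n : ↥(Subgroup.normalizer (D : Set G)),
      n ∈ Cfsg.piCore {q | q ∉ π} ↥(Subgroup.normalizer (D : Set G)) → n ∈ blockKer B₁)
    (G₀ : Subgroup G) (B₀ : Set (IrrCharacter ↥G₀)) (hB₀ : IsInducedBlock M G₀ B₀ B)
    (D₀ : Subgroup ↥G₀) (hD₀ : IsDefectGroup p M B₀ D₀)
    (hC : Subgroup.centralizer ((D₀.map G₀.subtype : Subgroup G) : Set G) ≤ G₀) :
    ∀ x : ↥G₀, x ∈ Cfsg.piCore {q | q ∉ π} ↥G₀ → x ∈ blockKer B₀ := by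
  classical
  have hMp : M.IsPrime := hM.2.1.isPrime
  obtain ⟨fD, hfD1, hmax⟩ := exists_top_pair hM B D hBD B₁ hB₁ hB₁D
  have hCN := Subgroup.centralizer_le_normalizer (D : Set G)
  -- the top pair has the kernel property
  have htop : PairKer π (⟨D, fD⟩ : BrauerPairIdx G) := by
    apply pairKer_of_ker_sub hM hpπ hCN le_rfl hfD1
    intro h hh
    apply hker h
    rw [mem_piCore_iff]
    exact coreC_le_piCoreIn_normalizer _ D hCN le_rfl hh
  -- the pair of `B₀`
  obtain ⟨Q, hQdef⟩ : ∃ Q : Subgroup G, Q = D₀.map G₀.subtype := ⟨_, rfl⟩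
  rw [← hQdef] at hC
  have hQH : Q ≤ G₀ := by
    rw [hQdef]
    exact Subgroup.map_subtype_le _
  have hD₀eq : D₀ = Q.subgroupOf G₀ := eq_subgroupOf_of_map_eq hQdef.symm
  rw [hD₀eq] at hD₀
  obtain ⟨f, hf1, hf2, hpair⟩ := exists_pair_of_sub hM B₀ hB₀ Q hQH hD₀ hC
  obtain ⟨x, hx⟩ := pair_conj_below_maximal hM B D Q fD f hmax hpair
  have h1 : PairKer π (cjPair x (⟨Q, f⟩ : BrauerPairIdx G)) := pairKer_down hM hpπ hx htop
  have h2 := pairKer_conj h1 x⁻¹
  rw [cjPair_mul, inv_mul_cancel, cjPair_one] at h2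
  exact ker_of_pairKer_sub hM hpπ hC hf1 hf2.1 h2

end Main

end Cfsg.Agent.helper24
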