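import Mathlib
import Cfsg.Agent.Lib_helper24_PiKer5

/-!
Kernels of blocks and normal `p'`-subgroups (helper24), part 6: from a local block to the Brauer
correspondent.
-/

set_option autoImplicit false

namespace Cfsg.Agent.helper24

open Cfsg Cfsg.Agent.helper5 Cfsg.Agent.helper8
open scoped ComplexConjugate

universe u

section Main6

variable {G : Type u} [Group G] [Fintype G] {M : Ideal AlgInt} {p : ℕ} [Fact p.Prime]

set_option maxHeartbeats 1600000 in
/-- a block of `Q C(Q)` inducing `B` is induced from a block of `C(Q)`, which gives a pair of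
`B` -/
theorem exists_pair_of_qc (hM : IsPModular p M) {B : Set (IrrCharacter G)} {Q : Subgroup G}
    (hQ : IsPGroup p Q) (H : Subgroup G) (hH : H = Q ⊔ Subgroup.centralizer (Q : Set G))
    (hC : Subgroup.centralizer (Q : Set G) ≤ H)
    (b : Set (IrrCharacter ↥H)) (hb : IsInducedBlock M H b B) :
    ∃ f : Set (IrrCharacter ↥(Subgroup.centralizer (Q : Set G))),
      IsInducedBlock M ((Subgroup.centralizer (Q : Set G)).subgroupOf H)
        (transportSet (Subgroup.subgroupOfEquivOfLe hC) f) b ∧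
      IsPBlock M f ∧ IsBrauerPairOf p M B Q f := by
  classical
  have hMp : M.IsPrime := hM.2.1.isPrime
  have hMtop := hMp.ne_top
  have := Fintype.ofFinite ↥H
  have := Fintype.ofFinite ↥(Subgroup.centralizer (Q : Set G))
  have := Fintype.ofFinite ↥((Subgroup.centralizer (Q : Set G)).subgroupOf H)
  have hQH : Q ≤ H := by rw [hH]; exact le_sup_left
  have hHN : H ≤ Subgroup.normalizer (Q : Set G) := by
    rw [hH]
    exact sup_centralizer_le_normalizer Q
  have hQn : (Q.subgroupOf H).Normal := Subgroup.normal_subgroupOf_of_le_normalizer hHN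
  have hHNC : H ≤ Subgroup.normalizer
      ((Subgroup.centralizer (Q : Set G) : Subgroup G) : Set G) :=
    fun x hx => helper1.normalizer_le_normalizer_centralizer Q (hHN hx)
  have hYn : ((Subgroup.centralizer (Q : Set G)).subgroupOf H).Normal :=
    Subgroup.normal_subgroupOf_of_le_normalizer hHNC
  have hCY : Subgroup.centralizer ((Q.subgroupOf H : Subgroup ↥H) : Set ↥H) ≤
      (Subgroup.centralizer (Q : Set G)).subgroupOf H := by
    rw [centralizer_subgroupOf_eq hQH]
  obtain ⟨θ, hθ⟩ := isPBlock_nonempty hb.1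
  obtain ⟨θ₁, hθ₁⟩ := helper8.Cover.exists_under
    ((Subgroup.centralizer (Q : Set G)).subgroupOf H) θ.2
  have hθ₁c : θ₁ ∈ blockOf M (θ₁ : ↥((Subgroup.centralizer (Q : Set G)).subgroupOf H) → ℂ) :=
    sameBlock_refl M hMtop _
  have hc : IsPBlock M (blockOf M
      (θ₁ : ↥((Subgroup.centralizer (Q : Set G)).subgroupOf H) → ℂ)) := ⟨θ₁, rfl⟩
  have hind := induced_of_covering p M hM (Q.subgroupOf H)
    ((Subgroup.centralizer (Q : Set G)).subgroupOf H) hQ.comap_subtype hCY _ hc b hb.1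
    ⟨θ, hθ, θ₁, hθ₁c, hθ₁⟩
  obtain ⟨f, hfdef⟩ : ∃ f : Set (IrrCharacter ↥(Subgroup.centralizer (Q : Set G))),
      f = transportSet (Subgroup.subgroupOfEquivOfLe hC).symm
        (blockOf M (θ₁ : ↥((Subgroup.centralizer (Q : Set G)).subgroupOf H) → ℂ)) := ⟨_, rfl⟩
  have hf : IsPBlock M f := by
    rw [hfdef]
    exact isPBlock_transportSet _ _ hc
  have htr : transportSet (Subgroup.subgroupOfEquivOfLe hC) f
      = blockOf M (θ₁ : ↥((Subgroup.centralizer (Q : Set G)).subgroupOf H) → ℂ) := by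
    rw [hfdef]
    exact transportSet_symm _ _
  have hind1 : IsInducedBlock M ((Subgroup.centralizer (Q : Set G)).subgroupOf H)
      (transportSet (Subgroup.subgroupOfEquivOfLe hC) f) b := by
    rw [htr]
    exact hind
  have hind2 := induced_trans_transport' hC f hf b B hind1 hb
  exact ⟨f, hind1, hf, pairOf_of_induced hM hQ hind2⟩

set_option maxHeartbeats 1600000 in
/-- if for a block `b` of `D₀ C(D₀)` inducing `B` the `π'`-core of `C(D₀)` is a Hall subgroup in
the kernel of `b`, then the `π'`-core of `N(D)` lies in the kernel of the Brauer correspondent -/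
theorem piCore_ker_ascends (hM : IsPModular p M) {π : Set ℕ} (hpπ : p ∈ π)
    (B : Set (IrrCharacter G)) (D : Subgroup G) (hBD : IsDefectGroup p M B D)
    (B₁ : Set (IrrCharacter ↥(Subgroup.normalizer (D : Set G))))
    (hB₁ : IsInducedBlock M (Subgroup.normalizer (D : Set G)) B₁ B)
    (hB₁D : IsDefectGroup p M B₁ (D.subgroupOf (Subgroup.normalizer (D : Set G))))
    (D₀ : Subgroup G) (hD₀ : IsPGroup p D₀) (H₀ : Subgroup G)
    (hH₀ : H₀ = D₀ ⊔ Subgroup.centralizer (D₀ : Set G))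
    (b : Set (IrrCharacter ↥H₀)) (hb : IsInducedBlock M H₀ b B)
    (hcompl : ∀ x : ↥(Subgroup.centralizer (D₀ : Set G)),
      (∀ q : ℕ, q.Prime → q ∣ orderOf x → q ∉ π) →
        x ∈ Cfsg.piCore {q | q ∉ π} ↥(Subgroup.centralizer (D₀ : Set G)))
    (hkerb : ∀ x : ↥(Subgroup.centralizer (D₀ : Set G)),
      x ∈ Cfsg.piCore {q | q ∉ π} ↥(Subgroup.centralizer (D₀ : Set G)) →
        ∀ θ ∈ b, ∀ h : ↥H₀, (h : G) = (x : G) → (θ : ↥H₀ → ℂ) h = (θ : ↥H₀ → ℂ) 1) :
    ∀ n : ↥(Subgroup.normalizer (D : Set G)),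
      n ∈ Cfsg.piCore {q | q ∉ π} ↥(Subgroup.normalizer (D : Set G)) → n ∈ blockKer B₁ := by
  classical
  have hMp : M.IsPrime := hM.2.1.isPrime
  have hC : Subgroup.centralizer (D₀ : Set G) ≤ H₀ := by rw [hH₀]; exact le_sup_right
  have hHN : H₀ ≤ Subgroup.normalizer (D₀ : Set G) := by
    rw [hH₀]
    exact sup_centralizer_le_normalizer D₀
  obtain ⟨f₀, hf1, hf₀, hpair⟩ := exists_pair_of_qc hM hD₀ H₀ hH₀ hC b hb
  have hpk : PairKer π (⟨D₀, f₀⟩ : BrauerPairIdx G) := by
    apply pairKer_of_ker_sub hM hpπ hC hHN hf1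
    intro h hh θ hθ
    have hx : (⟨(h : G), coreC_le _ D₀ hh⟩ : ↥(Subgroup.centralizer (D₀ : Set G)))
        ∈ Cfsg.piCore {q | q ∉ π} ↥(Subgroup.centralizer (D₀ : Set G)) := by
      rw [mem_piCore_iff]
      exact hh
    exact hkerb _ hx θ hθ h rfl
  have hHall : HallCent π D₀ := by
    intro x hx hord
    have h1 := hcompl ⟨x, hx⟩ (by
      intro q hq hdvd
      rw [Subgroup.orderOf_mk] at hdvd
      exact hord q hq hdvd)
    rw [mem_piCore_iff] at h1
    exact h1
  obtain ⟨fD, hfD1, hmax⟩ := exists_top_pair hM B D hBD B₁ hB₁ hB₁D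
  obtain ⟨x, hx⟩ := pair_conj_below_maximal hM B D D₀ fD f₀ hmax hpair
  have hstart : HallCent π (cjPair x (⟨D₀, f₀⟩ : BrauerPairIdx G)).1 ∧
      PairKer π (cjPair x (⟨D₀, f₀⟩ : BrauerPairIdx G)) :=
    ⟨hallCent_conj hHall x, pairKer_conj hpk x⟩
  have htop := (pairKer_up hM hpπ hx hstart).2
  exact ker_of_pairKer_sub hM hpπ (Subgroup.centralizer_le_normalizer (D : Set G)) hfD1
    hmax.1.1.2 htop

end Main6

end Cfsg.Agent.helper24
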