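import Mathlib
import Cfsg.Agent.Lib_helper24_PiKer5
import Cfsg.Agent.Lib_helper24_PrincipalLocal

/-!
Kernels of blocks and normal `p'`-subgroups (helper24), part 7: character values on sections via
the second main theorem.
-/

set_option autoImplicit false

namespace Cfsg.Agent.helper24

open Cfsg Cfsg.Agent.helper5 Cfsg.Agent.helper8
open scoped ComplexConjugate

universe u

section SumBlocks

variable {H : Type u} [Group H] [Fintype H]

open Classical in
/-- a sum over all irreducible characters vanishes if it vanishes on every block -/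
theorem sum_all_eq_zero_of_blocks [Fintype (IrrCharacter H)] {M : Ideal AlgInt} [hMp : M.IsPrime]
    (g : IrrCharacter H → ℂ)
    (h : ∀ b : Set (IrrCharacter H), IsPBlock M b →
      ∑ ψ ∈ Finset.univ.filter (fun ψ : IrrCharacter H => ψ ∈ b), g ψ = 0) :
    ∑ ψ : IrrCharacter H, g ψ = 0 := by
  have hMtop := hMp.ne_top
  rw [← Finset.sum_fiberwise_of_maps_to
    (s := (Finset.univ : Finset (IrrCharacter H)))
    (t := (Finset.univ : Finset (IrrCharacter H)).image
      (fun ψ : IrrCharacter H => blockOf M (ψ : H → ℂ)))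
    (g := fun ψ : IrrCharacter H => blockOf M (ψ : H → ℂ))
    (fun ψ hψ => Finset.mem_image_of_mem _ hψ) g]
  apply Finset.sum_eq_zero
  intro b hb
  obtain ⟨ψ₁, -, rfl⟩ := Finset.mem_image.1 hb
  rw [← h (blockOf M (ψ₁ : H → ℂ)) ⟨ψ₁, rfl⟩]
  apply Finset.sum_congr _ (fun _ _ => rfl)
  ext ψ
  simp only [Finset.mem_filter, Finset.mem_univ, true_and]
  constructor
  · intro he
    rw [← he]
    exact sameBlock_refl M hMtop _
  · intro hψ
    exact blockOf_eq_of_mem ⟨ψ₁, rfl⟩ hψ

end SumBlocks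

section Main7

variable {G : Type u} [Group G] [Fintype G] {M : Ideal AlgInt} {p : ℕ} [Fact p.Prime]

set_option maxHeartbeats 1600000 in
/-- if the `π'`-core of `N(D)` lies in the kernel of the Brauer correspondent of `B`, and the
centralizer of the `p`-element `y` has a normal Hall `π'`-subgroup, then the characters of `B`
are constant on `y` times the `π'`-elements of `C(y)` -/
theorem piCore_section_const (hM : IsPModular p M) {π : Set ℕ} (hpπ : p ∈ π)
    (B : Set (IrrCharacter G)) (hB : IsPBlock M B) (D : Subgroup G)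
    (hBD : IsDefectGroup p M B D)
    (B₁ : Set (IrrCharacter ↥(Subgroup.normalizer (D : Set G))))
    (hB₁ : IsInducedBlock M (Subgroup.normalizer (D : Set G)) B₁ B)
    (hB₁D : IsDefectGroup p M B₁ (D.subgroupOf (Subgroup.normalizer (D : Set G))))
    (hker : ∀ n : ↥(Subgroup.normalizer (D : Set G)),
      n ∈ Cfsg.piCore {q | q ∉ π} ↥(Subgroup.normalizer (D : Set G)) → n ∈ blockKer B₁)
    (y : G) (hy : ∃ k : ℕ, orderOf y = p ^ k)
    (hC : ∀ x : ↥(Subgroup.centralizer ({y} : Set G)),
      (∀ q : ℕ, q.Prime → q ∣ orderOf x → q ∉ π) →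
        x ∈ Cfsg.piCore {q | q ∉ π} ↥(Subgroup.centralizer ({y} : Set G)))
    (χ : IrrCharacter G) (hχ : χ ∈ B) (x : G) (hx : x ∈ Subgroup.centralizer ({y} : Set G))
    (hxπ : ∀ q : ℕ, q.Prime → q ∣ orderOf x → q ∉ π) :
    (χ : G → ℂ) (y * x) = (χ : G → ℂ) y := by
  classical
  have hp : p.Prime := Fact.out
  have hMp : M.IsPrime := hM.2.1.isPrime
  have hMtop := hMp.ne_top
  obtain ⟨C, hCdef⟩ : ∃ C : Subgroup G, C = Subgroup.centralizer ({y} : Set G) := ⟨_, rfl⟩
  rw [← hCdef] at hC hx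
  have := Fintype.ofFinite ↥C
  have := Fintype.ofFinite (IrrCharacter ↥C)
  have := Fintype.ofFinite (IrrCharacter G)
  obtain ⟨ϑ, hϑdef⟩ : ∃ ϑ : ↥C → ℂ, ϑ = fun c : ↥C => (χ : G → ℂ) (y * (c : G)) := ⟨_, rfl⟩
  have hϑcf : IsClassFunction ↥C ϑ := by
    rw [hϑdef]
    exact shift_isClassFunction y C hCdef (char_isClassFunction (irr_isCharacter χ.2))
  -- the element
  have hx'ord : ∀ q : ℕ, q.Prime → q ∣ orderOf (⟨x, hx⟩ : ↥C) → q ∉ π := by
    intro q hq hdvd
    rw [Subgroup.orderOf_mk] at hdvd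
    exact hxπ q hq hdvd
  have hx'core := hC ⟨x, hx⟩ hx'ord
  have hx'reg : ¬ p ∣ orderOf (⟨x, hx⟩ : ↥C) := fun hdvd => hx'ord p hp hdvd hpπ
  have h1reg : ¬ p ∣ orderOf (1 : ↥C) := by
    rw [orderOf_one]
    exact hp.one_lt.ne' ∘ Nat.dvd_one.1
  -- the centralizer of the `p`-element contains the centralizers of the defect groups
  have hyC : y ∈ C := by
    rw [hCdef]
    exact Subgroup.mem_centralizer_singleton_iff.2 rfl
  have hZp : IsPGroup p (Subgroup.zpowers y) := by
    obtain ⟨k, hk⟩ := hy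
    apply IsPGroup.of_card (n := k)
    rw [Nat.card_zpowers, hk]
  have hZN : C ≤ Subgroup.normalizer ((Subgroup.zpowers y : Subgroup G) : Set G) := by
    intro c hc
    rw [hCdef] at hc
    have hcy : c * y = y * c := Subgroup.mem_centralizer_singleton_iff.1 hc
    have hcent : c ∈ Subgroup.centralizer ((Subgroup.zpowers y : Subgroup G) : Set G) := by
      rw [Subgroup.mem_centralizer_iff]
      intro z hz
      obtain ⟨n, rfl⟩ := Subgroup.mem_zpowers_iff.1 hz
      exact ((Commute.zpow_left (show Commute y c from hcy.symm) n)).eq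
    exact Subgroup.centralizer_le_normalizer _ hcent
  -- each block contributes the same at `x` and at `1`
  have hblocks : ∀ b : Set (IrrCharacter ↥C), IsPBlock M b →
      ∑ ψ ∈ Finset.univ.filter (fun ψ : IrrCharacter ↥C => ψ ∈ b),
        (classInner ϑ (ψ : ↥C → ℂ) * (ψ : ↥C → ℂ) ⟨x, hx⟩
          - classInner ϑ (ψ : ↥C → ℂ) * (ψ : ↥C → ℂ) 1) = 0 := by
    intro b hb
    by_cases hind : IsInducedBlock M C b B
    · obtain ⟨D₀, hD₀⟩ := exists_defectGroup p M hM b hb
      have hle := subgroupOf_le_defectGroup p M hM hZp hZN b hb D₀ hD₀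
      have hyD₀ : y ∈ D₀.map C.subtype := by
        refine ⟨⟨y, hyC⟩, hle ?_, rfl⟩
        rw [Subgroup.mem_subgroupOf]
        exact Subgroup.mem_zpowers y
      have hcent : Subgroup.centralizer ((D₀.map C.subtype : Subgroup G) : Set G) ≤ C := by
        intro c hc
        rw [hCdef, Subgroup.mem_centralizer_singleton_iff]
        exact (Subgroup.mem_centralizer_iff.1 hc y hyD₀).symm
      have hk := piCore_ker_descends hM hpπ B D hBD B₁ hB₁ hB₁D hker C b hind D₀ hD₀ hcent
        ⟨x, hx⟩ hx'core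
      apply Finset.sum_eq_zero
      intro ψ hψ
      have hψb : ψ ∈ b := (Finset.mem_filter.1 hψ).2
      rw [hk ψ hψb, sub_self]
    · rw [Finset.sum_sub_distrib]
      have h1 := second_main_finset p M hM y hy C hCdef B hB χ hχ b hb hind ⟨x, hx⟩ hx'reg
      have h2 := second_main_finset p M hM y hy C hCdef B hB χ hχ b hb hind 1 h1reg
      rw [← hϑdef] at h1 h2
      rw [h1, h2, sub_self]
  have hsum := sum_all_eq_zero_of_blocks (M := M) _ hblocks
  rw [Finset.sum_sub_distrib] at hsum
  have hexp := classFunction_expansion hϑcf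
  have hv : ∀ c : ↥C, ϑ c = ∑ ψ : IrrCharacter ↥C, classInner ϑ (ψ : ↥C → ℂ) * (ψ : ↥C → ℂ) c := by
    intro c
    have := congrFun hexp c
    rw [Finset.sum_apply] at this
    simpa [Pi.smul_apply, smul_eq_mul] using this
  have hfin : ϑ ⟨x, hx⟩ = ϑ 1 := by
    rw [hv ⟨x, hx⟩, hv 1]
    exact sub_eq_zero.1 hsum
  rw [hϑdef] at hfin
  simpa using hfin

end Main7

end Cfsg.Agent.helper24
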