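import Mathlib
import Cfsg.Agent.Lib_helper24_OddIdx2
import Cfsg.Agent.Lib_helper24_CharCentral
import Cfsg.Agent.Lib_helper22_HtZero4

/-!
Real characters of odd degree and the principal `2`-block (helper24): an irreducible character
of odd degree which is real on the elements of odd order lies in the principal `2`-block, and a
real irreducible character of odd degree of a normal subgroup which extends to the group has an
extension in the principal `2`-block.
-/

set_option autoImplicit false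

namespace Cfsg.Agent.helper24

open Cfsg
open scoped ComplexConjugate

universe u

section RealExtA

variable {G : Type u} [Group G] [Fintype G]

/-- an irreducible character of odd degree which is real on the elements of odd order lies in the
principal `2`-block -/
theorem mem_principalBlock_of_real_on_odd (M : Ideal AlgInt) (hM : IsPModular 2 M)
    (χ : IrrCharacter G) (hodd : Odd (charDegree (χ : G → ℂ)))
    (hreal : ∀ g : G, Odd (orderOf g) → conj ((χ : G → ℂ) g) = (χ : G → ℂ) g) :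
    χ ∈ principalBlock M G := by
  classical
  have : Fact (Nat.Prime 2) := ⟨Nat.prime_two⟩
  have hMp : M.IsPrime := hM.2.1.isPrime
  have hMtop := hMp.ne_top
  rw [Cfsg.Agent.helper1.mem_principalBlock_iff_sum_ne_zero 2 M hM]
  obtain ⟨R, hR⟩ : ∃ R : Finset G, R = Finset.univ.filter (fun x : G => ¬ 2 ∣ orderOf x) :=
    ⟨_, rfl⟩
  rw [← hR]
  have hRmem : ∀ x : G, x ∈ R ↔ ¬ 2 ∣ orderOf x := by
    intro x
    rw [hR, Finset.mem_filter]
    simp
  have h1R : (1 : G) ∈ R := by
    rw [hRmem, orderOf_one]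
    norm_num
  rw [← Finset.add_sum_erase R _ h1R]
  have hJ : MemLocalIdeal M (∑ x ∈ R.erase 1, (χ : G → ℂ) x) := by
    apply Cfsg.Agent.helper22.sum_mem_of_involution (fun z => MemLocalIdeal M z)
      (memLocalIdeal_zero hMtop) (fun x y hx hy => memLocalIdeal_add hx hy) (fun g => g⁻¹)
      (fun g => (χ : G → ℂ) g) (R.erase 1).card (R.erase 1) rfl
    · intro a ha
      rw [Finset.mem_erase] at ha ⊢
      refine ⟨inv_ne_one.2 ha.1, ?_⟩
      rw [hRmem, orderOf_inv]
      exact (hRmem a).1 ha.2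
    · intro a _
      exact inv_inv a
    · intro a ha h
      rw [Finset.mem_erase] at ha
      have h2 : a ^ 2 = 1 := by
        rw [pow_two]
        nth_rewrite 1 [← h]
        exact inv_mul_cancel a
      have h3 : orderOf a ∣ 2 := orderOf_dvd_of_pow_eq_one h2
      have hodd' : ¬ 2 ∣ orderOf a := (hRmem a).1 ha.2
      rcases (Nat.dvd_prime Nat.prime_two).1 h3 with h4 | h4
      · exact ha.1 (orderOf_eq_one_iff.1 h4)
      · exact hodd' (by rw [h4])
    · intro a ha
      rw [Finset.mem_erase] at ha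
      have hodd' : Odd (orderOf a) := by
        rw [Nat.odd_iff]
        have := (hRmem a).1 ha.2
        omega
      show MemLocalIdeal M ((χ : G → ℂ) a + (χ : G → ℂ) a⁻¹)
      rw [char_inv (irr_isCharacter χ.2), hreal a hodd']
      have h5 : (χ : G → ℂ) a + (χ : G → ℂ) a = (χ : G → ℂ) a * ((2 : ℕ) : ℂ) := by
        push_cast
        ring
      rw [h5]
      exact memLocalIdeal_mul_integral (natCast_memLocalIdeal_of_dvd hM (dvd_refl 2))
        (Cfsg.Agent.helper23.irr_isIntegral χ a)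
  intro h0
  have h6 : MemLocalIdeal M ((χ : G → ℂ) 1) := by
    rw [eq_neg_of_add_eq_zero_left h0]
    exact memLocalIdeal_neg hJ
  rw [← char_charDegree_cast (irr_isCharacter χ.2)] at h6
  have h7 : ¬ 2 ∣ charDegree (χ : G → ℂ) := by
    rw [Nat.odd_iff] at hodd
    omega
  exact natCast_not_memLocalIdeal hM h7 h6

set_option maxHeartbeats 800000 in
/-- **a real irreducible character of odd degree of a normal subgroup which extends to the group
has an extension in the principal `2`-block** -/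
theorem exists_extension_in_principalBlock (N : Subgroup G) [N.Normal] [Fintype N]
    (M : Ideal AlgInt) (hM : IsPModular 2 M) (θ : IrrCharacter N)
    (hreal : ∀ n : N, ((θ : N → ℂ) n).im = 0) (hodd : Odd (charDegree (θ : N → ℂ)))
    (hext : ∃ η : IrrCharacter G, ∀ n : N, (η : G → ℂ) n = (θ : N → ℂ) n) :
    ∃ η : IrrCharacter G, (∀ n : N, (η : G → ℂ) n = (θ : N → ℂ) n) ∧
      η ∈ principalBlock M G := by
  classical
  obtain ⟨χ, hχ⟩ := hext
  have := Fintype.ofFinite (IrrCharacter (G ⧸ N))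
  have hres : Cfsg.Agent.helper5.res N (χ : G → ℂ) = (θ : N → ℂ) := funext hχ
  have hϑ : IsIrrCharacter N (Cfsg.Agent.helper5.res N (χ : G → ℂ)) := by
    rw [hres]
    exact θ.2
  obtain ⟨-, -, hgal⟩ := Cfsg.Agent.helper22.gallagher N χ.2 hϑ
  have hcb : IsIrrCharacter G (fun g => conj ((χ : G → ℂ) g)) :=
    Cfsg.Agent.helper1.isIrrCharacter_conj χ.2
  have hover : classInner (Cfsg.Agent.helper5.res N (fun g => conj ((χ : G → ℂ) g)))
      (Cfsg.Agent.helper5.res N (χ : G → ℂ)) ≠ 0 := by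
    have h1 : Cfsg.Agent.helper5.res N (fun g => conj ((χ : G → ℂ) g)) =
        Cfsg.Agent.helper5.res N (χ : G → ℂ) := by
      funext n
      show conj ((χ : G → ℂ) n) = (χ : G → ℂ) n
      rw [hχ n]
      exact Complex.conj_eq_iff_im.2 (hreal n)
    rw [h1, irr_classInner_self hϑ]
    exact one_ne_zero
  obtain ⟨β, hβ⟩ := hgal _ hcb hover
  have hχ1 : (χ : G → ℂ) 1 ≠ 0 := irr_apply_one_ne_zero χ.2
  have hval : ∀ g : G, conj ((χ : G → ℂ) g) = (β : G ⧸ N → ℂ) (g : G ⧸ N) * (χ : G → ℂ) g := by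
    intro g
    have h1 := congrFun hβ g
    rw [Pi.mul_apply, Cfsg.Agent.helper22.infl_apply] at h1
    exact h1
  have hβ1 : (β : G ⧸ N → ℂ) 1 = 1 := by
    have h1 := hval 1
    have h2 : conj ((χ : G → ℂ) 1) = (χ : G → ℂ) 1 := by
      rw [← char_charDegree_cast (irr_isCharacter χ.2), Complex.conj_natCast]
    rw [h2, QuotientGroup.mk_one] at h1
    have h3 : (β : G ⧸ N → ℂ) 1 * (χ : G → ℂ) 1 = 1 * (χ : G → ℂ) 1 := by
      rw [one_mul]
      exact h1.symm
    exact mul_right_cancel₀ hχ1 h3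
  obtain ⟨βhom, hβhom⟩ : ∃ f : (G ⧸ N) →* ℂ, ∀ x, f x = (β : G ⧸ N → ℂ) x :=
    ⟨{ toFun := (β : G ⧸ N → ℂ), map_one' := hβ1,
       map_mul' := Cfsg.Agent.helper23.linear_char_mul (irr_isCharacter β.2) hβ1 }, fun _ => rfl⟩
  obtain ⟨lam, hlam⟩ : ∃ lam : G →* ℂˣ,
      ∀ g : G, ((lam g : ℂˣ) : ℂ) = (β : G ⧸ N → ℂ) (g : G ⧸ N) :=
    ⟨βhom.toHomUnits.comp (QuotientGroup.mk' N), fun g => by
      rw [MonoidHom.comp_apply, MonoidHom.coe_toHomUnits, hβhom]
      rfl⟩
  have hconj : ∀ g : G, conj ((χ : G → ℂ) g) = ((lam g : ℂˣ) : ℂ) * (χ : G → ℂ) g := by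
    intro g
    rw [hlam]
    exact hval g
  have hcardpos : Nat.card G ≠ 0 := Nat.card_pos.ne'
  obtain ⟨a, b, hbodd, hcard⟩ := Nat.exists_eq_two_pow_mul_odd hcardpos
  obtain ⟨m, hm⟩ : ∃ m, b + 1 = 2 * m := by
    obtain ⟨c, hc⟩ := hbodd
    exact ⟨c + 1, by omega⟩
  have hlamN : ∀ n : N, lam (n : G) = 1 := by
    intro n
    apply Units.ext
    rw [hlam, (QuotientGroup.eq_one_iff _).2 n.2, hβ1]
    rfl
  have hirr := isIrrCharacter_hom_mul (lam ^ m) χ.2
  refine ⟨⟨_, hirr⟩, ?_, ?_⟩
  · intro n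
    show (((lam ^ m) (n : G) : ℂˣ) : ℂ) * (χ : G → ℂ) n = (θ : N → ℂ) n
    rw [MonoidHom.pow_apply, hlamN n, one_pow, Units.val_one, one_mul, hχ n]
  · apply mem_principalBlock_of_real_on_odd M hM
    · have h1 : charDegree (fun g => (((lam ^ m) g : ℂˣ) : ℂ) * (χ : G → ℂ) g) =
          charDegree (θ : N → ℂ) := by
        unfold charDegree
        show ⌊((((lam ^ m) (1 : G) : ℂˣ) : ℂ) * (χ : G → ℂ) 1).re⌋₊ = _
        rw [map_one, Units.val_one, one_mul]
        have h2 := hχ 1
        rw [OneMemClass.coe_one] at h2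
        rw [h2]
      show Odd (charDegree (fun g => (((lam ^ m) g : ℂˣ) : ℂ) * (χ : G → ℂ) g))
      rw [h1]
      exact hodd
    · intro g hg
      show conj ((((lam ^ m) g : ℂˣ) : ℂ) * (χ : G → ℂ) g) =
        (((lam ^ m) g : ℂˣ) : ℂ) * (χ : G → ℂ) g
      obtain ⟨z, hz⟩ : ∃ z : ℂ, z = ((lam g : ℂˣ) : ℂ) := ⟨_, rfl⟩
      have hw : (((lam ^ m) g : ℂˣ) : ℂ) = z ^ m := by
        rw [MonoidHom.pow_apply, Units.val_pow_eq_pow_val, hz]
      have hob : orderOf g ∣ b := by
        have h1 : orderOf g ∣ 2 ^ a * b := by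
          rw [← hcard]
          exact orderOf_dvd_natCard g
        exact (Nat.Coprime.pow_right a (Nat.coprime_two_right.2 hg)).dvd_of_dvd_mul_left h1
      have hzb : z ^ b = 1 := by
        obtain ⟨c, hc⟩ := hob
        have h1 : lam g ^ orderOf g = 1 := by
          rw [← map_pow, pow_orderOf_eq_one, map_one]
        have h2 : lam g ^ b = 1 := by
          rw [hc, pow_mul, h1, one_pow]
        rw [hz, ← Units.val_pow_eq_pow_val, h2, Units.val_one]
      have hb0 : b ≠ 0 := by
        rintro rfl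
        simp at hbodd
      have hznorm : ‖z‖ = 1 := Complex.norm_eq_one_of_pow_eq_one hzb hb0
      have hwnorm : ‖z ^ m‖ = 1 := by
        rw [norm_pow, hznorm, one_pow]
      have hw2 : z ^ m * z ^ m = z := by
        rw [← pow_add, ← two_mul, ← hm, pow_succ, hzb, one_mul]
      rw [map_mul, hconj g, ← hz, hw, ← Complex.inv_eq_conj hwnorm]
      have hwne : z ^ m ≠ 0 := by
        intro h0
        rw [h0, norm_zero] at hwnorm
        exact zero_ne_one hwnorm
      have h3 : (z ^ m)⁻¹ * (z * (χ : G → ℂ) g) =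
          (z ^ m)⁻¹ * (z ^ m * z ^ m) * (χ : G → ℂ) g := by
        rw [hw2]
        ring
      rw [h3, ← mul_assoc, inv_mul_cancel₀ hwne, one_mul]

end RealExtA

section RealExtB

variable {G : Type u} [Group G] [Finite G]

/-- the same statement for a `Finite` group -/
theorem exists_extension_in_principalBlock' (N : Subgroup G) [N.Normal]
    (M : Ideal AlgInt) (hM : IsPModular 2 M) (θ : IrrCharacter N)
    (hreal : ∀ n : N, ((θ : N → ℂ) n).im = 0) (hodd : Odd (charDegree (θ : N → ℂ)))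
    (hext : ∃ η : IrrCharacter G, ∀ n : N, (η : G → ℂ) n = (θ : N → ℂ) n) :
    ∃ η : IrrCharacter G, (∀ n : N, (η : G → ℂ) n = (θ : N → ℂ) n) ∧
      η ∈ principalBlock M G := by
  classical
  have := Fintype.ofFinite G
  have := Fintype.ofFinite ↥N
  exact exists_extension_in_principalBlock N M hM θ hreal hodd hext

end RealExtB

end Cfsg.Agent.helper24
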