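import Mathlib
import Cfsg.Agent.Lib_helper24_S2670x
import Cfsg.Agent.Lib_helper23_S2670x
import Cfsg.Agent.Lib_helper6_S2670x

/-!
# Piece P4b of the S2672 swarm: fixed points of a nontrivial `r`-th root of unity
-/

set_option autoImplicit false
open Polynomial

namespace Cfsg.Agent.helper24.S2672x

/-- a fixed point of a nontrivial rotation dividing `(X^r - c)^n` is `(X^r - c)^(n/r)` -/
theorem fixed_eq {K : Type*} [Field K] (n r : ℕ) (hr : r.Prime) (μ : K) (hμ : μ ^ r = 1)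
    (hμ1 : μ ≠ 1) (f : K[X]) (hf : f.Monic) (hd : f.natDegree = n) (c : K) (hc0 : c ≠ 0)
    (h : f ∣ (X ^ r - C c) ^ n) (hfix : C (μ ^ n) * f.comp (C μ⁻¹ * X) = f) :
    r ∣ n ∧ f = (X ^ r - C c) ^ (n / r) := by
  have hμ0 : μ ≠ 0 := by
    rintro rfl
    rw [zero_pow hr.ne_zero] at hμ
    exact zero_ne_one hμ
  by_cases hc : ∃ b : K, b ^ r = c
  · obtain ⟨b, hb⟩ := hc
    have hb0 : b ≠ 0 := by
      rintro rfl
      rw [zero_pow hr.ne_zero] at hb
      exact hc0 hb.symm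
    have hν0 : b⁻¹ ≠ 0 := inv_ne_zero hb0
    obtain ⟨hm', hd', hdiv', -, -⟩ := Cfsg.Agent.helper23.S2670x.pieceS2 n r b⁻¹ hν0 f hf hd
    obtain ⟨hone, hcomp⟩ := Cfsg.Agent.helper23.S2670x.pieceS2b n f
    have h1 : (C (b⁻¹ ^ n) * f.comp (C (b⁻¹)⁻¹ * X)) ∣ (X ^ r - C 1) ^ n := by
      have h0 := hdiv' c h
      have hc1 : b⁻¹ ^ r * c = 1 := by
        rw [← hb, inv_pow, inv_mul_cancel₀ (pow_ne_zero r hb0)]
      rwa [hc1] at h0
    have hfix' : C (μ ^ n) * (C (b⁻¹ ^ n) * f.comp (C (b⁻¹)⁻¹ * X)).comp (C μ⁻¹ * X) =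
        C (b⁻¹ ^ n) * f.comp (C (b⁻¹)⁻¹ * X) := by
      rw [← hcomp μ b⁻¹ hμ0 hν0, mul_comm μ b⁻¹, hcomp b⁻¹ μ hν0 hμ0, hfix]
    obtain ⟨hrn, hfe⟩ := Cfsg.Agent.helper24.S2670x.pieceS6 n r hr μ hμ hμ1 _ hm' hd' h1 hfix'
    refine ⟨hrn, ?_⟩
    obtain ⟨-, -, -, -, hpow⟩ := Cfsg.Agent.helper23.S2670x.pieceS2 n r b hb0 _ hm' hd'
    have h2 := hpow 1 (n / r) hfe (Nat.mul_div_cancel' hrn)
    rw [mul_one, hb] at h2
    rw [← h2, ← hcomp b b⁻¹ hb0 hν0, mul_inv_cancel₀ hb0]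
    exact hone.symm
  · push_neg at hc
    exact Cfsg.Agent.helper6.S2670x.pieceS4 n r hr c hc f hf hd h

/-- PIECE P4b: fixed points of a nontrivial `r`-th root of unity. -/
theorem pieceP4b {K : Type*} [Field K] [Fintype K] {q : ℕ} (n r : ℕ) (hn : 2 ≤ n) (hr : r.Prime)
    (hrK : (r : K) ≠ 0)
    (hcardU : Nat.card {c : K // c ^ (q + 1) = 1} = q + 1)
    (μ : K) (hμ : μ ^ r = 1) (hμ1 : μ ≠ 1) :
    Nat.card {f : K[X] // (f.Monic ∧ f.natDegree = n ∧
      (∃ c : K, c ^ (q + 1) = 1 ∧ f ∣ (X ^ r - C c) ^ n) ∧ ¬ ∃ a : K, f = (X - C a) ^ n) ∧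
      C (μ ^ n) * f.comp (C μ⁻¹ * X) = f} = (q + 1) * (if r ∣ n then 1 else 0) := by
  have hμ0 : μ ≠ 0 := by
    rintro rfl
    rw [zero_pow hr.ne_zero] at hμ
    exact zero_ne_one hμ
  have hne0 : ∀ c : K, c ^ (q + 1) = 1 → c ≠ 0 := by
    rintro c hc rfl
    rw [zero_pow (Nat.succ_ne_zero q)] at hc
    exact zero_ne_one hc
  by_cases hrn : r ∣ n
  · rw [if_pos hrn, mul_one]
    refine Eq.trans (Eq.symm ?_) hcardU
    obtain ⟨k, hk⟩ := hrn
    have hnk : n / r = k := by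
      rw [hk]
      exact Nat.mul_div_cancel_left k hr.pos
    have hkn : k ≤ n := by
      rw [hk]
      exact Nat.le_mul_of_pos_left k hr.pos
    have hn1 : 1 ≤ n := by omega
    have hmon : ∀ c : K, ((X ^ r - C c) ^ k : K[X]).Monic :=
      fun c => (monic_X_pow_sub_C _ hr.ne_zero).pow k
    have hdeg : ∀ c : K, ((X ^ r - C c) ^ k : K[X]).natDegree = n := by
      intro c
      rw [natDegree_pow, natDegree_X_pow_sub_C, hk, mul_comm]
    refine Nat.card_congr (Equiv.ofBijective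
      (fun c : {c : K // c ^ (q + 1) = 1} => ⟨(X ^ r - C (c : K)) ^ k, ?_⟩) ⟨?_, ?_⟩)
    · refine ⟨⟨hmon c, hdeg c, ⟨c, c.2, pow_dvd_pow _ hkn⟩, ?_⟩, ?_⟩
      · rintro ⟨a, ha⟩
        have hsep : (X ^ r - C (c : K) : K[X]).Separable :=
          separable_X_pow_sub_C (c : K) hrK (hne0 c c.2)
        have hk0 : k ≠ 0 := by
          rintro rfl
          omega
        have hdvd : (X ^ r - C (c : K) : K[X]) ∣ (X - C a) ^ n := by
          rw [← ha]
          exact dvd_pow_self _ hk0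
        obtain ⟨i, hi, hassoc⟩ := (dvd_prime_pow (prime_X_sub_C a) n).mp hdvd
        have heq : (X ^ r - C (c : K) : K[X]) = (X - C a) ^ i :=
          eq_of_monic_of_associated (monic_X_pow_sub_C _ hr.ne_zero) ((monic_X_sub_C a).pow i)
            hassoc
        have hi' : i = r := by
          have h3 := congrArg natDegree heq
          rw [natDegree_X_pow_sub_C, natDegree_pow, natDegree_X_sub_C, mul_one] at h3
          exact h3.symm
        have hsq := hsep.squarefree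
        have h2 : (X - C a) * (X - C a) ∣ (X ^ r - C (c : K) : K[X]) := by
          rw [heq, hi', ← pow_two]
          exact pow_dvd_pow _ hr.two_le
        exact (not_isUnit_X_sub_C a) (hsq _ h2)
      · obtain ⟨-, -, -, -, hpow⟩ :=
          Cfsg.Agent.helper23.S2670x.pieceS2 n r μ hμ0 _ (hmon c) (hdeg c)
        have h3 := hpow (c : K) k rfl hk.symm
        rw [h3, hμ, one_mul]
    · intro c c' hcc
      have heq : ((X ^ r - C (c : K)) ^ k : K[X]) = (X ^ r - C (c' : K)) ^ k :=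
        congrArg Subtype.val hcc
      apply Subtype.ext
      exact Cfsg.Agent.helper24.S2670x.pieceS3 n r hn1 hr.one_le _ (hmon c) (hdeg c) c c'
        (pow_dvd_pow _ hkn) (by rw [heq]; exact pow_dvd_pow _ hkn)
    · rintro ⟨f, ⟨hf, hd, ⟨c, hc, hdiv⟩, hna⟩, hfix⟩
      refine ⟨⟨c, hc⟩, ?_⟩
      apply Subtype.ext
      obtain ⟨-, hfe⟩ := fixed_eq n r hr μ hμ hμ1 f hf hd c (hne0 c hc) hdiv hfix
      rw [hnk] at hfe
      exact hfe.symm
  · rw [if_neg hrn, mul_zero]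
    apply Nat.card_eq_zero.mpr
    left
    constructor
    rintro ⟨f, ⟨hf, hd, ⟨c, hc, hdiv⟩, hna⟩, hfix⟩
    exact hrn (fixed_eq n r hr μ hμ hμ1 f hf hd c (hne0 c hc) hdiv hfix).1

end Cfsg.Agent.helper24.S2672x
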