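import Mathlib
import Cfsg.Agent.Lib_helper24_S2672x

/-!
# Pieces B4, B5, B6 of the S2670 Burnside-count sub-swarm
-/

set_option autoImplicit false
open Polynomial

namespace Cfsg.Agent.helper24.S2670b

/-- B6: no fixed points unless μ ^ r = 1 -/
theorem pieceB6 {F : Type*} [Field F] (n r : ℕ) (hn : 1 ≤ n) (hr : 1 ≤ r) (μ : F) (hμ : μ ≠ 0)
    (f : F[X]) (hf : f.Monic) (hd : f.natDegree = n) (c : F) (hc : c ≠ 0)
    (h : f ∣ (X ^ r - C c) ^ n) (hfix : C (μ ^ n) * f.comp (C μ⁻¹ * X) = f) : μ ^ r = 1 := by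
  obtain ⟨-, -, hdiv, -, -⟩ := Cfsg.Agent.helper23.S2670x.pieceS2 n r μ hμ f hf hd
  have h1 := hdiv c h
  rw [hfix] at h1
  have h2 := Cfsg.Agent.helper24.S2670x.pieceS3 n r hn hr f hf hd c (μ ^ r * c) h h1
  have h3 : μ ^ r * c = 1 * c := by
    rw [one_mul]
    exact h2.symm
  exact mul_right_cancel₀ hc h3

/-- B5: fixed points of a nontrivial r-th root of unity -/
theorem pieceB5 {F : Type*} [Field F] [Fintype F] (n r : ℕ) (hn : 1 ≤ n) (hr : r.Prime) (ω : F)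
    (hω : ω ^ r = 1) (hω1 : ω ≠ 1) :
    Nat.card {f : F[X] // (f.Monic ∧ f.natDegree = n ∧
      (∃ c : F, c ≠ 0 ∧ f ∣ (X ^ r - C c) ^ n) ∧ ∀ a : F, f ≠ (X - C a) ^ n) ∧
      C (ω ^ n) * f.comp (C ω⁻¹ * X) = f} = (Fintype.card F - 1) * (if r ∣ n then 1 else 0) := by
  classical
  have hω0 : ω ≠ 0 := by
    rintro rfl
    rw [zero_pow hr.ne_zero] at hω
    exact zero_ne_one hω
  have hcard : Nat.card {c : F // c ≠ 0} = Fintype.card F - 1 := by
    rw [← Nat.card_congr (unitsEquivNeZero (G₀ := F)), Nat.card_eq_fintype_card, Fintype.card_units]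
  by_cases hrn : r ∣ n
  · rw [if_pos hrn, mul_one]
    refine Eq.trans (Eq.symm ?_) hcard
    obtain ⟨k, hk⟩ := hrn
    have hnk : n / r = k := by
      rw [hk]
      exact Nat.mul_div_cancel_left k hr.pos
    have hkn : k ≤ n := by
      rw [hk]
      exact Nat.le_mul_of_pos_left k hr.pos
    have hk0 : k ≠ 0 := by
      rintro rfl
      omega
    have hmon : ∀ c : F, ((X ^ r - C c) ^ k : F[X]).Monic :=
      fun c => (monic_X_pow_sub_C _ hr.ne_zero).pow k
    have hdeg : ∀ c : F, ((X ^ r - C c) ^ k : F[X]).natDegree = n := by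
      intro c
      rw [natDegree_pow, natDegree_X_pow_sub_C, hk, mul_comm]
    refine Nat.card_congr (Equiv.ofBijective
      (fun c : {c : F // c ≠ 0} => ⟨(X ^ r - C (c : F)) ^ k, ?_⟩) ⟨?_, ?_⟩)
    · refine ⟨⟨hmon c, hdeg c, ⟨c, c.2, pow_dvd_pow _ hkn⟩, ?_⟩, ?_⟩
      · intro a ha
        have h1 := congrArg (eval a) ha
        have h2 := congrArg (eval (ω * a)) ha
        simp only [eval_pow, eval_sub, eval_X, eval_C, sub_self] at h1 h2
        rw [zero_pow (by omega : n ≠ 0)] at h1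
        have har : a ^ r = (c : F) := sub_eq_zero.mp (pow_eq_zero_iff hk0 |>.mp h1)
        have ha0 : a ≠ 0 := by
          rintro rfl
          rw [zero_pow hr.ne_zero] at har
          exact c.2 har.symm
        rw [mul_pow, hω, one_mul, har, sub_self, zero_pow hk0] at h2
        have h3 : ω * a - a = 0 := (pow_eq_zero_iff (by omega : n ≠ 0)).mp h2.symm
        have h4 : (ω - 1) * a = 0 := by
          rw [sub_mul, one_mul]
          exact h3
        rcases mul_eq_zero.mp h4 with h5 | h5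
        · exact hω1 (sub_eq_zero.mp h5)
        · exact ha0 h5
      · obtain ⟨-, -, -, -, hpow⟩ :=
          Cfsg.Agent.helper23.S2670x.pieceS2 n r ω hω0 _ (hmon c) (hdeg c)
        have h3 := hpow (c : F) k rfl hk.symm
        rw [h3, hω, one_mul]
    · intro c c' hcc
      have heq : ((X ^ r - C (c : F)) ^ k : F[X]) = (X ^ r - C (c' : F)) ^ k :=
        congrArg Subtype.val hcc
      apply Subtype.ext
      exact Cfsg.Agent.helper24.S2670x.pieceS3 n r hn hr.one_le _ (hmon c) (hdeg c) c c'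
        (pow_dvd_pow _ hkn) (by rw [heq]; exact pow_dvd_pow _ hkn)
    · rintro ⟨f, ⟨hf, hd, ⟨c, hc, hdiv⟩, hna⟩, hfix⟩
      refine ⟨⟨c, hc⟩, ?_⟩
      apply Subtype.ext
      obtain ⟨-, hfe⟩ :=
        Cfsg.Agent.helper24.S2672x.fixed_eq n r hr ω hω hω1 f hf hd c hc hdiv hfix
      rw [hnk] at hfe
      exact hfe.symm
  · rw [if_neg hrn, mul_zero]
    apply Nat.card_eq_zero.mpr
    left
    constructor
    rintro ⟨f, ⟨hf, hd, ⟨c, hc, hdiv⟩, hna⟩, hfix⟩
    exact hrn (Cfsg.Agent.helper24.S2672x.fixed_eq n r hr ω hω hω1 f hf hd c hc hdiv hfix).1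

/-- polynomials of bounded degree over a finite field form a finite type -/
theorem finite_natDegree_le (F : Type*) [Field F] [Finite F] (n : ℕ) :
    Finite {f : F[X] // f.natDegree ≤ n} := by
  apply Finite.of_injective
    (fun f : {f : F[X] // f.natDegree ≤ n} => fun i : Fin (n + 1) => f.1.coeff i)
  intro f g hfg
  apply Subtype.ext
  ext i
  by_cases hi : i ≤ n
  · exact congrFun hfg ⟨i, Nat.lt_succ_of_le hi⟩
  · push_neg at hi
    rw [coeff_eq_zero_of_natDegree_lt (lt_of_le_of_lt f.2 hi),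
      coeff_eq_zero_of_natDegree_lt (lt_of_le_of_lt g.2 hi)]

/-- B4: fibre decomposition over c (c is unique by S3) -/
theorem pieceB4 {F : Type*} [Field F] [Fintype F] [DecidableEq F] (n r : ℕ) (hn : 1 ≤ n)
    (hr : 1 ≤ r) :
    Nat.card {f : F[X] // f.Monic ∧ f.natDegree = n ∧ (∃ c : F, c ≠ 0 ∧ f ∣ (X ^ r - C c) ^ n) ∧
      ∀ a : F, f ≠ (X - C a) ^ n} =
    ∑ u : Fˣ, Nat.card {f : F[X] // f.Monic ∧ f.natDegree = n ∧
      f ∣ (X ^ r - C (u : F)) ^ n ∧ ∀ a : F, f ≠ (X - C a) ^ n} := by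
  haveI := finite_natDegree_le F n
  haveI hfin : ∀ u : Fˣ, Finite {f : F[X] // f.Monic ∧ f.natDegree = n ∧
      f ∣ (X ^ r - C (u : F)) ^ n ∧ ∀ a : F, f ≠ (X - C a) ^ n} := fun u =>
    Finite.of_injective (fun f => (⟨f.1, le_of_eq f.2.2.1⟩ : {f : F[X] // f.natDegree ≤ n}))
      (fun f g h => Subtype.ext
        (congrArg (fun x : {f : F[X] // f.natDegree ≤ n} => (x : F[X])) h))
  rw [← Nat.card_sigma]
  symm
  refine Nat.card_congr (Equiv.ofBijective
    (fun x => ⟨x.2.1, x.2.2.1, x.2.2.2.1, ⟨(x.1 : F), x.1.ne_zero, x.2.2.2.2.1⟩, x.2.2.2.2.2⟩)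
    ⟨?_, ?_⟩)
  · rintro ⟨u, f, hf⟩ ⟨u', f', hf'⟩ h
    have hff : f = f' := congrArg Subtype.val h
    subst hff
    have huu : u = u' := Units.ext
      (Cfsg.Agent.helper24.S2670x.pieceS3 n r hn hr f hf.1 hf.2.1 u u' hf.2.2.1 hf'.2.2.1)
    subst huu
    rfl
  · rintro ⟨f, hf, hd, ⟨c, hc, hdiv⟩, hna⟩
    exact ⟨⟨Units.mk0 c hc, ⟨f, hf, hd, by simpa using hdiv, hna⟩⟩, rfl⟩

end Cfsg.Agent.helper24.S2670b
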