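import Mathlib
import Cfsg.Agent.Lib_helper12_CharOps
import Cfsg.Agent.Lib_helper24_CharKer
import Cfsg.Agent.Lib_helper24_CharCount

/-!
# Piece X of the S4885 swarm (character theory)

If `V` is a normal `p'`-subgroup of `G`, `P` a Sylow `p`-subgroup and `x ∈ P` lies in the kernel
of every irreducible character of `p'`-degree having `V` in its kernel, then `x ∈ P'`.
-/

set_option autoImplicit false

namespace Cfsg.Agent.helper24.S4885x

open Cfsg Cfsg.Agent.helper24 Cfsg.Agent.helper12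
open scoped ComplexConjugate commutatorElement

universe u

/-- an irreducible character is invariant under translation by an element of its kernel -/
theorem irr_mul_of_eq_one {G : Type u} [Group G] [Finite G] {ψ : G → ℂ}
    (hψ : IsIrrCharacter G ψ) (g : G) (hg : ψ g = ψ 1) (y : G) : ψ (g * y) = ψ y := by
  obtain ⟨n, ρ, hρ, rfl⟩ := hψ
  have h1 : ρ.character 1 = n := by
    rw [Representation.char_one]
    simp
  have h2 : ρ g = 1 := (rep_char_eq_degree_iff ρ g).mp (hg.trans h1)
  simp only [Representation.character, map_mul, h2, one_mul]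

/-- PIECE X (character theory) -/
theorem pieceX {G : Type u} [Group G] [Finite G] (p : ℕ) [Fact p.Prime] (V : Subgroup G) [V.Normal]
    (hV : (Nat.card V).Coprime p) (P : Sylow p G) (x : G) (hxP : x ∈ (P : Subgroup G))
    (hx : ∀ χ : Cfsg.IrrCharacter G, (∀ n ∈ V, (χ : G → ℂ) n = (χ : G → ℂ) 1) →
      ¬ p ∣ Cfsg.charDegree (χ : G → ℂ) → (χ : G → ℂ) x = (χ : G → ℂ) 1) :
    x ∈ ⁅(P : Subgroup G), (P : Subgroup G)⁆ := by
  classical
  by_contra hxc
  have hp : p.Prime := Fact.out
  set x' : ↥(P : Subgroup G) := ⟨x, hxP⟩ with hx'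
  -- Step A: a linear character of `P` not killing `x`
  have hA : (Abelianization.of x' : Abelianization ↥(P : Subgroup G)) ≠ 1 := by
    intro h1
    apply hxc
    have h2 : x' ∈ commutator ↥(P : Subgroup G) := (QuotientGroup.eq_one_iff x').mp h1
    rw [← Subgroup.map_subtype_commutator]
    exact ⟨x', h2, rfl⟩
  obtain ⟨φ, hφ⟩ := CommGroup.exists_apply_ne_one_of_hasEnoughRootsOfUnity
    (Abelianization ↥(P : Subgroup G)) ℂ hA
  let lam : ↥(P : Subgroup G) →* ℂ := (Units.coeHom ℂ).comp (φ.comp Abelianization.of)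
  have hlam : lam x' ≠ 1 := by
    intro h
    apply hφ
    apply Units.ext
    simpa [lam] using h
  -- Step B: multiplicities
  have := Fintype.ofFinite G
  have := Fintype.ofFinite (G ⧸ V)
  have := Fintype.ofFinite ↥(P : Subgroup G)
  have := Fintype.ofFinite (IrrCharacter (G ⧸ V))
  let π : G → G ⧸ V := QuotientGroup.mk
  let res : IrrCharacter (G ⧸ V) → (↥(P : Subgroup G) → ℂ) :=
    fun ψ h => (ψ : G ⧸ V → ℂ) (π (h : G))
  have hres : ∀ ψ, IsCharacter ↥(P : Subgroup G) (res ψ) := fun ψ =>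
    isCharacter_restrict (P : Subgroup G) (char_inflation V (irr_isCharacter ψ.2))
  have hlamc : IsCharacter ↥(P : Subgroup G) lam := isCharacter_of_monoidHom lam
  have hnat : ∀ ψ, ∃ n : ℕ, classInner (res ψ) lam = n :=
    fun ψ => classInner_char_nat (hres ψ) hlamc
  choose m hm using hnat
  have hdeg : ∀ ψ : IrrCharacter (G ⧸ V),
      (ψ : G ⧸ V → ℂ) 1 = (charDegree (ψ : G ⧸ V → ℂ) : ℂ) :=
    fun ψ => (char_charDegree_cast (irr_isCharacter ψ.2)).symm
  -- Step C: `P` meets `V` trivially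
  have hinj : ∀ h : ↥(P : Subgroup G), π (h : G) = 1 → h = 1 := by
    intro h hh
    have hV' : (h : G) ∈ V := (QuotientGroup.eq_one_iff _).mp hh
    have hcop : (Nat.card ↥(P : Subgroup G)).Coprime (Nat.card V) := by
      rw [P.card_eq_multiplicity]
      exact (Nat.Coprime.pow_right _ hV).symm
    have hdis := Subgroup.disjoint_of_coprime_natCard hcop
    have hmem : (h : G) ∈ (P : Subgroup G) ⊓ V := ⟨h.2, hV'⟩
    rw [hdis.eq_bot, Subgroup.mem_bot] at hmem
    exact Subtype.ext hmem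
  have hcent : Subgroup.centralizer ({1} : Set (G ⧸ V)) = ⊤ := by
    ext g
    simp [Subgroup.mem_centralizer_iff]
  have hPne : (Nat.card ↥(P : Subgroup G) : ℂ) ≠ 0 := by
    exact_mod_cast (Nat.card_pos).ne'
  have hsum : ∑ ψ : IrrCharacter (G ⧸ V),
      (charDegree (ψ : G ⧸ V → ℂ) : ℂ) * (m ψ : ℂ) * (Nat.card ↥(P : Subgroup G) : ℂ)
      = (Nat.card (G ⧸ V) : ℂ) := by
    calc ∑ ψ : IrrCharacter (G ⧸ V),
          (charDegree (ψ : G ⧸ V → ℂ) : ℂ) * (m ψ : ℂ) * (Nat.card ↥(P : Subgroup G) : ℂ)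
        = ∑ ψ : IrrCharacter (G ⧸ V), (ψ : G ⧸ V → ℂ) 1 *
            ∑ h : ↥(P : Subgroup G), res ψ h * conj (lam h) := by
          refine Finset.sum_congr rfl (fun ψ _ => ?_)
          rw [← hm ψ, classInner, hdeg ψ]
          field_simp
      _ = ∑ h : ↥(P : Subgroup G), (∑ ψ : IrrCharacter (G ⧸ V),
            (ψ : G ⧸ V → ℂ) (π (h : G)) * conj ((ψ : G ⧸ V → ℂ) 1)) * conj (lam h) := by
          simp_rw [Finset.mul_sum]
          rw [Finset.sum_comm]
          refine Finset.sum_congr rfl (fun h _ => ?_)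
          rw [Finset.sum_mul]
          refine Finset.sum_congr rfl (fun ψ _ => ?_)
          rw [hdeg ψ, Complex.conj_natCast]
          simp only [res]
          ring
      _ = ∑ h : ↥(P : Subgroup G),
            (if h = 1 then (Nat.card (G ⧸ V) : ℂ) else 0) * conj (lam h) := by
          refine Finset.sum_congr rfl (fun h _ => ?_)
          rw [irr_column_orthogonality]
          congr 1
          by_cases hh : h = 1
          · subst hh
            have : π ((1 : ↥(P : Subgroup G)) : G) = 1 := rfl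
            rw [this, if_pos (IsConj.refl _), if_pos rfl, hcent, Subgroup.card_top]
          · rw [if_neg hh, if_neg]
            intro hc
            apply hh
            apply hinj
            exact isConj_one_right.mp hc.symm
      _ = (Nat.card (G ⧸ V) : ℂ) := by
          simp
  have hsumN : (∑ ψ : IrrCharacter (G ⧸ V), charDegree (ψ : G ⧸ V → ℂ) * m ψ) *
      Nat.card ↥(P : Subgroup G) = Nat.card (G ⧸ V) := by
    have h1 : (((∑ ψ : IrrCharacter (G ⧸ V), charDegree (ψ : G ⧸ V → ℂ) * m ψ) *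
        Nat.card ↥(P : Subgroup G) : ℕ) : ℂ) = (Nat.card (G ⧸ V) : ℂ) := by
      rw [← hsum]
      push_cast
      rw [Finset.sum_mul]
    exact_mod_cast h1
  -- a constituent of `p'`-degree
  have hex : ∃ ψ : IrrCharacter (G ⧸ V), m ψ ≠ 0 ∧ ¬ p ∣ charDegree (ψ : G ⧸ V → ℂ) := by
    by_contra hcon
    push_neg at hcon
    have hdvd : p ∣ ∑ ψ : IrrCharacter (G ⧸ V), charDegree (ψ : G ⧸ V → ℂ) * m ψ := by
      apply Finset.dvd_sum
      intro ψ _
      by_cases h0 : m ψ = 0
      · rw [h0, mul_zero]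
        exact dvd_zero _
      · exact Dvd.dvd.mul_right (hcon ψ h0) _
    have h2 : p * Nat.card ↥(P : Subgroup G) ∣ Nat.card (G ⧸ V) := by
      rw [← hsumN]
      exact Nat.mul_dvd_mul_right hdvd _
    have h3 : Nat.card (G ⧸ V) ∣ Nat.card G := by
      have : Nat.card (G ⧸ V) = V.index := rfl
      rw [this]
      exact Subgroup.index_dvd_card V
    have h4 : p ^ ((Nat.card G).factorization p + 1) ∣ Nat.card G := by
      rw [pow_succ', ← P.card_eq_multiplicity]
      exact h2.trans h3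
    exact Nat.pow_succ_factorization_not_dvd (Nat.card_pos).ne' hp h4
  obtain ⟨ψ, hmψ, hpψ⟩ := hex
  -- Step D: inflate to `G`
  let χ : IrrCharacter G :=
    ⟨(ψ : G ⧸ V → ℂ) ∘ (QuotientGroup.mk : G → G ⧸ V), irr_inflation V ψ.2⟩
  have hχV : ∀ n ∈ V, (χ : G → ℂ) n = (χ : G → ℂ) 1 := by
    intro n hn
    show (ψ : G ⧸ V → ℂ) (QuotientGroup.mk n) = (ψ : G ⧸ V → ℂ) (QuotientGroup.mk 1)
    rw [(QuotientGroup.eq_one_iff n).mpr hn, QuotientGroup.mk_one]
  have hχd : ¬ p ∣ charDegree (χ : G → ℂ) := by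
    have : charDegree (χ : G → ℂ) = charDegree (ψ : G ⧸ V → ℂ) := rfl
    rwa [this]
  have hψx : (ψ : G ⧸ V → ℂ) (π x) = (ψ : G ⧸ V → ℂ) 1 := hx χ hχV hχd
  -- Step E: translation invariance
  have htr : ∀ y, (ψ : G ⧸ V → ℂ) (π x * y) = (ψ : G ⧸ V → ℂ) y :=
    irr_mul_of_eq_one ψ.2 (π x) hψx
  have hS : ∑ h : ↥(P : Subgroup G), res ψ h * conj (lam h) =
      conj (lam x') * ∑ h : ↥(P : Subgroup G), res ψ h * conj (lam h) := by
    conv_lhs => rw [← Equiv.sum_comp (Equiv.mulLeft x')]
    rw [Finset.mul_sum]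
    refine Finset.sum_congr rfl (fun h _ => ?_)
    have h1 : res ψ (x' * h) = res ψ h := by
      show (ψ : G ⧸ V → ℂ) (π ((x' * h : ↥(P : Subgroup G)) : G)) = _
      rw [Subgroup.coe_mul]
      exact htr (π (h : G))
    simp only [Equiv.coe_mulLeft, h1, map_mul]
    ring
  have hSne : ∑ h : ↥(P : Subgroup G), res ψ h * conj (lam h) ≠ 0 := by
    intro h0
    have h1 := hm ψ
    rw [classInner, h0, mul_zero] at h1
    exact hmψ (by exact_mod_cast h1.symm)
  have hconj : conj (lam x') = 1 := by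
    have h2 : (conj (lam x') - 1) * ∑ h : ↥(P : Subgroup G), res ψ h * conj (lam h) = 0 := by
      rw [sub_mul, one_mul, ← hS, sub_self]
    rcases mul_eq_zero.mp h2 with h3 | h3
    · exact sub_eq_zero.mp h3
    · exact absurd h3 hSne
  apply hlam
  have h5 := congrArg conj hconj
  simpa using h5

end Cfsg.Agent.helper24.S4885x
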