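import Mathlib
import Cfsg.Agent.Lib_helper24_BlockOrth

/-!
# Linear algebra modulo the local ideal

Determinants of congruent matrices are congruent; a rectangular factorization of a matrix
congruent to the identity yields a square submatrix with unit determinant.
-/

set_option autoImplicit false

namespace Cfsg.Agent.helper24

open Cfsg

section LA

variable {M : Ideal AlgInt} [hMp : M.IsPrime]

/-- congruent factors give congruent products -/
theorem prod_congr_memLocalIdeal {κ : Type*} (s : Finset κ) (a b : κ → ℂ)
    (hb : ∀ i ∈ s, MemLocalRing M (b i)) (h : ∀ i ∈ s, MemLocalIdeal M (a i - b i)) :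
    MemLocalIdeal M (∏ i ∈ s, a i - ∏ i ∈ s, b i) := by
  classical
  induction s using Finset.induction_on with
  | empty =>
    simp only [Finset.prod_empty, sub_self]
    exact memLocalIdeal_zero hMp.ne_top
  | insert k s hk ih =>
    rw [Finset.prod_insert hk, Finset.prod_insert hk]
    have hb' : ∀ i ∈ s, MemLocalRing M (b i) := fun i hi => hb i (Finset.mem_insert_of_mem hi)
    have h' : ∀ i ∈ s, MemLocalIdeal M (a i - b i) := fun i hi => h i (Finset.mem_insert_of_mem hi)
    have hak : MemLocalRing M (a k) :=
      memLocalRing_of_sub_memLocalIdeal (hb k (Finset.mem_insert_self k s))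
        (h k (Finset.mem_insert_self k s))
    have e : a k * ∏ i ∈ s, a i - b k * ∏ i ∈ s, b i
        = a k * (∏ i ∈ s, a i - ∏ i ∈ s, b i) + (∏ i ∈ s, b i) * (a k - b k) := by ring
    rw [e]
    apply memLocalIdeal_add
    · exact memLocalIdeal_mul_left hak (ih hb' h')
    · exact memLocalIdeal_mul_left (memLocalRing_prod s b hb') (h k (Finset.mem_insert_self k s))

/-- congruent matrices have congruent determinants -/
theorem det_congr_memLocalIdeal {n : Type*} [Fintype n] [DecidableEq n] (A B : Matrix n n ℂ)
    (hB : ∀ i j, MemLocalRing M (B i j)) (h : ∀ i j, MemLocalIdeal M (A i j - B i j)) :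
    MemLocalIdeal M (A.det - B.det) := by
  rw [Matrix.det_apply, Matrix.det_apply, ← Finset.sum_sub_distrib]
  apply memLocalIdeal_sum
  intro σ _
  have h1 : MemLocalIdeal M (∏ i, A (σ i) i - ∏ i, B (σ i) i) :=
    prod_congr_memLocalIdeal Finset.univ _ _ (fun i _ => hB _ _) (fun i _ => h _ _)
  rcases Int.units_eq_one_or (Equiv.Perm.sign σ) with hs | hs
  · rw [hs, one_smul, one_smul]
    exact h1
  · rw [hs, Units.neg_smul, one_smul, Units.neg_smul, one_smul]
    have e : -∏ i, A (σ i) i - -∏ i, B (σ i) i = -(∏ i, A (σ i) i - ∏ i, B (σ i) i) := by ring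
    rw [e]
    exact memLocalIdeal_neg h1

/-- the determinant of a matrix with local entries is local -/
theorem det_memLocalRing {n : Type*} [Fintype n] [DecidableEq n] (A : Matrix n n ℂ)
    (hA : ∀ i j, MemLocalRing M (A i j)) : MemLocalRing M A.det := by
  rw [Matrix.det_apply]
  apply memLocalRing_sum
  intro σ _
  have h1 : MemLocalRing M (∏ i, A (σ i) i) := memLocalRing_prod _ _ (fun i _ => hA _ _)
  rcases Int.units_eq_one_or (Equiv.Perm.sign σ) with hs | hs
  · rw [hs, one_smul]
    exact h1
  · rw [hs, Units.neg_smul, one_smul]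
    exact memLocalRing_neg h1

/-- a rectangular factorization of a matrix congruent to the identity yields a square
submatrix whose determinant is a unit -/
theorem exists_injective_det {κ : Type*} [Fintype κ] [DecidableEq κ] {r : ℕ}
    (Ω : Fin r → κ → ℂ) (Pm : κ → Fin r → ℂ) (hΩ : ∀ j b, MemLocalRing M (Ω j b))
    (hPm : ∀ b i, MemLocalRing M (Pm b i))
    (h : ∀ j i, MemLocalIdeal M (∑ b, Ω j b * Pm b i - (1 : Matrix (Fin r) (Fin r) ℂ) j i)) :
    ∃ f : Fin r → κ, Function.Injective f ∧
      ¬ MemLocalIdeal M (Matrix.det (Matrix.of fun j i : Fin r => Ω j (f i))) := by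
  obtain ⟨A, hA⟩ : ∃ A : Matrix (Fin r) (Fin r) ℂ, A = Matrix.of fun j i => ∑ b, Ω j b * Pm b i :=
    ⟨_, rfl⟩
  have hA1 : MemLocalIdeal M (A.det - 1) := by
    apply det_sub_one_memLocalIdeal
    intro j i
    rw [hA]
    exact h j i
  have hA2 : ¬ MemLocalIdeal M A.det := by
    intro hc
    have : MemLocalIdeal M (A.det - (A.det - 1)) := memLocalIdeal_sub hc hA1
    rw [sub_sub_cancel] at this
    exact not_memLocalIdeal_one this
  have hexp : A.det = ∑ f : Fin r → κ, (∏ i, Pm (f i) i) *
      Matrix.det (Matrix.of fun j i : Fin r => Ω j (f i)) := by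
    rw [← Matrix.det_transpose]
    have e1 : A.transpose = fun i : Fin r => ∑ b, (fun b => Pm b i • fun j : Fin r => Ω j b) b := by
      funext i j
      rw [hA]
      simp only [Matrix.transpose_apply, Matrix.of_apply, Finset.sum_apply, Pi.smul_apply,
        smul_eq_mul]
      refine Finset.sum_congr rfl (fun b _ => ?_)
      ring
    show Matrix.detRowAlternating A.transpose = _
    rw [e1]
    have e2 := (Matrix.detRowAlternating (n := Fin r) (R := ℂ)).toMultilinearMap.map_sum
      (fun (i : Fin r) (b : κ) => Pm b i • fun j : Fin r => Ω j b)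
    rw [AlternatingMap.coe_multilinearMap] at e2
    rw [e2]
    refine Finset.sum_congr rfl (fun f _ => ?_)
    have e3 := (Matrix.detRowAlternating (n := Fin r) (R := ℂ)).toMultilinearMap.map_smul_univ
      (fun i : Fin r => Pm (f i) i) (fun (i : Fin r) => fun j : Fin r => Ω j (f i))
    rw [AlternatingMap.coe_multilinearMap] at e3
    rw [e3, smul_eq_mul]
    congr 1
    rw [← Matrix.det_transpose]
    rfl
  by_contra hno
  push Not at hno
  apply hA2
  rw [hexp]
  apply memLocalIdeal_sum
  intro f _
  by_cases hf : Function.Injective f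
  · exact memLocalIdeal_mul_left (memLocalRing_prod _ _ (fun i _ => hPm _ _)) (hno f hf)
  · have h0 : Matrix.det (Matrix.of fun j i : Fin r => Ω j (f i)) = 0 := by
      unfold Function.Injective at hf
      push Not at hf
      obtain ⟨i1, i2, hf12, hne⟩ := hf
      apply Matrix.det_zero_of_column_eq hne
      intro j
      show Ω j (f i1) = Ω j (f i2)
      rw [hf12]
    rw [h0, mul_zero]
    exact memLocalIdeal_zero hMp.ne_top

end LA

end Cfsg.Agent.helper24
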