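import Mathlib
import Cfsg.Agent.S0908
import Cfsg.Agent.S0911
import Cfsg.Agent.S0913
import Cfsg.Agent.Lib_helper8_Cover
import Cfsg.Agent.Lib_helper24_DefectTrace
import Cfsg.Agent.Lib_helper23_Central

set_option autoImplicit false
set_option linter.style.haveILetI false
set_option linter.unusedVariables false

universe u

open Cfsg Cfsg.Agent.helper24

namespace Cfsg.Agent.helper8.DefectCount

variable {G : Type u} [Group G] [Fintype G] {p : ℕ} [Fact p.Prime] {M : Ideal AlgInt}

/-- the key consequence of the min-max theorem: a class on which both the idempotent coefficient of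
`B` and the central character of `B'` are units is `p`-regular of defect between those of `B'`
and `B`. -/
theorem key (hM : IsPModular p M) {B B' : Set (IrrCharacter G)} (hB : IsPBlock M B)
    (hB' : IsPBlock M B') {χ' : IrrCharacter G} (hχ' : χ' ∈ B') (g : G)
    (h : ¬ MemLocalIdeal M (blockCoeff B g * centralChar (χ' : G → ℂ) g)) :
    ¬ p ∣ orderOf g ∧
      blockDefect p B' ≤ (Nat.card (Subgroup.centralizer ({g} : Set G))).factorization p ∧
      (Nat.card (Subgroup.centralizer ({g} : Set G))).factorization p ≤ blockDefect p B := by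
  classical
  haveI hMp : M.IsPrime := hM.2.1.isPrime
  have hp : p.Prime := Fact.out
  have ha : MemLocalRing M (blockCoeff B g) := Cfsg.Agent.S0913.result p M hM B hB g
  have hw : MemLocalRing M (centralChar (χ' : G → ℂ) g) :=
    memLocalRing_of_integral hMp.ne_top (Cfsg.Agent.helper23.irr_centralChar_isIntegral χ' g)
  have ha' : ¬ MemLocalIdeal M (blockCoeff B g) := fun h1 =>
    h (by rw [mul_comm]; exact memLocalIdeal_mul_left hw h1)
  have hw' : ¬ MemLocalIdeal M (centralChar (χ' : G → ℂ) g) := fun h1 =>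
    h (memLocalIdeal_mul_left ha h1)
  refine ⟨?_, ?_, ?_⟩
  · intro hpg
    obtain ⟨χ₀, rfl⟩ := hB
    rw [Cfsg.Agent.helper8.Cover.blockCoeff_eq_zero hM χ₀ hpg] at ha'
    exact ha' (memLocalIdeal_zero hMp.ne_top)
  · obtain ⟨g', hg'⟩ := exists_defectClass p M hM B' hB'
    obtain ⟨D⟩ : Nonempty (Sylow p (Subgroup.centralizer ({g'} : Set G))) := inferInstance
    obtain ⟨x, Q, hle⟩ := (Cfsg.Agent.S0911.result p M hM B' hB' g' hg' D g).2 ⟨χ', hχ', hw'⟩
    have hDcard := Cfsg.Agent.S0908.result p M hM B' hB' _ ⟨g', hg', D, rfl⟩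
    have h1 := Subgroup.card_le_of_le hle
    rw [Subgroup.card_map_of_injective (f := (MulAut.conj x).toMonoidHom) (MulAut.conj x).injective, hDcard,
      Subgroup.card_map_of_injective (Subgroup.subtype_injective _), Q.card_eq_multiplicity] at h1
    exact (Nat.pow_le_pow_iff_right hp.one_lt).mp h1
  · obtain ⟨g', hg'⟩ := exists_defectClass p M hM B hB
    obtain ⟨D⟩ : Nonempty (Sylow p (Subgroup.centralizer ({g'} : Set G))) := inferInstance
    obtain ⟨x, Q, hle⟩ := (Cfsg.Agent.S0911.result p M hM B hB g' hg' D g).1 ha ha'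
    have hDcard := Cfsg.Agent.S0908.result p M hM B hB _ ⟨g', hg', D, rfl⟩
    have h1 := Subgroup.card_le_of_le hle
    rw [Subgroup.card_map_of_injective (f := (MulAut.conj x).toMonoidHom) (MulAut.conj x).injective, hDcard,
      Subgroup.card_map_of_injective (Subgroup.subtype_injective _), Q.card_eq_multiplicity] at h1
    exact (Nat.pow_le_pow_iff_right hp.one_lt).mp h1

omit [Fintype G] [Fact p.Prime] in
/-- a complex matrix congruent to the identity modulo the local ideal is invertible -/
theorem det_ne_zero {ι : Type*} [Fintype ι] [DecidableEq ι] [hMp : M.IsPrime] (C : Matrix ι ι ℂ)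
    (hC : ∀ i j, MemLocalIdeal M (C i j - if i = j then 1 else 0)) : C.det ≠ 0 := by
  classical
  have hloc : ∀ i j, MemLocalRing M (C i j) := by
    intro i j
    have h1 := memLocalRing_of_memLocalIdeal (hC i j)
    have h2 : MemLocalRing M (if i = j then (1 : ℂ) else 0) := by
      split_ifs
      · exact memLocalRing_one hMp.ne_top
      · exact memLocalRing_zero hMp.ne_top
    have := memLocalRing_add h1 h2
    rwa [sub_add_cancel] at this
  have hoff : ∀ i j, i ≠ j → MemLocalIdeal M (C i j) := by
    intro i j hij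
    have := hC i j
    rwa [if_neg hij, sub_zero] at this
  have hdiagS : ∀ s : Finset ι, MemLocalIdeal M (∏ i ∈ s, C i i - 1) := by
    intro s
    induction s using Finset.induction_on with
    | empty => rw [Finset.prod_empty, sub_self]; exact memLocalIdeal_zero hMp.ne_top
    | insert a s ha ih =>
      rw [Finset.prod_insert ha]
      have e : C a a * ∏ i ∈ s, C i i - 1 = C a a * (∏ i ∈ s, C i i - 1) + (C a a - 1) := by ring
      rw [e]
      have h2 := hC a a
      rw [if_pos rfl] at h2
      exact memLocalIdeal_add (memLocalIdeal_mul_left (hloc a a) ih) h2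
  have hdet : MemLocalIdeal M (C.det - 1) := by
    rw [Matrix.det_apply, ← Finset.add_sum_erase _ _ (Finset.mem_univ (1 : Equiv.Perm ι))]
    have e1 : Equiv.Perm.sign (1 : Equiv.Perm ι) • ∏ i, C ((1 : Equiv.Perm ι) i) i = ∏ i, C i i := by
      rw [Equiv.Perm.sign_one, one_smul]
      rfl
    rw [e1, add_sub_right_comm]
    refine memLocalIdeal_add (hdiagS Finset.univ) (memLocalIdeal_sum _ _ (fun σ hσ => ?_))
    have hσ1 : σ ≠ 1 := Finset.ne_of_mem_erase hσ
    obtain ⟨i₀, hi₀⟩ : ∃ i₀, σ i₀ ≠ i₀ := by
      by_contra hcon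
      push Not at hcon
      exact hσ1 (Equiv.ext hcon)
    have hprod : MemLocalIdeal M (∏ i, C (σ i) i) := by
      rw [← Finset.mul_prod_erase _ _ (Finset.mem_univ i₀), mul_comm]
      exact memLocalIdeal_mul_left (memLocalRing_prod _ _ (fun i _ => hloc _ _)) (hoff _ _ hi₀)
    rcases Int.units_eq_one_or (Equiv.Perm.sign σ) with h | h
    · rw [h, one_smul]; exact hprod
    · rw [h, Units.neg_smul, one_smul]; exact memLocalIdeal_neg hprod
  intro h0
  rw [h0, zero_sub] at hdet
  have := memLocalIdeal_neg hdet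
  rw [neg_neg] at this
  exact not_memLocalIdeal_one this

omit [Fact p.Prime] in
theorem blockOf_eq_of_mem [hMp : M.IsPrime] {χ χ₁ : IrrCharacter G}
    (h : χ ∈ blockOf M (χ₁ : G → ℂ)) : blockOf M (χ : G → ℂ) = blockOf M (χ₁ : G → ℂ) := by
  ext ψ
  constructor
  · intro hψ
    exact sameBlock_trans h hψ
  · intro hψ
    exact sameBlock_trans (sameBlock_symm h) hψ

open Classical in
/-- the counting principle -/
theorem count_le (hM : IsPModular p M) (PB : Set (IrrCharacter G) → Prop) (PK : G → Prop)
    (hkey : ∀ B B' : Set (IrrCharacter G), IsPBlock M B → PB B → IsPBlock M B' → PB B' →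
      ∀ χ' ∈ B', ∀ g : G,
        ¬ MemLocalIdeal M (blockCoeff B g * centralChar (χ' : G → ℂ) g) → PK g) :
    Nat.card {B : Set (IrrCharacter G) // IsPBlock M B ∧ PB B} ≤
      Nat.card {C : ConjClasses G // ∃ g : G, ConjClasses.mk g = C ∧ PK g} := by
  classical
  haveI hMp : M.IsPrime := hM.2.1.isPrime
  haveI : Fintype (IrrCharacter G) := Fintype.ofFinite _
  haveI : Fintype {B : Set (IrrCharacter G) // IsPBlock M B ∧ PB B} := Fintype.ofFinite _
  rw [Nat.card_eq_fintype_card, Nat.card_eq_fintype_card]
  by_contra hlt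
  push Not at hlt
  -- representatives
  have hrep : ∀ B : {B : Set (IrrCharacter G) // IsPBlock M B ∧ PB B},
      ∃ χ : IrrCharacter G, B.1 = blockOf M (χ : G → ℂ) := fun B => B.2.1
  choose rep hrepB using hrep
  have hrepmem : ∀ B, rep B ∈ B.1 := by
    intro B
    have := sameBlock_refl M hMp.ne_top ((rep B : IrrCharacter G) : G → ℂ)
    rw [hrepB B]
    exact this
  let A : Matrix {B : Set (IrrCharacter G) // IsPBlock M B ∧ PB B}
      {C : ConjClasses G // ∃ g : G, ConjClasses.mk g = C ∧ PK g} ℂ :=
    fun B K => blockCoeff B.1 (Quotient.out K.1)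
  let W : Matrix {C : ConjClasses G // ∃ g : G, ConjClasses.mk g = C ∧ PK g}
      {B : Set (IrrCharacter G) // IsPBlock M B ∧ PB B} ℂ :=
    fun K B' => centralChar ((rep B' : IrrCharacter G) : G → ℂ) (Quotient.out K.1)
  have hC : ∀ B B', MemLocalIdeal M ((A * W) B B' - if B = B' then 1 else 0) := by
    intro B B'
    have hcf : IsClassFunction G (blockCoeff B.1) := by
      obtain ⟨χ₀, h0⟩ := B.2.1
      rw [h0]
      exact (blockCoeff_props (M := M) χ₀).1
    have h1 := omegaFn_blockCoeff B.1 (rep B')
    rw [omegaFn_eq_sum_classes (irr_isCharacter (rep B').2) hcf] at h1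
    have hind : (if rep B' ∈ B.1 then (1 : ℂ) else 0) = if B = B' then 1 else 0 := by
      by_cases hBB : B = B'
      · rw [if_pos hBB, if_pos (hBB ▸ hrepmem B')]
      · rw [if_neg hBB, if_neg]
        intro hmem
        apply hBB
        apply Subtype.ext
        rw [hrepB B'] 
        rw [hrepB B] at hmem ⊢
        exact (blockOf_eq_of_mem hmem).symm
    rw [hind] at h1
    have hsplit := Fintype.sum_subtype_add_sum_subtype
      (fun C : ConjClasses G => ∃ g : G, ConjClasses.mk g = C ∧ PK g)
      (fun C => blockCoeff B.1 (Quotient.out C) *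
        centralChar ((rep B' : IrrCharacter G) : G → ℂ) (Quotient.out C))
    have e : (A * W) B B' = ∑ K : {C : ConjClasses G // ∃ g : G, ConjClasses.mk g = C ∧ PK g},
        blockCoeff B.1 (Quotient.out K.1) *
          centralChar ((rep B' : IrrCharacter G) : G → ℂ) (Quotient.out K.1) := by
      rw [Matrix.mul_apply]
    have e2 : (A * W) B B' - (if B = B' then (1 : ℂ) else 0) =
        -(∑ C : {C : ConjClasses G // ¬ ∃ g : G, ConjClasses.mk g = C ∧ PK g},
          blockCoeff B.1 (Quotient.out C.1) *
            centralChar ((rep B' : IrrCharacter G) : G → ℂ) (Quotient.out C.1)) := by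
      rw [e, ← h1, ← hsplit]
      ring
    rw [e2]
    refine memLocalIdeal_neg (memLocalIdeal_sum _ _ (fun C _ => ?_))
    by_contra hnot
    apply C.2
    exact ⟨Quotient.out C.1, Quotient.out_eq C.1,
      hkey B.1 B'.1 B.2.1 B.2.2 B'.2.1 B'.2.2 (rep B') (hrepmem B') _ hnot⟩
  have hdet := det_ne_zero (M := M) (A * W) hC
  have hunit : IsUnit (A * W) := (Matrix.isUnit_iff_isUnit_det _).mpr (isUnit_iff_ne_zero.mpr hdet)
  have hrank := Matrix.rank_of_isUnit (A * W) hunit
  have h1 := Matrix.rank_mul_le_left A W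
  have h2 := Matrix.rank_le_card_width A
  omega

end Cfsg.Agent.helper8.DefectCount
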