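import Mathlib
import Cfsg.Agent.Lib_helper24_Sep1
import Cfsg.Agent.Lib_helper24_Kuls
import Cfsg.Agent.Lib_helper24_MinMax
import Cfsg.Agent.Lib_helper24_Fong1
import Cfsg.Agent.Lib_helper24_DefectOrder
import Cfsg.Agent.Lib_helper8_DefectCount

/-!
# Blocks with a given defect group from `p`-separated classes
-/

set_option autoImplicit false

namespace Cfsg.Agent.helper24

open Cfsg Cfsg.Agent.helper5 Cfsg.Agent.helper8
open scoped ComplexConjugate

universe u

section Sep

variable {G : Type u} [Group G] [Fintype G] {M : Ideal AlgInt} {p : ℕ} [Fact p.Prime]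

omit [Fact p.Prime] in
/-- the value of a character in terms of its central character -/
theorem char_value_ratio (χ : IrrCharacter G) (g : G) (k t m : ℕ) (hm : m ≠ 0) (hp0 : p ≠ 0)
    (hdeg : charDegree (χ : G → ℂ) = p ^ k * t)
    (hN : (Subgroup.centralizer ({g} : Set G)).index = p ^ k * m) :
    (χ : G → ℂ) g = (t : ℂ) * centralChar (χ : G → ℂ) g * (m : ℂ)⁻¹ := by
  have h1 : (χ : G → ℂ) 1 = ((p ^ k * t : ℕ) : ℂ) := by
    rw [← hdeg, char_charDegree_cast (irr_isCharacter χ.2)]
  have h10 := irr_apply_one_ne_zero χ.2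
  unfold centralChar
  rw [hN, h1]
  have hpk : ((p : ℂ) ^ k) ≠ 0 := pow_ne_zero _ (by exact_mod_cast hp0)
  have hm' : (m : ℂ) ≠ 0 := by exact_mod_cast hm
  have ht : (t : ℂ) ≠ 0 := by
    intro h
    apply h10
    rw [h1]
    push_cast
    rw [h, mul_zero]
  push_cast
  field_simp

/-- the `p`-part of a class size -/
theorem index_centralizer_factorization (hp : p.Prime) (g : G) :
    (Subgroup.centralizer ({g} : Set G)).index.factorization p +
      (Nat.card (Subgroup.centralizer ({g} : Set G))).factorization p
      = (Nat.card G).factorization p := by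
  have h1 := (Subgroup.centralizer ({g} : Set G)).card_mul_index
  have h2 : (Subgroup.centralizer ({g} : Set G)).index ≠ 0 := Subgroup.index_ne_zero_of_finite
  have h3 : Nat.card (Subgroup.centralizer ({g} : Set G)) ≠ 0 := Nat.card_pos.ne'
  rw [← h1, Nat.factorization_mul h3 h2]
  simp only [Finsupp.coe_add, Pi.add_apply]
  omega

/-- a character of large degree vanishes modulo the local ideal on a class of small size -/
theorem val_memLocalIdeal (hM : IsPModular p M) (χ : IrrCharacter G) (g : G)
    (h : (Subgroup.centralizer ({g} : Set G)).index.factorization p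
      < (charDegree (χ : G → ℂ)).factorization p) :
    MemLocalIdeal M ((χ : G → ℂ) g) := by
  have hpp : p.Prime := Fact.out
  have hMp : M.IsPrime := hM.2.1.isPrime
  have hMtop := hMp.ne_top
  obtain ⟨N, hN⟩ : ∃ N : ℕ, N = (Subgroup.centralizer ({g} : Set G)).index := ⟨_, rfl⟩
  have hN0 : N ≠ 0 := by
    rw [hN]
    exact Subgroup.index_ne_zero_of_finite
  obtain ⟨k, hk⟩ : ∃ k : ℕ, k = N.factorization p := ⟨_, rfl⟩
  obtain ⟨m, hm⟩ : ∃ m : ℕ, m = N / p ^ k := ⟨_, rfl⟩
  have hNm : N = p ^ k * m := by
    rw [hm, hk]
    exact (Nat.ordProj_mul_ordCompl_eq_self N p).symm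
  have hmp : ¬ p ∣ m := by
    rw [hm, hk]
    exact Nat.not_dvd_ordCompl hpp hN0
  have hm0 : m ≠ 0 := fun h0 => hmp (by rw [h0]; exact dvd_zero p)
  rw [← hN, ← hk] at h
  have hdvd : p ^ (k + 1) ∣ charDegree (χ : G → ℂ) :=
    (pow_dvd_pow p h).trans (Nat.ordProj_dvd _ p)
  obtain ⟨t, ht⟩ := hdvd
  have ht' : charDegree (χ : G → ℂ) = p ^ k * (p * t) := by
    rw [ht, pow_succ]
    ring
  rw [char_value_ratio χ g k (p * t) m hm0 hpp.ne_zero ht' (by rw [← hN, hNm])]
  have e : ((p * t : ℕ) : ℂ) * centralChar (χ : G → ℂ) g * (m : ℂ)⁻¹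
      = ((t : ℂ) * centralChar (χ : G → ℂ) g * (m : ℂ)⁻¹) * (p : ℂ) := by
    push_cast
    ring
  rw [e]
  apply memLocalIdeal_mul_left _ (prime_memLocalIdeal hM)
  apply memLocalRing_mul
  · apply memLocalRing_mul
    · exact memLocalRing_of_integral hMtop (isIntegral_natCast _)
    · exact memLocalRing_of_integral hMtop (helper23.irr_centralChar_isIntegral χ g)
  · exact memLocalRing_inv (memLocalRing_of_integral hMtop (isIntegral_natCast _))
      (natCast_not_memLocalIdeal hM hmp)

/-- the order of the image of a Sylow subgroup of a centralizer -/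
theorem card_sylow_centralizer_map (g : G) (S : Sylow p (Subgroup.centralizer ({g} : Set G))) :
    Nat.card ((S : Subgroup (Subgroup.centralizer ({g} : Set G))).map
      (Subgroup.centralizer ({g} : Set G)).subtype)
      = p ^ (Nat.card (Subgroup.centralizer ({g} : Set G))).factorization p := by
  rw [Subgroup.card_map_of_injective (Subgroup.subtype_injective _), S.card_eq_multiplicity]

/-- terms of characters outside the blocks with defect group `D` are negligible -/
theorem sep_small_term (hM : IsPModular p M) (D : Subgroup G) (xi xj : G)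
    (hDi : ∃ S : Sylow p (Subgroup.centralizer ({xi} : Set G)),
      (S : Subgroup (Subgroup.centralizer ({xi} : Set G))).map
        (Subgroup.centralizer ({xi} : Set G)).subtype = D)
    (hDj : ∃ S : Sylow p (Subgroup.centralizer ({xj} : Set G)),
      (S : Subgroup (Subgroup.centralizer ({xj} : Set G))).map
        (Subgroup.centralizer ({xj} : Set G)).subtype = D)
    (χ : IrrCharacter G) (hχ : ¬ IsDefectGroup p M (blockOf M (χ : G → ℂ)) D) :
    MemLocalIdeal M (centralChar (χ : G → ℂ) xj * conj ((χ : G → ℂ) xi)) := by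
  classical
  have hpp : p.Prime := Fact.out
  have hMp : M.IsPrime := hM.2.1.isPrime
  have hMtop := hMp.ne_top
  by_cases hω : MemLocalIdeal M (centralChar (χ : G → ℂ) xj)
  · rw [mul_comm]
    exact memLocalIdeal_mul_integral hω
      (isIntegral_conj (char_isIntegral (irr_isCharacter χ.2) xi))
  · obtain ⟨B, hBdef⟩ : ∃ B : Set (IrrCharacter G), B = blockOf M (χ : G → ℂ) := ⟨_, rfl⟩
    have hB : IsPBlock M B := ⟨χ, hBdef⟩
    have hχB : χ ∈ B := by
      rw [hBdef]
      exact sameBlock_refl M hMtop _
    obtain ⟨g, hg⟩ := exists_defectClass p M hM B hB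
    obtain ⟨DB⟩ : Nonempty (Sylow p (Subgroup.centralizer ({g} : Set G))) := inferInstance
    obtain ⟨x', Q, hQ⟩ := minmax_b p M hM B hB g hg DB xj ⟨χ, hχB, hω⟩
    obtain ⟨Sj, hSj⟩ := hDj
    obtain ⟨Si, hSi⟩ := hDi
    have hcDB := card_sylow_centralizer_map g DB
    have hcQ := card_sylow_centralizer_map xj Q
    have hcSj := card_sylow_centralizer_map xj Sj
    have hcSi := card_sylow_centralizer_map xi Si
    rw [hSj] at hcSj
    rw [hSi] at hcSi
    obtain ⟨dB, hdB⟩ : ∃ dB : ℕ,
      dB = (Nat.card (Subgroup.centralizer ({g} : Set G))).factorization p := ⟨_, rfl⟩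
    obtain ⟨d, hd⟩ : ∃ d : ℕ,
      d = (Nat.card (Subgroup.centralizer ({xj} : Set G))).factorization p := ⟨_, rfl⟩
    have hdi : (Nat.card (Subgroup.centralizer ({xi} : Set G))).factorization p = d := by
      rw [hd]
      apply Nat.pow_right_injective hpp.two_le
      show p ^ _ = p ^ _
      rw [← hcSi, ← hcSj]
    rw [← hdB] at hcDB
    rw [← hd] at hcQ hcSj
    have hinj : Function.Injective (MulAut.conj x').toMonoidHom := (MulAut.conj x').injective
    have hle : dB ≤ d := by
      have h1 := Subgroup.card_le_of_le hQ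
      rw [Subgroup.card_map_of_injective hinj, hcDB, hcQ] at h1
      exact (Nat.pow_le_pow_iff_right hpp.one_lt).1 h1
    have hlt : dB < d := by
      rcases Nat.lt_or_ge dB d with h | h
      · exact h
      · exfalso
        have hdd : dB = d := le_antisymm hle h
        apply hχ
        rw [← hBdef]
        have hDB : IsDefectGroup p M B ((DB : Subgroup (Subgroup.centralizer ({g} : Set G))).map
            (Subgroup.centralizer ({g} : Set G)).subtype) := ⟨g, hg, DB, rfl⟩
        have h1 := isDefectGroup_conj p M B hDB x'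
        have heq1 : ((DB : Subgroup (Subgroup.centralizer ({g} : Set G))).map
            (Subgroup.centralizer ({g} : Set G)).subtype).map (MulAut.conj x').toMonoidHom
            = (Q : Subgroup (Subgroup.centralizer ({xj} : Set G))).map
              (Subgroup.centralizer ({xj} : Set G)).subtype := by
          apply Subgroup.eq_of_le_of_card_ge hQ
          rw [Subgroup.card_map_of_injective hinj, hcDB, hcQ, hdd]
        rw [heq1] at h1
        obtain ⟨c, hc⟩ := sylow_centralizer_conj xj Q Sj
        have hinjc : Function.Injective (MulAut.conj c).toMonoidHom := (MulAut.conj c).injective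
        have heq2 : (Sj : Subgroup (Subgroup.centralizer ({xj} : Set G))).map
            (Subgroup.centralizer ({xj} : Set G)).subtype
            = ((Q : Subgroup (Subgroup.centralizer ({xj} : Set G))).map
              (Subgroup.centralizer ({xj} : Set G)).subtype).map (MulAut.conj c).toMonoidHom := by
          apply Subgroup.eq_of_le_of_card_ge hc
          rw [Subgroup.card_map_of_injective hinjc, hcQ, hSj, hcSj]
        have h2 := isDefectGroup_conj p M B h1 c
        rw [← heq2, hSj] at h2
        exact h2
    -- now the defect of `B` is smaller than `d`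
    have h3 := defectClass_factorization p M hM χ g (by rw [← hBdef]; exact hg)
    rw [← hdB, ← hBdef] at h3
    have h4 : sInf ((fun ψ : IrrCharacter G => (charDegree (ψ : G → ℂ)).factorization p) '' B)
        ≤ (charDegree (χ : G → ℂ)).factorization p := Nat.sInf_le ⟨χ, hχB, rfl⟩
    have h5 := index_centralizer_factorization hpp xi
    rw [hdi] at h5
    have h6 : (Subgroup.centralizer ({xi⁻¹} : Set G)).index.factorization p
        < (charDegree (χ : G → ℂ)).factorization p := by
      rw [centralizer_inv_eq]
      omega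
    have h7 := val_memLocalIdeal hM χ xi⁻¹ h6
    rw [char_inv (irr_isCharacter χ.2)] at h7
    exact memLocalIdeal_mul_integral h7 (helper23.irr_centralChar_isIntegral χ xj)

end Sep

end Cfsg.Agent.helper24
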