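import Mathlib
import Cfsg.Agent.Lib_helper24_Sep2

/-!
# Blocks with a given defect group from `p`-separated classes: the main theorem
-/

set_option autoImplicit false

namespace Cfsg.Agent.helper24

open Cfsg Cfsg.Agent.helper5 Cfsg.Agent.helper8
open scoped ComplexConjugate

universe u

section Sep

variable {G : Type u} [Group G] [Fintype G] {M : Ideal AlgInt} {p : ℕ} [Fact p.Prime]

open Classical in
/-- the orthogonality-type identity for separated classes -/
theorem sep_identity [Fintype (IrrCharacter G)] {r : ℕ} (x : Fin r → G)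
    (hx : ∀ i j : Fin r, IsConj (x i) (x j) → i = j)
    (hsep : ∀ i j : Fin r, ∀ g h : G, IsConj (x i) g → IsConj (x j) h → ∀ k : ℕ, 0 < k →
      orderOf (g * h⁻¹) ≠ p ^ k) (i j : Fin r) :
    ∑ χ : IrrCharacter G, ((Nat.card G : ℂ)⁻¹ * ∑ y : G, pInd G p y * (χ : G → ℂ) y) *
      centralChar (χ : G → ℂ) (x j) * conj ((χ : G → ℂ) (x i))
      = (1 : Matrix (Fin r) (Fin r) ℂ) j i := by
  have hpp : p.Prime := Fact.out
  obtain ⟨u, hu⟩ : ∃ u : G → ℂ, u = cconv (pInd G p) (classInd (x j)) := ⟨_, rfl⟩
  have hucf : IsClassFunction G u := by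
    rw [hu]
    exact cconv_isClassFunction (pInd_isClassFunction p) (classInd_isClassFunction _)
  have h1 := classFunction_eq_sum_omega hucf (x i)
  have hval : u (x i) = (1 : Matrix (Fin r) (Fin r) ℂ) j i := by
    rw [hu]
    unfold cconv
    rw [Finset.sum_eq_single (1 : G)]
    · rw [pInd_one, one_mul, inv_one, one_mul]
      unfold classInd
      by_cases hji : j = i
      · subst hji
        rw [if_pos (IsConj.refl _), Matrix.one_apply_eq]
      · rw [if_neg (fun hc => hji (hx j i hc)), Matrix.one_apply_ne hji]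
    · intro y _ hy1
      unfold pInd classInd
      by_cases hy : ∃ k : ℕ, orderOf y = p ^ k
      · by_cases hc : IsConj (x j) (y⁻¹ * x i)
        · exfalso
          obtain ⟨k, hk⟩ := hy
          have hk0 : 0 < k := by
            rcases Nat.eq_zero_or_pos k with h0 | h0
            · rw [h0, pow_zero, orderOf_eq_one_iff] at hk
              exact absurd hk hy1
            · exact h0
          apply hsep i j (x i) (y⁻¹ * x i) (IsConj.refl _) hc k hk0
          have e : x i * (y⁻¹ * x i)⁻¹ = y := by group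
          rw [e, hk]
        · rw [if_neg hc, mul_zero]
      · rw [if_neg hy, zero_mul]
    · intro h
      exact absurd (Finset.mem_univ _) h
  rw [← hval, h1, Finset.mul_sum]
  refine Finset.sum_congr rfl (fun χ _ => ?_)
  rw [hu, omegaFn_cconv χ.2 _ (classInd_isClassFunction _),
    omegaFn_classInd (irr_isCharacter χ.2)]
  unfold omegaFn
  have h10 := irr_apply_one_ne_zero χ.2
  field_simp

set_option maxHeartbeats 1600000 in
/-- **blocks with a given defect group from `p`-separated classes** -/
theorem sep_main (hM : IsPModular p M) (D : Subgroup G) {r : ℕ} (x : Fin r → G)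
    (hx : ∀ i j : Fin r, IsConj (x i) (x j) → i = j)
    (hD : ∀ i : Fin r, ∃ S : Sylow p (Subgroup.centralizer ({x i} : Set G)),
      (S : Subgroup (Subgroup.centralizer ({x i} : Set G))).map
        (Subgroup.centralizer ({x i} : Set G)).subtype = D)
    (hsep : ∀ i j : Fin r, ∀ g h : G, IsConj (x i) g → IsConj (x j) h → ∀ k : ℕ, 0 < k →
      orderOf (g * h⁻¹) ≠ p ^ k) :
    ∃ B : Fin r → Set (IrrCharacter G), Function.Injective B ∧
      (∀ i : Fin r, IsPBlock M (B i) ∧ IsDefectGroup p M (B i) D) ∧
      ∀ χ : Fin r → IrrCharacter G,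
        (∀ i : Fin r, χ i ∈ B i ∧ blockHeight p (B i) (χ i : G → ℂ) = 0) →
        ¬ MemLocalIdeal M (Matrix.det (Matrix.of fun i j : Fin r => (χ i : G → ℂ) (x j))) := by
  classical
  have hpp : p.Prime := Fact.out
  have hMp : M.IsPrime := hM.2.1.isPrime
  have hMtop := hMp.ne_top
  have := Fintype.ofFinite (IrrCharacter G)
  obtain ⟨κ, hκ⟩ : ∃ κ : Type u,
    κ = {B : Set (IrrCharacter G) // IsPBlock M B ∧ IsDefectGroup p M B D} := ⟨_, rfl⟩
  subst hκ
  have hfinκ : Fintype {B : Set (IrrCharacter G) // IsPBlock M B ∧ IsDefectGroup p M B D} :=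
    Fintype.ofFinite _
  obtain ⟨rep, hrep⟩ : ∃ rep : {B : Set (IrrCharacter G) //
      IsPBlock M B ∧ IsDefectGroup p M B D} → IrrCharacter G,
      ∀ B, B.1 = blockOf M (rep B : G → ℂ) :=
    ⟨fun B => B.2.1.choose, fun B => B.2.1.choose_spec⟩
  obtain ⟨io, hio⟩ : ∃ io : IrrCharacter G → ℂ, ∀ χ : IrrCharacter G, io χ =
    (Nat.card G : ℂ)⁻¹ * ∑ y : G, pInd G p y * (χ : G → ℂ) y := ⟨_, fun _ => rfl⟩
  have hioloc : ∀ χ, MemLocalRing M (io χ) := by
    intro χ
    rw [hio]
    exact pInd_inner_memLocalRing p hM χ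
  have hωloc : ∀ (χ : IrrCharacter G) (g : G), MemLocalRing M (centralChar (χ : G → ℂ) g) :=
    fun χ g => memLocalRing_of_integral hMtop (helper23.irr_centralChar_isIntegral χ g)
  have hconjint : ∀ (χ : IrrCharacter G) (g : G), IsIntegral ℤ (conj ((χ : G → ℂ) g)) :=
    fun χ g => isIntegral_conj (char_isIntegral (irr_isCharacter χ.2) g)
  have hconjloc : ∀ (χ : IrrCharacter G) (g : G), MemLocalRing M (conj ((χ : G → ℂ) g)) :=
    fun χ g => memLocalRing_of_integral hMtop (hconjint χ g)
  -- membership in a block of `κ`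
  have hmemκ : ∀ (B : {B : Set (IrrCharacter G) // IsPBlock M B ∧ IsDefectGroup p M B D})
      (χ : IrrCharacter G), χ ∈ B.1 → B.1 = blockOf M (χ : G → ℂ) := by
    intro B χ hχ
    exact (blockOf_eq_of_mem B.2.1 hχ).symm
  obtain ⟨Om, hOm⟩ : ∃ Om : Fin r → {B : Set (IrrCharacter G) //
      IsPBlock M B ∧ IsDefectGroup p M B D} → ℂ,
      Om = fun j B => centralChar (rep B : G → ℂ) (x j) := ⟨_, rfl⟩
  obtain ⟨Pm, hPm⟩ : ∃ Pm : {B : Set (IrrCharacter G) //
      IsPBlock M B ∧ IsDefectGroup p M B D} → Fin r → ℂ,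
      Pm = fun B i => ∑ χ ∈ Finset.univ.filter (fun χ : IrrCharacter G => χ ∈ B.1),
        io χ * conj ((χ : G → ℂ) (x i)) := ⟨_, rfl⟩
  have hOmloc : ∀ j B, MemLocalRing M (Om j B) := by
    intro j B
    rw [hOm]
    exact hωloc _ _
  have hPmloc : ∀ B i, MemLocalRing M (Pm B i) := by
    intro B i
    rw [hPm]
    apply memLocalRing_sum
    intro χ _
    exact memLocalRing_mul (hioloc χ) (hconjloc χ _)
  have hfact : ∀ j i, MemLocalIdeal M (∑ B, Om j B * Pm B i
      - (1 : Matrix (Fin r) (Fin r) ℂ) j i) := by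
    intro j i
    have hid := sep_identity (p := p) x hx hsep i j
    obtain ⟨T, hT⟩ : ∃ T : IrrCharacter G → ℂ, ∀ χ : IrrCharacter G, T χ =
      io χ * centralChar (χ : G → ℂ) (x j) * conj ((χ : G → ℂ) (x i)) := ⟨_, fun _ => rfl⟩
    have hid' : ∑ χ : IrrCharacter G, T χ = (1 : Matrix (Fin r) (Fin r) ℂ) j i := by
      rw [← hid]
      refine Finset.sum_congr rfl (fun χ _ => ?_)
      rw [hT, hio]
    rw [← hid']
    -- first replace the representatives
    have ha : MemLocalIdeal M (∑ B, Om j B * Pm B i -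
        ∑ B : {B : Set (IrrCharacter G) // IsPBlock M B ∧ IsDefectGroup p M B D},
          ∑ χ ∈ Finset.univ.filter (fun χ : IrrCharacter G => χ ∈ B.1), T χ) := by
      rw [← Finset.sum_sub_distrib]
      apply memLocalIdeal_sum
      intro B _
      rw [hPm, hOm]
      show MemLocalIdeal M (centralChar (rep B : G → ℂ) (x j) *
        ∑ χ ∈ Finset.univ.filter (fun χ : IrrCharacter G => χ ∈ B.1),
          io χ * conj ((χ : G → ℂ) (x i)) -
        ∑ χ ∈ Finset.univ.filter (fun χ : IrrCharacter G => χ ∈ B.1), T χ)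
      rw [Finset.mul_sum, ← Finset.sum_sub_distrib]
      apply memLocalIdeal_sum
      intro χ hχ
      have hχB : χ ∈ B.1 := (Finset.mem_filter.1 hχ).2
      rw [hrep B] at hχB
      have hsb : MemLocalIdeal M (centralChar (rep B : G → ℂ) (x j)
          - centralChar (χ : G → ℂ) (x j)) := hχB (x j)
      rw [hT]
      have e : centralChar (rep B : G → ℂ) (x j) * (io χ * conj ((χ : G → ℂ) (x i))) -
          io χ * centralChar (χ : G → ℂ) (x j) * conj ((χ : G → ℂ) (x i))
          = (io χ * conj ((χ : G → ℂ) (x i))) * (centralChar (rep B : G → ℂ) (x j)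
          - centralChar (χ : G → ℂ) (x j)) := by ring
      rw [e]
      exact memLocalIdeal_mul_left (memLocalRing_mul (hioloc χ) (hconjloc χ _)) hsb
    -- then compare with the full sum
    have hb : MemLocalIdeal M (∑ B : {B : Set (IrrCharacter G) //
        IsPBlock M B ∧ IsDefectGroup p M B D},
          ∑ χ ∈ Finset.univ.filter (fun χ : IrrCharacter G => χ ∈ B.1), T χ
        - ∑ χ : IrrCharacter G, T χ) := by
      have e1 : ∑ B : {B : Set (IrrCharacter G) // IsPBlock M B ∧ IsDefectGroup p M B D},
          ∑ χ ∈ Finset.univ.filter (fun χ : IrrCharacter G => χ ∈ B.1), T χ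
          = ∑ χ : IrrCharacter G,
            (if IsDefectGroup p M (blockOf M (χ : G → ℂ)) D then T χ else 0) := by
        simp_rw [Finset.sum_filter]
        rw [Finset.sum_comm]
        refine Finset.sum_congr rfl (fun χ _ => ?_)
        by_cases hgood : IsDefectGroup p M (blockOf M (χ : G → ℂ)) D
        · rw [if_pos hgood]
          rw [Finset.sum_eq_single (⟨blockOf M (χ : G → ℂ),
            (show IsPBlock M (blockOf M (χ : G → ℂ)) from ⟨χ, rfl⟩), hgood⟩ :
            {B : Set (IrrCharacter G) // IsPBlock M B ∧ IsDefectGroup p M B D})]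
          · rw [if_pos (show χ ∈ blockOf M (χ : G → ℂ) from sameBlock_refl M hMtop _)]
          · intro B _ hB
            rw [if_neg]
            intro hχB
            apply hB
            apply Subtype.ext
            exact hmemκ B χ hχB
          · intro h
            exact absurd (Finset.mem_univ _) h
        · rw [if_neg hgood]
          apply Finset.sum_eq_zero
          intro B _
          rw [if_neg]
          intro hχB
          apply hgood
          rw [← hmemκ B χ hχB]
          exact B.2.2
      rw [e1, ← Finset.sum_sub_distrib]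
      apply memLocalIdeal_sum
      intro χ _
      by_cases hgood : IsDefectGroup p M (blockOf M (χ : G → ℂ)) D
      · rw [if_pos hgood, sub_self]
        exact memLocalIdeal_zero hMtop
      · rw [if_neg hgood, zero_sub, hT]
        apply memLocalIdeal_neg
        have h1 := sep_small_term hM D (x i) (x j) (hD i) (hD j) χ hgood
        have e : io χ * centralChar (χ : G → ℂ) (x j) * conj ((χ : G → ℂ) (x i))
            = io χ * (centralChar (χ : G → ℂ) (x j) * conj ((χ : G → ℂ) (x i))) := by ring
        rw [e]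
        exact memLocalIdeal_mul_left (hioloc χ) h1
    have e : ∑ B, Om j B * Pm B i - ∑ χ : IrrCharacter G, T χ
        = (∑ B, Om j B * Pm B i -
          ∑ B : {B : Set (IrrCharacter G) // IsPBlock M B ∧ IsDefectGroup p M B D},
            ∑ χ ∈ Finset.univ.filter (fun χ : IrrCharacter G => χ ∈ B.1), T χ)
          + (∑ B : {B : Set (IrrCharacter G) // IsPBlock M B ∧ IsDefectGroup p M B D},
            ∑ χ ∈ Finset.univ.filter (fun χ : IrrCharacter G => χ ∈ B.1), T χ
            - ∑ χ : IrrCharacter G, T χ) := by ring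
    rw [e]
    exact memLocalIdeal_add ha hb
  obtain ⟨f, hfinj, hfdet⟩ := exists_injective_det Om Pm hOmloc hPmloc hfact
  refine ⟨fun i => (f i).1, fun i i' h => hfinj (Subtype.ext h), fun i => (f i).2, ?_⟩
  intro χ hχ
  -- the common valuations
  obtain ⟨a, ha⟩ : ∃ a : ℕ, a = (Nat.card G).factorization p := ⟨_, rfl⟩
  obtain ⟨d, hd⟩ : ∃ d : ℕ, d = (Nat.card D).factorization p := ⟨_, rfl⟩
  have hdx : ∀ j, (Nat.card (Subgroup.centralizer ({x j} : Set G))).factorization p = d := by
    intro j
    obtain ⟨S, hS⟩ := hD j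
    have h1 := card_sylow_centralizer_map (x j) S
    rw [hS] at h1
    rw [hd, h1, hpp.factorization_pow]
    simp
  have hNx : ∀ j, (Subgroup.centralizer ({x j} : Set G)).index.factorization p + d = a := by
    intro j
    have := index_centralizer_factorization hpp (x j)
    rw [hdx j, ← ha] at this
    exact this
  obtain ⟨k, hk⟩ : ∃ k : ℕ, k = a - d := ⟨_, rfl⟩
  have hNk : ∀ j, (Subgroup.centralizer ({x j} : Set G)).index.factorization p = k := by
    intro j
    have := hNx j
    omega
  have hdegk : ∀ i, (charDegree (χ i : G → ℂ)).factorization p = k := by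
    intro i
    obtain ⟨hχB, hχ0⟩ : χ i ∈ (f i).1 ∧ blockHeight p (f i).1 (χ i : G → ℂ) = 0 := hχ i
    obtain ⟨g, hg, P, hP⟩ := (f i).2.2
    have h1 := card_sylow_centralizer_map g P
    rw [← hP] at h1
    have h2 : (Nat.card (Subgroup.centralizer ({g} : Set G))).factorization p = d := by
      rw [hd, h1, hpp.factorization_pow]
      simp
    have h3 := defectClass_factorization p M hM (rep (f i)) g (by rw [← hrep (f i)]; exact hg)
    rw [← hrep (f i), h2, ← ha] at h3
    have h4 : sInf ((fun ψ : IrrCharacter G => (charDegree (ψ : G → ℂ)).factorization p) ''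
        (f i).1) ≤ (charDegree (χ i : G → ℂ)).factorization p := Nat.sInf_le ⟨χ i, hχB, rfl⟩
    unfold blockHeight at hχ0
    omega
  -- decompositions of the degrees and class sizes
  obtain ⟨t, ht⟩ : ∃ t : Fin r → ℕ, t = fun i => charDegree (χ i : G → ℂ) / p ^ k := ⟨_, rfl⟩
  obtain ⟨m, hm⟩ : ∃ m : Fin r → ℕ,
    m = fun j => (Subgroup.centralizer ({x j} : Set G)).index / p ^ k := ⟨_, rfl⟩
  have htdeg : ∀ i, charDegree (χ i : G → ℂ) = p ^ k * t i := by
    intro i
    rw [ht]
    show _ = p ^ k * (charDegree (χ i : G → ℂ) / p ^ k)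
    rw [← hdegk i]
    exact (Nat.ordProj_mul_ordCompl_eq_self _ p).symm
  have htp : ∀ i, ¬ p ∣ t i := by
    intro i
    rw [ht]
    show ¬ p ∣ charDegree (χ i : G → ℂ) / p ^ k
    rw [← hdegk i]
    exact Nat.not_dvd_ordCompl hpp (irr_charDegree_pos (χ i).2).ne'
  have hmN : ∀ j, (Subgroup.centralizer ({x j} : Set G)).index = p ^ k * m j := by
    intro j
    rw [hm]
    show _ = p ^ k * ((Subgroup.centralizer ({x j} : Set G)).index / p ^ k)
    rw [← hNk j]
    exact (Nat.ordProj_mul_ordCompl_eq_self _ p).symm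
  have hmp : ∀ j, ¬ p ∣ m j := by
    intro j
    rw [hm]
    show ¬ p ∣ (Subgroup.centralizer ({x j} : Set G)).index / p ^ k
    rw [← hNk j]
    exact Nat.not_dvd_ordCompl hpp Subgroup.index_ne_zero_of_finite
  have hm0 : ∀ j, m j ≠ 0 := fun j h0 => hmp j (by rw [h0]; exact dvd_zero p)
  obtain ⟨W, hW⟩ : ∃ W : Matrix (Fin r) (Fin r) ℂ,
    W = Matrix.of fun i j => centralChar (χ i : G → ℂ) (x j) := ⟨_, rfl⟩
  have hmat : (Matrix.of fun i j : Fin r => (χ i : G → ℂ) (x j))
      = Matrix.of fun i j => (t i : ℂ) * (Matrix.of fun i j => ((m j : ℂ)⁻¹) * W i j) i j := by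
    ext i j
    rw [Matrix.of_apply, Matrix.of_apply, Matrix.of_apply, hW, Matrix.of_apply,
      char_value_ratio (χ i) (x j) k (t i) (m j) (hm0 j) hpp.ne_zero (htdeg i) (hmN j)]
    ring
  rw [hmat, Matrix.det_mul_column, Matrix.det_mul_row]
  -- the determinant of `W`
  have hWdet : ¬ MemLocalIdeal M W.det := by
    intro hc
    apply hfdet
    have h1 : MemLocalIdeal M (W.det -
        (Matrix.of fun j i : Fin r => Om j (f i)).transpose.det) := by
      apply det_congr_memLocalIdeal
      · intro i j
        rw [Matrix.transpose_apply, Matrix.of_apply]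
        exact hOmloc _ _
      · intro i j
        rw [Matrix.transpose_apply, Matrix.of_apply, hW, Matrix.of_apply, hOm]
        have hχB : χ i ∈ (f i).1 := (hχ i).1
        rw [hrep (f i)] at hχB
        have := hχB (x j)
        have e : centralChar (χ i : G → ℂ) (x j) - centralChar (rep (f i) : G → ℂ) (x j)
            = -(centralChar (rep (f i) : G → ℂ) (x j) - centralChar (χ i : G → ℂ) (x j)) := by
          ring
        rw [e]
        exact memLocalIdeal_neg this
    rw [Matrix.det_transpose] at h1
    have e : (Matrix.of fun j i : Fin r => Om j (f i)).det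
        = W.det - (W.det - (Matrix.of fun j i : Fin r => Om j (f i)).det) := by ring
    rw [e]
    exact memLocalIdeal_sub hc h1
  have hWloc : MemLocalRing M W.det := by
    apply det_memLocalRing
    intro i j
    rw [hW, Matrix.of_apply]
    exact hωloc _ _
  have hminvloc : ∀ j, MemLocalRing M ((m j : ℂ)⁻¹) := fun j =>
    memLocalRing_inv (memLocalRing_of_integral hMtop (isIntegral_natCast _))
      (natCast_not_memLocalIdeal hM (hmp j))
  have hminvne : ∀ j, ¬ MemLocalIdeal M ((m j : ℂ)⁻¹) := by
    intro j hc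
    have h1 : MemLocalIdeal M ((m j : ℂ) * (m j : ℂ)⁻¹) :=
      memLocalIdeal_mul_left (memLocalRing_of_integral hMtop (isIntegral_natCast _)) hc
    rw [mul_inv_cancel₀ (by exact_mod_cast hm0 j)] at h1
    exact not_memLocalIdeal_one h1
  apply not_memLocalIdeal_mul
  · exact memLocalRing_prod _ _
      (fun i _ => memLocalRing_of_integral hMtop (isIntegral_natCast _))
  · exact memLocalRing_mul (memLocalRing_prod _ _ (fun j _ => hminvloc j)) hWloc
  · exact not_memLocalIdeal_prod _ _
      (fun i _ => memLocalRing_of_integral hMtop (isIntegral_natCast _))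
      (fun i _ => natCast_not_memLocalIdeal hM (htp i))
  · apply not_memLocalIdeal_mul (memLocalRing_prod _ _ (fun j _ => hminvloc j)) hWloc
    · exact not_memLocalIdeal_prod _ _ (fun j _ => hminvloc j) (fun j _ => hminvne j)
    · exact hWdet

end Sep

end Cfsg.Agent.helper24
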