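import Mathlib
import Cfsg.Agent.Lib_helper24_Sep3
import Cfsg.Agent.Lib_helper24_FirstMain2
import Cfsg.Agent.Lib_helper24_PrincipalLocal
import Cfsg.Agent.Lib_helper24_BPair17

/-!
# The number of blocks with a Sylow subgroup as defect group
-/

set_option autoImplicit false

namespace Cfsg.Agent.helper24

open Cfsg Cfsg.Agent.helper5 Cfsg.Agent.helper8
open scoped ComplexConjugate

universe u

section NormalSylow

variable {H : Type u} [Group H] [Fintype H] {M : Ideal AlgInt} {p : ℕ} [Fact p.Prime]

/-- a `p`-subgroup lies in a normal Sylow `p`-subgroup -/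
theorem le_normal_sylow (Q : Sylow p H) (hQn : (Q : Subgroup H).Normal) (R : Subgroup H)
    (hR : IsPGroup p R) : R ≤ (Q : Subgroup H) := by
  obtain ⟨Q', hQ'⟩ := hR.exists_le_sylow
  have := Sylow.unique_of_normal Q hQn
  have : Q' = Q := Subsingleton.elim _ _
  rw [← this]
  exact hQ'

/-- an element of `p`-power order lies in a normal Sylow `p`-subgroup -/
theorem mem_normal_sylow (Q : Sylow p H) (hQn : (Q : Subgroup H).Normal) (u : H) (k : ℕ)
    (hu : orderOf u = p ^ k) : u ∈ (Q : Subgroup H) := by
  apply le_normal_sylow Q hQn (Subgroup.zpowers u)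
  · apply IsPGroup.of_card (n := k)
    rw [Nat.card_zpowers, hu]
  · exact Subgroup.mem_zpowers u

/-- conjugates of elements centralizing a normal subgroup centralize it -/
theorem conj_mem_centralizer_normal (Q : Subgroup H) [hQn : Q.Normal] (c x : H)
    (hx : x ∈ Subgroup.centralizer (Q : Set H)) :
    c * x * c⁻¹ ∈ Subgroup.centralizer (Q : Set H) := by
  rw [Subgroup.mem_centralizer_iff] at hx ⊢
  intro y hy
  have h1 : c⁻¹ * y * c ∈ Q := by
    have := hQn.conj_mem y hy c⁻¹
    rwa [inv_inv] at this
  have h2 := hx _ h1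
  calc y * (c * x * c⁻¹) = c * ((c⁻¹ * y * c) * x) * c⁻¹ := by group
    _ = c * (x * (c⁻¹ * y * c)) * c⁻¹ := by rw [h2]
    _ = c * x * c⁻¹ * y := by group

theorem orderOf_conj' (c x : H) : orderOf (c * x * c⁻¹) = orderOf x := by
  have := MulEquiv.orderOf_eq (MulAut.conj c) x
  rwa [MulAut.conj_apply] at this

set_option maxHeartbeats 1600000 in
/-- the number of blocks of a group with a normal Sylow `p`-subgroup `Q` having `Q` as a defect
group is the number of `p`-regular classes centralizing `Q` -/
theorem normalSylow_block_count (hM : IsPModular p M) (Q : Sylow p H)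
    [hQn : (Q : Subgroup H).Normal] :
    Nat.card {B : Set (IrrCharacter H) // IsPBlock M B ∧ IsDefectGroup p M B (Q : Subgroup H)} =
    Nat.card {C : ConjClasses H // ∃ g : H, ConjClasses.mk g = C ∧
      (¬ p ∣ orderOf g ∧ g ∈ Subgroup.centralizer ((Q : Subgroup H) : Set H))} := by
  classical
  have hpp : p.Prime := Fact.out
  have hMp : M.IsPrime := hM.2.1.isPrime
  apply le_antisymm
  · -- upper bound
    refine helper8.DefectCount.count_le hM (fun B => IsDefectGroup p M B (Q : Subgroup H))
      (fun g => ¬ p ∣ orderOf g ∧ g ∈ Subgroup.centralizer ((Q : Subgroup H) : Set H)) ?_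
    intro B B' hB hPB hB' hPB' χ' hχ' g hnot
    obtain ⟨h1, h2, -⟩ := helper8.DefectCount.key hM hB hB' hχ' g hnot
    refine ⟨h1, ?_⟩
    have hc1 := card_defectGroup p M hM B' hB' _ hPB'
    have hc2 := Q.card_eq_multiplicity
    have hdef : blockDefect p B' = (Nat.card H).factorization p := by
      apply Nat.pow_right_injective hpp.two_le
      show p ^ _ = p ^ _
      rw [← hc1, ← hc2]
    rw [hdef] at h2
    obtain ⟨S⟩ : Nonempty (Sylow p (Subgroup.centralizer ({g} : Set H))) := inferInstance
    obtain ⟨S', hS'⟩ : ∃ S' : Subgroup H, S' =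
      (S : Subgroup (Subgroup.centralizer ({g} : Set H))).map
        (Subgroup.centralizer ({g} : Set H)).subtype := ⟨_, rfl⟩
    have hS'p : IsPGroup p S' := by
      rw [hS']
      exact S.isPGroup'.map _
    have hS'Q : S' ≤ (Q : Subgroup H) := le_normal_sylow Q hQn S' hS'p
    have hS'card : Nat.card S' = p ^ (Nat.card (Subgroup.centralizer ({g} : Set H))).factorization p := by
      rw [hS']
      exact card_sylow_centralizer_map g S
    have heq : S' = (Q : Subgroup H) := by
      apply Subgroup.eq_of_le_of_card_ge hS'Q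
      rw [hS'card, hc2]
      exact Nat.pow_le_pow_right hpp.pos h2
    rw [Subgroup.mem_centralizer_iff]
    intro y hy
    have hy' : y ∈ S' := by rw [heq]; exact hy
    rw [hS'] at hy'
    obtain ⟨s, -, rfl⟩ := hy'
    have := Subgroup.mem_centralizer_iff.1 s.2 g (Set.mem_singleton g)
    exact this.symm
  · -- lower bound
    have hfin : Fintype {C : ConjClasses H // ∃ g : H, ConjClasses.mk g = C ∧
      (¬ p ∣ orderOf g ∧ g ∈ Subgroup.centralizer ((Q : Subgroup H) : Set H))} :=
      Fintype.ofFinite _
    obtain ⟨r, hr⟩ : ∃ r : ℕ, r = Fintype.card {C : ConjClasses H // ∃ g : H,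
      ConjClasses.mk g = C ∧
      (¬ p ∣ orderOf g ∧ g ∈ Subgroup.centralizer ((Q : Subgroup H) : Set H))} := ⟨_, rfl⟩
    have e : Fin r ≃ {C : ConjClasses H // ∃ g : H, ConjClasses.mk g = C ∧
        (¬ p ∣ orderOf g ∧ g ∈ Subgroup.centralizer ((Q : Subgroup H) : Set H))} := by
      rw [hr]
      exact (Fintype.equivFin _).symm
    obtain ⟨x, hxdef⟩ : ∃ x : Fin r → H, ∀ i, ConjClasses.mk (x i) = (e i).1 ∧
        (¬ p ∣ orderOf (x i) ∧ x i ∈ Subgroup.centralizer ((Q : Subgroup H) : Set H)) :=
      ⟨fun i => (e i).2.choose, fun i => (e i).2.choose_spec⟩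
    have hx : ∀ i j : Fin r, IsConj (x i) (x j) → i = j := by
      intro i j hij
      have h1 := ConjClasses.mk_eq_mk_iff_isConj.2 hij
      rw [(hxdef i).1, (hxdef j).1] at h1
      exact e.injective (Subtype.ext h1)
    have hD : ∀ i : Fin r, ∃ S : Sylow p (Subgroup.centralizer ({x i} : Set H)),
        (S : Subgroup (Subgroup.centralizer ({x i} : Set H))).map
          (Subgroup.centralizer ({x i} : Set H)).subtype = (Q : Subgroup H) := by
      intro i
      have hle : (Q : Subgroup H) ≤ Subgroup.centralizer ({x i} : Set H) := by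
        intro y hy
        rw [Subgroup.mem_centralizer_iff]
        intro z hz
        rw [Set.mem_singleton_iff] at hz
        subst hz
        exact (Subgroup.mem_centralizer_iff.1 (hxdef i).2.2 y hy).symm
      refine ⟨Q.subtype hle, ?_⟩
      rw [Sylow.coe_subtype, Subgroup.subgroupOf_map_subtype]
      exact inf_eq_left.2 hle
    have hcl : ∀ (i : Fin r) (g : H), IsConj (x i) g →
        ¬ p ∣ orderOf g ∧ g ∈ Subgroup.centralizer ((Q : Subgroup H) : Set H) := by
      intro i g hg
      obtain ⟨c, hc⟩ := isConj_iff.1 hg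
      rw [← hc]
      refine ⟨?_, conj_mem_centralizer_normal _ c _ (hxdef i).2.2⟩
      rw [orderOf_conj']
      exact (hxdef i).2.1
    have hsep : ∀ i j : Fin r, ∀ g h : H, IsConj (x i) g → IsConj (x j) h → ∀ k : ℕ, 0 < k →
        orderOf (g * h⁻¹) ≠ p ^ k := by
      intro i j g h hg hh k hk hord
      obtain ⟨hg1, hg2⟩ := hcl i g hg
      obtain ⟨hh1, hh2⟩ := hcl j h hh
      have huQ : g * h⁻¹ ∈ (Q : Subgroup H) := mem_normal_sylow Q hQn _ k hord
      have hcomm : Commute (g * h⁻¹) h := Subgroup.mem_centralizer_iff.1 hh2 _ huQ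
      have hcop : (orderOf (g * h⁻¹)).Coprime (orderOf h) := by
        rw [hord]
        exact Nat.Coprime.pow_left k ((Nat.Prime.coprime_iff_not_dvd hpp).2 hh1)
      have h1 := hcomm.orderOf_mul_eq_mul_orderOf_of_coprime hcop
      rw [inv_mul_cancel_right, hord] at h1
      apply hg1
      rw [h1]
      exact Dvd.dvd.mul_right (dvd_pow_self p hk.ne') _
    obtain ⟨B, hBinj, hBprop, -⟩ := sep_main hM (Q : Subgroup H) x hx hD hsep
    have hinj : Function.Injective (fun i : Fin r =>
        (⟨B i, hBprop i⟩ : {B : Set (IrrCharacter H) //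
          IsPBlock M B ∧ IsDefectGroup p M B (Q : Subgroup H)})) := by
      intro i j hij
      exact hBinj (congrArg Subtype.val hij)
    have h1 := Nat.card_le_card_of_injective _ hinj
    rw [Nat.card_eq_fintype_card, Fintype.card_fin] at h1
    rw [Nat.card_eq_fintype_card, ← hr]
    exact h1

end NormalSylow

section Transfer

variable {G : Type u} [Group G] [Fintype G] {M : Ideal AlgInt} {p : ℕ} [Fact p.Prime]

set_option maxHeartbeats 1600000 in
/-- **the number of blocks with a Sylow `p`-subgroup as defect group** -/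
theorem sylow_block_count (hM : IsPModular p M) (P : Sylow p G) :
    Nat.card {B : Set (IrrCharacter G) // IsPBlock M B ∧ IsDefectGroup p M B (P : Subgroup G)} =
    Nat.card {C : ConjClasses (Subgroup.normalizer ((P : Subgroup G) : Set G)) //
      ∀ n : Subgroup.normalizer ((P : Subgroup G) : Set G), ConjClasses.mk n = C →
        ¬ p ∣ orderOf n ∧ (n : G) ∈ Subgroup.centralizer ((P : Subgroup G) : Set G)} := by
  classical
  have hpp : p.Prime := Fact.out
  have hMp : M.IsPrime := hM.2.1.isPrime
  have := Fintype.ofFinite (Subgroup.normalizer ((P : Subgroup G) : Set G))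
  have hPN : (P : Subgroup G) ≤ Subgroup.normalizer ((P : Subgroup G) : Set G) :=
    Subgroup.le_normalizer
  have hfm := first_main p M hM (P : Subgroup G) P.isPGroup'
  -- step 1: the first main theorem
  have hex : ∀ b : {b : Set (IrrCharacter (Subgroup.normalizer ((P : Subgroup G) : Set G))) //
      IsPBlock M b ∧ IsDefectGroup p M b ((P : Subgroup G).subgroupOf
        (Subgroup.normalizer ((P : Subgroup G) : Set G)))},
      ∃ B : Set (IrrCharacter G), IsPBlock M B ∧ IsDefectGroup p M B (P : Subgroup G) ∧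
        IsInducedBlock M (Subgroup.normalizer ((P : Subgroup G) : Set G)) b.1 B :=
    fun b => hfm.1 b.1 b.2.1 b.2.2
  choose F hF using hex
  have hstep1 : Nat.card {b : Set (IrrCharacter (Subgroup.normalizer ((P : Subgroup G) : Set G))) //
      IsPBlock M b ∧ IsDefectGroup p M b ((P : Subgroup G).subgroupOf
        (Subgroup.normalizer ((P : Subgroup G) : Set G)))} =
      Nat.card {B : Set (IrrCharacter G) //
        IsPBlock M B ∧ IsDefectGroup p M B (P : Subgroup G)} := by
    apply Nat.card_congr
    refine Equiv.ofBijective (fun b => ⟨F b, (hF b).1, (hF b).2.1⟩) ⟨?_, ?_⟩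
    · intro b₁ b₂ h12
      have h1 : F b₁ = F b₂ := congrArg Subtype.val h12
      apply Subtype.ext
      apply first_main_unique p M hM (P : Subgroup G) P.isPGroup' (F b₁) b₁.1 b₂.1 b₁.2.2
        (hF b₁).2.2
      rw [h1]
      exact (hF b₂).2.2
    · rintro ⟨B, hB, hBD⟩
      obtain ⟨b, ⟨hb, hbD, hbind⟩, -⟩ := hfm.2 B hB hBD
      refine ⟨⟨b, hb, hbD⟩, ?_⟩
      apply Subtype.ext
      exact induced_block_unique _ (hF ⟨b, hb, hbD⟩).2.2 hbind
  rw [← hstep1]
  -- step 2: the count in the normalizer
  have hnorm : ((P.subtype hPN : Sylow p (Subgroup.normalizer ((P : Subgroup G) : Set G))) :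
      Subgroup (Subgroup.normalizer ((P : Subgroup G) : Set G))).Normal := by
    rw [Sylow.coe_subtype]
    exact Subgroup.normal_subgroupOf_of_le_normalizer le_rfl
  have hstep2 := normalSylow_block_count (M := M) hM (P.subtype hPN)
  rw [Sylow.coe_subtype] at hstep2
  rw [hstep2]
  -- step 3: the two descriptions of the classes
  apply Nat.card_congr
  apply Equiv.subtypeEquivRight
  intro C
  constructor
  · rintro ⟨g, hgC, hg1, hg2⟩ n hn
    rw [← hgC] at hn
    obtain ⟨c, hc⟩ := isConj_iff.1 (ConjClasses.mk_eq_mk_iff_isConj.1 hn)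
    have hn' : n = c⁻¹ * g * c⁻¹⁻¹ := by
      rw [← hc]
      group
    rw [hn']
    refine ⟨?_, ?_⟩
    · rw [orderOf_conj']
      exact hg1
    · have := hnorm
      rw [Sylow.coe_subtype] at this
      have h3 := conj_mem_centralizer_normal _ c⁻¹ g hg2
      exact (mem_centralizer_subgroupOf_iff hPN _).1 h3
  · intro hC
    obtain ⟨g, hg⟩ := ConjClasses.exists_rep C
    obtain ⟨h1, h2⟩ := hC g hg
    exact ⟨g, hg, h1, (mem_centralizer_subgroupOf_iff hPN g).2 h2⟩

end Transfer

end Cfsg.Agent.helper24
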