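import Mathlib
import Cfsg.Prelude.Def_Transfer
import Cfsg.Agent.Lib_helper24_CharCentral
import Cfsg.Agent.Lib_helper1_PGroup
import Cfsg.Agent.Lib_helper1_ElemAb

set_option autoImplicit false

/-!
`p`-groups with a unique nonlinear irreducible character (shared library, helper24).

* `pgroup_unique_nonlinear` : such a group has `p = 2`, `|G'| = 2` and `Z(G) ≤ G'`;
* `extraspecial_of_commutator_card_two` : a 2-group with `|G'| = 2` and `Z(G) ≤ G'` is extraspecial.
-/

universe u

namespace Cfsg.Agent.helper24

open Cfsg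
open scoped ComplexConjugate

theorem pgroup_unique_nonlinear {G : Type u} [Group G] [Finite G] (p : ℕ) [hp : Fact p.Prime]
    (hG : IsPGroup p G) (χ₀ : IrrCharacter G) (h1 : (χ₀ : G → ℂ) 1 ≠ 1)
    (huniq : ∀ χ : IrrCharacter G, (χ : G → ℂ) 1 ≠ 1 → χ = χ₀) :
    p = 2 ∧ Nat.card (commutator G) = 2 ∧ ∀ z ∈ Subgroup.center G, z ∈ commutator G := by
  classical
  have := Fintype.ofFinite G
  have := Fintype.ofFinite (IrrCharacter G)
  have hpp : p.Prime := hp.out
  set N := commutator G with hN
  have hS1 : ∀ χ : IrrCharacter G, (∀ n ∈ N, (χ : G → ℂ) n = (χ : G → ℂ) 1) →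
      (χ : G → ℂ) 1 = 1 := fun χ hχ => degree_one_of_commutator_le_ker χ hχ
  have hχ₀S : ¬ ∀ n ∈ N, (χ₀ : G → ℂ) n = (χ₀ : G → ℂ) 1 := fun h => h1 (hS1 χ₀ h)
  have hnotS : ∀ χ : IrrCharacter G, (¬ ∀ n ∈ N, (χ : G → ℂ) n = (χ : G → ℂ) 1) → χ = χ₀ := by
    intro χ hχ
    apply huniq
    intro h
    exact hχ (commutator_le_ker_of_degree_one χ h)
  obtain ⟨d, hdpos, hd⟩ := irr_apply_one χ₀.2
  have hsplit : ∀ g : G, ∑ χ : IrrCharacter G, (χ : G → ℂ) g * conj ((χ : G → ℂ) 1) =
      (if g ∈ N then (N.index : ℂ) else 0) + (χ₀ : G → ℂ) g * d := by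
    intro g
    rw [← Finset.sum_filter_add_sum_filter_not Finset.univ
      (fun χ : IrrCharacter G => ∀ n ∈ N, (χ : G → ℂ) n = (χ : G → ℂ) 1), sum_ker_column N g]
    congr 1
    have : Finset.univ.filter (fun χ : IrrCharacter G =>
        ¬ ∀ n ∈ N, (χ : G → ℂ) n = (χ : G → ℂ) 1) = {χ₀} := by
      ext χ
      simp only [Finset.mem_filter, Finset.mem_univ, true_and, Finset.mem_singleton]
      constructor
      · intro h
        exact hnotS χ h
      · rintro rfl
        exact hχ₀S
    rw [this, Finset.sum_singleton, hd, Complex.conj_natCast]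
  have hcent1 : Nat.card (Subgroup.centralizer ({1} : Set G)) = Nat.card G := by
    have : Subgroup.centralizer ({1} : Set G) = ⊤ := by
      rw [eq_top_iff]
      intro x _
      rw [Subgroup.mem_centralizer_iff]
      intro h hh
      rw [Set.mem_singleton_iff] at hh
      rw [hh, one_mul, mul_one]
    rw [this, Subgroup.card_top]
  -- (A)
  have hA : Nat.card G = N.index + d * d := by
    have h2 := irr_column_orthogonality (1 : G) (1 : G)
    rw [if_pos (IsConj.refl 1), hsplit 1, if_pos N.one_mem, hd, hcent1] at h2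
    have h3 : ((N.index + d * d : ℕ) : ℂ) = (Nat.card G : ℂ) := by
      push_cast
      exact h2
    exact_mod_cast h3.symm
  -- (C)
  have hC : ∀ g : G, g ∉ N → (χ₀ : G → ℂ) g = 0 := by
    intro g hg
    have hg1 : ¬ IsConj g 1 := by
      rw [isConj_one_left]
      rintro rfl
      exact hg N.one_mem
    have h2 := irr_column_orthogonality g (1 : G)
    rw [if_neg hg1, hsplit g, if_neg hg, zero_add] at h2
    have hd0 : (d : ℂ) ≠ 0 := by exact_mod_cast hdpos.ne'
    rcases mul_eq_zero.1 h2 with h | h
    · exact h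
    · exact absurd h hd0
  -- center
  have hcenter : ∀ z ∈ Subgroup.center G, z ∈ N := by
    intro z hz
    by_contra hzN
    have h2 := irr_central_apply χ₀.2 z hz z⁻¹
    rw [inv_mul_cancel, hC z hzN, zero_div, zero_mul, hd] at h2
    have : d = 0 := by exact_mod_cast h2
    omega
  -- number theory
  have hmul : Nat.card N * N.index = Nat.card G := Subgroup.card_mul_index N
  obtain ⟨m, hm⟩ := IsPGroup.iff_card.1 hG
  have hd_dvd : d ∣ Nat.card G := by
    have h2 := irr_degree_dvd_card χ₀.2
    rwa [charDegree_natCast _ d hd] at h2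
  rw [hm] at hd_dvd
  obtain ⟨t, _, ht⟩ := (Nat.dvd_prime_pow hpp).1 hd_dvd
  have ht1 : t ≠ 0 := by
    intro h0
    rw [h0, pow_zero] at ht
    apply h1
    rw [hd, ht, Nat.cast_one]
  have hn_dvd : Nat.card N ∣ p ^ m := by
    rw [← hm]
    exact Subgroup.card_subgroup_dvd_card N
  obtain ⟨i, _, hi⟩ := (Nat.dvd_prime_pow hpp).1 hn_dvd
  -- d * d = index * (n - 1)
  have hdd : d * d = N.index * (Nat.card N - 1) := by
    have hnpos : 0 < Nat.card N := Nat.card_pos
    have h2 : N.index * Nat.card N = N.index + d * d := by rw [mul_comm, hmul, hA]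
    have h3 : N.index * (Nat.card N - 1) + N.index = N.index * Nat.card N := by
      rw [← Nat.mul_succ]
      congr 1
      omega
    omega
  have hn1_dvd : (Nat.card N - 1) ∣ p ^ (t + t) := by
    rw [pow_add, ← ht, hdd]
    exact Dvd.intro_left _ rfl
  obtain ⟨j, _, hj⟩ := (Nat.dvd_prime_pow hpp).1 hn1_dvd
  have hn2 : 2 ≤ Nat.card N := by
    by_contra hlt
    have h3 : Nat.card N - 1 = 0 := by omega
    rw [h3, mul_zero] at hdd
    have : d = 0 := by
      rcases Nat.mul_eq_zero.1 hdd with h | h <;> exact h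
    omega
  have hj0 : j = 0 := by
    by_contra hj0
    have h3 : p ∣ Nat.card N - 1 := by
      rw [hj]
      exact dvd_pow_self p hj0
    have hi0 : i ≠ 0 := by
      intro h0
      rw [h0, pow_zero] at hi
      omega
    have h4 : p ∣ Nat.card N := by
      rw [hi]
      exact dvd_pow_self p hi0
    have h5 : p ∣ Nat.card N - (Nat.card N - 1) := Nat.dvd_sub h4 h3
    have h6 : Nat.card N - (Nat.card N - 1) = 1 := by omega
    rw [h6] at h5
    exact hpp.one_lt.ne' (Nat.dvd_one.1 h5)
  have hn : Nat.card N = 2 := by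
    rw [hj0, pow_zero] at hj
    omega
  refine ⟨?_, hn, hcenter⟩
  have h2 : p ∣ 2 := by
    have hi0 : i ≠ 0 := by
      intro h0
      rw [h0, pow_zero] at hi
      omega
    rw [← hn, hi]
    exact dvd_pow_self p hi0
  exact (Nat.prime_dvd_prime_iff_eq hpp Nat.prime_two).1 h2

theorem extraspecial_of_commutator_card_two {G : Type u} [Group G] [Finite G] (hG : IsPGroup 2 G)
    (hN : Nat.card (commutator G) = 2)
    (hZ : ∀ z ∈ Subgroup.center G, z ∈ commutator G) : IsExtraspecial 2 G := by
  classical
  have : Fact (Nat.Prime 2) := ⟨Nat.prime_two⟩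
  obtain ⟨z, hz1, hzuniq⟩ := (Nat.card_eq_two_iff' (1 : commutator G)).1 hN
  have htwo : ∀ n : commutator G, n = 1 ∨ n = z := by
    intro n
    by_cases h : n = 1
    · exact Or.inl h
    · exact Or.inr (hzuniq n h)
  have hNn : (commutator G).Normal := inferInstance
  have hcentral : ∀ n ∈ commutator G, n ∈ Subgroup.center G := by
    intro n hn
    rw [Subgroup.mem_center_iff]
    intro g
    by_cases hn1 : n = 1
    · rw [hn1, mul_one, one_mul]
    · have h1 : g * n * g⁻¹ ∈ commutator G := hNn.conj_mem n hn g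
      have h2 : (⟨n, hn⟩ : commutator G) = z := by
        rcases htwo ⟨n, hn⟩ with h | h
        · exact absurd (congrArg Subtype.val h) hn1
        · exact h
      have h3 : (⟨g * n * g⁻¹, h1⟩ : commutator G) = z := by
        rcases htwo ⟨g * n * g⁻¹, h1⟩ with h | h
        · exfalso
          apply hn1
          have h4 : g * n * g⁻¹ = 1 := congrArg Subtype.val h
          have : n = g⁻¹ * (g * n * g⁻¹) * g := by group
          rw [this, h4]
          group
        · exact h
      have h4 : g * n * g⁻¹ = n := by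
        have := congrArg Subtype.val (h3.trans h2.symm)
        exact this
      calc g * n = (g * n * g⁻¹) * g := by group
        _ = n * g := by rw [h4]
  have heq : commutator G = Subgroup.center G :=
    le_antisymm (fun n hn => hcentral n hn) (fun z hz => hZ z hz)
  -- squares
  have hsq : ∀ n ∈ commutator G, n * n = 1 := by
    intro n hn
    rcases htwo ⟨n, hn⟩ with h | h
    · have : n = 1 := congrArg Subtype.val h
      rw [this, mul_one]
    · have h1 : n * n ∈ commutator G := (commutator G).mul_mem hn hn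
      rcases htwo ⟨n * n, h1⟩ with h2 | h2
      · exact congrArg Subtype.val h2
      · exfalso
        have h3 : n * n = n := by
          have := congrArg Subtype.val (h2.trans h.symm)
          exact this
        have h4 : n = 1 := by
          have : n * n = n * 1 := by rw [h3, mul_one]
          exact mul_left_cancel this
        apply hz1
        rw [← h]
        exact Subtype.ext h4
  have hpow : ∀ x : G, x ^ 2 ∈ commutator G := by
    intro x
    apply hZ
    rw [Subgroup.mem_center_iff]
    intro y
    have hc : x * y * x⁻¹ * y⁻¹ ∈ commutator G := by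
      rw [← commutatorElement_def, commutator_def]
      exact Subgroup.commutator_mem_commutator (Subgroup.mem_top x) (Subgroup.mem_top y)
    set c := x * y * x⁻¹ * y⁻¹ with hcdef
    have hcc : ∀ g : G, g * c = c * g := Subgroup.mem_center_iff.1 (hcentral c hc)
    have hxy : x * y = c * (y * x) := by rw [hcdef]; group
    have hc2 : c * c = 1 := hsq c hc
    symm
    calc x ^ 2 * y = x * (x * y) := by rw [pow_two, mul_assoc]
      _ = x * (c * (y * x)) := by rw [hxy]
      _ = c * ((x * y) * x) := by rw [← mul_assoc x c, hcc x]; group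
      _ = c * ((c * (y * x)) * x) := by rw [hxy]
      _ = (c * c) * (y * x * x) := by group
      _ = y * x ^ 2 := by rw [hc2, one_mul, pow_two, mul_assoc]
  have hfr : frattini G = commutator G := by
    apply le_antisymm
    · exact Cfsg.Agent.helper1.frattini_le_of_elemAb_quot (p := 2) (commutator G) le_rfl hpow
    · exact Cfsg.Agent.helper1.commutator_le_frattini_of_isPGroup hG
  refine ⟨⟨hG, ?_, heq⟩, ?_⟩
  · rw [hfr, heq]
  · rw [← heq, hN]

end Cfsg.Agent.helper24
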