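import Mathlib
import Cfsg.Agent.Lib_helper24_BPair37
import Cfsg.Agent.Lib_helper24_Kuls
import Cfsg.Agent.Lib_helper24_Sep2

/-!
Weights (helper24), part 1: the constituents on a normal subgroup centralizing `Q` of a character
of defect zero modulo the normal `p`-subgroup `Q`.
-/

set_option autoImplicit false

namespace Cfsg.Agent.helper24

open Cfsg Cfsg.Agent.helper5 Cfsg.Agent.helper8
open scoped ComplexConjugate

universe u

section Weight1

variable {K : Type u} [Group K] [Fintype K] {M : Ideal AlgInt} {p : ℕ} [Fact p.Prime]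

omit [Group K] [Fintype K] in
/-- valuations of a ratio of naturals lying in the local ring -/
theorem factorization_le_of_memLocalRing (hM : IsPModular p M) {c d : ℕ} (hc : c ≠ 0)
    {w : ℂ} (hw : MemLocalRing M w) (h : w * (d : ℂ) = (c : ℂ)) :
    d.factorization p ≤ c.factorization p := by
  have hpp : p.Prime := Fact.out
  have hMp : M.IsPrime := hM.2.1.isPrime
  have hMtop := hMp.ne_top
  by_contra hlt
  push Not at hlt
  obtain ⟨f, hf⟩ : ∃ f : ℕ, f = c.factorization p := ⟨_, rfl⟩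
  obtain ⟨c', hc'⟩ : ∃ c' : ℕ, c' = c / p ^ f := ⟨_, rfl⟩
  have hceq : c = p ^ f * c' := by
    rw [hc', hf]
    exact (Nat.ordProj_mul_ordCompl_eq_self c p).symm
  have hc'p : ¬ p ∣ c' := by
    rw [hc', hf]
    exact Nat.not_dvd_ordCompl hpp hc
  have hdvd : p ^ (f + 1) ∣ d := by
    rw [hf]
    exact (pow_dvd_pow p hlt).trans (Nat.ordProj_dvd d p)
  obtain ⟨t, ht⟩ := hdvd
  have hpf : ((p : ℂ) ^ f) ≠ 0 := pow_ne_zero _ (by exact_mod_cast hpp.ne_zero)
  have h1 : (w * (t : ℂ)) * (p : ℂ) = (c' : ℂ) := by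
    apply mul_left_cancel₀ hpf
    have hd : (d : ℂ) = (p : ℂ) ^ f * (p : ℂ) * (t : ℂ) := by
      rw [ht]
      push_cast
      ring
    have hcC : (c : ℂ) = (p : ℂ) ^ f * (c' : ℂ) := by
      conv_lhs => rw [hceq]
      push_cast
      ring
    rw [hd, hcC] at h
    linear_combination h
  have h2 : MemLocalIdeal M ((w * (t : ℂ)) * (p : ℂ)) :=
    memLocalIdeal_mul_left (memLocalRing_mul hw
      (memLocalRing_of_integral hMtop (isIntegral_natCast _))) (prime_memLocalIdeal hM)
  rw [h1] at h2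
  exact natCast_not_memLocalIdeal hM hc'p h2

/-- a central element of `N` in the kernel of `χ` lies in the kernel of the constituents of the
restriction -/
theorem weight_ker_constituent (N : Subgroup K) [Fintype N]
    (χ : IrrCharacter K) (θ : IrrCharacter N)
    (hu : classInner (res N (χ : K → ℂ)) (θ : N → ℂ) ≠ 0)
    (z : N) (hzc : z ∈ Subgroup.center N)
    (hz : ∀ t : K, (χ : K → ℂ) (t * (z : K)) = (χ : K → ℂ) t) :
    (θ : N → ℂ) z = (θ : N → ℂ) 1 := by
  have h1 : ∀ n : N, (θ : N → ℂ) (n * z) = (θ : N → ℂ) z / (θ : N → ℂ) 1 * (θ : N → ℂ) n :=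
    fun n => irr_central_apply θ.2 z hzc n
  have hθ1 : (θ : N → ℂ) 1 ≠ 0 := irr_apply_one_ne_zero θ.2
  obtain ⟨lam, hlam⟩ : ∃ lam : ℂ, lam = (θ : N → ℂ) z / (θ : N → ℂ) 1 := ⟨_, rfl⟩
  have hsum : ∑ n : N, conj lam * (res N (χ : K → ℂ) n * conj ((θ : N → ℂ) n))
      = ∑ n : N, res N (χ : K → ℂ) n * conj ((θ : N → ℂ) n) := by
    refine Fintype.sum_equiv (Equiv.mulRight z) _ _ (fun n => ?_)
    show conj lam * (res N (χ : K → ℂ) n * conj ((θ : N → ℂ) n))
      = res N (χ : K → ℂ) (n * z) * conj ((θ : N → ℂ) (n * z))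
    have h3 : res N (χ : K → ℂ) (n * z) = res N (χ : K → ℂ) n := by
      show (χ : K → ℂ) ((n * z : N) : K) = (χ : K → ℂ) (n : K)
      rw [Subgroup.coe_mul]
      exact hz _
    rw [h1 n, ← hlam, map_mul, h3]
    ring
  have h2 : classInner (res N (χ : K → ℂ)) (θ : N → ℂ)
      = conj lam * classInner (res N (χ : K → ℂ)) (θ : N → ℂ) := by
    unfold classInner
    conv_lhs => rw [← hsum]
    rw [← Finset.mul_sum]
    ring
  have h3 : conj lam = 1 := by
    have : (conj lam - 1) * classInner (res N (χ : K → ℂ)) (θ : N → ℂ) = 0 := by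
      rw [sub_mul, one_mul, ← h2, sub_self]
    rcases mul_eq_zero.1 this with h | h
    · exact sub_eq_zero.1 h
    · exact absurd h hu
  have h4 : lam = 1 := by
    have := congrArg conj h3
    rwa [Complex.conj_conj, map_one] at this
  rw [hlam, div_eq_one_iff_eq hθ1] at h4
  exact h4

/-- the sum of a weight character over the `p`-elements of a subgroup -/
theorem weight_pInd_sum (Q : Subgroup K) [Q.Normal] (hQp : IsPGroup p Q) (N : Subgroup K)
    [Fintype N] (χ : IrrCharacter K) (hker : ∀ q ∈ Q, (χ : K → ℂ) q = (χ : K → ℂ) 1)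
    (hdeg : (charDegree (χ : K → ℂ)).factorization p + (Nat.card Q).factorization p
      = (Nat.card K).factorization p) :
    ∑ n : N, pInd N p n * (χ : K → ℂ) n
      = (Nat.card (Q.subgroupOf N) : ℂ) * (χ : K → ℂ) 1 := by
  classical
  have hpp : p.Prime := Fact.out
  have hterm : ∀ n : N, pInd N p n * (χ : K → ℂ) n
      = if n ∈ Q.subgroupOf N then (χ : K → ℂ) 1 else 0 := by
    intro n
    by_cases hn : n ∈ Q.subgroupOf N
    · rw [if_pos hn]
      have hnQ : (n : K) ∈ Q := Subgroup.mem_subgroupOf.1 hn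
      rw [hker _ hnQ]
      have : pInd N p n = 1 := by
        unfold pInd
        rw [if_pos]
        obtain ⟨k, hk⟩ := (IsPGroup.iff_orderOf.1 hQp) ⟨(n : K), hnQ⟩
        refine ⟨k, ?_⟩
        rw [← hk]
        rw [← Subgroup.orderOf_coe n, ← Subgroup.orderOf_coe (⟨(n : K), hnQ⟩ : Q)]
      rw [this, one_mul]
    · rw [if_neg hn]
      have hnQ : (n : K) ∉ Q := fun h => hn (Subgroup.mem_subgroupOf.2 h)
      unfold pInd
      split_ifs with hk
      · obtain ⟨k, hk⟩ := hk
        have ha : (n : K) ^ (p ^ k) = 1 := by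
          rw [← Subgroup.coe_pow, ← hk, pow_orderOf_eq_one]
          rfl
        have h0 := central_defect_zero_vanish (p := p) Q χ hker hdeg
          (a := (n : K)) (v := 1) (Commute.one_right _) ha hnQ
          (by rw [orderOf_one]; exact fun h => hpp.one_lt.ne' (Nat.dvd_one.1 h))
        rw [mul_one] at h0
        rw [h0, mul_zero]
      · rw [zero_mul]
  rw [Finset.sum_congr rfl (fun n _ => hterm n), Finset.sum_ite, Finset.sum_const_zero, add_zero,
    Finset.sum_const, nsmul_eq_mul]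
  congr 2
  rw [Nat.card_eq_fintype_card, Fintype.card_subtype]

/-- the sum over the `p`-elements is the same for conjugate characters of a normal subgroup -/
theorem weight_pInd_conj (N : Subgroup K) [hN : N.Normal] [Fintype N] (θ θ' : N → ℂ) (x : K)
    (hx : ∀ g h : N, (h : K) = x * (g : K) * x⁻¹ → θ' h = θ g) :
    ∑ n : N, pInd N p n * θ' n = ∑ n : N, pInd N p n * θ n := by
  symm
  refine Fintype.sum_equiv (MulAut.conjNormal x : MulAut N).toEquiv _ _ (fun g => ?_)
  show pInd N p g * θ g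
    = pInd N p ((MulAut.conjNormal x : MulAut N) g) * θ' ((MulAut.conjNormal x : MulAut N) g)
  have h1 : θ' ((MulAut.conjNormal x : MulAut N) g) = θ g :=
    hx g _ (MulAut.conjNormal_apply x g)
  have h2 : pInd N p ((MulAut.conjNormal x : MulAut N) g) = pInd N p g := by
    unfold pInd
    rw [MulEquiv.orderOf_eq]
  rw [h1, h2]

/-- **constituents of a weight character**: on a normal subgroup `N` centralizing `Q`, the
constituents of a character of defect zero modulo `Q` have defect zero modulo `Q ∩ N` -/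
theorem weight_constituent_defect (hM : IsPModular p M) (Q N : Subgroup K) [Q.Normal]
    [hN : N.Normal] [Fintype N] (hQp : IsPGroup p Q)
    (hcent : ∀ n ∈ N, ∀ q ∈ Q, n * q = q * n)
    (χ : IrrCharacter K)
    (hχQ : ∀ q ∈ Q, ∀ t : K, (χ : K → ℂ) (t * q) = (χ : K → ℂ) t)
    (hdeg : (charDegree (χ : K → ℂ)).factorization p + (Nat.card Q).factorization p
      = (Nat.card K).factorization p)
    (θ : IrrCharacter N) (hu : classInner (res N (χ : K → ℂ)) (θ : N → ℂ) ≠ 0) :
    (∀ z ∈ Q.subgroupOf N, (θ : N → ℂ) z = (θ : N → ℂ) 1) ∧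
    (charDegree (θ : N → ℂ)).factorization p + (Nat.card (Q.subgroupOf N)).factorization p
      = (Nat.card N).factorization p := by
  classical
  have := Fintype.ofFinite (IrrCharacter N)
  have hpp : p.Prime := Fact.out
  have hMp : M.IsPrime := hM.2.1.isPrime
  have hMtop := hMp.ne_top
  have hker : ∀ q ∈ Q, (χ : K → ℂ) q = (χ : K → ℂ) 1 := by
    intro q hq
    have := hχQ q hq 1
    rwa [one_mul] at this
  -- kernel
  have hkerθ : ∀ z ∈ Q.subgroupOf N, (θ : N → ℂ) z = (θ : N → ℂ) 1 := by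
    intro z hz
    have hzQ : (z : K) ∈ Q := Subgroup.mem_subgroupOf.1 hz
    apply weight_ker_constituent N χ θ hu z
    · rw [Subgroup.mem_center_iff]
      intro n
      apply Subtype.ext
      rw [Subgroup.coe_mul, Subgroup.coe_mul]
      exact hcent n n.2 z hzQ
    · intro t
      exact hχQ z hzQ t
  refine ⟨hkerθ, ?_⟩
  -- the expansion of the restriction
  have hcf : IsClassFunction N (res N (χ : K → ℂ)) :=
    char_isClassFunction (Cfsg.Agent.helper12.isCharacter_restrict N (irr_isCharacter χ.2))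
  have hexp := classFunction_expansion hcf
  have hval : ∀ n : N, (χ : K → ℂ) n
      = ∑ θ' : IrrCharacter N, classInner (res N (χ : K → ℂ)) (θ' : N → ℂ) * (θ' : N → ℂ) n := by
    intro n
    have h1 := congrFun hexp n
    rw [Finset.sum_apply] at h1
    exact h1
  have hnorm : N.subtype.range.Normal := by
    rw [Subgroup.range_subtype]
    exact hN
  have hconj : ∀ θ' : IrrCharacter N, classInner (res N (χ : K → ℂ)) (θ' : N → ℂ) ≠ 0 →
      ∃ x : K, ∀ g h : N, (h : K) = x * (g : K) * x⁻¹ → (θ' : N → ℂ) h = (θ : N → ℂ) g := by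
    intro θ' h'
    exact Cfsg.Agent.helper12.clifford_conj_hom N.subtype N.subtype_injective χ.2 θ.2 θ'.2 hu h'
  obtain ⟨σ, hσ⟩ : ∃ σ : ℂ, σ = ∑ n : N, pInd N p n * (θ : N → ℂ) n := ⟨_, rfl⟩
  obtain ⟨mtot, hmtot⟩ : ∃ mtot : ℂ,
      mtot = ∑ θ' : IrrCharacter N, classInner (res N (χ : K → ℂ)) (θ' : N → ℂ) := ⟨_, rfl⟩
  have hone : (χ : K → ℂ) 1 = mtot * (θ : N → ℂ) 1 := by
    have h1 := hval 1
    rw [OneMemClass.coe_one] at h1
    rw [h1, hmtot, Finset.sum_mul]
    refine Finset.sum_congr rfl (fun θ' _ => ?_)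
    by_cases h' : classInner (res N (χ : K → ℂ)) (θ' : N → ℂ) = 0
    · rw [h', zero_mul, zero_mul]
    · obtain ⟨x, hx⟩ := hconj θ' h'
      rw [hx 1 1 (by simp)]
  have hsumχ : ∑ n : N, pInd N p n * (χ : K → ℂ) n = mtot * σ := by
    have h1 : ∀ n : N, pInd N p n * (χ : K → ℂ) n
        = ∑ θ' : IrrCharacter N, classInner (res N (χ : K → ℂ)) (θ' : N → ℂ) *
          (pInd N p n * (θ' : N → ℂ) n) := by
      intro n
      rw [hval n, Finset.mul_sum]
      refine Finset.sum_congr rfl (fun θ' _ => ?_)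
      ring
    rw [Finset.sum_congr rfl (fun n _ => h1 n), Finset.sum_comm, hmtot, Finset.sum_mul]
    refine Finset.sum_congr rfl (fun θ' _ => ?_)
    rw [← Finset.mul_sum]
    by_cases h' : classInner (res N (χ : K → ℂ)) (θ' : N → ℂ) = 0
    · rw [h', zero_mul, zero_mul]
    · obtain ⟨x, hx⟩ := hconj θ' h'
      rw [weight_pInd_conj N (θ : N → ℂ) (θ' : N → ℂ) x hx, hσ]
  have hχ1 : (χ : K → ℂ) 1 ≠ 0 := irr_apply_one_ne_zero χ.2
  have hm0 : mtot ≠ 0 := by
    intro h0
    apply hχ1
    rw [hone, h0, zero_mul]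
  have hσeq : σ = (Nat.card (Q.subgroupOf N) : ℂ) * (θ : N → ℂ) 1 := by
    have h1 := weight_pInd_sum Q hQp N χ hker hdeg
    rw [hsumχ, hone] at h1
    apply mul_left_cancel₀ hm0
    rw [h1]
    ring
  have hdθ : ((charDegree (θ : N → ℂ) : ℕ) : ℂ) = (θ : N → ℂ) 1 :=
    char_charDegree_cast (irr_isCharacter θ.2)
  have hdpos : 0 < charDegree (θ : N → ℂ) := irr_charDegree_pos θ.2
  -- first inequality
  have hle1 : (Nat.card N).factorization p
      ≤ (Nat.card (Q.subgroupOf N) * charDegree (θ : N → ℂ)).factorization p := by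
    apply factorization_le_of_memLocalRing hM
      (Nat.mul_ne_zero Nat.card_pos.ne' hdpos.ne') (pInd_inner_memLocalRing p hM θ)
    have hNne : (Nat.card N : ℂ) ≠ 0 := by exact_mod_cast Nat.card_pos.ne'
    rw [← hσ, hσeq, ← hdθ]
    push_cast
    field_simp
  rw [Nat.factorization_mul Nat.card_pos.ne' hdpos.ne'] at hle1
  -- second inequality
  have hZn : (Q.subgroupOf N).Normal := inferInstance
  have := Fintype.ofFinite (N ⧸ Q.subgroupOf N)
  obtain ⟨ψ, hψ, hθψ⟩ := irr_deflation (Q.subgroupOf N) θ.2 hkerθ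
  have hcard : Nat.card N = Nat.card (N ⧸ Q.subgroupOf N) * Nat.card (Q.subgroupOf N) :=
    Subgroup.card_eq_card_quotient_mul_card_subgroup (Q.subgroupOf N)
  have hdψ : charDegree ψ = charDegree (θ : N → ℂ) := by
    rw [hθψ, charDegree_inflation]
  have hdvd : charDegree (θ : N → ℂ) ∣ Nat.card (N ⧸ Q.subgroupOf N) := by
    rw [← hdψ]
    exact Cfsg.Agent.helper23.irr_degree_dvd_card (⟨ψ, hψ⟩ : IrrCharacter (N ⧸ Q.subgroupOf N))
  have hle2 : (charDegree (θ : N → ℂ)).factorization p
      ≤ (Nat.card (N ⧸ Q.subgroupOf N)).factorization p :=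
    (Nat.factorization_le_iff_dvd hdpos.ne' Nat.card_pos.ne').2 hdvd p
  have h2 : (Nat.card N).factorization p
      = (Nat.card (N ⧸ Q.subgroupOf N)).factorization p
        + (Nat.card (Q.subgroupOf N)).factorization p := by
    rw [hcard, Nat.factorization_mul Nat.card_pos.ne' Nat.card_pos.ne']
    rfl
  simp only [Finsupp.coe_add, Pi.add_apply] at hle1
  omega

/-- **radical**: a normal `p`-subgroup `Q` carrying a character of defect zero modulo `Q`
contains every normal `p`-subgroup -/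
theorem weight_radical (hM : IsPModular p M) (Q : Subgroup K) [Q.Normal]
    (χ : IrrCharacter K) (hker : ∀ q ∈ Q, (χ : K → ℂ) q = (χ : K → ℂ) 1)
    (hdeg : (charDegree (χ : K → ℂ)).factorization p + (Nat.card Q).factorization p
      = (Nat.card K).factorization p)
    (R : Subgroup K) [R.Normal] (hRp : IsPGroup p R) : R ≤ Q := by
  classical
  have hpp : p.Prime := Fact.out
  intro r hr
  by_contra hrQ
  obtain ⟨k, hk⟩ := (IsPGroup.iff_orderOf.1 hRp) ⟨r, hr⟩
  have hrk : r ^ (p ^ k) = 1 := by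
    have h1 : (⟨r, hr⟩ : R) ^ (p ^ k) = 1 := by
      rw [← hk]
      exact pow_orderOf_eq_one _
    have := congrArg (fun y : R => (y : K)) h1
    simpa using this
  -- `χ` vanishes on the elements `r y` for all `y` in a suitable sense; use the normal subgroup
  have hvan : ∀ s ∈ R, s ∉ Q → (χ : K → ℂ) s = 0 := by
    intro s hs hsQ
    obtain ⟨j, hj⟩ := (IsPGroup.iff_orderOf.1 hRp) ⟨s, hs⟩
    have hsj : s ^ (p ^ j) = 1 := by
      have h1 : (⟨s, hs⟩ : R) ^ (p ^ j) = 1 := by
        rw [← hj]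
        exact pow_orderOf_eq_one _
      have := congrArg (fun y : R => (y : K)) h1
      simpa using this
    have h0 := central_defect_zero_vanish (p := p) Q χ hker hdeg
      (a := s) (v := 1) (Commute.one_right _) hsj hsQ
      (by rw [orderOf_one]; exact fun h => hpp.one_lt.ne' (Nat.dvd_one.1 h))
    rwa [mul_one] at h0
  have := Fintype.ofFinite R
  have := Fintype.ofFinite (IrrCharacter R)
  obtain ⟨one, hone⟩ : ∃ o : IrrCharacter R, (o : R → ℂ) = fun _ => 1 :=
    ⟨⟨_, isIrrCharacter_one⟩, rfl⟩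
  have hχ1 : (χ : K → ℂ) 1 ≠ 0 := irr_apply_one_ne_zero χ.2
  have hterm : ∀ s : R, res R (χ : K → ℂ) s * conj ((one : R → ℂ) s)
      = if (s : K) ∈ Q then (χ : K → ℂ) 1 else 0 := by
    intro s
    rw [hone, map_one, mul_one]
    show (χ : K → ℂ) (s : K) = _
    by_cases hs : (s : K) ∈ Q
    · rw [if_pos hs, hker _ hs]
    · rw [if_neg hs, hvan _ s.2 hs]
  have hinner : classInner (res R (χ : K → ℂ)) (one : R → ℂ) ≠ 0 := by
    unfold classInner
    rw [Finset.sum_congr rfl (fun s _ => hterm s), Finset.sum_ite, Finset.sum_const_zero,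
      add_zero, Finset.sum_const, nsmul_eq_mul]
    apply mul_ne_zero
    · apply inv_ne_zero
      exact_mod_cast Nat.card_pos.ne'
    · apply mul_ne_zero _ hχ1
      have hpos : 0 < (Finset.univ.filter (fun s : R => (s : K) ∈ Q)).card := by
        apply Finset.card_pos.2
        exact ⟨1, by simp [Q.one_mem]⟩
      exact_mod_cast hpos.ne'
  have hcf : IsClassFunction R (res R (χ : K → ℂ)) :=
    char_isClassFunction (Cfsg.Agent.helper12.isCharacter_restrict R (irr_isCharacter χ.2))
  have hexp := classFunction_expansion hcf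
  have hval : ∀ n : R, (χ : K → ℂ) n
      = ∑ θ' : IrrCharacter R, classInner (res R (χ : K → ℂ)) (θ' : R → ℂ) * (θ' : R → ℂ) n := by
    intro n
    have h1 := congrFun hexp n
    rw [Finset.sum_apply] at h1
    exact h1
  have hnorm : R.subtype.range.Normal := by
    rw [Subgroup.range_subtype]
    infer_instance
  have hRn : R.Normal := inferInstance
  have htriv : ∀ θ' : IrrCharacter R, classInner (res R (χ : K → ℂ)) (θ' : R → ℂ) ≠ 0 →
      ∀ h : R, (θ' : R → ℂ) h = 1 := by
    intro θ' h' h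
    obtain ⟨x, hx⟩ := Cfsg.Agent.helper12.clifford_conj_hom R.subtype R.subtype_injective χ.2
      one.2 θ'.2 hinner h'
    have hmem : x⁻¹ * (h : K) * x ∈ R := by
      have := hRn.conj_mem h h.2 x⁻¹
      rwa [inv_inv] at this
    have h2 := hx ⟨x⁻¹ * (h : K) * x, hmem⟩ h (by
      show (h : K) = x * (x⁻¹ * (h : K) * x) * x⁻¹
      group)
    rw [h2, hone]
  have h1 := hval ⟨r, hr⟩
  have h2 := hval 1
  have h3 : (χ : K → ℂ) r = (χ : K → ℂ) 1 := by
    have e1 : (χ : K → ℂ) r = (χ : K → ℂ) ((⟨r, hr⟩ : R) : K) := rfl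
    have e2 : (χ : K → ℂ) 1 = (χ : K → ℂ) ((1 : R) : K) := by rw [OneMemClass.coe_one]
    rw [e1, e2, h1, h2]
    refine Finset.sum_congr rfl (fun θ' _ => ?_)
    by_cases h' : classInner (res R (χ : K → ℂ)) (θ' : R → ℂ) = 0
    · rw [h', zero_mul, zero_mul]
    · rw [htriv θ' h', htriv θ' h']
  rw [hvan r hr hrQ] at h3
  exact hχ1 h3.symm

end Weight1

end Cfsg.Agent.helper24
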