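import Mathlib
import Cfsg.Agent.Lib_helper24_Weight1

/-!
Weights (helper24), part 2: a Brauer pair carrying a weight is centric and radical.
-/

set_option autoImplicit false

namespace Cfsg.Agent.helper24

open Cfsg Cfsg.Agent.helper5 Cfsg.Agent.helper8
open scoped ComplexConjugate

universe u

section Weight2

variable {G : Type u} [Group G] [Fintype G] {M : Ideal AlgInt} {p : ℕ} [Fact p.Prime]

set_option maxHeartbeats 1600000 in
/-- a Brauer pair carrying a weight is centric and radical -/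
theorem weight_centric_radical (hM : IsPModular p M) {Q T : Subgroup G} (hQ : IsPGroup p Q)
    (e : Set (IrrCharacter ↥(Subgroup.centralizer (Q : Set G)))) (he : IsPBlock M e)
    (hT : ∀ y : G, y ∈ T ↔ y ∈ Subgroup.normalizer (Q : Set G) ∧
      StabilizesBlock (Subgroup.centralizer (Q : Set G)) e y)
    (F' : Set (IrrCharacter ↥T)) (hF' : IsPBlock M F')
    (hF'e : ∀ t : ↥T, blockCoeff F' t
      = subgroupBlockCoeff (Subgroup.centralizer (Q : Set G)) e (t : G))
    (χ : IrrCharacter ↥T) (hχ : χ ∈ F')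
    (hχQ : ∀ q : G, q ∈ Q → ∀ t t' : ↥T, (t' : G) = q * (t : G) →
      (χ : ↥T → ℂ) t' = (χ : ↥T → ℂ) t)
    (hdeg : (charDegree (χ : ↥T → ℂ)).factorization p + (Nat.card Q).factorization p
      = (Nat.card T).factorization p) :
    IsDefectGroup p M e ((Q ⊓ Subgroup.centralizer (Q : Set G)).subgroupOf
        (Subgroup.centralizer (Q : Set G))) ∧
    ∀ R : Subgroup G, R ≤ T → IsPGroup p R →
      (∀ t ∈ T, t ∈ Subgroup.normalizer (R : Set G)) → R ≤ Q := by
  classical
  have hMp : M.IsPrime := hM.2.1.isPrime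
  obtain ⟨hQT, hTN, hCT, hst⟩ := stab_basic hT
  have := Fintype.ofFinite ↥T
  have := Fintype.ofFinite ↥(Subgroup.centralizer (Q : Set G))
  have := Fintype.ofFinite ↥(Subgroup.centralizer ((Q.subgroupOf T : Subgroup ↥T) : Set ↥T))
  have hQ'n : (Q.subgroupOf T).Normal := Subgroup.normal_subgroupOf_of_le_normalizer hTN
  have hQ'p : IsPGroup p (Q.subgroupOf T) := hQ.comap_subtype
  have hN : (Subgroup.centralizer ((Q.subgroupOf T : Subgroup ↥T) : Set ↥T)).Normal :=
    inferInstance
  -- the kernel condition with multiplication on the right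
  have hχQ' : ∀ q ∈ Q.subgroupOf T, ∀ t : ↥T, (χ : ↥T → ℂ) (t * q) = (χ : ↥T → ℂ) t := by
    intro q hq t
    have hmem : (t : G) * (q : G) * (t : G)⁻¹ ∈ Q := by
      have h1 := hQ'n.conj_mem q hq t
      have h2 : ((t * q * t⁻¹ : ↥T) : G) ∈ Q := Subgroup.mem_subgroupOf.1 h1
      simpa using h2
    apply hχQ _ hmem t (t * q)
    rw [Subgroup.coe_mul]
    group
  have hdeg' : (charDegree (χ : ↥T → ℂ)).factorization p
      + (Nat.card (Q.subgroupOf T)).factorization p = (Nat.card ↥T).factorization p := by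
    rw [card_subgroupOf_eq_of_le24 hQT]
    exact hdeg
  have hker' : ∀ q ∈ Q.subgroupOf T, (χ : ↥T → ℂ) q = (χ : ↥T → ℂ) 1 := by
    intro q hq
    have := hχQ' q hq 1
    rwa [one_mul] at this
  refine ⟨?_, ?_⟩
  · -- centric
    obtain ⟨b, hbdef⟩ : ∃ b : Set (IrrCharacter
        ↥(Subgroup.centralizer ((Q.subgroupOf T : Subgroup ↥T) : Set ↥T))),
      b = transportSet (centSubEquiv Q T hQT hCT) e := ⟨_, rfl⟩
    have hb : IsPBlock M b := by
      rw [hbdef]
      exact isPBlock_transportSet _ e he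
    have hinv : ∀ g : ↥T, ∀ θ ∈ b, ∀ θ' : IrrCharacter
        ↥(Subgroup.centralizer ((Q.subgroupOf T : Subgroup ↥T) : Set ↥T)),
        (∀ n : ↥(Subgroup.centralizer ((Q.subgroupOf T : Subgroup ↥T) : Set ↥T)),
          (θ' : ↥(Subgroup.centralizer ((Q.subgroupOf T : Subgroup ↥T) : Set ↥T)) → ℂ) n
            = (θ : ↥(Subgroup.centralizer ((Q.subgroupOf T : Subgroup ↥T) : Set ↥T)) → ℂ)
              ⟨g * n * g⁻¹, hN.conj_mem n n.2 g⟩) → θ' ∈ b := by
      intro g θ hθ θ' hθ'
      rw [hbdef] at hθ ⊢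
      obtain ⟨ξ, hξ, hθξ⟩ := hθ
      obtain ⟨ξ', hξ', hconj⟩ := (hst (g : G)⁻¹ (T.inv_mem g.2)).2 ξ hξ
      refine ⟨ξ', hξ', ?_⟩
      funext n
      rw [hθ' n, hθξ]
      symm
      apply hconj
      rw [centSubEquiv_coe, centSubEquiv_coe]
      show ((n : ↥T) : G) = (g : G)⁻¹ * ((g : G) * ((n : ↥T) : G) * (g : G)⁻¹) * (g : G)⁻¹⁻¹
      group
    have hcoefF : blockCoeff F' = extendByZero
        (Subgroup.centralizer ((Q.subgroupOf T : Subgroup ↥T) : Set ↥T)) (blockCoeff b) := by
      funext t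
      rw [hF'e]
      by_cases ht : t ∈ Subgroup.centralizer ((Q.subgroupOf T : Subgroup ↥T) : Set ↥T)
      · rw [extendByZero_of_mem _ _ t ht, hbdef, blockCoeff_transportSet,
          sbc_of_mem _ _ ((mem_centralizer_subgroupOf_iff hQT t).1 ht)]
        rfl
      · rw [extendByZero_of_not_mem _ _ t ht,
          sbc_of_not_mem _ _ (fun h => ht ((mem_centralizer_subgroupOf_iff hQT t).2 h))]
    obtain ⟨θ', hu⟩ := Cover.exists_under
      (Subgroup.centralizer ((Q.subgroupOf T : Subgroup ↥T) : Set ↥T)) χ.2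
    have hθ'b : θ' ∈ b := by
      have h1 := fg_omega_E (Subgroup.centralizer ((Q.subgroupOf T : Subgroup ↥T) : Set ↥T))
        b hb hinv χ.2 hu
      rw [← hcoefF, omegaFn_blockCoeff, if_pos hχ] at h1
      by_contra hθ'
      rw [if_neg hθ'] at h1
      exact one_ne_zero h1
    have hcent : ∀ n ∈ Subgroup.centralizer ((Q.subgroupOf T : Subgroup ↥T) : Set ↥T),
        ∀ q ∈ Q.subgroupOf T, n * q = q * n := by
      intro n hn q hq
      exact (Subgroup.mem_centralizer_iff.1 hn q hq).symm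
    obtain ⟨hk, hd⟩ := weight_constituent_defect hM (Q.subgroupOf T)
      (Subgroup.centralizer ((Q.subgroupOf T : Subgroup ↥T) : Set ↥T)) hQ'p hcent χ hχQ' hdeg'
      θ' hu
    rw [hbdef] at hθ'b
    obtain ⟨ξ, hξ, hθξ⟩ := hθ'b
    -- the central subgroup `Z = Q ∩ C(Q)` of `C(Q)`
    obtain ⟨Z, hZdef⟩ : ∃ Z : Subgroup ↥(Subgroup.centralizer (Q : Set G)),
        Z = (Q ⊓ Subgroup.centralizer (Q : Set G)).subgroupOf
          (Subgroup.centralizer (Q : Set G)) := ⟨_, rfl⟩
    have hZmem : ∀ z : ↥(Subgroup.centralizer (Q : Set G)), z ∈ Z ↔ (z : G) ∈ Q := by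
      intro z
      rw [hZdef, Subgroup.mem_subgroupOf, Subgroup.mem_inf]
      exact ⟨fun h => h.1, fun h => ⟨h, z.2⟩⟩
    have hZc : ∀ z ∈ Z, ∀ x : ↥(Subgroup.centralizer (Q : Set G)), z * x = x * z := by
      intro z hz x
      apply Subtype.ext
      rw [Subgroup.coe_mul, Subgroup.coe_mul]
      exact Subgroup.mem_centralizer_iff.1 x.2 (z : G) ((hZmem z).1 hz)
    have hZn : Z.Normal := by
      refine ⟨fun z hz x => ?_⟩
      have : x * z * x⁻¹ = z := by
        rw [← hZc z hz x]
        group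
      rw [this]
      exact hz
    have hZp : IsPGroup p Z := by
      rw [hZdef]
      exact (hQ.to_le inf_le_left).comap_subtype
    have hθξ' : ∀ n, (θ' : ↥(Subgroup.centralizer ((Q.subgroupOf T : Subgroup ↥T) : Set ↥T)) → ℂ) n
        = (ξ : ↥(Subgroup.centralizer (Q : Set G)) → ℂ) (centSubEquiv Q T hQT hCT n) :=
      fun n => congrFun hθξ n
    have hkerξ : ∀ z ∈ Z, (ξ : ↥(Subgroup.centralizer (Q : Set G)) → ℂ) z
        = (ξ : ↥(Subgroup.centralizer (Q : Set G)) → ℂ) 1 := by
      intro z hz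
      have h1 := hk ((centSubEquiv Q T hQT hCT).symm z) (by
        rw [Subgroup.mem_subgroupOf, Subgroup.mem_subgroupOf]
        exact (hZmem z).1 hz)
      rw [hθξ', hθξ', MulEquiv.apply_symm_apply, map_one] at h1
      exact h1
    have hcardZ : Nat.card Z = Nat.card ((Q.subgroupOf T).subgroupOf
        (Subgroup.centralizer ((Q.subgroupOf T : Subgroup ↥T) : Set ↥T))) := by
      symm
      apply Nat.card_congr
      refine (centSubEquiv Q T hQT hCT).toEquiv.subtypeEquiv (fun n => ?_)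
      show n ∈ (Q.subgroupOf T).subgroupOf _ ↔ (centSubEquiv Q T hQT hCT n) ∈ Z
      rw [hZmem, Subgroup.mem_subgroupOf, Subgroup.mem_subgroupOf]
      rfl
    have hcardH : Nat.card ↥(Subgroup.centralizer (Q : Set G))
        = Nat.card ↥(Subgroup.centralizer ((Q.subgroupOf T : Subgroup ↥T) : Set ↥T)) :=
      (Nat.card_congr (centSubEquiv Q T hQT hCT).toEquiv).symm
    have hdegξ : (charDegree (ξ : ↥(Subgroup.centralizer (Q : Set G)) → ℂ)).factorization p
        + (Nat.card Z).factorization p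
        = (Nat.card ↥(Subgroup.centralizer (Q : Set G))).factorization p := by
      rw [hcardZ, hcardH, ← hd]
      congr 2
      unfold charDegree
      rw [hθξ', map_one]
    have hdefect := central_defect_of_character hM Z hZp hZc e he ξ hξ hkerξ hdegξ
    obtain ⟨D, hD⟩ := exists_defectGroup p M hM e he
    have hZD : Z ≤ D :=
      (le_sSup ⟨hZn, hZp⟩ : Z ≤ pCore p ↥(Subgroup.centralizer (Q : Set G))).trans
        (pCore_le_defectGroup p M hM e he D hD)
    have hcardD := card_defectGroup p M hM e he D hD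
    have hZD' : Z = D := by
      apply Subgroup.eq_of_le_of_card_ge hZD
      rw [hcardD, hdefect]
    rw [← hZdef, hZD']
    exact hD
  · -- radical
    intro R hRT hRp hRn
    have hR'n : (R.subgroupOf T).Normal :=
      Subgroup.normal_subgroupOf_of_le_normalizer (fun t ht => hRn t ht)
    have hR'p : IsPGroup p (R.subgroupOf T) := hRp.comap_subtype
    have hle := weight_radical hM (Q.subgroupOf T) χ hker' hdeg' (R.subgroupOf T) hR'p
    intro r hr
    have h1 : (⟨r, hRT hr⟩ : ↥T) ∈ R.subgroupOf T := Subgroup.mem_subgroupOf.2 hr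
    exact Subgroup.mem_subgroupOf.1 (hle h1)

end Weight2

end Cfsg.Agent.helper24
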