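import Mathlib
import Cfsg.Prelude.Def_MonsterType
import Cfsg.Agent.Lib_helper14_Amalgam4

set_option autoImplicit false

namespace Cfsg.Agent.helper25.AffA

open Cfsg

section iso
variable {A B : Type*} [Group A] [Group B]

theorem mem_center_iff_of_equiv (e : A ≃* B) (x : A) :
    e x ∈ Subgroup.center B ↔ x ∈ Subgroup.center A := by
  rw [Subgroup.mem_center_iff, Subgroup.mem_center_iff]
  constructor
  · intro h a
    apply e.injective
    rw [map_mul, map_mul]
    exact h (e a)
  · intro h b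
    obtain ⟨a, rfl⟩ := e.surjective b
    rw [← map_mul, ← map_mul, h a]

theorem mem_frattini_iff_of_equiv (e : A ≃* B) (x : A) :
    e x ∈ frattini B ↔ x ∈ frattini A := by
  constructor
  · intro h
    have h1 := frattini_le_comap_frattini_of_surjective (φ := e.symm.toMonoidHom) e.symm.surjective h
    simpa using h1
  · intro h
    exact frattini_le_comap_frattini_of_surjective (φ := e.toMonoidHom) e.surjective h

theorem map_mem_commutator (e : A ≃* B) (x : A) (hx : x ∈ commutator A) :
    e x ∈ commutator B := by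
  rw [commutator_def] at hx ⊢
  have h1 : e x ∈ Subgroup.map e.toMonoidHom ⁅(⊤ : Subgroup A), (⊤ : Subgroup A)⁆ :=
    Subgroup.mem_map_of_mem _ hx
  rw [Subgroup.map_commutator] at h1
  have h2 : (⊤ : Subgroup A).map e.toMonoidHom = ⊤ := by
    rw [← MonoidHom.range_eq_map, MonoidHom.range_eq_top]
    exact e.surjective
  rwa [h2] at h1

theorem mem_commutator_iff_of_equiv (e : A ≃* B) (x : A) :
    e x ∈ commutator B ↔ x ∈ commutator A := by
  constructor
  · intro h
    have := map_mem_commutator e.symm (e x) h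
    simpa using this
  · exact map_mem_commutator e x

theorem isExtraspecial_of_equiv (p : ℕ) (e : A ≃* B) (h : IsExtraspecial p A) :
    IsExtraspecial p B := by
  obtain ⟨⟨hp, hf, hc⟩, hcard⟩ := h
  refine ⟨⟨hp.of_equiv e, ?_, ?_⟩, ?_⟩
  · ext b
    obtain ⟨a, rfl⟩ := e.surjective b
    rw [mem_frattini_iff_of_equiv, mem_center_iff_of_equiv, hf]
  · ext b
    obtain ⟨a, rfl⟩ := e.surjective b
    rw [mem_commutator_iff_of_equiv, mem_center_iff_of_equiv, hc]
  · rw [← hcard]
    symm
    apply Nat.card_congr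
    exact
      { toFun := fun x => ⟨e x.1, (mem_center_iff_of_equiv e x.1).mpr x.2⟩
        invFun := fun y => ⟨e.symm y.1, by
          have := y.2
          rw [← e.apply_symm_apply y.1] at this
          exact (mem_center_iff_of_equiv e _).mp this⟩
        left_inv := fun x => by simp
        right_inv := fun y => by simp }

end iso

section emb
variable {G T : Type*} [Group G] [Group T] (Φ : G →* T) (hinj : Function.Injective Φ)

/-- the isomorphism `Φ⁻¹(H) ≃* H` for `H ≤ range Φ`. -/
noncomputable def comapEquiv (H : Subgroup T) (hH : H ≤ Φ.range) : ↥(H.comap Φ) ≃* ↥H :=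
  MulEquiv.ofBijective
    ((Φ.comp (H.comap Φ).subtype).codRestrict H (fun x => x.2))
    ⟨fun x y hxy => by
      apply Subtype.ext
      apply hinj
      exact congrArg Subtype.val hxy,
     fun y => by
      obtain ⟨x, hx⟩ := hH y.2
      exact ⟨⟨x, by rw [Subgroup.mem_comap, hx]; exact y.2⟩, Subtype.ext hx⟩⟩

theorem comapEquiv_coe (H : Subgroup T) (hH : H ≤ Φ.range) (x : ↥(H.comap Φ)) :
    ((comapEquiv Φ hinj H hH x : ↥H) : T) = Φ (x : G) := rfl

include hinj in
theorem centralizer_eq_comap (z : G) :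
    Subgroup.centralizer ({z} : Set G) = (Subgroup.centralizer ({Φ z} : Set T)).comap Φ := by
  ext x
  rw [Subgroup.mem_comap, Subgroup.mem_centralizer_singleton_iff,
    Subgroup.mem_centralizer_singleton_iff]
  constructor
  · intro h
    rw [← map_mul, ← map_mul, h]
  · intro h
    apply hinj
    rw [map_mul, map_mul, h]

include hinj in
/-- `O_2` of the centralizer pulls back. -/
theorem pCoreOf_eq_comap (p : ℕ) (CT : Subgroup T) (hCT : CT ≤ Φ.range) :
    (Cfsg.pCore p ↥(CT.comap Φ)).map (CT.comap Φ).subtype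
      = ((Cfsg.pCore p ↥CT).map CT.subtype).comap Φ := by
  have hmap := Cfsg.Agent.helper14.pCore_map_equiv p (comapEquiv Φ hinj CT hCT)
  ext x
  rw [Subgroup.mem_comap]
  constructor
  · rintro ⟨y, hy, rfl⟩
    refine ⟨comapEquiv Φ hinj CT hCT y, ?_, rfl⟩
    rw [← hmap]
    exact Subgroup.mem_map_of_mem _ hy
  · rintro ⟨w, hw, hwx⟩
    rw [← hmap] at hw
    obtain ⟨y, hy, rfl⟩ := hw
    refine ⟨y, hy, ?_⟩
    apply hinj
    rw [← hwx]
    rfl

include hinj in
theorem mem_centralizer_comap_iff (H : Subgroup T) (hH : H ≤ Φ.range) (x : G) :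
    x ∈ Subgroup.centralizer ((H.comap Φ : Subgroup G) : Set G)
      ↔ Φ x ∈ Subgroup.centralizer (H : Set T) := by
  rw [Subgroup.mem_centralizer_iff, Subgroup.mem_centralizer_iff]
  constructor
  · intro h w hw
    obtain ⟨q, rfl⟩ := hH hw
    rw [← map_mul, ← map_mul, h q hw]
  · intro h q hq
    apply hinj
    rw [map_mul, map_mul]
    exact h _ hq

include hinj in
theorem center_map_eq_comap (QT : Subgroup T) (hQT : QT ≤ Φ.range) :
    (Subgroup.center ↥(QT.comap Φ)).map (QT.comap Φ).subtype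
      = ((Subgroup.center ↥QT).map QT.subtype).comap Φ := by
  ext x
  rw [Subgroup.mem_comap]
  constructor
  · rintro ⟨y, hy, rfl⟩
    exact ⟨comapEquiv Φ hinj QT hQT y, (mem_center_iff_of_equiv _ y).mpr hy, rfl⟩
  · rintro ⟨w, hw, hwx⟩
    obtain ⟨y, rfl⟩ := (comapEquiv Φ hinj QT hQT).surjective w
    refine ⟨y, (mem_center_iff_of_equiv _ y).mp hw, ?_⟩
    apply hinj
    rw [← hwx]
    rfl

include hinj in
theorem isLargeExtraspecial_comap (QT : Subgroup T) (hQT : QT ≤ Φ.range)
    (hL : Cfsg.IsLargeExtraspecial QT) : Cfsg.IsLargeExtraspecial (QT.comap Φ) := by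
  obtain ⟨hex, hcen, hnorm, hodd⟩ := hL
  have hZle : (Subgroup.center ↥QT).map QT.subtype ≤ Φ.range := by
    rintro _ ⟨w, _, rfl⟩
    exact hQT w.2
  refine ⟨isExtraspecial_of_equiv 2 (comapEquiv Φ hinj QT hQT).symm hex, ?_, ?_, ?_⟩
  · rw [center_map_eq_comap Φ hinj QT hQT]
    ext x
    rw [mem_centralizer_comap_iff Φ hinj QT hQT, hcen, Subgroup.mem_comap]
  · rw [center_map_eq_comap Φ hinj QT hQT]
    intro x hx
    have h1 := hnorm ((mem_centralizer_comap_iff Φ hinj _ hZle x).mp hx)
    rw [Subgroup.mem_normalizer_iff] at h1 ⊢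
    intro h
    rw [Subgroup.mem_comap, Subgroup.mem_comap, map_mul, map_mul, map_inv]
    exact h1 (Φ h)
  · intro K hK hQK
    have h1 : Nat.card ↥(K.map Φ) = Nat.card ↥K := Subgroup.card_map_of_injective hinj
    have h2 : QT ≤ Subgroup.normalizer ((K.map Φ : Subgroup T) : Set T) := by
      intro w hw
      obtain ⟨q, rfl⟩ := hQT hw
      exact Subgroup.le_normalizer_map Φ (Subgroup.mem_map_of_mem Φ (hQK hw))
    have h3 := hodd (K.map Φ) (by rw [h1]; exact hK) h2
    exact (Subgroup.map_eq_bot_iff_of_injective K hinj).mp h3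

include hinj in
theorem complement_comap (QT KT CT : Subgroup T) (hQ : QT ≤ Φ.range) (hK : KT ≤ Φ.range)
    (hinf : QT ⊓ KT = ⊥) (hsup : QT ⊔ KT = CT) :
    QT.comap Φ ⊓ KT.comap Φ = ⊥ ∧ QT.comap Φ ⊔ KT.comap Φ = CT.comap Φ := by
  constructor
  · rw [← Subgroup.comap_inf, hinf, MonoidHom.comap_bot]
    exact (MonoidHom.ker_eq_bot_iff Φ).mpr hinj
  · rw [Subgroup.comap_sup_eq_of_le_range Φ hQ hK, hsup]

include hinj in
theorem isElementaryAbelian_comap (p : ℕ) (H : Subgroup T) (hH : Cfsg.IsElementaryAbelian p H) :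
    Cfsg.IsElementaryAbelian p (H.comap Φ) := by
  obtain ⟨hcomm, hexp⟩ := hH
  constructor
  · refine ⟨⟨fun a b => ?_⟩⟩
    apply Subtype.ext
    apply hinj
    have h := hcomm.is_comm.comm (⟨Φ a.1, a.2⟩ : ↥H) ⟨Φ b.1, b.2⟩
    have h' := congrArg Subtype.val h
    simpa using h'
  · intro a ha
    apply hinj
    rw [map_pow, map_one]
    exact hexp _ ha

end emb

end Cfsg.Agent.helper25.AffA
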