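import Mathlib

set_option autoImplicit false

namespace Cfsg.Agent.helper25.Transv

open Matrix

variable {ι : Type*} [Fintype ι] [DecidableEq ι] {R : Type*} [CommRing R]

/-- Matrices supported on row `i` (off the diagonal) and column `j` (off the diagonal). -/
def Supp (i j : ι) (N : Matrix ι ι R) : Prop :=
  (∀ a, N a i = 0) ∧ (∀ b, N j b = 0) ∧ (∀ a b, a ≠ i → b ≠ j → N a b = 0)

/-- Matrices whose column `i` and row `j` are supported on the diagonal. -/
def CShape (i j : ι) (c : Matrix ι ι R) : Prop :=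
  (∀ a, a ≠ i → c a i = 0) ∧ (∀ b, b ≠ j → c j b = 0)

theorem Supp.cshape {i j : ι} {N : Matrix ι ι R} (h : Supp i j N) : CShape i j N :=
  ⟨fun a _ => h.1 a, fun b _ => h.2.1 b⟩

theorem cshape_one (i j : ι) : CShape i j (1 : Matrix ι ι R) :=
  ⟨fun a ha => Matrix.one_apply_ne ha, fun b hb => Matrix.one_apply_ne (Ne.symm hb)⟩

theorem CShape.add {i j : ι} {c d : Matrix ι ι R} (hc : CShape i j c) (hd : CShape i j d) :
    CShape i j (c + d) :=
  ⟨fun a ha => by rw [Matrix.add_apply, hc.1 a ha, hd.1 a ha, add_zero],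
   fun b hb => by rw [Matrix.add_apply, hc.2 b hb, hd.2 b hb, add_zero]⟩

theorem Supp.add {i j : ι} {N M : Matrix ι ι R} (hN : Supp i j N) (hM : Supp i j M) :
    Supp i j (N + M) :=
  ⟨fun a => by rw [Matrix.add_apply, hN.1 a, hM.1 a, add_zero],
   fun b => by rw [Matrix.add_apply, hN.2.1 b, hM.2.1 b, add_zero],
   fun a b ha hb => by rw [Matrix.add_apply, hN.2.2 a b ha hb, hM.2.2 a b ha hb, add_zero]⟩

theorem supp_zero (i j : ι) : Supp i j (0 : Matrix ι ι R) :=
  ⟨fun _ => rfl, fun _ => rfl, fun _ _ _ _ => rfl⟩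

theorem cshape_mul_supp {i j : ι} {c N : Matrix ι ι R} (hc : CShape i j c) (hN : Supp i j N) :
    Supp i j (c * N) := by
  refine ⟨fun a => ?_, fun b => ?_, fun a b ha hb => ?_⟩
  · rw [Matrix.mul_apply]
    exact Finset.sum_eq_zero fun k _ => by rw [hN.1 k, mul_zero]
  · rw [Matrix.mul_apply]
    refine Finset.sum_eq_zero fun k _ => ?_
    by_cases hk : k = j
    · rw [hk, hN.2.1 b, mul_zero]
    · rw [hc.2 k hk, zero_mul]
  · rw [Matrix.mul_apply]
    refine Finset.sum_eq_zero fun k _ => ?_
    by_cases hk : k = i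
    · rw [hk, hc.1 a ha, zero_mul]
    · rw [hN.2.2 k b hk hb, mul_zero]

theorem supp_mul_cshape {i j : ι} {N d : Matrix ι ι R} (hN : Supp i j N) (hd : CShape i j d) :
    Supp i j (N * d) := by
  refine ⟨fun a => ?_, fun b => ?_, fun a b ha hb => ?_⟩
  · rw [Matrix.mul_apply]
    refine Finset.sum_eq_zero fun l _ => ?_
    by_cases hl : l = i
    · rw [hl, hN.1 a, zero_mul]
    · rw [hd.1 l hl, mul_zero]
  · rw [Matrix.mul_apply]
    exact Finset.sum_eq_zero fun l _ => by rw [hN.2.1 l, zero_mul]
  · rw [Matrix.mul_apply]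
    refine Finset.sum_eq_zero fun l _ => ?_
    by_cases hl : l = j
    · rw [hl, hd.2 b hb, mul_zero]
    · rw [hN.2.2 a l ha hl, zero_mul]

/-- The product of two matrices in `Supp` vanishes off column `j`. -/
theorem supp_mul_col {i j : ι} {N M : Matrix ι ι R} (hN : Supp i j N) (hM : Supp i j M)
    (a b : ι) (hb : b ≠ j) : (N * M) a b = 0 := by
  rw [Matrix.mul_apply]
  refine Finset.sum_eq_zero fun k _ => ?_
  by_cases hk : k = i
  · rw [hk, hN.1 a, zero_mul]
  · rw [hM.2.2 k b hk hb, mul_zero]

theorem supp_mul_mul_eq_zero {i j : ι} {N M L : Matrix ι ι R} (hN : Supp i j N)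
    (hM : Supp i j M) (hL : Supp i j L) : N * M * L = 0 := by
  ext a b
  rw [Matrix.mul_apply, Matrix.zero_apply]
  refine Finset.sum_eq_zero fun k _ => ?_
  by_cases hk : k = j
  · rw [hk, hL.2.1 b, mul_zero]
  · rw [supp_mul_col hN hM a k hk, zero_mul]

theorem supp_pow_four {i j : ι} {N : Matrix ι ι R} (hN : Supp i j N) : N ^ 4 = 0 := by
  have h3 : N * N * N = 0 := supp_mul_mul_eq_zero hN hN hN
  calc N ^ 4 = N * N * N * N := by noncomm_ring
    _ = 0 := by rw [h3, zero_mul]

/-- A matrix in `Supp` commutes with the elementary matrix `E_{ij}`. -/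
theorem supp_mul_single {i j : ι} {N : Matrix ι ι R} (hN : Supp i j N) (x : R) :
    N * Matrix.single i j x = 0 := by
  ext a b
  rw [Matrix.zero_apply]
  by_cases hb : b = j
  · rw [hb, Matrix.mul_single_apply_same, hN.1 a, zero_mul]
  · exact Matrix.mul_single_apply_of_ne x i j a b hb N

theorem single_mul_supp {i j : ι} {N : Matrix ι ι R} (hN : Supp i j N) (x : R) :
    Matrix.single i j x * N = 0 := by
  ext a b
  rw [Matrix.zero_apply]
  by_cases ha : a = i
  · rw [ha, Matrix.single_mul_apply_same, hN.2.1 b, mul_zero]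
  · exact Matrix.single_mul_apply_of_ne x i j a b ha N

/-- If `g` commutes with `E_{ij}` then `g` has `CShape`. -/
theorem cshape_of_comm {i j : ι} {g : Matrix ι ι R}
    (h : g * Matrix.single i j (1 : R) = Matrix.single i j (1 : R) * g) : CShape i j g := by
  refine ⟨fun a ha => ?_, fun b hb => ?_⟩
  · have := congrFun (congrFun h a) j
    rw [Matrix.mul_single_apply_same, Matrix.single_mul_apply_of_ne (1 : R) i j a j ha g,
      mul_one] at this
    exact this
  · have := congrFun (congrFun h i) b
    rw [Matrix.mul_single_apply_of_ne (1 : R) i j i b hb g, Matrix.single_mul_apply_same,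
      one_mul] at this
    exact this.symm

/-- Row information from commuting with `E_{ib}`. -/
theorem row_of_comm {i b : ι} {g : Matrix ι ι R}
    (h : g * Matrix.single i b (1 : R) = Matrix.single i b (1 : R) * g) :
    (∀ c, c ≠ b → g b c = 0) ∧ g i i = g b b := by
  refine ⟨fun c hc => ?_, ?_⟩
  · have := congrFun (congrFun h i) c
    rw [Matrix.mul_single_apply_of_ne (1 : R) i b i c hc g, Matrix.single_mul_apply_same,
      one_mul] at this
    exact this.symm
  · have := congrFun (congrFun h i) b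
    rw [Matrix.mul_single_apply_same, Matrix.single_mul_apply_same, one_mul, mul_one] at this
    exact this

/-- Column information from commuting with `E_{aj}`. -/
theorem col_of_comm {a j : ι} {g : Matrix ι ι R}
    (h : g * Matrix.single a j (1 : R) = Matrix.single a j (1 : R) * g) :
    ∀ c, c ≠ a → g c a = 0 := by
  intro c hc
  have := congrFun (congrFun h c) j
  rw [Matrix.mul_single_apply_same, Matrix.single_mul_apply_of_ne (1 : R) a j c j hc g,
    mul_one] at this
  exact this

theorem supp_single {i j : ι} (hij : i ≠ j) (b : ι) (hb : b ≠ i) (x : R) :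
    Supp i j (Matrix.single i b x) := by
  refine ⟨fun a => ?_, fun c => ?_, fun a c ha _ => ?_⟩
  · exact Matrix.single_apply_of_col_ne i a hb x
  · exact Matrix.single_apply_of_row_ne hij b c x
  · exact Matrix.single_apply_of_row_ne (Ne.symm ha) b c x

theorem supp_single' {i j : ι} (hij : i ≠ j) (a : ι) (ha : a ≠ j) (x : R) :
    Supp i j (Matrix.single a j x) := by
  refine ⟨fun c => ?_, fun c => ?_, fun c b _ hb => ?_⟩
  · exact Matrix.single_apply_of_col_ne a c (Ne.symm hij) x
  · exact Matrix.single_apply_of_row_ne ha j c x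
  · exact Matrix.single_apply_of_col_ne a c (Ne.symm hb) x

end Cfsg.Agent.helper25.Transv
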