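import Cfsg.Statements.S1339
import Cfsg.Agent.Lib_helper25_Transv
import Cfsg.Agent.Lib_helper14_ParaChar2

set_option autoImplicit false
open Cfsg

namespace Cfsg.Agent.S1339

open Cfsg.Agent.helper25.Transv Matrix

section
variable {F : Type*} [Field F] [Fintype F] [DecidableEq F] {n : ℕ}

local notation "SLn" => Matrix.SpecialLinearGroup (Fin n) F

/-- The set of `g ∈ SL_n(F)` with `g - 1` supported on row `i` and column `j`. -/
def qSet (i j : Fin n) : Set SLn :=
  {g | Supp i j ((g : Matrix (Fin n) (Fin n) F) - 1)}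

theorem cshape_of_mem_qSet {i j : Fin n} {g : SLn} (hg : g ∈ qSet i j) :
    CShape i j (g : Matrix (Fin n) (Fin n) F) := by
  have h : (g : Matrix (Fin n) (Fin n) F) = 1 + ((g : Matrix (Fin n) (Fin n) F) - 1) := by abel
  rw [h]
  exact (cshape_one i j).add (Supp.cshape hg)

theorem one_mem_qSet (i j : Fin n) : (1 : SLn) ∈ qSet i j := by
  show Supp i j (((1 : SLn) : Matrix (Fin n) (Fin n) F) - 1)
  rw [Matrix.SpecialLinearGroup.coe_one, sub_self]
  exact supp_zero i j

theorem mul_mem_qSet {i j : Fin n} {g h : SLn} (hg : g ∈ qSet i j) (hh : h ∈ qSet i j) :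
    g * h ∈ qSet i j := by
  show Supp i j (((g * h : SLn) : Matrix (Fin n) (Fin n) F) - 1)
  rw [Matrix.SpecialLinearGroup.coe_mul]
  have e : (g : Matrix (Fin n) (Fin n) F) * (h : Matrix (Fin n) (Fin n) F) - 1
      = ((g : Matrix (Fin n) (Fin n) F) - 1) * (h : Matrix (Fin n) (Fin n) F)
        + ((h : Matrix (Fin n) (Fin n) F) - 1) := by noncomm_ring
  rw [e]
  exact (supp_mul_cshape hg (cshape_of_mem_qSet hh)).add hh

theorem pow_four_of_mem_qSet [CharP F 2] {i j : Fin n} {g : SLn} (hg : g ∈ qSet i j) :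
    g ^ 4 = 1 := by
  rcases Nat.eq_zero_or_pos n with hn | hn
  · subst hn
    exact Subsingleton.elim _ _
  haveI : Nonempty (Fin n) := ⟨⟨0, hn⟩⟩
  apply Subtype.ext
  rw [Matrix.SpecialLinearGroup.coe_pow, Matrix.SpecialLinearGroup.coe_one]
  have h : (g : Matrix (Fin n) (Fin n) F) = 1 + ((g : Matrix (Fin n) (Fin n) F) - 1) := by abel
  rw [h]
  have h4 : (4 : ℕ) = 2 ^ 2 := by norm_num
  rw [h4, add_pow_char_pow_of_commute (p := 2) (n := 2) (Commute.one_left _), one_pow,
    ← h4, supp_pow_four hg, add_zero]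

theorem inv_mem_qSet [CharP F 2] {i j : Fin n} {g : SLn} (hg : g ∈ qSet i j) :
    g⁻¹ ∈ qSet i j := by
  have h4 := pow_four_of_mem_qSet hg
  have : g⁻¹ = g * g * g := by
    apply inv_eq_of_mul_eq_one_right
    rw [← h4]; simp only [pow_succ, pow_zero, one_mul, mul_assoc]
  rw [this]
  exact mul_mem_qSet (mul_mem_qSet hg hg) hg

/-- The subgroup `Q`. -/
def qSub [CharP F 2] (i j : Fin n) : Subgroup SLn where
  carrier := qSet i j
  mul_mem' := mul_mem_qSet
  one_mem' := one_mem_qSet i j
  inv_mem' := inv_mem_qSet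

theorem mem_qSub [CharP F 2] {i j : Fin n} {g : SLn} :
    g ∈ qSub (F := F) i j ↔ Supp i j ((g : Matrix (Fin n) (Fin n) F) - 1) := Iff.rfl

theorem qSub_isPGroup [CharP F 2] (i j : Fin n) : IsPGroup 2 ↥(qSub (F := F) (n := n) i j) := by
  intro g
  refine ⟨2, ?_⟩
  apply Subtype.ext
  rw [Subgroup.coe_pow, Subgroup.coe_one]
  exact pow_four_of_mem_qSet g.2

/-- The transvection `1 + E_{ab}` as an element of `SL_n(F)`. -/
def tv (a b : Fin n) (hab : a ≠ b) : SLn :=
  ⟨Matrix.transvection a b 1, Matrix.det_transvection_of_ne a b hab 1⟩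

theorem comm_tv_iff (a b : Fin n) (hab : a ≠ b) (g : SLn) :
    tv a b hab * g = g * tv a b hab ↔
      (g : Matrix (Fin n) (Fin n) F) * Matrix.single a b (1 : F)
        = Matrix.single a b (1 : F) * (g : Matrix (Fin n) (Fin n) F) := by
  have key : (tv a b hab * g = g * tv a b hab) ↔
      ((tv a b hab * g : SLn) : Matrix (Fin n) (Fin n) F) = ((g * tv a b hab : SLn) :
        Matrix (Fin n) (Fin n) F) := ⟨fun h => by rw [h], fun h => Subtype.ext h⟩
  rw [key, Matrix.SpecialLinearGroup.coe_mul, Matrix.SpecialLinearGroup.coe_mul]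
  show Matrix.transvection a b 1 * (g : Matrix (Fin n) (Fin n) F)
    = (g : Matrix (Fin n) (Fin n) F) * Matrix.transvection a b 1 ↔ _
  rw [Matrix.transvection, add_mul, mul_add, one_mul, mul_one]
  constructor
  · intro h; exact (add_left_cancel h).symm
  · intro h; rw [h]

theorem tv_mem_qSub_row [CharP F 2] {i j : Fin n} (hij : i ≠ j) (b : Fin n) (hb : i ≠ b) :
    tv (F := F) i b hb ∈ qSub (F := F) i j := by
  rw [mem_qSub]
  show Supp i j (Matrix.transvection i b 1 - 1)
  rw [Matrix.transvection, add_sub_cancel_left]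
  exact supp_single hij b (Ne.symm hb) 1

theorem tv_mem_qSub_col [CharP F 2] {i j : Fin n} (hij : i ≠ j) (a : Fin n) (ha : a ≠ j) :
    tv (F := F) a j ha ∈ qSub (F := F) i j := by
  rw [mem_qSub]
  show Supp i j (Matrix.transvection a j 1 - 1)
  rw [Matrix.transvection, add_sub_cancel_left]
  exact supp_single' hij a ha 1

theorem mem_centralizer_tv_iff {i j : Fin n} (hij : i ≠ j) (g : SLn) :
    g ∈ Subgroup.centralizer ({tv (F := F) i j hij} : Set SLn) ↔
      (g : Matrix (Fin n) (Fin n) F) * Matrix.single i j (1 : F)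
        = Matrix.single i j (1 : F) * (g : Matrix (Fin n) (Fin n) F) := by
  rw [Subgroup.mem_centralizer_iff, ← comm_tv_iff i j hij g]
  constructor
  · intro h; exact h _ (Set.mem_singleton _)
  · intro h x hx
    rw [Set.mem_singleton_iff] at hx
    rw [hx]; exact h

theorem qSub_le_centralizer [CharP F 2] {i j : Fin n} (hij : i ≠ j) :
    qSub (F := F) i j ≤ Subgroup.centralizer ({tv (F := F) i j hij} : Set SLn) := by
  intro g hg
  rw [mem_centralizer_tv_iff]
  rw [mem_qSub] at hg
  have h : (g : Matrix (Fin n) (Fin n) F) = 1 + ((g : Matrix (Fin n) (Fin n) F) - 1) := by abel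
  rw [h, add_mul, mul_add, supp_mul_single hg, single_mul_supp hg, one_mul, mul_one]

theorem conj_mem_qSub [CharP F 2] {i j : Fin n} (hij : i ≠ j) {c q : SLn}
    (hc : c ∈ Subgroup.centralizer ({tv (F := F) i j hij} : Set SLn))
    (hq : q ∈ qSub (F := F) i j) : c * q * c⁻¹ ∈ qSub (F := F) i j := by
  have hc' : c⁻¹ ∈ Subgroup.centralizer ({tv (F := F) i j hij} : Set SLn) := inv_mem hc
  rw [mem_centralizer_tv_iff] at hc hc'
  rw [mem_qSub] at hq ⊢
  have h1 : ((c * q * c⁻¹ : SLn) : Matrix (Fin n) (Fin n) F) - 1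
      = (c : Matrix (Fin n) (Fin n) F) * ((q : Matrix (Fin n) (Fin n) F) - 1)
        * ((c⁻¹ : SLn) : Matrix (Fin n) (Fin n) F) := by
    have h2 : (c : Matrix (Fin n) (Fin n) F) * ((c⁻¹ : SLn) : Matrix (Fin n) (Fin n) F) = 1 := by
      rw [← Matrix.SpecialLinearGroup.coe_mul, mul_inv_cancel, Matrix.SpecialLinearGroup.coe_one]
    rw [Matrix.SpecialLinearGroup.coe_mul, Matrix.SpecialLinearGroup.coe_mul, mul_sub, sub_mul,
      mul_one, h2]
  rw [h1]
  exact supp_mul_cshape (cshape_mul_supp (cshape_of_comm hc) hq) (cshape_of_comm hc')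

theorem centralizer_le_normalizer_qSub [CharP F 2] {i j : Fin n} (hij : i ≠ j) :
    Subgroup.centralizer ({tv (F := F) i j hij} : Set SLn)
      ≤ Subgroup.normalizer ((qSub (F := F) i j : Subgroup SLn) : Set SLn) := by
  intro c hc
  rw [Subgroup.mem_normalizer_iff]
  intro q
  constructor
  · intro hq; exact conj_mem_qSub hij hc hq
  · intro hq
    have := conj_mem_qSub hij (inv_mem hc) hq
    have e : c⁻¹ * (c * q * c⁻¹) * c⁻¹⁻¹ = q := by group
    rwa [e] at this

theorem zero_or_one_of_card_two (hF : Fintype.card F = 2) (x : F) : x = 0 ∨ x = 1 := by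
  by_contra h
  push Not at h
  have h3 : ({0, 1, x} : Finset F).card = 3 := by
    rw [Finset.card_insert_of_notMem, Finset.card_insert_of_notMem, Finset.card_singleton]
    · simp only [Finset.mem_singleton]; exact fun e => h.2 e.symm
    · simp only [Finset.mem_insert, Finset.mem_singleton, not_or]
      exact ⟨zero_ne_one, fun e => h.1 e.symm⟩
  have := Finset.card_le_univ ({0, 1, x} : Finset F)
  omega

theorem centralizer_qSub_le [CharP F 2] (hF : Fintype.card F = 2) {i j : Fin n} (hij : i ≠ j)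
    {g : SLn} (hg : g ∈ Subgroup.centralizer ((qSub (F := F) i j : Subgroup SLn) : Set SLn)) :
    g ∈ qSub (F := F) i j := by
  rw [Subgroup.mem_centralizer_iff] at hg
  have hrow : ∀ b, b ≠ i → (∀ c, c ≠ b → (g : Matrix (Fin n) (Fin n) F) b c = 0) ∧
      (g : Matrix (Fin n) (Fin n) F) i i = (g : Matrix (Fin n) (Fin n) F) b b := by
    intro b hb
    have h := hg _ (tv_mem_qSub_row hij b (Ne.symm hb))
    rw [comm_tv_iff] at h
    exact row_of_comm h
  have hcol : ∀ a, a ≠ j → ∀ c, c ≠ a → (g : Matrix (Fin n) (Fin n) F) c a = 0 := by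
    intro a ha
    have h := hg _ (tv_mem_qSub_col hij a ha)
    rw [comm_tv_iff] at h
    exact col_of_comm h
  have hii : (g : Matrix (Fin n) (Fin n) F) i i = 1 := by
    rcases zero_or_one_of_card_two hF ((g : Matrix (Fin n) (Fin n) F) i i) with h0 | h1
    · exfalso
      have hdet : (g : Matrix (Fin n) (Fin n) F).det = 0 := by
        apply Matrix.det_eq_zero_of_column_eq_zero i
        intro c
        by_cases hc : c = i
        · rw [hc]; exact h0
        · exact hcol i hij c hc
      rw [g.2] at hdet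
      exact one_ne_zero hdet
    · exact h1
  have hdiag : ∀ b, (g : Matrix (Fin n) (Fin n) F) b b = 1 := by
    intro b
    by_cases hb : b = i
    · rw [hb]; exact hii
    · rw [← (hrow b hb).2]; exact hii
  rw [mem_qSub]
  refine ⟨fun a => ?_, fun b => ?_, fun a b ha hb => ?_⟩
  · rw [Matrix.sub_apply]
    by_cases ha : a = i
    · rw [ha, hii, Matrix.one_apply_eq, sub_self]
    · rw [hcol i hij a ha, Matrix.one_apply_ne ha, sub_self]
  · rw [Matrix.sub_apply]
    by_cases hb : b = j
    · rw [hb, hdiag, Matrix.one_apply_eq, sub_self]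
    · rw [(hrow j (Ne.symm hij)).1 b hb, Matrix.one_apply_ne (Ne.symm hb), sub_self]
  · rw [Matrix.sub_apply]
    by_cases hab : a = b
    · rw [hab, hdiag, Matrix.one_apply_eq, sub_self]
    · rw [(hrow a ha).1 b (Ne.symm hab), Matrix.one_apply_ne hab, sub_self]

end

/-- Let F be a field with 2 elements, n ≥ 3, and t ∈ SL(n, F) a transvection (t = 1 + E_{ij}, i ≠ j). Then the generalized Fitting subgroup of C(t) is O_2(C(t)). -/
theorem result {F : Type*} [Field F] [Fintype F] [DecidableEq F] (hF : Fintype.card F = 2) (n : ℕ) (hn : 3 ≤ n) (i j : Fin n) (hij : i ≠ j) (t : Matrix.SpecialLinearGroup (Fin n) F) (ht : (t : Matrix (Fin n) (Fin n) F) = Matrix.transvection i j 1) : Cfsg.generalizedFittingSubgroup ↥(Subgroup.centralizer ({t} : Set (Matrix.SpecialLinearGroup (Fin n) F))) = Cfsg.pCore 2 ↥(Subgroup.centralizer ({t} : Set (Matrix.SpecialLinearGroup (Fin n) F))) := by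
  haveI : CharP F 2 := charP_of_card_eq_prime hF
  have htv : t = tv (F := F) i j hij := Subtype.ext ht
  subst htv
  rw [Cfsg.Agent.helper14.fstar_type_iff]
  unfold Cfsg.Agent.helper14.AC
  have hQ : qSub (F := F) i j ≤ Cfsg.pCoreOf 2
      (Subgroup.centralizer ({tv (F := F) i j hij} : Set (Matrix.SpecialLinearGroup (Fin n) F))) :=
    Cfsg.Agent.helper14.le_pCoreOf_of_normal _ _ (qSub_le_centralizer hij)
      (centralizer_le_normalizer_qSub hij) (qSub_isPGroup i j)
  intro x hx
  apply hQ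
  exact centralizer_qSub_le hF hij (Subgroup.centralizer_le hQ hx.2)

end Cfsg.Agent.S1339
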