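import Mathlib
import Cfsg.Agent.S1339
import Cfsg.Agent.Lib_helper1_ElemAb
import Cfsg.Agent.Lib_helper1_PGroup
import Cfsg.Prelude.Def_Transfer

set_option autoImplicit false

namespace Cfsg.Agent.helper25.TransvB

open Matrix Cfsg.Agent.helper25.Transv Cfsg.Agent.S1339

section mat
variable {ι : Type*} [Fintype ι] [DecidableEq ι] {R : Type*} [CommRing R]

/-- The product of two matrices in `Supp` vanishes off row `i`. -/
theorem supp_mul_row {i j : ι} {N M : Matrix ι ι R} (hN : Supp i j N) (hM : Supp i j M)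
    (a b : ι) (ha : a ≠ i) : (N * M) a b = 0 := by
  rw [Matrix.mul_apply]
  refine Finset.sum_eq_zero fun k _ => ?_
  by_cases hk : k = j
  · rw [hk, hM.2.1 b, mul_zero]
  · rw [hN.2.2 a k ha hk, zero_mul]

theorem supp_mul_off {i j : ι} {N M : Matrix ι ι R} (hN : Supp i j N) (hM : Supp i j M)
    (a b : ι) (hab : ¬ (a = i ∧ b = j)) : (N * M) a b = 0 := by
  by_cases ha : a = i
  · exact supp_mul_col hN hM a b (fun hb => hab ⟨ha, hb⟩)
  · exact supp_mul_row hN hM a b ha

end mat

section grp
variable {F : Type*} [Field F] [Fintype F] [DecidableEq F] {n : ℕ}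

local notation "SLn" => Matrix.SpecialLinearGroup (Fin n) F

/-- Two elements agreeing off position `(i,j)`, the second in `Q`, differ by `1` or the
transvection. -/
theorem eq_or_eq_tv_mul (hF : Fintype.card F = 2) {i j : Fin n} (hij : i ≠ j) (x y : SLn)
    (hy : Supp i j ((y : Matrix (Fin n) (Fin n) F) - 1))
    (h : ∀ a b, ¬ (a = i ∧ b = j) → (x : Matrix (Fin n) (Fin n) F) a b
      = (y : Matrix (Fin n) (Fin n) F) a b) :
    x = y ∨ x = tv i j hij * y := by
  have hzy : ((tv i j hij * y : SLn) : Matrix (Fin n) (Fin n) F)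
      = (y : Matrix (Fin n) (Fin n) F) + Matrix.single i j (1 : F) := by
    rw [Matrix.SpecialLinearGroup.coe_mul]
    show Matrix.transvection i j 1 * (y : Matrix (Fin n) (Fin n) F) = _
    have e : (y : Matrix (Fin n) (Fin n) F) = 1 + ((y : Matrix (Fin n) (Fin n) F) - 1) := by abel
    rw [Matrix.transvection, add_mul, one_mul]
    conv_lhs => rw [e, mul_add, single_mul_supp hy, add_zero, mul_one, ← e]
  rcases zero_or_one_of_card_two hF ((x : Matrix (Fin n) (Fin n) F) i j
      - (y : Matrix (Fin n) (Fin n) F) i j) with h0 | h1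
  · left
    apply Subtype.ext
    ext a b
    by_cases hab : a = i ∧ b = j
    · rw [hab.1, hab.2]; exact sub_eq_zero.mp h0
    · exact h a b hab
  · right
    apply Subtype.ext
    rw [hzy]
    ext a b
    rw [Matrix.add_apply]
    by_cases hab : a = i ∧ b = j
    · rw [hab.1, hab.2, Matrix.single_apply_same]
      linear_combination h1
    · have hs : Matrix.single i j (1 : F) a b = 0 :=
        Matrix.single_apply_of_ne i j (1 : F) a b (fun hh => hab ⟨hh.1.symm, hh.2.symm⟩)
      rw [hs, add_zero]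
      exact h a b hab

/-- Entries of an element centralizing `Q`. -/
theorem centralizer_qSub_entries [CharP F 2] (hF : Fintype.card F = 2) {i j : Fin n} (hij : i ≠ j)
    {g : SLn} (hg : g ∈ Subgroup.centralizer ((qSub (F := F) i j : Subgroup SLn) : Set SLn)) :
    ∀ a b, ¬ (a = i ∧ b = j) → (g : Matrix (Fin n) (Fin n) F) a b
      = ((1 : SLn) : Matrix (Fin n) (Fin n) F) a b := by
  rw [Subgroup.mem_centralizer_iff] at hg
  have hrow : ∀ b, b ≠ i → (∀ c, c ≠ b → (g : Matrix (Fin n) (Fin n) F) b c = 0) ∧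
      (g : Matrix (Fin n) (Fin n) F) i i = (g : Matrix (Fin n) (Fin n) F) b b := by
    intro b hb
    have h := hg _ (tv_mem_qSub_row hij b (Ne.symm hb))
    rw [comm_tv_iff] at h
    exact row_of_comm h
  have hcol : ∀ a, a ≠ j → ∀ c, c ≠ a → (g : Matrix (Fin n) (Fin n) F) c a = 0 := by
    intro a ha
    have h := hg _ (tv_mem_qSub_col hij a ha)
    rw [comm_tv_iff] at h
    exact col_of_comm h
  have hii : (g : Matrix (Fin n) (Fin n) F) i i = 1 := by
    rcases zero_or_one_of_card_two hF ((g : Matrix (Fin n) (Fin n) F) i i) with h0 | h1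
    · exfalso
      have hdet : (g : Matrix (Fin n) (Fin n) F).det = 0 := by
        apply Matrix.det_eq_zero_of_column_eq_zero i
        intro c
        by_cases hc : c = i
        · rw [hc]; exact h0
        · exact hcol i hij c hc
      rw [g.2] at hdet
      exact one_ne_zero hdet
    · exact h1
  have hdiag : ∀ b, (g : Matrix (Fin n) (Fin n) F) b b = 1 := by
    intro b
    by_cases hb : b = i
    · rw [hb]; exact hii
    · rw [← (hrow b hb).2]; exact hii
  intro a b hab
  rw [Matrix.SpecialLinearGroup.coe_one]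
  by_cases hab' : a = b
  · rw [hab', hdiag, Matrix.one_apply_eq]
  · rw [Matrix.one_apply_ne hab']
    by_cases ha : a = i
    · have hb : b ≠ j := fun hb => hab ⟨ha, hb⟩
      exact hcol b hb a hab'
    · exact (hrow a ha).1 b (Ne.symm hab')

theorem supp_one_sub (i j : Fin n) :
    Supp i j (((1 : SLn) : Matrix (Fin n) (Fin n) F) - 1) := by
  rw [Matrix.SpecialLinearGroup.coe_one, sub_self]; exact supp_zero i j

theorem centralizer_cases [CharP F 2] (hF : Fintype.card F = 2) {i j : Fin n} (hij : i ≠ j)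
    {g : SLn} (hg : g ∈ Subgroup.centralizer ((qSub (F := F) i j : Subgroup SLn) : Set SLn)) :
    g = 1 ∨ g = tv i j hij := by
  rcases eq_or_eq_tv_mul hF hij g 1 (supp_one_sub i j) (centralizer_qSub_entries hF hij hg)
    with h | h
  · exact Or.inl h
  · right; rw [h, mul_one]

theorem tv_mem_qSub [CharP F 2] {i j : Fin n} (hij : i ≠ j) :
    tv (F := F) i j hij ∈ qSub (F := F) i j := tv_mem_qSub_row hij j hij

theorem tv_ne_one {i j : Fin n} (hij : i ≠ j) : tv (F := F) i j hij ≠ 1 := by
  intro h
  have := congrArg (fun x : SLn => (x : Matrix (Fin n) (Fin n) F) i j) h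
  simp only [Matrix.SpecialLinearGroup.coe_one, Matrix.one_apply_ne hij] at this
  have h2 : (tv (F := F) i j hij : Matrix (Fin n) (Fin n) F) i j = 1 := by
    show Matrix.transvection i j (1 : F) i j = 1
    rw [Matrix.transvection, Matrix.add_apply, Matrix.one_apply_ne hij, zero_add,
      Matrix.single_apply_same]
  rw [h2] at this
  exact one_ne_zero this

theorem tv_mem_centralizer_qSub [CharP F 2] {i j : Fin n} (hij : i ≠ j) :
    tv (F := F) i j hij ∈ Subgroup.centralizer ((qSub (F := F) i j : Subgroup SLn) : Set SLn) := by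
  rw [Subgroup.mem_centralizer_iff]
  intro q hq
  have := qSub_le_centralizer hij hq
  rw [Subgroup.mem_centralizer_iff] at this
  exact (this _ (Set.mem_singleton _)).symm

/-- Squares in `Q`. -/
theorem sq_cases [CharP F 2] (hF : Fintype.card F = 2) {i j : Fin n} (hij : i ≠ j) {x : SLn}
    (hx : x ∈ qSub (F := F) i j) : x * x = 1 ∨ x * x = tv i j hij := by
  rw [mem_qSub] at hx
  rcases eq_or_eq_tv_mul hF hij (x * x) 1 (supp_one_sub i j) (by
    intro a b hab
    rw [Matrix.SpecialLinearGroup.coe_mul, Matrix.SpecialLinearGroup.coe_one]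
    have e : (x : Matrix (Fin n) (Fin n) F) * (x : Matrix (Fin n) (Fin n) F)
        = 1 + ((x : Matrix (Fin n) (Fin n) F) - 1) * ((x : Matrix (Fin n) (Fin n) F) - 1)
          + (2 : ℕ) • ((x : Matrix (Fin n) (Fin n) F) - 1) := by
      noncomm_ring
    rw [e, Matrix.add_apply, Matrix.add_apply, supp_mul_off hx hx a b hab, add_zero]
    have h2 : (2 : ℕ) • ((x : Matrix (Fin n) (Fin n) F) - 1) = 0 := by
      ext c d
      rw [Matrix.smul_apply, Matrix.zero_apply, nsmul_eq_mul]
      have : ((2 : ℕ) : F) = 0 := CharP.cast_eq_zero F 2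
      rw [this, zero_mul]
    rw [h2, Matrix.zero_apply, add_zero]) with h | h
  · exact Or.inl h
  · right; rw [h, mul_one]

/-- Commutation in `Q`. -/
theorem comm_cases [CharP F 2] (hF : Fintype.card F = 2) {i j : Fin n} (hij : i ≠ j) {x y : SLn}
    (hx : x ∈ qSub (F := F) i j) (hy : y ∈ qSub (F := F) i j) :
    x * y = y * x ∨ x * y = tv i j hij * (y * x) := by
  have hyx : y * x ∈ qSub (F := F) i j := mul_mem hy hx
  rw [mem_qSub] at hx hy hyx
  apply eq_or_eq_tv_mul hF hij (x * y) (y * x) hyx
  intro a b hab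
  rw [Matrix.SpecialLinearGroup.coe_mul, Matrix.SpecialLinearGroup.coe_mul]
  have e : (x : Matrix (Fin n) (Fin n) F) * (y : Matrix (Fin n) (Fin n) F)
      = (y : Matrix (Fin n) (Fin n) F) * (x : Matrix (Fin n) (Fin n) F)
        + ((x : Matrix (Fin n) (Fin n) F) - 1) * ((y : Matrix (Fin n) (Fin n) F) - 1)
        - ((y : Matrix (Fin n) (Fin n) F) - 1) * ((x : Matrix (Fin n) (Fin n) F) - 1) := by
    noncomm_ring
  rw [e, Matrix.sub_apply, Matrix.add_apply, supp_mul_off hx hy a b hab,
    supp_mul_off hy hx a b hab, add_zero, sub_zero]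

theorem mem_center_qSub_iff [CharP F 2] (hF : Fintype.card F = 2) {i j : Fin n} (hij : i ≠ j)
    (x : ↥(qSub (F := F) (n := n) i j)) :
    x ∈ Subgroup.center ↥(qSub (F := F) (n := n) i j) ↔
      (x : SLn) = 1 ∨ (x : SLn) = tv i j hij := by
  constructor
  · intro hx
    apply centralizer_cases hF hij
    rw [Subgroup.mem_centralizer_iff]
    intro q hq
    have := Subgroup.mem_center_iff.mp hx ⟨q, hq⟩
    exact congrArg Subtype.val this
  · intro hx
    rw [Subgroup.mem_center_iff]
    intro y
    apply Subtype.ext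
    rw [Subgroup.coe_mul, Subgroup.coe_mul]
    rcases hx with h | h
    · rw [h, mul_one, one_mul]
    · rw [h]
      have := tv_mem_centralizer_qSub (F := F) hij
      rw [Subgroup.mem_centralizer_iff] at this
      exact this _ y.2

theorem card_center_qSub [CharP F 2] (hF : Fintype.card F = 2) {i j : Fin n} (hij : i ≠ j) :
    Nat.card (Subgroup.center ↥(qSub (F := F) (n := n) i j)) = 2 := by
  rw [Nat.card_eq_two_iff]
  have h1 : (1 : ↥(qSub (F := F) (n := n) i j)) ∈ Subgroup.center ↥(qSub (F := F) (n := n) i j) :=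
    one_mem _
  have h2 : (⟨tv i j hij, tv_mem_qSub hij⟩ : ↥(qSub (F := F) (n := n) i j)) ∈
      Subgroup.center ↥(qSub (F := F) (n := n) i j) :=
    (mem_center_qSub_iff hF hij _).mpr (Or.inr rfl)
  refine ⟨⟨1, h1⟩, ⟨_, h2⟩, ?_, ?_⟩
  · intro h
    have := congrArg (fun x : Subgroup.center ↥(qSub (F := F) (n := n) i j) => ((x : ↥(qSub (F := F) (n := n) i j)) : SLn)) h
    exact tv_ne_one hij this.symm
  · ext ⟨x, hx⟩
    simp only [Set.mem_insert_iff, Set.mem_singleton_iff, Set.mem_univ, iff_true]
    rcases (mem_center_qSub_iff hF hij x).mp hx with h | h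
    · left; apply Subtype.ext; apply Subtype.ext; exact h
    · right; apply Subtype.ext; apply Subtype.ext; exact h

theorem commutator_qSub_le_center [CharP F 2] (hF : Fintype.card F = 2) {i j : Fin n}
    (hij : i ≠ j) :
    commutator ↥(qSub (F := F) (n := n) i j) ≤ Subgroup.center ↥(qSub (F := F) (n := n) i j) := by
  rw [commutator_def, Subgroup.commutator_le]
  intro x _ y _
  rw [mem_center_qSub_iff hF hij]
  rcases comm_cases hF hij x.2 y.2 with h | h
  · left
    show (x : SLn) * (y : SLn) * (x : SLn)⁻¹ * (y : SLn)⁻¹ = 1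
    rw [h]; group
  · right
    show (x : SLn) * (y : SLn) * (x : SLn)⁻¹ * (y : SLn)⁻¹ = tv i j hij
    rw [h]; group

theorem tv_comm_ne {i j b : Fin n} (hij : i ≠ j) (hbi : b ≠ i) (hbj : b ≠ j) :
    tv (F := F) i b (Ne.symm hbi) * tv b j hbj ≠ tv b j hbj * tv i b (Ne.symm hbi) := by
  intro h
  have h1 := congrArg (fun x : SLn => (x : Matrix (Fin n) (Fin n) F) i j) h
  simp only [Matrix.SpecialLinearGroup.coe_mul] at h1
  have e1 : ((tv (F := F) i b (Ne.symm hbi) : SLn) : Matrix (Fin n) (Fin n) F)
      = 1 + Matrix.single i b (1 : F) := rfl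
  have e2 : ((tv (F := F) b j hbj : SLn) : Matrix (Fin n) (Fin n) F)
      = 1 + Matrix.single b j (1 : F) := rfl
  rw [e1, e2] at h1
  have l : ((1 + Matrix.single i b (1 : F)) * (1 + Matrix.single b j (1 : F))
      : Matrix (Fin n) (Fin n) F) i j = 1 := by
    rw [add_mul, mul_add, mul_add, one_mul, one_mul, mul_one, Matrix.single_mul_single_same,
      Matrix.add_apply, Matrix.add_apply, Matrix.add_apply, Matrix.one_apply_ne hij,
      Matrix.single_apply_of_row_ne hbi, Matrix.single_apply_of_col_ne i i hbj,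
      Matrix.single_apply_same]
    simp
  have r : ((1 + Matrix.single b j (1 : F)) * (1 + Matrix.single i b (1 : F))
      : Matrix (Fin n) (Fin n) F) i j = 0 := by
    rw [add_mul, mul_add, mul_add, one_mul, one_mul, mul_one,
      Matrix.single_mul_single_of_ne _ _ _ _ (Ne.symm hij),
      Matrix.add_apply, Matrix.add_apply, Matrix.add_apply, Matrix.one_apply_ne hij,
      Matrix.single_apply_of_row_ne hbi, Matrix.single_apply_of_col_ne i i hbj]
    simp
  rw [l, r] at h1
  exact one_ne_zero h1

theorem center_qSub_le_commutator [CharP F 2] (hF : Fintype.card F = 2) {i j b : Fin n}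
    (hij : i ≠ j) (hbi : b ≠ i) (hbj : b ≠ j) :
    Subgroup.center ↥(qSub (F := F) (n := n) i j) ≤ commutator ↥(qSub (F := F) (n := n) i j) := by
  intro x hx
  rcases (mem_center_qSub_iff hF hij x).mp hx with h | h
  · have : x = 1 := Subtype.ext h
    rw [this]; exact one_mem _
  · have hu : tv (F := F) i b (Ne.symm hbi) ∈ qSub (F := F) i j :=
      tv_mem_qSub_row hij b (Ne.symm hbi)
    have hv : tv (F := F) b j hbj ∈ qSub (F := F) i j := tv_mem_qSub_col hij b hbj
    let u' : ↥(qSub (F := F) (n := n) i j) := ⟨_, hu⟩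
    let v' : ↥(qSub (F := F) (n := n) i j) := ⟨_, hv⟩
    have hc : x = u' * v' * u'⁻¹ * v'⁻¹ := by
      apply Subtype.ext
      rw [h]
      show tv i j hij = tv (F := F) i b (Ne.symm hbi) * tv b j hbj
        * (tv (F := F) i b (Ne.symm hbi))⁻¹ * (tv b j hbj)⁻¹
      rcases comm_cases hF hij hu hv with h' | h'
      · exact absurd h' (tv_comm_ne hij hbi hbj)
      · rw [h']; group
    rw [hc, commutator_def]
    have := Subgroup.commutator_mem_commutator (Subgroup.mem_top u')
      (Subgroup.mem_top v')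
    rwa [commutatorElement_def] at this

theorem isExtraspecial_qSub [CharP F 2] (hF : Fintype.card F = 2) {i j b : Fin n}
    (hij : i ≠ j) (hbi : b ≠ i) (hbj : b ≠ j) :
    Cfsg.IsExtraspecial 2 ↥(qSub (F := F) (n := n) i j) := by
  have hcomm : commutator ↥(qSub (F := F) (n := n) i j)
      = Subgroup.center ↥(qSub (F := F) (n := n) i j) :=
    le_antisymm (commutator_qSub_le_center hF hij) (center_qSub_le_commutator hF hij hbi hbj)
  have hP : IsPGroup 2 ↥(qSub (F := F) (n := n) i j) := qSub_isPGroup i j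
  haveI : Finite ↥(qSub (F := F) (n := n) i j) := inferInstance
  refine ⟨⟨hP, ?_, hcomm⟩, card_center_qSub hF hij⟩
  apply le_antisymm
  · apply Cfsg.Agent.helper1.frattini_le_of_elemAb_quot (p := 2) _ hcomm.le
    intro x
    rw [mem_center_qSub_iff hF hij]
    rw [pow_two, Subgroup.coe_mul]
    exact sq_cases hF hij x.2
  · rw [← hcomm]
    exact Cfsg.Agent.helper1.commutator_le_frattini_of_isPGroup hP

end grp

end Cfsg.Agent.helper25.TransvB
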