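import Mathlib
import Cfsg.Agent.Lib_helper25_TransvB

set_option autoImplicit false

namespace Cfsg.Agent.helper25.TransvC

open Matrix Cfsg.Agent.helper25.Transv Cfsg.Agent.S1339 Cfsg.Agent.helper25.TransvB

section mat
variable {R : Type*} [CommRing R] {n : ℕ}

/-- The index bijection `Fin 2 ⊕ Fin n ≃ Fin (n + 2)`. -/
def e2 (n : ℕ) : Fin 2 ⊕ Fin n ≃ Fin (n + 2) :=
  finSumFinEquiv.trans (finCongr (Nat.add_comm 2 n))

theorem e2_inl0 : e2 n (Sum.inl 0) = 0 := by
  apply Fin.ext; simp [e2]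

theorem e2_inl1 : e2 n (Sum.inl 1) = 1 := by
  apply Fin.ext; simp [e2]

theorem e2_inr (y : Fin n) : e2 n (Sum.inr y) = y.succ.succ := by
  apply Fin.ext; simp [e2]

theorem e2_inl_ne_zero {x : Fin 2} (h : e2 n (Sum.inl x) ≠ 0) : x ≠ 0 := by
  rintro rfl; exact h e2_inl0

theorem e2_inl_ne_one {x : Fin 2} (h : e2 n (Sum.inl x) ≠ 1) : x ≠ 1 := by
  rintro rfl; exact h e2_inl1

/-- The block matrix `diag(1, 1, A)`. -/
def blk (A : Matrix (Fin n) (Fin n) R) : Matrix (Fin (n + 2)) (Fin (n + 2)) R :=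
  Matrix.reindex (e2 n) (e2 n) (Matrix.fromBlocks 1 0 0 A)

theorem blk_apply (A : Matrix (Fin n) (Fin n) R) (x y : Fin 2 ⊕ Fin n) :
    blk A (e2 n x) (e2 n y) = Matrix.fromBlocks 1 0 0 A x y := by
  simp [blk]

theorem blk_mul (A B : Matrix (Fin n) (Fin n) R) : blk (A * B) = blk A * blk B := by
  unfold blk
  rw [Matrix.reindex_apply, Matrix.reindex_apply, Matrix.reindex_apply,
    Matrix.submatrix_mul_equiv, Matrix.fromBlocks_multiply]
  simp

theorem blk_one : blk (1 : Matrix (Fin n) (Fin n) R) = 1 := by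
  unfold blk
  rw [Matrix.fromBlocks_one, Matrix.reindex_apply, Matrix.submatrix_one_equiv]

theorem det_blk (A : Matrix (Fin n) (Fin n) R) : (blk A).det = A.det := by
  unfold blk
  rw [Matrix.det_reindex_self, Matrix.det_fromBlocks_zero₂₁, Matrix.det_one, one_mul]

/-- The middle block. -/
def mid (M : Matrix (Fin (n + 2)) (Fin (n + 2)) R) : Matrix (Fin n) (Fin n) R :=
  fun a b => M a.succ.succ b.succ.succ

theorem mid_blk (A : Matrix (Fin n) (Fin n) R) : mid (blk A) = A := by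
  ext a b
  show blk A a.succ.succ b.succ.succ = A a b
  rw [← e2_inr, ← e2_inr, blk_apply, Matrix.fromBlocks_apply₂₂]

theorem mid_one : mid (1 : Matrix (Fin (n + 2)) (Fin (n + 2)) R) = 1 := by
  rw [← blk_one, mid_blk]

theorem cshape_blk (A : Matrix (Fin n) (Fin n) R) : CShape 0 1 (blk A) := by
  constructor
  · intro a ha
    obtain ⟨x, rfl⟩ := (e2 n).surjective a
    rw [← e2_inl0, blk_apply]
    rcases x with x | x
    · rw [Matrix.fromBlocks_apply₁₁]
      exact Matrix.one_apply_ne (e2_inl_ne_zero ha)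
    · rw [Matrix.fromBlocks_apply₂₁]; rfl
  · intro b hb
    obtain ⟨y, rfl⟩ := (e2 n).surjective b
    rw [← e2_inl1, blk_apply]
    rcases y with y | y
    · rw [Matrix.fromBlocks_apply₁₁]
      exact Matrix.one_apply_ne (Ne.symm (e2_inl_ne_one hb))
    · rw [Matrix.fromBlocks_apply₁₂]; rfl

theorem blk_00 (A : Matrix (Fin n) (Fin n) R) : blk A 0 0 = 1 := by
  have := blk_apply A (Sum.inl 0) (Sum.inl 0)
  rw [e2_inl0] at this
  rw [this, Matrix.fromBlocks_apply₁₁, Matrix.one_apply_eq]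

theorem blk_11 (A : Matrix (Fin n) (Fin n) R) : blk A 1 1 = 1 := by
  have := blk_apply A (Sum.inl 1) (Sum.inl 1)
  rw [e2_inl1] at this
  rw [this, Matrix.fromBlocks_apply₁₁, Matrix.one_apply_eq]

theorem mid_mul_of_cshape {g h : Matrix (Fin (n + 2)) (Fin (n + 2)) R} (hg : CShape 0 1 g)
    (hh : CShape 0 1 h) : mid (g * h) = mid g * mid h := by
  ext a b
  show (g * h) a.succ.succ b.succ.succ = (mid g * mid h) a b
  rw [Matrix.mul_apply, Matrix.mul_apply, Fin.sum_univ_succ, Fin.sum_univ_succ]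
  have h0 : g a.succ.succ 0 = 0 := hg.1 _ (Fin.succ_ne_zero _)
  have h1 : h (Fin.succ 0) b.succ.succ = 0 := by
    rw [Fin.succ_zero_eq_one]
    apply hh.2
    intro hb
    have := congrArg Fin.val hb
    simp at this
  rw [h0, zero_mul, zero_add, h1, mul_zero, zero_add]
  rfl

/-- Commuting with `E_{ij}` from the shape. -/
theorem comm_single_of_cshape {ι : Type*} [Fintype ι] [DecidableEq ι] {i j : ι}
    {g : Matrix ι ι R} (hg : CShape i j g) (hd : g i i = g j j) :
    g * Matrix.single i j (1 : R) = Matrix.single i j (1 : R) * g := by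
  ext a b
  by_cases hb : b = j
  · by_cases ha : a = i
    · rw [ha, hb, Matrix.mul_single_apply_same, Matrix.single_mul_apply_same, mul_one, one_mul, hd]
    · rw [hb, Matrix.mul_single_apply_same, Matrix.single_mul_apply_of_ne (1 : R) i j a j ha g,
        hg.1 a ha, zero_mul]
  · rw [Matrix.mul_single_apply_of_ne (1 : R) i j a b hb g]
    by_cases ha : a = i
    · rw [ha, Matrix.single_mul_apply_same, hg.2 b hb, mul_zero]
    · rw [Matrix.single_mul_apply_of_ne (1 : R) i j a b ha g]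

end mat

section grp
variable {F : Type*} [Field F] [Fintype F] [DecidableEq F] [CharP F 2] {n : ℕ}

local notation "G2" => Matrix.SpecialLinearGroup (Fin (n + 2)) F
local notation "Gn" => Matrix.SpecialLinearGroup (Fin n) F

theorem h01 : (0 : Fin (n + 2)) ≠ 1 := by
  intro h
  have := congrArg Fin.val h
  simp at this

variable (F n) in
/-- The centralizer of the transvection `1 + E_{01}`. -/
def Cz : Subgroup G2 := Subgroup.centralizer ({tv (F := F) 0 1 h01} : Set G2)

theorem cshape_of_mem_Cz {g : G2} (hg : g ∈ Cz F n) :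
    CShape 0 1 (g : Matrix (Fin (n + 2)) (Fin (n + 2)) F) :=
  cshape_of_comm ((mem_centralizer_tv_iff h01 g).mp hg)

theorem det_mid_of_mem_Cz (hF : Fintype.card F = 2) {g : G2} (hg : g ∈ Cz F n) :
    (mid (g : Matrix (Fin (n + 2)) (Fin (n + 2)) F)).det = 1 := by
  have hg' : g⁻¹ ∈ Cz F n := inv_mem hg
  have h1 : mid (g : Matrix (Fin (n + 2)) (Fin (n + 2)) F)
      * mid ((g⁻¹ : G2) : Matrix (Fin (n + 2)) (Fin (n + 2)) F) = 1 := by
    rw [← mid_mul_of_cshape (cshape_of_mem_Cz hg) (cshape_of_mem_Cz hg'),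
      ← Matrix.SpecialLinearGroup.coe_mul, mul_inv_cancel, Matrix.SpecialLinearGroup.coe_one,
      mid_one]
  have h2 : (mid (g : Matrix (Fin (n + 2)) (Fin (n + 2)) F)).det
      * (mid ((g⁻¹ : G2) : Matrix (Fin (n + 2)) (Fin (n + 2)) F)).det = 1 := by
    rw [← Matrix.det_mul, h1, Matrix.det_one]
  rcases zero_or_one_of_card_two hF (mid (g : Matrix (Fin (n + 2)) (Fin (n + 2)) F)).det
    with h | h
  · rw [h, zero_mul] at h2; exact absurd h2 zero_ne_one
  · exact h

/-- The projection of `C` onto `SL_n`. -/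
def beta (hF : Fintype.card F = 2) : ↥(Cz F n) →* Gn where
  toFun g := ⟨mid ((g : G2) : Matrix (Fin (n + 2)) (Fin (n + 2)) F), det_mid_of_mem_Cz hF g.2⟩
  map_one' := Subtype.ext (by
    show mid (((1 : ↥(Cz F n)) : G2) : Matrix (Fin (n + 2)) (Fin (n + 2)) F) = 1
    rw [Subgroup.coe_one, Matrix.SpecialLinearGroup.coe_one, mid_one])
  map_mul' g h := Subtype.ext (by
    show mid (((g * h : ↥(Cz F n)) : G2) : Matrix (Fin (n + 2)) (Fin (n + 2)) F)
      = mid ((g : G2) : Matrix (Fin (n + 2)) (Fin (n + 2)) F)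
        * mid ((h : G2) : Matrix (Fin (n + 2)) (Fin (n + 2)) F)
    rw [Subgroup.coe_mul, Matrix.SpecialLinearGroup.coe_mul]
    exact mid_mul_of_cshape (cshape_of_mem_Cz g.2) (cshape_of_mem_Cz h.2))

theorem beta_coe (hF : Fintype.card F = 2) (g : ↥(Cz F n)) :
    ((beta hF g : Gn) : Matrix (Fin n) (Fin n) F)
      = mid ((g : G2) : Matrix (Fin (n + 2)) (Fin (n + 2)) F) := rfl

/-- The embedding of `SL_n` as the Levi complement. -/
def kHom : Gn →* G2 where
  toFun A := ⟨blk (A : Matrix (Fin n) (Fin n) F), by rw [det_blk]; exact A.2⟩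
  map_one' := Subtype.ext (by
    show blk ((1 : Gn) : Matrix (Fin n) (Fin n) F) = 1
    rw [Matrix.SpecialLinearGroup.coe_one, blk_one])
  map_mul' A B := Subtype.ext (by
    show blk ((A * B : Gn) : Matrix (Fin n) (Fin n) F) = blk (A : Matrix (Fin n) (Fin n) F)
      * blk (B : Matrix (Fin n) (Fin n) F)
    rw [Matrix.SpecialLinearGroup.coe_mul, blk_mul])

theorem kHom_coe (A : Gn) : ((kHom A : G2) : Matrix (Fin (n + 2)) (Fin (n + 2)) F)
    = blk (A : Matrix (Fin n) (Fin n) F) := rfl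

theorem kHom_mem_Cz (A : Gn) : kHom A ∈ Cz F n := by
  unfold Cz
  rw [mem_centralizer_tv_iff, kHom_coe]
  exact comm_single_of_cshape (cshape_blk _) (by rw [blk_00, blk_11])

theorem beta_kHom (hF : Fintype.card F = 2) (A : Gn) :
    beta hF ⟨kHom A, kHom_mem_Cz A⟩ = A :=
  Subtype.ext (by rw [beta_coe]; show mid (blk _) = _; rw [mid_blk])

theorem kHom_injective : Function.Injective (kHom (F := F) (n := n)) := by
  intro A B h
  have := congrArg (fun x : G2 => mid (x : Matrix (Fin (n + 2)) (Fin (n + 2)) F)) h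
  simp only [kHom_coe, mid_blk] at this
  exact Subtype.ext this

theorem diag_of_mem_Cz (hF : Fintype.card F = 2) {g : G2} (hg : g ∈ Cz F n) :
    (g : Matrix (Fin (n + 2)) (Fin (n + 2)) F) 0 0 = 1
      ∧ (g : Matrix (Fin (n + 2)) (Fin (n + 2)) F) 1 1 = 1 := by
  have hc := cshape_of_mem_Cz hg
  constructor
  · rcases zero_or_one_of_card_two hF ((g : Matrix (Fin (n + 2)) (Fin (n + 2)) F) 0 0)
      with h0 | h1
    · exfalso
      have hdet : (g : Matrix (Fin (n + 2)) (Fin (n + 2)) F).det = 0 := by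
        apply Matrix.det_eq_zero_of_column_eq_zero 0
        intro c
        by_cases hc0 : c = 0
        · rw [hc0]; exact h0
        · exact hc.1 c hc0
      rw [g.2] at hdet
      exact one_ne_zero hdet
    · exact h1
  · rcases zero_or_one_of_card_two hF ((g : Matrix (Fin (n + 2)) (Fin (n + 2)) F) 1 1)
      with h0 | h1
    · exfalso
      have hdet : (g : Matrix (Fin (n + 2)) (Fin (n + 2)) F).det = 0 := by
        apply Matrix.det_eq_zero_of_row_eq_zero 1
        intro c
        by_cases hc0 : c = 1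
        · rw [hc0]; exact h0
        · exact hc.2 c hc0
      rw [g.2] at hdet
      exact one_ne_zero hdet
    · exact h1

theorem one_succ_succ (a b : Fin n) :
    (1 : Matrix (Fin (n + 2)) (Fin (n + 2)) F) a.succ.succ b.succ.succ
      = (1 : Matrix (Fin n) (Fin n) F) a b :=
  congrFun (congrFun (mid_one (R := F) (n := n)) a) b

theorem mem_qSub_iff_mid (hF : Fintype.card F = 2) {g : G2} (hg : g ∈ Cz F n) :
    g ∈ qSub (F := F) 0 1 ↔ mid (g : Matrix (Fin (n + 2)) (Fin (n + 2)) F) = 1 := by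
  have hc := cshape_of_mem_Cz hg
  obtain ⟨h00, h11⟩ := diag_of_mem_Cz hF hg
  rw [mem_qSub]
  constructor
  · intro hs
    ext a b
    show (g : Matrix (Fin (n + 2)) (Fin (n + 2)) F) a.succ.succ b.succ.succ = _
    have := hs.2.2 a.succ.succ b.succ.succ (Fin.succ_ne_zero _) (by
      intro hb
      have := congrArg Fin.val hb
      simp at this)
    rw [Matrix.sub_apply, sub_eq_zero] at this
    rw [this, one_succ_succ]
  · intro hm
    have hrow1 : ∀ b, ((g : Matrix (Fin (n + 2)) (Fin (n + 2)) F) - 1) 1 b = 0 := by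
      intro b
      rw [Matrix.sub_apply]
      by_cases hb : b = 1
      · rw [hb, h11, Matrix.one_apply_eq, sub_self]
      · rw [hc.2 b hb, Matrix.one_apply_ne (Ne.symm hb), sub_self]
    refine ⟨fun a => ?_, hrow1, fun a b ha hb => ?_⟩
    · rw [Matrix.sub_apply]
      by_cases ha : a = 0
      · rw [ha, h00, Matrix.one_apply_eq, sub_self]
      · rw [hc.1 a ha, Matrix.one_apply_ne ha, sub_self]
    · rcases Fin.eq_zero_or_eq_succ a with h | ⟨a', rfl⟩
      · exact absurd h ha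
      rcases Fin.eq_zero_or_eq_succ a' with h | ⟨a'', rfl⟩
      · rw [h, Fin.succ_zero_eq_one]; exact hrow1 b
      rcases Fin.eq_zero_or_eq_succ b with h | ⟨b', rfl⟩
      · rw [h, Matrix.sub_apply, hc.1 _ ha, Matrix.one_apply_ne ha, sub_self]
      rcases Fin.eq_zero_or_eq_succ b' with h | ⟨b'', rfl⟩
      · exfalso; apply hb; rw [h, Fin.succ_zero_eq_one]
      rw [Matrix.sub_apply, one_succ_succ]
      have := congrFun (congrFun hm a'') b''
      show (g : Matrix (Fin (n + 2)) (Fin (n + 2)) F) a''.succ.succ b''.succ.succ - _ = 0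
      rw [sub_eq_zero]
      exact this

theorem beta_eq_one_iff (hF : Fintype.card F = 2) (g : ↥(Cz F n)) :
    beta hF g = 1 ↔ (g : G2) ∈ qSub (F := F) 0 1 := by
  rw [mem_qSub_iff_mid hF g.2]
  constructor
  · intro h
    have := congrArg (fun x : Gn => (x : Matrix (Fin n) (Fin n) F)) h
    simpa [beta_coe] using this
  · intro h
    apply Subtype.ext
    rw [beta_coe, h, Matrix.SpecialLinearGroup.coe_one]

theorem qSub_le_Cz : qSub (F := F) (0 : Fin (n + 2)) 1 ≤ Cz F n := qSub_le_centralizer h01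

/-- The complement. -/
theorem complement (hF : Fintype.card F = 2) :
    (kHom (F := F) (n := n)).range ≤ Cz F n ∧
    qSub (F := F) (0 : Fin (n + 2)) 1 ⊓ (kHom (F := F) (n := n)).range = ⊥ ∧
    qSub (F := F) (0 : Fin (n + 2)) 1 ⊔ (kHom (F := F) (n := n)).range = Cz F n ∧
    Nonempty (↥(kHom (F := F) (n := n)).range ≃* Gn) := by
  have hK : (kHom (F := F) (n := n)).range ≤ Cz F n := by
    rintro _ ⟨A, rfl⟩
    exact kHom_mem_Cz A
  refine ⟨hK, ?_, ?_, ⟨(MonoidHom.ofInjective kHom_injective).symm⟩⟩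
  · rw [eq_bot_iff]
    rintro x ⟨hxQ, ⟨A, rfl⟩⟩
    rw [Subgroup.mem_bot]
    have h1 := (beta_eq_one_iff hF ⟨kHom A, kHom_mem_Cz A⟩).mpr hxQ
    rw [beta_kHom] at h1
    rw [h1, map_one]
  · apply le_antisymm (sup_le qSub_le_Cz hK)
    intro g hg
    set A : Gn := beta hF ⟨g, hg⟩ with hA
    have hq : g * (kHom A)⁻¹ ∈ qSub (F := F) (0 : Fin (n + 2)) 1 := by
      have hmem : g * (kHom A)⁻¹ ∈ Cz F n := mul_mem hg (inv_mem (kHom_mem_Cz A))
      have h1 : beta hF ⟨g * (kHom A)⁻¹, hmem⟩ = 1 := by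
        have e : (⟨g * (kHom A)⁻¹, hmem⟩ : ↥(Cz F n))
            = ⟨g, hg⟩ * (⟨kHom A, kHom_mem_Cz A⟩ : ↥(Cz F n))⁻¹ := rfl
        rw [e, map_mul, map_inv, beta_kHom, ← hA, mul_inv_cancel]
      exact (beta_eq_one_iff hF ⟨_, hmem⟩).mp h1
    have : g = g * (kHom A)⁻¹ * kHom A := by group
    rw [this]
    exact Subgroup.mul_mem_sup hq ⟨A, rfl⟩

end grp

end Cfsg.Agent.helper25.TransvC
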