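import Mathlib
import Cfsg.Agent.Lib_helper25_TransvC

set_option autoImplicit false

namespace Cfsg.Agent.helper25.TransvD

open Matrix Cfsg.Agent.helper25.Transv Cfsg.Agent.S1339 Cfsg.Agent.helper25.TransvB
  Cfsg.Agent.helper25.TransvC

section grp
variable {F : Type*} [Field F] [Fintype F] [DecidableEq F] {n : ℕ}

local notation "Gn" => Matrix.SpecialLinearGroup (Fin n) F

theorem tv_mulVec (a b : Fin n) (hab : a ≠ b) (w : Fin n → F) :
    (tv (F := F) a b hab : Matrix (Fin n) (Fin n) F) *ᵥ w = w + Pi.single a (w b) := by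
  show Matrix.transvection a b (1 : F) *ᵥ w = _
  rw [Matrix.transvection, Matrix.add_mulVec, Matrix.one_mulVec, Matrix.single_mulVec, one_mul]
  rfl

/-- A normal `2`-subgroup of `SL_n(2)`, `n ≥ 2`, is trivial. -/
theorem pcore_sl_trivial (hF : Fintype.card F = 2) (hn : 2 ≤ n) (P : Subgroup Gn)
    [hPn : P.Normal] (hP : IsPGroup 2 P) : P = ⊥ := by
  classical
  -- a nonzero fixed vector
  have hcard : 2 ∣ Nat.card (Fin n → F) := by
    rw [Nat.card_eq_fintype_card, Fintype.card_fun, Fintype.card_fin, hF]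
    exact dvd_pow_self 2 (by omega)
  have h0 : (0 : Fin n → F) ∈ MulAction.fixedPoints P (Fin n → F) := by
    intro g
    exact smul_zero g
  obtain ⟨v, hv, hv0⟩ := hP.exists_fixed_point_of_prime_dvd_card_of_fixed_point (Fin n → F) hcard h0
  -- the fixed space
  set W : Set (Fin n → F) := {w | ∀ g ∈ P, (g : Matrix (Fin n) (Fin n) F) *ᵥ w = w} with hW
  have hvW : v ∈ W := by
    intro g hg
    exact hv ⟨g, hg⟩
  have hsub : ∀ w1 ∈ W, ∀ w2 ∈ W, w1 - w2 ∈ W := by
    intro w1 h1 w2 h2 g hg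
    rw [Matrix.mulVec_sub, h1 g hg, h2 g hg]
  have hinv : ∀ (h : Gn), ∀ w ∈ W, (h : Matrix (Fin n) (Fin n) F) *ᵥ w ∈ W := by
    intro h w hw g hg
    have hconj : h⁻¹ * g * h ∈ P := by
      have := hPn.conj_mem g hg h⁻¹
      rwa [inv_inv] at this
    have e : g * h = h * (h⁻¹ * g * h) := by group
    rw [Matrix.mulVec_mulVec, ← Matrix.SpecialLinearGroup.coe_mul, e,
      Matrix.SpecialLinearGroup.coe_mul, ← Matrix.mulVec_mulVec, hw _ hconj]
  -- a coordinate where v is 1
  have hva : ∃ a, v a = 1 := by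
    by_contra hcon
    push Not at hcon
    apply hv0
    funext a
    rcases zero_or_one_of_card_two hF (v a) with h | h
    · exact h.symm
    · exact absurd h (hcon a)
  obtain ⟨a, ha⟩ := hva
  have hb : ∀ b, b ≠ a → (Pi.single b (1 : F) : Fin n → F) ∈ W := by
    intro b hba
    have h1 := hinv (tv b a hba) v hvW
    rw [tv_mulVec, ha] at h1
    have h2 := hsub _ h1 _ hvW
    rwa [add_sub_cancel_left] at h2
  have hex : ∃ b0 : Fin n, b0 ≠ a := by
    by_cases h : a = ⟨0, by omega⟩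
    · exact ⟨⟨1, by omega⟩, by rw [h]; intro hh; have := congrArg Fin.val hh; simp at this⟩
    · exact ⟨⟨0, by omega⟩, fun hh => h hh.symm⟩
  obtain ⟨b0, hb0⟩ := hex
  have haW : (Pi.single a (1 : F) : Fin n → F) ∈ W := by
    have h1 := hinv (tv a b0 (Ne.symm hb0)) _ (hb b0 hb0)
    rw [tv_mulVec, Pi.single_eq_same] at h1
    have h2 := hsub _ h1 _ (hb b0 hb0)
    rwa [add_sub_cancel_left] at h2
  have hall : ∀ c, (Pi.single c (1 : F) : Fin n → F) ∈ W := by
    intro c
    by_cases hc : c = a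
    · rw [hc]; exact haW
    · exact hb c hc
  rw [eq_bot_iff]
  intro g hg
  rw [Subgroup.mem_bot]
  apply Subtype.ext
  ext r c
  have := congrFun (hall c g hg) r
  rw [Matrix.mulVec_single_one] at this
  rw [Matrix.SpecialLinearGroup.coe_one, Matrix.one_apply]
  rw [show (g : Matrix (Fin n) (Fin n) F) r c = (g : Matrix (Fin n) (Fin n) F).col c r from rfl,
    this, Pi.single_apply]

local notation "G2" => Matrix.SpecialLinearGroup (Fin (n + 2)) F

theorem beta_surjective [CharP F 2] (hF : Fintype.card F = 2) :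
    Function.Surjective (beta (F := F) (n := n) hF) :=
  fun A => ⟨⟨kHom A, kHom_mem_Cz A⟩, beta_kHom hF A⟩

/-- `O_2(C(z)) = Q`. -/
theorem pCoreOf_Cz [CharP F 2] (hF : Fintype.card F = 2) (hn : 2 ≤ n) :
    Cfsg.pCoreOf 2 (Cz F n) = qSub (F := F) (0 : Fin (n + 2)) 1 := by
  apply le_antisymm
  · intro x hx
    obtain ⟨y, hy, rfl⟩ := hx
    haveI hnorm : ((Cfsg.pCore 2 ↥(Cz F n)).map (beta (F := F) (n := n) hF)).Normal :=
      (Cfsg.Agent.helper14.pCore_normal' (G := ↥(Cz F n)) 2).map _ (beta_surjective hF)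
    have hP : IsPGroup 2 ↥((Cfsg.pCore 2 ↥(Cz F n)).map (beta (F := F) (n := n) hF)) :=
      (Cfsg.Agent.helper14.pCore_isPGroup' (G := ↥(Cz F n)) 2).map _
    have hbot := pcore_sl_trivial hF hn _ hP
    have h1 : beta hF y ∈ (Cfsg.pCore 2 ↥(Cz F n)).map (beta (F := F) (n := n) hF) :=
      Subgroup.mem_map_of_mem _ hy
    rw [hbot, Subgroup.mem_bot] at h1
    exact (beta_eq_one_iff hF y).mp h1
  · exact Cfsg.Agent.helper14.le_pCoreOf_of_normal _ _ qSub_le_Cz
      (centralizer_le_normalizer_qSub h01) (qSub_isPGroup 0 1)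

end grp

end Cfsg.Agent.helper25.TransvD
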