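import Mathlib
import Cfsg.Agent.Lib_helper25_TransvD

set_option autoImplicit false

namespace Cfsg.Agent.helper25.AffB

open Matrix

variable {n : ℕ} {R : Type*} [CommRing R]

/-- index equivalence sending the extra coordinate to `1` and the first coordinate to `0`. -/
def eA (n : ℕ) : Fin (n + 1) ⊕ Unit ≃ Fin (n + 2) :=
  ((finSuccEquiv' (1 : Fin (n + 2))).trans (Equiv.optionEquivSumPUnit _)).symm

theorem eA_inr (n : ℕ) : eA n (Sum.inr ()) = 1 := by
  simp [eA]

theorem eA_inl0 (n : ℕ) : eA n (Sum.inl 0) = 0 := by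
  simp [eA]

theorem eA_inr' (n : ℕ) (u : Unit) : eA n (Sum.inr u) = 1 := eA_inr n

def affB (A : Matrix (Fin (n + 1)) (Fin (n + 1)) R) (v : Fin (n + 1) → R) :
    Matrix (Fin (n + 1) ⊕ Unit) (Fin (n + 1) ⊕ Unit) R :=
  Matrix.fromBlocks A (Matrix.replicateCol Unit v) 0 1

theorem affB_mul (A B : Matrix (Fin (n + 1)) (Fin (n + 1)) R) (v w : Fin (n + 1) → R) :
    affB A v * affB B w = affB (A * B) (A *ᵥ w + v) := by
  unfold affB
  rw [Matrix.fromBlocks_multiply]
  congr 1
  · simp
  · ext i j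
    simp [Matrix.mul_apply, Matrix.mulVec, dotProduct]
  · simp
  · simp

theorem det_affB (A : Matrix (Fin (n + 1)) (Fin (n + 1)) R) (v : Fin (n + 1) → R) :
    (affB A v).det = A.det := by
  unfold affB
  rw [Matrix.det_fromBlocks_zero₂₁]
  simp

/-- the affine matrix `[[A, v], [0, 1]]`, with the extra coordinate at index `1`. -/
def affM (A : Matrix (Fin (n + 1)) (Fin (n + 1)) R) (v : Fin (n + 1) → R) :
    Matrix (Fin (n + 2)) (Fin (n + 2)) R :=
  Matrix.reindex (eA n) (eA n) (affB A v)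

theorem affM_mul (A B : Matrix (Fin (n + 1)) (Fin (n + 1)) R) (v w : Fin (n + 1) → R) :
    affM A v * affM B w = affM (A * B) (A *ᵥ w + v) := by
  unfold affM
  rw [← affB_mul]
  simp [Matrix.reindex_apply, Matrix.submatrix_mul_equiv]

theorem det_affM (A : Matrix (Fin (n + 1)) (Fin (n + 1)) R) (v : Fin (n + 1) → R) :
    (affM A v).det = A.det := by
  unfold affM
  rw [Matrix.det_reindex_self, det_affB]

theorem affM_one : affM (1 : Matrix (Fin (n + 1)) (Fin (n + 1)) R) 0 = 1 := by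
  unfold affM affB
  have : (Matrix.replicateCol Unit (0 : Fin (n + 1) → R)) = 0 := by ext; simp
  rw [this, Matrix.fromBlocks_one]
  simp

theorem affM_apply (A : Matrix (Fin (n + 1)) (Fin (n + 1)) R) (v : Fin (n + 1) → R)
    (x y : Fin (n + 1) ⊕ Unit) : affM A v (eA n x) (eA n y) = affB A v x y := by
  simp [affM]

theorem eA_eq_zero_iff (x : Fin (n + 1) ⊕ Unit) : eA n x = 0 ↔ x = Sum.inl 0 := by
  rw [← eA_inl0 n, (eA n).apply_eq_iff_eq]

theorem eA_eq_one_iff (x : Fin (n + 1) ⊕ Unit) : eA n x = 1 ↔ x = Sum.inr () := by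
  rw [← eA_inr n, (eA n).apply_eq_iff_eq]

theorem eA_inl_ne_one (x : Fin (n + 1)) : eA n (Sum.inl x) ≠ 1 := by
  rw [Ne, eA_eq_one_iff]; simp

theorem affM_tv : affM (1 : Matrix (Fin (n + 1)) (Fin (n + 1)) R) (Pi.single 0 1)
    = Matrix.transvection 0 1 1 := by
  have key : ∀ x y : Fin (n + 1) ⊕ Unit,
      affM (1 : Matrix (Fin (n + 1)) (Fin (n + 1)) R) (Pi.single 0 1) (eA n x) (eA n y)
        = (Matrix.transvection 0 1 1 : Matrix (Fin (n + 2)) (Fin (n + 2)) R) (eA n x) (eA n y) := by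
    intro x y
    simp only [affM_apply, Matrix.transvection, Matrix.add_apply, Matrix.one_apply,
      Matrix.single_apply, (eA n).apply_eq_iff_eq]
    have h0 : (0 : Fin (n + 2)) = eA n x ↔ x = Sum.inl 0 := by rw [eq_comm, eA_eq_zero_iff]
    have h1 : (1 : Fin (n + 2)) = eA n y ↔ y = Sum.inr () := by rw [eq_comm, eA_eq_one_iff]
    simp only [h0, h1]
    rcases x with x | ⟨⟩ <;> rcases y with y | ⟨⟩
    · simp [affB, Matrix.one_apply]
    · simp [affB, Pi.single_apply]
    · simp [affB]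
    · simp [affB]
  ext i j
  have := key ((eA n).symm i) ((eA n).symm j)
  simpa using this

/-- matrices whose row `1` is `e_1` are affine matrices. -/
theorem exists_affM (g : Matrix (Fin (n + 2)) (Fin (n + 2)) R)
    (hrow : ∀ b, b ≠ 1 → g 1 b = 0) (h11 : g 1 1 = 1) :
    ∃ A v, g = affM A v := by
  refine ⟨Matrix.of fun i j => g (eA n (Sum.inl i)) (eA n (Sum.inl j)),
    fun i => g (eA n (Sum.inl i)) 1, ?_⟩
  have key : ∀ x y : Fin (n + 1) ⊕ Unit, g (eA n x) (eA n y)
      = (affM (Matrix.of fun i j => g (eA n (Sum.inl i)) (eA n (Sum.inl j)))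
          (fun i => g (eA n (Sum.inl i)) 1)) (eA n x) (eA n y) := by
    intro x y
    rw [affM_apply]
    rcases x with x | ⟨⟩ <;> rcases y with y | ⟨⟩
    · simp [affB]
    · simp [affB, eA_inr']
    · simp [affB, eA_inr', hrow _ (eA_inl_ne_one y)]
    · simp [affB, eA_inr', h11]
  ext i j
  have := key ((eA n).symm i) ((eA n).symm j)
  simpa using this

theorem affM_inj {A B : Matrix (Fin (n + 1)) (Fin (n + 1)) R} {v w : Fin (n + 1) → R}
    (h : affM A v = affM B w) : A = B ∧ v = w := by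
  constructor
  · ext i j
    have := congrFun (congrFun h (eA n (Sum.inl i))) (eA n (Sum.inl j))
    simpa [affM_apply, affB] using this
  · ext i
    have := congrFun (congrFun h (eA n (Sum.inl i))) (eA n (Sum.inr ()))
    simpa [affM_apply, affB] using this

section tside
open Cfsg.Agent.helper25.Transv Cfsg.Agent.S1339 Cfsg.Agent.helper25.TransvB
  Cfsg.Agent.helper25.TransvC Cfsg.Agent.helper25.TransvD

variable {F : Type*} [Field F] [Fintype F] [DecidableEq F] {m : ℕ}

/-- A normal `2`-subgroup of `SL_m(2)` is trivial (any `m`). -/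
theorem pcore_sl_trivial' (hF : Fintype.card F = 2) (P : Subgroup (Matrix.SpecialLinearGroup (Fin m) F))
    [hPn : P.Normal] (hP : IsPGroup 2 P) : P = ⊥ := by
  by_cases hm : 2 ≤ m
  · exact pcore_sl_trivial hF hm P hP
  · have hsub : Subsingleton (Matrix.SpecialLinearGroup (Fin m) F) := by
      constructor
      intro a b
      apply Subtype.ext
      have hm1 : m = 0 ∨ m = 1 := by omega
      rcases hm1 with rfl | rfl
      · ext i; exact i.elim0
      · have ha := a.2
        have hb := b.2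
        rw [Matrix.det_fin_one] at ha hb
        ext i j
        rw [Subsingleton.elim i 0, Subsingleton.elim j 0, ha, hb]
    rw [eq_bot_iff]
    intro g _
    rw [Subgroup.mem_bot]
    exact Subsingleton.elim _ _

/-- `O_2(C(z)) = Q`, any `m`. -/
theorem pCoreOf_Cz' [CharP F 2] (hF : Fintype.card F = 2) :
    Cfsg.pCoreOf 2 (Cz F m) = qSub (F := F) (0 : Fin (m + 2)) 1 := by
  apply le_antisymm
  · intro x hx
    obtain ⟨y, hy, rfl⟩ := hx
    haveI hnorm : ((Cfsg.pCore 2 ↥(Cz F m)).map (beta (F := F) (n := m) hF)).Normal :=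
      (Cfsg.Agent.helper14.pCore_normal' (G := ↥(Cz F m)) 2).map _ (beta_surjective hF)
    have hP : IsPGroup 2 ↥((Cfsg.pCore 2 ↥(Cz F m)).map (beta (F := F) (n := m) hF)) :=
      (Cfsg.Agent.helper14.pCore_isPGroup' (G := ↥(Cz F m)) 2).map _
    have hbot := pcore_sl_trivial' hF _ hP
    have h1 : beta hF y ∈ (Cfsg.pCore 2 ↥(Cz F m)).map (beta (F := F) (n := m) hF) :=
      Subgroup.mem_map_of_mem _ hy
    rw [hbot, Subgroup.mem_bot] at h1
    exact (beta_eq_one_iff hF y).mp h1
  · exact Cfsg.Agent.helper14.le_pCoreOf_of_normal _ _ qSub_le_Cz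
      (centralizer_le_normalizer_qSub h01) (qSub_isPGroup 0 1)

/-- over `ZMod 2`, `SL = GL`. -/
theorem nonempty_sl_equiv_gl (k : ℕ) :
    Nonempty (Matrix.SpecialLinearGroup (Fin k) (ZMod 2) ≃* Matrix.GeneralLinearGroup (Fin k) (ZMod 2)) := by
  refine ⟨MulEquiv.ofBijective (Matrix.SpecialLinearGroup.toGL (n := Fin k) (R := ZMod 2)) ⟨?_, ?_⟩⟩
  · intro a b hab
    apply Subtype.ext
    have := congrArg (fun x : Matrix.GeneralLinearGroup (Fin k) (ZMod 2) =>
      (x : Matrix (Fin k) (Fin k) (ZMod 2))) hab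
    simpa using this
  · intro g
    have hdet : (g : Matrix (Fin k) (Fin k) (ZMod 2)).det = 1 := by
      have h1 : IsUnit (g : Matrix (Fin k) (Fin k) (ZMod 2)).det := by
        have := Matrix.GeneralLinearGroup.det g
        exact ⟨Matrix.GeneralLinearGroup.det g, rfl⟩
      have key : ∀ x : ZMod 2, IsUnit x → x = 1 := by decide
      exact key _ h1
    refine ⟨⟨(g : Matrix (Fin k) (Fin k) (ZMod 2)), hdet⟩, ?_⟩
    apply Units.ext
    rfl

end tside

end Cfsg.Agent.helper25.AffB
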