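import Mathlib
import Cfsg.Agent.Lib_helper25_AffB

set_option autoImplicit false
set_option linter.style.haveILetI false
set_option linter.unusedSectionVars false

namespace Cfsg.Agent.helper25.AffC

open Matrix Cfsg.Agent.helper25.AffB

theorem exists_coord {V : Type*} [Group V] [Finite V] (hc : ∀ a b : V, a * b = b * a)
    (h2 : ∀ a : V, a ^ 2 = 1) (n : ℕ) (hcard : Nat.card V = 2 ^ (n + 1)) (z : V) (hz : z ≠ 1) :
    ∃ κ : V → (Fin (n + 1) → ZMod 2), Function.Bijective κ ∧ (∀ a b, κ (a * b) = κ a + κ b) ∧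
      κ z = Pi.single 0 1 := by
  classical
  letI : CommGroup V := { (inferInstance : Group V) with mul_comm := hc }
  letI : Module (ZMod 2) (Additive V) := AddCommGroup.zmodModule (n := 2) (fun x => by
    induction x using Additive.rec with
    | ofMul a =>
      rw [← ofMul_pow, h2, ofMul_one])
  haveI : Finite (Additive V) := inferInstanceAs (Finite V)
  haveI : Module.Finite (ZMod 2) (Additive V) := Module.Finite.of_finite
  have hfr : Module.finrank (ZMod 2) (Additive V) = n + 1 := by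
    have h1 := Module.natCard_eq_pow_finrank (K := ZMod 2) (V := Additive V)
    have h3 : Nat.card (Additive V) = 2 ^ (n + 1) := hcard
    rw [h3, Nat.card_zmod] at h1
    exact (Nat.pow_right_injective (le_refl 2) h1).symm
  -- basis extending z
  have hz0 : (Additive.ofMul z) ≠ 0 := fun h => hz (by simpa using h)
  have hli : LinearIndepOn (ZMod 2) id ({Additive.ofMul z} : Set (Additive V)) :=
    LinearIndepOn.singleton (R := ZMod 2) (v := id) hz0
  let b := Module.Basis.extend hli
  have hzmem : Additive.ofMul z ∈ hli.extend (Set.subset_univ _) :=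
    Module.Basis.subset_extend hli (Set.mem_singleton _)
  haveI : Fintype ↥(hli.extend (Set.subset_univ _)) := Fintype.ofFinite _
  have hcardI : Fintype.card ↥(hli.extend (Set.subset_univ _)) = n + 1 := by
    rw [← Module.finrank_eq_card_basis b, hfr]
  let e0 : Fin (n + 1) ≃ ↥(hli.extend (Set.subset_univ _)) :=
    (Fintype.equivFinOfCardEq hcardI).symm
  let e1 : Fin (n + 1) ≃ ↥(hli.extend (Set.subset_univ _)) :=
    e0.trans (Equiv.swap (e0 0) ⟨Additive.ofMul z, hzmem⟩)
  have he1 : e1 0 = ⟨Additive.ofMul z, hzmem⟩ := by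
    simp [e1]
  let b' := b.reindex e1.symm
  have hb0 : b' 0 = Additive.ofMul z := by
    simp [b', he1, b]
  refine ⟨fun v => b'.equivFun (Additive.ofMul v), ?_, ?_, ?_⟩
  · exact b'.equivFun.bijective.comp Additive.ofMul.bijective
  · intro a c
    show b'.equivFun (Additive.ofMul (a * c)) = b'.equivFun (Additive.ofMul a)
      + b'.equivFun (Additive.ofMul c)
    rw [ofMul_mul, map_add]
  · show b'.equivFun (Additive.ofMul z) = _
    rw [← hb0]
    ext i
    rw [Module.Basis.equivFun_self]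
    simp [Pi.single_apply, eq_comm]

section
variable {G : Type*} [Group G] {n : ℕ} (U : Subgroup G) [hUn : U.Normal]
  (κ : ↥U → (Fin (n + 1) → ZMod 2)) (hκ : Function.Bijective κ)
  (hadd : ∀ a b, κ (a * b) = κ a + κ b)

/-- conjugation on `U`. -/
def cU (g : G) (u : ↥U) : ↥U := ⟨g * u * g⁻¹, hUn.conj_mem u u.2 g⟩

theorem cU_mul (g : G) (u v : ↥U) : cU U g (u * v) = cU U g u * cU U g v := by
  apply Subtype.ext
  simp [cU]

theorem cU_cU (g h : G) (u : ↥U) : cU U g (cU U h u) = cU U (g * h) u := by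
  apply Subtype.ext
  simp [cU, mul_assoc]

theorem cU_one (u : ↥U) : cU U 1 u = u := by
  apply Subtype.ext
  simp [cU]

include hκ hadd in
theorem kinv_add (x y : Fin (n + 1) → ZMod 2) :
    (Equiv.ofBijective κ hκ).symm (x + y)
      = (Equiv.ofBijective κ hκ).symm x * (Equiv.ofBijective κ hκ).symm y := by
  apply hκ.1
  rw [hadd]
  have h := fun t => (Equiv.ofBijective κ hκ).apply_symm_apply t
  simp only [Equiv.ofBijective_apply] at h
  rw [h, h, h]

/-- the additive map induced by conjugation. -/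
noncomputable def Lg (g : G) : (Fin (n + 1) → ZMod 2) →+ (Fin (n + 1) → ZMod 2) :=
  AddMonoidHom.mk' (fun x => κ (cU U g ((Equiv.ofBijective κ hκ).symm x))) (by
    intro x y
    rw [kinv_add U κ hκ hadd, cU_mul, hadd])

noncomputable def rho (g : G) : Matrix (Fin (n + 1)) (Fin (n + 1)) (ZMod 2) :=
  LinearMap.toMatrix' ((Lg U κ hκ hadd g).toZModLinearMap 2)

theorem rho_mulVec (g : G) (u : ↥U) :
    rho U κ hκ hadd g *ᵥ κ u = κ (cU U g u) := by
  unfold rho
  rw [LinearMap.toMatrix'_mulVec]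
  show κ (cU U g ((Equiv.ofBijective κ hκ).symm (κ u))) = _
  have : (Equiv.ofBijective κ hκ).symm (κ u) = u :=
    (Equiv.ofBijective κ hκ).symm_apply_apply u
  rw [this]

theorem mat_ext_of_kappa {A B : Matrix (Fin (n + 1)) (Fin (n + 1)) (ZMod 2)}
    (hκ : Function.Bijective κ) (h : ∀ u, A *ᵥ κ u = B *ᵥ κ u) : A = B := by
  apply Matrix.mulVec_injective
  funext x
  obtain ⟨u, rfl⟩ := hκ.2 x
  exact h u

theorem rho_mul (g h : G) :
    rho U κ hκ hadd (g * h) = rho U κ hκ hadd g * rho U κ hκ hadd h := by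
  apply mat_ext_of_kappa U κ hκ
  intro u
  rw [← Matrix.mulVec_mulVec, rho_mulVec, rho_mulVec, rho_mulVec, cU_cU]

theorem rho_one : rho U κ hκ hadd (1 : G) = 1 := by
  apply mat_ext_of_kappa U κ hκ
  intro u
  rw [rho_mulVec, cU_one, Matrix.one_mulVec]

theorem det_rho (g : G) : (rho U κ hκ hadd g).det = 1 := by
  have h : rho U κ hκ hadd g * rho U κ hκ hadd g⁻¹ = 1 := by
    rw [← rho_mul, mul_inv_cancel, rho_one]
  have h2 := congrArg Matrix.det h
  rw [Matrix.det_mul, Matrix.det_one] at h2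
  have key : ∀ x y : ZMod 2, x * y = 1 → x = 1 := by decide
  exact key _ _ h2

local notation "SLt" => Matrix.SpecialLinearGroup (Fin (n + 2)) (ZMod 2)

include hadd in
theorem kappa_one : κ 1 = 0 := by
  have h := hadd 1 1
  rw [mul_one] at h
  exact left_eq_add.mp h

/-- the translation part. -/
noncomputable def fU : ↥U →* SLt where
  toFun u := ⟨affM 1 (κ u), by rw [det_affM, Matrix.det_one]⟩
  map_one' := by
    apply Subtype.ext
    show affM 1 (κ 1) = 1
    rw [kappa_one U κ hadd, affM_one]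
  map_mul' u v := by
    apply Subtype.ext
    show affM 1 (κ (u * v)) = affM 1 (κ u) * affM 1 (κ v)
    rw [affM_mul, hadd, Matrix.one_mulVec, mul_one, add_comm (κ u)]

/-- the linear part. -/
noncomputable def fG : G →* SLt where
  toFun g := ⟨affM (rho U κ hκ hadd g) 0, by rw [det_affM, det_rho]⟩
  map_one' := by
    apply Subtype.ext
    show affM (rho U κ hκ hadd 1) 0 = 1
    rw [rho_one, affM_one]
  map_mul' g h := by
    apply Subtype.ext
    show affM (rho U κ hκ hadd (g * h)) 0 = affM (rho U κ hκ hadd g) 0 * affM (rho U κ hκ hadd h) 0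
    rw [affM_mul, rho_mul, Matrix.mulVec_zero, add_zero]

theorem fG_mul_fU (g : G) (u : ↥U) :
    fG U κ hκ hadd g * fU U κ hadd u = fU U κ hadd (cU U g u) * fG U κ hκ hadd g := by
  apply Subtype.ext
  show affM (rho U κ hκ hadd g) 0 * affM 1 (κ u) = affM 1 (κ (cU U g u)) * affM (rho U κ hκ hadd g) 0
  rw [affM_mul, affM_mul, rho_mulVec, mul_one, one_mul, Matrix.mulVec_zero, add_zero, zero_add]

variable (M : Subgroup G) (hc : U.IsComplement' M)

/-- the embedding. -/
noncomputable def Phi : G →* SLt :=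
  (SemidirectProduct.lift (fU U κ hadd) ((fG U κ hκ hadd).comp M.subtype) (by
    intro m
    ext u : 1
    simp only [MonoidHom.comp_apply, MulEquiv.coe_toMonoidHom, MulAut.conj_apply,
      Subgroup.coe_subtype]
    rw [eq_mul_inv_iff_mul_eq, fG_mul_fU]
    rfl)).comp (SemidirectProduct.mulEquivSubgroup hc).symm.toMonoidHom

theorem Phi_mul (u : ↥U) (m : ↥M) :
    Phi U κ hκ hadd M hc ((u : G) * (m : G)) = fU U κ hadd u * fG U κ hκ hadd (m : G) := by
  have h : (SemidirectProduct.mulEquivSubgroup hc).symm ((u : G) * (m : G)) = ⟨u, m⟩ := by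
    rw [MulEquiv.symm_apply_eq]
    simp
  simp only [Phi, MonoidHom.comp_apply, MulEquiv.coe_toMonoidHom, h]
  rfl


include hc in
theorem exists_mul (g : G) : ∃ (u : ↥U) (m : ↥M), g = (u : G) * (m : G) := by
  obtain ⟨x, rfl⟩ := (SemidirectProduct.mulEquivSubgroup hc).surjective g
  exact ⟨x.left, x.right, by simp⟩

theorem Phi_coe (u : ↥U) (m : ↥M) :
    ((Phi U κ hκ hadd M hc ((u : G) * (m : G)) : SLt) : Matrix (Fin (n + 2)) (Fin (n + 2)) (ZMod 2))
      = affM (rho U κ hκ hadd (m : G)) (κ u) := by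
  rw [Phi_mul, Matrix.SpecialLinearGroup.coe_mul]
  show affM 1 (κ u) * affM (rho U κ hκ hadd (m : G)) 0 = _
  rw [affM_mul, one_mul, Matrix.one_mulVec, zero_add]

theorem Phi_injective (hfaith : ∀ m ∈ M, (∀ u ∈ U, m * u * m⁻¹ = u) → m = 1) :
    Function.Injective (Phi U κ hκ hadd M hc) := by
  rw [injective_iff_map_eq_one]
  intro g hg
  obtain ⟨u, m, rfl⟩ := exists_mul U M hc g
  have h1 := Phi_coe U κ hκ hadd M hc u m
  rw [hg, Matrix.SpecialLinearGroup.coe_one, ← affM_one] at h1
  obtain ⟨hA, hv⟩ := affM_inj h1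
  have hu : u = 1 := by
    apply hκ.1
    rw [← hv, kappa_one U κ hadd]
  have hm : (m : G) = 1 := by
    apply hfaith _ m.2
    intro u' hu'
    have h2 := rho_mulVec U κ hκ hadd (m : G) ⟨u', hu'⟩
    rw [← hA, Matrix.one_mulVec] at h2
    have h3 := hκ.1 h2
    exact (congrArg Subtype.val h3).symm
  rw [hu, hm, Subgroup.coe_one, mul_one]

end

end Cfsg.Agent.helper25.AffC
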