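import Mathlib
import Cfsg.Agent.Lib_helper25_AffC

set_option autoImplicit false
set_option linter.style.haveILetI false
set_option linter.unusedSectionVars false

namespace Cfsg.Agent.helper25.AffD

open Matrix Cfsg.Agent.helper25.AffB Cfsg.Agent.helper25.AffC
open Cfsg.Agent.helper25.Transv Cfsg.Agent.S1339 Cfsg.Agent.helper25.TransvB
  Cfsg.Agent.helper25.TransvC Cfsg.Agent.helper25.TransvD

section
variable {G : Type*} [Group G] {n : ℕ} (U : Subgroup G) [hUn : U.Normal]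
  (κ : ↥U → (Fin (n + 1) → ZMod 2)) (hκ : Function.Bijective κ)
  (hadd : ∀ a b, κ (a * b) = κ a + κ b) (M : Subgroup G) (hc : U.IsComplement' M)

local notation "SLt" => Matrix.SpecialLinearGroup (Fin (n + 2)) (ZMod 2)

theorem Phi_z (z : ↥U) (hz : κ z = Pi.single 0 1) :
    Phi U κ hκ hadd M hc (z : G) = tv (F := ZMod 2) (0 : Fin (n + 2)) 1 h01 := by
  apply Subtype.ext
  have h := Phi_coe U κ hκ hadd M hc z 1
  rw [Subgroup.coe_one, mul_one, rho_one, hz, affM_tv] at h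
  rw [h]
  rfl

theorem Cz_le_range
    (hfull : ∀ φ : ↥U ≃* ↥U, ∃ m ∈ M, ∀ u : ↥U, ((φ u : ↥U) : G) = m * u * m⁻¹) :
    Cz (ZMod 2) n ≤ (Phi U κ hκ hadd M hc).range := by
  intro g hg
  have hcs := cshape_of_mem_Cz hg
  have hd := diag_of_mem_Cz (ZMod.card 2) hg
  obtain ⟨A, v, hgA⟩ := exists_affM (g : Matrix (Fin (n + 2)) (Fin (n + 2)) (ZMod 2))
    (fun b hb => hcs.2 b hb) hd.2
  have hdetA : A.det = 1 := by
    have := g.2
    rwa [hgA, det_affM] at this
  have hunit : IsUnit A.det := by rw [hdetA]; exact isUnit_one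
  have hAB : A * A⁻¹ = 1 := Matrix.mul_nonsing_inv A hunit
  have hBA : A⁻¹ * A = 1 := Matrix.nonsing_inv_mul A hunit
  have hEk : ∀ x, κ ((Equiv.ofBijective κ hκ).symm x) = x := fun x =>
    (Equiv.ofBijective κ hκ).apply_symm_apply x
  have hkE : ∀ u, (Equiv.ofBijective κ hκ).symm (κ u) = u := fun u =>
    (Equiv.ofBijective κ hκ).symm_apply_apply u
  let φ : ↥U ≃* ↥U :=
    { toFun := fun u => (Equiv.ofBijective κ hκ).symm (A *ᵥ κ u)
      invFun := fun u => (Equiv.ofBijective κ hκ).symm (A⁻¹ *ᵥ κ u)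
      left_inv := fun u => by
        show (Equiv.ofBijective κ hκ).symm (A⁻¹ *ᵥ κ ((Equiv.ofBijective κ hκ).symm (A *ᵥ κ u))) = u
        rw [hEk, Matrix.mulVec_mulVec, hBA, Matrix.one_mulVec, hkE]
      right_inv := fun u => by
        show (Equiv.ofBijective κ hκ).symm (A *ᵥ κ ((Equiv.ofBijective κ hκ).symm (A⁻¹ *ᵥ κ u))) = u
        rw [hEk, Matrix.mulVec_mulVec, hAB, Matrix.one_mulVec, hkE]
      map_mul' := fun u w => by
        show (Equiv.ofBijective κ hκ).symm (A *ᵥ κ (u * w))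
          = (Equiv.ofBijective κ hκ).symm (A *ᵥ κ u) * (Equiv.ofBijective κ hκ).symm (A *ᵥ κ w)
        rw [hadd, Matrix.mulVec_add, kinv_add U κ hκ hadd] }
  obtain ⟨m, hmM, hm⟩ := hfull φ
  have hρ : rho U κ hκ hadd m = A := by
    apply mat_ext_of_kappa U κ hκ
    intro u
    rw [rho_mulVec]
    have h1 : cU U m u = φ u := Subtype.ext (hm u).symm
    rw [h1]
    exact hEk _
  refine ⟨((Equiv.ofBijective κ hκ).symm v : G) * m, Subtype.ext ?_⟩
  have h2 := Phi_coe U κ hκ hadd M hc ((Equiv.ofBijective κ hκ).symm v) ⟨m, hmM⟩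
  rw [h2, hρ, hEk, hgA]

end

end Cfsg.Agent.helper25.AffD
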