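import Mathlib
import Cfsg.Prelude.Def_FusionSystem
import Cfsg.Prelude.Def_FusionComponents

set_option autoImplicit false

namespace Cfsg.Agent.helper25

open Cfsg Cfsg.FusionSystem

variable {Ω : Type*} [Group Ω] {S : Subgroup Ω}

theorem conjHom_apply (P : Subgroup Ω) (g : Ω) (x : P) : conjHom P g x = g * (x : Ω) * g⁻¹ := rfl

theorem conjHom_one (P : Subgroup Ω) : conjHom P 1 = P.subtype := by
  ext x
  simp [conjHom_apply]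

theorem subtype_mem (F : FusionSystem S) {P : Subgroup Ω} (h : P ≤ S) : P.subtype ∈ F.Hom P := by
  rw [← conjHom_one]
  exact F.conj_mem h S.one_mem

theorem restrict_mem (F : FusionSystem S) {P Q : Subgroup Ω} (h : P ≤ Q) {φ : Q →* Ω}
    (hφ : φ ∈ F.Hom Q) : φ.comp (Subgroup.inclusion h) ∈ F.Hom P := by
  have hQS := (F.le_of_mem hφ).1
  have h1 : P.subtype ∈ F.Hom P := subtype_mem F (h.trans hQS)
  have hval : ∀ x : P, P.subtype x ∈ Q := fun x => h x.2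
  exact F.comp_mem h1 hφ hval

theorem hom_congr (F : FusionSystem S) {P P' : Subgroup Ω} (h : P = P') {φ : P →* Ω}
    (hφ : φ ∈ F.Hom P) : φ.comp (Subgroup.inclusion h.ge) ∈ F.Hom P' := by
  subst h
  exact restrict_mem F le_rfl hφ

theorem range_le_of_mem (F : FusionSystem S) {P : Subgroup Ω} {φ : P →* Ω} (hφ : φ ∈ F.Hom P) :
    φ.range ≤ S := by
  rintro _ ⟨x, rfl⟩
  exact (F.le_of_mem hφ).2 x

theorem finite_subgroups_le (S : Subgroup Ω) [Finite S] : {Q : Subgroup Ω | Q ≤ S}.Finite := by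
  have h : {Q : Subgroup Ω | Q ≤ S} ⊆ Set.range (fun K : Subgroup S => K.map S.subtype) := by
    intro Q hQ
    refine ⟨Q.subgroupOf S, ?_⟩
    show (Q.subgroupOf S).map S.subtype = Q
    rw [Subgroup.map_subgroupOf_eq_of_le hQ]
  exact (Set.finite_range _).subset h

theorem map_comp_inclusion {D' D K : Subgroup Ω} (h : D' ≤ D) (hK : K ≤ D') (ψ : D →* Ω) :
    (K.subgroupOf D').map (ψ.comp (Subgroup.inclusion h)) = (K.subgroupOf D).map ψ := by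
  apply le_antisymm
  · rintro _ ⟨y, hy, rfl⟩
    exact ⟨Subgroup.inclusion h y, Subgroup.mem_subgroupOf.mpr (Subgroup.mem_subgroupOf.mp hy), rfl⟩
  · rintro _ ⟨y, hy, rfl⟩
    have hyK : (y : Ω) ∈ K := Subgroup.mem_subgroupOf.mp hy
    exact ⟨⟨y, hK hyK⟩, Subgroup.mem_subgroupOf.mpr hyK, rfl⟩

theorem isNormal_bot (F : FusionSystem S) : F.IsNormal ⊥ := by
  refine ⟨bot_le, ?_⟩
  intro P φ hφ
  have hPS := (F.le_of_mem hφ).1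
  have heq : P = P ⊔ ⊥ := (sup_bot_eq P).symm
  refine ⟨φ.comp (Subgroup.inclusion heq.ge), hom_congr F heq hφ, ?_, ?_⟩
  · intro x; rfl
  · apply le_antisymm
    · rintro _ ⟨y, hy, rfl⟩
      have : (y : Ω) = 1 := Subgroup.mem_bot.mp (Subgroup.mem_subgroupOf.mp hy)
      have hy1 : y = 1 := Subtype.ext this
      rw [hy1, map_one]
      exact Subgroup.one_mem _
    · exact bot_le

theorem isNormal_sup (F : FusionSystem S) {Q₁ Q₂ : Subgroup Ω} (h₁ : F.IsNormal Q₁)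
    (h₂ : F.IsNormal Q₂) : F.IsNormal (Q₁ ⊔ Q₂) := by
  refine ⟨sup_le h₁.1 h₂.1, ?_⟩
  intro P φ hφ
  obtain ⟨ψ₁, hψ₁, hψ₁φ, hψ₁Q⟩ := h₁.2 P φ hφ
  obtain ⟨ψ₂, hψ₂, hψ₂ψ₁, hψ₂Q⟩ := h₂.2 (P ⊔ Q₁) ψ₁ hψ₁
  have heq : P ⊔ Q₁ ⊔ Q₂ = P ⊔ (Q₁ ⊔ Q₂) := sup_assoc P Q₁ Q₂
  refine ⟨ψ₂.comp (Subgroup.inclusion heq.ge), hom_congr F heq hψ₂, ?_, ?_⟩
  · intro x
    rw [← hψ₁φ x, ← hψ₂ψ₁]
    rfl
  · have hQ₁D : Q₁ ≤ P ⊔ (Q₁ ⊔ Q₂) := le_sup_left.trans le_sup_right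
    have hQ₂D : Q₂ ≤ P ⊔ (Q₁ ⊔ Q₂) := le_sup_right.trans le_sup_right
    rw [Subgroup.subgroupOf_sup hQ₁D hQ₂D, Subgroup.map_sup]
    have e₂ : (Q₂.subgroupOf (P ⊔ (Q₁ ⊔ Q₂))).map (ψ₂.comp (Subgroup.inclusion heq.ge)) = Q₂ := by
      rw [map_comp_inclusion heq.ge hQ₂D ψ₂, hψ₂Q]
    have e₁ : (Q₁.subgroupOf (P ⊔ (Q₁ ⊔ Q₂))).map (ψ₂.comp (Subgroup.inclusion heq.ge)) = Q₁ := by
      rw [map_comp_inclusion heq.ge hQ₁D ψ₂]
      have hc : ψ₂.comp (Subgroup.inclusion (le_sup_left : P ⊔ Q₁ ≤ P ⊔ Q₁ ⊔ Q₂)) = ψ₁ := by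
        ext x; exact hψ₂ψ₁ x
      rw [← map_comp_inclusion (le_sup_left : P ⊔ Q₁ ≤ P ⊔ Q₁ ⊔ Q₂) le_sup_right ψ₂, hc, hψ₁Q]
    rw [e₁, e₂]

theorem isNormal_core (F : FusionSystem S) [Finite S] : F.IsNormal F.core := by
  have hsc : SupClosed {Q : Subgroup Ω | F.IsNormal Q} := fun a ha b hb => isNormal_sup F ha hb
  have hfin : {Q : Subgroup Ω | F.IsNormal Q}.Finite :=
    (finite_subgroups_le S).subset fun Q hQ => hQ.1
  exact hsc.sSup_mem hfin (isNormal_bot F) subset_rfl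

theorem isCentral_bot (F : FusionSystem S) : F.IsCentral ⊥ := by
  refine ⟨bot_le, ?_⟩
  intro P φ hφ
  have heq : P = P ⊔ ⊥ := (sup_bot_eq P).symm
  refine ⟨φ.comp (Subgroup.inclusion heq.ge), hom_congr F heq hφ, ?_, ?_⟩
  · intro x; rfl
  · intro x
    have : (x : Ω) = 1 := Subgroup.mem_bot.mp x.2
    have hx1 : x = 1 := Subtype.ext this
    rw [hx1, map_one, map_one]
    rfl

theorem isCentral_sup (F : FusionSystem S) {Q₁ Q₂ : Subgroup Ω} (h₁ : F.IsCentral Q₁)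
    (h₂ : F.IsCentral Q₂) : F.IsCentral (Q₁ ⊔ Q₂) := by
  refine ⟨sup_le h₁.1 h₂.1, ?_⟩
  intro P φ hφ
  obtain ⟨ψ₁, hψ₁, hψ₁φ, hψ₁Q⟩ := h₁.2 P φ hφ
  obtain ⟨ψ₂, hψ₂, hψ₂ψ₁, hψ₂Q⟩ := h₂.2 (P ⊔ Q₁) ψ₁ hψ₁
  have heq : P ⊔ Q₁ ⊔ Q₂ = P ⊔ (Q₁ ⊔ Q₂) := sup_assoc P Q₁ Q₂
  refine ⟨ψ₂.comp (Subgroup.inclusion heq.ge), hom_congr F heq hψ₂, ?_, ?_⟩
  · intro x
    rw [← hψ₁φ x, ← hψ₂ψ₁]
    rfl
  · -- fixed points form a subgroup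
    let K : Subgroup Ω :=
      { carrier := {x | ∃ h : x ∈ P ⊔ Q₁ ⊔ Q₂, ψ₂ ⟨x, h⟩ = x}
        one_mem' := ⟨Subgroup.one_mem _, map_one ψ₂⟩
        mul_mem' := by
          rintro a b ⟨ha, ha'⟩ ⟨hb, hb'⟩
          refine ⟨Subgroup.mul_mem _ ha hb, ?_⟩
          have : (⟨a * b, Subgroup.mul_mem _ ha hb⟩ : (P ⊔ Q₁ ⊔ Q₂ : Subgroup Ω)) = ⟨a, ha⟩ * ⟨b, hb⟩ := rfl
          rw [this, map_mul, ha', hb']
        inv_mem' := by
          rintro a ⟨ha, ha'⟩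
          refine ⟨Subgroup.inv_mem _ ha, ?_⟩
          have : (⟨a⁻¹, Subgroup.inv_mem _ ha⟩ : (P ⊔ Q₁ ⊔ Q₂ : Subgroup Ω)) = ⟨a, ha⟩⁻¹ := rfl
          rw [this, map_inv, ha'] }
    have hK₁ : Q₁ ≤ K := by
      intro q hq
      refine ⟨(le_sup_right.trans le_sup_left : Q₁ ≤ P ⊔ Q₁ ⊔ Q₂) hq, ?_⟩
      have := hψ₂ψ₁ ⟨q, (le_sup_right : Q₁ ≤ P ⊔ Q₁) hq⟩
      have h2 := hψ₁Q ⟨q, hq⟩
      exact this.trans h2
    have hK₂ : Q₂ ≤ K := by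
      intro q hq
      exact ⟨(le_sup_right : Q₂ ≤ P ⊔ Q₁ ⊔ Q₂) hq, hψ₂Q ⟨q, hq⟩⟩
    intro x
    obtain ⟨h, hx⟩ := (sup_le hK₁ hK₂) x.2
    exact hx

theorem isCentral_center (F : FusionSystem S) [Finite S] : F.IsCentral F.center := by
  have hsc : SupClosed {Q : Subgroup Ω | F.IsCentral Q} := fun a ha b hb => isCentral_sup F ha hb
  have hfin : {Q : Subgroup Ω | F.IsCentral Q}.Finite :=
    (finite_subgroups_le S).subset fun Q hQ => hQ.1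
  exact hsc.sSup_mem hfin (isCentral_bot F) subset_rfl

theorem range_eq_sup_map {P Q : Subgroup Ω} (ψ : ↥(P ⊔ Q) →* Ω) :
    ψ.range = (P.subgroupOf (P ⊔ Q)).map ψ ⊔ (Q.subgroupOf (P ⊔ Q)).map ψ := by
  rw [← Subgroup.map_sup, ← Subgroup.subgroupOf_sup le_sup_left le_sup_right,
    Subgroup.subgroupOf_self, MonoidHom.range_eq_map]

theorem map_subgroupOf_eq_range {P D : Subgroup Ω} (h : P ≤ D) (ψ : D →* Ω) (φ : P →* Ω)
    (hφ : ∀ x : P, ψ (Subgroup.inclusion h x) = φ x) : (P.subgroupOf D).map ψ = φ.range := by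
  rw [← map_comp_inclusion h le_rfl ψ, Subgroup.subgroupOf_self, ← MonoidHom.range_eq_map]
  congr 1
  ext x
  exact hφ x

/-- every element of `P ⊔ Q` satisfies a subgroup-closed property holding on `P` and on `Q`. -/
theorem forall_mem_sup_of_comap {P Q : Subgroup Ω} (ψ : ↥(P ⊔ Q) →* Ω) (K : Subgroup Ω)
    (hP : ∀ x : P, ψ (Subgroup.inclusion le_sup_left x) ∈ K)
    (hQ : ∀ x : Q, ψ (Subgroup.inclusion le_sup_right x) ∈ K) : ∀ x : ↥(P ⊔ Q), ψ x ∈ K := by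
  have h1 : P ⊔ Q ≤ (K.comap ψ).map (P ⊔ Q).subtype := by
    apply sup_le
    · intro x hx
      exact ⟨⟨x, le_sup_left (a := P) hx⟩, hP ⟨x, hx⟩, rfl⟩
    · intro x hx
      exact ⟨⟨x, le_sup_right (b := Q) hx⟩, hQ ⟨x, hx⟩, rfl⟩
  intro x
  obtain ⟨y, hy, hyx⟩ := h1 x.2
  have : y = x := Subtype.ext hyx
  rw [← this]
  exact hy

end Cfsg.Agent.helper25
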