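import Cfsg.Statements.S5104
import Cfsg.Agent.Lib_helper25_Fusion

set_option autoImplicit false
open Cfsg

namespace Cfsg.Agent.S5104

open Cfsg.FusionSystem Cfsg.Agent.helper25

theorem result {Ω : Type*} [Group Ω] {S : Subgroup Ω} [Finite S] (p : ℕ) [Fact p.Prime] (hS : IsPGroup p S) (F : Cfsg.FusionSystem S) (hF : F.IsSaturated p) (U : Subgroup Ω) (hU : F.IsFullyCentralized U) (hC : Cfsg.FusionSystem.centralizerIn S U ≤ U) : F.IsCentric U := by
  obtain ⟨hUS, hfc⟩ := hU
  refine ⟨hUS, ?_⟩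
  intro Q hQ
  have hle := hfc Q hQ
  obtain ⟨φ, hφ, rfl⟩ := hQ
  have hQS : φ.range ≤ S := range_le_of_mem F hφ
  have hfinQ : Finite (centralizerIn S φ.range) :=
    Finite.of_injective (Subgroup.inclusion (inf_le_left : centralizerIn S φ.range ≤ S))
      (Subgroup.inclusion_injective _)
  have hmem : ∀ c : centralizerIn S U,
      φ ⟨c, hC c.2⟩ ∈ φ.range ⊓ centralizerIn S φ.range := by
    intro c
    refine ⟨⟨_, rfl⟩, (F.le_of_mem hφ).2 _, ?_⟩
    rintro _ ⟨u, rfl⟩
    have hcu : (u : Ω) * c = c * u := c.2.2 u u.2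
    rw [← map_mul, ← map_mul]
    congr 1
    exact Subtype.ext hcu
  let f : centralizerIn S U → (φ.range ⊓ centralizerIn S φ.range : Subgroup Ω) :=
    fun c => ⟨φ ⟨c, hC c.2⟩, hmem c⟩
  have hf : Function.Injective f := by
    intro a b hab
    have h1 : φ ⟨a, hC a.2⟩ = φ ⟨b, hC b.2⟩ := congrArg Subtype.val hab
    have h2 := F.injective_of_mem hφ h1
    exact Subtype.ext (congrArg (fun z : U => (z : Ω)) h2)
  have hfinZ : Finite (φ.range ⊓ centralizerIn S φ.range : Subgroup Ω) :=
    Finite.of_injective (Subgroup.inclusion (inf_le_right : φ.range ⊓ centralizerIn S φ.range ≤ centralizerIn S φ.range))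
      (Subgroup.inclusion_injective _)
  have hcard1 : Nat.card (centralizerIn S U) ≤ Nat.card (φ.range ⊓ centralizerIn S φ.range : Subgroup Ω) :=
    Nat.card_le_card_of_injective f hf
  have heq : φ.range ⊓ centralizerIn S φ.range = centralizerIn S φ.range :=
    Subgroup.eq_of_le_of_card_ge inf_le_right (hle.trans hcard1)
  rw [← heq]
  exact inf_le_left

end Cfsg.Agent.S5104
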