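import Cfsg.Agent.Lib_helper25_SatRS2
import Cfsg.Agent.S5104

set_option autoImplicit false
set_option linter.style.haveILetI false
set_option linter.unusedVariables false

namespace Cfsg.Agent.helper25

open Cfsg Cfsg.FusionSystem

variable {Ω : Type*} [Group Ω] {S : Subgroup Ω}

theorem isFIso_of_coe (F : FusionSystem S) {P Q : Subgroup Ω} {e : P ≃* Q} {φ : P →* Ω}
    (hφ : φ ∈ F.Hom P) (h : ∀ x : P, ((e x : Q) : Ω) = φ x) : IsFIso F e := by
  have e1 : Q.subtype.comp e.toMonoidHom = φ := by ext x; exact h x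
  unfold IsFIso; rw [e1]; exact hφ

theorem mem_hom_of_isFIso (F : FusionSystem S) {P Q : Subgroup Ω} {e : P ≃* Q} {φ : P →* Ω}
    (he : IsFIso F e) (h : ∀ x : P, ((e x : Q) : Ω) = φ x) : φ ∈ F.Hom P := by
  have e1 : Q.subtype.comp e.toMonoidHom = φ := by ext x; exact h x
  rw [← e1]; exact he

/-- a map of the system defined on all of `S` lies in any system containing `Aut_F(S)`. -/
theorem hom_top_subset [Finite S] (F E : FusionSystem S) (h : F.autGroup S ≤ E.autGroup S) :
    F.Hom S ⊆ E.Hom S := by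
  intro φ hφ
  have hr : φ.range = S := by
    apply Subgroup.eq_of_le_of_card_ge (range_le_of_mem F hφ)
    exact le_of_eq (Nat.card_congr (MonoidHom.ofInjective (F.injective_of_mem hφ)).toEquiv)
  obtain ⟨e, he, hecoe⟩ := exists_isFIso_of_mem F hφ hr
  have h1 : e ∈ F.autGroup S := (mem_autGroup_iff F le_rfl e).mpr he
  have h2 : IsFIso E e := (mem_autGroup_iff E le_rfl e).mp (h h1)
  exact mem_hom_of_isFIso E h2 hecoe

/-- an automorphism of a receptive subgroup whose extender is strictly larger lies in `E`,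
if `E` contains all maps of `F` on larger subgroups. -/
theorem aut_mem_of_extender [Finite S] (F E : FusionSystem S) {R : Subgroup Ω}
    (hRrec : F.IsReceptive R)
    (IH : ∀ P' : Subgroup Ω, P' ≤ S → Nat.card R < Nat.card P' → F.Hom P' ⊆ E.Hom P')
    {α : MulAut R} (hα : α ∈ F.autGroup R) {g : Ω}
    (hg : g ∈ extender S R (R.subtype.comp α.toMonoidHom)) (hgR : g ∉ R) :
    α ∈ E.autGroup R := by
  have hRS := hRrec.1
  have hα' : IsFIso F α := (mem_autGroup_iff F hRS α).mp hα
  obtain ⟨ψ, hψ, hψφ⟩ := hRrec.2 R _ hα' (range_subtype_comp α)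
  have hRle : R ≤ extender S R (R.subtype.comp α.toMonoidHom) := le_extender F hα'
  have hNS : extender S R (R.subtype.comp α.toMonoidHom) ≤ S :=
    (extender_le S R _).trans inf_le_left
  haveI : Finite (extender S R (R.subtype.comp α.toMonoidHom)) := finite_of_le S hNS
  have hlt : R < extender S R (R.subtype.comp α.toMonoidHom) :=
    lt_of_le_of_ne hRle (fun h => hgR (h ▸ hg))
  have hψE : ψ ∈ E.Hom _ := IH _ hNS (card_lt_of_lt' hlt) hψ
  have hres := restrict_mem E hRle hψE
  rw [mem_autGroup_iff E hRS]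
  exact isFIso_of_coe E hres (fun x => (hψφ x x.2 (hRle x.2)).symm)

/-- reduction of a map to an automorphism of a fully normalized conjugate. -/
theorem hom_subset_of_aut [Finite S] {p : ℕ} [Fact p.Prime] (hS : IsPGroup p S)
    (F : FusionSystem S) (hF : F.IsSaturated p) (E : FusionSystem S) {P : Subgroup Ω}
    (hPlt : P < S)
    (IH : ∀ P' : Subgroup Ω, P' ≤ S → Nat.card P < Nat.card P' → F.Hom P' ⊆ E.Hom P')
    (hAut : ∀ R : Subgroup Ω, F.IsFullyNormalized R → Nat.card R = Nat.card P →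
      F.autGroup R ≤ E.autGroup R) :
    F.Hom P ⊆ E.Hom P := by
  intro φ hφ
  have hPS : P ≤ S := hPlt.le
  obtain ⟨e₀, he₀, he₀coe⟩ := exists_isFIso_of_mem F hφ rfl
  have hQS : φ.range ≤ S := range_le_of_mem F hφ
  have hcardQ : Nat.card P = Nat.card φ.range := isConj_card_eq F he₀.isConj
  have hQlt : φ.range < S := by
    refine lt_of_le_of_ne hQS ?_
    intro h
    have h1 : Nat.card P < Nat.card S := card_lt_of_lt' hPlt
    rw [hcardQ, h] at h1
    exact lt_irrefl _ h1
  obtain ⟨R, hPR, hR⟩ := exists_fullyNormalized_conj F hPS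
  obtain ⟨hRfc, hRfa⟩ := fullyNormalized_imp hS F hF hR
  have hRrec := receptive_of_fullyCentralized hS F hF hRfc
  have hQR : F.IsConj φ.range R := isConj_trans F (isConj_symm F he₀.isConj) hPR
  obtain ⟨ψ₁, hψ₁, -, hψ₁R⟩ := exists_normalizer_hom hS F hRfa hRrec hPR
  obtain ⟨ψ₂, hψ₂, -, hψ₂R⟩ := exists_normalizer_hom hS F hRfa hRrec hQR
  haveI : Finite (normalizerIn S P) := finite_of_le S inf_le_left
  haveI : Finite (normalizerIn S φ.range) := finite_of_le S inf_le_left
  have hψ₁E : ψ₁ ∈ E.Hom (normalizerIn S P) :=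
    IH (normalizerIn S P) inf_le_left (card_lt_of_lt' (lt_normalizerIn hS hPlt)) hψ₁
  have hψ₂E : ψ₂ ∈ E.Hom (normalizerIn S φ.range) :=
    IH (normalizerIn S φ.range) inf_le_left
      (hcardQ ▸ card_lt_of_lt' (lt_normalizerIn hS hQlt)) hψ₂
  have hPN := le_normalizerIn hPS
  have hQN := le_normalizerIn hQS
  have hr₁ : (ψ₁.comp (Subgroup.inclusion hPN)).range = R := by
    rw [range_restrict_eq_map]; exact hψ₁R
  have hr₂ : (ψ₂.comp (Subgroup.inclusion hQN)).range = R := by
    rw [range_restrict_eq_map]; exact hψ₂R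
  obtain ⟨e₁, he₁E, he₁coe⟩ := exists_isFIso_of_mem E (restrict_mem E hPN hψ₁E) hr₁
  obtain ⟨e₂, he₂E, he₂coe⟩ := exists_isFIso_of_mem E (restrict_mem E hQN hψ₂E) hr₂
  have he₁F : IsFIso F e₁ := isFIso_of_coe F (restrict_mem F hPN hψ₁) he₁coe
  have he₂F : IsFIso F e₂ := isFIso_of_coe F (restrict_mem F hQN hψ₂) he₂coe
  have hαF : IsFIso F (e₁.symm.trans (e₀.trans e₂)) := he₁F.symm.trans (he₀.trans he₂F)
  have hcardR : Nat.card R = Nat.card P := (isConj_card_eq F hPR).symm
  have hαE : IsFIso E (e₁.symm.trans (e₀.trans e₂)) :=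
    (mem_autGroup_iff E hR.1 _).mp (hAut R hR hcardR ((mem_autGroup_iff F hR.1 _).mpr hαF))
  have h3 : IsFIso E (e₁.trans ((e₁.symm.trans (e₀.trans e₂)).trans e₂.symm)) :=
    he₁E.trans (hαE.trans he₂E.symm)
  apply mem_hom_of_isFIso E h3
  intro x
  show ((e₂.symm (e₂ (e₀ (e₁.symm (e₁ x)))) : φ.range) : Ω) = φ x
  rw [MulEquiv.symm_apply_apply, MulEquiv.symm_apply_apply]
  exact he₀coe x

end Cfsg.Agent.helper25
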