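import Cfsg.Agent.Lib_helper25_Hyperfocal

set_option autoImplicit false
set_option linter.style.haveILetI false
set_option linter.unusedVariables false

namespace Cfsg.Agent.helper25

open Cfsg Cfsg.FusionSystem

variable {Ω : Type*} [Group Ω] {S : Subgroup Ω}

/-- Alperin's theorem with the inductive hypothesis made available. -/
theorem alperin_ind_aux [Finite S] {p : ℕ} [Fact p.Prime] (hS : IsPGroup p S) (F : FusionSystem S)
    (hF : F.IsSaturated p) (E : FusionSystem S)
    (hE : ∀ P : Subgroup Ω, (P = S ∨ F.IsEssential p P) →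
      (∀ P' : Subgroup Ω, P' ≤ S → Nat.card P < Nat.card P' → F.Hom P' ⊆ E.Hom P') →
      F.autGroup P ≤ E.autGroup P) :
    ∀ (n : ℕ) (P : Subgroup Ω), P ≤ S → Nat.card S - Nat.card P = n → F.Hom P ⊆ E.Hom P := by
  intro n
  induction n using Nat.strong_induction_on with
  | _ n ih =>
    intro P hPS hn
    have IHbig : ∀ P' : Subgroup Ω, P' ≤ S → Nat.card P < Nat.card P' → F.Hom P' ⊆ E.Hom P' := by
      intro P' hP' hc
      have hle : Nat.card P' ≤ Nat.card S := Subgroup.card_le_of_le hP'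
      exact ih (Nat.card S - Nat.card P') (by omega) P' hP' rfl
    by_cases hPeq : P = S
    · rw [hPeq]
      refine hom_top_subset F E (hE S (Or.inl rfl) ?_)
      intro P' hP' hc
      exact absurd (Subgroup.card_le_of_le hP') (not_le.mpr hc)
    · have hPlt : P < S := lt_of_le_of_ne hPS hPeq
      apply hom_subset_of_aut hS F hF E hPlt IHbig
      intro R hR hcardR
      have hRS : R ≤ S := hR.1
      have hRlt : R < S := by
        refine lt_of_le_of_ne hRS ?_
        intro h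
        have h1 : Nat.card P < Nat.card S := card_lt_of_lt' hPlt
        rw [← hcardR, h] at h1
        exact lt_irrefl _ h1
      have IHR : ∀ P' : Subgroup Ω, P' ≤ S → Nat.card R < Nat.card P' → F.Hom P' ⊆ E.Hom P' := by
        intro P' hP' hc
        exact IHbig P' hP' (hcardR ▸ hc)
      obtain ⟨hRfc, hRfa⟩ := fullyNormalized_imp hS F hF hR
      have hRrec := receptive_of_fullyCentralized hS F hF hRfc
      by_cases hess : F.IsEssential p R
      · exact hE R (Or.inr hess) IHR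
      · by_cases hcen : F.IsCentric R
        · exact autGroup_le_of_not_essential hS F E hRlt hcen hR hRfa hRrec hess IHR
        · exact autGroup_le_of_not_centric hS F hF E hRfc hRrec hcen IHR

theorem alperin_ind [Finite S] {p : ℕ} [Fact p.Prime] (hS : IsPGroup p S) (F : FusionSystem S)
    (hF : F.IsSaturated p) (E : FusionSystem S)
    (hE : ∀ P : Subgroup Ω, (P = S ∨ F.IsEssential p P) →
      (∀ P' : Subgroup Ω, P' ≤ S → Nat.card P < Nat.card P' → F.Hom P' ⊆ E.Hom P') →
      F.autGroup P ≤ E.autGroup P) :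
    ∀ P : Subgroup Ω, F.Hom P ⊆ E.Hom P := by
  intro P φ hφ
  exact alperin_ind_aux hS F hF E hE _ P (F.le_of_mem hφ).1 rfl hφ

/-- Frattini argument, for subgroups of an ambient group. -/
theorem frattini_isSylowIn {G : Type*} [Group G] [Finite G] {p : ℕ} [Fact p.Prime]
    {H K M : Subgroup G} (hHK : H ≤ K) (hs : IsSylowIn p H K) (hMK : M ≤ K)
    (hn : K ≤ Subgroup.normalizer (M : Set G)) {a : G} (ha : a ∈ K) :
    ∃ c ∈ M, ∃ b ∈ K, cj b (H ⊓ M) = H ⊓ M ∧ a = c * b := by
  have hsM := isSylowIn_inf_of_normal hHK hs hMK hn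
  have hHMp : IsPGroup p (H ⊓ M : Subgroup G) := (hs.isPGroup hHK).to_le inf_le_left
  have h1 : cj a (H ⊓ M) ≤ M := by
    have : cj a M = M := (Subgroup.mem_normalizer_iff_map_conj_eq (H := M)).mp (hn ha)
    exact (cj_mono a (inf_le_right : H ⊓ M ≤ M)).trans this.le
  obtain ⟨m, hm, hmle⟩ := exists_cj_le_of_isSylowIn hsM h1 (IsPGroup_cj a hHMp)
  rw [cj_cj] at hmle
  have heq : cj (m * a) (H ⊓ M) = H ⊓ M := by
    apply Subgroup.eq_of_le_of_card_ge hmle
    rw [card_cj]
  exact ⟨m⁻¹, M.inv_mem hm, m * a, K.mul_mem (hMK hm) ha, heq, by group⟩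

theorem isChainStab_chain3_top {G : Type*} [Group G] (A : Subgroup G) (β : MulAut G) :
    IsChainStab (chain3 A ⊤) β ↔ ∀ x : G, x⁻¹ * β x ∈ A := by
  constructor
  · intro h x
    have := h 0 x (by show x ∈ chain3 A ⊤ 1; rw [chain3_one]; exact Subgroup.mem_top _)
    rwa [chain3_zero] at this
  · intro h i x hx
    rcases Nat.eq_zero_or_pos i with rfl | hi
    · rw [chain3_zero]; exact h x
    · rcases Nat.lt_or_ge i 2 with h2 | h2
      · have : i = 1 := by omega
        subst this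
        rw [chain3_one]; exact Subgroup.mem_top _
      · rw [chain3_ge _ _ h2]; exact Subgroup.mem_top _

theorem mem_iff_of_inv_mul_mem {G : Type*} [Group G] (T : Subgroup G) {x y : G}
    (h : x⁻¹ * y ∈ T) : x ∈ T ↔ y ∈ T := by
  constructor
  · intro hx
    have := T.mul_mem hx h
    rwa [mul_inv_cancel_left] at this
  · intro hy
    have := T.mul_mem hy (T.inv_mem h)
    rwa [mul_inv_rev, inv_inv, mul_inv_cancel_left] at this

/-- the product of two strongly closed subgroups is strongly closed. -/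
theorem stronglyClosed_sup [Finite S] {p : ℕ} [Fact p.Prime] (hS : IsPGroup p S)
    (F : FusionSystem S) (hF : F.IsSaturated p) {T₁ T₂ : Subgroup Ω}
    (h₁ : F.StronglyClosed T₁) (h₂ : F.StronglyClosed T₂) : F.StronglyClosed (T₁ ⊔ T₂) := by
  have hN₁ := stronglyClosed_le_normalizer F h₁
  have hN₂ := stronglyClosed_le_normalizer F h₂
  have hTS : T₁ ⊔ T₂ ≤ S := sup_le h₁.1 h₂.1
  have hN : S ≤ Subgroup.normalizer ((T₁ ⊔ T₂ : Subgroup Ω) : Set Ω) :=
    (le_inf hN₁ hN₂).trans (Subgroup.normalizer_inf_normalizer_le_normalizer_sup T₁ T₂)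
  have hdec : ∀ x ∈ T₁ ⊔ T₂, ∃ t₁ ∈ T₁, ∃ t₂ ∈ T₂, t₁ * t₂ = x := by
    intro x hx
    have h := Subgroup.coe_mul_of_right_le_normalizer_left T₁ T₂ (h₂.1.trans hN₁)
    have hx' : x ∈ ((T₁ ⊔ T₂ : Subgroup Ω) : Set Ω) := hx
    rw [h] at hx'
    exact Set.mem_mul.mp hx'
  have hcase1 : ∀ P : Subgroup Ω, P ≤ S → T₁ ≤ P → ∀ α ∈ F.autGroup P, ∀ x : P,
      (x : Ω) ∈ T₁ ⊔ T₂ → ((α x : P) : Ω) ∈ T₁ ⊔ T₂ := by
    intro P hPS hTP α hα x hx
    obtain ⟨t₁, ht₁, t₂, ht₂, hxe⟩ := hdec x hx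
    have ht₁P : t₁ ∈ P := hTP ht₁
    have ht₂P : t₂ ∈ P := by
      have : t₂ = t₁⁻¹ * x := by rw [← hxe]; group
      rw [this]; exact P.mul_mem (P.inv_mem ht₁P) x.2
    have e : x = ⟨t₁, ht₁P⟩ * ⟨t₂, ht₂P⟩ := Subtype.ext hxe.symm
    rw [e, map_mul, Subgroup.coe_mul]
    exact Subgroup.mul_mem _
      (Subgroup.mem_sup_left (stronglyClosed_aut_mem F h₁ hPS hα (x := ⟨t₁, ht₁P⟩) ht₁))
      (Subgroup.mem_sup_right (stronglyClosed_aut_mem F h₂ hPS hα (x := ⟨t₂, ht₂P⟩) ht₂))
  have hE : ∀ P : Subgroup Ω, (P = S ∨ F.IsEssential p P) →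
      (∀ P' : Subgroup Ω, P' ≤ S → Nat.card P < Nat.card P' →
        F.Hom P' ⊆ (presSystem F (T₁ ⊔ T₂) hN).Hom P') →
      F.autGroup P ≤ (presSystem F (T₁ ⊔ T₂) hN).autGroup P := by
    intro P hP IH
    have hFA := fullyAutomized_of_top_or_essential hS F hF hP
    have hPS : P ≤ S := hFA.1
    haveI : Finite P := finite_of_le S hPS
    by_cases hTP : T₁ ≤ P
    · intro α hα
      apply Subgroup.subset_closure
      refine ⟨(mem_autGroup_iff F hPS α).mp hα,
        fun x => ⟨hcase1 P hPS hTP α hα x, fun hx => ?_⟩⟩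
      have := hcase1 P hPS hTP α⁻¹ (Subgroup.inv_mem _ hα) (α x) hx
      rwa [MulAut.inv_apply_self] at this
    · have hess : F.IsEssential p P := by
        rcases hP with h | h
        · exact absurd (h ▸ h₁.1) hTP
        · exact h
      have hPn := hess.2.1
      obtain ⟨hPfc, -⟩ := fullyNormalized_imp hS F hF hPn
      have hPrec := receptive_of_fullyCentralized hS F hF hPfc
      have hnle : ¬ T₁ ⊓ Subgroup.normalizer (P : Set Ω) ≤ P :=
        fun h => hTP (le_of_normalizer_inf_le hS hPS h₁.1 hN₁ h)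
      obtain ⟨g, hg, hgP⟩ := SetLike.not_le_iff_exists.mp hnle
      have hmono : Monotone (chain3 (T₁.subgroupOf P) ⊤) := chain3_mono le_top
      have hHK : autInducedBy S P ≤ F.autGroup P := autInducedBy_le_autGroup F hPS
      have hMK : chainStabSubgroup (chain3 (T₁.subgroupOf P) ⊤) hmono ⊓ F.autGroup P ≤
          F.autGroup P := inf_le_right
      have hainv : ∀ a ∈ F.autGroup P, ∀ i, ∀ x ∈ chain3 (T₁.subgroupOf P) ⊤ i,
          a x ∈ chain3 (T₁.subgroupOf P) ⊤ i := by
        intro a ha i x hx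
        rcases Nat.eq_zero_or_pos i with rfl | hi
        · rw [chain3_zero] at hx ⊢
          exact Subgroup.mem_subgroupOf.mpr
            (stronglyClosed_aut_mem F h₁ hPS ha (Subgroup.mem_subgroupOf.mp hx))
        · rcases Nat.lt_or_ge i 2 with h2 | h2
          · have : i = 1 := by omega
            subst this
            rw [chain3_one]; exact Subgroup.mem_top _
          · rw [chain3_ge _ _ h2]; exact Subgroup.mem_top _
      have hnorm : F.autGroup P ≤ Subgroup.normalizer
          ((chainStabSubgroup (chain3 (T₁.subgroupOf P) ⊤) hmono ⊓ F.autGroup P :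
            Subgroup (MulAut P)) : Set (MulAut P)) := by
        apply le_normalizer_of_conj_mem
        intro a ha k hk
        have hai : a⁻¹ ∈ F.autGroup P := Subgroup.inv_mem _ ha
        exact ⟨IsChainStab.conj hk.1 (hainv a ha) (hainv a⁻¹ hai),
          Subgroup.mul_mem _ (Subgroup.mul_mem _ ha hk.2) hai⟩
      have hgN : g ∈ normalizerIn S P := ⟨h₁.1 hg.1, hg.2⟩
      have hgH : normAut P g hg.2 ∈ autInducedBy S P := normAut_mem S P hgN
      have hgM : normAut P g hg.2 ∈
          chainStabSubgroup (chain3 (T₁.subgroupOf P) ⊤) hmono ⊓ F.autGroup P := by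
        refine ⟨?_, hHK hgH⟩
        show IsChainStab _ (normAut P g hg.2)
        rw [isChainStab_chain3_top]
        intro x
        rw [Subgroup.mem_subgroupOf]
        show (x : Ω)⁻¹ * (g * x * g⁻¹) ∈ T₁
        have h5 : (x : Ω)⁻¹ * g * ((x : Ω)⁻¹)⁻¹ ∈ T₁ :=
          (Subgroup.mem_normalizer_iff.mp (hN₁ (S.inv_mem (hPS x.2))) g).mp hg.1
        have e5 : (x : Ω)⁻¹ * (g * x * g⁻¹) = ((x : Ω)⁻¹ * g * ((x : Ω)⁻¹)⁻¹) * g⁻¹ := by group
        rw [e5]
        exact T₁.mul_mem h5 (T₁.inv_mem hg.1)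
      intro α hα
      obtain ⟨c, hc, b, hb, hbn, hcb⟩ := frattini_isSylowIn hHK hFA.2 hMK hnorm hα
      have hcE : c ∈ (presSystem F (T₁ ⊔ T₂) hN).autGroup P := by
        apply Subgroup.subset_closure
        refine ⟨(mem_autGroup_iff F hPS c).mp hc.2, fun x => ?_⟩
        have h3 : IsChainStab (chain3 (T₁.subgroupOf P) ⊤) c := hc.1
        rw [isChainStab_chain3_top] at h3
        have h4 : (x : Ω)⁻¹ * ((c x : P) : Ω) ∈ T₁ ⊔ T₂ :=
          Subgroup.mem_sup_left (Subgroup.mem_subgroupOf.mp (h3 x))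
        exact mem_iff_of_inv_mul_mem _ h4
      have hbE : b ∈ (presSystem F (T₁ ⊔ T₂) hN).autGroup P := by
        refine aut_mem_of_extender F _ hPrec IH hb ?_ hgP
        apply mem_extender_of_aut b hgN
        have h6 : b * normAut P g hg.2 * b⁻¹ ∈ cj b (autInducedBy S P ⊓
            (chainStabSubgroup (chain3 (T₁.subgroupOf P) ⊤) hmono ⊓ F.autGroup P)) :=
          conj_mem_cj b _ ⟨hgH, hgM⟩
        rw [hbn] at h6
        exact h6.1
      rw [hcb]
      exact Subgroup.mul_mem _ hcE hbE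
  have hsub := alperin_ind hS F hF (presSystem F (T₁ ⊔ T₂) hN) hE
  refine ⟨hTS, fun R hR φ hφ x => ?_⟩
  exact ((hsub R hφ).2 x).mp (hR x.2)

end Cfsg.Agent.helper25
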