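import Cfsg.Agent.Lib_helper25_Factor2

set_option autoImplicit false
set_option linter.style.haveILetI false
set_option linter.unusedVariables false

namespace Cfsg.Agent.helper25

open Cfsg Cfsg.FusionSystem

variable {Ω : Type*} [Group Ω] {S : Subgroup Ω}

/-- Alperin's theorem relative to a strongly closed subgroup `T`: a fusion system `E` contains `F`
as soon as it contains `Aut_F(P)` for all `P ≥ T` and all automorphisms in `F` acting trivially
modulo `T`. -/
theorem alperin_stronglyClosed [Finite S] {p : ℕ} [Fact p.Prime] (hS : IsPGroup p S)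
    (F : FusionSystem S) (hF : F.IsSaturated p) {T : Subgroup Ω} (hT : F.StronglyClosed T)
    (E : FusionSystem S)
    (h1 : ∀ P : Subgroup Ω, P ≤ S → T ≤ P → F.autGroup P ≤ E.autGroup P)
    (h2 : ∀ P : Subgroup Ω, P ≤ S → ∀ c ∈ F.autGroup P,
      (∀ x : P, ((x⁻¹ * c x : P) : Ω) ∈ T) → c ∈ E.autGroup P) :
    ∀ P : Subgroup Ω, F.Hom P ⊆ E.Hom P := by
  have hN₁ := stronglyClosed_le_normalizer F hT
  apply alperin_ind hS F hF E
  intro P hP IH
  have hFA := fullyAutomized_of_top_or_essential hS F hF hP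
  have hPS : P ≤ S := hFA.1
  haveI : Finite P := finite_of_le S hPS
  by_cases hTP : T ≤ P
  · exact h1 P hPS hTP
  · have hess : F.IsEssential p P := by
      rcases hP with h | h
      · exact absurd (h ▸ hT.1) hTP
      · exact h
    have hPn := hess.2.1
    obtain ⟨hPfc, -⟩ := fullyNormalized_imp hS F hF hPn
    have hPrec := receptive_of_fullyCentralized hS F hF hPfc
    have hnle : ¬ T ⊓ Subgroup.normalizer (P : Set Ω) ≤ P :=
      fun h => hTP (le_of_normalizer_inf_le hS hPS hT.1 hN₁ h)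
    obtain ⟨g, hg, hgP⟩ := SetLike.not_le_iff_exists.mp hnle
    have hmono : Monotone (chain3 (T.subgroupOf P) ⊤) := chain3_mono le_top
    have hHK : autInducedBy S P ≤ F.autGroup P := autInducedBy_le_autGroup F hPS
    have hMK : chainStabSubgroup (chain3 (T.subgroupOf P) ⊤) hmono ⊓ F.autGroup P ≤
        F.autGroup P := inf_le_right
    have hainv : ∀ a ∈ F.autGroup P, ∀ i, ∀ x ∈ chain3 (T.subgroupOf P) ⊤ i,
        a x ∈ chain3 (T.subgroupOf P) ⊤ i := by
      intro a ha i x hx
      rcases Nat.eq_zero_or_pos i with rfl | hi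
      · rw [chain3_zero] at hx ⊢
        exact Subgroup.mem_subgroupOf.mpr
          (stronglyClosed_aut_mem F hT hPS ha (Subgroup.mem_subgroupOf.mp hx))
      · rcases Nat.lt_or_ge i 2 with h2 | h2
        · have : i = 1 := by omega
          subst this
          rw [chain3_one]; exact Subgroup.mem_top _
        · rw [chain3_ge _ _ h2]; exact Subgroup.mem_top _
    have hnorm : F.autGroup P ≤ Subgroup.normalizer
        ((chainStabSubgroup (chain3 (T.subgroupOf P) ⊤) hmono ⊓ F.autGroup P :
          Subgroup (MulAut P)) : Set (MulAut P)) := by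
      apply le_normalizer_of_conj_mem
      intro a ha k hk
      have hai : a⁻¹ ∈ F.autGroup P := Subgroup.inv_mem _ ha
      exact ⟨IsChainStab.conj hk.1 (hainv a ha) (hainv a⁻¹ hai),
        Subgroup.mul_mem _ (Subgroup.mul_mem _ ha hk.2) hai⟩
    have hgN : g ∈ normalizerIn S P := ⟨hT.1 hg.1, hg.2⟩
    have hgH : normAut P g hg.2 ∈ autInducedBy S P := normAut_mem S P hgN
    have hgM : normAut P g hg.2 ∈
        chainStabSubgroup (chain3 (T.subgroupOf P) ⊤) hmono ⊓ F.autGroup P := by
      refine ⟨?_, hHK hgH⟩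
      show IsChainStab _ (normAut P g hg.2)
      rw [isChainStab_chain3_top]
      intro x
      rw [Subgroup.mem_subgroupOf]
      show (x : Ω)⁻¹ * (g * x * g⁻¹) ∈ T
      have h5 : (x : Ω)⁻¹ * g * ((x : Ω)⁻¹)⁻¹ ∈ T :=
        (Subgroup.mem_normalizer_iff.mp (hN₁ (S.inv_mem (hPS x.2))) g).mp hg.1
      have e5 : (x : Ω)⁻¹ * (g * x * g⁻¹) = ((x : Ω)⁻¹ * g * ((x : Ω)⁻¹)⁻¹) * g⁻¹ := by group
      rw [e5]
      exact T.mul_mem h5 (T.inv_mem hg.1)
    intro α hα
    obtain ⟨c, hc, b, hb, hbn, hcb⟩ := frattini_isSylowIn hHK hFA.2 hMK hnorm hα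
    have hcE : c ∈ E.autGroup P := by
      apply h2 P hPS c hc.2
      have h3 : IsChainStab (chain3 (T.subgroupOf P) ⊤) c := hc.1
      rw [isChainStab_chain3_top] at h3
      intro x
      exact Subgroup.mem_subgroupOf.mp (h3 x)
    have hbE : b ∈ E.autGroup P := by
      refine aut_mem_of_extender F _ hPrec IH hb ?_ hgP
      apply mem_extender_of_aut b hgN
      have h6 : b * normAut P g hg.2 * b⁻¹ ∈ cj b (autInducedBy S P ⊓
          (chainStabSubgroup (chain3 (T.subgroupOf P) ⊤) hmono ⊓ F.autGroup P)) :=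
        conj_mem_cj b _ ⟨hgH, hgM⟩
      rw [hbn] at h6
      exact h6.1
    rw [hcb]
    exact Subgroup.mul_mem _ hcE hbE

end Cfsg.Agent.helper25
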