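import Mathlib

set_option autoImplicit false

namespace Cfsg.Agent.helper25.AltStd

open Equiv Equiv.Perm

variable {α : Type*} [Fintype α] [DecidableEq α]


/-- even permutations fixing every point outside `T`. -/
def AT (T : Finset α) : Subgroup (alternatingGroup α) where
  carrier := {k | ∀ x, x ∉ T → (k : Perm α) x = x}
  one_mem' := fun x _ => rfl
  mul_mem' := by
    intro a b ha hb x hx
    show (a : Perm α) ((b : Perm α) x) = x
    rw [hb x hx, ha x hx]
  inv_mem' := by
    intro a ha x hx
    show (a : Perm α)⁻¹ x = x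
    rw [Perm.inv_eq_iff_eq, ha x hx]

theorem mem_AT {T : Finset α} {k : (alternatingGroup α)} : k ∈ AT T ↔ ∀ x, x ∉ T → (k : Perm α) x = x := Iff.rfl

theorem AT_mono {T T' : Finset α} (h : T ⊆ T') : AT T ≤ AT T' :=
  fun _ hk x hx => hk x (fun hxT => hx (h hxT))

theorem AT_eq_range (T : Finset α) : AT T = (alternatingGroup.ofSubtype T).range := by
  ext k
  rw [alternatingGroup.mem_range_ofSubtype_iff, mem_AT]
  constructor
  · intro h x hx
    by_contra hxT
    exact (Perm.mem_support.mp hx) (h x hxT)
  · intro h x hx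
    by_contra hne
    exact hx (h (Perm.mem_support.mpr hne))

theorem AT_inf (T T' : Finset α) : AT T ⊓ AT T' = AT (T ∩ T') := by
  ext k
  simp only [Subgroup.mem_inf, mem_AT, Finset.mem_inter, not_and_or]
  constructor
  · rintro ⟨h1, h2⟩ x (hx | hx)
    · exact h1 x hx
    · exact h2 x hx
  · intro h
    exact ⟨fun x hx => h x (Or.inl hx), fun x hx => h x (Or.inr hx)⟩

/-- conjugation moves the support set. -/
theorem AT_map_conj (T : Finset α) (g : (alternatingGroup α)) :
    (AT T).map (MulAut.conj g).toMonoidHom = AT (T.image (g : Perm α)) := by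
  ext k
  constructor
  · rintro ⟨h, hh, rfl⟩ x hx
    show (g : Perm α) ((h : Perm α) ((g : Perm α)⁻¹ x)) = x
    have : (g : Perm α)⁻¹ x ∉ T := by
      intro hT
      apply hx
      rw [Finset.mem_image]
      exact ⟨_, hT, by simp⟩
    rw [hh _ this]
    simp
  · intro hk
    refine ⟨g⁻¹ * k * g, ?_, ?_⟩
    · intro x hx
      show (g : Perm α)⁻¹ ((k : Perm α) ((g : Perm α) x)) = x
      have : (g : Perm α) x ∉ T.image (g : Perm α) := by
        intro hT
        rw [Finset.mem_image] at hT
        obtain ⟨y, hy, hyx⟩ := hT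
        rw [(g : Perm α).injective hyx] at hy
        exact hx hy
      rw [hk _ this]
      simp
    · show g * (g⁻¹ * k * g) * g⁻¹ = k
      group

/-- the three-cycle `a → c → b → a`. -/
def t3 (a b c : α) (ab : a ≠ b) (ac : a ≠ c) (bc : b ≠ c) : (alternatingGroup α) :=
  ⟨swap a b * swap a c, (isThreeCycle_swap_mul_swap_same ab ac bc).mem_alternatingGroup⟩

theorem t3_coe (a b c : α) (ab : a ≠ b) (ac : a ≠ c) (bc : b ≠ c) :
    ((t3 a b c ab ac bc : (alternatingGroup α)) : Perm α) = swap a b * swap a c := rfl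

theorem t3_apply_a (a b c : α) (ab : a ≠ b) (ac : a ≠ c) (bc : b ≠ c) :
    ((t3 a b c ab ac bc : (alternatingGroup α)) : Perm α) a = c := by
  rw [t3_coe, Perm.mul_apply, swap_apply_left, swap_apply_of_ne_of_ne ac.symm bc.symm]

theorem t3_apply_b (a b c : α) (ab : a ≠ b) (ac : a ≠ c) (bc : b ≠ c) :
    ((t3 a b c ab ac bc : (alternatingGroup α)) : Perm α) b = a := by
  rw [t3_coe, Perm.mul_apply, swap_apply_of_ne_of_ne ab.symm bc, swap_apply_right]

theorem t3_apply_of_ne (a b c : α) (ab : a ≠ b) (ac : a ≠ c) (bc : b ≠ c) (x : α)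
    (xa : x ≠ a) (xb : x ≠ b) (xc : x ≠ c) :
    ((t3 a b c ab ac bc : (alternatingGroup α)) : Perm α) x = x := by
  rw [t3_coe, Perm.mul_apply, swap_apply_of_ne_of_ne xa xc, swap_apply_of_ne_of_ne xa xb]

theorem t3_mem_AT {T : Finset α} (a b c : α) (ab : a ≠ b) (ac : a ≠ c) (bc : b ≠ c)
    (ha : a ∈ T) (hb : b ∈ T) (hc : c ∈ T) : t3 a b c ab ac bc ∈ AT T := by
  intro x hx
  apply t3_apply_of_ne
  · rintro rfl; exact hx ha
  · rintro rfl; exact hx hb
  · rintro rfl; exact hx hc

/-- two further points. -/
theorem exists_two_more {T : Finset α} {S : Finset α} (h : S.card + 2 ≤ T.card) :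
    ∃ u v, u ∈ T ∧ v ∈ T ∧ u ∉ S ∧ v ∉ S ∧ u ≠ v := by
  have h1 : 2 ≤ (T \ S).card := by
    have := Finset.le_card_sdiff S T
    omega
  obtain ⟨u, hu, v, hv, huv⟩ := Finset.one_lt_card.mp (by omega : 1 < (T \ S).card)
  rw [Finset.mem_sdiff] at hu hv
  exact ⟨u, v, hu.1, hv.1, hu.2, hv.2, huv⟩

/-- every point of a set of size at least 3 is moved. -/
theorem exists_moving {T : Finset α} (h3 : 3 ≤ T.card) {t : α} (ht : t ∈ T) :
    ∃ k ∈ AT T, ((k : alternatingGroup α) : Perm α) t ≠ t := by
  obtain ⟨u, v, hu, hv, hut, hvt, huv⟩ := exists_two_more (T := T) (S := {t}) (by simpa using h3)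
  rw [Finset.mem_singleton] at hut hvt
  refine ⟨t3 t u v (Ne.symm hut) (Ne.symm hvt) huv, t3_mem_AT _ _ _ _ _ _ ht hu hv, ?_⟩
  rw [t3_apply_a]
  exact hvt

theorem subset_of_AT_le {T T' : Finset α} (h3 : 3 ≤ T.card) (h : AT T ≤ AT T') : T ⊆ T' := by
  intro t ht
  obtain ⟨k, hk, hkt⟩ := exists_moving h3 ht
  by_contra htT'
  exact hkt (h hk t htT')

theorem AT_injective {T T' : Finset α} (h3 : 3 ≤ T.card) (h3' : 3 ≤ T'.card)
    (h : AT T = AT T') : T = T' :=
  Finset.Subset.antisymm (subset_of_AT_le h3 h.le) (subset_of_AT_le h3' h.ge)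

/-- the centralizer of `AT T`. -/
theorem centralizer_AT {T : Finset α} (h4 : 4 ≤ T.card) :
    Subgroup.centralizer ((AT T : Subgroup (alternatingGroup α)) : Set (alternatingGroup α))
      = AT Tᶜ := by
  ext g
  rw [Subgroup.mem_centralizer_iff, mem_AT]
  constructor
  · intro h x hx
    rw [Finset.mem_compl, not_not] at hx
    by_contra hne
    set y := ((g : alternatingGroup α) : Perm α) x with hy
    by_cases hyT : y ∈ T
    · -- a three-cycle fixing x and moving y
      obtain ⟨u, v, hu, hv, hu', hv', huv⟩ := exists_two_more (T := T) (S := {x, y}) (by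
        have : ({x, y} : Finset α).card ≤ 2 := Finset.card_le_two
        omega)
      simp only [Finset.mem_insert, Finset.mem_singleton, not_or] at hu' hv'
      set c := t3 y u v (Ne.symm hu'.2) (Ne.symm hv'.2) huv with hc
      have hcT : c ∈ AT T := t3_mem_AT _ _ _ _ _ _ hyT hu hv
      have hcomm := h c hcT
      have h1 := congrArg (fun k : alternatingGroup α => (k : Perm α) x) hcomm
      simp only [Subgroup.coe_mul, Perm.mul_apply] at h1
      rw [← hy] at h1
      have hcx : (c : Perm α) x = x :=
        t3_apply_of_ne _ _ _ _ _ _ x (Ne.symm hne) (fun h => hu'.1 h.symm) (fun h => hv'.1 h.symm)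
      have hcy : (c : Perm α) y = v := t3_apply_a _ _ _ _ _ _
      rw [hcx, ← hy, hcy] at h1
      exact hv'.2 h1
    · -- a three-cycle moving x
      obtain ⟨u, v, hu, hv, hu', hv', huv⟩ := exists_two_more (T := T) (S := {x}) (by
        simp only [Finset.card_singleton]; omega)
      rw [Finset.mem_singleton] at hu' hv'
      set c := t3 x u v (Ne.symm hu') (Ne.symm hv') huv with hc
      have hcT : c ∈ AT T := t3_mem_AT _ _ _ _ _ _ hx hu hv
      have hcomm := h c hcT
      have h1 := congrArg (fun k : alternatingGroup α => (k : Perm α) x) hcomm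
      simp only [Subgroup.coe_mul, Perm.mul_apply] at h1
      rw [← hy, hcT y hyT, t3_apply_a] at h1
      have := ((g : alternatingGroup α) : Perm α).injective (h1.symm.trans hy)
      exact hv' this
  · intro h k hk
    apply Subtype.ext
    apply Perm.ext
    intro x
    simp only [Subgroup.coe_mul, Perm.mul_apply]
    by_cases hxT : x ∈ T
    · have hgx : ((g : alternatingGroup α) : Perm α) x = x := h x (by simpa using hxT)
      have hkxT : ((k : alternatingGroup α) : Perm α) x ∈ T := by
        by_contra hc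
        have h1 := hk _ hc
        have := ((k : alternatingGroup α) : Perm α).injective h1
        rw [this] at hc
        exact hc hxT
      rw [hgx, h _ (by simpa using hkxT)]
    · have hkx : ((k : alternatingGroup α) : Perm α) x = x := hk x hxT
      have hgxT : ((g : alternatingGroup α) : Perm α) x ∉ T := by
        intro hc
        have h1 := h _ (by simpa using hc)
        have := ((g : alternatingGroup α) : Perm α).injective h1
        rw [this] at hc
        exact hxT hc
      rw [hkx, hk _ hgxT]

/-- `AT T` has odd order when `T` has at most 3 points. -/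
theorem odd_card_AT {T : Finset α} (h3 : T.card ≤ 3) :
    Odd (Nat.card ↥(AT T : Subgroup (alternatingGroup α))) := by
  rw [AT_eq_range]
  have h1 : Nat.card ↥(alternatingGroup.ofSubtype T).range = Nat.card ↥(alternatingGroup ↥T) :=
    (Nat.card_congr (MonoidHom.ofInjective alternatingGroup.ofSubtype_injective).toEquiv).symm
  rw [h1]
  have hcT : Nat.card ↥T = T.card := by simp
  by_cases h2 : T.card ≤ 2
  · have := alternatingGroup.eq_bot_of_card_le_two (α := ↥T) (by rw [hcT]; exact h2)
    rw [this, Subgroup.card_bot]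
    exact odd_one
  · have h3' : T.card = 3 := by omega
    have : Nontrivial ↥T := by
      rw [← Fintype.one_lt_card_iff_nontrivial, Fintype.card_coe]; omega
    rw [nat_card_alternatingGroup, hcT, h3']
    decide

/-- `AT T` is quasisimple-ready: simple non-abelian when `T` has at least 5 points. -/
theorem AT_equiv (T : Finset α) : Nonempty (↥(alternatingGroup ↥T) ≃* ↥(AT T : Subgroup (alternatingGroup α))) := by
  rw [AT_eq_range]
  exact ⟨MonoidHom.ofInjective alternatingGroup.ofSubtype_injective⟩

end Cfsg.Agent.helper25.AltStd
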