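import Cfsg.Agent.Lib_helper25_AutTwo
import Cfsg.Agent.Lib_helper25_Hyperfocal
import Cfsg.Agent.Lib_helper25_Alperin2

set_option autoImplicit false
set_option linter.style.haveILetI false
set_option linter.unusedVariables false

namespace Cfsg.Agent.helper25

open Cfsg Cfsg.FusionSystem

variable {Ω : Type*} [Group Ω] {S : Subgroup Ω}

/-- if `Aut(S)` is a `p`-group then `Aut_F(S) = Inn(S)` in a saturated system. -/
theorem autGroup_top_eq_inn [Finite S] {p : ℕ} [Fact p.Prime] (hS : IsPGroup p S)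
    (hA : IsPGroup p (MulAut S)) (F : FusionSystem S) (hF : F.IsSaturated p) :
    F.autGroup S = Cfsg.Inn S := by
  apply le_antisymm
  · intro α hα
    obtain ⟨-, R, hR⟩ := fullyAutomized_of_top_or_essential hS F hF (Or.inl rfl)
    have hK : IsPGroup p (F.autGroup S) := hA.to_subgroup _
    have htop : (⊤ : Subgroup (F.autGroup S)) = R :=
      R.is_maximal' (hK.to_subgroup _) le_top
    have h1 : (⟨α, hα⟩ : F.autGroup S) ∈ (R : Subgroup (F.autGroup S)) := by
      rw [← htop]; exact Subgroup.mem_top _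
    rw [hR] at h1
    obtain ⟨g, hg, hgα⟩ := (mem_autInducedBy_iff S S α).mp (Subgroup.mem_subgroupOf.mp h1)
    refine ⟨⟨g, hg⟩, ?_⟩
    apply MulEquiv.ext; intro x
    apply Subtype.ext
    rw [hgα x]; rfl
  · exact (inn_le_autInducedBy le_rfl).trans (autInducedBy_le_autGroup F le_rfl)

theorem autGroup_eq_inn_of_dihedral_or_quaternion [Finite S] (n : ℕ) (hn : 4 ≤ n)
    (hshape : Nonempty (S ≃* DihedralGroup (2 ^ (n - 1))) ∨
      Nonempty (S ≃* QuaternionGroup (2 ^ (n - 2))))
    (F : FusionSystem S) (hF : F.IsSaturated 2) : F.autGroup S = Cfsg.Inn S := by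
  haveI : Fact (Nat.Prime 2) := ⟨Nat.prime_two⟩
  rcases hshape with h | h
  · obtain ⟨e⟩ := h
    have hA : IsPGroup 2 (MulAut S) :=
      (isPGroup_mulAut_dihedral (n - 1) (by omega)).of_equiv (MulAut.congr e).symm
    have hD : IsPGroup 2 (DihedralGroup (2 ^ (n - 1))) := by
      apply IsPGroup.of_card (n := (n - 1) + 1)
      rw [DihedralGroup.nat_card, pow_succ, mul_comm]
    exact autGroup_top_eq_inn (hD.of_equiv e.symm) hA F hF
  · obtain ⟨e⟩ := h
    have hA : IsPGroup 2 (MulAut S) :=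
      (isPGroup_mulAut_quaternion (n - 2) (by omega)).of_equiv (MulAut.congr e).symm
    haveI : NeZero (2 ^ (n - 2)) := ⟨by positivity⟩
    have hQ : IsPGroup 2 (QuaternionGroup (2 ^ (n - 2))) := by
      apply IsPGroup.of_card (n := (n - 2) + 2)
      rw [Nat.card_eq_fintype_card, QuaternionGroup.card, pow_add]; ring
    exact autGroup_top_eq_inn (hQ.of_equiv e.symm) hA F hF

end Cfsg.Agent.helper25
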