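import Mathlib

set_option autoImplicit false

namespace Cfsg.Agent.helper25.BlkDiag

open Matrix

section blocks
variable {m : ℕ} {R : Type*} [CommRing R]

/-- index equivalence sending the extra coordinate to `0`. -/
def eB (m : ℕ) : Fin m ⊕ Unit ≃ Fin (m + 1) :=
  ((finSuccEquiv' (0 : Fin (m + 1))).trans (Equiv.optionEquivSumPUnit _)).symm

theorem eB_inr (m : ℕ) (u : Unit) : eB m (Sum.inr u) = 0 := by
  simp [eB]

theorem eB_inl (m : ℕ) (i : Fin m) : eB m (Sum.inl i) = i.succ := by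
  simp [eB]

def bdB (A : Matrix (Fin m) (Fin m) R) (a : R) : Matrix (Fin m ⊕ Unit) (Fin m ⊕ Unit) R :=
  Matrix.fromBlocks A 0 0 (Matrix.of fun _ _ => a)

theorem bdB_mul (A B : Matrix (Fin m) (Fin m) R) (a b : R) :
    bdB A a * bdB B b = bdB (A * B) (a * b) := by
  unfold bdB
  rw [Matrix.fromBlocks_multiply]
  congr 1
  · simp
  · simp
  · simp
  · ext i j
    simp [Matrix.mul_apply]

theorem det_bdB (A : Matrix (Fin m) (Fin m) R) (a : R) : (bdB A a).det = A.det * a := by
  unfold bdB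
  rw [Matrix.det_fromBlocks_zero₂₁]
  simp [Matrix.det_unique]

def bd (A : Matrix (Fin m) (Fin m) R) (a : R) : Matrix (Fin (m + 1)) (Fin (m + 1)) R :=
  Matrix.reindex (eB m) (eB m) (bdB A a)

theorem bd_mul (A B : Matrix (Fin m) (Fin m) R) (a b : R) :
    bd A a * bd B b = bd (A * B) (a * b) := by
  unfold bd
  rw [← bdB_mul]
  simp [Matrix.reindex_apply, Matrix.submatrix_mul_equiv]

theorem det_bd (A : Matrix (Fin m) (Fin m) R) (a : R) : (bd A a).det = A.det * a := by
  unfold bd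
  rw [Matrix.det_reindex_self, det_bdB]

theorem bd_one : bd (1 : Matrix (Fin m) (Fin m) R) 1 = 1 := by
  unfold bd bdB
  have : (Matrix.of fun _ _ => (1 : R) : Matrix Unit Unit R) = 1 := by
    ext i j; simp
  rw [this, Matrix.fromBlocks_one]
  simp

theorem bd_apply (A : Matrix (Fin m) (Fin m) R) (a : R) (x y : Fin m ⊕ Unit) :
    bd A a (eB m x) (eB m y) = bdB A a x y := by
  simp [bd]

theorem bd_succ_succ (A : Matrix (Fin m) (Fin m) R) (a : R) (i j : Fin m) :
    bd A a i.succ j.succ = A i j := by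
  rw [← eB_inl, ← eB_inl, bd_apply]; simp [bdB]

theorem bd_zero_zero (A : Matrix (Fin m) (Fin m) R) (a : R) :
    bd A a 0 0 = a := by
  rw [← eB_inr m (), bd_apply]; simp [bdB]

theorem bd_zero_succ (A : Matrix (Fin m) (Fin m) R) (a : R) (j : Fin m) :
    bd A a 0 j.succ = 0 := by
  rw [← eB_inr m (), ← eB_inl, bd_apply]; simp [bdB]

theorem bd_succ_zero (A : Matrix (Fin m) (Fin m) R) (a : R) (i : Fin m) :
    bd A a i.succ 0 = 0 := by
  rw [← eB_inr m (), ← eB_inl, bd_apply]; simp [bdB]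

theorem bd_inj {A B : Matrix (Fin m) (Fin m) R} {a b : R} (h : bd A a = bd B b) :
    A = B ∧ a = b := by
  constructor
  · ext i j
    have := congrFun (congrFun h i.succ) j.succ
    rwa [bd_succ_succ, bd_succ_succ] at this
  · have := congrFun (congrFun h 0) 0
    rwa [bd_zero_zero, bd_zero_zero] at this

theorem eq_bd_of (g : Matrix (Fin (m + 1)) (Fin (m + 1)) R)
    (h1 : ∀ j : Fin m, g 0 j.succ = 0) (h2 : ∀ i : Fin m, g i.succ 0 = 0) :
    g = bd (Matrix.of fun i j => g (Fin.succ i) (Fin.succ j)) (g 0 0) := by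
  ext i j
  refine Fin.cases ?_ (fun i' => ?_) i <;> refine Fin.cases ?_ (fun j' => ?_) j
  · rw [bd_zero_zero]
  · rw [bd_zero_succ, h1]
  · rw [bd_succ_zero, h2]
  · rw [bd_succ_succ]; rfl

end blocks

end Cfsg.Agent.helper25.BlkDiag
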