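import Mathlib
import Cfsg.Agent.Lib_helper25_BlkDiag

set_option autoImplicit false

namespace Cfsg.Agent.helper25.BlkDiagL

open Matrix Cfsg.Agent.helper25.BlkDiag

section blocks
variable {m : ℕ} {R : Type*} [CommRing R]

/-- index equivalence sending the extra coordinate to the last index. -/
def eL (m : ℕ) : Fin m ⊕ Unit ≃ Fin (m + 1) :=
  ((finSuccEquivLast (n := m)).trans (Equiv.optionEquivSumPUnit _)).symm

theorem eL_inr (m : ℕ) (u : Unit) : eL m (Sum.inr u) = Fin.last m := by
  simp [eL]

theorem eL_inl (m : ℕ) (i : Fin m) : eL m (Sum.inl i) = i.castSucc := by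
  simp [eL]

/-- block diagonal matrix with `A` on the first `m` indices and `a` in the last position. -/
def bl (A : Matrix (Fin m) (Fin m) R) (a : R) : Matrix (Fin (m + 1)) (Fin (m + 1)) R :=
  Matrix.reindex (eL m) (eL m) (bdB A a)

theorem bl_mul (A B : Matrix (Fin m) (Fin m) R) (a b : R) :
    bl A a * bl B b = bl (A * B) (a * b) := by
  unfold bl
  rw [← bdB_mul]
  simp [Matrix.reindex_apply, Matrix.submatrix_mul_equiv]

theorem det_bl (A : Matrix (Fin m) (Fin m) R) (a : R) : (bl A a).det = A.det * a := by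
  unfold bl
  rw [Matrix.det_reindex_self, det_bdB]

theorem bl_one : bl (1 : Matrix (Fin m) (Fin m) R) 1 = 1 := by
  unfold bl bdB
  have : (Matrix.of fun _ _ => (1 : R) : Matrix Unit Unit R) = 1 := by
    ext i j; simp
  rw [this, Matrix.fromBlocks_one]
  simp

theorem bl_apply (A : Matrix (Fin m) (Fin m) R) (a : R) (x y : Fin m ⊕ Unit) :
    bl A a (eL m x) (eL m y) = bdB A a x y := by
  simp [bl]

theorem bl_cast_cast (A : Matrix (Fin m) (Fin m) R) (a : R) (i j : Fin m) :
    bl A a i.castSucc j.castSucc = A i j := by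
  rw [← eL_inl, ← eL_inl, bl_apply]; simp [bdB]

theorem bl_last_last (A : Matrix (Fin m) (Fin m) R) (a : R) :
    bl A a (Fin.last m) (Fin.last m) = a := by
  rw [← eL_inr m (), bl_apply]; simp [bdB]

theorem bl_last_cast (A : Matrix (Fin m) (Fin m) R) (a : R) (j : Fin m) :
    bl A a (Fin.last m) j.castSucc = 0 := by
  rw [← eL_inr m (), ← eL_inl, bl_apply]; simp [bdB]

theorem bl_cast_last (A : Matrix (Fin m) (Fin m) R) (a : R) (i : Fin m) :
    bl A a i.castSucc (Fin.last m) = 0 := by
  rw [← eL_inr m (), ← eL_inl, bl_apply]; simp [bdB]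

theorem bl_inj {A B : Matrix (Fin m) (Fin m) R} {a b : R} (h : bl A a = bl B b) :
    A = B ∧ a = b := by
  constructor
  · ext i j
    have := congrFun (congrFun h i.castSucc) j.castSucc
    rwa [bl_cast_cast, bl_cast_cast] at this
  · have := congrFun (congrFun h (Fin.last m)) (Fin.last m)
    rwa [bl_last_last, bl_last_last] at this

theorem eq_bl_of (g : Matrix (Fin (m + 1)) (Fin (m + 1)) R)
    (h1 : ∀ j : Fin m, g (Fin.last m) j.castSucc = 0)
    (h2 : ∀ i : Fin m, g i.castSucc (Fin.last m) = 0) :
    g = bl (Matrix.of fun i j => g (Fin.castSucc i) (Fin.castSucc j))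
      (g (Fin.last m) (Fin.last m)) := by
  ext i j
  refine Fin.lastCases ?_ (fun i' => ?_) i <;> refine Fin.lastCases ?_ (fun j' => ?_) j
  · rw [bl_last_last]
  · rw [bl_last_cast, h1]
  · rw [bl_cast_last, h2]
  · rw [bl_cast_cast]; rfl

theorem bl_neg (A : Matrix (Fin m) (Fin m) R) (a : R) : -(bl A a) = bl (-A) (-a) := by
  refine (eq_bl_of (-(bl A a)) (by intro j; simp [bl_last_cast])
    (by intro i; simp [bl_cast_last])).trans ?_
  congr 1 <;> first | (ext i j; simp [bl_cast_cast]) | simp [bl_last_last]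

theorem bl_scalar (r a : R) :
    bl (Matrix.scalar (Fin m) r) a
      = Matrix.diagonal (fun i : Fin (m + 1) => if (i : ℕ) + 1 = m + 1 then a else r) := by
  ext i j
  refine Fin.lastCases ?_ (fun i' => ?_) i <;> refine Fin.lastCases ?_ (fun j' => ?_) j
  · rw [bl_last_last]; simp
  · rw [bl_last_cast, Matrix.diagonal_apply_ne]
    exact (Fin.castSucc_lt_last j').ne'
  · rw [bl_cast_last, Matrix.diagonal_apply_ne]
    exact (Fin.castSucc_lt_last i').ne
  · rw [bl_cast_cast, Matrix.scalar_apply, Matrix.diagonal_apply, Matrix.diagonal_apply]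
    have hi : ¬ ((i'.castSucc : Fin (m + 1)) : ℕ) + 1 = m + 1 := by
      have := i'.isLt
      simp only [Fin.val_castSucc]; omega
    simp only [Fin.castSucc_inj, hi, if_false]

end blocks

section field
variable {m : ℕ} {F : Type*} [Field F]

/-- a matrix commuting with `diag(d)`, where `d` is `-1` except `1` in the last position, is
block diagonal. -/
theorem block_of_comm_diag (h2 : (2 : F) ≠ 0) (d : Fin (m + 1) → F)
    (hd1 : d (Fin.last m) = 1) (hd2 : ∀ i : Fin m, d i.castSucc = -1)
    (g : Matrix (Fin (m + 1)) (Fin (m + 1)) F)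
    (h : g * Matrix.diagonal d = Matrix.diagonal d * g) :
    g = bl (Matrix.of fun i j => g (Fin.castSucc i) (Fin.castSucc j))
      (g (Fin.last m) (Fin.last m)) := by
  apply eq_bl_of
  · intro j
    have := congrFun (congrFun h (Fin.last m)) j.castSucc
    rw [Matrix.mul_diagonal, Matrix.diagonal_mul, hd1, hd2] at this
    have h3 : (2 : F) * g (Fin.last m) j.castSucc = 0 := by linear_combination -this
    rcases mul_eq_zero.mp h3 with h4 | h4
    · exact absurd h4 h2
    · exact h4
  · intro i
    have := congrFun (congrFun h i.castSucc) (Fin.last m)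
    rw [Matrix.mul_diagonal, Matrix.diagonal_mul, hd1, hd2] at this
    have h3 : (2 : F) * g i.castSucc (Fin.last m) = 0 := by linear_combination this
    rcases mul_eq_zero.mp h3 with h4 | h4
    · exact absurd h4 h2
    · exact h4

end field

end Cfsg.Agent.helper25.BlkDiagL
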