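import Cfsg.Agent.Lib_helper25_NormSat4

set_option autoImplicit false
set_option linter.style.haveILetI false
set_option linter.unusedVariables false

namespace Cfsg.Agent.helper25

open Cfsg Cfsg.FusionSystem

section Fix

variable {Ω : Type*} [Group Ω]

/-- automorphisms of `R` fixing `Q ∩ R` elementwise. -/
def fixIn (R Q : Subgroup Ω) : Subgroup (MulAut R) where
  carrier := {α | ∀ x : R, (x : Ω) ∈ Q → α x = x}
  one_mem' := fun x _ => rfl
  mul_mem' := fun {a b} ha hb x hx => by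
    show a (b x) = x
    rw [hb x hx, ha x hx]
  inv_mem' := fun {a} ha x hx => by
    have h := ha x hx
    calc a⁻¹ x = a⁻¹ (a x) := by rw [h]
      _ = x := MulAut.inv_apply_self _ _ _

theorem fixIn_le_stabIn (R Q : Subgroup Ω) : fixIn R Q ≤ stabIn R Q := by
  intro α hα x
  constructor
  · intro h
    have hinv : α⁻¹ ∈ fixIn R Q := Subgroup.inv_mem _ hα
    have h1 := hinv (α x) h
    rw [MulAut.inv_apply_self] at h1
    rw [h1]; exact h
  · intro h
    rw [hα x h]; exact h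

theorem congr_mem_fixIn {R R' Q : Subgroup Ω} (hQR : Q ≤ R) (e : R ≃* R')
    (h : ∀ x : R, (x : Ω) ∈ Q → ((e x : R') : Ω) = x) {α : MulAut R}
    (hα : α ∈ fixIn R Q) : MulAut.congr e α ∈ fixIn R' Q := by
  intro y hy
  have h1 : e ⟨y, hQR hy⟩ = y := Subtype.ext (h ⟨y, hQR hy⟩ hy)
  have h2 : e.symm y = ⟨y, hQR hy⟩ := by
    rw [MulEquiv.symm_apply_eq, h1]
  show e (α (e.symm y)) = y
  rw [h2, hα ⟨y, hQR hy⟩ hy, h1]

end Fix

section CentStab

variable {Ω : Type*} [Group Ω] {S : Subgroup Ω}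

/-- automorphisms in `Aut_F(R)` stabilizing `P` and fixing `Q` elementwise. -/
def centStab (F : FusionSystem S) (R P Q : Subgroup Ω) : Subgroup (MulAut R) :=
  F.autGroup R ⊓ stabIn R P ⊓ fixIn R Q

theorem centStab_le_stabIn_left (F : FusionSystem S) (R P Q : Subgroup Ω) :
    centStab F R P Q ≤ stabIn R P := fun _ h => h.1.2

/-- transport of the stabilizer along an isomorphism of the system fixing `Q`. -/
theorem map_congr_centStab (F : FusionSystem S) {R R' P P' Q : Subgroup Ω} (hQR : Q ≤ R)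
    (hQR' : Q ≤ R') (e : R ≃* R') (he : IsFIso F e)
    (hP : ∀ x : R, ((e x : R') : Ω) ∈ P' ↔ (x : Ω) ∈ P)
    (hQ : ∀ x : R, (x : Ω) ∈ Q → ((e x : R') : Ω) = x) :
    (centStab F R P Q).map (MulAut.congr e).toMonoidHom = centStab F R' P' Q := by
  apply le_antisymm
  · rintro _ ⟨α, hα, rfl⟩
    exact ⟨⟨he.congr_mem_autGroup hα.1.1, congr_mem_stabIn e hP hα.1.2⟩,
      congr_mem_fixIn hQR e hQ hα.2⟩
  · intro β hβ
    have hP' : ∀ y : R', ((e.symm y : R) : Ω) ∈ P ↔ (y : Ω) ∈ P' := fun y => by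
      rw [← hP, MulEquiv.apply_symm_apply]
    have hQ' : ∀ y : R', (y : Ω) ∈ Q → ((e.symm y : R) : Ω) = y := fun y hy => by
      have h1 : e ⟨y, hQR hy⟩ = y := Subtype.ext (hQ ⟨y, hQR hy⟩ hy)
      have h2 : e.symm y = ⟨y, hQR hy⟩ := by rw [MulEquiv.symm_apply_eq, h1]
      rw [h2]
    refine ⟨MulAut.congr e.symm β, ⟨⟨he.symm.congr_mem_autGroup hβ.1.1,
      congr_mem_stabIn e.symm hP' hβ.1.2⟩, congr_mem_fixIn hQR' e.symm hQ' hβ.2⟩, ?_⟩
    apply MulEquiv.ext; intro y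
    show e (e.symm (β (e (e.symm y)))) = β y
    rw [MulEquiv.apply_symm_apply, MulEquiv.apply_symm_apply]

end CentStab

end Cfsg.Agent.helper25
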