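import Cfsg.Agent.Lib_helper25_CentSat1

set_option autoImplicit false
set_option linter.style.haveILetI false
set_option linter.unusedVariables false
set_option maxHeartbeats 1000000

namespace Cfsg.Agent.helper25

open Cfsg Cfsg.FusionSystem

variable {Ω : Type*} [Group Ω] {S : Subgroup Ω}

/-- `P ≤ C_S(Q)` is well placed for the centralizer system of `Q`. -/
def IsGoodForC (F : FusionSystem S) (p : ℕ) (Q P : Subgroup Ω) : Prop :=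
  P ≤ centralizerIn S Q ∧ F.IsReceptive (P ⊔ Q) ∧
    IsSylowIn p (autInducedBy (normalizerIn (centralizerIn S Q) P) (P ⊔ Q))
      (centStab F (P ⊔ Q) P Q)

theorem autInducedBy_cent_le_centStab (F : FusionSystem S) {P Q : Subgroup Ω}
    (hR : P ⊔ Q ≤ S) :
    autInducedBy (normalizerIn (centralizerIn S Q) P) (P ⊔ Q) ≤ centStab F (P ⊔ Q) P Q := by
  intro α hα
  obtain ⟨g, hg, hgα⟩ := (mem_autInducedBy_iff _ _ α).mp hα
  have hgS : g ∈ S := hg.1.1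
  have hgQ : g ∈ Subgroup.centralizer (Q : Set Ω) := hg.1.2
  have hgP : g ∈ Subgroup.normalizer (P : Set Ω) := hg.2
  refine ⟨⟨?_, ?_⟩, ?_⟩
  · apply autInducedBy_le_autGroup F hR
    exact (mem_autInducedBy_iff _ _ α).mpr ⟨g, hgS, hgα⟩
  · intro x
    rw [hgα x]
    exact (Subgroup.mem_normalizer_iff.mp hgP x).symm
  · intro x hx
    apply Subtype.ext
    rw [hgα x]
    have h1 := Subgroup.mem_centralizer_iff.mp hgQ x hx
    rw [← h1]; group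

theorem conj_eq_of_mem_centralizer {Q : Subgroup Ω} {g x : Ω}
    (hg : g ∈ Subgroup.centralizer (Q : Set Ω)) (hx : x ∈ Q) : g * x * g⁻¹ = x := by
  have h1 := Subgroup.mem_centralizer_iff.mp hg x hx
  rw [← h1]; group

/-- every subgroup of `C_S(Q)`, `Q` fully centralized, has a well placed conjugate under a map
fixing `Q` elementwise. -/
theorem exists_good_conjC [Finite S] {p : ℕ} [Fact p.Prime] (hS : IsPGroup p S)
    (F : FusionSystem S) (hF : F.IsSaturated p) {Q : Subgroup Ω} (hQ : F.IsFullyCentralized Q)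
    {P : Subgroup Ω} (hP : P ≤ centralizerIn S Q) :
    ∃ P₃ : Subgroup Ω, IsGoodForC F p Q P₃ ∧ ∃ ψ₃ ∈ F.Hom (P ⊔ Q),
      (P.subgroupOf (P ⊔ Q)).map ψ₃ = P₃ ∧
        ∀ x : ↥(P ⊔ Q), (x : Ω) ∈ Q → ψ₃ x = x := by
  have hQrec := receptive_of_fullyCentralized hS F hF hQ
  have hQS : Q ≤ S := hQ.1
  have hPS : P ≤ S := hP.trans inf_le_left
  have hPC : P ≤ Subgroup.centralizer (Q : Set Ω) := hP.trans inf_le_right
  have hR₀S : P ⊔ Q ≤ S := sup_le hPS hQS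
  haveI : Finite (P ⊔ Q : Subgroup Ω) := finite_of_le S hR₀S
  have hR₀N : P ⊔ Q ≤ Subgroup.normalizer (Q : Set Ω) :=
    sup_le (hPC.trans (Subgroup.centralizer_le_normalizer _)) Subgroup.le_normalizer
  obtain ⟨R, hconj, hRfn⟩ := exists_fullyNormalized_conj F hR₀S
  obtain ⟨hRfc, hRfa⟩ := fullyNormalized_imp hS F hF hRfn
  have hRS : R ≤ S := hRfn.1
  haveI : Finite R := finite_of_le S hRS
  obtain ⟨φ₀, hφ₀, hr₀⟩ := hconj
  obtain ⟨χ₀, hχ₀, hχ₀coe⟩ := exists_isFIso_of_mem F hφ₀ hr₀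
  have hK₁le : (centStab F (P ⊔ Q) P Q).map (MulAut.congr χ₀).toMonoidHom ≤ F.autGroup R := by
    rintro _ ⟨a, ha, rfl⟩; exact hχ₀.congr_mem_autGroup ha.1.1
  obtain ⟨Y, -, hYK, hYp, hYcard⟩ := exists_sylow_ge (p := p)
    (X := (⊥ : Subgroup (MulAut R)))
    (K := (centStab F (P ⊔ Q) P Q).map (MulAut.congr χ₀).toMonoidHom) bot_le IsPGroup.of_bot
  have hsylR : IsSylowIn p (autInducedBy S R) (F.autGroup R) := hRfa.2
  obtain ⟨β, hβ, hβY⟩ := exists_cj_le_of_isSylowIn hsylR (hYK.trans hK₁le) hYp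
  have hβiso : IsFIso F β := (mem_autGroup_iff F hRS β).mp hβ
  have hχ : IsFIso F (χ₀.trans β) := hχ₀.trans hβiso
  have hK₂ : (centStab F (P ⊔ Q) P Q).map (MulAut.congr (χ₀.trans β)).toMonoidHom =
      cj β ((centStab F (P ⊔ Q) P Q).map (MulAut.congr χ₀).toMonoidHom) := by
    rw [cj, Subgroup.map_map]
    congr 1
  have hY'K : cj β Y ≤ (centStab F (P ⊔ Q) P Q).map (MulAut.congr (χ₀.trans β)).toMonoidHom := by
    rw [hK₂]; exact cj_mono β hYK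
  have hY'syl : IsSylowIn p (cj β Y)
      ((centStab F (P ⊔ Q) P Q).map (MulAut.congr (χ₀.trans β)).toMonoidHom) := by
    rw [isSylowIn_iff_card hY'K, hK₂, card_cj, card_cj]; exact hYcard
  -- rename χ
  obtain ⟨χ, hχdef⟩ : ∃ χ : ↥(P ⊔ Q) ≃* R, χ = χ₀.trans β := ⟨_, rfl⟩
  rw [← hχdef] at hχ hY'K hY'syl
  clear hK₂ hχdef
  -- Q₂
  have hQ₂R : (Q.subgroupOf (P ⊔ Q)).map (R.subtype.comp χ.toMonoidHom) ≤ R := by
    rintro _ ⟨z, -, rfl⟩; exact (χ z).2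
  haveI : Finite ((Q.subgroupOf (P ⊔ Q)).map (R.subtype.comp χ.toMonoidHom) : Subgroup Ω) :=
    finite_of_le S (hQ₂R.trans hRS)
  have hχQ₂ : ∀ (q : Ω) (hq : q ∈ Q),
      ((χ ⟨q, (le_sup_right : Q ≤ P ⊔ Q) hq⟩ : R) : Ω) ∈
        (Q.subgroupOf (P ⊔ Q)).map (R.subtype.comp χ.toMonoidHom) :=
    fun q hq => (mem_map_iso_iff χ Q _).mpr hq
  -- ρ₀ : inverse of χ on Q₂
  have hρ₀ := restrict_mem F hQ₂R hχ.symm
  have hρ₀apply : ∀ (y : Ω) (hy : y ∈ (Q.subgroupOf (P ⊔ Q)).map (R.subtype.comp χ.toMonoidHom)),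
      (((P ⊔ Q).subtype.comp χ.symm.toMonoidHom).comp (Subgroup.inclusion hQ₂R)) ⟨y, hy⟩ =
        ((χ.symm ⟨y, hQ₂R hy⟩ : ↥(P ⊔ Q)) : Ω) := fun y hy => rfl
  have hρ₀χ : ∀ (q : Ω) (hq : q ∈ Q),
      (((P ⊔ Q).subtype.comp χ.symm.toMonoidHom).comp (Subgroup.inclusion hQ₂R))
        ⟨((χ ⟨q, (le_sup_right : Q ≤ P ⊔ Q) hq⟩ : R) : Ω), hχQ₂ q hq⟩ = q := by
    intro q hq
    rw [hρ₀apply]
    have e : (⟨((χ ⟨q, (le_sup_right : Q ≤ P ⊔ Q) hq⟩ : R) : Ω), hQ₂R (hχQ₂ q hq)⟩ : R) =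
        χ ⟨q, (le_sup_right : Q ≤ P ⊔ Q) hq⟩ := Subtype.ext rfl
    rw [e, MulEquiv.symm_apply_apply]
  have hρ₀range : (((P ⊔ Q).subtype.comp χ.symm.toMonoidHom).comp
      (Subgroup.inclusion hQ₂R)).range = Q := by
    apply le_antisymm
    · rintro _ ⟨⟨y, hy⟩, rfl⟩
      obtain ⟨z, hz, rfl⟩ := hy
      have hzQ : (z : Ω) ∈ Q := Subgroup.mem_subgroupOf.mp hz
      have h1 := hρ₀χ z hzQ
      have e : (⟨(R.subtype.comp χ.toMonoidHom) z, ⟨z, hz, rfl⟩⟩ :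
          ↥((Q.subgroupOf (P ⊔ Q)).map (R.subtype.comp χ.toMonoidHom))) =
          ⟨((χ ⟨z, (le_sup_right : Q ≤ P ⊔ Q) hzQ⟩ : R) : Ω), hχQ₂ z hzQ⟩ := Subtype.ext rfl
      rw [e, h1]; exact hzQ
    · intro q hq
      exact ⟨_, hρ₀χ q hq⟩
  obtain ⟨ρ, hρ, hρext⟩ := hQrec.2 _ _ hρ₀ hρ₀range
  -- the domain of ρ contains R and C_S(Q₂)
  have hRN₂ : R ≤ Subgroup.normalizer
      ((((Q.subgroupOf (P ⊔ Q)).map (R.subtype.comp χ.toMonoidHom) : Subgroup Ω)) : Set Ω) := by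
    intro r hr
    apply Subgroup.mem_normalizer_fintype
    rintro _ ⟨z, hz, rfl⟩
    have hzQ : (z : Ω) ∈ Q := Subgroup.mem_subgroupOf.mp hz
    have hxr : ((χ (χ.symm ⟨r, hr⟩) : R) : Ω) = r := by rw [MulEquiv.apply_symm_apply]
    have hcj : ((χ.symm ⟨r, hr⟩ : ↥(P ⊔ Q)) : Ω) * z * ((χ.symm ⟨r, hr⟩ : ↥(P ⊔ Q)) : Ω)⁻¹ ∈ Q :=
      (Subgroup.mem_normalizer_iff.mp (hR₀N (χ.symm ⟨r, hr⟩).2) _).mp hzQ
    have e1 : r * (R.subtype.comp χ.toMonoidHom) z * r⁻¹ =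
        ((χ (χ.symm ⟨r, hr⟩ * z * (χ.symm ⟨r, hr⟩)⁻¹) : R) : Ω) := by
      rw [map_mul, map_mul, map_inv, Subgroup.coe_mul, Subgroup.coe_mul, Subgroup.coe_inv, hxr]
      rfl
    rw [SetLike.mem_coe, e1]
    exact (mem_map_iso_iff χ Q _).mpr hcj
  have hRDom : R ≤ extender S ((Q.subgroupOf (P ⊔ Q)).map (R.subtype.comp χ.toMonoidHom))
      (((P ⊔ Q).subtype.comp χ.symm.toMonoidHom).comp (Subgroup.inclusion hQ₂R)) := by
    intro r hr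
    apply (mem_extender_iff _ _ _ _).mpr
    refine ⟨hRS hr, hRN₂ hr, ((χ.symm ⟨r, hr⟩ : ↥(P ⊔ Q)) : Ω), hR₀S (χ.symm ⟨r, hr⟩).2,
      fun x hx => ?_⟩
    rw [hρ₀apply, hρ₀apply]
    have e : (⟨r * (x : Ω) * r⁻¹, hQ₂R hx⟩ : R) = ⟨r, hr⟩ * ⟨x, hQ₂R x.2⟩ * ⟨r, hr⟩⁻¹ := rfl
    rw [e, map_mul, map_mul, map_inv]
    rfl
  have hCDom : centralizerIn S ((Q.subgroupOf (P ⊔ Q)).map (R.subtype.comp χ.toMonoidHom)) ≤
      extender S ((Q.subgroupOf (P ⊔ Q)).map (R.subtype.comp χ.toMonoidHom))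
      (((P ⊔ Q).subtype.comp χ.symm.toMonoidHom).comp (Subgroup.inclusion hQ₂R)) := by
    intro c hc
    apply (mem_extender_iff _ _ _ _).mpr
    refine ⟨hc.1, Subgroup.centralizer_le_normalizer _ hc.2, 1, S.one_mem, fun x hx => ?_⟩
    have e : (⟨c * (x : Ω) * c⁻¹, hx⟩ :
        ↥((Q.subgroupOf (P ⊔ Q)).map (R.subtype.comp χ.toMonoidHom))) = x :=
      Subtype.ext (conj_eq_of_mem_centralizer hc.2 x.2)
    rw [e]; group
  have hρχ : ∀ (q : Ω) (hq : q ∈ Q),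
      ρ ⟨((χ ⟨q, (le_sup_right : Q ≤ P ⊔ Q) hq⟩ : R) : Ω), hRDom (χ _).2⟩ = q := by
    intro q hq
    rw [hρext _ (hχQ₂ q hq)]
    exact hρ₀χ q hq
  have hρC : ∀ (c : Ω)
      (hc : c ∈ centralizerIn S ((Q.subgroupOf (P ⊔ Q)).map (R.subtype.comp χ.toMonoidHom))),
      ρ ⟨c, hCDom hc⟩ ∈ centralizerIn S Q := by
    intro c hc
    refine ⟨(F.le_of_mem hρ).2 _, ?_⟩
    show ρ ⟨c, hCDom hc⟩ ∈ Subgroup.centralizer _
    rw [Subgroup.mem_centralizer_iff]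
    intro q hq
    rw [← hρχ q hq, ← map_mul, ← map_mul]
    congr 1
    apply Subtype.ext
    exact Subgroup.mem_centralizer_iff.mp hc.2 _ (hχQ₂ q hq)
  have hval : ∀ x : ↥(P ⊔ Q), (R.subtype.comp χ.toMonoidHom) x ∈
      extender S ((Q.subgroupOf (P ⊔ Q)).map (R.subtype.comp χ.toMonoidHom))
      (((P ⊔ Q).subtype.comp χ.symm.toMonoidHom).comp (Subgroup.inclusion hQ₂R)) :=
    fun x => hRDom (χ x).2
  have hψ₃ := F.comp_mem hχ hρ hval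
  have hψ₃apply : ∀ x : ↥(P ⊔ Q), (ρ.comp ((R.subtype.comp χ.toMonoidHom).codRestrict _ hval)) x =
      ρ ⟨((χ x : R) : Ω), hval x⟩ := fun x => rfl
  -- name ψ₃
  obtain ⟨ψ₃, hψ₃def⟩ : ∃ ψ₃ : ↥(P ⊔ Q) →* Ω,
      ψ₃ = ρ.comp ((R.subtype.comp χ.toMonoidHom).codRestrict _ hval) := ⟨_, rfl⟩
  rw [← hψ₃def] at hψ₃
  have hψ₃apply' : ∀ x : ↥(P ⊔ Q), ψ₃ x = ρ ⟨((χ x : R) : Ω), hval x⟩ := fun x => by
    rw [hψ₃def]; rfl
  clear hψ₃apply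
  have hψ₃Q : ∀ x : ↥(P ⊔ Q), (x : Ω) ∈ Q → ψ₃ x = x := by
    intro x hx
    rw [hψ₃apply']
    exact hρχ x hx
  have hQ₃ : (Q.subgroupOf (P ⊔ Q)).map ψ₃ = Q := by
    apply le_antisymm
    · rintro _ ⟨z, hz, rfl⟩
      rw [hψ₃Q z (Subgroup.mem_subgroupOf.mp hz)]
      exact Subgroup.mem_subgroupOf.mp hz
    · intro q hq
      exact ⟨⟨q, (le_sup_right : Q ≤ P ⊔ Q) hq⟩, Subgroup.mem_subgroupOf.mpr hq, hψ₃Q _ hq⟩
  have hrange : ψ₃.range = (P.subgroupOf (P ⊔ Q)).map ψ₃ ⊔ Q := by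
    rw [range_eq_sup_map, hQ₃]
  obtain ⟨ε, hε, hεcoe⟩ := exists_isFIso_of_mem F hψ₃ hrange
  have hψ₃inj := F.injective_of_mem hψ₃
  have hεP : ∀ x : ↥(P ⊔ Q), ((ε x : ↥((P.subgroupOf (P ⊔ Q)).map ψ₃ ⊔ Q)) : Ω) ∈
      (P.subgroupOf (P ⊔ Q)).map ψ₃ ↔ (x : Ω) ∈ P := by
    intro x
    rw [hεcoe]
    constructor
    · rintro ⟨z, hz, hzx⟩
      rw [← hψ₃inj hzx]; exact Subgroup.mem_subgroupOf.mp hz
    · intro hx; exact ⟨x, Subgroup.mem_subgroupOf.mpr hx, rfl⟩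
  have hεQ : ∀ x : ↥(P ⊔ Q), (x : Ω) ∈ Q →
      ((ε x : ↥((P.subgroupOf (P ⊔ Q)).map ψ₃ ⊔ Q)) : Ω) = x := by
    intro x hx
    rw [hεcoe]; exact hψ₃Q x hx
  have hP₃C : (P.subgroupOf (P ⊔ Q)).map ψ₃ ≤ centralizerIn S Q := by
    rintro _ ⟨z, hz, rfl⟩
    have hzP : (z : Ω) ∈ P := Subgroup.mem_subgroupOf.mp hz
    rw [hψ₃apply']
    apply hρC
    refine ⟨hRS (χ z).2, ?_⟩
    apply Subgroup.mem_centralizer_iff.mpr
    rintro _ ⟨q, hq, rfl⟩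
    have hqQ : (q : Ω) ∈ Q := Subgroup.mem_subgroupOf.mp hq
    have h1 : (q : Ω) * z = z * q := Subgroup.mem_centralizer_iff.mp (hPC hzP) q hqQ
    have h2 : q * z = z * q := Subtype.ext h1
    show ((χ q : R) : Ω) * ((χ z : R) : Ω) = ((χ z : R) : Ω) * ((χ q : R) : Ω)
    rw [← Subgroup.coe_mul, ← Subgroup.coe_mul, ← map_mul, ← map_mul, h2]
  have hR₃S : (P.subgroupOf (P ⊔ Q)).map ψ₃ ⊔ Q ≤ S := sup_le (hP₃C.trans inf_le_left) hQS
  haveI : Finite ((P.subgroupOf (P ⊔ Q)).map ψ₃ ⊔ Q : Subgroup Ω) := finite_of_le S hR₃S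
  refine ⟨(P.subgroupOf (P ⊔ Q)).map ψ₃, ⟨hP₃C, ?_, ?_⟩, ψ₃, hψ₃, rfl, hψ₃Q⟩
  · -- receptive
    apply receptive_of_fullyCentralized hS F hF
    refine ⟨hR₃S, fun R' hR' => ?_⟩
    have hc1 : F.IsConj R (P ⊔ Q) := isConj_symm F ⟨φ₀, hφ₀, hr₀⟩
    have hc2 : F.IsConj (P ⊔ Q) ((P.subgroupOf (P ⊔ Q)).map ψ₃ ⊔ Q) := ⟨ψ₃, hψ₃, hrange⟩
    have hc : F.IsConj R R' := isConj_trans F (isConj_trans F hc1 hc2) hR'
    have h1 := hRfc.2 R' hc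
    have hCle : centralizerIn S R ≤ centralizerIn S
        ((Q.subgroupOf (P ⊔ Q)).map (R.subtype.comp χ.toMonoidHom)) := by
      intro c hc
      exact ⟨hc.1, Subgroup.centralizer_le (SetLike.coe_subset_coe.mpr hQ₂R) hc.2⟩
    have hmem : ∀ c : centralizerIn S R, ρ ⟨c, hCDom (hCle c.2)⟩ ∈
        centralizerIn S ((P.subgroupOf (P ⊔ Q)).map ψ₃ ⊔ Q) := by
      intro c
      refine ⟨(F.le_of_mem hρ).2 _, ?_⟩
      show ρ ⟨c, hCDom (hCle c.2)⟩ ∈ Subgroup.centralizer _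
      rw [Subgroup.mem_centralizer_iff]
      intro y hy
      have hy' : y ∈ ψ₃.range := by rw [hrange]; exact hy
      obtain ⟨x, rfl⟩ := hy'
      rw [hψ₃apply', ← map_mul, ← map_mul]
      congr 1
      apply Subtype.ext
      exact Subgroup.mem_centralizer_iff.mp c.2.2 _ (χ x).2
    have h2 : Nat.card (centralizerIn S R) ≤
        Nat.card (centralizerIn S ((P.subgroupOf (P ⊔ Q)).map ψ₃ ⊔ Q)) := by
      haveI : Finite (centralizerIn S ((P.subgroupOf (P ⊔ Q)).map ψ₃ ⊔ Q)) :=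
        finite_of_le S inf_le_left
      apply Nat.card_le_card_of_injective (fun c : centralizerIn S R =>
        (⟨ρ ⟨c, hCDom (hCle c.2)⟩, hmem c⟩ :
          centralizerIn S ((P.subgroupOf (P ⊔ Q)).map ψ₃ ⊔ Q)))
      intro a b hab
      have h3 : ρ ⟨a, hCDom (hCle a.2)⟩ = ρ ⟨b, hCDom (hCle b.2)⟩ := congrArg Subtype.val hab
      have h4 := F.injective_of_mem hρ h3
      exact Subtype.ext (Subtype.mk.inj h4)
    exact h1.trans h2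
  · -- Sylow
    have he₃ : IsFIso F (χ.symm.trans ε) := hχ.symm.trans hε
    have he₃coe : ∀ r : R, (((χ.symm.trans ε) r : ↥((P.subgroupOf (P ⊔ Q)).map ψ₃ ⊔ Q)) : Ω) =
        ρ ⟨r, hRDom r.2⟩ := by
      intro r
      show ((ε (χ.symm r) : ↥((P.subgroupOf (P ⊔ Q)).map ψ₃ ⊔ Q)) : Ω) = _
      rw [hεcoe, hψ₃apply']
      congr 1
      apply Subtype.ext
      show ((χ (χ.symm r) : R) : Ω) = r
      rw [MulEquiv.apply_symm_apply]
    have hK₃ : ((centStab F (P ⊔ Q) P Q).map (MulAut.congr χ).toMonoidHom).map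
        (MulAut.congr (χ.symm.trans ε)).toMonoidHom =
        centStab F ((P.subgroupOf (P ⊔ Q)).map ψ₃ ⊔ Q) ((P.subgroupOf (P ⊔ Q)).map ψ₃) Q := by
      rw [← map_congr_centStab F le_sup_right le_sup_right ε hε hεP hεQ, Subgroup.map_map]
      congr 1
      apply MonoidHom.ext; intro a
      apply MulEquiv.ext; intro y
      show ε (χ.symm (χ (a (χ.symm (χ (ε.symm y)))))) = ε (a (ε.symm y))
      rw [MulEquiv.symm_apply_apply, MulEquiv.symm_apply_apply]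
    have hY₃syl : IsSylowIn p ((cj β Y).map (MulAut.congr (χ.symm.trans ε)).toMonoidHom)
        (centStab F ((P.subgroupOf (P ⊔ Q)).map ψ₃ ⊔ Q) ((P.subgroupOf (P ⊔ Q)).map ψ₃) Q) := by
      rw [← hK₃]
      exact isSylowIn_map_of_injective hY'K _ (MulAut.congr (χ.symm.trans ε)).injective hY'syl
    have hY₃K : (cj β Y).map (MulAut.congr (χ.symm.trans ε)).toMonoidHom ≤
        centStab F ((P.subgroupOf (P ⊔ Q)).map ψ₃ ⊔ Q) ((P.subgroupOf (P ⊔ Q)).map ψ₃) Q := by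
      rw [← hK₃]; exact Subgroup.map_mono hY'K
    have hH₃K := autInducedBy_cent_le_centStab F (P := (P.subgroupOf (P ⊔ Q)).map ψ₃) (Q := Q) hR₃S
    have hH₃p : IsPGroup p (autInducedBy (normalizerIn (centralizerIn S Q)
        ((P.subgroupOf (P ⊔ Q)).map ψ₃)) ((P.subgroupOf (P ⊔ Q)).map ψ₃ ⊔ Q)) :=
      isPGroup_autInducedBy (hS.to_le (inf_le_left.trans inf_le_left)) _
    refine isSylowIn_of_le_of_isPGroup hY₃syl hY₃K ?_ hH₃K hH₃p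
    rintro _ ⟨y, hy, rfl⟩
    have hyS : y ∈ autInducedBy S R := hβY hy
    obtain ⟨g, hg, rfl⟩ := (mem_autInducedBy_iff' S R y).mp hyS
    obtain ⟨a, ha, hay⟩ := hY'K hy
    -- g centralizes Q₂
    have hgC₂ : g ∈ centralizerIn S
        ((Q.subgroupOf (P ⊔ Q)).map (R.subtype.comp χ.toMonoidHom)) := by
      refine ⟨hg.1, ?_⟩
      apply Subgroup.mem_centralizer_iff.mpr
      rintro _ ⟨z, hz, rfl⟩
      have hzQ : (z : Ω) ∈ Q := Subgroup.mem_subgroupOf.mp hz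
      have h1 : (MulAut.congr χ).toMonoidHom a (χ z) = χ (a z) := by
        show χ (a (χ.symm (χ z))) = χ (a z)
        rw [MulEquiv.symm_apply_apply]
      rw [hay, ha.2 z hzQ] at h1
      have h2 : g * ((χ z : R) : Ω) * g⁻¹ = ((χ z : R) : Ω) := congrArg Subtype.val h1
      show ((χ z : R) : Ω) * g = g * ((χ z : R) : Ω)
      calc ((χ z : R) : Ω) * g = (g * ((χ z : R) : Ω) * g⁻¹) * g := by rw [h2]
        _ = g * ((χ z : R) : Ω) := by group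
    -- the image automorphism is conjugation by ρ g
    have hformula : ∀ w : ↥((P.subgroupOf (P ⊔ Q)).map ψ₃ ⊔ Q),
        (((MulAut.congr (χ.symm.trans ε)).toMonoidHom (normAut R g hg.2) w :
          ↥((P.subgroupOf (P ⊔ Q)).map ψ₃ ⊔ Q)) : Ω) =
          ρ ⟨g, hCDom hgC₂⟩ * (w : Ω) * (ρ ⟨g, hCDom hgC₂⟩)⁻¹ := by
      intro w
      show (((χ.symm.trans ε) (normAut R g hg.2 ((χ.symm.trans ε).symm w)) :
          ↥((P.subgroupOf (P ⊔ Q)).map ψ₃ ⊔ Q)) : Ω) = _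
      rw [he₃coe]
      have hw : (w : Ω) = ρ ⟨(((χ.symm.trans ε).symm w : R) : Ω),
          hRDom ((χ.symm.trans ε).symm w).2⟩ := by
        rw [← he₃coe, MulEquiv.apply_symm_apply]
      rw [hw, ← map_inv, ← map_mul, ← map_mul]
      rfl
    have hg'C : ρ ⟨g, hCDom hgC₂⟩ ∈ centralizerIn S Q := hρC g hgC₂
    have hmemK : (MulAut.congr (χ.symm.trans ε)).toMonoidHom (normAut R g hg.2) ∈
        centStab F ((P.subgroupOf (P ⊔ Q)).map ψ₃ ⊔ Q) ((P.subgroupOf (P ⊔ Q)).map ψ₃) Q :=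
      hY₃K ⟨_, hy, rfl⟩
    have hg'P : ρ ⟨g, hCDom hgC₂⟩ ∈ Subgroup.normalizer
        (((P.subgroupOf (P ⊔ Q)).map ψ₃ : Subgroup Ω) : Set Ω) := by
      haveI : Finite ((P.subgroupOf (P ⊔ Q)).map ψ₃ : Subgroup Ω) :=
        finite_of_le S (hP₃C.trans inf_le_left)
      apply Subgroup.mem_normalizer_fintype
      intro n hn
      have h1 := hformula ⟨n, Subgroup.mem_sup_left hn⟩
      rw [SetLike.mem_coe, ← h1]
      exact (hmemK.1.2 ⟨n, Subgroup.mem_sup_left hn⟩).mpr hn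
    exact (mem_autInducedBy_iff _ _ _).mpr ⟨ρ ⟨g, hCDom hgC₂⟩, ⟨hg'C, hg'P⟩, hformula⟩

end Cfsg.Agent.helper25
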