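import Cfsg.Agent.Lib_helper25_CentSat2

set_option autoImplicit false
set_option linter.style.haveILetI false
set_option linter.unusedVariables false
set_option maxHeartbeats 1000000

namespace Cfsg.Agent.helper25

open Cfsg Cfsg.FusionSystem

variable {Ω : Type*} [Group Ω] {S : Subgroup Ω}

/-- restriction from the stabilizer in `Aut_F(P ⊔ Q)` to `Aut(P)`. -/
def centRes (F : FusionSystem S) (P Q : Subgroup Ω) : ↥(centStab F (P ⊔ Q) P Q) →* MulAut P :=
  (resAut (le_sup_left : P ≤ P ⊔ Q)).comp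
    (Subgroup.inclusion (centStab_le_stabIn_left F (P ⊔ Q) P Q))

theorem centRes_coe (F : FusionSystem S) (P Q : Subgroup Ω) (α : centStab F (P ⊔ Q) P Q) (x : P) :
    ((centRes F P Q α x : P) : Ω) =
      (((α : MulAut ↥(P ⊔ Q)) ⟨x, (le_sup_left : P ≤ P ⊔ Q) x.2⟩ : ↥(P ⊔ Q)) : Ω) := rfl

theorem mem_normalizer_sup_of_centralizer {P Q : Subgroup Ω} {g : Ω}
    (hP : g ∈ Subgroup.normalizer (P : Set Ω)) (hQ : g ∈ Subgroup.centralizer (Q : Set Ω)) :
    g ∈ Subgroup.normalizer ((P ⊔ Q : Subgroup Ω) : Set Ω) :=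
  mem_normalizer_sup hP (Subgroup.centralizer_le_normalizer _ hQ)

/-- the restriction map has image `Aut_E(P)` for `E = C_F(Q)`. -/
theorem centRes_range [Finite S] (F : FusionSystem S) {P Q : Subgroup Ω} (hQS : Q ≤ S)
    (E : FusionSystem (centralizerIn S Q)) (hE : F.IsCentralizerSystem Q E)
    (hPC : P ≤ centralizerIn S Q) : (centRes F P Q).range = E.autGroup P := by
  have hPS : P ≤ S := hPC.trans inf_le_left
  have hRS : P ⊔ Q ≤ S := sup_le hPS hQS
  haveI : Finite (P ⊔ Q : Subgroup Ω) := finite_of_le S hRS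
  apply le_antisymm
  · rintro _ ⟨α, rfl⟩
    apply Subgroup.subset_closure
    show P.subtype.comp (centRes F P Q α).toMonoidHom ∈ E.Hom P
    rw [hE P]
    have hαF : (P ⊔ Q).subtype.comp (α : MulAut ↥(P ⊔ Q)).toMonoidHom ∈ F.Hom (P ⊔ Q) :=
      (mem_autGroup_iff F hRS _).mp α.2.1.1
    have e1 : P.subtype.comp (centRes F P Q α).toMonoidHom =
        ((P ⊔ Q).subtype.comp (α : MulAut ↥(P ⊔ Q)).toMonoidHom).comp
          (Subgroup.inclusion le_sup_left) := by
      ext x; rfl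
    refine ⟨?_, hPC, fun x => hPC (centRes F P Q α x).2,
      (P ⊔ Q).subtype.comp (α : MulAut ↥(P ⊔ Q)).toMonoidHom, hαF, fun x => rfl, ?_⟩
    · rw [e1]; exact restrict_mem F le_sup_left hαF
    · intro x
      have h1 := α.2.2 (Subgroup.inclusion le_sup_right x) x.2
      exact congrArg Subtype.val h1
  · intro a ha
    have ha' : P.subtype.comp a.toMonoidHom ∈ E.Hom P := (mem_autGroup_iff E hPC a).mp ha
    rw [hE P] at ha'
    obtain ⟨haF, -, -, ψ, hψ, hψext, hψQ⟩ := ha'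
    have hψP : (P.subgroupOf (P ⊔ Q)).map ψ = P := by
      rw [map_subgroupOf_eq_range le_sup_left ψ (P.subtype.comp a.toMonoidHom) hψext]
      apply le_antisymm
      · rintro _ ⟨x, rfl⟩; exact (a x).2
      · intro y hy
        refine ⟨a.symm ⟨y, hy⟩, ?_⟩
        show ((a (a.symm ⟨y, hy⟩) : P) : Ω) = y
        rw [MulEquiv.apply_symm_apply]
    have hψQ' : (Q.subgroupOf (P ⊔ Q)).map ψ = Q := by
      apply le_antisymm
      · rintro _ ⟨z, hz, rfl⟩
        have hzQ : (z : Ω) ∈ Q := Subgroup.mem_subgroupOf.mp hz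
        have h1 := hψQ ⟨z, hzQ⟩
        have e2 : Subgroup.inclusion (le_sup_right : Q ≤ P ⊔ Q) ⟨z, hzQ⟩ = z := Subtype.ext rfl
        rw [e2] at h1
        rw [h1]; exact hzQ
      · intro q hq
        exact ⟨Subgroup.inclusion le_sup_right ⟨q, hq⟩, Subgroup.mem_subgroupOf.mpr hq,
          hψQ ⟨q, hq⟩⟩
    have hrange : ψ.range = P ⊔ Q := by rw [range_eq_sup_map, hψP, hψQ']
    obtain ⟨α, hα, hαcoe⟩ := exists_isFIso_of_mem F hψ hrange
    have hαP : α ∈ stabIn (P ⊔ Q) P := by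
      apply mem_stabIn_of_forall
      intro x hx
      rw [hαcoe]
      have h1 := hψext ⟨x, hx⟩
      have e2 : Subgroup.inclusion (le_sup_left : P ≤ P ⊔ Q) ⟨x, hx⟩ = x := Subtype.ext rfl
      rw [e2] at h1
      rw [h1]; exact (a ⟨x, hx⟩).2
    have hαQ : α ∈ fixIn (P ⊔ Q) Q := by
      intro x hx
      apply Subtype.ext
      rw [hαcoe]
      have h1 := hψQ ⟨x, hx⟩
      have e2 : Subgroup.inclusion (le_sup_right : Q ≤ P ⊔ Q) ⟨x, hx⟩ = x := Subtype.ext rfl
      rw [e2] at h1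
      exact h1
    have hαK : α ∈ centStab F (P ⊔ Q) P Q :=
      ⟨⟨(mem_autGroup_iff F hRS α).mpr hα, hαP⟩, hαQ⟩
    refine ⟨⟨α, hαK⟩, ?_⟩
    apply MulEquiv.ext; intro x
    apply Subtype.ext
    rw [centRes_coe]
    show ((α ⟨x, _⟩ : ↥(P ⊔ Q)) : Ω) = a x
    rw [hαcoe]
    exact hψext x

/-- the restriction map carries the automorphisms induced by `N_{C_S(Q)}(P)` on `P ⊔ Q` onto those
induced by `C_S(Q)` on `P`. -/
theorem centRes_map_autInducedBy (F : FusionSystem S) {P Q : Subgroup Ω} (hQS : Q ≤ S)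
    (hPC : P ≤ centralizerIn S Q) :
    ((autInducedBy (normalizerIn (centralizerIn S Q) P) (P ⊔ Q)).subgroupOf
      (centStab F (P ⊔ Q) P Q)).map (centRes F P Q) = autInducedBy (centralizerIn S Q) P := by
  have hPS : P ≤ S := hPC.trans inf_le_left
  have hRS : P ⊔ Q ≤ S := sup_le hPS hQS
  apply le_antisymm
  · rintro _ ⟨α, hα, rfl⟩
    obtain ⟨g, hg, hgα⟩ := (mem_autInducedBy_iff _ _ _).mp (Subgroup.mem_subgroupOf.mp hα)
    apply (mem_autInducedBy_iff _ _ _).mpr
    refine ⟨g, hg.1, fun x => ?_⟩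
    rw [centRes_coe, hgα]
  · intro a ha
    obtain ⟨g, hg, rfl⟩ := (mem_autInducedBy_iff' _ _ a).mp ha
    have hgQ : g ∈ Subgroup.centralizer (Q : Set Ω) := hg.1.2
    have hgR : g ∈ Subgroup.normalizer ((P ⊔ Q : Subgroup Ω) : Set Ω) :=
      mem_normalizer_sup_of_centralizer hg.2 hgQ
    have hgM : g ∈ normalizerIn (normalizerIn (centralizerIn S Q) P) (P ⊔ Q) := ⟨hg, hgR⟩
    have hH : normAut (P ⊔ Q) g hgR ∈
        autInducedBy (normalizerIn (centralizerIn S Q) P) (P ⊔ Q) := normAut_mem _ _ hgM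
    refine ⟨⟨normAut (P ⊔ Q) g hgR, autInducedBy_cent_le_centStab F hRS hH⟩,
      Subgroup.mem_subgroupOf.mpr hH, ?_⟩
    apply MulEquiv.ext; intro x
    apply Subtype.ext
    rfl

/-- a well placed subgroup is fully automized in the centralizer system. -/
theorem fullyAutomized_of_goodC [Finite S] {p : ℕ} [Fact p.Prime] (F : FusionSystem S)
    {P Q : Subgroup Ω} (hQS : Q ≤ S) (E : FusionSystem (centralizerIn S Q))
    (hE : F.IsCentralizerSystem Q E) (hgood : IsGoodForC F p Q P) : E.IsFullyAutomized p P := by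
  obtain ⟨hPC, hrec, ⟨Rs, hRs⟩⟩ := hgood
  have hPS : P ≤ S := hPC.trans inf_le_left
  have hRS : P ⊔ Q ≤ S := sup_le hPS hQS
  haveI : Finite (P ⊔ Q : Subgroup Ω) := finite_of_le S hRS
  refine ⟨hPC, ?_⟩
  have h := isSylowIn_map_range (centRes F P Q) Rs
  rw [hRs, centRes_map_autInducedBy F hQS hPC, centRes_range F hQS E hE hPC] at h
  exact h

end Cfsg.Agent.helper25
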