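import Cfsg.Agent.Lib_helper25_NormalChar

set_option autoImplicit false
set_option linter.style.haveILetI false
set_option linter.unusedVariables false

namespace Cfsg.Agent.helper25

open Cfsg Cfsg.FusionSystem

variable {Ω : Type*} [Group Ω] {S : Subgroup Ω}

/-- characterization of central subgroups: no element is conjugate to another element. -/
theorem isCentral_iff_no_fusion [Finite S] {p : ℕ} [Fact p.Prime] (hS : IsPGroup p S)
    (F : FusionSystem S) (hF : F.IsSaturated p) (Q : Subgroup Ω) :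
    F.IsCentral Q ↔ (Q ≤ S ∧ ∀ x ∈ Q, ∀ y : Ω, F.IsConjElt x y → y = x) := by
  constructor
  · intro hQ
    refine ⟨hQ.1, ?_⟩
    rintro x hx y ⟨φ, hφ, rfl⟩
    obtain ⟨ψ, hψ, hψ1, hψ2⟩ := hQ.2 _ φ hφ
    have h1 := hψ1 ⟨x, Subgroup.mem_zpowers x⟩
    have h2 := hψ2 ⟨x, hx⟩
    have e : Subgroup.inclusion (le_sup_left : Subgroup.zpowers x ≤ Subgroup.zpowers x ⊔ Q)
        ⟨x, Subgroup.mem_zpowers x⟩ =
        Subgroup.inclusion (le_sup_right : Q ≤ Subgroup.zpowers x ⊔ Q) ⟨x, hx⟩ := Subtype.ext rfl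
    rw [← h1, e, h2]
  · rintro ⟨hQS, hfix⟩
    have hcomm : ∀ s ∈ S, ∀ q ∈ Q, s * q * s⁻¹ = q := by
      intro s hs q hq
      have hzS : Subgroup.zpowers q ≤ S := Subgroup.zpowers_le.mpr (hQS hq)
      exact hfix q hq _ ⟨conjHom (Subgroup.zpowers q) s, F.conj_mem hzS hs, rfl⟩
    have hSC : S ≤ Subgroup.centralizer (Q : Set Ω) := by
      intro s hs
      rw [Subgroup.mem_centralizer_iff]
      intro q hq
      have h1 := hcomm s hs q hq
      calc q * s = s * q * s⁻¹ * s := by rw [h1]
        _ = s * q := by group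
    have hCS : centralizerIn S Q = S := inf_eq_left.mpr hSC
    have hE'hom : ∀ P, (castSystem hCS (centralizerSystem F Q hQS)).Hom P = F.centralizerHom Q P :=
      fun P => castSystem_hom hCS _ P
    have hFE : ∀ P, F.Hom P ⊆ (castSystem hCS (centralizerSystem F Q hQS)).Hom P := by
      apply alperin hS F hF
      intro P hP α hα
      have hPS : P ≤ S := by
        rcases hP with rfl | hP
        · exact le_rfl
        · exact hP.1.1
      have hQP : Q ≤ P := by
        rcases hP with rfl | hP
        · exact hQS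
        · intro q hq
          apply hP.1.2 P (isConj_refl F hPS)
          refine ⟨hQS hq, Subgroup.mem_centralizer_iff.mpr ?_⟩
          intro x hx
          have h1 := hcomm x (hPS hx) q hq
          calc x * q = x * q * x⁻¹ * x := by group
            _ = q * x := by rw [h1]
      have hαF : IsFIso F α := (mem_autGroup_iff F hPS α).mp hα
      have hαQ : ∀ q : Q, ((α ⟨q, hQP q.2⟩ : P) : Ω) = q := by
        intro q
        have hzP : Subgroup.zpowers (q : Ω) ≤ P := Subgroup.zpowers_le.mpr (hQP q.2)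
        have hres := restrict_mem F hzP hαF
        exact hfix q q.2 _ ⟨_, hres, rfl⟩
      rw [mem_autGroup_iff _ hPS]
      unfold IsFIso
      rw [hE'hom]
      refine ⟨hαF, le_inf hPS (hPS.trans hSC),
        fun x => ⟨hPS (α x).2, hSC (hPS (α x).2)⟩, ?_⟩
      have hPQ : P = P ⊔ Q := (sup_eq_left.mpr hQP).symm
      exact ⟨_, hom_congr F hPQ hαF, fun x => rfl, fun x => hαQ x⟩
    refine ⟨hQS, ?_⟩
    intro P φ hφ
    have h1 := hFE P hφ
    rw [hE'hom] at h1
    exact h1.2.2.2

end Cfsg.Agent.helper25
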