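import Cfsg.Agent.Lib_helper25_Subnormal

set_option autoImplicit false
set_option linter.style.haveILetI false
set_option linter.unusedVariables false

namespace Cfsg.Agent.helper25

open Cfsg Cfsg.FusionSystem

variable {Ω : Type*} [Group Ω] {S : Subgroup Ω}

/-- overgroups of centric subgroups are centric. -/
theorem isCentric_of_le (F : FusionSystem S) {Q P : Subgroup Ω} (hQ : F.IsCentric Q) (hQP : Q ≤ P)
    (hPS : P ≤ S) : F.IsCentric P := by
  refine ⟨hPS, ?_⟩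
  rintro P' ⟨ψ, hψ, rfl⟩
  have hres := restrict_mem F hQP hψ
  have hconj : F.IsConj Q ((Q.subgroupOf P).map ψ) := ⟨_, hres, range_restrict_eq_map hQP ψ⟩
  have h1 := hQ.2 _ hconj
  intro c hc
  have hsub : (((Q.subgroupOf P).map ψ : Subgroup Ω) : Set Ω) ⊆ (ψ.range : Set Ω) := by
    rintro _ ⟨y, hy, rfl⟩; exact ⟨y, rfl⟩
  have hc' : c ∈ centralizerIn S ((Q.subgroupOf P).map ψ) :=
    ⟨hc.1, Subgroup.centralizer_le hsub hc.2⟩
  obtain ⟨y, hy, rfl⟩ := h1 hc'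
  exact ⟨y, rfl⟩

/-- an automorphism fixing a normal centric subgroup `Q` pointwise moves every element by an
element of `Q`. -/
theorem inv_mul_mem_of_fix (F : FusionSystem S) {Q P : Subgroup Ω} (hQ : F.IsCentric Q)
    (hQP : Q ≤ P) (hPS : P ≤ S) (hN : P ≤ Subgroup.normalizer (Q : Set Ω)) {β : MulAut P}
    (hfix : ∀ x : P, (x : Ω) ∈ Q → β x = x) (x : P) : ((x⁻¹ * β x : P) : Ω) ∈ Q := by
  have hc : ((x⁻¹ * β x : P) : Ω) ∈ centralizerIn S Q := by
    refine ⟨hPS (x⁻¹ * β x).2, Subgroup.mem_centralizer_iff.mpr ?_⟩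
    intro y hy
    have hxy : (x : Ω) * y * (x : Ω)⁻¹ ∈ Q := (Subgroup.mem_normalizer_iff.mp (hN x.2) y).mp hy
    have h1 := hfix (x * ⟨y, hQP hy⟩ * x⁻¹) hxy
    have h2 := hfix ⟨y, hQP hy⟩ hy
    rw [map_mul, map_mul, map_inv, h2] at h1
    have h3 : ((β x : P) : Ω) * y * ((β x : P) : Ω)⁻¹ = (x : Ω) * y * (x : Ω)⁻¹ :=
      congrArg (fun z : P => (z : Ω)) h1
    rw [Subgroup.coe_mul, Subgroup.coe_inv]
    calc y * ((x : Ω)⁻¹ * ((β x : P) : Ω))
        = (x : Ω)⁻¹ * ((x : Ω) * y * (x : Ω)⁻¹) * ((β x : P) : Ω) := by group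
      _ = (x : Ω)⁻¹ * (((β x : P) : Ω) * y * ((β x : P) : Ω)⁻¹) * ((β x : P) : Ω) := by rw [h3]
      _ = (x : Ω)⁻¹ * ((β x : P) : Ω) * y := by group
  exact hQ.2 Q (isConj_refl F hQ.1) hc

/-- the subgroup of `Aut_F(P)` fixing `Q` pointwise. -/
def fixSubgroup (F : FusionSystem S) (P Q : Subgroup Ω) : Subgroup (MulAut P) where
  carrier := {β | β ∈ F.autGroup P ∧ ∀ x : P, (x : Ω) ∈ Q → β x = x}
  one_mem' := ⟨Subgroup.one_mem _, fun x _ => rfl⟩
  mul_mem' := by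
    rintro β γ ⟨hβ, hβf⟩ ⟨hγ, hγf⟩
    refine ⟨Subgroup.mul_mem _ hβ hγ, fun x hx => ?_⟩
    show β (γ x) = x
    rw [hγf x hx, hβf x hx]
  inv_mem' := by
    rintro β ⟨hβ, hβf⟩
    refine ⟨Subgroup.inv_mem _ hβ, fun x hx => ?_⟩
    have h := hβf x hx
    calc β⁻¹ x = β⁻¹ (β x) := by rw [h]
      _ = x := MulAut.inv_apply_self _ _ _

theorem exists_conj_of_fix [Finite S] {p : ℕ} [Fact p.Prime] (hS : IsPGroup p S)
    (F : FusionSystem S) (hF : F.IsSaturated p) {Q P : Subgroup Ω} (hQ : F.IsCentric Q)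
    (hQP : Q ≤ P) (hPS : P ≤ S) (hN : P ≤ Subgroup.normalizer (Q : Set Ω)) {α : MulAut P}
    (hα : α ∈ F.autGroup P) (hfix : ∀ x : P, (x : Ω) ∈ Q → α x = x) :
    ∃ z : P, (z : Ω) ∈ Q ∧ (z : Ω) ∈ Subgroup.centralizer (Q : Set Ω) ∧
      ∀ y : P, α y = z * y * z⁻¹ := by
  haveI : Finite P := finite_of_le S hPS
  have hPp : IsPGroup p P := hS.to_le hPS
  have hKle : fixSubgroup F P Q ≤ F.autGroup P := fun β hβ => hβ.1
  have hKp : IsPGroup p (fixSubgroup F P Q) := by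
    intro β
    have hstab : IsChainStab (chain3 (Q.subgroupOf P) ⊤) (β : MulAut P) := by
      rw [isChainStab_chain3_top]
      intro x
      exact Subgroup.mem_subgroupOf.mpr (inv_mul_mem_of_fix F hQ hQP hPS hN β.2.2 x)
    obtain ⟨k, hk⟩ := IsChainStab.exists_pow_eq_one hPp (chain3_mono le_top) hstab
      ⟨0, fun x hx => by
        rw [chain3_zero] at hx
        rw [pow_zero, pow_one]
        exact β.2.2 x (Subgroup.mem_subgroupOf.mp hx)⟩ (chain3_one _ _)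
    refine ⟨k, ?_⟩
    apply Subtype.ext
    show ((β : MulAut P)) ^ (p ^ k) = 1
    exact hk
  obtain ⟨P₂, hconj, hP₂n⟩ := exists_fullyNormalized_conj F hPS
  have hP₂fa := (fullyNormalized_imp hS F hF hP₂n).2
  have hP₂S := hP₂n.1
  haveI : Finite P₂ := finite_of_le S hP₂S
  obtain ⟨φ₀, hφ₀, hr₀⟩ := hconj
  obtain ⟨θ, hθ, -⟩ := exists_isFIso_of_mem F hφ₀ hr₀
  have hK₂le : (fixSubgroup F P Q).map (MulAut.congr θ).toMonoidHom ≤ F.autGroup P₂ := by
    rintro _ ⟨β, hβ, rfl⟩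
    exact hθ.congr_mem_autGroup (hKle hβ)
  have hK₂p : IsPGroup p ((fixSubgroup F P Q).map (MulAut.congr θ).toMonoidHom) := hKp.map _
  have hsyl : IsSylowIn p (autInducedBy S P₂) (F.autGroup P₂) := hP₂fa.2
  obtain ⟨a, ha, hale⟩ := exists_cj_le_of_isSylowIn hsyl hK₂le hK₂p
  have hαK : α ∈ fixSubgroup F P Q := ⟨hα, hfix⟩
  have h1 : a * (MulAut.congr θ α) * a⁻¹ ∈ autInducedBy S P₂ :=
    hale (conj_mem_cj a _ ⟨α, hαK, rfl⟩)
  obtain ⟨g, hgS, hg⟩ := (mem_autInducedBy_iff S P₂ _).mp h1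
  have ha' : IsFIso F a := (mem_autGroup_iff F hP₂S a).mp ha
  have hθ₂ : IsFIso F (θ.trans a) := hθ.trans ha'
  have key : ∀ y : P, (((θ.trans a) (α y) : P₂) : Ω) =
      g * (((θ.trans a) y : P₂) : Ω) * g⁻¹ := by
    intro y
    have h2 := hg ((θ.trans a) y)
    have e : (a * (MulAut.congr θ α) * a⁻¹) ((θ.trans a) y) = (θ.trans a) (α y) := by
      show a (θ (α (θ.symm (a⁻¹ (a (θ y)))))) = a (θ (α y))
      rw [MulAut.inv_apply_self, MulEquiv.symm_apply_apply]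
    rw [e] at h2
    exact h2
  have hres := restrict_mem F hQP hθ₂
  have hQ₂conj : F.IsConj Q ((Q.subgroupOf P).map (P₂.subtype.comp (θ.trans a).toMonoidHom)) :=
    ⟨_, hres, range_restrict_eq_map hQP _⟩
  have hcen := hQ.2 _ hQ₂conj
  have hgc : g ∈ centralizerIn S
      ((Q.subgroupOf P).map (P₂.subtype.comp (θ.trans a).toMonoidHom)) := by
    refine ⟨hgS, Subgroup.mem_centralizer_iff.mpr ?_⟩
    rintro _ ⟨y, hy, rfl⟩
    have hy' : (y : Ω) ∈ Q := Subgroup.mem_subgroupOf.mp hy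
    have h3 := key y
    rw [hfix y hy'] at h3
    show (((θ.trans a) y : P₂) : Ω) * g = g * (((θ.trans a) y : P₂) : Ω)
    calc (((θ.trans a) y : P₂) : Ω) * g
        = (g * (((θ.trans a) y : P₂) : Ω) * g⁻¹) * g := by rw [← h3]
      _ = g * (((θ.trans a) y : P₂) : Ω) := by group
  obtain ⟨z, hz, hzg⟩ := hcen hgc
  have hzQ : (z : Ω) ∈ Q := Subgroup.mem_subgroupOf.mp hz
  have hzg' : (((θ.trans a) z : P₂) : Ω) = g := hzg
  have hαz : ∀ y : P, α y = z * y * z⁻¹ := by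
    intro y
    apply (θ.trans a).injective
    apply Subtype.ext
    rw [key y, map_mul, map_mul, map_inv, Subgroup.coe_mul, Subgroup.coe_mul, Subgroup.coe_inv,
      hzg']
  refine ⟨z, hzQ, ?_, hαz⟩
  rw [Subgroup.mem_centralizer_iff]
  intro y hy
  have h4 := hαz ⟨y, hQP hy⟩
  rw [hfix _ hy] at h4
  have h5' : y = (z : Ω) * y * (z : Ω)⁻¹ := congrArg (fun w : P => (w : Ω)) h4
  calc y * (z : Ω) = ((z : Ω) * y * (z : Ω)⁻¹) * z := by rw [← h5']
    _ = (z : Ω) * y := by group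

theorem exists_conj_of_agree_normal [Finite S] {p : ℕ} [Fact p.Prime] (hS : IsPGroup p S)
    (F : FusionSystem S) (hF : F.IsSaturated p) {Q P : Subgroup Ω} (hQ : F.IsCentric Q)
    (hQP : Q ≤ P) (hN : P ≤ Subgroup.normalizer (Q : Set Ω)) {φ φ' : P →* Ω}
    (hφ : φ ∈ F.Hom P) (hφ' : φ' ∈ F.Hom P) (h : ∀ x : P, (x : Ω) ∈ Q → φ x = φ' x) :
    ∃ z : P, (z : Ω) ∈ Q ∧ (z : Ω) ∈ Subgroup.centralizer (Q : Set Ω) ∧
      ∀ y : P, φ' y = φ (z * y * z⁻¹) := by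
  have hPS : P ≤ S := (F.le_of_mem hφ).1
  haveI : Finite P := finite_of_le S hPS
  have hres := restrict_mem F hQP hφ
  have hQ₁conj : F.IsConj Q ((Q.subgroupOf P).map φ) := ⟨_, hres, range_restrict_eq_map hQP φ⟩
  have hcen := hQ.2 _ hQ₁conj
  have hsub : ∀ x : P, φ' x ∈ φ.range := by
    intro x
    have hc : (φ x)⁻¹ * φ' x ∈ centralizerIn S ((Q.subgroupOf P).map φ) := by
      refine ⟨S.mul_mem (S.inv_mem ((F.le_of_mem hφ).2 x)) ((F.le_of_mem hφ').2 x),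
        Subgroup.mem_centralizer_iff.mpr ?_⟩
      rintro _ ⟨y, hy, rfl⟩
      have hy' : (y : Ω) ∈ Q := Subgroup.mem_subgroupOf.mp hy
      have hxy : ((x * y * x⁻¹ : P) : Ω) ∈ Q :=
        (Subgroup.mem_normalizer_iff.mp (hN x.2) y).mp hy'
      have h1 := h (x * y * x⁻¹) hxy
      simp only [map_mul, map_inv] at h1
      rw [← h y hy'] at h1
      calc φ y * ((φ x)⁻¹ * φ' x) = (φ x)⁻¹ * (φ x * φ y * (φ x)⁻¹) * φ' x := by group
        _ = (φ x)⁻¹ * (φ' x * φ y * (φ' x)⁻¹) * φ' x := by rw [h1]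
        _ = (φ x)⁻¹ * φ' x * φ y := by group
    obtain ⟨w, -, hw⟩ := hcen hc
    refine ⟨x * w, ?_⟩
    rw [map_mul, hw]; group
  have hrange : φ'.range = φ.range := by
    have hle : φ'.range ≤ φ.range := by rintro _ ⟨x, rfl⟩; exact hsub x
    have hc1 : Nat.card φ.range = Nat.card P :=
      (Nat.card_congr (MonoidHom.ofInjective (F.injective_of_mem hφ)).toEquiv).symm
    have hc2 : Nat.card φ'.range = Nat.card P :=
      (Nat.card_congr (MonoidHom.ofInjective (F.injective_of_mem hφ')).toEquiv).symm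
    haveI : Finite φ.range := finite_of_le S (range_le_of_mem F hφ)
    exact Subgroup.eq_of_le_of_card_ge hle (by rw [hc1, hc2])
  obtain ⟨e, he, hecoe⟩ := exists_isFIso_of_mem F hφ rfl
  obtain ⟨e', he', he'coe⟩ := exists_isFIso_of_mem F hφ' hrange
  have hαF : IsFIso F (e'.trans e.symm) := he'.trans he.symm
  have hfix : ∀ x : P, (x : Ω) ∈ Q → (e'.trans e.symm) x = x := by
    intro x hx
    show e.symm (e' x) = x
    have : e' x = e x := Subtype.ext (by rw [he'coe, hecoe, h x hx])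
    rw [this, MulEquiv.symm_apply_apply]
  obtain ⟨z, hzQ, hzc, hz⟩ := exists_conj_of_fix hS F hF hQ hQP hPS hN
    ((mem_autGroup_iff F hPS _).mpr hαF) hfix
  refine ⟨z, hzQ, hzc, fun y => ?_⟩
  have h2 := hz y
  have h3 : e' y = e (z * y * z⁻¹) := by
    rw [← h2]; show e' y = e (e.symm (e' y)); rw [MulEquiv.apply_symm_apply]
  rw [← he'coe, h3, hecoe]

theorem exists_conj_of_agree [Finite S] {p : ℕ} [Fact p.Prime] (hS : IsPGroup p S)
    (F : FusionSystem S) (hF : F.IsSaturated p) {P : Subgroup Ω} :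
    ∀ (n : ℕ) (Q : Subgroup Ω), Q ≤ P → F.IsCentric Q → Nat.card P - Nat.card Q = n →
    ∀ (φ φ' : P →* Ω), φ ∈ F.Hom P → φ' ∈ F.Hom P →
      (∀ x : P, (x : Ω) ∈ Q → φ x = φ' x) →
    ∃ z : P, (z : Ω) ∈ Q ∧ (z : Ω) ∈ Subgroup.centralizer (Q : Set Ω) ∧
      ∀ y : P, φ' y = φ (z * y * z⁻¹) := by
  intro n
  induction n using Nat.strong_induction_on with
  | _ n ih =>
    intro Q hQP hQ hn φ φ' hφ hφ' h
    have hPS : P ≤ S := (F.le_of_mem hφ).1
    haveI : Finite P := finite_of_le S hPS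
    have hPp : IsPGroup p P := hS.to_le hPS
    by_cases hQeq : Q = P
    · refine ⟨1, Q.one_mem, Subgroup.one_mem _, fun y => ?_⟩
      rw [one_mul, inv_one, mul_one]
      exact (h y (hQeq ▸ y.2)).symm
    · have hQlt : Q < P := lt_of_le_of_ne hQP hQeq
      have hlt : Q < normalizerIn P Q := lt_normalizerIn hPp hQlt
      have hP₁P : normalizerIn P Q ≤ P := inf_le_left
      have hP₁N : normalizerIn P Q ≤ Subgroup.normalizer (Q : Set Ω) := inf_le_right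
      haveI : Finite (normalizerIn P Q) := finite_of_le S (hP₁P.trans hPS)
      have hφ₁ := restrict_mem F hP₁P hφ
      have hφ₁' := restrict_mem F hP₁P hφ'
      obtain ⟨z₁, hz₁Q, hz₁c, hz₁⟩ := exists_conj_of_agree_normal hS F hF hQ hlt.le hP₁N hφ₁ hφ₁'
        (fun x hx => h (Subgroup.inclusion hP₁P x) hx)
      have hzP : (z₁ : Ω) ∈ P := hP₁P z₁.2
      have hφc : φ.comp (MulAut.conj (⟨z₁, hzP⟩ : P)).toMonoidHom ∈ F.Hom P := by
        apply comp_mem' F (F.conj_mem hPS (hPS hzP)) hφ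
          (fun x => P.mul_mem (P.mul_mem hzP x.2) (P.inv_mem hzP))
        intro x
        rfl
      have hcardlt : Nat.card P - Nat.card (normalizerIn P Q) < n := by
        have h1 : Nat.card Q < Nat.card (normalizerIn P Q) := card_lt_of_lt' hlt
        have h2 : Nat.card (normalizerIn P Q) ≤ Nat.card P := Subgroup.card_le_of_le hP₁P
        omega
      have hP₁cen : F.IsCentric (normalizerIn P Q) :=
        isCentric_of_le F hQ hlt.le (hP₁P.trans hPS)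
      obtain ⟨z₂, hz₂P₁, hz₂c, hz₂⟩ := ih _ hcardlt (normalizerIn P Q) hP₁P hP₁cen rfl
        (φ.comp (MulAut.conj (⟨z₁, hzP⟩ : P)).toMonoidHom) φ' hφc hφ'
        (fun x hx => (hz₁ ⟨x, hx⟩).symm)
      have hsubset : ((Q : Subgroup Ω) : Set Ω) ⊆ ((normalizerIn P Q : Subgroup Ω) : Set Ω) :=
        fun y hy => hlt.le hy
      have hz₂cQ : (z₂ : Ω) ∈ Subgroup.centralizer (Q : Set Ω) :=
        Subgroup.centralizer_le hsubset hz₂c
      have hz₂Q : (z₂ : Ω) ∈ Q := hQ.2 Q (isConj_refl F hQ.1) ⟨hPS z₂.2, hz₂cQ⟩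
      refine ⟨⟨z₁, hzP⟩ * z₂, Q.mul_mem hz₁Q hz₂Q, Subgroup.mul_mem _ hz₁c hz₂cQ, fun y => ?_⟩
      rw [hz₂ y]
      show φ ((⟨z₁, hzP⟩ : P) * (z₂ * y * z₂⁻¹) * (⟨z₁, hzP⟩ : P)⁻¹) = _
      congr 1
      group

end Cfsg.Agent.helper25
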