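import Mathlib

set_option autoImplicit false
set_option linter.style.haveILetI false
set_option linter.unusedVariables false

namespace Cfsg.Agent.helper25

variable {G : Type*} [Group G]

/-- `α` stabilizes the chain `c`: it moves elements of `c (i+1)` by elements of `c i`. -/
def IsChainStab (c : ℕ → Subgroup G) (α : MulAut G) : Prop :=
  ∀ i, ∀ x ∈ c (i + 1), x⁻¹ * α x ∈ c i

theorem IsChainStab.map_mem {c : ℕ → Subgroup G} (hmono : Monotone c) {α : MulAut G}
    (h : IsChainStab c α) (i : ℕ) {x : G} (hx : x ∈ c (i + 1)) : α x ∈ c (i + 1) := by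
  have e : α x = x * (x⁻¹ * α x) := by group
  rw [e]
  exact mul_mem hx (hmono (Nat.le_succ i) (h i x hx))

theorem IsChainStab.one (c : ℕ → Subgroup G) : IsChainStab c 1 := by
  intro i x hx
  show x⁻¹ * x ∈ c i
  rw [inv_mul_cancel]; exact one_mem _

theorem IsChainStab.mul {c : ℕ → Subgroup G} (hmono : Monotone c) {α β : MulAut G}
    (hα : IsChainStab c α) (hβ : IsChainStab c β) : IsChainStab c (α * β) := by
  intro i x hx
  show x⁻¹ * α (β x) ∈ c i
  have e : x⁻¹ * α (β x) = (x⁻¹ * β x) * ((β x)⁻¹ * α (β x)) := by group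
  rw [e]
  exact mul_mem (hβ i x hx) (hα i _ (hβ.map_mem hmono i hx))

theorem IsChainStab.pow {c : ℕ → Subgroup G} (hmono : Monotone c) {α : MulAut G}
    (hα : IsChainStab c α) (j : ℕ) : IsChainStab c (α ^ j) := by
  induction j with
  | zero => rw [pow_zero]; exact IsChainStab.one c
  | succ j ih => rw [pow_succ]; exact ih.mul hmono hα

theorem IsChainStab.inv [Finite G] {c : ℕ → Subgroup G} (hmono : Monotone c) {α : MulAut G}
    (hα : IsChainStab c α) : IsChainStab c α⁻¹ := by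
  have hpos : 0 < orderOf α := orderOf_pos α
  have e : α⁻¹ = α ^ (orderOf α - 1) := by
    apply inv_eq_of_mul_eq_one_right
    rw [← pow_succ', Nat.sub_add_cancel hpos, pow_orderOf_eq_one]
  rw [e]
  exact hα.pow hmono _

theorem IsChainStab.conj {c : ℕ → Subgroup G} {α a : MulAut G} (hα : IsChainStab c α)
    (ha : ∀ i, ∀ x ∈ c i, a x ∈ c i) (ha' : ∀ i, ∀ x ∈ c i, a⁻¹ x ∈ c i) :
    IsChainStab c (a * α * a⁻¹) := by
  intro i x hx
  show x⁻¹ * a (α (a⁻¹ x)) ∈ c i
  have e : x⁻¹ * a (α (a⁻¹ x)) = a ((a⁻¹ x)⁻¹ * α (a⁻¹ x)) := by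
    rw [map_mul, map_inv, MulAut.apply_inv_self]
  rw [e]
  exact ha i _ (hα i _ (ha' (i + 1) x hx))

theorem pow_apply_of_fixed {α : MulAut G} {z : G} (h : α z = z) (j : ℕ) : (α ^ j) z = z := by
  induction j with
  | zero => rfl
  | succ j ih =>
    rw [pow_succ]
    show (α ^ j) (α z) = z
    rw [h, ih]

theorem IsChainStab.pow_fix [Finite G] {p : ℕ} [Fact p.Prime] (hG : IsPGroup p G)
    {c : ℕ → Subgroup G} (hmono : Monotone c) {α : MulAut G} (hα : IsChainStab c α)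
    (h0 : ∃ k, ∀ x ∈ c 0, (α ^ (p ^ k)) x = x) :
    ∀ i, ∃ k, ∀ x ∈ c i, (α ^ (p ^ k)) x = x := by
  obtain ⟨N, hN⟩ := IsPGroup.iff_card.mp hG
  intro i
  induction i with
  | zero => exact h0
  | succ i ih =>
    obtain ⟨k, hk⟩ := ih
    have hβ := hα.pow hmono (p ^ k)
    refine ⟨k + N, ?_⟩
    intro x hx
    have hz : x⁻¹ * (α ^ (p ^ k)) x ∈ c i := hβ i x hx
    have hzfix := hk _ hz
    have hj : ∀ j : ℕ, ((α ^ (p ^ k)) ^ j) x = x * (x⁻¹ * (α ^ (p ^ k)) x) ^ j := by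
      intro j
      induction j with
      | zero => simp
      | succ j ihj =>
        rw [pow_succ ((α ^ (p ^ k))) j]
        show ((α ^ (p ^ k)) ^ j) ((α ^ (p ^ k)) x) = _
        have e : (α ^ (p ^ k)) x = x * (x⁻¹ * (α ^ (p ^ k)) x) := by group
        rw [e, map_mul, ihj, pow_apply_of_fixed hzfix j, ← e, pow_succ]
        group
    rw [pow_add, pow_mul, hj, ← hN, pow_card_eq_one', mul_one]

theorem IsChainStab.exists_pow_eq_one [Finite G] {p : ℕ} [Fact p.Prime] (hG : IsPGroup p G)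
    {c : ℕ → Subgroup G} (hmono : Monotone c) {α : MulAut G} (hα : IsChainStab c α)
    (h0 : ∃ k, ∀ x ∈ c 0, (α ^ (p ^ k)) x = x) {m : ℕ} (htop : c m = ⊤) :
    ∃ k, α ^ (p ^ k) = 1 := by
  obtain ⟨k, hk⟩ := hα.pow_fix hG hmono h0 m
  refine ⟨k, ?_⟩
  ext x
  exact hk x (htop ▸ Subgroup.mem_top x)

end Cfsg.Agent.helper25
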