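import Cfsg.Agent.Lib_helper25_NormalChar
import Cfsg.Agent.Lib_helper25_ChainStab

set_option autoImplicit false
set_option linter.style.haveILetI false
set_option linter.unusedVariables false

namespace Cfsg.Agent.helper25

open Cfsg Cfsg.FusionSystem
open scoped commutatorElement

variable {Ω : Type*} [Group Ω] {S : Subgroup Ω}

/-- If `Q ⊴ S` and the automorphisms of a centric radical `P` induced by `N_Q(P)` lie in a
subgroup `K` of `Aut(P)` normalized by `Aut_F(P)` and consisting of `p`-elements, then `Q ≤ P`. -/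
theorem le_of_normal_pSubgroup [Finite S] {p : ℕ} [Fact p.Prime] (hS : IsPGroup p S)
    (F : FusionSystem S) {P Q : Subgroup Ω} (hPc : F.IsCentric P) (hPr : F.IsRadical p P)
    (hQS : Q ≤ S) (hSN : S ≤ Subgroup.normalizer (Q : Set Ω)) (K : Subgroup (MulAut P))
    (hKn : ∀ a ∈ F.autGroup P, ∀ k ∈ K, a * k * a⁻¹ ∈ K)
    (hKp : ∀ k ∈ K, ∃ j : ℕ, k ^ (p ^ j) = 1)
    (hKQ : ∀ (g : Ω) (hg : g ∈ Q ⊓ Subgroup.normalizer (P : Set Ω)), normAut P g hg.2 ∈ K) :
    Q ≤ P := by
  have hPS : P ≤ S := hPc.1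
  have hnormal : ((K ⊓ F.autGroup P).subgroupOf (F.autGroup P)).Normal := by
    constructor
    intro n hn a
    rw [Subgroup.mem_subgroupOf] at hn ⊢
    exact ⟨hKn a a.2 n hn.1, (a * n * a⁻¹).2⟩
  have hHp : IsPGroup p ((K ⊓ F.autGroup P).subgroupOf (F.autGroup P)) := by
    intro g
    obtain ⟨j, hj⟩ := hKp _ (Subgroup.mem_subgroupOf.mp g.2).1
    refine ⟨j, ?_⟩
    apply Subtype.ext
    apply Subtype.ext
    exact hj
  have hle := le_pCore_h25 hnormal hHp
  apply le_of_normalizer_inf_le hS hPS hQS hSN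
  intro g hg
  have hgN : g ∈ normalizerIn S P := ⟨hQS hg.1, hg.2⟩
  have h2 : normAut P g hg.2 ∈ F.autGroup P :=
    autInducedBy_le_autGroup F hPS (normAut_mem S P hgN)
  have h3 : normAut P g hg.2 ∈ Inn P := by
    rw [← hPr.2]
    exact ⟨⟨_, h2⟩, hle (Subgroup.mem_subgroupOf.mpr ⟨hKQ g hg, h2⟩), rfl⟩
  exact mem_of_normAut_mem_inn F hPc hgN h3

theorem stronglyClosed_le_normalizer (F : FusionSystem S) {Q : Subgroup Ω}
    (hQ : F.StronglyClosed Q) : S ≤ Subgroup.normalizer (Q : Set Ω) := by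
  apply le_normalizer_of_conj_mem
  intro s hs q hq
  exact hQ.2 Q le_rfl (conjHom Q s) (F.conj_mem hQ.1 hs) ⟨q, hq⟩

theorem stronglyClosed_aut_mem (F : FusionSystem S) {Q P : Subgroup Ω} (hQ : F.StronglyClosed Q)
    (hPS : P ≤ S) {a : MulAut P} (ha : a ∈ F.autGroup P) {x : P} (hx : (x : Ω) ∈ Q) :
    ((a x : P) : Ω) ∈ Q := by
  have ha' : IsFIso F a := (mem_autGroup_iff F hPS a).mp ha
  have hres := restrict_mem F (inf_le_right : Q ⊓ P ≤ P) ha'
  exact hQ.2 (Q ⊓ P) inf_le_left _ hres ⟨x, hx, x.2⟩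

/-- the chain-stabilizer subgroup. -/
def chainStabSubgroup {G : Type*} [Group G] [Finite G] (c : ℕ → Subgroup G) (hmono : Monotone c) :
    Subgroup (MulAut G) where
  carrier := {α | IsChainStab c α}
  one_mem' := IsChainStab.one c
  mul_mem' := fun ha hb => IsChainStab.mul hmono ha hb
  inv_mem' := fun ha => IsChainStab.inv hmono ha

/-- Aschbacher's criterion, sufficiency: a subgroup with a chain of strongly closed subgroups
whose successive quotients it centralizes is normal in the system. -/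
theorem isNormal_of_chain [Finite S] {p : ℕ} [Fact p.Prime] (hS : IsPGroup p S)
    (F : FusionSystem S) (hF : F.IsSaturated p) (Q : Subgroup Ω) (n : ℕ)
    (Qs : Fin (n + 1) → Subgroup Ω) (h0 : Qs 0 = ⊥) (hlast : Qs (Fin.last n) = Q)
    (hmono : Monotone Qs)
    (hstep : ∀ i : Fin n, F.StronglyClosed (Qs i.succ) ∧ ⁅Q, Qs i.succ⁆ ≤ Qs (Fin.castSucc i)) :
    F.IsNormal Q := by
  rcases Nat.eq_zero_or_pos n with hn | hn
  · subst hn
    have : Q = ⊥ := by rw [← hlast, ← h0]; rfl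
    rw [this]; exact isNormal_bot F
  have hinv : ∀ j : Fin (n + 1), Qs j = ⊥ ∨ F.StronglyClosed (Qs j) := by
    intro j
    rcases Fin.eq_zero_or_eq_succ j with rfl | ⟨i, rfl⟩
    · exact Or.inl h0
    · exact Or.inr (hstep i).1
  have hsc : F.StronglyClosed Q := by
    have h1 := (hstep ⟨n - 1, by omega⟩).1
    have e : (⟨n - 1, by omega⟩ : Fin n).succ = Fin.last n := by
      apply Fin.ext
      simp only [Fin.val_succ, Fin.val_last]
      omega
    rw [e, hlast] at h1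
    exact h1
  have hQS : Q ≤ S := hsc.1
  have hSN := stronglyClosed_le_normalizer F hsc
  rw [isNormal_iff_stronglyClosed hS F hF]
  refine ⟨hsc, ?_⟩
  intro P hPc hPr
  have hPS : P ≤ S := hPc.1
  haveI : Finite P := finite_of_le S hPS
  -- the chain
  let c : ℕ → Subgroup P := fun j =>
    if h : j ≤ n then (Qs ⟨j, Nat.lt_succ_of_le h⟩).subgroupOf P else ⊤
  have hc_le : ∀ j (h : j ≤ n), c j = (Qs ⟨j, Nat.lt_succ_of_le h⟩).subgroupOf P := by
    intro j h
    show (if h : j ≤ n then (Qs ⟨j, Nat.lt_succ_of_le h⟩).subgroupOf P else ⊤) = _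
    rw [dif_pos h]
  have hc_gt : ∀ j, ¬ j ≤ n → c j = ⊤ := by
    intro j h
    show (if h : j ≤ n then (Qs ⟨j, Nat.lt_succ_of_le h⟩).subgroupOf P else ⊤) = _
    rw [dif_neg h]
  have hcmono : Monotone c := by
    intro j j' hjj'
    by_cases h' : j' ≤ n
    · have h : j ≤ n := hjj'.trans h'
      rw [hc_le j h, hc_le j' h']
      intro x hx
      rw [Subgroup.mem_subgroupOf] at hx ⊢
      exact hmono (show (⟨j, Nat.lt_succ_of_le h⟩ : Fin (n + 1)) ≤ ⟨j', Nat.lt_succ_of_le h'⟩ from hjj') hx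
    · rw [hc_gt j' h']; exact le_top
  have hc0 : c 0 = ⊥ := by
    rw [hc_le 0 (Nat.zero_le n)]
    have : (⟨0, Nat.lt_succ_of_le (Nat.zero_le n)⟩ : Fin (n + 1)) = 0 := rfl
    rw [this, h0, Subgroup.bot_subgroupOf]
  have hctop : c (n + 1) = ⊤ := hc_gt (n + 1) (by omega)
  have hPp : IsPGroup p P := hS.to_le hPS
  have hainv : ∀ a ∈ F.autGroup P, ∀ i, ∀ x ∈ c i, a x ∈ c i := by
    intro a ha i x hx
    by_cases h : i ≤ n
    · rw [hc_le i h] at hx ⊢
      rw [Subgroup.mem_subgroupOf] at hx ⊢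
      rcases hinv ⟨i, Nat.lt_succ_of_le h⟩ with hb | hscl
      · rw [hb, Subgroup.mem_bot] at hx
        have : x = 1 := Subtype.ext hx
        rw [this, map_one]; exact one_mem _
      · exact stronglyClosed_aut_mem F hscl hPS ha hx
    · rw [hc_gt i h]; exact Subgroup.mem_top _
  apply le_of_normal_pSubgroup hS F hPc hPr hQS hSN (chainStabSubgroup c hcmono)
  · intro a ha k hk
    exact IsChainStab.conj hk (hainv a ha) (hainv a⁻¹ (inv_mem ha))
  · intro k hk
    apply IsChainStab.exists_pow_eq_one hPp hcmono hk _ hctop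
    refine ⟨0, ?_⟩
    intro x hx
    rw [hc0, Subgroup.mem_bot] at hx
    rw [hx, map_one]
  · intro g hg
    show IsChainStab c (normAut P g hg.2)
    intro i x hx
    by_cases h : i + 1 ≤ n
    · have hi : i ≤ n := by omega
      rw [hc_le (i + 1) h] at hx
      rw [hc_le i hi]
      rw [Subgroup.mem_subgroupOf] at hx ⊢
      have hst := (hstep ⟨i, by omega⟩).2
      have e1 : (⟨i, by omega⟩ : Fin n).succ = ⟨i + 1, Nat.lt_succ_of_le h⟩ := rfl
      have e2 : Fin.castSucc (⟨i, by omega⟩ : Fin n) = ⟨i, Nat.lt_succ_of_le hi⟩ := rfl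
      rw [e1, e2, Subgroup.commutator_comm, Subgroup.commutator_le] at hst
      have h3 := hst _ (inv_mem hx) g hg.1
      have e3 : ((x⁻¹ * normAut P g hg.2 x : P) : Ω) = ⁅((x : Ω))⁻¹, g⁆ := by
        show (x : Ω)⁻¹ * (g * x * g⁻¹) = _
        rw [commutatorElement_def]; group
      rw [e3]; exact h3
    · by_cases h' : i ≤ n
      · have hin : i = n := by omega
        rw [hc_le i h']
        rw [Subgroup.mem_subgroupOf]
        have e4 : (⟨i, Nat.lt_succ_of_le h'⟩ : Fin (n + 1)) = Fin.last n := by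
          apply Fin.ext; simp [hin]
        rw [e4, hlast]
        show (x : Ω)⁻¹ * (g * x * g⁻¹) ∈ Q
        have h5 : (x : Ω)⁻¹ * g * ((x : Ω)⁻¹)⁻¹ ∈ Q :=
          (Subgroup.mem_normalizer_iff.mp (hSN (S.inv_mem (hPS x.2))) g).mp hg.1
        have e5 : (x : Ω)⁻¹ * (g * x * g⁻¹) = ((x : Ω)⁻¹ * g * ((x : Ω)⁻¹)⁻¹) * g⁻¹ := by group
        rw [e5]
        exact Q.mul_mem h5 (Q.inv_mem hg.1)
      · rw [hc_gt i h']; exact Subgroup.mem_top _

end Cfsg.Agent.helper25
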