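import Cfsg.Statements.S5085
import Cfsg.Agent.Lib_helper25_Fusion

set_option autoImplicit false
open Cfsg

namespace Cfsg.Agent.S5085

open Cfsg.FusionSystem Cfsg.Agent.helper25

theorem result {Ω : Type*} [Group Ω] {S : Subgroup Ω} (F : Cfsg.FusionSystem S) (Q U : Subgroup Ω) (hQ : F.IsNormal Q) (hUQ : U ≤ Q) (hU : (U.subgroupOf Q).Characteristic) : F.IsNormal U := by
  obtain ⟨hQS, hext⟩ := hQ
  refine ⟨hUQ.trans hQS, ?_⟩
  intro P φ hφ
  obtain ⟨ψ', hψ', hψ'φ, hψ'Q⟩ := hext P φ hφ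
  have hle : P ⊔ U ≤ P ⊔ Q := sup_le_sup_left hUQ P
  refine ⟨ψ'.comp (Subgroup.inclusion hle), restrict_mem F hle hψ', ?_, ?_⟩
  · intro x
    exact hψ'φ x
  · -- the automorphism of Q induced by ψ'
    have hQle : Q ≤ P ⊔ Q := le_sup_right
    have hmapQ : ∀ q : Q, ψ' ⟨q, hQle q.2⟩ ∈ Q := by
      intro q
      have h0 : ψ' ⟨q, hQle q.2⟩ ∈ (Q.subgroupOf (P ⊔ Q)).map ψ' :=
        ⟨⟨q, hQle q.2⟩, Subgroup.mem_subgroupOf.mpr q.2, rfl⟩
      rwa [hψ'Q] at h0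
    let α₀ : Q →* Q := (ψ'.comp (Subgroup.inclusion hQle)).codRestrict Q hmapQ
    have hα₀inj : Function.Injective α₀ := by
      intro a b hab
      have h1 : ψ' ⟨a, hQle a.2⟩ = ψ' ⟨b, hQle b.2⟩ := congrArg Subtype.val hab
      have h2 := F.injective_of_mem hψ' h1
      exact Subtype.ext (congrArg (fun z : (P ⊔ Q : Subgroup Ω) => (z : Ω)) h2)
    have hα₀surj : Function.Surjective α₀ := by
      intro q
      have hq : (q : Ω) ∈ (Q.subgroupOf (P ⊔ Q)).map ψ' := by rw [hψ'Q]; exact q.2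
      obtain ⟨y, hy, hyq⟩ := hq
      refine ⟨⟨y, Subgroup.mem_subgroupOf.mp hy⟩, Subtype.ext ?_⟩
      exact hyq
    let α : Q ≃* Q := MulEquiv.ofBijective α₀ ⟨hα₀inj, hα₀surj⟩
    have hchar : (U.subgroupOf Q).map α.toMonoidHom = U.subgroupOf Q :=
      Subgroup.characteristic_iff_map_eq.mp hU α
    have hαval : ∀ q : Q, ((α q : Q) : Ω) = ψ' ⟨q, hQle q.2⟩ := fun q => rfl
    apply le_antisymm
    · rintro _ ⟨y, hy, rfl⟩
      have hyU : (y : Ω) ∈ U := Subgroup.mem_subgroupOf.mp hy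
      have h1 : α ⟨y, hUQ hyU⟩ ∈ U.subgroupOf Q := by
        rw [← hchar]
        exact ⟨⟨y, hUQ hyU⟩, Subgroup.mem_subgroupOf.mpr hyU, rfl⟩
      exact Subgroup.mem_subgroupOf.mp h1
    · intro u hu
      have h1 : (⟨u, hUQ hu⟩ : Q) ∈ (U.subgroupOf Q).map α.toMonoidHom := by
        rw [hchar]; exact Subgroup.mem_subgroupOf.mpr hu
      obtain ⟨u', hu', hu'u⟩ := h1
      have hu'U : (u' : Ω) ∈ U := Subgroup.mem_subgroupOf.mp hu'
      refine ⟨⟨u', (le_sup_right : U ≤ P ⊔ U) hu'U⟩, Subgroup.mem_subgroupOf.mpr hu'U, ?_⟩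
      have := congrArg (fun z : Q => (z : Ω)) hu'u
      exact this

end Cfsg.Agent.S5085
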