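import Cfsg.Agent.Lib_helper25_ChainNormal
import Cfsg.Agent.S5085

set_option autoImplicit false
set_option linter.style.haveILetI false
set_option linter.unusedVariables false

namespace Cfsg.Agent.helper25

open Cfsg Cfsg.FusionSystem
open scoped commutatorElement

variable {Ω : Type*} [Group Ω] {S : Subgroup Ω}

theorem isNormal_stronglyClosed (F : FusionSystem S) {Q : Subgroup Ω} (hQ : F.IsNormal Q) :
    F.StronglyClosed Q := by
  refine ⟨hQ.1, ?_⟩
  intro R hRQ φ hφ x
  obtain ⟨ψ, hψ, hψ1, hψ2⟩ := hQ.2 R φ hφ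
  rw [← hψ1 x]
  exact hψ2.le ⟨_, Subgroup.mem_subgroupOf.mpr (hRQ x.2), rfl⟩

/-- a characteristic subgroup (given inside `Q`) of a normal subgroup of the system is normal. -/
theorem isNormal_map_of_characteristic (F : FusionSystem S) {Q : Subgroup Ω} (hQ : F.IsNormal Q)
    (U : Subgroup Q) [hU : U.Characteristic] : F.IsNormal (U.map Q.subtype) := by
  apply Cfsg.Agent.S5085.result F Q (U.map Q.subtype) hQ (Subgroup.map_subtype_le U)
  have e : (U.map Q.subtype).subgroupOf Q = U :=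
    Subgroup.comap_map_eq_self_of_injective Q.subtype_injective U
  rw [e]; exact hU

/-- Aschbacher's criterion, necessity. -/
theorem exists_chain_of_isNormal [Finite S] {p : ℕ} [Fact p.Prime] (hS : IsPGroup p S)
    (F : FusionSystem S) {Q : Subgroup Ω} (hQ : F.IsNormal Q) :
    ∃ (n : ℕ) (Qs : Fin (n + 1) → Subgroup Ω), Qs 0 = ⊥ ∧ Qs (Fin.last n) = Q ∧ Monotone Qs ∧
      ∀ i : Fin n, F.StronglyClosed (Qs i.succ) ∧ ⁅Q, Qs i.succ⁆ ≤ Qs (Fin.castSucc i) := by
  have hQS := hQ.1
  haveI : Finite Q := finite_of_le S hQS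
  haveI : Group.IsNilpotent Q := (hS.to_le hQS).isNilpotent
  refine ⟨Group.nilpotencyClass Q,
    fun i => (Subgroup.upperCentralSeries Q i).map Q.subtype, ?_, ?_, ?_, ?_⟩
  · show (Subgroup.upperCentralSeries Q 0).map Q.subtype = ⊥
    rw [Subgroup.upperCentralSeries_zero, Subgroup.map_bot]
  · show (Subgroup.upperCentralSeries Q (Group.nilpotencyClass Q)).map Q.subtype = Q
    rw [Subgroup.upperCentralSeries_nilpotencyClass, ← MonoidHom.range_eq_map,
      Subgroup.range_subtype]
  · intro i j hij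
    exact Subgroup.map_mono (Subgroup.upperCentralSeries_mono Q hij)
  · intro i
    refine ⟨isNormal_stronglyClosed F (isNormal_map_of_characteristic F hQ _), ?_⟩
    rw [Subgroup.commutator_le]
    rintro g₁ hg₁ _ ⟨z, hz, rfl⟩
    have hz' : z ∈ Subgroup.upperCentralSeries Q ((i : ℕ) + 1) := hz
    have h1 := Subgroup.mem_upperCentralSeries_succ_iff.mp hz' ⟨g₁, hg₁⟩
    have h2 : ⁅(⟨g₁, hg₁⟩ : Q), z⁆ ∈ Subgroup.upperCentralSeries Q (i : ℕ) := by
      rw [← commutatorElement_inv]; exact inv_mem h1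
    refine ⟨⁅(⟨g₁, hg₁⟩ : Q), z⁆, h2, ?_⟩
    rw [map_commutatorElement]
    rfl

theorem isNormal_iff_chain [Finite S] {p : ℕ} [Fact p.Prime] (hS : IsPGroup p S)
    (F : FusionSystem S) (hF : F.IsSaturated p) (Q : Subgroup Ω) :
    F.IsNormal Q ↔ ∃ (n : ℕ) (Qs : Fin (n + 1) → Subgroup Ω), Qs 0 = ⊥ ∧ Qs (Fin.last n) = Q ∧
      Monotone Qs ∧
      ∀ i : Fin n, F.StronglyClosed (Qs i.succ) ∧ ⁅Q, Qs i.succ⁆ ≤ Qs (Fin.castSucc i) := by
  constructor
  · exact exists_chain_of_isNormal hS F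
  · rintro ⟨n, Qs, h0, hlast, hmono, hstep⟩
    exact isNormal_of_chain hS F hF Q n Qs h0 hlast hmono hstep

/-- an abelian strongly closed subgroup is normal in the system. -/
theorem isNormal_of_abelian_stronglyClosed [Finite S] {p : ℕ} [Fact p.Prime] (hS : IsPGroup p S)
    (F : FusionSystem S) (hF : F.IsSaturated p) {Q : Subgroup Ω} (hQ : F.StronglyClosed Q)
    (hab : ∀ a ∈ Q, ∀ b ∈ Q, a * b = b * a) : F.IsNormal Q := by
  apply isNormal_of_chain hS F hF Q 1 ![⊥, Q] rfl rfl
  · intro i j hij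
    fin_cases i <;> fin_cases j
    · exact le_rfl
    · exact bot_le
    · exact absurd hij (by decide)
    · exact le_rfl
  · intro i
    fin_cases i
    refine ⟨hQ, ?_⟩
    show ⁅Q, Q⁆ ≤ ⊥
    rw [Subgroup.commutator_le]
    intro a ha b hb
    rw [Subgroup.mem_bot, commutatorElement_def, hab a ha b hb]
    group

theorem core_ne_bot_iff [Finite S] {p : ℕ} [Fact p.Prime] (hS : IsPGroup p S)
    (F : FusionSystem S) (hF : F.IsSaturated p) :
    F.core ≠ ⊥ ↔ ∃ Q : Subgroup Ω, Q ≠ ⊥ ∧ IsMulCommutative Q ∧ F.StronglyClosed Q := by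
  constructor
  · intro hne
    have hO : F.IsNormal F.core := isNormal_core F
    have hOS := hO.1
    haveI : Finite F.core := finite_of_le S hOS
    haveI : Nontrivial F.core := (Subgroup.nontrivial_iff_ne_bot _).mpr hne
    have hOp : IsPGroup p F.core := hS.to_le hOS
    have hZ := hOp.bot_lt_center
    refine ⟨(Subgroup.center F.core).map F.core.subtype, ?_, ?_,
      isNormal_stronglyClosed F (isNormal_map_of_characteristic F hO _)⟩
    · intro h
      rw [Subgroup.map_eq_bot_iff_of_injective _ F.core.subtype_injective] at h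
      exact hZ.ne' h
    · refine ⟨⟨?_⟩⟩
      rintro ⟨_, a, ha, rfl⟩ ⟨_, b, hb, rfl⟩
      apply Subtype.ext
      show F.core.subtype a * F.core.subtype b = F.core.subtype b * F.core.subtype a
      rw [← map_mul, ← map_mul, Subgroup.mem_center_iff.mp ha b]
  · rintro ⟨Q, hQne, hQab, hQsc⟩
    have hQn : F.IsNormal Q :=
      isNormal_of_abelian_stronglyClosed hS F hF hQsc (fun a ha b hb => setLike_mul_comm ha hb)
    intro h
    apply hQne
    have hle : Q ≤ F.core := le_sSup hQn
    rw [h] at hle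
    exact le_bot_iff.mp hle

end Cfsg.Agent.helper25
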