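import Cfsg.Agent.Lib_helper25_ChainNormal2

set_option autoImplicit false
set_option linter.style.haveILetI false
set_option linter.unusedVariables false

namespace Cfsg.Agent.helper25

open Cfsg Cfsg.FusionSystem
open scoped commutatorElement

variable {Ω : Type*} [Group Ω] {S : Subgroup Ω}

/-- the three-step chain `A0 ≤ A1 ≤ ⊤`. -/
def chain3 {G : Type*} [Group G] (A0 A1 : Subgroup G) : ℕ → Subgroup G :=
  fun j => if j = 0 then A0 else if j = 1 then A1 else ⊤

theorem chain3_zero {G : Type*} [Group G] (A0 A1 : Subgroup G) : chain3 A0 A1 0 = A0 := by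
  simp [chain3]

theorem chain3_one {G : Type*} [Group G] (A0 A1 : Subgroup G) : chain3 A0 A1 1 = A1 := by
  simp [chain3]

theorem chain3_ge {G : Type*} [Group G] (A0 A1 : Subgroup G) {j : ℕ} (hj : 2 ≤ j) :
    chain3 A0 A1 j = ⊤ := by
  have h0 : j ≠ 0 := by omega
  have h1 : j ≠ 1 := by omega
  simp [chain3, h0, h1]

theorem chain3_mono {G : Type*} [Group G] {A0 A1 : Subgroup G} (h : A0 ≤ A1) :
    Monotone (chain3 A0 A1) := by
  intro j j' hjj'
  rcases Nat.lt_or_ge j' 2 with h2 | h2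
  · interval_cases j'
    · have : j = 0 := by omega
      rw [this]
    · rcases Nat.eq_zero_or_pos j with rfl | hj
      · rw [chain3_zero, chain3_one]; exact h
      · have : j = 1 := by omega
        rw [this]
  · rw [chain3_ge A0 A1 h2]; exact le_top

/-- restriction of an automorphism in `Aut_F(P)` to an invariant subgroup, with its powers. -/
theorem exists_restrict_aut (F : FusionSystem S) {P Q₁ : Subgroup Ω} (hPS : P ≤ S)
    (hQ₁P : Q₁ ≤ P) {k : MulAut P} (hk : k ∈ F.autGroup P)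
    (hinv : (Q₁.subgroupOf P).map k.toMonoidHom = Q₁.subgroupOf P) :
    ∃ e : MulAut Q₁, e ∈ F.autGroup Q₁ ∧
      ∀ (j : ℕ) (x : Q₁), (((e ^ j) x : Q₁) : Ω) = (((k ^ j) ⟨x, hQ₁P x.2⟩ : P) : Ω) := by
  have hk' : IsFIso F k := (mem_autGroup_iff F hPS k).mp hk
  have hres := restrict_mem F hQ₁P hk'
  have hresr : ((P.subtype.comp k.toMonoidHom).comp (Subgroup.inclusion hQ₁P)).range = Q₁ := by
    rw [range_restrict_eq_map]
    ext y; constructor
    · rintro ⟨z, hz, rfl⟩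
      have h1 : k z ∈ Q₁.subgroupOf P := hinv.le ⟨z, hz, rfl⟩
      exact Subgroup.mem_subgroupOf.mp h1
    · intro hy
      have h1 : (⟨y, hQ₁P hy⟩ : P) ∈ (Q₁.subgroupOf P).map k.toMonoidHom :=
        hinv.ge (Subgroup.mem_subgroupOf.mpr hy)
      obtain ⟨z, hz, hzy⟩ := h1
      exact ⟨z, hz, congrArg Subtype.val hzy⟩
  obtain ⟨e, he, hecoe⟩ := exists_isFIso_of_mem F hres hresr
  have hQ₁S : Q₁ ≤ S := hQ₁P.trans hPS
  refine ⟨e, (mem_autGroup_iff F hQ₁S e).mpr he, ?_⟩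
  intro j
  induction j with
  | zero => intro x; rfl
  | succ j ih =>
    intro x
    rw [pow_succ, pow_succ]
    show (((e ^ j) (e x) : Q₁) : Ω) = (((k ^ j) (k ⟨x, hQ₁P x.2⟩) : P) : Ω)
    rw [ih (e x)]
    have e1 : (⟨((e x : Q₁) : Ω), hQ₁P (e x).2⟩ : P) = k ⟨x, hQ₁P x.2⟩ := Subtype.ext (hecoe x)
    rw [e1]

/-- a strongly closed `Q` with a subgroup `Q₁` normal in the system such that `Q/Q₁` is abelian
and `Aut_F(Q₁)` is a `p`-group is normal in the system. -/
theorem isNormal_of_abelian_quotient [Finite S] {p : ℕ} [Fact p.Prime] (hS : IsPGroup p S)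
    (F : FusionSystem S) (hF : F.IsSaturated p) {Q Q₁ : Subgroup Ω} (hQ : F.StronglyClosed Q)
    (hQ₁Q : Q₁ ≤ Q) (hQ₁ : F.IsNormal Q₁) (hab : ⁅Q, Q⁆ ≤ Q₁)
    (hAut : IsPGroup p ↥(F.autGroup Q₁)) : F.IsNormal Q := by
  rw [isNormal_iff_stronglyClosed hS F hF]
  refine ⟨hQ, ?_⟩
  intro P hPc hPr
  have hPS : P ≤ S := hPc.1
  have hQS : Q ≤ S := hQ.1
  have hSN := stronglyClosed_le_normalizer F hQ
  haveI : Finite P := finite_of_le S hPS
  have hQ₁P : Q₁ ≤ P := isNormal_le_of_centric_radical hS F hQ₁ hPc hPr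
  have hQ₁sc := isNormal_stronglyClosed F hQ₁
  have hcmono : Monotone (chain3 (Q₁.subgroupOf P) (Q.subgroupOf P)) :=
    chain3_mono (fun x hx => Subgroup.mem_subgroupOf.mpr (hQ₁Q (Subgroup.mem_subgroupOf.mp hx)))
  have hPp : IsPGroup p P := hS.to_le hPS
  have hainv : ∀ a ∈ F.autGroup P, ∀ i,
      ∀ x ∈ chain3 (Q₁.subgroupOf P) (Q.subgroupOf P) i,
        a x ∈ chain3 (Q₁.subgroupOf P) (Q.subgroupOf P) i := by
    intro a ha i x hx
    rcases Nat.lt_or_ge i 2 with h2 | h2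
    · interval_cases i
      · rw [chain3_zero] at hx ⊢
        exact Subgroup.mem_subgroupOf.mpr
          (stronglyClosed_aut_mem F hQ₁sc hPS ha (Subgroup.mem_subgroupOf.mp hx))
      · rw [chain3_one] at hx ⊢
        exact Subgroup.mem_subgroupOf.mpr
          (stronglyClosed_aut_mem F hQ hPS ha (Subgroup.mem_subgroupOf.mp hx))
    · rw [chain3_ge _ _ h2]; exact Subgroup.mem_top _
  apply le_of_normal_pSubgroup hS F hPc hPr hQS hSN
    (chainStabSubgroup (chain3 (Q₁.subgroupOf P) (Q.subgroupOf P)) hcmono ⊓ F.autGroup P)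
  · intro a ha k hk
    have hai : a⁻¹ ∈ F.autGroup P := Subgroup.inv_mem _ ha
    exact ⟨IsChainStab.conj hk.1 (hainv a ha) (hainv a⁻¹ hai),
      Subgroup.mul_mem _ (Subgroup.mul_mem _ ha hk.2) hai⟩
  · intro k hk
    apply IsChainStab.exists_pow_eq_one hPp hcmono hk.1 _ (chain3_ge _ _ (le_refl 2))
    obtain ⟨e, heA, hepow⟩ := exists_restrict_aut F hPS hQ₁P hk.2
      (isNormal_aut_invariant F hQ₁ hPS hQ₁P hk.2)
    obtain ⟨a, ha⟩ := hAut ⟨e, heA⟩
    have ha' : e ^ (p ^ a) = 1 := by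
      have := congrArg Subtype.val ha
      rwa [Subgroup.coe_pow] at this
    refine ⟨a, ?_⟩
    intro x hx
    rw [chain3_zero] at hx
    have hxQ₁ : (x : Ω) ∈ Q₁ := Subgroup.mem_subgroupOf.mp hx
    apply Subtype.ext
    have h1 := hepow (p ^ a) ⟨x, hxQ₁⟩
    rw [ha'] at h1
    exact h1.symm
  · intro g hg
    have hgN : g ∈ normalizerIn S P := ⟨hQS hg.1, hg.2⟩
    refine ⟨?_, autInducedBy_le_autGroup F hPS (normAut_mem S P hgN)⟩
    show IsChainStab _ (normAut P g hg.2)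
    intro i x hx
    rcases Nat.lt_or_ge i 2 with h2 | h2
    · interval_cases i
      · rw [chain3_one] at hx
        rw [chain3_zero]
        rw [Subgroup.mem_subgroupOf] at hx ⊢
        have h3 := (Subgroup.commutator_le.mp hab) _ (Subgroup.inv_mem _ hx) g hg.1
        have e3 : ((x⁻¹ * normAut P g hg.2 x : P) : Ω) = ⁅((x : Ω))⁻¹, g⁆ := by
          show (x : Ω)⁻¹ * (g * x * g⁻¹) = _
          rw [commutatorElement_def]; group
        rw [e3]; exact h3
      · rw [chain3_one]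
        rw [Subgroup.mem_subgroupOf]
        show (x : Ω)⁻¹ * (g * x * g⁻¹) ∈ Q
        have h5 : (x : Ω)⁻¹ * g * ((x : Ω)⁻¹)⁻¹ ∈ Q :=
          (Subgroup.mem_normalizer_iff.mp (hSN (S.inv_mem (hPS x.2))) g).mp hg.1
        have e5 : (x : Ω)⁻¹ * (g * x * g⁻¹) = ((x : Ω)⁻¹ * g * ((x : Ω)⁻¹)⁻¹) * g⁻¹ := by group
        rw [e5]
        exact Q.mul_mem h5 (Q.inv_mem hg.1)
    · rw [chain3_ge _ _ h2]; exact Subgroup.mem_top _

end Cfsg.Agent.helper25
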