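import Mathlib

set_option autoImplicit false

namespace Cfsg.Agent.helper25.ClassSum

section counting

variable {p : ℕ} [hp : Fact p.Prime]

/-- A finset stable under a `p`-group of permutations having no common fixed point in it has
cardinality divisible by `p`. -/
theorem card_dvd_of_no_fixed {P α : Type*} [Group P] (hP : IsPGroup p P)
    (φ : P →* Equiv.Perm α) (t : Finset α)
    (ht : ∀ (u : P) (a : α), a ∈ t → φ u a ∈ t)
    (hfix : ∀ a ∈ t, ∃ u : P, φ u a ≠ a) : p ∣ t.card := by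
  classical
  let _ : MulAction P {a // a ∈ t} :=
    { smul := fun u a => ⟨φ u a.1, ht u a.1 a.2⟩
      one_smul := fun a => Subtype.ext (show φ 1 a.1 = a.1 by simp)
      mul_smul := fun u v a => Subtype.ext (show φ (u * v) a.1 = φ u (φ v a.1) by simp) }
  have h := hP.card_modEq_card_fixedPoints {a // a ∈ t}
  have hempty : IsEmpty (MulAction.fixedPoints P {a // a ∈ t}) := by
    constructor
    rintro ⟨a, ha⟩
    obtain ⟨u, hu⟩ := hfix a.1 a.2
    exact hu (congrArg Subtype.val (ha u))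
  rw [@Nat.card_of_isEmpty _ hempty] at h
  have h2 : Nat.card {a // a ∈ t} = t.card := by simp
  rw [h2] at h
  exact (Nat.modEq_zero_iff_dvd).1 h

/-- A sum of an invariant function over an invariant finset without fixed points vanishes in
characteristic `p`. -/
theorem sum_eq_zero_of_pgroup_action {P α M : Type*} [Group P] (hP : IsPGroup p P)
    (φ : P →* Equiv.Perm α) [AddCommGroup M] (hM : ∀ m : M, p • m = 0)
    (s : Finset α) (hs : ∀ (u : P) (a : α), a ∈ s → φ u a ∈ s)
    (hfix : ∀ a ∈ s, ∃ u : P, φ u a ≠ a)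
    (f : α → M) (hf : ∀ (u : P) (a : α), a ∈ s → f (φ u a) = f a) :
    ∑ a ∈ s, f a = 0 := by
  classical
  have h1 := Finset.sum_comp (s := s) (fun m : M => m) f
  rw [h1]
  apply Finset.sum_eq_zero
  intro b _
  have hdvd : p ∣ (s.filter (fun a => f a = b)).card := by
    apply card_dvd_of_no_fixed hP φ
    · intro u a ha
      rw [Finset.mem_filter] at ha ⊢
      exact ⟨hs u a ha.1, by rw [hf u a ha.1]; exact ha.2⟩
    · intro a ha
      rw [Finset.mem_filter] at ha
      exact hfix a ha.1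
  obtain ⟨k, hk⟩ := hdvd
  rw [hk, mul_comm, mul_smul, hM, smul_zero]

end counting

section algebra

open MonoidAlgebra

variable {p : ℕ} [hp : Fact p.Prime] {G : Type*} [Group G]

local notation "A" => MonoidAlgebra (ZMod p) G
local notation "ofG" => MonoidAlgebra.of (ZMod p) G

theorem nsmul_p_eq_zero (w : MonoidAlgebra (ZMod p) G) : p • w = 0 := by
  rw [← Nat.cast_smul_eq_nsmul (ZMod p) p w, ZMod.natCast_self, zero_smul]

instance finite_monoidAlgebra [Finite G] : Finite (MonoidAlgebra (ZMod p) G) := by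
  classical
  haveI := Fintype.ofFinite G
  haveI : Finite (G →₀ ZMod p) := Finite.of_fintype _
  exact Finite.of_equiv _ (MonoidAlgebra.coeffEquiv (R := ZMod p) (M := G)).symm

/-- the class sum commutes with group elements -/
theorem of_mul_sum_comm (K : Finset G) (hK : ∀ h x : G, x ∈ K → h * x * h⁻¹ ∈ K) (h : G) :
    ofG h * (∑ x ∈ K, ofG x) = (∑ x ∈ K, ofG x) * ofG h := by
  rw [Finset.mul_sum, Finset.sum_mul]
  refine Finset.sum_nbij' (fun x => h * x * h⁻¹) (fun y => h⁻¹ * y * h) ?_ ?_ ?_ ?_ ?_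
  · intro x hx; exact hK h x hx
  · intro y hy; simpa using hK h⁻¹ y hy
  · intro x _; group
  · intro y _; group
  · intro x _
    rw [← map_mul, ← map_mul]
    congr 1
    group

/-- fixed points of a normal `p`-subgroup in a nonzero stable additive subgroup -/
theorem exists_fixed_ne_zero [Finite G] (P : Subgroup G) (hP : IsPGroup p P)
    (W : AddSubgroup (MonoidAlgebra (ZMod p) G)) (hW : W ≠ ⊥)
    (hPW : ∀ u ∈ P, ∀ w ∈ W, ofG u * w ∈ W) :
    ∃ w ∈ W, w ≠ 0 ∧ ∀ u ∈ P, ofG u * w = w := by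
  classical
  let _ : MulAction P W :=
    { smul := fun u w => ⟨ofG u.1 * w.1, hPW u.1 u.2 w.1 w.2⟩
      one_smul := fun w => Subtype.ext (show ofG (1 : G) * w.1 = w.1 by rw [map_one, one_mul])
      mul_smul := fun u v w => Subtype.ext
        (show ofG (u.1 * v.1) * w.1 = ofG u.1 * (ofG v.1 * w.1) by rw [map_mul, mul_assoc]) }
  have hdvd : p ∣ Nat.card W := by
    obtain ⟨w0, hw0, hne⟩ := (AddSubgroup.bot_or_exists_ne_zero W).resolve_left hW
    have hord : addOrderOf (⟨w0, hw0⟩ : W) = p := by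
      apply addOrderOf_eq_prime
      · apply Subtype.ext
        simpa using nsmul_p_eq_zero w0
      · intro h
        exact hne (congrArg Subtype.val h)
    have := addOrderOf_dvd_natCard (⟨w0, hw0⟩ : W)
    rwa [hord] at this
  have h0 : (0 : W) ∈ MulAction.fixedPoints P W := by
    intro u
    apply Subtype.ext
    show ofG u.1 * (0 : A) = 0
    rw [mul_zero]
  obtain ⟨b, hb, hne⟩ := hP.exists_fixed_point_of_prime_dvd_card_of_fixed_point W hdvd h0
  refine ⟨b.1, b.2, ?_, ?_⟩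
  · intro h
    exact hne (Subtype.ext h.symm)
  · intro u hu
    exact congrArg Subtype.val (hb ⟨u, hu⟩)

/-- the class sum kills fixed vectors -/
theorem classSum_mul_fixed_eq_zero (P : Subgroup G) [hN : P.Normal] (hP : IsPGroup p P)
    (K : Finset G) (hK : ∀ h x : G, x ∈ K → h * x * h⁻¹ ∈ K)
    (hfix : ∀ x ∈ K, ∃ u ∈ P, u * x * u⁻¹ ≠ x)
    (w : MonoidAlgebra (ZMod p) G) (hw : ∀ u ∈ P, ofG u * w = w) :
    (∑ x ∈ K, ofG x) * w = 0 := by
  rw [Finset.sum_mul]
  have hyw : ∀ (a : G) (u : G), u ∈ P → ofG u * (ofG a * w) = ofG a * w := by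
    intro a u hu
    have h1 : u * a = a * (a⁻¹ * u * a) := by group
    rw [← mul_assoc, ← map_mul, h1, map_mul, mul_assoc, hw _ (hN.conj_mem' u hu a)]
  have hφ : ∀ (u : P) (a : G),
      ((MulAut.toPerm G).comp ((MulAut.conj).comp P.subtype)) u a = u.1 * a * u.1⁻¹ :=
    fun u a => rfl
  refine sum_eq_zero_of_pgroup_action hP
    ((MulAut.toPerm G).comp ((MulAut.conj).comp P.subtype)) nsmul_p_eq_zero K ?_ ?_
    (fun x => ofG x * w) ?_
  · intro u a ha
    rw [hφ]
    exact hK u.1 a ha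
  · intro a ha
    obtain ⟨u, hu, hne⟩ := hfix a ha
    exact ⟨⟨u, hu⟩, by rw [hφ]; exact hne⟩
  · intro u a _
    simp only [hφ]
    rw [map_mul, map_mul, mul_assoc, mul_assoc, hw _ (P.inv_mem u.2), hyw a u.1 u.2]

theorem exists_pow_mul_eq_zero [Finite G] (P : Subgroup G) [P.Normal] (hP : IsPGroup p P)
    (K : Finset G) (hK : ∀ h x : G, x ∈ K → h * x * h⁻¹ ∈ K)
    (hfix : ∀ x ∈ K, ∃ u ∈ P, u * x * u⁻¹ ≠ x) :
    ∀ (n : ℕ) (W : AddSubgroup (MonoidAlgebra (ZMod p) G)),
      (W : Set (MonoidAlgebra (ZMod p) G)).ncard ≤ n →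
      (∀ u ∈ P, ∀ w ∈ W, ofG u * w ∈ W) → (∀ w ∈ W, (∑ x ∈ K, ofG x) * w ∈ W) →
      ∃ m : ℕ, ∀ w ∈ W, (∑ x ∈ K, ofG x) ^ m * w = 0 := by
  intro n
  induction n with
  | zero =>
    intro W hcard _ _
    exfalso
    have : 0 < (W : Set A).ncard := (Set.ncard_pos (Set.toFinite _)).2 ⟨0, W.zero_mem⟩
    omega
  | succ n ih =>
    intro W hcard hPW hKW
    by_cases hW : W = ⊥
    · refine ⟨0, fun w hw => ?_⟩
      rw [hW, AddSubgroup.mem_bot] at hw
      rw [hw, mul_zero]
    · obtain ⟨w0, hw0, hne, hfixw⟩ := exists_fixed_ne_zero P hP W hW hPW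
      have hKw0 : (∑ x ∈ K, ofG x) * w0 = 0 :=
        classSum_mul_fixed_eq_zero P hP K hK hfix w0 hfixw
      let T : A →+ A := AddMonoidHom.mulLeft (∑ x ∈ K, ofG x)
      have hlt : ((W.map T : AddSubgroup A) : Set A).ncard < (W : Set A).ncard := by
        rw [AddSubgroup.coe_map]
        have hle := Set.ncard_image_le (f := T) (Set.toFinite (W : Set A))
        rcases hle.lt_or_eq with h | h
        · exact h
        · exfalso
          have hinj := (Set.ncard_image_iff (Set.toFinite (W : Set A))).1 h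
          have hT : T w0 = T 0 := by
            show (∑ x ∈ K, ofG x) * w0 = (∑ x ∈ K, ofG x) * 0
            rw [hKw0, mul_zero]
          exact hne (hinj hw0 W.zero_mem hT)
      have hst1 : ∀ u ∈ P, ∀ w ∈ W.map T, ofG u * w ∈ W.map T := by
        rintro u hu _ ⟨w, hw, rfl⟩
        refine ⟨ofG u * w, hPW u hu w hw, ?_⟩
        show (∑ x ∈ K, ofG x) * (ofG u * w) = ofG u * ((∑ x ∈ K, ofG x) * w)
        rw [← mul_assoc, ← of_mul_sum_comm K hK u, mul_assoc]
      have hst2 : ∀ w ∈ W.map T, (∑ x ∈ K, ofG x) * w ∈ W.map T := by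
        rintro _ ⟨w, hw, rfl⟩
        exact ⟨(∑ x ∈ K, ofG x) * w, hKW w hw, rfl⟩
      obtain ⟨m, hm⟩ := ih (W.map T) (by omega) hst1 hst2
      refine ⟨m + 1, fun w hw => ?_⟩
      rw [pow_succ, mul_assoc]
      exact hm _ (AddSubgroup.mem_map_of_mem T hw)

theorem classSum_isNilpotent_zmod [Finite G] (P : Subgroup G) [P.Normal] (hP : IsPGroup p P)
    (K : Finset G) (hK : ∀ h x : G, x ∈ K → h * x * h⁻¹ ∈ K)
    (hfix : ∀ x ∈ K, ∃ u ∈ P, u * x * u⁻¹ ≠ x) :
    IsNilpotent (∑ x ∈ K, MonoidAlgebra.single x (1 : ZMod p) : MonoidAlgebra (ZMod p) G) := by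
  obtain ⟨m, hm⟩ := exists_pow_mul_eq_zero P hP K hK hfix
    ((⊤ : AddSubgroup A) : Set A).ncard ⊤ le_rfl (fun _ _ _ _ => trivial) (fun _ _ => trivial)
  refine ⟨m, ?_⟩
  have := hm 1 trivial
  rw [mul_one] at this
  simpa [MonoidAlgebra.of_apply] using this

/-- over an arbitrary field of characteristic `p` -/
theorem classSum_isNilpotent [Finite G] (F : Type*) [Field F] [CharP F p]
    (P : Subgroup G) [P.Normal] (hP : IsPGroup p P)
    (K : Finset G) (hK : ∀ h x : G, x ∈ K → h * x * h⁻¹ ∈ K)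
    (hfix : ∀ x ∈ K, ∃ u ∈ P, u * x * u⁻¹ ≠ x) :
    IsNilpotent (∑ x ∈ K, MonoidAlgebra.single x (1 : F) : MonoidAlgebra F G) := by
  have h := (classSum_isNilpotent_zmod (p := p) P hP K hK hfix).map
    (MonoidAlgebra.mapRingHom G (ZMod.castHom (dvd_refl p) F))
  simpa [map_sum] using h

end algebra

end Cfsg.Agent.helper25.ClassSum
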