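import Cfsg.Agent.Lib_helper25_Realized

set_option autoImplicit false

namespace Cfsg.Agent.helper25

open Cfsg Cfsg.FusionSystem

variable {Ω : Type*} [Group Ω] {S : Subgroup Ω} {G : Type*} [Group G]

/-- if conjugation by `g` restricted to the image of `Q` is the transport of an automorphism of `Q`,
then `g` normalizes the image of `Q`. -/
theorem mem_normalizer_im_of_aut {ι : S →* G} (_hι : Function.Injective ι) {Q : Subgroup Ω}
    (hQ : Q ≤ S) (α : MulAut Q) {g : G}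
    (hg : ∀ x : Q, ι ⟨(α x : Q), hQ (α x).2⟩ = g * ι ⟨x, hQ x.2⟩ * g⁻¹) :
    g ∈ Subgroup.normalizer ((im ι Q : Subgroup G) : Set G) := by
  rw [Subgroup.mem_normalizer_iff]
  intro h
  constructor
  · intro hh
    obtain ⟨s, hs, rfl⟩ := (mem_im_iff ι Q h).mp hh
    have h1 := hg ⟨s, hs⟩
    have h2 : g * ι s * g⁻¹ = ι ⟨(α ⟨s, hs⟩ : Q), hQ (α ⟨s, hs⟩).2⟩ := h1.symm
    rw [h2]
    exact mem_im ι (α ⟨s, hs⟩).2 _
  · intro hh
    obtain ⟨s, hs, he⟩ := (mem_im_iff ι Q _).mp hh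
    have h1 := hg (α.symm ⟨s, hs⟩)
    have h2 : (⟨(α (α.symm ⟨s, hs⟩) : Q), hQ (α (α.symm ⟨s, hs⟩)).2⟩ : S) = s := by
      apply Subtype.ext
      show ((α (α.symm ⟨s, hs⟩) : Q) : Ω) = s
      rw [MulEquiv.apply_symm_apply]
    rw [h2, he] at h1
    have h3 : h = ι ⟨(α.symm ⟨s, hs⟩ : Q), hQ (α.symm ⟨s, hs⟩).2⟩ :=
      mul_left_cancel (mul_right_cancel h1)
    rw [h3]
    exact mem_im ι (α.symm ⟨s, hs⟩).2 _

/-- the action of `N_G(ι Q)` on `Q`. -/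
noncomputable def imAutHom {ι : S →* G} (hι : Function.Injective ι) {Q : Subgroup Ω} (hQ : Q ≤ S) :
    Subgroup.normalizer ((im ι Q : Subgroup G) : Set G) →* MulAut Q :=
  (MulAut.congr (imEquiv hι hQ).symm).toMonoidHom.comp (im ι Q).normalizerMonoidHom

theorem imAutHom_spec {ι : S →* G} (hι : Function.Injective ι) {Q : Subgroup Ω} (hQ : Q ≤ S)
    (n : Subgroup.normalizer ((im ι Q : Subgroup G) : Set G)) (x : Q) :
    ι ⟨(imAutHom hι hQ n x : Q), hQ (imAutHom hι hQ n x).2⟩ =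
      (n : G) * ι ⟨x, hQ x.2⟩ * (n : G)⁻¹ := by
  have h1 : imAutHom hι hQ n x =
      (imEquiv hι hQ).symm ((im ι Q).normalizerMonoidHom n (imEquiv hι hQ x)) := rfl
  rw [← imEquiv_coe hι hQ (imAutHom hι hQ n x), h1, MulEquiv.apply_symm_apply,
    normalizerMonoidHom_coe, imEquiv_coe]

theorem imAutHom_mem_autGroup {F : FusionSystem S} {ι : S →* G} (hF : F.IsRealizedBy ι)
    {Q : Subgroup Ω} (hQ : Q ≤ S) (n : Subgroup.normalizer ((im ι Q : Subgroup G) : Set G)) :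
    imAutHom hF.1 hQ n ∈ F.autGroup Q := by
  apply Subgroup.subset_closure
  show Q.subtype.comp (imAutHom hF.1 hQ n).toMonoidHom ∈ F.Hom Q
  exact (hF.2 Q hQ _ (fun x => hQ (imAutHom hF.1 hQ n x).2)).mpr
    ⟨n, fun x => imAutHom_spec hF.1 hQ n x⟩

theorem autGroup_le_range_imAutHom {F : FusionSystem S} {ι : S →* G} (hF : F.IsRealizedBy ι)
    {Q : Subgroup Ω} (hQ : Q ≤ S) : F.autGroup Q ≤ (imAutHom hF.1 hQ).range := by
  unfold autGroup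
  rw [Subgroup.closure_le]
  intro α hα
  obtain ⟨g, hg⟩ := (hF.2 Q hQ _ (fun x => hQ (α x).2)).mp hα
  have hg' : ∀ x : Q, ι ⟨(α x : Q), hQ (α x).2⟩ = g * ι ⟨x, hQ x.2⟩ * g⁻¹ := hg
  have hgN := mem_normalizer_im_of_aut hF.1 hQ α hg'
  refine ⟨⟨g, hgN⟩, ?_⟩
  ext x
  have h1 := (imAutHom_spec hF.1 hQ ⟨g, hgN⟩ x).trans (hg' x).symm
  have h2 := congrArg Subtype.val (hF.1 h1)
  exact h2

theorem autInducedBy_eq_map_imAutHom {ι : S →* G} (hι : Function.Injective ι) {Q : Subgroup Ω}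
    (hQ : Q ≤ S) :
    autInducedBy S Q =
      ((ι.range ⊓ Subgroup.normalizer ((im ι Q : Subgroup G) : Set G)).subgroupOf
        (Subgroup.normalizer ((im ι Q : Subgroup G) : Set G))).map (imAutHom hι hQ) := by
  apply le_antisymm
  · unfold autInducedBy
    rw [Subgroup.closure_le]
    rintro α ⟨s, hsS, hs⟩
    have hg' : ∀ x : Q, ι ⟨(α x : Q), hQ (α x).2⟩ = ι ⟨s, hsS⟩ * ι ⟨x, hQ x.2⟩ * (ι ⟨s, hsS⟩)⁻¹ := by
      intro x
      rw [← map_inv, ← map_mul, ← map_mul]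
      congr 1
      apply Subtype.ext
      exact hs x
    have hgN := mem_normalizer_im_of_aut hι hQ α hg'
    refine ⟨⟨ι ⟨s, hsS⟩, hgN⟩, Subgroup.mem_subgroupOf.mpr ⟨⟨⟨s, hsS⟩, rfl⟩, hgN⟩, ?_⟩
    ext x
    have h1 := (imAutHom_spec hι hQ ⟨ι ⟨s, hsS⟩, hgN⟩ x).trans (hg' x).symm
    have h2 := congrArg Subtype.val (hι h1)
    exact h2
  · rintro _ ⟨n, hn, rfl⟩
    obtain ⟨⟨s, hs⟩, _⟩ := Subgroup.mem_subgroupOf.mp hn
    apply Subgroup.subset_closure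
    refine ⟨s, s.2, fun x => ?_⟩
    have h1 := imAutHom_spec hι hQ n x
    rw [← hs, ← map_inv, ← map_mul, ← map_mul] at h1
    have h2 := hι h1
    have h3 := congrArg Subtype.val h2
    exact h3

/-- `Q` is fully automized when `N_T(ι Q)` is Sylow in `N_G(ι Q)`. -/
theorem realized_fullyAutomized [Finite G] {p : ℕ} [Fact p.Prime] {F : FusionSystem S}
    {ι : S →* G} (hF : F.IsRealizedBy ι) {Q : Subgroup Ω} (hQ : Q ≤ S)
    (hs : IsSylowIn p (ι.range ⊓ Subgroup.normalizer ((im ι Q : Subgroup G) : Set G))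
      (Subgroup.normalizer ((im ι Q : Subgroup G) : Set G))) :
    F.IsFullyAutomized p Q := by
  refine ⟨hQ, ?_⟩
  obtain ⟨R₀, hR₀⟩ := hs
  let Φ' : Subgroup.normalizer ((im ι Q : Subgroup G) : Set G) →* ↥(F.autGroup Q) :=
    (imAutHom hF.1 hQ).codRestrict _ (imAutHom_mem_autGroup hF hQ)
  have hsurj : Function.Surjective Φ' := by
    rintro ⟨α, hα⟩
    obtain ⟨n, hn⟩ := autGroup_le_range_imAutHom hF hQ hα
    exact ⟨n, Subtype.ext hn⟩
  refine ⟨R₀.mapSurjective hsurj, ?_⟩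
  rw [Sylow.coe_mapSurjective, hR₀]
  ext α
  rw [Subgroup.mem_subgroupOf, autInducedBy_eq_map_imAutHom hF.1 hQ]
  constructor
  · rintro ⟨n, hn, rfl⟩
    exact ⟨n, hn, rfl⟩
  · rintro ⟨n, hn, hnα⟩
    exact ⟨n, hn, Subtype.ext hnα⟩

/-- `Q` is receptive when `N_T(ι Q)` is Sylow in `N_G(ι Q)`. -/
theorem realized_receptive [Finite G] {p : ℕ} [Fact p.Prime] {F : FusionSystem S}
    {ι : S →* G} (hF : F.IsRealizedBy ι) (hT : IsPGroup p ι.range) {Q : Subgroup Ω} (hQ : Q ≤ S)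
    (hs : IsSylowIn p (ι.range ⊓ Subgroup.normalizer ((im ι Q : Subgroup G) : Set G))
      (Subgroup.normalizer ((im ι Q : Subgroup G) : Set G))) :
    F.IsReceptive Q := by
  refine ⟨hQ, ?_⟩
  intro P φ hφ hrange
  obtain ⟨hP, hφS, g, hg⟩ := exists_of_mem_hom hF hφ
  have himQ : im ι Q = cj g (im ι P) := by rw [← hrange]; exact im_range hP hφS hg
  have hES : extender S P φ ≤ S := by
    unfold extender; rw [Subgroup.closure_le]; intro a ha; exact ha.1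
  have hEM : extender S P φ ≤
      (((ι.range ⊓ Subgroup.normalizer ((im ι Q : Subgroup G) : Set G)) ⊔
        Subgroup.centralizer ((im ι Q : Subgroup G) : Set G)).comap
          ((MulAut.conj g).toMonoidHom.comp ι)).map S.subtype := by
    unfold extender
    rw [Subgroup.closure_le]
    rintro a ⟨haS, haN, h, hhS, hh⟩
    refine ⟨⟨a, haS⟩, Subgroup.mem_comap.mpr ?_, rfl⟩
    change g * ι ⟨a, haS⟩ * g⁻¹ ∈ (ι.range ⊓ Subgroup.normalizer ((im ι Q : Subgroup G) : Set G)) ⊔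
        Subgroup.centralizer ((im ι Q : Subgroup G) : Set G)
    have hta : g * ι ⟨a, haS⟩ * g⁻¹ ∈ Subgroup.normalizer ((im ι Q : Subgroup G) : Set G) := by
      rw [himQ, ← cj_normalizer]
      exact conj_mem_cj g _ (im_normalizer ι haS haN)
    have hc : (ι ⟨h, hhS⟩)⁻¹ * (g * ι ⟨a, haS⟩ * g⁻¹) ∈
        Subgroup.centralizer ((im ι Q : Subgroup G) : Set G) := by
      rw [Subgroup.mem_centralizer_iff]
      intro y hy
      rw [SetLike.mem_coe, himQ] at hy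
      obtain ⟨z, hz, rfl⟩ := hy
      obtain ⟨s, hsP, rfl⟩ := (mem_im_iff ι P z).mp hz
      have hx : a * (s : Ω) * a⁻¹ ∈ P := (Subgroup.mem_normalizer_iff.mp haN s).mp hsP
      have h1 := hh ⟨s, hsP⟩ hx
      have h2 : ι ⟨φ ⟨a * (s : Ω) * a⁻¹, hx⟩, hφS _⟩ =
          ι ⟨h, hhS⟩ * ι ⟨φ ⟨s, hsP⟩, hφS _⟩ * (ι ⟨h, hhS⟩)⁻¹ := by
        rw [← map_inv, ← map_mul, ← map_mul]
        congr 1
        apply Subtype.ext
        exact h1
      have h3 : ι ⟨φ ⟨a * (s : Ω) * a⁻¹, hx⟩, hφS _⟩ =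
          g * (ι ⟨a, haS⟩ * ι s * (ι ⟨a, haS⟩)⁻¹) * g⁻¹ := by
        rw [hg, ← map_inv, ← map_mul, ← map_mul]
        rfl
      have h4 : ι ⟨φ ⟨s, hsP⟩, hφS _⟩ = g * ι s * g⁻¹ := by
        rw [hg]
      rw [h3, h4] at h2
      show g * ι s * g⁻¹ * ((ι ⟨h, hhS⟩)⁻¹ * (g * ι ⟨a, haS⟩ * g⁻¹)) =
        (ι ⟨h, hhS⟩)⁻¹ * (g * ι ⟨a, haS⟩ * g⁻¹) * (g * ι s * g⁻¹)
      have h5 : g * ι ⟨a, haS⟩ * g⁻¹ * (g * ι s * g⁻¹) =
          ι ⟨h, hhS⟩ * (g * ι s * g⁻¹) * (ι ⟨h, hhS⟩)⁻¹ * (g * ι ⟨a, haS⟩ * g⁻¹) := by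
        rw [← h2]; group
      rw [mul_assoc ((ι ⟨h, hhS⟩)⁻¹), h5]
      group
    have hth : ι ⟨h, hhS⟩ ∈ Subgroup.normalizer ((im ι Q : Subgroup G) : Set G) := by
      have h1 := mul_mem hta (inv_mem (Subgroup.centralizer_le_normalizer _ hc))
      have e : g * ι ⟨a, haS⟩ * g⁻¹ * ((ι ⟨h, hhS⟩)⁻¹ * (g * ι ⟨a, haS⟩ * g⁻¹))⁻¹ = ι ⟨h, hhS⟩ := by
        group
      rwa [e] at h1
    have e : g * ι ⟨a, haS⟩ * g⁻¹ =
        ι ⟨h, hhS⟩ * ((ι ⟨h, hhS⟩)⁻¹ * (g * ι ⟨a, haS⟩ * g⁻¹)) := by group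
    rw [e]
    exact Subgroup.mul_mem_sup ⟨⟨⟨h, hhS⟩, rfl⟩, hth⟩ hc
  have hXM : cj g (im ι (extender S P φ)) ≤
      (ι.range ⊓ Subgroup.normalizer ((im ι Q : Subgroup G) : Set G)) ⊔
        Subgroup.centralizer ((im ι Q : Subgroup G) : Set G) := by
    rintro _ ⟨z, hz, rfl⟩
    obtain ⟨s, hs, rfl⟩ := (mem_im_iff ι _ z).mp hz
    obtain ⟨s', hs', he⟩ := hEM hs
    have : s' = s := Subtype.ext he
    rw [this] at hs'
    exact hs'
  have hXp : IsPGroup p (cj g (im ι (extender S P φ))) :=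
    IsPGroup_cj g (hT.to_le (im_le_range ι _))
  obtain ⟨c, hc, hcX⟩ := exists_centralizer_cj_le hs hXp hXM
  rw [cj_cj] at hcX
  obtain ⟨ψ, hψS, hψ, hψι⟩ := exists_hom_of_cj_le hF hES (hcX.trans inf_le_left)
  refine ⟨ψ, hψ, ?_⟩
  intro x hxP hxN
  have h1 := hψι ⟨x, hxN⟩
  have h2 := hg ⟨x, hxP⟩
  have h3 : ι ⟨φ ⟨x, hxP⟩, hφS _⟩ ∈ im ι Q := by
    rw [← hrange]; exact mem_im ι (P := φ.range) ⟨⟨x, hxP⟩, rfl⟩ (hφS _)
  have h4 := Subgroup.mem_centralizer_iff.mp hc _ h3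
  have h5 : ι ⟨ψ ⟨x, hxN⟩, hψS _⟩ = ι ⟨φ ⟨x, hxP⟩, hφS _⟩ := by
    rw [h1]
    have e : c * g * ι ⟨x, hES hxN⟩ * (c * g)⁻¹ = c * (g * ι ⟨x, hP hxP⟩ * g⁻¹) * c⁻¹ := by group
    rw [e, ← h2, ← h4]
    group
  exact congrArg Subtype.val (hF.1 h5)

/-- a system realized by a finite group on a Sylow subgroup is saturated. -/
theorem realized_isSaturated [Finite G] {p : ℕ} [Fact p.Prime] {F : FusionSystem S} {ι : S →* G}
    (hF : F.IsRealizedBy ι) (T : Sylow p G) (hT : (T : Subgroup G) = ι.range) :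
    F.IsSaturated p := by
  intro P hP
  have hPT : im ι P ≤ T := hT ▸ im_le_range ι P
  obtain ⟨g, hgT, hs⟩ := exists_cj_normalizer_sylow T hPT
  rw [hT] at hgT hs
  obtain ⟨φ, hφS, hφ, hφι⟩ := exists_hom_of_cj_le hF hP hgT
  have him : im ι φ.range = cj g (im ι P) := im_range hP hφS hφι
  have hQ : φ.range ≤ S := by rintro _ ⟨x, rfl⟩; exact hφS x
  rw [← him] at hs
  have hTp : IsPGroup p ι.range := hT ▸ T.isPGroup'
  exact ⟨φ.range, ⟨φ, hφ, rfl⟩, realized_fullyAutomized hF hQ hs,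
    realized_receptive hF hTp hQ hs⟩

theorem groupFS_isRealizedBy (S : Subgroup G) : (groupFusionSystem S).IsRealizedBy S.subtype := by
  refine ⟨S.subtype_injective, ?_⟩
  intro P hP φ hφ
  exact ⟨fun h => h.2.2, fun h => ⟨hP, hφ, h⟩⟩

theorem groupFS_isSaturated [Finite G] {p : ℕ} [Fact p.Prime] (S : Sylow p G) :
    (groupFusionSystem (S : Subgroup G)).IsSaturated p :=
  realized_isSaturated (groupFS_isRealizedBy (S : Subgroup G)) S (S : Subgroup G).range_subtype.symm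

end Cfsg.Agent.helper25
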