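import Cfsg.Agent.Lib_helper25_CentricExt
import Cfsg.Agent.Lib_helper25_Saturated

set_option autoImplicit false
set_option linter.style.haveILetI false
set_option linter.unusedVariables false

namespace Cfsg.Agent.helper25

open Cfsg Cfsg.FusionSystem
open scoped commutatorElement

theorem isChainStab_chain3_bot {G : Type*} [Group G] (A : Subgroup G) (β : MulAut G) :
    IsChainStab (chain3 ⊥ A) β ↔ (∀ x ∈ A, β x = x) ∧ ∀ x : G, x⁻¹ * β x ∈ A := by
  constructor
  · intro h
    constructor
    · intro x hx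
      have h0 := h 0 x (by show x ∈ chain3 ⊥ A 1; rw [chain3_one]; exact hx)
      rw [chain3_zero, Subgroup.mem_bot] at h0
      calc β x = x * (x⁻¹ * β x) := by group
        _ = x := by rw [h0, mul_one]
    · intro x
      have h1 := h 1 x (by show x ∈ chain3 ⊥ A 2; rw [chain3_ge _ _ (le_refl 2)]; exact Subgroup.mem_top _)
      rwa [chain3_one] at h1
  · rintro ⟨h0, h1⟩ i x hx
    rcases Nat.eq_zero_or_pos i with rfl | hi
    · rw [chain3_zero, Subgroup.mem_bot]
      have hx' : x ∈ A := by
        have : x ∈ chain3 ⊥ A 1 := hx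
        rwa [chain3_one] at this
      rw [h0 x hx', inv_mul_cancel]
    · rcases Nat.lt_or_ge i 2 with h2 | h2
      · have : i = 1 := by omega
        subst this
        rw [chain3_one]; exact h1 x
      · rw [chain3_ge _ _ h2]; exact Subgroup.mem_top _

variable {G : Type*} [Group G]

theorem class_two_fusion [Finite G] {p : ℕ} [Fact p.Prime] (T : Subgroup G) (hTp : IsPGroup p T)
    (hsat : (groupFusionSystem T).IsSaturated p)
    (hcl : ⁅T, T⁆ ≤ T ⊓ Subgroup.centralizer (T : Set G))
    (hZ : Cfsg.IsStronglyClosed (T ⊓ Subgroup.centralizer (T : Set G)) T) :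
    ∀ P : Subgroup G, (groupFusionSystem T).Hom P ⊆
      (fusionSystemOfSubgroup (Subgroup.normalizer (T : Set G)) T Subgroup.le_normalizer).Hom P := by
  apply alperin_ind hTp (groupFusionSystem T) hsat
  intro P hP IH
  by_cases hPT : P = T
  · rw [hPT]
    intro α hα
    have hα' := (mem_autGroup_iff (groupFusionSystem T) le_rfl α).mp hα
    obtain ⟨-, -, g, hg⟩ := hα'
    have hgN : g ∈ Subgroup.normalizer (T : Set G) := mem_normalizer_of_aut α hg
    apply Subgroup.subset_closure
    exact ⟨le_rfl, fun x => (α x).2, g, hgN, hg⟩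
  · have hess : (groupFusionSystem T).IsEssential p P := hP.resolve_left hPT
    have hPc := hess.1
    have hPS : P ≤ T := hPc.1
    have hPlt : P < T := lt_of_le_of_ne hPS hPT
    have hPn := hess.2.1
    obtain ⟨hPfc, hPfa⟩ := fullyNormalized_imp hTp _ hsat hPn
    have hPrec := receptive_of_fullyCentralized hTp _ hsat hPfc
    haveI : Finite P := finite_of_le T hPS
    have hPp : IsPGroup p P := hTp.to_le hPS
    have hZP : T ⊓ Subgroup.centralizer (T : Set G) ≤ P := by
      intro z hz
      apply hPc.2 P (isConj_refl _ hPS)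
      exact ⟨hz.1, Subgroup.centralizer_le (fun y hy => hPS hy) hz.2⟩
    have hPN : T ≤ Subgroup.normalizer (P : Set G) := by
      apply le_normalizer_of_conj_mem
      intro s hs y hy
      have e : s * y * s⁻¹ = ⁅s, y⁆ * y := by rw [commutatorElement_def]; group
      rw [e]
      exact P.mul_mem (hZP (hcl (Subgroup.commutator_mem_commutator hs (hPS hy)))) hy
    have hmono : Monotone (chain3 (⊥ : Subgroup P)
        ((T ⊓ Subgroup.centralizer (T : Set G)).subgroupOf P)) := chain3_mono bot_le
    have hHK : autInducedBy T P ≤ (groupFusionSystem T).autGroup P :=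
      autInducedBy_le_autGroup _ hPS
    -- the chain stabilizer inside Aut_F(P)
    have hMle : chainStabSubgroup (chain3 (⊥ : Subgroup P)
        ((T ⊓ Subgroup.centralizer (T : Set G)).subgroupOf P)) hmono ⊓
        (groupFusionSystem T).autGroup P ≤ (groupFusionSystem T).autGroup P := inf_le_right
    have hTM : autInducedBy T P ≤ chainStabSubgroup (chain3 (⊥ : Subgroup P)
        ((T ⊓ Subgroup.centralizer (T : Set G)).subgroupOf P)) hmono ⊓
        (groupFusionSystem T).autGroup P := by
      intro t ht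
      refine ⟨?_, hHK ht⟩
      obtain ⟨g, hg, hgt⟩ := (mem_autInducedBy_iff T P t).mp ht
      show IsChainStab _ t
      rw [isChainStab_chain3_bot]
      constructor
      · intro x hx
        have hxZ : (x : G) ∈ T ⊓ Subgroup.centralizer (T : Set G) := Subgroup.mem_subgroupOf.mp hx
        apply Subtype.ext
        rw [hgt x]
        have := hxZ.2 g hg
        calc g * (x : G) * g⁻¹ = (x : G) * g * g⁻¹ := by rw [this]
          _ = x := by group
      · intro x
        rw [Subgroup.mem_subgroupOf, Subgroup.coe_mul, Subgroup.coe_inv, hgt x]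
        have e : (x : G)⁻¹ * (g * x * g⁻¹) = ⁅(x : G)⁻¹, g⁆ := by
          rw [commutatorElement_def]; group
        rw [e]
        exact hcl (Subgroup.commutator_mem_commutator (T.inv_mem (hPS x.2)) hg)
    have hMp : IsPGroup p (chainStabSubgroup (chain3 (⊥ : Subgroup P)
        ((T ⊓ Subgroup.centralizer (T : Set G)).subgroupOf P)) hmono ⊓
        (groupFusionSystem T).autGroup P : Subgroup (MulAut P)) := by
      intro β
      have hstab : IsChainStab (chain3 (⊥ : Subgroup P)
          ((T ⊓ Subgroup.centralizer (T : Set G)).subgroupOf P)) (β : MulAut P) := β.2.1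
      obtain ⟨k, hk⟩ := IsChainStab.exists_pow_eq_one hPp hmono hstab
        ⟨0, fun x hx => by
          rw [chain3_zero, Subgroup.mem_bot] at hx
          rw [hx, map_one]⟩ (chain3_ge _ _ (le_refl 2))
      refine ⟨k, ?_⟩
      apply Subtype.ext
      show ((β : MulAut P)) ^ (p ^ k) = 1
      exact hk
    have hsyl : IsSylowIn p (autInducedBy T P) ((groupFusionSystem T).autGroup P) := hPfa.2
    have hMeq : autInducedBy T P = chainStabSubgroup (chain3 (⊥ : Subgroup P)
        ((T ⊓ Subgroup.centralizer (T : Set G)).subgroupOf P)) hmono ⊓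
        (groupFusionSystem T).autGroup P := by
      apply Subgroup.eq_of_le_of_card_ge hTM
      rw [(isSylowIn_iff_card hHK).mp hsyl]
      exact card_le_of_isPGroup_le hMle hMp
    have hainv : ∀ a ∈ (groupFusionSystem T).autGroup P, ∀ i,
        ∀ x ∈ chain3 (⊥ : Subgroup P) ((T ⊓ Subgroup.centralizer (T : Set G)).subgroupOf P) i,
          a x ∈ chain3 (⊥ : Subgroup P)
            ((T ⊓ Subgroup.centralizer (T : Set G)).subgroupOf P) i := by
      intro a ha i x hx
      rcases Nat.lt_or_ge i 2 with h2 | h2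
      · interval_cases i
        · rw [chain3_zero, Subgroup.mem_bot] at hx ⊢
          rw [hx, map_one]
        · rw [chain3_one] at hx ⊢
          have hxZ : (x : G) ∈ T ⊓ Subgroup.centralizer (T : Set G) :=
            Subgroup.mem_subgroupOf.mp hx
          obtain ⟨-, -, g', hg'⟩ := (mem_autGroup_iff (groupFusionSystem T) hPS a).mp ha
          rw [Subgroup.mem_subgroupOf]
          have h3 : ((a x : P) : G) = g' * x * g'⁻¹ := hg' x
          rw [h3]
          apply hZ.2 x hxZ g'
          rw [← h3]; exact hPS (a x).2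
      · rw [chain3_ge _ _ h2]; exact Subgroup.mem_top _
    obtain ⟨g, hgT, hgP⟩ := SetLike.exists_of_lt hPlt
    have hgN : g ∈ normalizerIn T P := ⟨hgT, hPN hgT⟩
    intro α hα
    refine aut_mem_of_extender _ _ hPrec IH hα ?_ hgP
    apply mem_extender_of_aut α hgN
    have hαi : α⁻¹ ∈ (groupFusionSystem T).autGroup P := Subgroup.inv_mem _ hα
    have h1 : normAut P g hgN.2 ∈ chainStabSubgroup (chain3 (⊥ : Subgroup P)
        ((T ⊓ Subgroup.centralizer (T : Set G)).subgroupOf P)) hmono ⊓
        (groupFusionSystem T).autGroup P := hTM (normAut_mem T P hgN)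
    rw [hMeq]
    exact ⟨IsChainStab.conj h1.1 (hainv α hα) (hainv α⁻¹ hαi),
      Subgroup.mul_mem _ (Subgroup.mul_mem _ hα h1.2) hαi⟩

theorem class_two_core [Finite G] {p : ℕ} [Fact p.Prime] (T : Subgroup G)
    (h : ∀ (P : Subgroup G) (φ : P →* G), φ ∈ (groupFusionSystem T).Hom P →
      ∃ g ∈ Subgroup.normalizer (T : Set G), ∀ x : P, φ x = g * (x : G) * g⁻¹) :
    (groupFusionSystem T).core = T := by
  apply le_antisymm
  · exact sSup_le (fun Q hQ => hQ.1)
  · apply le_sSup
    refine ⟨le_rfl, ?_⟩
    intro P φ hφ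
    obtain ⟨g, hg, hφg⟩ := h P φ hφ
    have hPT : P ≤ T := hφ.1
    have hsup : P ⊔ T ≤ T := sup_le hPT le_rfl
    have hconj : ∀ y ∈ T, g * y * g⁻¹ ∈ T := fun y hy =>
      (Subgroup.mem_normalizer_iff.mp hg y).mp hy
    refine ⟨conjHom (P ⊔ T) g, ⟨hsup, fun x => hconj _ (hsup x.2), g, fun x => rfl⟩,
      fun x => (hφg x).symm, ?_⟩
    ext y
    constructor
    · rintro ⟨x, hx, rfl⟩
      exact hconj _ (Subgroup.mem_subgroupOf.mp hx)
    · intro hy
      have hy' : g⁻¹ * y * g ∈ T := by
        have := (Subgroup.mem_normalizer_iff.mp (Subgroup.inv_mem _ hg) y).mp hy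
        rwa [inv_inv] at this
      refine ⟨⟨g⁻¹ * y * g, (le_sup_right : T ≤ P ⊔ T) hy'⟩, Subgroup.mem_subgroupOf.mpr hy', ?_⟩
      show g * (g⁻¹ * y * g) * g⁻¹ = y
      group

end Cfsg.Agent.helper25
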