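import Cfsg.Agent.Lib_helper25_AlperinSC

set_option autoImplicit false
set_option linter.style.haveILetI false
set_option linter.unusedVariables false

namespace Cfsg.Agent.helper25

open Cfsg Cfsg.FusionSystem

variable {Ω : Type*} [Group Ω] {S : Subgroup Ω}

theorem exists_mul_of_mem_sup {P T : Subgroup Ω} (hPT : P ≤ Subgroup.normalizer (T : Set Ω))
    {y : Ω} (hy : y ∈ P ⊔ T) : ∃ a ∈ P, ∃ t ∈ T, a * t = y := by
  have h := Subgroup.coe_mul_of_left_le_normalizer_right P T hPT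
  have hy' : y ∈ ((P ⊔ T : Subgroup Ω) : Set Ω) := hy
  rw [h] at hy'
  exact Set.mem_mul.mp hy'

/-- `φ` is a map of the system that extends, modulo `T`, to `P ⊔ T`. -/
def ExtMod (F : FusionSystem S) (T P : Subgroup Ω) (φ : P →* Ω) : Prop :=
  φ ∈ F.Hom P ∧ ∃ ψ ∈ F.Hom (P ⊔ T),
    ∀ x : P, (φ x)⁻¹ * ψ (Subgroup.inclusion le_sup_left x) ∈ T

theorem extMod_map_mem (F : FusionSystem S) {T P Q : Subgroup Ω} (hT : F.StronglyClosed T)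
    {φ : P →* Ω} (hφ : φ ∈ F.Hom P) {ψ : ↥(P ⊔ T) →* Ω} (hψ : ψ ∈ F.Hom (P ⊔ T))
    (hψφ : ∀ x : P, (φ x)⁻¹ * ψ (Subgroup.inclusion le_sup_left x) ∈ T)
    (hφQ : ∀ x : P, φ x ∈ Q) (y : ↥(P ⊔ T)) : ψ y ∈ Q ⊔ T := by
  have hPS : P ≤ S := (F.le_of_mem hφ).1
  have hPN : P ≤ Subgroup.normalizer (T : Set Ω) := hPS.trans (stronglyClosed_le_normalizer F hT)
  obtain ⟨a, ha, t, ht, hat⟩ := exists_mul_of_mem_sup hPN y.2
  have e : y = Subgroup.inclusion le_sup_left ⟨a, ha⟩ *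
      (⟨t, (le_sup_right : T ≤ P ⊔ T) ht⟩ : ↥(P ⊔ T)) := Subtype.ext hat.symm
  rw [e, map_mul]
  have h1 : ψ (Subgroup.inclusion le_sup_left ⟨a, ha⟩) ∈ Q ⊔ T := by
    have e1 : ψ (Subgroup.inclusion le_sup_left ⟨a, ha⟩) =
        φ ⟨a, ha⟩ * ((φ ⟨a, ha⟩)⁻¹ * ψ (Subgroup.inclusion le_sup_left ⟨a, ha⟩)) := by group
    rw [e1]
    exact Subgroup.mul_mem _ (Subgroup.mem_sup_left (hφQ _)) (Subgroup.mem_sup_right (hψφ _))
  have h2 : ψ (⟨t, (le_sup_right : T ≤ P ⊔ T) ht⟩ : ↥(P ⊔ T)) ∈ Q ⊔ T :=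
    Subgroup.mem_sup_right (stronglyClosed_hom_mem F hT hψ (x := ⟨t, _⟩) ht)
  exact Subgroup.mul_mem _ h1 h2

theorem ExtMod.conj (F : FusionSystem S) {T P : Subgroup Ω} (hT : T ≤ S) {g : Ω} (hP : P ≤ S)
    (hg : g ∈ S) : ExtMod F T P (conjHom P g) := by
  refine ⟨F.conj_mem hP hg, conjHom (P ⊔ T) g, F.conj_mem (sup_le hP hT) hg, fun x => ?_⟩
  show (g * (x : Ω) * g⁻¹)⁻¹ * (g * (x : Ω) * g⁻¹) ∈ T
  rw [inv_mul_cancel]; exact T.one_mem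

theorem ExtMod.comp (F : FusionSystem S) {T P Q : Subgroup Ω} (hT : F.StronglyClosed T)
    {φ : P →* Ω} {φ₂ : Q →* Ω} (h₁ : ExtMod F T P φ) (h₂ : ExtMod F T Q φ₂)
    (h : ∀ x : P, φ x ∈ Q) : ExtMod F T P (φ₂.comp (φ.codRestrict Q h)) := by
  obtain ⟨hφ, ψ₁, hψ₁, hψφ₁⟩ := h₁
  obtain ⟨hφ₂, ψ₂, hψ₂, hψφ₂⟩ := h₂
  have hmap := extMod_map_mem F hT hφ hψ₁ hψφ₁ h
  refine ⟨F.comp_mem hφ hφ₂ h, ψ₂.comp (ψ₁.codRestrict _ hmap), F.comp_mem hψ₁ hψ₂ hmap,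
    fun x => ?_⟩
  show (φ₂ ⟨φ x, h x⟩)⁻¹ * ψ₂ ⟨ψ₁ (Subgroup.inclusion le_sup_left x), hmap _⟩ ∈ T
  have ht : (φ x)⁻¹ * ψ₁ (Subgroup.inclusion le_sup_left x) ∈ T := hψφ₁ x
  have e : (⟨ψ₁ (Subgroup.inclusion le_sup_left x), hmap _⟩ : ↥(Q ⊔ T)) =
      Subgroup.inclusion le_sup_left (⟨φ x, h x⟩ : Q) *
        ⟨(φ x)⁻¹ * ψ₁ (Subgroup.inclusion le_sup_left x), (le_sup_right : T ≤ Q ⊔ T) ht⟩ := by
    apply Subtype.ext
    show ψ₁ (Subgroup.inclusion le_sup_left x) =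
      φ x * ((φ x)⁻¹ * ψ₁ (Subgroup.inclusion le_sup_left x))
    group
  rw [e, map_mul, ← mul_assoc]
  exact T.mul_mem (hψφ₂ ⟨φ x, h x⟩)
    (stronglyClosed_hom_mem F hT hψ₂ (x := ⟨_, (le_sup_right : T ≤ Q ⊔ T) ht⟩) ht)

theorem ExtMod.inv [Finite S] (F : FusionSystem S) {T P : Subgroup Ω}
    (hT : F.StronglyClosed T) {φ : P →* Ω} (h₁ : ExtMod F T P φ) :
    ∃ χ : φ.range →* Ω, ExtMod F T φ.range χ ∧ ∀ x : P, χ ⟨φ x, ⟨x, rfl⟩⟩ = (x : Ω) := by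
  obtain ⟨hφ, ψ₁, hψ₁, hψφ₁⟩ := h₁
  obtain ⟨χ, hχ, hχφ⟩ := F.inv_mem hφ
  obtain ⟨ρ, hρ, hρψ⟩ := F.inv_mem hψ₁
  have hTle : T ≤ P ⊔ T := le_sup_right
  -- the range of `ψ₁` contains `φ.range ⊔ T`
  have hφle : ∀ x : P, ∃ w : ↥(P ⊔ T), ψ₁ w = φ x ∧
      ((Subgroup.inclusion le_sup_left x)⁻¹ * w : ↥(P ⊔ T)).1 ∈ T := by
    intro x
    have ht : (φ x)⁻¹ * ψ₁ (Subgroup.inclusion le_sup_left x) ∈ T := hψφ₁ x
    obtain ⟨t₀, ht₀, ht₀e⟩ := stronglyClosed_hom_surj F hT hTle hψ₁ (T.inv_mem ht)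
    refine ⟨Subgroup.inclusion le_sup_left x * t₀, ?_, ?_⟩
    · rw [map_mul, ht₀e]; group
    · rw [inv_mul_cancel_left]; exact ht₀
  have hle : φ.range ⊔ T ≤ ψ₁.range := by
    apply sup_le
    · rintro _ ⟨x, rfl⟩
      obtain ⟨w, hw, -⟩ := hφle x
      exact ⟨w, hw⟩
    · intro t ht
      obtain ⟨t₀, -, ht₀e⟩ := stronglyClosed_hom_surj F hT hTle hψ₁ ht
      exact ⟨t₀, ht₀e⟩
  refine ⟨χ, ⟨hχ, ρ.comp (Subgroup.inclusion hle), restrict_mem F hle hρ, ?_⟩, hχφ⟩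
  rintro ⟨_, x, rfl⟩
  obtain ⟨w, hw, hwT⟩ := hφle x
  show (χ ⟨φ x, ⟨x, rfl⟩⟩)⁻¹ * ρ ⟨φ x, _⟩ ∈ T
  have e : (⟨φ x, hle (Subgroup.mem_sup_left ⟨x, rfl⟩)⟩ : ψ₁.range) = ⟨ψ₁ w, ⟨w, rfl⟩⟩ :=
    Subtype.ext hw.symm
  rw [hχφ x, e, hρψ w]
  exact hwT

/-- the subsystem of the maps that extend modulo `T`. -/
def extSystem [Finite S] (F : FusionSystem S) (T : Subgroup Ω) (hT : F.StronglyClosed T) :
    FusionSystem S where
  Hom P := {φ | ExtMod F T P φ}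
  le_of_mem h := F.le_of_mem h.1
  injective_of_mem h := F.injective_of_mem h.1
  conj_mem hP hg := ExtMod.conj F hT.1 hP hg
  comp_mem h₁ h₂ h := ExtMod.comp F hT h₁ h₂ h
  inv_mem h := by
    obtain ⟨χ, hχ, hx⟩ := ExtMod.inv F hT h
    exact ⟨χ, hχ, hx⟩

/-- in a saturated fusion system every map extends, modulo a strongly closed subgroup `T`, to
the product of its source with `T`. -/
theorem exists_extMod [Finite S] {p : ℕ} [Fact p.Prime] (hS : IsPGroup p S)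
    (F : FusionSystem S) (hF : F.IsSaturated p) {T : Subgroup Ω} (hT : F.StronglyClosed T)
    {P : Subgroup Ω} {φ : P →* Ω} (hφ : φ ∈ F.Hom P) : ExtMod F T P φ := by
  have key := alperin_stronglyClosed hS F hF hT (extSystem F T hT) ?_ ?_ P hφ
  · exact key
  · intro P hPS hTP α hα
    apply Subgroup.subset_closure
    have hα' : IsFIso F α := (mem_autGroup_iff F hPS α).mp hα
    have hsup : P ⊔ T = P := sup_eq_left.mpr hTP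
    refine ⟨hα', _, hom_congr F hsup.symm hα', fun x => ?_⟩
    show ((α x : P) : Ω)⁻¹ * ((α ⟨x, _⟩ : P) : Ω) ∈ T
    rw [inv_mul_cancel]; exact T.one_mem
  · intro P hPS c hc hcT
    apply Subgroup.subset_closure
    have hc' : IsFIso F c := (mem_autGroup_iff F hPS c).mp hc
    refine ⟨hc', (P ⊔ T).subtype, subtype_mem F (sup_le hPS hT.1), fun x => ?_⟩
    show ((c x : P) : Ω)⁻¹ * (x : Ω) ∈ T
    have h := T.inv_mem (hcT x)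
    rw [Subgroup.coe_mul, Subgroup.coe_inv, mul_inv_rev, inv_inv] at h
    exact h

end Cfsg.Agent.helper25
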