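import Cfsg.Agent.Lib_helper25_Frat3

set_option autoImplicit false
set_option linter.style.haveILetI false
set_option linter.unusedVariables false
set_option maxHeartbeats 1000000

namespace Cfsg.Agent.helper25

open Cfsg Cfsg.FusionSystem

variable {Ω : Type*} [Group Ω] {S : Subgroup Ω}

/-- an invariant subsystem satisfies the strong invariance condition. -/
theorem strongInv_of_invariant {T : Subgroup Ω} {E : FusionSystem T} {F : FusionSystem S}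
    (hE : E.IsInvariantIn F) : StrongInv E F := by
  obtain ⟨hEF, hT, hinv, hfr⟩ := hE
  have hinv' : AutInv E F := hinv
  intro P Q hPQ hQT φ hφ hφQ ψ hψ
  obtain ⟨α, hα, ψ₀, hψ₀, hψeq⟩ := hfr Q hQT ψ hψ
  have hψ₀T : ∀ y, ψ₀ y ∈ T := (E.le_of_mem hψ₀).2
  have hψ₀P : ψ₀.comp (Subgroup.inclusion hPQ) ∈ E.Hom P := restrict_mem E hPQ hψ₀
  obtain ⟨θ, hθ, hθr, hθφ, -⟩ := exists_inv_hom E hψ₀P rfl
  have hθP : ∀ y, θ y ∈ P := fun y => hθr.le ⟨y, rfl⟩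
  have h1 := E.comp_mem hθ hφ hθP
  have hval : ∀ y, (φ.comp (θ.codRestrict P hθP)) y ∈ Q := fun y => hφQ _
  have hζ := E.comp_mem h1 hψ₀ hval
  have hrT : (ψ₀.comp (Subgroup.inclusion hPQ)).range ≤ T := by
    rintro _ ⟨x, rfl⟩; exact hψ₀T _
  obtain ⟨χ, hχ, hχeq⟩ := hinv'.apply hrT hζ hα
  have heq : helper26.autMap α (ψ₀.comp (Subgroup.inclusion hPQ)).range =
      (P.subgroupOf Q).map ψ := by
    ext y
    rw [helper26.mem_autMap]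
    constructor
    · rintro ⟨t, ⟨x, hx⟩, rfl⟩
      have h2 : t = ⟨ψ₀ (Subgroup.inclusion hPQ x), hψ₀T _⟩ := Subtype.ext hx.symm
      rw [h2, ← hψeq (Subgroup.inclusion hPQ x) (hψ₀T _)]
      exact ⟨Subgroup.inclusion hPQ x, Subgroup.mem_subgroupOf.mpr x.2, rfl⟩
    · rintro ⟨z, hz, rfl⟩
      refine ⟨⟨ψ₀ z, hψ₀T z⟩, ⟨⟨z, Subgroup.mem_subgroupOf.mp hz⟩, rfl⟩, ?_⟩
      exact (hψeq z (hψ₀T z)).symm
  refine ⟨χ.comp (Subgroup.inclusion heq.ge), hom_congr E heq hχ, ?_⟩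
  intro x hx
  have hmem : ψ₀ (Subgroup.inclusion hPQ x) ∈ (ψ₀.comp (Subgroup.inclusion hPQ)).range :=
    ⟨x, rfl⟩
  have hζapply : (ψ₀.comp ((φ.comp (θ.codRestrict P hθP)).codRestrict Q hval))
      ⟨ψ₀ (Subgroup.inclusion hPQ x), hmem⟩ = ψ₀ ⟨φ x, hφQ x⟩ := by
    show ψ₀ ⟨φ ⟨θ ⟨ψ₀ (Subgroup.inclusion hPQ x), hmem⟩, hθP _⟩, hval _⟩ = ψ₀ ⟨φ x, hφQ x⟩
    have h3 : (⟨θ ⟨ψ₀ (Subgroup.inclusion hPQ x), hmem⟩, hθP _⟩ : P) = x :=
      Subtype.ext (hθφ x hmem)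
    congr 1
    apply Subtype.ext
    show φ ⟨θ ⟨ψ₀ (Subgroup.inclusion hPQ x), hmem⟩, hθP _⟩ = φ x
    rw [h3]
  have h4 := hχeq (Subgroup.inclusion heq.ge ⟨ψ (Subgroup.inclusion hPQ x), hx⟩)
    ⟨ψ₀ (Subgroup.inclusion hPQ x), hψ₀T _⟩ hmem
    (by rw [hζapply]; exact hψ₀T _)
    (hψeq (Subgroup.inclusion hPQ x) (hψ₀T _)).symm
  show χ (Subgroup.inclusion heq.ge ⟨ψ (Subgroup.inclusion hPQ x), hx⟩) = ψ ⟨φ x, hφQ x⟩
  rw [h4, hψeq ⟨φ x, hφQ x⟩ (hψ₀T _)]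
  congr 2
  apply Subtype.ext
  exact hζapply

/-- invariance is equivalent to the strong invariance condition. -/
theorem invariant_iff_strongInv [Finite S] {p : ℕ} [Fact p.Prime] (hS : IsPGroup p S)
    (F : FusionSystem S) (hF : F.IsSaturated p) {T : Subgroup Ω} (E : FusionSystem T)
    (hEF : E.IsSubsystemOf F) (hT : F.StronglyClosed T) :
    E.IsInvariantIn F ↔ StrongInv E F := by
  constructor
  · exact strongInv_of_invariant
  · intro h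
    exact ⟨hEF, hT, h.autInv hT.1, h.frattini hS F hF E hEF hT⟩

end Cfsg.Agent.helper25
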