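import Cfsg.Agent.Lib_helper25_SatRS

set_option autoImplicit false
set_option linter.style.haveILetI false
set_option linter.unusedVariables false

namespace Cfsg.Agent.helper25

open Cfsg Cfsg.FusionSystem

variable {Ω : Type*} [Group Ω] {S : Subgroup Ω}

theorem range_restrict_eq_map {N Q : Subgroup Ω} (hQN : Q ≤ N) (ψ : N →* Ω) :
    (ψ.comp (Subgroup.inclusion hQN)).range = (Q.subgroupOf N).map ψ := by
  ext y; constructor
  · rintro ⟨x, rfl⟩
    exact ⟨Subgroup.inclusion hQN x, Subgroup.mem_subgroupOf.mpr x.2, rfl⟩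
  · rintro ⟨x, hx, rfl⟩
    exact ⟨⟨x, Subgroup.mem_subgroupOf.mp hx⟩, rfl⟩

/-- Roberts–Shpectorov: if `S` is fully automized and every fully normalized subgroup is
receptive, then every fully normalized subgroup is fully automized. -/
theorem fullyAutomized_of_RS [Finite S] {p : ℕ} [Fact p.Prime] (hS : IsPGroup p S)
    (F : FusionSystem S) (h1 : F.IsFullyAutomized p S)
    (h2 : ∀ P : Subgroup Ω, F.IsFullyNormalized P → F.IsReceptive P) :
    ∀ (n : ℕ) (Q : Subgroup Ω), F.IsFullyNormalized Q → Nat.card S - Nat.card Q = n →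
      F.IsFullyAutomized p Q := by
  intro n
  induction n using Nat.strong_induction_on with
  | _ n ih =>
    intro Q hQ hn
    by_cases hQS' : Q = S
    · rw [hQS']; exact h1
    · by_contra hna
      have hQS : Q ≤ S := hQ.1
      have hQlt : Q < S := lt_of_le_of_ne hQS hQS'
      have hNlt : Q < normalizerIn S Q := lt_normalizerIn hS hQlt
      have hQrec : F.IsReceptive Q := h2 Q hQ
      haveI : Finite Q := finite_of_le S hQS
      have hns : Nat.card ((autInducedBy S Q).subgroupOf (F.autGroup Q)) ≠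
          p ^ (Nat.card (F.autGroup Q)).factorization p := by
        intro hc
        apply hna
        exact ⟨hQS, Sylow.ofCard _ hc, Sylow.coe_ofCard _ hc⟩
      have hHp : IsPGroup p ((autInducedBy S Q).subgroupOf (F.autGroup Q)) :=
        isPGroup_subgroupOf _ (isPGroup_autInducedBy hS Q)
      obtain ⟨x, hxN, hxm⟩ := exists_normalizing_of_not_sylow _ hHp hns
      have hαA : (x : MulAut Q) ∈ F.autGroup Q := x.2
      have hnorm : ∀ b ∈ autInducedBy S Q,
          (x : MulAut Q) * b * (x : MulAut Q)⁻¹ ∈ autInducedBy S Q := by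
        intro b hb
        have hbA : b ∈ F.autGroup Q := autInducedBy_le_autGroup F hQS hb
        have := (Subgroup.mem_normalizer_iff.mp hxN ⟨b, hbA⟩).mp (Subgroup.mem_subgroupOf.mpr hb)
        exact Subgroup.mem_subgroupOf.mp this
      have hxm' : ∀ m : ℕ, ¬ p ∣ m → (x : MulAut Q) ^ m ∉ autInducedBy S Q := by
        intro m hm h
        apply hxm m hm
        rw [Subgroup.mem_subgroupOf]
        rw [Subgroup.coe_pow]
        exact h
      obtain ⟨α', hα'A, hα'Q⟩ := exists_extend_aut F hQrec hαA hnorm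
      haveI : Finite (normalizerIn S Q) := finite_of_le S inf_le_left
      have hpow : ∀ (j : ℕ) (q : Q),
          (((α' ^ j) ⟨q, le_normalizerIn hQS q.2⟩ : normalizerIn S Q) : Ω) =
            ((((x : MulAut Q) ^ j) q : Q) : Ω) := by
        intro j
        induction j with
        | zero => intro q; rfl
        | succ j ihj =>
          intro q
          rw [pow_succ, pow_succ]
          show (((α' ^ j) (α' ⟨q, le_normalizerIn hQS q.2⟩) : normalizerIn S Q) : Ω) =
            ((((x : MulAut Q) ^ j) ((x : MulAut Q) q) : Q) : Ω)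
          have e1 : α' ⟨q, le_normalizerIn hQS q.2⟩ =
              ⟨((x : MulAut Q) q : Q), le_normalizerIn hQS ((x : MulAut Q) q).2⟩ :=
            Subtype.ext (hα'Q q)
          rw [e1]
          exact ihj _
      have hord : orderOf α' ≠ 0 := (orderOf_pos α').ne'
      obtain ⟨a, m, hm, hom⟩ :=
        Nat.exists_eq_pow_mul_and_not_dvd hord p (Fact.out : p.Prime).ne_one
      have hm0 : m ≠ 0 := by
        rintro rfl
        exact hm (dvd_zero p)
      have hβord : orderOf (α' ^ m) = p ^ a := by
        rw [orderOf_pow_of_dvd hm0 (hom ▸ dvd_mul_left m (p ^ a)), hom,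
          Nat.mul_div_cancel _ (Nat.pos_of_ne_zero hm0)]
      have hβA : α' ^ m ∈ F.autGroup (normalizerIn S Q) := Subgroup.pow_mem _ hα'A m
      obtain ⟨N', hNN', hN'fn⟩ :=
        exists_fullyNormalized_conj F (P := normalizerIn S Q) inf_le_left
      have hcardN : Nat.card (normalizerIn S Q) = Nat.card N' := isConj_card_eq F hNN'
      have hN'S : N' ≤ S := hN'fn.1
      have hcardlt : Nat.card Q < Nat.card (normalizerIn S Q) := card_lt_of_lt' hNlt
      have hN'fa : F.IsFullyAutomized p N' := by
        apply ih (Nat.card S - Nat.card N') _ N' hN'fn rfl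
        have hle : Nat.card N' ≤ Nat.card S := Subgroup.card_le_of_le hN'S
        omega
      have hN'rec := h2 N' hN'fn
      obtain ⟨ψ, hψ, hψN, hψN'⟩ := exists_normalizer_hom hS F hN'fa hN'rec hNN'
      have hNle : normalizerIn S Q ≤ normalizerIn S (normalizerIn S Q) :=
        le_normalizerIn inf_le_left
      have hres : ψ.comp (Subgroup.inclusion hNle) ∈ F.Hom (normalizerIn S Q) :=
        restrict_mem F hNle hψ
      have hresr : (ψ.comp (Subgroup.inclusion hNle)).range = N' := by
        rw [range_restrict_eq_map]; exact hψN'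
      obtain ⟨e, he, hecoe⟩ := exists_isFIso_of_mem F hres hresr
      haveI : Finite N' := finite_of_le S hN'S
      have hXp : IsPGroup p ((Subgroup.zpowers (α' ^ m)).map (MulAut.congr e).toMonoidHom) := by
        apply IsPGroup.map
        apply IsPGroup.of_card (n := a)
        rw [Nat.card_zpowers, hβord]
      have hXK : (Subgroup.zpowers (α' ^ m)).map (MulAut.congr e).toMonoidHom ≤
          F.autGroup N' := by
        rw [Subgroup.map_le_iff_le_comap, Subgroup.zpowers_le]
        exact he.congr_mem_autGroup hβA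
      have hsyl' : IsSylowIn p (autInducedBy S N') (F.autGroup N') := hN'fa.2
      obtain ⟨k, hk, hkX⟩ := exists_cj_le_of_isSylowIn hsyl' hXK hXp
      have hk' : IsFIso F k := (mem_autGroup_iff F hN'S k).mp hk
      have h3 : k * MulAut.congr e (α' ^ m) * k⁻¹ ∈ autInducedBy S N' :=
        hkX (conj_mem_cj k _ ⟨_, Subgroup.mem_zpowers _, rfl⟩)
      obtain ⟨s, hs, hse⟩ := (mem_autInducedBy_iff' S N' _).mp h3
      have hθF : IsFIso F (e.trans k) := he.trans hk'
      have hrel : ∀ z : normalizerIn S Q,
          (((e.trans k) ((α' ^ m) z) : N') : Ω) = s * (((e.trans k) z : N') : Ω) * s⁻¹ := by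
        intro z
        have h5 : (k * MulAut.congr e (α' ^ m) * k⁻¹) ((e.trans k) z) =
            (e.trans k) ((α' ^ m) z) := by
          show k (e ((α' ^ m) (e.symm (k.symm (k (e z)))))) = k (e ((α' ^ m) z))
          rw [MulEquiv.symm_apply_apply, MulEquiv.symm_apply_apply]
        rw [← h5, hse]; rfl
      -- the image of Q
      have hQN : Q ≤ normalizerIn S Q := le_normalizerIn hQS
      have hQ'conj : F.IsConj Q ((Q.subgroupOf (normalizerIn S Q)).map
          (N'.subtype.comp (e.trans k).toMonoidHom)) :=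
        ⟨_, restrict_mem F hQN hθF, range_restrict_eq_map hQN _⟩
      have hmemQ' : ∀ q : Q, (((e.trans k) ⟨q, hQN q.2⟩ : N') : Ω) ∈
          (Q.subgroupOf (normalizerIn S Q)).map (N'.subtype.comp (e.trans k).toMonoidHom) :=
        fun q => ⟨⟨q, hQN q.2⟩, Subgroup.mem_subgroupOf.mpr q.2, rfl⟩
      have hN'le : N' ≤ normalizerIn S ((Q.subgroupOf (normalizerIn S Q)).map
          (N'.subtype.comp (e.trans k).toMonoidHom)) := by
        apply le_inf hN'S
        apply le_normalizer_of_conj_mem
        rintro n' hn' _ ⟨z, hz, rfl⟩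
        have hzQ : (z : Ω) ∈ Q := Subgroup.mem_subgroupOf.mp hz
        have hzz : ((e.trans k).symm ⟨n', hn'⟩ : normalizerIn S Q) * z *
            ((e.trans k).symm ⟨n', hn'⟩ : normalizerIn S Q)⁻¹ ∈ Q.subgroupOf (normalizerIn S Q) := by
          rw [Subgroup.mem_subgroupOf]
          exact (Subgroup.mem_normalizer_iff.mp ((e.trans k).symm ⟨n', hn'⟩).2.2 _).mp hzQ
        refine ⟨_, hzz, ?_⟩
        show (((e.trans k) (((e.trans k).symm ⟨n', hn'⟩) * z *
            ((e.trans k).symm ⟨n', hn'⟩)⁻¹) : N') : Ω) = n' * ((e.trans k) z : N') * n'⁻¹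
        rw [map_mul, map_mul, map_inv, MulEquiv.apply_symm_apply]
        rfl
      have hβQ : ∀ q : Q, (α' ^ m) ⟨q, hQN q.2⟩ =
          ⟨((((x : MulAut Q) ^ m) q : Q) : Ω), hQN (((x : MulAut Q) ^ m) q).2⟩ :=
        fun q => Subtype.ext (hpow m q)
      have hsN : s ∈ Subgroup.normalizer (((Q.subgroupOf (normalizerIn S Q)).map
          (N'.subtype.comp (e.trans k).toMonoidHom) : Subgroup Ω) : Set Ω) := by
        apply mem_normalizer_of_surj
        · rintro _ ⟨z, hz, rfl⟩
          have hzQ : (z : Ω) ∈ Q := Subgroup.mem_subgroupOf.mp hz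
          have h6 := hrel z
          have h7 : (N'.subtype.comp (e.trans k).toMonoidHom) z = (((e.trans k) z : N') : Ω) := rfl
          rw [h7, ← h6]
          have h8 : z = ⟨(⟨z, hzQ⟩ : Q), hQN hzQ⟩ := rfl
          rw [h8, hβQ]
          exact hmemQ' _
        · rintro _ ⟨z, hz, rfl⟩
          have hzQ : (z : Ω) ∈ Q := Subgroup.mem_subgroupOf.mp hz
          refine ⟨_, hmemQ' (((x : MulAut Q) ^ m)⁻¹ ⟨z, hzQ⟩), ?_⟩
          rw [← hrel, hβQ]
          have e9 : (⟨((((x : MulAut Q) ^ m) ((((x : MulAut Q) ^ m)⁻¹) ⟨z, hzQ⟩) : Q) : Ω),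
              hQN (((x : MulAut Q) ^ m) ((((x : MulAut Q) ^ m)⁻¹) ⟨z, hzQ⟩)).2⟩ :
              normalizerIn S Q) = z := by
            apply Subtype.ext
            show ((((x : MulAut Q) ^ m) ((((x : MulAut Q) ^ m)⁻¹) ⟨z, hzQ⟩) : Q) : Ω) = z
            rw [MulAut.apply_inv_self]
          rw [e9]
          rfl
      have hNeq : N' = normalizerIn S ((Q.subgroupOf (normalizerIn S Q)).map
          (N'.subtype.comp (e.trans k).toMonoidHom)) := by
        haveI : Finite (normalizerIn S ((Q.subgroupOf (normalizerIn S Q)).map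
          (N'.subtype.comp (e.trans k).toMonoidHom))) := finite_of_le S inf_le_left
        apply Subgroup.eq_of_le_of_card_ge hN'le
        rw [← hcardN]
        exact hQ.2 _ hQ'conj
      have hsN' : s ∈ N' := by
        rw [hNeq]; exact ⟨hs.1, hsN⟩
      -- pull back
      have hfin : (x : MulAut Q) ^ m ∈ autInducedBy S Q := by
        rw [mem_autInducedBy_iff]
        refine ⟨(((e.trans k).symm ⟨s, hsN'⟩ : normalizerIn S Q) : Ω),
          ((e.trans k).symm ⟨s, hsN'⟩).2.1, ?_⟩
        intro q
        have h6 := hrel ⟨q, hQN q.2⟩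
        have h7 : (((e.trans k) ((α' ^ m) ⟨q, hQN q.2⟩) : N') : Ω) =
            (((e.trans k) (((e.trans k).symm ⟨s, hsN'⟩) * ⟨q, hQN q.2⟩ *
              ((e.trans k).symm ⟨s, hsN'⟩)⁻¹) : N') : Ω) := by
          rw [h6, map_mul, map_mul, map_inv, MulEquiv.apply_symm_apply]
          rfl
        have h8 := (e.trans k).injective (Subtype.ext h7)
        rw [hβQ] at h8
        exact congrArg Subtype.val h8
      exact hxm' m hm hfin

/-- characterization of saturation: `S` fully automized and fully normalized subgroups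
receptive. -/
theorem isSaturated_iff_RS [Finite S] {p : ℕ} [Fact p.Prime] (hS : IsPGroup p S)
    (F : FusionSystem S) :
    F.IsSaturated p ↔ (F.IsFullyAutomized p S ∧
      ∀ P : Subgroup Ω, F.IsFullyNormalized P → F.IsReceptive P) := by
  constructor
  · intro hF
    refine ⟨?_, fun P hP => receptive_of_fullyCentralized hS F hF (fullyNormalized_imp hS F hF hP).1⟩
    have hSn : F.IsFullyNormalized S := by
      refine ⟨le_rfl, ?_⟩
      intro Q hQ
      have hQS := isConj_le_right F hQ
      have hc := isConj_card_eq F hQ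
      have : Q = S := Subgroup.eq_of_le_of_card_ge hQS hc.le
      rw [this]
    exact (fullyNormalized_imp hS F hF hSn).2
  · rintro ⟨h1, h2⟩ P hP
    obtain ⟨Q, hPQ, hQ⟩ := exists_fullyNormalized_conj F hP
    exact ⟨Q, hPQ, fullyAutomized_of_RS hS F h1 h2 _ Q hQ rfl, h2 Q hQ⟩

end Cfsg.Agent.helper25
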