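import Cfsg.Agent.Lib_helper25_Focal
import Cfsg.Prelude.Def_FusionComponents

set_option autoImplicit false
set_option linter.style.haveILetI false
set_option linter.unusedVariables false

namespace Cfsg.Agent.helper25

open Cfsg Cfsg.FusionSystem

variable {Ω : Type*} [Group Ω] {S : Subgroup Ω}

theorem stronglyClosed_hom_mem (F : FusionSystem S) {U N : Subgroup Ω} (hU : F.StronglyClosed U)
    {φ : N →* Ω} (hφ : φ ∈ F.Hom N) {x : N} (hx : (x : Ω) ∈ U) : φ x ∈ U := by
  have hres := restrict_mem F (inf_le_right : U ⊓ N ≤ N) hφ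
  exact hU.2 (U ⊓ N) inf_le_left _ hres ⟨x, hx, x.2⟩

/-- a subgroup of a strongly closed `U` that is fully normalized in `F` is fully normalized in any
subsystem over `U`. -/
theorem fullyNormalized_of_subsystem [Finite S] {p : ℕ} [Fact p.Prime] (hS : IsPGroup p S)
    (F : FusionSystem S) (hF : F.IsSaturated p) {U : Subgroup Ω} (D : FusionSystem U)
    (hDF : D.IsSubsystemOf F) (hU : F.StronglyClosed U) {P : Subgroup Ω} (hPU : P ≤ U)
    (hP : F.IsFullyNormalized P) : D.IsFullyNormalized P := by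
  refine ⟨hPU, fun Q hQ => ?_⟩
  obtain ⟨φ₀, hφ₀, hr₀⟩ := hQ
  have hPQ : F.IsConj P Q := ⟨φ₀, hDF P hφ₀, hr₀⟩
  obtain ⟨hPfc, hPfa⟩ := fullyNormalized_imp hS F hF hP
  have hPrec := receptive_of_fullyCentralized hS F hF hPfc
  obtain ⟨φ, hφ, hφN, -⟩ := exists_normalizer_hom hS F hPfa hPrec (isConj_symm F hPQ)
  have hle : normalizerIn U Q ≤ normalizerIn S Q := inf_le_inf_right _ hU.1
  haveI : Finite (normalizerIn U P) := finite_of_le S (inf_le_left.trans hU.1)
  have hmemU : ∀ x : normalizerIn U Q, φ ⟨x, hle x.2⟩ ∈ U := fun x =>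
    stronglyClosed_hom_mem F hU hφ (x := ⟨x, hle x.2⟩) x.2.1
  apply Nat.card_le_card_of_injective
    (fun x : normalizerIn U Q => (⟨φ ⟨x, hle x.2⟩, hmemU x, (hφN _).2⟩ : normalizerIn U P))
  intro x y hxy
  have h1 : φ ⟨x, hle x.2⟩ = φ ⟨y, hle y.2⟩ := congrArg Subtype.val hxy
  have h2 := F.injective_of_mem hφ h1
  have h3 : (x : Ω) = (y : Ω) := congrArg (fun z : normalizerIn S Q => (z : Ω)) h2
  exact Subtype.ext h3

theorem subnormal_le {p : ℕ} {T : Subgroup Ω} {E : FusionSystem T} {S : Subgroup Ω}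
    {F : FusionSystem S} (h : E.IsSubnormalIn F p) : T ≤ S := by
  induction h with
  | refl F p => exact le_rfl
  | step h1 h2 ih => exact ih.trans h2.1.2.2.2.1.1

theorem subnormal_fullyNormalized {p : ℕ} {T : Subgroup Ω} {E : FusionSystem T} {S : Subgroup Ω}
    {F : FusionSystem S} (h : E.IsSubnormalIn F p) :
    ∀ (hp : Fact p.Prime) [Finite S], IsPGroup p S → F.IsSaturated p →
      ∀ P : Subgroup Ω, P ≤ T → F.IsFullyNormalized P → E.IsFullyNormalized P := by
  induction h with
  | refl F p => intro hp _ hS hF P hPT hP; exact hP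
  | step h1 h2 ih =>
    intro hp _ hS hF P hPT hP
    haveI := hp
    have hinv := h2.1.2.2
    have hDsat := h2.1.1
    have hU := hinv.2.1
    have hDF := hinv.1
    have hPU := hPT.trans (subnormal_le h1)
    have hPD := fullyNormalized_of_subsystem hS _ hF _ hDF hU hPU hP
    haveI := finite_of_le _ hU.1
    exact ih hp (hS.to_le hU.1) hDsat P hPT hPD

end Cfsg.Agent.helper25
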