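import Cfsg.Agent.Lib_helper25_PPIdx3
import Cfsg.Agent.Lib_helper25_Frat4
import Cfsg.Agent.Lib_helper25_CentSat5
import Cfsg.Agent.Lib_helper25_SatRS2
import Cfsg.Agent.Lib_helper25_ExtMod
import Cfsg.Agent.Lib_helper25_Subnormal

set_option autoImplicit false
set_option linter.style.haveILetI false
set_option linter.unusedVariables false
set_option maxHeartbeats 1000000

namespace Cfsg.Agent.helper25

open Cfsg Cfsg.FusionSystem

variable {Ω : Type*} [Group Ω] {S : Subgroup Ω}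

/-- a fusion system is strongly invariant in itself: transport of a map along another map. -/
theorem transport_mem (F : FusionSystem S) {P Q : Subgroup Ω} (hPQ : P ≤ Q) {φ : P →* Ω}
    (hφ : φ ∈ F.Hom P) (hφQ : ∀ x : P, φ x ∈ Q) {ψ : Q →* Ω} (hψ : ψ ∈ F.Hom Q) :
    ∃ χ ∈ F.Hom ((P.subgroupOf Q).map ψ),
      ∀ (x : P) (hx : ψ (Subgroup.inclusion hPQ x) ∈ (P.subgroupOf Q).map ψ),
        χ ⟨ψ (Subgroup.inclusion hPQ x), hx⟩ = ψ ⟨φ x, hφQ x⟩ := by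
  have hψP : ψ.comp (Subgroup.inclusion hPQ) ∈ F.Hom P := restrict_mem F hPQ hψ
  have hr : (ψ.comp (Subgroup.inclusion hPQ)).range = (P.subgroupOf Q).map ψ :=
    range_restrict_eq_map hPQ ψ
  obtain ⟨ι, hι, hιr, hι1, hι2⟩ := exists_inv_hom F hψP hr
  have hιP : ∀ y, ι y ∈ P := fun y => hιr.le ⟨y, rfl⟩
  have h1 := F.comp_mem hι hφ hιP
  have h1Q : ∀ y, (φ.comp (ι.codRestrict P hιP)) y ∈ Q := fun y => hφQ _
  have h2 := F.comp_mem h1 hψ h1Q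
  refine ⟨_, h2, ?_⟩
  intro x hx
  have e := hι1 x hx
  show ψ ⟨φ ⟨ι ⟨ψ (Subgroup.inclusion hPQ x), hx⟩, _⟩, _⟩ = ψ ⟨φ x, _⟩
  congr 1
  apply Subtype.ext
  show φ ⟨ι ⟨ψ (Subgroup.inclusion hPQ x), hx⟩, _⟩ = φ x
  congr 1
  apply Subtype.ext
  exact e

/-- automorphisms induced by `S` on a subgroup of `S₁` are induced by `S₁` when `S = S₁ C_S(S₁)`. -/
theorem autInducedBy_eq_of_dec {S₁ : Subgroup Ω} (hS₁ : S₁ ≤ S)
    (hdec : ∀ g ∈ S, ∃ a ∈ S₁, ∃ b ∈ Subgroup.centralizer (S₁ : Set Ω), g = a * b)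
    {Q : Subgroup Ω} (hQ : Q ≤ S₁) : autInducedBy S₁ Q = autInducedBy S Q := by
  apply le_antisymm
  · intro α hα
    obtain ⟨g, hg, h⟩ := (mem_autInducedBy_iff S₁ Q α).mp hα
    exact (mem_autInducedBy_iff S Q α).mpr ⟨g, hS₁ hg, h⟩
  · intro α hα
    obtain ⟨g, hg, h⟩ := (mem_autInducedBy_iff S Q α).mp hα
    obtain ⟨a, ha, b, hb, rfl⟩ := hdec g hg
    refine (mem_autInducedBy_iff S₁ Q α).mpr ⟨a, ha, fun x => ?_⟩
    rw [h x]
    have hbx : b * (x : Ω) * b⁻¹ = x := conj_eq_of_mem_centralizer hb (hQ x.2)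
    calc a * b * (x : Ω) * (a * b)⁻¹ = a * (b * (x : Ω) * b⁻¹) * a⁻¹ := by group
      _ = a * x * a⁻¹ := by rw [hbx]

theorem extender_mono {S₁ : Subgroup Ω} (hS₁ : S₁ ≤ S) (P : Subgroup Ω) (φ : P →* Ω) :
    extender S₁ P φ ≤ extender S P φ := by
  unfold extender
  apply Subgroup.closure_mono
  rintro g ⟨hg, hgN, h, hh, hgh⟩
  exact ⟨hS₁ hg, hgN, h, hS₁ hh, hgh⟩

/-- the full subsystem on a strongly closed subgroup `S₁` with `S = S₁ C_S(S₁)` is saturated. -/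
theorem fullSub_isSaturated [Finite S] {p : ℕ} [Fact p.Prime]
    (F : FusionSystem S) (hF : F.IsSaturated p) {S₁ : Subgroup Ω} (h₁ : F.StronglyClosed S₁)
    (hdec : ∀ g ∈ S, ∃ a ∈ S₁, ∃ b ∈ Subgroup.centralizer (S₁ : Set Ω), g = a * b)
    (R : FusionSystem S₁) (hR : ∀ P : Subgroup Ω, P ≤ S₁ → R.Hom P = F.Hom P) :
    R.IsSaturated p := by
  intro P hP
  obtain ⟨Q, hconj, hfa, hrec⟩ := hF P (hP.trans h₁.1)
  have hQ : Q ≤ S₁ := by
    obtain ⟨φ, hφ, rfl⟩ := hconj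
    rintro _ ⟨x, rfl⟩
    exact h₁.2 P hP φ hφ x
  refine ⟨Q, ?_, ⟨hQ, ?_⟩, ⟨hQ, ?_⟩⟩
  · obtain ⟨φ, hφ, hr⟩ := hconj
    exact ⟨φ, by rw [hR P hP]; exact hφ, hr⟩
  · have hA : R.autGroup Q = F.autGroup Q := by
      unfold autGroup; rw [hR Q hQ]
    have hB := autInducedBy_eq_of_dec h₁.1 hdec hQ
    rw [hA, hB]
    exact hfa.2
  · intro P' φ hφ hr
    have hP' : P' ≤ S₁ := (R.le_of_mem hφ).1
    have hφF : φ ∈ F.Hom P' := by rw [← hR P' hP']; exact hφ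
    obtain ⟨ψ, hψ, hψe⟩ := hrec.2 P' φ hφF hr
    have hle := extender_mono h₁.1 P' φ
    have hle₁ : extender S₁ P' φ ≤ S₁ := (extender_le S₁ P' φ).trans inf_le_left
    refine ⟨ψ.comp (Subgroup.inclusion hle), ?_, ?_⟩
    · rw [hR _ hle₁]; exact restrict_mem F hle hψ
    · intro x hxP hxN
      exact hψe x hxP (hle hxN)

end Cfsg.Agent.helper25
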