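import Cfsg.Agent.Lib_helper25_DirProd1

set_option autoImplicit false
set_option linter.style.haveILetI false
set_option linter.unusedVariables false
set_option maxHeartbeats 1000000

namespace Cfsg.Agent.helper25

open Cfsg Cfsg.FusionSystem

variable {Ω : Type*} [Group Ω] {S : Subgroup Ω}

/-- a map of the system carries a strongly closed subgroup of its source onto itself. -/
theorem map_eq_of_stronglyClosed [Finite S] (F : FusionSystem S) {T D : Subgroup Ω}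
    (hT : F.StronglyClosed T) (hTD : T ≤ D) {ψ : D →* Ω} (hψ : ψ ∈ F.Hom D) :
    (T.subgroupOf D).map ψ = T := by
  haveI : Finite T := finite_of_le S hT.1
  apply Subgroup.eq_of_le_of_card_ge
  · rintro _ ⟨y, hy, rfl⟩
    exact stronglyClosed_hom_mem F hT hψ (Subgroup.mem_subgroupOf.mp hy)
  · rw [Subgroup.card_map_of_injective (F.injective_of_mem hψ)]
    exact le_of_eq (Nat.card_congr (Subgroup.subgroupOfEquivOfLe hTD).toEquiv).symm

/-- every map of the system from a subgroup of `S₁` extends over `S₂` when both are strongly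
closed and commute. -/
theorem exists_extension_sup [Finite S] {p : ℕ} [Fact p.Prime] (hS : IsPGroup p S)
    (F : FusionSystem S) (hF : F.IsSaturated p) {S₁ S₂ : Subgroup Ω}
    (h₁ : F.StronglyClosed S₁) (h₂ : F.StronglyClosed S₂)
    (hc : S₂ ≤ Subgroup.centralizer (S₁ : Set Ω))
    {Q : Subgroup Ω} (hQ : Q ≤ S₁) {ψ : Q →* Ω} (hψ : ψ ∈ F.Hom Q) :
    ∃ ψ' ∈ F.Hom (Q ⊔ S₂), (∀ x : Q, ψ' (Subgroup.inclusion le_sup_left x) = ψ x) ∧
      (S₂.subgroupOf (Q ⊔ S₂)).map ψ' = S₂ := by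
  have hS₁S := h₁.1
  have hS₂S := h₂.1
  have hQ' : ψ.range ≤ S₁ := by
    rintro _ ⟨x, rfl⟩; exact h₁.2 Q hQ ψ hψ x
  obtain ⟨Qs, hconj, hfn⟩ := exists_fullyNormalized_conj F (hQ'.trans hS₁S)
  have hrec : F.IsReceptive Qs :=
    receptive_of_fullyCentralized hS F hF (fullyNormalized_imp hS F hF hfn).1
  obtain ⟨χ, hχ, hχr⟩ := hconj
  have hval : ∀ x : Q, ψ x ∈ ψ.range := fun x => ⟨x, rfl⟩
  have hθ := F.comp_mem hψ hχ hval
  have hθr : (χ.comp (ψ.codRestrict ψ.range hval)).range = Qs := by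
    rw [← hχr]
    ext y; constructor
    · rintro ⟨x, rfl⟩; exact ⟨_, rfl⟩
    · rintro ⟨⟨_, x, rfl⟩, rfl⟩; exact ⟨x, rfl⟩
  obtain ⟨ψ₁, hψ₁, hψ₁e⟩ := hrec.2 Q _ hθ hθr
  obtain ⟨ψ₂, hψ₂, hψ₂e⟩ := hrec.2 ψ.range χ hχ hχr
  have hcent : ∀ R : Subgroup Ω, R ≤ S₁ → S₂ ≤ centralizerIn S R := fun R hR =>
    le_inf hS₂S (hc.trans (Subgroup.centralizer_le hR))
  have hle₁ : Q ⊔ S₂ ≤ extender S Q (χ.comp (ψ.codRestrict ψ.range hval)) :=
    sup_le (le_extender F hθ) ((hcent Q hQ).trans (helper26.centralizerIn_le_extender S Q _))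
  have hle₂ : ψ.range ⊔ S₂ ≤ extender S ψ.range χ :=
    sup_le (le_extender F hχ) ((hcent _ hQ').trans (helper26.centralizerIn_le_extender S _ _))
  have hψ₁' := restrict_mem F hle₁ hψ₁
  have hψ₂' := restrict_mem F hle₂ hψ₂
  have hψ₁Q : ∀ x : Q, (ψ₁.comp (Subgroup.inclusion hle₁)) (Subgroup.inclusion le_sup_left x) =
      χ ⟨ψ x, hval x⟩ := fun x => hψ₁e x x.2 _
  have hψ₂Q : ∀ y : ψ.range, (ψ₂.comp (Subgroup.inclusion hle₂)) (Subgroup.inclusion le_sup_left y) =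
      χ y := fun y => hψ₂e y y.2 _
  have hr₂ : (ψ₂.comp (Subgroup.inclusion hle₂)).range = Qs ⊔ S₂ := by
    rw [range_eq_sup_map, map_eq_of_stronglyClosed F h₂ le_sup_right hψ₂',
      map_subgroupOf_eq_range le_sup_left _ χ hψ₂Q, hχr]
  have hr₁ : (ψ₁.comp (Subgroup.inclusion hle₁)).range = Qs ⊔ S₂ := by
    rw [range_eq_sup_map, map_eq_of_stronglyClosed F h₂ le_sup_right hψ₁',
      map_subgroupOf_eq_range le_sup_left _ (χ.comp (ψ.codRestrict ψ.range hval)) hψ₁Q, hθr]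
  obtain ⟨ι, hι, hιr, hι1, hι2⟩ := exists_inv_hom F hψ₂' hr₂
  have hval₁ : ∀ z : ↥(Q ⊔ S₂), (ψ₁.comp (Subgroup.inclusion hle₁)) z ∈ Qs ⊔ S₂ := fun z =>
    hr₁.le ⟨z, rfl⟩
  have hψ' := F.comp_mem hψ₁' hι hval₁
  refine ⟨_, hψ', ?_, map_eq_of_stronglyClosed F h₂ le_sup_right hψ'⟩
  intro x
  show ι ⟨(ψ₁.comp (Subgroup.inclusion hle₁)) (Subgroup.inclusion le_sup_left x), _⟩ = ψ x
  have e1 : (ψ₂.comp (Subgroup.inclusion hle₂)) (Subgroup.inclusion le_sup_left ⟨ψ x, hval x⟩) ∈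
      Qs ⊔ S₂ := hr₂.le ⟨_, rfl⟩
  have e2 := hι1 (Subgroup.inclusion le_sup_left ⟨ψ x, hval x⟩) e1
  have e3 : (⟨(ψ₁.comp (Subgroup.inclusion hle₁)) (Subgroup.inclusion le_sup_left x), hval₁ _⟩ :
      ↥(Qs ⊔ S₂)) = ⟨(ψ₂.comp (Subgroup.inclusion hle₂))
        (Subgroup.inclusion le_sup_left ⟨ψ x, hval x⟩), e1⟩ := by
    apply Subtype.ext
    show (ψ₁.comp (Subgroup.inclusion hle₁)) (Subgroup.inclusion le_sup_left x) =
      (ψ₂.comp (Subgroup.inclusion hle₂)) (Subgroup.inclusion le_sup_left ⟨ψ x, hval x⟩)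
    rw [hψ₁Q, hψ₂Q]
  rw [e3, e2]
  rfl

end Cfsg.Agent.helper25
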