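import Cfsg.Agent.Lib_helper25_DirProd2

set_option autoImplicit false
set_option linter.style.haveILetI false
set_option linter.unusedVariables false
set_option maxHeartbeats 1000000

namespace Cfsg.Agent.helper25

open Cfsg Cfsg.FusionSystem

variable {Ω : Type*} [Group Ω] {S : Subgroup Ω}

/-- the subsystem of maps extending over `S₂` by the identity is strongly invariant. -/
theorem strongInv_centSub [Finite S] {p : ℕ} [Fact p.Prime] (hS : IsPGroup p S)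
    (F : FusionSystem S) (hF : F.IsSaturated p) {S₁ S₂ : Subgroup Ω}
    (h₁ : F.StronglyClosed S₁) (h₂ : F.StronglyClosed S₂)
    (hc : S₂ ≤ Subgroup.centralizer (S₁ : Set Ω))
    (R' : FusionSystem S₁)
    (hR' : ∀ P : Subgroup Ω, P ≤ S₁ → R'.Hom P = F.centralizerHom S₂ P) : StrongInv R' F := by
  intro P Q hPQ hQ φ hφ hφQ ψ hψ
  have hS₁S := h₁.1
  have hS₂S := h₂.1
  have hP : P ≤ S₁ := hPQ.trans hQ
  rw [hR' P hP] at hφ
  obtain ⟨hφF, hPC, hφC, φ', hφ', hφ'P, hφ'S₂⟩ := hφ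
  obtain ⟨ψ', hψ', hψ'Q, hψ'S₂⟩ := exists_extension_sup hS F hF h₁ h₂ hc hQ hψ
  have hle : P ⊔ S₂ ≤ Q ⊔ S₂ := sup_le_sup_right hPQ S₂
  have hφ'val : ∀ z : ↥(P ⊔ S₂), φ' z ∈ Q ⊔ S₂ := by
    apply forall_mem_sup_of_comap
    · intro x; rw [hφ'P]; exact Subgroup.mem_sup_left (hφQ x)
    · intro x; rw [hφ'S₂]; exact Subgroup.mem_sup_right x.2
  obtain ⟨χ', hχ', hχ'e⟩ := transport_mem F hle hφ' hφ'val hψ'
  -- the image subgroup
  have hP'S₁ : (P.subgroupOf Q).map ψ ≤ S₁ := by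
    rintro _ ⟨y, hy, rfl⟩
    exact h₁.2 Q hQ ψ hψ y
  have hcentS₂ : S₁ ≤ centralizerIn S S₂ := by
    intro a ha
    refine ⟨hS₁S ha, ?_⟩
    apply Subgroup.mem_centralizer_iff.mpr
    intro s hs
    exact (Subgroup.mem_centralizer_iff.mp (hc hs) a ha).symm
  have hD : ((P ⊔ S₂).subgroupOf (Q ⊔ S₂)).map ψ' = (P.subgroupOf Q).map ψ ⊔ S₂ := by
    apply le_antisymm
    · rintro _ ⟨z, hz, rfl⟩
      have hz' : (z : Ω) ∈ P ⊔ S₂ := Subgroup.mem_subgroupOf.mp hz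
      have hPN : P ≤ Subgroup.normalizer (S₂ : Set Ω) :=
        (hP.trans hS₁S).trans (stronglyClosed_le_normalizer F h₂)
      obtain ⟨a, ha, t, ht, hat⟩ := exists_mul_of_mem_sup hPN hz'
      have e : z = Subgroup.inclusion le_sup_left (⟨a, hPQ ha⟩ : Q) *
          (⟨t, (le_sup_right : S₂ ≤ Q ⊔ S₂) ht⟩ : ↥(Q ⊔ S₂)) := Subtype.ext hat.symm
      rw [e, map_mul, hψ'Q]
      apply Subgroup.mul_mem
      · apply Subgroup.mem_sup_left
        exact ⟨⟨a, hPQ ha⟩, Subgroup.mem_subgroupOf.mpr ha, rfl⟩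
      · apply Subgroup.mem_sup_right
        exact stronglyClosed_hom_mem F h₂ hψ' (x := ⟨t, _⟩) ht
    · apply sup_le
      · rintro _ ⟨y, hy, rfl⟩
        refine ⟨Subgroup.inclusion le_sup_left y, ?_, hψ'Q y⟩
        apply Subgroup.mem_subgroupOf.mpr
        exact Subgroup.mem_sup_left (Subgroup.mem_subgroupOf.mp hy)
      · intro s hs
        rw [← hψ'S₂] at hs
        obtain ⟨z, hz, rfl⟩ := hs
        refine ⟨z, ?_, rfl⟩
        apply Subgroup.mem_subgroupOf.mpr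
        exact Subgroup.mem_sup_right (Subgroup.mem_subgroupOf.mp hz)
  have hχ'' := hom_congr F hD hχ'
  have hχ := restrict_mem F (le_sup_left : (P.subgroupOf Q).map ψ ≤ (P.subgroupOf Q).map ψ ⊔ S₂) hχ''
  refine ⟨(χ'.comp (Subgroup.inclusion hD.ge)).comp (Subgroup.inclusion
    (le_sup_left : (P.subgroupOf Q).map ψ ≤ (P.subgroupOf Q).map ψ ⊔ S₂)), ?_, ?_⟩
  · rw [hR' _ hP'S₁]
    refine ⟨hχ, hP'S₁.trans hcentS₂, ?_, _, hχ'', fun x => rfl, ?_⟩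
    · intro y
      apply hcentS₂
      exact h₁.2 _ hP'S₁ _ hχ y
    · intro s
      have hs : (s : Ω) ∈ (S₂.subgroupOf (Q ⊔ S₂)).map ψ' := by rw [hψ'S₂]; exact s.2
      obtain ⟨z, hz, hzs⟩ := hs
      have hzS₂ : (z : Ω) ∈ S₂ := Subgroup.mem_subgroupOf.mp hz
      have hmem : ψ' (Subgroup.inclusion hle (⟨z, Subgroup.mem_sup_right hzS₂⟩ : ↥(P ⊔ S₂))) ∈
          ((P ⊔ S₂).subgroupOf (Q ⊔ S₂)).map ψ' :=
        ⟨_, Subgroup.mem_subgroupOf.mpr (Subgroup.mem_sup_right hzS₂), rfl⟩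
      have h1 := hχ'e ⟨z, Subgroup.mem_sup_right hzS₂⟩ hmem
      have h2 : φ' (⟨z, Subgroup.mem_sup_right hzS₂⟩ : ↥(P ⊔ S₂)) = z :=
        hφ'S₂ ⟨z, hzS₂⟩
      have h3 : (⟨φ' ⟨z, Subgroup.mem_sup_right hzS₂⟩, hφ'val _⟩ : ↥(Q ⊔ S₂)) = z :=
        Subtype.ext h2
      rw [h3, hzs] at h1
      show χ' ⟨(s : Ω), _⟩ = s
      have h4 : (⟨(s : Ω), hD.ge (Subgroup.mem_sup_right s.2)⟩ :
          ↥(((P ⊔ S₂).subgroupOf (Q ⊔ S₂)).map ψ')) =
          ⟨ψ' (Subgroup.inclusion hle ⟨z, Subgroup.mem_sup_right hzS₂⟩), hmem⟩ := by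
        apply Subtype.ext
        show (s : Ω) = ψ' (Subgroup.inclusion hle ⟨z, Subgroup.mem_sup_right hzS₂⟩)
        rw [← hzs]; rfl
      have h5 : χ' (⟨(s : Ω), hD.ge (Subgroup.mem_sup_right s.2)⟩ :
          ↥(((P ⊔ S₂).subgroupOf (Q ⊔ S₂)).map ψ')) = s := by
        rw [h4]; exact h1
      exact h5
  · intro x hx
    have hmem : ψ' (Subgroup.inclusion hle (Subgroup.inclusion le_sup_left x)) ∈
        ((P ⊔ S₂).subgroupOf (Q ⊔ S₂)).map ψ' :=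
      ⟨_, Subgroup.mem_subgroupOf.mpr (Subgroup.mem_sup_left x.2), rfl⟩
    have h1 := hχ'e (Subgroup.inclusion le_sup_left x) hmem
    have h2 : (⟨φ' (Subgroup.inclusion le_sup_left x), hφ'val _⟩ : ↥(Q ⊔ S₂)) =
        Subgroup.inclusion le_sup_left (⟨φ x, hφQ x⟩ : Q) := Subtype.ext (hφ'P x)
    rw [h2, hψ'Q] at h1
    rw [← h1]
    show χ' ⟨ψ (Subgroup.inclusion hPQ x), _⟩ = χ' ⟨ψ' _, hmem⟩
    congr 1
    apply Subtype.ext
    show ψ (Subgroup.inclusion hPQ x) = ψ' (Subgroup.inclusion hle (Subgroup.inclusion le_sup_left x))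
    rw [← hψ'Q]
    rfl

end Cfsg.Agent.helper25
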