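import Cfsg.Agent.Lib_helper25_DirProd3

set_option autoImplicit false
set_option linter.style.haveILetI false
set_option linter.unusedVariables false
set_option maxHeartbeats 1000000

namespace Cfsg.Agent.helper25

open Cfsg Cfsg.FusionSystem

variable {Ω : Type*} [Group Ω] {S : Subgroup Ω}

theorem aut_center_mem {T : Subgroup Ω} (α : MulAut T) (a : T)
    (ha : (a : Ω) ∈ Subgroup.centralizer (T : Set Ω)) :
    ((α a : T) : Ω) ∈ Subgroup.centralizer (T : Set Ω) := by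
  apply Subgroup.mem_centralizer_iff.mpr
  intro y hy
  have h1 : (α.symm ⟨y, hy⟩) * a = a * (α.symm ⟨y, hy⟩) := by
    apply Subtype.ext
    exact Subgroup.mem_centralizer_iff.mp ha _ (α.symm ⟨y, hy⟩).2
  have h2 := congrArg α h1
  rw [map_mul, map_mul, MulEquiv.apply_symm_apply] at h2
  have h3 := congrArg (Subtype.val) h2
  exact h3

/-- extension condition over the whole group. -/
theorem dirProd_ext_F (F : FusionSystem S) [Finite S] {S₁ S₂ : Subgroup Ω}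
    (hprod : IsInternalDirectProduct S₁ S₂ S)
    {α : MulAut S₁} {ψ' : ↥(S₁ ⊔ S₂) →* Ω} (hψ' : ψ' ∈ F.Hom (S₁ ⊔ S₂))
    (hψ'S₁ : ∀ x : S₁, ψ' (Subgroup.inclusion le_sup_left x) = ((α x : S₁) : Ω))
    (hψ'S₂ : ∀ x : S₂, ψ' (Subgroup.inclusion le_sup_right x) = x) :
    ∃ β ∈ F.autGroup (S₁ ⊔ centralizerIn S S₁),
      (∀ x : S₁, ((β (Subgroup.inclusion le_sup_left x) : ↥(S₁ ⊔ centralizerIn S S₁)) : Ω) =
        ((α x : S₁) : Ω)) ∧
      ∀ c : ↥(S₁ ⊔ centralizerIn S S₁), (c : Ω) ∈ centralizerIn S S₁ →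
        (c : Ω)⁻¹ * ((β c : ↥(S₁ ⊔ centralizerIn S S₁)) : Ω) ∈
          S₁ ⊓ Subgroup.centralizer (S₁ : Set Ω) := by
  obtain ⟨hS₁S, hS₂S, hcomm, hinf, hsup⟩ := hprod
  have hc : S₂ ≤ Subgroup.centralizer (S₁ : Set Ω) := by
    intro b hb
    apply Subgroup.mem_centralizer_iff.mpr
    intro a ha
    exact hcomm a ha b hb
  have hKS : S₁ ⊔ centralizerIn S S₁ = S := le_antisymm (sup_le hS₁S inf_le_left)
    (hsup.ge.trans (sup_le_sup_left (le_inf hS₂S hc) S₁))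
  have hK : S₁ ⊔ S₂ = S₁ ⊔ centralizerIn S S₁ := by rw [hKS, hsup]
  haveI : Finite (S₁ ⊔ centralizerIn S S₁ : Subgroup Ω) := by rw [hKS]; infer_instance
  have hψK := hom_congr F hK hψ'
  have hr : (ψ'.comp (Subgroup.inclusion hK.ge)).range = S₁ ⊔ centralizerIn S S₁ := by
    apply Subgroup.eq_of_le_of_card_ge
    · exact (range_le_of_mem F hψK).trans hKS.ge
    · exact le_of_eq (Nat.card_congr (MonoidHom.ofInjective (F.injective_of_mem hψK)).toEquiv)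
  obtain ⟨β, hβ, hβcoe⟩ := exists_isFIso_of_mem F hψK hr
  refine ⟨β, (mem_autGroup_iff F hKS.le β).mpr hβ, ?_, ?_⟩
  · intro x
    rw [hβcoe]
    exact hψ'S₁ x
  · intro c hcC
    rw [hβcoe]
    have hcK : (c : Ω) ∈ S₁ ⊔ S₂ := by rw [hsup]; exact hcC.1
    have hN : S₁ ≤ Subgroup.normalizer (S₂ : Set Ω) := by
      intro a ha
      apply Subgroup.centralizer_le_normalizer
      apply Subgroup.mem_centralizer_iff.mpr
      intro b hb
      exact (hcomm a ha b hb).symm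
    obtain ⟨a, ha, b, hb, hab⟩ := exists_mul_of_mem_sup hN hcK
    have e : (Subgroup.inclusion hK.ge c) = Subgroup.inclusion le_sup_left (⟨a, ha⟩ : S₁) *
        Subgroup.inclusion le_sup_right (⟨b, hb⟩ : S₂) := Subtype.ext hab.symm
    show (c : Ω)⁻¹ * ψ' (Subgroup.inclusion hK.ge c) ∈ _
    rw [e, map_mul, hψ'S₁, hψ'S₂, ← hab]
    have haZ : a ∈ Subgroup.centralizer (S₁ : Set Ω) := by
      have h1 : a = (c : Ω) * b⁻¹ := by rw [← hab]; group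
      rw [h1]
      exact Subgroup.mul_mem _ hcC.2 (Subgroup.inv_mem _ (hc hb))
    have hαZ := aut_center_mem α ⟨a, ha⟩ haZ
    have hxb : (a⁻¹ * ((α ⟨a, ha⟩ : S₁) : Ω)) * b = b * (a⁻¹ * ((α ⟨a, ha⟩ : S₁) : Ω)) :=
      hcomm _ (Subgroup.mul_mem _ (Subgroup.inv_mem _ ha) (α ⟨a, ha⟩).2) b hb
    have e2 : (a * b)⁻¹ * (((α ⟨a, ha⟩ : S₁) : Ω) * ((⟨b, hb⟩ : S₂) : Ω)) =
        a⁻¹ * ((α ⟨a, ha⟩ : S₁) : Ω) := by
      show (a * b)⁻¹ * (((α ⟨a, ha⟩ : S₁) : Ω) * b) = _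
      calc (a * b)⁻¹ * (((α ⟨a, ha⟩ : S₁) : Ω) * b)
          = b⁻¹ * ((a⁻¹ * ((α ⟨a, ha⟩ : S₁) : Ω)) * b) := by group
        _ = b⁻¹ * (b * (a⁻¹ * ((α ⟨a, ha⟩ : S₁) : Ω))) := by rw [hxb]
        _ = a⁻¹ * ((α ⟨a, ha⟩ : S₁) : Ω) := by group
    rw [e2]
    exact ⟨Subgroup.mul_mem _ (Subgroup.inv_mem _ ha) (α ⟨a, ha⟩).2,
      Subgroup.mul_mem _ (Subgroup.inv_mem _ haZ) hαZ⟩

/-- extension condition inside `S₁`. -/
theorem dirProd_ext_R {S₁ : Subgroup Ω} [Finite S₁] (R : FusionSystem S₁)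
    {α : MulAut S₁} (hα : α ∈ R.autGroup S₁) :
    ∃ β ∈ R.autGroup (S₁ ⊔ centralizerIn S₁ S₁),
      (∀ x : S₁, ((β (Subgroup.inclusion le_sup_left x) : ↥(S₁ ⊔ centralizerIn S₁ S₁)) : Ω) =
        ((α x : S₁) : Ω)) ∧
      ∀ c : ↥(S₁ ⊔ centralizerIn S₁ S₁), (c : Ω) ∈ centralizerIn S₁ S₁ →
        (c : Ω)⁻¹ * ((β c : ↥(S₁ ⊔ centralizerIn S₁ S₁)) : Ω) ∈
          S₁ ⊓ Subgroup.centralizer (S₁ : Set Ω) := by
  have hK : S₁ = S₁ ⊔ centralizerIn S₁ S₁ := (sup_eq_left.mpr inf_le_left).symm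
  haveI : Finite (S₁ ⊔ centralizerIn S₁ S₁ : Subgroup Ω) := by rw [← hK]; infer_instance
  have hα' : S₁.subtype.comp α.toMonoidHom ∈ R.Hom S₁ := (mem_autGroup_iff R le_rfl α).mp hα
  have hψK := hom_congr R hK hα'
  have hr : ((S₁.subtype.comp α.toMonoidHom).comp (Subgroup.inclusion hK.ge)).range =
      S₁ ⊔ centralizerIn S₁ S₁ := by
    apply Subgroup.eq_of_le_of_card_ge
    · exact (range_le_of_mem R hψK).trans hK.le
    · exact le_of_eq (Nat.card_congr (MonoidHom.ofInjective (R.injective_of_mem hψK)).toEquiv)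
  obtain ⟨β, hβ, hβcoe⟩ := exists_isFIso_of_mem R hψK hr
  refine ⟨β, (mem_autGroup_iff R hK.ge β).mpr hβ, ?_, ?_⟩
  · intro x
    rw [hβcoe]
    rfl
  · intro c hcC
    rw [hβcoe]
    show (c : Ω)⁻¹ * ((α (Subgroup.inclusion hK.ge c) : S₁) : Ω) ∈ _
    have hαZ := aut_center_mem α (Subgroup.inclusion hK.ge c) hcC.2
    exact ⟨Subgroup.mul_mem _ (Subgroup.inv_mem _ hcC.1) (α _).2,
      Subgroup.mul_mem _ (Subgroup.inv_mem _ hcC.2) hαZ⟩

end Cfsg.Agent.helper25
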