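import Cfsg.Agent.Lib_helper25_DirProd4

set_option autoImplicit false
set_option linter.style.haveILetI false
set_option linter.unusedVariables false
set_option maxHeartbeats 1000000

namespace Cfsg.Agent.helper25

open Cfsg Cfsg.FusionSystem

variable {Ω : Type*} [Group Ω] {S : Subgroup Ω}

theorem dirProd_main [Finite S] {p : ℕ} [Fact p.Prime] (hS : IsPGroup p S)
    (F : FusionSystem S) (hF : F.IsSaturated p) (S₁ S₂ : Subgroup Ω)
    (hprod : IsInternalDirectProduct S₁ S₂ S) (h₁ : F.StronglyClosed S₁)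
    (h₂ : F.StronglyClosed S₂) (R R' : FusionSystem S₁)
    (hR : ∀ P : Subgroup Ω, P ≤ S₁ → R.Hom P = F.Hom P)
    (hR' : ∀ P : Subgroup Ω, P ≤ S₁ → R'.Hom P = F.centralizerHom S₂ P) :
    R.IsSaturated p ∧ R'.IsSaturated p ∧ R'.IsNormalIn F p ∧ R'.IsNormalIn R p ∧
      R.IsWeaklyNormalIn F p := by
  have hprod' := hprod
  obtain ⟨hS₁S, hS₂S, hcomm, hinf, hsup⟩ := hprod
  haveI : Finite S₁ := finite_of_le S hS₁S
  have hS₁p : IsPGroup p S₁ := hS.to_le hS₁S
  have hc : S₂ ≤ Subgroup.centralizer (S₁ : Set Ω) := by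
    intro b hb
    apply Subgroup.mem_centralizer_iff.mpr
    intro a ha
    exact hcomm a ha b hb
  have hN : S₁ ≤ Subgroup.normalizer (S₂ : Set Ω) := by
    intro a ha
    apply Subgroup.centralizer_le_normalizer
    apply Subgroup.mem_centralizer_iff.mpr
    intro b hb
    exact (hcomm a ha b hb).symm
  have hdec : ∀ g ∈ S, ∃ a ∈ S₁, ∃ b ∈ Subgroup.centralizer (S₁ : Set Ω), g = a * b := by
    intro g hg
    rw [← hsup] at hg
    obtain ⟨a, ha, b, hb, hab⟩ := exists_mul_of_mem_sup hN hg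
    exact ⟨a, ha, b, hc hb, hab.symm⟩
  -- R saturated
  have hRsat : R.IsSaturated p := fullSub_isSaturated F hF h₁ hdec R hR
  -- R' saturated through the centralizer system
  haveI : Finite (centralizerIn S S₂ : Subgroup Ω) := finite_of_le S inf_le_left
  have hfc : F.IsFullyCentralized S₂ :=
    (fullyNormalized_imp hS F hF (fullyNormalized_of_stronglyClosed F h₂)).1
  have hCsat : (centralizerSystem F S₂ hS₂S).IsSaturated p :=
    centralizer_isSaturated hS F hF hfc _ (isCentralizerSystem_centralizerSystem F S₂ hS₂S)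
  have hcentS₂ : S₁ ≤ centralizerIn S S₂ := by
    intro a ha
    refine ⟨hS₁S ha, ?_⟩
    apply Subgroup.mem_centralizer_iff.mpr
    intro s hs
    exact (hcomm a ha s hs).symm
  have h₁C : (centralizerSystem F S₂ hS₂S).StronglyClosed S₁ := by
    refine ⟨hcentS₂, ?_⟩
    intro R₀ hR₀ φ hφ x
    exact h₁.2 R₀ hR₀ φ hφ.1 x
  have hdecC : ∀ g ∈ centralizerIn S S₂, ∃ a ∈ S₁, ∃ b ∈ Subgroup.centralizer (S₁ : Set Ω),
      g = a * b := fun g hg => hdec g hg.1
  have hR'sat : R'.IsSaturated p :=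
    fullSub_isSaturated (centralizerSystem F S₂ hS₂S) hCsat h₁C hdecC R' (fun P hP => hR' P hP)
  -- subsystem relations
  have hR'F : R'.IsSubsystemOf F := by
    intro P φ hφ
    have hP : P ≤ S₁ := (R'.le_of_mem hφ).1
    rw [hR' P hP] at hφ
    exact hφ.1
  have hRF : R.IsSubsystemOf F := by
    intro P φ hφ
    have hP : P ≤ S₁ := (R.le_of_mem hφ).1
    rw [hR P hP] at hφ
    exact hφ
  have hR'R : R'.IsSubsystemOf R := by
    intro P φ hφ
    have hP : P ≤ S₁ := (R'.le_of_mem hφ).1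
    rw [hR P hP]
    exact hR'F P hφ
  -- strong invariance
  have hSI' : StrongInv R' F := strongInv_centSub hS F hF h₁ h₂ hc R' hR'
  have hSI : StrongInv R F := by
    intro P Q hPQ hQ φ hφ hφQ ψ hψ
    rw [hR P (hPQ.trans hQ)] at hφ
    obtain ⟨χ, hχ, he⟩ := transport_mem F hPQ hφ hφQ hψ
    have hle : (P.subgroupOf Q).map ψ ≤ S₁ := by
      rintro _ ⟨y, hy, rfl⟩
      exact h₁.2 Q hQ ψ hψ y
    exact ⟨χ, by rw [hR _ hle]; exact hχ, he⟩
  have hSI'R : StrongInv R' R := by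
    intro P Q hPQ hQ φ hφ hφQ ψ hψ
    rw [hR Q hQ] at hψ
    exact hSI' P Q hPQ hQ φ hφ hφQ ψ hψ
  have hinv' : R'.IsInvariantIn F := (invariant_iff_strongInv hS F hF R' hR'F h₁).mpr hSI'
  have hinv : R.IsInvariantIn F := (invariant_iff_strongInv hS F hF R hRF h₁).mpr hSI
  have hRsc : R.StronglyClosed S₁ := ⟨le_rfl, fun R₀ hR₀ φ hφ x => (R.le_of_mem hφ).2 x⟩
  have hinv'R : R'.IsInvariantIn R :=
    (invariant_iff_strongInv hS₁p R hRsat R' hR'R hRsc).mpr hSI'R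
  refine ⟨hRsat, hR'sat, ⟨⟨hR'sat, hF, hinv'⟩, ?_⟩, ⟨⟨hR'sat, hRsat, hinv'R⟩, ?_⟩,
    ⟨hRsat, hF, hinv⟩⟩
  · intro α hα
    have hα' : S₁.subtype.comp α.toMonoidHom ∈ R'.Hom S₁ := (mem_autGroup_iff R' le_rfl α).mp hα
    rw [hR' S₁ le_rfl] at hα'
    obtain ⟨-, -, -, ψ', hψ', hψ'S₁, hψ'S₂⟩ := hα'
    exact dirProd_ext_F F hprod' hψ' hψ'S₁ hψ'S₂
  · intro α hα
    have hαR : α ∈ R.autGroup S₁ := by
      rw [mem_autGroup_iff R le_rfl]
      exact hR'R S₁ ((mem_autGroup_iff R' le_rfl α).mp hα)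
    exact dirProd_ext_R R hαR

end Cfsg.Agent.helper25
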