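import Cfsg.Agent.Lib_helper25_ClassTwo
import Cfsg.Agent.Lib_helper14_SPE2

set_option autoImplicit false
set_option linter.style.haveILetI false
set_option linter.unusedVariables false

namespace Cfsg.Agent.helper25

open Cfsg Cfsg.FusionSystem

variable {Ω : Type*} [Group Ω] {S : Subgroup Ω}

/-- automorphisms of `P` that extend to a map of the system on a strictly larger subgroup. -/
def extSet (F : FusionSystem S) (P : Subgroup Ω) : Set (MulAut P) :=
  {α : MulAut P | ∃ (Q : Subgroup Ω) (hPQ : P < Q) (φ : Q →* Ω), φ ∈ F.Hom Q ∧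
    ∀ x : P, φ (Subgroup.inclusion hPQ.le x) = α x}

theorem closure_extSet_le (F : FusionSystem S) {P : Subgroup Ω} (hPS : P ≤ S) :
    Subgroup.closure (extSet F P) ≤ F.autGroup P := by
  rw [Subgroup.closure_le]
  rintro α ⟨Q, hPQ, φ, hφ, hφα⟩
  rw [SetLike.mem_coe, mem_autGroup_iff F hPS]
  exact isFIso_of_coe F (restrict_mem F hPQ.le hφ) (fun x => (hφα x).symm)

theorem mem_extSet_of_extender [Finite S] (F : FusionSystem S) {P : Subgroup Ω}
    (hPrec : F.IsReceptive P) {α : MulAut P} (hα : α ∈ F.autGroup P) {g : Ω}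
    (hg : g ∈ extender S P (P.subtype.comp α.toMonoidHom)) (hgP : g ∉ P) : α ∈ extSet F P := by
  have hPS := hPrec.1
  have hα' : IsFIso F α := (mem_autGroup_iff F hPS α).mp hα
  obtain ⟨ψ, hψ, hψφ⟩ := hPrec.2 P _ hα' (range_subtype_comp α)
  have hRle : P ≤ extender S P (P.subtype.comp α.toMonoidHom) := le_extender F hα'
  have hlt : P < extender S P (P.subtype.comp α.toMonoidHom) :=
    lt_of_le_of_ne hRle (fun h => hgP (h ▸ hg))
  exact ⟨_, hlt, ψ, hψ, fun x => hψφ x x.2 (hRle x.2)⟩

theorem autInducedBy_le_closure_extSet (F : FusionSystem S) {P : Subgroup Ω} (hPlt : P < S) :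
    autInducedBy S P ≤ Subgroup.closure (extSet F P) := by
  intro t ht
  obtain ⟨g, hg, hgt⟩ := (mem_autInducedBy_iff S P t).mp ht
  apply Subgroup.subset_closure
  exact ⟨S, hPlt, conjHom S g, F.conj_mem le_rfl hg, fun x => (hgt x).symm⟩

/-- the normalizers of the nontrivial subgroups of the image of `Aut_S(R)` in `Out_F(R)` are
generated by images of automorphisms whose extender is larger than `R`. -/
theorem kcore_le_map [Finite S] {p : ℕ} [Fact p.Prime] (F : FusionSystem S) {R : Subgroup Ω}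
    [Finite R] (hRS : R ≤ S) (H' : Subgroup (MulAut R))
    (hH' : ∀ y ∈ F.autGroup R, ∀ (g : Ω) (hg : g ∈ normalizerIn S R), g ∉ R →
      y * normAut R g hg.2 * y⁻¹ ∈ autInducedBy S R → y ∈ H')
    (R₀ : Sylow p (F.autGroup R))
    (hR₀ : (R₀ : Subgroup (F.autGroup R)) = (autInducedBy S R).subgroupOf (F.autGroup R)) :
    kGeneratedCore p 1 (R₀.mapSurjective
        (QuotientGroup.mk'_surjective ((Inn R).subgroupOf (F.autGroup R)))).toSubgroup ≤
      (H'.subgroupOf (F.autGroup R)).map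
        (QuotientGroup.mk' ((Inn R).subgroupOf (F.autGroup R))) := by
  have hInnS : Inn R ≤ autInducedBy S R := inn_le_autInducedBy hRS
  have hsurj : Function.Surjective (QuotientGroup.mk' ((Inn R).subgroupOf (F.autGroup R))) :=
    QuotientGroup.mk'_surjective _
  have hTbar : (R₀.mapSurjective hsurj).toSubgroup =
      ((autInducedBy S R).subgroupOf (F.autGroup R)).map
        (QuotientGroup.mk' ((Inn R).subgroupOf (F.autGroup R))) := by
    rw [Sylow.coe_mapSurjective, hR₀]
  have hIT : (Inn R).subgroupOf (F.autGroup R) ≤ (autInducedBy S R).subgroupOf (F.autGroup R) :=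
    fun a ha => Subgroup.mem_subgroupOf.mpr (hInnS (Subgroup.mem_subgroupOf.mp ha))
  have hTmem : ∀ a : F.autGroup R,
      (QuotientGroup.mk' ((Inn R).subgroupOf (F.autGroup R))) a ∈
        ((autInducedBy S R).subgroupOf (F.autGroup R)).map
          (QuotientGroup.mk' ((Inn R).subgroupOf (F.autGroup R))) →
      a ∈ (autInducedBy S R).subgroupOf (F.autGroup R) := by
    intro a ha
    have h1 : a ∈ (((autInducedBy S R).subgroupOf (F.autGroup R)).map
          (QuotientGroup.mk' ((Inn R).subgroupOf (F.autGroup R)))).comap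
          (QuotientGroup.mk' ((Inn R).subgroupOf (F.autGroup R))) := Subgroup.mem_comap.mpr ha
    rw [Subgroup.comap_map_eq, QuotientGroup.ker_mk', sup_eq_left.mpr hIT] at h1
    exact h1
  unfold kGeneratedCore
  apply iSup_le
  rintro ⟨Qb, hQbT, hQbr⟩
  intro yb hyb
  obtain ⟨y, rfl⟩ := hsurj yb
  refine ⟨y, Subgroup.mem_subgroupOf.mpr ?_, rfl⟩
  have hQne : Qb ≠ ⊥ := by
    rintro rfl
    apply hQbr
    intro A _ _
    haveI : Subsingleton (⊥ : Subgroup (↥(F.autGroup R) ⧸
      (Inn R).subgroupOf (F.autGroup R))) := inferInstance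
    haveI : Subsingleton A := inferInstance
    rw [Nat.card_unique]
    exact Nat.one_le_pow _ _ (Fact.out : p.Prime).pos
  obtain ⟨⟨bb, hbb⟩, hbb1⟩ := Subgroup.ne_bot_iff_exists_ne_one.mp hQne
  have hbb1' : bb ≠ 1 := fun h => hbb1 (Subtype.ext h)
  have hbbT := hQbT hbb
  rw [hTbar] at hbbT
  obtain ⟨b, hbT, hb⟩ := hbbT
  have hbI : b ∉ (Inn R).subgroupOf (F.autGroup R) := by
    intro h
    apply hbb1'
    rw [← hb]
    exact (QuotientGroup.eq_one_iff b).mpr h
  obtain ⟨g, hg, hbg⟩ := (mem_autInducedBy_iff' S R _).mp (Subgroup.mem_subgroupOf.mp hbT)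
  have hgR : g ∉ R := by
    intro hgR
    apply hbI
    rw [Subgroup.mem_subgroupOf, hbg]
    exact normAut_mem_inn hgR hg.2
  have h1 : (QuotientGroup.mk' ((Inn R).subgroupOf (F.autGroup R))) y * bb *
      ((QuotientGroup.mk' ((Inn R).subgroupOf (F.autGroup R))) y)⁻¹ ∈ Qb :=
    (Subgroup.mem_normalizer_iff.mp hyb bb).mp hbb
  have h2 : (QuotientGroup.mk' ((Inn R).subgroupOf (F.autGroup R))) (y * b * y⁻¹) ∈
      ((autInducedBy S R).subgroupOf (F.autGroup R)).map
        (QuotientGroup.mk' ((Inn R).subgroupOf (F.autGroup R))) := by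
    rw [map_mul, map_mul, map_inv, hb, ← hTbar]
    exact hQbT h1
  have h3 := Subgroup.mem_subgroupOf.mp (hTmem _ h2)
  have h4 : (y : MulAut R) * normAut R g hg.2 * (y : MulAut R)⁻¹ ∈ autInducedBy S R := by
    rw [← hbg]; exact h3
  exact hH' y y.2 g hg hgR h4

end Cfsg.Agent.helper25
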