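import Cfsg.Agent.Lib_helper25_Extendable

set_option autoImplicit false
set_option linter.style.haveILetI false
set_option linter.unusedVariables false

namespace Cfsg.Agent.helper25

open Cfsg Cfsg.FusionSystem

theorem dvd_card_of_pElement {X : Type*} [Group X] [Finite X] {p : ℕ} [Fact p.Prime]
    (K : Subgroup X) {w : X} (hw : w ∈ K) (hw1 : w ≠ 1) {k : ℕ} (hk : w ^ p ^ k = 1) :
    p ∣ Nat.card K := by
  have h1 : orderOf w ∣ p ^ k := orderOf_dvd_of_pow_eq_one hk
  obtain ⟨j, hj, hjw⟩ := (Nat.dvd_prime_pow (Fact.out : p.Prime)).mp h1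
  have hj0 : j ≠ 0 := by
    rintro rfl
    rw [pow_zero, orderOf_eq_one_iff] at hjw
    exact hw1 hjw
  have h2 : p ∣ orderOf w := by rw [hjw]; exact dvd_pow_self p hj0
  have h3 : orderOf (⟨w, hw⟩ : K) = orderOf w := Subgroup.orderOf_mk w hw
  have h4 : orderOf (⟨w, hw⟩ : K) ∣ Nat.card K := orderOf_dvd_natCard _
  rw [h3] at h4
  exact h2.trans h4

theorem spe_cj {X : Type*} [Group X] [Finite X] {p : ℕ} [Fact p.Prime] {Y : Subgroup X}
    (hY : IsStronglyPEmbedded p Y) (c : X) : IsStronglyPEmbedded p (cj c Y) := by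
  obtain ⟨hdvd, hne, R', hR'⟩ := hY
  have hR'1 : (R' : Subgroup X) ≠ ⊥ := R'.ne_bot_of_dvd_card hdvd
  have hR'Y : (R' : Subgroup X) ≤ Y := by
    rw [Cfsg.Agent.helper14.kGeneratedCore_one_le_iff _ _ R'.isPGroup'] at hR'
    exact Subgroup.le_normalizer.trans (hR' R' le_rfl hR'1)
  apply Cfsg.Agent.helper14.spe_of_normalizer_le
  · intro h
    apply hne
    have h1 : cj c⁻¹ (cj c Y) = Y := Cfsg.Agent.helper14.conj_comp_inv' c Y
    rw [← h1, h]
    exact Subgroup.map_top_of_surjective _ (MulAut.conj c⁻¹).surjective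
  · rw [card_cj]
    have h1 : p ∣ Nat.card (R' : Subgroup X) := by
      rcases R'.isPGroup'.card_eq_or_dvd with h | h
      · exact absurd (Subgroup.eq_bot_of_card_eq _ h) hR'1
      · exact h
    exact h1.trans (Subgroup.card_dvd_of_le hR'Y)
  · intro A hA hAp hA1
    have hA' : cj c⁻¹ A ≤ Y := by
      have h1 := cj_mono c⁻¹ hA
      have h2 : cj c⁻¹ (cj c Y) = Y := Cfsg.Agent.helper14.conj_comp_inv' c Y
      rwa [h2] at h1
    have h1 := Cfsg.Agent.helper14.normalizer_le_of_spe Y ⟨hdvd, hne, R', hR'⟩ _ hA'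
      (IsPGroup_cj c⁻¹ hAp) (Cfsg.Agent.helper14.map_conj_ne_bot A c⁻¹ hA1)
    have h2 := cj_mono c h1
    rw [cj_normalizer] at h2
    have h3 : cj c (cj c⁻¹ A) = A := Cfsg.Agent.helper14.conj_inv_comp' c A
    rwa [h3] at h2

variable {Ω : Type*} [Group Ω] {S : Subgroup Ω}

/-- transported action of a normalizing element under an extendable automorphism. -/
theorem conj_normAut_mem_of_ext (F : FusionSystem S) {P Q : Subgroup Ω} (hPQ : P < Q)
    {φ : Q →* Ω} (hφ : φ ∈ F.Hom Q) {α : MulAut P}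
    (hφα : ∀ x : P, φ (Subgroup.inclusion hPQ.le x) = α x) {g : Ω} (hgQ : g ∈ Q)
    (hgN : g ∈ Subgroup.normalizer (P : Set Ω)) :
    α * normAut P g hgN * α⁻¹ ∈ autInducedBy S P := by
  rw [mem_autInducedBy_iff]
  refine ⟨φ ⟨g, hgQ⟩, (F.le_of_mem hφ).2 _, fun x => ?_⟩
  show ((α (normAut P g hgN (α⁻¹ x)) : P) : Ω) = _
  rw [← hφα]
  have e : Subgroup.inclusion hPQ.le (normAut P g hgN (α⁻¹ x)) =
      ⟨g, hgQ⟩ * Subgroup.inclusion hPQ.le (α⁻¹ x) * ⟨g, hgQ⟩⁻¹ := Subtype.ext rfl
  rw [e, map_mul, map_mul, map_inv, hφα, MulAut.apply_inv_self]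

theorem extendable_main [Finite S] {p : ℕ} [Fact p.Prime] (hS : IsPGroup p S)
    (F : FusionSystem S) (hF : F.IsSaturated p) {P : Subgroup Ω} (hPS : P < S)
    (hPn : F.IsFullyNormalized P) :
    (¬ F.IsEssential p P ∧ Subgroup.closure (extSet F P) = F.autGroup P) ∨
    (F.IsEssential p P ∧ ∃ _ : ((Inn P).subgroupOf (F.autGroup P)).Normal,
      IsStronglyPEmbedded p (((Subgroup.closure (extSet F P)).subgroupOf (F.autGroup P)).map
        (QuotientGroup.mk' ((Inn P).subgroupOf (F.autGroup P))))) := by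
  have hPle : P ≤ S := hPS.le
  haveI : Finite P := finite_of_le S hPle
  obtain ⟨hPfc, hPfa⟩ := fullyNormalized_imp hS F hF hPn
  have hPrec := receptive_of_fullyCentralized hS F hF hPfc
  have hHle := closure_extSet_le F hPle
  have hTH := autInducedBy_le_closure_extSet F hPS
  have hInnS : Inn P ≤ autInducedBy S P := inn_le_autInducedBy hPle
  have hSF : autInducedBy S P ≤ F.autGroup P := autInducedBy_le_autGroup F hPle
  have hH' : ∀ y ∈ F.autGroup P, ∀ (g : Ω) (hg : g ∈ normalizerIn S P), g ∉ P →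
      y * normAut P g hg.2 * y⁻¹ ∈ autInducedBy S P → y ∈ Subgroup.closure (extSet F P) := by
    intro y hy g hg hgP h
    exact Subgroup.subset_closure
      (mem_extSet_of_extender F hPrec hy (mem_extender_of_aut y hg h) hgP)
  obtain ⟨R₀, hR₀⟩ := hPfa.2
  have hkey := kcore_le_map F hPle _ hH' R₀ hR₀
  have hsurj : Function.Surjective (QuotientGroup.mk' ((Inn P).subgroupOf (F.autGroup P))) :=
    QuotientGroup.mk'_surjective _
  have hTbar : (R₀.mapSurjective hsurj).toSubgroup =
      ((autInducedBy S P).subgroupOf (F.autGroup P)).map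
        (QuotientGroup.mk' ((Inn P).subgroupOf (F.autGroup P))) := by
    rw [Sylow.coe_mapSurjective, hR₀]
  by_cases hess : F.IsEssential p P
  · right
    refine ⟨hess, inferInstance, ?_⟩
    obtain ⟨hPc, -, hnorm, Y₀, hY₀⟩ := hess
    obtain ⟨hdvd, hY₀ne, R', hR'⟩ := hY₀
    have hR'1 : R'.toSubgroup ≠ ⊥ := R'.ne_bot_of_dvd_card hdvd
    have hR'Y : R'.toSubgroup ≤ Y₀ := by
      rw [Cfsg.Agent.helper14.kGeneratedCore_one_le_iff _ _ R'.isPGroup'] at hR'
      exact Subgroup.le_normalizer.trans (hR' R'.toSubgroup le_rfl hR'1)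
    obtain ⟨c, hc⟩ := exists_cj_le_sylow (R₀.mapSurjective hsurj) R'.isPGroup'
    have hceq : cj c R'.toSubgroup = (R₀.mapSurjective hsurj).toSubgroup := by
      apply Subgroup.eq_of_le_of_card_ge hc
      rw [card_cj, Sylow.card_eq_multiplicity, Sylow.card_eq_multiplicity]
    have hM : IsStronglyPEmbedded p (cj c Y₀) := spe_cj ⟨hdvd, hY₀ne, R', hR'⟩ c
    have hTM : (R₀.mapSurjective hsurj).toSubgroup ≤ cj c Y₀ := by
      rw [← hceq]; exact cj_mono c hR'Y
    have hTp : IsPGroup p (R₀.mapSurjective hsurj).toSubgroup := (R₀.mapSurjective hsurj).isPGroup'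
    -- every extendable automorphism maps into `cj c Y₀`
    have hgen : ∀ α ∈ extSet F P, ∀ hα : α ∈ F.autGroup P,
        (QuotientGroup.mk' ((Inn P).subgroupOf (F.autGroup P))) ⟨α, hα⟩ ∈ cj c Y₀ := by
      rintro α ⟨Q, hPQ, φ, hφ, hφα⟩ hα
      have hQS : Q ≤ S := (F.le_of_mem hφ).1
      haveI : Finite Q := finite_of_le S hQS
      have hQp : IsPGroup p Q := hS.to_le hQS
      have hlt : P < normalizerIn Q P := lt_normalizerIn hQp hPQ
      obtain ⟨g, hgN, hgP⟩ := SetLike.exists_of_lt hlt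
      have hgNS : g ∈ normalizerIn S P := ⟨hQS hgN.1, hgN.2⟩
      have hbT : normAut P g hgN.2 ∈ autInducedBy S P := normAut_mem S P hgNS
      have hbI : normAut P g hgN.2 ∉ Inn P := fun h => hgP (mem_of_normAut_mem_inn F hPc hgNS h)
      have hconj := conj_normAut_mem_of_ext F hPQ hφ hφα hgN.1 hgN.2
      apply Cfsg.Agent.helper14.mem_of_spe_of_dvd_card_inf _ hM
      -- the element w
      have hbbT : (QuotientGroup.mk' ((Inn P).subgroupOf (F.autGroup P)))
          ⟨normAut P g hgN.2, hSF hbT⟩ ∈ (R₀.mapSurjective hsurj).toSubgroup := by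
        rw [hTbar]; exact ⟨_, Subgroup.mem_subgroupOf.mpr hbT, rfl⟩
      have hbb1 : (QuotientGroup.mk' ((Inn P).subgroupOf (F.autGroup P)))
          ⟨normAut P g hgN.2, hSF hbT⟩ ≠ 1 := by
        intro h
        apply hbI
        exact Subgroup.mem_subgroupOf.mp ((QuotientGroup.eq_one_iff _).mp h)
      have hwT : (QuotientGroup.mk' ((Inn P).subgroupOf (F.autGroup P)))
          (⟨α, hα⟩ * ⟨normAut P g hgN.2, hSF hbT⟩ * ⟨α, hα⟩⁻¹) ∈
          (R₀.mapSurjective hsurj).toSubgroup := by
        rw [hTbar]; exact ⟨_, Subgroup.mem_subgroupOf.mpr hconj, rfl⟩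
      have hw1 : (QuotientGroup.mk' ((Inn P).subgroupOf (F.autGroup P)))
          (⟨α, hα⟩ * ⟨normAut P g hgN.2, hSF hbT⟩ * ⟨α, hα⟩⁻¹) ≠ 1 := by
        intro h
        apply hbb1
        rw [map_mul, map_mul, map_inv] at h
        have h2 := congrArg (fun z => ((QuotientGroup.mk' ((Inn P).subgroupOf (F.autGroup P)))
          ⟨α, hα⟩)⁻¹ * z * (QuotientGroup.mk' ((Inn P).subgroupOf (F.autGroup P))) ⟨α, hα⟩) h
        simp only [mul_one, inv_mul_cancel] at h2
        rw [← h2]; group
      obtain ⟨k, hk⟩ := hTp ⟨_, hwT⟩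
      have hk' : ((QuotientGroup.mk' ((Inn P).subgroupOf (F.autGroup P)))
          (⟨α, hα⟩ * ⟨normAut P g hgN.2, hSF hbT⟩ * ⟨α, hα⟩⁻¹)) ^ p ^ k = 1 :=
        congrArg Subtype.val hk
      refine dvd_card_of_pElement _ ⟨hTM hwT, ?_⟩ hw1 hk'
      rw [map_mul, map_mul, map_inv]
      exact conj_mem_cj _ _ (hTM hbbT)
    have hHM : ((Subgroup.closure (extSet F P)).subgroupOf (F.autGroup P)).map
        (QuotientGroup.mk' ((Inn P).subgroupOf (F.autGroup P))) ≤ cj c Y₀ := by
      rw [Subgroup.map_le_iff_le_comap]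
      intro a ha
      have ha' : (a : MulAut P) ∈ Subgroup.closure (extSet F P) := Subgroup.mem_subgroupOf.mp ha
      have hle : Subgroup.closure (extSet F P) ≤
          ((cj c Y₀).comap (QuotientGroup.mk' ((Inn P).subgroupOf (F.autGroup P)))).map
            (F.autGroup P).subtype := by
        rw [Subgroup.closure_le]
        intro α hα
        have hαA : α ∈ F.autGroup P := hHle (Subgroup.subset_closure hα)
        exact ⟨⟨α, hαA⟩, hgen α hα hαA, rfl⟩
      obtain ⟨a', ha'M, ha'a⟩ := hle ha'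
      have : a' = a := Subtype.ext ha'a
      rw [← this]; exact ha'M
    refine ⟨hdvd, ?_, R₀.mapSurjective hsurj, hkey⟩
    intro htop
    apply hM.2.1
    rw [eq_top_iff, ← htop]; exact hHM
  · left
    refine ⟨hess, le_antisymm hHle ?_⟩
    by_cases hcen : F.IsCentric P
    · have hno : ∀ Y : Subgroup (↥(F.autGroup P) ⧸ (Inn P).subgroupOf (F.autGroup P)),
          ¬ IsStronglyPEmbedded p Y := fun Y hY => hess ⟨hcen, hPn, inferInstance, Y, hY⟩
      have hIT : (Inn P).subgroupOf (F.autGroup P) ≤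
          (autInducedBy S P).subgroupOf (F.autGroup P) :=
        fun a ha => Subgroup.mem_subgroupOf.mpr (hInnS (Subgroup.mem_subgroupOf.mp ha))
      by_cases hp : p ∣ Nat.card (↥(F.autGroup P) ⧸ (Inn P).subgroupOf (F.autGroup P))
      · have htop : kGeneratedCore p 1 (R₀.mapSurjective hsurj).toSubgroup = ⊤ := by
          by_contra hne
          exact hno _ ⟨hp, hne, R₀.mapSurjective hsurj, le_rfl⟩
        intro a ha
        have h1 : (QuotientGroup.mk' ((Inn P).subgroupOf (F.autGroup P))) ⟨a, ha⟩ ∈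
            ((Subgroup.closure (extSet F P)).subgroupOf (F.autGroup P)).map
              (QuotientGroup.mk' ((Inn P).subgroupOf (F.autGroup P))) := by
          rw [htop] at hkey; exact hkey (Subgroup.mem_top _)
        obtain ⟨a', ha', hπ⟩ := h1
        have h2 : a'⁻¹ * ⟨a, ha⟩ ∈ (Inn P).subgroupOf (F.autGroup P) := by
          rw [← QuotientGroup.eq_one_iff, QuotientGroup.mk_mul, QuotientGroup.mk_inv]
          have hπ' : ((a' : F.autGroup P) : ↥(F.autGroup P) ⧸ (Inn P).subgroupOf (F.autGroup P)) =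
              ((⟨a, ha⟩ : F.autGroup P) : ↥(F.autGroup P) ⧸ (Inn P).subgroupOf (F.autGroup P)) := hπ
          rw [hπ']; group
        have h3 : ((a'⁻¹ * ⟨a, ha⟩ : F.autGroup P) : MulAut P) ∈ Subgroup.closure (extSet F P) :=
          hTH (hInnS (Subgroup.mem_subgroupOf.mp h2))
        have h4 : (a' : MulAut P) ∈ Subgroup.closure (extSet F P) := Subgroup.mem_subgroupOf.mp ha'
        have h5 : a = (a' : MulAut P) * ((a'⁻¹ * ⟨a, ha⟩ : F.autGroup P) : MulAut P) := by
          show a = (a' : MulAut P) * ((a' : MulAut P)⁻¹ * a)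
          group
        rw [h5]; exact Subgroup.mul_mem _ h4 h3
      · exfalso
        have hfact : (Nat.card (↥(F.autGroup P) ⧸
            (Inn P).subgroupOf (F.autGroup P))).factorization p = 0 :=
          Nat.factorization_eq_zero_of_not_dvd hp
        have hcard : Nat.card (R₀.mapSurjective hsurj).toSubgroup = 1 := by
          rw [Sylow.card_eq_multiplicity, hfact, pow_zero]
        have hbot := Subgroup.eq_bot_of_card_eq _ hcard
        rw [hTbar] at hbot
        have hTI : (autInducedBy S P).subgroupOf (F.autGroup P) ≤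
            (Inn P).subgroupOf (F.autGroup P) := by
          intro a ha
          have h1 : (QuotientGroup.mk' ((Inn P).subgroupOf (F.autGroup P))) a ∈
              ((autInducedBy S P).subgroupOf (F.autGroup P)).map
                (QuotientGroup.mk' ((Inn P).subgroupOf (F.autGroup P))) := ⟨a, ha, rfl⟩
          rw [hbot, Subgroup.mem_bot] at h1
          exact (QuotientGroup.eq_one_iff a).mp h1
        have hle : normalizerIn S P ≤ P := by
          intro g hg
          have h1 : normAut P g hg.2 ∈ autInducedBy S P := normAut_mem S P hg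
          have h2 : (⟨normAut P g hg.2, hSF h1⟩ : F.autGroup P) ∈
              (Inn P).subgroupOf (F.autGroup P) := hTI (Subgroup.mem_subgroupOf.mpr h1)
          exact mem_of_normAut_mem_inn F hcen hg (Subgroup.mem_subgroupOf.mp h2)
        exact (lt_normalizerIn hS hPS).not_ge hle
    · have hnle : ¬ centralizerIn S P ≤ P :=
        fun h => hcen (Cfsg.Agent.S5104.result p hS F hF P hPfc h)
      obtain ⟨c, hc, hcP⟩ := SetLike.not_le_iff_exists.mp hnle
      intro α hα
      apply Subgroup.subset_closure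
      refine mem_extSet_of_extender F hPrec hα ?_ hcP
      apply Subgroup.subset_closure
      have hcc : c ∈ Subgroup.centralizer (P : Set Ω) := hc.2
      refine ⟨hc.1, Subgroup.centralizer_le_normalizer _ hcc, 1, S.one_mem, ?_⟩
      intro x hx
      have hx' : c * (x : Ω) * c⁻¹ = x := by
        have := hcc x x.2
        rw [← this]; group
      have e : (⟨c * (x : Ω) * c⁻¹, hx⟩ : P) = x := Subtype.ext hx'
      rw [e]; simp

end Cfsg.Agent.helper25
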