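import Cfsg.Agent.Lib_helper25_Extendable2
import Cfsg.Prelude.Def_FusionComponents

set_option autoImplicit false
set_option linter.style.haveILetI false
set_option linter.unusedVariables false

namespace Cfsg.Agent.helper25

open Cfsg Cfsg.FusionSystem

variable {Ω : Type*} [Group Ω] {S : Subgroup Ω} {Ω' : Type*} [Group Ω']

theorem mem_preimageAlong (θ : S →* Ω') (P' : Subgroup Ω') (x : Ω) :
    x ∈ preimageAlong θ P' ↔ ∃ h : x ∈ S, θ ⟨x, h⟩ ∈ P' := by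
  constructor
  · rintro ⟨s, hs, rfl⟩; exact ⟨s.2, hs⟩
  · rintro ⟨h, hx⟩; exact ⟨⟨x, h⟩, hx, rfl⟩

theorem preimageAlong_le (θ : S →* Ω') (P' : Subgroup Ω') : preimageAlong θ P' ≤ S :=
  Subgroup.map_subtype_le _

theorem map_mem_of_mem_preimageAlong (θ : S →* Ω') (P' : Subgroup Ω')
    (x : preimageAlong θ P') : θ ⟨x, preimageAlong_le θ P' x.2⟩ ∈ P' := by
  obtain ⟨h, hx⟩ := (mem_preimageAlong θ P' x).mp x.2
  exact hx

theorem exists_preimage {θ : S →* Ω'} {P' : Subgroup Ω'} (hP' : P' ≤ θ.range) (y : P') :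
    ∃ x : preimageAlong θ P', θ ⟨x, preimageAlong_le θ P' x.2⟩ = y := by
  obtain ⟨s, hs⟩ := hP' y.2
  exact ⟨⟨s, (mem_preimageAlong θ P' s).mpr ⟨s.2, by rw [hs]; exact y.2⟩⟩, hs⟩

theorem ker_le_preimageAlong {θ : S →* Ω'} {K : Subgroup Ω} (hKS : K ≤ S)
    (hker : ∀ s : S, θ s = 1 ↔ (s : Ω) ∈ K) (P' : Subgroup Ω') : K ≤ preimageAlong θ P' := by
  intro k hk
  refine (mem_preimageAlong θ P' k).mpr ⟨hKS hk, ?_⟩
  rw [(hker ⟨k, hKS hk⟩).mpr hk]; exact P'.one_mem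

theorem stronglyClosed_hom_surj [Finite S] (F : FusionSystem S) {K P : Subgroup Ω}
    (hK : F.StronglyClosed K) (hKP : K ≤ P) {φ : P →* Ω} (hφ : φ ∈ F.Hom P) {y : Ω}
    (hy : y ∈ K) : ∃ t : P, (t : Ω) ∈ K ∧ φ t = y := by
  haveI : Finite K := finite_of_le S hK.1
  have hmem : ∀ t : K, φ ⟨t, hKP t.2⟩ ∈ K := fun t =>
    stronglyClosed_hom_mem F hK hφ (x := ⟨t, hKP t.2⟩) t.2
  have hg : Function.Injective (fun t : K => (⟨φ ⟨t, hKP t.2⟩, hmem t⟩ : K)) := by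
    intro a b hab
    have h1 : φ ⟨a, hKP a.2⟩ = φ ⟨b, hKP b.2⟩ := congrArg Subtype.val hab
    have h2 := F.injective_of_mem hφ h1
    exact Subtype.ext (congrArg (fun z : P => (z : Ω)) h2)
  obtain ⟨t, ht⟩ := (Finite.injective_iff_surjective.mp hg) ⟨y, hy⟩
  exact ⟨⟨t, hKP t.2⟩, t.2, congrArg Subtype.val ht⟩

/-- `φ'` is induced along `θ` by a map of the system on the full preimage of its source. -/
def IsInd (F : FusionSystem S) (θ : S →* Ω') (P' : Subgroup Ω') (φ' : P' →* Ω') : Prop :=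
  P' ≤ θ.range ∧ ∃ φ ∈ F.Hom (preimageAlong θ P'), InducedAlong θ φ φ'

theorem IsInd.le_of_mem {F : FusionSystem S} {θ : S →* Ω'} {P' : Subgroup Ω'} {φ' : P' →* Ω'}
    (h : IsInd F θ P' φ') : P' ≤ θ.range ∧ ∀ x : P', φ' x ∈ θ.range := by
  obtain ⟨hP'r, φ, hφ, hP, hφS, hP', hind⟩ := h
  refine ⟨hP'r, fun y => ?_⟩
  obtain ⟨x, hx⟩ := exists_preimage hP'r y
  have e : y = ⟨θ ⟨x, hP x.2⟩, hP' x⟩ := Subtype.ext hx.symm
  rw [e, hind x]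
  exact ⟨_, rfl⟩

theorem IsInd.injective [Finite S] {F : FusionSystem S} {K : Subgroup Ω}
    (hK : F.StronglyClosed K) {θ : S →* Ω'} (hker : ∀ s : S, θ s = 1 ↔ (s : Ω) ∈ K)
    {P' : Subgroup Ω'} {φ' : P' →* Ω'} (h : IsInd F θ P' φ') : Function.Injective φ' := by
  obtain ⟨hP'r, φ, hφ, hP, hφS, hP', hind⟩ := h
  rw [injective_iff_map_eq_one]
  intro y hy
  obtain ⟨x, hx⟩ := exists_preimage hP'r y
  have e : y = ⟨θ ⟨x, hP x.2⟩, hP' x⟩ := Subtype.ext hx.symm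
  rw [e, hind x] at hy
  have h1 : φ x ∈ K := (hker _).mp hy
  have hKP : K ≤ preimageAlong θ P' := ker_le_preimageAlong hK.1 hker P'
  obtain ⟨t, ht, htx⟩ := stronglyClosed_hom_surj F hK hKP hφ h1
  have h2 : t = x := F.injective_of_mem hφ htx
  have h3 : (x : Ω) ∈ K := h2 ▸ ht
  apply Subtype.ext
  rw [← hx]
  exact (hker _).mpr h3

theorem IsInd.conj {F : FusionSystem S} {θ : S →* Ω'} {P' : Subgroup Ω'} {g' : Ω'}
    (hP' : P' ≤ θ.range) (hg' : g' ∈ θ.range) : IsInd F θ P' (conjHom P' g') := by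
  obtain ⟨g, rfl⟩ := hg'
  refine ⟨hP', conjHom (preimageAlong θ P') g, F.conj_mem (preimageAlong_le θ P') g.2,
    preimageAlong_le θ P', ?_, map_mem_of_mem_preimageAlong θ P', ?_⟩
  · intro x
    exact S.mul_mem (S.mul_mem g.2 (preimageAlong_le θ P' x.2)) (S.inv_mem g.2)
  · intro x
    show θ g * θ ⟨x, _⟩ * (θ g)⁻¹ = θ ⟨(g : Ω) * x * (g : Ω)⁻¹, _⟩
    rw [← map_inv, ← map_mul, ← map_mul]
    rfl

theorem IsInd.comp {F : FusionSystem S} {θ : S →* Ω'} {P' Q' : Subgroup Ω'} {φ' : P' →* Ω'}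
    {ψ' : Q' →* Ω'} (h₁ : IsInd F θ P' φ') (h₂ : IsInd F θ Q' ψ') (h : ∀ x : P', φ' x ∈ Q') :
    IsInd F θ P' (ψ'.comp (φ'.codRestrict Q' h)) := by
  obtain ⟨hP'r, φ, hφ, hP, hφS, hP', hind⟩ := h₁
  obtain ⟨hQ'r, ψ, hψ, hQ, hψS, hQ', hind₂⟩ := h₂
  have hPQ : ∀ x : preimageAlong θ P', φ x ∈ preimageAlong θ Q' := by
    intro x
    refine (mem_preimageAlong θ Q' _).mpr ⟨hφS x, ?_⟩
    rw [← hind x]; exact h _
  refine ⟨hP'r, ψ.comp (φ.codRestrict _ hPQ), F.comp_mem hφ hψ hPQ, hP, fun x => hψS _, hP', ?_⟩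
  intro x
  show ψ' ⟨φ' ⟨θ ⟨x, hP x.2⟩, hP' x⟩, _⟩ = θ ⟨ψ ⟨φ x, hPQ x⟩, _⟩
  have e : (⟨φ' ⟨θ ⟨x, hP x.2⟩, hP' x⟩, h _⟩ : Q') =
      ⟨θ ⟨(⟨φ x, hPQ x⟩ : preimageAlong θ Q'), hQ (hPQ x)⟩, hQ' ⟨φ x, hPQ x⟩⟩ :=
    Subtype.ext (hind x)
  rw [e, hind₂ ⟨φ x, hPQ x⟩]

end Cfsg.Agent.helper25
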