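import Cfsg.Agent.Lib_helper25_Factor

set_option autoImplicit false
set_option linter.style.haveILetI false
set_option linter.unusedVariables false

namespace Cfsg.Agent.helper25

open Cfsg Cfsg.FusionSystem

variable {Ω : Type*} [Group Ω] {S : Subgroup Ω} {Ω' : Type*} [Group Ω']

theorem IsInd.inv [Finite S] {F : FusionSystem S} {K : Subgroup Ω}
    (hK : F.StronglyClosed K) {θ : S →* Ω'} (hker : ∀ s : S, θ s = 1 ↔ (s : Ω) ∈ K)
    {P' : Subgroup Ω'} {φ' : P' →* Ω'} (h : IsInd F θ P' φ') :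
    ∃ ψ' : φ'.range →* Ω', IsInd F θ φ'.range ψ' ∧
      ∀ x : P', ψ' ⟨φ' x, ⟨x, rfl⟩⟩ = (x : Ω') := by
  have hinj := h.injective hK hker
  have hle := h.le_of_mem
  obtain ⟨hP'r, φ, hφ, hP, hφS, hP', hind⟩ := h
  refine ⟨P'.subtype.comp (MonoidHom.ofInjective hinj).symm.toMonoidHom, ⟨?_, ?_⟩, ?_⟩
  · rintro _ ⟨x, rfl⟩; exact hle.2 x
  · obtain ⟨ψ, hψ, hψφ⟩ := F.inv_mem hφ
    have hKP : K ≤ preimageAlong θ P' := ker_le_preimageAlong hK.1 hker P'
    have hrange : φ.range = preimageAlong θ φ'.range := by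
      ext y; constructor
      · rintro ⟨x, rfl⟩
        refine (mem_preimageAlong θ _ _).mpr ⟨hφS x, ?_⟩
        rw [← hind x]; exact ⟨_, rfl⟩
      · intro hy
        obtain ⟨hyS, y', hy'⟩ := (mem_preimageAlong θ _ _).mp hy
        obtain ⟨x, hx⟩ := exists_preimage hP'r y'
        have e : y' = ⟨θ ⟨x, hP x.2⟩, hP' x⟩ := Subtype.ext hx.symm
        rw [e, hind x] at hy'
        have h1 : (φ x)⁻¹ * y ∈ K := by
          apply (hker ⟨(φ x)⁻¹ * y, S.mul_mem (S.inv_mem (hφS x)) hyS⟩).mp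
          have e2 : (⟨(φ x)⁻¹ * y, S.mul_mem (S.inv_mem (hφS x)) hyS⟩ : S) =
              (⟨φ x, hφS x⟩ : S)⁻¹ * ⟨y, hyS⟩ := rfl
          rw [e2, map_mul, map_inv, hy', inv_mul_cancel]
        obtain ⟨t, ht, htx⟩ := stronglyClosed_hom_surj F hK hKP hφ h1
        refine ⟨x * t, ?_⟩
        rw [map_mul, htx]; group
    have hψ' := hom_congr F hrange hψ
    refine ⟨_, hψ', preimageAlong_le θ _, fun y => (F.le_of_mem hψ').2 y,
      map_mem_of_mem_preimageAlong θ _, ?_⟩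
    rintro ⟨y, hyp⟩
    have hy : y ∈ φ.range := hrange.ge hyp
    obtain ⟨x, rfl⟩ := hy
    show (((MonoidHom.ofInjective hinj).symm ⟨θ ⟨φ x, _⟩, _⟩ : P') : Ω') = θ ⟨ψ ⟨φ x, _⟩, _⟩
    have e1 : (⟨θ ⟨φ x, hφS x⟩, by rw [← hind x]; exact ⟨_, rfl⟩⟩ : φ'.range) =
        MonoidHom.ofInjective hinj ⟨θ ⟨x, hP x.2⟩, hP' x⟩ := Subtype.ext (hind x).symm
    have e2 : ψ ⟨φ x, ⟨x, rfl⟩⟩ = (x : Ω) := hψφ x
    have e3 : (((MonoidHom.ofInjective hinj).symm
        (⟨θ ⟨φ x, hφS x⟩, by rw [← hind x]; exact ⟨_, rfl⟩⟩ : φ'.range) : P') : Ω') =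
        θ ⟨x, hP x.2⟩ := by
      rw [e1, MulEquiv.symm_apply_apply]
    rw [e3]
    congr 1
    exact Subtype.ext e2.symm
  · intro x
    show (((MonoidHom.ofInjective hinj).symm ⟨φ' x, ⟨x, rfl⟩⟩ : P') : Ω') = x
    have e1 : (⟨φ' x, ⟨x, rfl⟩⟩ : φ'.range) = MonoidHom.ofInjective hinj x := Subtype.ext rfl
    rw [e1, MulEquiv.symm_apply_apply]

/-- the factor system of `F` modulo the strongly closed subgroup `K`, read through `θ`. -/
def factorSystem [Finite S] (F : FusionSystem S) (K : Subgroup Ω) (hK : F.StronglyClosed K)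
    (θ : S →* Ω') (hker : ∀ s : S, θ s = 1 ↔ (s : Ω) ∈ K) : FusionSystem θ.range where
  Hom P' := {φ' | IsInd F θ P' φ'}
  le_of_mem h := IsInd.le_of_mem h
  injective_of_mem h := IsInd.injective hK hker h
  conj_mem hP hg := IsInd.conj hP hg
  comp_mem h₁ h₂ h := IsInd.comp h₁ h₂ h
  inv_mem h := by
    obtain ⟨ψ', hψ', hx⟩ := IsInd.inv hK hker h
    exact ⟨ψ', hψ', hx⟩

theorem factorSystem_isFactorSystem [Finite S] (F : FusionSystem S) (K : Subgroup Ω)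
    (hK : F.StronglyClosed K) (θ : S →* Ω') (hker : ∀ s : S, θ s = 1 ↔ (s : Ω) ∈ K) :
    F.IsFactorSystem K θ (factorSystem F K hK θ hker) :=
  ⟨hK.1, hker, rfl, fun P' φ' => Iff.rfl⟩

theorem exists_factorSystem_quotient [Finite S] (F : FusionSystem S) (S₀ : Subgroup Ω)
    (hS₀ : F.StronglyClosed S₀) [(S₀.subgroupOf S).Normal] :
    ∃ E : FusionSystem (⊤ : Subgroup (S ⧸ S₀.subgroupOf S)),
      F.IsFactorSystem S₀ (QuotientGroup.mk' (S₀.subgroupOf S)) E := by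
  have hker : ∀ s : S, (QuotientGroup.mk' (S₀.subgroupOf S)) s = 1 ↔ (s : Ω) ∈ S₀ := by
    intro s
    rw [QuotientGroup.mk'_apply, QuotientGroup.eq_one_iff, Subgroup.mem_subgroupOf]
  have hrange : (QuotientGroup.mk' (S₀.subgroupOf S)).range = ⊤ :=
    MonoidHom.range_eq_top.mpr (QuotientGroup.mk'_surjective _)
  refine ⟨castSystem hrange (factorSystem F S₀ hS₀ _ hker), hS₀.1, hker, hrange, ?_⟩
  intro P' φ'
  rw [castSystem_hom]
  show IsInd F _ P' φ' ↔ _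
  unfold IsInd
  rw [hrange]

end Cfsg.Agent.helper25
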