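import Cfsg.Agent.Lib_helper25_ExtMod

set_option autoImplicit false
set_option linter.style.haveILetI false
set_option linter.unusedVariables false

namespace Cfsg.Agent.helper25

open Cfsg Cfsg.FusionSystem

theorem exists_descend {G₁ G₂ G₃ : Type*} [Group G₁] [Group G₂] [Group G₃] (f : G₁ →* G₂)
    (hf : Function.Surjective f) (g : G₁ →* G₃) (hker : ∀ x, f x = 1 → g x = 1) :
    ∃ h : G₂ →* G₃, ∀ x, h (f x) = g x := by
  refine ⟨f.liftOfSurjective hf ⟨g, fun x hx =>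
    MonoidHom.mem_ker.mpr (hker x (MonoidHom.mem_ker.mp hx))⟩, fun x => ?_⟩
  exact f.liftOfRightInverse_comp_apply _ _ ⟨g, _⟩ x

variable {Ω : Type*} [Group Ω] {S : Subgroup Ω} {Ω' : Type*} [Group Ω']

theorem mem_imageAlong (θ : S →* Ω') {P : Subgroup Ω} (hP : P ≤ S) (x : P) :
    θ ⟨x, hP x.2⟩ ∈ imageAlong θ P :=
  ⟨⟨x, hP x.2⟩, Subgroup.mem_subgroupOf.mpr x.2, rfl⟩

theorem imageAlong_le_range (θ : S →* Ω') (P : Subgroup Ω) : imageAlong θ P ≤ θ.range := by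
  rintro _ ⟨s, -, rfl⟩; exact ⟨s, rfl⟩

theorem preimageAlong_imageAlong {θ : S →* Ω'} {K : Subgroup Ω} (hKS : K ≤ S)
    (hker : ∀ s : S, θ s = 1 ↔ (s : Ω) ∈ K) {P : Subgroup Ω} (hP : P ≤ S) :
    preimageAlong θ (imageAlong θ P) = P ⊔ K := by
  apply le_antisymm
  · intro y hy
    obtain ⟨hyS, s, hs, hsy⟩ := (mem_preimageAlong θ _ y).mp hy
    have hsP : (s : Ω) ∈ P := Subgroup.mem_subgroupOf.mp hs
    have h1 : (s : Ω)⁻¹ * y ∈ K := by
      apply (hker ⟨(s : Ω)⁻¹ * y, S.mul_mem (S.inv_mem s.2) hyS⟩).mp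
      have e2 : (⟨(s : Ω)⁻¹ * y, S.mul_mem (S.inv_mem s.2) hyS⟩ : S) = s⁻¹ * ⟨y, hyS⟩ := rfl
      rw [e2, map_mul, map_inv, hsy, inv_mul_cancel]
    have e : y = (s : Ω) * ((s : Ω)⁻¹ * y) := by group
    rw [e]
    exact Subgroup.mul_mem _ (Subgroup.mem_sup_left hsP) (Subgroup.mem_sup_right h1)
  · apply sup_le
    · intro x hx
      exact (mem_preimageAlong θ _ x).mpr ⟨hP hx, mem_imageAlong θ hP ⟨x, hx⟩⟩
    · exact ker_le_preimageAlong hKS hker _

/-- in a saturated system, every map induces, modulo a strongly closed subgroup, a map of the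
factor system on the image of its source. -/
theorem exists_induced [Finite S] {p : ℕ} [Fact p.Prime] (hS : IsPGroup p S)
    (F : FusionSystem S) (hF : F.IsSaturated p) {K : Subgroup Ω} (hK : F.StronglyClosed K)
    (θ : S →* Ω') (hker : ∀ s : S, θ s = 1 ↔ (s : Ω) ∈ K) {P : Subgroup Ω} {φ : P →* Ω}
    (hφ : φ ∈ F.Hom P) :
    ∃ φ' : imageAlong θ P →* Ω',
      (∃ ψ ∈ F.Hom (preimageAlong θ (imageAlong θ P)), InducedAlong θ ψ φ') ∧
        InducedAlong θ φ φ' := by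
  have hPS : P ≤ S := (F.le_of_mem hφ).1
  obtain ⟨-, ψ, hψ, hψφ⟩ := exists_extMod hS F hF hK hφ
  have hpre := preimageAlong_imageAlong hK.1 hker hPS
  have hψ₂ := hom_congr F hpre.symm hψ
  have hpreS := preimageAlong_le θ (imageAlong θ P)
  have hval : ∀ x : preimageAlong θ (imageAlong θ P),
      (ψ.comp (Subgroup.inclusion hpre.le)) x ∈ S := fun x => (F.le_of_mem hψ₂).2 x
  -- descend
  have hsurj : Function.Surjective
      ((θ.comp (Subgroup.inclusion hpreS)).codRestrict (imageAlong θ P)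
        (map_mem_of_mem_preimageAlong θ (imageAlong θ P))) := by
    intro y
    obtain ⟨x, hx⟩ := exists_preimage (imageAlong_le_range θ P) y
    exact ⟨x, Subtype.ext hx⟩
  obtain ⟨φ', hφ'⟩ := exists_descend _ hsurj
    (θ.comp ((ψ.comp (Subgroup.inclusion hpre.le)).codRestrict S hval)) (by
      intro x hx
      have hx1 : θ ⟨x, hpreS x.2⟩ = 1 := congrArg Subtype.val hx
      have hxK : (x : Ω) ∈ K := (hker _).mp hx1
      show θ ⟨ψ (Subgroup.inclusion hpre.le x), hval x⟩ = 1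
      apply (hker _).mpr
      exact stronglyClosed_hom_mem F hK hψ (x := Subgroup.inclusion hpre.le x) hxK)
  refine ⟨φ', ⟨_, hψ₂, hpreS, hval, map_mem_of_mem_preimageAlong θ _, fun x => hφ' x⟩,
    hPS, (F.le_of_mem hφ).2, mem_imageAlong θ hPS, fun x => ?_⟩
  have hxpre : (x : Ω) ∈ preimageAlong θ (imageAlong θ P) :=
    hpre.ge (Subgroup.mem_sup_left x.2)
  have h1 := hφ' ⟨x, hxpre⟩
  have h2 : θ ⟨ψ (Subgroup.inclusion hpre.le ⟨x, hxpre⟩), hval ⟨x, hxpre⟩⟩ =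
      θ ⟨φ x, (F.le_of_mem hφ).2 x⟩ := by
    have h3 : (φ x)⁻¹ * ψ (Subgroup.inclusion le_sup_left x) ∈ K := hψφ x
    have h4 := (hker ⟨(φ x)⁻¹ * ψ (Subgroup.inclusion le_sup_left x),
      hK.1 h3⟩).mpr h3
    have e2 : (⟨(φ x)⁻¹ * ψ (Subgroup.inclusion le_sup_left x), hK.1 h3⟩ : S) =
        (⟨φ x, (F.le_of_mem hφ).2 x⟩ : S)⁻¹ *
          ⟨ψ (Subgroup.inclusion hpre.le ⟨x, hxpre⟩), hval ⟨x, hxpre⟩⟩ := rfl
    rw [e2, map_mul, map_inv, inv_mul_eq_one] at h4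
    exact h4.symm
  exact h1.trans h2

/-- the quotient map onto a factor system of a saturated system is a surjective morphism. -/
theorem isSurjectiveMorphism_of_isFactorSystem [Finite S] {p : ℕ} [Fact p.Prime]
    (hS : IsPGroup p S) (F : FusionSystem S) (hF : F.IsSaturated p) {S₀ : Subgroup Ω}
    (hS₀ : F.StronglyClosed S₀) {S' : Subgroup Ω'} (θ : S →* Ω') (E : FusionSystem S')
    (hE : F.IsFactorSystem S₀ θ E) : F.IsSurjectiveMorphism E θ := by
  obtain ⟨hS₀S, hker, hrange, hiff⟩ := hE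
  refine ⟨⟨fun s => hrange ▸ ⟨s, rfl⟩, ?_⟩, hrange, fun P' hP' φ' hφ' => ((hiff P' φ').mp hφ').2⟩
  intro P φ hφ
  obtain ⟨φ', hφ'1, hφ'2⟩ := exists_induced hS F hF hS₀ θ hker hφ
  refine ⟨φ', (hiff _ φ').mpr ⟨?_, hφ'1⟩, hφ'2⟩
  rw [← hrange]; exact imageAlong_le_range θ P

end Cfsg.Agent.helper25
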