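import Cfsg.Agent.Lib_helper25_FactorMorph

set_option autoImplicit false
set_option linter.style.haveILetI false
set_option linter.unusedVariables false

namespace Cfsg.Agent.helper25

open Cfsg Cfsg.FusionSystem

section Desc

variable {A B : Type*} [Group A] [Group B] (π : A →* B) (hπ : Function.Surjective π)

/-- automorphisms of `A` preserving the kernel of `π`. -/
def kerStab : Subgroup (MulAut A) where
  carrier := {β | ∀ x, π (β x) = 1 ↔ π x = 1}
  one_mem' := fun x => Iff.rfl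
  mul_mem' := fun {a b} ha hb x => (ha (b x)).trans (hb x)
  inv_mem' := fun {a} ha x => by
    have h := ha (a⁻¹ x)
    rw [MulAut.apply_inv_self] at h
    exact h.symm

/-- the endomorphism of `B` induced by an automorphism of `A` preserving the kernel. -/
noncomputable def descFun (β : kerStab π) : B →* B :=
  π.liftOfSurjective hπ ⟨π.comp (β.1 : MulAut A).toMonoidHom, fun x hx =>
    MonoidHom.mem_ker.mpr ((β.2 x).mpr (MonoidHom.mem_ker.mp hx))⟩

theorem descFun_apply (β : kerStab π) (x : A) :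
    descFun π hπ β (π x) = π ((β.1 : MulAut A) x) :=
  π.liftOfRightInverse_comp_apply _ _ ⟨π.comp (β.1 : MulAut A).toMonoidHom, _⟩ x

/-- the automorphism of `B` induced by an automorphism of `A` preserving the kernel. -/
noncomputable def descAut (β : kerStab π) : MulAut B :=
  MonoidHom.toMulEquiv (descFun π hπ β) (descFun π hπ β⁻¹)
    (by
      apply MonoidHom.ext; intro y
      obtain ⟨x, rfl⟩ := hπ y
      show descFun π hπ β⁻¹ (descFun π hπ β (π x)) = π x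
      rw [descFun_apply, descFun_apply]
      show π ((β.1 : MulAut A)⁻¹ ((β.1 : MulAut A) x)) = π x
      rw [MulAut.inv_apply_self])
    (by
      apply MonoidHom.ext; intro y
      obtain ⟨x, rfl⟩ := hπ y
      show descFun π hπ β (descFun π hπ β⁻¹ (π x)) = π x
      rw [descFun_apply, descFun_apply]
      show π ((β.1 : MulAut A) ((β.1 : MulAut A)⁻¹ x)) = π x
      rw [MulAut.apply_inv_self])

theorem descAut_apply (β : kerStab π) (x : A) :
    descAut π hπ β (π x) = π ((β.1 : MulAut A) x) :=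
  descFun_apply π hπ β x

/-- descending automorphisms along a surjection, as a homomorphism. -/
noncomputable def descHom : kerStab π →* MulAut B where
  toFun := descAut π hπ
  map_one' := by
    apply MulEquiv.ext; intro y
    obtain ⟨x, rfl⟩ := hπ y
    rw [descAut_apply]; rfl
  map_mul' := fun a b => by
    apply MulEquiv.ext; intro y
    obtain ⟨x, rfl⟩ := hπ y
    show descAut π hπ (a * b) (π x) = descAut π hπ a (descAut π hπ b (π x))
    rw [descAut_apply, descAut_apply, descAut_apply]; rfl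

theorem descHom_apply (β : kerStab π) (x : A) :
    descHom π hπ β (π x) = π ((β.1 : MulAut A) x) :=
  descAut_apply π hπ β x

end Desc

/-- the image of a Sylow subgroup is a Sylow subgroup of the image. -/
theorem isSylowIn_map_range {G G' : Type*} [Group G] [Group G'] [Finite G] {p : ℕ}
    [Fact p.Prime] (f : G →* G') (R : Sylow p G) :
    IsSylowIn p ((R : Subgroup G).map f) f.range := by
  refine ⟨R.mapSurjective f.rangeRestrict_surjective, ?_⟩
  rw [Sylow.coe_mapSurjective]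
  ext ⟨y, hy⟩
  simp only [Subgroup.mem_map, Subgroup.mem_subgroupOf]
  constructor
  · rintro ⟨x, hx, hxy⟩; exact ⟨x, hx, congrArg Subtype.val hxy⟩
  · rintro ⟨x, hx, hxy⟩; exact ⟨x, hx, Subtype.ext hxy⟩

section Ext

variable {Ω : Type*} [Group Ω] {S : Subgroup Ω}

/-- the generating set of the extender is already a subgroup. -/
theorem mem_extender_iff (S P : Subgroup Ω) (φ : P →* Ω) (g : Ω) :
    g ∈ extender S P φ ↔ g ∈ S ∧ g ∈ Subgroup.normalizer (P : Set Ω) ∧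
      ∃ h ∈ S, ∀ (x : P) (hx : g * (x : Ω) * g⁻¹ ∈ P),
        φ ⟨g * x * g⁻¹, hx⟩ = h * φ x * h⁻¹ := by
  constructor
  · intro hg
    unfold extender at hg
    induction hg using Subgroup.closure_induction with
    | mem x hx => exact hx
    | one =>
      refine ⟨S.one_mem, Subgroup.one_mem _, 1, S.one_mem, fun x hx => ?_⟩
      have e1 : (⟨1 * (x : Ω) * 1⁻¹, hx⟩ : P) = x := Subtype.ext (by group)
      rw [e1]; group
    | mul a b _ _ ha hb =>
      obtain ⟨haS, haN, h₁, hh₁, H₁⟩ := ha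
      obtain ⟨hbS, hbN, h₂, hh₂, H₂⟩ := hb
      refine ⟨S.mul_mem haS hbS, Subgroup.mul_mem _ haN hbN, h₁ * h₂, S.mul_mem hh₁ hh₂,
        fun x hx => ?_⟩
      have hbx : b * (x : Ω) * b⁻¹ ∈ P := (Subgroup.mem_normalizer_iff.mp hbN x).mp x.2
      have hax : a * (b * (x : Ω) * b⁻¹) * a⁻¹ ∈ P :=
        (Subgroup.mem_normalizer_iff.mp haN _).mp hbx
      have e1 : (⟨a * b * (x : Ω) * (a * b)⁻¹, hx⟩ : P) =
          ⟨a * ((⟨b * (x : Ω) * b⁻¹, hbx⟩ : P) : Ω) * a⁻¹, hax⟩ := Subtype.ext (by group)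
      rw [e1, H₁ ⟨b * x * b⁻¹, hbx⟩ hax, H₂ x hbx]; group
    | inv a _ ha =>
      obtain ⟨haS, haN, h₁, hh₁, H₁⟩ := ha
      refine ⟨S.inv_mem haS, Subgroup.inv_mem _ haN, h₁⁻¹, S.inv_mem hh₁, fun x hx => ?_⟩
      have hback : a * ((⟨a⁻¹ * (x : Ω) * a⁻¹⁻¹, hx⟩ : P) : Ω) * a⁻¹ ∈ P := by
        have e : a * (a⁻¹ * (x : Ω) * a⁻¹⁻¹) * a⁻¹ = x := by group
        show a * (a⁻¹ * (x : Ω) * a⁻¹⁻¹) * a⁻¹ ∈ P
        rw [e]; exact x.2
      have h2 := H₁ ⟨a⁻¹ * x * a⁻¹⁻¹, hx⟩ hback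
      have e2 : (⟨a * ((⟨a⁻¹ * (x : Ω) * a⁻¹⁻¹, hx⟩ : P) : Ω) * a⁻¹, hback⟩ : P) = x :=
        Subtype.ext (by show a * (a⁻¹ * (x : Ω) * a⁻¹⁻¹) * a⁻¹ = x; group)
      rw [e2] at h2
      rw [h2]; group
  · intro h; exact Subgroup.subset_closure h

/-- an element of `N_S(P)` whose action, transported along an isomorphism onto `Q`, is induced by
`S` lies in the extender. -/
theorem mem_extender_of_iso {P Q : Subgroup Ω} (e : P ≃* Q) {g : Ω}
    (hg : g ∈ normalizerIn S P)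
    (h : MulAut.congr e (normAut P g hg.2) ∈ autInducedBy S Q) :
    g ∈ extender S P (Q.subtype.comp e.toMonoidHom) := by
  obtain ⟨s, hs, hsα⟩ := (mem_autInducedBy_iff S Q _).mp h
  apply Subgroup.subset_closure
  refine ⟨hg.1, hg.2, s, hs, fun x hx => ?_⟩
  have h1 := hsα (e x)
  have h2 : MulAut.congr e (normAut P g hg.2) (e x) = e (normAut P g hg.2 x) := by
    show e (normAut P g hg.2 (e.symm (e x))) = _
    rw [MulEquiv.symm_apply_apply]
  rw [h2] at h1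
  exact h1

end Ext

section Quot

variable {Ω : Type*} [Group Ω] {S : Subgroup Ω} {Ω' : Type*} [Group Ω']

/-- the restriction of `θ` to the full preimage of `Q'`, as a map onto `Q'`. -/
def quotMap (θ : S →* Ω') (Q' : Subgroup Ω') : preimageAlong θ Q' →* Q' :=
  (θ.comp (Subgroup.inclusion (preimageAlong_le θ Q'))).codRestrict Q'
    (map_mem_of_mem_preimageAlong θ Q')

theorem quotMap_coe (θ : S →* Ω') (Q' : Subgroup Ω') (x : preimageAlong θ Q') :
    ((quotMap θ Q' x : Q') : Ω') = θ ⟨x, preimageAlong_le θ Q' x.2⟩ := rfl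

theorem quotMap_surjective (θ : S →* Ω') {Q' : Subgroup Ω'} (hQ' : Q' ≤ θ.range) :
    Function.Surjective (quotMap θ Q') := by
  intro y
  obtain ⟨x, hx⟩ := exists_preimage hQ' y
  exact ⟨x, Subtype.ext hx⟩

theorem quotMap_eq_one_iff {θ : S →* Ω'} {K : Subgroup Ω}
    (hker : ∀ s : S, θ s = 1 ↔ (s : Ω) ∈ K) {Q' : Subgroup Ω'} (x : preimageAlong θ Q') :
    quotMap θ Q' x = 1 ↔ (x : Ω) ∈ K := by
  rw [← hker ⟨x, preimageAlong_le θ Q' x.2⟩]
  constructor
  · intro h; exact congrArg Subtype.val h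
  · intro h; exact Subtype.ext h

theorem preimageAlong_mono (θ : S →* Ω') {P' N' : Subgroup Ω'} (h : P' ≤ N') :
    preimageAlong θ P' ≤ preimageAlong θ N' := by
  intro x hx
  obtain ⟨hS, hx'⟩ := (mem_preimageAlong θ P' x).mp hx
  exact (mem_preimageAlong θ N' x).mpr ⟨hS, h hx'⟩

theorem inducedAlong_iff (θ : S →* Ω') {P' : Subgroup Ω'} {φ : preimageAlong θ P' →* Ω}
    {φ' : P' →* Ω'} :
    InducedAlong θ φ φ' ↔ ∃ hφ : ∀ x, φ x ∈ S, ∀ x, φ' (quotMap θ P' x) = θ ⟨φ x, hφ x⟩ := by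
  constructor
  · rintro ⟨hP, hφ, hP', h⟩; exact ⟨hφ, fun x => h x⟩
  · rintro ⟨hφ, h⟩
    exact ⟨preimageAlong_le θ P', hφ, map_mem_of_mem_preimageAlong θ P', fun x => h x⟩

theorem mem_normalizer_preimageAlong (θ : S →* Ω') (Q' : Subgroup Ω') (g : S)
    (hg : θ g ∈ Subgroup.normalizer (Q' : Set Ω')) :
    (g : Ω) ∈ Subgroup.normalizer ((preimageAlong θ Q' : Subgroup Ω) : Set Ω) := by
  rw [Subgroup.mem_normalizer_iff]
  intro y
  constructor
  · intro hy
    obtain ⟨hyS, hy'⟩ := (mem_preimageAlong θ Q' y).mp hy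
    refine (mem_preimageAlong θ Q' _).mpr ⟨S.mul_mem (S.mul_mem g.2 hyS) (S.inv_mem g.2), ?_⟩
    have e : (⟨(g : Ω) * y * (g : Ω)⁻¹, S.mul_mem (S.mul_mem g.2 hyS) (S.inv_mem g.2)⟩ : S) =
        g * ⟨y, hyS⟩ * g⁻¹ := rfl
    rw [e, map_mul, map_mul, map_inv]
    exact (Subgroup.mem_normalizer_iff.mp hg _).mp hy'
  · intro hy
    obtain ⟨hS', h'⟩ := (mem_preimageAlong θ Q' _).mp hy
    have hyS : y ∈ S := by
      have e : y = (g : Ω)⁻¹ * ((g : Ω) * y * (g : Ω)⁻¹) * (g : Ω) := by group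
      rw [e]
      exact S.mul_mem (S.mul_mem (S.inv_mem g.2) hS') g.2
    refine (mem_preimageAlong θ Q' _).mpr ⟨hyS, ?_⟩
    have e : (⟨(g : Ω) * y * (g : Ω)⁻¹, hS'⟩ : S) = g * ⟨y, hyS⟩ * g⁻¹ := rfl
    rw [e, map_mul, map_mul, map_inv] at h'
    exact (Subgroup.mem_normalizer_iff.mp hg _).mpr h'

end Quot

section Phi

variable {Ω : Type*} [Group Ω] {S : Subgroup Ω} {Ω' : Type*} [Group Ω']

theorem autGroup_le_kerStab (F : FusionSystem S) {K : Subgroup Ω} (hK : F.StronglyClosed K)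
    (θ : S →* Ω') (hker : ∀ s : S, θ s = 1 ↔ (s : Ω) ∈ K) (Q' : Subgroup Ω') :
    F.autGroup (preimageAlong θ Q') ≤ kerStab (quotMap θ Q') := by
  intro β hβ
  have hQS := preimageAlong_le θ Q'
  have key : ∀ γ ∈ F.autGroup (preimageAlong θ Q'), ∀ x : preimageAlong θ Q',
      quotMap θ Q' x = 1 → quotMap θ Q' (γ x) = 1 := by
    intro γ hγ x hx
    have hγ' : IsFIso F γ := (mem_autGroup_iff F hQS γ).mp hγ
    rw [quotMap_eq_one_iff hker] at hx ⊢
    exact stronglyClosed_hom_mem F hK hγ' (x := x) hx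
  intro x
  constructor
  · intro h
    have := key β⁻¹ (Subgroup.inv_mem _ hβ) (β x) h
    rwa [MulAut.inv_apply_self] at this
  · exact key β hβ x

/-- the homomorphism from `Aut_F` of a full preimage to the automorphisms of the image. -/
noncomputable def phiHom (F : FusionSystem S) {K : Subgroup Ω} (hK : F.StronglyClosed K)
    (θ : S →* Ω') (hker : ∀ s : S, θ s = 1 ↔ (s : Ω) ∈ K) (Q' : Subgroup Ω')
    (hQ' : Q' ≤ θ.range) : ↥(F.autGroup (preimageAlong θ Q')) →* MulAut Q' :=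
  (descHom (quotMap θ Q') (quotMap_surjective θ hQ')).comp
    (Subgroup.inclusion (autGroup_le_kerStab F hK θ hker Q'))

theorem phiHom_apply (F : FusionSystem S) {K : Subgroup Ω} (hK : F.StronglyClosed K)
    (θ : S →* Ω') (hker : ∀ s : S, θ s = 1 ↔ (s : Ω) ∈ K) (Q' : Subgroup Ω')
    (hQ' : Q' ≤ θ.range) (β : F.autGroup (preimageAlong θ Q')) (x : preimageAlong θ Q') :
    phiHom F hK θ hker Q' hQ' β (quotMap θ Q' x) = quotMap θ Q' ((β : MulAut _) x) :=
  descHom_apply _ _ _ x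

theorem exists_hom_of_factor (F : FusionSystem S) {K : Subgroup Ω} (hK : F.StronglyClosed K)
    (θ : S →* Ω') (hker : ∀ s : S, θ s = 1 ↔ (s : Ω) ∈ K) (E : FusionSystem θ.range)
    (hiff : ∀ (P' : Subgroup Ω') (φ' : P' →* Ω'), φ' ∈ E.Hom P' ↔
      P' ≤ θ.range ∧ ∃ φ ∈ F.Hom (preimageAlong θ P'), InducedAlong θ φ φ')
    {P' : Subgroup Ω'} (hP' : P' ≤ θ.range) {φ : preimageAlong θ P' →* Ω}
    (hφ : φ ∈ F.Hom (preimageAlong θ P')) :
    ∃ φ' ∈ E.Hom P', ∀ x, φ' (quotMap θ P' x) = θ ⟨φ x, (F.le_of_mem hφ).2 x⟩ := by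
  have hval := (F.le_of_mem hφ).2
  obtain ⟨φ', hφ'⟩ := exists_descend (quotMap θ P') (quotMap_surjective θ hP')
    (θ.comp (φ.codRestrict S hval)) (by
      intro x hx
      rw [quotMap_eq_one_iff hker] at hx
      show θ ⟨φ x, hval x⟩ = 1
      exact (hker _).mpr (stronglyClosed_hom_mem F hK hφ hx))
  exact ⟨φ', (hiff P' φ').mpr ⟨hP', φ, hφ, (inducedAlong_iff θ).mpr ⟨hval, fun x => hφ' x⟩⟩,
    fun x => hφ' x⟩

theorem exists_lift_of_factor (F : FusionSystem S) (θ : S →* Ω') (E : FusionSystem θ.range)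
    (hiff : ∀ (P' : Subgroup Ω') (φ' : P' →* Ω'), φ' ∈ E.Hom P' ↔
      P' ≤ θ.range ∧ ∃ φ ∈ F.Hom (preimageAlong θ P'), InducedAlong θ φ φ')
    {P' : Subgroup Ω'} {φ' : P' →* Ω'} (hφ' : φ' ∈ E.Hom P') :
    P' ≤ θ.range ∧ ∃ φ, ∃ hφ : φ ∈ F.Hom (preimageAlong θ P'),
      ∀ x, φ' (quotMap θ P' x) = θ ⟨φ x, (F.le_of_mem hφ).2 x⟩ := by
  obtain ⟨hP', φ, hφ, hind⟩ := (hiff P' φ').mp hφ'
  obtain ⟨hval, h⟩ := (inducedAlong_iff θ).mp hind
  exact ⟨hP', φ, hφ, fun x => h x⟩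

theorem phiHom_range [Finite S] (F : FusionSystem S) {K : Subgroup Ω}
    (hK : F.StronglyClosed K)
    (θ : S →* Ω') (hker : ∀ s : S, θ s = 1 ↔ (s : Ω) ∈ K) (E : FusionSystem θ.range)
    (hiff : ∀ (P' : Subgroup Ω') (φ' : P' →* Ω'), φ' ∈ E.Hom P' ↔
      P' ≤ θ.range ∧ ∃ φ ∈ F.Hom (preimageAlong θ P'), InducedAlong θ φ φ')
    (Q' : Subgroup Ω') (hQ' : Q' ≤ θ.range) :
    (phiHom F hK θ hker Q' hQ').range = E.autGroup Q' := by
  have hQS := preimageAlong_le θ Q'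
  haveI : Finite (preimageAlong θ Q') := finite_of_le S hQS
  apply le_antisymm
  · rintro _ ⟨β, rfl⟩
    have hβ : IsFIso F (β : MulAut _) := (mem_autGroup_iff F hQS _).mp β.2
    rw [mem_autGroup_iff E hQ']
    obtain ⟨φ', hφ', hφ'spec⟩ := exists_hom_of_factor F hK θ hker E hiff hQ' hβ
    have e1 : Q'.subtype.comp (phiHom F hK θ hker Q' hQ' β).toMonoidHom = φ' := by
      apply MonoidHom.ext; intro y
      obtain ⟨x, rfl⟩ := quotMap_surjective θ hQ' y
      rw [hφ'spec x]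
      show ((phiHom F hK θ hker Q' hQ' β (quotMap θ Q' x) : Q') : Ω') = _
      rw [phiHom_apply]
      rfl
    unfold IsFIso; rw [e1]; exact hφ'
  · intro α' hα'
    have hα'' : IsFIso E α' := (mem_autGroup_iff E hQ' α').mp hα'
    obtain ⟨-, φ, hφ, hφspec⟩ := exists_lift_of_factor F θ E hiff hα''
    have hval : ∀ x, φ x ∈ preimageAlong θ Q' := fun x =>
      (mem_preimageAlong θ Q' _).mpr ⟨(F.le_of_mem hφ).2 x, by
        rw [← hφspec x]; exact (α' _).2⟩
    have hr : φ.range = preimageAlong θ Q' := by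
      apply Subgroup.eq_of_le_of_card_ge
      · rintro _ ⟨x, rfl⟩; exact hval x
      · exact le_of_eq (Nat.card_congr (MonoidHom.ofInjective (F.injective_of_mem hφ)).toEquiv)
    obtain ⟨β, hβ, hβcoe⟩ := exists_isFIso_of_mem F hφ hr
    refine ⟨⟨β, (mem_autGroup_iff F hQS β).mpr hβ⟩, ?_⟩
    apply MulEquiv.ext; intro y
    obtain ⟨x, rfl⟩ := quotMap_surjective θ hQ' y
    rw [phiHom_apply]
    apply Subtype.ext
    have h1 : ((α' (quotMap θ Q' x) : Q') : Ω') = θ ⟨φ x, (F.le_of_mem hφ).2 x⟩ := hφspec x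
    rw [h1]
    show θ ⟨((β x : preimageAlong θ Q') : Ω), _⟩ = θ ⟨φ x, _⟩
    congr 1
    exact Subtype.ext (hβcoe x)

theorem phiHom_map_autInducedBy [Finite S] (F : FusionSystem S) {K : Subgroup Ω}
    (hK : F.StronglyClosed K)
    (θ : S →* Ω') (hker : ∀ s : S, θ s = 1 ↔ (s : Ω) ∈ K)
    (Q' : Subgroup Ω') (hQ' : Q' ≤ θ.range) :
    ((autInducedBy S (preimageAlong θ Q')).subgroupOf (F.autGroup (preimageAlong θ Q'))).map
      (phiHom F hK θ hker Q' hQ') = autInducedBy θ.range Q' := by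
  apply le_antisymm
  · rintro _ ⟨β, hβ, rfl⟩
    have hβ' : (β : MulAut _) ∈ autInducedBy S (preimageAlong θ Q') :=
      Subgroup.mem_subgroupOf.mp hβ
    obtain ⟨g, hgS, hg⟩ := (mem_autInducedBy_iff S _ _).mp hβ'
    rw [mem_autInducedBy_iff]
    refine ⟨θ ⟨g, hgS⟩, ⟨⟨g, hgS⟩, rfl⟩, fun y => ?_⟩
    obtain ⟨x, rfl⟩ := quotMap_surjective θ hQ' y
    rw [phiHom_apply]
    show θ ⟨(((β : MulAut _) x : preimageAlong θ Q') : Ω), _⟩ =
      θ ⟨g, hgS⟩ * θ ⟨x, _⟩ * (θ ⟨g, hgS⟩)⁻¹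
    rw [← map_inv, ← map_mul, ← map_mul]
    congr 1
    exact Subtype.ext (hg x)
  · intro α' hα'
    obtain ⟨g', hg'S, hg'⟩ := (mem_autInducedBy_iff θ.range Q' α').mp hα'
    obtain ⟨g, rfl⟩ := hg'S
    have hgN : (g : Ω) ∈ Subgroup.normalizer ((preimageAlong θ Q' : Subgroup Ω) : Set Ω) :=
      mem_normalizer_preimageAlong θ Q' g (mem_normalizer_of_aut α' hg')
    have hgNS : (g : Ω) ∈ normalizerIn S (preimageAlong θ Q') := ⟨g.2, hgN⟩
    refine ⟨⟨normAut _ g hgN, autInducedBy_le_autGroup F (preimageAlong_le θ Q')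
      (normAut_mem S _ hgNS)⟩, Subgroup.mem_subgroupOf.mpr (normAut_mem S _ hgNS), ?_⟩
    apply MulEquiv.ext; intro y
    obtain ⟨x, rfl⟩ := quotMap_surjective θ hQ' y
    rw [phiHom_apply]
    apply Subtype.ext
    rw [hg' (quotMap θ Q' x)]
    show θ ⟨(g : Ω) * x * (g : Ω)⁻¹, _⟩ = θ g * θ ⟨x, _⟩ * (θ g)⁻¹
    rw [← map_inv, ← map_mul, ← map_mul]
    rfl

/-- the image of a fully automized full preimage is fully automized in the factor system. -/
theorem fullyAutomized_of_factor [Finite S] {p : ℕ} [Fact p.Prime] (F : FusionSystem S)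
    {K : Subgroup Ω} (hK : F.StronglyClosed K)
    (θ : S →* Ω') (hker : ∀ s : S, θ s = 1 ↔ (s : Ω) ∈ K) (E : FusionSystem θ.range)
    (hiff : ∀ (P' : Subgroup Ω') (φ' : P' →* Ω'), φ' ∈ E.Hom P' ↔
      P' ≤ θ.range ∧ ∃ φ ∈ F.Hom (preimageAlong θ P'), InducedAlong θ φ φ')
    {Q' : Subgroup Ω'} (hQ' : Q' ≤ θ.range)
    (hfa : F.IsFullyAutomized p (preimageAlong θ Q')) : E.IsFullyAutomized p Q' := by
  obtain ⟨hQS, R, hR⟩ := hfa
  haveI : Finite (preimageAlong θ Q') := finite_of_le S hQS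
  have h1 := isSylowIn_map_range (phiHom F hK θ hker Q' hQ') R
  rw [hR, phiHom_map_autInducedBy F hK θ hker Q' hQ', phiHom_range F hK θ hker E hiff Q' hQ'] at h1
  exact ⟨hQ', h1⟩

end Phi

end Cfsg.Agent.helper25
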