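import Cfsg.Agent.Lib_helper25_FactorSat

set_option autoImplicit false
set_option linter.style.haveILetI false
set_option linter.unusedVariables false
set_option maxHeartbeats 1000000

namespace Cfsg.Agent.helper25

open Cfsg Cfsg.FusionSystem

variable {Ω : Type*} [Group Ω] {S : Subgroup Ω} {Ω' : Type*} [Group Ω']

/-- the image of a fully automized receptive full preimage is receptive in the factor system. -/
theorem receptive_of_factor [Finite S] {p : ℕ} [Fact p.Prime] (hS : IsPGroup p S)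
    (F : FusionSystem S)
    {K : Subgroup Ω} (hK : F.StronglyClosed K)
    (θ : S →* Ω') (hker : ∀ s : S, θ s = 1 ↔ (s : Ω) ∈ K) (E : FusionSystem θ.range)
    (hiff : ∀ (P' : Subgroup Ω') (φ' : P' →* Ω'), φ' ∈ E.Hom P' ↔
      P' ≤ θ.range ∧ ∃ φ ∈ F.Hom (preimageAlong θ P'), InducedAlong θ φ φ')
    {Q' : Subgroup Ω'} (hQ' : Q' ≤ θ.range)
    (hfa : F.IsFullyAutomized p (preimageAlong θ Q'))
    (hrec : F.IsReceptive (preimageAlong θ Q')) : E.IsReceptive Q' := by
  refine ⟨hQ', fun P' φ' hφ' hr => ?_⟩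
  obtain ⟨hP', φ, hφ, hφspec⟩ := exists_lift_of_factor F θ E hiff hφ'
  have hQS : preimageAlong θ Q' ≤ S := preimageAlong_le θ Q'
  have hPS : preimageAlong θ P' ≤ S := preimageAlong_le θ P'
  haveI : Finite (preimageAlong θ Q') := finite_of_le S hQS
  have hφQ : ∀ x, φ x ∈ preimageAlong θ Q' := fun x => by
    refine (mem_preimageAlong θ Q' _).mpr ⟨(F.le_of_mem hφ).2 x, ?_⟩
    have h1 : φ' (quotMap θ P' x) ∈ φ'.range := ⟨_, rfl⟩
    rw [hr] at h1
    rw [← hφspec x]; exact h1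
  have hKP : K ≤ preimageAlong θ P' := ker_le_preimageAlong hK.1 hker P'
  have hφr : φ.range = preimageAlong θ Q' := by
    apply le_antisymm
    · rintro _ ⟨x, rfl⟩; exact hφQ x
    · intro y hy
      obtain ⟨hyS, hy'⟩ := (mem_preimageAlong θ Q' y).mp hy
      have h1 : θ ⟨y, hyS⟩ ∈ φ'.range := by rw [hr]; exact hy'
      obtain ⟨x', hx'⟩ := h1
      obtain ⟨x, rfl⟩ := quotMap_surjective θ hP' x'
      rw [hφspec x] at hx'
      have hk : (φ x)⁻¹ * y ∈ K := by
        apply (hker ⟨(φ x)⁻¹ * y, S.mul_mem (S.inv_mem ((F.le_of_mem hφ).2 x)) hyS⟩).mp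
        have e2 : (⟨(φ x)⁻¹ * y, S.mul_mem (S.inv_mem ((F.le_of_mem hφ).2 x)) hyS⟩ : S) =
            (⟨φ x, (F.le_of_mem hφ).2 x⟩ : S)⁻¹ * ⟨y, hyS⟩ := rfl
        rw [e2, map_mul, map_inv, hx', inv_mul_cancel]
      obtain ⟨t, htK, ht⟩ := stronglyClosed_hom_surj F hK hKP hφ hk
      refine ⟨x * t, ?_⟩
      rw [map_mul, ht]; group
  obtain ⟨e, he, hecoe⟩ := exists_isFIso_of_mem F hφ hφr
  have hN'S : extender θ.range P' φ' ≤ θ.range := (extender_le _ _ _).trans inf_le_left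
  have hP'N' : P' ≤ extender θ.range P' φ' := le_extender E hφ'
  have hNS : preimageAlong θ (extender θ.range P' φ') ≤ S := preimageAlong_le _ _
  have hPN : preimageAlong θ P' ≤ preimageAlong θ (extender θ.range P' φ') :=
    preimageAlong_mono θ hP'N'
  have hNnorm : ∀ g ∈ preimageAlong θ (extender θ.range P' φ'),
      g ∈ normalizerIn S (preimageAlong θ P') := by
    intro g hg
    obtain ⟨hgS, hg'⟩ := (mem_preimageAlong θ _ g).mp hg
    have h1 := (extender_le _ _ _ hg').2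
    exact ⟨hgS, mem_normalizer_preimageAlong θ P' ⟨g, hgS⟩ h1⟩
  have hHle : autInducedBy S (preimageAlong θ Q') ≤ F.autGroup (preimageAlong θ Q') :=
    autInducedBy_le_autGroup F hQS
  have hKQle : (phiHom F hK θ hker Q' hQ').ker.map (F.autGroup (preimageAlong θ Q')).subtype ≤
      F.autGroup (preimageAlong θ Q') := by
    rintro _ ⟨k, -, rfl⟩; exact k.2
  have hXp : IsPGroup p ((autInducedBy (preimageAlong θ (extender θ.range P' φ'))
      (preimageAlong θ P')).map (MulAut.congr e).toMonoidHom) :=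
    (isPGroup_autInducedBy (hS.to_le hNS) _).map _
  have hX : (autInducedBy (preimageAlong θ (extender θ.range P' φ'))
      (preimageAlong θ P')).map (MulAut.congr e).toMonoidHom ≤
      autInducedBy S (preimageAlong θ Q') ⊔
        (phiHom F hK θ hker Q' hQ').ker.map (F.autGroup (preimageAlong θ Q')).subtype := by
    rintro _ ⟨c, hc, rfl⟩
    obtain ⟨g, hg, rfl⟩ := (mem_autInducedBy_iff' _ _ c).mp hc
    have hgN : g ∈ preimageAlong θ (extender θ.range P' φ') := hg.1
    obtain ⟨hgS, hg'⟩ := (mem_preimageAlong θ _ g).mp hgN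
    obtain ⟨-, hg'N, h', hh'S, hh'⟩ := (mem_extender_iff _ _ _ _).mp hg'
    obtain ⟨h, rfl⟩ := hh'S
    have hh'norm : θ h ∈ Subgroup.normalizer (Q' : Set Ω') := gen_normalizes hr hg'N hh'
    have hhN : (h : Ω) ∈ Subgroup.normalizer ((preimageAlong θ Q' : Subgroup Ω) : Set Ω) :=
      mem_normalizer_preimageAlong θ Q' h hh'norm
    have hhNS : (h : Ω) ∈ normalizerIn S (preimageAlong θ Q') := ⟨h.2, hhN⟩
    have haF : MulAut.congr e (normAut (preimageAlong θ P') g hg.2) ∈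
        F.autGroup (preimageAlong θ Q') :=
      he.congr_mem_autGroup (autInducedBy_le_autGroup F hPS (normAut_mem S _ ⟨hgS, hg.2⟩))
    have hbH : normAut (preimageAlong θ Q') h hhN ∈ autInducedBy S (preimageAlong θ Q') :=
      normAut_mem S _ hhNS
    have hbF : normAut (preimageAlong θ Q') h hhN ∈ F.autGroup (preimageAlong θ Q') := hHle hbH
    have hΦ : phiHom F hK θ hker Q' hQ' ⟨_, haF⟩ = phiHom F hK θ hker Q' hQ' ⟨_, hbF⟩ := by
      apply MulEquiv.ext; intro y
      obtain ⟨x, rfl⟩ := quotMap_surjective θ hQ' y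
      rw [phiHom_apply, phiHom_apply]
      apply Subtype.ext
      have hcz : g * ((e.symm x : preimageAlong θ P') : Ω) * g⁻¹ ∈ preimageAlong θ P' :=
        (Subgroup.mem_normalizer_iff.mp hg.2 _).mp (e.symm x).2
      have e1 : ((MulAut.congr e (normAut (preimageAlong θ P') g hg.2) x :
          preimageAlong θ Q') : Ω) = φ ⟨g * (e.symm x : preimageAlong θ P') * g⁻¹, hcz⟩ := by
        rw [← hecoe]; rfl
      have hx' : θ ⟨g, hgS⟩ * ((quotMap θ P' (e.symm x) : P') : Ω') * (θ ⟨g, hgS⟩)⁻¹ ∈ P' :=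
        (Subgroup.mem_normalizer_iff.mp hg'N _).mp (quotMap θ P' (e.symm x)).2
      have h3 := hh' (quotMap θ P' (e.symm x)) hx'
      have e2 : (⟨θ ⟨g, hgS⟩ * ((quotMap θ P' (e.symm x) : P') : Ω') * (θ ⟨g, hgS⟩)⁻¹, hx'⟩ :
          P') = quotMap θ P' ⟨g * (e.symm x : preimageAlong θ P') * g⁻¹, hcz⟩ := by
        apply Subtype.ext
        show θ ⟨g, hgS⟩ * θ ⟨(e.symm x : preimageAlong θ P'), _⟩ * (θ ⟨g, hgS⟩)⁻¹ =
          θ ⟨g * (e.symm x : preimageAlong θ P') * g⁻¹, _⟩
        rw [← map_inv, ← map_mul, ← map_mul]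
        rfl
      rw [e2, hφspec, hφspec] at h3
      have e3 : φ (e.symm x) = (x : Ω) := by
        rw [← hecoe, MulEquiv.apply_symm_apply]
      show θ ⟨((MulAut.congr e (normAut (preimageAlong θ P') g hg.2) x :
          preimageAlong θ Q') : Ω), _⟩ = θ ⟨(h : Ω) * x * (h : Ω)⁻¹, _⟩
      calc θ ⟨((MulAut.congr e (normAut (preimageAlong θ P') g hg.2) x :
              preimageAlong θ Q') : Ω), _⟩
          = θ ⟨φ ⟨g * (e.symm x : preimageAlong θ P') * g⁻¹, hcz⟩, (F.le_of_mem hφ).2 _⟩ :=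
            congrArg θ (Subtype.ext e1)
        _ = θ h * θ ⟨φ (e.symm x), (F.le_of_mem hφ).2 _⟩ * (θ h)⁻¹ := h3
        _ = θ h * θ ⟨x, hQS x.2⟩ * (θ h)⁻¹ := by
            congr 2
            exact congrArg θ (Subtype.ext e3)
        _ = θ ⟨(h : Ω) * x * (h : Ω)⁻¹, S.mul_mem (S.mul_mem h.2 (hQS x.2)) (S.inv_mem h.2)⟩ := by
            rw [← map_inv, ← map_mul, ← map_mul]
            rfl
    have hmem : (normAut (preimageAlong θ Q') h hhN)⁻¹ *
        MulAut.congr e (normAut (preimageAlong θ P') g hg.2) ∈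
        (phiHom F hK θ hker Q' hQ').ker.map (F.autGroup (preimageAlong θ Q')).subtype := by
      refine ⟨(⟨_, hbF⟩ : F.autGroup (preimageAlong θ Q'))⁻¹ * ⟨_, haF⟩, ?_, rfl⟩
      apply MonoidHom.mem_ker.mpr
      rw [map_mul, map_inv, hΦ, inv_mul_cancel]
    have e5 : MulAut.congr e (normAut (preimageAlong θ P') g hg.2) =
        normAut (preimageAlong θ Q') h hhN * ((normAut (preimageAlong θ Q') h hhN)⁻¹ *
        MulAut.congr e (normAut (preimageAlong θ P') g hg.2)) := by group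
    show MulAut.congr e (normAut (preimageAlong θ P') g hg.2) ∈ _
    rw [e5]
    exact Subgroup.mul_mem _ (Subgroup.mem_sup_left hbH) (Subgroup.mem_sup_right hmem)
  have hsyl : IsSylowIn p (autInducedBy S (preimageAlong θ Q'))
      (autInducedBy S (preimageAlong θ Q') ⊔
        (phiHom F hK θ hker Q' hQ').ker.map (F.autGroup (preimageAlong θ Q')).subtype) :=
    isSylowIn_of_le le_sup_left (sup_le hHle hKQle) hfa.2
  obtain ⟨a, ha, haX⟩ := exists_cj_le_of_isSylowIn hsyl hX hXp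
  have hnorm : autInducedBy S (preimageAlong θ Q') ≤ Subgroup.normalizer
      (((phiHom F hK θ hker Q' hQ').ker.map (F.autGroup (preimageAlong θ Q')).subtype :
        Subgroup (MulAut (preimageAlong θ Q'))) : Set (MulAut (preimageAlong θ Q'))) := by
    apply le_normalizer_of_conj_mem
    rintro s hs _ ⟨k, hk, rfl⟩
    refine ⟨⟨s, hHle hs⟩ * k * ⟨s, hHle hs⟩⁻¹, ?_, rfl⟩
    exact (MonoidHom.normal_ker (phiHom F hK θ hker Q' hQ')).conj_mem k hk _
  obtain ⟨s, hs, k, hk, rfl⟩ := exists_mul_of_mem_sup hnorm ha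
  have hkX : cj k ((autInducedBy (preimageAlong θ (extender θ.range P' φ'))
      (preimageAlong θ P')).map (MulAut.congr e).toMonoidHom) ≤
      autInducedBy S (preimageAlong θ Q') := by
    have h1 : cj s (cj k ((autInducedBy (preimageAlong θ (extender θ.range P' φ'))
        (preimageAlong θ P')).map (MulAut.congr e).toMonoidHom)) ≤
        autInducedBy S (preimageAlong θ Q') := by rw [cj_cj]; exact haX
    have h2 := cj_mono s⁻¹ h1
    rw [cj_cj, inv_mul_cancel, cj_one] at h2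
    rw [cj_of_mem (Subgroup.inv_mem _ hs)] at h2
    exact h2
  obtain ⟨k₀, hk₀, rfl⟩ := hk
  have hkmod : ∀ x : preimageAlong θ Q',
      quotMap θ Q' ((k₀ : MulAut (preimageAlong θ Q')) x) = quotMap θ Q' x := by
    intro x
    have h1 := phiHom_apply F hK θ hker Q' hQ' k₀ x
    rw [MonoidHom.mem_ker.mp hk₀] at h1
    exact h1.symm
  have hk₀F : IsFIso F (k₀ : MulAut (preimageAlong θ Q')) := (mem_autGroup_iff F hQS _).mp k₀.2
  have he₁ : IsFIso F (e.trans (k₀ : MulAut (preimageAlong θ Q'))) := he.trans hk₀F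
  have hNext : preimageAlong θ (extender θ.range P' φ') ≤
      extender S (preimageAlong θ P') ((preimageAlong θ Q').subtype.comp
        (e.trans (k₀ : MulAut (preimageAlong θ Q'))).toMonoidHom) := by
    intro g hg
    have hgn := hNnorm g hg
    apply mem_extender_of_iso (e.trans (k₀ : MulAut (preimageAlong θ Q'))) hgn
    have h1 : MulAut.congr e (normAut (preimageAlong θ P') g hgn.2) ∈
        (autInducedBy (preimageAlong θ (extender θ.range P' φ'))
          (preimageAlong θ P')).map (MulAut.congr e).toMonoidHom :=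
      ⟨_, normAut_mem (preimageAlong θ (extender θ.range P' φ')) (preimageAlong θ P')
        ⟨hg, hgn.2⟩, rfl⟩
    have h2 := hkX (conj_mem_cj _ _ h1)
    have e3 : (k₀ : MulAut (preimageAlong θ Q')) *
        MulAut.congr e (normAut (preimageAlong θ P') g hgn.2) *
        (k₀ : MulAut (preimageAlong θ Q'))⁻¹ =
        MulAut.congr (e.trans (k₀ : MulAut (preimageAlong θ Q')))
          (normAut (preimageAlong θ P') g hgn.2) := by
      apply MulEquiv.ext; intro y; rfl
    rw [← e3]; exact h2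
  obtain ⟨ψ, hψ, hψφ⟩ := hrec.2 (preimageAlong θ P') _ he₁ (range_subtype_comp _)
  have hψN := restrict_mem F hNext hψ
  obtain ⟨ψ', hψ', hψ'spec⟩ := exists_hom_of_factor F hK θ hker E hiff hN'S hψN
  refine ⟨ψ', hψ', fun x' hx'P hx'N => ?_⟩
  obtain ⟨x, hx⟩ := quotMap_surjective θ hP' ⟨x', hx'P⟩
  have hxN : (x : Ω) ∈ preimageAlong θ (extender θ.range P' φ') := hPN x.2
  have e4 : (⟨x', hx'N⟩ : extender θ.range P' φ') =
      quotMap θ (extender θ.range P' φ') ⟨x, hxN⟩ :=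
    Subtype.ext (congrArg Subtype.val hx).symm
  have e5 : (⟨x', hx'P⟩ : P') = quotMap θ P' x := hx.symm
  rw [e4, e5, hψ'spec, hφspec]
  have h5 : (ψ.comp (Subgroup.inclusion hNext)) ⟨x, hxN⟩ =
      (((k₀ : MulAut (preimageAlong θ Q')) (e x) : preimageAlong θ Q') : Ω) :=
    hψφ x x.2 (hNext hxN)
  have h6 : θ ⟨(((k₀ : MulAut (preimageAlong θ Q')) (e x) : preimageAlong θ Q') : Ω),
      hQS ((k₀ : MulAut (preimageAlong θ Q')) (e x)).2⟩ = θ ⟨((e x : preimageAlong θ Q') : Ω),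
      hQS (e x).2⟩ := congrArg Subtype.val (hkmod (e x))
  calc θ ⟨(ψ.comp (Subgroup.inclusion hNext)) ⟨x, hxN⟩, (F.le_of_mem hψN).2 _⟩
      = θ ⟨(((k₀ : MulAut (preimageAlong θ Q')) (e x) : preimageAlong θ Q') : Ω),
          hQS ((k₀ : MulAut (preimageAlong θ Q')) (e x)).2⟩ := congrArg θ (Subtype.ext h5)
    _ = θ ⟨((e x : preimageAlong θ Q') : Ω), hQS (e x).2⟩ := h6
    _ = θ ⟨φ x, (F.le_of_mem hφ).2 x⟩ := congrArg θ (Subtype.ext (hecoe x))

/-- **Factor systems of saturated systems are saturated.** -/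
theorem factor_isSaturated [Finite S] {p : ℕ} [Fact p.Prime] (hS : IsPGroup p S)
    (F : FusionSystem S) (hF : F.IsSaturated p) {K : Subgroup Ω} (hK : F.StronglyClosed K)
    {S' : Subgroup Ω'} (θ : S →* Ω') (E : FusionSystem S') (hE : F.IsFactorSystem K θ E) :
    E.IsSaturated p := by
  obtain ⟨hKS, hker, rfl, hiff⟩ := hE
  intro P' hP'
  obtain ⟨Q, hPQ, hQfa, hQrec⟩ := hF (preimageAlong θ P') (preimageAlong_le θ P')
  obtain ⟨φ₀, hφ₀, hr₀⟩ := hPQ
  have hKP := ker_le_preimageAlong hKS hker P'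
  have hKQ : K ≤ Q := by
    intro y hy
    obtain ⟨t, -, ht⟩ := stronglyClosed_hom_surj F hK hKP hφ₀ hy
    rw [← hr₀]; exact ⟨t, ht⟩
  have hQS : Q ≤ S := hQfa.1
  have hpre : preimageAlong θ (imageAlong θ Q) = Q := by
    rw [preimageAlong_imageAlong hKS hker hQS]; exact sup_eq_left.mpr hKQ
  have hQ' : imageAlong θ Q ≤ θ.range := imageAlong_le_range θ Q
  generalize imageAlong θ Q = Q' at hpre hQ'
  subst hpre
  refine ⟨Q', ?_, fullyAutomized_of_factor F hK θ hker E hiff hQ' hQfa,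
    receptive_of_factor hS F hK θ hker E hiff hQ' hQfa hQrec⟩
  obtain ⟨φ', hφ', hφ'spec⟩ := exists_hom_of_factor F hK θ hker E hiff hP' hφ₀
  refine ⟨φ', hφ', ?_⟩
  apply le_antisymm
  · rintro _ ⟨y, rfl⟩
    obtain ⟨x, rfl⟩ := quotMap_surjective θ hP' y
    rw [hφ'spec]
    have h1 : φ₀ x ∈ preimageAlong θ Q' := by rw [← hr₀]; exact ⟨x, rfl⟩
    exact ((mem_preimageAlong θ Q' _).mp h1).2
  · intro y hy
    obtain ⟨q, hq⟩ := quotMap_surjective θ hQ' ⟨y, hy⟩
    have hq' : (q : Ω) ∈ φ₀.range := by rw [hr₀]; exact q.2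
    obtain ⟨x, hx⟩ := hq'
    refine ⟨quotMap θ P' x, ?_⟩
    rw [hφ'spec]
    have h2 : θ ⟨q, preimageAlong_le θ Q' q.2⟩ = y := congrArg Subtype.val hq
    rw [← h2]
    exact congrArg θ (Subtype.ext hx)

/-- a surjective morphism exhibits its target as the factor system modulo the kernel. -/
theorem isFactorSystem_of_surjective (F : FusionSystem S) {S' : Subgroup Ω'}
    (F' : FusionSystem S') (α : S →* Ω') (hα : F.IsSurjectiveMorphism F' α) :
    F.IsFactorSystem ((α.ker).map S.subtype) α F' := by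
  obtain ⟨⟨hαS, hmor⟩, hrange, hsurj⟩ := hα
  have hker : ∀ s : S, α s = 1 ↔ (s : Ω) ∈ (α.ker).map S.subtype := by
    intro s
    constructor
    · intro h; exact ⟨s, h, rfl⟩
    · rintro ⟨k, hk, hks⟩
      have : k = s := Subtype.ext hks
      rw [← this]; exact hk
  refine ⟨Subgroup.map_subtype_le _, hker, hrange, fun P' φ' => ?_⟩
  constructor
  · intro hφ'
    exact ⟨(F'.le_of_mem hφ').1, hsurj P' (F'.le_of_mem hφ').1 φ' hφ'⟩
  · rintro ⟨hP', φ, hφ, hind⟩
    obtain ⟨φ'', hφ'', hind''⟩ := hmor _ φ hφ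
    have hP'r : P' ≤ α.range := hrange ▸ hP'
    have him : imageAlong α (preimageAlong α P') = P' := by
      apply le_antisymm
      · rintro _ ⟨s, hs, rfl⟩
        obtain ⟨hsS, hs'⟩ := (mem_preimageAlong α P' _).mp (Subgroup.mem_subgroupOf.mp hs)
        exact hs'
      · intro y hy
        obtain ⟨x, hx⟩ := exists_preimage hP'r ⟨y, hy⟩
        exact ⟨⟨x, preimageAlong_le α P' x.2⟩, Subgroup.mem_subgroupOf.mpr x.2, hx⟩
    have h1 := hom_congr F' him hφ''
    have e1 : φ''.comp (Subgroup.inclusion him.ge) = φ' := by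
      apply MonoidHom.ext; intro y
      obtain ⟨x, hx⟩ := exists_preimage hP'r y
      obtain ⟨hP1, hφ1, hP'1, h1'⟩ := hind
      obtain ⟨hP2, hφ2, hP'2, h2'⟩ := hind''
      have ey : y = ⟨α ⟨x, hP1 x.2⟩, hP'1 x⟩ := Subtype.ext hx.symm
      rw [ey, h1' x]
      exact h2' x
    rw [← e1]; exact h1

end Cfsg.Agent.helper25
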