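import Cfsg.Agent.Lib_helper25_AlperinInd

set_option autoImplicit false
set_option linter.style.haveILetI false
set_option linter.unusedVariables false

namespace Cfsg.Agent.helper25

open Cfsg Cfsg.FusionSystem
open scoped commutatorElement

variable {Ω : Type*} [Group Ω] {S : Subgroup Ω}

/-- the subsystem of the maps `φ` with `x⁻¹ φ(x) ∈ N` for all `x`, where `N ≥ [S,S]`. -/
def modSystem (F : FusionSystem S) (N : Subgroup Ω) (hcomm : ⁅S, S⁆ ≤ N) : FusionSystem S where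
  Hom P := {φ | φ ∈ F.Hom P ∧ ∀ x : P, (x : Ω)⁻¹ * φ x ∈ N}
  le_of_mem h := F.le_of_mem h.1
  injective_of_mem h := F.injective_of_mem h.1
  conj_mem := by
    intro P g hP hg
    refine ⟨F.conj_mem hP hg, fun x => ?_⟩
    show (x : Ω)⁻¹ * (g * x * g⁻¹) ∈ N
    have e : (x : Ω)⁻¹ * (g * x * g⁻¹) = ⁅(x : Ω)⁻¹, g⁆ := by
      rw [commutatorElement_def]; group
    rw [e]
    exact hcomm (Subgroup.commutator_mem_commutator (S.inv_mem (hP x.2)) hg)
  comp_mem := by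
    intro P Q φ ψ hφ hψ h
    refine ⟨F.comp_mem hφ.1 hψ.1 h, fun x => ?_⟩
    show (x : Ω)⁻¹ * ψ ⟨φ x, h x⟩ ∈ N
    have e : (x : Ω)⁻¹ * ψ ⟨φ x, h x⟩ =
        ((x : Ω)⁻¹ * φ x) * ((φ x)⁻¹ * ψ ⟨φ x, h x⟩) := by group
    rw [e]
    exact N.mul_mem (hφ.2 x) (hψ.2 ⟨φ x, h x⟩)
  inv_mem := by
    intro P φ hφ
    obtain ⟨ψ, hψ, hψe⟩ := F.inv_mem hφ.1
    refine ⟨ψ, ⟨hψ, ?_⟩, hψe⟩
    rintro ⟨_, x, rfl⟩
    rw [hψe x]
    have e : (φ x)⁻¹ * (x : Ω) = ((x : Ω)⁻¹ * φ x)⁻¹ := by group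
    show (φ x)⁻¹ * (x : Ω) ∈ N
    rw [e]; exact N.inv_mem (hφ.2 x)

theorem focal_eq_hyperfocal_sup [Finite S] {p : ℕ} [Fact p.Prime] (hS : IsPGroup p S)
    (F : FusionSystem S) (hF : F.IsSaturated p) :
    F.focalSubgroup = F.hyperfocalSubgroup p ⊔ ⁅(S : Subgroup Ω), (S : Subgroup Ω)⁆ := by
  apply le_antisymm
  · have hE : ∀ P : Subgroup Ω, (P = S ∨ F.IsEssential p P) →
        F.autGroup P ≤ (modSystem F (F.hyperfocalSubgroup p ⊔ ⁅S, S⁆) le_sup_right).autGroup P := by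
      intro P hP α hα
      have hFA := fullyAutomized_of_top_or_essential hS F hF hP
      have hPS : P ≤ S := hFA.1
      obtain ⟨g, hg, k, hk, hgk⟩ := exists_conj_mul_pResidual F hFA hα
      apply Subgroup.subset_closure
      refine ⟨(mem_autGroup_iff F hPS α).mp hα, fun x => ?_⟩
      show (x : Ω)⁻¹ * ((α x : P) : Ω) ∈ F.hyperfocalSubgroup p ⊔ ⁅S, S⁆
      rw [hgk x]
      have e : (x : Ω)⁻¹ * (g * (((k : MulAut P) x : P) : Ω) * g⁻¹) =
          ((x : Ω)⁻¹ * (((k : MulAut P) x : P) : Ω)) * ⁅((((k : MulAut P) x : P) : Ω))⁻¹, g⁆ := by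
        rw [commutatorElement_def]; group
      rw [e]
      exact Subgroup.mul_mem _ (Subgroup.mem_sup_left (hyp_mem F p hPS hk x))
        (Subgroup.mem_sup_right
          (Subgroup.commutator_mem_commutator (S.inv_mem (hPS ((k : MulAut P) x).2)) hg))
    have hsub := alperin hS F hF _ hE
    unfold focalSubgroup
    rw [Subgroup.closure_le]
    rintro _ ⟨P, φ, x, hφ, rfl⟩
    exact (hsub P hφ).2 x
  · apply sup_le
    · unfold hyperfocalSubgroup
      rw [Subgroup.closure_le]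
      rintro _ ⟨P, α, x, hPS, -, rfl⟩
      apply Subgroup.subset_closure
      exact ⟨P, P.subtype.comp (α : MulAut P).toMonoidHom, x,
        (mem_autGroup_iff F hPS _).mp α.2, rfl⟩
    · rw [Subgroup.commutator_le]
      intro a ha b hb
      apply Subgroup.subset_closure
      refine ⟨S, conjHom S b, ⟨a⁻¹, S.inv_mem ha⟩, F.conj_mem le_rfl hb, ?_⟩
      show ⁅a, b⁆ = (a⁻¹)⁻¹ * (b * a⁻¹ * b⁻¹)
      rw [commutatorElement_def]; group

end Cfsg.Agent.helper25
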