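import Cfsg.Agent.Lib_helper26_WN2
import Cfsg.Agent.Lib_helper25_AlperinInd

set_option autoImplicit false
set_option linter.style.haveILetI false
set_option linter.unusedVariables false
set_option maxHeartbeats 1000000

namespace Cfsg.Agent.helper25

open Cfsg Cfsg.FusionSystem

variable {Ω : Type*} [Group Ω] {S : Subgroup Ω}

/-- invariance of `E` under `Aut_F(T)`, as in `IsInvariantIn`. -/
def AutInv {T : Subgroup Ω} (E : FusionSystem T) (F : FusionSystem S) : Prop :=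
  ∀ (P : Subgroup Ω) (hPT : P ≤ T) (φ : P →* Ω), φ ∈ E.Hom P → ∀ α ∈ F.autGroup T,
    ∃ χ ∈ E.Hom ((P.subgroupOf T).map (T.subtype.comp α.toMonoidHom)),
      ∀ (x : P) (hφx : φ x ∈ T)
        (hαx : ((α ⟨x, hPT x.2⟩ : T) : Ω) ∈ (P.subgroupOf T).map (T.subtype.comp α.toMonoidHom)),
        χ ⟨(α ⟨x, hPT x.2⟩ : T), hαx⟩ = ((α ⟨φ x, hφx⟩ : T) : Ω)

/-- the Frattini factorization of a map `φ` with source `P ≤ T`. -/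
def FrCond {T : Subgroup Ω} (E : FusionSystem T) (F : FusionSystem S) (P : Subgroup Ω)
    (φ : P →* Ω) : Prop :=
  ∃ α ∈ F.autGroup T, ∃ φ₀ ∈ E.Hom P, ∀ (x : P) (hx : φ₀ x ∈ T), φ x = ((α ⟨φ₀ x, hx⟩ : T) : Ω)

theorem AutInv.apply {T : Subgroup Ω} {E : FusionSystem T} {F : FusionSystem S}
    (hinv : AutInv E F) {P : Subgroup Ω} (hPT : P ≤ T) {φ : P →* Ω} (hφ : φ ∈ E.Hom P)
    {α : MulAut T} (hα : α ∈ F.autGroup T) :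
    ∃ χ ∈ E.Hom (helper26.autMap α P), ∀ (y : helper26.autMap α P) (t : T) (ht : (t : Ω) ∈ P)
      (hφt : φ ⟨t, ht⟩ ∈ T), ((α t : T) : Ω) = y → χ y = ((α ⟨φ ⟨t, ht⟩, hφt⟩ : T) : Ω) :=
  helper26.invariance_apply F E hinv hPT hφ hα

/-- the system of the maps of `F` between subgroups of `T` that have a Frattini factorization. -/
def frattiniSystem {T : Subgroup Ω} (E : FusionSystem T) (F : FusionSystem S) (hTS : T ≤ S)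
    (hEF : E.IsSubsystemOf F) (hinv : AutInv E F) : FusionSystem T where
  Hom P := {φ | φ ∈ F.Hom P ∧ FrCond E F P φ}
  le_of_mem := by
    rintro P φ ⟨hφ, α, hα, φ₀, hφ₀, h⟩
    refine ⟨(E.le_of_mem hφ₀).1, fun x => ?_⟩
    rw [h x ((E.le_of_mem hφ₀).2 x)]
    exact (α _).2
  injective_of_mem := fun h => F.injective_of_mem h.1
  conj_mem := by
    intro P g hP hg
    exact ⟨F.conj_mem (hP.trans hTS) (hTS hg), 1, one_mem _, conjHom P g, E.conj_mem hP hg,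
      fun x hx => rfl⟩
  comp_mem := by
    rintro P Q φ ψ ⟨hφ, α, hα, φ₀, hφ₀, hφeq⟩ ⟨hψ, β, hβ, ψ₀, hψ₀, hψeq⟩ h
    refine ⟨F.comp_mem hφ hψ h, ?_⟩
    have hPT : P ≤ T := (E.le_of_mem hφ₀).1
    have hQT : Q ≤ T := (E.le_of_mem hψ₀).1
    have hφ₀T : ∀ x, φ₀ x ∈ T := (E.le_of_mem hφ₀).2
    have hψ₀T : ∀ x, ψ₀ x ∈ T := (E.le_of_mem hψ₀).2
    obtain ⟨χ, hχ, hχeq⟩ := hinv.apply hQT hψ₀ (inv_mem hα)
    have hχT : ∀ y, χ y ∈ T := (E.le_of_mem hχ).2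
    have hinvφ : ∀ x : P, ((α⁻¹ ⟨φ x, hQT (h x)⟩ : T) : Ω) = φ₀ x := by
      intro x
      have h1 : (⟨φ x, hQT (h x)⟩ : T) = α ⟨φ₀ x, hφ₀T x⟩ := Subtype.ext (hφeq x (hφ₀T x))
      rw [h1, MulAut.inv_apply_self]
    have hmem : ∀ x : P, φ₀ x ∈ helper26.autMap α⁻¹ Q := fun x =>
      (helper26.mem_autMap _ _ _).mpr ⟨⟨φ x, hQT (h x)⟩, h x, hinvφ x⟩
    refine ⟨β * α, mul_mem hβ hα, χ.comp (φ₀.codRestrict _ hmem), E.comp_mem hφ₀ hχ hmem, ?_⟩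
    intro x hx
    have h2 : χ ⟨φ₀ x, hmem x⟩ = ((α⁻¹ ⟨ψ₀ ⟨φ x, h x⟩, hψ₀T _⟩ : T) : Ω) :=
      hχeq ⟨φ₀ x, hmem x⟩ ⟨φ x, hQT (h x)⟩ (h x) (hψ₀T _) (hinvφ x)
    have h3 : (⟨(χ.comp (φ₀.codRestrict _ hmem)) x, hx⟩ : T) =
        α⁻¹ ⟨ψ₀ ⟨φ x, h x⟩, hψ₀T _⟩ := Subtype.ext h2
    rw [h3]
    show ψ ⟨φ x, h x⟩ = ((β (α (α⁻¹ ⟨ψ₀ ⟨φ x, h x⟩, hψ₀T _⟩)) : T) : Ω)
    rw [MulAut.apply_inv_self]
    exact hψeq ⟨φ x, h x⟩ (hψ₀T _)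
  inv_mem := by
    rintro P φ ⟨hφ, α, hα, φ₀, hφ₀, hφeq⟩
    have hPT : P ≤ T := (E.le_of_mem hφ₀).1
    have hφ₀T : ∀ x, φ₀ x ∈ T := (E.le_of_mem hφ₀).2
    obtain ⟨ψ, hψ, hψφ⟩ := F.inv_mem hφ
    refine ⟨ψ, ⟨hψ, ?_⟩, hψφ⟩
    obtain ⟨θ, hθ, -, hθφ, -⟩ := exists_inv_hom E hφ₀ rfl
    have hrT : φ₀.range ≤ T := by rintro _ ⟨x, rfl⟩; exact hφ₀T x
    obtain ⟨χ, hχ, hχeq⟩ := hinv.apply hrT hθ hα
    have heq : helper26.autMap α φ₀.range = φ.range := by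
      ext y
      rw [helper26.mem_autMap]
      constructor
      · rintro ⟨t, ⟨x, hx⟩, rfl⟩
        have h1 : t = ⟨φ₀ x, hφ₀T x⟩ := Subtype.ext hx.symm
        rw [h1, ← hφeq x (hφ₀T x)]
        exact ⟨x, rfl⟩
      · rintro ⟨x, rfl⟩
        exact ⟨⟨φ₀ x, hφ₀T x⟩, ⟨x, rfl⟩, (hφeq x (hφ₀T x)).symm⟩
    refine ⟨α⁻¹, inv_mem hα, χ.comp (Subgroup.inclusion heq.ge), hom_congr E heq hχ, ?_⟩
    rintro ⟨_, x, rfl⟩ hy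
    have h1 : ψ ⟨φ x, ⟨x, rfl⟩⟩ = (x : Ω) := hψφ x
    have h2 : χ (Subgroup.inclusion heq.ge ⟨φ x, ⟨x, rfl⟩⟩) =
        ((α ⟨θ ⟨φ₀ x, ⟨x, rfl⟩⟩, by rw [hθφ x ⟨x, rfl⟩]; exact hPT x.2⟩ : T) : Ω) :=
      hχeq _ ⟨φ₀ x, hφ₀T x⟩ ⟨x, rfl⟩ _ (hφeq x (hφ₀T x)).symm
    have h3 : (⟨θ ⟨φ₀ x, ⟨x, rfl⟩⟩, by rw [hθφ x ⟨x, rfl⟩]; exact hPT x.2⟩ : T) =
        ⟨x, hPT x.2⟩ := Subtype.ext (hθφ x ⟨x, rfl⟩)
    rw [h3] at h2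
    have h4 : (⟨(χ.comp (Subgroup.inclusion heq.ge)) ⟨φ x, ⟨x, rfl⟩⟩, hy⟩ : T) =
        α ⟨x, hPT x.2⟩ := Subtype.ext h2
    rw [h4, MulAut.inv_apply_self]
    exact h1

theorem mem_frattiniSystem {T : Subgroup Ω} (E : FusionSystem T) (F : FusionSystem S) (hTS : T ≤ S)
    (hEF : E.IsSubsystemOf F) (hinv : AutInv E F) (P : Subgroup Ω) (φ : P →* Ω) :
    φ ∈ (frattiniSystem E F hTS hEF hinv).Hom P ↔ φ ∈ F.Hom P ∧ FrCond E F P φ := Iff.rfl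

theorem le_frattiniSystem {T : Subgroup Ω} (E : FusionSystem T) (F : FusionSystem S) (hTS : T ≤ S)
    (hEF : E.IsSubsystemOf F) (hinv : AutInv E F) (P : Subgroup Ω) :
    E.Hom P ⊆ (frattiniSystem E F hTS hEF hinv).Hom P := by
  intro φ hφ
  exact ⟨hEF P hφ, 1, one_mem _, φ, hφ, fun x hx => rfl⟩

end Cfsg.Agent.helper25
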