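import Cfsg.Agent.Lib_helper25_Frat1

set_option autoImplicit false
set_option linter.style.haveILetI false
set_option linter.unusedVariables false
set_option maxHeartbeats 1000000

namespace Cfsg.Agent.helper25

open Cfsg Cfsg.FusionSystem

variable {Ω : Type*} [Group Ω] {S : Subgroup Ω}

/-- the Frattini condition, by induction, from its special case for the automorphisms of the fully
normalized subgroups. -/
theorem frattini_induction [Finite S] {p : ℕ} [Fact p.Prime] (hS : IsPGroup p S)
    (F : FusionSystem S) (hF : F.IsSaturated p) {T : Subgroup Ω} (E : FusionSystem T)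
    (hEF : E.IsSubsystemOf F) (hT : F.StronglyClosed T) (hinv : AutInv E F)
    (hB : ∀ R : Subgroup Ω, R ≤ T → R ≠ T → F.IsFullyNormalized R →
      (∀ P' : Subgroup Ω, P' ≤ T → Nat.card R < Nat.card P' →
        F.Hom P' ⊆ (frattiniSystem E F hT.1 hEF hinv).Hom P') →
      ∀ μ ∈ F.autGroup R, IsFIso (frattiniSystem E F hT.1 hEF hinv) μ) :
    ∀ P : Subgroup Ω, P ≤ T → F.Hom P ⊆ (frattiniSystem E F hT.1 hEF hinv).Hom P := by
  obtain ⟨D, hD⟩ : ∃ D : FusionSystem T, D = frattiniSystem E F hT.1 hEF hinv := ⟨_, rfl⟩
  rw [← hD] at hB ⊢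
  have hTS := hT.1
  haveI : Finite T := finite_of_le S hTS
  have hTp : IsPGroup p T := hS.to_le hTS
  have hDF : ∀ P : Subgroup Ω, D.Hom P ⊆ F.Hom P := by
    intro P φ h; rw [hD] at h; exact h.1
  have key : ∀ n : ℕ, ∀ P : Subgroup Ω, P ≤ T → Nat.card T - Nat.card P = n →
      F.Hom P ⊆ D.Hom P := by
    intro n
    induction n using Nat.strong_induction_on with
    | _ n ih =>
      intro P hPT hn
      have IH : ∀ P' : Subgroup Ω, P' ≤ T → Nat.card P < Nat.card P' → F.Hom P' ⊆ D.Hom P' := by
        intro P' hP' hc
        have hle : Nat.card P' ≤ Nat.card T := Subgroup.card_le_of_le hP'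
        exact ih (Nat.card T - Nat.card P') (by omega) P' hP' rfl
      by_cases hPeq : P = T
      · intro φ hφ
        rw [hD]
        refine ⟨hφ, ?_⟩
        have hval : ∀ x, φ x ∈ T := hT.2 P hPT φ hφ
        haveI : Finite P := finite_of_le T hPT
        have hr : φ.range = P := by
          apply Subgroup.eq_of_le_of_card_ge
          · rintro _ ⟨x, rfl⟩; exact hPeq.ge (hval x)
          · exact le_of_eq (Nat.card_congr (MonoidHom.ofInjective (F.injective_of_mem hφ)).toEquiv)
        subst hPeq
        obtain ⟨e, he, hecoe⟩ := exists_isFIso_of_mem F hφ hr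
        exact ⟨e, (mem_autGroup_iff F hTS e).mpr he, P.subtype, subtype_mem E le_rfl,
          fun x hx => (hecoe x).symm⟩
      · have hPlt : P < T := lt_of_le_of_ne hPT hPeq
        have hPcard : Nat.card P < Nat.card T := card_lt_of_lt' hPlt
        intro φ hφ
        have hPS := hPT.trans hTS
        obtain ⟨R, hPR, hRfn⟩ := exists_fullyNormalized_conj F hPS
        obtain ⟨hRfc, hRfa⟩ := fullyNormalized_imp hS F hF hRfn
        have hRrec := receptive_of_fullyCentralized hS F hF hRfc
        have hRT : R ≤ T := by
          obtain ⟨φ', hφ', rfl⟩ := hPR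
          rintro _ ⟨x, rfl⟩; exact hT.2 P hPT φ' hφ' x
        have hcardR : Nat.card P = Nat.card R := isConj_card_eq F hPR
        have hRne : R ≠ T := by
          intro h; rw [h] at hcardR; omega
        -- Step A
        have stepA : ∀ Q : Subgroup Ω, Q ≤ T → F.IsConj Q R → ∃ e : Q ≃* R, IsFIso D e := by
          intro Q hQT hQR
          have hcardQ : Nat.card Q = Nat.card R := isConj_card_eq F hQR
          have hQlt : Q < T := by
            refine lt_of_le_of_ne hQT ?_
            intro h; rw [h] at hcardQ; omega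
          obtain ⟨ρ, hρ, hρN, hρQ⟩ := exists_normalizer_hom hS F hRfa hRrec hQR
          have hNle : normalizerIn T Q ≤ normalizerIn S Q := inf_le_inf hTS le_rfl
          have hNT : normalizerIn T Q ≤ T := inf_le_left
          have hQN : Q < normalizerIn T Q := lt_normalizerIn hTp hQlt
          haveI : Finite (normalizerIn T Q : Subgroup Ω) := finite_of_le T hNT
          have hcN : Nat.card P < Nat.card (normalizerIn T Q) := by
            have := card_lt_of_lt' hQN
            omega
          have h1 : ρ.comp (Subgroup.inclusion hNle) ∈ D.Hom (normalizerIn T Q) :=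
            IH _ hNT hcN (restrict_mem F hNle hρ)
          have h2 := restrict_mem D hQN.le h1
          have hr : ((ρ.comp (Subgroup.inclusion hNle)).comp
              (Subgroup.inclusion hQN.le)).range = R := by
            rw [← hρQ]
            ext y; constructor
            · rintro ⟨x, rfl⟩
              exact ⟨Subgroup.inclusion hNle (Subgroup.inclusion hQN.le x),
                Subgroup.mem_subgroupOf.mpr x.2, rfl⟩
            · rintro ⟨z, hz, rfl⟩
              exact ⟨⟨z, Subgroup.mem_subgroupOf.mp hz⟩, rfl⟩
          obtain ⟨e, he, -⟩ := exists_isFIso_of_mem D h2 hr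
          exact ⟨e, he⟩
        -- Step C
        have hQ : φ.range ≤ T := by rintro _ ⟨x, rfl⟩; exact hT.2 P hPT φ hφ x
        obtain ⟨eφ, heφ, heφcoe⟩ := exists_isFIso_of_mem F hφ rfl
        obtain ⟨eP, heP⟩ := stepA P hPT hPR
        have hQR : F.IsConj φ.range R := isConj_trans F (isConj_symm F ⟨φ, hφ, rfl⟩) hPR
        obtain ⟨eQ, heQ⟩ := stepA φ.range hQ hQR
        have hePF : IsFIso F eP := hDF _ heP
        have heQF : IsFIso F eQ := hDF _ heQ
        have hμF : IsFIso F (eP.symm.trans (eφ.trans eQ)) := hePF.symm.trans (heφ.trans heQF)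
        have hμ : eP.symm.trans (eφ.trans eQ) ∈ F.autGroup R :=
          (mem_autGroup_iff F hRfn.1 _).mpr hμF
        have hμD := hB R hRT hRne hRfn (fun P' hP' hc => IH P' hP' (hcardR ▸ hc)) _ hμ
        have h3 : IsFIso D (eP.trans ((eP.symm.trans (eφ.trans eQ)).trans eQ.symm)) :=
          heP.trans (hμD.trans heQ.symm)
        have h4 : eP.trans ((eP.symm.trans (eφ.trans eQ)).trans eQ.symm) = eφ := by
          ext x; simp
        rw [h4] at h3
        have h5 : φ.range.subtype.comp eφ.toMonoidHom = φ := by ext x; exact heφcoe x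
        rw [← h5]; exact h3
  intro P hPT
  exact key _ P hPT rfl

end Cfsg.Agent.helper25
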