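import Cfsg.Agent.Lib_helper25_Frat2
import Cfsg.Agent.Lib_helper25_FactorSat

set_option autoImplicit false
set_option linter.style.haveILetI false
set_option linter.unusedVariables false
set_option maxHeartbeats 1000000

namespace Cfsg.Agent.helper25

open Cfsg Cfsg.FusionSystem

variable {Ω : Type*} [Group Ω] {S : Subgroup Ω}

/-- the strong invariance condition. -/
def StrongInv {T : Subgroup Ω} (E : FusionSystem T) (F : FusionSystem S) : Prop :=
  ∀ (P Q : Subgroup Ω) (hPQ : P ≤ Q) (_ : Q ≤ T) (φ : P →* Ω) (_ : φ ∈ E.Hom P)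
    (hφQ : ∀ x : P, φ x ∈ Q) (ψ : Q →* Ω) (_ : ψ ∈ F.Hom Q),
    ∃ χ ∈ E.Hom ((P.subgroupOf Q).map ψ),
      ∀ (x : P) (hx : ψ (Subgroup.inclusion hPQ x) ∈ (P.subgroupOf Q).map ψ),
        χ ⟨ψ (Subgroup.inclusion hPQ x), hx⟩ = ψ ⟨φ x, hφQ x⟩

theorem StrongInv.autInv {T : Subgroup Ω} {E : FusionSystem T} {F : FusionSystem S}
    (hTS : T ≤ S) (h : StrongInv E F) : AutInv E F := by
  intro P hPT φ hφ α hα
  have hα' : T.subtype.comp α.toMonoidHom ∈ F.Hom T := (mem_autGroup_iff F hTS α).mp hα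
  obtain ⟨χ, hχ, hχeq⟩ := h P T hPT le_rfl φ hφ (E.le_of_mem hφ).2 _ hα'
  exact ⟨χ, hχ, fun x hφx hαx => hχeq x hαx⟩

/-- under strong invariance, `Aut_E(R)` is normal in `Aut_F(R)`. -/
theorem StrongInv.autGroup_normal [Finite S] {T : Subgroup Ω} {E : FusionSystem T}
    {F : FusionSystem S}
    (hTS : T ≤ S) (h : StrongInv E F) {R : Subgroup Ω} (hRT : R ≤ T) :
    F.autGroup R ≤ Subgroup.normalizer (E.autGroup R : Set (MulAut R)) := by
  have hRS := hRT.trans hTS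
  haveI : Finite R := finite_of_le S hRS
  intro a ha
  apply Subgroup.mem_normalizer_fintype
  intro m hm
  have hm' : R.subtype.comp m.toMonoidHom ∈ E.Hom R := (mem_autGroup_iff E hRT m).mp hm
  have ha' : R.subtype.comp a.toMonoidHom ∈ F.Hom R := (mem_autGroup_iff F hRS a).mp ha
  obtain ⟨χ, hχ, hχeq⟩ := h R R le_rfl hRT _ hm' (fun x => (m x).2) _ ha'
  have heq : (R.subgroupOf R).map (R.subtype.comp a.toMonoidHom) = R := by
    ext y; constructor
    · rintro ⟨z, -, rfl⟩; exact (a z).2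
    · intro hy
      refine ⟨a⁻¹ ⟨y, hy⟩, Subgroup.mem_subgroupOf.mpr (a⁻¹ ⟨y, hy⟩).2, ?_⟩
      show ((a (a⁻¹ ⟨y, hy⟩) : R) : Ω) = y
      rw [MulAut.apply_inv_self]
  have h1 := hom_congr E heq hχ
  have h2 : R.subtype.comp (a * m * a⁻¹).toMonoidHom = χ.comp (Subgroup.inclusion heq.ge) := by
    ext y
    have h3 := hχeq (a⁻¹ y) (heq.ge (a (a⁻¹ y)).2)
    have h4 : (⟨(R.subtype.comp a.toMonoidHom) (Subgroup.inclusion (le_refl R) (a⁻¹ y)),
        heq.ge (a (a⁻¹ y)).2⟩ : ↥((R.subgroupOf R).map (R.subtype.comp a.toMonoidHom))) =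
        Subgroup.inclusion heq.ge y := by
      apply Subtype.ext
      show ((a (a⁻¹ y) : R) : Ω) = y
      rw [MulAut.apply_inv_self]
    rw [h4] at h3
    show ((a (m (a⁻¹ y)) : R) : Ω) = χ (Subgroup.inclusion heq.ge y)
    rw [h3]
    rfl
  show a * m * a⁻¹ ∈ E.autGroup R
  apply (mem_autGroup_iff E hRT _).mpr
  show R.subtype.comp (a * m * a⁻¹).toMonoidHom ∈ E.Hom R
  rw [h2]; exact h1

/-- strong invariance gives the Frattini condition. -/
theorem StrongInv.frattini [Finite S] {p : ℕ} [Fact p.Prime] (hS : IsPGroup p S)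
    (F : FusionSystem S) (hF : F.IsSaturated p) {T : Subgroup Ω} (E : FusionSystem T)
    (hEF : E.IsSubsystemOf F) (hT : F.StronglyClosed T) (h : StrongInv E F) :
    ∀ P : Subgroup Ω, P ≤ T → ∀ φ ∈ F.Hom P, FrCond E F P φ := by
  have hTS := hT.1
  haveI : Finite T := finite_of_le S hTS
  have hTp : IsPGroup p T := hS.to_le hTS
  have hinv := h.autInv hTS
  intro P hPT φ hφ
  refine (frattini_induction hS F hF E hEF hT hinv ?_ P hPT hφ).2
  intro R hRT hRne hRfn IH μ hμ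
  obtain ⟨D, hD⟩ : ∃ D : FusionSystem T, D = frattiniSystem E F hT.1 hEF hinv := ⟨_, rfl⟩
  rw [← hD] at IH ⊢
  have hED : ∀ P : Subgroup Ω, E.Hom P ⊆ D.Hom P := by
    intro P; rw [hD]; exact le_frattiniSystem E F hT.1 hEF hinv P
  have hRS : R ≤ S := hRfn.1
  haveI : Finite R := finite_of_le S hRS
  obtain ⟨hRfc, hRfa⟩ := fullyNormalized_imp hS F hF hRfn
  have hRrec := receptive_of_fullyCentralized hS F hF hRfc
  have hMA : E.autGroup R ≤ F.autGroup R := by
    intro m hm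
    exact (mem_autGroup_iff F hRS m).mpr (hEF R ((mem_autGroup_iff E hRT m).mp hm))
  have hnorm := h.autGroup_normal hTS hRT
  obtain ⟨c, hc, b, hb, hcj, hμeq⟩ := frattini_isSylowIn (autInducedBy_le_autGroup F hRS)
    hRfa.2 hMA hnorm hμ
  have hcD : IsFIso D c := hED R ((mem_autGroup_iff E hRT c).mp hc)
  have hbF : R.subtype.comp b.toMonoidHom ∈ F.Hom R := (mem_autGroup_iff F hRS b).mp hb
  have hNle : normalizerIn T R ≤ extender S R (R.subtype.comp b.toMonoidHom) := by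
    intro g hg
    apply (mem_extender_iff _ _ _ _).mpr
    refine ⟨hTS hg.1, hg.2, ?_⟩
    have h1 : normAut R g hg.2 ∈ autInducedBy S R ⊓ E.autGroup R :=
      ⟨normAut_mem S R ⟨hTS hg.1, hg.2⟩,
        autInducedBy_le_autGroup E hRT (normAut_mem T R hg)⟩
    have h2 : b * normAut R g hg.2 * b⁻¹ ∈ autInducedBy S R ⊓ E.autGroup R := by
      rw [← hcj]; exact conj_mem_cj b _ h1
    obtain ⟨k, hk, hkeq⟩ := (mem_autInducedBy_iff S R _).mp h2.1
    refine ⟨k, hk, fun x hx => ?_⟩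
    have h3 := hkeq (b x)
    show ((b ⟨g * x * g⁻¹, hx⟩ : R) : Ω) = k * ((b x : R) : Ω) * k⁻¹
    rw [← h3]
    show ((b ⟨g * x * g⁻¹, hx⟩ : R) : Ω) = ((b (normAut R g hg.2 (b⁻¹ (b x))) : R) : Ω)
    rw [MulAut.inv_apply_self]
    rfl
  obtain ⟨b', hb', hb'ext⟩ := hRrec.2 R _ hbF (range_subtype_comp b)
  have hRN : R < normalizerIn T R := lt_normalizerIn hTp (lt_of_le_of_ne hRT hRne)
  have hNT : normalizerIn T R ≤ T := inf_le_left
  haveI : Finite (normalizerIn T R : Subgroup Ω) := finite_of_le T hNT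
  have h4 : b'.comp (Subgroup.inclusion hNle) ∈ D.Hom (normalizerIn T R) :=
    IH _ hNT (card_lt_of_lt' hRN) (restrict_mem F hNle hb')
  have h5 := restrict_mem D hRN.le h4
  have h6 : (b'.comp (Subgroup.inclusion hNle)).comp (Subgroup.inclusion hRN.le) =
      R.subtype.comp b.toMonoidHom := by
    ext x
    exact hb'ext x x.2 (hNle (hRN.le x.2))
  rw [h6] at h5
  have hbD : IsFIso D b := h5
  have h7 : μ = b.trans c := hμeq
  rw [h7]
  exact hbD.trans hcD

end Cfsg.Agent.helper25
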