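import Cfsg.Agent.Lib_helper25_Fusion
import Cfsg.Agent.Lib_helper25_Sylow

set_option autoImplicit false

namespace Cfsg.Agent.helper25

open Cfsg Cfsg.FusionSystem

variable {G : Type*} [Group G]

theorem range_conjHom (P : Subgroup G) (g : G) : (conjHom P g).range = cj g P := by
  ext x
  constructor
  · rintro ⟨y, rfl⟩
    exact ⟨y, y.2, rfl⟩
  · rintro ⟨y, hy, rfl⟩
    exact ⟨⟨y, hy⟩, rfl⟩

theorem groupFS_conjHom_mem (S : Subgroup G) {P : Subgroup G} {g : G} (hP : P ≤ S)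
    (hg : cj g P ≤ S) : conjHom P g ∈ (groupFusionSystem S).Hom P :=
  ⟨hP, fun x => hg (conj_mem_cj g P x.2), g, fun _ => rfl⟩

theorem groupFS_isConj_iff (S : Subgroup G) (P Q : Subgroup G) :
    (groupFusionSystem S).IsConj P Q ↔ P ≤ S ∧ Q ≤ S ∧ ∃ g : G, cj g P = Q := by
  constructor
  · rintro ⟨φ, ⟨hP, hφS, g, hg⟩, rfl⟩
    refine ⟨hP, ?_, g, ?_⟩
    · rintro _ ⟨x, rfl⟩; exact hφS x
    · ext x
      constructor
      · rintro ⟨y, hy, rfl⟩
        exact ⟨⟨y, hy⟩, hg ⟨y, hy⟩⟩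
      · rintro ⟨y, rfl⟩
        rw [hg]; exact conj_mem_cj g P y.2
  · rintro ⟨hP, hQ, g, rfl⟩
    exact ⟨conjHom P g, groupFS_conjHom_mem S hP hQ, range_conjHom P g⟩

end Cfsg.Agent.helper25

namespace Cfsg.Agent.helper25

open Cfsg Cfsg.FusionSystem

variable {G : Type*} [Group G]

theorem normalizerMonoidHom_coe (Q : Subgroup G) (n : Subgroup.normalizer (Q : Set G)) (x : Q) :
    ((Q.normalizerMonoidHom n x : Q) : G) = (n : G) * x * (n : G)⁻¹ := rfl

/-- `Aut_K(Q)` is the image of `N_K(Q)` in `Aut(Q)`. -/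
theorem autInducedBy_eq_map (K Q : Subgroup G) :
    autInducedBy K Q =
      ((K ⊓ Subgroup.normalizer (Q : Set G)).subgroupOf (Subgroup.normalizer (Q : Set G))).map
        Q.normalizerMonoidHom := by
  apply le_antisymm
  · unfold autInducedBy
    rw [Subgroup.closure_le]
    rintro α ⟨g, hgK, hg⟩
    have hgN : g ∈ Subgroup.normalizer (Q : Set G) := by
      rw [Subgroup.mem_normalizer_iff]
      intro h
      constructor
      · intro hh
        have := hg ⟨h, hh⟩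
        rw [← this]
        exact (α ⟨h, hh⟩).2
      · intro hh
        have h1 := hg (α.symm ⟨g * h * g⁻¹, hh⟩)
        rw [MulEquiv.apply_symm_apply] at h1
        have h2 : h = ((α.symm ⟨g * h * g⁻¹, hh⟩ : Q) : G) := by
          have := mul_left_cancel (mul_right_cancel h1)
          exact this
        rw [h2]
        exact (α.symm ⟨g * h * g⁻¹, hh⟩).2
    refine ⟨⟨g, hgN⟩, Subgroup.mem_subgroupOf.mpr ⟨hgK, hgN⟩, ?_⟩
    ext x
    rw [normalizerMonoidHom_coe]
    exact (hg x).symm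
  · rintro _ ⟨n, hn, rfl⟩
    apply Subgroup.subset_closure
    exact ⟨n, (Subgroup.mem_subgroupOf.mp hn).1, fun x => rfl⟩

theorem autInducedBy_mono {K K' : Subgroup G} (h : K ≤ K') (Q : Subgroup G) :
    autInducedBy K Q ≤ autInducedBy K' Q := by
  unfold autInducedBy
  apply Subgroup.closure_mono
  rintro α ⟨g, hg, hα⟩
  exact ⟨g, h hg, hα⟩

/-- image of a Sylow subgroup of the normalizer is a Sylow subgroup of the automizer. -/
theorem autInducedBy_sylow [Finite G] {p : ℕ} [Fact p.Prime] {S Q : Subgroup G}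
    (hs : IsSylowIn p (S ⊓ Subgroup.normalizer (Q : Set G)) (Subgroup.normalizer (Q : Set G))) :
    ∃ R : Sylow p ↥(autInducedBy ⊤ Q),
      (R : Subgroup ↥(autInducedBy ⊤ Q)) = (autInducedBy S Q).subgroupOf (autInducedBy ⊤ Q) := by
  obtain ⟨R₀, hR₀⟩ := hs
  have hmem : ∀ n : Subgroup.normalizer (Q : Set G), Q.normalizerMonoidHom n ∈ autInducedBy ⊤ Q := by
    intro n
    rw [autInducedBy_eq_map]
    exact ⟨n, Subgroup.mem_subgroupOf.mpr ⟨Subgroup.mem_top _, n.2⟩, rfl⟩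
  let Φ' : Subgroup.normalizer (Q : Set G) →* ↥(autInducedBy ⊤ Q) :=
    Q.normalizerMonoidHom.codRestrict _ hmem
  have hsurj : Function.Surjective Φ' := by
    rintro ⟨α, hα⟩
    rw [autInducedBy_eq_map] at hα
    obtain ⟨n, -, rfl⟩ := hα
    exact ⟨n, rfl⟩
  refine ⟨R₀.mapSurjective hsurj, ?_⟩
  rw [Sylow.coe_mapSurjective, hR₀]
  ext α
  rw [Subgroup.mem_subgroupOf, autInducedBy_eq_map S Q]
  constructor
  · rintro ⟨n, hn, rfl⟩
    exact ⟨n, hn, rfl⟩
  · rintro ⟨n, hn, hnα⟩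
    exact ⟨n, hn, Subtype.ext hnα⟩

end Cfsg.Agent.helper25
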