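import Cfsg.Agent.Lib_helper25_FactorSat2

set_option autoImplicit false
set_option linter.style.haveILetI false
set_option linter.unusedVariables false
set_option maxHeartbeats 1000000

namespace Cfsg.Agent.helper25

open Cfsg Cfsg.FusionSystem

/-- the fusion system of `G/H` on `SH/H` is the factor system of `F_S(G)` modulo `S ∩ H`. -/
theorem groupFS_isFactorSystem {G : Type*} [Group G] [Finite G] (p : ℕ) [Fact p.Prime]
    (S : Sylow p G) (H : Subgroup G) [H.Normal] :
    (Cfsg.groupFusionSystem (S : Subgroup G)).IsFactorSystem ((S : Subgroup G) ⊓ H)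
      ((QuotientGroup.mk' H).comp (S : Subgroup G).subtype)
      (Cfsg.groupFusionSystem ((S : Subgroup G).map (QuotientGroup.mk' H))) := by
  have hrange : ((QuotientGroup.mk' H).comp (S : Subgroup G).subtype).range =
      (S : Subgroup G).map (QuotientGroup.mk' H) := by
    rw [MonoidHom.range_comp, Subgroup.range_subtype]
  refine ⟨inf_le_left, ?_, hrange, ?_⟩
  · intro s
    show (QuotientGroup.mk' H) (s : G) = 1 ↔ (s : G) ∈ (S : Subgroup G) ⊓ H
    rw [QuotientGroup.mk'_apply, QuotientGroup.eq_one_iff]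
    exact ⟨fun h => ⟨s.2, h⟩, fun h => h.2⟩
  · intro P' φ'
    constructor
    · rintro ⟨hP', hφ'S, gbar, hgbar⟩
      refine ⟨hP', ?_⟩
      have hP'r : P' ≤ ((QuotientGroup.mk' H).comp (S : Subgroup G).subtype).range := by
        rw [hrange]; exact hP'
      obtain ⟨g, rfl⟩ := QuotientGroup.mk'_surjective H gbar
      have hPS := preimageAlong_le ((QuotientGroup.mk' H).comp (S : Subgroup G).subtype) P'
      -- the conjugate of the preimage lies in the preimage of the image of S
      have hXM : cj g (preimageAlong ((QuotientGroup.mk' H).comp (S : Subgroup G).subtype) P') ≤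
          ((S : Subgroup G).map (QuotientGroup.mk' H)).comap (QuotientGroup.mk' H) := by
        rintro _ ⟨x, hx, rfl⟩
        apply Subgroup.mem_comap.mpr
        obtain ⟨hxS, hxP'⟩ := (mem_preimageAlong _ P' x).mp hx
        have h1 := hgbar ⟨_, hxP'⟩
        have h2 := hφ'S ⟨_, hxP'⟩
        rw [h1] at h2
        show (QuotientGroup.mk' H) (g * x * g⁻¹) ∈ _
        rw [map_mul, map_mul, map_inv]
        exact h2
      have hSM : (S : Subgroup G) ≤
          ((S : Subgroup G).map (QuotientGroup.mk' H)).comap (QuotientGroup.mk' H) :=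
        Subgroup.le_comap_map _ _
      have hsyl : IsSylowIn p (S : Subgroup G)
          (((S : Subgroup G).map (QuotientGroup.mk' H)).comap (QuotientGroup.mk' H)) :=
        ⟨S.subtype hSM, Sylow.coe_subtype _ _⟩
      have hXp : IsPGroup p (cj g (preimageAlong
          ((QuotientGroup.mk' H).comp (S : Subgroup G).subtype) P')) :=
        IsPGroup_cj g (S.isPGroup'.to_le hPS)
      obtain ⟨k, hk, hkX⟩ := exists_cj_le_of_isSylowIn hsyl hXM hXp
      obtain ⟨s, hs, hsk⟩ := Subgroup.mem_comap.mp hk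
      have hh' : s⁻¹ * k ∈ H := by
        rw [← QuotientGroup.eq_one_iff, QuotientGroup.mk_mul, QuotientGroup.mk_inv]
        have : (QuotientGroup.mk' H) s = (QuotientGroup.mk' H) k := hsk
        rw [QuotientGroup.mk'_apply, QuotientGroup.mk'_apply] at this
        rw [this, inv_mul_cancel]
      have hval : ∀ x : preimageAlong ((QuotientGroup.mk' H).comp (S : Subgroup G).subtype) P',
          (s⁻¹ * k * g) * (x : G) * (s⁻¹ * k * g)⁻¹ ∈ (S : Subgroup G) := by
        intro x
        have h1 : k * (g * (x : G) * g⁻¹) * k⁻¹ ∈ (S : Subgroup G) :=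
          hkX (conj_mem_cj k _ (conj_mem_cj g _ x.2))
        have h2 : s⁻¹ * (k * (g * (x : G) * g⁻¹) * k⁻¹) * s⁻¹⁻¹ ∈ (S : Subgroup G) :=
          Subgroup.mul_mem _ (Subgroup.mul_mem _ (Subgroup.inv_mem _ hs) h1)
            (Subgroup.inv_mem _ (Subgroup.inv_mem _ hs))
        have e : (s⁻¹ * k * g) * (x : G) * (s⁻¹ * k * g)⁻¹ =
            s⁻¹ * (k * (g * (x : G) * g⁻¹) * k⁻¹) * s⁻¹⁻¹ := by group
        rw [e]; exact h2
      refine ⟨conjHom _ (s⁻¹ * k * g), ⟨hPS, hval, s⁻¹ * k * g, fun x => rfl⟩, ?_⟩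
      apply (inducedAlong_iff _).mpr
      refine ⟨hval, fun x => ?_⟩
      rw [hgbar]
      show (QuotientGroup.mk' H) g * (QuotientGroup.mk' H) (x : G) * ((QuotientGroup.mk' H) g)⁻¹ =
        (QuotientGroup.mk' H) ((s⁻¹ * k * g) * (x : G) * (s⁻¹ * k * g)⁻¹)
      have e1 : (QuotientGroup.mk' H) (s⁻¹ * k * g) = (QuotientGroup.mk' H) g := by
        rw [map_mul]
        have : (QuotientGroup.mk' H) (s⁻¹ * k) = 1 := by
          rw [QuotientGroup.mk'_apply, QuotientGroup.eq_one_iff]; exact hh'
        rw [this, one_mul]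
      rw [map_mul, map_mul, map_inv, e1]
    · rintro ⟨hP', φ, ⟨hPS, hφS, g, hg⟩, hind⟩
      have hP'r : P' ≤ ((QuotientGroup.mk' H).comp (S : Subgroup G).subtype).range := by
        rw [hrange]; exact hP'
      obtain ⟨hφS', hspec⟩ := (inducedAlong_iff _).mp hind
      have hform : ∀ y : P', φ' y = (QuotientGroup.mk' H) g * (y : G ⧸ H) *
          ((QuotientGroup.mk' H) g)⁻¹ := by
        intro y
        obtain ⟨x, rfl⟩ := quotMap_surjective _ hP'r y
        rw [hspec x]
        show (QuotientGroup.mk' H) (φ x) = _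
        rw [hg x, map_mul, map_mul, map_inv]
        rfl
      refine ⟨hP', fun y => ?_, (QuotientGroup.mk' H) g, hform⟩
      obtain ⟨x, rfl⟩ := quotMap_surjective _ hP'r y
      rw [hspec x, ← hrange]
      exact ⟨_, rfl⟩

end Cfsg.Agent.helper25
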