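import Mathlib

set_option autoImplicit false
set_option linter.unusedSectionVars false
set_option linter.unusedSimpArgs false

namespace Cfsg.Agent.helper25.Iso

/-- seven-parameter twisted unitriangular group over a field of characteristic 3 -/
@[ext] structure TA (K : Type) where
  x : K
  y : K
  p : K
  q : K
  r : K
  s : K
  z : K

section TAsec
variable {K : Type} [Field K] [CharP K 3]

instance fact_three : Fact (Nat.Prime 3) := ⟨Nat.prime_three⟩

theorem add3 (a b : K) : (a + b) ^ 3 = a ^ 3 + b ^ 3 := add_pow_char a b 3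

theorem add27 (a b : K) : (a + b) ^ 27 = a ^ 27 + b ^ 27 := by
  have := add_pow_char_pow a b 3 3
  norm_num at this
  exact this

theorem sub3 (a b : K) : (a - b) ^ 3 = a ^ 3 - b ^ 3 := by
  rw [sub_eq_add_neg, add3]; ring

theorem three_eq_zero : (3 : K) = 0 := by
  have := CharP.cast_eq_zero K 3
  exact_mod_cast this

namespace TA

instance : Mul (TA K) := ⟨fun a b => ⟨a.x + b.x, a.y + b.y, a.p + b.p + a.x ^ 3 * b.x,
  a.q + b.q + a.y ^ 3 * b.x, a.r + b.r + a.x * b.y ^ 27, a.s + b.s - a.x * b.x ^ 27,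
  a.z + b.z + a.x ^ 3 * b.r + a.y ^ 3 * b.s + a.p * b.y ^ 27 - a.q * b.x ^ 27⟩⟩

instance : One (TA K) := ⟨⟨0, 0, 0, 0, 0, 0, 0⟩⟩

instance : Inv (TA K) := ⟨fun a => ⟨-a.x, -a.y, -a.p + a.x ^ 4, -a.q + a.y ^ 3 * a.x,
  -a.r + a.x * a.y ^ 27, -a.s - a.x ^ 28,
  -a.z + a.x ^ 3 * a.r + a.y ^ 3 * a.s - (-a.p + a.x ^ 4) * a.y ^ 27
    + (-a.q + a.y ^ 3 * a.x) * a.x ^ 27⟩⟩

@[simp] theorem mul_x (a b : TA K) : (a * b).x = a.x + b.x := rfl
@[simp] theorem mul_y (a b : TA K) : (a * b).y = a.y + b.y := rfl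
@[simp] theorem mul_p (a b : TA K) : (a * b).p = a.p + b.p + a.x ^ 3 * b.x := rfl
@[simp] theorem mul_q (a b : TA K) : (a * b).q = a.q + b.q + a.y ^ 3 * b.x := rfl
@[simp] theorem mul_r (a b : TA K) : (a * b).r = a.r + b.r + a.x * b.y ^ 27 := rfl
@[simp] theorem mul_s (a b : TA K) : (a * b).s = a.s + b.s - a.x * b.x ^ 27 := rfl
@[simp] theorem mul_z (a b : TA K) : (a * b).z =
    a.z + b.z + a.x ^ 3 * b.r + a.y ^ 3 * b.s + a.p * b.y ^ 27 - a.q * b.x ^ 27 := rfl
@[simp] theorem one_x : (1 : TA K).x = 0 := rfl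
@[simp] theorem one_y : (1 : TA K).y = 0 := rfl
@[simp] theorem one_p : (1 : TA K).p = 0 := rfl
@[simp] theorem one_q : (1 : TA K).q = 0 := rfl
@[simp] theorem one_r : (1 : TA K).r = 0 := rfl
@[simp] theorem one_s : (1 : TA K).s = 0 := rfl
@[simp] theorem one_z : (1 : TA K).z = 0 := rfl
@[simp] theorem inv_x (a : TA K) : (a⁻¹).x = -a.x := rfl
@[simp] theorem inv_y (a : TA K) : (a⁻¹).y = -a.y := rfl
@[simp] theorem inv_p (a : TA K) : (a⁻¹).p = -a.p + a.x ^ 4 := rfl
@[simp] theorem inv_q (a : TA K) : (a⁻¹).q = -a.q + a.y ^ 3 * a.x := rfl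
@[simp] theorem inv_r (a : TA K) : (a⁻¹).r = -a.r + a.x * a.y ^ 27 := rfl
@[simp] theorem inv_s (a : TA K) : (a⁻¹).s = -a.s - a.x ^ 28 := rfl
@[simp] theorem inv_z (a : TA K) : (a⁻¹).z =
    -a.z + a.x ^ 3 * a.r + a.y ^ 3 * a.s - (-a.p + a.x ^ 4) * a.y ^ 27
      + (-a.q + a.y ^ 3 * a.x) * a.x ^ 27 := rfl

instance : Group (TA K) where
  mul_assoc a b c := by
    ext
    · simp only [mul_x]; ring
    · simp only [mul_y]; ring
    · simp only [mul_p, mul_x, add3]; ring
    · simp only [mul_q, mul_x, mul_y, add3]; ring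
    · simp only [mul_r, mul_x, mul_y, add27]; ring
    · simp only [mul_s, mul_x, add27]; ring
    · simp only [mul_z, mul_x, mul_y, mul_p, mul_q, mul_r, mul_s, add3, add27]; ring
  one_mul a := by
    ext <;> simp
  mul_one a := by
    ext <;> simp
  inv_mul_cancel a := by
    ext
    · simp
    · simp
    · simp only [mul_p, inv_p, inv_x, one_p]; ring
    · simp only [mul_q, inv_q, inv_y, one_q]; ring
    · simp only [mul_r, inv_r, inv_x, one_r]; ring
    · simp only [mul_s, inv_s, inv_x, one_s]; ring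
    · simp only [mul_z, inv_z, inv_x, inv_y, inv_p, inv_q, one_z]; ring

/-- the cube of an element -/
theorem cube (a : TA K) : a ^ 3 =
    ⟨0, 0, 0, 0, 0, 0, a.x * (a.x ^ 3 * a.y ^ 27 - a.y ^ 3 * a.x ^ 27)⟩ := by
  have h3 : (3 : K) = 0 := three_eq_zero
  rw [pow_succ, pow_two]
  ext
  · simp only [mul_x]; linear_combination a.x * h3
  · simp only [mul_y]; linear_combination a.y * h3
  · simp only [mul_p, mul_x, add3]; linear_combination (a.p + a.x ^ 4) * h3
  · simp only [mul_q, mul_x, mul_y, add3]; linear_combination (a.q + a.y ^ 3 * a.x) * h3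
  · simp only [mul_r, mul_x, mul_y, add27]; linear_combination (a.r + a.x * a.y ^ 27) * h3
  · simp only [mul_s, mul_x, add27]; linear_combination (a.s - a.x * a.x ^ 27) * h3
  · simp only [mul_z, mul_x, mul_y, mul_p, mul_q, mul_r, mul_s, add3, add27]
    linear_combination (a.z + a.x ^ 3 * a.r + a.y ^ 3 * a.s + a.p * a.y ^ 27 - a.q * a.x ^ 27) * h3

theorem pow_nine (a : TA K) : a ^ 9 = 1 := by
  have : a ^ 9 = (a ^ 3) ^ 3 := by rw [← pow_mul]
  rw [this, cube (a ^ 3), cube a]
  ext <;> simp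

end TA
end TAsec

section Auts
variable {K : Type} [Field K] [CharP K 3]

namespace TA

/-- torus action -/
def delta (l : K) (a : TA K) : TA K :=
  ⟨l * a.x, l * a.y, l ^ 4 * a.p, l ^ 4 * a.q, l ^ 28 * a.r, l ^ 28 * a.s, l ^ 31 * a.z⟩

theorem delta_mul (l : K) (a b : TA K) : delta l (a * b) = delta l a * delta l b := by
  ext <;> simp [delta] <;> ring

theorem delta_delta (l m : K) (a : TA K) : delta l (delta m a) = delta (l * m) a := by
  ext <;> simp [delta] <;> ring

theorem delta_one (a : TA K) : delta 1 a = a := by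
  ext <;> simp [delta]

/-- torus action as an automorphism -/
def deltaEquiv (l : Kˣ) : TA K ≃* TA K where
  toFun := delta (l : K)
  invFun := delta ((l⁻¹ : Kˣ) : K)
  left_inv a := by rw [delta_delta, ← Units.val_mul, inv_mul_cancel, Units.val_one, delta_one]
  right_inv a := by rw [delta_delta, ← Units.val_mul, mul_inv_cancel, Units.val_one, delta_one]
  map_mul' := delta_mul _

theorem deltaEquiv_apply (l : Kˣ) (a : TA K) : deltaEquiv l a = delta (l : K) a := rfl

/-- the torus action as a homomorphism -/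
def deltaHom : Kˣ →* MulAut (TA K) where
  toFun := deltaEquiv
  map_one' := by
    apply MulEquiv.ext
    intro a
    exact delta_one a
  map_mul' l m := by
    apply MulEquiv.ext
    intro a
    show delta _ a = delta _ (delta _ a)
    rw [delta_delta, Units.val_mul]

theorem deltaHom_apply (l : Kˣ) (a : TA K) : deltaHom l a = delta (l : K) a := rfl

/-- Frobenius on coordinates -/
def frob (a : TA K) : TA K := ⟨a.x ^ 3, a.y ^ 3, a.p ^ 3, a.q ^ 3, a.r ^ 3, a.s ^ 3, a.z ^ 3⟩

theorem frob_mul (a b : TA K) : frob (a * b) = frob a * frob b := by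
  ext
  · simp only [frob, mul_x, add3]
  · simp only [frob, mul_y, add3]
  · simp only [frob, mul_p, add3, mul_pow]
  · simp only [frob, mul_q, add3, mul_pow]
  · simp only [frob, mul_r, add3, mul_pow]; ring
  · simp only [frob, mul_s, add3, sub3, mul_pow]; ring
  · simp only [frob, mul_z, add3, sub3, mul_pow]; ring

/-- Frobenius as an endomorphism -/
def frobHom : TA K →* TA K where
  toFun := frob
  map_one' := by ext <;> simp [frob]
  map_mul' := frob_mul

theorem frobHom_apply (a : TA K) : frobHom a = frob a := rfl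

theorem frob_delta (l : K) (a : TA K) : frob (delta l a) = delta (l ^ 3) (frob a) := by
  ext <;> simp [frob, delta] <;> ring

theorem frob4 (hK : ∀ x : K, x ^ 81 = x) (a : TA K) : frob (frob (frob (frob a))) = a := by
  have h : ∀ x : K, (((x ^ 3) ^ 3) ^ 3) ^ 3 = x := by
    intro x
    rw [← pow_mul, ← pow_mul, ← pow_mul]
    exact hK x
  ext <;> simp only [frob, h]

theorem key_sym (x y l : K) (hl : l ^ 5 = 1) (hx : x ^ 81 = x) (hy : y ^ 81 = y) :
    (x + l * x ^ 9) ^ 3 * (y + l * y ^ 9) ^ 27 = (y + l * y ^ 9) ^ 3 * (x + l * x ^ 9) ^ 27 := by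
  have hl27 : l ^ 27 = l ^ 2 := by
    calc l ^ 27 = (l ^ 5) ^ 5 * l ^ 2 := by ring
      _ = l ^ 2 := by rw [hl]; ring
  have hx243 : (x ^ 9) ^ 27 = x ^ 3 := by
    calc (x ^ 9) ^ 27 = (x ^ 81) ^ 3 := by ring
      _ = x ^ 3 := by rw [hx]
  have hy243 : (y ^ 9) ^ 27 = y ^ 3 := by
    calc (y ^ 9) ^ 27 = (y ^ 81) ^ 3 := by ring
      _ = y ^ 3 := by rw [hy]
  have e1 : (x + l * x ^ 9) ^ 3 = x ^ 3 + l ^ 3 * x ^ 27 := by rw [add3, mul_pow]; ring
  have e2 : (y + l * y ^ 9) ^ 27 = y ^ 27 + l ^ 2 * y ^ 3 := by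
    rw [add27, mul_pow, hl27, hy243]
  have e3 : (y + l * y ^ 9) ^ 3 = y ^ 3 + l ^ 3 * y ^ 27 := by rw [add3, mul_pow]; ring
  have e4 : (x + l * x ^ 9) ^ 27 = x ^ 27 + l ^ 2 * x ^ 3 := by
    rw [add27, mul_pow, hl27, hx243]
  rw [e1, e2, e3, e4]
  linear_combination (x ^ 27 * y ^ 3 - x ^ 3 * y ^ 27) * hl

/-- the element `a * δ_l (φ² a)` has trivial cube -/
theorem twist_cube (hK : ∀ x : K, x ^ 81 = x) (l : K) (hl : l ^ 5 = 1) (a : TA K) :
    (a * delta l (frob (frob a))) ^ 3 = 1 := by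
  rw [cube]
  have hx : (a * delta l (frob (frob a))).x = a.x + l * a.x ^ 9 := by
    simp only [mul_x, delta, frob]; ring
  have hy : (a * delta l (frob (frob a))).y = a.y + l * a.y ^ 9 := by
    simp only [mul_y, delta, frob]; ring
  rw [hx, hy, key_sym a.x a.y l hl (hK _) (hK _)]
  ext <;> simp

/-- fixed points of a nontrivial torus element are trivial -/
theorem delta_fixed (l : K) (hl : l ^ 5 = 1) (hl1 : l ≠ 1) (e : TA K) (he : delta l e = e) : e = 1 := by
  have h1 : l - 1 ≠ 0 := sub_ne_zero.mpr hl1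
  have h4 : l ^ 4 - 1 ≠ 0 := by
    intro h
    apply hl1
    have : l ^ 4 = 1 := sub_eq_zero.mp h
    calc l = l ^ 4 * l := by rw [this, one_mul]
      _ = l ^ 5 := by ring
      _ = 1 := hl
  have h28 : l ^ 28 - 1 ≠ 0 := by
    intro h
    apply hl1
    have h3 : l ^ 3 = 1 := by
      have : l ^ 28 = 1 := sub_eq_zero.mp h
      calc l ^ 3 = (l ^ 5) ^ 5 * l ^ 3 := by rw [hl]; ring
        _ = l ^ 28 := by ring
        _ = 1 := this
    have h2 : l ^ 2 = 1 := by
      calc l ^ 2 = l ^ 3 * l ^ 2 := by rw [h3, one_mul]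
        _ = l ^ 5 := by ring
        _ = 1 := hl
    calc l = l ^ 3 := by rw [pow_succ, h2, one_mul]
      _ = 1 := h3
  have h31 : l ^ 31 - 1 ≠ 0 := by
    have : l ^ 31 = l := by
      calc l ^ 31 = (l ^ 5) ^ 6 * l := by ring
        _ = l := by rw [hl]; ring
    rw [this]; exact h1
  have ex := congrArg TA.x he
  have ey := congrArg TA.y he
  have ep := congrArg TA.p he
  have eq := congrArg TA.q he
  have er := congrArg TA.r he
  have es := congrArg TA.s he
  have ez := congrArg TA.z he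
  simp only [delta] at ex ey ep eq er es ez
  have fx : (l - 1) * e.x = 0 := by linear_combination ex
  have fy : (l - 1) * e.y = 0 := by linear_combination ey
  have fp : (l ^ 4 - 1) * e.p = 0 := by linear_combination ep
  have fq : (l ^ 4 - 1) * e.q = 0 := by linear_combination eq
  have fr : (l ^ 28 - 1) * e.r = 0 := by linear_combination er
  have fs : (l ^ 28 - 1) * e.s = 0 := by linear_combination es
  have fz : (l ^ 31 - 1) * e.z = 0 := by linear_combination ez
  ext
  · exact (mul_eq_zero.mp fx).resolve_left h1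
  · exact (mul_eq_zero.mp fy).resolve_left h1
  · exact (mul_eq_zero.mp fp).resolve_left h4
  · exact (mul_eq_zero.mp fq).resolve_left h4
  · exact (mul_eq_zero.mp fr).resolve_left h28
  · exact (mul_eq_zero.mp fs).resolve_left h28
  · exact (mul_eq_zero.mp fz).resolve_left h31

instance [Finite K] : Finite (TA K) :=
  Finite.of_injective (fun a : TA K => (a.x, a.y, a.p, a.q, a.r, a.s, a.z)) (by
    intro a b h
    simp only [Prod.mk.injEq] at h
    obtain ⟨h1, h2, h3, h4, h5, h6, h7⟩ := h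
    exact TA.ext h1 h2 h3 h4 h5 h6 h7)

/-- every element is a "twisted commutator" when the torus element acts without fixed points -/
theorem exists_twist [Finite K] (l : K) (hl : l ^ 5 = 1) (hl1 : l ≠ 1) (a : TA K) :
    ∃ c : TA K, c⁻¹ * delta l c = a := by
  have hinj : Function.Injective (fun c : TA K => c⁻¹ * delta l c) := by
    intro c d h
    simp only at h
    have h2 : delta l (d * c⁻¹) = d * c⁻¹ := by
      have hc : delta l (c⁻¹) = (delta l c)⁻¹ := by
        rw [eq_inv_iff_mul_eq_one, ← delta_mul, inv_mul_cancel]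
        ext <;> simp [delta]
      rw [delta_mul, hc]
      have : delta l c = c * (d⁻¹ * delta l d) := by rw [← h, mul_inv_cancel_left]
      rw [this]
      group
    have := delta_fixed l hl hl1 _ h2
    exact (mul_inv_eq_one.mp this).symm
  exact Finite.surjective_of_injective hinj a

end TA
end Auts
end Cfsg.Agent.helper25.Iso
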