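import Cfsg.Agent.Lib_helper25_Iso1

set_option autoImplicit false
set_option linter.unusedSectionVars false
set_option linter.unusedSimpArgs false

namespace Cfsg.Agent.helper25.Iso

open SemidirectProduct

section Build
variable (K : Type) [Field K] [CharP K 3]

/-- the torus action restricted to fifth roots of unity -/
def torusHom : ↥(rootsOfUnity 5 K) →* MulAut (TA K) :=
  TA.deltaHom.comp (rootsOfUnity 5 K).subtype

/-- `A ⋊ μ₅` -/
abbrev GB := TA K ⋊[torusHom K] ↥(rootsOfUnity 5 K)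

variable {K}

theorem torusHom_apply (l : ↥(rootsOfUnity 5 K)) (a : TA K) :
    torusHom K l a = TA.delta ((l : Kˣ) : K) a := rfl

theorem mu_pow_five (l : ↥(rootsOfUnity 5 K)) : l ^ 5 = 1 := by
  apply Subtype.ext
  rw [Subgroup.coe_pow]
  exact (mem_rootsOfUnity 5 _).mp l.2

theorem mu_val_pow_five (l : ↥(rootsOfUnity 5 K)) : (((l : Kˣ) : K)) ^ 5 = 1 := by
  have := (mem_rootsOfUnity 5 _).mp l.2
  have h2 := congrArg (fun u : Kˣ => (u : K)) this
  simpa using h2

theorem mu_val_ne_one (l : ↥(rootsOfUnity 5 K)) (h : l ≠ 1) : (((l : Kˣ) : K)) ≠ 1 := by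
  intro h1
  apply h
  apply Subtype.ext
  apply Units.ext
  simpa using h1

/-- Frobenius on `A ⋊ μ₅` as an endomorphism -/
def PhiHom : GB K →* GB K :=
  SemidirectProduct.map TA.frobHom (powMonoidHom 3) (by
    intro l
    apply MonoidHom.ext
    intro a
    show TA.frob (TA.delta ((l : Kˣ) : K) a) = TA.delta _ (TA.frob a)
    rw [TA.frob_delta]
    rfl)

theorem PhiHom_left (b : GB K) : (PhiHom b).left = TA.frob b.left := rfl
theorem PhiHom_right (b : GB K) : (PhiHom b).right = b.right ^ 3 := rfl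

theorem PhiHom4 (hK : ∀ x : K, x ^ 81 = x) (b : GB K) : PhiHom (PhiHom (PhiHom (PhiHom b))) = b := by
  apply SemidirectProduct.ext
  · simp only [PhiHom_left]
    exact TA.frob4 hK _
  · simp only [PhiHom_right]
    rw [← pow_mul, ← pow_mul, ← pow_mul]
    have : b.right ^ (3 * 3 * 3 * 3) = (b.right ^ 5) ^ 16 * b.right := by
      rw [← pow_mul, ← pow_succ]
    rw [this, mu_pow_five, one_pow, one_mul]

/-- Frobenius on `A ⋊ μ₅` as an automorphism -/
def PhiEquiv (hK : ∀ x : K, x ^ 81 = x) : MulAut (GB K) :=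
  { PhiHom with
    invFun := fun b => PhiHom (PhiHom (PhiHom b))
    left_inv := fun b => PhiHom4 hK b
    right_inv := fun b => PhiHom4 hK b }

theorem PhiEquiv_apply (hK : ∀ x : K, x ^ 81 = x) (b : GB K) : PhiEquiv hK b = PhiHom b := rfl

theorem PhiEquiv_pow4 (hK : ∀ x : K, x ^ 81 = x) : (PhiEquiv hK) ^ 4 = 1 := by
  apply MulEquiv.ext
  intro b
  simp only [pow_succ, pow_zero, one_mul, MulAut.mul_apply, MulAut.one_apply, PhiEquiv_apply]
  exact PhiHom4 hK b

theorem PhiEquiv_sq_apply (hK : ∀ x : K, x ^ 81 = x) (b : GB K) :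
    ((PhiEquiv hK) ^ 2) b = PhiHom (PhiHom b) := by
  simp only [pow_succ, pow_zero, one_mul, MulAut.mul_apply, PhiEquiv_apply]

variable (K) in
/-- the cyclic group generated by Frobenius -/
abbrev GC (hK : ∀ x : K, x ^ 81 = x) : Subgroup (MulAut (GB K)) := Subgroup.zpowers (PhiEquiv hK)

variable (K) in
/-- the solvable group `(A ⋊ μ₅) ⋊ ⟨Φ⟩` -/
abbrev GG (hK : ∀ x : K, x ^ 81 = x) := GB K ⋊[(GC K hK).subtype] ↥(GC K hK)

/-! ### element orders in `A ⋊ μ₅` -/

theorem GB_eq_inl (b : GB K) (h : b.right = 1) : b = inl b.left := by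
  apply SemidirectProduct.ext
  · simp
  · simp [h]

theorem GB_pow_nine (b : GB K) (h : b.right = 1) : b ^ 9 = 1 := by
  rw [GB_eq_inl b h, ← map_pow, TA.pow_nine, map_one]

theorem GB_pow_three (b : GB K) (h : b.right = 1) (h3 : b.left ^ 3 = 1) : b ^ 3 = 1 := by
  rw [GB_eq_inl b h, ← map_pow, h3, map_one]

theorem GB_pow_five [Finite K] (b : GB K) (h : b.right ≠ 1) : b ^ 5 = 1 := by
  obtain ⟨c, hc⟩ := TA.exists_twist (((b.right : Kˣ) : K)) (mu_val_pow_five _) (mu_val_ne_one _ h)
    b.left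
  have hb : b = (inl c)⁻¹ * inr b.right * ((inl c)⁻¹)⁻¹ := by
    apply SemidirectProduct.ext
    · simp only [inv_inv, ← map_inv, mul_left, mul_right, left_inl, right_inl, left_inr, right_inr,
        map_one, mul_one, one_mul, MulAut.one_apply]
      rw [torusHom_apply]
      exact hc.symm
    · simp
  rw [hb, conj_pow, ← map_pow, mu_pow_five, map_one, mul_one, mul_inv_cancel]

theorem GB_twist (hK : ∀ x : K, x ^ 81 = x) (b : GB K) : (b * PhiHom (PhiHom b)) ^ 3 = 1 := by
  apply GB_pow_three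
  · rw [mul_right, PhiHom_right, PhiHom_right, ← pow_mul]
    have : b.right * b.right ^ (3 * 3) = (b.right ^ 5) ^ 2 := by
      rw [← pow_mul, ← pow_succ']
    rw [this, mu_pow_five, one_pow]
  · rw [mul_left, PhiHom_left, PhiHom_left, torusHom_apply]
    exact TA.twist_cube hK _ (mu_val_pow_five _) _

end Build

section GGsec
variable {K : Type} [Field K] [CharP K 3] (hK : ∀ x : K, x ^ 81 = x)

theorem GG_eq_inl (g : GG K hK) (h : g.right = 1) : g = inl g.left := by
  apply SemidirectProduct.ext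
  · simp
  · simp [h]

theorem GG_pow_of_right_one [Finite K] (g : GG K hK) (h : g.right = 1) : g ^ 9 = 1 ∨ g ^ 5 = 1 := by
  rw [GG_eq_inl hK g h]
  by_cases h1 : g.left.right = 1
  · left; rw [← map_pow, GB_pow_nine _ h1, map_one]
  · right; rw [← map_pow, GB_pow_five _ h1, map_one]

theorem GG_pow_six (g : GG K hK) (h : (g.right : MulAut (GB K)) = PhiEquiv hK ^ 2) : g ^ 6 = 1 := by
  have h2 : g ^ 2 = inl (g.left * PhiHom (PhiHom g.left)) := by
    rw [pow_two]
    apply SemidirectProduct.ext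
    · rw [mul_left, left_inl]
      show g.left * ((g.right : MulAut (GB K)) g.left) = _
      rw [h, PhiEquiv_sq_apply]
    · rw [mul_right, right_inl]
      apply Subtype.ext
      rw [Subgroup.coe_mul, h, ← pow_add, Subgroup.coe_one]
      exact PhiEquiv_pow4 hK
  have : g ^ 6 = (g ^ 2) ^ 3 := by rw [← pow_mul]
  rw [this, h2, ← map_pow, GB_twist hK, map_one]

theorem GG_pow_twelve (g : GG K hK) (h : (g.right : MulAut (GB K)) ^ 2 = PhiEquiv hK ^ 2) :
    g ^ 12 = 1 := by
  have : g ^ 12 = (g ^ 2) ^ 6 := by rw [← pow_mul]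
  rw [this]
  apply GG_pow_six hK
  rw [pow_two, mul_right, Subgroup.coe_mul, ← pow_two, h]

theorem GG_pow [Finite K] (g : GG K hK) :
    g ^ 4 = 1 ∨ g ^ 5 = 1 ∨ g ^ 6 = 1 ∨ g ^ 9 = 1 ∨ g ^ 12 = 1 := by
  obtain ⟨k, hk⟩ := Subgroup.mem_zpowers_iff.mp g.right.2
  have h4 : (PhiEquiv hK) ^ (4 : ℤ) = 1 := by
    have := PhiEquiv_pow4 hK
    exact_mod_cast this
  rw [zpow_eq_zpow_emod k h4] at hk
  have hm0 : 0 ≤ k % 4 := Int.emod_nonneg _ (by norm_num)
  have hm4 : k % 4 < 4 := Int.emod_lt_of_pos _ (by norm_num)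
  generalize k % 4 = m at hk hm0 hm4
  interval_cases m
  · -- trivial Frobenius part
    have h1 : g.right = 1 := by
      apply Subtype.ext
      rw [← hk, zpow_zero, Subgroup.coe_one]
    rcases GG_pow_of_right_one hK g h1 with h | h
    · exact Or.inr (Or.inr (Or.inr (Or.inl h)))
    · exact Or.inr (Or.inl h)
  · right; right; right; right
    apply GG_pow_twelve hK
    rw [← hk, zpow_one]
  · right; right; left
    apply GG_pow_six hK
    rw [← hk]
    norm_cast
  · right; right; right; right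
    apply GG_pow_twelve hK
    rw [← hk]
    have : (PhiEquiv hK) ^ (3 : ℤ) = (PhiEquiv hK) ^ 3 := by norm_cast
    rw [this, ← pow_mul]
    have : (PhiEquiv hK) ^ (3 * 2) = (PhiEquiv hK) ^ 4 * (PhiEquiv hK) ^ 2 := by rw [← pow_add]
    rw [this, PhiEquiv_pow4, one_mul]

end GGsec

section Final
variable {K : Type} [Field K] [CharP K 3] (hK : ∀ x : K, x ^ 81 = x)

instance TA_solvable [Finite K] : Group.IsSolvable (TA K) := by
  have hp : IsPGroup 3 (TA K) := fun g => ⟨2, by
    have := TA.pow_nine g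
    norm_num
    exact this⟩
  haveI := hp.isNilpotent
  infer_instance

instance GB_solvable [Finite K] : Group.IsSolvable (GB K) :=
  solvable_of_ker_le_range (inl : TA K →* GB K) (rightHom : GB K →* ↥(rootsOfUnity 5 K))
    (by rw [range_inl_eq_ker_rightHom])

theorem GC_solvable : Group.IsSolvable ↥(GC K hK) := by
  apply isSolvable_of_comm
  intro a b
  obtain ⟨i, hi⟩ := Subgroup.mem_zpowers_iff.mp a.2
  obtain ⟨j, hj⟩ := Subgroup.mem_zpowers_iff.mp b.2
  apply Subtype.ext
  rw [Subgroup.coe_mul, Subgroup.coe_mul, ← hi, ← hj, ← zpow_add, ← zpow_add, add_comm]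

theorem GG_solvable [Finite K] : Group.IsSolvable (GG K hK) := by
  haveI := GC_solvable hK
  exact solvable_of_ker_le_range (inl : GB K →* GG K hK) (rightHom : GG K hK →* ↥(GC K hK))
    (by rw [range_inl_eq_ker_rightHom])

instance GB_finite [Finite K] : Finite (GB K) :=
  Finite.of_equiv _ (SemidirectProduct.equivProd (φ := torusHom K)).symm

theorem GC_finite : Finite ↥(GC K hK) := by
  have h : IsOfFinOrder (PhiEquiv hK) :=
    isOfFinOrder_iff_pow_eq_one.mpr ⟨4, by norm_num, PhiEquiv_pow4 hK⟩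
  exact (Set.finite_coe_iff).mpr h.finite_zpowers

theorem GG_finite [Finite K] : Finite (GG K hK) := by
  haveI := GC_finite hK
  exact Finite.of_equiv _ (SemidirectProduct.equivProd (φ := (GC K hK).subtype)).symm

/-! ### witnesses -/

theorem exists_GG_order9 (l : ↥(rootsOfUnity 5 K)) (hl : l ≠ 1) : ∃ g : GG K hK, orderOf g = 9 := by
  set z : K := ((l : Kˣ) : K) with hz
  have hz5 : z ^ 5 = 1 := mu_val_pow_five l
  have hz1 : z ≠ 1 := mu_val_ne_one l hl
  have hz0 : z ≠ 0 := Units.ne_zero _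
  let a : TA K := ⟨1, z, 0, 0, 0, 0, 0⟩
  have ha : orderOf a = 9 := by
    have h9 : (9 : ℕ) = 3 ^ (1 + 1) := by norm_num
    rw [h9]
    apply orderOf_eq_prime_pow
    · rw [pow_one, TA.cube]
      intro h
      have hzz := congrArg TA.z h
      simp only [TA.one_z, a] at hzz
      have h27 : z ^ 27 = z ^ 2 := by
        calc z ^ 27 = (z ^ 5) ^ 5 * z ^ 2 := by ring
          _ = z ^ 2 := by rw [hz5]; ring
      rw [h27] at hzz
      have : z ^ 2 * (1 - z) = 0 := by linear_combination hzz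
      rcases mul_eq_zero.mp this with h | h
      · exact hz0 (pow_eq_zero_iff (by norm_num) |>.mp h)
      · exact hz1 (sub_eq_zero.mp h).symm
    · have := TA.pow_nine a
      norm_num
      exact this
  refine ⟨inl (inl a), ?_⟩
  rw [orderOf_injective _ inl_injective, orderOf_injective _ inl_injective, ha]

theorem mu_orderOf (l : ↥(rootsOfUnity 5 K)) (hl : l ≠ 1) : orderOf l = 5 := by
  haveI : Fact (Nat.Prime 5) := ⟨by norm_num⟩
  exact orderOf_eq_prime (mu_pow_five l) hl

theorem exists_GG_order5 (l : ↥(rootsOfUnity 5 K)) (hl : l ≠ 1) : ∃ g : GG K hK, orderOf g = 5 := by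
  refine ⟨inl (inr l), ?_⟩
  rw [orderOf_injective _ inl_injective, orderOf_injective _ inr_injective, mu_orderOf l hl]

theorem PhiEquiv_sq_ne (l : ↥(rootsOfUnity 5 K)) (hl : l ≠ 1) : (PhiEquiv hK) ^ 2 ≠ 1 := by
  intro h
  have h1 := congrArg (fun e : MulAut (GB K) => (e (inr l)).right) h
  simp only [PhiEquiv_sq_apply, PhiHom_right, MulAut.one_apply, right_inr] at h1
  -- h1 : (l^3)^3 = l
  have h5 := mu_pow_five l
  have h4 : l ^ 4 = l := by
    calc l ^ 4 = (l ^ 5) * l ^ 4 := by rw [h5, one_mul]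
      _ = (l ^ 3) ^ 3 := by rw [← pow_mul, ← pow_add]
      _ = l := h1
  have h3 : l ^ 3 = 1 := by
    have : l ^ 3 * l = 1 * l := by rw [one_mul, ← pow_succ]; exact h4
    exact mul_right_cancel this
  have h2 : l ^ 2 = 1 := by
    calc l ^ 2 = l ^ 3 * l ^ 2 := by rw [h3, one_mul]
      _ = l ^ 5 := by rw [← pow_add]
      _ = 1 := h5
  apply hl
  calc l = l ^ 2 * l := by rw [h2, one_mul]
    _ = l ^ 3 := by rw [← pow_succ]
    _ = 1 := h3

theorem exists_GG_order12 (l : ↥(rootsOfUnity 5 K)) (hl : l ≠ 1) : ∃ g : GG K hK, orderOf g = 12 := by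
  let a : TA K := ⟨0, 0, 0, 0, 0, 0, 1⟩
  have ha : orderOf a = 3 := by
    apply orderOf_eq_prime
    · rw [TA.cube]
      ext <;> simp [a]
    · intro h
      have := congrArg TA.z h
      simp [a] at this
  let c : ↥(GC K hK) := ⟨PhiEquiv hK, Subgroup.mem_zpowers _⟩
  have hc : orderOf c = 4 := by
    rw [← Subgroup.orderOf_coe]
    have h4 : (4 : ℕ) = 2 ^ (1 + 1) := by norm_num
    rw [h4]
    haveI : Fact (Nat.Prime 2) := ⟨Nat.prime_two⟩
    apply orderOf_eq_prime_pow
    · rw [pow_one]; exact PhiEquiv_sq_ne hK l hl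
    · have := PhiEquiv_pow4 hK
      norm_num
      exact this
  let x : GG K hK := inl (inl a)
  let y : GG K hK := inr c
  have hx : orderOf x = 3 := by
    rw [orderOf_injective _ inl_injective, orderOf_injective _ inl_injective, ha]
  have hy : orderOf y = 4 := by
    rw [orderOf_injective _ inr_injective, hc]
  have hcomm : Commute x y := by
    apply SemidirectProduct.ext
    · simp only [mul_left, left_inl, left_inr, right_inl, right_inr, map_one, mul_one, one_mul,
        MulAut.one_apply, x, y]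
      show inl a = PhiHom (inl a)
      apply SemidirectProduct.ext
      · rw [PhiHom_left]
        ext <;> simp [TA.frob, a]
      · rw [PhiHom_right]; simp
    · simp [x, y]
  refine ⟨x * y, ?_⟩
  rw [hcomm.orderOf_mul_eq_mul_orderOf_of_coprime (by rw [hx, hy]; norm_num), hx, hy]

end Final
end Cfsg.Agent.helper25.Iso
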