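import Mathlib
import Cfsg.Agent.S0246

set_option autoImplicit false

namespace Cfsg.Agent.helper25.Iso

open Matrix Polynomial

section Rev
variable {F : Type*} [Field F]

theorem det_key (A J' : Matrix (Fin 2 ⊕ Fin 2) (Fin 2 ⊕ Fin 2) F[X])
    (hrel : A * J' * Aᵀ = J') (hdetA : A.det = 1) (hJ : J'.det * J'.det = 1) :
    ((X : F[X]) • (1 : Matrix (Fin 2 ⊕ Fin 2) (Fin 2 ⊕ Fin 2) F[X]) - A).det =
      (1 - (X : F[X]) • A).det := by
  have hk : ((X : F[X]) • (1 : Matrix (Fin 2 ⊕ Fin 2) (Fin 2 ⊕ Fin 2) F[X]) - A) * J' * Aᵀ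
      = J' * ((X : F[X]) • Aᵀ - 1) := by
    rw [Matrix.sub_mul, Matrix.sub_mul, hrel, Matrix.mul_sub, Matrix.mul_one]
    simp
  have hd := congrArg Matrix.det hk
  have h2 : ((X : F[X]) • Aᵀ - 1) = -((1 - (X : F[X]) • A)ᵀ) := by
    rw [Matrix.transpose_sub, Matrix.transpose_smul, Matrix.transpose_one]; abel
  rw [h2, Matrix.det_mul, Matrix.det_mul, Matrix.det_mul, Matrix.det_transpose, hdetA, mul_one,
    Matrix.det_neg, Matrix.det_transpose] at hd
  have hcard : Fintype.card (Fin 2 ⊕ Fin 2) = 4 := by simp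
  rw [hcard] at hd
  have hJne : J'.det ≠ 0 := by
    intro h
    rw [h, mul_zero] at hJ
    exact zero_ne_one hJ
  have : J'.det * ((X : F[X]) • (1 : Matrix (Fin 2 ⊕ Fin 2) (Fin 2 ⊕ Fin 2) F[X]) - A).det
      = J'.det * (1 - (X : F[X]) • A).det := by
    rw [mul_comm, hd]; ring
  exact mul_left_cancel₀ hJne this

theorem charpoly_reverse_of_symplectic (M : Matrix (Fin 2 ⊕ Fin 2) (Fin 2 ⊕ Fin 2) F)
    (hM : M ∈ Matrix.symplecticGroup (Fin 2) F) : M.charpoly.reverse = M.charpoly := by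
  rw [Matrix.reverse_charpoly]
  have hrel : (M.map C) * J (Fin 2) F[X] * (M.map C)ᵀ = J (Fin 2) F[X] :=
    SymplecticGroup.mem_iff.mp (SymplecticGroup.map_mem hM (C : F →+* F[X]))
  have hc : charmatrix M = (X : F[X]) • (1 : Matrix (Fin 2 ⊕ Fin 2) (Fin 2 ⊕ Fin 2) F[X]) - M.map C := by
    unfold charmatrix
    rw [RingHom.mapMatrix_apply]
    congr 1
    ext i j
    simp [Matrix.scalar_apply, Matrix.diagonal_apply, Matrix.one_apply]
  have hdetA : (M.map C).det = 1 := by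
    have := RingHom.map_det (C : F →+* F[X]) M
    rw [RingHom.mapMatrix_apply, SymplecticGroup.det_eq_one hM, map_one] at this
    exact this.symm
  have := det_key (M.map C) (J (Fin 2) F[X]) hrel hdetA (Matrix.J_det_mul_J_det (Fin 2) F[X])
  show (1 - (X : F[X]) • M.map C).det = (charmatrix M).det
  rw [hc]
  exact this.symm

end Rev

section Main
variable {F : Type*} [Field F]

theorem three_poly (h3 : (3:F) = 0) : (3 : F[X]) = 0 := by
  have : (3 : F[X]) = C (3:F) := (map_ofNat C 3).symm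
  rw [this, h3, map_zero]

theorem sp_pow (hF3 : ∀ a : F, a = 0 ∨ a = 1 ∨ a = -1) (h3 : (3:F) = 0)
    (M : Matrix (Fin 2 ⊕ Fin 2) (Fin 2 ⊕ Fin 2) F) (hM : M ∈ symplecticGroup (Fin 2) F) :
    M^4 = -1 ∨ M^5 = 1 ∨ M^5 = -1 ∨ M^6 = 1 ∨ M^6 = -1 ∨ M^9 = 1 ∨ M^9 = -1 ∨ M^12 = 1 := by
  have h3X := three_poly h3
  have hmonic := Matrix.charpoly_monic M
  have hdeg : M.charpoly.natDegree = 4 := by rw [Matrix.charpoly_natDegree_eq_dim]; simp
  have hrev := charpoly_reverse_of_symplectic M hM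
  have hco : ∀ i, i ≤ 4 → M.charpoly.coeff (4 - i) = M.charpoly.coeff i := by
    intro i hi
    have := Polynomial.coeff_reverse M.charpoly i
    rw [hrev, hdeg, Polynomial.revAt_le hi] at this
    exact this.symm
  have h4 : M.charpoly.coeff 4 = 1 := by
    have := hmonic.coeff_natDegree; rwa [hdeg] at this
  have h0 : M.charpoly.coeff 0 = 1 := by
    have := hco 4 le_rfl
    rw [h4] at this; exact this
  have h1 : M.charpoly.coeff 1 = M.charpoly.coeff 3 := hco 3 (by norm_num)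
  have hp : M.charpoly = X^4 + C (M.charpoly.coeff 3) * X^3 + C (M.charpoly.coeff 2) * X^2
      + C (M.charpoly.coeff 3) * X + 1 := by
    conv_lhs => rw [Polynomial.as_sum_range' M.charpoly 5 (by omega)]
    simp only [Finset.sum_range_succ, Finset.sum_range_zero, ← Polynomial.C_mul_X_pow_eq_monomial,
      h4, h0, h1, map_one]
    ring
  have hz := Matrix.aeval_self_charpoly M
  have key : ∀ (N : ℕ) (s : F[X]) (q : F[X]), X^N - s = M.charpoly * q →
      aeval M (X^N : F[X]) = aeval M s := by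
    intro N s q h
    have := congrArg (aeval M) h
    rw [map_mul, hz, zero_mul, map_sub, sub_eq_zero] at this
    exact this
  generalize M.charpoly.coeff 3 = a at hp
  generalize M.charpoly.coeff 2 = b at hp
  rcases hF3 a with ha | ha | ha <;> rcases hF3 b with hb | hb | hb
  -- a=0, b=0
  · have h := key 4 (-1) ((1)) (by
      rw [hp, ha, hb]
      simp only [map_one, map_neg, map_zero]
      linear_combination (0) * h3X)
    rw [map_pow, aeval_X] at h
    left
    simpa using h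
  -- a=0, b=1
  · have h := key 6 1 ((-1) + (1)*X^2) (by
      rw [hp, ha, hb]
      simp only [map_one, map_neg, map_zero]
      linear_combination (0) * h3X)
    rw [map_pow, aeval_X] at h
    right; right; right; left
    simpa using h
  -- a=0, b=-1
  · have h := key 6 (-1) ((1) + (1)*X^2) (by
      rw [hp, ha, hb]
      simp only [map_one, map_neg, map_zero]
      linear_combination (0) * h3X)
    rw [map_pow, aeval_X] at h
    right; right; right; right; left
    simpa using h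
  -- a=1, b=0
  · have h := key 9 (-1) ((1) + (-1)*X + (1)*X^2 + (1)*X^3 + (-1)*X^4 + (1)*X^5) (by
      rw [hp, ha, hb]
      simp only [map_one, map_neg, map_zero]
      linear_combination ((-1)*X^3 + (-1)*X^6) * h3X)
    rw [map_pow, aeval_X] at h
    right; right; right; right; right; right; left
    simpa using h
  -- a=1, b=1
  · have h := key 5 1 ((-1) + (1)*X) (by
      rw [hp, ha, hb]
      simp only [map_one, map_neg, map_zero]
      linear_combination (0) * h3X)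
    rw [map_pow, aeval_X] at h
    right; left
    simpa using h
  -- a=1, b=-1
  · have h := key 12 1 ((-1) + (1)*X + (1)*X^2 + (1)*X^3 + (-1)*X^5 + (-1)*X^6 + (-1)*X^7 + (1)*X^8) (by
      rw [hp, ha, hb]
      simp only [map_one, map_neg, map_zero]
      linear_combination ((-1)*X^2 + (1)*X^10) * h3X)
    rw [map_pow, aeval_X] at h
    right; right; right; right; right; right; right
    simpa using h
  -- a=-1, b=0
  · have h := key 9 1 ((-1) + (-1)*X + (-1)*X^2 + (1)*X^3 + (1)*X^4 + (1)*X^5) (by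
      rw [hp, ha, hb]
      simp only [map_one, map_neg, map_zero]
      linear_combination ((-1)*X^3 + (1)*X^6) * h3X)
    rw [map_pow, aeval_X] at h
    right; right; right; right; right; left
    simpa using h
  -- a=-1, b=1
  · have h := key 5 (-1) ((1) + (1)*X) (by
      rw [hp, ha, hb]
      simp only [map_one, map_neg, map_zero]
      linear_combination (0) * h3X)
    rw [map_pow, aeval_X] at h
    right; right; left
    simpa using h
  -- a=-1, b=-1
  · have h := key 12 1 ((-1) + (-1)*X + (1)*X^2 + (-1)*X^3 + (1)*X^5 + (-1)*X^6 + (1)*X^7 + (1)*X^8) (by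
      rw [hp, ha, hb]
      simp only [map_one, map_neg, map_zero]
      linear_combination ((-1)*X^2 + (1)*X^10) * h3X)
    rw [map_pow, aeval_X] at h
    right; right; right; right; right; right; right
    simpa using h
end Main

section PSp
variable {F : Type*} [Field F]

theorem mem_S_of_dvd {m : ℕ} (h : m ∣ 4 ∨ m ∣ 5 ∨ m ∣ 6 ∨ m ∣ 9 ∨ m ∣ 12) :
    m ∈ ({1,2,3,4,5,6,9,12} : Set ℕ) := by
  simp only [Set.mem_insert_iff, Set.mem_singleton_iff]
  rcases h with h | h | h | h | h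
  · have hle := Nat.le_of_dvd (by norm_num) h
    interval_cases m <;> first | omega | (exfalso; revert h; decide)
  · have hle := Nat.le_of_dvd (by norm_num) h
    interval_cases m <;> first | omega | (exfalso; revert h; decide)
  · have hle := Nat.le_of_dvd (by norm_num) h
    interval_cases m <;> first | omega | (exfalso; revert h; decide)
  · have hle := Nat.le_of_dvd (by norm_num) h
    interval_cases m <;> first | omega | (exfalso; revert h; decide)
  · have hle := Nat.le_of_dvd (by norm_num) h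
    interval_cases m <;> first | omega | (exfalso; revert h; decide)

theorem mk_pow_eq_one_of_pos (s : Matrix.symplecticGroup (Fin 2) F) (N : ℕ)
    (h : (s : Matrix (Fin 2 ⊕ Fin 2) (Fin 2 ⊕ Fin 2) F)^N = 1) :
    (QuotientGroup.mk s : Cfsg.PSp 2 F)^N = 1 := by
  rw [← QuotientGroup.mk_pow]
  have : s^N = 1 := Subtype.ext (by rw [SubmonoidClass.coe_pow, h]; rfl)
  rw [this]; rfl

theorem mk_pow_eq_one_of_neg (s : Matrix.symplecticGroup (Fin 2) F) (N : ℕ)
    (h : (s : Matrix (Fin 2 ⊕ Fin 2) (Fin 2 ⊕ Fin 2) F)^N = -1) :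
    (QuotientGroup.mk s : Cfsg.PSp 2 F)^N = 1 := by
  rw [← QuotientGroup.mk_pow, QuotientGroup.eq_one_iff, Subgroup.mem_center_iff]
  intro g
  apply Subtype.ext
  rw [Submonoid.coe_mul, Submonoid.coe_mul, SubmonoidClass.coe_pow, h, mul_neg, neg_mul, mul_one,
    one_mul]

theorem psp_pow (hF3 : ∀ a : F, a = 0 ∨ a = 1 ∨ a = -1) (h3 : (3:F) = 0) (g : Cfsg.PSp 2 F) :
    g^4 = 1 ∨ g^5 = 1 ∨ g^6 = 1 ∨ g^9 = 1 ∨ g^12 = 1 := by
  obtain ⟨s, rfl⟩ := QuotientGroup.mk_surjective g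
  rcases sp_pow hF3 h3 s.1 s.2 with h | h | h | h | h | h | h | h
  · exact Or.inl (mk_pow_eq_one_of_neg s 4 h)
  · exact Or.inr (Or.inl (mk_pow_eq_one_of_pos s 5 h))
  · exact Or.inr (Or.inl (mk_pow_eq_one_of_neg s 5 h))
  · exact Or.inr (Or.inr (Or.inl (mk_pow_eq_one_of_pos s 6 h)))
  · exact Or.inr (Or.inr (Or.inl (mk_pow_eq_one_of_neg s 6 h)))
  · exact Or.inr (Or.inr (Or.inr (Or.inl (mk_pow_eq_one_of_pos s 9 h))))
  · exact Or.inr (Or.inr (Or.inr (Or.inl (mk_pow_eq_one_of_neg s 9 h))))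
  · exact Or.inr (Or.inr (Or.inr (Or.inr (mk_pow_eq_one_of_pos s 12 h))))

abbrev M3 := Matrix (Fin 2 ⊕ Fin 2) (Fin 2 ⊕ Fin 2) (ZMod 3)

def W5 : M3 := Matrix.fromBlocks !![-1,0;0,0] !![-1,-1;0,-1] !![1,0;-1,1] !![0,0;0,0]
def W9 : M3 := Matrix.fromBlocks !![0,0;1,1] !![-1,1;0,0] !![0,-1;0,0] !![0,0;1,0]
def W12 : M3 := Matrix.fromBlocks !![0,0;0,0] !![-1,0;0,-1] !![1,0;0,1] !![0,0;0,-1]

theorem W5_mem : W5 * J (Fin 2) (ZMod 3) * W5ᵀ = J (Fin 2) (ZMod 3) := by decide +kernel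
theorem W9_mem : W9 * J (Fin 2) (ZMod 3) * W9ᵀ = J (Fin 2) (ZMod 3) := by decide +kernel
theorem W12_mem : W12 * J (Fin 2) (ZMod 3) * W12ᵀ = J (Fin 2) (ZMod 3) := by decide +kernel

theorem W5_pow : W5 ^ 5 = 1 ∨ W5 ^ 5 = -1 := by decide +kernel
theorem W9_pow : W9 ^ 9 = 1 ∨ W9 ^ 9 = -1 := by decide +kernel
theorem W12_pow : W12 ^ 12 = 1 ∨ W12 ^ 12 = -1 := by decide +kernel

theorem W5_ne : (W5 ^ 1) (Sum.inl 0) (Sum.inr 0) ≠ 0 := by decide +kernel
theorem W9_ne : (W9 ^ 3) (Sum.inl 1) (Sum.inl 0) ≠ 0 := by decide +kernel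
theorem W12_ne6 : (W12 ^ 6) (Sum.inl 0) (Sum.inl 0) ≠ (W12 ^ 6) (Sum.inl 1) (Sum.inl 1) := by
  decide +kernel
theorem W12_ne4 : (W12 ^ 4) (Sum.inl 1) (Sum.inr 1) ≠ 0 := by decide +kernel

section Wit
variable [CharP F 3]

/-- the symplectic matrix over `F` attached to a symplectic matrix over `ZMod 3` -/
def liftSp (W0 : M3) (h : W0 * J (Fin 2) (ZMod 3) * W0ᵀ = J (Fin 2) (ZMod 3)) :
    Matrix.symplecticGroup (Fin 2) F :=
  ⟨W0.map (ZMod.castHom (dvd_refl 3) F),
    SymplecticGroup.map_mem (SymplecticGroup.mem_iff.mpr h) (ZMod.castHom (dvd_refl 3) F)⟩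

theorem liftSp_pow_val (W0 : M3) (h : W0 * J (Fin 2) (ZMod 3) * W0ᵀ = J (Fin 2) (ZMod 3)) (k : ℕ) :
    ((liftSp (F := F) W0 h ^ k : Matrix.symplecticGroup (Fin 2) F) :
      Matrix (Fin 2 ⊕ Fin 2) (Fin 2 ⊕ Fin 2) F) = (W0 ^ k).map (ZMod.castHom (dvd_refl 3) F) := by
  rw [SubmonoidClass.coe_pow]
  show (W0.map (ZMod.castHom (dvd_refl 3) F)) ^ k = _
  have := map_pow (ZMod.castHom (dvd_refl 3) F).mapMatrix W0 k
  simpa [RingHom.mapMatrix_apply] using this.symm

theorem lift_pow_eq_one (W0 : M3) (h : W0 * J (Fin 2) (ZMod 3) * W0ᵀ = J (Fin 2) (ZMod 3)) (N : ℕ)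
    (hp : W0 ^ N = 1 ∨ W0 ^ N = -1) :
    (QuotientGroup.mk (liftSp (F := F) W0 h) : Cfsg.PSp 2 F) ^ N = 1 := by
  have hv := liftSp_pow_val (F := F) W0 h N
  rw [SubmonoidClass.coe_pow] at hv
  rcases hp with hp | hp
  · apply mk_pow_eq_one_of_pos
    rw [hv, hp]
    have := map_one ((ZMod.castHom (dvd_refl 3) F).mapMatrix (m := Fin 2 ⊕ Fin 2))
    simpa [RingHom.mapMatrix_apply] using this
  · apply mk_pow_eq_one_of_neg
    rw [hv, hp]
    have := map_neg (ZMod.castHom (dvd_refl 3) F).mapMatrix (1 : M3)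
    rw [map_one] at this
    simpa [RingHom.mapMatrix_apply] using this

theorem lift_pow_ne_one_off (W0 : M3) (h : W0 * J (Fin 2) (ZMod 3) * W0ᵀ = J (Fin 2) (ZMod 3)) (k : ℕ)
    (i j : Fin 2 ⊕ Fin 2) (hij : i ≠ j) (hne : (W0 ^ k) i j ≠ 0) :
    (QuotientGroup.mk (liftSp (F := F) W0 h) : Cfsg.PSp 2 F) ^ k ≠ 1 := by
  intro h1
  rw [← QuotientGroup.mk_pow, QuotientGroup.eq_one_iff] at h1
  obtain ⟨c, -, hc⟩ := Cfsg.Agent.S0246.center_scalar (le_refl 1 |>.trans (by norm_num)) _ h1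
  rw [liftSp_pow_val] at hc
  have := congrFun (congrFun hc i) j
  rw [Matrix.map_apply, Matrix.smul_apply, Matrix.one_apply_ne hij, smul_zero] at this
  exact hne ((map_eq_zero _).mp this)

theorem lift_pow_ne_one_diag (W0 : M3) (h : W0 * J (Fin 2) (ZMod 3) * W0ᵀ = J (Fin 2) (ZMod 3)) (k : ℕ)
    (i j : Fin 2 ⊕ Fin 2) (hne : (W0 ^ k) i i ≠ (W0 ^ k) j j) :
    (QuotientGroup.mk (liftSp (F := F) W0 h) : Cfsg.PSp 2 F) ^ k ≠ 1 := by
  intro h1
  rw [← QuotientGroup.mk_pow, QuotientGroup.eq_one_iff] at h1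
  obtain ⟨c, -, hc⟩ := Cfsg.Agent.S0246.center_scalar (le_refl 1 |>.trans (by norm_num)) _ h1
  rw [liftSp_pow_val] at hc
  have h1 := congrFun (congrFun hc i) i
  have h2 := congrFun (congrFun hc j) j
  rw [Matrix.map_apply, Matrix.smul_apply, Matrix.one_apply_eq] at h1 h2
  exact hne ((ZMod.castHom (dvd_refl 3) F).injective (h1.trans h2.symm))

theorem exists_order5 : ∃ g : Cfsg.PSp 2 F, orderOf g = 5 := by
  refine ⟨QuotientGroup.mk (liftSp W5 W5_mem), ?_⟩
  apply orderOf_eq_of_pow_and_pow_div_prime (by norm_num) (lift_pow_eq_one W5 W5_mem 5 W5_pow)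
  intro q hq hq5
  have : q = 5 := (Nat.prime_dvd_prime_iff_eq hq (by norm_num)).mp hq5
  subst this
  exact lift_pow_ne_one_off W5 W5_mem 1 _ _ (by decide) W5_ne

theorem exists_order9 : ∃ g : Cfsg.PSp 2 F, orderOf g = 9 := by
  refine ⟨QuotientGroup.mk (liftSp W9 W9_mem), ?_⟩
  apply orderOf_eq_of_pow_and_pow_div_prime (by norm_num) (lift_pow_eq_one W9 W9_mem 9 W9_pow)
  intro q hq hq9
  have : q = 3 := by
    have h9 : (9 : ℕ) = 3 ^ 2 := by norm_num
    rw [h9] at hq9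
    exact (Nat.prime_dvd_prime_iff_eq hq Nat.prime_three).mp (hq.dvd_of_dvd_pow hq9)
  subst this
  exact lift_pow_ne_one_off W9 W9_mem 3 _ _ (by decide) W9_ne

theorem exists_order12 : ∃ g : Cfsg.PSp 2 F, orderOf g = 12 := by
  refine ⟨QuotientGroup.mk (liftSp W12 W12_mem), ?_⟩
  apply orderOf_eq_of_pow_and_pow_div_prime (by norm_num) (lift_pow_eq_one W12 W12_mem 12 W12_pow)
  intro q hq hq12
  have : q = 2 ∨ q = 3 := by
    have h12 : (12 : ℕ) = 2 ^ 2 * 3 := by norm_num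
    rw [h12] at hq12
    rcases (Nat.Prime.dvd_mul hq).mp hq12 with h | h
    · exact Or.inl ((Nat.prime_dvd_prime_iff_eq hq Nat.prime_two).mp (hq.dvd_of_dvd_pow h))
    · exact Or.inr ((Nat.prime_dvd_prime_iff_eq hq Nat.prime_three).mp h)
  rcases this with rfl | rfl
  · exact lift_pow_ne_one_diag W12 W12_mem 6 _ _ W12_ne6
  · exact lift_pow_ne_one_off W12 W12_mem 4 _ _ (by decide) W12_ne4

end Wit

end PSp

section Spec

theorem spec_eq_S {G : Type*} [Group G]
    (hpow : ∀ g : G, g^4 = 1 ∨ g^5 = 1 ∨ g^6 = 1 ∨ g^9 = 1 ∨ g^12 = 1)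
    (h5 : ∃ g : G, orderOf g = 5) (h9 : ∃ g : G, orderOf g = 9) (h12 : ∃ g : G, orderOf g = 12) :
    Set.range (orderOf : G → ℕ) = {1,2,3,4,5,6,9,12} := by
  ext m
  constructor
  · rintro ⟨g, rfl⟩
    apply mem_S_of_dvd
    rcases hpow g with h | h | h | h | h
    · exact Or.inl (orderOf_dvd_of_pow_eq_one h)
    · exact Or.inr (Or.inl (orderOf_dvd_of_pow_eq_one h))
    · exact Or.inr (Or.inr (Or.inl (orderOf_dvd_of_pow_eq_one h)))
    · exact Or.inr (Or.inr (Or.inr (Or.inl (orderOf_dvd_of_pow_eq_one h))))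
    · exact Or.inr (Or.inr (Or.inr (Or.inr (orderOf_dvd_of_pow_eq_one h))))
  · intro hm
    obtain ⟨g, hg⟩ := h12
    have key : ∀ n : ℕ, n ≠ 0 → n ∣ 12 → orderOf (g ^ n) = 12 / n := by
      intro n hn hd
      rw [orderOf_pow_of_dvd hn (by rw [hg]; exact hd), hg]
    simp only [Set.mem_insert_iff, Set.mem_singleton_iff] at hm
    rcases hm with rfl | rfl | rfl | rfl | rfl | rfl | rfl | rfl
    · exact ⟨1, orderOf_one⟩
    · exact ⟨g ^ 6, by rw [key 6 (by norm_num) (by norm_num)]⟩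
    · exact ⟨g ^ 4, by rw [key 4 (by norm_num) (by norm_num)]⟩
    · exact ⟨g ^ 3, by rw [key 3 (by norm_num) (by norm_num)]⟩
    · exact h5
    · exact ⟨g ^ 2, by rw [key 2 (by norm_num) (by norm_num)]⟩
    · exact h9
    · exact ⟨g, hg⟩

theorem charP_three {F : Type*} [Field F] [Fintype F] (hF : Fintype.card F = 3) : CharP F 3 := by
  have h : ((Fintype.card F : ℕ) : F) = 0 := Nat.cast_card_eq_zero F
  rw [hF] at h
  exact (CharP.charP_iff_prime_eq_zero Nat.prime_three).mpr (by exact_mod_cast h)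

theorem elts_three {F : Type*} [Field F] [Fintype F] (hF : Fintype.card F = 3) (a : F) :
    a = 0 ∨ a = 1 ∨ a = -1 := by
  have h := FiniteField.pow_card a
  rw [hF] at h
  have : a * (a - 1) * (a + 1) = 0 := by linear_combination h
  rcases mul_eq_zero.mp this with h | h
  · rcases mul_eq_zero.mp h with h | h
    · left; exact h
    · right; left; linear_combination h
  · right; right; linear_combination h

theorem spec_PSp43 {F : Type*} [Field F] [Fintype F] (hF : Fintype.card F = 3) :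
    Set.range (orderOf : Cfsg.PSp 2 F → ℕ) = {1,2,3,4,5,6,9,12} := by
  haveI := charP_three hF
  have h3 : (3 : F) = 0 := by
    have := CharP.cast_eq_zero F 3
    exact_mod_cast this
  exact spec_eq_S (psp_pow (elts_three hF) h3) exists_order5 exists_order9 exists_order12

end Spec
end Cfsg.Agent.helper25.Iso
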