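import Mathlib

set_option autoImplicit false
set_option linter.style.haveILetI false
set_option linter.unusedSectionVars false
set_option linter.unnecessarySeqFocus false

open Polynomial

namespace Cfsg.Agent.helper25.L3

section
variable {F : Type*} [Field F] [Fintype F]

theorem finite_adjoinRoot (f : F[X]) (hf0 : f ≠ 0) : Finite (AdjoinRoot f) := by
  haveI : Module.Finite F (AdjoinRoot f) := (AdjoinRoot.powerBasis hf0).finite
  exact Module.finite_of_finite F

theorem natCard_adjoinRoot (f : F[X]) (hf0 : f ≠ 0) :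
    Nat.card (AdjoinRoot f) = Fintype.card F ^ f.natDegree := by
  haveI : Module.Finite F (AdjoinRoot f) := (AdjoinRoot.powerBasis hf0).finite
  rw [Module.natCard_eq_pow_finrank (K := F), (AdjoinRoot.powerBasis hf0).finrank,
    AdjoinRoot.powerBasis_dim, Nat.card_eq_fintype_card]

/-- the root of a monic irreducible `f`, raised to the power `(q^m - 1)/(q - 1)`, is `(-1)^m f(0)` -/
theorem root_pow_norm (f : F[X]) (hf : Irreducible f) (hm : f.Monic) :
    (AdjoinRoot.root f) ^ ((Fintype.card F ^ f.natDegree - 1) / (Fintype.card F - 1)) =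
      algebraMap F (AdjoinRoot f) ((-1) ^ f.natDegree * f.coeff 0) := by
  haveI := Fact.mk hf
  haveI := finite_adjoinRoot f hf.ne_zero
  have h1 := Algebra.PowerBasis.norm_gen_eq_coeff_zero_minpoly (AdjoinRoot.powerBasis hf.ne_zero)
  rw [AdjoinRoot.powerBasis_gen, AdjoinRoot.powerBasis_dim, AdjoinRoot.minpoly_root hf.ne_zero,
    hm.leadingCoeff, inv_one, C_1, mul_one] at h1
  rw [← h1, FiniteField.algebraMap_norm_eq_pow, natCard_adjoinRoot f hf.ne_zero,
    Nat.card_eq_fintype_card]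

end

end Cfsg.Agent.helper25.L3

namespace Cfsg.Agent.helper25.L3

section
variable {F : Type*} [Field F] [Fintype F]

theorem two_le_card : 2 ≤ Fintype.card F := Fintype.one_lt_card

theorem gcd_cases : Nat.gcd 3 (Fintype.card F - 1) = 1 ∨
    (Nat.gcd 3 (Fintype.card F - 1) = 3 ∧ 3 ∣ Fintype.card F - 1) := by
  rcases (Nat.dvd_prime Nat.prime_three).1 (Nat.gcd_dvd_left 3 (Fintype.card F - 1)) with h | h
  · exact Or.inl h
  · exact Or.inr ⟨h, h ▸ Nat.gcd_dvd_right 3 (Fintype.card F - 1)⟩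

theorem d_dvd_three : Nat.gcd 3 (Fintype.card F - 1) ∣ 3 := Nat.gcd_dvd_left _ _

theorem d_dvd_qm1 : Nat.gcd 3 (Fintype.card F - 1) ∣ Fintype.card F - 1 := Nat.gcd_dvd_right _ _

theorem d_pos : 0 < Nat.gcd 3 (Fintype.card F - 1) := Nat.gcd_pos_of_pos_left _ (by norm_num)

theorem d_dvd_M : Nat.gcd 3 (Fintype.card F - 1) ∣ Fintype.card F ^ 2 + Fintype.card F + 1 := by
  rcases gcd_cases (F := F) with h | ⟨h, h3⟩
  · rw [h]; exact one_dvd _
  · rw [h]
    have hq := two_le_card (F := F)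
    obtain ⟨j, hj⟩ := h3
    have : Fintype.card F = 3 * j + 1 := by omega
    rw [this]
    exact ⟨3 * j * j + 3 * j + 1, by ring⟩

theorem d_dvd_q2m1 : Nat.gcd 3 (Fintype.card F - 1) ∣ Fintype.card F ^ 2 - 1 := by
  have hq := two_le_card (F := F)
  have : Fintype.card F ^ 2 - 1 = (Fintype.card F - 1) * (Fintype.card F + 1) := by
    obtain ⟨j, hj⟩ : ∃ j, Fintype.card F = j + 1 := ⟨Fintype.card F - 1, by omega⟩
    rw [hj]
    simp only [Nat.add_sub_cancel]
    have : (j + 1) ^ 2 = j * (j + 1 + 1) + 1 := by ring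
    rw [this, Nat.add_sub_cancel]
  rw [this]
  exact Dvd.dvd.mul_right d_dvd_qm1 _

theorem q3_div : (Fintype.card F ^ 3 - 1) / (Fintype.card F - 1) =
    Fintype.card F ^ 2 + Fintype.card F + 1 := by
  have hq := two_le_card (F := F)
  obtain ⟨j, hj⟩ : ∃ j, Fintype.card F = j + 1 := ⟨Fintype.card F - 1, by omega⟩
  rw [hj]
  simp only [Nat.add_sub_cancel]
  have : (j + 1) ^ 3 = j * ((j + 1) ^ 2 + (j + 1) + 1) + 1 := by ring
  rw [this, Nat.add_sub_cancel]
  exact Nat.mul_div_cancel_left _ (by omega)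

theorem q2_div : (Fintype.card F ^ 2 - 1) / (Fintype.card F - 1) = Fintype.card F + 1 := by
  have hq := two_le_card (F := F)
  obtain ⟨j, hj⟩ : ∃ j, Fintype.card F = j + 1 := ⟨Fintype.card F - 1, by omega⟩
  rw [hj]
  simp only [Nat.add_sub_cancel]
  have : (j + 1) ^ 2 = j * (j + 1 + 1) + 1 := by ring
  rw [this, Nat.add_sub_cancel]
  exact Nat.mul_div_cancel_left _ (by omega)

theorem q2m1_eq : Fintype.card F ^ 2 - 1 = (Fintype.card F + 1) * (Fintype.card F - 1) := by
  have hq := two_le_card (F := F)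
  obtain ⟨j, hj⟩ : ∃ j, Fintype.card F = j + 1 := ⟨Fintype.card F - 1, by omega⟩
  rw [hj]
  simp only [Nat.add_sub_cancel]
  have : (j + 1) ^ 2 = (j + 1 + 1) * j + 1 := by ring
  rw [this, Nat.add_sub_cancel]

/-- cube roots of unity (more precisely `d`-th roots, `d = gcd(3, q-1)`) of an extension lie in `F` -/
theorem root_of_unity_in_F {K : Type*} [Field K] [Algebra F K] (x : K)
    (hx : x ^ Nat.gcd 3 (Fintype.card F - 1) = 1) :
    ∃ l : F, l ^ 3 = 1 ∧ algebraMap F K l = x := by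
  classical
  rcases gcd_cases (F := F) with h | ⟨h, h3⟩
  · rw [h, pow_one] at hx
    exact ⟨1, one_pow 3, by rw [map_one, hx]⟩
  · rw [h] at hx
    haveI : Fact (Nat.Prime 3) := ⟨Nat.prime_three⟩
    have hcard : 3 ∣ Fintype.card Fˣ := by rw [Fintype.card_units]; exact h3
    obtain ⟨u, hu⟩ := exists_prime_orderOf_dvd_card 3 hcard
    set w : F := (u : F) with hw
    have hw3 : w ^ 3 = 1 := by
      have := pow_orderOf_eq_one u
      rw [hu] at this
      have h2 := congrArg (fun v : Fˣ => (v : F)) this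
      simpa using h2
    have hw1 : w ≠ 1 := by
      intro h1
      have : u = 1 := Units.ext h1
      rw [this, orderOf_one] at hu
      norm_num at hu
    have hw2 : w ^ 2 + w + 1 = 0 := by
      have : (w - 1) * (w ^ 2 + w + 1) = 0 := by ring_nf; rw [hw3]; ring
      rcases mul_eq_zero.1 this with h0 | h0
      · exact absurd (sub_eq_zero.1 h0) hw1
      · exact h0
    set w' : K := algebraMap F K w with hw'
    have hw'2 : w' ^ 2 + w' + 1 = 0 := by
      rw [hw', ← map_pow, ← map_add, ← map_one (algebraMap F K), ← map_add, hw2, map_zero]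
    have hw'3 : w' ^ 3 = 1 := by rw [hw', ← map_pow, hw3, map_one]
    have hfac : (x - 1) * (x - w') * (x - w' ^ 2) = 0 := by
      linear_combination hx - x ^ 2 * hw'2 + x * hw'2 + (x - 1) * hw'3
    rcases mul_eq_zero.1 hfac with h0 | h0
    · rcases mul_eq_zero.1 h0 with h1 | h1
      · exact ⟨1, one_pow 3, by rw [map_one]; exact (sub_eq_zero.1 h1).symm⟩
      · exact ⟨w, hw3, (sub_eq_zero.1 h1).symm⟩
    · refine ⟨w ^ 2, ?_, ?_⟩
      · rw [← pow_mul, mul_comm, pow_mul, hw3, one_pow]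
      · rw [map_pow]; exact (sub_eq_zero.1 h0).symm

end

end Cfsg.Agent.helper25.L3

namespace Cfsg.Agent.helper25.L3

section
variable {F : Type*} [Field F] [Fintype F]

/-- the target set of the statement -/
def Target (F : Type*) [Field F] [Fintype F] (p m : ℕ) : Prop :=
  m ∣ (Fintype.card F ^ 2 + Fintype.card F + 1) / Nat.gcd 3 (Fintype.card F - 1) ∨
    m ∣ (Fintype.card F ^ 2 - 1) / Nat.gcd 3 (Fintype.card F - 1) ∨ m ∣ Fintype.card F - 1 ∨
    m ∣ p * (Fintype.card F - 1) / Nat.gcd 3 (Fintype.card F - 1) ∨ (p = 2 ∧ m ∣ 4)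

theorem Target.mono {p m m' : ℕ} (h : m' ∣ m) (ht : Target F p m) : Target F p m' := by
  rcases ht with h1 | h1 | h1 | h1 | ⟨h0, h1⟩
  · exact Or.inl (h.trans h1)
  · exact Or.inr (Or.inl (h.trans h1))
  · exact Or.inr (Or.inr (Or.inl (h.trans h1)))
  · exact Or.inr (Or.inr (Or.inr (Or.inl (h.trans h1))))
  · exact Or.inr (Or.inr (Or.inr (Or.inr ⟨h0, h.trans h1⟩)))

theorem pow_eq_scalar_of_dvd (g : Matrix (Fin 3) (Fin 3) F) (k : ℕ) (l : F)
    (h : g.charpoly ∣ X ^ k - C l) : g ^ k = Matrix.scalar (Fin 3) l := by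
  obtain ⟨r, hr⟩ := h
  have h0 : aeval g (X ^ k - C l) = 0 := by
    rw [hr, map_mul, Matrix.aeval_self_charpoly, zero_mul]
  rw [map_sub, map_pow, aeval_X, aeval_C, sub_eq_zero] at h0
  rw [h0, Matrix.scalar_apply, ← Matrix.smul_one_eq_diagonal, Algebra.algebraMap_eq_smul_one]

theorem psl_pow_eq_one (g : Matrix.SpecialLinearGroup (Fin 3) F) (k : ℕ) (l : F)
    (h : (g : Matrix (Fin 3) (Fin 3) F) ^ k = Matrix.scalar (Fin 3) l) :
    (QuotientGroup.mk g : Matrix.ProjectiveSpecialLinearGroup (Fin 3) F) ^ k = 1 := by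
  rw [← QuotientGroup.mk_pow, QuotientGroup.eq_one_iff, Matrix.SpecialLinearGroup.mem_center_iff]
  refine ⟨l, ?_, ?_⟩
  · have h1 : ((g ^ k : Matrix.SpecialLinearGroup (Fin 3) F) : Matrix (Fin 3) (Fin 3) F).det = 1 :=
      (g ^ k).det_coe
    rw [Matrix.SpecialLinearGroup.coe_pow, h, Matrix.scalar_apply, Matrix.det_diagonal] at h1
    simpa using h1
  · rw [Matrix.SpecialLinearGroup.coe_pow, h]

theorem charpoly_facts (g : Matrix.SpecialLinearGroup (Fin 3) F) :
    (g : Matrix (Fin 3) (Fin 3) F).charpoly.Monic ∧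
    (g : Matrix (Fin 3) (Fin 3) F).charpoly.natDegree = 3 ∧
    (g : Matrix (Fin 3) (Fin 3) F).charpoly.coeff 0 = -1 := by
  refine ⟨Matrix.charpoly_monic _, by rw [Matrix.charpoly_natDegree_eq_dim]; simp, ?_⟩
  have h := Matrix.det_eq_sign_charpoly_coeff (g : Matrix (Fin 3) (Fin 3) F)
  rw [g.det_coe, Fintype.card_fin] at h
  have : (-1 : F) ^ 3 = -1 := by norm_num
  rw [this] at h
  linear_combination h

/-- Case A: irreducible characteristic polynomial -/
theorem caseA (χ : F[X]) (hm : χ.Monic) (hd : χ.natDegree = 3) (h0 : χ.coeff 0 = -1)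
    (hirr : Irreducible χ) :
    ∃ l : F, χ ∣ X ^ ((Fintype.card F ^ 2 + Fintype.card F + 1) / Nat.gcd 3 (Fintype.card F - 1)) - C l := by
  haveI := Fact.mk hirr
  have h1 := root_pow_norm χ hirr hm
  rw [hd, q3_div, h0] at h1
  have h2 : (AdjoinRoot.root χ) ^ (Fintype.card F ^ 2 + Fintype.card F + 1) = 1 := by
    rw [h1]; norm_num
  obtain ⟨e, he⟩ := d_dvd_M (F := F)
  have hdiv : (Fintype.card F ^ 2 + Fintype.card F + 1) / Nat.gcd 3 (Fintype.card F - 1) = e := by
    rw [he]; exact Nat.mul_div_cancel_left _ d_pos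
  rw [hdiv]
  have h3 : ((AdjoinRoot.root χ) ^ e) ^ Nat.gcd 3 (Fintype.card F - 1) = 1 := by
    rw [← pow_mul, mul_comm, ← he, h2]
  obtain ⟨l, _, hl⟩ := root_of_unity_in_F (F := F) _ h3
  refine ⟨l, ?_⟩
  rw [← AdjoinRoot.mk_eq_zero, map_sub, map_pow, AdjoinRoot.mk_X, AdjoinRoot.mk_C, sub_eq_zero]
  exact hl.symm

end

end Cfsg.Agent.helper25.L3

namespace Cfsg.Agent.helper25.L3

section
variable {F : Type*} [Field F] [Fintype F]

theorem X_sub_C_dvd_of_pow_eq (a l : F) (k : ℕ) (h : a ^ k = l) : X - C a ∣ X ^ k - C l := by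
  rw [dvd_iff_isRoot]
  simp [h]

/-- Case B1: a linear factor times an irreducible quadratic -/
theorem caseB1 (χ ψ : F[X]) (a : F) (hχ : χ = (X - C a) * ψ) (hm : ψ.Monic) (hd : ψ.natDegree = 2)
    (ha : a * ψ.coeff 0 = 1) (hirr : Irreducible ψ) :
    ∃ l : F, χ ∣ X ^ ((Fintype.card F ^ 2 - 1) / Nat.gcd 3 (Fintype.card F - 1)) - C l := by
  haveI := Fact.mk hirr
  have hψ0 : ψ.coeff 0 ≠ 0 := right_ne_zero_of_mul_eq_one ha
  have h1 := root_pow_norm ψ hirr hm
  rw [hd, q2_div] at h1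
  have h1' : (AdjoinRoot.root ψ) ^ (Fintype.card F + 1) =
      algebraMap F (AdjoinRoot ψ) (ψ.coeff 0) := by
    rw [h1]; norm_num
  have h2 : (AdjoinRoot.root ψ) ^ (Fintype.card F ^ 2 - 1) = 1 := by
    rw [q2m1_eq, pow_mul, h1', ← map_pow, FiniteField.pow_card_sub_one_eq_one _ hψ0, map_one]
  obtain ⟨e, he⟩ := d_dvd_q2m1 (F := F)
  have hdiv : (Fintype.card F ^ 2 - 1) / Nat.gcd 3 (Fintype.card F - 1) = e := by
    rw [he]; exact Nat.mul_div_cancel_left _ d_pos
  rw [hdiv]
  have h3 : ((AdjoinRoot.root ψ) ^ e) ^ Nat.gcd 3 (Fintype.card F - 1) = 1 := by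
    rw [← pow_mul, mul_comm, ← he, h2]
  obtain ⟨l, hl3, hl⟩ := root_of_unity_in_F (F := F) _ h3
  refine ⟨l, ?_⟩
  have hψdvd : ψ ∣ X ^ e - C l := by
    rw [← AdjoinRoot.mk_eq_zero, map_sub, map_pow, AdjoinRoot.mk_X, AdjoinRoot.mk_C, sub_eq_zero]
    exact hl.symm
  have hψ0e : ψ.coeff 0 ^ e = l * l := by
    have hinj : Function.Injective (algebraMap F (AdjoinRoot ψ)) := (algebraMap F (AdjoinRoot ψ)).injective
    apply hinj
    rw [map_pow, ← h1', ← pow_mul, mul_comm, pow_mul, ← hl, ← map_pow, pow_succ, FiniteField.pow_card]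
  have hae : a ^ e = l := by
    have ha' : a = (ψ.coeff 0)⁻¹ := eq_inv_of_mul_eq_one_left ha
    rw [ha', inv_pow, hψ0e]
    apply inv_eq_of_mul_eq_one_left
    rw [← hl3]; ring
  have hlin : X - C a ∣ X ^ e - C l := X_sub_C_dvd_of_pow_eq a l e hae
  have hcop : IsCoprime (X - C a) ψ := by
    apply IsCoprime.symm
    rw [hirr.coprime_iff_not_dvd]
    intro hdvd
    have := natDegree_le_of_dvd hdvd (X_sub_C_ne_zero a)
    rw [hd, natDegree_X_sub_C] at this
    omega
  rw [hχ]
  exact hcop.mul_dvd hlin hψdvd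

theorem caseDistinct (χ : F[X]) (a b c : F) (hχ : χ = (X - C a) * ((X - C b) * (X - C c)))
    (habc : a * (b * c) = 1) (hab : a ≠ b) (hbc : b ≠ c) (hac : a ≠ c) :
    χ ∣ X ^ (Fintype.card F - 1) - C 1 := by
  have ha0 : a ≠ 0 := left_ne_zero_of_mul_eq_one habc
  have hbc0 : b * c ≠ 0 := right_ne_zero_of_mul_eq_one habc
  have hb0 : b ≠ 0 := left_ne_zero_of_mul hbc0
  have hc0 : c ≠ 0 := right_ne_zero_of_mul hbc0
  have h1 := X_sub_C_dvd_of_pow_eq a 1 _ (FiniteField.pow_card_sub_one_eq_one a ha0)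
  have h2 := X_sub_C_dvd_of_pow_eq b 1 _ (FiniteField.pow_card_sub_one_eq_one b hb0)
  have h3 := X_sub_C_dvd_of_pow_eq c 1 _ (FiniteField.pow_card_sub_one_eq_one c hc0)
  have c12 : IsCoprime (X - C a) (X - C b) :=
    isCoprime_X_sub_C_of_isUnit_sub (sub_ne_zero.2 hab).isUnit
  have c13 : IsCoprime (X - C a) (X - C c) :=
    isCoprime_X_sub_C_of_isUnit_sub (sub_ne_zero.2 hac).isUnit
  have c23 : IsCoprime (X - C b) (X - C c) :=
    isCoprime_X_sub_C_of_isUnit_sub (sub_ne_zero.2 hbc).isUnit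
  rw [hχ]
  exact (c12.mul_right c13).mul_dvd h1 (c23.mul_dvd h2 h3)

theorem caseDouble (p : ℕ) [Fact p.Prime] [CharP F p] (χ : F[X]) (a c : F)
    (hχ : χ = (X - C a) ^ 2 * (X - C c)) (hac : a * a * c = 1) (hne : a ≠ c) :
    ∃ l : F, χ ∣ X ^ (p * (Fintype.card F - 1) / Nat.gcd 3 (Fintype.card F - 1)) - C l := by
  have hp2 : 2 ≤ p := (Fact.out : p.Prime).two_le
  have haa0 : a * a ≠ 0 := left_ne_zero_of_mul_eq_one hac
  have ha0 : a ≠ 0 := left_ne_zero_of_mul haa0
  set k0 := (Fintype.card F - 1) / Nat.gcd 3 (Fintype.card F - 1) with hk0def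
  have hk0 : Fintype.card F - 1 = Nat.gcd 3 (Fintype.card F - 1) * k0 :=
    (Nat.mul_div_cancel' (d_dvd_qm1 (F := F))).symm
  have hdiv : p * (Fintype.card F - 1) / Nat.gcd 3 (Fintype.card F - 1) = p * k0 :=
    Nat.mul_div_assoc p (d_dvd_qm1 (F := F))
  rw [hdiv]
  set z := a ^ k0 with hz
  have hzd : z ^ Nat.gcd 3 (Fintype.card F - 1) = 1 := by
    rw [hz, ← pow_mul, mul_comm, ← hk0, FiniteField.pow_card_sub_one_eq_one a ha0]
  have hz3 : z ^ 3 = 1 := by
    obtain ⟨j, hj⟩ := d_dvd_three (F := F)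
    rw [hj, pow_mul, hzd, one_pow]
  have hck0 : c ^ k0 = z := by
    have hc' : c = (a * a)⁻¹ := eq_inv_of_mul_eq_one_right hac
    rw [hc', inv_pow, mul_pow, ← hz]
    apply inv_eq_of_mul_eq_one_left
    rw [← hz3]; ring
  refine ⟨z ^ p, ?_⟩
  have hexp : (X : F[X]) ^ (p * k0) - C (z ^ p) = (X ^ k0 - C z) ^ p := by
    rw [sub_pow_char]
    congr 1
    · rw [mul_comm, pow_mul]
    · rw [C_pow]
  have h1 : X - C a ∣ X ^ k0 - C z := X_sub_C_dvd_of_pow_eq a z k0 hz.symm
  have h2 : (X - C a) ^ 2 ∣ X ^ (p * k0) - C (z ^ p) := by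
    rw [hexp]
    exact (pow_dvd_pow _ hp2).trans (pow_dvd_pow_of_dvd h1 p)
  have h3 : X - C c ∣ X ^ (p * k0) - C (z ^ p) := by
    apply X_sub_C_dvd_of_pow_eq
    rw [mul_comm, pow_mul, hck0]
  have hcop : IsCoprime ((X - C a) ^ 2) (X - C c) :=
    (isCoprime_X_sub_C_of_isUnit_sub (sub_ne_zero.2 hne).isUnit).pow_left
  rw [hχ]
  exact hcop.mul_dvd h2 h3

theorem caseTriple (p : ℕ) [Fact p.Prime] [CharP F p] (χ : F[X]) (a : F)
    (hχ : χ = (X - C a) ^ 3) :
    (∃ l : F, χ ∣ X ^ p - C l) ∨ (p = 2 ∧ ∃ l : F, χ ∣ X ^ 4 - C l) := by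
  by_cases hp : p = 2
  · right
    refine ⟨hp, a ^ 4, ?_⟩
    subst hp
    have : (X : F[X]) ^ 4 - C (a ^ 4) = (X - C a) ^ 4 := by
      have h := sub_pow_char_pow (R := F[X]) (p := 2) (n := 2) X (C a)
      norm_num at h
      rw [h, C_pow]
    rw [this, hχ]
    exact pow_dvd_pow _ (by norm_num)
  · left
    have hp3 : 3 ≤ p := by
      have := (Fact.out : p.Prime).two_le
      omega
    refine ⟨a ^ p, ?_⟩
    have : (X : F[X]) ^ p - C (a ^ p) = (X - C a) ^ p := by
      rw [sub_pow_char, C_pow]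
    rw [this, hχ]
    exact pow_dvd_pow _ hp3

end

end Cfsg.Agent.helper25.L3

namespace Cfsg.Agent.helper25.L3

section
variable {F : Type*} [Field F] [Fintype F]

theorem target_of_dvd (p : ℕ) (g : Matrix.SpecialLinearGroup (Fin 3) F) (k : ℕ) (l : F)
    (h : (g : Matrix (Fin 3) (Fin 3) F).charpoly ∣ X ^ k - C l) (ht : Target F p k) :
    Target F p (orderOf (QuotientGroup.mk g : Matrix.ProjectiveSpecialLinearGroup (Fin 3) F)) :=
  Target.mono (orderOf_dvd_of_pow_eq_one (psl_pow_eq_one g k l (pow_eq_scalar_of_dvd _ k l h))) ht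

theorem targ1 (p : ℕ) : Target F p ((Fintype.card F ^ 2 + Fintype.card F + 1) / Nat.gcd 3 (Fintype.card F - 1)) :=
  Or.inl dvd_rfl
theorem targ2 (p : ℕ) : Target F p ((Fintype.card F ^ 2 - 1) / Nat.gcd 3 (Fintype.card F - 1)) :=
  Or.inr (Or.inl dvd_rfl)
theorem targ3 (p : ℕ) : Target F p (Fintype.card F - 1) :=
  Or.inr (Or.inr (Or.inl dvd_rfl))
theorem targ4 (p : ℕ) : Target F p (p * (Fintype.card F - 1) / Nat.gcd 3 (Fintype.card F - 1)) :=
  Or.inr (Or.inr (Or.inr (Or.inl dvd_rfl)))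
theorem targ4' (p : ℕ) : Target F p p := by
  refine Or.inr (Or.inr (Or.inr (Or.inl ?_)))
  rw [Nat.mul_div_assoc p (d_dvd_qm1 (F := F))]
  exact dvd_mul_right _ _
theorem targ5 : Target F 2 4 :=
  Or.inr (Or.inr (Or.inr (Or.inr ⟨rfl, dvd_rfl⟩)))

theorem spec_subset (p : ℕ) [Fact p.Prime] [CharP F p]
    (x : Matrix.ProjectiveSpecialLinearGroup (Fin 3) F) : Target F p (orderOf x) := by
  obtain ⟨g, rfl⟩ := QuotientGroup.mk_surjective x
  obtain ⟨hm, hd, h0⟩ := charpoly_facts g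
  set χ := (g : Matrix (Fin 3) (Fin 3) F).charpoly with hχdef
  by_cases hr : ∃ a, χ.IsRoot a
  · obtain ⟨a, ha⟩ := hr
    obtain ⟨ψ, hψ⟩ := dvd_iff_isRoot.2 ha
    have hψ0 : ψ ≠ 0 := by
      rintro rfl
      rw [mul_zero] at hψ
      exact hm.ne_zero hψ
    have hmψ : ψ.Monic := by
      have : ((X - C a) * ψ).Monic := hψ ▸ hm
      exact (monic_X_sub_C a).of_mul_monic_left this
    have hdψ : ψ.natDegree = 2 := by
      have := natDegree_mul (X_sub_C_ne_zero a) hψ0
      rw [← hψ, hd, natDegree_X_sub_C] at this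
      omega
    have hc0 : a * ψ.coeff 0 = 1 := by
      have := congrArg (fun f : F[X] => f.coeff 0) hψ
      simp only [mul_coeff_zero, coeff_sub, coeff_X_zero, coeff_C_zero, zero_sub] at this
      rw [h0] at this
      linear_combination this
    by_cases hr2 : ∃ b, ψ.IsRoot b
    · obtain ⟨b, hb⟩ := hr2
      obtain ⟨φ, hφ⟩ := dvd_iff_isRoot.2 hb
      have hφ0 : φ ≠ 0 := by
        rintro rfl
        rw [mul_zero] at hφ
        exact hψ0 hφ
      have hmφ : φ.Monic := by
        have : ((X - C b) * φ).Monic := hφ ▸ hmψ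
        exact (monic_X_sub_C b).of_mul_monic_left this
      have hdφ : φ.natDegree = 1 := by
        have := natDegree_mul (X_sub_C_ne_zero b) hφ0
        rw [← hφ, hdψ, natDegree_X_sub_C] at this
        omega
      have hφeq : φ = X - C (-φ.coeff 0) := by
        rw [C_neg, sub_neg_eq_add]
        exact hmφ.eq_X_add_C hdφ
      set c := -φ.coeff 0 with hc
      have hχ3 : χ = (X - C a) * ((X - C b) * (X - C c)) := by rw [hψ, hφ, hφeq]
      have habc : a * (b * c) = 1 := by
        have : ψ.coeff 0 = b * c := by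
          rw [hφ, hφeq]
          simp [mul_coeff_zero]
        rw [← this]; exact hc0
      by_cases hab : a = b
      · by_cases hbc : b = c
        · -- triple
          have hχt : χ = (X - C a) ^ 3 := by rw [hχ3, ← hbc, ← hab]; ring
          rcases caseTriple p χ a hχt with ⟨l, hl⟩ | ⟨hp, l, hl⟩
          · exact target_of_dvd p g p l hl (targ4' p)
          · subst hp
            exact target_of_dvd 2 g 4 l hl targ5
        · -- a = b ≠ c
          have hχt : χ = (X - C a) ^ 2 * (X - C c) := by rw [hχ3, ← hab]; ring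
          obtain ⟨l, hl⟩ := caseDouble p χ a c hχt (by rw [← habc, ← hab]; ring) (hab ▸ hbc)
          exact target_of_dvd p g _ l hl (targ4 p)
      · by_cases hbc : b = c
        · have hχt : χ = (X - C b) ^ 2 * (X - C a) := by rw [hχ3, ← hbc]; ring
          obtain ⟨l, hl⟩ := caseDouble p χ b a hχt (by rw [← habc, ← hbc]; ring) (Ne.symm hab)
          exact target_of_dvd p g _ l hl (targ4 p)
        · by_cases hac : a = c
          · have hχt : χ = (X - C a) ^ 2 * (X - C b) := by rw [hχ3, ← hac]; ring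
            obtain ⟨l, hl⟩ := caseDouble p χ a b hχt (by rw [← habc, ← hac]; ring) hab
            exact target_of_dvd p g _ l hl (targ4 p)
          · have := caseDistinct χ a b c hχ3 habc hab hbc hac
            exact target_of_dvd p g _ 1 this (targ3 p)
    · -- ψ irreducible
      have hirr : Irreducible ψ := by
        rw [hmψ.irreducible_iff_roots_eq_zero_of_degree_le_three (by omega) (by omega)]
        apply Multiset.eq_zero_of_forall_notMem
        intro b hb
        exact hr2 ⟨b, (mem_roots hψ0).1 hb⟩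
      obtain ⟨l, hl⟩ := caseB1 χ ψ a hψ hmψ hdψ hc0 hirr
      exact target_of_dvd p g _ l hl (targ2 p)
  · have hirr : Irreducible χ := by
      rw [hm.irreducible_iff_roots_eq_zero_of_degree_le_three (by omega) (by omega)]
      apply Multiset.eq_zero_of_forall_notMem
      intro b hb
      exact hr ⟨b, (mem_roots hm.ne_zero).1 hb⟩
    obtain ⟨l, hl⟩ := caseA χ hm hd h0 hirr
    exact target_of_dvd p g _ l hl (targ1 p)

end

end Cfsg.Agent.helper25.L3

namespace Cfsg.Agent.helper25.L3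

section
variable {F : Type*} [Field F] [Fintype F]

open Matrix

theorem exists_gen : ∃ t : Fˣ, orderOf t = Fintype.card F - 1 := by
  classical
  obtain ⟨t, ht⟩ := IsCyclic.exists_generator (α := Fˣ)
  refine ⟨t, ?_⟩
  rw [orderOf_eq_card_of_forall_mem_zpowers ht, Nat.card_eq_fintype_card, Fintype.card_units]

/-- if `mk g ^ k = 1` then `g ^ k` is a scalar `r` with `r ^ 3 = 1` -/
theorem scalar_of_psl_pow (g : Matrix.SpecialLinearGroup (Fin 3) F) (k : ℕ)
    (h : (QuotientGroup.mk g : Matrix.ProjectiveSpecialLinearGroup (Fin 3) F) ^ k = 1) :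
    ∃ r : F, r ^ 3 = 1 ∧ (g : Matrix (Fin 3) (Fin 3) F) ^ k = Matrix.scalar (Fin 3) r := by
  rw [← QuotientGroup.mk_pow, QuotientGroup.eq_one_iff, Matrix.SpecialLinearGroup.mem_center_iff] at h
  obtain ⟨r, hr, hs⟩ := h
  refine ⟨r, by simpa using hr, ?_⟩
  rw [hs, Matrix.SpecialLinearGroup.coe_pow]

theorem orderOf_dvd_d_mul (g : Matrix.SpecialLinearGroup (Fin 3) F) :
    orderOf g ∣ Nat.gcd 3 (Fintype.card F - 1) *
      orderOf (QuotientGroup.mk g : Matrix.ProjectiveSpecialLinearGroup (Fin 3) F) := by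
  set k := orderOf (QuotientGroup.mk g : Matrix.ProjectiveSpecialLinearGroup (Fin 3) F) with hk
  obtain ⟨r, hr3, hs⟩ := scalar_of_psl_pow g k (pow_orderOf_eq_one _)
  have hr0 : r ≠ 0 := by
    rintro rfl
    norm_num at hr3
  have hrq : r ^ (Fintype.card F - 1) = 1 := FiniteField.pow_card_sub_one_eq_one r hr0
  have hrd : r ^ Nat.gcd 3 (Fintype.card F - 1) = 1 := pow_gcd_eq_one.2 ⟨hr3, hrq⟩
  apply orderOf_dvd_of_pow_eq_one
  apply Subtype.ext
  rw [Matrix.SpecialLinearGroup.coe_pow, mul_comm, pow_mul, hs, ← map_pow, hrd, map_one]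
  rfl

theorem K_dvd_orderOf (g : Matrix.SpecialLinearGroup (Fin 3) F) (M : ℕ) (hM : M ∣ orderOf g)
    (hd : Nat.gcd 3 (Fintype.card F - 1) ∣ M) :
    M / Nat.gcd 3 (Fintype.card F - 1) ∣
      orderOf (QuotientGroup.mk g : Matrix.ProjectiveSpecialLinearGroup (Fin 3) F) := by
  have h1 := hM.trans (orderOf_dvd_d_mul g)
  obtain ⟨e, he⟩ := hd
  rw [he, Nat.mul_div_cancel_left _ d_pos]
  rw [he] at h1
  exact Nat.dvd_of_mul_dvd_mul_left d_pos h1

/-- family (3): an element whose order is a multiple of `q - 1` -/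
theorem exists_fam3 : ∃ x : Matrix.ProjectiveSpecialLinearGroup (Fin 3) F,
    Fintype.card F - 1 ∣ orderOf x := by
  classical
  obtain ⟨t, ht⟩ := exists_gen (F := F)
  let D : Matrix (Fin 3) (Fin 3) F := Matrix.diagonal ![(t : F), ((t⁻¹ : Fˣ) : F), 1]
  have hdet : D.det = 1 := by
    simp [D, Matrix.det_diagonal, Fin.prod_univ_three]
  let g : Matrix.SpecialLinearGroup (Fin 3) F := ⟨D, hdet⟩
  refine ⟨QuotientGroup.mk g, ?_⟩
  rw [← ht]
  apply orderOf_dvd_of_pow_eq_one
  obtain ⟨r, _, hs⟩ := scalar_of_psl_pow g _ (pow_orderOf_eq_one (QuotientGroup.mk g))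
  have hs' : D ^ orderOf (QuotientGroup.mk g : Matrix.ProjectiveSpecialLinearGroup (Fin 3) F) =
      Matrix.scalar (Fin 3) r := hs
  rw [Matrix.diagonal_pow, Matrix.scalar_apply] at hs'
  have h2 := congrFun (Matrix.diagonal_injective hs') 2
  have h0 := congrFun (Matrix.diagonal_injective hs') 0
  simp at h2 h0
  rw [← h2] at h0
  exact Units.ext (by simpa using h0)

end

end Cfsg.Agent.helper25.L3

namespace Cfsg.Agent.helper25.L3

section
variable {F : Type*} [Field F] [Fintype F]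

open Matrix

/-- family (5): in characteristic 2 an element of order 4 -/
theorem exists_fam5 [CharP F 2] : ∃ x : Matrix.ProjectiveSpecialLinearGroup (Fin 3) F,
    orderOf x = 4 := by
  classical
  have h2 : (2 : F) = 0 := CharTwo.two_eq_zero
  let J : Matrix (Fin 3) (Fin 3) F := !![1, 1, 0; 0, 1, 1; 0, 0, 1]
  have hdet : J.det = 1 := by
    simp [J, Matrix.det_fin_three]
  have hJ2 : J ^ 2 = !![1, 0, 1; 0, 1, 0; 0, 0, 1] := by
    rw [pow_two]
    ext i j
    fin_cases i <;> fin_cases j <;> simp [J, Matrix.mul_apply, Fin.sum_univ_three] <;>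
      first | exact h2 | (rw [one_add_one_eq_two]; exact h2)
  have hJ4 : J ^ 4 = 1 := by
    have : J ^ 4 = J ^ 2 * J ^ 2 := by rw [← pow_add]
    rw [this, hJ2]
    ext i j
    fin_cases i <;> fin_cases j <;> simp [Matrix.mul_apply, Fin.sum_univ_three] <;>
      first | exact h2 | (rw [one_add_one_eq_two]; exact h2)
  let g : Matrix.SpecialLinearGroup (Fin 3) F := ⟨J, hdet⟩
  refine ⟨QuotientGroup.mk g, ?_⟩
  haveI : Fact (Nat.Prime 2) := ⟨Nat.prime_two⟩
  have := orderOf_eq_prime_pow (x := (QuotientGroup.mk g : Matrix.ProjectiveSpecialLinearGroup (Fin 3) F))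
    (n := 1) (p := 2) ?_ ?_
  · simpa using this
  · intro h
    obtain ⟨r, _, hs⟩ := scalar_of_psl_pow g _ h
    have hs' : J ^ 2 = Matrix.scalar (Fin 3) r := by simpa using hs
    rw [hJ2] at hs'
    have := congrFun (congrFun hs' 0) 2
    simp [Matrix.scalar_apply] at this
  · have h4 : g ^ 4 = 1 := by
      apply Subtype.ext
      rw [Matrix.SpecialLinearGroup.coe_pow]
      exact hJ4
    have : (QuotientGroup.mk g : Matrix.ProjectiveSpecialLinearGroup (Fin 3) F) ^ 4 = 1 := by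
      rw [← QuotientGroup.mk_pow, h4]; rfl
    simpa using this

end

end Cfsg.Agent.helper25.L3

namespace Cfsg.Agent.helper25.L3

section
variable {F : Type*} [Field F] [Fintype F]

open Matrix

theorem fam4_pow (t : F) (ht : t ≠ 0) (k : ℕ) :
    (!![t, 1, 0; 0, t, 0; 0, 0, t⁻¹ * t⁻¹] : Matrix (Fin 3) (Fin 3) F) ^ k =
      !![t ^ k, (k : F) * t ^ k * t⁻¹, 0; 0, t ^ k, 0; 0, 0, (t⁻¹ * t⁻¹) ^ k] := by
  induction k with
  | zero =>
    ext i j
    fin_cases i <;> fin_cases j <;> simp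
  | succ k ih =>
    rw [pow_succ, ih]
    ext i j
    fin_cases i <;> fin_cases j <;> simp [Matrix.mul_apply, Fin.sum_univ_three, pow_succ] <;>
      field_simp <;> ring

theorem coprime_p_qm1 (p : ℕ) [Fact p.Prime] [CharP F p] : Nat.Coprime p (Fintype.card F - 1) := by
  obtain ⟨n, hp, hn⟩ := FiniteField.card F p
  have hq := two_le_card (F := F)
  have hpq : p ∣ Fintype.card F := by
    rw [hn]; exact dvd_pow_self p n.ne_zero
  have h1 : Nat.Coprime (Fintype.card F) (Fintype.card F - 1) := by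
    have : Fintype.card F = (Fintype.card F - 1) + 1 := by omega
    rw [Nat.coprime_comm]
    nth_rewrite 2 [this]
    simp
  exact Nat.Coprime.coprime_dvd_left hpq h1

/-- family (4): an element of `SL₃` whose order is a multiple of `p (q - 1)` -/
theorem exists_fam4 (p : ℕ) [Fact p.Prime] [CharP F p] :
    ∃ g : Matrix.SpecialLinearGroup (Fin 3) F, p * (Fintype.card F - 1) ∣ orderOf g := by
  classical
  obtain ⟨t, ht⟩ := exists_gen (F := F)
  have ht0 : (t : F) ≠ 0 := t.ne_zero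
  let A : Matrix (Fin 3) (Fin 3) F := !![(t : F), 1, 0; 0, (t : F), 0; 0, 0, (t : F)⁻¹ * (t : F)⁻¹]
  have hdet : A.det = 1 := by
    simp [A, Matrix.det_fin_three]
    field_simp
  let g : Matrix.SpecialLinearGroup (Fin 3) F := ⟨A, hdet⟩
  refine ⟨g, ?_⟩
  have hone : (g : Matrix (Fin 3) (Fin 3) F) ^ orderOf g = 1 := by
    rw [← Matrix.SpecialLinearGroup.coe_pow, pow_orderOf_eq_one]; rfl
  have hA : A ^ orderOf g = 1 := hone
  rw [fam4_pow (t : F) ht0] at hA
  have h00 := congrFun (congrFun hA 0) 0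
  have h01 : ((orderOf g : ℕ) : F) * (t : F) ^ orderOf g * (t : F)⁻¹ = 0 := by
    have := congrFun (congrFun hA 0) 1
    simpa using this
  simp at h00
  have h1 : Fintype.card F - 1 ∣ orderOf g := by
    rw [← ht]
    apply orderOf_dvd_of_pow_eq_one
    exact Units.ext (by simpa using h00)
  have h2 : p ∣ orderOf g := by
    rw [← CharP.cast_eq_zero_iff F p]
    rcases mul_eq_zero.1 h01 with h | h
    · rcases mul_eq_zero.1 h with h' | h'
      · exact h'
      · exact absurd h' (pow_ne_zero _ ht0)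
    · exact absurd h (inv_ne_zero ht0)
  exact (coprime_p_qm1 p).mul_dvd_of_dvd_of_dvd h2 h1

end

end Cfsg.Agent.helper25.L3

namespace Cfsg.Agent.helper25.L3

section
variable {F : Type*} [Field F] [Fintype F]

open Matrix

/-- family (1): a Singer-type element of `SL₃` of order divisible by `q² + q + 1` -/
theorem exists_fam1 (p : ℕ) [Fact p.Prime] [CharP F p] :
    ∃ g : Matrix.SpecialLinearGroup (Fin 3) F,
      Fintype.card F ^ 2 + Fintype.card F + 1 ∣ orderOf g := by
  classical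
  haveI : NeZero 3 := ⟨by norm_num⟩
  let E := FiniteField.Extension F p 3
  haveI : Fintype E := Fintype.ofFinite E
  have hq := two_le_card (F := F)
  have hcardE : Fintype.card E = Fintype.card F ^ 3 := by
    rw [Fintype.card_eq_nat_card, FiniteField.natCard_extension, Nat.card_eq_fintype_card]
  obtain ⟨ζ, hζ⟩ := IsCyclic.exists_generator (α := Eˣ)
  have hordζ : orderOf (ζ : E) = Fintype.card F ^ 3 - 1 := by
    rw [orderOf_units, orderOf_eq_card_of_forall_mem_zpowers hζ, Nat.card_eq_fintype_card,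
      Fintype.card_units, hcardE]
  set α : E := (ζ : E) ^ (Fintype.card F - 1) with hα
  have hdvd : Fintype.card F - 1 ∣ Fintype.card F ^ 3 - 1 := by
    have := Nat.sub_dvd_pow_sub_pow (Fintype.card F) 1 3
    rwa [one_pow] at this
  have hordα : orderOf α = Fintype.card F ^ 2 + Fintype.card F + 1 := by
    rw [hα, orderOf_pow' _ (by omega), hordζ, Nat.gcd_eq_right hdvd, q3_div]
  have hnorm : Algebra.norm F α = 1 := by
    rw [hα, map_pow]
    apply FiniteField.pow_card_sub_one_eq_one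
    exact (ζ.isUnit.map (Algebra.norm F)).ne_zero
  let b : Module.Basis (Fin 3) F E :=
    Module.finBasisOfFinrankEq F E (FiniteField.finrank_extension F p 3)
  have hdet : (Algebra.leftMulMatrix b α).det = 1 := by
    rw [← Algebra.norm_eq_matrix_det b α, hnorm]
  let g : Matrix.SpecialLinearGroup (Fin 3) F := ⟨Algebra.leftMulMatrix b α, hdet⟩
  refine ⟨g, ?_⟩
  rw [← hordα]
  apply orderOf_dvd_of_pow_eq_one
  have hone : (g : Matrix (Fin 3) (Fin 3) F) ^ orderOf g = 1 := by
    rw [← Matrix.SpecialLinearGroup.coe_pow, pow_orderOf_eq_one]; rfl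
  have h2 : Algebra.leftMulMatrix b (α ^ orderOf g) = Algebra.leftMulMatrix b 1 := by
    rw [map_pow, map_one]; exact hone
  exact Algebra.leftMulMatrix_injective b h2

/-- family (2): an element of `SL₃` of order divisible by `q² - 1` -/
theorem exists_fam2 (p : ℕ) [Fact p.Prime] [CharP F p] :
    ∃ g : Matrix.SpecialLinearGroup (Fin 3) F, Fintype.card F ^ 2 - 1 ∣ orderOf g := by
  classical
  haveI : NeZero 2 := ⟨by norm_num⟩
  let E := FiniteField.Extension F p 2
  haveI : Fintype E := Fintype.ofFinite E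
  have hcardE : Fintype.card E = Fintype.card F ^ 2 := by
    rw [Fintype.card_eq_nat_card, FiniteField.natCard_extension, Nat.card_eq_fintype_card]
  obtain ⟨ζ, hζ⟩ := IsCyclic.exists_generator (α := Eˣ)
  have hordζ : orderOf (ζ : E) = Fintype.card F ^ 2 - 1 := by
    rw [orderOf_units, orderOf_eq_card_of_forall_mem_zpowers hζ, Nat.card_eq_fintype_card,
      Fintype.card_units, hcardE]
  have hn0 : Algebra.norm F (ζ : E) ≠ 0 := (ζ.isUnit.map (Algebra.norm F)).ne_zero
  let a : F := (Algebra.norm F (ζ : E))⁻¹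
  let V := E × F
  have hrank : Module.finrank F V = 3 := by
    rw [Module.finrank_prod, FiniteField.finrank_extension, Module.finrank_self]
  let b : Module.Basis (Fin 3) F V := Module.finBasisOfFinrankEq F V hrank
  let Φ : E × F →* Module.End F V :=
    { toFun := fun xc => LinearMap.prodMap (LinearMap.mulLeft F xc.1) (LinearMap.mulLeft F xc.2)
      map_one' := by ext <;> simp
      map_mul' := fun x y => by ext <;> simp }
  have hΦ : Function.Injective Φ := by
    intro x y hxy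
    have h1 := congrArg (fun φ : Module.End F V => φ (1, 1)) hxy
    have h2 : (x.1 * 1, x.2 * 1) = (y.1 * 1, y.2 * 1) := h1
    simp only [mul_one] at h2
    exact h2
  have hdetφ : LinearMap.det (Φ ((ζ : E), a)) = 1 := by
    have h1 : LinearMap.det (LinearMap.mulLeft F (ζ : E)) = Algebra.norm F (ζ : E) := by
      rw [Algebra.norm_apply]; rfl
    have h2 : LinearMap.det (LinearMap.mulLeft F a) = a := by
      rw [LinearMap.det_ring]; simp
    show LinearMap.det (LinearMap.prodMap (LinearMap.mulLeft F (ζ : E)) (LinearMap.mulLeft F a)) = 1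
    rw [LinearMap.det_prodMap, h1, h2]
    exact mul_inv_cancel₀ hn0
  have hdet : (LinearMap.toMatrix b b (Φ ((ζ : E), a))).det = 1 := by
    rw [LinearMap.det_toMatrix, hdetφ]
  let g : Matrix.SpecialLinearGroup (Fin 3) F := ⟨LinearMap.toMatrix b b (Φ ((ζ : E), a)), hdet⟩
  refine ⟨g, ?_⟩
  rw [← hordζ]
  apply orderOf_dvd_of_pow_eq_one
  have hone : (g : Matrix (Fin 3) (Fin 3) F) ^ orderOf g = 1 := by
    rw [← Matrix.SpecialLinearGroup.coe_pow, pow_orderOf_eq_one]; rfl
  have h2 : LinearMap.toMatrixAlgEquiv b (Φ (((ζ : E), a) ^ orderOf g)) =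
      LinearMap.toMatrixAlgEquiv b 1 := by
    rw [map_pow, map_pow, map_one]; exact hone
  have h3 := hΦ ((LinearMap.toMatrixAlgEquiv b).injective (h2.trans (by rw [← map_one Φ])))
  have := congrArg Prod.fst h3
  simpa using this

end

end Cfsg.Agent.helper25.L3

namespace Cfsg.Agent.helper25.L3

section
variable {F : Type*} [Field F] [Fintype F]

theorem exists_orderOf_eq_of_dvd' {L : Type*} [Group L] (u : L) (b : ℕ) (hb : b ∣ orderOf u)
    (h0 : orderOf u ≠ 0) : ∃ v : L, orderOf v = b := by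
  obtain ⟨c, hc⟩ := hb
  have hc0 : c ≠ 0 := by rintro rfl; rw [Nat.mul_zero] at hc; exact h0 hc
  refine ⟨u ^ c, ?_⟩
  rw [orderOf_pow_of_dvd hc0 ⟨b, by rw [hc, mul_comm]⟩, hc]
  exact Nat.mul_div_cancel _ (Nat.pos_of_ne_zero hc0)

theorem spec_superset (p : ℕ) [Fact p.Prime] [CharP F p] (m : ℕ) (h : Target F p m) :
    ∃ x : Matrix.ProjectiveSpecialLinearGroup (Fin 3) F, orderOf x = m := by
  classical
  have hfin : ∀ x : Matrix.ProjectiveSpecialLinearGroup (Fin 3) F, orderOf x ≠ 0 :=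
    fun x => (orderOf_pos x).ne'
  rcases h with h | h | h | h | ⟨hp, h⟩
  · obtain ⟨g, hg⟩ := exists_fam1 (F := F) p
    exact exists_orderOf_eq_of_dvd' _ m (h.trans (K_dvd_orderOf g _ hg d_dvd_M)) (hfin _)
  · obtain ⟨g, hg⟩ := exists_fam2 (F := F) p
    exact exists_orderOf_eq_of_dvd' _ m (h.trans (K_dvd_orderOf g _ hg d_dvd_q2m1)) (hfin _)
  · obtain ⟨x, hx⟩ := exists_fam3 (F := F)
    exact exists_orderOf_eq_of_dvd' _ m (h.trans hx) (hfin _)
  · obtain ⟨g, hg⟩ := exists_fam4 (F := F) p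
    exact exists_orderOf_eq_of_dvd' _ m
      (h.trans (K_dvd_orderOf g _ hg (Dvd.dvd.mul_left d_dvd_qm1 p))) (hfin _)
  · subst hp
    obtain ⟨x, hx⟩ := exists_fam5 (F := F)
    exact exists_orderOf_eq_of_dvd' _ m (hx ▸ h) (hfin _)

end

end Cfsg.Agent.helper25.L3
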