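import Cfsg.Agent.Lib_helper25_Saturated

set_option autoImplicit false
set_option linter.style.haveILetI false

namespace Cfsg.Agent.helper25

open Cfsg Cfsg.FusionSystem

variable {Ω : Type*} [Group Ω] {S : Subgroup Ω} {G : Type*} [Group G]

/-- preimage in `S` (as a subgroup of `Ω`) of a subgroup of `G`. -/
def pre (ι : S →* G) (N : Subgroup G) : Subgroup Ω := (N.comap ι).map S.subtype

theorem mem_pre_iff (ι : S →* G) (N : Subgroup G) (x : Ω) :
    x ∈ pre ι N ↔ ∃ hx : x ∈ S, ι ⟨x, hx⟩ ∈ N := by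
  unfold pre
  constructor
  · rintro ⟨s, hs, rfl⟩
    exact ⟨s.2, hs⟩
  · rintro ⟨hx, h⟩
    exact ⟨⟨x, hx⟩, h, rfl⟩

theorem pre_le (ι : S →* G) (N : Subgroup G) : pre ι N ≤ S := by
  intro x hx
  exact ((mem_pre_iff ι N x).mp hx).1

theorem im_pre (ι : S →* G) {N : Subgroup G} (hN : N ≤ ι.range) : im ι (pre ι N) = N := by
  ext y
  rw [mem_im_iff]
  constructor
  · rintro ⟨s, hs, rfl⟩
    exact ((mem_pre_iff ι N _).mp hs).2
  · intro hy
    obtain ⟨s, rfl⟩ := hN hy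
    exact ⟨s, (mem_pre_iff ι N _).mpr ⟨s.2, hy⟩, rfl⟩

theorem eq_of_im_eq {ι : S →* G} (hι : Function.Injective ι) {P Q : Subgroup Ω} (hP : P ≤ S)
    (hQ : Q ≤ S) (h : im ι P = im ι Q) : P = Q :=
  le_antisymm ((im_le_im_iff hι hP).mp h.le) ((im_le_im_iff hι hQ).mp h.ge)

/-- the preimage of a normal subgroup of `G` lying in the image of `S` is normal in the system. -/
theorem realized_isNormal_pre {F : FusionSystem S} {ι : S →* G} (hF : F.IsRealizedBy ι)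
    (N : Subgroup G) [hNn : N.Normal] (hN : N ≤ ι.range) : F.IsNormal (pre ι N) := by
  refine ⟨pre_le ι N, ?_⟩
  intro P φ hφ
  obtain ⟨hP, hφS, g, hg⟩ := exists_of_mem_hom hF hφ
  have hK : P ⊔ pre ι N ≤
      ((ι.range).comap ((MulAut.conj g).toMonoidHom.comp ι)).map S.subtype := by
    apply sup_le
    · intro x hx
      refine ⟨⟨x, hP hx⟩, Subgroup.mem_comap.mpr ?_, rfl⟩
      show g * ι ⟨x, hP hx⟩ * g⁻¹ ∈ ι.range
      rw [← hg ⟨x, hx⟩]
      exact ⟨_, rfl⟩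
    · intro x hx
      obtain ⟨hxS, hxN⟩ := (mem_pre_iff ι N x).mp hx
      refine ⟨⟨x, hxS⟩, Subgroup.mem_comap.mpr ?_, rfl⟩
      show g * ι ⟨x, hxS⟩ * g⁻¹ ∈ ι.range
      exact hN (hNn.conj_mem _ hxN g)
  have hle : cj g (im ι (P ⊔ pre ι N)) ≤ ι.range := by
    rintro _ ⟨z, hz, rfl⟩
    obtain ⟨s, hs, rfl⟩ := (mem_im_iff ι _ z).mp hz
    obtain ⟨s', hs', he⟩ := hK hs
    have : s' = s := Subtype.ext he
    rw [this] at hs'
    exact hs'
  have hPQ : P ⊔ pre ι N ≤ S := sup_le hP (pre_le ι N)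
  obtain ⟨ψ, hψS, hψ, hψι⟩ := exists_hom_of_cj_le hF hPQ hle
  refine ⟨ψ, hψ, ?_, ?_⟩
  · intro x
    have h1 := hψι (Subgroup.inclusion le_sup_left x)
    have h2 := hg x
    have h3 : ι ⟨ψ (Subgroup.inclusion le_sup_left x), hψS _⟩ = ι ⟨φ x, hφS x⟩ := by
      rw [h1, h2]; rfl
    have h4 := congrArg Subtype.val (hF.1 h3)
    exact h4
  · apply le_antisymm
    · rintro _ ⟨y, hy, rfl⟩
      have hy' : (y : Ω) ∈ pre ι N := Subgroup.mem_subgroupOf.mp hy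
      obtain ⟨hyS, hyN⟩ := (mem_pre_iff ι N _).mp hy'
      refine (mem_pre_iff ι N _).mpr ⟨hψS y, ?_⟩
      rw [hψι y]
      exact hNn.conj_mem _ hyN g
    · intro r hr
      obtain ⟨hrS, hrN⟩ := (mem_pre_iff ι N r).mp hr
      have h1 : g⁻¹ * ι ⟨r, hrS⟩ * g ∈ N := by
        have := hNn.conj_mem _ hrN g⁻¹
        rwa [inv_inv] at this
      obtain ⟨s, hs⟩ := hN h1
      have hsN : (s : Ω) ∈ pre ι N := (mem_pre_iff ι N _).mpr ⟨s.2, by rw [hs]; exact h1⟩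
      have hsPQ : (s : Ω) ∈ P ⊔ pre ι N := (le_sup_right : pre ι N ≤ P ⊔ pre ι N) hsN
      refine ⟨⟨s, hsPQ⟩, Subgroup.mem_subgroupOf.mpr hsN, ?_⟩
      have h2 := hψι ⟨s, hsPQ⟩
      have h3 : ι ⟨ψ ⟨s, hsPQ⟩, hψS _⟩ = ι ⟨r, hrS⟩ := by
        rw [h2]
        have : ι ⟨(s : Ω), hPQ hsPQ⟩ = g⁻¹ * ι ⟨r, hrS⟩ * g := hs
        rw [this]; group
      have h4 := congrArg Subtype.val (hF.1 h3)
      exact h4

/-- the preimage of a self-centralizing normal subgroup of `G` lying in the image of `S` is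
centric in the system. -/
theorem realized_isCentric_pre {F : FusionSystem S} {ι : S →* G} (hF : F.IsRealizedBy ι)
    (N : Subgroup G) [hNn : N.Normal] (hN : N ≤ ι.range)
    (hC : Subgroup.centralizer (N : Set G) ≤ N) : F.IsCentric (pre ι N) := by
  refine ⟨pre_le ι N, ?_⟩
  rintro Q' ⟨φ, hφ, rfl⟩
  obtain ⟨hP, hφS, g, hg⟩ := exists_of_mem_hom hF hφ
  have h1 : im ι φ.range = im ι (pre ι N) := by
    rw [im_range hP hφS hg, im_pre ι hN]
    exact (Subgroup.mem_normalizer_iff_map_conj_eq (H := N)).mp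
      (by rw [Subgroup.normalizer_eq_top]; exact Subgroup.mem_top g)
  have hQ' : φ.range ≤ S := by rintro _ ⟨x, rfl⟩; exact hφS x
  have h2 : φ.range = pre ι N := eq_of_im_eq hF.1 hQ' (pre_le ι N) h1
  rw [h2]
  intro x hx
  obtain ⟨hxS, hxC⟩ := hx
  refine (mem_pre_iff ι N x).mpr ⟨hxS, hC ?_⟩
  rw [Subgroup.mem_centralizer_iff]
  intro y hy
  obtain ⟨s, rfl⟩ := hN hy
  have hs : (s : Ω) ∈ pre ι N := (mem_pre_iff ι N _).mpr ⟨s.2, hy⟩
  have h3 : (s : Ω) * x = x * s := Subgroup.mem_centralizer_iff.mp hxC _ hs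
  rw [← map_mul, ← map_mul]
  congr 1
  exact Subtype.ext h3

theorem pCore_normal_h25 (p : ℕ) (G : Type*) [Group G] : (Cfsg.pCore p G).Normal :=
  Subgroup.sSup_normal _ (fun _ h => h.1)

theorem pCore_le_sylow_h25 {p : ℕ} {G : Type*} [Group G] [Finite G] [Fact p.Prime] (T : Sylow p G) :
    Cfsg.pCore p G ≤ T := by
  unfold Cfsg.pCore
  apply sSup_le
  rintro N ⟨hNn, hNp⟩
  haveI := hNn
  exact hNp.le_sylow_of_normal T

/-- a system with a model is constrained. -/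
theorem isConstrained_of_isModel {F : FusionSystem S} {p : ℕ} [Fact p.Prime] {ι : S →* G}
    (hG : F.IsModel p G ι) : F.IsConstrained p := by
  obtain ⟨hfin, hF, ⟨T, hT⟩, hC⟩ := hG
  haveI := hfin
  haveI := pCore_normal_h25 p G
  have hN : Cfsg.pCore p G ≤ ι.range := hT ▸ pCore_le_sylow_h25 T
  exact ⟨realized_isSaturated hF T hT, pre ι (Cfsg.pCore p G),
    realized_isNormal_pre hF _ hN, realized_isCentric_pre hF _ hN hC⟩

end Cfsg.Agent.helper25
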