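import Mathlib

set_option autoImplicit false
set_option linter.style.haveILetI false
set_option linter.unusedVariables false
set_option maxHeartbeats 1000000

namespace Cfsg.Agent.helper25

open scoped commutatorElement

variable {P : Type*} [Group P]

/-- the commutator subgroup of the normal closure of an abelian subgroup. -/
theorem commutator_normalClosure_le {E : Subgroup P} (hE : IsMulCommutative ↥E) :
    ⁅Subgroup.normalClosure (E : Set P), Subgroup.normalClosure (E : Set P)⁆ ≤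
      ⁅⁅Subgroup.normalClosure (E : Set P), (⊤ : Subgroup P)⁆,
        Subgroup.normalClosure (E : Set P)⁆ := by
  obtain ⟨N, hN⟩ : ∃ N : Subgroup P, N = Subgroup.normalClosure (E : Set P) := ⟨_, rfl⟩
  haveI hNn : N.Normal := hN ▸ Subgroup.normalClosure_normal
  have hEN : E ≤ N := hN ▸ Subgroup.le_normalClosure
  rw [← hN]
  obtain ⟨M, hM⟩ : ∃ M : Subgroup P, M = ⁅⁅N, (⊤ : Subgroup P)⁆, N⁆ := ⟨_, rfl⟩
  haveI hMn : M.Normal := hM ▸ inferInstance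
  rw [← hM]
  have hcomm : ∀ e₁ ∈ E, ∀ e₂ ∈ E, e₁ * e₂ = e₂ * e₁ := by
    intro e₁ h₁ e₂ h₂
    have := hE.is_comm.comm (⟨e₁, h₁⟩ : E) ⟨e₂, h₂⟩
    exact congrArg Subtype.val this
  rw [Subgroup.commutator_le]
  intro x hx y hy
  rw [hN] at hx hy
  unfold Subgroup.normalClosure at hx hy
  induction hx, hy using Subgroup.closure_induction₂ with
  | mem x y hx hy =>
    obtain ⟨e₁, he₁, hc₁⟩ := Group.mem_conjugatesOfSet_iff.mp hx
    obtain ⟨e₂, he₂, hc₂⟩ := Group.mem_conjugatesOfSet_iff.mp hy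
    obtain ⟨g₁, rfl⟩ := isConj_iff.mp hc₁
    obtain ⟨g₂, rfl⟩ := isConj_iff.mp hc₂
    have hn₁ : ⁅e₂⁻¹, g₁⁻¹ * g₂⁆ ∈ ⁅N, (⊤ : Subgroup P)⁆ :=
      Subgroup.commutator_mem_commutator (hEN (E.inv_mem he₂)) (Subgroup.mem_top _)
    have h1 : ⁅e₁, ⁅e₂⁻¹, g₁⁻¹ * g₂⁆⁆ ∈ M := by
      rw [hM, Subgroup.commutator_comm]
      exact Subgroup.commutator_mem_commutator (hEN he₁) hn₁
    have h2 : e₂ * ⁅e₁, ⁅e₂⁻¹, g₁⁻¹ * g₂⁆⁆ * e₂⁻¹ ∈ M := hMn.conj_mem _ h1 e₂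
    have h3 := hMn.conj_mem _ h2 g₁
    have e : ⁅g₁ * e₁ * g₁⁻¹, g₂ * e₂ * g₂⁻¹⁆ =
        g₁ * (e₂ * ⁅e₁, ⁅e₂⁻¹, g₁⁻¹ * g₂⁆⁆ * e₂⁻¹) * g₁⁻¹ := by
      have hc := hcomm e₁ he₁ e₂ he₂
      have hc' : e₂ * e₁ * e₂⁻¹ = e₁ := by rw [← hc]; group
      simp only [commutatorElement_def]
      calc g₁ * e₁ * g₁⁻¹ * (g₂ * e₂ * g₂⁻¹) * (g₁ * e₁ * g₁⁻¹)⁻¹ * (g₂ * e₂ * g₂⁻¹)⁻¹
          = g₁ * (e₁ * (g₁⁻¹ * g₂) * e₂ * (g₁⁻¹ * g₂)⁻¹ * e₁⁻¹ * (g₁⁻¹ * g₂) * e₂⁻¹ *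
              (g₁⁻¹ * g₂)⁻¹) * g₁⁻¹ := by group
        _ = g₁ * ((e₂ * e₁ * e₂⁻¹) * (g₁⁻¹ * g₂) * e₂ * (g₁⁻¹ * g₂)⁻¹ * e₁⁻¹ * (g₁⁻¹ * g₂) * e₂⁻¹ *
              (g₁⁻¹ * g₂)⁻¹) * g₁⁻¹ := by rw [hc']
        _ = g₁ * (e₂ * (e₁ * (e₂⁻¹ * (g₁⁻¹ * g₂) * e₂⁻¹⁻¹ * (g₁⁻¹ * g₂)⁻¹) * e₁⁻¹ *
              (e₂⁻¹ * (g₁⁻¹ * g₂) * e₂⁻¹⁻¹ * (g₁⁻¹ * g₂)⁻¹)⁻¹) * e₂⁻¹) * g₁⁻¹ := by group
    rw [e]; exact h3
  | one_left y _ => simp
  | one_right x _ => simp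
  | mul_left x₁ x₂ y _ _ _ h₁ h₂ =>
    have e : ⁅x₁ * x₂, y⁆ = x₁ * ⁅x₂, y⁆ * x₁⁻¹ * ⁅x₁, y⁆ := by
      simp only [commutatorElement_def]; group
    rw [e]; exact M.mul_mem (hMn.conj_mem _ h₂ x₁) h₁
  | mul_right y₁ y₂ x _ _ _ h₁ h₂ =>
    have e : ⁅x, y₁ * y₂⁆ = ⁅x, y₁⁆ * (y₁ * ⁅x, y₂⁆ * y₁⁻¹) := by
      simp only [commutatorElement_def]; group
    rw [e]; exact M.mul_mem h₁ (hMn.conj_mem _ h₂ y₁)
  | inv_left x y _ _ h =>
    have e : ⁅x⁻¹, y⁆ = x⁻¹ * ⁅x, y⁆⁻¹ * x⁻¹⁻¹ := by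
      simp only [commutatorElement_def]; group
    rw [e]; exact hMn.conj_mem _ (M.inv_mem h) x⁻¹
  | inv_right x y _ _ h =>
    have e : ⁅x, y⁻¹⁆ = y⁻¹ * ⁅x, y⁆⁻¹ * y⁻¹⁻¹ := by
      simp only [commutatorElement_def]; group
    rw [e]; exact hMn.conj_mem _ (M.inv_mem h) y⁻¹

/-- the iterated commutators of `N` with the whole group. -/
def topComm (N : Subgroup P) : ℕ → Subgroup P
  | 0 => N
  | k + 1 => ⁅topComm N k, (⊤ : Subgroup P)⁆

theorem topComm_le_lcs (N : Subgroup P) (k : ℕ) :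
    topComm N k ≤ (⊤ : Subgroup P).lowerCentralSeries k := by
  induction k with
  | zero => exact le_top
  | succ k ih => exact Subgroup.commutator_mono ih le_rfl

theorem lcs_normalClosure_le {E : Subgroup P} (hE : IsMulCommutative ↥E) (j : ℕ) :
    (Subgroup.normalClosure (E : Set P)).lowerCentralSeries (j + 1) ≤
      topComm (Subgroup.normalClosure (E : Set P)) (j + 2) := by
  induction j with
  | zero =>
    show ⁅_, _⁆ ≤ ⁅⁅_, _⁆, _⁆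
    exact (commutator_normalClosure_le hE).trans (Subgroup.commutator_mono le_rfl le_top)
  | succ j ih =>
    show ⁅(Subgroup.normalClosure (E : Set P)).lowerCentralSeries (j + 1), _⁆ ≤
      ⁅topComm (Subgroup.normalClosure (E : Set P)) (j + 2), _⁆
    exact Subgroup.commutator_mono ih le_top

/-- the normal closure of an abelian subgroup of a nonabelian nilpotent group has smaller
class. -/
theorem nilpotencyClass_normalClosure_lt [Group.IsNilpotent P] (hna : ¬ IsMulCommutative P)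
    {E : Subgroup P} (hE : IsMulCommutative ↥E) :
    Group.nilpotencyClass ↥(Subgroup.normalClosure (E : Set P)) < Group.nilpotencyClass P := by
  have hc2 : 2 ≤ Group.nilpotencyClass P := by
    by_contra hlt
    push Not at hlt
    have h1 : Group.nilpotencyClass P ≤ 1 := by omega
    have h2 := Subgroup.lowerCentralSeries_eq_bot_iff_nilpotencyClass_le.mpr h1
    apply hna
    refine ⟨⟨fun a b => ?_⟩⟩
    have h3 : ⁅a, b⁆ ∈ (⊤ : Subgroup P).lowerCentralSeries 1 :=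
      Subgroup.commutator_mem_commutator (Subgroup.mem_top a) (Subgroup.mem_top b)
    rw [h2, Subgroup.mem_bot] at h3
    exact commutatorElement_eq_one_iff_mul_comm.mp h3
  obtain ⟨c, hc⟩ : ∃ c, Group.nilpotencyClass P = c + 2 := ⟨Group.nilpotencyClass P - 2, by omega⟩
  have h4 : (Subgroup.normalClosure (E : Set P)).lowerCentralSeries (c + 1) = ⊥ := by
    rw [eq_bot_iff]
    refine (lcs_normalClosure_le hE c).trans ?_
    refine (topComm_le_lcs _ _).trans ?_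
    rw [← hc, Subgroup.lowerCentralSeries_nilpotencyClass]
  have h5 : (⊤ : Subgroup ↥(Subgroup.normalClosure (E : Set P))).lowerCentralSeries (c + 1) =
      ⊥ := by
    have := Subgroup.top_subtype_lowerCentralSeries (Subgroup.normalClosure (E : Set P)) (c + 1)
    rw [h4] at this
    exact (Subgroup.map_eq_bot_iff_of_injective _ (Subgroup.subtype_injective _)).mp this
  have h6 := Subgroup.lowerCentralSeries_eq_bot_iff_nilpotencyClass_le.mp h5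
  omega

end Cfsg.Agent.helper25
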