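import Cfsg.Agent.Lib_helper25_Fusion

set_option autoImplicit false

namespace Cfsg.Agent.helper25

open Cfsg Cfsg.FusionSystem

variable {Ω : Type*} [Group Ω] {S : Subgroup Ω}

theorem normalizerHom_conj_mem (F : FusionSystem S) {Q : Subgroup Ω} (hQ : Q ≤ S) {P : Subgroup Ω}
    {g : Ω} (hP : P ≤ normalizerIn S Q) (hg : g ∈ normalizerIn S Q) :
    conjHom P g ∈ F.normalizerHom Q P := by
  have hPS : P ≤ S := hP.trans inf_le_left
  refine ⟨F.conj_mem hPS hg.1, hP, ?_, conjHom (P ⊔ Q) g, F.conj_mem (sup_le hPS hQ) hg.1, ?_, ?_⟩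
  · intro x
    exact Subgroup.mul_mem _ (Subgroup.mul_mem _ hg (hP x.2)) (Subgroup.inv_mem _ hg)
  · intro x; rfl
  · have hgn : g ∈ Subgroup.normalizer (Q : Set Ω) := hg.2
    apply le_antisymm
    · rintro _ ⟨y, hy, rfl⟩
      exact (Subgroup.mem_normalizer_iff.mp hgn _).mp (Subgroup.mem_subgroupOf.mp hy)
    · intro q hq
      have hq' : g⁻¹ * q * g ∈ Q := by
        have := (Subgroup.mem_normalizer_iff.mp (Subgroup.inv_mem _ hgn) q).mp hq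
        rwa [inv_inv] at this
      refine ⟨⟨g⁻¹ * q * g, (le_sup_right : Q ≤ P ⊔ Q) hq'⟩, Subgroup.mem_subgroupOf.mpr hq', ?_⟩
      show g * (g⁻¹ * q * g) * g⁻¹ = q
      group

theorem normalizerHom_comp_mem (F : FusionSystem S) {Q : Subgroup Ω} {P P' : Subgroup Ω}
    {φ : P →* Ω} {ψ : P' →* Ω} (hφ : φ ∈ F.normalizerHom Q P) (hψ : ψ ∈ F.normalizerHom Q P')
    (h : ∀ x : P, φ x ∈ P') : ψ.comp (φ.codRestrict P' h) ∈ F.normalizerHom Q P := by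
  obtain ⟨hφF, hPN, hφN, φ', hφ', hφ'φ, hφ'Q⟩ := hφ
  obtain ⟨hψF, hP'N, hψN, ψ', hψ', hψ'ψ, hψ'Q⟩ := hψ
  have hval : ∀ x : ↥(P ⊔ Q), φ' x ∈ P' ⊔ Q := by
    apply forall_mem_sup_of_comap
    · intro x
      rw [hφ'φ]
      exact (le_sup_left : P' ≤ P' ⊔ Q) (h x)
    · intro x
      have : φ' (Subgroup.inclusion le_sup_right x) ∈ (Q.subgroupOf (P ⊔ Q)).map φ' :=
        ⟨_, Subgroup.mem_subgroupOf.mpr x.2, rfl⟩
      rw [hφ'Q] at this
      exact (le_sup_right : Q ≤ P' ⊔ Q) this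
  refine ⟨F.comp_mem hφF hψF h, hPN, fun x => hψN _, ψ'.comp (φ'.codRestrict (P' ⊔ Q) hval),
    F.comp_mem hφ' hψ' hval, ?_, ?_⟩
  · intro x
    show ψ' ⟨φ' (Subgroup.inclusion le_sup_left x), _⟩ = ψ ⟨φ x, _⟩
    rw [← hψ'ψ]
    congr 1
    exact Subtype.ext (hφ'φ x)
  · apply le_antisymm
    · rintro _ ⟨y, hy, rfl⟩
      have hyQ : (y : Ω) ∈ Q := Subgroup.mem_subgroupOf.mp hy
      have h1 : φ' y ∈ Q := by
        have : φ' y ∈ (Q.subgroupOf (P ⊔ Q)).map φ' := ⟨y, hy, rfl⟩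
        rwa [hφ'Q] at this
      have h2 : ψ' ⟨φ' y, hval y⟩ ∈ (Q.subgroupOf (P' ⊔ Q)).map ψ' :=
        ⟨_, Subgroup.mem_subgroupOf.mpr h1, rfl⟩
      rw [hψ'Q] at h2
      exact h2
    · intro q hq
      have h1 : q ∈ (Q.subgroupOf (P' ⊔ Q)).map ψ' := by rw [hψ'Q]; exact hq
      obtain ⟨y, hy, rfl⟩ := h1
      have hyQ : (y : Ω) ∈ Q := Subgroup.mem_subgroupOf.mp hy
      have h2 : (y : Ω) ∈ (Q.subgroupOf (P ⊔ Q)).map φ' := by rw [hφ'Q]; exact hyQ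
      obtain ⟨z, hz, hzy⟩ := h2
      refine ⟨z, hz, ?_⟩
      show ψ' ⟨φ' z, _⟩ = ψ' y
      congr 1
      exact Subtype.ext hzy

theorem normalizerHom_inv_mem (F : FusionSystem S) {Q : Subgroup Ω} {P : Subgroup Ω}
    {φ : P →* Ω} (hφ : φ ∈ F.normalizerHom Q P) :
    ∃ ψ ∈ F.normalizerHom Q φ.range, ∀ x : P, ψ ⟨φ x, ⟨x, rfl⟩⟩ = (x : Ω) := by
  obtain ⟨hφF, hPN, hφN, φ', hφ', hφ'φ, hφ'Q⟩ := hφ
  obtain ⟨χ, hχ, hχφ'⟩ := F.inv_mem hφ'
  have hrange : φ'.range = φ.range ⊔ Q := by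
    rw [range_eq_sup_map, hφ'Q, map_subgroupOf_eq_range le_sup_left φ' φ hφ'φ]
  have hχ' := hom_congr F hrange hχ
  have hRle : φ.range ≤ φ.range ⊔ Q := le_sup_left
  have key : ∀ (y : ↥(P ⊔ Q)) (hy : φ' y ∈ φ.range ⊔ Q),
      (χ.comp (Subgroup.inclusion hrange.ge)) ⟨φ' y, hy⟩ = (y : Ω) := fun y hy => hχφ' y
  refine ⟨(χ.comp (Subgroup.inclusion hrange.ge)).comp (Subgroup.inclusion hRle),
    ⟨restrict_mem F hRle hχ', ?_, ?_, χ.comp (Subgroup.inclusion hrange.ge), hχ', fun x => rfl, ?_⟩, ?_⟩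
  · rintro _ ⟨x, rfl⟩
    exact hφN x
  · rintro ⟨_, x, rfl⟩
    have h1 : φ x = φ' (Subgroup.inclusion le_sup_left x) := (hφ'φ x).symm
    have h2 := key (Subgroup.inclusion le_sup_left x) (by rw [← h1]; exact hRle ⟨x, rfl⟩)
    have h3 : ((χ.comp (Subgroup.inclusion hrange.ge)).comp (Subgroup.inclusion hRle)) ⟨φ x, ⟨x, rfl⟩⟩
        = (x : Ω) := by
      refine Eq.trans ?_ h2
      show χ _ = χ _
      congr 1
      exact Subtype.ext h1
    rw [h3]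
    exact hPN x.2
  · apply le_antisymm
    · rintro _ ⟨y, hy, rfl⟩
      have hyQ : (y : Ω) ∈ Q := Subgroup.mem_subgroupOf.mp hy
      have h2 : (y : Ω) ∈ (Q.subgroupOf (P ⊔ Q)).map φ' := by rw [hφ'Q]; exact hyQ
      obtain ⟨z, hz, hzy⟩ := h2
      have h3 := key z (by rw [hzy]; exact y.2)
      have h4 : (χ.comp (Subgroup.inclusion hrange.ge)) y = (z : Ω) := by
        rw [← h3]
        show χ _ = χ _
        congr 1
        exact Subtype.ext hzy.symm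
      rw [h4]
      exact Subgroup.mem_subgroupOf.mp hz
    · intro q hq
      have hq' : φ' ⟨q, (le_sup_right : Q ≤ P ⊔ Q) hq⟩ ∈ Q := by
        have : φ' ⟨q, (le_sup_right : Q ≤ P ⊔ Q) hq⟩ ∈ (Q.subgroupOf (P ⊔ Q)).map φ' :=
          ⟨_, Subgroup.mem_subgroupOf.mpr hq, rfl⟩
        rwa [hφ'Q] at this
      refine ⟨⟨φ' ⟨q, (le_sup_right : Q ≤ P ⊔ Q) hq⟩, (le_sup_right : Q ≤ φ.range ⊔ Q) hq'⟩,
        Subgroup.mem_subgroupOf.mpr hq', ?_⟩
      exact key ⟨q, (le_sup_right : Q ≤ P ⊔ Q) hq⟩ _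
  · intro x
    have h1 : φ x = φ' (Subgroup.inclusion le_sup_left x) := (hφ'φ x).symm
    have h2 := key (Subgroup.inclusion le_sup_left x) (by rw [← h1]; exact hRle ⟨x, rfl⟩)
    refine Eq.trans ?_ h2
    show χ _ = χ _
    congr 1
    exact Subtype.ext h1

/-- The normalizer fusion system `N_F(Q)`. -/
def normalizerSystem (F : FusionSystem S) (Q : Subgroup Ω) (hQ : Q ≤ S) :
    FusionSystem (normalizerIn S Q) where
  Hom P := F.normalizerHom Q P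
  le_of_mem h := ⟨h.2.1, h.2.2.1⟩
  injective_of_mem h := F.injective_of_mem h.1
  conj_mem hP hg := normalizerHom_conj_mem F hQ hP hg
  comp_mem hφ hψ h := normalizerHom_comp_mem F hφ hψ h
  inv_mem hφ := normalizerHom_inv_mem F hφ

theorem isNormalizerSystem_normalizerSystem (F : FusionSystem S) (Q : Subgroup Ω) (hQ : Q ≤ S) :
    F.IsNormalizerSystem Q (normalizerSystem F Q hQ) := fun _ => rfl

theorem centralizerHom_conj_mem (F : FusionSystem S) {Q : Subgroup Ω} (hQ : Q ≤ S) {P : Subgroup Ω}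
    {g : Ω} (hP : P ≤ centralizerIn S Q) (hg : g ∈ centralizerIn S Q) :
    conjHom P g ∈ F.centralizerHom Q P := by
  have hPS : P ≤ S := hP.trans inf_le_left
  refine ⟨F.conj_mem hPS hg.1, hP, ?_, conjHom (P ⊔ Q) g, F.conj_mem (sup_le hPS hQ) hg.1, ?_, ?_⟩
  · intro x
    exact Subgroup.mul_mem _ (Subgroup.mul_mem _ hg (hP x.2)) (Subgroup.inv_mem _ hg)
  · intro x; rfl
  · intro x
    have hgc : g ∈ Subgroup.centralizer (Q : Set Ω) := hg.2
    show g * (x : Ω) * g⁻¹ = x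
    have := hgc x x.2
    rw [← this]; group

theorem centralizerHom_comp_mem (F : FusionSystem S) {Q : Subgroup Ω} {P P' : Subgroup Ω}
    {φ : P →* Ω} {ψ : P' →* Ω} (hφ : φ ∈ F.centralizerHom Q P) (hψ : ψ ∈ F.centralizerHom Q P')
    (h : ∀ x : P, φ x ∈ P') : ψ.comp (φ.codRestrict P' h) ∈ F.centralizerHom Q P := by
  obtain ⟨hφF, hPN, hφN, φ', hφ', hφ'φ, hφ'Q⟩ := hφ
  obtain ⟨hψF, hP'N, hψN, ψ', hψ', hψ'ψ, hψ'Q⟩ := hψ
  have hval : ∀ x : ↥(P ⊔ Q), φ' x ∈ P' ⊔ Q := by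
    apply forall_mem_sup_of_comap
    · intro x
      rw [hφ'φ]
      exact (le_sup_left : P' ≤ P' ⊔ Q) (h x)
    · intro x
      rw [hφ'Q]
      exact (le_sup_right : Q ≤ P' ⊔ Q) x.2
  refine ⟨F.comp_mem hφF hψF h, hPN, fun x => hψN _, ψ'.comp (φ'.codRestrict (P' ⊔ Q) hval),
    F.comp_mem hφ' hψ' hval, ?_, ?_⟩
  · intro x
    show ψ' ⟨φ' (Subgroup.inclusion le_sup_left x), _⟩ = ψ ⟨φ x, _⟩
    rw [← hψ'ψ]
    congr 1
    exact Subtype.ext (hφ'φ x)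
  · intro x
    show ψ' ⟨φ' (Subgroup.inclusion le_sup_right x), _⟩ = x
    refine Eq.trans ?_ (hψ'Q x)
    congr 1
    exact Subtype.ext (hφ'Q x)

theorem centralizerHom_inv_mem (F : FusionSystem S) {Q : Subgroup Ω} {P : Subgroup Ω}
    {φ : P →* Ω} (hφ : φ ∈ F.centralizerHom Q P) :
    ∃ ψ ∈ F.centralizerHom Q φ.range, ∀ x : P, ψ ⟨φ x, ⟨x, rfl⟩⟩ = (x : Ω) := by
  obtain ⟨hφF, hPN, hφN, φ', hφ', hφ'φ, hφ'Q⟩ := hφ
  obtain ⟨χ, hχ, hχφ'⟩ := F.inv_mem hφ'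
  have hQmap : (Q.subgroupOf (P ⊔ Q)).map φ' = Q := by
    apply le_antisymm
    · rintro _ ⟨y, hy, rfl⟩
      have hyQ : (y : Ω) ∈ Q := Subgroup.mem_subgroupOf.mp hy
      have := hφ'Q ⟨y, hyQ⟩
      have h2 : φ' y = (y : Ω) := this
      rw [h2]; exact hyQ
    · intro q hq
      exact ⟨⟨q, (le_sup_right : Q ≤ P ⊔ Q) hq⟩, Subgroup.mem_subgroupOf.mpr hq, hφ'Q ⟨q, hq⟩⟩
  have hrange : φ'.range = φ.range ⊔ Q := by
    rw [range_eq_sup_map, hQmap, map_subgroupOf_eq_range le_sup_left φ' φ hφ'φ]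
  have hχ' := hom_congr F hrange hχ
  have hRle : φ.range ≤ φ.range ⊔ Q := le_sup_left
  have key : ∀ (y : ↥(P ⊔ Q)) (hy : φ' y ∈ φ.range ⊔ Q),
      (χ.comp (Subgroup.inclusion hrange.ge)) ⟨φ' y, hy⟩ = (y : Ω) := fun y hy => hχφ' y
  refine ⟨(χ.comp (Subgroup.inclusion hrange.ge)).comp (Subgroup.inclusion hRle),
    ⟨restrict_mem F hRle hχ', ?_, ?_, χ.comp (Subgroup.inclusion hrange.ge), hχ', fun x => rfl, ?_⟩, ?_⟩
  · rintro _ ⟨x, rfl⟩
    exact hφN x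
  · rintro ⟨_, x, rfl⟩
    have h1 : φ x = φ' (Subgroup.inclusion le_sup_left x) := (hφ'φ x).symm
    have h2 := key (Subgroup.inclusion le_sup_left x) (by rw [← h1]; exact hRle ⟨x, rfl⟩)
    have h3 : ((χ.comp (Subgroup.inclusion hrange.ge)).comp (Subgroup.inclusion hRle)) ⟨φ x, ⟨x, rfl⟩⟩
        = (x : Ω) := by
      refine Eq.trans ?_ h2
      show χ _ = χ _
      congr 1
      exact Subtype.ext h1
    rw [h3]
    exact hPN x.2
  · intro q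
    have h1 : φ' (Subgroup.inclusion le_sup_right q) = (q : Ω) := hφ'Q q
    have h2 := key (Subgroup.inclusion le_sup_right q) (by rw [h1]; exact (le_sup_right : Q ≤ φ.range ⊔ Q) q.2)
    refine Eq.trans ?_ h2
    show χ _ = χ _
    congr 1
    exact Subtype.ext h1.symm
  · intro x
    have h1 : φ x = φ' (Subgroup.inclusion le_sup_left x) := (hφ'φ x).symm
    have h2 := key (Subgroup.inclusion le_sup_left x) (by rw [← h1]; exact hRle ⟨x, rfl⟩)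
    refine Eq.trans ?_ h2
    show χ _ = χ _
    congr 1
    exact Subtype.ext h1

/-- The centralizer fusion system `C_F(Q)`. -/
def centralizerSystem (F : FusionSystem S) (Q : Subgroup Ω) (hQ : Q ≤ S) :
    FusionSystem (centralizerIn S Q) where
  Hom P := F.centralizerHom Q P
  le_of_mem h := ⟨h.2.1, h.2.2.1⟩
  injective_of_mem h := F.injective_of_mem h.1
  conj_mem hP hg := centralizerHom_conj_mem F hQ hP hg
  comp_mem hφ hψ h := centralizerHom_comp_mem F hφ hψ h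
  inv_mem hφ := centralizerHom_inv_mem F hφ

theorem isCentralizerSystem_centralizerSystem (F : FusionSystem S) (Q : Subgroup Ω) (hQ : Q ≤ S) :
    F.IsCentralizerSystem Q (centralizerSystem F Q hQ) := fun _ => rfl

end Cfsg.Agent.helper25
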