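import Cfsg.Agent.Lib_helper25_Radical
import Cfsg.Agent.Lib_helper25_NormSys

set_option autoImplicit false
set_option linter.style.haveILetI false
set_option linter.unusedVariables false

namespace Cfsg.Agent.helper25

open Cfsg Cfsg.FusionSystem

variable {Ω : Type*} [Group Ω]

/-- transport of a fusion system along an equality of the underlying subgroups. -/
def castSystem {S T : Subgroup Ω} (h : S = T) (E : FusionSystem S) : FusionSystem T := h ▸ E

theorem castSystem_hom {S T : Subgroup Ω} (h : S = T) (E : FusionSystem S) (P : Subgroup Ω) :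
    (castSystem h E).Hom P = E.Hom P := by
  subst h; rfl

variable {S : Subgroup Ω}

theorem mem_normalizer_of_aut {P : Subgroup Ω} (α : MulAut P) {g : Ω}
    (h : ∀ x : P, ((α x : P) : Ω) = g * x * g⁻¹) : g ∈ Subgroup.normalizer (P : Set Ω) := by
  apply mem_normalizer_of_surj
  · intro y hy
    rw [← h ⟨y, hy⟩]; exact (α _).2
  · intro y hy
    refine ⟨(α.symm ⟨y, hy⟩ : P), (α.symm ⟨y, hy⟩).2, ?_⟩
    rw [← h, MulEquiv.apply_symm_apply]

theorem isNormal_le_normalizer (F : FusionSystem S) {Q : Subgroup Ω} (hQ : F.IsNormal Q) :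
    S ≤ Subgroup.normalizer (Q : Set Ω) := by
  apply le_normalizer_of_conj_mem
  intro s hs q hq
  obtain ⟨ψ, hψ, hψ1, hψ2⟩ := hQ.2 S (conjHom S s) (F.conj_mem le_rfl hs)
  have h1 := hψ1 ⟨q, hQ.1 hq⟩
  have h2 : ψ (Subgroup.inclusion le_sup_left ⟨q, hQ.1 hq⟩) ∈ Q :=
    hψ2.le ⟨_, Subgroup.mem_subgroupOf.mpr hq, rfl⟩
  rw [h1] at h2; exact h2

theorem map_aut_eq_of_forall {P : Subgroup Ω} (A : Subgroup (MulAut P)) (K : Subgroup P)
    (key : ∀ β ∈ A, ∀ z ∈ K, β z ∈ K) {α : MulAut P} (hα : α ∈ A) :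
    K.map α.toMonoidHom = K := by
  apply le_antisymm
  · rintro _ ⟨z, hz, rfl⟩
    exact key α hα z hz
  · intro z hz
    refine ⟨α⁻¹ z, key α⁻¹ (inv_mem hα) z hz, ?_⟩
    show α (α⁻¹ z) = z
    rw [MulAut.apply_inv_self]

theorem isNormal_aut_invariant (F : FusionSystem S) {Q P : Subgroup Ω} (hQ : F.IsNormal Q)
    (hPS : P ≤ S) (hQP : Q ≤ P) {α : MulAut P} (hα : α ∈ F.autGroup P) :
    (Q.subgroupOf P).map α.toMonoidHom = Q.subgroupOf P := by
  apply map_aut_eq_of_forall (F.autGroup P) _ _ hα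
  intro β hβ z hz
  have hβ' : IsFIso F β := (mem_autGroup_iff F hPS β).mp hβ
  obtain ⟨ψ, hψ, hψ1, hψ2⟩ := hQ.2 P _ hβ'
  have h1 := hψ1 z
  have h2 : ψ (Subgroup.inclusion le_sup_left z) ∈ Q :=
    hψ2.le ⟨_, Subgroup.mem_subgroupOf.mpr (Subgroup.mem_subgroupOf.mp hz), rfl⟩
  rw [h1] at h2
  exact Subgroup.mem_subgroupOf.mpr h2

theorem stronglyClosed_aut_invariant (F : FusionSystem S) {Q P : Subgroup Ω}
    (hQ : F.StronglyClosed Q) (hPS : P ≤ S) (hQP : Q ≤ P) {α : MulAut P}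
    (hα : α ∈ F.autGroup P) :
    (Q.subgroupOf P).map α.toMonoidHom = Q.subgroupOf P := by
  apply map_aut_eq_of_forall (F.autGroup P) _ _ hα
  intro β hβ z hz
  have hβ' : IsFIso F β := (mem_autGroup_iff F hPS β).mp hβ
  have hres := restrict_mem F hQP hβ'
  have h1 := hQ.2 Q le_rfl _ hres ⟨z, Subgroup.mem_subgroupOf.mp hz⟩
  exact Subgroup.mem_subgroupOf.mpr h1

/-- an element of `N_S(P)` inducing an inner automorphism of a centric `P` lies in `P`. -/
theorem mem_of_normAut_mem_inn (F : FusionSystem S) {P : Subgroup Ω} (hPc : F.IsCentric P)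
    {g : Ω} (hg : g ∈ normalizerIn S P) (h : normAut P g hg.2 ∈ Inn P) : g ∈ P := by
  have hPS := hPc.1
  obtain ⟨r, hr⟩ := h
  have hc : (r : Ω)⁻¹ * g ∈ centralizerIn S P := by
    refine ⟨S.mul_mem (S.inv_mem (hPS r.2)) hg.1, Subgroup.mem_centralizer_iff.mpr ?_⟩
    intro x hx
    have h3 := congrArg (fun f : MulAut P => ((f ⟨x, hx⟩ : P) : Ω)) hr
    have h3' : (r : Ω) * x * (r : Ω)⁻¹ = g * x * g⁻¹ := h3
    have h6 : x = (r : Ω)⁻¹ * (g * x * g⁻¹) * r := by rw [← h3']; group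
    calc x * ((r : Ω)⁻¹ * g) = ((r : Ω)⁻¹ * (g * x * g⁻¹) * r) * ((r : Ω)⁻¹ * g) := by
          rw [← h6]
      _ = (r : Ω)⁻¹ * g * x := by group
  have h4 := hPc.2 P (isConj_refl F hPS) hc
  have h7 : g = (r : Ω) * ((r : Ω)⁻¹ * g) := by group
  rw [h7]; exact P.mul_mem r.2 h4

/-- if `Q ⊴ S` and `N_Q(P) ≤ P` then `Q ≤ P`. -/
theorem le_of_normalizer_inf_le [Finite S] {p : ℕ} [Fact p.Prime] (hS : IsPGroup p S)
    {P Q : Subgroup Ω} (hPS : P ≤ S) (hQS : Q ≤ S) (hSN : S ≤ Subgroup.normalizer (Q : Set Ω))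
    (hNQ : Q ⊓ Subgroup.normalizer (P : Set Ω) ≤ P) : Q ≤ P := by
  by_contra hQP
  have hlt : P < P ⊔ Q :=
    lt_of_le_of_ne le_sup_left (fun h => hQP (le_sup_right.trans h.ge))
  have hDS : P ⊔ Q ≤ S := sup_le hPS hQS
  haveI : Finite ↥(P ⊔ Q) := finite_of_le S hDS
  have hD : IsPGroup p ↥(P ⊔ Q) := hS.to_le hDS
  obtain ⟨x, hxN, hxP⟩ := SetLike.exists_of_lt (lt_normalizerIn hD hlt)
  have hxD : x ∈ ((P ⊔ Q : Subgroup Ω) : Set Ω) := hxN.1
  rw [Subgroup.coe_mul_of_left_le_normalizer_right P Q (hPS.trans hSN)] at hxD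
  obtain ⟨a, ha, b, hb, rfl⟩ := hxD
  apply hxP
  have hbN : b ∈ Subgroup.normalizer (P : Set Ω) := by
    have e : b = a⁻¹ * (a * b) := by group
    rw [e]
    exact mul_mem (inv_mem (Subgroup.le_normalizer ha)) hxN.2
  exact P.mul_mem ha (hNQ ⟨hb, hbN⟩)

/-- a subgroup normal in the system lies in every centric radical subgroup. -/
theorem isNormal_le_of_centric_radical [Finite S] {p : ℕ} [Fact p.Prime] (hS : IsPGroup p S)
    (F : FusionSystem S) {Q P : Subgroup Ω} (hQ : F.IsNormal Q) (hPc : F.IsCentric P)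
    (hPr : F.IsRadical p P) : Q ≤ P := by
  have hPS : P ≤ S := hPc.1
  have hQS : Q ≤ S := hQ.1
  have hSN := isNormal_le_normalizer F hQ
  haveI : Finite P := finite_of_le S hPS
  have hB_le : autInducedBy (Q ⊓ Subgroup.normalizer (P : Set Ω)) P ≤ autInducedBy S P :=
    autInducedBy_mono (inf_le_left.trans hQS) P
  have hnormal : ((autInducedBy (Q ⊓ Subgroup.normalizer (P : Set Ω)) P).subgroupOf
      (F.autGroup P)).Normal := by
    constructor
    intro n hn a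
    rw [Subgroup.mem_subgroupOf] at hn ⊢
    obtain ⟨g, hg, hng⟩ := (mem_autInducedBy_iff _ P _).mp hn
    have ha' : IsFIso F (a : MulAut P) := (mem_autGroup_iff F hPS _).mp a.2
    obtain ⟨ψ, hψ, hψ1, hψ2⟩ := hQ.2 P _ ha'
    have hgD : g ∈ P ⊔ Q := (le_sup_right : Q ≤ P ⊔ Q) hg.1
    have hg'Q : ψ ⟨g, hgD⟩ ∈ Q :=
      hψ2.le ⟨_, Subgroup.mem_subgroupOf.mpr hg.1, rfl⟩
    have hformula : ∀ x : P, ((((a : MulAut P) * (n : MulAut P) * (a : MulAut P)⁻¹) x : P) : Ω) =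
        ψ ⟨g, hgD⟩ * x * (ψ ⟨g, hgD⟩)⁻¹ := by
      intro x
      show ((((a : MulAut P) ((n : MulAut P) ((a : MulAut P)⁻¹ x))) : P) : Ω) = _
      have h1 := hψ1 ((n : MulAut P) ((a : MulAut P)⁻¹ x))
      have h1' : (((a : MulAut P) ((n : MulAut P) ((a : MulAut P)⁻¹ x)) : P) : Ω) =
          ψ (Subgroup.inclusion le_sup_left ((n : MulAut P) ((a : MulAut P)⁻¹ x))) := h1.symm
      rw [h1']
      have h2 : Subgroup.inclusion (le_sup_left : P ≤ P ⊔ Q) ((n : MulAut P) ((a : MulAut P)⁻¹ x)) =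
          ⟨g, hgD⟩ * Subgroup.inclusion le_sup_left ((a : MulAut P)⁻¹ x) * ⟨g, hgD⟩⁻¹ := by
        apply Subtype.ext
        exact hng _
      rw [h2, map_mul, map_mul, map_inv, hψ1]
      show ψ ⟨g, hgD⟩ * (((a : MulAut P) ((a : MulAut P)⁻¹ x) : P) : Ω) * (ψ ⟨g, hgD⟩)⁻¹ = _
      rw [MulAut.apply_inv_self]
    rw [mem_autInducedBy_iff]
    exact ⟨ψ ⟨g, hgD⟩, ⟨hg'Q, mem_normalizer_of_aut _ hformula⟩, hformula⟩
  have hHp : IsPGroup p ((autInducedBy (Q ⊓ Subgroup.normalizer (P : Set Ω)) P).subgroupOf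
      (F.autGroup P)) :=
    isPGroup_subgroupOf _ ((isPGroup_autInducedBy hS P).to_le hB_le)
  have hle := le_pCore_h25 hnormal hHp
  apply le_of_normalizer_inf_le hS hPS hQS hSN
  intro g hg
  have hgN : g ∈ normalizerIn S P := ⟨hQS hg.1, hg.2⟩
  have h1 : normAut P g hg.2 ∈ autInducedBy (Q ⊓ Subgroup.normalizer (P : Set Ω)) P :=
    (mem_autInducedBy_iff _ P _).mpr ⟨g, hg, fun x => rfl⟩
  have h2 : normAut P g hg.2 ∈ F.autGroup P :=
    autInducedBy_le_autGroup F hPS (hB_le h1)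
  have h3 : normAut P g hg.2 ∈ Inn P := by
    rw [← hPr.2]
    exact ⟨⟨_, h2⟩, hle (Subgroup.mem_subgroupOf.mpr h1), rfl⟩
  exact mem_of_normAut_mem_inn F hPc hgN h3

/-- characterization of normal subgroups through `S` and the essential subgroups. -/
theorem isNormal_iff_essential [Finite S] {p : ℕ} [Fact p.Prime] (hS : IsPGroup p S)
    (F : FusionSystem S) (hF : F.IsSaturated p) (Q : Subgroup Ω) :
    F.IsNormal Q ↔ ∀ P : Subgroup Ω, (P = S ∨ F.IsEssential p P) →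
      (Q ≤ P ∧ ∀ α ∈ F.autGroup P, (Q.subgroupOf P).map α.toMonoidHom = Q.subgroupOf P) := by
  constructor
  · intro hQ P hP
    have hQP : Q ≤ P := by
      rcases hP with rfl | hP
      · exact hQ.1
      · exact isNormal_le_of_centric_radical hS F hQ hP.1 (isRadical_of_isEssential hS F hP)
    have hPS : P ≤ S := by
      rcases hP with rfl | hP
      · exact le_rfl
      · exact hP.1.1
    exact ⟨hQP, fun α hα => isNormal_aut_invariant F hQ hPS hQP hα⟩
  · intro h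
    obtain ⟨hQS, hSinv⟩ := h S (Or.inl rfl)
    have hSN : S ≤ Subgroup.normalizer (Q : Set Ω) := by
      apply le_normalizer_of_conj_mem
      intro s hs q hq
      have hsN : s ∈ normalizerIn S S := ⟨hs, Subgroup.le_normalizer hs⟩
      have hα : normAut S s hsN.2 ∈ F.autGroup S :=
        autInducedBy_le_autGroup F le_rfl (normAut_mem S S hsN)
      have h1 := hSinv _ hα
      have h2 : (normAut S s hsN.2) ⟨q, hQS hq⟩ ∈ Q.subgroupOf S :=
        h1.le ⟨_, Subgroup.mem_subgroupOf.mpr hq, rfl⟩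
      exact Subgroup.mem_subgroupOf.mp h2
    have hNS : normalizerIn S Q = S := inf_eq_left.mpr hSN
    have hE'hom : ∀ P, (castSystem hNS (normalizerSystem F Q hQS)).Hom P = F.normalizerHom Q P :=
      fun P => castSystem_hom hNS _ P
    have hFE : ∀ P, F.Hom P ⊆ (castSystem hNS (normalizerSystem F Q hQS)).Hom P := by
      apply alperin hS F hF
      intro P hP α hα
      obtain ⟨hQP, hinv⟩ := h P hP
      have hPS : P ≤ S := by
        rcases hP with rfl | hP
        · exact le_rfl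
        · exact hP.1.1
      rw [mem_autGroup_iff _ hPS]
      unfold IsFIso
      rw [hE'hom]
      have hαF : IsFIso F α := (mem_autGroup_iff F hPS α).mp hα
      refine ⟨hαF, le_inf hPS (hPS.trans hSN),
        fun x => ⟨hPS (α x).2, hSN (hPS (α x).2)⟩, ?_⟩
      have hPQ : P = P ⊔ Q := (sup_eq_left.mpr hQP).symm
      refine ⟨_, hom_congr F hPQ hαF, fun x => rfl, ?_⟩
      have hα1 := hinv α hα
      apply le_antisymm
      · rintro _ ⟨y, hy, rfl⟩
        have hyQ : (y : Ω) ∈ Q := Subgroup.mem_subgroupOf.mp hy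
        have h3 : α ⟨y, hPQ.ge y.2⟩ ∈ Q.subgroupOf P :=
          hα1.le ⟨_, Subgroup.mem_subgroupOf.mpr hyQ, rfl⟩
        exact Subgroup.mem_subgroupOf.mp h3
      · intro q hq
        have h3 : (⟨q, hQP hq⟩ : P) ∈ (Q.subgroupOf P).map α.toMonoidHom :=
          hα1.ge (Subgroup.mem_subgroupOf.mpr hq)
        obtain ⟨z, hz, hzq⟩ := h3
        refine ⟨⟨z, (le_sup_left : P ≤ P ⊔ Q) z.2⟩,
          Subgroup.mem_subgroupOf.mpr (Subgroup.mem_subgroupOf.mp hz), ?_⟩
        exact congrArg Subtype.val hzq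
    refine ⟨hQS, ?_⟩
    intro P φ hφ
    have h1 := hFE P hφ
    rw [hE'hom] at h1
    exact h1.2.2.2

/-- characterization of normal subgroups: strongly closed and contained in every centric radical
subgroup. -/
theorem isNormal_iff_stronglyClosed [Finite S] {p : ℕ} [Fact p.Prime] (hS : IsPGroup p S)
    (F : FusionSystem S) (hF : F.IsSaturated p) (Q : Subgroup Ω) :
    F.IsNormal Q ↔ (F.StronglyClosed Q ∧
      ∀ P : Subgroup Ω, F.IsCentric P → F.IsRadical p P → Q ≤ P) := by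
  constructor
  · intro hQ
    refine ⟨⟨hQ.1, ?_⟩, fun P hPc hPr => isNormal_le_of_centric_radical hS F hQ hPc hPr⟩
    intro R hRQ φ hφ x
    obtain ⟨ψ, hψ, hψ1, hψ2⟩ := hQ.2 R φ hφ
    rw [← hψ1 x]
    exact hψ2.le ⟨_, Subgroup.mem_subgroupOf.mpr (hRQ x.2), rfl⟩
  · rintro ⟨hsc, hcr⟩
    rw [isNormal_iff_essential hS F hF]
    intro P hP
    have hQP : Q ≤ P := by
      rcases hP with rfl | hP
      · exact hsc.1
      · exact hcr P hP.1 (isRadical_of_isEssential hS F hP)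
    have hPS : P ≤ S := by
      rcases hP with rfl | hP
      · exact le_rfl
      · exact hP.1.1
    exact ⟨hQP, fun α hα => stronglyClosed_aut_invariant F hsc hPS hQP hα⟩

end Cfsg.Agent.helper25
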