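import Cfsg.Agent.Lib_helper25_NormSat5
import Cfsg.Agent.Lib_helper25_Model
import Cfsg.Agent.Lib_helper25_NormalChar

set_option autoImplicit false
set_option linter.style.haveILetI false
set_option linter.unusedVariables false
set_option maxHeartbeats 1000000

namespace Cfsg.Agent.helper25

open Cfsg Cfsg.FusionSystem

section Model

variable {Ω : Type*} [Group Ω] {S : Subgroup Ω} {G : Type*} [Group G]

/-- in a model, a subgroup normal in the system has normal image. -/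
theorem model_normal_of_isNormal {F : FusionSystem S} {p : ℕ} [Fact p.Prime] {ι : S →* G}
    (hG : F.IsModel p G ι) {Q : Subgroup Ω} (hQ : F.IsNormal Q) : (im ι Q).Normal := by
  obtain ⟨hfin, hF, ⟨T, hT⟩, hC⟩ := hG
  haveI := hfin
  haveI hOn := pCore_normal_h25 p G
  have hO : Cfsg.pCore p G ≤ ι.range := hT ▸ pCore_le_sylow_h25 T
  have hUS : pre ι (Cfsg.pCore p G) ≤ S := pre_le ι _
  have hU : im ι (pre ι (Cfsg.pCore p G)) = Cfsg.pCore p G := im_pre ι hO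
  have hSQ := isNormal_le_normalizer F hQ
  constructor
  intro n hn g
  have hle : cj g (im ι (pre ι (Cfsg.pCore p G))) ≤ ι.range := by
    rw [hU]
    rintro _ ⟨z, hz, rfl⟩
    exact hO (hOn.conj_mem z hz g)
  obtain ⟨φ, hφS, hφ, hφι⟩ := exists_hom_of_cj_le hF hUS hle
  obtain ⟨ψ, hψ, hψext, hψQ⟩ := hQ.2 _ φ hφ
  obtain ⟨hUQ, hψS, h, hh⟩ := exists_of_mem_hom hF hψ
  have hk : g⁻¹ * h ∈ Cfsg.pCore p G := by
    apply hC
    rw [Subgroup.mem_centralizer_iff]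
    intro y hy
    have hy' : y ∈ im ι (pre ι (Cfsg.pCore p G)) := by rw [hU]; exact hy
    obtain ⟨s, hs, rfl⟩ := (mem_im_iff ι _ y).mp hy'
    have h1 := hφι ⟨s, hs⟩
    have h2 := hh (Subgroup.inclusion le_sup_left ⟨s, hs⟩)
    have h3 : ι ⟨ψ (Subgroup.inclusion le_sup_left ⟨s, hs⟩), hψS _⟩ =
        ι ⟨φ ⟨s, hs⟩, hφS _⟩ := congrArg ι (Subtype.ext (hψext ⟨s, hs⟩))
    have h4 : h * ι s * h⁻¹ = g * ι s * g⁻¹ := by
      rw [h3, h1] at h2
      exact h2.symm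
    calc ι s * (g⁻¹ * h) = g⁻¹ * (g * ι s * g⁻¹) * h := by group
      _ = g⁻¹ * (h * ι s * h⁻¹) * h := by rw [h4]
      _ = g⁻¹ * h * ι s := by group
  have hk' : g⁻¹ * h ∈ im ι (pre ι (Cfsg.pCore p G)) := by rw [hU]; exact hk
  obtain ⟨u, hu, huk⟩ := (mem_im_iff ι _ _).mp hk'
  have h5 : (ι u)⁻¹ * n * (ι u)⁻¹⁻¹ ∈ im ι Q := by
    have h6 := conj_mem_im ι (P := Q) (a := (u⁻¹ : S)) (S.inv_mem u.2)
      (Subgroup.inv_mem _ (hSQ u.2)) hn
    have e : ι ⟨((u⁻¹ : S) : Ω), S.inv_mem u.2⟩ = (ι u)⁻¹ := by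
      rw [← map_inv]
    rw [e] at h6
    exact h6
  obtain ⟨q, hq, hqe⟩ := (mem_im_iff ι Q _).mp h5
  have h7 := hh ⟨q, (le_sup_right : Q ≤ _ ⊔ Q) hq⟩
  have h8 : ψ ⟨q, (le_sup_right : Q ≤ _ ⊔ Q) hq⟩ ∈ Q :=
    hψQ.le ⟨_, Subgroup.mem_subgroupOf.mpr hq, rfl⟩
  have e9 : g * n * g⁻¹ = h * ι q * h⁻¹ := by
    rw [hqe, huk]; group
  rw [e9]
  have e10 : ι ⟨(q : Ω), hUQ ((le_sup_right : Q ≤ _ ⊔ Q) hq)⟩ = ι q := rfl
  rw [e10] at h7
  rw [← h7]
  exact mem_im ι h8 _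

end Model

section Radical

variable {Ω : Type*} [Group Ω] {S : Subgroup Ω}

/-- a normal `p`-subgroup of `Aut_F(R)` consists of inner automorphisms when `R` is radical. -/
theorem le_inn_of_normal_of_radical {p : ℕ} (F : FusionSystem S) {R : Subgroup Ω}
    (hRr : F.IsRadical p R) {A : Subgroup (MulAut R)} (hAF : A ≤ F.autGroup R)
    (hAp : IsPGroup p A) (hAn : ∀ α ∈ F.autGroup R, ∀ a ∈ A, α * a * α⁻¹ ∈ A) :
    A ≤ Inn R := by
  have hn : (A.subgroupOf (F.autGroup R)).Normal := by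
    constructor
    intro a ha α
    exact Subgroup.mem_subgroupOf.mpr (hAn α α.2 a (Subgroup.mem_subgroupOf.mp ha))
  have hp : IsPGroup p (A.subgroupOf (F.autGroup R)) :=
    hAp.of_equiv (Subgroup.subgroupOfEquivOfLe hAF).symm
  have hle := le_pCore_h25 hn hp
  intro a ha
  rw [← hRr.2]
  exact ⟨⟨a, hAF ha⟩, hle (Subgroup.mem_subgroupOf.mpr ha), rfl⟩

end Radical

section NormSelf

variable {Ω : Type*} [Group Ω] {S : Subgroup Ω}

/-- `R` is normal in `N_F(R)`. -/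
theorem normalizerSystem_isNormal_self [Finite S] (F : FusionSystem S) {R : Subgroup Ω}
    (hRS : R ≤ S) (E : FusionSystem (normalizerIn S R)) (hE : F.IsNormalizerSystem R E) :
    E.IsNormal R := by
  haveI : Finite R := finite_of_le S hRS
  refine ⟨le_normalizerIn hRS, fun P φ hφ => ?_⟩
  rw [hE P] at hφ
  obtain ⟨hφF, hPN, hφN, ψ, hψ, hψext, hψR⟩ := hφ
  refine ⟨ψ, ?_, hψext, hψR⟩
  rw [hE]
  have hsup : P ⊔ R ≤ normalizerIn S R := sup_le hPN (le_normalizerIn hRS)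
  have h2 : (P ⊔ R) ⊔ R ≤ P ⊔ R := sup_le le_rfl le_sup_right
  refine ⟨hψ, hsup, ?_, ψ.comp (Subgroup.inclusion h2), restrict_mem F h2 hψ, fun x => rfl, ?_⟩
  · intro x
    refine ⟨(F.le_of_mem hψ).2 x, ?_⟩
    apply Subgroup.mem_normalizer_fintype
    intro y hy
    obtain ⟨z, hz, rfl⟩ := hψR.ge hy
    have hzR : (z : Ω) ∈ R := Subgroup.mem_subgroupOf.mp hz
    have hxN : (x : Ω) ∈ Subgroup.normalizer (R : Set Ω) := (hsup x.2).2
    have hc : (x : Ω) * z * (x : Ω)⁻¹ ∈ R := (Subgroup.mem_normalizer_iff.mp hxN z).mp hzR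
    rw [SetLike.mem_coe, ← map_inv, ← map_mul, ← map_mul]
    exact hψR.le ⟨x * z * x⁻¹, Subgroup.mem_subgroupOf.mpr hc, rfl⟩
  · rw [map_comp_inclusion h2 le_sup_right ψ]
    exact hψR

/-- every map of `N_F(R)` with source `R` has image `R`. -/
theorem normalizerSystem_range_self (F : FusionSystem S) {R : Subgroup Ω}
    (E : FusionSystem (normalizerIn S R)) (hE : F.IsNormalizerSystem R E) {φ : R →* Ω}
    (hφ : φ ∈ E.Hom R) : φ.range = R := by
  rw [hE R] at hφ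
  obtain ⟨hφF, hPN, hφN, ψ, hψ, hψext, hψR⟩ := hφ
  rw [← map_subgroupOf_eq_range le_sup_left ψ φ hψext]
  exact hψR

/-- a centric subgroup is centric in its normalizer system. -/
theorem normalizerSystem_isCentric_self (F : FusionSystem S) {R : Subgroup Ω}
    (hRc : F.IsCentric R) (E : FusionSystem (normalizerIn S R)) (hE : F.IsNormalizerSystem R E) :
    E.IsCentric R := by
  have hRS := hRc.1
  refine ⟨le_normalizerIn hRS, ?_⟩
  rintro Q' ⟨φ, hφ, rfl⟩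
  rw [normalizerSystem_range_self F E hE hφ]
  intro c hc
  exact hRc.2 R (isConj_refl F hRS) ⟨hc.1.1, hc.2⟩

/-- `Aut_F(R)` lies in `Aut_{N_F(R)}(R)`. -/
theorem isFIso_normalizerSystem_self (F : FusionSystem S) {R : Subgroup Ω} (hRS : R ≤ S)
    (E : FusionSystem (normalizerIn S R)) (hE : F.IsNormalizerSystem R E) {α : MulAut R}
    (hα : IsFIso F α) : IsFIso E α := by
  unfold IsFIso
  rw [hE]
  have h2 : R ⊔ R ≤ R := sup_le le_rfl le_rfl
  refine ⟨hα, le_normalizerIn hRS, fun x => le_normalizerIn hRS (α x).2,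
    (R.subtype.comp α.toMonoidHom).comp (Subgroup.inclusion h2), restrict_mem F h2 hα,
    fun x => rfl, ?_⟩
  rw [map_comp_inclusion h2 le_sup_right, Subgroup.subgroupOf_self, ← MonoidHom.range_eq_map]
  exact range_subtype_comp α

end NormSelf

end Cfsg.Agent.helper25
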