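import Cfsg.Agent.Lib_helper25_NormConstr

set_option autoImplicit false
set_option linter.style.haveILetI false
set_option linter.unusedVariables false
set_option maxHeartbeats 1000000

namespace Cfsg.Agent.helper25

open Cfsg Cfsg.FusionSystem

variable {Ω : Type*} [Group Ω] {S : Subgroup Ω}

/-- a subgroup `U ⊇ R` normal in `N_F(R)` equals `R` when `R` is centric and radical. -/
theorem le_of_isNormal_normalizerSystem [Finite S] {p : ℕ} [Fact p.Prime] (hS : IsPGroup p S)
    (F : FusionSystem S) {R U : Subgroup Ω} (hRc : F.IsCentric R) (hRr : F.IsRadical p R)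
    (E : FusionSystem (normalizerIn S R)) (hE : F.IsNormalizerSystem R E)
    (hU : E.IsNormal U) : U ≤ R := by
  have hRS := hRc.1
  have hUN : U ≤ normalizerIn S R := hU.1
  have hUS : U ≤ S := hUN.trans inf_le_left
  have hAF : autInducedBy U R ≤ F.autGroup R :=
    (autInducedBy_mono hUS R).trans (autInducedBy_le_autGroup F hRS)
  have hAp : IsPGroup p (autInducedBy U R) := isPGroup_autInducedBy (hS.to_le hUS) R
  have hAn : ∀ α ∈ F.autGroup R, ∀ a ∈ autInducedBy U R, α * a * α⁻¹ ∈ autInducedBy U R := by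
    intro α hα a ha
    obtain ⟨u, hu, rfl⟩ := (mem_autInducedBy_iff' U R a).mp ha
    have hαF : IsFIso F α := (mem_autGroup_iff F hRS α).mp hα
    have hαE : R.subtype.comp α.toMonoidHom ∈ E.Hom R :=
      isFIso_normalizerSystem_self F hRS E hE hαF
    obtain ⟨ψ, hψ, hψext, hψU⟩ := hU.2 R _ hαE
    have huU : u ∈ U := hu.1
    have hψu : ψ ⟨u, (le_sup_right : U ≤ R ⊔ U) huU⟩ ∈ U :=
      hψU.le ⟨_, Subgroup.mem_subgroupOf.mpr huU, rfl⟩
    apply (mem_autInducedBy_iff U R _).mpr
    refine ⟨_, hψu, fun y => ?_⟩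
    show ((α (normAut R u hu.2 (α⁻¹ y)) : R) : Ω) = _
    have h1 := hψext (normAut R u hu.2 (α⁻¹ y))
    have h1' : ((α (normAut R u hu.2 (α⁻¹ y)) : R) : Ω) =
        ψ (Subgroup.inclusion le_sup_left (normAut R u hu.2 (α⁻¹ y))) := h1.symm
    have h2 := hψext (α⁻¹ y)
    have h2' : ψ (Subgroup.inclusion le_sup_left (α⁻¹ y)) = (y : Ω) := by
      rw [h2]
      show ((α (α⁻¹ y) : R) : Ω) = y
      rw [MulAut.apply_inv_self]
    have e3 : Subgroup.inclusion (le_sup_left : R ≤ R ⊔ U) (normAut R u hu.2 (α⁻¹ y)) =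
        ⟨u, (le_sup_right : U ≤ R ⊔ U) huU⟩ * Subgroup.inclusion le_sup_left (α⁻¹ y) *
          ⟨u, (le_sup_right : U ≤ R ⊔ U) huU⟩⁻¹ := Subtype.ext rfl
    rw [h1', e3, map_mul, map_mul, map_inv, h2']
  have hle := le_inn_of_normal_of_radical F hRr hAF hAp hAn
  intro u hu
  have huN := hUN hu
  apply mem_of_normAut_mem_inn F hRc huN
  apply hle
  exact normAut_mem U R ⟨hu, huN.2⟩

/-- **the normalizer system of a fully normalized centric radical subgroup is constrained, and
`R` is the largest normal `p`-subgroup of any model.** -/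
theorem normalizer_constrained [Finite S] {p : ℕ} [Fact p.Prime] (hS : IsPGroup p S)
    (F : FusionSystem S) (hF : F.IsSaturated p) {R : Subgroup Ω} (hRn : F.IsFullyNormalized R)
    (hRc : F.IsCentric R) (hRr : F.IsRadical p R) (E : FusionSystem (normalizerIn S R))
    (hE : F.IsNormalizerSystem R E) {G : Type*} [Group G] (ι : ↥(normalizerIn S R) →* G) :
    E.IsConstrained p ∧ (E.IsModel p G ι →
      (Cfsg.pCore p G : Subgroup G) = (R.subgroupOf (normalizerIn S R)).map ι) := by
  have hRS := hRc.1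
  have hRN : R ≤ normalizerIn S R := le_normalizerIn hRS
  have hRnorm := normalizerSystem_isNormal_self F hRS E hE
  refine ⟨⟨normalizer_isSaturated hS F hF hRn E hE, R, hRnorm,
    normalizerSystem_isCentric_self F hRc E hE⟩, fun hG => ?_⟩
  have hnormal : (im ι R).Normal := model_normal_of_isNormal hG hRnorm
  obtain ⟨hfin, hreal, ⟨T, hT⟩, hC⟩ := hG
  haveI := hfin
  haveI hOn := pCore_normal_h25 p G
  have hO : Cfsg.pCore p G ≤ ι.range := hT ▸ pCore_le_sylow_h25 T
  have hU : im ι (pre ι (Cfsg.pCore p G)) = Cfsg.pCore p G := im_pre ι hO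
  have hUnorm : E.IsNormal (pre ι (Cfsg.pCore p G)) := realized_isNormal_pre hreal _ hO
  have hNp : IsPGroup p (normalizerIn S R) := hS.to_le inf_le_left
  have hRp : IsPGroup p (im ι R) := (hNp.to_subgroup _).map ι
  have h1 : im ι R ≤ Cfsg.pCore p G := le_pCore_h25 hnormal hRp
  have h2 : pre ι (Cfsg.pCore p G) ≤ R :=
    le_of_isNormal_normalizerSystem hS F hRc hRr E hE hUnorm
  apply le_antisymm
  · rw [← hU]
    exact im_mono ι h2
  · exact h1

end Cfsg.Agent.helper25
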