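import Cfsg.Agent.Lib_helper25_FactorSat2
import Cfsg.Agent.Lib_helper25_NormalChar

set_option autoImplicit false
set_option linter.style.haveILetI false
set_option linter.unusedVariables false

namespace Cfsg.Agent.helper25

open Cfsg Cfsg.FusionSystem

section Generic

variable {G : Type*} [Group G]

theorem isSylowIn_of_le_of_isPGroup [Finite G] {p : ℕ} [Fact p.Prime] {H H' K : Subgroup G}
    (hs : IsSylowIn p H K) (hHK : H ≤ K) (hHH' : H ≤ H') (hH'K : H' ≤ K)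
    (hp : IsPGroup p H') : IsSylowIn p H' K := by
  rw [isSylowIn_iff_card hH'K]
  have h1 := (isSylowIn_iff_card hHK).mp hs
  apply le_antisymm (card_le_of_isPGroup_le hH'K hp)
  rw [← h1]
  exact Nat.le_of_dvd Nat.card_pos (Subgroup.card_dvd_of_le hHH')

theorem isSylowIn_map_of_injective {G' : Type*} [Group G'] [Finite G] [Finite G'] {p : ℕ}
    [Fact p.Prime] {H K : Subgroup G} (hHK : H ≤ K) (f : G →* G') (hf : Function.Injective f)
    (hs : IsSylowIn p H K) : IsSylowIn p (H.map f) (K.map f) := by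
  rw [isSylowIn_iff_card (Subgroup.map_mono hHK)]
  rw [Subgroup.card_map_of_injective hf, Subgroup.card_map_of_injective hf]
  exact (isSylowIn_iff_card hHK).mp hs

end Generic

section Res

variable {Ω : Type*} [Group Ω]

/-- automorphisms of `R` stabilizing `P ∩ R`. -/
def stabIn (R P : Subgroup Ω) : Subgroup (MulAut R) where
  carrier := {α | ∀ x : R, ((α x : R) : Ω) ∈ P ↔ (x : Ω) ∈ P}
  one_mem' := fun x => Iff.rfl
  mul_mem' := fun {a b} ha hb x => (ha (b x)).trans (hb x)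
  inv_mem' := fun {a} ha x => by
    have h := ha (a⁻¹ x)
    rw [MulAut.apply_inv_self] at h
    exact h.symm

theorem mem_stabIn_of_forall {R P : Subgroup Ω} [Finite R] (α : MulAut R)
    (h : ∀ x : R, (x : Ω) ∈ P → ((α x : R) : Ω) ∈ P) : α ∈ stabIn R P := by
  intro x
  refine ⟨fun hx => ?_, h x⟩
  let f : {y : R // (y : Ω) ∈ P} → {y : R // (y : Ω) ∈ P} := fun y => ⟨α y.1, h y.1 y.2⟩
  have hf : Function.Injective f := fun a b hab =>
    Subtype.ext (α.injective (congrArg Subtype.val hab))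
  obtain ⟨y, hy⟩ := (Finite.injective_iff_surjective.mp hf) ⟨α x, hx⟩
  have h1 : α y.1 = α x := congrArg Subtype.val hy
  rw [← α.injective h1]; exact y.2

theorem congr_mem_stabIn {R R' P P' : Subgroup Ω} (e : R ≃* R')
    (h : ∀ x : R, ((e x : R') : Ω) ∈ P' ↔ (x : Ω) ∈ P) {α : MulAut R}
    (hα : α ∈ stabIn R P) : MulAut.congr e α ∈ stabIn R' P' := by
  intro y
  show ((e (α (e.symm y)) : R') : Ω) ∈ P' ↔ (y : Ω) ∈ P'
  rw [h, hα (e.symm y), ← h, MulEquiv.apply_symm_apply]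

/-- restriction of an automorphism of `R` stabilizing `P ≤ R` to `P`. -/
def resAutEquiv {R P : Subgroup Ω} (hPR : P ≤ R) (α : stabIn R P) : MulAut P where
  toFun x := ⟨(((α : MulAut R) ⟨x, hPR x.2⟩ : R) : Ω), (α.2 ⟨x, hPR x.2⟩).mpr x.2⟩
  invFun x := ⟨(((α : MulAut R)⁻¹ ⟨x, hPR x.2⟩ : R) : Ω), ((α⁻¹).2 ⟨x, hPR x.2⟩).mpr x.2⟩
  left_inv x := by
    apply Subtype.ext
    have e : (⟨(((α : MulAut R) ⟨x, hPR x.2⟩ : R) : Ω),
        hPR ((α.2 ⟨x, hPR x.2⟩).mpr x.2)⟩ : R) = (α : MulAut R) ⟨x, hPR x.2⟩ := Subtype.ext rfl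
    show (((α : MulAut R)⁻¹ ⟨(((α : MulAut R) ⟨x, hPR x.2⟩ : R) : Ω),
        hPR ((α.2 ⟨x, hPR x.2⟩).mpr x.2)⟩ : R) : Ω) = x
    rw [e, MulAut.inv_apply_self]
  right_inv x := by
    apply Subtype.ext
    have e : (⟨(((α : MulAut R)⁻¹ ⟨x, hPR x.2⟩ : R) : Ω),
        hPR (((α⁻¹).2 ⟨x, hPR x.2⟩).mpr x.2)⟩ : R) = (α : MulAut R)⁻¹ ⟨x, hPR x.2⟩ :=
      Subtype.ext rfl
    show (((α : MulAut R) ⟨(((α : MulAut R)⁻¹ ⟨x, hPR x.2⟩ : R) : Ω),
        hPR (((α⁻¹).2 ⟨x, hPR x.2⟩).mpr x.2)⟩ : R) : Ω) = x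
    rw [e, MulAut.apply_inv_self]
  map_mul' x y := by
    apply Subtype.ext
    have e : (⟨((x * y : P) : Ω), hPR (x * y).2⟩ : R) = ⟨x, hPR x.2⟩ * ⟨y, hPR y.2⟩ := rfl
    show (((α : MulAut R) ⟨((x * y : P) : Ω), hPR (x * y).2⟩ : R) : Ω) =
      (((α : MulAut R) ⟨x, hPR x.2⟩ : R) : Ω) * (((α : MulAut R) ⟨y, hPR y.2⟩ : R) : Ω)
    rw [e, map_mul]; rfl

theorem resAutEquiv_coe {R P : Subgroup Ω} (hPR : P ≤ R) (α : stabIn R P) (x : P) :
    ((resAutEquiv hPR α x : P) : Ω) = (((α : MulAut R) ⟨x, hPR x.2⟩ : R) : Ω) := rfl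

/-- restriction to a stabilized subgroup, as a homomorphism. -/
def resAut {R P : Subgroup Ω} (hPR : P ≤ R) : stabIn R P →* MulAut P where
  toFun := resAutEquiv hPR
  map_one' := by apply MulEquiv.ext; intro x; apply Subtype.ext; rfl
  map_mul' a b := by apply MulEquiv.ext; intro x; apply Subtype.ext; rfl

theorem resAut_coe {R P : Subgroup Ω} (hPR : P ≤ R) (α : stabIn R P) (x : P) :
    ((resAut hPR α x : P) : Ω) = (((α : MulAut R) ⟨x, hPR x.2⟩ : R) : Ω) := rfl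

end Res

section Pair

variable {Ω : Type*} [Group Ω] {S : Subgroup Ω}

/-- automorphisms in `Aut_F(R)` stabilizing `P` and `Q`. -/
def pairStab (F : FusionSystem S) (R P Q : Subgroup Ω) : Subgroup (MulAut R) :=
  F.autGroup R ⊓ stabIn R P ⊓ stabIn R Q

theorem pairStab_le_autGroup (F : FusionSystem S) (R P Q : Subgroup Ω) :
    pairStab F R P Q ≤ F.autGroup R := fun _ h => h.1.1

theorem pairStab_le_stabIn_left (F : FusionSystem S) (R P Q : Subgroup Ω) :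
    pairStab F R P Q ≤ stabIn R P := fun _ h => h.1.2

theorem pairStab_le_stabIn_right (F : FusionSystem S) (R P Q : Subgroup Ω) :
    pairStab F R P Q ≤ stabIn R Q := fun _ h => h.2

/-- transport of the pair stabilizer along an isomorphism of the system. -/
theorem map_congr_pairStab (F : FusionSystem S) {R R' P P' Q Q' : Subgroup Ω} (e : R ≃* R')
    (he : IsFIso F e)
    (hP : ∀ x : R, ((e x : R') : Ω) ∈ P' ↔ (x : Ω) ∈ P)
    (hQ : ∀ x : R, ((e x : R') : Ω) ∈ Q' ↔ (x : Ω) ∈ Q) :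
    (pairStab F R P Q).map (MulAut.congr e).toMonoidHom = pairStab F R' P' Q' := by
  apply le_antisymm
  · rintro _ ⟨α, hα, rfl⟩
    exact ⟨⟨he.congr_mem_autGroup hα.1.1, congr_mem_stabIn e hP hα.1.2⟩,
      congr_mem_stabIn e hQ hα.2⟩
  · intro β hβ
    have hP' : ∀ y : R', ((e.symm y : R) : Ω) ∈ P ↔ (y : Ω) ∈ P' := fun y => by
      rw [← hP, MulEquiv.apply_symm_apply]
    have hQ' : ∀ y : R', ((e.symm y : R) : Ω) ∈ Q ↔ (y : Ω) ∈ Q' := fun y => by
      rw [← hQ, MulEquiv.apply_symm_apply]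
    refine ⟨MulAut.congr e.symm β, ⟨⟨he.symm.congr_mem_autGroup hβ.1.1,
      congr_mem_stabIn e.symm hP' hβ.1.2⟩, congr_mem_stabIn e.symm hQ' hβ.2⟩, ?_⟩
    apply MulEquiv.ext; intro y
    show e (e.symm (β (e (e.symm y)))) = β y
    rw [MulEquiv.apply_symm_apply, MulEquiv.apply_symm_apply]

end Pair

end Cfsg.Agent.helper25
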