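import Cfsg.Agent.Lib_helper25_NormSat1
import Cfsg.Agent.Lib_helper25_GroupFS

set_option autoImplicit false
set_option linter.style.haveILetI false
set_option linter.unusedVariables false
set_option maxHeartbeats 1000000

namespace Cfsg.Agent.helper25

open Cfsg Cfsg.FusionSystem

variable {Ω : Type*} [Group Ω] {S : Subgroup Ω}

theorem mem_map_iso_iff {R₀ R : Subgroup Ω} (χ : R₀ ≃* R) (Q : Subgroup Ω) (x : R₀) :
    ((χ x : R) : Ω) ∈ (Q.subgroupOf R₀).map (R.subtype.comp χ.toMonoidHom) ↔ (x : Ω) ∈ Q := by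
  constructor
  · rintro ⟨z, hz, hzx⟩
    have h1 : χ z = χ x := Subtype.ext hzx
    rw [← χ.injective h1]
    exact Subgroup.mem_subgroupOf.mp hz
  · intro hx
    exact ⟨x, Subgroup.mem_subgroupOf.mpr hx, rfl⟩

/-- `P ≤ N_S(Q)` is well placed for the normalizer system of `Q`. -/
def IsGoodFor (F : FusionSystem S) (p : ℕ) (Q P : Subgroup Ω) : Prop :=
  P ≤ normalizerIn S Q ∧ F.IsReceptive (P ⊔ Q) ∧
    IsSylowIn p (autInducedBy (normalizerIn (normalizerIn S Q) P) (P ⊔ Q))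
      (pairStab F (P ⊔ Q) P Q)

theorem autInducedBy_pair_le_pairStab (F : FusionSystem S) {P Q : Subgroup Ω}
    (hR : P ⊔ Q ≤ S) :
    autInducedBy (normalizerIn (normalizerIn S Q) P) (P ⊔ Q) ≤ pairStab F (P ⊔ Q) P Q := by
  intro α hα
  obtain ⟨g, hg, hgα⟩ := (mem_autInducedBy_iff _ _ α).mp hα
  have hgS : g ∈ S := hg.1.1
  have hgQ : g ∈ Subgroup.normalizer (Q : Set Ω) := hg.1.2
  have hgP : g ∈ Subgroup.normalizer (P : Set Ω) := hg.2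
  refine ⟨⟨?_, ?_⟩, ?_⟩
  · apply autInducedBy_le_autGroup F hR
    exact (mem_autInducedBy_iff _ _ α).mpr ⟨g, hgS, hgα⟩
  · intro x
    rw [hgα x]
    exact (Subgroup.mem_normalizer_iff.mp hgP x).symm
  · intro x
    rw [hgα x]
    exact (Subgroup.mem_normalizer_iff.mp hgQ x).symm

/-- every subgroup of `N_S(Q)`, `Q` fully normalized, has a well placed conjugate under a map
fixing `Q`. -/
theorem exists_good_conj [Finite S] {p : ℕ} [Fact p.Prime] (hS : IsPGroup p S)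
    (F : FusionSystem S) (hF : F.IsSaturated p) {Q : Subgroup Ω} (hQ : F.IsFullyNormalized Q)
    {P : Subgroup Ω} (hP : P ≤ normalizerIn S Q) :
    ∃ P₃ : Subgroup Ω, IsGoodFor F p Q P₃ ∧ ∃ ψ₃ ∈ F.Hom (P ⊔ Q),
      (P.subgroupOf (P ⊔ Q)).map ψ₃ = P₃ ∧ (Q.subgroupOf (P ⊔ Q)).map ψ₃ = Q := by
  obtain ⟨hQfc, hQfa⟩ := fullyNormalized_imp hS F hF hQ
  have hQrec := receptive_of_fullyCentralized hS F hF hQfc
  have hQS : Q ≤ S := hQ.1
  have hPS : P ≤ S := hP.trans inf_le_left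
  have hR₀S : P ⊔ Q ≤ S := sup_le hPS hQS
  haveI : Finite (P ⊔ Q : Subgroup Ω) := finite_of_le S hR₀S
  have hR₀N : P ⊔ Q ≤ Subgroup.normalizer (Q : Set Ω) :=
    sup_le (hP.trans inf_le_right) Subgroup.le_normalizer
  obtain ⟨R, hconj, hRfn⟩ := exists_fullyNormalized_conj F hR₀S
  obtain ⟨hRfc, hRfa⟩ := fullyNormalized_imp hS F hF hRfn
  have hRS : R ≤ S := hRfn.1
  haveI : Finite R := finite_of_le S hRS
  obtain ⟨φ₀, hφ₀, hr₀⟩ := hconj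
  obtain ⟨χ₀, hχ₀, hχ₀coe⟩ := exists_isFIso_of_mem F hφ₀ hr₀
  have hK₁le : (pairStab F (P ⊔ Q) P Q).map (MulAut.congr χ₀).toMonoidHom ≤ F.autGroup R := by
    rintro _ ⟨a, ha, rfl⟩; exact hχ₀.congr_mem_autGroup ha.1.1
  obtain ⟨Y, -, hYK, hYp, hYcard⟩ := exists_sylow_ge (p := p)
    (X := (⊥ : Subgroup (MulAut R)))
    (K := (pairStab F (P ⊔ Q) P Q).map (MulAut.congr χ₀).toMonoidHom) bot_le IsPGroup.of_bot
  have hsylR : IsSylowIn p (autInducedBy S R) (F.autGroup R) := hRfa.2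
  obtain ⟨β, hβ, hβY⟩ := exists_cj_le_of_isSylowIn hsylR (hYK.trans hK₁le) hYp
  have hβiso : IsFIso F β := (mem_autGroup_iff F hRS β).mp hβ
  have hχ : IsFIso F (χ₀.trans β) := hχ₀.trans hβiso
  have hK₂ : (pairStab F (P ⊔ Q) P Q).map (MulAut.congr (χ₀.trans β)).toMonoidHom =
      cj β ((pairStab F (P ⊔ Q) P Q).map (MulAut.congr χ₀).toMonoidHom) := by
    rw [cj, Subgroup.map_map]
    congr 1
  have hY'K : cj β Y ≤ (pairStab F (P ⊔ Q) P Q).map (MulAut.congr (χ₀.trans β)).toMonoidHom := by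
    rw [hK₂]; exact cj_mono β hYK
  have hY'syl : IsSylowIn p (cj β Y)
      ((pairStab F (P ⊔ Q) P Q).map (MulAut.congr (χ₀.trans β)).toMonoidHom) := by
    rw [isSylowIn_iff_card hY'K, hK₂, card_cj, card_cj]; exact hYcard
  -- rename χ
  obtain ⟨χ, hχdef⟩ : ∃ χ : ↥(P ⊔ Q) ≃* R, χ = χ₀.trans β := ⟨_, rfl⟩
  rw [← hχdef] at hχ hY'K hY'syl
  clear hK₂ hχdef
  -- Q₂
  have hQ₂R : (Q.subgroupOf (P ⊔ Q)).map (R.subtype.comp χ.toMonoidHom) ≤ R := by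
    rintro _ ⟨z, -, rfl⟩; exact (χ z).2
  haveI : Finite ((Q.subgroupOf (P ⊔ Q)).map (R.subtype.comp χ.toMonoidHom) : Subgroup Ω) :=
    finite_of_le S (hQ₂R.trans hRS)
  have hconjQ : F.IsConj ((Q.subgroupOf (P ⊔ Q)).map (R.subtype.comp χ.toMonoidHom)) Q := by
    apply isConj_symm
    exact ⟨_, restrict_mem F (le_sup_right : Q ≤ P ⊔ Q) hχ,
      range_restrict_eq_map le_sup_right _⟩
  obtain ⟨ρ, hρ, hρN, hρQ⟩ := exists_normalizer_hom hS F hQfa hQrec hconjQ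
  have hRN₂ : R ≤ normalizerIn S
      ((Q.subgroupOf (P ⊔ Q)).map (R.subtype.comp χ.toMonoidHom)) := by
    intro r hr
    refine ⟨hRS hr, ?_⟩
    apply Subgroup.mem_normalizer_fintype
    rintro _ ⟨z, hz, rfl⟩
    have hzQ : (z : Ω) ∈ Q := Subgroup.mem_subgroupOf.mp hz
    have hxr : ((χ (χ.symm ⟨r, hr⟩) : R) : Ω) = r := by rw [MulEquiv.apply_symm_apply]
    have hcj : ((χ.symm ⟨r, hr⟩ : ↥(P ⊔ Q)) : Ω) * z * ((χ.symm ⟨r, hr⟩ : ↥(P ⊔ Q)) : Ω)⁻¹ ∈ Q :=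
      (Subgroup.mem_normalizer_iff.mp (hR₀N (χ.symm ⟨r, hr⟩).2) _).mp hzQ
    have e1 : r * (R.subtype.comp χ.toMonoidHom) z * r⁻¹ =
        ((χ (χ.symm ⟨r, hr⟩ * z * (χ.symm ⟨r, hr⟩)⁻¹) : R) : Ω) := by
      rw [map_mul, map_mul, map_inv, Subgroup.coe_mul, Subgroup.coe_mul, Subgroup.coe_inv, hxr]
      rfl
    rw [SetLike.mem_coe, e1]
    exact (mem_map_iso_iff χ Q _).mpr hcj
  have hval : ∀ x : ↥(P ⊔ Q), (R.subtype.comp χ.toMonoidHom) x ∈ normalizerIn S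
      ((Q.subgroupOf (P ⊔ Q)).map (R.subtype.comp χ.toMonoidHom)) := fun x => hRN₂ (χ x).2
  have hψ₃ := F.comp_mem hχ hρ hval
  have hψ₃apply : ∀ x : ↥(P ⊔ Q), (ρ.comp ((R.subtype.comp χ.toMonoidHom).codRestrict _ hval)) x =
      ρ ⟨((χ x : R) : Ω), hval x⟩ := fun x => rfl
  have hQ₃ : (Q.subgroupOf (P ⊔ Q)).map
      (ρ.comp ((R.subtype.comp χ.toMonoidHom).codRestrict _ hval)) = Q := by
    apply le_antisymm
    · rintro _ ⟨z, hz, rfl⟩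
      apply hρQ.le
      exact ⟨⟨((χ z : R) : Ω), hval z⟩, Subgroup.mem_subgroupOf.mpr
        ((mem_map_iso_iff χ Q z).mpr (Subgroup.mem_subgroupOf.mp hz)), rfl⟩
    · intro y hy
      obtain ⟨w, hw, hwy⟩ := hρQ.ge hy
      obtain ⟨z, hz, hzw⟩ := Subgroup.mem_subgroupOf.mp hw
      refine ⟨z, hz, ?_⟩
      rw [hψ₃apply, ← hwy]
      congr 1
      exact Subtype.ext hzw
  have hrange : (ρ.comp ((R.subtype.comp χ.toMonoidHom).codRestrict _ hval)).range =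
      (P.subgroupOf (P ⊔ Q)).map (ρ.comp ((R.subtype.comp χ.toMonoidHom).codRestrict _ hval)) ⊔
        Q := by
    rw [range_eq_sup_map, hQ₃]
  -- name ψ₃
  obtain ⟨ψ₃, hψ₃def⟩ : ∃ ψ₃ : ↥(P ⊔ Q) →* Ω,
      ψ₃ = ρ.comp ((R.subtype.comp χ.toMonoidHom).codRestrict _ hval) := ⟨_, rfl⟩
  rw [← hψ₃def] at hψ₃ hQ₃ hrange
  have hψ₃apply' : ∀ x : ↥(P ⊔ Q), ψ₃ x = ρ ⟨((χ x : R) : Ω), hval x⟩ := fun x => by
    rw [hψ₃def]; rfl
  clear hψ₃apply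
  obtain ⟨ε, hε, hεcoe⟩ := exists_isFIso_of_mem F hψ₃ hrange
  have hψ₃inj := F.injective_of_mem hψ₃
  have hεP : ∀ x : ↥(P ⊔ Q), ((ε x : ↥((P.subgroupOf (P ⊔ Q)).map ψ₃ ⊔ Q)) : Ω) ∈
      (P.subgroupOf (P ⊔ Q)).map ψ₃ ↔ (x : Ω) ∈ P := by
    intro x
    rw [hεcoe]
    constructor
    · rintro ⟨z, hz, hzx⟩
      rw [← hψ₃inj hzx]; exact Subgroup.mem_subgroupOf.mp hz
    · intro hx; exact ⟨x, Subgroup.mem_subgroupOf.mpr hx, rfl⟩
  have hεQ : ∀ x : ↥(P ⊔ Q), ((ε x : ↥((P.subgroupOf (P ⊔ Q)).map ψ₃ ⊔ Q)) : Ω) ∈ Q ↔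
      (x : Ω) ∈ Q := by
    intro x
    rw [hεcoe]
    constructor
    · intro h
      obtain ⟨z, hz, hzx⟩ := hQ₃.ge h
      rw [← hψ₃inj hzx]; exact Subgroup.mem_subgroupOf.mp hz
    · intro hx
      exact hQ₃.le ⟨x, Subgroup.mem_subgroupOf.mpr hx, rfl⟩
  have hP₃N : (P.subgroupOf (P ⊔ Q)).map ψ₃ ≤ normalizerIn S Q := by
    rintro _ ⟨z, -, rfl⟩
    rw [hψ₃apply']; exact hρN _
  have hR₃S : (P.subgroupOf (P ⊔ Q)).map ψ₃ ⊔ Q ≤ S := sup_le (hP₃N.trans inf_le_left) hQS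
  haveI : Finite ((P.subgroupOf (P ⊔ Q)).map ψ₃ ⊔ Q : Subgroup Ω) := finite_of_le S hR₃S
  refine ⟨(P.subgroupOf (P ⊔ Q)).map ψ₃, ⟨hP₃N, ?_, ?_⟩, ψ₃, hψ₃, rfl, hQ₃⟩
  · -- receptive
    apply receptive_of_fullyCentralized hS F hF
    refine ⟨hR₃S, fun R' hR' => ?_⟩
    have hc1 : F.IsConj R (P ⊔ Q) := isConj_symm F ⟨φ₀, hφ₀, hr₀⟩
    have hc2 : F.IsConj (P ⊔ Q) ((P.subgroupOf (P ⊔ Q)).map ψ₃ ⊔ Q) := ⟨ψ₃, hψ₃, hrange⟩
    have hc : F.IsConj R R' := isConj_trans F (isConj_trans F hc1 hc2) hR'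
    have h1 := hRfc.2 R' hc
    have hCle : centralizerIn S R ≤ normalizerIn S
        ((Q.subgroupOf (P ⊔ Q)).map (R.subtype.comp χ.toMonoidHom)) := by
      intro c hc
      refine ⟨hc.1, ?_⟩
      apply Subgroup.mem_normalizer_fintype
      intro n hn
      have hnR : n ∈ R := hQ₂R hn
      have h2 := Subgroup.mem_centralizer_iff.mp hc.2 n hnR
      have e : c * n * c⁻¹ = n := by rw [← h2]; group
      rw [e]; exact hn
    have hmem : ∀ c : centralizerIn S R, ρ ⟨c, hCle c.2⟩ ∈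
        centralizerIn S ((P.subgroupOf (P ⊔ Q)).map ψ₃ ⊔ Q) := by
      intro c
      refine ⟨(hρN _).1, ?_⟩
      show ρ ⟨c, hCle c.2⟩ ∈ Subgroup.centralizer _
      rw [Subgroup.mem_centralizer_iff]
      intro y hy
      have hy' : y ∈ ψ₃.range := by rw [hrange]; exact hy
      obtain ⟨x, rfl⟩ := hy'
      rw [hψ₃apply', ← map_mul, ← map_mul]
      congr 1
      apply Subtype.ext
      exact Subgroup.mem_centralizer_iff.mp c.2.2 _ (χ x).2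
    have h2 : Nat.card (centralizerIn S R) ≤
        Nat.card (centralizerIn S ((P.subgroupOf (P ⊔ Q)).map ψ₃ ⊔ Q)) := by
      haveI : Finite (centralizerIn S ((P.subgroupOf (P ⊔ Q)).map ψ₃ ⊔ Q)) :=
        finite_of_le S inf_le_left
      apply Nat.card_le_card_of_injective (fun c : centralizerIn S R =>
        (⟨ρ ⟨c, hCle c.2⟩, hmem c⟩ : centralizerIn S ((P.subgroupOf (P ⊔ Q)).map ψ₃ ⊔ Q)))
      intro a b hab
      have h3 : ρ ⟨a, hCle a.2⟩ = ρ ⟨b, hCle b.2⟩ := congrArg Subtype.val hab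
      have h4 := F.injective_of_mem hρ h3
      exact Subtype.ext (Subtype.mk.inj h4)
    exact h1.trans h2
  · -- Sylow
    have he₃ : IsFIso F (χ.symm.trans ε) := hχ.symm.trans hε
    have he₃coe : ∀ r : R, (((χ.symm.trans ε) r : ↥((P.subgroupOf (P ⊔ Q)).map ψ₃ ⊔ Q)) : Ω) =
        ρ ⟨r, hRN₂ r.2⟩ := by
      intro r
      show ((ε (χ.symm r) : ↥((P.subgroupOf (P ⊔ Q)).map ψ₃ ⊔ Q)) : Ω) = _
      rw [hεcoe, hψ₃apply']
      congr 1
      apply Subtype.ext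
      show ((χ (χ.symm r) : R) : Ω) = r
      rw [MulEquiv.apply_symm_apply]
    have hK₃ : ((pairStab F (P ⊔ Q) P Q).map (MulAut.congr χ).toMonoidHom).map
        (MulAut.congr (χ.symm.trans ε)).toMonoidHom =
        pairStab F ((P.subgroupOf (P ⊔ Q)).map ψ₃ ⊔ Q) ((P.subgroupOf (P ⊔ Q)).map ψ₃) Q := by
      rw [← map_congr_pairStab F ε hε hεP hεQ, Subgroup.map_map]
      congr 1
      apply MonoidHom.ext; intro a
      apply MulEquiv.ext; intro y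
      show ε (χ.symm (χ (a (χ.symm (χ (ε.symm y)))))) = ε (a (ε.symm y))
      rw [MulEquiv.symm_apply_apply, MulEquiv.symm_apply_apply]
    have hY₃syl : IsSylowIn p ((cj β Y).map (MulAut.congr (χ.symm.trans ε)).toMonoidHom)
        (pairStab F ((P.subgroupOf (P ⊔ Q)).map ψ₃ ⊔ Q) ((P.subgroupOf (P ⊔ Q)).map ψ₃) Q) := by
      rw [← hK₃]
      exact isSylowIn_map_of_injective hY'K _ (MulAut.congr (χ.symm.trans ε)).injective hY'syl
    have hY₃K : (cj β Y).map (MulAut.congr (χ.symm.trans ε)).toMonoidHom ≤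
        pairStab F ((P.subgroupOf (P ⊔ Q)).map ψ₃ ⊔ Q) ((P.subgroupOf (P ⊔ Q)).map ψ₃) Q := by
      rw [← hK₃]; exact Subgroup.map_mono hY'K
    have hH₃K := autInducedBy_pair_le_pairStab F (P := (P.subgroupOf (P ⊔ Q)).map ψ₃) (Q := Q) hR₃S
    have hH₃p : IsPGroup p (autInducedBy (normalizerIn (normalizerIn S Q)
        ((P.subgroupOf (P ⊔ Q)).map ψ₃)) ((P.subgroupOf (P ⊔ Q)).map ψ₃ ⊔ Q)) :=
      isPGroup_autInducedBy (hS.to_le (inf_le_left.trans inf_le_left)) _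
    refine isSylowIn_of_le_of_isPGroup hY₃syl hY₃K ?_ hH₃K hH₃p
    rintro _ ⟨y, hy, rfl⟩
    have hyS : y ∈ autInducedBy S R := hβY hy
    obtain ⟨g, hg, rfl⟩ := (mem_autInducedBy_iff' S R y).mp hyS
    obtain ⟨a, ha, hay⟩ := hY'K hy
    -- g normalizes Q₂
    have hgQ₂ : g ∈ Subgroup.normalizer
        (((Q.subgroupOf (P ⊔ Q)).map (R.subtype.comp χ.toMonoidHom) : Subgroup Ω) : Set Ω) := by
      apply Subgroup.mem_normalizer_fintype
      rintro _ ⟨z, hz, rfl⟩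
      have hzQ : (z : Ω) ∈ Q := Subgroup.mem_subgroupOf.mp hz
      have h1 : (MulAut.congr χ).toMonoidHom a (χ z) = χ (a z) := by
        show χ (a (χ.symm (χ z))) = χ (a z)
        rw [MulEquiv.symm_apply_apply]
      rw [hay] at h1
      have h2 : g * (R.subtype.comp χ.toMonoidHom) z * g⁻¹ = ((χ (a z) : R) : Ω) := by
        rw [← h1]; rfl
      rw [SetLike.mem_coe, h2]
      exact (mem_map_iso_iff χ Q _).mpr ((ha.2 z).mpr hzQ)
    have hgN₂ : g ∈ normalizerIn S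
        ((Q.subgroupOf (P ⊔ Q)).map (R.subtype.comp χ.toMonoidHom)) := ⟨hg.1, hgQ₂⟩
    -- the image automorphism is conjugation by ρ g
    have hformula : ∀ w : ↥((P.subgroupOf (P ⊔ Q)).map ψ₃ ⊔ Q),
        (((MulAut.congr (χ.symm.trans ε)).toMonoidHom (normAut R g hg.2) w :
          ↥((P.subgroupOf (P ⊔ Q)).map ψ₃ ⊔ Q)) : Ω) =
          ρ ⟨g, hgN₂⟩ * (w : Ω) * (ρ ⟨g, hgN₂⟩)⁻¹ := by
      intro w
      show (((χ.symm.trans ε) (normAut R g hg.2 ((χ.symm.trans ε).symm w)) :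
          ↥((P.subgroupOf (P ⊔ Q)).map ψ₃ ⊔ Q)) : Ω) = _
      rw [he₃coe]
      have hw : (w : Ω) = ρ ⟨(((χ.symm.trans ε).symm w : R) : Ω),
          hRN₂ ((χ.symm.trans ε).symm w).2⟩ := by
        rw [← he₃coe, MulEquiv.apply_symm_apply]
      rw [hw, ← map_inv, ← map_mul, ← map_mul]
      rfl
    have hg'N : ρ ⟨g, hgN₂⟩ ∈ normalizerIn S Q := hρN _
    have hmemK : (MulAut.congr (χ.symm.trans ε)).toMonoidHom (normAut R g hg.2) ∈
        pairStab F ((P.subgroupOf (P ⊔ Q)).map ψ₃ ⊔ Q) ((P.subgroupOf (P ⊔ Q)).map ψ₃) Q :=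
      hY₃K ⟨_, hy, rfl⟩
    have hg'P : ρ ⟨g, hgN₂⟩ ∈ Subgroup.normalizer
        (((P.subgroupOf (P ⊔ Q)).map ψ₃ : Subgroup Ω) : Set Ω) := by
      haveI : Finite ((P.subgroupOf (P ⊔ Q)).map ψ₃ : Subgroup Ω) :=
        finite_of_le S (hP₃N.trans inf_le_left)
      apply Subgroup.mem_normalizer_fintype
      intro n hn
      have h1 := hformula ⟨n, Subgroup.mem_sup_left hn⟩
      rw [SetLike.mem_coe, ← h1]
      exact (hmemK.1.2 ⟨n, Subgroup.mem_sup_left hn⟩).mpr hn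
    exact (mem_autInducedBy_iff _ _ _).mpr ⟨ρ ⟨g, hgN₂⟩, ⟨hg'N, hg'P⟩, hformula⟩

end Cfsg.Agent.helper25
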