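import Cfsg.Agent.Lib_helper25_NormSat2

set_option autoImplicit false
set_option linter.style.haveILetI false
set_option linter.unusedVariables false
set_option maxHeartbeats 1000000

namespace Cfsg.Agent.helper25

open Cfsg Cfsg.FusionSystem

variable {Ω : Type*} [Group Ω] {S : Subgroup Ω}

/-- restriction from the pair stabilizer of `P ⊔ Q` to `Aut(P)`. -/
def pairRes (F : FusionSystem S) (P Q : Subgroup Ω) : ↥(pairStab F (P ⊔ Q) P Q) →* MulAut P :=
  (resAut (le_sup_left : P ≤ P ⊔ Q)).comp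
    (Subgroup.inclusion (pairStab_le_stabIn_left F (P ⊔ Q) P Q))

theorem pairRes_coe (F : FusionSystem S) (P Q : Subgroup Ω) (α : pairStab F (P ⊔ Q) P Q) (x : P) :
    ((pairRes F P Q α x : P) : Ω) =
      (((α : MulAut ↥(P ⊔ Q)) ⟨x, (le_sup_left : P ≤ P ⊔ Q) x.2⟩ : ↥(P ⊔ Q)) : Ω) := rfl

theorem map_of_mem_stabIn {R Q : Subgroup Ω} (hQR : Q ≤ R) {α : MulAut R}
    (hα : α ∈ stabIn R Q) : (Q.subgroupOf R).map (R.subtype.comp α.toMonoidHom) = Q := by
  apply le_antisymm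
  · rintro _ ⟨z, hz, rfl⟩
    exact (hα z).mpr (Subgroup.mem_subgroupOf.mp hz)
  · intro y hy
    refine ⟨α⁻¹ ⟨y, hQR hy⟩, ?_, ?_⟩
    · apply Subgroup.mem_subgroupOf.mpr
      apply (hα _).mp
      rw [MulAut.apply_inv_self]; exact hy
    · show ((α (α⁻¹ ⟨y, hQR hy⟩) : R) : Ω) = y
      rw [MulAut.apply_inv_self]

theorem mem_normalizer_sup {P Q : Subgroup Ω} {g : Ω}
    (hP : g ∈ Subgroup.normalizer (P : Set Ω)) (hQ : g ∈ Subgroup.normalizer (Q : Set Ω)) :
    g ∈ Subgroup.normalizer ((P ⊔ Q : Subgroup Ω) : Set Ω) := by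
  rw [← cj_eq_self_iff, cj, Subgroup.map_sup]
  have h1 := (cj_eq_self_iff g P).mpr hP
  have h2 := (cj_eq_self_iff g Q).mpr hQ
  rw [cj] at h1 h2
  rw [h1, h2]

/-- the restriction map has image `Aut_E(P)` for `E = N_F(Q)`. -/
theorem pairRes_range [Finite S] (F : FusionSystem S) {P Q : Subgroup Ω} (hQS : Q ≤ S)
    (E : FusionSystem (normalizerIn S Q)) (hE : F.IsNormalizerSystem Q E)
    (hPN : P ≤ normalizerIn S Q) : (pairRes F P Q).range = E.autGroup P := by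
  have hPS : P ≤ S := hPN.trans inf_le_left
  have hRS : P ⊔ Q ≤ S := sup_le hPS hQS
  haveI : Finite (P ⊔ Q : Subgroup Ω) := finite_of_le S hRS
  apply le_antisymm
  · rintro _ ⟨α, rfl⟩
    apply Subgroup.subset_closure
    show P.subtype.comp (pairRes F P Q α).toMonoidHom ∈ E.Hom P
    rw [hE P]
    have hαF : (P ⊔ Q).subtype.comp (α : MulAut ↥(P ⊔ Q)).toMonoidHom ∈ F.Hom (P ⊔ Q) :=
      (mem_autGroup_iff F hRS _).mp α.2.1.1
    have e1 : P.subtype.comp (pairRes F P Q α).toMonoidHom =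
        ((P ⊔ Q).subtype.comp (α : MulAut ↥(P ⊔ Q)).toMonoidHom).comp
          (Subgroup.inclusion le_sup_left) := by
      ext x; rfl
    refine ⟨?_, hPN, fun x => hPN (pairRes F P Q α x).2,
      (P ⊔ Q).subtype.comp (α : MulAut ↥(P ⊔ Q)).toMonoidHom, hαF, fun x => rfl,
      map_of_mem_stabIn le_sup_right α.2.2⟩
    rw [e1]; exact restrict_mem F le_sup_left hαF
  · intro a ha
    have ha' : P.subtype.comp a.toMonoidHom ∈ E.Hom P := (mem_autGroup_iff E hPN a).mp ha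
    rw [hE P] at ha'
    obtain ⟨haF, -, -, ψ, hψ, hψext, hψQ⟩ := ha'
    have hψP : (P.subgroupOf (P ⊔ Q)).map ψ = P := by
      rw [map_subgroupOf_eq_range le_sup_left ψ (P.subtype.comp a.toMonoidHom) hψext]
      apply le_antisymm
      · rintro _ ⟨x, rfl⟩; exact (a x).2
      · intro y hy
        refine ⟨a.symm ⟨y, hy⟩, ?_⟩
        show ((a (a.symm ⟨y, hy⟩) : P) : Ω) = y
        rw [MulEquiv.apply_symm_apply]
    have hrange : ψ.range = P ⊔ Q := by rw [range_eq_sup_map, hψP, hψQ]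
    obtain ⟨α, hα, hαcoe⟩ := exists_isFIso_of_mem F hψ hrange
    have hαP : α ∈ stabIn (P ⊔ Q) P := by
      apply mem_stabIn_of_forall
      intro x hx
      rw [hαcoe]
      have h1 := hψext ⟨x, hx⟩
      have e2 : Subgroup.inclusion (le_sup_left : P ≤ P ⊔ Q) ⟨x, hx⟩ = x := Subtype.ext rfl
      rw [e2] at h1
      rw [h1]; exact (a ⟨x, hx⟩).2
    have hαQ : α ∈ stabIn (P ⊔ Q) Q := by
      apply mem_stabIn_of_forall
      intro x hx
      rw [hαcoe]
      exact hψQ.le ⟨x, Subgroup.mem_subgroupOf.mpr hx, rfl⟩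
    have hαK : α ∈ pairStab F (P ⊔ Q) P Q :=
      ⟨⟨(mem_autGroup_iff F hRS α).mpr hα, hαP⟩, hαQ⟩
    refine ⟨⟨α, hαK⟩, ?_⟩
    apply MulEquiv.ext; intro x
    apply Subtype.ext
    rw [pairRes_coe]
    show ((α ⟨x, _⟩ : ↥(P ⊔ Q)) : Ω) = a x
    rw [hαcoe]
    exact hψext x

/-- the restriction map carries the automorphisms induced by `N_{N_S(Q)}(P)` on `P ⊔ Q` onto those
induced by `N_S(Q)` on `P`. -/
theorem pairRes_map_autInducedBy (F : FusionSystem S) {P Q : Subgroup Ω} (hQS : Q ≤ S)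
    (hPN : P ≤ normalizerIn S Q) :
    ((autInducedBy (normalizerIn (normalizerIn S Q) P) (P ⊔ Q)).subgroupOf
      (pairStab F (P ⊔ Q) P Q)).map (pairRes F P Q) = autInducedBy (normalizerIn S Q) P := by
  have hPS : P ≤ S := hPN.trans inf_le_left
  have hRS : P ⊔ Q ≤ S := sup_le hPS hQS
  apply le_antisymm
  · rintro _ ⟨α, hα, rfl⟩
    obtain ⟨g, hg, hgα⟩ := (mem_autInducedBy_iff _ _ _).mp (Subgroup.mem_subgroupOf.mp hα)
    apply (mem_autInducedBy_iff _ _ _).mpr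
    refine ⟨g, hg.1, fun x => ?_⟩
    rw [pairRes_coe, hgα]
  · intro a ha
    obtain ⟨g, hg, rfl⟩ := (mem_autInducedBy_iff' _ _ a).mp ha
    have hgQ : g ∈ Subgroup.normalizer (Q : Set Ω) := hg.1.2
    have hgR : g ∈ Subgroup.normalizer ((P ⊔ Q : Subgroup Ω) : Set Ω) :=
      mem_normalizer_sup hg.2 hgQ
    have hgM : g ∈ normalizerIn (normalizerIn (normalizerIn S Q) P) (P ⊔ Q) := ⟨hg, hgR⟩
    have hH : normAut (P ⊔ Q) g hgR ∈
        autInducedBy (normalizerIn (normalizerIn S Q) P) (P ⊔ Q) := normAut_mem _ _ hgM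
    refine ⟨⟨normAut (P ⊔ Q) g hgR, autInducedBy_pair_le_pairStab F hRS hH⟩,
      Subgroup.mem_subgroupOf.mpr hH, ?_⟩
    apply MulEquiv.ext; intro x
    apply Subtype.ext
    rfl

/-- a well placed subgroup is fully automized in the normalizer system. -/
theorem fullyAutomized_of_good [Finite S] {p : ℕ} [Fact p.Prime] (F : FusionSystem S)
    {P Q : Subgroup Ω} (hQS : Q ≤ S) (E : FusionSystem (normalizerIn S Q))
    (hE : F.IsNormalizerSystem Q E) (hgood : IsGoodFor F p Q P) : E.IsFullyAutomized p P := by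
  obtain ⟨hPN, hrec, ⟨Rs, hRs⟩⟩ := hgood
  have hPS : P ≤ S := hPN.trans inf_le_left
  have hRS : P ⊔ Q ≤ S := sup_le hPS hQS
  haveI : Finite (P ⊔ Q : Subgroup Ω) := finite_of_le S hRS
  refine ⟨hPN, ?_⟩
  have h := isSylowIn_map_range (pairRes F P Q) Rs
  rw [hRs, pairRes_map_autInducedBy F hQS hPN, pairRes_range F hQS E hE hPN] at h
  exact h

end Cfsg.Agent.helper25
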