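import Cfsg.Agent.Lib_helper25_NormSat3

set_option autoImplicit false
set_option linter.style.haveILetI false
set_option linter.unusedVariables false
set_option maxHeartbeats 1000000

namespace Cfsg.Agent.helper25

open Cfsg Cfsg.FusionSystem

variable {Ω : Type*} [Group Ω] {S : Subgroup Ω}

theorem normAut_mem_stabIn {R P : Subgroup Ω} {g : Ω}
    (hgR : g ∈ Subgroup.normalizer (R : Set Ω)) (hgP : g ∈ Subgroup.normalizer (P : Set Ω)) :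
    normAut R g hgR ∈ stabIn R P := by
  intro x
  show g * (x : Ω) * g⁻¹ ∈ P ↔ (x : Ω) ∈ P
  exact (Subgroup.mem_normalizer_iff.mp hgP x).symm

/-- a well placed subgroup is receptive in the normalizer system. -/
theorem receptive_of_good [Finite S] {p : ℕ} [Fact p.Prime] (hS : IsPGroup p S)
    (F : FusionSystem S) {P Q : Subgroup Ω} (hQS : Q ≤ S) (E : FusionSystem (normalizerIn S Q))
    (hE : F.IsNormalizerSystem Q E) (hgood : IsGoodFor F p Q P) : E.IsReceptive P := by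
  obtain ⟨hPN, hrec, hsyl⟩ := hgood
  have hPS : P ≤ S := hPN.trans inf_le_left
  have hRS : P ⊔ Q ≤ S := sup_le hPS hQS
  haveI : Finite (P ⊔ Q : Subgroup Ω) := finite_of_le S hRS
  haveI : Finite Q := finite_of_le S hQS
  refine ⟨hPN, fun P₀ φ hφ hr => ?_⟩
  have hφ' := hφ
  rw [hE P₀] at hφ'
  obtain ⟨hφF, hP₀N, hφN, ψ₀, hψ₀, hψ₀ext, hψ₀Q⟩ := hφ'
  have hP₀S : P₀ ≤ S := hP₀N.trans inf_le_left
  have hR₀S : P₀ ⊔ Q ≤ S := sup_le hP₀S hQS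
  have hψ₀P : (P₀.subgroupOf (P₀ ⊔ Q)).map ψ₀ = P := by
    rw [map_subgroupOf_eq_range le_sup_left ψ₀ φ hψ₀ext, hr]
  have hrange : ψ₀.range = P ⊔ Q := by rw [range_eq_sup_map, hψ₀P, hψ₀Q]
  obtain ⟨ε, hε, hεcoe⟩ := exists_isFIso_of_mem F hψ₀ hrange
  have hψ₀inj := F.injective_of_mem hψ₀
  have hεP : ∀ x : ↥(P₀ ⊔ Q), ((ε x : ↥(P ⊔ Q)) : Ω) ∈ P ↔ (x : Ω) ∈ P₀ := by
    intro x
    rw [hεcoe]
    constructor
    · intro h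
      obtain ⟨z, hz, hzx⟩ := hψ₀P.ge h
      rw [← hψ₀inj hzx]; exact Subgroup.mem_subgroupOf.mp hz
    · intro hx; exact hψ₀P.le ⟨x, Subgroup.mem_subgroupOf.mpr hx, rfl⟩
  have hεQ : ∀ x : ↥(P₀ ⊔ Q), ((ε x : ↥(P ⊔ Q)) : Ω) ∈ Q ↔ (x : Ω) ∈ Q := by
    intro x
    rw [hεcoe]
    constructor
    · intro h
      obtain ⟨z, hz, hzx⟩ := hψ₀Q.ge h
      rw [← hψ₀inj hzx]; exact Subgroup.mem_subgroupOf.mp hz
    · intro hx; exact hψ₀Q.le ⟨x, Subgroup.mem_subgroupOf.mpr hx, rfl⟩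
  have hεφ : ∀ (x : Ω) (hx : x ∈ P₀), ((ε ⟨x, (le_sup_left : P₀ ≤ P₀ ⊔ Q) hx⟩ : ↥(P ⊔ Q)) : Ω) =
      φ ⟨x, hx⟩ := by
    intro x hx
    rw [hεcoe]
    exact hψ₀ext ⟨x, hx⟩
  -- the extender in the normalizer system
  have hNφN : extender (normalizerIn S Q) P₀ φ ≤ normalizerIn S Q :=
    (extender_le _ _ _).trans inf_le_left
  have hNφS : extender (normalizerIn S Q) P₀ φ ≤ S := hNφN.trans inf_le_left
  have hNφR₀ : ∀ g ∈ extender (normalizerIn S Q) P₀ φ, g ∈ normalizerIn S (P₀ ⊔ Q) := by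
    intro g hg
    have h1 := extender_le _ _ _ hg
    exact ⟨h1.1.1, mem_normalizer_sup h1.2 h1.1.2⟩
  have hHK := autInducedBy_pair_le_pairStab F (P := P) (Q := Q) hRS
  have hCK : (pairRes F P Q).ker.map (pairStab F (P ⊔ Q) P Q).subtype ≤
      pairStab F (P ⊔ Q) P Q := by
    rintro _ ⟨k, -, rfl⟩; exact k.2
  have hXp : IsPGroup p ((autInducedBy (extender (normalizerIn S Q) P₀ φ) (P₀ ⊔ Q)).map
      (MulAut.congr ε).toMonoidHom) :=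
    (isPGroup_autInducedBy (hS.to_le hNφS) _).map _
  have hX : (autInducedBy (extender (normalizerIn S Q) P₀ φ) (P₀ ⊔ Q)).map
      (MulAut.congr ε).toMonoidHom ≤
      autInducedBy (normalizerIn (normalizerIn S Q) P) (P ⊔ Q) ⊔
        (pairRes F P Q).ker.map (pairStab F (P ⊔ Q) P Q).subtype := by
    rintro _ ⟨c, hc, rfl⟩
    obtain ⟨g, hg, rfl⟩ := (mem_autInducedBy_iff' _ _ c).mp hc
    obtain ⟨hgN, hgP₀, h, hhN, hh⟩ := (mem_extender_iff _ _ _ _).mp hg.1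
    have hhP : h ∈ Subgroup.normalizer (P : Set Ω) := gen_normalizes hr hgP₀ hh
    have hhR : h ∈ Subgroup.normalizer ((P ⊔ Q : Subgroup Ω) : Set Ω) :=
      mem_normalizer_sup hhP hhN.2
    have hbH : normAut (P ⊔ Q) h hhR ∈
        autInducedBy (normalizerIn (normalizerIn S Q) P) (P ⊔ Q) :=
      normAut_mem (normalizerIn (normalizerIn S Q) P) (P ⊔ Q) ⟨⟨hhN, hhP⟩, hhR⟩
    have hbK := hHK hbH
    have haK : MulAut.congr ε (normAut (P₀ ⊔ Q) g hg.2) ∈ pairStab F (P ⊔ Q) P Q := by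
      refine ⟨⟨?_, ?_⟩, ?_⟩
      · exact hε.congr_mem_autGroup
          (autInducedBy_le_autGroup F hR₀S (normAut_mem S _ ⟨hgN.1, hg.2⟩))
      · exact congr_mem_stabIn ε hεP (normAut_mem_stabIn hg.2 hgP₀)
      · exact congr_mem_stabIn ε hεQ (normAut_mem_stabIn hg.2 hgN.2)
    have hres : pairRes F P Q ⟨_, haK⟩ = pairRes F P Q ⟨_, hbK⟩ := by
      apply MulEquiv.ext; intro y
      apply Subtype.ext
      rw [pairRes_coe, pairRes_coe]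
      show ((ε (normAut (P₀ ⊔ Q) g hg.2 (ε.symm ⟨y, _⟩)) : ↥(P ⊔ Q)) : Ω) = h * (y : Ω) * h⁻¹
      have hz : ((ε.symm ⟨y, (le_sup_left : P ≤ P ⊔ Q) y.2⟩ : ↥(P₀ ⊔ Q)) : Ω) ∈ P₀ := by
        apply (hεP _).mp
        rw [MulEquiv.apply_symm_apply]; exact y.2
      have hcz : g * ((⟨_, hz⟩ : P₀) : Ω) * g⁻¹ ∈ P₀ :=
        (Subgroup.mem_normalizer_iff.mp hgP₀ _).mp hz
      have e1 : normAut (P₀ ⊔ Q) g hg.2 (ε.symm ⟨y, (le_sup_left : P ≤ P ⊔ Q) y.2⟩) =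
          ⟨g * ((⟨_, hz⟩ : P₀) : Ω) * g⁻¹, (le_sup_left : P₀ ≤ P₀ ⊔ Q) hcz⟩ := Subtype.ext rfl
      rw [e1, hεφ _ hcz, hh ⟨_, hz⟩ hcz, ← hεφ _ hz]
      have e2 : (⟨((ε.symm ⟨y, (le_sup_left : P ≤ P ⊔ Q) y.2⟩ : ↥(P₀ ⊔ Q)) : Ω),
          (le_sup_left : P₀ ≤ P₀ ⊔ Q) hz⟩ : ↥(P₀ ⊔ Q)) =
          ε.symm ⟨y, (le_sup_left : P ≤ P ⊔ Q) y.2⟩ := Subtype.ext rfl
      rw [e2, MulEquiv.apply_symm_apply]
    have hmem : (normAut (P ⊔ Q) h hhR)⁻¹ * MulAut.congr ε (normAut (P₀ ⊔ Q) g hg.2) ∈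
        (pairRes F P Q).ker.map (pairStab F (P ⊔ Q) P Q).subtype := by
      refine ⟨(⟨_, hbK⟩ : pairStab F (P ⊔ Q) P Q)⁻¹ * ⟨_, haK⟩, ?_, rfl⟩
      apply MonoidHom.mem_ker.mpr
      rw [map_mul, map_inv, hres, inv_mul_cancel]
    have e5 : MulAut.congr ε (normAut (P₀ ⊔ Q) g hg.2) =
        normAut (P ⊔ Q) h hhR * ((normAut (P ⊔ Q) h hhR)⁻¹ *
        MulAut.congr ε (normAut (P₀ ⊔ Q) g hg.2)) := by group
    show MulAut.congr ε (normAut (P₀ ⊔ Q) g hg.2) ∈ _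
    rw [e5]
    exact Subgroup.mul_mem _ (Subgroup.mem_sup_left hbH) (Subgroup.mem_sup_right hmem)
  have hsyl' : IsSylowIn p (autInducedBy (normalizerIn (normalizerIn S Q) P) (P ⊔ Q))
      (autInducedBy (normalizerIn (normalizerIn S Q) P) (P ⊔ Q) ⊔
        (pairRes F P Q).ker.map (pairStab F (P ⊔ Q) P Q).subtype) :=
    isSylowIn_of_le le_sup_left (sup_le hHK hCK) hsyl
  obtain ⟨a, ha, haX⟩ := exists_cj_le_of_isSylowIn hsyl' hX hXp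
  have hnorm : autInducedBy (normalizerIn (normalizerIn S Q) P) (P ⊔ Q) ≤ Subgroup.normalizer
      ((((pairRes F P Q).ker.map (pairStab F (P ⊔ Q) P Q).subtype :
        Subgroup (MulAut ↥(P ⊔ Q)))) : Set (MulAut ↥(P ⊔ Q))) := by
    apply le_normalizer_of_conj_mem
    rintro s hs _ ⟨k, hk, rfl⟩
    refine ⟨⟨s, hHK hs⟩ * k * ⟨s, hHK hs⟩⁻¹, ?_, rfl⟩
    exact (MonoidHom.normal_ker (pairRes F P Q)).conj_mem k hk _
  obtain ⟨s, hs, k, hk, rfl⟩ := exists_mul_of_mem_sup hnorm ha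
  have hkX : cj k ((autInducedBy (extender (normalizerIn S Q) P₀ φ) (P₀ ⊔ Q)).map
      (MulAut.congr ε).toMonoidHom) ≤
      autInducedBy (normalizerIn (normalizerIn S Q) P) (P ⊔ Q) := by
    have h1 : cj s (cj k ((autInducedBy (extender (normalizerIn S Q) P₀ φ) (P₀ ⊔ Q)).map
        (MulAut.congr ε).toMonoidHom)) ≤
        autInducedBy (normalizerIn (normalizerIn S Q) P) (P ⊔ Q) := by rw [cj_cj]; exact haX
    have h2 := cj_mono s⁻¹ h1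
    rw [cj_cj, inv_mul_cancel, cj_one] at h2
    rw [cj_of_mem (Subgroup.inv_mem _ hs)] at h2
    exact h2
  obtain ⟨k₀, hk₀, rfl⟩ := hk
  have hk₀P : ∀ (y : Ω) (hy : y ∈ P),
      (((k₀ : MulAut ↥(P ⊔ Q)) ⟨y, (le_sup_left : P ≤ P ⊔ Q) hy⟩ : ↥(P ⊔ Q)) : Ω) = y := by
    intro y hy
    have h1 := pairRes_coe F P Q k₀ ⟨y, hy⟩
    rw [MonoidHom.mem_ker.mp hk₀] at h1
    exact h1.symm
  have hk₀F : IsFIso F (k₀ : MulAut ↥(P ⊔ Q)) := (mem_autGroup_iff F hRS _).mp k₀.2.1.1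
  have he₁ : IsFIso F (ε.trans (k₀ : MulAut ↥(P ⊔ Q))) := hε.trans hk₀F
  have he₁Q : ∀ x : ↥(P₀ ⊔ Q), (((ε.trans (k₀ : MulAut ↥(P ⊔ Q))) x : ↥(P ⊔ Q)) : Ω) ∈ Q ↔
      (x : Ω) ∈ Q := by
    intro x
    show (((k₀ : MulAut ↥(P ⊔ Q)) (ε x) : ↥(P ⊔ Q)) : Ω) ∈ Q ↔ _
    rw [k₀.2.2 (ε x), hεQ]
  have hNext : extender (normalizerIn S Q) P₀ φ ≤
      extender S (P₀ ⊔ Q) ((P ⊔ Q).subtype.comp
        (ε.trans (k₀ : MulAut ↥(P ⊔ Q))).toMonoidHom) := by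
    intro g hg
    have hgn := hNφR₀ g hg
    apply mem_extender_of_iso (ε.trans (k₀ : MulAut ↥(P ⊔ Q))) hgn
    have h1 : MulAut.congr ε (normAut (P₀ ⊔ Q) g hgn.2) ∈
        (autInducedBy (extender (normalizerIn S Q) P₀ φ) (P₀ ⊔ Q)).map
          (MulAut.congr ε).toMonoidHom :=
      ⟨_, normAut_mem (extender (normalizerIn S Q) P₀ φ) (P₀ ⊔ Q) ⟨hg, hgn.2⟩, rfl⟩
    have h2 := hkX (conj_mem_cj _ _ h1)
    have e3 : (k₀ : MulAut ↥(P ⊔ Q)) * MulAut.congr ε (normAut (P₀ ⊔ Q) g hgn.2) *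
        (k₀ : MulAut ↥(P ⊔ Q))⁻¹ =
        MulAut.congr (ε.trans (k₀ : MulAut ↥(P ⊔ Q))) (normAut (P₀ ⊔ Q) g hgn.2) := by
      apply MulEquiv.ext; intro y; rfl
    rw [← e3]
    exact autInducedBy_mono (inf_le_left.trans inf_le_left) _ h2
  obtain ⟨Ψ, hΨ, hΨε⟩ := hrec.2 (P₀ ⊔ Q) _ he₁ (range_subtype_comp _)
  have hR₀ext : P₀ ⊔ Q ≤ extender S (P₀ ⊔ Q) ((P ⊔ Q).subtype.comp
      (ε.trans (k₀ : MulAut ↥(P ⊔ Q))).toMonoidHom) := le_extender F he₁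
  have hsup : extender (normalizerIn S Q) P₀ φ ⊔ Q ≤ extender S (P₀ ⊔ Q) ((P ⊔ Q).subtype.comp
      (ε.trans (k₀ : MulAut ↥(P ⊔ Q))).toMonoidHom) :=
    sup_le hNext (le_sup_right.trans hR₀ext)
  have hθ := restrict_mem F hNext hΨ
  have hΨ' : ∀ (x : Ω) (hx : x ∈ P₀ ⊔ Q), Ψ ⟨x, hR₀ext hx⟩ =
      (((k₀ : MulAut ↥(P ⊔ Q)) (ε ⟨x, hx⟩) : ↥(P ⊔ Q)) : Ω) := fun x hx => hΨε x hx _
  have hΨQ : ∀ (z : Ω) (hz : z ∈ Q), Ψ ⟨z, hR₀ext ((le_sup_right : Q ≤ P₀ ⊔ Q) hz)⟩ ∈ Q := by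
    intro z hz
    rw [hΨ' z ((le_sup_right : Q ≤ P₀ ⊔ Q) hz)]
    exact (he₁Q ⟨z, _⟩).mpr hz
  have hQΨ : ∀ y ∈ Q, ∃ (z : Ω) (hz : z ∈ Q),
      Ψ ⟨z, hR₀ext ((le_sup_right : Q ≤ P₀ ⊔ Q) hz)⟩ = y := by
    intro y hy
    have hz : (((ε.trans (k₀ : MulAut ↥(P ⊔ Q))).symm
        ⟨y, (le_sup_right : Q ≤ P ⊔ Q) hy⟩ : ↥(P₀ ⊔ Q)) : Ω) ∈ Q := by
      apply (he₁Q _).mp
      rw [MulEquiv.apply_symm_apply]; exact hy
    refine ⟨_, hz, ?_⟩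
    rw [hΨ' _ ((le_sup_right : Q ≤ P₀ ⊔ Q) hz)]
    have e2 : (⟨(((ε.trans (k₀ : MulAut ↥(P ⊔ Q))).symm
        ⟨y, (le_sup_right : Q ≤ P ⊔ Q) hy⟩ : ↥(P₀ ⊔ Q)) : Ω),
        (le_sup_right : Q ≤ P₀ ⊔ Q) hz⟩ : ↥(P₀ ⊔ Q)) =
        (ε.trans (k₀ : MulAut ↥(P ⊔ Q))).symm ⟨y, (le_sup_right : Q ≤ P ⊔ Q) hy⟩ :=
      Subtype.ext rfl
    rw [e2]
    show (((ε.trans (k₀ : MulAut ↥(P ⊔ Q))) ((ε.trans (k₀ : MulAut ↥(P ⊔ Q))).symm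
        ⟨y, (le_sup_right : Q ≤ P ⊔ Q) hy⟩) : ↥(P ⊔ Q)) : Ω) = y
    rw [MulEquiv.apply_symm_apply]
  refine ⟨Ψ.comp (Subgroup.inclusion hNext), ?_, ?_⟩
  · rw [hE]
    refine ⟨hθ, hNφN, ?_, Ψ.comp (Subgroup.inclusion hsup), restrict_mem F hsup hΨ,
      fun x => rfl, ?_⟩
    · intro g
      refine ⟨(F.le_of_mem hθ).2 g, ?_⟩
      apply Subgroup.mem_normalizer_fintype
      intro y hy
      obtain ⟨z, hz, rfl⟩ := hQΨ y hy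
      have hgQ : (g : Ω) ∈ Subgroup.normalizer (Q : Set Ω) := (hNφN g.2).2
      have hcz : (g : Ω) * z * (g : Ω)⁻¹ ∈ Q := (Subgroup.mem_normalizer_iff.mp hgQ z).mp hz
      have e1 : (Ψ.comp (Subgroup.inclusion hNext)) g *
          Ψ ⟨z, hR₀ext ((le_sup_right : Q ≤ P₀ ⊔ Q) hz)⟩ *
          ((Ψ.comp (Subgroup.inclusion hNext)) g)⁻¹ =
          Ψ ⟨(g : Ω) * z * (g : Ω)⁻¹, hR₀ext ((le_sup_right : Q ≤ P₀ ⊔ Q) hcz)⟩ := by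
        rw [MonoidHom.comp_apply, ← map_inv, ← map_mul, ← map_mul]
        rfl
      rw [SetLike.mem_coe, e1]
      exact hΨQ _ hcz
    · rw [map_comp_inclusion hsup le_sup_right Ψ]
      apply le_antisymm
      · rintro _ ⟨z, hz, rfl⟩
        exact hΨQ z (Subgroup.mem_subgroupOf.mp hz)
      · intro y hy
        obtain ⟨z, hz, rfl⟩ := hQΨ y hy
        exact ⟨⟨z, _⟩, Subgroup.mem_subgroupOf.mpr hz, rfl⟩
  · intro x hxP hxN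
    show Ψ ⟨x, hNext hxN⟩ = φ ⟨x, hxP⟩
    have h1 := hΨ' x ((le_sup_left : P₀ ≤ P₀ ⊔ Q) hxP)
    have h2 := hεφ x hxP
    have hφP : φ ⟨x, hxP⟩ ∈ P := by rw [← hr]; exact ⟨_, rfl⟩
    have h3 := hk₀P _ hφP
    have e4 : ε ⟨x, (le_sup_left : P₀ ≤ P₀ ⊔ Q) hxP⟩ =
        ⟨φ ⟨x, hxP⟩, (le_sup_left : P ≤ P ⊔ Q) hφP⟩ := Subtype.ext h2
    rw [e4, h3] at h1
    exact h1

end Cfsg.Agent.helper25
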