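import Cfsg.Agent.Lib_helper25_NormSat4

set_option autoImplicit false
set_option linter.style.haveILetI false
set_option linter.unusedVariables false

namespace Cfsg.Agent.helper25

open Cfsg Cfsg.FusionSystem

variable {Ω : Type*} [Group Ω] {S : Subgroup Ω}

/-- **The normalizer system of a fully normalized subgroup is saturated.** -/
theorem normalizer_isSaturated [Finite S] {p : ℕ} [Fact p.Prime] (hS : IsPGroup p S)
    (F : FusionSystem S) (hF : F.IsSaturated p) {Q : Subgroup Ω} (hQ : F.IsFullyNormalized Q)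
    (E : FusionSystem (normalizerIn S Q)) (hE : F.IsNormalizerSystem Q E) : E.IsSaturated p := by
  intro P hP
  obtain ⟨P₃, hgood, ψ₃, hψ₃, hP₃, hQ₃⟩ := exists_good_conj hS F hF hQ hP
  refine ⟨P₃, ?_, fullyAutomized_of_good F hQ.1 E hE hgood,
    receptive_of_good hS F hQ.1 E hE hgood⟩
  refine ⟨ψ₃.comp (Subgroup.inclusion le_sup_left), ?_, ?_⟩
  · rw [hE]
    refine ⟨restrict_mem F le_sup_left hψ₃, hP, ?_, ψ₃, hψ₃, fun x => rfl, hQ₃⟩
    intro x
    apply hgood.1
    apply hP₃.le
    exact ⟨_, Subgroup.mem_subgroupOf.mpr x.2, rfl⟩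
  · rw [← hP₃]
    exact (map_subgroupOf_eq_range le_sup_left ψ₃ _ (fun x => rfl)).symm

end Cfsg.Agent.helper25
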