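import Cfsg.Agent.Lib_helper25_ChainNormal3

set_option autoImplicit false
set_option linter.style.haveILetI false
set_option linter.unusedVariables false

namespace Cfsg.Agent.helper25

open Cfsg Cfsg.FusionSystem

variable {Ω : Type*} [Group Ω] {S : Subgroup Ω}

/-- automorphisms of `P` trivial on `P/(P ∩ R)` and acting on `P ∩ R` as conjugation by an
element of `R`. -/
def innOnK (P R : Subgroup Ω) : Subgroup (MulAut P) where
  carrier := {α | (∀ x : P, ((x⁻¹ * α x : P) : Ω) ∈ R) ∧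
    ∃ r ∈ R, ∀ x : P, (x : Ω) ∈ R → ((α x : P) : Ω) = r * x * r⁻¹}
  one_mem' := by
    refine ⟨fun x => ?_, 1, R.one_mem, fun x _ => ?_⟩
    · show ((x⁻¹ * x : P) : Ω) ∈ R
      rw [inv_mul_cancel]; exact R.one_mem
    · show (x : Ω) = 1 * x * 1⁻¹
      group
  mul_mem' := by
    rintro α β ⟨hα1, rα, hrα, hα2⟩ ⟨hβ1, rβ, hrβ, hβ2⟩
    refine ⟨fun x => ?_, rα * rβ, R.mul_mem hrα hrβ, fun x hx => ?_⟩
    · have e : (x⁻¹ * (α * β) x : P) = (x⁻¹ * β x) * ((β x)⁻¹ * α (β x)) := by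
        show x⁻¹ * α (β x) = _
        group
      rw [e, Subgroup.coe_mul]
      exact R.mul_mem (hβ1 x) (hα1 (β x))
    · have hβx : ((β x : P) : Ω) ∈ R := by
        rw [hβ2 x hx]; exact R.mul_mem (R.mul_mem hrβ hx) (R.inv_mem hrβ)
      show ((α (β x) : P) : Ω) = _
      rw [hα2 (β x) hβx, hβ2 x hx]
      group
  inv_mem' := by
    rintro α ⟨hα1, r, hr, hα2⟩
    have h1 : ∀ x : P, ((x⁻¹ * α⁻¹ x : P) : Ω) ∈ R := by
      intro x
      have h := hα1 (α⁻¹ x)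
      have e : ((α⁻¹ x)⁻¹ * α (α⁻¹ x) : P) = (x⁻¹ * α⁻¹ x)⁻¹ := by
        rw [MulAut.apply_inv_self]; group
      rw [e, Subgroup.coe_inv] at h
      exact (R.inv_mem_iff).mp h
    refine ⟨h1, r⁻¹, R.inv_mem hr, fun x hx => ?_⟩
    have hy : ((α⁻¹ x : P) : Ω) ∈ R := by
      have e : ((α⁻¹ x : P) : Ω) = (x : Ω) * ((x⁻¹ * α⁻¹ x : P) : Ω) := by
        rw [Subgroup.coe_mul, Subgroup.coe_inv]; group
      rw [e]; exact R.mul_mem hx (h1 x)
    have h2 := hα2 (α⁻¹ x) hy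
    rw [MulAut.apply_inv_self] at h2
    calc ((α⁻¹ x : P) : Ω) = r⁻¹ * (r * ((α⁻¹ x : P) : Ω) * r⁻¹) * (r⁻¹)⁻¹ := by group
      _ = r⁻¹ * x * (r⁻¹)⁻¹ := by rw [← h2]

theorem le_of_forall_extends [Finite S] {p : ℕ} [Fact p.Prime] (hS : IsPGroup p S)
    (F : FusionSystem S) {R : Subgroup Ω} (hR : F.StronglyClosed R)
    (H : ∀ (P : Subgroup Ω) (hPR : P ≤ R) (φ : P →* Ω), φ ∈ F.Hom P →
      ∃ α ∈ F.autGroup R, ∀ x : P, ((α (Subgroup.inclusion hPR x) : R) : Ω) = φ x)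
    {P : Subgroup Ω} (hPc : F.IsCentric P) (hPr : F.IsRadical p P) : R ≤ P := by
  have hPS : P ≤ S := hPc.1
  have hRS : R ≤ S := hR.1
  have hSN := stronglyClosed_le_normalizer F hR
  haveI : Finite P := finite_of_le S hPS
  have hPp : IsPGroup p P := hS.to_le hPS
  have hRp : IsPGroup p R := hS.to_le hRS
  apply le_of_normal_pSubgroup hS F hPc hPr hRS hSN (innOnK P R)
  · intro a ha k hk
    obtain ⟨hk1, r, hr, hk2⟩ := hk
    have hai : a⁻¹ ∈ F.autGroup P := Subgroup.inv_mem _ ha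
    have ha' : IsFIso F a := (mem_autGroup_iff F hPS a).mp ha
    have hres := restrict_mem F (inf_le_left : P ⊓ R ≤ P) ha'
    obtain ⟨γ, hγ, hγe⟩ := H (P ⊓ R) inf_le_right _ hres
    refine ⟨fun x => ?_, ((γ ⟨r, hr⟩ : R) : Ω), (γ ⟨r, hr⟩).2, fun x hx => ?_⟩
    · have e : (x⁻¹ * (a * k * a⁻¹) x : P) = a ((a⁻¹ x)⁻¹ * k (a⁻¹ x)) := by
        show x⁻¹ * a (k (a⁻¹ x)) = _
        rw [map_mul, map_inv, MulAut.apply_inv_self]
      rw [e]
      exact stronglyClosed_aut_mem F hR hPS ha (hk1 (a⁻¹ x))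
    · have hy : ((a⁻¹ x : P) : Ω) ∈ R := stronglyClosed_aut_mem F hR hPS hai hx
      have hky : ((k (a⁻¹ x) : P) : Ω) ∈ R := by
        rw [hk2 _ hy]; exact R.mul_mem (R.mul_mem hr hy) (R.inv_mem hr)
      have hγe' : ∀ z : P, ∀ hz : (z : Ω) ∈ R, ((a z : P) : Ω) = ((γ ⟨z, hz⟩ : R) : Ω) := by
        intro z hz
        exact (hγe ⟨z, z.2, hz⟩).symm
      show ((a (k (a⁻¹ x)) : P) : Ω) = _
      rw [hγe' _ hky]
      have e1 : (⟨((k (a⁻¹ x) : P) : Ω), hky⟩ : R) =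
          ⟨r, hr⟩ * ⟨((a⁻¹ x : P) : Ω), hy⟩ * ⟨r, hr⟩⁻¹ := by
        apply Subtype.ext
        exact hk2 _ hy
      rw [e1, map_mul, map_mul, map_inv]
      rw [Subgroup.coe_mul, Subgroup.coe_mul, Subgroup.coe_inv]
      rw [← hγe' (a⁻¹ x) hy, MulAut.apply_inv_self]
  · intro k hk
    obtain ⟨hk1, r, hr, hk2⟩ := hk
    have hmono : Monotone (chain3 (R.subgroupOf P) ⊤) := chain3_mono le_top
    have hstab : IsChainStab (chain3 (R.subgroupOf P) ⊤) k := by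
      intro i x hx
      rcases Nat.eq_zero_or_pos i with rfl | hi
      · rw [chain3_zero]; exact Subgroup.mem_subgroupOf.mpr (hk1 x)
      · rcases Nat.lt_or_ge i 2 with h2 | h2
        · have : i = 1 := by omega
          subst this
          rw [chain3_one]; exact Subgroup.mem_top _
        · rw [chain3_ge _ _ h2]; exact Subgroup.mem_top _
    apply IsChainStab.exists_pow_eq_one hPp hmono hstab _ (chain3_one _ _)
    obtain ⟨j, hj⟩ := hRp ⟨r, hr⟩
    have hj' : r ^ (p ^ j) = 1 := by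
      have := congrArg Subtype.val hj
      simpa using this
    have hpow : ∀ n : ℕ, ∀ x : P, (x : Ω) ∈ R →
        (((k ^ n) x : P) : Ω) = r ^ n * x * (r ^ n)⁻¹ := by
      intro n
      induction n with
      | zero => intro x hx; simp
      | succ n ih =>
        intro x hx
        have hkx : ((k x : P) : Ω) ∈ R := by
          rw [hk2 x hx]; exact R.mul_mem (R.mul_mem hr hx) (R.inv_mem hr)
        rw [pow_succ]
        show (((k ^ n) (k x) : P) : Ω) = _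
        rw [ih (k x) hkx, hk2 x hx, pow_succ]
        group
    refine ⟨j, fun x hx => ?_⟩
    rw [chain3_zero] at hx
    apply Subtype.ext
    rw [hpow (p ^ j) x (Subgroup.mem_subgroupOf.mp hx), hj']
    group
  · intro g hg
    refine ⟨fun x => ?_, g, hg.1, fun x _ => rfl⟩
    show (x : Ω)⁻¹ * (g * x * g⁻¹) ∈ R
    have h5 : (x : Ω)⁻¹ * g * ((x : Ω)⁻¹)⁻¹ ∈ R :=
      (Subgroup.mem_normalizer_iff.mp (hSN (S.inv_mem (hPS x.2))) g).mp hg.1
    have e5 : (x : Ω)⁻¹ * (g * x * g⁻¹) = ((x : Ω)⁻¹ * g * ((x : Ω)⁻¹)⁻¹) * g⁻¹ := by group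
    rw [e5]
    exact R.mul_mem h5 (R.inv_mem hg.1)

theorem isNormal_iff_forall_extends [Finite S] {p : ℕ} [Fact p.Prime] (hS : IsPGroup p S)
    (F : FusionSystem S) (hF : F.IsSaturated p) (R : Subgroup Ω) (hRS : R ≤ S) :
    F.IsNormal R ↔ ∀ (P : Subgroup Ω) (hPR : P ≤ R) (φ : P →* Ω), φ ∈ F.Hom P →
      ∃ α ∈ F.autGroup R, ∀ x : P, ((α (Subgroup.inclusion hPR x) : R) : Ω) = φ x := by
  constructor
  · intro hR P hPR φ hφ
    obtain ⟨ψ, hψ, hψ1, hψ2⟩ := hR.2 P φ hφ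
    have hsup : P ⊔ R = R := sup_eq_right.mpr hPR
    have hψ' := hom_congr F hsup hψ
    have hrange : (ψ.comp (Subgroup.inclusion hsup.ge)).range = R := by
      ext y; constructor
      · rintro ⟨z, rfl⟩
        exact hψ2.le ⟨_, Subgroup.mem_subgroupOf.mpr z.2, rfl⟩
      · intro hy
        obtain ⟨z, hz, hzy⟩ := hψ2.ge hy
        exact ⟨⟨z, Subgroup.mem_subgroupOf.mp hz⟩, hzy⟩
    obtain ⟨e, he, hecoe⟩ := exists_isFIso_of_mem F hψ' hrange
    refine ⟨e, (mem_autGroup_iff F hRS e).mpr he, fun x => ?_⟩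
    rw [hecoe]
    exact hψ1 x
  · intro H
    have hsc : F.StronglyClosed R := by
      refine ⟨hRS, fun P hPR φ hφ x => ?_⟩
      obtain ⟨α, hα, hαe⟩ := H P hPR φ hφ
      rw [← hαe x]; exact (α _).2
    rw [isNormal_iff_stronglyClosed hS F hF]
    exact ⟨hsc, fun P hPc hPr => le_of_forall_extends hS F hsc H hPc hPr⟩

end Cfsg.Agent.helper25
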