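import Cfsg.Agent.Lib_helper25_SpJ
import Cfsg.Prelude.Def_Classical

set_option autoImplicit false
set_option linter.unusedSectionVars false

universe u

/-! Jordan types of unipotent elements of orthogonal groups (helper25). -/





namespace Cfsg.Agent.helper25.OJ

open Cfsg.Agent.helper25.UCent Cfsg.Agent.helper25.Jordan Cfsg.Agent.helper25.SpJ

section Generic

variable {F : Type*} [Field F] {ι : Type*} [Fintype ι] [DecidableEq ι] {t : ℕ}

/-- multiplication by the inverse of a unit, as a linear equivalence -/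
noncomputable def unitEquivG (c : (Matrix ι ι F)ˣ) : (ι → F) ≃ₗ[F] (ι → F) :=
  LinearEquiv.ofLinearMap (Matrix.toLin' (c⁻¹).val) (Matrix.toLin' c.val)
    (by rw [← Matrix.toLin'_mul, Units.inv_mul, Matrix.toLin'_one])
    (by rw [← Matrix.toLin'_mul, Units.mul_inv, Matrix.toLin'_one])

/-- the linear equivalence carrying a conjugate of the Jordan matrix to the block model -/
noncomputable def modelEquivG (d : Fin t → ℕ) (e : Ix d ≃ ι)
    (c : (Matrix ι ι F)ˣ) : (ι → F) ≃ₗ[F] Md F d :=
  (unitEquivG c).trans ((LinearEquiv.funCongrLeft F F e).trans (kap d))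

theorem modelEquivG_apply (d : Fin t → ℕ) (e : Ix d ≃ ι)
    (c : (Matrix ι ι F)ˣ) (x : ι → F) :
    modelEquivG d e c x = kap d (((c⁻¹).val.mulVec x) ∘ e) := rfl

theorem reindex_mulVec_compG (d : Fin t → ℕ) (e : Ix d ≃ ι)
    (M : Matrix (Ix d) (Ix d) F) (z : ι → F) :
    ((Matrix.reindex e e M).mulVec z) ∘ e = M.mulVec (z ∘ e) := by
  rw [Matrix.reindex_apply, Matrix.submatrix_mulVec_equiv]
  funext p
  simp

theorem modelEquivG_conj (d : Fin t → ℕ) (e : Ix d ≃ ι)
    (c : (Matrix ι ι F)ˣ) (A : Matrix ι ι F)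
    (hc : SemiconjBy c.val (Matrix.reindex e e (Cfsg.jordanTypeMatrix d F)) A)
    (x : ι → F) :
    modelEquivG d e c ((Matrix.toLin' A - 1 : Module.End F (ι → F)) x) =
      shk d 1 (modelEquivG d e c x) := by
  have h1 : (c⁻¹).val * A = Matrix.reindex e e (Cfsg.jordanTypeMatrix d F) * (c⁻¹).val := by
    have h2 : c.val * Matrix.reindex e e (Cfsg.jordanTypeMatrix d F) = A * c.val := hc
    calc (c⁻¹).val * A
        = (c⁻¹).val * (A * c.val) * (c⁻¹).val := by
          rw [Matrix.mul_assoc, Matrix.mul_assoc, Units.mul_inv, Matrix.mul_one]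
      _ = Matrix.reindex e e (Cfsg.jordanTypeMatrix d F) * (c⁻¹).val := by
          rw [← h2, ← Matrix.mul_assoc, Units.inv_mul, Matrix.one_mul]
  rw [modelEquivG_apply, modelEquivG_apply, ← kap_Nl, ← toLin'_jordan_sub_one]
  congr 1
  rw [LinearMap.sub_apply, Module.End.one_apply, Matrix.toLin'_apply, Matrix.mulVec_sub,
    Matrix.mulVec_mulVec, h1, ← Matrix.mulVec_mulVec, Matrix.toLin'_apply, Matrix.sub_mulVec,
    Matrix.one_mulVec]
  funext p
  simp only [Function.comp_apply, Pi.sub_apply]
  rw [← reindex_mulVec_compG d e]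
  rfl

theorem ranks_of_conj (d : Fin t → ℕ) (e : Ix d ≃ ι) (A : Matrix ι ι F)
    (h : IsConj (Matrix.reindex e e (Cfsg.jordanTypeMatrix d F)) A) (k : ℕ) :
    Module.finrank F (LinearMap.range ((Matrix.toLin' A - 1 : Module.End F (ι → F)) ^ k)) =
      ∑ l, (d l - k) := by
  obtain ⟨c, hc⟩ := h
  exact finrank_range_pow d (Matrix.toLin' A - 1 : Module.End F (ι → F))
    (modelEquivG d e c) (modelEquivG_conj d e c A hc) k

end Generic

section ForwardTwo

variable {F : Type*} [Field F] [CharP F 2] {ι : Type} [Fintype ι] [DecidableEq ι] {t : ℕ}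

theorem forward_char_two (d : Fin t → ℕ) (Q : QuadraticForm F (ι → F))
    (hnd : (QuadraticMap.polarBilin Q).Nondegenerate) (e : Ix d ≃ ι)
    (A : ↥(Cfsg.isometryGroup F ⇑Q))
    (h : IsConj (Matrix.reindex e e (Cfsg.jordanTypeMatrix d F))
      ((A : Matrix.GeneralLinearGroup ι F) : Matrix ι ι F)) (j : ℕ) (hj : Odd j) :
    Even (Finset.univ.filter (fun k : Fin t => d k = j)).card := by
  apply even_mult_of_even_ranks d _ j hj
  intro k
  rw [← ranks_of_conj d e _ h (2 * k)]
  have hiso : ∀ x : ι → F, Q ((A.1 : Matrix ι ι F).mulVec x) = Q x := fun x => A.2 x x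
  apply even_finrank_range_pow (QuadraticMap.polarBilin Q) (Matrix.toLin' (A.1 : Matrix ι ι F))
    (Matrix.toLin' ((A.1⁻¹ : Matrix.GeneralLinearGroup ι F) : Matrix ι ι F))
  · intro x
    show QuadraticMap.polar Q x x = 0
    rw [QuadraticMap.polar_self, two_smul, CharTwo.add_self_eq_zero]
  · intro x hx
    exact hnd.1 x hx
  · rw [Module.End.mul_eq_comp, ← Matrix.toLin'_mul, ← Units.val_mul, mul_inv_cancel, Units.val_one,
      Matrix.toLin'_one]
    rfl
  · rw [Module.End.mul_eq_comp, ← Matrix.toLin'_mul, ← Units.val_mul, inv_mul_cancel, Units.val_one,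
      Matrix.toLin'_one]
    rfl
  · intro x y
    show QuadraticMap.polar Q _ _ = QuadraticMap.polar Q x y
    unfold QuadraticMap.polar
    rw [Matrix.toLin'_apply, Matrix.toLin'_apply, ← Matrix.mulVec_add, hiso, hiso, hiso]

end ForwardTwo

end Cfsg.Agent.helper25.OJ




namespace Cfsg.Agent.helper25.OJ

open Cfsg.Agent.helper25.UCent Cfsg.Agent.helper25.Jordan Cfsg.Agent.helper25.SpJ

section QRealDef

variable (F : Type u) [Field F]

/-- the multiset `s` is the Jordan type of a unipotent isometry of a nondegenerate quadratic space -/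
def QReal (s : Multiset ℕ) : Prop :=
  ∃ (V : Type u) (_ : AddCommGroup V) (_ : Module F V) (_ : FiniteDimensional F V)
    (Q : QuadraticForm F V) (U Ui : Module.End F V),
    (∀ x, (∀ y, QuadraticMap.polar Q x y = 0) → x = 0) ∧ U * Ui = 1 ∧ Ui * U = 1 ∧
    (∀ x, Q (U x) = Q x) ∧
    ∀ k, Module.finrank F (LinearMap.range ((U - 1) ^ k)) = (s.map (fun a => a - k)).sum

variable {F}

theorem QReal.add {s s' : Multiset ℕ} (h : QReal F s) (h' : QReal F s') : QReal F (s + s') := by
  obtain ⟨V, _, _, _, Q, U, Ui, hnd, h1, h2, hu, hr⟩ := h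
  obtain ⟨V', _, _, _, Q', U', Ui', hnd', h1', h2', hu', hr'⟩ := h'
  refine ⟨V × V', inferInstance, inferInstance, inferInstance, Q.prod Q',
    U.prodMap U', Ui.prodMap Ui', ?_, ?_, ?_, ?_, ?_⟩
  · intro x hx
    apply Prod.ext
    · apply hnd
      intro y
      have := hx (y, 0)
      rw [QuadraticMap.polar_prod] at this
      simpa using this
    · apply hnd'
      intro y
      have := hx (0, y)
      rw [QuadraticMap.polar_prod] at this
      simpa using this
  · rw [LinearMap.prodMap_mul, h1, h1', LinearMap.prodMap_one]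
  · rw [LinearMap.prodMap_mul, h2, h2', LinearMap.prodMap_one]
  · intro x
    rw [QuadraticMap.prod_apply, QuadraticMap.prod_apply]
    show Q (U x.1) + Q' (U' x.2) = Q x.1 + Q' x.2
    rw [hu, hu']
  · intro k
    rw [prodMap_sub_one, prodMap_pow', finrank_range_prodMap, hr, hr', Multiset.map_add,
      Multiset.sum_add]

/-- the hyperbolic quadratic form on `W × W*` -/
def hypForm (F : Type u) [Field F] (W : Type u) [AddCommGroup W] [Module F W] :
    QuadraticForm F (W × Module.Dual F W) :=
  LinearMap.BilinMap.toQuadraticMap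
    (LinearMap.mk₂ F (fun p q : W × Module.Dual F W => p.2 q.1)
      (by intro a b c; simp)
      (by intro r a b; simp)
      (by intro a b c; simp)
      (by intro r a b; simp))

variable {W : Type u} [AddCommGroup W] [Module F W] [FiniteDimensional F W]

theorem hypForm_apply (p : W × Module.Dual F W) : hypForm F W p = p.2 p.1 := rfl

theorem hypForm_polar (p q : W × Module.Dual F W) :
    QuadraticMap.polar (hypForm F W) p q = p.2 q.1 + q.2 p.1 := by
  unfold hypForm
  rw [LinearMap.BilinMap.polar_toQuadraticMap]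
  rfl

theorem hypForm_nondeg (p : W × Module.Dual F W)
    (hp : ∀ q, QuadraticMap.polar (hypForm F W) p q = 0) : p = 0 := by
  apply Prod.ext
  · show p.1 = 0
    rw [← Module.forall_dual_apply_eq_zero_iff F]
    intro η
    have := hp (0, η)
    rw [hypForm_polar] at this
    simpa using this
  · show p.2 = 0
    apply LinearMap.ext
    intro y
    have := hp (y, 0)
    rw [hypForm_polar] at this
    simpa using this

theorem hypForm_sieg_zero (U₀ U₀i : Module.End F W) (h2 : U₀i * U₀ = 1) (p : W × Module.Dual F W) :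
    hypForm F W (sieg U₀ U₀i 0 p) = hypForm F W p := by
  rw [hypForm_apply, hypForm_apply, sieg_apply]
  simp only [LinearMap.zero_apply, add_zero, LinearMap.dualMap_apply]
  rw [← Module.End.mul_apply, h2, Module.End.one_apply]

theorem QReal.double {ι : Type} [Fintype ι] (e : ι → ℕ) :
    QReal F (Finset.univ.val.map e + Finset.univ.val.map e) := by
  obtain ⟨u, hu⟩ := (shk_one_nilpotent (F := F) e).isUnit_one_add
  have h1 : (1 + shk (F := F) e 1) * (↑u⁻¹ : Module.End F (Md F e)) = 1 := by
    rw [← hu]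
    exact u.mul_inv
  have h2 : (↑u⁻¹ : Module.End F (Md F e)) * (1 + shk (F := F) e 1) = 1 := by
    rw [← hu]
    exact u.inv_mul
  refine ⟨Md F e × Module.Dual F (Md F e), inferInstance, inferInstance, inferInstance,
    hypForm F (Md F e), sieg (1 + shk e 1) (↑u⁻¹) 0, siegInv (1 + shk e 1) (↑u⁻¹) 0,
    hypForm_nondeg, sieg_mul_inv _ _ _ h1, sieg_inv_mul _ _ _ h2,
    hypForm_sieg_zero _ _ h2, ?_⟩
  intro k
  rw [finrank_range_sieg_zero _ _ h1 h2, add_sub_cancel_left, shk_pow, finrank_range_shk,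
    Multiset.map_add, Multiset.sum_add, Multiset.map_map]
  rfl

theorem QReal.zero : QReal F (0 : Multiset ℕ) := by
  have := QReal.double (F := F) (fun _ : Fin 0 => 0)
  simpa using this

theorem QReal.pair (a : ℕ) : QReal F ({a} + {a} : Multiset ℕ) := by
  have := QReal.double (F := F) (fun _ : Fin 1 => a)
  simpa using this

end QRealDef

end Cfsg.Agent.helper25.OJ




namespace Cfsg.Agent.helper25.OJ

open Cfsg.Agent.helper25.UCent Cfsg.Agent.helper25.Jordan Cfsg.Agent.helper25.SpJ

section SingleTwo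

variable {F : Type u} [Field F] (l : ℕ) (hl : 1 ≤ l)

/-- evaluation at the first coordinate -/
def alp : Module.Dual F (Fin l → F) where
  toFun x := x ⟨0, hl⟩
  map_add' := by
    intro x y
    rfl
  map_smul' := by
    intro a x
    rfl

theorem alp_apply (x : Fin l → F) : alp l hl x = x ⟨0, hl⟩ := rfl

theorem alp_sh1 (x : Fin l → F) : alp l hl (sh1 l x) = 0 := by
  rw [alp_apply, sh1_apply, dif_neg (by simp)]

theorem alp_e0 : alp l hl (e0 (F := F) l hl) = 1 := by
  rw [alp_apply]
  unfold e0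
  rw [Pi.single_eq_same]

/-- the orthogonal transvection in the vector `(e₀, α)` -/
def refl0 : Module.End F ((Fin l → F) × Module.Dual F (Fin l → F)) where
  toFun p := p + (p.2 (e0 l hl) + alp l hl p.1) • (e0 l hl, alp l hl)
  map_add' := by
    intro p q
    simp only [Prod.fst_add, Prod.snd_add, LinearMap.add_apply, map_add]
    rw [show (p.2 (e0 l hl) + q.2 (e0 l hl) + (alp l hl p.1 + alp l hl q.1)) =
      (p.2 (e0 l hl) + alp l hl p.1) + (q.2 (e0 l hl) + alp l hl q.1) by ring, add_smul]
    abel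
  map_smul' := by
    intro a p
    simp only [Prod.smul_fst, Prod.smul_snd, LinearMap.smul_apply, map_smul, smul_eq_mul,
      RingHom.id_apply]
    rw [smul_add, ← mul_add, mul_smul]

theorem refl0_apply (p : (Fin l → F) × Module.Dual F (Fin l → F)) :
    refl0 l hl p = p + (p.2 (e0 l hl) + alp l hl p.1) • (e0 l hl, alp l hl) := rfl

variable [CharP F 2]

theorem refl0_sq : refl0 (F := F) l hl * refl0 l hl = 1 := by
  apply LinearMap.ext
  intro p
  rw [Module.End.mul_apply, refl0_apply, refl0_apply, Module.End.one_apply]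
  simp only [Prod.fst_add, Prod.snd_add, Prod.smul_fst, Prod.smul_snd, LinearMap.add_apply,
    LinearMap.smul_apply, map_add, map_smul, smul_eq_mul, alp_e0, mul_one]
  set c := p.2 (e0 l hl) + alp l hl p.1 with hc
  have h2 : c + c = 0 := CharTwo.add_self_eq_zero c
  have h3 : p.2 (e0 l hl) + c + (alp l hl p.1 + c) = c := by
    calc p.2 (e0 l hl) + c + (alp l hl p.1 + c) = c + (c + c) := by rw [hc]; ring
      _ = c := by rw [h2, add_zero]
  rw [h3, add_assoc, ← add_smul, h2, zero_smul, add_zero]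

theorem hypForm_refl0 (p : (Fin l → F) × Module.Dual F (Fin l → F)) :
    hypForm F (Fin l → F) (refl0 l hl p) = hypForm F (Fin l → F) p := by
  rw [hypForm_apply, hypForm_apply, refl0_apply]
  simp only [Prod.fst_add, Prod.snd_add, Prod.smul_fst, Prod.smul_snd, LinearMap.add_apply,
    LinearMap.smul_apply, map_add, map_smul, smul_eq_mul, alp_e0, mul_one]
  set c := p.2 (e0 l hl) + alp l hl p.1 with hc
  have h2 : c * c + c * c = 0 := CharTwo.add_self_eq_zero _
  calc p.2 p.1 + c * alp l hl p.1 + c * (p.2 (e0 l hl) + c)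
      = p.2 p.1 + (c * c + c * c) := by rw [hc]; ring
    _ = p.2 p.1 := by rw [h2, add_zero]

end SingleTwo

end Cfsg.Agent.helper25.OJ




namespace Cfsg.Agent.helper25.OJ

open Cfsg.Agent.helper25.UCent Cfsg.Agent.helper25.Jordan Cfsg.Agent.helper25.SpJ

section SingleTwoB

variable {F : Type u} [Field F] (l : ℕ) (hl : 1 ≤ l)
  (U₀i : Module.End F (Fin l → F))

/-- the coefficient of the transvection -/
def cc (p : (Fin l → F) × Module.Dual F (Fin l → F)) : F := p.2 (e0 l hl) + alp l hl p.1

/-- the regular unipotent isometry in characteristic two -/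
def uTwo : Module.End F ((Fin l → F) × Module.Dual F (Fin l → F)) :=
  sieg (1 + sh1 l) U₀i 0 * refl0 l hl

/-- its inverse -/
def uTwoInv : Module.End F ((Fin l → F) × Module.Dual F (Fin l → F)) :=
  refl0 l hl * siegInv (1 + sh1 l) U₀i 0

theorem uTwo_sub_one_apply (p : (Fin l → F) × Module.Dual F (Fin l → F)) :
    (uTwo l hl U₀i - 1) p =
      ((1 + sh1 l) (p.1 + cc l hl p • e0 l hl) - p.1,
        U₀i.dualMap (p.2 + cc l hl p • alp l hl) - p.2) := by
  unfold uTwo
  rw [LinearMap.sub_apply, Module.End.mul_apply, refl0_apply, sieg_apply, Module.End.one_apply]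
  simp only [Prod.fst_add, Prod.snd_add, Prod.smul_fst, Prod.smul_snd, LinearMap.zero_apply, add_zero]
  rfl

variable (h1 : (1 + sh1 (F := F) l) * U₀i = 1) (h2 : U₀i * (1 + sh1 (F := F) l) = 1)

include h1 in
theorem U₀i_sub (y : Fin l → F) : U₀i y - y = -sh1 l (U₀i y) := by
  have := LinearMap.congr_fun h1 y
  rw [Module.End.mul_apply, LinearMap.add_apply, Module.End.one_apply, Module.End.one_apply] at this
  calc U₀i y - y = U₀i y - (U₀i y + sh1 l (U₀i y)) := by rw [this]
    _ = -sh1 l (U₀i y) := by abel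

include h1 h2 in
theorem U₀i_comm (y : Fin l → F) : U₀i (sh1 l y) = sh1 l (U₀i y) := by
  have ha := LinearMap.congr_fun h1 y
  have hb := LinearMap.congr_fun h2 y
  rw [Module.End.mul_apply, LinearMap.add_apply, Module.End.one_apply, Module.End.one_apply] at ha
  rw [Module.End.mul_apply, LinearMap.add_apply, Module.End.one_apply, map_add] at hb
  have : U₀i y + sh1 l (U₀i y) = U₀i y + U₀i (sh1 l y) := by rw [ha, hb]
  exact (add_left_cancel this).symm

include h1 in
theorem alp_U₀i (y : Fin l → F) : alp l hl (U₀i y) = alp l hl y := by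
  have := U₀i_sub l U₀i h1 y
  have h3 := congrArg (alp l hl) this
  rw [map_sub, map_neg, alp_sh1, neg_zero] at h3
  exact sub_eq_zero.mp h3

include h1 in
theorem N_fst (p : (Fin l → F) × Module.Dual F (Fin l → F)) :
    ((uTwo l hl U₀i - 1) p).1 = sh1 l p.1 + cc l hl p • (e0 l hl + sh1 l (e0 l hl)) := by
  rw [uTwo_sub_one_apply]
  simp only [LinearMap.add_apply, Module.End.one_apply, map_add, map_smul, smul_add]
  abel

include h1 in
theorem N_snd (p : (Fin l → F) × Module.Dual F (Fin l → F)) :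
    ((uTwo l hl U₀i - 1) p).2 = (U₀i - 1).dualMap p.2 + cc l hl p • alp l hl := by
  rw [uTwo_sub_one_apply]
  apply LinearMap.ext
  intro y
  simp only [LinearMap.sub_apply, LinearMap.dualMap_apply, LinearMap.add_apply, LinearMap.smul_apply,
    Module.End.one_apply, map_sub, smul_eq_mul]
  rw [alp_U₀i l hl U₀i h1]
  ring

end SingleTwoB

end Cfsg.Agent.helper25.OJ




namespace Cfsg.Agent.helper25.OJ

open Cfsg.Agent.helper25.UCent Cfsg.Agent.helper25.Jordan Cfsg.Agent.helper25.SpJ

section SingleTwoC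

variable {F : Type u} [Field F] (l : ℕ) (hl : 1 ≤ l)
  (U₀i : Module.End F (Fin l → F))
  (h1 : (1 + sh1 (F := F) l) * U₀i = 1) (h2 : U₀i * (1 + sh1 (F := F) l) = 1)

include h1 h2 in
theorem ker_small_two (p : (Fin l → F) × Module.Dual F (Fin l → F))
    (hp : (uTwo l hl U₀i - 1) p = 0) (hlast : p.1 ⟨l - 1, by omega⟩ = 0) : p = 0 := by
  have ha : sh1 l p.1 + cc l hl p • (e0 l hl + sh1 l (e0 l hl)) = 0 := by
    rw [← N_fst l hl U₀i h1, hp]
    rfl
  have hb : (U₀i - 1).dualMap p.2 + cc l hl p • alp l hl = 0 := by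
    rw [← N_snd l hl U₀i h1, hp]
    rfl
  -- coordinate 0 gives c = 0
  have hc : cc l hl p = 0 := by
    have := congrFun ha ⟨0, hl⟩
    rw [Pi.add_apply, Pi.smul_apply, Pi.add_apply, sh1_apply, sh1_apply, dif_neg (by simp),
      dif_neg (by simp), smul_eq_mul] at this
    unfold e0 at this
    rw [Pi.single_eq_same, add_zero, mul_one, zero_add] at this
    exact this
  rw [hc, zero_smul, add_zero] at ha hb
  have hx : p.1 = 0 := by
    funext j
    by_cases hj : (j : ℕ) + 1 < l
    · have := congrFun ha ⟨(j : ℕ) + 1, hj⟩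
      rw [sh1_apply, dif_pos (by simp)] at this
      exact this
    · have hj' : j = ⟨l - 1, by omega⟩ := by
        apply Fin.ext
        have := j.2
        simp only
        omega
      rw [hj']
      exact hlast
  have hξn : ∀ z, p.2 (sh1 l z) = 0 := by
    intro z
    have h3 := LinearMap.congr_fun hb ((1 + sh1 (F := F) l) z)
    rw [LinearMap.dualMap_apply, LinearMap.sub_apply, Module.End.one_apply, ← Module.End.mul_apply,
      h2, Module.End.one_apply, LinearMap.add_apply, Module.End.one_apply, map_sub, map_add] at h3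
    have h4 : p.2 z - (p.2 z + p.2 (sh1 l z)) = 0 := h3
    have h5 : p.2 (sh1 l z) = -(p.2 z - (p.2 z + p.2 (sh1 l z))) := by ring
    rw [h5, h4, neg_zero]
  have hξ0 : p.2 (e0 l hl) = 0 := by
    have := hc
    unfold cc at this
    rw [hx, map_zero, add_zero] at this
    exact this
  have hξ : p.2 = 0 := by
    apply LinearMap.ext
    intro y
    obtain ⟨y', hy⟩ := decomp_e0 l hl y
    rw [hy, map_add, map_smul, hξ0, hξn, smul_zero, add_zero]
    rfl
  exact Prod.ext hx hξ

end SingleTwoC

end Cfsg.Agent.helper25.OJ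




namespace Cfsg.Agent.helper25.OJ

open Cfsg.Agent.helper25.UCent Cfsg.Agent.helper25.Jordan Cfsg.Agent.helper25.SpJ

section SingleTwoD

variable {F : Type u} [Field F] (l : ℕ) (hl : 1 ≤ l)
  (U₀i : Module.End F (Fin l → F))
  (h1 : (1 + sh1 (F := F) l) * U₀i = 1) (h2 : U₀i * (1 + sh1 (F := F) l) = 1)

include h1 h2 in
theorem stepA (p : (Fin l → F) × Module.Dual F (Fin l → F)) :
    (sh1 l).dualMap ((uTwo l hl U₀i - 1) p).2 = (U₀i - 1).dualMap ((sh1 l).dualMap p.2) := by
  rw [N_snd l hl U₀i h1]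
  apply LinearMap.ext
  intro y
  simp only [LinearMap.dualMap_apply, LinearMap.add_apply, LinearMap.smul_apply, LinearMap.sub_apply,
    Module.End.one_apply, map_sub, alp_sh1, smul_eq_mul, mul_zero, add_zero]
  rw [U₀i_comm l U₀i h1 h2]

include h1 h2 in
theorem stepA_pow (j : ℕ) (p : (Fin l → F) × Module.Dual F (Fin l → F)) :
    (sh1 l).dualMap (((uTwo l hl U₀i - 1) ^ j) p).2 =
      (((U₀i - 1) ^ j).dualMap) ((sh1 l).dualMap p.2) := by
  induction j with
  | zero =>
    rw [pow_zero, pow_zero]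
    rfl
  | succ j ih =>
    rw [pow_succ', Module.End.mul_apply, stepA l hl U₀i h1 h2, ih, pow_succ]
    rfl

include h1 h2 in
theorem U₀i_sub_one_pow : (U₀i - 1) ^ l = 0 := by
  rw [sub_one_pow_eq U₀i (1 + sh1 l) h2 h1 l, add_sub_cancel_left, sh1_pow_self, mul_zero]

include h1 h2 in
theorem stepA_final (p : (Fin l → F) × Module.Dual F (Fin l → F)) :
    (sh1 l).dualMap (((uTwo l hl U₀i - 1) ^ l) p).2 = 0 := by
  rw [stepA_pow l hl U₀i h1 h2, U₀i_sub_one_pow l U₀i h1 h2]
  apply LinearMap.ext
  intro y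
  simp

include h1 in
theorem stepB (p : (Fin l → F) × Module.Dual F (Fin l → F)) (hp : (sh1 l).dualMap p.2 = 0) :
    ((uTwo l hl U₀i - 1) p).2 = cc l hl p • alp l hl ∧
      alp l hl ((uTwo l hl U₀i - 1) p).1 = cc l hl p := by
  constructor
  · rw [N_snd l hl U₀i h1]
    have : (U₀i - 1).dualMap p.2 = 0 := by
      apply LinearMap.ext
      intro y
      rw [LinearMap.dualMap_apply, LinearMap.sub_apply, Module.End.one_apply, U₀i_sub l U₀i h1,
        map_neg]
      have := LinearMap.congr_fun hp (U₀i y)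
      rw [LinearMap.dualMap_apply] at this
      rw [this]
      simp
    rw [this, zero_add]
  · rw [N_fst l hl U₀i h1, map_add, map_smul, map_add, alp_sh1, alp_sh1, alp_e0]
    simp

variable [CharP F 2]

include h1 in
theorem stepC (q : (Fin l → F) × Module.Dual F (Fin l → F)) (t : F) (hq2 : q.2 = t • alp l hl)
    (hq1 : alp l hl q.1 = t) :
    ((uTwo l hl U₀i - 1) q).2 = 0 ∧ alp l hl ((uTwo l hl U₀i - 1) q).1 = 0 := by
  have hc : cc l hl q = 0 := by
    unfold cc
    rw [hq2, hq1, LinearMap.smul_apply, alp_e0, smul_eq_mul, mul_one]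
    exact CharTwo.add_self_eq_zero t
  constructor
  · rw [N_snd l hl U₀i h1, hc, zero_smul, add_zero, hq2]
    apply LinearMap.ext
    intro y
    rw [LinearMap.dualMap_apply, LinearMap.smul_apply, LinearMap.sub_apply, Module.End.one_apply,
      map_sub, alp_U₀i l hl U₀i h1, sub_self, smul_zero]
    rfl
  · rw [N_fst l hl U₀i h1, hc, zero_smul, add_zero, alp_sh1]

include h1 in
theorem stepD (j : ℕ) (q : (Fin l → F) × Module.Dual F (Fin l → F)) (hq2 : q.2 = 0)
    (hq1 : alp l hl q.1 = 0) :
    ((uTwo l hl U₀i - 1) ^ j) q = (((sh1 l) ^ j) q.1, 0) := by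
  induction j generalizing q with
  | zero =>
    rw [pow_zero, pow_zero]
    exact Prod.ext rfl hq2
  | succ j ih =>
    have hc : cc l hl q = 0 := by
      unfold cc
      rw [hq2, hq1, LinearMap.zero_apply, add_zero]
    have hN : (uTwo l hl U₀i - 1) q = (sh1 l q.1, 0) := by
      apply Prod.ext
      · rw [N_fst l hl U₀i h1, hc, zero_smul, add_zero]
      · rw [N_snd l hl U₀i h1, hc, zero_smul, add_zero, hq2, map_zero]
    rw [pow_succ, Module.End.mul_apply, hN, ih _ rfl (alp_sh1 l hl _), pow_succ, Module.End.mul_apply]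

include h1 h2 in
theorem uTwo_nilpotent : (uTwo l hl U₀i - 1) ^ (l + (1 + (1 + l))) = 0 := by
  apply LinearMap.ext
  intro p
  rw [pow_add, pow_add, pow_add, pow_one, Module.End.mul_apply, Module.End.mul_apply,
    Module.End.mul_apply]
  set p1 := ((uTwo l hl U₀i - 1) ^ l) p with hp1
  have hA := stepA_final l hl U₀i h1 h2 p
  rw [← hp1] at hA
  obtain ⟨hB2, hB1⟩ := stepB l hl U₀i h1 p1 hA
  set p2 := (uTwo l hl U₀i - 1) p1 with hp2
  obtain ⟨hC2, hC1⟩ := stepC l hl U₀i h1 p2 (cc l hl p1) hB2 hB1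
  rw [stepD l hl U₀i h1 l _ hC2 hC1, sh1_pow_self]
  rfl

end SingleTwoD

end Cfsg.Agent.helper25.OJ




namespace Cfsg.Agent.helper25.OJ

open Cfsg.Agent.helper25.UCent Cfsg.Agent.helper25.Jordan Cfsg.Agent.helper25.SpJ

section SingleTwoE

variable {F : Type u} [Field F] [CharP F 2] (l : ℕ) (hl : 1 ≤ l)

include hl in
theorem QReal.single_two : QReal F ({2 * l} : Multiset ℕ) := by
  have hnil : IsNilpotent (sh1 (F := F) l) := ⟨l, sh1_pow_self l⟩
  obtain ⟨u, hu⟩ := hnil.isUnit_one_add
  have h1 : (1 + sh1 (F := F) l) * (↑u⁻¹ : Module.End F (Fin l → F)) = 1 := by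
    rw [← hu]
    exact u.mul_inv
  have h2 : (↑u⁻¹ : Module.End F (Fin l → F)) * (1 + sh1 (F := F) l) = 1 := by
    rw [← hu]
    exact u.inv_mul
  refine ⟨(Fin l → F) × Module.Dual F (Fin l → F), inferInstance, inferInstance, inferInstance,
    hypForm F (Fin l → F), uTwo l hl (↑u⁻¹), uTwoInv l hl (↑u⁻¹), hypForm_nondeg, ?_, ?_, ?_, ?_⟩
  · unfold uTwo uTwoInv
    rw [mul_assoc, ← mul_assoc (refl0 l hl), refl0_sq, one_mul, sieg_mul_inv _ _ _ h1]
  · unfold uTwo uTwoInv
    rw [mul_assoc, ← mul_assoc (siegInv _ _ _), sieg_inv_mul _ _ _ h2, one_mul, refl0_sq]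
  · intro p
    unfold uTwo
    rw [Module.End.mul_apply, hypForm_sieg_zero _ _ h2, hypForm_refl0]
  · intro k
    have hNnil : IsNilpotent (uTwo l hl (↑u⁻¹ : Module.End F (Fin l → F)) - 1) :=
      ⟨_, uTwo_nilpotent l hl _ h1 h2⟩
    have hfin : Module.finrank F ((Fin l → F) × Module.Dual F (Fin l → F)) = 2 * l := by
      rw [Module.finrank_prod, Subspace.dual_finrank_eq, Module.finrank_fin_fun]
      ring
    have hker : Module.finrank F (LinearMap.ker (uTwo l hl (↑u⁻¹ : Module.End F (Fin l → F)) - 1)) ≤ 1 := by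
      let lam : LinearMap.ker (uTwo l hl (↑u⁻¹ : Module.End F (Fin l → F)) - 1) →ₗ[F] F :=
        ((evalLast l hl).comp
          (LinearMap.fst F (Fin l → F) (Module.Dual F (Fin l → F)))).comp (Submodule.subtype _)
      have hinj : Function.Injective lam := by
        intro p q hpq
        apply Subtype.ext
        have hpq' : p.1.1 ⟨l - 1, by omega⟩ = q.1.1 ⟨l - 1, by omega⟩ := hpq
        have h3 : (p.1 - q.1).1 ⟨l - 1, by omega⟩ = 0 := by
          show p.1.1 ⟨l - 1, by omega⟩ - q.1.1 ⟨l - 1, by omega⟩ = 0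
          rw [hpq', sub_self]
        have h4 : (uTwo l hl (↑u⁻¹ : Module.End F (Fin l → F)) - 1 :
            Module.End F ((Fin l → F) × Module.Dual F (Fin l → F))) (p.1 - q.1) = 0 := by
          rw [map_sub, LinearMap.mem_ker.mp p.2, LinearMap.mem_ker.mp q.2, sub_self]
        exact sub_eq_zero.mp (ker_small_two l hl _ h1 h2 (p.1 - q.1) h4 h3)
      have := LinearMap.finrank_le_finrank_of_injective hinj
      rwa [Module.finrank_self] at this
    rw [ranks_of_ker_le_one _ hNnil (2 * l) hfin hker k, Multiset.map_singleton,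
      Multiset.sum_singleton]

theorem QReal.of_counts_two : ∀ (n : ℕ) (s : Multiset ℕ), Multiset.card s = n → 0 ∉ s →
    (∀ j, Odd j → Even (s.count j)) → QReal F s := by
  intro n
  induction n using Nat.strong_induction_on with
  | _ n ih =>
  intro s hcard h0 hodd
  rcases Multiset.empty_or_exists_mem s with rfl | ⟨a, ha⟩
  · exact QReal.zero
  · rcases Nat.even_or_odd a with hev | hod
    · obtain ⟨l, hl⟩ := hev
      have hl1 : 1 ≤ l := by
        rcases Nat.eq_zero_or_pos l with h | h
        · exfalso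
          apply h0
          rw [h] at hl
          rw [hl] at ha
          exact ha
        · exact h
      have hs : s = {2 * l} + s.erase a := by
        rw [Multiset.singleton_add, ← two_mul] at *
        rw [← hl, Multiset.cons_erase ha]
      rw [hs]
      apply QReal.add (QReal.single_two l hl1)
      apply ih (n - 1) _ (s.erase a)
      · rw [Multiset.card_erase_of_mem ha, hcard]
        rfl
      · intro h
        exact h0 (Multiset.mem_of_mem_erase h)
      · intro j hj
        have hne : j ≠ a := by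
          rintro rfl
          rw [hl, ← two_mul] at hj
          exact (Nat.not_even_iff_odd.mpr hj) (even_two_mul l)
        rw [Multiset.count_erase_of_ne hne]
        exact hodd j hj
      · have : 0 < Multiset.card s := Multiset.card_pos_iff_exists_mem.mpr ⟨a, ha⟩
        omega
    · have hc := hodd a hod
      have hc1 : 1 ≤ s.count a := Multiset.one_le_count_iff_mem.mpr ha
      have hc2 : 2 ≤ s.count a := by
        obtain ⟨r, hr⟩ := hc
        omega
      have ha' : a ∈ s.erase a := by
        rw [← Multiset.one_le_count_iff_mem, Multiset.count_erase_self]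
        omega
      have hs : s = ({a} + {a}) + (s.erase a).erase a := by
        rw [add_assoc, Multiset.singleton_add, Multiset.singleton_add, Multiset.cons_erase ha',
          Multiset.cons_erase ha]
      rw [hs]
      apply QReal.add (QReal.pair a)
      apply ih (n - 2) _ ((s.erase a).erase a)
      · rw [Multiset.card_erase_of_mem ha', Multiset.card_erase_of_mem ha, hcard]
        rfl
      · intro h
        exact h0 (Multiset.mem_of_mem_erase (Multiset.mem_of_mem_erase h))
      · intro j hj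
        by_cases hne : j = a
        · subst hne
          rw [Multiset.count_erase_self, Multiset.count_erase_self]
          obtain ⟨r, hr⟩ := hc
          exact ⟨r - 1, by omega⟩
        · rw [Multiset.count_erase_of_ne hne, Multiset.count_erase_of_ne hne]
          exact hodd j hj
      · have h1 : s.count a ≤ Multiset.card s := Multiset.count_le_card a s
        omega

end SingleTwoE

end Cfsg.Agent.helper25.OJ




namespace Cfsg.Agent.helper25.OJ

open Cfsg.Agent.helper25.UCent Cfsg.Agent.helper25.Jordan Cfsg.Agent.helper25.SpJ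

section BackwardO

variable {F : Type u} [Field F] {t : ℕ}

theorem exists_jordan_equiv {V : Type u} [AddCommGroup V] [Module F V] [FiniteDimensional F V]
    (U : Module.End F V) (d : Fin t → ℕ) (hd : ∀ k, 1 ≤ d k)
    (hr : ∀ k, Module.finrank F (LinearMap.range ((U - 1) ^ k)) =
      ((Finset.univ.val.map d).map (fun a => a - k)).sum) :
    ∃ ψ : V ≃ₗ[F] (Ix d → F), ∀ x, ψ (U x) = (Cfsg.jordanTypeMatrix d F).mulVec (ψ x) := by
  classical
  set s : Multiset ℕ := Finset.univ.val.map d with hs
  have hs0 : 0 ∉ s := by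
    intro h0
    obtain ⟨k, _, hk⟩ := Multiset.mem_map.mp h0
    have := hd k
    omega
  have hnil : IsNilpotent (U - 1) := by
    refine ⟨s.sum, ?_⟩
    have h0 : (s.map (fun a => a - s.sum)).sum = 0 := by
      apply Multiset.sum_eq_zero
      intro x hx
      obtain ⟨a, ha, rfl⟩ := Multiset.mem_map.mp hx
      have := Multiset.le_sum_of_mem ha
      omega
    have h3 := hr s.sum
    rw [h0, Submodule.finrank_eq_zero] at h3
    exact LinearMap.range_eq_bot.mp h3
  obtain ⟨ι, _, e', φ, hpos, hφ⟩ := exists_model (F := F) _ V (U - 1) hnil rfl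
  have hms : Finset.univ.val.map e' = Finset.univ.val.map d := by
    apply multiset_eq_of_sums
    · intro h0
      obtain ⟨i, _, hi⟩ := Multiset.mem_map.mp h0
      have := hpos i
      omega
    · exact hs0
    · intro k
      rw [← hr k, finrank_range_pow e' (U - 1) φ hφ k, Multiset.map_map]
      rfl
  obtain ⟨χ, hχ⟩ := exists_intertwiner (F := F) e' d (U - 1) φ hφ (shk d 1)
    (LinearEquiv.refl F (Md F d)) (fun x => rfl) hms
  refine ⟨χ.trans (kap d).symm, ?_⟩
  have hψN : ∀ x, (χ.trans (kap d).symm) ((U - 1) x) = Nl d ((χ.trans (kap d).symm) x) := by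
    intro x
    apply (kap d).injective
    rw [kap_Nl]
    show kap d ((kap d).symm (χ ((U - 1) x))) = shk d 1 (kap d ((kap d).symm (χ x)))
    rw [LinearEquiv.apply_symm_apply, LinearEquiv.apply_symm_apply, hχ]
  intro x
  have h3 := hψN x
  rw [← toLin'_jordan_sub_one, Matrix.toLin'_apply, Matrix.sub_mulVec, Matrix.one_mulVec,
    LinearMap.sub_apply, Module.End.one_apply, map_sub] at h3
  exact sub_left_injective h3

theorem backward_of_QReal {n : ℕ} (d : Fin t → ℕ) (hd : ∀ k, 1 ≤ d k) (hsum : ∑ k, d k = n)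
    (h : QReal F (Finset.univ.val.map d)) :
    ∃ Q : QuadraticForm F (Fin n → F), (QuadraticMap.polarBilin Q).Nondegenerate ∧
      ∃ e : Ix d ≃ Fin n, ∃ A : ↥(Cfsg.isometryGroup F ⇑Q),
        IsConj (Matrix.reindex e e (Cfsg.jordanTypeMatrix d F))
          ((A : Matrix.GeneralLinearGroup (Fin n) F) : Matrix (Fin n) (Fin n) F) := by
  classical
  obtain ⟨V, _, _, _, Q, U, Ui, hnd, h1, h2, hu, hr⟩ := h
  obtain ⟨ψ, hψU⟩ := exists_jordan_equiv U d hd hr
  have hcard : Fintype.card (Ix d) = Fintype.card (Fin n) := by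
    rw [Fintype.card_sigma, Fintype.card_fin]
    simp only [Fintype.card_fin]
    exact hsum
  let e : Ix d ≃ Fin n := Fintype.equivOfCardEq hcard
  set Ψ : V ≃ₗ[F] (Fin n → F) := ψ.trans (LinearEquiv.funCongrLeft F F e.symm) with hΨdef
  set rJ : Matrix (Fin n) (Fin n) F := Matrix.reindex e e (Cfsg.jordanTypeMatrix d F) with hrJ
  have hΨU : ∀ x, Ψ (U x) = rJ.mulVec (Ψ x) := by
    intro x
    show (ψ (U x)) ∘ e.symm = rJ.mulVec ((ψ x) ∘ e.symm)
    rw [hψU]
    have h3 := reindex_mulVec_compG d e (Cfsg.jordanTypeMatrix d F) ((ψ x) ∘ e.symm)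
    have h4 : ((ψ x) ∘ e.symm) ∘ e = ψ x := by
      funext p
      simp
    rw [h4, ← hrJ] at h3
    rw [← h3]
    funext q
    simp only [Function.comp_apply, Equiv.apply_symm_apply]
  -- the inverse matrix
  set M' : Matrix (Fin n) (Fin n) F :=
    LinearMap.toMatrix' ((Ψ.toLinearMap.comp Ui).comp Ψ.symm.toLinearMap) with hM'
  have hmul : rJ * M' = 1 := by
    have h3 : rJ = LinearMap.toMatrix' (Matrix.toLin' rJ) := (LinearMap.toMatrix'_toLin' rJ).symm
    rw [h3, hM', ← LinearMap.toMatrix'_comp]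
    have h4 : (Matrix.toLin' rJ).comp ((Ψ.toLinearMap.comp Ui).comp Ψ.symm.toLinearMap) =
        LinearMap.id := by
      apply LinearMap.ext
      intro y
      show Matrix.toLin' rJ (Ψ (Ui (Ψ.symm y))) = y
      rw [Matrix.toLin'_apply, ← hΨU, ← Module.End.mul_apply, h1, Module.End.one_apply,
        LinearEquiv.apply_symm_apply]
    rw [h4, LinearMap.toMatrix'_id]
  have hmul' : M' * rJ = 1 := mul_eq_one_comm.mp hmul
  let g : Matrix.GeneralLinearGroup (Fin n) F := ⟨rJ, M', hmul, hmul'⟩
  refine ⟨Q.comp Ψ.symm.toLinearMap, ?_, e, ⟨g, ?_⟩, ?_⟩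
  · have hpol : ∀ x y : Fin n → F, QuadraticMap.polar (Q.comp Ψ.symm.toLinearMap) x y =
        QuadraticMap.polar Q (Ψ.symm x) (Ψ.symm y) := by
      intro x y
      unfold QuadraticMap.polar
      rw [QuadraticMap.comp_apply, QuadraticMap.comp_apply, QuadraticMap.comp_apply, map_add]
      rfl
    have hleft : ∀ x : Fin n → F,
        (∀ y, QuadraticMap.polar (Q.comp Ψ.symm.toLinearMap) x y = 0) → x = 0 := by
      intro x hx
      have h3 : Ψ.symm x = 0 := by
        apply hnd
        intro z
        have := hx (Ψ z)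
        rw [hpol, LinearEquiv.symm_apply_apply] at this
        exact this
      exact Ψ.symm.map_eq_zero_iff.mp h3
    constructor
    · intro x hx
      exact hleft x hx
    · intro y hy
      apply hleft y
      intro x
      rw [QuadraticMap.polar_comm]
      exact hy x
  · intro y _
    show (Q.comp Ψ.symm.toLinearMap) (rJ.mulVec y) = (Q.comp Ψ.symm.toLinearMap) y
    rw [QuadraticMap.comp_apply, QuadraticMap.comp_apply]
    have h3 : rJ.mulVec y = Ψ (U (Ψ.symm y)) := by
      rw [hΨU, LinearEquiv.apply_symm_apply]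
    rw [h3]
    show Q (Ψ.symm (Ψ (U (Ψ.symm y)))) = Q (Ψ.symm y)
    rw [LinearEquiv.symm_apply_apply, hu]
  · exact IsConj.refl _

end BackwardO

end Cfsg.Agent.helper25.OJ




namespace Cfsg.Agent.helper25.OJ

open Cfsg.Agent.helper25.UCent Cfsg.Agent.helper25.Jordan Cfsg.Agent.helper25.SpJ

section FinalTwo

variable {F : Type u} [Field F] {t : ℕ}

theorem count_map_d (d : Fin t → ℕ) (j : ℕ) :
    (Finset.univ.val.map d).count j = (Finset.univ.filter (fun k : Fin t => d k = j)).card := by
  classical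
  rw [← card_fiber_eq_count, Fintype.card_subtype]

theorem zero_notMem_map_d (d : Fin t → ℕ) (hd : ∀ k, 1 ≤ d k) : 0 ∉ Finset.univ.val.map d := by
  intro h0
  obtain ⟨k, _, hk⟩ := Multiset.mem_map.mp h0
  have := hd k
  omega

theorem backward_char_two [CharP F 2] {n : ℕ} (d : Fin t → ℕ) (hd : ∀ k, 1 ≤ d k)
    (hsum : ∑ k, d k = n)
    (h : ∀ j : ℕ, Odd j → Even (Finset.univ.filter (fun k : Fin t => d k = j)).card) :
    ∃ Q : QuadraticForm F (Fin n → F), (QuadraticMap.polarBilin Q).Nondegenerate ∧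
      ∃ e : Ix d ≃ Fin n, ∃ A : ↥(Cfsg.isometryGroup F ⇑Q),
        IsConj (Matrix.reindex e e (Cfsg.jordanTypeMatrix d F))
          ((A : Matrix.GeneralLinearGroup (Fin n) F) : Matrix (Fin n) (Fin n) F) := by
  apply backward_of_QReal d hd hsum
  apply QReal.of_counts_two _ _ rfl (zero_notMem_map_d d hd)
  intro j hj
  rw [count_map_d]
  exact h j hj

end FinalTwo

end Cfsg.Agent.helper25.OJ
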