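import Cfsg.Agent.Lib_helper25_OJ

set_option autoImplicit false
set_option linter.unusedSectionVars false

universe u

/-! Jordan types of unipotent elements of orthogonal groups in odd characteristic (helper25). -/





namespace Cfsg.Agent.helper25.OJ

open Cfsg.Agent.helper25.UCent Cfsg.Agent.helper25.Jordan Cfsg.Agent.helper25.SpJ

section AbstractOdd

variable {F : Type*} [Field F] {V : Type*} [AddCommGroup V] [Module F V] [FiniteDimensional F V]

/-- an alternating form whose radical is `R` has even corank -/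
theorem even_corank_radical (g : LinearMap.BilinForm F V) (hA : g.IsAlt) (R : Submodule F V)
    (h1 : ∀ x, (∀ y, g x y = 0) → x ∈ R) (h2 : ∀ x ∈ R, ∀ y, g x y = 0) :
    ∃ r, Module.finrank F V = Module.finrank F R + (r + r) := by
  obtain ⟨W, hW⟩ := Submodule.exists_isCompl R
  have hWeven : Even (Module.finrank F W) := by
    apply even_finrank_of_alt_nondeg (g.restrict W)
    · intro x
      exact hA x
    · intro x hx
      have hxR : (x : V) ∈ R := by
        apply h1
        intro v
        have hv : v ∈ R ⊔ W := by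
          rw [hW.sup_eq_top]
          trivial
        obtain ⟨r, hr, w, hw, rfl⟩ := Submodule.mem_sup.mp hv
        rw [map_add]
        have e1 : g (x : V) r = 0 := by
          rw [← hA.neg_eq, h2 r hr, neg_zero]
        have e2 : g (x : V) w = 0 := hx ⟨w, hw⟩
        rw [e1, e2, add_zero]
      have : (x : V) ∈ R ⊓ W := ⟨hxR, x.2⟩
      rw [hW.inf_eq_bot] at this
      exact Subtype.ext ((Submodule.mem_bot F).mp this)
  obtain ⟨r, hr⟩ := hWeven
  refine ⟨r, ?_⟩
  have := Submodule.finrank_add_eq_of_isCompl hW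
  omega

variable (B : LinearMap.BilinForm F V) (U Ui : Module.End F V)

theorem adj_M (h1 : U * Ui = 1)
    (hu : ∀ x y, B (U x) (U y) = B x y) (x y : V) :
    B ((U - Ui) x) y = -B x ((U - Ui) y) := by
  have hUUi : ∀ z, U (Ui z) = z := by
    intro z
    have := LinearMap.congr_fun h1 z
    simpa using this
  have e1 : B (U x) y = B x (Ui y) := by
    have := hu x (Ui y)
    rw [hUUi] at this
    exact this
  have e2 : B (Ui x) y = B x (U y) := by
    have := hu (Ui x) y
    rw [hUUi] at this
    exact this.symm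
  simp only [LinearMap.sub_apply, map_sub, e1, e2]
  ring

theorem adj_M_pow (h1 : U * Ui = 1)
    (hu : ∀ x y, B (U x) (U y) = B x y) (j : ℕ) (x y : V) :
    B (((U - Ui) ^ j) x) y = (-1) ^ j * B x (((U - Ui) ^ j) y) := by
  induction j generalizing x y with
  | zero => simp
  | succ j ih =>
    rw [pow_succ, Module.End.mul_apply, ih, adj_M B U Ui h1 hu, ← Module.End.mul_apply,
      ← pow_succ', pow_succ]
    ring

/-- odd powers of `U - U⁻¹` have even rank, for an isometry of a symmetric form, `2 ≠ 0` -/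
theorem even_rank_M_pow (h2ne : (2 : F) ≠ 0) (hsymm : ∀ x y, B x y = B y x)
    (hnd : ∀ x, (∀ y, B x y = 0) → x = 0) (h1 : U * Ui = 1)
    (hu : ∀ x y, B (U x) (U y) = B x y) (k : ℕ) :
    Even (Module.finrank F (LinearMap.range ((U - Ui) ^ (2 * k + 1)))) := by
  set M : Module.End F V := U - Ui with hM
  let g : LinearMap.BilinForm F V := B.compl₂ (M ^ (2 * k + 1))
  have hg : ∀ x y, g x y = B x ((M ^ (2 * k + 1)) y) := fun x y => rfl
  have hadj : ∀ (j : ℕ) (x y : V), B ((M ^ j) x) y = (-1) ^ j * B x ((M ^ j) y) :=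
    adj_M_pow B U Ui h1 hu
  have hskew : ∀ x y, g y x = -g x y := by
    intro x y
    rw [hg, hg, hsymm y, hadj]
    rw [pow_succ, pow_mul]
    simp
  have hgalt : g.IsAlt := by
    intro x
    have := hskew x x
    have h3 : (2 : F) * g x x = 0 := by
      rw [two_mul]
      nth_rewrite 1 [this]
      ring
    rcases mul_eq_zero.mp h3 with h | h
    · exact absurd h h2ne
    · exact h
  obtain ⟨r, hr⟩ := even_corank_radical g hgalt (LinearMap.ker (M ^ (2 * k + 1)))
    (by
      intro x hx
      rw [LinearMap.mem_ker]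
      apply hnd
      intro y
      have := hx y
      rw [hg] at this
      rw [hadj, this, mul_zero])
    (by
      intro x hx y
      have h3 := hskew y x
      rw [h3, hg, LinearMap.mem_ker.mp hx, map_zero, neg_zero])
  have h4 := LinearMap.finrank_range_add_finrank_ker (M ^ (2 * k + 1))
  exact ⟨r, by omega⟩

end AbstractOdd

end Cfsg.Agent.helper25.OJ




namespace Cfsg.Agent.helper25.OJ

open Cfsg.Agent.helper25.UCent Cfsg.Agent.helper25.Jordan Cfsg.Agent.helper25.SpJ

section RankM

variable {F : Type*} [Field F] {V : Type*} [AddCommGroup V] [Module F V] [FiniteDimensional F V]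
  (U Ui : Module.End F V)

omit [FiniteDimensional F V] in
theorem add_one_injective (h2ne : (2 : F) ≠ 0) (hnil : IsNilpotent (U - 1)) :
    Function.Injective ⇑(U + 1) := by
  apply (injective_iff_map_eq_zero (U + 1)).mpr
  intro x hx
  have hUx : U x = -x := by
    rw [LinearMap.add_apply, Module.End.one_apply] at hx
    exact eq_neg_of_add_eq_zero_left hx
  have hpow : ∀ k : ℕ, ((U - 1) ^ k) x = ((-2 : F) ^ k) • x := by
    intro k
    induction k with
    | zero => simp
    | succ k ih =>
      rw [pow_succ', Module.End.mul_apply, ih, map_smul, LinearMap.sub_apply, Module.End.one_apply,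
        hUx, pow_succ, mul_smul]
      congr 1
      rw [neg_smul, two_smul]
      abel
  obtain ⟨k, hk⟩ := hnil
  have := hpow k
  rw [hk, LinearMap.zero_apply] at this
  rcases smul_eq_zero.mp this.symm with h | h
  · exfalso
    have : (-2 : F) ≠ 0 := neg_ne_zero.mpr h2ne
    exact pow_ne_zero k this h
  · exact h

omit [FiniteDimensional F V] in
theorem M_eq (h2 : Ui * U = 1) :
    U - Ui = (Ui * (U + 1)) * (U - 1) := by
  have : (U + 1) * (U - 1) = U * U - 1 := by
    rw [add_mul, mul_sub, mul_sub, mul_one, one_mul, mul_one]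
    abel
  rw [mul_assoc, this, mul_sub, ← mul_assoc, h2, one_mul, mul_one]

omit [FiniteDimensional F V] in
theorem commute_C (h1 : U * Ui = 1) (h2 : Ui * U = 1) : Commute (Ui * (U + 1)) (U - 1) := by
  have hc : Commute Ui U := by
    unfold Commute SemiconjBy
    rw [h1, h2]
  have hc1 : Commute Ui (U - 1) := hc.sub_right (Commute.one_right Ui)
  have hc2 : Commute (U + 1) (U - 1) :=
    ((Commute.refl U).add_left (Commute.one_left U)).sub_right (Commute.one_right _)
  exact hc1.mul_left hc2

theorem finrank_range_M_pow (h2ne : (2 : F) ≠ 0) (h1 : U * Ui = 1) (h2 : Ui * U = 1)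
    (hnil : IsNilpotent (U - 1)) (j : ℕ) :
    Module.finrank F (LinearMap.range ((U - Ui) ^ j)) =
      Module.finrank F (LinearMap.range ((U - 1) ^ j)) := by
  rw [M_eq U Ui h2, (commute_C U Ui h1 h2).mul_pow, Module.End.mul_eq_comp, LinearMap.range_comp]
  have hCinj : Function.Injective ⇑(Ui * (U + 1)) := by
    intro x y hxy
    rw [Module.End.mul_apply, Module.End.mul_apply] at hxy
    have h3 : U (Ui ((U + 1) x)) = U (Ui ((U + 1) y)) := by rw [hxy]
    rw [← Module.End.mul_apply, ← Module.End.mul_apply U Ui, h1, Module.End.one_apply,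
      Module.End.one_apply] at h3
    exact add_one_injective U h2ne hnil h3
  have hCjinj : Function.Injective ⇑((Ui * (U + 1)) ^ j) := by
    rw [Module.End.coe_pow]
    exact hCinj.iterate j
  exact (LinearEquiv.finrank_eq (Submodule.equivMapOfInjective _ hCjinj _)).symm

end RankM

section ForwardOdd

variable {F : Type*} [Field F] {ι : Type} [Fintype ι] [DecidableEq ι] {t : ℕ}

theorem even_mult_of_odd_ranks (d : Fin t → ℕ) (h : ∀ k, Even (∑ l, (d l - (2 * k + 1)))) (j : ℕ)
    (hj : Even j) (hj0 : 0 < j) : Even (Finset.univ.filter (fun l : Fin t => d l = j)).card := by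
  obtain ⟨r, rfl⟩ := hj
  obtain ⟨k, rfl⟩ : ∃ k, r = k + 1 := ⟨r - 1, by omega⟩
  have h1 : (Finset.univ.filter (fun l : Fin t => d l = k + 1 + (k + 1))).card +
      2 * ∑ l, (d l - (k + 1 + (k + 1))) =
      ∑ l, (d l - (2 * k + 1)) + ∑ l, (d l - (2 * (k + 1) + 1)) := by
    rw [Finset.card_filter, Finset.mul_sum, ← Finset.sum_add_distrib, ← Finset.sum_add_distrib]
    apply Finset.sum_congr rfl
    intro l _
    split_ifs <;> omega
  have h2 : Even ((Finset.univ.filter (fun l : Fin t => d l = k + 1 + (k + 1))).card +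
      2 * ∑ l, (d l - (k + 1 + (k + 1)))) := by
    rw [h1]
    exact (h k).add (h (k + 1))
  exact (Nat.even_add.mp h2).mpr (even_two_mul _)

theorem forward_odd (h2ne : (2 : F) ≠ 0) (d : Fin t → ℕ) (Q : QuadraticForm F (ι → F))
    (hnd : (QuadraticMap.polarBilin Q).Nondegenerate) (e : Ix d ≃ ι)
    (A : ↥(Cfsg.isometryGroup F ⇑Q))
    (h : IsConj (Matrix.reindex e e (Cfsg.jordanTypeMatrix d F))
      ((A : Matrix.GeneralLinearGroup ι F) : Matrix ι ι F)) (j : ℕ) (hj : Even j) (hj0 : 0 < j) :
    Even (Finset.univ.filter (fun k : Fin t => d k = j)).card := by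
  apply even_mult_of_odd_ranks d _ j hj hj0
  intro k
  have hranks := ranks_of_conj d e _ h
  rw [← hranks (2 * k + 1)]
  have hiso : ∀ x : ι → F, Q ((A.1 : Matrix ι ι F).mulVec x) = Q x := fun x => A.2 x x
  have h1 : Matrix.toLin' (A.1 : Matrix ι ι F) *
      Matrix.toLin' ((A.1⁻¹ : Matrix.GeneralLinearGroup ι F) : Matrix ι ι F) = 1 := by
    rw [Module.End.mul_eq_comp, ← Matrix.toLin'_mul, ← Units.val_mul, mul_inv_cancel, Units.val_one,
      Matrix.toLin'_one]
    rfl
  have h2 : Matrix.toLin' ((A.1⁻¹ : Matrix.GeneralLinearGroup ι F) : Matrix ι ι F) *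
      Matrix.toLin' (A.1 : Matrix ι ι F) = 1 := by
    rw [Module.End.mul_eq_comp, ← Matrix.toLin'_mul, ← Units.val_mul, inv_mul_cancel, Units.val_one,
      Matrix.toLin'_one]
    rfl
  have hnil : IsNilpotent (Matrix.toLin' (A.1 : Matrix ι ι F) - 1 : Module.End F (ι → F)) := by
    refine ⟨∑ l, d l, ?_⟩
    have h3 := hranks (∑ l, d l)
    have h4 : ∑ l, (d l - ∑ l, d l) = 0 := by
      apply Finset.sum_eq_zero
      intro l _
      have := Finset.single_le_sum (f := d) (fun i _ => Nat.zero_le _) (Finset.mem_univ l)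
      omega
    rw [h4, Submodule.finrank_eq_zero] at h3
    exact LinearMap.range_eq_bot.mp h3
  rw [← finrank_range_M_pow _ _ h2ne h1 h2 hnil]
  apply even_rank_M_pow (QuadraticMap.polarBilin Q) _ _ h2ne
  · intro x y
    exact QuadraticMap.polar_comm Q x y
  · intro x hx
    exact hnd.1 x hx
  · exact h1
  · intro x y
    show QuadraticMap.polar Q _ _ = QuadraticMap.polar Q x y
    unfold QuadraticMap.polar
    rw [Matrix.toLin'_apply, Matrix.toLin'_apply, ← Matrix.mulVec_add, hiso, hiso, hiso]

end ForwardOdd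

end Cfsg.Agent.helper25.OJ




namespace Cfsg.Agent.helper25.OJ

open Cfsg.Agent.helper25.UCent Cfsg.Agent.helper25.Jordan Cfsg.Agent.helper25.SpJ

section SingleOdd

variable {F : Type u} [Field F] (l : ℕ) (hl : 1 ≤ l)

/-- the ambient space `(W × W*) × F` -/
abbrev VO (F : Type u) [Field F] (l : ℕ) : Type u :=
  ((Fin l → F) × Module.Dual F (Fin l → F)) × F

/-- the quadratic form `ξ(x) + z²` -/
def QO (F : Type u) [Field F] (l : ℕ) : QuadraticForm F (VO F l) :=
  (hypForm F (Fin l → F)).prod (QuadraticMap.sq : QuadraticForm F F)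

theorem QO_apply (p : VO F l) : QO F l p = p.1.2 p.1.1 + p.2 * p.2 := rfl

theorem QO_polar (p q : VO F l) :
    QuadraticMap.polar (QO F l) p q = (p.1.2 q.1.1 + q.1.2 p.1.1) + 2 * (p.2 * q.2) := by
  unfold QO
  rw [QuadraticMap.polar_prod, hypForm_polar]
  congr 1
  unfold QuadraticMap.polar
  simp only [QuadraticMap.sq_apply]
  ring

theorem QO_nondeg (h2ne : (2 : F) ≠ 0) (p : VO F l)
    (hp : ∀ q, QuadraticMap.polar (QO F l) p q = 0) : p = 0 := by
  have h1 : p.1 = 0 := by
    apply hypForm_nondeg
    intro q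
    have := hp (q, 0)
    rw [QO_polar] at this
    rw [hypForm_polar]
    simpa using this
  have h2 : p.2 = 0 := by
    have := hp (0, 1)
    rw [QO_polar] at this
    simp at this
    rcases this with h | h
    · exact absurd h h2ne
    · exact h
  exact Prod.ext h1 h2

/-- the Eichler transformation -/
def eich : Module.End F (VO F l) where
  toFun p := ((p.1.1 + (2 * p.2 - p.1.2 (e0 l hl)) • e0 l hl, p.1.2), p.2 - p.1.2 (e0 l hl))
  map_add' := by
    intro p q
    apply Prod.ext
    · apply Prod.ext
      · simp only [Prod.fst_add, Prod.snd_add, LinearMap.add_apply]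
        module
      · rfl
    · simp only [Prod.fst_add, Prod.snd_add, LinearMap.add_apply]
      ring
  map_smul' := by
    intro a p
    apply Prod.ext
    · apply Prod.ext
      · simp only [Prod.smul_fst, Prod.smul_snd, LinearMap.smul_apply, smul_eq_mul, RingHom.id_apply]
        module
      · rfl
    · simp only [Prod.smul_fst, Prod.smul_snd, LinearMap.smul_apply, smul_eq_mul, RingHom.id_apply]
      ring

/-- its inverse -/
def eichInv : Module.End F (VO F l) where
  toFun p := ((p.1.1 - (2 * p.2 + p.1.2 (e0 l hl)) • e0 l hl, p.1.2), p.2 + p.1.2 (e0 l hl))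
  map_add' := by
    intro p q
    apply Prod.ext
    · apply Prod.ext
      · simp only [Prod.fst_add, Prod.snd_add, LinearMap.add_apply]
        module
      · rfl
    · simp only [Prod.fst_add, Prod.snd_add, LinearMap.add_apply]
      ring
  map_smul' := by
    intro a p
    apply Prod.ext
    · apply Prod.ext
      · simp only [Prod.smul_fst, Prod.smul_snd, LinearMap.smul_apply, smul_eq_mul, RingHom.id_apply]
        module
      · rfl
    · simp only [Prod.smul_fst, Prod.smul_snd, LinearMap.smul_apply, smul_eq_mul, RingHom.id_apply]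
      ring

theorem eich_apply (p : VO F l) :
    eich l hl p = ((p.1.1 + (2 * p.2 - p.1.2 (e0 l hl)) • e0 l hl, p.1.2), p.2 - p.1.2 (e0 l hl)) :=
  rfl

theorem eichInv_apply (p : VO F l) :
    eichInv l hl p =
      ((p.1.1 - (2 * p.2 + p.1.2 (e0 l hl)) • e0 l hl, p.1.2), p.2 + p.1.2 (e0 l hl)) := rfl

theorem eich_mul_inv : eich (F := F) l hl * eichInv l hl = 1 := by
  apply LinearMap.ext
  intro p
  rw [Module.End.mul_apply, eichInv_apply, eich_apply, Module.End.one_apply]
  apply Prod.ext
  · apply Prod.ext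
    · simp only
      module
    · rfl
  · simp only
    ring

theorem eich_inv_mul : eichInv (F := F) l hl * eich l hl = 1 := by
  apply LinearMap.ext
  intro p
  rw [Module.End.mul_apply, eich_apply, eichInv_apply, Module.End.one_apply]
  apply Prod.ext
  · apply Prod.ext
    · simp only
      module
    · rfl
  · simp only
    ring

theorem QO_eich (p : VO F l) : QO F l (eich l hl p) = QO F l p := by
  rw [QO_apply, QO_apply, eich_apply]
  simp only [map_add, map_smul, smul_eq_mul]
  ring

end SingleOdd

end Cfsg.Agent.helper25.OJ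




namespace Cfsg.Agent.helper25.OJ

open Cfsg.Agent.helper25.UCent Cfsg.Agent.helper25.Jordan Cfsg.Agent.helper25.SpJ

section SingleOddB

variable {F : Type u} [Field F] (l : ℕ) (hl : 1 ≤ l)
  (U₀i : Module.End F (Fin l → F))

/-- the hyperbolic part of the isometry -/
def hO : Module.End F (VO F l) := (sieg (1 + sh1 l) U₀i 0).prodMap 1

/-- its inverse -/
def hOInv : Module.End F (VO F l) := (siegInv (1 + sh1 l) U₀i 0).prodMap 1

/-- the regular unipotent isometry in odd dimension -/
def uO : Module.End F (VO F l) := hO l U₀i * eich l hl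

/-- its inverse -/
def uOInv : Module.End F (VO F l) := eichInv l hl * hOInv l U₀i

theorem uO_sub_one_apply (p : VO F l) :
    (uO l hl U₀i - 1) p =
      (((1 + sh1 l) (p.1.1 + (2 * p.2 - p.1.2 (e0 l hl)) • e0 l hl) - p.1.1,
        U₀i.dualMap p.1.2 - p.1.2), -p.1.2 (e0 l hl)) := by
  unfold uO hO
  rw [LinearMap.sub_apply, Module.End.mul_apply, eich_apply, Module.End.one_apply]
  apply Prod.ext
  · apply Prod.ext
    · show (1 + sh1 l) (p.1.1 + (2 * p.2 - p.1.2 (e0 l hl)) • e0 l hl + 0) - p.1.1 = _
      rw [add_zero]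
    · rfl
  · show p.2 - p.1.2 (e0 l hl) - p.2 = -p.1.2 (e0 l hl)
    ring

variable (h1 : (1 + sh1 (F := F) l) * U₀i = 1) (h2 : U₀i * (1 + sh1 (F := F) l) = 1)

include h1 h2 in
theorem uO_mul_inv : uO l hl U₀i * uOInv l hl U₀i = 1 := by
  unfold uO uOInv hO hOInv
  rw [mul_assoc, ← mul_assoc (eich l hl), eich_mul_inv, one_mul, LinearMap.prodMap_mul,
    sieg_mul_inv _ _ _ h1, one_mul, LinearMap.prodMap_one]

include h1 h2 in
theorem uO_inv_mul : uOInv l hl U₀i * uO l hl U₀i = 1 := by
  unfold uO uOInv hO hOInv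
  rw [mul_assoc, ← mul_assoc ((siegInv _ _ _).prodMap 1), LinearMap.prodMap_mul,
    sieg_inv_mul _ _ _ h2, one_mul, LinearMap.prodMap_one, one_mul, eich_inv_mul]

include h2 in
theorem QO_uO (p : VO F l) : QO F l (uO l hl U₀i p) = QO F l p := by
  unfold uO hO
  rw [Module.End.mul_apply, ← QO_eich l hl p]
  set q := eich l hl p
  show hypForm F (Fin l → F) (sieg (1 + sh1 l) U₀i 0 q.1) + q.2 * q.2 = _
  rw [hypForm_sieg_zero _ _ h2]
  rfl

include h2 in
theorem ker_small_odd (h2ne : (2 : F) ≠ 0) (p : VO F l)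
    (hp : (uO l hl U₀i - 1) p = 0) (hlast : p.1.1 ⟨l - 1, by omega⟩ = 0) : p = 0 := by
  rw [uO_sub_one_apply] at hp
  have hτ : p.1.2 (e0 l hl) = 0 := by
    have := congrArg Prod.snd hp
    exact neg_eq_zero.mp this
  have hb : U₀i.dualMap p.1.2 - p.1.2 = 0 := congrArg (fun q => q.1.2) hp
  have ha : (1 + sh1 (F := F) l) (p.1.1 + (2 * p.2 - p.1.2 (e0 l hl)) • e0 l hl) - p.1.1 = 0 :=
    congrArg (fun q => q.1.1) hp
  have hξn : ∀ z, p.1.2 (sh1 l z) = 0 := by
    intro z
    have h3 : U₀i.dualMap p.1.2 = p.1.2 := sub_eq_zero.mp hb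
    have h4 := LinearMap.congr_fun h3 ((1 + sh1 (F := F) l) z)
    rw [LinearMap.dualMap_apply, ← Module.End.mul_apply, h2, Module.End.one_apply,
      LinearMap.add_apply, Module.End.one_apply, map_add] at h4
    have : p.1.2 z = p.1.2 z + p.1.2 (sh1 l z) := h4
    exact (left_eq_add.mp this)
  have hξ : p.1.2 = 0 := by
    apply LinearMap.ext
    intro y
    obtain ⟨y', hy⟩ := decomp_e0 l hl y
    rw [hy, map_add, map_smul, hτ, hξn, smul_zero, add_zero]
    rfl
  rw [hτ, sub_zero] at ha
  have ha' : sh1 l p.1.1 + (2 * p.2) • (e0 l hl + sh1 l (e0 l hl)) = 0 := by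
    rw [LinearMap.add_apply, Module.End.one_apply, map_add, map_smul] at ha
    rw [← ha, smul_add]
    abel
  have hz : p.2 = 0 := by
    have := congrFun ha' ⟨0, hl⟩
    rw [Pi.add_apply, Pi.smul_apply, Pi.add_apply, sh1_apply, sh1_apply, dif_neg (by simp),
      dif_neg (by simp), smul_eq_mul] at this
    unfold e0 at this
    rw [Pi.single_eq_same, add_zero, mul_one, zero_add] at this
    rcases mul_eq_zero.mp this with h | h
    · exact absurd h h2ne
    · exact h
  rw [hz, mul_zero, zero_smul, add_zero] at ha'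
  have hx : p.1.1 = 0 := by
    funext j
    by_cases hj : (j : ℕ) + 1 < l
    · have := congrFun ha' ⟨(j : ℕ) + 1, hj⟩
      rw [sh1_apply, dif_pos (by simp)] at this
      exact this
    · have hj' : j = ⟨l - 1, by omega⟩ := by
        apply Fin.ext
        have := j.2
        simp only
        omega
      rw [hj']
      exact hlast
  exact Prod.ext (Prod.ext hx hξ) hz

end SingleOddB

end Cfsg.Agent.helper25.OJ




namespace Cfsg.Agent.helper25.OJ

open Cfsg.Agent.helper25.UCent Cfsg.Agent.helper25.Jordan Cfsg.Agent.helper25.SpJ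

section SingleOddC

variable {F : Type u} [Field F] (l : ℕ) (hl : 1 ≤ l)
  (U₀i : Module.End F (Fin l → F))
  (h1 : (1 + sh1 (F := F) l) * U₀i = 1) (h2 : U₀i * (1 + sh1 (F := F) l) = 1)

theorem oddA (j : ℕ) (p : VO F l) :
    (((uO l hl U₀i - 1) ^ j) p).1.2 = (((U₀i - 1) ^ j).dualMap) p.1.2 := by
  induction j with
  | zero =>
    rw [pow_zero, pow_zero]
    rfl
  | succ j ih =>
    rw [pow_succ', Module.End.mul_apply, uO_sub_one_apply]
    simp only
    rw [ih, pow_succ]
    apply LinearMap.ext
    intro y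
    simp only [LinearMap.sub_apply, LinearMap.dualMap_apply, Module.End.mul_apply,
      Module.End.one_apply, map_sub]

theorem oddB (q : VO F l) (hq : q.1.2 = 0) :
    ((uO l hl U₀i - 1) q).1.2 = 0 ∧ ((uO l hl U₀i - 1) q).2 = 0 := by
  rw [uO_sub_one_apply]
  simp only
  rw [hq]
  simp

theorem oddC (j : ℕ) (q : VO F l) (hq : q.1.2 = 0) (hz : q.2 = 0) :
    ((uO l hl U₀i - 1) ^ j) q = ((((sh1 l) ^ j) q.1.1, 0), 0) := by
  induction j generalizing q with
  | zero =>
    rw [pow_zero, pow_zero]
    exact Prod.ext (Prod.ext rfl hq) hz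
  | succ j ih =>
    have hN : (uO l hl U₀i - 1) q = ((sh1 l q.1.1, 0), 0) := by
      rw [uO_sub_one_apply, hq, hz]
      simp
    rw [pow_succ, Module.End.mul_apply, hN, ih _ rfl rfl, pow_succ, Module.End.mul_apply]

include h1 h2 in
theorem uO_nilpotent : (uO l hl U₀i - 1) ^ (l + (1 + l)) = 0 := by
  apply LinearMap.ext
  intro p
  rw [pow_add, pow_add, pow_one, Module.End.mul_apply, Module.End.mul_apply]
  set p1 := ((uO l hl U₀i - 1) ^ l) p with hp1
  have hA : p1.1.2 = 0 := by
    rw [hp1, oddA, U₀i_sub_one_pow l U₀i h1 h2]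
    apply LinearMap.ext
    intro y
    simp
  obtain ⟨hB1, hB2⟩ := oddB l hl U₀i p1 hA
  rw [oddC l hl U₀i l _ hB1 hB2, sh1_pow_self]
  rfl

end SingleOddC

section SingleOddD

variable {F : Type u} [Field F] (h2ne : (2 : F) ≠ 0) (l : ℕ) (hl : 1 ≤ l)

include h2ne hl in
theorem QReal.single_odd : QReal F ({2 * l + 1} : Multiset ℕ) := by
  have hnil : IsNilpotent (sh1 (F := F) l) := ⟨l, sh1_pow_self l⟩
  obtain ⟨u, hu⟩ := hnil.isUnit_one_add
  have h1 : (1 + sh1 (F := F) l) * (↑u⁻¹ : Module.End F (Fin l → F)) = 1 := by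
    rw [← hu]
    exact u.mul_inv
  have h2 : (↑u⁻¹ : Module.End F (Fin l → F)) * (1 + sh1 (F := F) l) = 1 := by
    rw [← hu]
    exact u.inv_mul
  refine ⟨VO F l, inferInstance, inferInstance, inferInstance,
    QO F l, uO l hl (↑u⁻¹), uOInv l hl (↑u⁻¹), QO_nondeg l h2ne,
    uO_mul_inv l hl _ h1 h2, uO_inv_mul l hl _ h1 h2, QO_uO l hl _ h2, ?_⟩
  intro k
  have hNnil : IsNilpotent (uO l hl (↑u⁻¹ : Module.End F (Fin l → F)) - 1) :=
    ⟨_, uO_nilpotent l hl _ h1 h2⟩
  have hfin : Module.finrank F (VO F l) = 2 * l + 1 := by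
    rw [Module.finrank_prod, Module.finrank_prod, Subspace.dual_finrank_eq, Module.finrank_fin_fun,
      Module.finrank_self]
    ring
  have hker : Module.finrank F (LinearMap.ker (uO l hl (↑u⁻¹ : Module.End F (Fin l → F)) - 1)) ≤ 1 := by
    let lam : LinearMap.ker (uO l hl (↑u⁻¹ : Module.End F (Fin l → F)) - 1) →ₗ[F] F :=
      (((evalLast l hl).comp (LinearMap.fst F (Fin l → F) (Module.Dual F (Fin l → F)))).comp
        (LinearMap.fst F ((Fin l → F) × Module.Dual F (Fin l → F)) F)).comp (Submodule.subtype _)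
    have hinj : Function.Injective lam := by
      intro p q hpq
      apply Subtype.ext
      have hpq' : p.1.1.1 ⟨l - 1, by omega⟩ = q.1.1.1 ⟨l - 1, by omega⟩ := hpq
      have h3 : (p.1 - q.1).1.1 ⟨l - 1, by omega⟩ = 0 := by
        show p.1.1.1 ⟨l - 1, by omega⟩ - q.1.1.1 ⟨l - 1, by omega⟩ = 0
        rw [hpq', sub_self]
      have h4 : (uO l hl (↑u⁻¹ : Module.End F (Fin l → F)) - 1 : Module.End F (VO F l))
          (p.1 - q.1) = 0 := by
        rw [map_sub, LinearMap.mem_ker.mp p.2, LinearMap.mem_ker.mp q.2, sub_self]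
      exact sub_eq_zero.mp (ker_small_odd l hl _ h2 h2ne (p.1 - q.1) h4 h3)
    have := LinearMap.finrank_le_finrank_of_injective hinj
    rwa [Module.finrank_self] at this
  rw [ranks_of_ker_le_one _ hNnil (2 * l + 1) hfin hker k, Multiset.map_singleton,
    Multiset.sum_singleton]

include h2ne in
theorem QReal.one : QReal F ({1} : Multiset ℕ) := by
  refine ⟨F, inferInstance, inferInstance, inferInstance,
    (QuadraticMap.sq : QuadraticForm F F), 1, 1, ?_, one_mul 1, one_mul 1, fun x => rfl, ?_⟩
  · intro x hx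
    have := hx 1
    unfold QuadraticMap.polar at this
    simp only [QuadraticMap.sq_apply] at this
    have h3 : (2 : F) * x = 0 := by
      rw [← this]
      ring
    rcases mul_eq_zero.mp h3 with h | h
    · exact absurd h h2ne
    · exact h
  · intro k
    rw [sub_self, Multiset.map_singleton, Multiset.sum_singleton]
    rcases Nat.eq_zero_or_pos k with rfl | hk
    · rw [pow_zero, Module.End.one_eq_id, LinearMap.range_id, finrank_top, Module.finrank_self]
    · rw [zero_pow (by omega), LinearMap.range_zero, finrank_bot]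
      omega

end SingleOddD

end Cfsg.Agent.helper25.OJ




namespace Cfsg.Agent.helper25.OJ

open Cfsg.Agent.helper25.UCent Cfsg.Agent.helper25.Jordan Cfsg.Agent.helper25.SpJ

section FinalOdd

variable {F : Type u} [Field F] (h2ne : (2 : F) ≠ 0)

include h2ne in
theorem QReal.of_counts_odd : ∀ (n : ℕ) (s : Multiset ℕ), Multiset.card s = n → 0 ∉ s →
    (∀ j, Even j → 0 < j → Even (s.count j)) → QReal F s := by
  intro n
  induction n using Nat.strong_induction_on with
  | _ n ih =>
  intro s hcard h0 heven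
  rcases Multiset.empty_or_exists_mem s with rfl | ⟨a, ha⟩
  · exact QReal.zero
  · have hapos : 0 < a := by
      rcases Nat.eq_zero_or_pos a with h | h
      · exfalso
        rw [h] at ha
        exact h0 ha
      · exact h
    rcases Nat.even_or_odd a with hev | hod
    · -- even part: split off a pair
      have hc := heven a hev hapos
      have hc1 : 1 ≤ s.count a := Multiset.one_le_count_iff_mem.mpr ha
      have hc2 : 2 ≤ s.count a := by
        obtain ⟨r, hr⟩ := hc
        omega
      have ha' : a ∈ s.erase a := by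
        rw [← Multiset.one_le_count_iff_mem, Multiset.count_erase_self]
        omega
      have hs : s = ({a} + {a}) + (s.erase a).erase a := by
        rw [add_assoc, Multiset.singleton_add, Multiset.singleton_add, Multiset.cons_erase ha',
          Multiset.cons_erase ha]
      rw [hs]
      apply QReal.add (QReal.pair a)
      apply ih (n - 2) _ ((s.erase a).erase a)
      · rw [Multiset.card_erase_of_mem ha', Multiset.card_erase_of_mem ha, hcard]
        rfl
      · intro h
        exact h0 (Multiset.mem_of_mem_erase (Multiset.mem_of_mem_erase h))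
      · intro j hj hj0
        by_cases hne : j = a
        · subst hne
          rw [Multiset.count_erase_self, Multiset.count_erase_self]
          obtain ⟨r, hr⟩ := hc
          exact ⟨r - 1, by omega⟩
        · rw [Multiset.count_erase_of_ne hne, Multiset.count_erase_of_ne hne]
          exact heven j hj hj0
      · have h1 : s.count a ≤ Multiset.card s := Multiset.count_le_card a s
        omega
    · -- odd part: a single block
      obtain ⟨l, hl⟩ := hod
      have hs : s = {a} + s.erase a := by
        rw [Multiset.singleton_add, Multiset.cons_erase ha]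
      rw [hs]
      have hsingle : QReal F ({a} : Multiset ℕ) := by
        rcases Nat.eq_zero_or_pos l with h | h
        · rw [hl, h]
          exact QReal.one h2ne
        · rw [hl]
          exact QReal.single_odd h2ne l h
      apply QReal.add hsingle
      apply ih (n - 1) _ (s.erase a)
      · rw [Multiset.card_erase_of_mem ha, hcard]
        rfl
      · intro h
        exact h0 (Multiset.mem_of_mem_erase h)
      · intro j hj hj0
        have hne : j ≠ a := by
          rintro rfl
          rw [hl] at hj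
          exact (Nat.not_even_iff_odd.mpr ⟨l, rfl⟩) hj
        rw [Multiset.count_erase_of_ne hne]
        exact heven j hj hj0
      · have : 0 < Multiset.card s := Multiset.card_pos_iff_exists_mem.mpr ⟨a, ha⟩
        omega

include h2ne in
theorem backward_odd {n t : ℕ} (d : Fin t → ℕ) (hd : ∀ k, 1 ≤ d k)
    (hsum : ∑ k, d k = n)
    (h : ∀ j : ℕ, Even j → 0 < j → Even (Finset.univ.filter (fun k : Fin t => d k = j)).card) :
    ∃ Q : QuadraticForm F (Fin n → F), (QuadraticMap.polarBilin Q).Nondegenerate ∧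
      ∃ e : Ix d ≃ Fin n, ∃ A : ↥(Cfsg.isometryGroup F ⇑Q),
        IsConj (Matrix.reindex e e (Cfsg.jordanTypeMatrix d F))
          ((A : Matrix.GeneralLinearGroup (Fin n) F) : Matrix (Fin n) (Fin n) F) := by
  apply backward_of_QReal d hd hsum
  apply QReal.of_counts_odd h2ne _ _ rfl (zero_notMem_map_d d hd)
  intro j hj hj0
  rw [count_map_d]
  exact h j hj hj0

end FinalOdd

end Cfsg.Agent.helper25.OJ
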