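import Mathlib
import Cfsg.Prelude.Def_RootSubgroups
import Cfsg.Agent.Lib_helper1_Core

set_option autoImplicit false
set_option linter.style.haveILetI false
set_option linter.unusedVariables false
set_option maxHeartbeats 1000000

namespace Cfsg.Agent.helper25

open Cfsg
open scoped commutatorElement

variable {G : Type*} [Group G]

theorem ot_sq {D : Set G} (hD : IsOddTranspositionSet D) {d : G} (hd : d ∈ D) : d * d = 1 := by
  have h := hD.1.orderOf_eq d hd
  have h2 : d ^ 2 = 1 := by rw [← h]; exact pow_orderOf_eq_one d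
  rw [← pow_two]; exact h2

theorem ot_inv {D : Set G} (hD : IsOddTranspositionSet D) {d : G} (hd : d ∈ D) : d⁻¹ = d :=
  inv_eq_of_mul_eq_one_left (ot_sq hD hd)

/-- two odd transpositions whose product is a `2`-element commute. -/
theorem ot_comm_of_two_elt {D : Set G} (hD : IsOddTranspositionSet D) {u v : G} (hu : u ∈ D)
    (hv : v ∈ D) (h2 : ∃ k : ℕ, (u * v) ^ 2 ^ k = 1) : u * v = v * u := by
  rcases hD.1.pair u hu v hv with h | h | h
  · exact h
  · obtain ⟨k, hk⟩ := h2
    have hdvd : orderOf (u * v) ∣ 2 ^ k := orderOf_dvd_of_pow_eq_one hk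
    obtain ⟨j, -, hj⟩ := (Nat.dvd_prime_pow Nat.prime_two).mp hdvd
    have h1 : orderOf (u * v) = 1 := by
      cases j with
      | zero => simpa using hj
      | succ j =>
        exfalso
        rw [hj] at h
        have : Even (2 ^ (j + 1)) := Nat.even_pow.mpr ⟨even_two, Nat.succ_ne_zero j⟩
        exact (Nat.not_odd_iff_even.mpr this) h
    have huv : u * v = 1 := orderOf_eq_one_iff.mp h1
    have hvu : v = u⁻¹ := eq_inv_of_mul_eq_one_right huv
    rw [hvu]; simp
  · exact absurd h.1 (hD.2 u hu v hv)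

/-- an element whose square lies in a `2`-group is a `2`-element. -/
theorem two_elt_of_sq_mem {Q : Subgroup G} (hQ : IsPGroup 2 Q) {g : G} (hg : g ^ 2 ∈ Q) :
    ∃ k : ℕ, g ^ 2 ^ k = 1 := by
  obtain ⟨k, hk⟩ := hQ ⟨g ^ 2, hg⟩
  have h1 : (g ^ 2) ^ 2 ^ k = 1 := congrArg Subtype.val hk
  refine ⟨k + 1, ?_⟩
  rw [pow_succ', pow_mul]; exact h1

/-- first part: members commuting with `a` centralize `[O₂(G), a]`. -/
theorem ot_part1 {D : Set G} (hD : IsOddTranspositionSet D) {a : G} (ha : a ∈ D) :
    ∀ e ∈ commutingMembers D a, ∀ q ∈ ⁅pCore 2 G, Subgroup.zpowers a⁆, e * q = q * e := by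
  haveI hQn : (pCore 2 G).Normal := helper1.pCore_normal 2
  have hQp : IsPGroup 2 (pCore 2 G) := helper1.pCore_isPGroup 2
  rintro e ⟨heD, hea⟩ q hq
  have hle : ⁅pCore 2 G, Subgroup.zpowers a⁆ ≤ Subgroup.centralizer {e} := by
    rw [Subgroup.commutator_le]
    intro x hx y hy
    -- the conjugate of `a` by `x`
    have ha' : x * a * x⁻¹ ∈ D := hD.1.conj_mem a ha x
    -- `e` commutes with it
    have hsq : (e * (x * a * x⁻¹)) ^ 2 ∈ pCore 2 G := by
      rw [← QuotientGroup.eq_one_iff]
      have hx1 : ((x : G) : G ⧸ pCore 2 G) = 1 := (QuotientGroup.eq_one_iff x).mpr hx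
      have h1 : (((e * (x * a * x⁻¹)) ^ 2 : G) : G ⧸ pCore 2 G) =
          (((e * a) ^ 2 : G) : G ⧸ pCore 2 G) := by
        simp only [QuotientGroup.mk_pow, QuotientGroup.mk_mul, QuotientGroup.mk_inv, hx1, one_mul,
          mul_one, inv_one]
      rw [h1]
      have h2 : (e * a) ^ 2 = 1 := by
        rw [pow_two]
        calc e * a * (e * a) = e * a * (a * e) := by rw [hea]
          _ = e * (a * a) * e := by group
          _ = 1 := by rw [ot_sq hD ha, mul_one, ot_sq hD heD]
      rw [h2]; rfl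
    have hcomm : e * (x * a * x⁻¹) = (x * a * x⁻¹) * e :=
      ot_comm_of_two_elt hD heD ha' (two_elt_of_sq_mem hQp hsq)
    -- `y` is `1` or `a`
    obtain ⟨k, rfl⟩ := Subgroup.mem_zpowers_iff.mp hy
    have hk : a ^ k = 1 ∨ a ^ k = a := by
      have h2 : a ^ (2 : ℤ) = 1 := by
        rw [zpow_ofNat, pow_two]; exact ot_sq hD ha
      rcases Int.emod_two_eq_zero_or_one k with h | h
      · left
        have : k = 2 * (k / 2) := by omega
        rw [this, zpow_mul, h2, one_zpow]
      · right
        have : k = 2 * (k / 2) + 1 := by omega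
        rw [this, zpow_add, zpow_mul, h2, one_zpow, one_mul, zpow_one]
    apply Subgroup.mem_centralizer_iff.mpr
    intro h hh
    rw [Set.mem_singleton_iff] at hh
    subst hh
    rcases hk with hk | hk
    · rw [hk]; simp
    · rw [hk]
      have e1 : ⁅x, a⁆ = (x * a * x⁻¹) * a := by
        rw [commutatorElement_def, ot_inv hD ha]
      rw [e1]
      calc h * (x * a * x⁻¹ * a) = (h * (x * a * x⁻¹)) * a := by group
        _ = (x * a * x⁻¹ * h) * a := by rw [hcomm]
        _ = x * a * x⁻¹ * (h * a) := by group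
        _ = x * a * x⁻¹ * (a * h) := by rw [hea]
        _ = x * a * x⁻¹ * a * h := by group
  have h3 := Subgroup.mem_centralizer_iff.mp (hle hq) e (Set.mem_singleton e)
  exact h3

end Cfsg.Agent.helper25
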