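import Cfsg.Agent.Lib_helper25_OddTransp

set_option autoImplicit false
set_option linter.style.haveILetI false
set_option linter.unusedVariables false
set_option maxHeartbeats 1000000

namespace Cfsg.Agent.helper25

open Cfsg
open scoped commutatorElement

variable {G : Type*} [Group G]

/-- an element with `z * z = 1` and `z ^ n = 1`, `n` odd, is trivial. -/
theorem eq_one_of_sq_of_odd_pow {z : G} (h2 : z * z = 1) {n : ℕ} (hn : Odd n) (hzn : z ^ n = 1) :
    z = 1 := by
  obtain ⟨j, rfl⟩ := hn
  have h3 : z ^ 2 = 1 := by rw [pow_two]; exact h2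
  rw [pow_succ, pow_mul, h3, one_pow, one_mul] at hzn
  exact hzn

/-- second part: the centralizer in `O₂(G)` of a product of odd order. -/
theorem ot_part2 {D : Set G} (hD : IsOddTranspositionSet D) {a : G} (ha : a ∈ D) :
    ∀ b ∈ oddPartners D a,
      pCore 2 G ⊓ Subgroup.centralizer {a * b} =
        pCore 2 G ⊓ Subgroup.centralizer {a} ⊓ Subgroup.centralizer {b} := by
  haveI hQn : (pCore 2 G).Normal := helper1.pCore_normal 2
  have hQp : IsPGroup 2 (pCore 2 G) := helper1.pCore_isPGroup 2
  rintro b ⟨hbD, hba, hodd⟩
  have haa : a * a = 1 := ot_sq hD ha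
  have hbb : b * b = 1 := ot_sq hD hbD
  have hainv : a⁻¹ = a := ot_inv hD ha
  apply le_antisymm
  · rintro x ⟨hxQ, hxC⟩
    have hxy : (a * b) * x = x * (a * b) :=
      Subgroup.mem_centralizer_iff.mp hxC _ (Set.mem_singleton _)
    have ha' : x⁻¹ * a * x ∈ D := by
      have := hD.1.conj_mem a ha x⁻¹
      rwa [inv_inv] at this
    have hz_mem : a * (x⁻¹ * a * x) ∈ pCore 2 G := by
      have h1 : a * x⁻¹ * a⁻¹ ∈ pCore 2 G := hQn.conj_mem _ (Subgroup.inv_mem _ hxQ) a
      have h2 := Subgroup.mul_mem _ h1 hxQ
      rw [hainv] at h2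
      have e : a * (x⁻¹ * a * x) = a * x⁻¹ * a * x := by group
      rw [e]; exact h2
    have h2elt : ∃ k : ℕ, (a * (x⁻¹ * a * x)) ^ 2 ^ k = 1 := by
      obtain ⟨k, hk⟩ := hQp ⟨_, hz_mem⟩
      exact ⟨k, congrArg Subtype.val hk⟩
    have haa' : a * (x⁻¹ * a * x) = (x⁻¹ * a * x) * a := ot_comm_of_two_elt hD ha ha' h2elt
    have ha'a' : (x⁻¹ * a * x) * (x⁻¹ * a * x) = 1 := ot_sq hD ha'
    obtain ⟨a', ha'def⟩ : ∃ a' : G, a' = x⁻¹ * a * x := ⟨_, rfl⟩
    rw [← ha'def] at ha' haa' ha'a' hz_mem
    obtain ⟨z, hz⟩ : ∃ z : G, z = a * a' := ⟨_, rfl⟩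
    have hzz : z * z = 1 := by
      rw [hz]
      calc a * a' * (a * a') = a * (a' * a) * a' := by group
        _ = a * (a * a') * a' := by rw [haa']
        _ = (a * a) * (a' * a') := by group
        _ = 1 := by rw [haa, ha'a', one_mul]
    have hza : z * a = a * z := by
      rw [hz]
      calc a * a' * a = a * (a' * a) := by group
        _ = a * (a * a') := by rw [haa']
    have ha'z : a' = a * z := by
      rw [hz]
      calc a' = (a * a) * a' := by rw [haa, one_mul]
        _ = a * (a * a') := by group
    -- `a` and `a'` invert `y = a * b`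
    have hay : a * (a * b) * a = (a * b)⁻¹ := by
      have e1 : (a * b)⁻¹ = b * a := by
        rw [mul_inv_rev, hainv, ot_inv hD hbD]
      rw [e1]
      calc a * (a * b) * a = (a * a) * b * a := by group
        _ = b * a := by rw [haa, one_mul]
    have ha'y : a' * (a * b) * a' = (a * b)⁻¹ := by
      rw [ha'def]
      calc x⁻¹ * a * x * (a * b) * (x⁻¹ * a * x) = x⁻¹ * a * (x * (a * b)) * x⁻¹ * a * x := by group
        _ = x⁻¹ * a * ((a * b) * x) * x⁻¹ * a * x := by rw [hxy]
        _ = x⁻¹ * (a * (a * b) * a) * x := by group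
        _ = x⁻¹ * (a * b)⁻¹ * x := by rw [hay]
        _ = (x⁻¹ * (a * b) * x)⁻¹ := by group
        _ = (x⁻¹ * (x * (a * b)))⁻¹ := by rw [← hxy]; group
        _ = (a * b)⁻¹ := by group
    have hzy : z * (a * b) = (a * b) * z := by
      have h1 : z * (a * b) * z⁻¹ = a * b := by
        rw [hz]
        calc a * a' * (a * b) * (a * a')⁻¹ = a * (a' * (a * b) * a'⁻¹) * a⁻¹ := by group
          _ = a * (a' * (a * b) * a') * a := by rw [ot_inv hD ha', hainv]
          _ = a * (a * b)⁻¹ * a := by rw [ha'y]
          _ = (a⁻¹ * (a * b) * a⁻¹)⁻¹ := by group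
          _ = (a * (a * b) * a)⁻¹ := by rw [hainv]
          _ = a * b := by rw [hay, inv_inv]
      calc z * (a * b) = (z * (a * b) * z⁻¹) * z := by group
        _ = (a * b) * z := by rw [h1]
    have hzb : z * b = b * z := by
      have hb : b = a * (a * b) := by
        calc b = (a * a) * b := by rw [haa, one_mul]
          _ = a * (a * b) := by group
      calc z * b = z * (a * (a * b)) := by rw [← hb]
        _ = (z * a) * (a * b) := by group
        _ = (a * z) * (a * b) := by rw [hza]
        _ = a * (z * (a * b)) := by group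
        _ = a * ((a * b) * z) := by rw [hzy]
        _ = (a * (a * b)) * z := by group
        _ = b * z := by rw [← hb]
    have ha'b : a' * b = (a * b) * z := by
      rw [ha'z]
      calc a * z * b = a * (z * b) := by group
        _ = a * (b * z) := by rw [hzb]
        _ = a * b * z := by group
    have hcomm_yz : Commute (a * b) z := hzy.symm
    have hz1 : z = 1 := by
      rcases hD.1.pair a' ha' b hbD with hc | hoddm | h4
      · -- commuting: then `(a*b)^2 = 1`, so `a * b = 1`, contradiction
        exfalso
        have h1 : (a' * b) * (a' * b) = 1 := by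
          calc a' * b * (a' * b) = a' * (b * a') * b := by group
            _ = a' * (a' * b) * b := by rw [hc]
            _ = (a' * a') * (b * b) := by group
            _ = 1 := by rw [ha'a', hbb, one_mul]
        rw [ha'b] at h1
        have h2 : (a * b) ^ 2 = 1 := by
          rw [pow_two]
          calc a * b * (a * b) = a * b * (a * b) * (z * z) := by rw [hzz, mul_one]
            _ = a * b * ((a * b) * z) * z := by group
            _ = a * b * (z * (a * b)) * z := by rw [hzy]
            _ = (a * b * z) * (a * b * z) := by group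
            _ = 1 := h1
        have h3 : orderOf (a * b) ∣ 2 := orderOf_dvd_of_pow_eq_one h2
        have h4 : orderOf (a * b) = 1 := by
          rcases (Nat.dvd_prime Nat.prime_two).mp h3 with h | h
          · exact h
          · exfalso; rw [h] at hodd; exact (by decide : ¬ Odd 2) hodd
        have h5 : a * b = 1 := orderOf_eq_one_iff.mp h4
        have h6 : b = a⁻¹ := eq_inv_of_mul_eq_one_right h5
        exact hba (h6.trans hainv)
      · -- odd order
        rw [ha'b] at hoddm
        have h1 : ((a * b) * z) ^ orderOf ((a * b) * z) = 1 := pow_orderOf_eq_one _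
        rw [hcomm_yz.mul_pow] at h1
        obtain ⟨j, hj⟩ := hoddm
        have hzm : z ^ orderOf ((a * b) * z) = z := by
          rw [hj, pow_succ, pow_mul]
          have : z ^ 2 = 1 := by rw [pow_two]; exact hzz
          rw [this, one_pow, one_mul]
        rw [hzm] at h1
        have h2 : z = ((a * b) ^ orderOf ((a * b) * z))⁻¹ := eq_inv_of_mul_eq_one_right h1
        have h3 : z ^ orderOf (a * b) = 1 := by
          rw [h2, inv_pow, ← pow_mul, mul_comm, pow_mul, pow_orderOf_eq_one, one_pow, inv_one]
        exact eq_one_of_sq_of_odd_pow hzz hodd h3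
      · exact absurd h4.1 (hD.2 a' ha' b hbD)
    have ha'a : a' = a := by rw [ha'z, hz1, mul_one]
    have hax : a * x = x * a := by
      rw [ha'def] at ha'a
      calc a * x = x * (x⁻¹ * a * x) := by group
        _ = x * a := by rw [ha'a]
    have hbx : b * x = x * b := by
      have h1 : a * (b * x) = a * (x * b) := by
        calc a * (b * x) = (a * b) * x := by group
          _ = x * (a * b) := hxy
          _ = (x * a) * b := by group
          _ = (a * x) * b := by rw [hax]
          _ = a * (x * b) := by group
      exact mul_left_cancel h1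
    refine ⟨⟨hxQ, ?_⟩, ?_⟩
    · apply Subgroup.mem_centralizer_iff.mpr
      intro h hh
      rw [Set.mem_singleton_iff] at hh
      rw [hh]; exact hax
    · apply Subgroup.mem_centralizer_iff.mpr
      intro h hh
      rw [Set.mem_singleton_iff] at hh
      rw [hh]; exact hbx
  · rintro x ⟨⟨hxQ, hxa⟩, hxb⟩
    refine ⟨hxQ, ?_⟩
    have hax : a * x = x * a := Subgroup.mem_centralizer_iff.mp hxa _ (Set.mem_singleton _)
    have hbx : b * x = x * b := Subgroup.mem_centralizer_iff.mp hxb _ (Set.mem_singleton _)
    apply Subgroup.mem_centralizer_iff.mpr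
    intro h hh
    rw [Set.mem_singleton_iff] at hh
    rw [hh]
    calc a * b * x = a * (b * x) := by group
      _ = a * (x * b) := by rw [hbx]
      _ = (a * x) * b := by group
      _ = (x * a) * b := by rw [hax]
      _ = x * (a * b) := by group

end Cfsg.Agent.helper25
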