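import Cfsg.Agent.Lib_helper25_Hyperfocal
import Cfsg.Agent.Lib_helper25_Alperin2

set_option autoImplicit false
set_option linter.style.haveILetI false
set_option linter.unusedVariables false

namespace Cfsg.Agent.helper25

open Cfsg Cfsg.FusionSystem

variable {Ω : Type*} [Group Ω] {S : Subgroup Ω}

/-- the maps of a system over `U` between subgroups of `T ≤ U`, as a system over `T`. -/
def restrictSystem {U : Subgroup Ω} (F₀ : FusionSystem U) (T : Subgroup Ω) (hTU : T ≤ U) :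
    FusionSystem T where
  Hom P := {φ | φ ∈ F₀.Hom P ∧ P ≤ T ∧ ∀ x : P, φ x ∈ T}
  le_of_mem h := ⟨h.2.1, h.2.2⟩
  injective_of_mem h := F₀.injective_of_mem h.1
  conj_mem := by
    intro P g hP hg
    refine ⟨F₀.conj_mem (hP.trans hTU) (hTU hg), hP, fun x => ?_⟩
    show g * (x : Ω) * g⁻¹ ∈ T
    exact T.mul_mem (T.mul_mem hg (hP x.2)) (T.inv_mem hg)
  comp_mem := by
    rintro P Q φ ψ ⟨hφ, hP, hφT⟩ ⟨hψ, hQ, hψT⟩ h
    exact ⟨F₀.comp_mem hφ hψ h, hP, fun x => hψT _⟩
  inv_mem := by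
    rintro P φ ⟨hφ, hP, hφT⟩
    obtain ⟨ψ, hψ, hψφ⟩ := F₀.inv_mem hφ
    refine ⟨ψ, ⟨hψ, ?_, ?_⟩, hψφ⟩
    · rintro _ ⟨x, rfl⟩; exact hφT x
    · rintro ⟨_, x, rfl⟩
      rw [hψφ x]; exact hP x.2

/-- a saturated subsystem over `T ≤ U` of `F` is contained in any subsystem of `p`-power index
over `U`. -/
theorem subsystem_of_pPowerIndex [Finite S] {p : ℕ} [Fact p.Prime] (hS : IsPGroup p S)
    (F : FusionSystem S) {T U : Subgroup Ω} (E : FusionSystem T) (hEsat : E.IsSaturated p)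
    (hEF : E.IsSubsystemOf F) (F₀ : FusionSystem U) (hTU : T ≤ U)
    (hidx : F₀.HasPPowerIndexIn F p) : E.IsSubsystemOf F₀ := by
  obtain ⟨hF₀F, hhyp, hres⟩ := hidx
  have hUS : U ≤ S := by
    have h1 := F₀.conj_mem (P := U) (g := 1) le_rfl (Subgroup.one_mem _)
    exact (F.le_of_mem (hF₀F U h1)).1
  have hTS : T ≤ S := hTU.trans hUS
  haveI : Finite T := finite_of_le S hTS
  have hTp : IsPGroup p T := hS.to_le hTS
  have key : ∀ P : Subgroup Ω, E.Hom P ⊆ (restrictSystem F₀ T hTU).Hom P := by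
    apply alperin hTp E hEsat (restrictSystem F₀ T hTU)
    intro P hP α hα
    have hFA := fullyAutomized_of_top_or_essential hTp E hEsat hP
    have hPT : P ≤ T := hFA.1
    have hPU : P ≤ U := hPT.trans hTU
    have hPS : P ≤ S := hPT.trans hTS
    obtain ⟨g, hg, k, hk, hgk⟩ := exists_conj_mul_pResidual E hFA hα
    have hle : E.autGroup P ≤ F.autGroup P := by
      intro β hβ
      rw [mem_autGroup_iff F hPS]
      exact hEF P ((mem_autGroup_iff E hPT β).mp hβ)
    have hk' : Subgroup.inclusion hle k ∈ pResidual p (F.autGroup P) :=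
      pResidual_map_le p (Subgroup.inclusion hle) ⟨k, hk, rfl⟩
    have hkF₀ : (k : MulAut P) ∈ F₀.autGroup P :=
      hres P hPU ⟨Subgroup.inclusion hle k, hk', rfl⟩
    have hkiso : IsFIso F₀ (k : MulAut P) := (mem_autGroup_iff F₀ hPU _).mp hkF₀
    rw [mem_autGroup_iff (restrictSystem F₀ T hTU) hPT]
    refine ⟨?_, hPT, fun x => hPT (α x).2⟩
    have hc : conjHom P g ∈ F₀.Hom P := F₀.conj_mem hPU (hTU hg)
    exact comp_mem' F₀ hkiso hc (fun x => ((k : MulAut P) x).2) (fun x => hgk x)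
  intro P φ hφ
  exact (key P hφ).1

end Cfsg.Agent.helper25
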