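import Cfsg.Agent.Lib_helper25_PPIdx1

set_option autoImplicit false
set_option linter.style.haveILetI false
set_option linter.unusedVariables false
set_option maxHeartbeats 1000000

namespace Cfsg.Agent.helper25

open Cfsg Cfsg.FusionSystem

variable {Ω : Type*} [Group Ω] {S : Subgroup Ω}

/-- a subgroup containing the hyperfocal subgroup and normal in `S` is strongly closed. -/
theorem stronglyClosed_of_hyp_le [Finite S] {p : ℕ} [Fact p.Prime] (hS : IsPGroup p S)
    (F : FusionSystem S) (hF : F.IsSaturated p) {T : Subgroup Ω} (hTS : T ≤ S)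
    (hTn : S ≤ Subgroup.normalizer (T : Set Ω)) (hT : F.hyperfocalSubgroup p ≤ T) :
    F.StronglyClosed T := by
  have hE : ∀ P : Subgroup Ω, (P = S ∨ F.IsEssential p P) →
      F.autGroup P ≤ (presSystem F T hTn).autGroup P := by
    intro P hP α hα
    have hFA := fullyAutomized_of_top_or_essential hS F hF hP
    have hPS : P ≤ S := hFA.1
    obtain ⟨g, hg, k, hk, hgk⟩ := exists_conj_mul_pResidual F hFA hα
    apply Subgroup.subset_closure
    refine ⟨(mem_autGroup_iff F hPS α).mp hα, fun x => ?_⟩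
    show (x : Ω) ∈ T ↔ ((α x : P) : Ω) ∈ T
    rw [hgk x, ← Subgroup.mem_normalizer_iff.mp (hTn hg)]
    have hk' := hT (hyp_mem F p hPS hk x)
    constructor
    · intro hx
      have := Subgroup.mul_mem _ hx hk'
      rwa [mul_inv_cancel_left] at this
    · intro hkx
      have := Subgroup.mul_mem _ hkx (Subgroup.inv_mem _ hk')
      rwa [mul_inv_rev, inv_inv, mul_inv_cancel_left] at this
  have hsub := alperin hS F hF (presSystem F T hTn) hE
  refine ⟨hTS, fun R hR φ hφ x => ?_⟩
  exact ((hsub R hφ).2 x).mp (hR x.2)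

/-- an element conjugating `k`-images into `P` normalizes `P`. -/
theorem mem_normalizer_of_conj_aut {P : Subgroup Ω} [Finite P] {g : Ω} {α k : MulAut P}
    (h : ∀ x : P, ((α x : P) : Ω) = g * ((k x : P) : Ω) * g⁻¹) :
    g ∈ Subgroup.normalizer (P : Set Ω) := by
  apply Subgroup.mem_normalizer_fintype
  intro y hy
  have h1 := h (k⁻¹ ⟨y, hy⟩)
  rw [MulAut.apply_inv_self] at h1
  show g * y * g⁻¹ ∈ P
  rw [← h1]; exact (α _).2

/-- a saturated subsystem of `p`-power index is invariant under `Aut_F(T)`. -/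
theorem autInv_of_pPowerIndex [Finite S] {p : ℕ} [Fact p.Prime] (hS : IsPGroup p S)
    (F : FusionSystem S) {T : Subgroup Ω} (hTS : T ≤ S) (E : FusionSystem T)
    (hEs : E.IsSaturated p) (hEi : E.HasPPowerIndexIn F p) : AutInv E F := by
  obtain ⟨hEF, hhyp, hres⟩ := hEi
  haveI : Finite T := finite_of_le S hTS
  have hTp : IsPGroup p T := hS.to_le hTS
  have key : ∀ P : Subgroup Ω, E.Hom P ⊆ (coreSystemT E F).Hom P := by
    apply alperin hTp E hEs (coreSystemT E F)
    intro P hP α hα
    have hFA := fullyAutomized_of_top_or_essential hTp E hEs hP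
    have hPT : P ≤ T := hFA.1
    have hPS : P ≤ S := hPT.trans hTS
    haveI : Finite P := finite_of_le S hPS
    obtain ⟨g, hg, k, hk, hgk⟩ := exists_conj_mul_pResidual E hFA hα
    have hgN : g ∈ Subgroup.normalizer (P : Set Ω) := mem_normalizer_of_conj_aut hgk
    apply mem_coreSystemT_autGroup E F hTS hPT hα
    intro β hβ e he hecoe
    have hQT : helper26.autMap β P ≤ T := helper26.autMap_le β P
    have hle : E.autGroup P ≤ F.autGroup P := by
      intro γ hγ
      rw [mem_autGroup_iff F hPS]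
      exact hEF P ((mem_autGroup_iff E hPT γ).mp hγ)
    have hk' : Subgroup.inclusion hle k ∈ pResidual p (F.autGroup P) :=
      pResidual_map_le p (Subgroup.inclusion hle) ⟨k, hk, rfl⟩
    have hk'' : autCongr F he (Subgroup.inclusion hle k) ∈
        pResidual p (F.autGroup (helper26.autMap β P)) :=
      pResidual_map_le p (autCongr F he) ⟨_, hk', rfl⟩
    have hkE : MulAut.congr e (k : MulAut P) ∈ E.autGroup (helper26.autMap β P) :=
      hres _ hQT ⟨_, hk'', rfl⟩
    have hα_eq : α = normAut P g hgN * (k : MulAut P) := by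
      apply MulEquiv.ext; intro x
      apply Subtype.ext
      exact hgk x
    have hcE : MulAut.congr e (normAut P g hgN) ∈ E.autGroup (helper26.autMap β P) := by
      apply autInducedBy_le_autGroup E hQT
      apply (mem_autInducedBy_iff _ _ _).mpr
      refine ⟨((β ⟨g, hg⟩ : T) : Ω), (β ⟨g, hg⟩).2, fun y => ?_⟩
      show ((e (normAut P g hgN (e.symm y)) : helper26.autMap β P) : Ω) = _
      have hy : ((y : helper26.autMap β P) : Ω) = ((e (e.symm y) : helper26.autMap β P) : Ω) := by
        rw [MulEquiv.apply_symm_apply]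
      rw [hy, hecoe, hecoe]
      have h1 : (⟨((normAut P g hgN (e.symm y) : P) : Ω), hPT (normAut P g hgN (e.symm y)).2⟩ : T) =
          ⟨g, hg⟩ * ⟨((e.symm y : P) : Ω), hPT (e.symm y).2⟩ * ⟨g, hg⟩⁻¹ := Subtype.ext rfl
      rw [h1, map_mul, map_mul, map_inv]
      rfl
    rw [hα_eq, map_mul]
    exact mul_mem hcE hkE
  intro P hPT φ hφ α hα
  obtain ⟨χ, hχ, htr⟩ := (key P hφ).2 α hα
  exact ⟨χ, hχ, fun x hφx hαx => htr ⟨_, hαx⟩ ⟨x, hPT x.2⟩ x.2 hφx rfl⟩

/-- the Frattini condition for a saturated subsystem of `p`-power index over a subgroup normal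
in `S`. -/
theorem frattini_of_pPowerIndex [Finite S] {p : ℕ} [Fact p.Prime] (hS : IsPGroup p S)
    (F : FusionSystem S) (hF : F.IsSaturated p) {T : Subgroup Ω} (hTS : T ≤ S)
    (hTn : S ≤ Subgroup.normalizer (T : Set Ω)) (hT : F.hyperfocalSubgroup p ≤ T)
    (E : FusionSystem T) (hEs : E.IsSaturated p) (hEi : E.HasPPowerIndexIn F p) :
    ∀ P : Subgroup Ω, P ≤ T → ∀ φ ∈ F.Hom P, FrCond E F P φ := by
  have hTsc := stronglyClosed_of_hyp_le hS F hF hTS hTn hT
  have hinv := autInv_of_pPowerIndex hS F hTS E hEs hEi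
  obtain ⟨hEF, hhyp, hres⟩ := hEi
  intro P hPT φ hφ
  refine (frattini_induction hS F hF E hEF hTsc hinv ?_ P hPT hφ).2
  intro R hRT hRne hRfn IH μ hμ
  obtain ⟨D, hD⟩ : ∃ D : FusionSystem T, D = frattiniSystem E F hTsc.1 hEF hinv := ⟨_, rfl⟩
  rw [← hD] at IH ⊢
  have hED : ∀ P : Subgroup Ω, E.Hom P ⊆ D.Hom P := by
    intro P; rw [hD]; exact le_frattiniSystem E F hTsc.1 hEF hinv P
  have hRS : R ≤ S := hRfn.1
  haveI : Finite R := finite_of_le S hRS
  obtain ⟨hRfc, hRfa⟩ := fullyNormalized_imp hS F hF hRfn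
  obtain ⟨g, hg, k, hk, hgk⟩ := exists_conj_mul_pResidual F hRfa hμ
  have hgN : g ∈ Subgroup.normalizer (R : Set Ω) := mem_normalizer_of_conj_aut hgk
  have hkE : (k : MulAut R) ∈ E.autGroup R := hres R hRT ⟨k, hk, rfl⟩
  have hkD : IsFIso D (k : MulAut R) := hED R ((mem_autGroup_iff E hRT _).mp hkE)
  have hcD : IsFIso D (normAut R g hgN) := by
    show R.subtype.comp (normAut R g hgN).toMonoidHom ∈ D.Hom R
    rw [hD]
    refine ⟨?_, normAut T g (hTn hg), ?_, R.subtype, subtype_mem E hRT, fun x hx => rfl⟩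
    · have h1 : R.subtype.comp (normAut R g hgN).toMonoidHom = conjHom R g := by ext x; rfl
      rw [h1]; exact F.conj_mem hRS hg
    · apply (mem_autGroup_iff F hTS _).mpr
      show T.subtype.comp (normAut T g (hTn hg)).toMonoidHom ∈ F.Hom T
      have h1 : T.subtype.comp (normAut T g (hTn hg)).toMonoidHom = conjHom T g := by ext x; rfl
      rw [h1]; exact F.conj_mem hTS hg
  have hμ_eq : μ = (k : MulAut R).trans (normAut R g hgN) := by
    apply MulEquiv.ext; intro x
    apply Subtype.ext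
    exact hgk x
  rw [hμ_eq]
  exact hkD.trans hcD

end Cfsg.Agent.helper25
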