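import Cfsg.Agent.Lib_helper25_PPIdx2
import Cfsg.Agent.Lib_helper14_OpSub
import Cfsg.Agent.Lib_helper25_NormSat1

set_option autoImplicit false
set_option linter.style.haveILetI false
set_option linter.unusedVariables false
set_option maxHeartbeats 1000000

namespace Cfsg.Agent.helper25

open Cfsg Cfsg.FusionSystem

variable {Ω : Type*} [Group Ω] {S : Subgroup Ω}

/-- automorphisms in `Aut_F(K)` stabilize a strongly closed subgroup `T ≤ K`. -/
theorem autGroup_le_stabIn (F : FusionSystem S) {T K : Subgroup Ω} (hT : F.StronglyClosed T)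
    (hKS : K ≤ S) (hTK : T ≤ K) [Finite K] : F.autGroup K ≤ stabIn K T := by
  intro β hβ
  apply mem_stabIn_of_forall
  intro x hx
  have hβ' : IsFIso F β := (mem_autGroup_iff F hKS β).mp hβ
  have hres := restrict_mem F hTK hβ'
  exact hT.2 T le_rfl _ hres ⟨x, hx⟩

theorem fullyNormalized_of_stronglyClosed [Finite S] (F : FusionSystem S) {T : Subgroup Ω}
    (hT : F.StronglyClosed T) : F.IsFullyNormalized T := by
  haveI : Finite T := finite_of_le S hT.1
  refine ⟨hT.1, fun Q hQ => ?_⟩
  obtain ⟨φ, hφ, rfl⟩ := hQ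
  have h1 : φ.range = T := by
    apply Subgroup.eq_of_le_of_card_ge
    · rintro _ ⟨x, rfl⟩; exact hT.2 T le_rfl φ hφ x
    · exact le_of_eq (Nat.card_congr (MonoidHom.ofInjective (F.injective_of_mem hφ)).toEquiv)
  rw [h1]

/-- every automorphism in `Aut_F(T)`, `T` strongly closed, extends to `T C_S(T)`. -/
theorem exists_extension_to_TC [Finite S] {p : ℕ} [Fact p.Prime] (hS : IsPGroup p S)
    (F : FusionSystem S) (hF : F.IsSaturated p) {T : Subgroup Ω} (hT : F.StronglyClosed T)
    {α : MulAut T} (hα : α ∈ F.autGroup T) :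
    ∃ β ∈ F.autGroup (T ⊔ centralizerIn S T), ∀ x : T,
      ((β (Subgroup.inclusion le_sup_left x) : ↥(T ⊔ centralizerIn S T)) : Ω) =
        ((α x : T) : Ω) := by
  have hTS := hT.1
  have hKS : T ⊔ centralizerIn S T ≤ S := sup_le hTS inf_le_left
  haveI : Finite (T ⊔ centralizerIn S T : Subgroup Ω) := finite_of_le S hKS
  have hrec : F.IsReceptive T :=
    receptive_of_fullyCentralized hS F hF
      (fullyNormalized_imp hS F hF (fullyNormalized_of_stronglyClosed F hT)).1
  have hα' : T.subtype.comp α.toMonoidHom ∈ F.Hom T := (mem_autGroup_iff F hTS α).mp hα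
  obtain ⟨ψ, hψ, hψext⟩ := hrec.2 T _ hα' (range_subtype_comp α)
  have hKle : T ⊔ centralizerIn S T ≤ extender S T (T.subtype.comp α.toMonoidHom) :=
    sup_le (le_extender F hα') (helper26.centralizerIn_le_extender S T _)
  have hψK := restrict_mem F hKle hψ
  have hψT : ∀ x : T, (ψ.comp (Subgroup.inclusion hKle)) (Subgroup.inclusion le_sup_left x) =
      ((α x : T) : Ω) := fun x => hψext x x.2 _
  have hmapT : (T.subgroupOf (T ⊔ centralizerIn S T)).map (ψ.comp (Subgroup.inclusion hKle)) =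
      T := by
    apply le_antisymm
    · rintro _ ⟨y, hy, rfl⟩
      have hyT : (y : Ω) ∈ T := Subgroup.mem_subgroupOf.mp hy
      have h1 := hψT ⟨y, hyT⟩
      have h2 : Subgroup.inclusion le_sup_left (⟨y, hyT⟩ : T) = y := Subtype.ext rfl
      rw [h2] at h1
      rw [h1]; exact (α _).2
    · intro t ht
      refine ⟨Subgroup.inclusion le_sup_left (α⁻¹ ⟨t, ht⟩),
        Subgroup.mem_subgroupOf.mpr (α⁻¹ ⟨t, ht⟩).2, ?_⟩
      rw [hψT, MulAut.apply_inv_self]
  have hr : (ψ.comp (Subgroup.inclusion hKle)).range = T ⊔ centralizerIn S T := by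
    apply Subgroup.eq_of_le_of_card_ge
    · rw [range_eq_sup_map, hmapT]
      apply sup_le le_sup_left
      rintro _ ⟨c, hc, rfl⟩
      have hcC : (c : Ω) ∈ centralizerIn S T := Subgroup.mem_subgroupOf.mp hc
      apply (le_sup_right : centralizerIn S T ≤ T ⊔ centralizerIn S T)
      refine ⟨(F.le_of_mem hψK).2 c, ?_⟩
      apply Subgroup.mem_centralizer_iff.mpr
      intro t ht
      obtain ⟨y, hy, hyt⟩ := hmapT.ge ht
      have hyT : (y : Ω) ∈ T := Subgroup.mem_subgroupOf.mp hy
      have hcomm : y * c = c * y := by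
        apply Subtype.ext
        exact Subgroup.mem_centralizer_iff.mp hcC.2 y hyT
      rw [← hyt, ← map_mul, ← map_mul, hcomm]
    · exact le_of_eq (Nat.card_congr (MonoidHom.ofInjective (F.injective_of_mem hψK)).toEquiv)
  obtain ⟨β, hβ, hβcoe⟩ := exists_isFIso_of_mem F hψK hr
  refine ⟨β, (mem_autGroup_iff F hKS β).mpr hβ, fun x => ?_⟩
  rw [hβcoe]; exact hψT x

/-- the elements of `O^p(Aut_F(T))` extend to elements of `O^p(Aut_F(T C_S(T)))`. -/
theorem exists_opOf_extension [Finite S] {p : ℕ} [Fact p.Prime] (hS : IsPGroup p S)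
    (F : FusionSystem S) (hF : F.IsSaturated p) {T : Subgroup Ω} (hT : F.StronglyClosed T)
    {k : MulAut T} (hk : k ∈ helper14.opOf p (F.autGroup T)) :
    ∃ β ∈ helper14.opOf p (F.autGroup (T ⊔ centralizerIn S T)), ∀ x : T,
      ((β (Subgroup.inclusion le_sup_left x) : ↥(T ⊔ centralizerIn S T)) : Ω) =
        ((k x : T) : Ω) := by
  have hTS := hT.1
  have hKS : T ⊔ centralizerIn S T ≤ S := sup_le hTS inf_le_left
  haveI : Finite (T ⊔ centralizerIn S T : Subgroup Ω) := finite_of_le S hKS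
  haveI : Finite T := finite_of_le S hTS
  have hstab := autGroup_le_stabIn F hT hKS (le_sup_left : T ≤ T ⊔ centralizerIn S T)
  -- the subgroup of restrictions
  have hY : helper14.opOf p (F.autGroup T) ≤
      ((helper14.opOf p (F.autGroup (T ⊔ centralizerIn S T))).subgroupOf
        (stabIn (T ⊔ centralizerIn S T) T)).map (resAut le_sup_left) := by
    apply helper14.opOf_le_of_pquot
    intro α hα
    obtain ⟨β, hβ, hβα⟩ := exists_extension_to_TC hS F hF hT hα
    refine ⟨(orderOf β).factorization p, ?_⟩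
    have h1 : β ^ p ^ (orderOf β).factorization p ∈
        helper14.opOf p (F.autGroup (T ⊔ centralizerIn S T)) := helper14.pow_mem_opOf hβ
    refine ⟨⟨β, hstab hβ⟩ ^ p ^ (orderOf β).factorization p, ?_, ?_⟩
    · apply Subgroup.mem_subgroupOf.mpr
      rw [Subgroup.coe_pow]; exact h1
    · rw [map_pow]
      congr 1
      apply MulEquiv.ext; intro x
      apply Subtype.ext
      rw [resAut_coe]
      exact hβα x
  obtain ⟨β, hβ, hβk⟩ := hY hk
  refine ⟨(β : MulAut ↥(T ⊔ centralizerIn S T)), Subgroup.mem_subgroupOf.mp hβ, fun x => ?_⟩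
  rw [← hβk, resAut_coe]
  rfl

end Cfsg.Agent.helper25
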