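import Cfsg.Agent.Lib_helper25_PPIdx3

set_option autoImplicit false
set_option linter.style.haveILetI false
set_option linter.unusedVariables false
set_option maxHeartbeats 1000000

namespace Cfsg.Agent.helper25

open Cfsg Cfsg.FusionSystem

variable {Ω : Type*} [Group Ω] {S : Subgroup Ω}

/-- the extension condition for a saturated subsystem of `p`-power index. -/
theorem extension_of_pPowerIndex [Finite S] {p : ℕ} [Fact p.Prime] (hS : IsPGroup p S)
    (F : FusionSystem S) (hF : F.IsSaturated p) {T : Subgroup Ω} (hTS : T ≤ S)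
    (hTn : S ≤ Subgroup.normalizer (T : Set Ω)) (hT : F.hyperfocalSubgroup p ≤ T)
    (E : FusionSystem T) (hEs : E.IsSaturated p) (hEi : E.HasPPowerIndexIn F p) :
    ∀ α ∈ E.autGroup T, ∃ β ∈ F.autGroup (T ⊔ centralizerIn S T),
      (∀ x : T, ((β (Subgroup.inclusion le_sup_left x) : ↥(T ⊔ centralizerIn S T)) : Ω) =
        ((α x : T) : Ω)) ∧
      ∀ c : ↥(T ⊔ centralizerIn S T), (c : Ω) ∈ centralizerIn S T →
        (c : Ω)⁻¹ * ((β c : ↥(T ⊔ centralizerIn S T)) : Ω) ∈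
          T ⊓ Subgroup.centralizer (T : Set Ω) := by
  have hTsc := stronglyClosed_of_hyp_le hS F hF hTS hTn hT
  obtain ⟨hEF, hhyp, hres⟩ := hEi
  haveI : Finite T := finite_of_le S hTS
  have hTp : IsPGroup p T := hS.to_le hTS
  have hKS : T ⊔ centralizerIn S T ≤ S := sup_le hTS inf_le_left
  haveI : Finite (T ⊔ centralizerIn S T : Subgroup Ω) := finite_of_le S hKS
  intro α hα
  have hFA : E.IsFullyAutomized p T := ((isSaturated_iff_RS hTp E).mp hEs).1
  obtain ⟨t, ht, k, hk, htk⟩ := exists_conj_mul_pResidual E hFA hα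
  have hle : E.autGroup T ≤ F.autGroup T := by
    intro γ hγ
    rw [mem_autGroup_iff F hTS]
    exact hEF T ((mem_autGroup_iff E le_rfl γ).mp hγ)
  have hkop : (k : MulAut T) ∈ helper14.opOf p (F.autGroup T) := by
    apply helper14.opOf_mono p hle
    rw [← helper14.map_pResidual_eq_opOf]
    exact ⟨k, hk, rfl⟩
  obtain ⟨β', hβ', hβ'k⟩ := exists_opOf_extension hS F hF hTsc hkop
  have hβ'A : β' ∈ F.autGroup (T ⊔ centralizerIn S T) := helper14.opOf_le p _ hβ'
  rw [← helper14.map_pResidual_eq_opOf] at hβ'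
  obtain ⟨k', hk', hk'β⟩ := hβ'
  have htK : t ∈ T ⊔ centralizerIn S T := (le_sup_left : T ≤ T ⊔ centralizerIn S T) ht
  have htN : t ∈ Subgroup.normalizer ((T ⊔ centralizerIn S T : Subgroup Ω) : Set Ω) :=
    Subgroup.le_normalizer htK
  have hct : normAut (T ⊔ centralizerIn S T) t htN ∈ F.autGroup (T ⊔ centralizerIn S T) :=
    autInducedBy_le_autGroup F hKS (normAut_mem S _ ⟨hTS ht, htN⟩)
  refine ⟨normAut (T ⊔ centralizerIn S T) t htN * β', mul_mem hct hβ'A, ?_, ?_⟩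
  · intro x
    show t * ((β' (Subgroup.inclusion le_sup_left x) : ↥(T ⊔ centralizerIn S T)) : Ω) * t⁻¹ = _
    rw [hβ'k x, htk x]
  · intro c hc
    have hz1 : (c : Ω)⁻¹ * ((β' c : ↥(T ⊔ centralizerIn S T)) : Ω) ∈ T := by
      apply hT
      have h1 := hyp_mem F p hKS hk' c
      have h2 : ((k' : F.autGroup (T ⊔ centralizerIn S T)) : MulAut ↥(T ⊔ centralizerIn S T)) =
          β' := hk'β
      rw [h2] at h1
      exact h1
    have hstab := autGroup_le_stabIn F hTsc hKS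
      (le_sup_left : T ≤ T ⊔ centralizerIn S T) hβ'A
    have hβ'cC : ((β' c : ↥(T ⊔ centralizerIn S T)) : Ω) ∈ Subgroup.centralizer (T : Set Ω) := by
      apply Subgroup.mem_centralizer_iff.mpr
      intro y hy
      have hy' : ((β'⁻¹ ⟨y, (le_sup_left : T ≤ T ⊔ centralizerIn S T) hy⟩ :
          ↥(T ⊔ centralizerIn S T)) : Ω) ∈ T := by
        apply (hstab _).mp
        rw [MulAut.apply_inv_self]; exact hy
      have hcomm : β'⁻¹ ⟨y, (le_sup_left : T ≤ T ⊔ centralizerIn S T) hy⟩ * c =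
          c * β'⁻¹ ⟨y, (le_sup_left : T ≤ T ⊔ centralizerIn S T) hy⟩ := by
        apply Subtype.ext
        exact Subgroup.mem_centralizer_iff.mp hc.2 _ hy'
      have h3 := congrArg (fun z => ((β' z : ↥(T ⊔ centralizerIn S T)) : Ω)) hcomm
      simp only [map_mul, MulAut.apply_inv_self, Subgroup.coe_mul] at h3
      exact h3
    have hz2 : (c : Ω)⁻¹ * ((β' c : ↥(T ⊔ centralizerIn S T)) : Ω) ∈
        Subgroup.centralizer (T : Set Ω) :=
      Subgroup.mul_mem _ (Subgroup.inv_mem _ hc.2) hβ'cC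
    show (c : Ω)⁻¹ * (t * ((β' c : ↥(T ⊔ centralizerIn S T)) : Ω) * t⁻¹) ∈
      T ⊓ Subgroup.centralizer (T : Set Ω)
    obtain ⟨b, hb⟩ : ∃ b : Ω, b = ((β' c : ↥(T ⊔ centralizerIn S T)) : Ω) := ⟨_, rfl⟩
    rw [← hb] at hz1 hz2 ⊢
    obtain ⟨z, hz⟩ : ∃ z : Ω, z = (c : Ω)⁻¹ * b := ⟨_, rfl⟩
    rw [← hz] at hz1 hz2
    have h_tc : t * (c : Ω) = c * t := Subgroup.mem_centralizer_iff.mp hc.2 t ht
    have h_tz : t * z = z * t := Subgroup.mem_centralizer_iff.mp hz2 t ht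
    have hbz : b = (c : Ω) * z := by rw [hz]; group
    have e : (c : Ω)⁻¹ * (t * b * t⁻¹) = z := by
      calc (c : Ω)⁻¹ * (t * b * t⁻¹) = (c : Ω)⁻¹ * (t * (c : Ω) * z * t⁻¹) := by
            rw [hbz]; group
        _ = (c : Ω)⁻¹ * ((c : Ω) * t * z * t⁻¹) := by rw [h_tc]
        _ = (c : Ω)⁻¹ * (c : Ω) * (t * z) * t⁻¹ := by group
        _ = (c : Ω)⁻¹ * (c : Ω) * (z * t) * t⁻¹ := by rw [h_tz]
        _ = z := by group
    rw [e]
    exact ⟨hz1, hz2⟩

/-- a saturated subsystem of `p`-power index over a subgroup normal in `S` is normal. -/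
theorem isNormalIn_of_pPowerIndex [Finite S] {p : ℕ} [Fact p.Prime] (hS : IsPGroup p S)
    (F : FusionSystem S) (hF : F.IsSaturated p) (T : Subgroup Ω) (hTS : T ≤ S)
    (hTn' : (T.subgroupOf S).Normal) (hT : F.hyperfocalSubgroup p ≤ T)
    (E : FusionSystem T) (hEs : E.IsSaturated p) (hEi : E.HasPPowerIndexIn F p) :
    E.IsNormalIn F p := by
  have hTn : S ≤ Subgroup.normalizer (T : Set Ω) := by
    apply le_normalizer_of_conj_mem
    intro s hs t ht
    have h1 := hTn'.conj_mem ⟨t, hTS ht⟩ (Subgroup.mem_subgroupOf.mpr ht) ⟨s, hs⟩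
    exact Subgroup.mem_subgroupOf.mp h1
  exact ⟨⟨hEs, hF, hEi.1, stronglyClosed_of_hyp_le hS F hF hTS hTn hT,
    autInv_of_pPowerIndex hS F hTS E hEs hEi,
    frattini_of_pPowerIndex hS F hF hTS hTn hT E hEs hEi⟩,
    extension_of_pPowerIndex hS F hF hTS hTn hT E hEs hEi⟩

end Cfsg.Agent.helper25
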