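import Cfsg.Agent.Lib_helper25_SatCrit14

set_option autoImplicit false
set_option linter.style.haveILetI false
set_option linter.unusedVariables false
set_option maxHeartbeats 1000000

namespace Cfsg.Agent.helper25

open Cfsg Cfsg.FusionSystem

variable {Ω : Type*} [Group Ω] {S : Subgroup Ω}

/-- the only conjugate of `S` is `S`. -/
theorem eq_of_isConj_top [Finite S] (F : FusionSystem S) {Q : Subgroup Ω} (h : F.IsConj S Q) :
    Q = S := by
  have hQS : Q ≤ S := isConj_le_right F h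
  exact Subgroup.eq_of_le_of_card_ge hQS (isConj_card_eq F h).le

/-- the main step: a class outside the family, of order `n`, contains a fully automized
receptive member, once everything above is known. -/
theorem sat_class_step [Finite S] {p : ℕ} [Fact p.Prime] (hS : IsPGroup p S)
    (F : FusionSystem S) {n : ℕ} (hsat : SatAbove F p n) (hnS : n < Nat.card S)
    (ℋ : Set (Subgroup Ω)) (hℋ : ∀ P ∈ ℋ, ∀ Q, F.IsConj P Q → Q ∈ ℋ)
    (hgen : ∀ E : FusionSystem S, (∀ P ∈ ℋ, F.Hom P ⊆ E.Hom P) → F ≤ E)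
    (hstar : ∀ P : Subgroup Ω, F.IsCentric P → P ∉ ℋ → ∃ Q, F.IsConj P Q ∧
      ¬ (autInducedBy S Q ⊓ (pCore p ↥(F.autGroup Q)).map (F.autGroup Q).subtype ≤ Inn Q))
    {P₁ : Subgroup Ω} (hP₁S : P₁ ≤ S) (hP₁ : P₁ ∉ ℋ) (hcard : Nat.card P₁ = n) :
    ∃ Q : Subgroup Ω, F.IsConj P₁ Q ∧ F.IsFullyAutomized p Q ∧ F.IsReceptive Q := by
  have hnotℋ : ∀ P, F.IsConj P₁ P → P ∉ ℋ := fun P hc hP =>
    hP₁ (hℋ P hP P₁ (isConj_symm F hc))
  have hA : ClassA F P₁ := by
    intro P Ph hc hcPh hfn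
    have hcP : Nat.card P = n := by rw [← isConj_card_eq F hc]; exact hcard
    exact NLe_of_conj hS F hsat hnS ℋ hℋ hgen (hnotℋ P hc) hcP
      (isConj_trans F (isConj_symm F hc) hcPh) hfn
  have hQ : ∃ Q : Subgroup Ω, F.IsConj P₁ Q ∧ qStar F p Q ≠ Q := by
    by_cases hcen : F.IsCentric P₁
    · obtain ⟨Q, hcQ, hnot⟩ := hstar P₁ hcen hP₁
      refine ⟨Q, hcQ, fun heq => hnot ?_⟩
      rintro α ⟨hα1, hα2⟩
      obtain ⟨g, hg, rfl⟩ := (mem_autInducedBy_iff' S Q α).mp hα1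
      have hgq : g ∈ qStar F p Q := (mem_qStar_iff F p Q g).mpr ⟨hg.1, hg.2, hα2⟩
      rw [heq] at hgq
      exact normAut_mem_inn hgq hg.2
    · have h1 : ¬ ∀ Q : Subgroup Ω, F.IsConj P₁ Q → centralizerIn S Q ≤ Q :=
        fun h => hcen ⟨hP₁S, h⟩
      push Not at h1
      obtain ⟨Q, hcQ, hnle⟩ := h1
      refine ⟨Q, hcQ, fun heq => hnle ?_⟩
      have := centralizerIn_le_qStar F p Q
      rwa [heq] at this
  obtain ⟨Ph, hcPh, hfn, hgood, hlt⟩ := exists_good_Ph hS F hsat hP₁S hcard hA hQ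
  have hPhS : Ph ≤ S := hfn.1
  have hcardPh : Nat.card Ph = n := by rw [← isConj_card_eq F hcPh]; exact hcard
  have hA' : ∀ P : Subgroup Ω, F.IsConj Ph P → NLe F P Ph := fun P hc =>
    hA P Ph (isConj_trans F hcPh hc) hcPh hfn
  have hext := autGroup_le_extQ hS F hsat hnS ℋ hℋ hgen (hnotℋ Ph hcPh) hfn hcardPh hA' hlt.le
  exact ⟨Ph, hcPh, fullyAutomized_of_goodQ hS F hPhS hlt.le hgood hext,
    receptive_of_goodQ hS F hPhS hlt.le hgood hext hA'⟩

/-- the saturation criterion. -/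
theorem saturated_of_family [Finite S] {p : ℕ} [Fact p.Prime] (hS : IsPGroup p S)
    (F : FusionSystem S) (ℋ : Set (Subgroup Ω))
    (hℋ : ∀ P ∈ ℋ, ∀ Q, F.IsConj P Q → Q ∈ ℋ)
    (hsatℋ : ∀ P ∈ ℋ, ∃ Q, F.IsConj P Q ∧ F.IsFullyAutomized p Q ∧ F.IsReceptive Q)
    (hgen : ∀ E : FusionSystem S, (∀ P ∈ ℋ, F.Hom P ⊆ E.Hom P) → F ≤ E)
    (hstar : ∀ P : Subgroup Ω, F.IsCentric P → P ∉ ℋ → ∃ Q, F.IsConj P Q ∧
      ¬ (autInducedBy S Q ⊓ (pCore p ↥(F.autGroup Q)).map (F.autGroup Q).subtype ≤ Inn Q)) :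
    F.IsSaturated p := by
  -- `S` lies in the family
  have hSℋ : S ∈ ℋ := by
    by_contra hSn
    have hcen : F.IsCentric S := by
      refine ⟨le_rfl, fun Q hQ => ?_⟩
      rw [eq_of_isConj_top F hQ]
      exact inf_le_left
    obtain ⟨Q, hcQ, hnot⟩ := hstar S hcen hSn
    apply hnot
    have hQe := eq_of_isConj_top F hcQ
    subst hQe
    rintro α ⟨hα1, -⟩
    obtain ⟨g, hg, hgα⟩ := (mem_autInducedBy_iff _ _ α).mp hα1
    refine ⟨⟨g, hg⟩, ?_⟩
    apply MulEquiv.ext; intro x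
    apply Subtype.ext
    rw [hgα x]; rfl
  have hall : ∀ k : ℕ, SatAbove F p (Nat.card S - k) := by
    intro k
    induction k with
    | zero =>
      intro R hRS hlt
      have := Subgroup.card_le_of_le hRS
      omega
    | succ k ih =>
      intro R hRS hlt
      by_cases h : Nat.card S - k < Nat.card R
      · exact ih R hRS h
      · have hcard : Nat.card R = Nat.card S - k := by omega
        by_cases hRℋ : R ∈ ℋ
        · exact hsatℋ R hRℋ
        · have hnS : Nat.card S - k < Nat.card S := by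
            by_contra hge
            have hle := Subgroup.card_le_of_le hRS
            have hRe : R = S := Subgroup.eq_of_le_of_card_ge hRS (by omega)
            exact hRℋ (hRe ▸ hSℋ)
          exact sat_class_step hS F ih hnS ℋ hℋ hgen hstar hRS hRℋ hcard
  intro P hPS
  have h0 : SatAbove F p 0 := by
    have := hall (Nat.card S)
    rwa [Nat.sub_self] at this
  haveI : Finite P := finite_of_le S hPS
  exact h0 P hPS Nat.card_pos

end Cfsg.Agent.helper25
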