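import Cfsg.Agent.Lib_helper25_PrimeIdx4
import Cfsg.Agent.Lib_helper25_SatCrit15

set_option autoImplicit false
set_option linter.style.haveILetI false
set_option linter.unusedVariables false
set_option maxHeartbeats 1000000

namespace Cfsg.Agent.helper25

open Cfsg Cfsg.FusionSystem

variable {Ω : Type*} [Group Ω] {S : Subgroup Ω}

/-- the intersection of `F` with a family of fusion systems over `S`. -/
def sInfSystem (F : FusionSystem S) (𝒟 : Set (FusionSystem S)) : FusionSystem S where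
  Hom P := {φ | φ ∈ F.Hom P ∧ ∀ D ∈ 𝒟, φ ∈ D.Hom P}
  le_of_mem h := F.le_of_mem h.1
  injective_of_mem h := F.injective_of_mem h.1
  conj_mem := fun hP hg => ⟨F.conj_mem hP hg, fun D _ => D.conj_mem hP hg⟩
  comp_mem := fun hφ hψ h =>
    ⟨F.comp_mem hφ.1 hψ.1 h, fun D hD => D.comp_mem (hφ.2 D hD) (hψ.2 D hD) h⟩
  inv_mem := by
    intro P φ hφ
    obtain ⟨ψ, hψ, hψφ⟩ := F.inv_mem hφ.1
    refine ⟨ψ, ⟨hψ, fun D hD => ?_⟩, hψφ⟩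
    obtain ⟨ψ', hψ', hψ'φ⟩ := D.inv_mem (hφ.2 D hD)
    have e : ψ' = ψ := by
      ext ⟨_, x, rfl⟩
      rw [hψ'φ x, hψφ x]
    rw [← e]; exact hψ'

theorem sInfSystem_le_left (F : FusionSystem S) (𝒟 : Set (FusionSystem S)) (P : Subgroup Ω) :
    (sInfSystem F 𝒟).Hom P ⊆ F.Hom P := fun φ h => h.1

theorem sInfSystem_le_of_mem (F : FusionSystem S) {𝒟 : Set (FusionSystem S)} {D : FusionSystem S}
    (hD : D ∈ 𝒟) (P : Subgroup Ω) : (sInfSystem F 𝒟).Hom P ⊆ D.Hom P := fun φ h => h.2 D hD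

/-- the Frattini factorization with the automorphism taken in a subgroup `A`. -/
def FrCondA (E : FusionSystem S) (A : Subgroup (MulAut S)) (P : Subgroup Ω) (φ : P →* Ω) : Prop :=
  ∃ α ∈ A, ∃ φ₀ ∈ E.Hom P, ∀ (x : P) (hx : φ₀ x ∈ S), φ x = ((α ⟨φ₀ x, hx⟩ : S) : Ω)

/-- the system of the maps of `F` that factor as a map of `E` followed by an element of `A`. -/
def frattiniSystemA (E F : FusionSystem S) (A : Subgroup (MulAut S)) (hA : A ≤ F.autGroup S)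
    (hEF : E.IsSubsystemOf F) (hinv : AutInv E F) : FusionSystem S where
  Hom P := {φ | φ ∈ F.Hom P ∧ FrCondA E A P φ}
  le_of_mem := fun h => F.le_of_mem h.1
  injective_of_mem := fun h => F.injective_of_mem h.1
  conj_mem := by
    intro P g hP hg
    exact ⟨F.conj_mem hP hg, 1, one_mem _, conjHom P g, E.conj_mem hP hg, fun x hx => rfl⟩
  comp_mem := by
    rintro P Q φ ψ ⟨hφ, α, hα, φ₀, hφ₀, hφeq⟩ ⟨hψ, β, hβ, ψ₀, hψ₀, hψeq⟩ h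
    refine ⟨F.comp_mem hφ hψ h, ?_⟩
    have hPT : P ≤ S := (E.le_of_mem hφ₀).1
    have hQT : Q ≤ S := (E.le_of_mem hψ₀).1
    have hφ₀T : ∀ x, φ₀ x ∈ S := (E.le_of_mem hφ₀).2
    have hψ₀T : ∀ x, ψ₀ x ∈ S := (E.le_of_mem hψ₀).2
    obtain ⟨χ, hχ, hχeq⟩ := hinv.apply hQT hψ₀ (hA (inv_mem hα))
    have hχT : ∀ y, χ y ∈ S := (E.le_of_mem hχ).2
    have hinvφ : ∀ x : P, ((α⁻¹ ⟨φ x, hQT (h x)⟩ : S) : Ω) = φ₀ x := by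
      intro x
      have h1 : (⟨φ x, hQT (h x)⟩ : S) = α ⟨φ₀ x, hφ₀T x⟩ := Subtype.ext (hφeq x (hφ₀T x))
      rw [h1, MulAut.inv_apply_self]
    have hmem : ∀ x : P, φ₀ x ∈ helper26.autMap α⁻¹ Q := fun x =>
      (helper26.mem_autMap _ _ _).mpr ⟨⟨φ x, hQT (h x)⟩, h x, hinvφ x⟩
    refine ⟨β * α, mul_mem hβ hα, χ.comp (φ₀.codRestrict _ hmem), E.comp_mem hφ₀ hχ hmem, ?_⟩
    intro x hx
    have h2 : χ ⟨φ₀ x, hmem x⟩ = ((α⁻¹ ⟨ψ₀ ⟨φ x, h x⟩, hψ₀T _⟩ : S) : Ω) :=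
      hχeq ⟨φ₀ x, hmem x⟩ ⟨φ x, hQT (h x)⟩ (h x) (hψ₀T _) (hinvφ x)
    have h3 : (⟨(χ.comp (φ₀.codRestrict _ hmem)) x, hx⟩ : S) =
        α⁻¹ ⟨ψ₀ ⟨φ x, h x⟩, hψ₀T _⟩ := Subtype.ext h2
    rw [h3]
    show ψ ⟨φ x, h x⟩ = ((β (α (α⁻¹ ⟨ψ₀ ⟨φ x, h x⟩, hψ₀T _⟩)) : S) : Ω)
    rw [MulAut.apply_inv_self]
    exact hψeq ⟨φ x, h x⟩ (hψ₀T _)
  inv_mem := by
    rintro P φ ⟨hφ, α, hα, φ₀, hφ₀, hφeq⟩
    have hPT : P ≤ S := (E.le_of_mem hφ₀).1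
    have hφ₀T : ∀ x, φ₀ x ∈ S := (E.le_of_mem hφ₀).2
    obtain ⟨ψ, hψ, hψφ⟩ := F.inv_mem hφ
    refine ⟨ψ, ⟨hψ, ?_⟩, hψφ⟩
    obtain ⟨θ, hθ, -, hθφ, -⟩ := exists_inv_hom E hφ₀ rfl
    have hrT : φ₀.range ≤ S := by rintro _ ⟨x, rfl⟩; exact hφ₀T x
    obtain ⟨χ, hχ, hχeq⟩ := hinv.apply hrT hθ (hA hα)
    have heq : helper26.autMap α φ₀.range = φ.range := by
      ext y
      rw [helper26.mem_autMap]
      constructor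
      · rintro ⟨t, ⟨x, hx⟩, rfl⟩
        have h1 : t = ⟨φ₀ x, hφ₀T x⟩ := Subtype.ext hx.symm
        rw [h1, ← hφeq x (hφ₀T x)]
        exact ⟨x, rfl⟩
      · rintro ⟨x, rfl⟩
        exact ⟨⟨φ₀ x, hφ₀T x⟩, ⟨x, rfl⟩, (hφeq x (hφ₀T x)).symm⟩
    refine ⟨α⁻¹, inv_mem hα, χ.comp (Subgroup.inclusion heq.ge), hom_congr E heq hχ, ?_⟩
    rintro ⟨_, x, rfl⟩ hy
    have h1 : ψ ⟨φ x, ⟨x, rfl⟩⟩ = (x : Ω) := hψφ x
    have h2 : χ (Subgroup.inclusion heq.ge ⟨φ x, ⟨x, rfl⟩⟩) =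
        ((α ⟨θ ⟨φ₀ x, ⟨x, rfl⟩⟩, by rw [hθφ x ⟨x, rfl⟩]; exact hPT x.2⟩ : S) : Ω) :=
      hχeq _ ⟨φ₀ x, hφ₀T x⟩ ⟨x, rfl⟩ _ (hφeq x (hφ₀T x)).symm
    have h3 : (⟨θ ⟨φ₀ x, ⟨x, rfl⟩⟩, by rw [hθφ x ⟨x, rfl⟩]; exact hPT x.2⟩ : S) =
        ⟨x, hPT x.2⟩ := Subtype.ext (hθφ x ⟨x, rfl⟩)
    rw [h3] at h2
    have h4 : (⟨(χ.comp (Subgroup.inclusion heq.ge)) ⟨φ x, ⟨x, rfl⟩⟩, hy⟩ : S) =
        α ⟨x, hPT x.2⟩ := Subtype.ext h2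
    rw [h4, MulAut.inv_apply_self]
    exact h1

theorem le_frattiniSystemA (E F : FusionSystem S) (A : Subgroup (MulAut S))
    (hA : A ≤ F.autGroup S) (hEF : E.IsSubsystemOf F) (hinv : AutInv E F) (P : Subgroup Ω) :
    E.Hom P ⊆ (frattiniSystemA E F A hA hEF hinv).Hom P := by
  intro φ hφ
  exact ⟨hEF P hφ, 1, one_mem _, φ, hφ, fun x hx => rfl⟩

end Cfsg.Agent.helper25
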