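import Cfsg.Agent.Lib_helper25_PPRes1
import Cfsg.Agent.Lib_helper25_CentricExt

set_option autoImplicit false
set_option linter.style.haveILetI false
set_option linter.unusedVariables false
set_option maxHeartbeats 2000000

namespace Cfsg.Agent.helper25

open Cfsg Cfsg.FusionSystem

variable {Ω : Type*} [Group Ω] {S : Subgroup Ω}

/-- a map of `F` defined on `Q ≤ N_S(P)`, `P` centric, whose restriction to `P` lies in the
saturated subsystem `D`, lies in `D`. -/
theorem mem_of_restrict_normal [Finite S] {p : ℕ} [Fact p.Prime] (hS : IsPGroup p S)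
    (F : FusionSystem S) (hF : F.IsSaturated p) (D : FusionSystem S) (hD : D.IsSaturated p)
    (hDF : D.IsSubsystemOf F) {P Q : Subgroup Ω} (hPc : F.IsCentric P) (hPQ : P ≤ Q)
    (hQN : Q ≤ normalizerIn S P) {ψ : Q →* Ω} (hψ : ψ ∈ F.Hom Q)
    (hres : ψ.comp (Subgroup.inclusion hPQ) ∈ D.Hom P) : ψ ∈ D.Hom Q := by
  have hQS : Q ≤ S := (F.le_of_mem hψ).1
  have hPS : P ≤ S := hPc.1
  haveI : Finite Q := finite_of_le S hQS
  haveI : Finite P := finite_of_le S hPS
  have hQNP : Q ≤ Subgroup.normalizer (P : Set Ω) := hQN.trans inf_le_right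
  have hr' : (ψ.comp (Subgroup.inclusion hPQ)).range = (P.subgroupOf Q).map ψ :=
    range_restrict_eq_map hPQ ψ
  have hP'S : (P.subgroupOf Q).map ψ ≤ S := by
    rintro _ ⟨x, -, rfl⟩; exact (F.le_of_mem hψ).2 x
  haveI : Finite ((P.subgroupOf Q).map ψ : Subgroup Ω) := finite_of_le S hP'S
  obtain ⟨P'', hc'', hfa, hrec⟩ := hD _ hP'S
  obtain ⟨χ, hχ, hχN, hχP⟩ := exists_normalizer_hom hS D hfa hrec hc''
  have hP''S : P'' ≤ S := hfa.1
  have hval : ∀ z : Q, ψ z ∈ normalizerIn S ((P.subgroupOf Q).map ψ) := fun z =>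
    ⟨(F.le_of_mem hψ).2 z, map_sub_normalizer (D := Q) (P := P) hQNP ψ z⟩
  have hμ := F.comp_mem hψ (hDF _ hχ) hval
  have hμP : (P.subgroupOf Q).map (χ.comp (ψ.codRestrict _ hval)) = P'' := by
    rw [map_comp_codRestrict, hχP]
  have hμS : ∀ z : Q, (χ.comp (ψ.codRestrict _ hval)) z ∈ S := (F.le_of_mem hμ).2
  -- the restriction of μ to P lies in D
  have hvalP : ∀ x : P, (ψ.comp (Subgroup.inclusion hPQ)) x ∈
      normalizerIn S ((P.subgroupOf Q).map ψ) := fun x => hval _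
  have hμPD : (χ.comp (ψ.codRestrict _ hval)).comp (Subgroup.inclusion hPQ) ∈ D.Hom P := by
    have e : (χ.comp (ψ.codRestrict _ hval)).comp (Subgroup.inclusion hPQ) =
        χ.comp ((ψ.comp (Subgroup.inclusion hPQ)).codRestrict _ hvalP) := by
      ext x; rfl
    rw [e]; exact D.comp_mem hres hχ hvalP
  have hμPr : ((χ.comp (ψ.codRestrict _ hval)).comp (Subgroup.inclusion hPQ)).range = P'' := by
    rw [range_restrict_eq_map]; exact hμP
  have hP''c : centralizerIn S P'' ≤ P'' := hPc.2 P'' ⟨_, hDF _ hμPD, hμPr⟩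
  -- Q lies in the extender
  have hQext : Q ≤ extender S P ((χ.comp (ψ.codRestrict _ hval)).comp
      (Subgroup.inclusion hPQ)) := by
    intro g hg
    apply (mem_extender_iff _ _ _ _).mpr
    refine ⟨hQS hg, hQNP hg, (χ.comp (ψ.codRestrict _ hval)) ⟨g, hg⟩, hμS _, ?_⟩
    intro x hx
    show (χ.comp (ψ.codRestrict _ hval)) ⟨g * (x : Ω) * g⁻¹, hPQ hx⟩ =
      (χ.comp (ψ.codRestrict _ hval)) ⟨g, hg⟩ *
        (χ.comp (ψ.codRestrict _ hval)) ⟨x, hPQ x.2⟩ *
        ((χ.comp (ψ.codRestrict _ hval)) ⟨g, hg⟩)⁻¹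
    rw [← map_inv, ← map_mul, ← map_mul]
    rfl
  obtain ⟨ψ', hψ', hψ'e⟩ := hrec.2 P _ hμPD hμPr
  have hψ'Q := restrict_mem D hQext hψ'
  have hψ'QF := hDF _ hψ'Q
  have hagree : ∀ (x : Q), (x : Ω) ∈ P → (ψ'.comp (Subgroup.inclusion hQext)) x =
      (χ.comp (ψ.codRestrict _ hval)) x := by
    intro x hx
    exact hψ'e x hx (hQext x.2)
  -- the ranges agree
  have hrle : (χ.comp (ψ.codRestrict _ hval)).range ≤
      (ψ'.comp (Subgroup.inclusion hQext)).range := by
    rintro _ ⟨g, rfl⟩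
    have hcen : ((ψ'.comp (Subgroup.inclusion hQext)) g)⁻¹ *
        (χ.comp (ψ.codRestrict _ hval)) g ∈ centralizerIn S P'' := by
      refine ⟨S.mul_mem (S.inv_mem ((F.le_of_mem hψ'QF).2 g)) (hμS g),
        Subgroup.mem_centralizer_iff.mpr ?_⟩
      intro y hy
      obtain ⟨x, hx, hxy⟩ := hμP.ge hy
      have hxP : (x : Ω) ∈ P := Subgroup.mem_subgroupOf.mp hx
      have hcP : ((g * x * g⁻¹ : Q) : Ω) ∈ P :=
        (Subgroup.mem_normalizer_iff.mp (hQNP g.2) _).mp hxP
      have h1 := hagree (g * x * g⁻¹) hcP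
      have h2 := hagree x hxP
      rw [map_mul, map_mul, map_inv, map_mul, map_mul, map_inv, h2, hxy] at h1
      -- h1 : b * y * b⁻¹ = a * y * a⁻¹
      calc y * (((ψ'.comp (Subgroup.inclusion hQext)) g)⁻¹ *
            (χ.comp (ψ.codRestrict _ hval)) g)
          = ((ψ'.comp (Subgroup.inclusion hQext)) g)⁻¹ *
            ((ψ'.comp (Subgroup.inclusion hQext)) g * y *
              ((ψ'.comp (Subgroup.inclusion hQext)) g)⁻¹) *
            (χ.comp (ψ.codRestrict _ hval)) g := by group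
        _ = ((ψ'.comp (Subgroup.inclusion hQext)) g)⁻¹ *
            ((χ.comp (ψ.codRestrict _ hval)) g * y *
              ((χ.comp (ψ.codRestrict _ hval)) g)⁻¹) *
            (χ.comp (ψ.codRestrict _ hval)) g := by rw [h1]
        _ = ((ψ'.comp (Subgroup.inclusion hQext)) g)⁻¹ *
            (χ.comp (ψ.codRestrict _ hval)) g * y := by group
    obtain ⟨x₀, hx₀, hx₀e⟩ := hμP.ge (hP''c hcen)
    have hx₀P : (x₀ : Ω) ∈ P := Subgroup.mem_subgroupOf.mp hx₀
    refine ⟨g * x₀, ?_⟩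
    rw [map_mul, hagree x₀ hx₀P, hx₀e]
    group
  have hreq : (ψ'.comp (Subgroup.inclusion hQext)).range =
      (χ.comp (ψ.codRestrict _ hval)).range := by
    haveI : Finite (ψ'.comp (Subgroup.inclusion hQext)).range :=
      finite_of_le S (range_le_of_mem F hψ'QF)
    apply (Subgroup.eq_of_le_of_card_ge hrle _).symm
    rw [← Nat.card_congr (MonoidHom.ofInjective (F.injective_of_mem hμ)).toEquiv,
      ← Nat.card_congr (MonoidHom.ofInjective (F.injective_of_mem hψ'QF)).toEquiv]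
  obtain ⟨eμ, heμ, heμcoe⟩ := exists_isFIso_of_mem F hμ rfl
  obtain ⟨e', he', he'coe⟩ := exists_isFIso_of_mem F hψ'QF hreq
  have hγF : IsFIso F (eμ.trans e'.symm) := heμ.trans he'.symm
  have hγ : (eμ.trans e'.symm : MulAut Q) ∈ F.autGroup Q := (mem_autGroup_iff F hQS _).mpr hγF
  have hfix : ∀ x : Q, (x : Ω) ∈ P → (eμ.trans e'.symm : MulAut Q) x = x := by
    intro x hx
    show e'.symm (eμ x) = x
    have h1 : eμ x = e' x := Subtype.ext (by rw [heμcoe, he'coe, hagree x hx])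
    rw [h1, MulEquiv.symm_apply_apply]
  obtain ⟨z, hzP, -, hzγ⟩ := exists_conj_of_fix hS F hF hPc hPQ hQS hQNP hγ hfix
  have hcz : conjHom Q (z : Ω) ∈ D.Hom Q := D.conj_mem hQS (hQS z.2)
  have hczQ : ∀ y : Q, conjHom Q (z : Ω) y ∈ Q := fun y =>
    Q.mul_mem (Q.mul_mem z.2 y.2) (Q.inv_mem z.2)
  have hμD : χ.comp (ψ.codRestrict _ hval) ∈ D.Hom Q := by
    have e : χ.comp (ψ.codRestrict _ hval) =
        (ψ'.comp (Subgroup.inclusion hQext)).comp ((conjHom Q (z : Ω)).codRestrict Q hczQ) := by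
      ext y
      have h1 : e' ((eμ.trans e'.symm : MulAut Q) y) = eμ y := by
        show e' (e'.symm (eμ y)) = eμ y
        rw [MulEquiv.apply_symm_apply]
      have h2 : (ψ'.comp (Subgroup.inclusion hQext)) ((eμ.trans e'.symm : MulAut Q) y) =
          (χ.comp (ψ.codRestrict _ hval)) y := by
        rw [← he'coe, h1, heμcoe]
      rw [← h2, hzγ y]
      rfl
    rw [e]
    exact D.comp_mem hcz hψ'Q hczQ
  -- finally recover ψ
  obtain ⟨ι, hι, -, hιχ, -⟩ := exists_inv_hom D hχ rfl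
  have hμmem : ∀ y : Q, (χ.comp (ψ.codRestrict _ hval)) y ∈ χ.range := fun y => ⟨_, rfl⟩
  have e : ψ = ι.comp ((χ.comp (ψ.codRestrict _ hval)).codRestrict χ.range hμmem) := by
    ext y
    exact (hιχ ⟨ψ y, hval y⟩ ⟨_, rfl⟩).symm
  rw [e]
  exact D.comp_mem hμD hι hμmem

/-- a map of `F` whose restriction to a centric subgroup lies in the saturated subsystem `D`
lies in `D`. -/
theorem mem_of_restrict_centric [Finite S] {p : ℕ} [Fact p.Prime] (hS : IsPGroup p S)
    (F : FusionSystem S) (hF : F.IsSaturated p) (D : FusionSystem S) (hD : D.IsSaturated p)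
    (hDF : D.IsSubsystemOf F) {Q : Subgroup Ω} {ψ : Q →* Ω} (hψ : ψ ∈ F.Hom Q) :
    ∀ (k : ℕ) (P : Subgroup Ω), F.IsCentric P → ∀ hPQ : P ≤ Q,
      Nat.card Q - Nat.card P ≤ k → ψ.comp (Subgroup.inclusion hPQ) ∈ D.Hom P →
      ψ ∈ D.Hom Q := by
  have hQS : Q ≤ S := (F.le_of_mem hψ).1
  haveI : Finite Q := finite_of_le S hQS
  have hQp : IsPGroup p Q := hS.to_le hQS
  intro k
  induction k using Nat.strong_induction_on with
  | _ k ih =>
  intro P hPc hPQ hk hres
  by_cases hne : P = Q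
  · subst hne
    have e : ψ.comp (Subgroup.inclusion hPQ) = ψ := by ext x; rfl
    rwa [e] at hres
  · have hlt : P < Q := lt_of_le_of_ne hPQ hne
    have hPltN : P < normalizerIn Q P := lt_normalizerIn hQp hlt
    have hNQ : normalizerIn Q P ≤ Q := inf_le_left
    have hNS : normalizerIn Q P ≤ normalizerIn S P := fun x hx => ⟨hQS hx.1, hx.2⟩
    have hψN := restrict_mem F hNQ hψ
    have hresN : (ψ.comp (Subgroup.inclusion hNQ)).comp (Subgroup.inclusion hPltN.le) ∈
        D.Hom P := by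
      have e : (ψ.comp (Subgroup.inclusion hNQ)).comp (Subgroup.inclusion hPltN.le) =
          ψ.comp (Subgroup.inclusion hPQ) := by ext x; rfl
      rw [e]; exact hres
    have h1 := mem_of_restrict_normal hS F hF D hD hDF hPc hPltN.le hNS hψN hresN
    have hNc : F.IsCentric (normalizerIn Q P) :=
      isCentric_of_le F hPc hPltN.le (hNQ.trans hQS)
    haveI : Finite (normalizerIn Q P) := finite_of_le S (hNQ.trans hQS)
    have hc1 := card_lt_of_lt' hPltN
    have hc2 := Subgroup.card_le_of_le hNQ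
    exact ih (Nat.card Q - Nat.card (normalizerIn Q P)) (by omega) _ hNc hNQ le_rfl h1

end Cfsg.Agent.helper25
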