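import Cfsg.Agent.Lib_helper25_PPRes2

set_option autoImplicit false
set_option linter.style.haveILetI false
set_option linter.unusedVariables false
set_option maxHeartbeats 1000000

namespace Cfsg.Agent.helper25

open Cfsg Cfsg.FusionSystem

variable {Ω : Type*} [Group Ω] {S : Subgroup Ω}

/-- the systems containing `O^{p'}(Aut_F(P))` for the centric subgroups `P`. -/
def oppFamily (F : FusionSystem S) (p : ℕ) : Set (FusionSystem S) :=
  {D | ∀ P : Subgroup Ω, F.IsCentric P → oppSub p (F.autGroup P) ≤ D.autGroup P}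

/-- the smallest subsystem of `F` containing `O^{p'}(Aut_F(P))` for the centric subgroups. -/
def oppGen (F : FusionSystem S) (p : ℕ) : FusionSystem S := sInfSystem F (oppFamily F p)

/-- its largest `Aut_F(S)`-invariant subsystem. -/
def oppCore (F : FusionSystem S) (p : ℕ) : FusionSystem S := coreSystem (oppGen F p) F

theorem oppCore_le_oppGen (F : FusionSystem S) (p : ℕ) (P : Subgroup Ω) :
    (oppCore F p).Hom P ⊆ (oppGen F p).Hom P := coreSystem_le _ _ P

theorem oppCore_sub (F : FusionSystem S) (p : ℕ) : (oppCore F p).IsSubsystemOf F :=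
  fun P φ hφ => sInfSystem_le_left F _ P (oppCore_le_oppGen F p P hφ)

theorem oppCore_autInv (F : FusionSystem S) (p : ℕ) : AutInv (oppCore F p) F :=
  coreSystem_autInv _ _

theorem oppSub_le_oppGen (F : FusionSystem S) (p : ℕ) (P : Subgroup Ω) (hPc : F.IsCentric P) :
    oppSub p (F.autGroup P) ≤ (oppGen F p).autGroup P := by
  intro γ hγ
  have hPS := hPc.1
  apply (mem_autGroup_iff (oppGen F p) hPS γ).mpr
  refine ⟨(mem_autGroup_iff F hPS γ).mp (oppSub_le p _ hγ), fun D hD => ?_⟩
  exact (mem_autGroup_iff D hPS γ).mp (hD P hPc hγ)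

theorem oppSub_le_oppCore (F : FusionSystem S) (p : ℕ) (P : Subgroup Ω) (hPc : F.IsCentric P) :
    oppSub p (F.autGroup P) ≤ (oppCore F p).autGroup P :=
  coreSystem_opp (oppGen F p) F (oppSub_le_oppGen F p) P hPc

theorem oppCore_le_of_mem (F : FusionSystem S) (p : ℕ) {D : FusionSystem S}
    (hD : D ∈ oppFamily F p) (P : Subgroup Ω) : (oppCore F p).Hom P ⊆ D.Hom P :=
  fun φ hφ => sInfSystem_le_of_mem F hD P (oppCore_le_oppGen F p P hφ)

/-- the Frattini factorization through the core. -/
theorem oppCore_frattini [Finite S] {p : ℕ} [Fact p.Prime] (hS : IsPGroup p S)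
    (F : FusionSystem S) (hF : F.IsSaturated p) :
    ∀ P : Subgroup Ω, P ≤ S → ∀ φ ∈ F.Hom P, FrCond (oppCore F p) F P φ :=
  frattini_of_opp hS F hF (oppCore F p) (oppCore_sub F p) (oppCore_autInv F p)
    (oppSub_le_oppCore F p)

/-- the automorphisms of `S` whose restriction to some centric subgroup lies in the core. -/
def autZero (F : FusionSystem S) (p : ℕ) : Subgroup (MulAut S) :=
  Subgroup.closure {β | β ∈ F.autGroup S ∧ ∃ P : Subgroup Ω, F.IsCentric P ∧ ∃ hPS : P ≤ S,
    (S.subtype.comp β.toMonoidHom).comp (Subgroup.inclusion hPS) ∈ (oppCore F p).Hom P}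

theorem autZero_le (F : FusionSystem S) (p : ℕ) : autZero F p ≤ F.autGroup S := by
  unfold autZero
  rw [Subgroup.closure_le]
  intro β hβ; exact hβ.1

/-- the maps that are a map of the core followed by an element of `autZero`. -/
def hatSystem (F : FusionSystem S) (p : ℕ) : FusionSystem S :=
  frattiniSystemA (oppCore F p) F (autZero F p) (autZero_le F p) (oppCore_sub F p)
    (oppCore_autInv F p)

theorem hatSystem_sub (F : FusionSystem S) (p : ℕ) : (hatSystem F p).IsSubsystemOf F :=
  fun P φ hφ => hφ.1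

theorem oppCore_le_hat (F : FusionSystem S) (p : ℕ) (P : Subgroup Ω) :
    (oppCore F p).Hom P ⊆ (hatSystem F p).Hom P :=
  le_frattiniSystemA _ _ _ _ _ _ P

/-- the systems containing the maps of `hatSystem` with centric source. -/
def resFamily (F : FusionSystem S) (p : ℕ) : Set (FusionSystem S) :=
  {D | ∀ P : Subgroup Ω, F.IsCentric P → (hatSystem F p).Hom P ⊆ D.Hom P}

/-- the candidate for the smallest saturated subsystem of index prime to `p`. -/
def ppResidual (F : FusionSystem S) (p : ℕ) : FusionSystem S := sInfSystem F (resFamily F p)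

theorem ppResidual_sub (F : FusionSystem S) (p : ℕ) : (ppResidual F p).IsSubsystemOf F :=
  fun P => sInfSystem_le_left F _ P

theorem ppResidual_le_hat (F : FusionSystem S) (p : ℕ) (P : Subgroup Ω) :
    (ppResidual F p).Hom P ⊆ (hatSystem F p).Hom P :=
  sInfSystem_le_of_mem F (D := hatSystem F p) (fun _ _ _ h => h) P

theorem hat_le_ppResidual (F : FusionSystem S) (p : ℕ) (P : Subgroup Ω) (hPc : F.IsCentric P) :
    (hatSystem F p).Hom P ⊆ (ppResidual F p).Hom P :=
  fun φ hφ => ⟨hφ.1, fun D hD => hD P hPc hφ⟩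

theorem oppCore_le_ppResidual (F : FusionSystem S) (p : ℕ) (P : Subgroup Ω)
    (hPc : F.IsCentric P) : (oppCore F p).Hom P ⊆ (ppResidual F p).Hom P :=
  fun φ hφ => hat_le_ppResidual F p P hPc (oppCore_le_hat F p P hφ)

theorem oppSub_le_ppResidual (F : FusionSystem S) (p : ℕ) (P : Subgroup Ω)
    (hPc : F.IsCentric P) : oppSub p (F.autGroup P) ≤ (ppResidual F p).autGroup P := by
  intro γ hγ
  have hPS := hPc.1
  have h1 := (mem_autGroup_iff (oppCore F p) hPS γ).mp (oppSub_le_oppCore F p P hPc hγ)
  exact (mem_autGroup_iff (ppResidual F p) hPS γ).mpr (oppCore_le_ppResidual F p P hPc h1)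

/-- index prime to `p`, and the same centric subgroups. -/
theorem ppResidual_idx [Finite S] {p : ℕ} [Fact p.Prime] (hS : IsPGroup p S)
    (F : FusionSystem S) (hF : F.IsSaturated p) :
    (ppResidual F p).HasPrimeToPIndexIn F p ∧
      ∀ P : Subgroup Ω, (ppResidual F p).IsCentric P ↔ F.IsCentric P := by
  have h := primeIdx_main hS F hF (ppResidual F p) (ppResidual_sub F p) (fun P hPc => by
    rw [map_closure_eq_oppSub]; exact oppSub_le_ppResidual F p P hPc)
  exact ⟨h.1, h.2.2⟩

/-- the generation property. -/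
theorem ppResidual_gen (F : FusionSystem S) (p : ℕ) (E' : FusionSystem S)
    (h : ∀ P ∈ {P : Subgroup Ω | F.IsCentric P}, (ppResidual F p).Hom P ⊆ E'.Hom P) :
    ppResidual F p ≤ E' := by
  intro P
  apply sInfSystem_le_of_mem F (D := E')
  intro Q hQc φ hφ
  exact h Q hQc (hat_le_ppResidual F p Q hQc hφ)

end Cfsg.Agent.helper25
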