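import Cfsg.Agent.Lib_helper25_PPRes3

set_option autoImplicit false
set_option linter.style.haveILetI false
set_option linter.unusedVariables false
set_option maxHeartbeats 2000000

namespace Cfsg.Agent.helper25

open Cfsg Cfsg.FusionSystem

variable {Ω : Type*} [Group Ω] {S : Subgroup Ω}

theorem card_normalizerIn_le_of_aut [Finite S] {Q P' : Subgroup Ω} (hQS : Q ≤ S)
    (α : MulAut S) (h : ∀ s : S, (s : Ω) ∈ Q ↔ ((α s : S) : Ω) ∈ P') :
    Nat.card (normalizerIn S P') ≤ Nat.card (normalizerIn S Q) := by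
  haveI : Finite Q := finite_of_le S hQS
  haveI : Finite (normalizerIn S Q) := finite_of_le S inf_le_left
  have hmem : ∀ x : normalizerIn S P',
      ((α⁻¹ ⟨x, x.2.1⟩ : S) : Ω) ∈ normalizerIn S Q := by
    intro x
    refine ⟨(α⁻¹ ⟨x, x.2.1⟩).2, ?_⟩
    apply Subgroup.mem_normalizer_fintype
    intro y hy
    have e : ((α⁻¹ ⟨x, x.2.1⟩ : S) : Ω) * y * ((α⁻¹ ⟨x, x.2.1⟩ : S) : Ω)⁻¹ =
        ((α⁻¹ ⟨x, x.2.1⟩ * ⟨y, hQS hy⟩ * (α⁻¹ ⟨x, x.2.1⟩)⁻¹ : S) : Ω) := rfl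
    show ((α⁻¹ ⟨x, x.2.1⟩ : S) : Ω) * y * ((α⁻¹ ⟨x, x.2.1⟩ : S) : Ω)⁻¹ ∈ Q
    rw [e, h, map_mul, map_mul, map_inv, MulAut.apply_inv_self]
    have hy' : ((α ⟨y, hQS hy⟩ : S) : Ω) ∈ P' := (h _).mp hy
    exact (Subgroup.mem_normalizer_iff.mp x.2.2 _).mp hy'
  apply Nat.card_le_card_of_injective (fun x : normalizerIn S P' =>
    (⟨((α⁻¹ ⟨x, x.2.1⟩ : S) : Ω), hmem x⟩ : normalizerIn S Q))
  intro a b hab
  have h1 : ((α⁻¹ ⟨a, a.2.1⟩ : S) : Ω) = ((α⁻¹ ⟨b, b.2.1⟩ : S) : Ω) :=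
    congrArg (fun z : normalizerIn S Q => (z : Ω)) hab
  have h2 : (⟨a, a.2.1⟩ : S) = ⟨b, b.2.1⟩ := (α⁻¹).injective (Subtype.ext h1)
  exact Subtype.ext (congrArg (fun z : S => (z : Ω)) h2)

/-- receptivity passes to the candidate system on centric subgroups. -/
theorem ppResidual_receptive [Finite S] {p : ℕ} [Fact p.Prime] (hS : IsPGroup p S)
    (F : FusionSystem S) (hF : F.IsSaturated p) {Q : Subgroup Ω} (hQc : F.IsCentric Q)
    (hQrec : F.IsReceptive Q) : (ppResidual F p).IsReceptive Q := by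
  refine ⟨hQrec.1, fun R ψ hψ hr => ?_⟩
  have hψF : ψ ∈ F.Hom R := ppResidual_sub F p R hψ
  have hRS : R ≤ S := (F.le_of_mem hψF).1
  have hψS : ∀ x, ψ x ∈ S := (F.le_of_mem hψF).2
  have hRc : F.IsCentric R :=
    helper26.isCentric_of_isConj F hQc (isConj_symm F ⟨ψ, hψF, hr⟩)
  obtain ⟨ψbar, hψbar, hψbare⟩ := hQrec.2 R ψ hψF hr
  have hRN : R ≤ extender S R ψ := le_extender F hψF
  have hNS : extender S R ψ ≤ S := (extender_le S R ψ).trans inf_le_left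
  have hNc : F.IsCentric (extender S R ψ) := isCentric_of_le F hRc hRN hNS
  refine ⟨ψbar, hat_le_ppResidual F p _ hNc ⟨hψbar, ?_⟩, hψbare⟩
  obtain ⟨β, hβ, ψ₀bar, hψ₀bar, hβe⟩ := oppCore_frattini hS F hF _ hNS ψbar hψbar
  obtain ⟨-, α, hα, ψ₀, hψ₀, hαe⟩ := ppResidual_le_hat F p R hψ
  have hψ₀barS : ∀ x, ψ₀bar x ∈ S := ((oppCore F p).le_of_mem hψ₀bar).2
  have hψ₀S : ∀ x, ψ₀ x ∈ S := ((oppCore F p).le_of_mem hψ₀).2
  have hρ := restrict_mem (oppCore F p) hRN hψ₀bar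
  have hρF := oppCore_sub F p _ hρ
  have hR₀S : (ψ₀bar.comp (Subgroup.inclusion hRN)).range ≤ S := range_le_of_mem F hρF
  have hR₀c : F.IsCentric (ψ₀bar.comp (Subgroup.inclusion hRN)).range :=
    helper26.isCentric_of_isConj F hRc ⟨_, hρF, rfl⟩
  obtain ⟨ι, hι, hιr, hιρ, -⟩ := exists_inv_hom (oppCore F p) hρ rfl
  have hιR : ∀ y, ι y ∈ R := fun y => hιr.le ⟨y, rfl⟩
  have hcomp := (oppCore F p).comp_mem hι hψ₀ hιR
  have hgen : α⁻¹ * β ∈ autZero F p := by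
    apply Subgroup.subset_closure
    refine ⟨mul_mem (inv_mem (autZero_le F p hα)) hβ, _, hR₀c, hR₀S, ?_⟩
    have e : (S.subtype.comp (α⁻¹ * β).toMonoidHom).comp (Subgroup.inclusion hR₀S) =
        ψ₀.comp (ι.codRestrict R hιR) := by
      ext y
      obtain ⟨x, hx⟩ := y.2
      have hy : y = ⟨(ψ₀bar.comp (Subgroup.inclusion hRN)) x, ⟨x, rfl⟩⟩ := Subtype.ext hx.symm
      have h1 : ι y = x := by rw [hy]; exact hιρ x ⟨x, rfl⟩
      show ((α⁻¹ (β ⟨y, hR₀S y.2⟩) : S) : Ω) = ψ₀ ⟨ι y, hιR y⟩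
      have h2 : (⟨ι y, hιR y⟩ : R) = x := Subtype.ext h1
      rw [h2]
      have h3 : (⟨(y : Ω), hR₀S y.2⟩ : S) = ⟨ψ₀bar (Subgroup.inclusion hRN x), hψ₀barS _⟩ :=
        Subtype.ext hx.symm
      have h4 : β ⟨ψ₀bar (Subgroup.inclusion hRN x), hψ₀barS _⟩ =
          α ⟨ψ₀ x, hψ₀S x⟩ := by
        apply Subtype.ext
        rw [← hβe (Subgroup.inclusion hRN x) (hψ₀barS _), ← hαe x (hψ₀S x)]
        exact hψbare x x.2 (hRN x.2)
      rw [h3, h4, MulAut.inv_apply_self]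
    rw [e]; exact hcomp
  have hβA : β ∈ autZero F p := by
    have e : β = α * (α⁻¹ * β) := by group
    rw [e]; exact mul_mem hα hgen
  exact ⟨β, hβA, ψ₀bar, hψ₀bar, hβe⟩

/-- each centric subgroup is conjugate in the candidate system to a fully automized receptive
one. -/
theorem ppResidual_sat_centric [Finite S] {p : ℕ} [Fact p.Prime] (hS : IsPGroup p S)
    (F : FusionSystem S) (hF : F.IsSaturated p) {P : Subgroup Ω} (hPc : F.IsCentric P) :
    ∃ Q, (ppResidual F p).IsConj P Q ∧ (ppResidual F p).IsFullyAutomized p Q ∧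
      (ppResidual F p).IsReceptive Q := by
  have hPS := hPc.1
  obtain ⟨P', ⟨φ, hφ, hr⟩, hfn⟩ := exists_fullyNormalized_conj F hPS
  obtain ⟨α, hα, φ₀, hφ₀, hαe⟩ := oppCore_frattini hS F hF P hPS φ hφ
  have hφ₀S : ∀ x, φ₀ x ∈ S := ((oppCore F p).le_of_mem hφ₀).2
  have hφ₀F := oppCore_sub F p P hφ₀
  have hφ₀E := oppCore_le_ppResidual F p P hPc hφ₀
  have hQS : φ₀.range ≤ S := range_le_of_mem F hφ₀F
  haveI : Finite φ₀.range := finite_of_le S hQS
  have hPQ : F.IsConj P φ₀.range := ⟨φ₀, hφ₀F, rfl⟩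
  have hQc : F.IsCentric φ₀.range := helper26.isCentric_of_isConj F hPc hPQ
  have hrel : ∀ s : S, (s : Ω) ∈ φ₀.range ↔ ((α s : S) : Ω) ∈ P' := by
    intro s
    constructor
    · rintro ⟨x, hx⟩
      have h1 : s = ⟨φ₀ x, hφ₀S x⟩ := Subtype.ext hx.symm
      rw [h1, ← hαe x (hφ₀S x), ← hr]
      exact ⟨x, rfl⟩
    · intro h
      rw [← hr] at h
      obtain ⟨x, hx⟩ := h
      rw [hαe x (hφ₀S x)] at hx
      have h1 : (⟨φ₀ x, hφ₀S x⟩ : S) = s := α.injective (Subtype.ext hx)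
      rw [← h1]; exact ⟨x, rfl⟩
  have hQfn : F.IsFullyNormalized φ₀.range := by
    refine ⟨hQS, fun R hR => ?_⟩
    have h1 : F.IsConj P' R :=
      isConj_trans F (isConj_symm F ⟨φ, hφ, hr⟩) (isConj_trans F hPQ hR)
    exact (hfn.2 R h1).trans (card_normalizerIn_le_of_aut hQS α hrel)
  obtain ⟨hQfc, hQfa⟩ := fullyNormalized_imp hS F hF hQfn
  have hQrec := receptive_of_fullyCentralized hS F hF hQfc
  refine ⟨φ₀.range, ⟨φ₀, hφ₀E, rfl⟩, ⟨hQS, ?_⟩, ppResidual_receptive hS F hF hQc hQrec⟩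
  have hsyl : IsSylowIn p (autInducedBy S φ₀.range) (F.autGroup φ₀.range) := hQfa.2
  have hle : (ppResidual F p).autGroup φ₀.range ≤ F.autGroup φ₀.range := by
    intro γ hγ
    exact (mem_autGroup_iff F hQS γ).mpr
      (ppResidual_sub F p _ ((mem_autGroup_iff (ppResidual F p) hQS γ).mp hγ))
  exact isSylowIn_of_le (autInducedBy_le_autGroup (ppResidual F p) hQS) hle hsyl

/-- the candidate system is saturated. -/
theorem ppResidual_saturated [Finite S] {p : ℕ} [Fact p.Prime] (hS : IsPGroup p S)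
    (F : FusionSystem S) (hF : F.IsSaturated p) : (ppResidual F p).IsSaturated p := by
  obtain ⟨hidx, hcen⟩ := ppResidual_idx hS F hF
  apply saturated_of_family hS (ppResidual F p) {P : Subgroup Ω | F.IsCentric P}
  · intro P hP Q hPQ
    obtain ⟨φ, hφ, hr⟩ := hPQ
    exact helper26.isCentric_of_isConj F hP ⟨φ, ppResidual_sub F p P hφ, hr⟩
  · intro P hP
    exact ppResidual_sat_centric hS F hF hP
  · exact ppResidual_gen F p
  · intro P hPc hPn
    exact absurd ((hcen P).mp hPc) hPn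

/-- minimality. -/
theorem ppResidual_min [Finite S] {p : ℕ} [Fact p.Prime] (hS : IsPGroup p S)
    (F : FusionSystem S) (hF : F.IsSaturated p) (D : FusionSystem S) (hD : D.IsSaturated p)
    (hDi : D.HasPrimeToPIndexIn F p) : (ppResidual F p).IsSubsystemOf D := by
  obtain ⟨hDF, hDopp⟩ := hDi
  have hDfam : D ∈ oppFamily F p := by
    intro P hPc
    rw [← map_closure_eq_oppSub]
    exact hDopp P hPc.1
  have hcore : ∀ P : Subgroup Ω, (oppCore F p).Hom P ⊆ D.Hom P := oppCore_le_of_mem F p hDfam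
  have hA : autZero F p ≤ D.autGroup S := by
    unfold autZero
    rw [Subgroup.closure_le]
    rintro β ⟨hβ, P, hPc, hPS, hres⟩
    have hβF : S.subtype.comp β.toMonoidHom ∈ F.Hom S := (mem_autGroup_iff F le_rfl β).mp hβ
    have h1 := mem_of_restrict_centric hS F hF D hD hDF hβF _ P hPc hPS le_rfl (hcore P hres)
    exact (mem_autGroup_iff D le_rfl β).mpr h1
  intro P
  apply sInfSystem_le_of_mem F (D := D)
  rintro Q hQc φ ⟨hφF, α, hα, φ₀, hφ₀, hαe⟩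
  have hφ₀S : ∀ x, φ₀ x ∈ S := ((oppCore F p).le_of_mem hφ₀).2
  have hαD : S.subtype.comp α.toMonoidHom ∈ D.Hom S := (mem_autGroup_iff D le_rfl α).mp (hA hα)
  have h1 := D.comp_mem (hcore Q hφ₀) hαD hφ₀S
  have e : φ = (S.subtype.comp α.toMonoidHom).comp (φ₀.codRestrict S hφ₀S) := by
    ext x
    exact hαe x (hφ₀S x)
  rw [e]; exact h1

/-- a saturated fusion system has a smallest saturated subsystem of index prime to `p`. -/
theorem exists_ppResidual [Finite S] {p : ℕ} [Fact p.Prime] (hS : IsPGroup p S)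
    (F : FusionSystem S) (hF : F.IsSaturated p) : F.IsPPrimeResidual p (ppResidual F p) :=
  ⟨ppResidual_saturated hS F hF, (ppResidual_idx hS F hF).1, ppResidual_min hS F hF⟩

end Cfsg.Agent.helper25
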