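import Cfsg.Agent.Lib_helper25_Fusion
import Cfsg.Agent.Lib_helper25_GroupFS

set_option autoImplicit false
set_option linter.style.haveILetI false
set_option linter.unusedVariables false

namespace Cfsg.Agent.helper25

open Cfsg Cfsg.FusionSystem

variable {Ω : Type*} [Group Ω] {S : Subgroup Ω}

/-- composition, with the composite given elementwise. -/
theorem comp_mem' (F : FusionSystem S) {P Q : Subgroup Ω} {φ : P →* Ω} {ψ : Q →* Ω}
    (hφ : φ ∈ F.Hom P) (hψ : ψ ∈ F.Hom Q) (h : ∀ x : P, φ x ∈ Q) {χ : P →* Ω}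
    (hχ : ∀ x : P, χ x = ψ ⟨φ x, h x⟩) : χ ∈ F.Hom P := by
  have e : χ = ψ.comp (φ.codRestrict Q h) := by
    ext x; exact hχ x
  rw [e]; exact F.comp_mem hφ hψ h

theorem finite_of_le (S : Subgroup Ω) [Finite S] {P : Subgroup Ω} (hP : P ≤ S) : Finite P :=
  Finite.of_injective (Subgroup.inclusion hP) (Subgroup.inclusion_injective hP)

/-- the inverse of a map of the system. -/
theorem exists_inv_hom (F : FusionSystem S) {P Q : Subgroup Ω} {φ : P →* Ω} (hφ : φ ∈ F.Hom P)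
    (hQ : φ.range = Q) :
    ∃ ψ : Q →* Ω, ψ ∈ F.Hom Q ∧ ψ.range = P ∧ (∀ (x : P) (h : φ x ∈ Q), ψ ⟨φ x, h⟩ = x) ∧
      (∀ (y : Q) (h : ψ y ∈ P), φ ⟨ψ y, h⟩ = y) := by
  subst hQ
  obtain ⟨ψ, hψ, hψφ⟩ := F.inv_mem hφ
  refine ⟨ψ, hψ, ?_, fun x h => hψφ x, ?_⟩
  · apply le_antisymm
    · rintro _ ⟨⟨_, x, rfl⟩, rfl⟩
      rw [hψφ]; exact x.2
    · intro x hx
      exact ⟨⟨φ ⟨x, hx⟩, ⟨x, hx⟩, rfl⟩, hψφ ⟨x, hx⟩⟩
  · rintro ⟨_, x, rfl⟩ h
    have e : (⟨ψ ⟨φ x, ⟨x, rfl⟩⟩, h⟩ : P) = x := Subtype.ext (hψφ x)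
    rw [e]

theorem isConj_refl (F : FusionSystem S) {P : Subgroup Ω} (hP : P ≤ S) : F.IsConj P P :=
  ⟨P.subtype, subtype_mem F hP, P.range_subtype⟩

theorem isConj_symm (F : FusionSystem S) {P Q : Subgroup Ω} (h : F.IsConj P Q) : F.IsConj Q P := by
  obtain ⟨φ, hφ, hQ⟩ := h
  obtain ⟨ψ, hψ, hr, -, -⟩ := exists_inv_hom F hφ hQ
  exact ⟨ψ, hψ, hr⟩

theorem isConj_trans (F : FusionSystem S) {P Q R : Subgroup Ω} (h₁ : F.IsConj P Q)
    (h₂ : F.IsConj Q R) : F.IsConj P R := by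
  obtain ⟨φ, hφ, rfl⟩ := h₁
  obtain ⟨ψ, hψ, rfl⟩ := h₂
  have h : ∀ x : P, φ x ∈ φ.range := fun x => ⟨x, rfl⟩
  refine ⟨ψ.comp (φ.codRestrict φ.range h), F.comp_mem hφ hψ h, ?_⟩
  ext y
  constructor
  · rintro ⟨x, rfl⟩; exact ⟨_, rfl⟩
  · rintro ⟨⟨_, x, rfl⟩, rfl⟩; exact ⟨x, rfl⟩

theorem isConj_le_left (F : FusionSystem S) {P Q : Subgroup Ω} (h : F.IsConj P Q) : P ≤ S := by
  obtain ⟨φ, hφ, -⟩ := h; exact (F.le_of_mem hφ).1

theorem isConj_le_right (F : FusionSystem S) {P Q : Subgroup Ω} (h : F.IsConj P Q) : Q ≤ S := by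
  obtain ⟨φ, hφ, rfl⟩ := h; exact range_le_of_mem F hφ

theorem isConj_card_eq (F : FusionSystem S) {P Q : Subgroup Ω} (h : F.IsConj P Q) :
    Nat.card P = Nat.card Q := by
  obtain ⟨φ, hφ, rfl⟩ := h
  exact Nat.card_congr (MonoidHom.ofInjective (F.injective_of_mem hφ)).toEquiv

/-! ### isomorphisms of the system as `MulEquiv`s -/

/-- the `MulEquiv` `e : P ≃* Q` is an isomorphism of the system. -/
def IsFIso (F : FusionSystem S) {P Q : Subgroup Ω} (e : P ≃* Q) : Prop :=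
  Q.subtype.comp e.toMonoidHom ∈ F.Hom P

theorem IsFIso.refl (F : FusionSystem S) {P : Subgroup Ω} (hP : P ≤ S) :
    IsFIso F (MulEquiv.refl P) := by
  have e : P.subtype.comp (MulEquiv.refl P).toMonoidHom = P.subtype := by ext x; rfl
  unfold IsFIso; rw [e]; exact subtype_mem F hP

theorem IsFIso.trans {F : FusionSystem S} {P Q R : Subgroup Ω} {e : P ≃* Q} {f : Q ≃* R}
    (he : IsFIso F e) (hf : IsFIso F f) : IsFIso F (e.trans f) :=
  comp_mem' F he hf (fun x => (e x).2) (fun x => rfl)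

theorem IsFIso.symm {F : FusionSystem S} {P Q : Subgroup Ω} {e : P ≃* Q} (he : IsFIso F e) :
    IsFIso F e.symm := by
  have hr : (Q.subtype.comp e.toMonoidHom).range = Q := by
    ext y; constructor
    · rintro ⟨z, rfl⟩; exact (e z).2
    · intro hy
      refine ⟨e.symm ⟨y, hy⟩, ?_⟩
      show ((e (e.symm ⟨y, hy⟩) : Q) : Ω) = y
      rw [MulEquiv.apply_symm_apply]
  obtain ⟨ψ, hψ, -, hψ1, -⟩ := exists_inv_hom F he hr
  have e2 : P.subtype.comp e.symm.toMonoidHom = ψ := by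
    ext y
    have h1 := hψ1 (e.symm y) (e (e.symm y)).2
    have h2 : (⟨(Q.subtype.comp e.toMonoidHom) (e.symm y), (e (e.symm y)).2⟩ : Q) = y := by
      apply Subtype.ext
      show ((e (e.symm y) : Q) : Ω) = y
      rw [MulEquiv.apply_symm_apply]
    rw [h2] at h1
    exact h1.symm
  unfold IsFIso; rw [e2]; exact hψ

theorem IsFIso.le_left {F : FusionSystem S} {P Q : Subgroup Ω} {e : P ≃* Q} (he : IsFIso F e) :
    P ≤ S := (F.le_of_mem he).1

theorem IsFIso.le_right {F : FusionSystem S} {P Q : Subgroup Ω} {e : P ≃* Q} (he : IsFIso F e) :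
    Q ≤ S := he.symm.le_left

theorem IsFIso.isConj {F : FusionSystem S} {P Q : Subgroup Ω} {e : P ≃* Q} (he : IsFIso F e) :
    F.IsConj P Q := by
  refine ⟨_, he, ?_⟩
  ext y; constructor
  · rintro ⟨z, rfl⟩; exact (e z).2
  · intro hy
    refine ⟨e.symm ⟨y, hy⟩, ?_⟩
    show ((e (e.symm ⟨y, hy⟩) : Q) : Ω) = y
    rw [MulEquiv.apply_symm_apply]

/-- a map of the system with image `Q` is an isomorphism of the system onto `Q`. -/
theorem exists_isFIso_of_mem (F : FusionSystem S) {P Q : Subgroup Ω} {φ : P →* Ω}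
    (hφ : φ ∈ F.Hom P) (hQ : φ.range = Q) :
    ∃ e : P ≃* Q, IsFIso F e ∧ ∀ x : P, ((e x : Q) : Ω) = φ x := by
  subst hQ
  refine ⟨MonoidHom.ofInjective (F.injective_of_mem hφ), ?_, fun x => rfl⟩
  have e : φ.range.subtype.comp (MonoidHom.ofInjective (F.injective_of_mem hφ)).toMonoidHom = φ := by
    ext x; rfl
  unfold IsFIso; rw [e]; exact hφ

theorem mem_autGroup_iff (F : FusionSystem S) {P : Subgroup Ω} (hP : P ≤ S) (α : MulAut P) :
    α ∈ F.autGroup P ↔ IsFIso F α := by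
  constructor
  · intro h
    unfold autGroup at h
    induction h using Subgroup.closure_induction with
    | mem x hx => exact hx
    | one => exact IsFIso.refl F hP
    | mul x y _ _ hx hy => exact hy.trans hx
    | inv x _ hx => exact hx.symm
  · intro h
    exact Subgroup.subset_closure h

theorem IsFIso.congr_mem_autGroup {F : FusionSystem S} {P Q : Subgroup Ω} {e : P ≃* Q}
    (he : IsFIso F e) {α : MulAut P} (hα : α ∈ F.autGroup P) :
    MulAut.congr e α ∈ F.autGroup Q := by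
  rw [mem_autGroup_iff F he.le_right]
  exact he.symm.trans (((mem_autGroup_iff F he.le_left α).mp hα).trans he)

theorem IsFIso.map_autGroup {F : FusionSystem S} {P Q : Subgroup Ω} {e : P ≃* Q}
    (he : IsFIso F e) : (F.autGroup P).map (MulAut.congr e).toMonoidHom = F.autGroup Q := by
  apply le_antisymm
  · rintro _ ⟨α, hα, rfl⟩
    exact he.congr_mem_autGroup hα
  · intro β hβ
    refine ⟨MulAut.congr e.symm β, he.symm.congr_mem_autGroup hβ, ?_⟩
    ext y
    show ((e (e.symm (β (e (e.symm y)))) : Q) : Ω) = β y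
    rw [MulEquiv.apply_symm_apply, MulEquiv.apply_symm_apply]

/-! ### automorphisms induced by `S` -/

theorem mem_autInducedBy_iff (K P : Subgroup Ω) (α : MulAut P) :
    α ∈ autInducedBy K P ↔ ∃ g ∈ K, ∀ x : P, ((α x : P) : Ω) = g * x * g⁻¹ := by
  constructor
  · intro h
    rw [autInducedBy_eq_map] at h
    obtain ⟨n, hn, rfl⟩ := h
    exact ⟨n, (Subgroup.mem_subgroupOf.mp hn).1, fun x => rfl⟩
  · rintro ⟨g, hg, h⟩
    exact Subgroup.subset_closure ⟨g, hg, h⟩

theorem autInducedBy_le_autGroup (F : FusionSystem S) {P : Subgroup Ω} (hP : P ≤ S) :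
    autInducedBy S P ≤ F.autGroup P := by
  intro α hα
  obtain ⟨g, hg, h⟩ := (mem_autInducedBy_iff S P α).mp hα
  rw [mem_autGroup_iff F hP]
  have e : P.subtype.comp α.toMonoidHom = conjHom P g := by ext x; exact h x
  unfold IsFIso; rw [e]; exact F.conj_mem hP hg

theorem isPGroup_autInducedBy {p : ℕ} (hS : IsPGroup p S) (P : Subgroup Ω) :
    IsPGroup p (autInducedBy S P) := by
  rw [autInducedBy_eq_map]
  apply IsPGroup.map
  apply isPGroup_subgroupOf
  exact hS.to_le inf_le_left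

theorem le_normalizerIn {P : Subgroup Ω} (hP : P ≤ S) : P ≤ normalizerIn S P :=
  le_inf hP Subgroup.le_normalizer

/-- the automorphism of `P` induced by an element of the normalizer. -/
def normAut (P : Subgroup Ω) (g : Ω) (hg : g ∈ Subgroup.normalizer (P : Set Ω)) : MulAut P :=
  P.normalizerMonoidHom ⟨g, hg⟩

theorem normAut_coe (P : Subgroup Ω) (g : Ω) (hg : g ∈ Subgroup.normalizer (P : Set Ω)) (x : P) :
    ((normAut P g hg x : P) : Ω) = g * x * g⁻¹ := rfl

theorem normAut_mem (S P : Subgroup Ω) {g : Ω} (hg : g ∈ normalizerIn S P) :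
    normAut P g hg.2 ∈ autInducedBy S P :=
  (mem_autInducedBy_iff S P _).mpr ⟨g, hg.1, fun x => rfl⟩

/-! ### the extension lemma -/

/-- If `P` is fully automized and receptive and `Q` is conjugate to `P`, there is a map of the
system from `N_S(Q)` to `N_S(P)` carrying `Q` onto `P`. -/
theorem exists_normalizer_hom [Finite S] {p : ℕ} [Fact p.Prime] (hS : IsPGroup p S)
    (F : FusionSystem S) {P Q : Subgroup Ω} (h₁ : F.IsFullyAutomized p P) (h₂ : F.IsReceptive P)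
    (hQ : F.IsConj Q P) :
    ∃ φ ∈ F.Hom (normalizerIn S Q), (∀ x, φ x ∈ normalizerIn S P) ∧
      (Q.subgroupOf (normalizerIn S Q)).map φ = P := by
  obtain ⟨hPS, hsyl⟩ := h₁
  obtain ⟨φ₀, hφ₀, hr₀⟩ := hQ
  have hQS : Q ≤ S := (F.le_of_mem hφ₀).1
  obtain ⟨e, he, hecoe⟩ := exists_isFIso_of_mem F hφ₀ hr₀
  haveI : Finite P := finite_of_le S hPS
  have hsyl' : IsSylowIn p (autInducedBy S P) (F.autGroup P) := hsyl
  have hXp : IsPGroup p ((autInducedBy S Q).map (MulAut.congr e).toMonoidHom) :=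
    (isPGroup_autInducedBy hS Q).map _
  have hXK : (autInducedBy S Q).map (MulAut.congr e).toMonoidHom ≤ F.autGroup P := by
    rintro _ ⟨α, hα, rfl⟩
    exact he.congr_mem_autGroup (autInducedBy_le_autGroup F hQS hα)
  obtain ⟨k, hk, hkX⟩ := exists_cj_le_of_isSylowIn hsyl' hXK hXp
  have hk' : IsFIso F k := (mem_autGroup_iff F hPS k).mp hk
  have he' : IsFIso F (e.trans k) := he.trans hk'
  have hr' : (P.subtype.comp (e.trans k).toMonoidHom).range = P := by
    ext y; constructor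
    · rintro ⟨z, rfl⟩; exact ((e.trans k) z).2
    · intro hy
      refine ⟨(e.trans k).symm ⟨y, hy⟩, ?_⟩
      show (((e.trans k) ((e.trans k).symm ⟨y, hy⟩) : P) : Ω) = y
      rw [MulEquiv.apply_symm_apply]
  have hext : extender S Q (P.subtype.comp (e.trans k).toMonoidHom) = normalizerIn S Q := by
    apply le_antisymm
    · unfold extender; rw [Subgroup.closure_le]; intro g hg; exact ⟨hg.1, hg.2.1⟩
    · intro g hg
      apply Subgroup.subset_closure
      refine ⟨hg.1, hg.2, ?_⟩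
      have h1 : MulAut.congr e (normAut Q g hg.2) ∈
          (autInducedBy S Q).map (MulAut.congr e).toMonoidHom := ⟨_, normAut_mem S Q hg, rfl⟩
      have h2 := hkX (conj_mem_cj k _ h1)
      obtain ⟨h, hhS, hh⟩ := (mem_autInducedBy_iff S P _).mp h2
      refine ⟨h, hhS, ?_⟩
      intro x hx
      have h3 := hh ((e.trans k) x)
      have h4 : (k * MulAut.congr e (normAut Q g hg.2) * k⁻¹) ((e.trans k) x) =
          (e.trans k) (normAut Q g hg.2 x) := by
        show k (e (normAut Q g hg.2 (e.symm (k.symm (k (e x)))))) = k (e (normAut Q g hg.2 x))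
        rw [MulEquiv.symm_apply_apply, MulEquiv.symm_apply_apply]
      rw [h4] at h3
      have h5 : (⟨g * (x : Ω) * g⁻¹, hx⟩ : Q) = normAut Q g hg.2 x := rfl
      rw [h5]
      exact h3
  obtain ⟨ψ, hψ, hψφ⟩ := h₂.2 Q _ he' hr'
  have hψ' := hom_congr F hext hψ
  have hval : ∀ (q : Ω) (hq : q ∈ Q) (hqN : q ∈ normalizerIn S Q),
      (ψ.comp (Subgroup.inclusion hext.ge)) ⟨q, hqN⟩ = (((e.trans k) ⟨q, hq⟩ : P) : Ω) := by
    intro q hq hqN
    exact hψφ q hq (hext.ge hqN)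
  have hconj : ∀ (x : normalizerIn S Q) (y : Ω), y ∈ P →
      (ψ.comp (Subgroup.inclusion hext.ge)) x * y *
        ((ψ.comp (Subgroup.inclusion hext.ge)) x)⁻¹ ∈ P := by
    intro x y hy
    have hqQ : (((e.trans k).symm ⟨y, hy⟩ : Q) : Ω) ∈ Q := ((e.trans k).symm ⟨y, hy⟩).2
    have hqN : (((e.trans k).symm ⟨y, hy⟩ : Q) : Ω) ∈ normalizerIn S Q := le_normalizerIn hQS hqQ
    have h1 := hval _ hqQ hqN
    have h1' : (ψ.comp (Subgroup.inclusion hext.ge)) ⟨_, hqN⟩ = y := by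
      rw [h1]
      show (((e.trans k) ((e.trans k).symm ⟨y, hy⟩) : P) : Ω) = y
      rw [MulEquiv.apply_symm_apply]
    have hxq : (x : Ω) * (((e.trans k).symm ⟨y, hy⟩ : Q) : Ω) * (x : Ω)⁻¹ ∈ Q :=
      (Subgroup.mem_normalizer_iff.mp x.2.2 _).mp hqQ
    have h2 := hval _ hxq (le_normalizerIn hQS hxq)
    have h3 : (⟨(x : Ω) * (((e.trans k).symm ⟨y, hy⟩ : Q) : Ω) * (x : Ω)⁻¹,
        le_normalizerIn hQS hxq⟩ : normalizerIn S Q) = x * ⟨_, hqN⟩ * x⁻¹ := rfl
    rw [h3, map_mul, map_mul, map_inv, h1'] at h2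
    rw [h2]
    exact ((e.trans k) _).2
  refine ⟨_, hψ', ?_, ?_⟩
  · intro x
    refine ⟨(F.le_of_mem hψ').2 x, Subgroup.mem_normalizer_iff.mpr ?_⟩
    intro y
    constructor
    · exact hconj x y
    · intro hy
      have h1 := hconj x⁻¹ _ hy
      rw [map_inv, inv_inv] at h1
      have e1 : ((ψ.comp (Subgroup.inclusion hext.ge)) x)⁻¹ *
          ((ψ.comp (Subgroup.inclusion hext.ge)) x * y *
            ((ψ.comp (Subgroup.inclusion hext.ge)) x)⁻¹) *
          (ψ.comp (Subgroup.inclusion hext.ge)) x = y := by group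
      rwa [e1] at h1
  · apply le_antisymm
    · rintro _ ⟨z, hz, rfl⟩
      have hzQ : (z : Ω) ∈ Q := Subgroup.mem_subgroupOf.mp hz
      have := hval z hzQ z.2
      rw [this]
      exact ((e.trans k) _).2
    · intro y hy
      have hqQ : (((e.trans k).symm ⟨y, hy⟩ : Q) : Ω) ∈ Q := ((e.trans k).symm ⟨y, hy⟩).2
      have hqN : (((e.trans k).symm ⟨y, hy⟩ : Q) : Ω) ∈ normalizerIn S Q := le_normalizerIn hQS hqQ
      refine ⟨⟨_, hqN⟩, Subgroup.mem_subgroupOf.mpr hqQ, ?_⟩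
      rw [hval _ hqQ hqN]
      show (((e.trans k) ((e.trans k).symm ⟨y, hy⟩) : P) : Ω) = y
      rw [MulEquiv.apply_symm_apply]

end Cfsg.Agent.helper25
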