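import Mathlib
import Cfsg.Prelude.Def_FusionSystem

set_option autoImplicit false

namespace Cfsg.Agent.helper26

open Cfsg Cfsg.FusionSystem

variable {Ω : Type*} [Group Ω] {S : Subgroup Ω}

/-- transport of a map of the system along an equality of sources -/
theorem hom_of_eq (F : FusionSystem S) {A B : Subgroup Ω} (h : A = B) (ψ : A →* Ω) (hψ : ψ ∈ F.Hom A) :
    ∃ ψ' ∈ F.Hom B, ∀ (x : Ω) (hA : x ∈ A) (hB : x ∈ B), ψ' ⟨x, hB⟩ = ψ ⟨x, hA⟩ := by
  subst h
  exact ⟨ψ, hψ, fun _ _ _ => rfl⟩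

/-- a map of the system defined on all of a finite `S` is onto `S` -/
theorem range_eq_of_mem_top [Finite S] (F : FusionSystem S) (ψ : S →* Ω) (hψ : ψ ∈ F.Hom S) :
    ψ.range = S := by
  have hinj := F.injective_of_mem hψ
  have hle : ψ.range ≤ S := by
    rintro _ ⟨x, rfl⟩
    exact (F.le_of_mem hψ).2 x
  have : Finite ψ.range := Finite.of_injective (Subgroup.inclusion hle) (Subgroup.inclusion_injective hle)
  apply Subgroup.eq_of_le_of_card_ge hle
  exact le_of_eq (Nat.card_congr (MonoidHom.ofInjective hinj).toEquiv)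

/-- when `S` is abelian, the extender of any map is all of `S` -/
theorem extender_eq_of_comm (hab : ∀ x ∈ S, ∀ y ∈ S, x * y = y * x) (P : Subgroup Ω) (hP : P ≤ S)
    (φ : P →* Ω) : extender S P φ = S := by
  unfold extender
  apply le_antisymm
  · rw [Subgroup.closure_le]
    intro g hg
    exact hg.1
  · intro g hg
    apply Subgroup.subset_closure
    have hconj : ∀ x : P, g * (x : Ω) * g⁻¹ = x := by
      intro x
      rw [hab g hg x (hP x.2), mul_inv_cancel_right]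
    refine ⟨hg, ?_, 1, S.one_mem, ?_⟩
    · rw [Subgroup.mem_normalizer_iff]
      intro x
      constructor
      · intro hx
        rw [hconj ⟨x, hx⟩]
        exact hx
      · intro hx
        have hy := hP hx
        have h1 : g⁻¹ * (g * x * g⁻¹) * g = g * x * g⁻¹ := by
          rw [hab g⁻¹ (S.inv_mem hg) _ hy, inv_mul_cancel_right]
        have h2 : x = g⁻¹ * (g * x * g⁻¹) * g := by group
        rw [h2, h1]
        exact hx
    · intro x hx
      rw [one_mul, inv_one, mul_one]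
      congr 1
      exact Subtype.ext (hconj x)

/-- In a saturated fusion system over an abelian group `S`, every map of the system extends to a
map of the system defined on `S`. -/
theorem exists_extension_of_comm [Finite S] (F : FusionSystem S) (p : ℕ) (hF : F.IsSaturated p)
    (hab : ∀ x ∈ S, ∀ y ∈ S, x * y = y * x) (P : Subgroup Ω) (φ : P →* Ω) (hφ : φ ∈ F.Hom P) :
    ∃ χ ∈ F.Hom S, ∀ (x : P) (hx : (x : Ω) ∈ S), χ ⟨x, hx⟩ = φ x := by
  have hPS : P ≤ S := (F.le_of_mem hφ).1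
  obtain ⟨Q, ⟨ψ, hψ, hψQ⟩, -, -, hrec⟩ := hF P hPS
  -- extend ψ to S
  obtain ⟨ψe, hψe, hψe'⟩ := hrec P ψ hψ hψQ
  obtain ⟨ψ₁, hψ₁, hψ₁'⟩ := hom_of_eq F (extender_eq_of_comm hab P hPS ψ) ψe hψe
  -- the map ψ ∘ φ⁻¹ on φ(P)
  obtain ⟨φ', hφ', hφ''⟩ := F.inv_mem hφ
  have hφ'P : ∀ y : φ.range, φ' y ∈ P := by
    rintro ⟨_, x, rfl⟩
    rw [hφ'' x]
    exact x.2
  have hψ₂ := F.comp_mem hφ' hψ hφ'P
  have hP₂S : φ.range ≤ S := (F.le_of_mem hφ').1
  have hψ₂Q : (ψ.comp (φ'.codRestrict P hφ'P)).range = Q := by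
    rw [← hψQ]
    apply le_antisymm
    · rintro _ ⟨y, rfl⟩
      exact ⟨_, rfl⟩
    · rintro _ ⟨x, rfl⟩
      refine ⟨⟨φ x, ⟨x, rfl⟩⟩, ?_⟩
      show ψ (φ'.codRestrict P hφ'P ⟨φ x, ⟨x, rfl⟩⟩) = ψ x
      congr 1
      exact Subtype.ext (hφ'' x)
  obtain ⟨ψe₂, hψe₂, hψe₂'⟩ := hrec φ.range _ hψ₂ hψ₂Q
  obtain ⟨ψ₂, hψ₂m, hψ₂'⟩ := hom_of_eq F (extender_eq_of_comm hab φ.range hP₂S _) ψe₂ hψe₂
  -- inverse of ψ₂
  obtain ⟨ρ, hρ, hρ'⟩ := F.inv_mem hψ₂m
  have hr₂ : ψ₂.range = S := range_eq_of_mem_top F ψ₂ hψ₂m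
  have hψ₁r : ∀ s : S, ψ₁ s ∈ ψ₂.range := by
    intro s
    rw [hr₂]
    exact (F.le_of_mem hψ₁).2 s
  refine ⟨ρ.comp (ψ₁.codRestrict ψ₂.range hψ₁r), F.comp_mem hψ₁ hρ hψ₁r, ?_⟩
  intro x hx
  have hxext : (x : Ω) ∈ extender S P ψ := by
    rw [extender_eq_of_comm hab P hPS ψ]; exact hx
  have h1 : ψ₁ ⟨x, hx⟩ = ψ x := by
    rw [hψ₁' x hxext hx]
    exact hψe' x x.2 hxext
  have hφxS : φ x ∈ S := (F.le_of_mem hφ).2 x
  have hφxext : φ x ∈ extender S φ.range (ψ.comp (φ'.codRestrict P hφ'P)) := by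
    rw [extender_eq_of_comm hab φ.range hP₂S _]; exact hφxS
  have h2 : ψ₂ ⟨φ x, hφxS⟩ = ψ x := by
    rw [hψ₂' (φ x) hφxext hφxS]
    rw [hψe₂' (φ x) ⟨x, rfl⟩ hφxext]
    show ψ (φ'.codRestrict P hφ'P ⟨φ x, ⟨x, rfl⟩⟩) = ψ x
    congr 1
    exact Subtype.ext (hφ'' x)
  show ρ (ψ₁.codRestrict ψ₂.range hψ₁r ⟨x, hx⟩) = φ x
  have h3 : (ψ₁.codRestrict ψ₂.range hψ₁r ⟨x, hx⟩) = ⟨ψ₂ ⟨φ x, hφxS⟩, ⟨⟨φ x, hφxS⟩, rfl⟩⟩ := by
    apply Subtype.ext
    show ψ₁ ⟨x, hx⟩ = ψ₂ ⟨φ x, hφxS⟩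
    rw [h1, h2]
  rw [h3, hρ']


/-- A map of the system defined on all of a finite `S` comes from an automorphism in `Aut_F(S)`. -/
theorem exists_mulAut_of_mem_top [Finite S] (F : FusionSystem S) (χ : S →* Ω) (hχ : χ ∈ F.Hom S) :
    ∃ α : MulAut S, α ∈ F.autGroup S ∧ ∀ s : S, ((α s : S) : Ω) = χ s := by
  have hinj := F.injective_of_mem hχ
  have hS : ∀ s : S, χ s ∈ S := (F.le_of_mem hχ).2
  let χ' : S →* S := χ.codRestrict S hS
  have hinj' : Function.Injective χ' := by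
    intro a b hab
    apply hinj
    exact congrArg Subtype.val hab
  have hbij : Function.Bijective χ' := Finite.injective_iff_bijective.mp hinj'
  let α : MulAut S := MulEquiv.ofBijective χ' hbij
  refine ⟨α, ?_, fun s => rfl⟩
  apply Subgroup.subset_closure
  show S.subtype.comp α.toMonoidHom ∈ F.Hom S
  have : S.subtype.comp α.toMonoidHom = χ := by
    ext s
    rfl
  rw [this]
  exact hχ

/-- The automorphism group induced by the inner system of an abelian group is trivial. -/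
theorem inner_autGroup_eq_bot {T : Subgroup Ω} (hab : ∀ x ∈ T, ∀ y ∈ T, x * y = y * x) (P : Subgroup Ω) :
    (innerFusionSystem T).autGroup P = ⊥ := by
  unfold FusionSystem.autGroup
  rw [Subgroup.closure_eq_bot_iff]
  rintro α ⟨hP, g, hg, hα⟩
  rw [Set.mem_singleton_iff]
  ext x
  have := hα x
  rw [hab g hg x (hP x.2), mul_inv_cancel_right] at this
  exact this

/-- The inner fusion system of an abelian group is saturated. -/
theorem inner_isSaturated_of_comm {T : Subgroup Ω} (p : ℕ) (hab : ∀ x ∈ T, ∀ y ∈ T, x * y = y * x) :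
    (innerFusionSystem T).IsSaturated p := by
  intro P hP
  refine ⟨P, ⟨conjHom P 1, (innerFusionSystem T).conj_mem hP T.one_mem, ?_⟩, ⟨hP, ?_⟩, hP, ?_⟩
  · ext y
    constructor
    · rintro ⟨x, rfl⟩
      show (1 : Ω) * x * 1⁻¹ ∈ P
      simp
    · intro hy
      refine ⟨⟨y, hy⟩, ?_⟩
      show (1 : Ω) * y * 1⁻¹ = y
      simp
  · have hbot := inner_autGroup_eq_bot hab P
    have hsub : Subsingleton (Subgroup ((innerFusionSystem T).autGroup P)) := by
      rw [hbot]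
      infer_instance
    obtain ⟨R⟩ : Nonempty (Sylow p ((innerFusionSystem T).autGroup P)) := inferInstance
    exact ⟨R, Subsingleton.elim _ _⟩
  · intro P' φ' hφ' _
    obtain ⟨hP', g, hg, hφg⟩ := hφ'
    have hext : extender T P' φ' ≤ T := by
      unfold extender
      rw [Subgroup.closure_le]
      intro g hg
      exact hg.1
    refine ⟨conjHom _ 1, (innerFusionSystem T).conj_mem hext T.one_mem, ?_⟩
    intro x hxP hxN
    show (1 : Ω) * x * 1⁻¹ = φ' ⟨x, hxP⟩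
    rw [hφg ⟨x, hxP⟩]
    show (1 : Ω) * x * 1⁻¹ = g * x * g⁻¹
    rw [hab g hg x (hP' hxP)]
    simp


/-- restriction of a map of the system to a smaller subgroup -/
theorem restrict_mem (F : FusionSystem S) {A B : Subgroup Ω} (hAB : A ≤ B) (ψ : B →* Ω) (hψ : ψ ∈ F.Hom B) :
    ψ.comp (Subgroup.inclusion hAB) ∈ F.Hom A := by
  have hBS : B ≤ S := (F.le_of_mem hψ).1
  have h : ∀ x : A, conjHom A 1 x ∈ B := by
    intro x
    show (1 : Ω) * x * 1⁻¹ ∈ B
    simpa using hAB x.2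
  have hc := F.comp_mem (F.conj_mem (hAB.trans hBS) S.one_mem) hψ h
  convert hc using 1
  ext x
  show ψ (Subgroup.inclusion hAB x) = ψ ((conjHom A 1).codRestrict B h x)
  congr 1
  apply Subtype.ext
  show (x : Ω) = 1 * x * 1⁻¹
  simp

/-- A map of the system from a finite `T` into `T` comes from an automorphism in `Aut_F(T)`. -/
theorem exists_mulAut_of_mem (F : FusionSystem S) {T : Subgroup Ω} [Finite T] (χ : T →* Ω) (hχ : χ ∈ F.Hom T)
    (hT : ∀ t : T, χ t ∈ T) :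
    ∃ α : MulAut T, α ∈ F.autGroup T ∧ ∀ t : T, ((α t : T) : Ω) = χ t := by
  have hinj := F.injective_of_mem hχ
  let χ' : T →* T := χ.codRestrict T hT
  have hinj' : Function.Injective χ' := by
    intro a b hab
    apply hinj
    exact congrArg Subtype.val hab
  have hbij : Function.Bijective χ' := Finite.injective_iff_bijective.mp hinj'
  let α : MulAut T := MulEquiv.ofBijective χ' hbij
  refine ⟨α, ?_, fun s => rfl⟩
  apply Subgroup.subset_closure
  show T.subtype.comp α.toMonoidHom ∈ F.Hom T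
  have : T.subtype.comp α.toMonoidHom = χ := by
    ext s
    rfl
  rw [this]
  exact hχ

/-- Over an abelian `S`, the inner system of a strongly closed subgroup is a normal subsystem. -/
theorem inner_isNormalIn_of_comm [Finite S] (F : FusionSystem S) (p : ℕ) (hF : F.IsSaturated p)
    (hab : ∀ x ∈ S, ∀ y ∈ S, x * y = y * x) (T : Subgroup Ω) (hT : F.StronglyClosed T) :
    (innerFusionSystem T).IsNormalIn F p := by
  have hTS : T ≤ S := hT.1
  have habT : ∀ x ∈ T, ∀ y ∈ T, x * y = y * x := fun x hx y hy => hab x (hTS hx) y (hTS hy)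
  have : Finite T := Finite.of_injective (Subgroup.inclusion hTS) (Subgroup.inclusion_injective hTS)
  have hid : ∀ (P : Subgroup Ω) (φ : P →* Ω), φ ∈ (innerFusionSystem T).Hom P → ∀ x : P, φ x = x := by
    rintro P φ ⟨hP, g, hg, hφg⟩ x
    rw [hφg x, habT g hg x (hP x.2), mul_inv_cancel_right]
  refine ⟨⟨inner_isSaturated_of_comm p habT, hF, ?_, hT, ?_, ?_⟩, ?_⟩
  · -- subsystem
    rintro P φ ⟨hP, g, hg, hφg⟩
    have : φ = conjHom P g := by
      ext x
      exact hφg x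
    rw [this]
    exact F.conj_mem (hP.trans hTS) (hTS hg)
  · -- invariance
    intro P hPT φ hφ α _
    have hle : (P.subgroupOf T).map (T.subtype.comp α.toMonoidHom) ≤ T := by
      rintro _ ⟨y, _, rfl⟩
      exact (α y).2
    refine ⟨conjHom _ 1, (innerFusionSystem T).conj_mem hle T.one_mem, ?_⟩
    intro x hφx hαx
    show (1 : Ω) * ((α ⟨x, hPT x.2⟩ : T) : Ω) * 1⁻¹ = ((α ⟨φ x, hφx⟩ : T) : Ω)
    rw [one_mul, inv_one, mul_one]
    congr 2
    exact Subtype.ext (hid P φ hφ x).symm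
  · -- Frattini
    intro P hPT φ hφ
    obtain ⟨χ, hχ, hχφ⟩ := exists_extension_of_comm F p hF hab P φ hφ
    have hχT := restrict_mem F hTS χ hχ
    have hTT : ∀ t : T, (χ.comp (Subgroup.inclusion hTS)) t ∈ T := fun t => hT.2 T le_rfl _ hχT t
    obtain ⟨α, hα, hα'⟩ := exists_mulAut_of_mem F _ hχT hTT
    refine ⟨α, hα, conjHom P 1, (innerFusionSystem T).conj_mem hPT T.one_mem, ?_⟩
    intro x hx
    rw [hα']
    show φ x = χ ⟨conjHom P 1 x, _⟩
    rw [← hχφ x (hTS (hPT x.2))]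
    congr 1
    apply Subtype.ext
    show (x : Ω) = 1 * x * 1⁻¹
    simp
  · -- extension condition
    intro α hα
    rw [inner_autGroup_eq_bot habT T, Subgroup.mem_bot] at hα
    subst hα
    refine ⟨1, Subgroup.one_mem _, fun x => rfl, ?_⟩
    intro c _
    show (c : Ω)⁻¹ * (c : Ω) ∈ _
    rw [inv_mul_cancel]
    exact Subgroup.one_mem _

end Cfsg.Agent.helper26
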