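import Cfsg.Agent.Lib_helper25_Model
import Cfsg.Agent.Lib_helper25_SatBasic
import Cfsg.Agent.Lib_helper26_Fusion

set_option autoImplicit false

namespace Cfsg.Agent.helper26.NS

open Cfsg Cfsg.FusionSystem Cfsg.Agent.helper25

variable {Ω : Type*} [Group Ω] {S : Subgroup Ω} {G : Type*} [Group G]

/-- elementwise variant of `exists_hom_of_cj_le`. -/
theorem exists_hom_of_conj {F : FusionSystem S} {ι : S →* G} (hF : F.IsRealizedBy ι)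
    {P : Subgroup Ω} (hP : P ≤ S) (g : G) (hg : ∀ x : P, g * ι ⟨x, hP x.2⟩ * g⁻¹ ∈ ι.range) :
    ∃ φ : P →* Ω, ∃ hφ : ∀ x : P, φ x ∈ S,
      φ ∈ F.Hom P ∧ ∀ x : P, ι ⟨φ x, hφ x⟩ = g * ι ⟨x, hP x.2⟩ * g⁻¹ := by
  apply exists_hom_of_cj_le hF hP
  rintro _ ⟨y, hy, rfl⟩
  obtain ⟨s, hs, rfl⟩ := (mem_im_iff ι P y).mp hy
  exact hg ⟨s, hs⟩

theorem iota_congr (ι : S →* G) {x y : Ω} (hx : x ∈ S) (hy : y ∈ S) (e : x = y) :
    ι ⟨x, hx⟩ = ι ⟨y, hy⟩ := by subst e; rfl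

theorem isSylowIn_top [Finite G] {p : ℕ} [Fact p.Prime] (R : Sylow p G) :
    IsSylowIn p (R : Subgroup G) ⊤ := by
  rw [isSylowIn_iff_card le_top, Subgroup.card_top]
  exact R.card_eq_multiplicity

theorem normalizer_inf_of_normal (N X : Subgroup G) [hN : N.Normal] :
    X ≤ Subgroup.normalizer ((N ⊓ X : Subgroup G) : Set G) := by
  intro c hc
  rw [Subgroup.mem_normalizer_iff]
  intro y
  constructor
  · rintro ⟨h1, h2⟩
    exact ⟨hN.conj_mem y h1 c, X.mul_mem (X.mul_mem hc h2) (X.inv_mem hc)⟩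
  · rintro ⟨h1, h2⟩
    have e : y = c⁻¹ * (c * y * c⁻¹) * c⁻¹⁻¹ := by group
    rw [e]
    exact ⟨hN.conj_mem _ h1 c⁻¹, X.mul_mem (X.mul_mem (X.inv_mem hc) h2) (X.inv_mem (X.inv_mem hc))⟩

theorem mem_normalizer_of_cj_le [Finite G] {n : G} {V : Subgroup G} (h : cj n V ≤ V) :
    n ∈ Subgroup.normalizer (V : Set G) := by
  rw [← cj_eq_self_iff]
  apply Subgroup.eq_of_le_of_card_ge h
  rw [card_cj]

/-- the data: `F` over `S` realized by `ι : S →* G`, with `ι(S)` Sylow; `N ⊴ G`; `T = ι⁻¹(N)`;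
`E` over `T` the system of conjugations by elements of `N`. -/
structure NData (p : ℕ) (F : FusionSystem S) (ι : S →* G) (N : Subgroup G) (T : Subgroup Ω)
    (E : FusionSystem T) : Prop where
  real : F.IsRealizedBy ι
  syl : ∃ R : Sylow p G, (R : Subgroup G) = ι.range
  nor : N.Normal
  le : T ≤ S
  mem : ∀ s : S, (s : Ω) ∈ T ↔ ι s ∈ N
  hom : ∀ (P : Subgroup Ω) (φ : P →* Ω), φ ∈ E.Hom P ↔
    ∃ (hP : P ≤ T) (hφ : ∀ x : P, φ x ∈ T), ∃ g ∈ N,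
      ∀ x : P, ι ⟨φ x, le (hφ x)⟩ = g * ι ⟨x, le (hP x.2)⟩ * g⁻¹

variable {p : ℕ} {F : FusionSystem S} {ι : S →* G} {N : Subgroup G} {T : Subgroup Ω}
  {E : FusionSystem T}

theorem NData.im_eq (h : NData p F ι N T E) : im ι T = ι.range ⊓ N := by
  ext y
  rw [mem_im_iff, Subgroup.mem_inf]
  constructor
  · rintro ⟨s, hs, rfl⟩
    exact ⟨⟨s, rfl⟩, (h.mem s).mp hs⟩
  · rintro ⟨⟨s, rfl⟩, hN⟩
    exact ⟨s, (h.mem s).mpr hN, rfl⟩

theorem NData.range_le_normalizer (h : NData p F ι N T E) :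
    ι.range ≤ Subgroup.normalizer ((im ι T : Subgroup G) : Set G) := by
  rw [h.im_eq, inf_comm]
  have := h.nor
  exact normalizer_inf_of_normal N ι.range

theorem NData.sylow_N [Finite G] [Fact p.Prime] (h : NData p F ι N T E) :
    IsSylowIn p (im ι T) N := by
  obtain ⟨R, hR⟩ := h.syl
  have h1 : IsSylowIn p ι.range ⊤ := hR ▸ isSylowIn_top R
  have := h.nor
  have h2 := isSylowIn_inf_of_normal le_top h1 (le_top : N ≤ ⊤)
    (Subgroup.normalizer_eq_top (H := N)).ge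
  rw [h.im_eq]; exact h2

/-- the restriction of `ι` to `T →* N`. -/
noncomputable def NData.iotaN (h : NData p F ι N T E) : T →* N :=
  (ι.comp (Subgroup.inclusion h.le)).codRestrict N (fun x => (h.mem _).mp x.2)

theorem NData.realizedN (h : NData p F ι N T E) : E.IsRealizedBy h.iotaN := by
  refine ⟨?_, ?_⟩
  · intro a b hab
    have h1 : ι (Subgroup.inclusion h.le a) = ι (Subgroup.inclusion h.le b) :=
      congrArg Subtype.val hab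
    exact Subgroup.inclusion_injective h.le (h.real.1 h1)
  · intro P hP φ hφ
    rw [h.hom]
    constructor
    · rintro ⟨_, _, g, hg, hx⟩
      refine ⟨⟨g, hg⟩, fun x => Subtype.ext ?_⟩
      exact hx x
    · rintro ⟨g, hx⟩
      refine ⟨hP, hφ, g.1, g.2, fun x => ?_⟩
      exact congrArg Subtype.val (hx x)

theorem NData.sylowN [Finite G] [Fact p.Prime] (h : NData p F ι N T E) :
    ∃ R : Sylow p N, (R : Subgroup N) = h.iotaN.range := by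
  obtain ⟨R, hR⟩ := h.sylow_N
  refine ⟨R, ?_⟩
  rw [hR]
  ext ⟨y, hy⟩
  rw [Subgroup.mem_subgroupOf, MonoidHom.mem_range]
  constructor
  · intro hy'
    obtain ⟨s, hs, hsy⟩ := (mem_im_iff ι T y).mp hy'
    exact ⟨⟨s, hs⟩, Subtype.ext hsy⟩
  · rintro ⟨t, ht⟩
    have e : ι ⟨t, h.le t.2⟩ = y := congrArg Subtype.val ht
    show y ∈ im ι T
    rw [← e]; exact mem_im ι t.2 (h.le t.2)

theorem NData.sat_E [Finite G] [Fact p.Prime] (h : NData p F ι N T E) : E.IsSaturated p := by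
  obtain ⟨R, hR⟩ := h.sylowN
  exact realized_isSaturated h.realizedN R hR

theorem NData.sat_F [Finite G] [Fact p.Prime] (h : NData p F ι N T E) : F.IsSaturated p := by
  obtain ⟨R, hR⟩ := h.syl
  exact realized_isSaturated h.real R hR

theorem NData.sub (h : NData p F ι N T E) : E.IsSubsystemOf F := by
  intro P φ hφ
  obtain ⟨hP, hφT, g, _, hg⟩ := (h.hom P φ).mp hφ
  exact (h.real.2 P (hP.trans h.le) φ (fun x => h.le (hφT x))).mpr ⟨g, hg⟩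

theorem NData.stronglyClosed (h : NData p F ι N T E) : F.StronglyClosed T := by
  refine ⟨h.le, ?_⟩
  intro R hR φ hφ x
  obtain ⟨hRS, hφS, g, hg⟩ := exists_of_mem_hom h.real hφ
  have h1 : ι ⟨φ x, hφS x⟩ ∈ N := by
    rw [hg]
    exact h.nor.conj_mem _ ((h.mem _).mp (hR x.2)) g
  exact (h.mem ⟨φ x, hφS x⟩).mpr h1

theorem NData.invariance (h : NData p F ι N T E) (P : Subgroup Ω) (hPT : P ≤ T) (φ : P →* Ω)
    (hφ : φ ∈ E.Hom P) (α : MulAut T) (hα : α ∈ F.autGroup T) :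
    ∃ χ ∈ E.Hom ((P.subgroupOf T).map (T.subtype.comp α.toMonoidHom)),
        ∀ (x : P) (hφx : φ x ∈ T)
          (hαx : ((α ⟨x, hPT x.2⟩ : T) : Ω) ∈
            (P.subgroupOf T).map (T.subtype.comp α.toMonoidHom)),
          χ ⟨(α ⟨x, hPT x.2⟩ : T), hαx⟩ = ((α ⟨φ x, hφx⟩ : T) : Ω) := by
  obtain ⟨_, hφT, g, hgN, hg⟩ := (h.hom P φ).mp hφ
  have hα' := (mem_autGroup_iff F h.le α).mp hα
  obtain ⟨_, hαS, a, ha⟩ := exists_of_mem_hom h.real hα'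
  have hP'T : (P.subgroupOf T).map (T.subtype.comp α.toMonoidHom) ≤ T := by
    rintro _ ⟨t, _, rfl⟩; exact (α t).2
  have key : ∀ y : ((P.subgroupOf T).map (T.subtype.comp α.toMonoidHom) : Subgroup Ω),
      ∃ x : P, (y : Ω) = ((α ⟨x, hPT x.2⟩ : T) : Ω) := by
    rintro ⟨_, t, ht, rfl⟩
    exact ⟨⟨t, Subgroup.mem_subgroupOf.mp ht⟩, rfl⟩
  have hconj : ∀ (x : P), (a * g * a⁻¹) * ι ⟨((α ⟨x, hPT x.2⟩ : T) : Ω), h.le (α _).2⟩ *
      (a * g * a⁻¹)⁻¹ = ι ⟨((α ⟨φ x, hφT x⟩ : T) : Ω), h.le (α _).2⟩ := by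
    intro x
    have e1 : ι ⟨((α ⟨x, hPT x.2⟩ : T) : Ω), h.le (α _).2⟩ =
        a * ι ⟨x, h.le (hPT x.2)⟩ * a⁻¹ := ha ⟨x, hPT x.2⟩
    have e2 : ι ⟨((α ⟨φ x, hφT x⟩ : T) : Ω), h.le (α _).2⟩ =
        a * ι ⟨φ x, h.le (hφT x)⟩ * a⁻¹ := ha ⟨φ x, hφT x⟩
    have e3 : ι ⟨φ x, h.le (hφT x)⟩ = g * ι ⟨x, h.le (hPT x.2)⟩ * g⁻¹ := hg x
    rw [e1, e2, e3]; group
  have hrange : ∀ y : ((P.subgroupOf T).map (T.subtype.comp α.toMonoidHom) : Subgroup Ω),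
      (a * g * a⁻¹) * ι ⟨y, (hP'T.trans h.le) y.2⟩ * (a * g * a⁻¹)⁻¹ ∈ ι.range := by
    intro y
    obtain ⟨x, hx⟩ := key y
    rw [iota_congr ι _ (h.le (α _).2) hx, hconj x]
    exact ⟨_, rfl⟩
  obtain ⟨χ, hχS, hχF, hχι⟩ := exists_hom_of_conj h.real (hP'T.trans h.le) (a * g * a⁻¹) hrange
  have hN' : a * g * a⁻¹ ∈ N := h.nor.conj_mem g hgN a
  have hχT : ∀ y, χ y ∈ T := by
    intro y
    refine (h.mem ⟨χ y, hχS y⟩).mpr ?_
    rw [hχι y]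
    exact h.nor.conj_mem _ ((h.mem _).mp (hP'T y.2)) _
  refine ⟨χ, (h.hom _ χ).mpr ⟨hP'T, hχT, a * g * a⁻¹, hN', hχι⟩, ?_⟩
  intro x hφx hαx
  have e : ι ⟨χ ⟨(α ⟨x, hPT x.2⟩ : T), hαx⟩, hχS _⟩ =
      ι ⟨((α ⟨φ x, hφx⟩ : T) : Ω), h.le (α _).2⟩ := by
    rw [hχι]; exact hconj x
  exact congrArg Subtype.val (h.real.1 e)

theorem NData.frattini [Finite G] [Finite S] [Fact p.Prime] (h : NData p F ι N T E)
    (P : Subgroup Ω) (hPT : P ≤ T) (φ : P →* Ω) (hφ : φ ∈ F.Hom P) :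
    ∃ α ∈ F.autGroup T, ∃ φ₀ ∈ E.Hom P,
      ∀ (x : P) (hx : φ₀ x ∈ T), φ x = ((α ⟨φ₀ x, hx⟩ : T) : Ω) := by
  obtain ⟨hPS, hφS, g, hg⟩ := exists_of_mem_hom h.real hφ
  have hnor := h.nor
  obtain ⟨R, hR⟩ := h.sylow_N
  have hVN : im ι T ≤ N := by rw [h.im_eq]; exact inf_le_right
  have hV : ((R : Subgroup N).map N.subtype) = im ι T := by
    rw [hR, Subgroup.subgroupOf_map_subtype, inf_of_le_left hVN]
  have hfr := Sylow.normalizer_sup_eq_top R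
  rw [hV] at hfr
  have hgmem : g ∈ Subgroup.normalizer ((im ι T : Subgroup G) : Set G) ⊔ N :=
    hfr ▸ Subgroup.mem_top g
  obtain ⟨n, hn, k, hk, rfl⟩ := Subgroup.mem_sup_of_normal_right.mp hgmem
  have hφT : ∀ x : P, φ x ∈ T := fun x => h.stronglyClosed.2 P hPT φ hφ x
  have hninv : n⁻¹ ∈ Subgroup.normalizer ((im ι T : Subgroup G) : Set G) := inv_mem hn
  have hkx : ∀ x : P, k * ι ⟨x, hPS x.2⟩ * k⁻¹ ∈ im ι T := by
    intro x
    have e : k * ι ⟨x, hPS x.2⟩ * k⁻¹ = n⁻¹ * (n * k * ι ⟨x, hPS x.2⟩ * (n * k)⁻¹) * n⁻¹⁻¹ := by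
      group
    rw [e, ← hg x]
    exact (Subgroup.mem_normalizer_iff.mp hninv _).mp (mem_im ι (hφT x) (hφS x))
  obtain ⟨φ₀, hφ₀S, hφ₀F, hφ₀ι⟩ := exists_hom_of_conj h.real hPS k
    (fun x => im_le_range ι T (hkx x))
  have hφ₀T : ∀ x : P, φ₀ x ∈ T := by
    intro x
    refine (h.mem ⟨φ₀ x, hφ₀S x⟩).mpr ?_
    rw [hφ₀ι]; exact hVN (hkx x)
  have hφ₀E : φ₀ ∈ E.Hom P := (h.hom P φ₀).mpr ⟨hPT, hφ₀T, k, hk, hφ₀ι⟩
  have hnt : ∀ t : T, n * ι ⟨t, h.le t.2⟩ * n⁻¹ ∈ im ι T := fun t =>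
    (Subgroup.mem_normalizer_iff.mp hn _).mp (mem_im ι t.2 (h.le t.2))
  obtain ⟨ψ, hψS, hψF, hψι⟩ := exists_hom_of_conj h.real h.le n
    (fun t => im_le_range ι T (hnt t))
  have hψT : ∀ t : T, ψ t ∈ T := by
    intro t
    refine (h.mem ⟨ψ t, hψS t⟩).mpr ?_
    rw [hψι]; exact hVN (hnt t)
  have : Finite T := finite_of_le S h.le
  obtain ⟨α, hα, hαv⟩ := Cfsg.Agent.helper26.exists_mulAut_of_mem F ψ hψF hψT
  refine ⟨α, hα, φ₀, hφ₀E, ?_⟩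
  intro x hx
  rw [hαv]
  have e : ι ⟨φ x, hφS x⟩ = ι ⟨ψ ⟨φ₀ x, hx⟩, hψS _⟩ := by
    rw [hψι, hg x]
    have e2 : ι ⟨((⟨φ₀ x, hx⟩ : T) : Ω), h.le hx⟩ = k * ι ⟨x, hPS x.2⟩ * k⁻¹ := hφ₀ι x
    rw [e2]; group
  exact congrArg Subtype.val (h.real.1 e)

theorem NData.invariant [Finite G] [Finite S] [Fact p.Prime] (h : NData p F ι N T E) :
    E.IsInvariantIn F :=
  ⟨h.sub, h.stronglyClosed, fun P hPT φ hφ α hα => h.invariance P hPT φ hφ α hα,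
    fun P hPT φ hφ => h.frattini P hPT φ hφ⟩

theorem NData.mem_centralizer_iff (h : NData p F ι N T E) (s : S) :
    (s : Ω) ∈ Subgroup.centralizer (T : Set Ω) ↔
      ι s ∈ Subgroup.centralizer ((im ι T : Subgroup G) : Set G) := by
  constructor
  · intro hs
    rw [Subgroup.mem_centralizer_iff]
    intro y hy
    obtain ⟨t, ht, rfl⟩ := (mem_im_iff ι T y).mp hy
    rw [← map_mul, ← map_mul]
    congr 1
    exact Subtype.ext (Subgroup.mem_centralizer_iff.mp hs t ht)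
  · intro hs
    rw [Subgroup.mem_centralizer_iff]
    intro t ht
    have h1 := Subgroup.mem_centralizer_iff.mp hs (ι ⟨t, h.le ht⟩) (mem_im ι ht (h.le ht))
    rw [← map_mul, ← map_mul] at h1
    exact congrArg Subtype.val (h.real.1 h1)

theorem NData.extension [Finite G] [Finite S] [Fact p.Prime] (h : NData p F ι N T E)
    (α : MulAut T) (hα : α ∈ E.autGroup T) :
    ∃ β ∈ F.autGroup (T ⊔ centralizerIn S T),
      (∀ x : T, ((β (Subgroup.inclusion le_sup_left x) : ↥(T ⊔ centralizerIn S T)) : Ω) =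
        ((α x : T) : Ω)) ∧
      ∀ c : ↥(T ⊔ centralizerIn S T), (c : Ω) ∈ centralizerIn S T →
        (c : Ω)⁻¹ * ((β c : ↥(T ⊔ centralizerIn S T)) : Ω) ∈
          T ⊓ Subgroup.centralizer (T : Set Ω) := by
  have hnor := h.nor
  have hα' := (mem_autGroup_iff E le_rfl α).mp hα
  obtain ⟨_, hαT, n, hnN, hn⟩ := (h.hom T _).mp hα'
  have hn' : ∀ t : T, ι ⟨((α t : T) : Ω), h.le (α t).2⟩ = n * ι ⟨t, h.le t.2⟩ * n⁻¹ := hn
  -- `n` normalizes `V = ι(T)`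
  have hnV : n ∈ Subgroup.normalizer ((im ι T : Subgroup G) : Set G) := by
    apply mem_normalizer_of_cj_le
    rintro _ ⟨y, hy, rfl⟩
    obtain ⟨s, hs, rfl⟩ := (mem_im_iff ι T y).mp hy
    show n * ι s * n⁻¹ ∈ im ι T
    rw [← hn' ⟨s, hs⟩]
    exact mem_im ι (α _).2 _
  have hnX := normalizer_le_normalizer_centralizer (im ι T) hnV
  -- Sylow in the centralizer
  obtain ⟨R, hR⟩ := h.syl
  have h1 : IsSylowIn p ι.range ⊤ := hR ▸ isSylowIn_top R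
  have h2 : IsSylowIn p ι.range (Subgroup.normalizer ((im ι T : Subgroup G) : Set G)) :=
    isSylowIn_of_le h.range_le_normalizer le_top h1
  have hsylX := isSylowIn_inf_of_normal h.range_le_normalizer h2
    (Subgroup.centralizer_le_normalizer ((im ι T : Subgroup G) : Set G))
    (normalizer_le_normalizer_centralizer (im ι T))
  set X := Subgroup.centralizer ((im ι T : Subgroup G) : Set G) with hX
  set C := ι.range ⊓ X with hC
  have hCX : C ≤ X := inf_le_right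
  have hCM : C ≤ Subgroup.normalizer ((N ⊓ X : Subgroup G) : Set G) :=
    hCX.trans (normalizer_inf_of_normal N X)
  have hYX : C ⊔ (N ⊓ X) ≤ X := sup_le hCX inf_le_right
  have hcjn : cj n C ≤ C ⊔ (N ⊓ X) := by
    rintro _ ⟨c, hc, rfl⟩
    show n * c * n⁻¹ ∈ C ⊔ (N ⊓ X)
    have e : n * c * n⁻¹ = c * (c⁻¹ * n * c⁻¹⁻¹ * n⁻¹) := by group
    rw [e]
    apply Subgroup.mul_mem_sup hc
    refine ⟨N.mul_mem (hnor.conj_mem n hnN c⁻¹) (N.inv_mem hnN), ?_⟩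
    have e2 : c⁻¹ * n * c⁻¹⁻¹ * n⁻¹ = c⁻¹ * (n * c * n⁻¹) := by group
    rw [e2]
    exact X.mul_mem (X.inv_mem (hCX hc)) ((Subgroup.mem_normalizer_iff.mp hnX c).mp (hCX hc))
  have hsylY : IsSylowIn p C (C ⊔ (N ⊓ X)) := isSylowIn_of_le le_sup_left hYX hsylX
  have hpC : IsPGroup p C := hsylX.isPGroup inf_le_right
  obtain ⟨y, hyY, hy⟩ := exists_cj_le_of_isSylowIn hsylY hcjn (IsPGroup_cj n hpC)
  have hyY' : y ∈ ((C ⊔ (N ⊓ X) : Subgroup G) : Set G) := hyY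
  rw [Subgroup.coe_mul_of_left_le_normalizer_right C (N ⊓ X) hCM] at hyY'
  obtain ⟨c₀, hc₀, k, hk, rfl⟩ := hyY'
  rw [cj_cj] at hy
  have h5 : cj (k * n) C ≤ C := by
    have h6 := cj_mono c₀⁻¹ hy
    rw [cj_cj, cj_of_mem (C.inv_mem hc₀)] at h6
    have e : c₀⁻¹ * (c₀ * k * n) = k * n := by group
    rwa [e] at h6
  have hgN : k * n ∈ N := N.mul_mem hk.1 hnN
  -- `k * n` acts on `V` as `n`
  have hgα : ∀ t : T, ι ⟨((α t : T) : Ω), h.le (α t).2⟩ =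
      (k * n) * ι ⟨t, h.le t.2⟩ * (k * n)⁻¹ := by
    intro t
    have hv : ι ⟨((α t : T) : Ω), h.le (α t).2⟩ ∈ im ι T := mem_im ι (α t).2 _
    have hc := Subgroup.mem_centralizer_iff.mp hk.2 _ hv
    have e : (k * n) * ι ⟨t, h.le t.2⟩ * (k * n)⁻¹ = k * (n * ι ⟨t, h.le t.2⟩ * n⁻¹) * k⁻¹ := by
      group
    rw [e, ← hn' t, ← hc]; group
  have hDS : T ⊔ centralizerIn S T ≤ S := sup_le h.le inf_le_left
  have hCW : C ≤ im ι (centralizerIn S T) := by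
    rintro _ ⟨⟨s, rfl⟩, hsX⟩
    exact (mem_im_iff ι _ _).mpr ⟨s, ⟨s.2, (h.mem_centralizer_iff s).mpr hsX⟩, rfl⟩
  have hcC : ∀ (x : Ω) (hx : x ∈ centralizerIn S T), ι ⟨x, hx.1⟩ ∈ C := fun x hx =>
    ⟨⟨_, rfl⟩, (h.mem_centralizer_iff ⟨x, hx.1⟩).mp hx.2⟩
  have hD_pre : T ⊔ centralizerIn S T ≤
      pre ((MulAut.conj (k * n)).toMonoidHom.comp ι) (im ι (T ⊔ centralizerIn S T)) := by
    apply sup_le
    · intro x hx
      rw [mem_pre_iff]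
      refine ⟨h.le hx, ?_⟩
      show (k * n) * ι ⟨x, h.le hx⟩ * (k * n)⁻¹ ∈ im ι (T ⊔ centralizerIn S T)
      rw [← hgα ⟨x, hx⟩]
      exact mem_im ι ((le_sup_left : T ≤ T ⊔ centralizerIn S T) (α _).2) _
    · intro x hx
      rw [mem_pre_iff]
      refine ⟨hx.1, ?_⟩
      show (k * n) * ι ⟨x, hx.1⟩ * (k * n)⁻¹ ∈ im ι (T ⊔ centralizerIn S T)
      exact im_mono ι le_sup_right (hCW (h5 (conj_mem_cj (k * n) C (hcC x hx))))
  have hg_range : ∀ x : ↥(T ⊔ centralizerIn S T),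
      (k * n) * ι ⟨x, hDS x.2⟩ * (k * n)⁻¹ ∈ im ι (T ⊔ centralizerIn S T) := fun x =>
    ((mem_pre_iff _ _ _).mp (hD_pre x.2)).2
  obtain ⟨β₀, hβS, hβF, hβι⟩ := exists_hom_of_conj h.real hDS (k * n)
    (fun x => im_le_range ι _ (hg_range x))
  have hβD : ∀ x : ↥(T ⊔ centralizerIn S T), β₀ x ∈ T ⊔ centralizerIn S T := fun x =>
    mem_of_mem_im h.real.1 (s := ⟨β₀ x, hβS x⟩) (by rw [hβι]; exact hg_range x)
  have : Finite ↥(T ⊔ centralizerIn S T) := finite_of_le S hDS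
  obtain ⟨β, hβ, hβv⟩ := Cfsg.Agent.helper26.exists_mulAut_of_mem F β₀ hβF hβD
  refine ⟨β, hβ, ?_, ?_⟩
  · intro x
    rw [hβv]
    have e : ι ⟨β₀ (Subgroup.inclusion le_sup_left x), hβS _⟩ =
        ι ⟨((α x : T) : Ω), h.le (α x).2⟩ := by
      rw [hβι]; exact (hgα x).symm
    exact congrArg Subtype.val (h.real.1 e)
  · intro c hc
    rw [hβv]
    have hcC' : ι ⟨c, hDS c.2⟩ ∈ C := hcC c hc
    have hβC : ι ⟨β₀ c, hβS c⟩ ∈ C := by
      rw [hβι]; exact h5 (conj_mem_cj (k * n) C hcC')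
    refine ⟨?_, ?_⟩
    · have hmemS : (c : Ω)⁻¹ * β₀ c ∈ S := S.mul_mem (S.inv_mem (hDS c.2)) (hβS c)
      refine (h.mem ⟨_, hmemS⟩).mpr ?_
      have e : (⟨(c : Ω)⁻¹ * β₀ c, hmemS⟩ : S) = (⟨c, hDS c.2⟩ : S)⁻¹ * ⟨β₀ c, hβS c⟩ := rfl
      rw [e, map_mul, map_inv, hβι]
      have e2 : (ι ⟨c, hDS c.2⟩)⁻¹ * ((k * n) * ι ⟨c, hDS c.2⟩ * (k * n)⁻¹) =
          ((ι ⟨c, hDS c.2⟩)⁻¹ * (k * n) * (ι ⟨c, hDS c.2⟩)⁻¹⁻¹) * (k * n)⁻¹ := by group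
      rw [e2]
      exact N.mul_mem (hnor.conj_mem _ hgN _) (N.inv_mem hgN)
    · exact Subgroup.mul_mem _ (Subgroup.inv_mem _ hc.2)
        ((h.mem_centralizer_iff ⟨β₀ c, hβS c⟩).mpr hβC.2)

/-- **Main theorem**: the subsystem of a normal subgroup is a normal subsystem. -/
theorem NData.isNormalIn [Finite G] [Finite S] [Fact p.Prime] (h : NData p F ι N T E) :
    E.IsNormalIn F p :=
  ⟨⟨h.sat_E, h.sat_F, h.invariant⟩, fun α hα => h.extension α hα⟩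

end Cfsg.Agent.helper26.NS
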