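import Cfsg.Agent.S5093
import Cfsg.Agent.Lib_helper26_NormSub
import Cfsg.Agent.Lib_helper25_PPowerIndex
import Cfsg.Agent.Lib_helper25_Saturated
import Cfsg.Prelude.Def_FusionComponents

set_option autoImplicit false
set_option linter.style.haveILetI false
set_option linter.unusedVariables false
set_option maxHeartbeats 1000000

namespace Cfsg.Agent.helper25

open Cfsg Cfsg.FusionSystem

variable {G : Type*} [Group G]

/-- the data of a normal subgroup `H` of `G` and the fusion system of `H` on `S ∩ H`. -/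
theorem nData_of_normal [Finite G] (p : ℕ) [Fact p.Prime] (S : Sylow p G) (H : Subgroup G)
    [H.Normal] :
    Cfsg.Agent.helper26.NS.NData p (Cfsg.groupFusionSystem (S : Subgroup G))
      (S : Subgroup G).subtype H ((S : Subgroup G) ⊓ H)
      (Cfsg.fusionSystemOfSubgroup H ((S : Subgroup G) ⊓ H) inf_le_right) :=
  { real := groupFS_isRealizedBy (S : Subgroup G)
    syl := ⟨S, (S : Subgroup G).range_subtype.symm⟩
    nor := inferInstance
    le := inf_le_left
    mem := fun s => ⟨fun h => h.2, fun h => ⟨s.2, h⟩⟩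
    hom := fun P φ => ⟨fun ⟨hP, hφ, g, hg, hx⟩ => ⟨hP, hφ, g, hg, hx⟩,
      fun ⟨hP, hφ, g, hg, hx⟩ => ⟨hP, hφ, g, hg, hx⟩⟩ }

/-- the fusion system of `O^p(G)` on `S ∩ O^p(G)` has `p`-power index in `F_S(G)`. -/
theorem pResidual_hasPPowerIndexIn [Finite G] (p : ℕ) [Fact p.Prime] (S : Sylow p G) :
    (Cfsg.fusionSystemOfSubgroup (Cfsg.pResidual p G) ((S : Subgroup G) ⊓ Cfsg.pResidual p G)
      inf_le_right).HasPPowerIndexIn (Cfsg.groupFusionSystem (S : Subgroup G)) p := by
  refine ⟨?_, (Cfsg.Agent.S5093.result p S).le, ?_⟩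
  · rintro P φ ⟨hP, hφ, g, -, hg⟩
    exact ⟨hP.trans inf_le_left, fun x => (hφ x).1, g, hg⟩
  · rintro P hP _ ⟨α, hα, rfl⟩
    obtain ⟨h, hh, hform⟩ :=
      Cfsg.Agent.S5093.pResidual_autGroup_induced p (S : Subgroup G) P α hα
    apply Subgroup.subset_closure
    exact ⟨hP, fun x => hP ((α : MulAut P) x).2, h, hh, hform⟩

/-- **`O^p(F_S(G))` is the fusion system of `O^p(G)`.** -/
theorem pResidualSystem_eq [Finite G] (p : ℕ) [Fact p.Prime] (S : Sylow p G)
    (E : FusionSystem ((Cfsg.groupFusionSystem (S : Subgroup G)).hyperfocalSubgroup p))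
    (hE : (Cfsg.groupFusionSystem (S : Subgroup G)).IsPResidual p E) :
    ∀ P : Subgroup G, E.Hom P = (Cfsg.fusionSystemOfSubgroup (Cfsg.pResidual p G)
      ((S : Subgroup G) ⊓ Cfsg.pResidual p G) inf_le_right).Hom P := by
  haveI := Cfsg.Agent.helper10.pResidual_normal p G
  have hS : IsPGroup p (S : Subgroup G) := S.isPGroup'
  have hD := pResidual_hasPPowerIndexIn p S
  have hDsat := (nData_of_normal p S (Cfsg.pResidual p G)).sat_E
  have heq := Cfsg.Agent.S5093.result p S
  have h1 := subsystem_of_pPowerIndex hS (Cfsg.groupFusionSystem (S : Subgroup G)) E hE.1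
    hE.2.1 _ heq.le hD
  have h2 := subsystem_of_pPowerIndex hS (Cfsg.groupFusionSystem (S : Subgroup G)) _ hDsat
    hD.1 E heq.ge hE.2
  intro P
  exact Set.Subset.antisymm (h1 P) (h2 P)

end Cfsg.Agent.helper25
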