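import Cfsg.Agent.Lib_helper25_NormConstr2

set_option autoImplicit false
set_option linter.style.haveILetI false
set_option linter.unusedVariables false
set_option maxHeartbeats 1000000

namespace Cfsg.Agent.helper25

open Cfsg Cfsg.FusionSystem

section InOp

variable {X : Type*} [Group X]

/-- `x` lies in a normal `p`-subgroup of `A`. -/
def InOp (p : ℕ) (A : Subgroup X) (x : X) : Prop :=
  ∃ N : Subgroup X, N ≤ A ∧ (∀ a ∈ A, ∀ n ∈ N, a * n * a⁻¹ ∈ N) ∧ IsPGroup p N ∧ x ∈ N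

theorem mem_pCore_map_iff {p : ℕ} [Fact p.Prime] (A : Subgroup X) [Finite A] (x : X) :
    x ∈ (Cfsg.pCore p A).map A.subtype ↔ InOp p A x := by
  constructor
  · intro hx
    refine ⟨(Cfsg.pCore p A).map A.subtype, ?_, ?_, ?_, hx⟩
    · rintro _ ⟨a, -, rfl⟩; exact a.2
    · rintro a ha _ ⟨n, hn, rfl⟩
      exact ⟨⟨a, ha⟩ * n * ⟨a, ha⟩⁻¹, (pCore_normal_h25 p A).conj_mem n hn _, rfl⟩
    · exact (pCore_isPGroup_h25 p A).map _
  · rintro ⟨N, hNA, hNn, hNp, hxN⟩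
    have hn : (N.subgroupOf A).Normal := by
      constructor
      intro n hn a
      exact Subgroup.mem_subgroupOf.mpr (hNn a a.2 n (Subgroup.mem_subgroupOf.mp hn))
    have hp : IsPGroup p (N.subgroupOf A) :=
      hNp.of_equiv (Subgroup.subgroupOfEquivOfLe hNA).symm
    have hle := le_pCore_h25 hn hp
    exact ⟨⟨x, hNA hxN⟩, hle (Subgroup.mem_subgroupOf.mpr hxN), rfl⟩

theorem InOp.map {Y : Type*} [Group Y] {p : ℕ} {A : Subgroup X} {x : X} (h : InOp p A x)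
    (c : X ≃* Y) : InOp p (A.map c.toMonoidHom) (c x) := by
  obtain ⟨N, hNA, hNn, hNp, hxN⟩ := h
  refine ⟨N.map c.toMonoidHom, Subgroup.map_mono hNA, ?_, hNp.map _, ⟨x, hxN, rfl⟩⟩
  rintro _ ⟨a, ha, rfl⟩ _ ⟨n, hn, rfl⟩
  refine ⟨a * n * a⁻¹, hNn a ha n hn, ?_⟩
  simp

theorem InOp.mono {p : ℕ} {A A' : Subgroup X} {x : X} (h : InOp p A x) (hA : A' ≤ A)
    (hx : x ∈ A') : InOp p A' x := by
  obtain ⟨N, hNA, hNn, hNp, hxN⟩ := h
  refine ⟨N ⊓ A', inf_le_right, ?_, hNp.to_le inf_le_left, ⟨hxN, hx⟩⟩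
  intro a ha n hn
  exact ⟨hNn a (hA ha) n hn.1, A'.mul_mem (A'.mul_mem ha hn.2) (A'.inv_mem ha)⟩

end InOp

section Quad

variable {Q : Type*} [Group Q]

/-- quadratic action of an automorphism. -/
def IsQuad (χ : MulAut Q) : Prop := ∀ a : Q, (χ a⁻¹) * a * (χ a⁻¹) * (χ (χ a)) = 1

theorem IsQuad.fix {χ : MulAut Q} (h : IsQuad χ) (a : Q) : χ (a⁻¹ * χ a) = a⁻¹ * χ a := by
  have h1 := h a
  rw [map_inv] at h1
  rw [map_mul, map_inv]
  have h2 : (χ a)⁻¹ * χ (χ a) = ((χ a)⁻¹ * a)⁻¹ := by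
    apply eq_inv_of_mul_eq_one_right
    rw [← h1]; group
  rw [h2]; group

theorem IsQuad.pow_apply {χ : MulAut Q} (h : IsQuad χ) (a : Q) (m : ℕ) :
    (χ ^ m) a = a * (a⁻¹ * χ a) ^ m := by
  induction m with
  | zero => simp
  | succ m ih =>
    rw [pow_succ', MulAut.mul_apply, ih, map_mul, map_pow, h.fix a, pow_succ', ← mul_assoc,
      mul_inv_cancel_left]

theorem IsQuad.pow_card [Finite Q] {χ : MulAut Q} (h : IsQuad χ) : χ ^ (Nat.card Q) = 1 := by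
  apply MulEquiv.ext; intro a
  rw [h.pow_apply, pow_card_eq_one', mul_one]; rfl

theorem IsQuad.congr {Q' : Type*} [Group Q'] {χ : MulAut Q} (h : IsQuad χ) (e : Q ≃* Q') :
    IsQuad (MulAut.congr e χ) := by
  intro b
  have h1 := h (e.symm b)
  have h2 := congrArg e h1
  rw [map_mul, map_mul, map_mul, map_one] at h2
  show e (χ (e.symm b⁻¹)) * b * e (χ (e.symm b⁻¹)) * e (χ (e.symm (e (χ (e.symm b))))) = 1
  rw [MulEquiv.symm_apply_apply, map_inv]
  rw [MulEquiv.apply_symm_apply] at h2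
  exact h2

theorem mulAut_comm_of_isCyclic [IsCyclic Q] (α β : MulAut Q) : α * β = β * α := by
  apply (IsCyclic.mulAutMulEquiv Q).injective
  rw [map_mul, map_mul, mul_comm]

end Quad

end Cfsg.Agent.helper25
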