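import Cfsg.Agent.Lib_helper25_PStable

set_option autoImplicit false
set_option linter.style.haveILetI false
set_option linter.unusedVariables false
set_option maxHeartbeats 1000000

namespace Cfsg.Agent.helper25

open Cfsg Cfsg.FusionSystem

variable {Ω : Type*} [Group Ω] {S : Subgroup Ω}

/-- `p`-stability of a fusion system, as in the statements. -/
def PStableSys (F : FusionSystem S) (p : ℕ) : Prop :=
  ∀ Q : Subgroup Ω, F.IsFullyNormalized Q → ∀ χ : MulAut ↥Q, χ ∈ F.autGroup Q →
    (∀ a : ↥Q, (χ a⁻¹) * a * (χ a⁻¹) * (χ (χ a)) = 1) →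
    χ ∈ ((Cfsg.pCore p ↥(F.autGroup Q)).map (F.autGroup Q).subtype : Subgroup (MulAut ↥Q))

/-- in a `p`-stable system quadratic automorphisms of any subgroup lie in a normal `p`-subgroup
of the automizer. -/
theorem PStableSys.inOp [Finite S] {p : ℕ} [Fact p.Prime] {F : FusionSystem S}
    (h : PStableSys F p) {Q : Subgroup Ω} (hQS : Q ≤ S) {χ : MulAut Q}
    (hχ : χ ∈ F.autGroup Q) (hq : IsQuad χ) : InOp p (F.autGroup Q) χ := by
  obtain ⟨Q', ⟨φ, hφ, hr⟩, hQ'⟩ := exists_fullyNormalized_conj F hQS
  obtain ⟨e, he, -⟩ := exists_isFIso_of_mem F hφ hr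
  haveI : Finite Q' := finite_of_le S hQ'.1
  have h1 := h Q' hQ' (MulAut.congr e χ) (he.congr_mem_autGroup hχ) (hq.congr e)
  have h2 := ((mem_pCore_map_iff _ _).mp h1).map (MulAut.congr e.symm)
  rw [he.symm.map_autGroup] at h2
  have e3 : MulAut.congr e.symm (MulAut.congr e χ) = χ := by
    apply MulEquiv.ext; intro x
    show e.symm (e (χ (e.symm (e x)))) = χ x
    rw [MulEquiv.symm_apply_apply, MulEquiv.symm_apply_apply]
  rw [e3] at h2
  exact h2

theorem autGroup_normalizerSystem_le (F : FusionSystem S) {R : Subgroup Ω}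
    (N : FusionSystem (normalizerIn S R)) (hN : F.IsNormalizerSystem R N) {Q : Subgroup Ω}
    (hQ : Q ≤ normalizerIn S R) : N.autGroup Q ≤ F.autGroup Q := by
  intro α hα
  have h1 : Q.subtype.comp α.toMonoidHom ∈ N.Hom Q := (mem_autGroup_iff N hQ α).mp hα
  rw [hN Q] at h1
  exact (mem_autGroup_iff F (hQ.trans inf_le_left) α).mpr h1.1

/-- normalizer systems of a `p`-stable system are `p`-stable. -/
theorem PStableSys.normalizer [Finite S] {p : ℕ} [Fact p.Prime] {F : FusionSystem S}
    (h : PStableSys F p) {R : Subgroup Ω} (N : FusionSystem (normalizerIn S R))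
    (hN : F.IsNormalizerSystem R N) : PStableSys N p := by
  intro Q hQ χ hχ hq
  have hQN : Q ≤ normalizerIn S R := hQ.1
  have hQS : Q ≤ S := hQN.trans inf_le_left
  haveI : Finite Q := finite_of_le S hQS
  have hle := autGroup_normalizerSystem_le F N hN hQN
  have h1 := h.inOp hQS (hle hχ) hq
  exact (mem_pCore_map_iff _ _).mpr (h1.mono hle hχ)

theorem autGroup_normalizerSystem_self (F : FusionSystem S) {Q : Subgroup Ω} (hQS : Q ≤ S)
    (N : FusionSystem (normalizerIn S Q)) (hN : F.IsNormalizerSystem Q N) :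
    N.autGroup Q = F.autGroup Q := by
  apply le_antisymm (autGroup_normalizerSystem_le F N hN (le_normalizerIn hQS))
  intro α hα
  exact (mem_autGroup_iff N (le_normalizerIn hQS) α).mpr
    (isFIso_normalizerSystem_self F hQS N hN ((mem_autGroup_iff F hQS α).mp hα))

theorem fullyNormalized_normalizerSystem_self (F : FusionSystem S) {Q : Subgroup Ω}
    (hQS : Q ≤ S) (N : FusionSystem (normalizerIn S Q)) (hN : F.IsNormalizerSystem Q N) :
    N.IsFullyNormalized Q := by
  refine ⟨le_normalizerIn hQS, ?_⟩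
  rintro Q' ⟨φ, hφ, rfl⟩
  rw [normalizerSystem_range_self F N hN hφ]

/-- a quadratic automorphism of a cyclic `p`-group lies in a normal `p`-subgroup of any group of
automorphisms containing it. -/
theorem inOp_of_quad_cyclic {p : ℕ} [Fact p.Prime] {Q : Type*} [Group Q] [Finite Q]
    (hQ : IsPGroup p Q) [IsCyclic Q] {A : Subgroup (MulAut Q)} {χ : MulAut Q} (hχ : χ ∈ A)
    (hq : IsQuad χ) : InOp p A χ := by
  refine ⟨Subgroup.zpowers χ, ?_, ?_, ?_, Subgroup.mem_zpowers χ⟩
  · rw [Subgroup.zpowers_le]; exact hχ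
  · intro a _ n hn
    rw [mulAut_comm_of_isCyclic a n, mul_inv_cancel_right]; exact hn
  · obtain ⟨k, hk⟩ := IsPGroup.iff_card.mp hQ
    have h1 : orderOf χ ∣ p ^ k := by
      rw [← hk]; exact orderOf_dvd_of_pow_eq_one hq.pow_card
    obtain ⟨j, -, hj⟩ := (Nat.dvd_prime_pow (Fact.out : p.Prime)).mp h1
    apply IsPGroup.of_card (n := j)
    rw [Nat.card_zpowers, hj]

/-- **a saturated system is `p`-stable iff the normalizer systems of its non-cyclic fully
normalized subgroups are.** -/
theorem pStable_iff_normalizers [Finite S] {p : ℕ} [Fact p.Prime] (hS : IsPGroup p S)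
    (F : FusionSystem S) :
    PStableSys F p ↔ ∀ R : Subgroup Ω, F.IsFullyNormalized R → ¬ IsCyclic ↥R →
      ∀ N : FusionSystem (normalizerIn S R), F.IsNormalizerSystem R N → PStableSys N p := by
  constructor
  · intro h R _ _ N hN
    exact h.normalizer N hN
  · intro h Q hQ χ hχ hq
    have hQS : Q ≤ S := hQ.1
    haveI : Finite Q := finite_of_le S hQS
    apply (mem_pCore_map_iff _ _).mpr
    by_cases hc : IsCyclic Q
    · exact inOp_of_quad_cyclic (hS.to_le hQS) hχ hq
    · have hN := isNormalizerSystem_normalizerSystem F Q hQS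
      have hA := autGroup_normalizerSystem_self F hQS _ hN
      have h1 := h Q hQ hc _ hN Q (fullyNormalized_normalizerSystem_self F hQS _ hN) χ
        (by rw [hA]; exact hχ) hq
      have h2 := (mem_pCore_map_iff _ _).mp h1
      rw [hA] at h2
      exact h2

end Cfsg.Agent.helper25
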