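import Cfsg.Agent.Lib_helper25_PStable2

set_option autoImplicit false
set_option linter.style.haveILetI false
set_option linter.unusedVariables false
set_option maxHeartbeats 1000000

namespace Cfsg.Agent.helper25

open Cfsg Cfsg.FusionSystem
open scoped commutatorElement

variable {G : Type*} [Group G]

theorem groupFS_autGroup_eq (P : Subgroup G) {Q : Subgroup G} (hQ : Q ≤ P) :
    (groupFusionSystem P).autGroup Q = autInducedBy ⊤ Q := by
  ext α
  rw [mem_autGroup_iff _ hQ, mem_autInducedBy_iff]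
  constructor
  · rintro ⟨-, -, g, hg⟩
    exact ⟨g, Subgroup.mem_top _, hg⟩
  · rintro ⟨g, -, hg⟩
    exact ⟨hQ, fun x => hQ (α x).2, g, hg⟩

theorem autInducedBy_top_eq_range (Q : Subgroup G) :
    autInducedBy ⊤ Q = Q.normalizerMonoidHom.range := by
  rw [autInducedBy_eq_map, MonoidHom.range_eq_map]
  congr 1
  ext n
  rw [Subgroup.mem_subgroupOf]
  exact ⟨fun _ => Subgroup.mem_top _, fun _ => ⟨Subgroup.mem_top _, n.2⟩⟩

/-- the injection of `N_G(Q)/C_G(Q)` into `Aut(Q)`. -/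
def ncHom (Q : Subgroup G) :
    ↥(Subgroup.normalizer (Q : Set G)) ⧸
      (Subgroup.centralizer (Q : Set G)).subgroupOf (Subgroup.normalizer (Q : Set G)) →*
      MulAut Q :=
  QuotientGroup.lift _ Q.normalizerMonoidHom (Subgroup.normalizerMonoidHom_ker Q).ge

theorem ncHom_mk (Q : Subgroup G) (n : Subgroup.normalizer (Q : Set G)) :
    ncHom Q (QuotientGroup.mk n) = Q.normalizerMonoidHom n := rfl

theorem ncHom_injective (Q : Subgroup G) : Function.Injective (ncHom Q) := by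
  rw [injective_iff_map_eq_one]
  intro y hy
  obtain ⟨n, rfl⟩ := QuotientGroup.mk_surjective y
  rw [ncHom_mk] at hy
  rw [QuotientGroup.eq_one_iff, ← Subgroup.normalizerMonoidHom_ker]
  exact hy

theorem ncHom_range (Q : Subgroup G) : (ncHom Q).range = autInducedBy ⊤ Q := by
  rw [autInducedBy_top_eq_range]
  apply le_antisymm
  · rintro _ ⟨y, rfl⟩
    obtain ⟨n, rfl⟩ := QuotientGroup.mk_surjective y
    exact ⟨n, rfl⟩
  · rintro _ ⟨n, rfl⟩
    exact ⟨QuotientGroup.mk n, rfl⟩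

/-- membership in `O_p(N_G(Q)/C_G(Q))` read in `Aut_G(Q)`. -/
theorem mem_pCore_nc_iff [Finite G] {p : ℕ} [Fact p.Prime] (Q : Subgroup G)
    (y : ↥(Subgroup.normalizer (Q : Set G)) ⧸
      (Subgroup.centralizer (Q : Set G)).subgroupOf (Subgroup.normalizer (Q : Set G))) :
    y ∈ Cfsg.pCore p _ ↔ InOp p (autInducedBy ⊤ Q) (ncHom Q y) := by
  constructor
  · intro hy
    refine ⟨(Cfsg.pCore p _).map (ncHom Q), ?_, ?_, (pCore_isPGroup_h25 p _).map _, ⟨y, hy, rfl⟩⟩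
    · rw [← ncHom_range]
      rintro _ ⟨m, -, rfl⟩; exact ⟨m, rfl⟩
    · rw [← ncHom_range]
      rintro _ ⟨b, rfl⟩ _ ⟨m, hm, rfl⟩
      refine ⟨b * m * b⁻¹, (pCore_normal_h25 p _).conj_mem m hm b, ?_⟩
      rw [map_mul, map_mul, map_inv]
  · rintro ⟨N, hNA, hNn, hNp, hyN⟩
    have hn : (N.comap (ncHom Q)).Normal := by
      constructor
      intro m hm b
      apply Subgroup.mem_comap.mpr
      rw [map_mul, map_mul, map_inv]
      apply hNn _ _ _ (Subgroup.mem_comap.mp hm)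
      rw [← ncHom_range]; exact ⟨b, rfl⟩
    have hp : IsPGroup p (N.comap (ncHom Q)) := hNp.comap_of_injective _ (ncHom_injective Q)
    exact le_pCore_h25 hn hp (Subgroup.mem_comap.mpr hyN)

theorem normAut_pow (Q : Subgroup G) (g : G) (hg : g ∈ Subgroup.normalizer (Q : Set G)) (n : ℕ)
    (x : Q) : (((normAut Q g hg) ^ n) x : G) = g ^ n * x * (g ^ n)⁻¹ := by
  have h1 : (normAut Q g hg) ^ n = Q.normalizerMonoidHom (⟨g, hg⟩ ^ n) := by
    rw [map_pow]; rfl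
  rw [h1]
  rfl

/-- quadratic action in commutator form and in elementwise form agree. -/
theorem quad_iff_commutator [Finite G] (Q : Subgroup G) (g : G)
    (hg : g ∈ Subgroup.normalizer (Q : Set G)) :
    ⁅⁅Q, Subgroup.zpowers g⁆, Subgroup.zpowers g⁆ = ⊥ ↔ IsQuad (normAut Q g hg) := by
  constructor
  · intro h a
    apply Subtype.ext
    have hb : ⁅(a : G), g⁆ ∈ ⁅Q, Subgroup.zpowers g⁆ :=
      Subgroup.commutator_mem_commutator a.2 (Subgroup.mem_zpowers g)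
    have h1 := Subgroup.commutator_eq_bot_iff_le_centralizer.mp h hb
    have h2 : g * ⁅(a : G), g⁆ = ⁅(a : G), g⁆ * g :=
      Subgroup.mem_centralizer_iff.mp h1 g (Subgroup.mem_zpowers g)
    have h3 : g⁻¹ * ⁅(a : G), g⁆ * g = ⁅(a : G), g⁆ := by
      rw [mul_assoc, ← h2]; group
    show g * ((a⁻¹ : Q) : G) * g⁻¹ * a * (g * ((a⁻¹ : Q) : G) * g⁻¹) *
      (g * (g * (a : G) * g⁻¹) * g⁻¹) = 1
    rw [Subgroup.coe_inv]
    have e1 : g * (a : G)⁻¹ * g⁻¹ * a * (g * (a : G)⁻¹ * g⁻¹) * (g * (g * (a : G) * g⁻¹) * g⁻¹) =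
        g * (a : G)⁻¹ * (g⁻¹ * ((a : G) * g * (a : G)⁻¹ * g⁻¹) * g) * g * a * g⁻¹ * g⁻¹ := by
      group
    have e2 : ⁅(a : G), g⁆ = (a : G) * g * (a : G)⁻¹ * g⁻¹ := rfl
    rw [e1, ← e2, h3, e2]
    group
  · intro hq
    rw [Subgroup.commutator_eq_bot_iff_le_centralizer, Subgroup.commutator_le]
    intro a ha y hy
    obtain ⟨n, rfl⟩ := (mem_powers_iff_mem_zpowers).mpr hy
    -- the element d = a c^{-n} a^{-1} of Q is fixed by conjugation with g
    have hfix := hq.fix ⟨a, ha⟩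
    have hpow := hq.pow_apply ⟨a, ha⟩ n
    obtain ⟨A, hA⟩ : ∃ A : Q, A = ⟨a, ha⟩ := ⟨_, rfl⟩
    rw [← hA] at hfix hpow
    have hAcoe : (A : G) = a := by rw [hA]
    obtain ⟨c, hc⟩ : ∃ c : Q, c = A⁻¹ * (normAut Q g hg) A := ⟨_, rfl⟩
    rw [← hc] at hfix hpow
    have hcA : (normAut Q g hg) A = A * c := by rw [hc]; group
    have hd : (normAut Q g hg) (A * (c ^ n)⁻¹ * A⁻¹) = A * (c ^ n)⁻¹ * A⁻¹ := by
      rw [map_mul, map_mul, map_inv, map_inv, map_pow, hfix, hcA]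
      group
    have hdG : g * ((A * (c ^ n)⁻¹ * A⁻¹ : Q) : G) * g⁻¹ = ((A * (c ^ n)⁻¹ * A⁻¹ : Q) : G) :=
      congrArg Subtype.val hd
    have hcomm : Commute g ((A * (c ^ n)⁻¹ * A⁻¹ : Q) : G) := by
      show g * _ = _ * g
      calc g * ((A * (c ^ n)⁻¹ * A⁻¹ : Q) : G)
          = (g * ((A * (c ^ n)⁻¹ * A⁻¹ : Q) : G) * g⁻¹) * g := by group
        _ = ((A * (c ^ n)⁻¹ * A⁻¹ : Q) : G) * g := by rw [hdG]
    have hpowG : g ^ n * a * (g ^ n)⁻¹ = a * ((c ^ n : Q) : G) := by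
      have h1 := congrArg Subtype.val hpow
      rw [normAut_pow] at h1
      rw [← hAcoe]
      exact h1
    have hcn : ((c ^ n : Q) : G) = a⁻¹ * (g ^ n * a * (g ^ n)⁻¹) := by
      rw [hpowG]; group
    have heq : ⁅a, g ^ n⁆ = ((A * (c ^ n)⁻¹ * A⁻¹ : Q) : G) := by
      rw [Subgroup.coe_mul, Subgroup.coe_mul, Subgroup.coe_inv, Subgroup.coe_inv, hcn, hAcoe,
        commutatorElement_def]
      group
    show ⁅a, g ^ n⁆ ∈ Subgroup.centralizer _
    rw [heq, Subgroup.mem_centralizer_iff]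
    rintro z ⟨k, rfl⟩
    exact (hcomm.zpow_left k).eq

end Cfsg.Agent.helper25
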