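import Cfsg.Agent.Lib_helper25_PStableGroup
import Cfsg.Prelude.Def_LocalEven

set_option autoImplicit false
set_option linter.style.haveILetI false
set_option linter.unusedVariables false
set_option maxHeartbeats 1000000

namespace Cfsg.Agent.helper25

open Cfsg Cfsg.FusionSystem
open scoped commutatorElement

variable {G : Type*} [Group G]

/-- conjugation by `t` as an isomorphism from `P₀` onto its conjugate. -/
def conjEquiv (t : G) (P₀ : Subgroup G) : P₀ ≃* cj t P₀ where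
  toFun x := ⟨t * x * t⁻¹, ⟨x, x.2, rfl⟩⟩
  invFun y := ⟨t⁻¹ * y * t, by
    obtain ⟨z, hz, hzy⟩ := y.2
    rw [← hzy]
    show t⁻¹ * (t * z * t⁻¹) * t ∈ P₀
    have e : t⁻¹ * (t * z * t⁻¹) * t = z := by group
    rw [e]; exact hz⟩
  left_inv x := Subtype.ext (by show t⁻¹ * (t * x * t⁻¹) * t = x; group)
  right_inv y := Subtype.ext (by show t * (t⁻¹ * y * t) * t⁻¹ = y; group)
  map_mul' x y := Subtype.ext (by
    show t * ((x : G) * y) * t⁻¹ = (t * x * t⁻¹) * (t * y * t⁻¹); group)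

theorem conjEquiv_coe (t : G) (P₀ : Subgroup G) (x : P₀) :
    ((conjEquiv t P₀ x : cj t P₀) : G) = t * x * t⁻¹ := rfl

theorem conjEquiv_symm_coe (t : G) (P₀ : Subgroup G) (y : cj t P₀) :
    (((conjEquiv t P₀).symm y : P₀) : G) = t⁻¹ * y * t := rfl

theorem congr_conj_mem_autInducedBy (t : G) (P₀ : Subgroup G) {α : MulAut P₀}
    (hα : α ∈ autInducedBy ⊤ P₀) :
    MulAut.congr (conjEquiv t P₀) α ∈ autInducedBy ⊤ (cj t P₀) := by
  obtain ⟨n, -, hn⟩ := (mem_autInducedBy_iff ⊤ P₀ α).mp hα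
  apply (mem_autInducedBy_iff ⊤ _ _).mpr
  refine ⟨t * n * t⁻¹, Subgroup.mem_top _, fun y => ?_⟩
  show (((conjEquiv t P₀) (α ((conjEquiv t P₀).symm y)) :
    cj t P₀) : G) = _
  rw [conjEquiv_coe, hn, conjEquiv_symm_coe]
  group

theorem congr_conj_symm_mem_autInducedBy (t : G) (P₀ : Subgroup G) {β : MulAut (cj t P₀)}
    (hβ : β ∈ autInducedBy ⊤ (cj t P₀)) :
    MulAut.congr (conjEquiv t P₀).symm β ∈ autInducedBy ⊤ P₀ := by
  obtain ⟨m, -, hm⟩ := (mem_autInducedBy_iff ⊤ _ β).mp hβ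
  apply (mem_autInducedBy_iff ⊤ _ _).mpr
  refine ⟨t⁻¹ * m * t, Subgroup.mem_top _, fun x => ?_⟩
  show (((conjEquiv t P₀).symm (β ((conjEquiv t P₀) x)) :
    P₀) : G) = _
  rw [conjEquiv_symm_coe, hm, conjEquiv_coe]
  group

theorem map_congr_conj_symm_autInducedBy (t : G) (P₀ : Subgroup G) :
    (autInducedBy ⊤ (cj t P₀)).map
      (MulAut.congr (conjEquiv t P₀).symm).toMonoidHom = autInducedBy ⊤ P₀ := by
  apply le_antisymm
  · rintro _ ⟨β, hβ, rfl⟩
    exact congr_conj_symm_mem_autInducedBy t P₀ hβ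
  · intro α hα
    refine ⟨_, congr_conj_mem_autInducedBy t P₀ hα, ?_⟩
    apply MulEquiv.ext; intro x
    show (conjEquiv t P₀).symm ((conjEquiv t P₀)
      (α ((conjEquiv t P₀).symm ((conjEquiv t P₀) x)))) = α x
    rw [MulEquiv.symm_apply_apply, MulEquiv.symm_apply_apply]

/-- **a finite group is `p`-stable (normalizer form) iff its fusion system is.** -/
theorem groupFS_pStable_iff [Finite G] {p : ℕ} [Fact p.Prime] (P : Sylow p G) :
    Cfsg.IsNormalizerPStable p G ↔ PStableSys (groupFusionSystem (P : Subgroup G)) p := by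
  constructor
  · intro h Q hQ χ hχ hq
    have hQP : Q ≤ P := hQ.1
    haveI : Finite Q := inferInstance
    rw [groupFS_autGroup_eq _ hQP] at hχ
    obtain ⟨g, hg, rfl⟩ := (mem_autInducedBy_iff' ⊤ Q χ).mp hχ
    have hcomm := (quad_iff_commutator Q g hg.2).mpr hq
    have h1 := h Q (P.isPGroup'.to_le hQP) g hg.2 hcomm
    have h2 := (mem_pCore_nc_iff Q _).mp h1
    apply (mem_pCore_map_iff _ _).mpr
    rw [groupFS_autGroup_eq _ hQP]
    exact h2
  · intro h P₀ hP₀ g hg hcomm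
    apply (mem_pCore_nc_iff P₀ _).mpr
    show InOp p (autInducedBy ⊤ P₀) (normAut P₀ g hg)
    have hq := (quad_iff_commutator P₀ g hg).mp hcomm
    obtain ⟨t, ht⟩ := exists_cj_le_sylow P hP₀
    have hq₁ := hq.congr (conjEquiv t P₀)
    have hχ₀ : normAut P₀ g hg ∈ autInducedBy ⊤ P₀ :=
      (mem_autInducedBy_iff ⊤ P₀ _).mpr ⟨g, Subgroup.mem_top _, fun x => rfl⟩
    have hχ₁ : MulAut.congr (conjEquiv t P₀) (normAut P₀ g hg) ∈
        (groupFusionSystem (P : Subgroup G)).autGroup (cj t P₀) := by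
      rw [groupFS_autGroup_eq _ ht]
      exact congr_conj_mem_autInducedBy t P₀ hχ₀
    have h1 := (h.inOp ht hχ₁ hq₁).map (MulAut.congr (conjEquiv t P₀).symm)
    rw [groupFS_autGroup_eq _ ht, map_congr_conj_symm_autInducedBy] at h1
    have e3 : MulAut.congr (conjEquiv t P₀).symm
        (MulAut.congr (conjEquiv t P₀) (normAut P₀ g hg)) = normAut P₀ g hg := by
      apply MulEquiv.ext; intro x
      show (conjEquiv t P₀).symm ((conjEquiv t P₀)
        (normAut P₀ g hg ((conjEquiv t P₀).symm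
          ((conjEquiv t P₀) x)))) = normAut P₀ g hg x
      rw [MulEquiv.symm_apply_apply, MulEquiv.symm_apply_apply]
    rw [e3] at h1
    exact h1

end Cfsg.Agent.helper25
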