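import Mathlib

set_option autoImplicit false
set_option linter.style.haveILetI false
set_option linter.unusedSectionVars false

open Polynomial

namespace Cfsg.Agent.helper25.Pow2

/-- A positive prime power dividing a finite lcm of nonzero numbers divides one of them. -/
theorem pp_dvd_lcm {ι : Type*} (s : Finset ι) (f : ι → ℕ) (hf : ∀ i ∈ s, f i ≠ 0) {p j : ℕ}
    (hp : p.Prime) (hj : 0 < j) (h : p ^ j ∣ s.lcm f) : ∃ i ∈ s, p ^ j ∣ f i := by
  have hne : s.lcm f ≠ 0 := by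
    rw [Ne, Finset.lcm_eq_zero_iff]
    rintro ⟨i, hi, h0⟩
    exact hf i hi h0
  have h1 : j ≤ (s.lcm f).factorization p := (hp.pow_dvd_iff_le_factorization hne).1 h
  rw [Finset.factorization_lcm hf] at h1
  obtain ⟨i, hi, hle⟩ := (Finset.le_sup_iff (by simpa using hj)).1 h1
  exact ⟨i, hi, (hp.pow_dvd_iff_le_factorization (hf i hi)).2 hle⟩

theorem two_pow_sub_one_ne_zero {m : ℕ} (hm : 1 ≤ m) : 2 ^ m - 1 ≠ 0 := by
  have : 2 ^ 1 ≤ 2 ^ m := Nat.pow_le_pow_right (by norm_num) hm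
  omega

theorem two_pow_sub_one_dvd (m c : ℕ) : 2 ^ m - 1 ∣ 2 ^ (m * c) - 1 := by
  have := Nat.sub_dvd_pow_sub_pow (2 ^ m) 1 c
  rwa [one_pow, ← pow_mul] at this

/-- an element whose order is a given divisor -/
theorem exists_orderOf_eq_of_dvd {L : Type*} [Group L] (u : L) (b : ℕ) (hb : b ∣ orderOf u)
    (h0 : orderOf u ≠ 0) : ∃ v : L, orderOf v = b := by
  obtain ⟨c, hc⟩ := hb
  have hc0 : c ≠ 0 := by rintro rfl; rw [Nat.mul_zero] at hc; exact h0 hc
  refine ⟨u ^ c, ?_⟩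
  rw [orderOf_pow_of_dvd hc0 ⟨b, by rw [hc, mul_comm]⟩, hc]
  exact Nat.mul_div_cancel _ (Nat.pos_of_ne_zero hc0)

theorem main_comb {L : Type*} [Group L] [Finite L] (n : ℕ) (hn : 2 ≤ n)
    (hA : ∀ u : L, ∀ p j : ℕ, p.Prime → p ≠ 2 → 0 < j → p ^ j ∣ orderOf u →
      ∃ m, 1 ≤ m ∧ m ≤ n ∧ p ^ j ∣ 2 ^ m - 1)
    (hB : ∀ m, 1 ≤ m → m ≤ n → ∃ u : L, orderOf u = 2 ^ m - 1)
    (k : ℕ) (x : Fin k → L) : ∃ y : Fin ((n + 3) / 2) → L, orderOf y = orderOf x := by
  classical
  set N := orderOf x with hN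
  have hNpos : 0 < N := orderOf_pos x
  have hNlcm : N = Finset.univ.lcm (fun i => orderOf (x i)) := Pi.orderOf x
  have hford : ∀ i ∈ (Finset.univ : Finset (Fin k)), orderOf (x i) ≠ 0 :=
    fun i _ => (orderOf_pos (x i)).ne'
  set t := N.factorization 2 with ht
  -- the 2-part
  have h2 : ∃ u0 : L, orderOf u0 = 2 ^ t := by
    rcases Nat.eq_zero_or_pos t with h0 | hpos
    · exact ⟨1, by simp [h0]⟩
    · have hd : 2 ^ t ∣ N := Nat.ordProj_dvd N 2
      rw [hNlcm] at hd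
      obtain ⟨i, _, hi⟩ := pp_dvd_lcm _ _ hford Nat.prime_two hpos hd
      exact exists_orderOf_eq_of_dvd (x i) _ hi (orderOf_pos (x i)).ne'
  obtain ⟨u0, hu0⟩ := h2
  -- the odd parts
  have hW : ∀ m : ℕ, ∃ w : L, (1 ≤ m → m ≤ n → orderOf w = Nat.gcd N (2 ^ m - 1)) := by
    intro m
    by_cases hm : 1 ≤ m ∧ m ≤ n
    · obtain ⟨u, hu⟩ := hB m hm.1 hm.2
      obtain ⟨w, hw⟩ := exists_orderOf_eq_of_dvd u (Nat.gcd N (2 ^ m - 1))
        (by rw [hu]; exact Nat.gcd_dvd_right _ _) (by rw [hu]; exact two_pow_sub_one_ne_zero hm.1)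
      exact ⟨w, fun _ _ => hw⟩
    · exact ⟨1, fun h1 h2 => absurd ⟨h1, h2⟩ hm⟩
  choose W hW using hW
  let y : Fin ((n + 3) / 2) → L := fun j => if (j : ℕ) = 0 then u0 else W (n + 1 - j)
  refine ⟨y, ?_⟩
  have hk0 : 2 ≤ (n + 3) / 2 := by omega
  have hy_ord : ∀ j : Fin ((n + 3) / 2), orderOf (y j) ∣ N := by
    intro j
    by_cases hj : (j : ℕ) = 0
    · simp only [y, hj, if_true, hu0]
      exact Nat.ordProj_dvd N 2
    · simp only [y, hj, if_false]
      have hjlt := j.2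
      rw [hW (n + 1 - j) (by omega) (by omega)]
      exact Nat.gcd_dvd_left _ _
  apply Nat.dvd_antisymm
  · apply orderOf_dvd_of_pow_eq_one
    funext j
    simp only [Pi.pow_apply, Pi.one_apply]
    exact orderOf_dvd_iff_pow_eq_one.1 (hy_ord j)
  · rw [Nat.dvd_iff_prime_pow_dvd_dvd]
    intro p j hp hpj
    rcases Nat.eq_zero_or_pos j with rfl | hjpos
    · simp
    by_cases hp2 : p = 2
    · subst hp2
      have hjt : j ≤ t := (Nat.prime_two.pow_dvd_iff_le_factorization hNpos.ne').1 hpj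
      have h1 : 2 ^ j ∣ orderOf (y ⟨0, by omega⟩) := by
        simp only [y, if_true, hu0]
        exact pow_dvd_pow 2 hjt
      exact h1.trans (orderOf_apply_dvd_orderOf _)
    · have hpj' := hpj
      rw [hNlcm] at hpj'
      obtain ⟨i, _, hi⟩ := pp_dvd_lcm _ _ hford hp hjpos hpj'
      obtain ⟨m, hm1, hmn, hm⟩ := hA (x i) p j hp hp2 hjpos hi
      set c := n / m with hc
      have hq1 : m * c ≤ n := Nat.mul_div_le n m
      have hq2 : n < m * c + m := by
        have := Nat.lt_mul_div_succ n (show 0 < m by omega)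
        rw [Nat.mul_succ] at this
        exact this
      have hc1 : 1 ≤ c := Nat.div_pos hmn (by omega)
      have hq3 : m ≤ m * c := Nat.le_mul_of_pos_right m hc1
      set m' := m * c with hm'
      have hdvd : p ^ j ∣ 2 ^ m' - 1 := hm.trans (two_pow_sub_one_dvd m c)
      have hidx : n + 1 - m' < (n + 3) / 2 := by omega
      have h1 : p ^ j ∣ orderOf (y ⟨n + 1 - m', hidx⟩) := by
        have hne : ¬ (n + 1 - m' = 0) := by omega
        simp only [y, hne, if_false]
        have : n + 1 - (n + 1 - m') = m' := by omega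
        rw [this, hW m' (by omega) hq1]
        exact Nat.dvd_gcd hpj hdvd
      exact h1.trans (orderOf_apply_dvd_orderOf _)

end Cfsg.Agent.helper25.Pow2

namespace Cfsg.Agent.helper25.Pow2

/-- the lcm of the numbers `2 ^ m - 1`, `1 ≤ m ≤ n` -/
def N0 (n : ℕ) : ℕ := (Finset.Icc 1 n).lcm (fun m => 2 ^ m - 1)

/-- the polynomial `X (X ^ N0 - 1)` -/
noncomputable def PP (F : Type*) [Field F] (n : ℕ) : F[X] := X * (X ^ N0 n - 1)

section
variable {F : Type*} [Field F] [Fintype F]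

theorem irr_dvd_PP (hF : Fintype.card F = 2) (n : ℕ) (f : F[X]) (hf : Irreducible f)
    (hd : f.natDegree ≤ n) : f ∣ PP F n := by
  have hd1 : 1 ≤ f.natDegree := hf.natDegree_pos
  have h1 : f ∣ X ^ (Nat.card F) ^ f.natDegree - X :=
    (hf.natDegree_dvd_iff_dvd_X_pow_card_pow_sub_X).1 dvd_rfl
  rw [Nat.card_eq_fintype_card, hF] at h1
  have h2 : (X : F[X]) ^ 2 ^ f.natDegree - X = X * (X ^ (2 ^ f.natDegree - 1) - 1) := by
    have : 2 ^ f.natDegree = (2 ^ f.natDegree - 1) + 1 := by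
      have := Nat.one_le_two_pow (n := f.natDegree); omega
    conv_lhs => rw [this, pow_succ]
    ring
  rw [h2] at h1
  have h3 : 2 ^ f.natDegree - 1 ∣ N0 n :=
    Finset.dvd_lcm (f := fun m => 2 ^ m - 1) (Finset.mem_Icc.2 ⟨hd1, hd⟩)
  obtain ⟨c, hc⟩ := h3
  have h4 : (X : F[X]) ^ (2 ^ f.natDegree - 1) - 1 ∣ X ^ N0 n - 1 := by
    have := sub_dvd_pow_sub_pow ((X : F[X]) ^ (2 ^ f.natDegree - 1)) 1 c
    rwa [one_pow, ← pow_mul, ← hc] at this
  exact h1.trans (mul_dvd_mul_left X h4)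

theorem dvd_PP_pow (hF : Fintype.card F = 2) (n : ℕ) :
    ∀ k : ℕ, k ≤ n → ∀ χ : F[X], χ ≠ 0 → χ.natDegree ≤ k → χ ∣ PP F n ^ k := by
  intro k
  induction k with
  | zero =>
    intro _ χ h0 hdeg
    have : IsUnit χ := by
      rw [Polynomial.isUnit_iff_degree_eq_zero, degree_eq_natDegree h0]
      have : χ.natDegree = 0 := by omega
      simp [this]
    exact this.dvd
  | succ k ih =>
    intro hk χ h0 hdeg
    by_cases hu : IsUnit χ
    · exact hu.dvd
    obtain ⟨f, hf, hfd⟩ := WfDvdMonoid.exists_irreducible_factor hu h0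
    obtain ⟨χ', rfl⟩ := hfd
    have hf0 : f ≠ 0 := hf.ne_zero
    have hχ'0 : χ' ≠ 0 := right_ne_zero_of_mul h0
    have hdeg' : (f * χ').natDegree = f.natDegree + χ'.natDegree := natDegree_mul hf0 hχ'0
    have hf1 := hf.natDegree_pos
    have h1 : f ∣ PP F n := irr_dvd_PP hF n f hf (by omega)
    have h2 : χ' ∣ PP F n ^ k := ih (by omega) χ' hχ'0 (by omega)
    rw [pow_succ']
    exact mul_dvd_mul h1 h2

theorem charTwo_of_card (hF : Fintype.card F = 2) : CharP F 2 := by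
  apply CharTwo.of_one_ne_zero_of_two_eq_zero one_ne_zero
  have := Nat.cast_card_eq_zero F
  rw [hF] at this
  exact_mod_cast this

theorem matrix_pow_eq_one (hF : Fintype.card F = 2) (n : ℕ) (hn : 1 ≤ n)
    (g : Matrix (Fin n) (Fin n) F) (hg : IsUnit g) : g ^ (N0 n * 2 ^ n) = 1 := by
  have hχ : g.charpoly ∣ PP F n ^ n :=
    dvd_PP_pow hF n n le_rfl g.charpoly (g.charpoly_monic.ne_zero)
      (by rw [Matrix.charpoly_natDegree_eq_dim]; simp)
  obtain ⟨q, hq⟩ := hχ
  have h0 : aeval g (PP F n ^ n) = 0 := by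
    rw [hq, map_mul, Matrix.aeval_self_charpoly, zero_mul]
  simp only [PP, map_pow, map_mul, aeval_X, map_sub, map_one] at h0
  have hcomm : Commute g (g ^ N0 n - 1) :=
    ((Commute.refl g).pow_right _).sub_right (Commute.one_right g)
  rw [hcomm.mul_pow] at h0
  have h1 : (g ^ N0 n - 1) ^ n = 0 := by
    obtain ⟨u, rfl⟩ := hg
    have h5 : (↑(u⁻¹ ^ n) : Matrix (Fin n) (Fin n) F) *
        ((↑u) ^ n * ((↑u) ^ N0 n - 1) ^ n) = 0 := by rw [h0, mul_zero]
    rwa [← mul_assoc, ← Units.val_pow_eq_pow_val, ← Units.val_mul, inv_pow, inv_mul_cancel,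
      Units.val_one, one_mul] at h5
  have h2 : (g ^ N0 n - 1) ^ 2 ^ n = 0 := pow_eq_zero_of_le (Nat.lt_two_pow_self).le h1
  have : Nonempty (Fin n) := ⟨⟨0, hn⟩⟩
  have : CharP F 2 := charTwo_of_card hF
  have : Fact (Nat.Prime 2) := ⟨Nat.prime_two⟩
  have h3 : (g ^ N0 n - 1) ^ 2 ^ n = (g ^ N0 n) ^ 2 ^ n - 1 := by
    rw [sub_pow_char_pow_of_commute 2 n (Commute.one_right _), one_pow]
  rw [h3, sub_eq_zero, ← pow_mul] at h2
  exact h2

end

end Cfsg.Agent.helper25.Pow2

namespace Cfsg.Agent.helper25.Pow2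

section
variable {F : Type*} [Field F] [Fintype F]

theorem charTwo_of_card2 (hF : Fintype.card F = 2) : CharP F 2 := by
  apply CharTwo.of_one_ne_zero_of_two_eq_zero one_ne_zero
  have := Nat.cast_card_eq_zero F
  rw [hF] at this
  exact_mod_cast this

theorem exists_singer (hF : Fintype.card F = 2) (n m : ℕ) (hm : 1 ≤ m) (hmn : m ≤ n) :
    ∃ M : Matrix (Fin n) (Fin n) F, orderOf M = 2 ^ m - 1 := by
  classical
  have : CharP F 2 := charTwo_of_card2 hF
  have : Fact (Nat.Prime 2) := ⟨Nat.prime_two⟩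
  have : NeZero m := ⟨by omega⟩
  let E := FiniteField.Extension F 2 m
  have : Fintype E := Fintype.ofFinite E
  have hcardE : Fintype.card E = 2 ^ m := by
    rw [Fintype.card_eq_nat_card, FiniteField.natCard_extension, Nat.card_eq_fintype_card, hF]
  obtain ⟨ζ, hζ⟩ := IsCyclic.exists_generator (α := Eˣ)
  have hordζ : orderOf ζ = 2 ^ m - 1 := by
    rw [orderOf_eq_card_of_forall_mem_zpowers hζ, Nat.card_eq_fintype_card, Fintype.card_units,
      hcardE]
  have hord0 : orderOf (ζ : E) = 2 ^ m - 1 := by rw [orderOf_units]; exact hordζ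
  let V := E × (Fin (n - m) → F)
  have hrank : Module.finrank F V = n := by
    rw [Module.finrank_prod, FiniteField.finrank_extension, Module.finrank_fin_fun]; omega
  let b : Module.Basis (Fin n) F V := Module.finBasisOfFinrankEq F V hrank
  let Φ : E →* Module.End F V :=
    { toFun := fun x => LinearMap.prodMap (LinearMap.mulLeft F x) LinearMap.id
      map_one' := by ext <;> simp
      map_mul' := fun x y => by ext <;> simp }
  have hΦ : Function.Injective Φ := by
    intro x y hxy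
    have h1 := congrArg (fun φ : Module.End F V => (φ (1, 0)).1) hxy
    have h2 : x * 1 = y * 1 := h1
    simpa using h2
  refine ⟨LinearMap.toMatrixAlgEquiv b (Φ ζ), ?_⟩
  rw [← hord0, ← orderOf_injective Φ hΦ]
  rw [orderOf_eq_orderOf_iff]
  intro j
  rw [← map_pow, EmbeddingLike.map_eq_one_iff]

end

end Cfsg.Agent.helper25.Pow2


namespace Cfsg.Agent.helper25.Pow2

section
variable {F : Type*} [Field F] [Fintype F]

theorem eq_zero_or_one_of_card (hF : Fintype.card F = 2) (r : F) : r = 0 ∨ r = 1 := by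
  classical
  have h : ({0, 1} : Finset F) = Finset.univ := by
    apply Finset.eq_univ_of_card
    rw [Finset.card_pair zero_ne_one, hF]
  have : r ∈ ({0, 1} : Finset F) := by rw [h]; exact Finset.mem_univ r
  simpa using this

theorem center_eq_bot (hF : Fintype.card F = 2) (n : ℕ) (hn : 1 ≤ n) :
    Subgroup.center (Matrix.SpecialLinearGroup (Fin n) F) = ⊥ := by
  rw [eq_bot_iff]
  intro A hA
  rw [Matrix.SpecialLinearGroup.mem_center_iff] at hA
  obtain ⟨r, hr, hA⟩ := hA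
  rw [Subgroup.mem_bot]
  rcases eq_zero_or_one_of_card hF r with rfl | rfl
  · rw [Fintype.card_fin, zero_pow (by omega)] at hr
    exact absurd hr zero_ne_one
  · apply Subtype.ext
    rw [← hA]
    simp

theorem mk_injective (hF : Fintype.card F = 2) (n : ℕ) (hn : 1 ≤ n) :
    Function.Injective (QuotientGroup.mk' (Subgroup.center (Matrix.SpecialLinearGroup (Fin n) F))) := by
  rw [← MonoidHom.ker_eq_bot_iff, QuotientGroup.ker_mk', center_eq_bot hF n hn]

theorem hA_PSL (hF : Fintype.card F = 2) (n : ℕ) (hn : 1 ≤ n)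
    (u : Matrix.ProjectiveSpecialLinearGroup (Fin n) F) (p j : ℕ) (hp : p.Prime) (hp2 : p ≠ 2)
    (hj : 0 < j) (h : p ^ j ∣ orderOf u) : ∃ m, 1 ≤ m ∧ m ≤ n ∧ p ^ j ∣ 2 ^ m - 1 := by
  obtain ⟨g, rfl⟩ := QuotientGroup.mk_surjective u
  have hunit : IsUnit (g : Matrix (Fin n) (Fin n) F) := by
    rw [Matrix.isUnit_iff_isUnit_det, g.det_coe]
    exact isUnit_one
  have h1 := matrix_pow_eq_one hF n hn _ hunit
  have h2 : g ^ (N0 n * 2 ^ n) = 1 := by
    apply Subtype.ext
    rw [Matrix.SpecialLinearGroup.coe_pow, h1]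
    rfl
  have h3 : ((g : Matrix.ProjectiveSpecialLinearGroup (Fin n) F)) ^ (N0 n * 2 ^ n) = 1 := by
    rw [← QuotientGroup.mk_pow, h2]
    rfl
  have h4 : p ^ j ∣ N0 n * 2 ^ n := h.trans (orderOf_dvd_of_pow_eq_one h3)
  have hcop : Nat.Coprime (p ^ j) (2 ^ n) := by
    apply Nat.Coprime.pow
    exact (Nat.coprime_primes hp Nat.prime_two).2 hp2
  have h5 : p ^ j ∣ N0 n := hcop.dvd_of_dvd_mul_right h4
  obtain ⟨m, hm, hdvd⟩ := pp_dvd_lcm (Finset.Icc 1 n) (fun m => 2 ^ m - 1)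
    (fun i hi => two_pow_sub_one_ne_zero (Finset.mem_Icc.1 hi).1) hp hj h5
  exact ⟨m, (Finset.mem_Icc.1 hm).1, (Finset.mem_Icc.1 hm).2, hdvd⟩

theorem hB_PSL (hF : Fintype.card F = 2) (n : ℕ) (hn : 1 ≤ n) (m : ℕ) (hm : 1 ≤ m) (hmn : m ≤ n) :
    ∃ u : Matrix.ProjectiveSpecialLinearGroup (Fin n) F, orderOf u = 2 ^ m - 1 := by
  obtain ⟨M, hM⟩ := exists_singer hF n m hm hmn
  have hpow : M ^ (2 ^ m - 1) = 1 := by rw [← hM]; exact pow_orderOf_eq_one M
  have hdet0 : M.det ≠ 0 := by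
    intro h0
    have := congrArg Matrix.det hpow
    rw [Matrix.det_pow, h0, zero_pow (two_pow_sub_one_ne_zero hm), Matrix.det_one] at this
    exact zero_ne_one this
  have hdet : M.det = 1 := (eq_zero_or_one_of_card hF _).resolve_left hdet0
  let g : Matrix.SpecialLinearGroup (Fin n) F := ⟨M, hdet⟩
  have hg : orderOf g = orderOf M := by
    rw [orderOf_eq_orderOf_iff]
    intro j
    constructor
    · intro h
      have := congrArg (fun a : Matrix.SpecialLinearGroup (Fin n) F => (a : Matrix (Fin n) (Fin n) F)) h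
      simpa [Matrix.SpecialLinearGroup.coe_pow] using this
    · intro h
      apply Subtype.ext
      rw [Matrix.SpecialLinearGroup.coe_pow]
      exact h
  refine ⟨QuotientGroup.mk' _ g, ?_⟩
  rw [orderOf_injective _ (mk_injective hF n hn), hg, hM]

end

end Cfsg.Agent.helper25.Pow2
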