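import Cfsg.Agent.Lib_helper25_Frat4

set_option autoImplicit false
set_option linter.style.haveILetI false
set_option linter.unusedVariables false
set_option maxHeartbeats 1000000

namespace Cfsg.Agent.helper25

open Cfsg Cfsg.FusionSystem

variable {Ω : Type*} [Group Ω] {S : Subgroup Ω}

theorem autMap_mul {T : Subgroup Ω} (β α : MulAut T) (P : Subgroup Ω) :
    helper26.autMap (β * α) P = helper26.autMap β (helper26.autMap α P) := by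
  ext y
  rw [helper26.mem_autMap, helper26.mem_autMap]
  constructor
  · rintro ⟨t, ht, rfl⟩
    exact ⟨α t, (helper26.mem_autMap _ _ _).mpr ⟨t, ht, rfl⟩, rfl⟩
  · rintro ⟨s, hs, rfl⟩
    obtain ⟨t, ht, hts⟩ := (helper26.mem_autMap _ _ _).mp hs
    have h1 : s = α t := Subtype.ext hts.symm
    exact ⟨t, ht, by rw [h1]; rfl⟩

theorem mem_autMap_of_mem {T : Subgroup Ω} (β : MulAut T) {P : Subgroup Ω} (t : T)
    (ht : (t : Ω) ∈ P) : ((β t : T) : Ω) ∈ helper26.autMap β P :=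
  (helper26.mem_autMap _ _ _).mpr ⟨t, ht, rfl⟩

/-- `χ` is the transport of `φ` along the automorphism `β` of `T`. -/
def IsTransport {T : Subgroup Ω} (β : MulAut T) {P : Subgroup Ω} (φ : P →* Ω)
    (χ : helper26.autMap β P →* Ω) : Prop :=
  ∀ (y : helper26.autMap β P) (t : T) (ht : (t : Ω) ∈ P) (hφt : φ ⟨t, ht⟩ ∈ T),
    ((β t : T) : Ω) = y → χ y = ((β ⟨φ ⟨t, ht⟩, hφt⟩ : T) : Ω)

/-- the largest subsystem of `E` invariant under `Aut_F(S)`. -/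
def coreSystem (E F : FusionSystem S) : FusionSystem S where
  Hom P := {φ | φ ∈ E.Hom P ∧ ∀ β ∈ F.autGroup S, ∃ χ ∈ E.Hom (helper26.autMap β P),
    IsTransport β φ χ}
  le_of_mem := fun h => E.le_of_mem h.1
  injective_of_mem := fun h => E.injective_of_mem h.1
  conj_mem := by
    intro P g hP hg
    refine ⟨E.conj_mem hP hg, fun β hβ => ?_⟩
    refine ⟨conjHom _ ((β ⟨g, hg⟩ : S) : Ω), E.conj_mem (helper26.autMap_le β P) (β ⟨g, hg⟩).2, ?_⟩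
    intro y t ht hφt hy
    show ((β ⟨g, hg⟩ : S) : Ω) * (y : Ω) * ((β ⟨g, hg⟩ : S) : Ω)⁻¹ = _
    have h1 : (⟨(conjHom P g) ⟨t, ht⟩, hφt⟩ : S) = ⟨g, hg⟩ * t * ⟨g, hg⟩⁻¹ := Subtype.ext rfl
    rw [h1, map_mul, map_mul, map_inv, ← hy]
    rfl
  comp_mem := by
    rintro P Q φ ψ ⟨hφ, hφc⟩ ⟨hψ, hψc⟩ h
    refine ⟨E.comp_mem hφ hψ h, fun β hβ => ?_⟩
    obtain ⟨χφ, hχφ, htrφ⟩ := hφc β hβ
    obtain ⟨χψ, hχψ, htrψ⟩ := hψc β hβ
    have hφS : ∀ x, φ x ∈ S := (E.le_of_mem hφ).2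
    have hψS : ∀ x, ψ x ∈ S := (E.le_of_mem hψ).2
    have hmem : ∀ y, χφ y ∈ helper26.autMap β Q := by
      intro y
      obtain ⟨t, ht, hty⟩ := (helper26.mem_autMap _ _ _).mp y.2
      rw [htrφ y t ht (hφS _) hty]
      exact mem_autMap_of_mem β _ (h ⟨t, ht⟩)
    refine ⟨χψ.comp (χφ.codRestrict _ hmem), E.comp_mem hχφ hχψ hmem, ?_⟩
    intro y t ht hφt hy
    have h1 := htrφ y t ht (hφS _) hy
    exact htrψ ⟨χφ y, hmem y⟩ ⟨φ ⟨t, ht⟩, hφS _⟩ (h ⟨t, ht⟩) hφt h1.symm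
  inv_mem := by
    rintro P φ ⟨hφ, hφc⟩
    have hPS : P ≤ S := (E.le_of_mem hφ).1
    have hφS : ∀ x, φ x ∈ S := (E.le_of_mem hφ).2
    obtain ⟨ψ, hψ, hψφ⟩ := E.inv_mem hφ
    refine ⟨ψ, ⟨hψ, fun β hβ => ?_⟩, hψφ⟩
    obtain ⟨χ, hχ, htr⟩ := hφc β hβ
    have hr : χ.range = helper26.autMap β φ.range := by
      ext z; constructor
      · rintro ⟨y, rfl⟩
        obtain ⟨t, ht, hty⟩ := (helper26.mem_autMap _ _ _).mp y.2
        rw [htr y t ht (hφS _) hty]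
        exact mem_autMap_of_mem β _ ⟨⟨t, ht⟩, rfl⟩
      · intro hz
        obtain ⟨s, ⟨x, hx⟩, hsz⟩ := (helper26.mem_autMap _ _ _).mp hz
        refine ⟨⟨((β ⟨x, hPS x.2⟩ : S) : Ω), mem_autMap_of_mem β ⟨x, hPS x.2⟩ x.2⟩, ?_⟩
        rw [htr _ ⟨x, hPS x.2⟩ x.2 (hφS _) rfl, ← hsz]
        congr 2
        exact Subtype.ext hx
    obtain ⟨χ', hχ', -, hχ'χ, -⟩ := exists_inv_hom E hχ hr
    refine ⟨χ', hχ', ?_⟩
    rintro z s ⟨x, hx⟩ hψs hz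
    have h1 : χ ⟨((β ⟨x, hPS x.2⟩ : S) : Ω), mem_autMap_of_mem β ⟨x, hPS x.2⟩ x.2⟩ = z := by
      rw [htr _ ⟨x, hPS x.2⟩ x.2 (hφS _) rfl, ← hz]
      congr 2
      exact Subtype.ext hx
    have h2 := hχ'χ ⟨((β ⟨x, hPS x.2⟩ : S) : Ω), mem_autMap_of_mem β ⟨x, hPS x.2⟩ x.2⟩
      (by rw [h1]; exact z.2)
    have h3 : (⟨χ ⟨((β ⟨x, hPS x.2⟩ : S) : Ω), mem_autMap_of_mem β ⟨x, hPS x.2⟩ x.2⟩,
        by rw [h1]; exact z.2⟩ : helper26.autMap β φ.range) = z := Subtype.ext h1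
    rw [h3] at h2
    rw [h2]
    have h4 : (⟨s, ⟨x, hx⟩⟩ : φ.range) = ⟨φ x, ⟨x, rfl⟩⟩ := Subtype.ext hx.symm
    have h5 : (⟨ψ ⟨s, ⟨x, hx⟩⟩, hψs⟩ : S) = ⟨x, hPS x.2⟩ := by
      apply Subtype.ext
      show ψ ⟨s, ⟨x, hx⟩⟩ = x
      rw [h4, hψφ x]
    rw [h5]

theorem coreSystem_le (E F : FusionSystem S) (P : Subgroup Ω) :
    (coreSystem E F).Hom P ⊆ E.Hom P := fun φ h => h.1

/-- the core is invariant under `Aut_F(S)`. -/
theorem coreSystem_autInv (E F : FusionSystem S) : AutInv (coreSystem E F) F := by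
  intro P hPS φ hφ α hα
  obtain ⟨χ, hχ, htr⟩ := hφ.2 α hα
  have hφS : ∀ x, φ x ∈ S := (E.le_of_mem hφ.1).2
  refine ⟨χ, ⟨hχ, fun β hβ => ?_⟩, ?_⟩
  · obtain ⟨χ'', hχ'', htr''⟩ := hφ.2 (β * α) (mul_mem hβ hα)
    have heq := autMap_mul β α P
    refine ⟨χ''.comp (Subgroup.inclusion heq.ge), hom_congr E heq hχ'', ?_⟩
    intro z s hs hχs hz
    obtain ⟨t, ht, hts⟩ := (helper26.mem_autMap _ _ _).mp hs
    have h1 : s = α t := Subtype.ext hts.symm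
    have h2 := htr'' (Subgroup.inclusion heq.ge z) t ht (hφS _) (by
      show ((β (α t) : S) : Ω) = z
      rw [← h1]; exact hz)
    show χ'' (Subgroup.inclusion heq.ge z) = _
    rw [h2]
    show ((β (α ⟨φ ⟨t, ht⟩, hφS _⟩) : S) : Ω) = ((β ⟨χ ⟨s, hs⟩, hχs⟩ : S) : Ω)
    congr 2
    apply Subtype.ext
    exact (htr ⟨s, hs⟩ t ht (hφS _) hts).symm
  · intro x hφx hαx
    exact htr ⟨_, hαx⟩ ⟨x, hPS x.2⟩ x.2 hφx rfl

end Cfsg.Agent.helper25
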