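import Cfsg.Agent.Lib_helper25_SatEquiv

set_option autoImplicit false
set_option linter.style.haveILetI false
set_option linter.unusedVariables false

namespace Cfsg.Agent.helper25

open Cfsg Cfsg.FusionSystem

variable {Ω : Type*} [Group Ω] {S : Subgroup Ω}

/-- the source of a map lies in its extender. -/
theorem le_extender (F : FusionSystem S) {R : Subgroup Ω} {χ : R →* Ω} (hχ : χ ∈ F.Hom R) :
    R ≤ extender S R χ := by
  intro q hq
  apply Subgroup.subset_closure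
  refine ⟨(F.le_of_mem hχ).1 hq, Subgroup.le_normalizer hq, χ ⟨q, hq⟩, (F.le_of_mem hχ).2 _, ?_⟩
  intro x hx
  have e : (⟨q * (x : Ω) * q⁻¹, hx⟩ : R) = ⟨q, hq⟩ * x * ⟨q, hq⟩⁻¹ := rfl
  rw [e, map_mul, map_mul, map_inv]

theorem extender_le (S R : Subgroup Ω) (χ : R →* Ω) : extender S R χ ≤ normalizerIn S R := by
  unfold extender; rw [Subgroup.closure_le]; intro g hg; exact ⟨hg.1, hg.2.1⟩

/-- for a generator `g` of the extender, an element `h` inducing the transported action normalizes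
the image. -/
theorem gen_normalizes {R P : Subgroup Ω} {χ : R →* Ω} (hr : χ.range = P) {g h : Ω}
    (hgN : g ∈ Subgroup.normalizer (R : Set Ω))
    (hh : ∀ (x : R) (hx : g * (x : Ω) * g⁻¹ ∈ R), χ ⟨g * x * g⁻¹, hx⟩ = h * χ x * h⁻¹) :
    h ∈ Subgroup.normalizer (P : Set Ω) := by
  subst hr
  rw [Subgroup.mem_normalizer_iff]
  intro y
  constructor
  · rintro ⟨x, rfl⟩
    have hx : g * (x : Ω) * g⁻¹ ∈ R := (Subgroup.mem_normalizer_iff.mp hgN x).mp x.2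
    rw [← hh x hx]; exact ⟨_, rfl⟩
  · rintro ⟨x, hx⟩
    have hx' : g⁻¹ * (x : Ω) * g ∈ R := by
      have := (Subgroup.mem_normalizer_iff.mp (inv_mem hgN) x).mp x.2
      rwa [inv_inv] at this
    have hx'' : g * (g⁻¹ * (x : Ω) * g) * g⁻¹ ∈ R := by
      have e : g * (g⁻¹ * (x : Ω) * g) * g⁻¹ = x := by group
      rw [e]; exact x.2
    have h1 := hh ⟨g⁻¹ * x * g, hx'⟩ hx''
    have h2 : (⟨g * (g⁻¹ * (x : Ω) * g) * g⁻¹, hx''⟩ : R) = x := Subtype.ext (by group)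
    rw [h2, hx] at h1
    have h3 : y = χ ⟨g⁻¹ * x * g, hx'⟩ := mul_left_cancel (mul_right_cancel h1)
    rw [h3]; exact ⟨_, rfl⟩

/-- in a saturated system a fully centralized subgroup is receptive. -/
theorem receptive_of_fullyCentralized [Finite S] {p : ℕ} [Fact p.Prime] (hS : IsPGroup p S)
    (F : FusionSystem S) (hF : F.IsSaturated p) {P : Subgroup Ω} (hP : F.IsFullyCentralized P) :
    F.IsReceptive P := by
  obtain ⟨hPS, hPc⟩ := hP
  obtain ⟨Q, hPQ, hQ₁, hQ₂⟩ := hF P hPS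
  obtain ⟨φ, hφ, hφN, hφP⟩ := exists_normalizer_hom hS F hQ₁ hQ₂ hPQ
  have hQS : Q ≤ S := hQ₁.1
  have hinjφ := F.injective_of_mem hφ
  have hCN : centralizerIn S P ≤ normalizerIn S P :=
    inf_le_inf_left S (Subgroup.centralizer_le_normalizer _)
  have hφC : ∀ c : centralizerIn S P, φ ⟨c, hCN c.2⟩ ∈ centralizerIn S Q := by
    intro c
    refine ⟨(F.le_of_mem hφ).2 _, Subgroup.mem_centralizer_iff.mpr ?_⟩
    intro y hy
    rw [← hφP] at hy
    obtain ⟨x, hx, rfl⟩ := hy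
    have hxP : (x : Ω) ∈ P := Subgroup.mem_subgroupOf.mp hx
    have hcomm : (x : Ω) * c = c * x := Subgroup.mem_centralizer_iff.mp c.2.2 _ hxP
    rw [← map_mul, ← map_mul]
    congr 1
    exact Subtype.ext hcomm
  have hsurjC : ∀ d ∈ centralizerIn S Q, ∃ c : centralizerIn S P, φ ⟨c, hCN c.2⟩ = d := by
    haveI : Finite (centralizerIn S Q) := finite_of_le S inf_le_left
    haveI : Finite (centralizerIn S P) := finite_of_le S inf_le_left
    let f : centralizerIn S P → centralizerIn S Q := fun c => ⟨φ ⟨c, hCN c.2⟩, hφC c⟩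
    have hf : Function.Injective f := by
      intro a b hab
      have h1 : φ ⟨a, hCN a.2⟩ = φ ⟨b, hCN b.2⟩ := congrArg Subtype.val hab
      have h2 := hinjφ h1
      exact Subtype.ext (congrArg (fun z : normalizerIn S P => (z : Ω)) h2)
    have hcard : Nat.card (centralizerIn S Q) ≤ Nat.card (centralizerIn S P) := hPc Q hPQ
    have hbij : Function.Bijective f :=
      (Nat.bijective_iff_injective_and_card f).mpr
        ⟨hf, le_antisymm (Nat.card_le_card_of_injective f hf) hcard⟩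
    intro d hd
    obtain ⟨c, hc⟩ := hbij.2 ⟨d, hd⟩
    exact ⟨c, congrArg Subtype.val hc⟩
  refine ⟨hPS, ?_⟩
  intro R χ hχ hχr
  have hRS : R ≤ S := (F.le_of_mem hχ).1
  have hχP : ∀ x : R, χ x ∈ P := fun x => hχr ▸ ⟨x, rfl⟩
  have hχN : ∀ x : R, χ x ∈ normalizerIn S P := fun x => le_normalizerIn hPS (hχP x)
  have hχ' : φ.comp (χ.codRestrict (normalizerIn S P) hχN) ∈ F.Hom R := F.comp_mem hχ hφ hχN
  have hχ'r : (φ.comp (χ.codRestrict (normalizerIn S P) hχN)).range = Q := by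
    rw [← hφP]
    ext y; constructor
    · rintro ⟨x, rfl⟩
      exact ⟨⟨χ x, hχN x⟩, Subgroup.mem_subgroupOf.mpr (hχP x), rfl⟩
    · rintro ⟨z, hz, rfl⟩
      have hzP : (z : Ω) ∈ P := Subgroup.mem_subgroupOf.mp hz
      have hzP' : (z : Ω) ∈ χ.range := by rw [hχr]; exact hzP
      obtain ⟨x, hx⟩ := hzP'
      refine ⟨x, ?_⟩
      show φ ⟨χ x, hχN x⟩ = φ z
      congr 1
      exact Subtype.ext hx
  have hχ'conj : ∀ (g h : Ω) (hhN : h ∈ normalizerIn S P) (x : R) (hx : g * (x : Ω) * g⁻¹ ∈ R),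
      χ ⟨g * x * g⁻¹, hx⟩ = h * χ x * h⁻¹ →
      (φ.comp (χ.codRestrict (normalizerIn S P) hχN)) ⟨g * x * g⁻¹, hx⟩ =
        φ ⟨h, hhN⟩ * (φ.comp (χ.codRestrict (normalizerIn S P) hχN)) x * (φ ⟨h, hhN⟩)⁻¹ := by
    intro g h hhN x hx hh
    show φ ⟨χ ⟨g * x * g⁻¹, hx⟩, _⟩ = φ ⟨h, hhN⟩ * φ ⟨χ x, _⟩ * (φ ⟨h, hhN⟩)⁻¹
    rw [← map_inv, ← map_mul, ← map_mul]
    congr 1
    exact Subtype.ext hh
  have hext_le : extender S R χ ≤
      extender S R (φ.comp (χ.codRestrict (normalizerIn S P) hχN)) := by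
    unfold extender
    apply Subgroup.closure_mono
    rintro g ⟨hgS, hgN, h, hhS, hh⟩
    have hhN : h ∈ normalizerIn S P := ⟨hhS, gen_normalizes hχr hgN hh⟩
    refine ⟨hgS, hgN, φ ⟨h, hhN⟩, (F.le_of_mem hφ).2 _, ?_⟩
    intro x hx
    exact hχ'conj g h hhN x hx (hh x hx)
  obtain ⟨ρ, hρ, hρχ⟩ := hQ₂.2 R _ hχ' hχ'r
  have hρ₁ : ρ.comp (Subgroup.inclusion hext_le) ∈ F.Hom (extender S R χ) :=
    restrict_mem F hext_le hρ
  have hRext : R ≤ extender S R χ := le_extender F hχ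
  have hK : extender S R χ ≤ ((φ.range).comap ρ).map
      (extender S R (φ.comp (χ.codRestrict (normalizerIn S P) hχN))).subtype := by
    have hgens : ∀ g : Ω, (g ∈ S ∧ g ∈ Subgroup.normalizer (R : Set Ω) ∧
        ∃ h ∈ S, ∀ (x : R) (hx : g * (x : Ω) * g⁻¹ ∈ R), χ ⟨g * x * g⁻¹, hx⟩ = h * χ x * h⁻¹) →
        g ∈ ((φ.range).comap ρ).map
          (extender S R (φ.comp (χ.codRestrict (normalizerIn S P) hχN))).subtype := by
      rintro g ⟨hgS, hgN, h, hhS, hh⟩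
      have hg : g ∈ extender S R χ := Subgroup.subset_closure ⟨hgS, hgN, h, hhS, hh⟩
      have hg' := hext_le hg
      have hhN : h ∈ normalizerIn S P := ⟨hhS, gen_normalizes hχr hgN hh⟩
      refine ⟨⟨g, hg'⟩, Subgroup.mem_comap.mpr ?_, rfl⟩
      have hc : (φ ⟨h, hhN⟩)⁻¹ * ρ ⟨g, hg'⟩ ∈ centralizerIn S Q := by
        refine ⟨S.mul_mem (S.inv_mem ((F.le_of_mem hφ).2 _)) ((F.le_of_mem hρ).2 _),
          Subgroup.mem_centralizer_iff.mpr ?_⟩
        intro y hy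
        rw [← hχ'r] at hy
        obtain ⟨x, rfl⟩ := hy
        have hx : g * (x : Ω) * g⁻¹ ∈ R := (Subgroup.mem_normalizer_iff.mp hgN x).mp x.2
        have hxe' := hext_le (hRext x.2)
        have h1 : ρ ⟨x, hxe'⟩ = (φ.comp (χ.codRestrict (normalizerIn S P) hχN)) x :=
          hρχ x x.2 hxe'
        have hgxe' := hext_le (hRext hx)
        have h2 : ρ ⟨g * x * g⁻¹, hgxe'⟩ =
            (φ.comp (χ.codRestrict (normalizerIn S P) hχN)) ⟨g * x * g⁻¹, hx⟩ :=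
          hρχ _ hx hgxe'
        have h3 : (⟨g * (x : Ω) * g⁻¹, hgxe'⟩ :
            extender S R (φ.comp (χ.codRestrict (normalizerIn S P) hχN))) =
            ⟨g, hg'⟩ * ⟨x, hxe'⟩ * ⟨g, hg'⟩⁻¹ := rfl
        rw [h3, map_mul, map_mul, map_inv, h1, hχ'conj g h hhN x hx (hh x hx)] at h2
        -- h2 : ρg * y * ρg⁻¹ = φh * y * φh⁻¹
        have h4 : ρ ⟨g, hg'⟩ * (φ.comp (χ.codRestrict (normalizerIn S P) hχN)) x =
            φ ⟨h, hhN⟩ * (φ.comp (χ.codRestrict (normalizerIn S P) hχN)) x * (φ ⟨h, hhN⟩)⁻¹ *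
              ρ ⟨g, hg'⟩ := by
          rw [← h2]; group
        rw [mul_assoc ((φ ⟨h, hhN⟩)⁻¹), h4]
        group
      obtain ⟨c₀, hc₀⟩ := hsurjC _ hc
      have h5 : ρ ⟨g, hg'⟩ = φ (⟨h, hhN⟩ * ⟨c₀, hCN c₀.2⟩) := by
        rw [map_mul, hc₀]; group
      rw [h5]
      exact ⟨_, rfl⟩
    unfold extender
    rw [Subgroup.closure_le]
    intro g hg
    exact hgens g hg
  have hval : ∀ z : extender S R χ, (ρ.comp (Subgroup.inclusion hext_le)) z ∈ φ.range := by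
    intro z
    obtain ⟨z', hz', he⟩ := hK z.2
    have e : Subgroup.inclusion hext_le z = z' := Subtype.ext he.symm
    show ρ (Subgroup.inclusion hext_le z) ∈ φ.range
    rw [e]
    exact hz'
  obtain ⟨ψinv, hψinv, -, hψφ, -⟩ := exists_inv_hom F hφ rfl
  refine ⟨_, F.comp_mem hρ₁ hψinv hval, ?_⟩
  intro x hxR hxN
  show ψinv ⟨ρ ⟨x, hext_le hxN⟩, _⟩ = χ ⟨x, hxR⟩
  have h1 : ρ ⟨x, hext_le hxN⟩ = φ ⟨χ ⟨x, hxR⟩, hχN _⟩ := hρχ x hxR (hext_le hxN)
  have h2 : (⟨ρ ⟨x, hext_le hxN⟩, hval ⟨x, hxN⟩⟩ : φ.range) =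
      ⟨φ ⟨χ ⟨x, hxR⟩, hχN _⟩, ⟨_, rfl⟩⟩ := Subtype.ext h1
  rw [h2]
  exact hψφ _ _

/-- equivalence of the two definitions of saturation. -/
theorem isSaturated_iff [Finite S] {p : ℕ} [Fact p.Prime] (hS : IsPGroup p S)
    (F : FusionSystem S) :
    F.IsSaturated p ↔ ((∀ P : Subgroup Ω, F.IsFullyNormalized P →
        F.IsFullyCentralized P ∧ F.IsFullyAutomized p P) ∧
      (∀ P : Subgroup Ω, F.IsFullyCentralized P → F.IsReceptive P)) := by
  constructor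
  · intro hF
    exact ⟨fun P hP => fullyNormalized_imp hS F hF hP,
      fun P hP => receptive_of_fullyCentralized hS F hF hP⟩
  · rintro ⟨h1, h2⟩ P hP
    obtain ⟨Q, hPQ, hQ⟩ := exists_fullyNormalized_conj F hP
    obtain ⟨hQc, hQa⟩ := h1 Q hQ
    exact ⟨Q, hPQ, hQa, h2 Q hQc⟩

end Cfsg.Agent.helper25
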