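import Mathlib

set_option autoImplicit false

namespace Cfsg.Agent.helper26

open scoped IsMulCommutative

section coprime

variable {M : Type*} [Group M] [IsMulCommutative M] [Finite M]

/-- the fixed points of a group of automorphisms -/
def fixedPts (G : Subgroup (MulAut M)) : Subgroup M where
  carrier := {m | ∀ g ∈ G, g m = m}
  mul_mem' {a b} ha hb := fun g hg => by rw [map_mul, ha g hg, hb g hg]
  one_mem' := fun g _ => map_one g
  inv_mem' {a} ha := fun g hg => by rw [map_inv, ha g hg]

/-- the commutator `[M, G]` -/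
def commPts (G : Subgroup (MulAut M)) : Subgroup M :=
  Subgroup.closure {y | ∃ g ∈ G, ∃ m : M, y = m⁻¹ * g m}

theorem coprime_decomp (G : Subgroup (MulAut M)) (hcop : (Nat.card G).Coprime (Nat.card M)) :
    fixedPts G ⊓ commPts G = ⊥ ∧ fixedPts G ⊔ commPts G = ⊤ := by
  classical
  haveI : Fintype G := Fintype.ofFinite G
  set n := Nat.card G with hn
  have hncard : Fintype.card G = n := by rw [hn, Nat.card_eq_fintype_card]
  let N : M → M := fun m => ∏ g : G, (g : MulAut M) m
  have hNmul : ∀ a b, N (a * b) = N a * N b := by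
    intro a b
    show ∏ g : G, (g : MulAut M) (a * b) = (∏ g : G, (g : MulAut M) a) * ∏ g : G, (g : MulAut M) b
    rw [← Finset.prod_mul_distrib]
    apply Finset.prod_congr rfl
    intro g _
    exact map_mul _ _ _
  have hN1 : N 1 = 1 := by
    show ∏ g : G, (g : MulAut M) 1 = 1
    apply Finset.prod_eq_one
    intro g _
    exact map_one _
  have hNinv : ∀ a, N a⁻¹ = (N a)⁻¹ := by
    intro a
    rw [eq_inv_iff_mul_eq_one, ← hNmul, inv_mul_cancel, hN1]
  have hNfix : ∀ h ∈ G, ∀ m, h (N m) = N m := by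
    intro h hh m
    show h (∏ g : G, (g : MulAut M) m) = ∏ g : G, (g : MulAut M) m
    rw [map_prod]
    exact Fintype.prod_equiv (Equiv.mulLeft (⟨h, hh⟩ : G)) _ _ (fun g => rfl)
  have hNg : ∀ h ∈ G, ∀ m, N (h m) = N m := by
    intro h hh m
    show ∏ g : G, (g : MulAut M) (h m) = ∏ g : G, (g : MulAut M) m
    exact Fintype.prod_equiv (Equiv.mulRight (⟨h, hh⟩ : G)) _ _ (fun g => rfl)
  have hNdecomp : ∀ m, N m = m ^ n * ∏ g : G, (m⁻¹ * (g : MulAut M) m) := by
    intro m
    rw [Finset.prod_mul_distrib, Finset.prod_const, Finset.card_univ, hncard, inv_pow,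
      mul_inv_cancel_left]
  have hNC : ∀ c ∈ fixedPts G, N c = c ^ n := by
    intro c hc
    show ∏ g : G, (g : MulAut M) c = c ^ n
    rw [← hncard, ← Finset.card_univ, ← Finset.prod_const]
    apply Finset.prod_congr rfl
    intro g _
    exact hc g g.2
  have hNK : ∀ k ∈ commPts G, N k = 1 := by
    intro k hk
    induction hk using Subgroup.closure_induction with
    | mem y hy =>
      obtain ⟨g, hg, m, rfl⟩ := hy
      rw [hNmul, hNinv, hNg g hg, inv_mul_cancel]
    | one => exact hN1
    | mul x y _ _ hx hy => rw [hNmul, hx, hy, one_mul]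
    | inv x _ hx => rw [hNinv, hx, inv_one]
  have hpow_inj : ∀ a : M, a ^ n = 1 → a = 1 := by
    intro a ha
    have := (powCoprime hcop.symm).injective (a₁ := a) (a₂ := 1)
    apply this
    simp [ha]
  constructor
  · rw [eq_bot_iff]
    rintro c ⟨hcC, hcK⟩
    rw [Subgroup.mem_bot]
    apply hpow_inj
    rw [← hNC c hcC]
    exact hNK c hcK
  · rw [eq_top_iff]
    intro m _
    obtain ⟨m', rfl⟩ : ∃ m', m' ^ n = m := (powCoprime hcop.symm).surjective m
    have h1 : m' ^ n = N m' * (∏ g : G, (m'⁻¹ * (g : MulAut M) m'))⁻¹ := by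
      rw [hNdecomp m', mul_inv_cancel_right]
    rw [h1]
    apply Subgroup.mul_mem_sup
    · exact fun g hg => hNfix g hg m'
    · apply Subgroup.inv_mem
      apply Subgroup.prod_mem
      intro g _
      exact Subgroup.subset_closure ⟨g, g.2, m', rfl⟩

end coprime

end Cfsg.Agent.helper26
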