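import Mathlib
import Cfsg.Prelude.Def_FusionSystem
import Cfsg.Agent.Lib_helper26_Fusion
import Cfsg.Agent.Lib_helper26_Coprime

set_option autoImplicit false

namespace Cfsg.Agent.helper26

open Cfsg Cfsg.FusionSystem

variable {Ω : Type*} [Group Ω] {S : Subgroup Ω}

/-- membership in `Aut_F(P)` for `P ≤ S` finite -/
theorem mem_autGroup_iff (F : FusionSystem S) {P : Subgroup Ω} [Finite P] (hP : P ≤ S) (α : MulAut P) :
    α ∈ F.autGroup P ↔ P.subtype.comp α.toMonoidHom ∈ F.Hom P := by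
  constructor
  · intro hα
    unfold FusionSystem.autGroup at hα
    induction hα using Subgroup.closure_induction with
    | mem x hx => exact hx
    | one =>
      have : P.subtype.comp (1 : MulAut P).toMonoidHom = conjHom P 1 := by
        ext x
        show (x : Ω) = 1 * x * 1⁻¹
        simp
      rw [this]
      exact F.conj_mem hP S.one_mem
    | mul x y _ _ hx hy =>
      have h : ∀ z : P, (P.subtype.comp y.toMonoidHom) z ∈ P := fun z => (y z).2
      have hc := F.comp_mem hy hx h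
      convert hc using 1
      ext z
      rfl
    | inv x _ hx =>
      obtain ⟨ψ, hψ, hψ'⟩ := F.inv_mem hx
      have hr : (P.subtype.comp x.toMonoidHom).range = P := by
        ext y
        constructor
        · rintro ⟨z, rfl⟩
          exact (x z).2
        · intro hy
          exact ⟨x.symm ⟨y, hy⟩, by simp⟩
      obtain ⟨ψ', hψ'm, hψ''⟩ := hom_of_eq F hr ψ hψ
      have : P.subtype.comp (x⁻¹ : MulAut P).toMonoidHom = ψ' := by
        ext y
        have hy : (y : Ω) ∈ (P.subtype.comp x.toMonoidHom).range := by rw [hr]; exact y.2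
        rw [show ψ' y = ψ' ⟨(y : Ω), y.2⟩ from rfl, hψ'' y hy y.2]
        have h2 := hψ' (x⁻¹ y)
        have h3 : (⟨(P.subtype.comp x.toMonoidHom) (x⁻¹ y), ⟨x⁻¹ y, rfl⟩⟩ :
            (P.subtype.comp x.toMonoidHom).range) = ⟨(y : Ω), hy⟩ := by
          apply Subtype.ext
          show ((x (x⁻¹ y) : P) : Ω) = y
          simp
        rw [h3] at h2
        rw [h2]
        rfl
      rw [this]
      exact hψ'm
  · intro h
    exact Subgroup.subset_closure h

/-- Over an abelian `S`, saturated, the order of `Aut_F(S)` is prime to `p`. -/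
theorem autGroup_top_coprime_of_comm [Finite S] (F : FusionSystem S) (p : ℕ) [Fact p.Prime] (hF : F.IsSaturated p)
    (hab : ∀ x ∈ S, ∀ y ∈ S, x * y = y * x) : ¬ p ∣ Nat.card (F.autGroup S) := by
  obtain ⟨Q, ⟨ψ, hψ, hψQ⟩, ⟨-, R, hR⟩, -⟩ := hF S le_rfl
  have hQS : Q = S := by rw [← hψQ]; exact range_eq_of_mem_top F ψ hψ
  subst hQS
  have hbot : autInducedBy Q Q = ⊥ := by
    unfold autInducedBy
    rw [Subgroup.closure_eq_bot_iff]
    rintro α ⟨g, hg, hα⟩
    rw [Set.mem_singleton_iff]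
    ext x
    have := hα x
    rw [hab g hg x x.2, mul_inv_cancel_right] at this
    exact this
  have hRbot : (R : Subgroup (F.autGroup Q)) = ⊥ := by
    rw [hR, hbot]
    ext x
    simp
  have := R.not_dvd_index
  rw [hRbot, Subgroup.index_bot] at this
  exact this

/-- Over an abelian saturated `S`: the centre of the system is the fixed points of `Aut_F(S)`. -/
theorem center_eq_of_comm [Finite S] (F : FusionSystem S) (p : ℕ) (hF : F.IsSaturated p)
    (hab : ∀ x ∈ S, ∀ y ∈ S, x * y = y * x) [IsMulCommutative S] :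
    F.center = (fixedPts (F.autGroup S)).map S.subtype := by
  apply le_antisymm
  · apply sSup_le
    rintro Q ⟨hQS, hQ⟩ q hq
    refine ⟨⟨q, hQS hq⟩, ?_, rfl⟩
    intro α hα
    rw [mem_autGroup_iff F le_rfl] at hα
    obtain ⟨ψ, -, hψ1, hψ2⟩ := hQ S _ hα
    have h1 := hψ1 ⟨q, hQS hq⟩
    have h2 := hψ2 ⟨q, hq⟩
    have h12 : (Subgroup.inclusion (le_sup_left : S ≤ S ⊔ Q) ⟨q, hQS hq⟩) =
        Subgroup.inclusion (le_sup_right : Q ≤ S ⊔ Q) ⟨q, hq⟩ := Subtype.ext rfl
    rw [h12, h2] at h1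
    apply Subtype.ext
    exact h1.symm
  · apply le_sSup
    refine ⟨Subgroup.map_subtype_le _, ?_⟩
    intro P φ hφ
    have hPS : P ≤ S := (F.le_of_mem hφ).1
    obtain ⟨χ, hχ, hχφ⟩ := exists_extension_of_comm F p hF hab P φ hφ
    obtain ⟨α, hα, hα'⟩ := exists_mulAut_of_mem_top F χ hχ
    have hle : P ⊔ (fixedPts (F.autGroup S)).map S.subtype ≤ S := sup_le hPS (Subgroup.map_subtype_le _)
    refine ⟨χ.comp (Subgroup.inclusion hle), restrict_mem F hle χ hχ, ?_, ?_⟩
    · intro x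
      exact hχφ x (hPS x.2)
    · rintro ⟨_, ⟨s, hs, rfl⟩⟩
      show χ ⟨(s : Ω), _⟩ = (s : Ω)
      have := hs α hα
      rw [show (⟨(s : Ω), hle (Subgroup.mem_sup_right ⟨s, hs, rfl⟩)⟩ : S) = s from Subtype.ext rfl, ← hα' s, this]

/-- Over an abelian saturated `S`: the focal subgroup is `[S, Aut_F(S)]`. -/
theorem focal_eq_of_comm [Finite S] (F : FusionSystem S) (p : ℕ) (hF : F.IsSaturated p)
    (hab : ∀ x ∈ S, ∀ y ∈ S, x * y = y * x) [IsMulCommutative S] :
    F.focalSubgroup = (commPts (F.autGroup S)).map S.subtype := by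
  apply le_antisymm
  · unfold FusionSystem.focalSubgroup
    rw [Subgroup.closure_le]
    rintro _ ⟨P, φ, x, hφ, rfl⟩
    have hPS : P ≤ S := (F.le_of_mem hφ).1
    obtain ⟨χ, hχ, hχφ⟩ := exists_extension_of_comm F p hF hab P φ hφ
    obtain ⟨α, hα, hα'⟩ := exists_mulAut_of_mem_top F χ hχ
    refine ⟨(⟨x, hPS x.2⟩ : S)⁻¹ * α ⟨x, hPS x.2⟩, Subgroup.subset_closure ⟨α, hα, _, rfl⟩, ?_⟩
    show ((⟨x, hPS x.2⟩ : S) : Ω)⁻¹ * ((α ⟨x, hPS x.2⟩ : S) : Ω) = (x : Ω)⁻¹ * φ x
    rw [hα', hχφ x (hPS x.2)]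
  · rw [Subgroup.map_le_iff_le_comap]
    unfold commPts
    rw [Subgroup.closure_le]
    rintro _ ⟨α, hα, m, rfl⟩
    rw [mem_autGroup_iff F le_rfl] at hα
    show ((m⁻¹ * α m : S) : Ω) ∈ F.focalSubgroup
    exact Subgroup.subset_closure ⟨S, _, m, hα, rfl⟩

end Cfsg.Agent.helper26
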