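import Mathlib
import Cfsg.Prelude.Def_FusionSystem
import Cfsg.Agent.Lib_helper26_Fusion
import Cfsg.Agent.Lib_helper26_FusionAb

set_option autoImplicit false

namespace Cfsg.Agent.helper26

open Cfsg Cfsg.FusionSystem
open scoped Pointwise

variable {Ω : Type*} [Group Ω] {S : Subgroup Ω}

/-! ### generic group lemmas -/

/-- a `p`-subgroup can be conjugated into a given Sylow subgroup (elementwise form) -/
theorem exists_conj_mem_sylow {G : Type*} [Group G] [Finite G] {p : ℕ} [Fact p.Prime] (R : Sylow p G)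
    {B : Subgroup G} (hB : IsPGroup p B) : ∃ g : G, ∀ b ∈ B, g * b * g⁻¹ ∈ (R : Subgroup G) := by
  obtain ⟨R', hR'⟩ := hB.exists_le_sylow
  obtain ⟨g, hg⟩ := MulAction.exists_smul_eq G R' R
  refine ⟨g, fun b hb => ?_⟩
  have h1 : MulAut.conj g • b ∈ MulAut.conj g • (R' : Subgroup G) :=
    Subgroup.smul_mem_pointwise_smul b (MulAut.conj g) _ (hR' hb)
  rw [← Sylow.coe_subgroup_smul, hg] at h1
  simpa [MulAut.smul_def] using h1

/-! ### membership lemmas -/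

theorem mem_autInducedBy_iff (K P : Subgroup Ω) (α : MulAut P) :
    α ∈ autInducedBy K P ↔ ∃ g ∈ K, ∀ x : P, ((α x : P) : Ω) = g * (x : Ω) * g⁻¹ := by
  constructor
  · intro hα
    unfold autInducedBy at hα
    induction hα using Subgroup.closure_induction with
    | mem x hx => exact hx
    | one => exact ⟨1, K.one_mem, fun x => by simp⟩
    | mul a b _ _ ha hb =>
      obtain ⟨g, hg, hga⟩ := ha
      obtain ⟨h, hh, hhb⟩ := hb
      refine ⟨g * h, K.mul_mem hg hh, fun x => ?_⟩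
      rw [MulAut.mul_apply, hga, hhb, mul_inv_rev]
      simp only [mul_assoc]
    | inv a _ ha =>
      obtain ⟨g, hg, hga⟩ := ha
      refine ⟨g⁻¹, K.inv_mem hg, fun x => ?_⟩
      have h1 := hga (a⁻¹ x)
      rw [MulAut.apply_inv_self] at h1
      rw [h1]
      group
  · intro h
    exact Subgroup.subset_closure h

theorem mem_extender_iff (S P : Subgroup Ω) (φ : P →* Ω) (g : Ω) :
    g ∈ extender S P φ ↔ g ∈ S ∧ g ∈ Subgroup.normalizer (P : Set Ω) ∧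
      ∃ h ∈ S, ∀ (x : P) (hx : g * (x : Ω) * g⁻¹ ∈ P), φ ⟨g * x * g⁻¹, hx⟩ = h * φ x * h⁻¹ := by
  constructor
  · intro hg
    unfold extender at hg
    induction hg using Subgroup.closure_induction with
    | mem x hx => exact hx
    | one =>
      refine ⟨S.one_mem, Subgroup.one_mem _, 1, S.one_mem, fun x hx => ?_⟩
      have : (⟨1 * (x : Ω) * 1⁻¹, hx⟩ : P) = x := Subtype.ext (by simp)
      rw [this]; simp
    | mul a b _ _ ha hb =>
      obtain ⟨haS, haN, h₁, hh₁, H₁⟩ := ha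
      obtain ⟨hbS, hbN, h₂, hh₂, H₂⟩ := hb
      refine ⟨S.mul_mem haS hbS, Subgroup.mul_mem _ haN hbN, h₁ * h₂, S.mul_mem hh₁ hh₂, fun x hx => ?_⟩
      have hx2 : b * (x : Ω) * b⁻¹ ∈ P := (Subgroup.mem_normalizer_iff.mp hbN x).mp x.2
      have hx1 : a * ((⟨b * (x : Ω) * b⁻¹, hx2⟩ : P) : Ω) * a⁻¹ ∈ P := by
        have : a * (b * (x : Ω) * b⁻¹) * a⁻¹ = a * b * x * (a * b)⁻¹ := by
          rw [mul_inv_rev]; simp only [mul_assoc]
        show a * (b * (x : Ω) * b⁻¹) * a⁻¹ ∈ P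
        rw [this]; exact hx
      have e : (⟨a * b * (x : Ω) * (a * b)⁻¹, hx⟩ : P) =
          ⟨a * ((⟨b * (x : Ω) * b⁻¹, hx2⟩ : P) : Ω) * a⁻¹, hx1⟩ := by
        apply Subtype.ext
        show a * b * (x : Ω) * (a * b)⁻¹ = a * (b * (x : Ω) * b⁻¹) * a⁻¹
        rw [mul_inv_rev]; simp only [mul_assoc]
      rw [e, H₁ _ hx1, H₂ x hx2, mul_inv_rev]
      simp only [mul_assoc]
    | inv a _ ha =>
      obtain ⟨haS, haN, h, hh, H⟩ := ha
      refine ⟨S.inv_mem haS, Subgroup.inv_mem _ haN, h⁻¹, S.inv_mem hh, fun x hx => ?_⟩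
      have hy : a * ((⟨a⁻¹ * (x : Ω) * a⁻¹⁻¹, hx⟩ : P) : Ω) * a⁻¹ ∈ P := by
        show a * (a⁻¹ * (x : Ω) * a⁻¹⁻¹) * a⁻¹ ∈ P
        have : a * (a⁻¹ * (x : Ω) * a⁻¹⁻¹) * a⁻¹ = x := by group
        rw [this]; exact x.2
      have h1 := H ⟨a⁻¹ * (x : Ω) * a⁻¹⁻¹, hx⟩ hy
      have e : (⟨a * ((⟨a⁻¹ * (x : Ω) * a⁻¹⁻¹, hx⟩ : P) : Ω) * a⁻¹, hy⟩ : P) = x := by
        apply Subtype.ext
        show a * (a⁻¹ * (x : Ω) * a⁻¹⁻¹) * a⁻¹ = x
        group
      rw [e] at h1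
      rw [h1]
      group
  · intro h
    exact Subgroup.subset_closure h

theorem extender_le_normalizerIn (S P : Subgroup Ω) (φ : P →* Ω) : extender S P φ ≤ normalizerIn S P := by
  intro g hg
  obtain ⟨h1, h2, -⟩ := (mem_extender_iff S P φ g).mp hg
  exact ⟨h1, h2⟩

theorem le_normalizerIn {P : Subgroup Ω} (hP : P ≤ S) : P ≤ normalizerIn S P :=
  fun _ hx => ⟨hP hx, Subgroup.le_normalizer hx⟩

theorem normalizerIn_le (S P : Subgroup Ω) : normalizerIn S P ≤ S := inf_le_left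

theorem centralizerIn_le (S P : Subgroup Ω) : centralizerIn S P ≤ S := inf_le_left

theorem centralizerIn_le_normalizerIn (S P : Subgroup Ω) : centralizerIn S P ≤ normalizerIn S P :=
  fun _ hx => ⟨hx.1, Subgroup.centralizer_le_normalizer _ hx.2⟩

theorem autInducedBy_le_autGroup (F : FusionSystem S) {P : Subgroup Ω} (hP : P ≤ S) :
    autInducedBy S P ≤ F.autGroup P := by
  intro α hα
  obtain ⟨g, hg, hα⟩ := (mem_autInducedBy_iff S P α).mp hα
  apply Subgroup.subset_closure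
  show P.subtype.comp α.toMonoidHom ∈ F.Hom P
  have : P.subtype.comp α.toMonoidHom = conjHom P g := by
    ext x
    exact hα x
  rw [this]
  exact F.conj_mem hP hg

theorem autInducedBy_isPGroup {p : ℕ} (hS : IsPGroup p S) (P : Subgroup Ω) :
    IsPGroup p (autInducedBy S P) := by
  rintro ⟨α, hα⟩
  obtain ⟨g, hg, hgα⟩ := (mem_autInducedBy_iff S P α).mp hα
  obtain ⟨k, hk⟩ := hS ⟨g, hg⟩
  refine ⟨k, ?_⟩
  apply Subtype.ext
  show α ^ (p ^ k) = 1
  have hpow : ∀ n : ℕ, ∀ x : P, (((α ^ n) x : P) : Ω) = g ^ n * x * (g ^ n)⁻¹ := by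
    intro n
    induction n with
    | zero => intro x; simp
    | succ n ih =>
      intro x
      rw [pow_succ', MulAut.mul_apply, hgα, ih, pow_succ', mul_inv_rev]
      simp only [mul_assoc]
  ext x
  rw [hpow]
  have : g ^ (p ^ k) = 1 := by
    have := congrArg Subtype.val hk
    simpa using this
  rw [this]; simp

/-! ### isomorphisms of the system as `MulEquiv`s -/

/-- `e : P ≃* Q` is an isomorphism of the system -/
def IsFIso (F : FusionSystem S) {P Q : Subgroup Ω} (e : P ≃* Q) : Prop :=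
  Q.subtype.comp e.toMonoidHom ∈ F.Hom P

theorem IsFIso.range_eq {F : FusionSystem S} {P Q : Subgroup Ω} {e : P ≃* Q} (_h : IsFIso F e) :
    (Q.subtype.comp e.toMonoidHom).range = Q := by
  ext y
  constructor
  · rintro ⟨x, rfl⟩
    exact (e x).2
  · intro hy
    exact ⟨e.symm ⟨y, hy⟩, by simp⟩

theorem IsFIso.symm {F : FusionSystem S} {P Q : Subgroup Ω} {e : P ≃* Q} (h : IsFIso F e) :
    IsFIso F e.symm := by
  have hr := h.range_eq
  unfold IsFIso at h ⊢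
  obtain ⟨ψ, hψ, hψ'⟩ := F.inv_mem h
  obtain ⟨ψ', hψ'm, hψ''⟩ := hom_of_eq F hr ψ hψ
  have : P.subtype.comp e.symm.toMonoidHom = ψ' := by
    ext y
    have hy : (y : Ω) ∈ (Q.subtype.comp e.toMonoidHom).range := by rw [hr]; exact y.2
    rw [show ψ' y = ψ' ⟨(y : Ω), y.2⟩ from rfl, hψ'' y hy y.2]
    have h2 := hψ' (e.symm y)
    have h3 : (⟨(Q.subtype.comp e.toMonoidHom) (e.symm y), ⟨e.symm y, rfl⟩⟩ :
        (Q.subtype.comp e.toMonoidHom).range) = ⟨(y : Ω), hy⟩ := by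
      apply Subtype.ext
      show ((e (e.symm y) : Q) : Ω) = y
      simp
    rw [h3] at h2
    rw [h2]
    rfl
  rw [this]
  exact hψ'm

theorem IsFIso.trans {F : FusionSystem S} {P Q R : Subgroup Ω} {e : P ≃* Q} {e' : Q ≃* R}
    (h : IsFIso F e) (h' : IsFIso F e') : IsFIso F (e.trans e') := by
  unfold IsFIso at *
  have hc := F.comp_mem h h' (fun x => (e x).2)
  convert hc using 1
  ext x
  rfl

theorem isFIso_refl (F : FusionSystem S) {P : Subgroup Ω} (hP : P ≤ S) : IsFIso F (MulEquiv.refl P) := by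
  unfold IsFIso
  have : P.subtype.comp (MulEquiv.refl P).toMonoidHom = conjHom P 1 := by
    ext x
    show (x : Ω) = 1 * x * 1⁻¹
    simp
  rw [this]
  exact F.conj_mem hP S.one_mem

theorem exists_isFIso_of_mem (F : FusionSystem S) {P Q : Subgroup Ω} {φ : P →* Ω} (hφ : φ ∈ F.Hom P)
    (hr : φ.range = Q) : ∃ e : P ≃* Q, IsFIso F e ∧ ∀ x : P, ((e x : Q) : Ω) = φ x := by
  subst hr
  refine ⟨MonoidHom.ofInjective (F.injective_of_mem hφ), ?_, fun x => rfl⟩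
  unfold IsFIso
  have : φ.range.subtype.comp (MonoidHom.ofInjective (F.injective_of_mem hφ)).toMonoidHom = φ := by
    ext x
    rfl
  rw [this]
  exact hφ

theorem mem_autGroup_iff_isFIso (F : FusionSystem S) {P : Subgroup Ω} [Finite P] (hP : P ≤ S) (α : MulAut P) :
    α ∈ F.autGroup P ↔ IsFIso F (P := P) (Q := P) α := mem_autGroup_iff F hP α

theorem IsFIso.congr_mem {F : FusionSystem S} {P Q : Subgroup Ω} [Finite P] [Finite Q] (hP : P ≤ S) (hQ : Q ≤ S)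
    {e : P ≃* Q} (h : IsFIso F e) {α : MulAut P} (hα : α ∈ F.autGroup P) :
    MulAut.congr e α ∈ F.autGroup Q := by
  rw [mem_autGroup_iff_isFIso F hQ]
  rw [mem_autGroup_iff_isFIso F hP] at hα
  exact h.symm.trans (hα.trans h)

theorem isConj_symm (F : FusionSystem S) {P Q : Subgroup Ω} (h : F.IsConj P Q) : F.IsConj Q P := by
  obtain ⟨φ, hφ, hr⟩ := h
  obtain ⟨e, he, _⟩ := exists_isFIso_of_mem F hφ hr
  exact ⟨_, he.symm, he.symm.range_eq⟩

theorem isConj_refl (F : FusionSystem S) {P : Subgroup Ω} (hP : P ≤ S) : F.IsConj P P :=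
  ⟨_, isFIso_refl F hP, (isFIso_refl F hP).range_eq⟩

theorem isConj_trans (F : FusionSystem S) {P Q R : Subgroup Ω} (h : F.IsConj P Q) (h' : F.IsConj Q R) :
    F.IsConj P R := by
  obtain ⟨φ, hφ, hr⟩ := h
  obtain ⟨e, he, _⟩ := exists_isFIso_of_mem F hφ hr
  obtain ⟨φ', hφ', hr'⟩ := h'
  obtain ⟨e', he', _⟩ := exists_isFIso_of_mem F hφ' hr'
  exact ⟨_, he.trans he', (he.trans he').range_eq⟩

theorem IsFIso.isConj {F : FusionSystem S} {P Q : Subgroup Ω} {e : P ≃* Q} (h : IsFIso F e) : F.IsConj P Q :=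
  ⟨_, h, h.range_eq⟩

theorem le_of_isConj_left (F : FusionSystem S) {P Q : Subgroup Ω} (h : F.IsConj P Q) : P ≤ S := by
  obtain ⟨φ, hφ, _⟩ := h
  exact (F.le_of_mem hφ).1

theorem le_of_isConj_right (F : FusionSystem S) {P Q : Subgroup Ω} (h : F.IsConj P Q) : Q ≤ S :=
  le_of_isConj_left F (isConj_symm F h)

theorem finite_of_le [Finite S] {P : Subgroup Ω} (hP : P ≤ S) : Finite P :=
  Finite.of_injective (Subgroup.inclusion hP) (Subgroup.inclusion_injective hP)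

/-! ### more on extenders -/

theorem normalizerMonoidHom_mem_autInducedBy (K P : Subgroup Ω) {g : Ω} (hgK : g ∈ K)
    (hgN : g ∈ Subgroup.normalizer (P : Set Ω)) : P.normalizerMonoidHom ⟨g, hgN⟩ ∈ autInducedBy K P :=
  Subgroup.subset_closure ⟨g, hgK, fun _ => rfl⟩

theorem le_extender (F : FusionSystem S) {P : Subgroup Ω} {φ : P →* Ω} (hφ : φ ∈ F.Hom P) :
    P ≤ extender S P φ := by
  intro g hg
  rw [mem_extender_iff]
  refine ⟨(F.le_of_mem hφ).1 hg, Subgroup.le_normalizer hg, φ ⟨g, hg⟩, (F.le_of_mem hφ).2 _, fun x hx => ?_⟩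
  have : (⟨g * (x : Ω) * g⁻¹, hx⟩ : P) = ⟨g, hg⟩ * x * ⟨g, hg⟩⁻¹ := rfl
  rw [this, map_mul, map_mul, map_inv]

theorem centralizerIn_le_extender (S P : Subgroup Ω) (φ : P →* Ω) : centralizerIn S P ≤ extender S P φ := by
  intro g hg
  rw [mem_extender_iff]
  refine ⟨hg.1, Subgroup.centralizer_le_normalizer _ hg.2, 1, S.one_mem, fun x hx => ?_⟩
  have h1 : g * (x : Ω) * g⁻¹ = x := by
    have := Subgroup.mem_centralizer_iff.mp hg.2 x x.2
    rw [← this, mul_inv_cancel_right]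
  have : (⟨g * (x : Ω) * g⁻¹, hx⟩ : P) = x := Subtype.ext h1
  rw [this]; simp

/-- the element realizing the transported conjugation can be chosen in the normalizer of the image -/
theorem exists_normalizer_witness {R P : Subgroup Ω} [Finite P] (φ : R →* Ω) (hr : φ.range = P) {g : Ω}
    (hg : g ∈ extender S R φ) :
    ∃ h ∈ normalizerIn S P, ∀ (x : R) (hx : g * (x : Ω) * g⁻¹ ∈ R), φ ⟨g * x * g⁻¹, hx⟩ = h * φ x * h⁻¹ := by
  obtain ⟨hgS, hgN, h, hhS, hh⟩ := (mem_extender_iff S R φ g).mp hg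
  refine ⟨h, ⟨hhS, ?_⟩, hh⟩
  haveI : Finite ((P : Set Ω)) := ‹Finite P›
  apply Subgroup.mem_normalizer_fintype
  intro y hy
  have hy' : y ∈ φ.range := by rw [hr]; exact hy
  obtain ⟨x, rfl⟩ := hy'
  have hx : g * (x : Ω) * g⁻¹ ∈ R := (Subgroup.mem_normalizer_iff.mp hgN x).mp x.2
  rw [← hh x hx]
  show φ ⟨_, hx⟩ ∈ P
  rw [← hr]
  exact ⟨_, rfl⟩

/-! ### the key lemma -/

theorem exists_isFIso_twist [Finite S] (p : ℕ) [Fact p.Prime] (hS : IsPGroup p S) (F : FusionSystem S)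
    (P Q : Subgroup Ω) (h₁ : F.IsFullyAutomized p P) (hQ : F.IsConj Q P) :
    ∃ ψ₀ : Q ≃* P, IsFIso F ψ₀ ∧ ∀ g ∈ S, ∀ (hgN : g ∈ Subgroup.normalizer (Q : Set Ω)), ∃ h ∈ S,
      ∀ x : Q, ((ψ₀ (Q.normalizerMonoidHom ⟨g, hgN⟩ x) : P) : Ω) = h * ψ₀ x * h⁻¹ := by
  obtain ⟨hPS, R, hR⟩ := h₁
  obtain ⟨φ₀, hφ₀, hr₀⟩ := hQ
  have hQS : Q ≤ S := (F.le_of_mem hφ₀).1
  haveI : Finite P := finite_of_le hPS
  haveI : Finite Q := finite_of_le hQS
  obtain ⟨e₀, he₀, -⟩ := exists_isFIso_of_mem F hφ₀ hr₀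
  have hB : IsPGroup p (((autInducedBy S Q).map (MulAut.congr e₀).toMonoidHom).subgroupOf (F.autGroup P)) :=
    ((autInducedBy_isPGroup hS Q).map _).comap_subtype
  obtain ⟨χ, hχ⟩ := exists_conj_mem_sylow R hB
  have hχF : IsFIso F (P := P) (Q := P) (χ : MulAut P) := (mem_autGroup_iff_isFIso F hPS χ.1).mp χ.2
  refine ⟨e₀.trans (χ : MulAut P), he₀.trans hχF, ?_⟩
  intro g hgS hgN
  have hc : Q.normalizerMonoidHom ⟨g, hgN⟩ ∈ autInducedBy S Q :=
    normalizerMonoidHom_mem_autInducedBy S Q hgS hgN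
  have hbF : MulAut.congr e₀ (Q.normalizerMonoidHom ⟨g, hgN⟩) ∈ F.autGroup P :=
    he₀.congr_mem hQS hPS (autInducedBy_le_autGroup F hQS hc)
  have hbB : (⟨_, hbF⟩ : F.autGroup P) ∈
      ((autInducedBy S Q).map (MulAut.congr e₀).toMonoidHom).subgroupOf (F.autGroup P) := by
    rw [Subgroup.mem_subgroupOf]
    exact ⟨_, hc, rfl⟩
  have h3 := hχ _ hbB
  rw [hR, Subgroup.mem_subgroupOf] at h3
  obtain ⟨h, hhS, hh⟩ := (mem_autInducedBy_iff S P _).mp h3
  refine ⟨h, hhS, fun x => ?_⟩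
  have h4 := hh ((χ : MulAut P) (e₀ x))
  have key : (((χ * ⟨_, hbF⟩ * χ⁻¹ : F.autGroup P) : MulAut P)) ((χ : MulAut P) (e₀ x)) =
      (χ : MulAut P) (e₀ (Q.normalizerMonoidHom ⟨g, hgN⟩ x)) := by
    show (χ : MulAut P) ((MulAut.congr e₀ (Q.normalizerMonoidHom ⟨g, hgN⟩))
      ((χ : MulAut P)⁻¹ ((χ : MulAut P) (e₀ x)))) = _
    rw [MulAut.inv_apply_self]
    show (χ : MulAut P) (e₀ ((Q.normalizerMonoidHom ⟨g, hgN⟩) (e₀.symm (e₀ x)))) = _
    rw [MulEquiv.symm_apply_apply]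
  rw [key] at h4
  exact h4

theorem exists_normalizer_hom_of_twist [Finite S] (F : FusionSystem S) (P Q : Subgroup Ω)
    (h₂ : F.IsReceptive P) (ψ₀ : Q ≃* P) (hψ₀ : IsFIso F ψ₀)
    (H : ∀ g ∈ S, ∀ (hgN : g ∈ Subgroup.normalizer (Q : Set Ω)), ∃ h ∈ S,
      ∀ x : Q, ((ψ₀ (Q.normalizerMonoidHom ⟨g, hgN⟩ x) : P) : Ω) = h * ψ₀ x * h⁻¹) :
    ∃ φ ∈ F.Hom (normalizerIn S Q), (∀ x, φ x ∈ normalizerIn S P) ∧
      (Q.subgroupOf (normalizerIn S Q)).map φ = P ∧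
      ∀ (x : Q) (hx : (x : Ω) ∈ normalizerIn S Q), φ ⟨x, hx⟩ = ψ₀ x := by
  have hQS : Q ≤ S := (F.le_of_mem hψ₀).1
  have hPS : P ≤ S := h₂.1
  haveI : Finite P := finite_of_le hPS
  have hext : extender S Q (P.subtype.comp ψ₀.toMonoidHom) = normalizerIn S Q := by
    apply le_antisymm (extender_le_normalizerIn S Q _)
    rintro g ⟨hgS, hgN⟩
    obtain ⟨h, hhS, hh⟩ := H g hgS hgN
    rw [mem_extender_iff]
    exact ⟨hgS, hgN, h, hhS, fun x _ => hh x⟩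
  obtain ⟨ψ, hψ, hψ'⟩ := h₂.2 Q _ hψ₀ hψ₀.range_eq
  obtain ⟨ψ', hψ'm, hψ''⟩ := hom_of_eq F hext ψ hψ
  have hQN : Q ≤ normalizerIn S Q := le_normalizerIn hQS
  have hagree : ∀ (x : Q) (hx : (x : Ω) ∈ normalizerIn S Q), ψ' ⟨x, hx⟩ = ψ₀ x := by
    intro x hx
    have hxe : (x : Ω) ∈ extender S Q (P.subtype.comp ψ₀.toMonoidHom) := by rw [hext]; exact hx
    rw [hψ'' x hxe hx, hψ' x x.2 hxe]
    rfl
  refine ⟨ψ', hψ'm, ?_, ?_, hagree⟩
  · intro n
    refine ⟨(F.le_of_mem hψ'm).2 n, ?_⟩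
    haveI : Finite ((P : Set Ω)) := ‹Finite P›
    apply Subgroup.mem_normalizer_fintype
    intro y hy
    obtain ⟨x, rfl⟩ : ∃ x : Q, ((ψ₀ x : P) : Ω) = y := ⟨ψ₀.symm ⟨y, hy⟩, by simp⟩
    have hnx : (n : Ω) * x * (n : Ω)⁻¹ ∈ Q := (Subgroup.mem_normalizer_iff.mp n.2.2 x).mp x.2
    have : ψ' n * ((ψ₀ x : P) : Ω) * (ψ' n)⁻¹ = ((ψ₀ ⟨(n : Ω) * x * (n : Ω)⁻¹, hnx⟩ : P) : Ω) := by
      rw [← hagree x (hQN x.2), ← hagree ⟨_, hnx⟩ (hQN hnx), ← map_inv, ← map_mul, ← map_mul]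
      exact congrArg ψ' (Subtype.ext rfl)
    rw [this]
    exact (ψ₀ _).2
  · ext y
    constructor
    · rintro ⟨x, hx, rfl⟩
      replace hx : x ∈ Q.subgroupOf (normalizerIn S Q) := hx
      rw [Subgroup.mem_subgroupOf] at hx
      have := hagree ⟨x, hx⟩ x.2
      rw [show ψ' x = ψ' ⟨((⟨(x : Ω), hx⟩ : Q) : Ω), x.2⟩ from rfl, this]
      exact (ψ₀ _).2
    · intro hy
      refine ⟨⟨(ψ₀.symm ⟨y, hy⟩ : Q), hQN (ψ₀.symm ⟨y, hy⟩).2⟩, ?_, ?_⟩
      · show _ ∈ Q.subgroupOf (normalizerIn S Q)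
        rw [Subgroup.mem_subgroupOf]; exact (ψ₀.symm ⟨y, hy⟩).2
      · rw [hagree]; simp

/-- **Key lemma** (statement S5079): if `P` is fully automized and receptive and `Q` is conjugate to `P`, some map
of the system defined on `N_S(Q)` takes `Q` onto `P` (and `N_S(Q)` into `N_S(P)`). -/
theorem exists_normalizer_hom [Finite S] (p : ℕ) [Fact p.Prime] (hS : IsPGroup p S) (F : FusionSystem S)
    (P Q : Subgroup Ω) (h₁ : F.IsFullyAutomized p P) (h₂ : F.IsReceptive P) (hQ : F.IsConj Q P) :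
    ∃ φ ∈ F.Hom (normalizerIn S Q), (∀ x, φ x ∈ normalizerIn S P) ∧
      (Q.subgroupOf (normalizerIn S Q)).map φ = P := by
  obtain ⟨ψ₀, hψ₀, H⟩ := exists_isFIso_twist p hS F P Q h₁ hQ
  obtain ⟨φ, hφ, h1, h2, -⟩ := exists_normalizer_hom_of_twist F P Q h₂ ψ₀ hψ₀ H
  exact ⟨φ, hφ, h1, h2⟩

/-- fully automized + receptive implies fully normalized -/
theorem isFullyNormalized_of_receptive [Finite S] (p : ℕ) [Fact p.Prime] (hS : IsPGroup p S) (F : FusionSystem S)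
    (P : Subgroup Ω) (h₁ : F.IsFullyAutomized p P) (h₂ : F.IsReceptive P) : F.IsFullyNormalized P := by
  refine ⟨h₁.1, fun Q hQ => ?_⟩
  obtain ⟨φ, hφ, hφN, -⟩ := exists_normalizer_hom p hS F P Q h₁ h₂ (isConj_symm F hQ)
  haveI : Finite (normalizerIn S P) := finite_of_le (normalizerIn_le S P)
  refine Nat.card_le_card_of_injective (φ.codRestrict _ hφN) ?_
  intro a b hab
  exact F.injective_of_mem hφ (congrArg Subtype.val hab)

/-- receptive implies fully centralized -/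
theorem isFullyCentralized_of_receptive [Finite S] (F : FusionSystem S) (P : Subgroup Ω) (h₂ : F.IsReceptive P) :
    F.IsFullyCentralized P := by
  refine ⟨h₂.1, fun Q hQ => ?_⟩
  obtain ⟨φ, hφ, hr⟩ := isConj_symm F hQ
  obtain ⟨θ, hθ, hθ'⟩ := h₂.2 Q φ hφ hr
  have hCle := centralizerIn_le_extender S Q φ
  have hQle := le_extender F hφ
  have hmem : ∀ c : centralizerIn S Q, θ ⟨c, hCle c.2⟩ ∈ centralizerIn S P := by
    intro c
    refine ⟨(F.le_of_mem hθ).2 _, ?_⟩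
    show _ ∈ Subgroup.centralizer (P : Set Ω)
    rw [Subgroup.mem_centralizer_iff]
    intro y hy
    have hy' : y ∈ φ.range := by rw [hr]; exact hy
    obtain ⟨x, rfl⟩ := hy'
    rw [← hθ' x x.2 (hQle x.2), ← map_mul, ← map_mul]
    congr 1
    apply Subtype.ext
    show (x : Ω) * c = c * x
    exact Subgroup.mem_centralizer_iff.mp c.2.2 x x.2
  haveI : Finite (centralizerIn S P) := finite_of_le (centralizerIn_le S P)
  refine Nat.card_le_card_of_injective (fun c : centralizerIn S Q => (⟨θ ⟨c, hCle c.2⟩, hmem c⟩ : centralizerIn S P)) ?_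
  intro a b hab
  have := F.injective_of_mem hθ (congrArg Subtype.val hab)
  exact Subtype.ext (Subtype.mk.inj this)

end Cfsg.Agent.helper26
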