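import Mathlib
import Cfsg.Prelude.Def_FusionSystem
import Cfsg.Agent.Lib_helper26_Alperin
import Cfsg.Agent.Lib_helper25_SatEquiv2

set_option autoImplicit false

namespace Cfsg.Agent.helper26

open Cfsg Cfsg.FusionSystem

variable {Ω : Type*} [Group Ω] {S : Subgroup Ω}

/-! ### centric subgroups -/

theorem isCentric_of_isConj (F : FusionSystem S) {Q Q' : Subgroup Ω} (h : F.IsCentric Q)
    (hc : F.IsConj Q Q') : F.IsCentric Q' :=
  ⟨le_of_isConj_right F hc, fun Q'' h' => h.2 Q'' (isConj_trans F hc h')⟩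

theorem isCentric_of_subsystem (F' F : FusionSystem S) (hle : F' ≤ F) {Q : Subgroup Ω}
    (h : F.IsCentric Q) : F'.IsCentric Q :=
  ⟨h.1, fun Q' ⟨φ, hφ, hr⟩ => h.2 Q' ⟨φ, hle Q hφ, hr⟩⟩

theorem isCentric_of_le (F : FusionSystem S) {Q Q₁ : Subgroup Ω} (h : F.IsCentric Q) (hQ : Q ≤ Q₁)
    (hQ₁ : Q₁ ≤ S) : F.IsCentric Q₁ := by
  refine ⟨hQ₁, fun Q₁' ⟨θ, hθ, hr⟩ => ?_⟩
  have hres := restrict_mem F hQ θ hθ
  have hcj : F.IsConj Q (θ.comp (Subgroup.inclusion hQ)).range := ⟨_, hres, rfl⟩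
  have h1 := h.2 _ hcj
  intro c hc
  have hle : (θ.comp (Subgroup.inclusion hQ)).range ≤ Q₁' := by
    rw [← hr]; rintro _ ⟨x, rfl⟩; exact ⟨_, rfl⟩
  apply hle
  apply h1
  refine ⟨hc.1, ?_⟩
  exact Subgroup.centralizer_le (show ((θ.comp (Subgroup.inclusion hQ)).range : Set Ω) ⊆ Q₁' from hle) hc.2

theorem isFullyCentralized_of_isCentric [Finite S] (F : FusionSystem S) {Q : Subgroup Ω}
    (h : F.IsCentric Q) : F.IsFullyCentralized Q := by
  refine ⟨h.1, fun Q' hQQ' => ?_⟩
  obtain ⟨φ, hφ, hr⟩ := hQQ'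
  obtain ⟨e, he, he'⟩ := exists_isFIso_of_mem F hφ hr
  have hC' := h.2 Q' ⟨φ, hφ, hr⟩
  haveI : Finite (centralizerIn S Q) := finite_of_le (centralizerIn_le S Q)
  have hmem : ∀ c : centralizerIn S Q', ((e.symm ⟨c, hC' c.2⟩ : Q) : Ω) ∈ centralizerIn S Q := by
    intro c
    refine ⟨h.1 (e.symm ⟨c, hC' c.2⟩).2, ?_⟩
    show _ ∈ Subgroup.centralizer (Q : Set Ω)
    rw [Subgroup.mem_centralizer_iff]
    intro y hy
    have h1 : ((e ⟨y, hy⟩ : Q') : Ω) * c = c * ((e ⟨y, hy⟩ : Q') : Ω) :=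
      Subgroup.mem_centralizer_iff.mp c.2.2 _ (e ⟨y, hy⟩).2
    have h2 : e (⟨y, hy⟩ * e.symm ⟨c, hC' c.2⟩) = e (e.symm ⟨c, hC' c.2⟩ * ⟨y, hy⟩) := by
      rw [map_mul, map_mul, MulEquiv.apply_symm_apply]
      exact Subtype.ext h1
    exact congrArg Subtype.val (e.injective h2)
  refine Nat.card_le_card_of_injective
    (fun c : centralizerIn S Q' => (⟨_, hmem c⟩ : centralizerIn S Q)) ?_
  intro a b hab
  have h1 : e.symm ⟨a, hC' a.2⟩ = e.symm ⟨b, hC' b.2⟩ := Subtype.ext (Subtype.mk.inj hab)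
  have h2 := e.symm.injective h1
  exact Subtype.ext (Subtype.mk.inj h2)

/-! ### automorphisms of order prime to `p` fixing a self-centralizing subgroup -/

theorem aut_eq_one_of_fix_centric {G : Type*} [Group G] [Finite G] {p : ℕ} [Fact p.Prime] (hG : IsPGroup p G)
    (α : MulAut G) (k : ℕ) (hk : α ^ k = 1) (hkp : k.Coprime p) :
    ∀ (n : ℕ) (Q : Subgroup G), Nat.card G - Nat.card Q = n →
      (∀ g : G, (∀ x ∈ Q, x * g = g * x) → g ∈ Q) → (∀ x ∈ Q, α x = x) → α = 1 := by
  intro n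
  induction n using Nat.strong_induction_on with
  | _ n ih =>
    intro Q hn hC hα
    by_cases htop : Q = ⊤
    · ext g; exact hα g (htop ▸ Subgroup.mem_top g)
    · haveI : Group.IsNilpotent G := hG.isNilpotent
      have hlt : Q < ⊤ := lt_top_iff_ne_top.mpr htop
      have hN := Group.normalizerCondition_of_isNilpotent (G := G) Q hlt
      have hfixN : ∀ g ∈ Subgroup.normalizer (Q : Set G), α g = g := by
        intro g hg
        have hy : g⁻¹ * α g ∈ Q := by
          apply hC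
          intro x hx
          have hx' : g * x * g⁻¹ ∈ Q := (Subgroup.mem_normalizer_iff.mp hg x).mp hx
          have h1 : α (g * x * g⁻¹) = g * x * g⁻¹ := hα _ hx'
          rw [map_mul, map_mul, map_inv, hα x hx] at h1
          calc x * (g⁻¹ * α g) = g⁻¹ * (g * x * g⁻¹) * α g := by group
            _ = g⁻¹ * (α g * x * (α g)⁻¹) * α g := by rw [h1]
            _ = g⁻¹ * α g * x := by group
        have hαy : α (g⁻¹ * α g) = g⁻¹ * α g := hα _ hy
        have hpow : ∀ j : ℕ, (α ^ j) g = g * (g⁻¹ * α g) ^ j := by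
          intro j
          induction j with
          | zero => simp
          | succ j ihj =>
            rw [pow_succ', MulAut.mul_apply, ihj, map_mul, map_pow, hαy, pow_succ']
            simp only [mul_assoc, mul_inv_cancel_left]
        have h1 := hpow k
        rw [hk, MulAut.one_apply] at h1
        have hyk : (g⁻¹ * α g) ^ k = 1 := mul_left_cancel (a := g) (h1.symm.trans (mul_one g).symm)
        obtain ⟨c, hc⟩ := hG (g⁻¹ * α g)
        have hd1 : orderOf (g⁻¹ * α g) ∣ k := orderOf_dvd_of_pow_eq_one hyk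
        have hd2 : orderOf (g⁻¹ * α g) ∣ p ^ c := orderOf_dvd_of_pow_eq_one hc
        have hd := Nat.dvd_gcd hd1 hd2
        rw [Nat.Coprime.gcd_eq_one (hkp.pow_right c)] at hd
        have hy1 : g⁻¹ * α g = 1 := orderOf_eq_one_iff.mp (Nat.dvd_one.mp hd)
        exact (inv_mul_eq_one.mp hy1).symm
      obtain ⟨s, hsN, hsQ⟩ := SetLike.exists_of_lt hN
      have hcard : Nat.card Q < Nat.card (Subgroup.normalizer (Q : Set G)) :=
        card_lt_of_le_of_not_mem hN.le hsN hsQ
      have hNle : Nat.card (Subgroup.normalizer (Q : Set G)) ≤ Nat.card G :=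
        Subgroup.card_le_card_group _
      refine ih (Nat.card G - Nat.card (Subgroup.normalizer (Q : Set G))) (by omega) _ rfl ?_ hfixN
      intro g hg
      exact hN.le (hC g (fun x hx => hg x (hN.le hx)))

/-- a subgroup of automorphisms in which every element of order prime to `p` is trivial is a `p`-group -/
theorem isPGroup_of_coprime_trivial {A : Type*} [Group A] [Finite A] {p : ℕ} [Fact p.Prime]
    (h : ∀ a : A, ∀ k : ℕ, a ^ k = 1 → k.Coprime p → a = 1) : IsPGroup p A := by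
  intro a
  obtain ⟨e, m', hm', hord⟩ : ∃ e m', ¬ p ∣ m' ∧ orderOf a = p ^ e * m' :=
    Nat.exists_eq_pow_mul_and_not_dvd (orderOf_pos a).ne' p (Fact.out : p.Prime).ne_one
  refine ⟨e, ?_⟩
  apply h (a ^ (p ^ e)) m'
  · rw [← pow_mul, ← hord]; exact pow_orderOf_eq_one a
  · exact ((Nat.Prime.coprime_iff_not_dvd (Fact.out : p.Prime)).mpr hm').symm

/-! ### twisting an isomorphism so that a `p`-group of automorphisms lands in `Aut_S` -/

theorem exists_isFIso_twist' [Finite S] (p : ℕ) [Fact p.Prime] (F : FusionSystem S)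
    (P' P : Subgroup Ω) (h₁ : F.IsFullyAutomized p P') (hc : F.IsConj P P')
    (A : Subgroup (MulAut P)) (hA : IsPGroup p A) (hAF : A ≤ F.autGroup P) :
    ∃ ψ₀ : P ≃* P', IsFIso F ψ₀ ∧ ∀ a ∈ A, ∃ h ∈ S,
      ∀ x : P, ((ψ₀ (a x) : P') : Ω) = h * ψ₀ x * h⁻¹ := by
  obtain ⟨hP'S, R, hR⟩ := h₁
  obtain ⟨φ₀, hφ₀, hr₀⟩ := hc
  have hPS : P ≤ S := (F.le_of_mem hφ₀).1
  haveI : Finite P' := finite_of_le hP'S
  haveI : Finite P := finite_of_le hPS
  obtain ⟨e₀, he₀, -⟩ := exists_isFIso_of_mem F hφ₀ hr₀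
  have hB : IsPGroup p ((A.map (MulAut.congr e₀).toMonoidHom).subgroupOf (F.autGroup P')) :=
    (hA.map _).comap_subtype
  obtain ⟨χ, hχ⟩ := exists_conj_mem_sylow R hB
  have hχF : IsFIso F (P := P') (Q := P') (χ : MulAut P') := (mem_autGroup_iff_isFIso F hP'S χ.1).mp χ.2
  refine ⟨e₀.trans (χ : MulAut P'), he₀.trans hχF, ?_⟩
  intro a ha
  have hbF : MulAut.congr e₀ a ∈ F.autGroup P' := he₀.congr_mem hPS hP'S (hAF ha)
  have hbB : (⟨_, hbF⟩ : F.autGroup P') ∈
      (A.map (MulAut.congr e₀).toMonoidHom).subgroupOf (F.autGroup P') := by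
    rw [Subgroup.mem_subgroupOf]
    exact ⟨_, ha, rfl⟩
  have h3 := hχ _ hbB
  rw [hR, Subgroup.mem_subgroupOf] at h3
  obtain ⟨h, hhS, hh⟩ := (mem_autInducedBy_iff S P' _).mp h3
  refine ⟨h, hhS, fun x => ?_⟩
  have h4 := hh ((χ : MulAut P') (e₀ x))
  have key : (((χ * ⟨_, hbF⟩ * χ⁻¹ : F.autGroup P') : MulAut P')) ((χ : MulAut P') (e₀ x)) =
      (χ : MulAut P') (e₀ (a x)) := by
    show (χ : MulAut P') ((MulAut.congr e₀ a) ((χ : MulAut P')⁻¹ ((χ : MulAut P') (e₀ x)))) = _
    rw [MulAut.inv_apply_self]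
    show (χ : MulAut P') (e₀ (a (e₀.symm (e₀ x)))) = _
    rw [MulEquiv.symm_apply_apply]
  rw [key] at h4
  exact h4

/-! ### automorphisms fixing a centric subgroup are conjugations by central elements of it -/

/-- the subgroup of automorphisms of `P` fixing `Q` pointwise -/
def fixSubgroup (P Q : Subgroup Ω) : Subgroup (MulAut P) where
  carrier := {a | ∀ x : P, (x : Ω) ∈ Q → a x = x}
  one_mem' := fun _ _ => rfl
  mul_mem' := by
    intro a b ha hb x hx
    rw [MulAut.mul_apply, hb x hx, ha x hx]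
  inv_mem' := by
    intro a ha x hx
    calc a⁻¹ x = a⁻¹ (a x) := by rw [ha x hx]
      _ = x := MulAut.inv_apply_self _ _ _

theorem fixSubgroup_isPGroup [Finite S] {p : ℕ} [Fact p.Prime] (hS : IsPGroup p S) (F : FusionSystem S)
    {P Q : Subgroup Ω} (hPS : P ≤ S) (hQP : Q ≤ P) (hQ : F.IsCentric Q) :
    IsPGroup p (fixSubgroup P Q) := by
  haveI : Finite P := finite_of_le hPS
  apply isPGroup_of_coprime_trivial
  rintro ⟨a, ha⟩ k hk hkp
  apply Subtype.ext
  show a = 1
  have hk' : a ^ k = 1 := by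
    have := congrArg Subtype.val hk
    simpa using this
  refine aut_eq_one_of_fix_centric (hS.to_le hPS) a k hk' hkp _ (Q.subgroupOf P) rfl ?_ ?_
  · intro g hg
    rw [Subgroup.mem_subgroupOf]
    apply hQ.2 Q (isConj_refl F hQ.1)
    refine ⟨hPS g.2, ?_⟩
    show _ ∈ Subgroup.centralizer (Q : Set Ω)
    rw [Subgroup.mem_centralizer_iff]
    intro y hy
    have := hg ⟨y, hQP hy⟩ (Subgroup.mem_subgroupOf.mpr hy)
    exact congrArg Subtype.val this
  · intro x hx
    exact ha x (Subgroup.mem_subgroupOf.mp hx)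

theorem exists_conj_of_fix_centric [Finite S] (p : ℕ) [Fact p.Prime] (hS : IsPGroup p S) (F : FusionSystem S)
    (hF : F.IsSaturated p) {P Q : Subgroup Ω} (hPS : P ≤ S) (hQP : Q ≤ P) (hQ : F.IsCentric Q)
    (χ : MulAut P) (hχ : χ ∈ F.autGroup P) (hfix : ∀ x : P, (x : Ω) ∈ Q → χ x = x) :
    ∃ z : P, (z : Ω) ∈ Q ∧ (z : Ω) ∈ Subgroup.centralizer (Q : Set Ω) ∧ ∀ x : P, χ x = z * x * z⁻¹ := by
  haveI : Finite P := finite_of_le hPS
  obtain ⟨P', hPP', hP'n⟩ := Cfsg.Agent.helper25.exists_fullyNormalized_conj F hPS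
  have hP'a := (Cfsg.Agent.helper25.fullyNormalized_imp hS F hF hP'n).2
  have hA : IsPGroup p ((fixSubgroup P Q ⊓ F.autGroup P : Subgroup (MulAut P))) :=
    (fixSubgroup_isPGroup hS F hPS hQP hQ).to_le inf_le_left
  obtain ⟨ψ₀, hψ₀, H⟩ := exists_isFIso_twist' p F P' P hP'a hPP' _ hA inf_le_right
  obtain ⟨h, hhS, hh⟩ := H χ ⟨hfix, hχ⟩
  have hres := restrict_mem F hQP _ hψ₀
  have hQ'c : F.IsCentric ((P'.subtype.comp ψ₀.toMonoidHom).comp (Subgroup.inclusion hQP)).range :=
    isCentric_of_isConj F hQ ⟨_, hres, rfl⟩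
  have hhC : h ∈ centralizerIn S ((P'.subtype.comp ψ₀.toMonoidHom).comp (Subgroup.inclusion hQP)).range := by
    refine ⟨hhS, ?_⟩
    show _ ∈ Subgroup.centralizer _
    rw [Subgroup.mem_centralizer_iff]
    rintro _ ⟨y, rfl⟩
    have h1 := hh (Subgroup.inclusion hQP y)
    rw [hfix _ y.2] at h1
    show ((ψ₀ (Subgroup.inclusion hQP y) : P') : Ω) * h = h * ((ψ₀ (Subgroup.inclusion hQP y) : P') : Ω)
    calc ((ψ₀ (Subgroup.inclusion hQP y) : P') : Ω) * h
        = (h * ((ψ₀ (Subgroup.inclusion hQP y) : P') : Ω) * h⁻¹) * h := by rw [← h1]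
      _ = h * ((ψ₀ (Subgroup.inclusion hQP y) : P') : Ω) := by group
  have hhQ' := hQ'c.2 _ (isConj_refl F hQ'c.1) hhC
  obtain ⟨z, hz⟩ := hhQ'
  refine ⟨Subgroup.inclusion hQP z, z.2, ?_, ?_⟩
  · rw [Subgroup.mem_centralizer_iff]
    intro y hy
    have hcomm := Subgroup.mem_centralizer_iff.mp hhC.2 _ ⟨⟨y, hy⟩, rfl⟩
    rw [← hz] at hcomm
    have hinj := F.injective_of_mem hres
    have : (⟨y, hy⟩ : Q) * z = z * ⟨y, hy⟩ := by
      apply hinj
      rw [map_mul, map_mul]
      exact hcomm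
    exact congrArg Subtype.val this
  · intro x
    apply ψ₀.injective
    apply Subtype.ext
    rw [hh x, map_mul, map_mul, map_inv, ← hz]
    rfl

/-! ### a map of `F` whose restriction to a centric subgroup lies in `F'` lies in `F'` -/

theorem mem_of_restrict_centric_mem [Finite S] (p : ℕ) [Fact p.Prime] (hS : IsPGroup p S)
    (F F' : FusionSystem S) (hF : F.IsSaturated p) (hF' : F'.IsSaturated p) (hle : F' ≤ F) :
    ∀ (n : ℕ) (Q R : Subgroup Ω) (hQR : Q ≤ R), Nat.card R - Nat.card Q = n → F.IsCentric Q →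
      ∀ ψ : R →* Ω, ψ ∈ F.Hom R → ψ.comp (Subgroup.inclusion hQR) ∈ F'.Hom Q → ψ ∈ F'.Hom R := by
  intro n
  induction n using Nat.strong_induction_on with
  | _ n ih =>
    intro Q R hQR hn hQ ψ hψ hψQ
    have hRS : R ≤ S := (F.le_of_mem hψ).1
    haveI : Finite R := finite_of_le hRS
    by_cases hQeq : Q = R
    · subst hQeq
      convert hψQ using 1
      ext x; rfl
    · obtain ⟨g, hgN, hgQ⟩ := exists_mem_normalizerIn_not_mem (S := R) (hS.to_le hRS) hQR hQeq
      have hQN : Q ≤ normalizerIn R Q := le_normalizerIn hQR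
      have hNR : normalizerIn R Q ≤ R := normalizerIn_le R Q
      have hNS : normalizerIn R Q ≤ S := hNR.trans hRS
      have hβF : ψ.comp (Subgroup.inclusion hQR) ∈ F.Hom Q := hle Q hψQ
      have hQ'c : F.IsCentric (ψ.comp (Subgroup.inclusion hQR)).range :=
        isCentric_of_isConj F hQ ⟨_, hβF, rfl⟩
      have hQ'r : F'.IsReceptive (ψ.comp (Subgroup.inclusion hQR)).range :=
        Cfsg.Agent.helper25.receptive_of_fullyCentralized hS F' hF'
          (isFullyCentralized_of_isCentric F' (isCentric_of_subsystem F' F hle hQ'c))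
      obtain ⟨β₁, hβ₁, hβ₁'⟩ := hQ'r.2 Q _ hψQ rfl
      have hNext : normalizerIn R Q ≤ extender S Q (ψ.comp (Subgroup.inclusion hQR)) := by
        intro g hg
        rw [mem_extender_iff]
        refine ⟨hRS hg.1, hg.2, ψ ⟨g, hg.1⟩, (F.le_of_mem hψ).2 _, fun x hx => ?_⟩
        show ψ ⟨g * x * g⁻¹, _⟩ = ψ ⟨g, hg.1⟩ * ψ ⟨x, hQR x.2⟩ * (ψ ⟨g, hg.1⟩)⁻¹
        rw [← map_inv, ← map_mul, ← map_mul]
        rfl
      have hβ₂ := restrict_mem F' hNext β₁ hβ₁
      have hβ₂F : β₁.comp (Subgroup.inclusion hNext) ∈ F.Hom (normalizerIn R Q) := hle _ hβ₂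
      have hψN := restrict_mem F hNR ψ hψ
      have hagree : ∀ x : Q, (β₁.comp (Subgroup.inclusion hNext)) (Subgroup.inclusion hQN x) =
          (ψ.comp (Subgroup.inclusion hNR)) (Subgroup.inclusion hQN x) := by
        intro x
        show β₁ ⟨x, hNext (hQN x.2)⟩ = ψ ⟨x, hQR x.2⟩
        rw [hβ₁' x x.2 _]
        rfl
      have hrange : ∀ g : normalizerIn R Q,
          (ψ.comp (Subgroup.inclusion hNR)) g ∈ (β₁.comp (Subgroup.inclusion hNext)).range := by
        intro g
        have hc : ((β₁.comp (Subgroup.inclusion hNext)) g)⁻¹ * (ψ.comp (Subgroup.inclusion hNR)) g ∈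
            centralizerIn S (ψ.comp (Subgroup.inclusion hQR)).range := by
          refine ⟨S.mul_mem (S.inv_mem ((F.le_of_mem hβ₂F).2 g)) ((F.le_of_mem hψN).2 g), ?_⟩
          show _ ∈ Subgroup.centralizer _
          rw [Subgroup.mem_centralizer_iff]
          rintro _ ⟨x, rfl⟩
          have hgx : (g : Ω) * x * (g : Ω)⁻¹ ∈ Q := (Subgroup.mem_normalizer_iff.mp g.2.2 x).mp x.2
          have e1 : (ψ.comp (Subgroup.inclusion hNR)) g * (ψ.comp (Subgroup.inclusion hQR)) x *
              ((ψ.comp (Subgroup.inclusion hNR)) g)⁻¹ =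
              (ψ.comp (Subgroup.inclusion hQR)) ⟨(g : Ω) * x * (g : Ω)⁻¹, hgx⟩ := by
            show ψ ⟨g, hNR g.2⟩ * ψ ⟨x, hQR x.2⟩ * (ψ ⟨g, hNR g.2⟩)⁻¹ = ψ ⟨_, hQR hgx⟩
            rw [← map_inv, ← map_mul, ← map_mul]; rfl
          have e2 : (β₁.comp (Subgroup.inclusion hNext)) g * (ψ.comp (Subgroup.inclusion hQR)) x *
              ((β₁.comp (Subgroup.inclusion hNext)) g)⁻¹ =
              (ψ.comp (Subgroup.inclusion hQR)) ⟨(g : Ω) * x * (g : Ω)⁻¹, hgx⟩ := by
            have hx1 : (ψ.comp (Subgroup.inclusion hQR)) x =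
                (β₁.comp (Subgroup.inclusion hNext)) (Subgroup.inclusion hQN x) := (hagree x).symm
            have hx2 : (ψ.comp (Subgroup.inclusion hQR)) ⟨(g : Ω) * x * (g : Ω)⁻¹, hgx⟩ =
                (β₁.comp (Subgroup.inclusion hNext)) (Subgroup.inclusion hQN ⟨_, hgx⟩) :=
              (hagree ⟨_, hgx⟩).symm
            rw [hx1, hx2, ← map_inv, ← map_mul, ← map_mul]; rfl
          calc (ψ.comp (Subgroup.inclusion hQR)) x *
                (((β₁.comp (Subgroup.inclusion hNext)) g)⁻¹ * (ψ.comp (Subgroup.inclusion hNR)) g)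
              = ((β₁.comp (Subgroup.inclusion hNext)) g)⁻¹ *
                ((β₁.comp (Subgroup.inclusion hNext)) g * (ψ.comp (Subgroup.inclusion hQR)) x *
                  ((β₁.comp (Subgroup.inclusion hNext)) g)⁻¹) * (ψ.comp (Subgroup.inclusion hNR)) g := by
                group
            _ = ((β₁.comp (Subgroup.inclusion hNext)) g)⁻¹ *
                ((ψ.comp (Subgroup.inclusion hNR)) g * (ψ.comp (Subgroup.inclusion hQR)) x *
                  ((ψ.comp (Subgroup.inclusion hNR)) g)⁻¹) * (ψ.comp (Subgroup.inclusion hNR)) g := by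
                rw [e2, e1]
            _ = ((β₁.comp (Subgroup.inclusion hNext)) g)⁻¹ * (ψ.comp (Subgroup.inclusion hNR)) g *
                (ψ.comp (Subgroup.inclusion hQR)) x := by group
        have hcQ' := hQ'c.2 _ (isConj_refl F hQ'c.1) hc
        obtain ⟨x, hx⟩ := hcQ'
        refine ⟨g * Subgroup.inclusion hQN x, ?_⟩
        rw [map_mul, hagree x]
        show (β₁.comp (Subgroup.inclusion hNext)) g * (ψ.comp (Subgroup.inclusion hQR)) x = _
        rw [hx]; group
      have hβ₂S : (β₁.comp (Subgroup.inclusion hNext)).range ≤ S := by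
        rintro _ ⟨g, rfl⟩; exact (F.le_of_mem hβ₂F).2 g
      haveI : Finite (β₁.comp (Subgroup.inclusion hNext)).range := finite_of_le hβ₂S
      have hψNr : (ψ.comp (Subgroup.inclusion hNR)).range = (β₁.comp (Subgroup.inclusion hNext)).range := by
        apply Subgroup.eq_of_le_of_card_ge (by rintro _ ⟨g, rfl⟩; exact hrange g)
        rw [← Nat.card_congr (MonoidHom.ofInjective (F.injective_of_mem hβ₂F)).toEquiv,
          ← Nat.card_congr (MonoidHom.ofInjective (F.injective_of_mem hψN)).toEquiv]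
      obtain ⟨eψ, heψ, heψ'⟩ := exists_isFIso_of_mem F hψN hψNr
      obtain ⟨eβ, heβ, heβ'⟩ := exists_isFIso_of_mem F' hβ₂ rfl
      have heβF : IsFIso F eβ := hle _ heβ
      have hχF : IsFIso F (eψ.trans eβ.symm) := heψ.trans heβF.symm
      haveI : Finite (normalizerIn R Q) := finite_of_le hNS
      have hχmem : (eψ.trans eβ.symm : MulAut (normalizerIn R Q)) ∈ F.autGroup (normalizerIn R Q) :=
        (mem_autGroup_iff_isFIso F hNS _).mpr hχF
      have hχfix : ∀ x : normalizerIn R Q, (x : Ω) ∈ Q → (eψ.trans eβ.symm) x = x := by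
        intro x hx
        show eβ.symm (eψ x) = x
        rw [MulEquiv.symm_apply_eq]
        apply Subtype.ext
        rw [heψ', heβ']
        exact (hagree ⟨x, hx⟩).symm
      obtain ⟨z, hzQ, hzC, hz⟩ := exists_conj_of_fix_centric p hS F hF hNS hQN hQ _ hχmem hχfix
      have hconjF' : IsFIso F' (MulAut.conj z : normalizerIn R Q ≃* normalizerIn R Q) := by
        unfold IsFIso
        have : (normalizerIn R Q).subtype.comp
            (MulAut.conj z : normalizerIn R Q ≃* normalizerIn R Q).toMonoidHom =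
            conjHom (normalizerIn R Q) (z : Ω) := by
          ext x; rfl
        rw [this]; exact F'.conj_mem hNS (hNS z.2)
      have heq : eψ = (MulAut.conj z : normalizerIn R Q ≃* normalizerIn R Q).trans eβ := by
        apply MulEquiv.ext
        intro x
        show eψ x = eβ (z * x * z⁻¹)
        rw [← hz x]; simp
      have heψF' : IsFIso F' eψ := by rw [heq]; exact hconjF'.trans heβ
      have hψNF' : ψ.comp (Subgroup.inclusion hNR) ∈ F'.Hom (normalizerIn R Q) := by
        unfold IsFIso at heψF'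
        convert heψF' using 1
        ext x; exact (heψ' x).symm
      have hNc : F.IsCentric (normalizerIn R Q) := isCentric_of_le F hQ hQN hNS
      have hcardlt : Nat.card Q < Nat.card (normalizerIn R Q) := card_lt_of_le_of_not_mem hQN hgN hgQ
      have hcardle : Nat.card (normalizerIn R Q) ≤ Nat.card R := Subgroup.card_le_of_le hNR
      exact ih (Nat.card R - Nat.card (normalizerIn R Q)) (by omega) (normalizerIn R Q) R hNR rfl hNc ψ hψ hψNF'

end Cfsg.Agent.helper26
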