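import Cfsg.Agent.Lib_helper25_PrimeIdx1
import Cfsg.Agent.Lib_helper26_Centric

set_option autoImplicit false
set_option linter.style.haveILetI false
set_option linter.unusedVariables false
set_option maxHeartbeats 1000000

namespace Cfsg.Agent.helper25

open Cfsg Cfsg.FusionSystem

section Generic

variable {G : Type*} [Group G]

/-- the subgroup of `A` generated by its elements of `p`-power order. -/
def oppSub (p : ℕ) (A : Subgroup G) : Subgroup G :=
  Subgroup.closure {a : G | a ∈ A ∧ ∃ k : ℕ, orderOf a = p ^ k}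

theorem map_closure_eq_oppSub (p : ℕ) (A : Subgroup G) :
    (Subgroup.closure {α : A | ∃ k : ℕ, orderOf α = p ^ k}).map A.subtype = oppSub p A := by
  rw [MonoidHom.map_closure]
  unfold oppSub
  congr 1
  ext a; constructor
  · rintro ⟨α, ⟨k, hk⟩, rfl⟩
    exact ⟨α.2, k, by rw [← hk]; exact Subgroup.orderOf_coe α⟩
  · rintro ⟨ha, k, hk⟩
    exact ⟨⟨a, ha⟩, ⟨k, by rw [← hk]; exact Subgroup.orderOf_mk a ha⟩, rfl⟩

theorem oppSub_le (p : ℕ) (A : Subgroup G) : oppSub p A ≤ A := by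
  unfold oppSub
  rw [Subgroup.closure_le]
  intro a ha; exact ha.1

theorem mem_oppSub_of_orderOf {p : ℕ} {A : Subgroup G} {a : G} (ha : a ∈ A) {k : ℕ}
    (hk : orderOf a = p ^ k) : a ∈ oppSub p A :=
  Subgroup.subset_closure ⟨ha, k, hk⟩

theorem le_oppSub_of_isPGroup {p : ℕ} [Fact p.Prime] {A H : Subgroup G} (hHA : H ≤ A)
    (hH : IsPGroup p H) : H ≤ oppSub p A := by
  intro a ha
  obtain ⟨k, hk⟩ := hH ⟨a, ha⟩
  have h1 : a ^ p ^ k = 1 := congrArg Subtype.val hk
  obtain ⟨j, -, hj⟩ := (Nat.dvd_prime_pow (Fact.out : p.Prime)).mp (orderOf_dvd_of_pow_eq_one h1)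
  exact mem_oppSub_of_orderOf (hHA ha) hj

theorem conj_mem_oppSub {p : ℕ} {A : Subgroup G} {a : G} (ha : a ∈ A) {m : G}
    (hm : m ∈ oppSub p A) : a * m * a⁻¹ ∈ oppSub p A := by
  unfold oppSub at hm ⊢
  induction hm using Subgroup.closure_induction with
  | mem x hx =>
    apply Subgroup.subset_closure
    refine ⟨A.mul_mem (A.mul_mem ha hx.1) (A.inv_mem ha), ?_⟩
    obtain ⟨k, hk⟩ := hx.2
    refine ⟨k, ?_⟩
    rw [← hk]
    exact MulEquiv.orderOf_eq (MulAut.conj a) x
  | one => simp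
  | mul x y _ _ hx hy =>
    have : a * (x * y) * a⁻¹ = (a * x * a⁻¹) * (a * y * a⁻¹) := by group
    rw [this]; exact Subgroup.mul_mem _ hx hy
  | inv x _ hx =>
    have : a * x⁻¹ * a⁻¹ = (a * x * a⁻¹)⁻¹ := by group
    rw [this]; exact Subgroup.inv_mem _ hx

theorem le_normalizer_oppSub [Finite G] (p : ℕ) (A : Subgroup G) :
    A ≤ Subgroup.normalizer (oppSub p A : Set G) := by
  intro a ha
  apply Subgroup.mem_normalizer_fintype
  intro m hm
  exact conj_mem_oppSub ha hm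

end Generic

variable {Ω : Type*} [Group Ω] {S : Subgroup Ω}

/-- the restriction of an automorphism of `S` to `P`, as an isomorphism of the system. -/
theorem exists_autMap_iso (F : FusionSystem S) {P : Subgroup Ω} (hPS : P ≤ S) {β : MulAut S}
    (hβ : β ∈ F.autGroup S) :
    ∃ e : P ≃* helper26.autMap β P, IsFIso F e ∧
      ∀ x : P, ((e x : helper26.autMap β P) : Ω) = ((β ⟨x, hPS x.2⟩ : S) : Ω) := by
  have hβ' : S.subtype.comp β.toMonoidHom ∈ F.Hom S := (mem_autGroup_iff F le_rfl β).mp hβ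
  have h1 := restrict_mem F hPS hβ'
  have hr : ((S.subtype.comp β.toMonoidHom).comp (Subgroup.inclusion hPS)).range =
      helper26.autMap β P := by
    ext y
    rw [helper26.mem_autMap]
    constructor
    · rintro ⟨x, rfl⟩; exact ⟨⟨x, hPS x.2⟩, x.2, rfl⟩
    · rintro ⟨t, ht, rfl⟩; exact ⟨⟨t, ht⟩, rfl⟩
  obtain ⟨e, he, hecoe⟩ := exists_isFIso_of_mem F h1 hr
  exact ⟨e, he, fun x => hecoe x⟩

/-- the hypothesis on the centric subgroups passes to the core. -/
theorem coreSystem_opp {p : ℕ} (E F : FusionSystem S)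
    (h : ∀ P : Subgroup Ω, F.IsCentric P → oppSub p (F.autGroup P) ≤ E.autGroup P) :
    ∀ P : Subgroup Ω, F.IsCentric P → oppSub p (F.autGroup P) ≤ (coreSystem E F).autGroup P := by
  intro P hPc
  have hPS : P ≤ S := hPc.1
  unfold oppSub
  rw [Subgroup.closure_le]
  rintro γ ⟨hγ, k, hk⟩
  apply (mem_autGroup_iff (coreSystem E F) hPS γ).mpr
  show P.subtype.comp γ.toMonoidHom ∈ (coreSystem E F).Hom P
  have hγE : γ ∈ E.autGroup P := h P hPc (mem_oppSub_of_orderOf hγ hk)
  refine ⟨(mem_autGroup_iff E hPS γ).mp hγE, fun β hβ => ?_⟩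
  obtain ⟨e, he, hecoe⟩ := exists_autMap_iso F hPS hβ
  have hQS : helper26.autMap β P ≤ S := helper26.autMap_le β P
  have hQc : F.IsCentric (helper26.autMap β P) := helper26.isCentric_of_isConj F hPc he.isConj
  have hγ' : MulAut.congr e γ ∈ F.autGroup (helper26.autMap β P) := he.congr_mem_autGroup hγ
  have hord : orderOf (MulAut.congr e γ) = p ^ k := by
    rw [← hk]; exact MulEquiv.orderOf_eq (MulAut.congr e) γ
  have hγ'E : MulAut.congr e γ ∈ E.autGroup (helper26.autMap β P) :=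
    h _ hQc (mem_oppSub_of_orderOf hγ' hord)
  refine ⟨_, (mem_autGroup_iff E hQS _).mp hγ'E, ?_⟩
  intro y t ht hφt hy
  have h1 : e ⟨t, ht⟩ = y := Subtype.ext ((hecoe ⟨t, ht⟩).trans hy)
  show ((e (γ (e.symm y)) : helper26.autMap β P) : Ω) = _
  rw [← h1, MulEquiv.symm_apply_apply, hecoe]
  rfl

end Cfsg.Agent.helper25
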