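import Cfsg.Agent.Lib_helper25_FactorSat2
import Cfsg.Agent.Lib_helper25_ChainNormal2
import Cfsg.Agent.Lib_helper25_AlperinInd

set_option autoImplicit false
set_option linter.style.haveILetI false
set_option linter.unusedVariables false

namespace Cfsg.Agent.helper25

open Cfsg Cfsg.FusionSystem
open scoped commutatorElement

variable {Ω : Type*} [Group Ω] {S : Subgroup Ω} {Ω' : Type*} [Group Ω']

theorem stronglyClosed_normal_subgroupOf (F : FusionSystem S) {R : Subgroup Ω}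
    (hR : F.StronglyClosed R) : (R.subgroupOf S).Normal := by
  constructor
  intro n hn g
  rw [Subgroup.mem_subgroupOf] at hn ⊢
  have hN := stronglyClosed_le_normalizer F hR g.2
  exact (Subgroup.mem_normalizer_iff.mp hN _).mp hn

theorem stronglyClosed_self (F : FusionSystem S) : F.StronglyClosed S :=
  ⟨le_rfl, fun R _ φ hφ x => (F.le_of_mem hφ).2 x⟩

theorem stronglyClosed_bot (F : FusionSystem S) : F.StronglyClosed ⊥ := by
  refine ⟨bot_le, fun R hR φ hφ x => ?_⟩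
  have hx : (x : Ω) = 1 := Subgroup.mem_bot.mp (hR x.2)
  have hx1 : x = 1 := Subtype.ext hx
  rw [hx1, map_one]; exact Subgroup.one_mem _

theorem stronglyClosed_inf (F : FusionSystem S) {T₁ T₂ : Subgroup Ω}
    (h₁ : F.StronglyClosed T₁) (h₂ : F.StronglyClosed T₂) : F.StronglyClosed (T₁ ⊓ T₂) :=
  ⟨inf_le_left.trans h₁.1, fun R hR φ hφ x =>
    ⟨h₁.2 R (hR.trans inf_le_left) φ hφ x, h₂.2 R (hR.trans inf_le_right) φ hφ x⟩⟩

/-- the image of a strongly closed subgroup containing the kernel is strongly closed in the factor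
system. -/
theorem stronglyClosed_imageAlong (F : FusionSystem S) {K : Subgroup Ω} {S' : Subgroup Ω'}
    (θ : S →* Ω') (E : FusionSystem S') (hE : F.IsFactorSystem K θ E) {Q : Subgroup Ω}
    (hQ : F.StronglyClosed Q) (hKQ : K ≤ Q) : E.StronglyClosed (imageAlong θ Q) := by
  obtain ⟨hKS, hker, rfl, hiff⟩ := hE
  refine ⟨imageAlong_le_range θ Q, fun P' hP' φ' hφ' y => ?_⟩
  obtain ⟨hP'S, φ, hφ, hind⟩ := (hiff P' φ').mp hφ'
  obtain ⟨hval, hspec⟩ := (inducedAlong_iff θ).mp hind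
  obtain ⟨x, rfl⟩ := quotMap_surjective θ hP'S y
  rw [hspec x]
  have hpre : preimageAlong θ (imageAlong θ Q) = Q := by
    rw [preimageAlong_imageAlong hKS hker hQ.1]; exact sup_eq_left.mpr hKQ
  have hxQ : (x : Ω) ∈ Q := by
    rw [← hpre]; exact preimageAlong_mono θ hP' x.2
  have hφx : φ x ∈ Q := stronglyClosed_hom_mem F hQ hφ hxQ
  exact mem_imageAlong θ hQ.1 ⟨φ x, hφx⟩

/-- the full preimage of a strongly closed subgroup of the factor system is strongly closed. -/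
theorem stronglyClosed_preimageAlong [Finite S] {p : ℕ} [Fact p.Prime] (hS : IsPGroup p S)
    (F : FusionSystem S) (hF : F.IsSaturated p) {K : Subgroup Ω} (hK : F.StronglyClosed K)
    {S' : Subgroup Ω'} (θ : S →* Ω') (E : FusionSystem S') (hE : F.IsFactorSystem K θ E)
    {Q' : Subgroup Ω'} (hQ' : E.StronglyClosed Q') :
    F.StronglyClosed (preimageAlong θ Q') := by
  obtain ⟨hKS, hker, rfl, hiff⟩ := hE
  refine ⟨preimageAlong_le θ Q', fun R hR φ hφ x => ?_⟩
  obtain ⟨φ', ⟨ψ, hψ, hψind⟩, hRS, hφS, hR', hind⟩ := exists_induced hS F hF hK θ hker hφ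
  have hφ'E : φ' ∈ E.Hom (imageAlong θ R) :=
    (hiff _ φ').mpr ⟨imageAlong_le_range θ R, ψ, hψ, hψind⟩
  have hle : imageAlong θ R ≤ Q' := by
    rintro _ ⟨s, hs, rfl⟩
    have hsR : (s : Ω) ∈ R := Subgroup.mem_subgroupOf.mp hs
    exact ((mem_preimageAlong θ Q' _).mp (hR hsR)).2
  have h1 := hQ'.2 _ hle φ' hφ'E ⟨θ ⟨x, hRS x.2⟩, hR' x⟩
  rw [hind x] at h1
  exact (mem_preimageAlong θ Q' _).mpr ⟨hφS x, h1⟩

/-- if the factor system modulo `R` has a nontrivial normal subgroup, there is a larger strongly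
closed subgroup with abelian quotient. -/
theorem exists_stronglyClosed_of_core_ne_bot [Finite S] {p : ℕ} [Fact p.Prime]
    (hS : IsPGroup p S)
    (F : FusionSystem S) (hF : F.IsSaturated p) {R : Subgroup Ω} (hR : F.StronglyClosed R)
    {S' : Subgroup Ω'} [Finite S'] (hS' : IsPGroup p S') (θ : S →* Ω') (E : FusionSystem S')
    (hfac : F.IsFactorSystem R θ E) (hcore : E.core ≠ ⊥) :
    ∃ R₁, F.StronglyClosed R₁ ∧ R < R₁ ∧ ⁅R₁, R₁⁆ ≤ R := by
  have hEsat := factor_isSaturated hS F hF hR θ E hfac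
  obtain ⟨Q', hQ'ne, hQ'ab, hQ'sc⟩ := (core_ne_bot_iff hS' E hEsat).mp hcore
  have hR₁sc := stronglyClosed_preimageAlong hS F hF hR θ E hfac hQ'sc
  obtain ⟨hKS, hker, hrange, hiff⟩ := hfac
  have hQ'r : Q' ≤ θ.range := hrange ▸ hQ'sc.1
  refine ⟨preimageAlong θ Q', hR₁sc, ?_, ?_⟩
  · apply lt_of_le_of_ne (ker_le_preimageAlong hKS hker Q')
    intro heq
    apply hQ'ne
    rw [eq_bot_iff]
    intro y hy
    obtain ⟨x, hx⟩ := exists_preimage hQ'r ⟨y, hy⟩
    have hxR : (x : Ω) ∈ R := heq.ge x.2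
    have h1 := (hker ⟨x, preimageAlong_le θ Q' x.2⟩).mpr hxR
    have h2 : y = 1 := by
      have hx' : θ ⟨x, preimageAlong_le θ Q' x.2⟩ = y := hx
      rw [← hx']; exact h1
    rw [h2]; exact Subgroup.one_mem _
  · rw [Subgroup.commutator_le]
    intro a ha b hb
    obtain ⟨haS, ha'⟩ := (mem_preimageAlong θ Q' a).mp ha
    obtain ⟨hbS, hb'⟩ := (mem_preimageAlong θ Q' b).mp hb
    have hcS : ⁅a, b⁆ ∈ S := by
      rw [commutatorElement_def]
      exact S.mul_mem (S.mul_mem (S.mul_mem haS hbS) (S.inv_mem haS)) (S.inv_mem hbS)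
    apply (hker ⟨⁅a, b⁆, hcS⟩).mp
    have e : (⟨⁅a, b⁆, hcS⟩ : S) = ⁅(⟨a, haS⟩ : S), ⟨b, hbS⟩⁆ := Subtype.ext rfl
    rw [e, map_commutatorElement]
    have hc : (⟨θ ⟨a, haS⟩, ha'⟩ : Q') * ⟨θ ⟨b, hbS⟩, hb'⟩ =
        ⟨θ ⟨b, hbS⟩, hb'⟩ * ⟨θ ⟨a, haS⟩, ha'⟩ := hQ'ab.is_comm.comm _ _
    have hc' : θ ⟨a, haS⟩ * θ ⟨b, hbS⟩ = θ ⟨b, hbS⟩ * θ ⟨a, haS⟩ := congrArg Subtype.val hc
    rw [commutatorElement_eq_one_iff_mul_comm]; exact hc'

theorem solvable_step [Finite S] {p : ℕ} [Fact p.Prime] (hS : IsPGroup p S)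
    (F : FusionSystem S) (hF : F.IsSaturated p) (h : F.IsSolvableSystem) {R : Subgroup Ω}
    (hR : F.StronglyClosed R) (hne : R ≠ S) :
    ∃ R₁, F.StronglyClosed R₁ ∧ R < R₁ ∧ ⁅R₁, R₁⁆ ≤ R := by
  haveI := stronglyClosed_normal_subgroupOf F hR
  obtain ⟨E, hfac⟩ := exists_factorSystem_quotient F R hR
  have hcore := h R hR hne E hfac
  have hS' : IsPGroup p (⊤ : Subgroup (S ⧸ R.subgroupOf S)) :=
    (hS.to_quotient _).to_subgroup ⊤
  exact exists_stronglyClosed_of_core_ne_bot hS F hF hR hS' _ E hfac hcore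

/-- a solvable saturated system has a chain of strongly closed subgroups with abelian quotients. -/
theorem solvable_chain [Finite S] {p : ℕ} [Fact p.Prime] (hS : IsPGroup p S)
    (F : FusionSystem S) (hF : F.IsSaturated p) (h : F.IsSolvableSystem) :
    ∃ (n : ℕ) (T : Fin (n + 1) → Subgroup Ω), T 0 = ⊥ ∧ T (Fin.last n) = S ∧ Monotone T ∧
      (∀ i, F.StronglyClosed (T i)) ∧
      ∀ i : Fin n, ⁅T i.succ, T i.succ⁆ ≤ T (Fin.castSucc i) := by
  classical
  have step : ∀ R : Subgroup Ω, F.StronglyClosed R ∧ R ≠ S →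
      ∃ R₁, F.StronglyClosed R₁ ∧ R < R₁ ∧ ⁅R₁, R₁⁆ ≤ R :=
    fun R hR => solvable_step hS F hF h hR.1 hR.2
  let next : Subgroup Ω → Subgroup Ω := fun R =>
    if hR : F.StronglyClosed R ∧ R ≠ S then Classical.choose (step R hR) else S
  have hnext_pos : ∀ R (hR : F.StronglyClosed R ∧ R ≠ S),
      next R = Classical.choose (step R hR) := fun R hR => dif_pos hR
  have hnext_neg : ∀ R, ¬ (F.StronglyClosed R ∧ R ≠ S) → next R = S := fun R hR => dif_neg hR
  have hnext_sc : ∀ R, F.StronglyClosed R → F.StronglyClosed (next R) := by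
    intro R hR
    by_cases hne : R = S
    · rw [hnext_neg R (fun hc => hc.2 hne)]; exact stronglyClosed_self F
    · rw [hnext_pos R ⟨hR, hne⟩]
      exact (Classical.choose_spec (step R ⟨hR, hne⟩)).1
  have hnext_le : ∀ R, F.StronglyClosed R →
      R ≤ next R ∧ ⁅next R, next R⁆ ≤ R ∧ (R ≠ S → R < next R) := by
    intro R hR
    by_cases hne : R = S
    · rw [hnext_neg R (fun hc => hc.2 hne)]
      refine ⟨hR.1, ?_, fun h' => absurd hne h'⟩
      rw [hne, Subgroup.commutator_le]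
      intro a ha b hb
      rw [commutatorElement_def]
      exact S.mul_mem (S.mul_mem (S.mul_mem ha hb) (S.inv_mem ha)) (S.inv_mem hb)
    · rw [hnext_pos R ⟨hR, hne⟩]
      have hspec := Classical.choose_spec (step R ⟨hR, hne⟩)
      exact ⟨hspec.2.1.le, hspec.2.2, fun _ => hspec.2.1⟩
  let f : ℕ → Subgroup Ω := fun k => next^[k] ⊥
  have hf0 : f 0 = ⊥ := rfl
  have hfs : ∀ k, f (k + 1) = next (f k) := fun k => Function.iterate_succ_apply' next k ⊥
  have hfsc : ∀ k, F.StronglyClosed (f k) := by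
    intro k
    induction k with
    | zero => exact stronglyClosed_bot F
    | succ k ih => rw [hfs]; exact hnext_sc _ ih
  have hfmono : Monotone f :=
    monotone_nat_of_le_succ (fun k => by rw [hfs]; exact (hnext_le _ (hfsc k)).1)
  have hfcomm : ∀ k, ⁅f (k + 1), f (k + 1)⁆ ≤ f k := fun k => by
    rw [hfs]; exact (hnext_le _ (hfsc k)).2.1
  have hfcard : ∀ k, f k = S ∨ k < Nat.card (f k) := by
    intro k
    induction k with
    | zero => right; rw [hf0, Subgroup.card_bot]; exact Nat.one_pos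
    | succ k ih =>
      by_cases hk : f k = S
      · left; rw [hfs, hnext_neg _ (fun hc => hc.2 hk)]
      · right
        have h1 := ih.resolve_left hk
        have h2 := (hnext_le _ (hfsc k)).2.2 hk
        rw [hfs]
        haveI : Finite (next (f k)) := finite_of_le S (hnext_sc _ (hfsc k)).1
        have h3 := card_lt_of_lt' h2
        omega
  have hfin : f (Nat.card S) = S := by
    rcases hfcard (Nat.card S) with h1 | h1
    · exact h1
    · exfalso
      have h2 : Nat.card (f (Nat.card S)) ≤ Nat.card S :=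
        Nat.le_of_dvd Nat.card_pos (Subgroup.card_dvd_of_le (hfsc _).1)
      omega
  refine ⟨Nat.card S, fun i => f i, hf0, ?_, ?_, fun i => hfsc i, fun i => ?_⟩
  · show f ((Fin.last (Nat.card S) : Fin (Nat.card S + 1)) : ℕ) = S
    rw [Fin.val_last]; exact hfin
  · intro a b hab; exact hfmono hab
  · show ⁅f ((i.succ : Fin (Nat.card S + 1)) : ℕ), f ((i.succ : Fin (Nat.card S + 1)) : ℕ)⁆ ≤
      f ((Fin.castSucc i : Fin (Nat.card S + 1)) : ℕ)
    rw [Fin.val_succ, Fin.val_castSucc]; exact hfcomm i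

/-- a saturated system with a chain of strongly closed subgroups with abelian quotients is
solvable. -/
theorem solvable_of_chain [Finite S] {p : ℕ} [Fact p.Prime] (hS : IsPGroup p S)
    (F : FusionSystem S) (hF : F.IsSaturated p) {n : ℕ} (T : Fin (n + 1) → Subgroup Ω)
    (h0 : T 0 = ⊥) (hlast : T (Fin.last n) = S)
    (hsc : ∀ i, F.StronglyClosed (T i))
    (hcomm : ∀ i : Fin n, ⁅T i.succ, T i.succ⁆ ≤ T (Fin.castSucc i)) :
    F.IsSolvableSystem := by
  intro R hR hne inst E hfac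
  have hEsat := factor_isSaturated hS F hF hR _ E hfac
  have hS' : IsPGroup p (⊤ : Subgroup (S ⧸ R.subgroupOf S)) :=
    (hS.to_quotient _).to_subgroup ⊤
  rw [core_ne_bot_iff hS' E hEsat]
  have hj : ∃ j : Fin n, T (Fin.castSucc j) ≤ R ∧ ¬ T j.succ ≤ R := by
    by_contra hcon
    push Not at hcon
    have hall : ∀ i : Fin (n + 1), T i ≤ R := by
      intro i
      induction i using Fin.induction with
      | zero => rw [h0]; exact bot_le
      | succ j ih => exact hcon j ih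
    apply hne
    exact le_antisymm hR.1 (hlast ▸ hall (Fin.last n))
  obtain ⟨j, hjle, hjnot⟩ := hj
  have hQsc : F.StronglyClosed (T j.succ ⊔ R) := stronglyClosed_sup hS F hF (hsc _) hR
  have hSC' := stronglyClosed_imageAlong F _ E hfac hQsc le_sup_right
  obtain ⟨hKS, hker, hrange, hiff⟩ := hfac
  refine ⟨imageAlong (QuotientGroup.mk' (R.subgroupOf S)) (T j.succ ⊔ R), ?_, ?_, hSC'⟩
  · obtain ⟨t, ht, htR⟩ := SetLike.not_le_iff_exists.mp hjnot
    intro hbot
    have h1 : (QuotientGroup.mk' (R.subgroupOf S)) ⟨t, (hsc _).1 ht⟩ ∈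
        imageAlong (QuotientGroup.mk' (R.subgroupOf S)) (T j.succ ⊔ R) :=
      mem_imageAlong _ hQsc.1 ⟨t, Subgroup.mem_sup_left ht⟩
    rw [hbot, Subgroup.mem_bot] at h1
    exact htR ((hker _).mp h1)
  · have hNR : T j.succ ≤ Subgroup.normalizer (R : Set Ω) :=
      (hsc _).1.trans (stronglyClosed_le_normalizer F hR)
    have hred : ∀ a : S, (a : Ω) ∈ T j.succ ⊔ R → ∃ t : Ω, ∃ ht : t ∈ T j.succ,
        (QuotientGroup.mk' (R.subgroupOf S)) a =
          (QuotientGroup.mk' (R.subgroupOf S)) ⟨t, (hsc _).1 ht⟩ := by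
      intro a ha
      obtain ⟨t, ht, r, hr, htr⟩ := exists_mul_of_mem_sup hNR ha
      refine ⟨t, ht, ?_⟩
      have e : a = (⟨t, (hsc _).1 ht⟩ : S) * ⟨r, hR.1 hr⟩ := Subtype.ext htr.symm
      rw [e, map_mul, (hker ⟨r, hR.1 hr⟩).mpr hr, mul_one]
    constructor; constructor
    rintro ⟨_, ⟨a, ha, rfl⟩⟩ ⟨_, ⟨b, hb, rfl⟩⟩
    apply Subtype.ext
    show (QuotientGroup.mk' (R.subgroupOf S)) a * (QuotientGroup.mk' (R.subgroupOf S)) b =
      (QuotientGroup.mk' (R.subgroupOf S)) b * (QuotientGroup.mk' (R.subgroupOf S)) a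
    obtain ⟨t₁, ht₁, e₁⟩ := hred a (Subgroup.mem_subgroupOf.mp ha)
    obtain ⟨t₂, ht₂, e₂⟩ := hred b (Subgroup.mem_subgroupOf.mp hb)
    rw [e₁, e₂, ← commutatorElement_eq_one_iff_mul_comm, ← map_commutatorElement]
    apply (hker _).mpr
    apply hjle
    apply hcomm j
    exact Subgroup.commutator_mem_commutator ht₁ ht₂

end Cfsg.Agent.helper25
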