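import Cfsg.Agent.Lib_helper25_PrimeIdx2
import Cfsg.Agent.Lib_helper25_Solvable

set_option autoImplicit false
set_option linter.style.haveILetI false
set_option linter.unusedVariables false
set_option maxHeartbeats 1000000

namespace Cfsg.Agent.helper25

open Cfsg Cfsg.FusionSystem

variable {Ω : Type*} [Group Ω] {S : Subgroup Ω}

/-- an automorphism normalizing `Aut_S(R)` has the whole normalizer in its extender. -/
theorem normalizerIn_le_extender {R : Subgroup Ω} {b : MulAut R}
    (hcj : cj b (autInducedBy S R) = autInducedBy S R) :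
    normalizerIn S R ≤ extender S R (R.subtype.comp b.toMonoidHom) := by
  intro g hg
  apply (mem_extender_iff _ _ _ _).mpr
  refine ⟨hg.1, hg.2, ?_⟩
  have h1 : normAut R g hg.2 ∈ autInducedBy S R := normAut_mem S R hg
  have h2 : b * normAut R g hg.2 * b⁻¹ ∈ autInducedBy S R := by
    rw [← hcj]; exact conj_mem_cj b _ h1
  obtain ⟨k, hk, hkeq⟩ := (mem_autInducedBy_iff S R _).mp h2
  refine ⟨k, hk, fun x hx => ?_⟩
  have h3 := hkeq (b x)
  show ((b ⟨g * x * g⁻¹, hx⟩ : R) : Ω) = k * ((b x : R) : Ω) * k⁻¹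
  rw [← h3]
  show ((b ⟨g * x * g⁻¹, hx⟩ : R) : Ω) = ((b (normAut R g hg.2 (b⁻¹ (b x))) : R) : Ω)
  rw [MulAut.inv_apply_self]
  rfl

/-- the Frattini condition for a subsystem over `S`, invariant under `Aut_F(S)` and containing
`O^{p'}(Aut_F(P))` for the centric subgroups `P`. -/
theorem frattini_of_opp [Finite S] {p : ℕ} [Fact p.Prime] (hS : IsPGroup p S)
    (F : FusionSystem S) (hF : F.IsSaturated p) (E : FusionSystem S)
    (hEF : E.IsSubsystemOf F) (hinv : AutInv E F)
    (h : ∀ P : Subgroup Ω, F.IsCentric P → oppSub p (F.autGroup P) ≤ E.autGroup P) :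
    ∀ P : Subgroup Ω, P ≤ S → ∀ φ ∈ F.Hom P, FrCond E F P φ := by
  have hT : F.StronglyClosed S := stronglyClosed_self F
  intro P hPS φ hφ
  refine (frattini_induction hS F hF E hEF hT hinv ?_ P hPS hφ).2
  intro R hRS hRne hRfn IH μ hμ
  obtain ⟨D, hD⟩ : ∃ D : FusionSystem S, D = frattiniSystem E F hT.1 hEF hinv := ⟨_, rfl⟩
  rw [← hD] at IH ⊢
  have hED : ∀ P : Subgroup Ω, E.Hom P ⊆ D.Hom P := by
    intro P; rw [hD]; exact le_frattiniSystem E F hT.1 hEF hinv P
  haveI : Finite R := finite_of_le S hRS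
  obtain ⟨hRfc, hRfa⟩ := fullyNormalized_imp hS F hF hRfn
  have hRrec := receptive_of_fullyCentralized hS F hF hRfc
  by_cases hcen : F.IsCentric R
  · have hHA := autInducedBy_le_autGroup F hRS
    have hHM : autInducedBy S R ≤ oppSub p (F.autGroup R) :=
      le_oppSub_of_isPGroup hHA (isPGroup_autInducedBy hS R)
    obtain ⟨c, hc, b, hb, hcj, hμeq⟩ := frattini_isSylowIn hHA hRfa.2 (oppSub_le p _)
      (le_normalizer_oppSub p _) hμ
    rw [inf_eq_left.mpr hHM] at hcj
    have hcD : IsFIso D c := hED R ((mem_autGroup_iff E hRS c).mp (h R hcen hc))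
    have hRlt : R < normalizerIn S R := lt_normalizerIn hS (lt_of_le_of_ne hRS hRne)
    obtain ⟨g, hg, hgR⟩ := SetLike.exists_of_lt hRlt
    have hbD : b ∈ D.autGroup R :=
      aut_mem_of_extender F D hRrec IH hb (normalizerIn_le_extender hcj hg) hgR
    have hbD' : IsFIso D b := (mem_autGroup_iff D hRS b).mp hbD
    have h7 : μ = b.trans c := hμeq
    rw [h7]
    exact hbD'.trans hcD
  · have h1 := autGroup_le_of_not_centric hS F hF D hRfc hRrec hcen IH hμ
    exact (mem_autGroup_iff D hRS μ).mp h1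

end Cfsg.Agent.helper25
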