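import Cfsg.Agent.Lib_helper25_PrimeIdx3

set_option autoImplicit false
set_option linter.style.haveILetI false
set_option linter.unusedVariables false
set_option maxHeartbeats 1000000

namespace Cfsg.Agent.helper25

open Cfsg Cfsg.FusionSystem

variable {Ω : Type*} [Group Ω] {S : Subgroup Ω}

/-- under strong invariance, the isomorphisms of `F` transport `Aut_E`. -/
theorem StrongInv.congr_mem_autGroup {T : Subgroup Ω} {E : FusionSystem T} {F : FusionSystem S}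
    (h : StrongInv E F) {P Q : Subgroup Ω} (hPT : P ≤ T) (hQT : Q ≤ T) (e : P ≃* Q)
    (he : IsFIso F e) {m : MulAut P} (hm : m ∈ E.autGroup P) :
    MulAut.congr e m ∈ E.autGroup Q := by
  have hm' : P.subtype.comp m.toMonoidHom ∈ E.Hom P := (mem_autGroup_iff E hPT m).mp hm
  have he' : Q.subtype.comp e.toMonoidHom ∈ F.Hom P := he
  obtain ⟨χ, hχ, hχeq⟩ := h P P le_rfl hPT _ hm' (fun x => (m x).2) _ he'
  have heq : (P.subgroupOf P).map (Q.subtype.comp e.toMonoidHom) = Q := by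
    ext y; constructor
    · rintro ⟨z, -, rfl⟩; exact (e z).2
    · intro hy
      refine ⟨e.symm ⟨y, hy⟩, Subgroup.mem_subgroupOf.mpr (e.symm ⟨y, hy⟩).2, ?_⟩
      show ((e (e.symm ⟨y, hy⟩) : Q) : Ω) = y
      rw [MulEquiv.apply_symm_apply]
  have h1 := hom_congr E heq hχ
  have h2 : Q.subtype.comp (MulAut.congr e m).toMonoidHom =
      χ.comp (Subgroup.inclusion heq.ge) := by
    ext y
    have h3 := hχeq (e.symm y) (heq.ge (e (e.symm y)).2)
    have h4 : (⟨(Q.subtype.comp e.toMonoidHom) (Subgroup.inclusion (le_refl P) (e.symm y)),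
        heq.ge (e (e.symm y)).2⟩ : ↥((P.subgroupOf P).map (Q.subtype.comp e.toMonoidHom))) =
        Subgroup.inclusion heq.ge y := by
      apply Subtype.ext
      show ((e (e.symm y) : Q) : Ω) = y
      rw [MulEquiv.apply_symm_apply]
    rw [h4] at h3
    show ((e (m (e.symm y)) : Q) : Ω) = χ (Subgroup.inclusion heq.ge y)
    rw [h3]; rfl
  apply (mem_autGroup_iff E hQT _).mpr
  show Q.subtype.comp (MulAut.congr e m).toMonoidHom ∈ E.Hom Q
  rw [h2]; exact h1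

/-- an invariant subsystem over `S` itself contains `O^{p'}(Aut_F(P))` for every `P`. -/
theorem opp_le_of_invariant [Finite S] {p : ℕ} [Fact p.Prime] (hS : IsPGroup p S)
    (F : FusionSystem S) (hF : F.IsSaturated p) (E : FusionSystem S) (hE : E.IsInvariantIn F) :
    ∀ P : Subgroup Ω, P ≤ S → oppSub p (F.autGroup P) ≤ E.autGroup P := by
  intro P hPS
  have hSI := strongInv_of_invariant hE
  unfold oppSub
  rw [Subgroup.closure_le]
  rintro γ ⟨hγ, k, hk⟩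
  obtain ⟨R, hPR, hRfn⟩ := exists_fullyNormalized_conj F hPS
  obtain ⟨hRfc, hRfa⟩ := fullyNormalized_imp hS F hF hRfn
  obtain ⟨φ, hφ, hr⟩ := hPR
  obtain ⟨e, he, -⟩ := exists_isFIso_of_mem F hφ hr
  have hRS : R ≤ S := hRfn.1
  haveI : Finite R := finite_of_le S hRS
  have hγ' : MulAut.congr e γ ∈ F.autGroup R := he.congr_mem_autGroup hγ
  have hord : orderOf (MulAut.congr e γ) = p ^ k := by
    rw [← hk]; exact MulEquiv.orderOf_eq (MulAut.congr e) γ
  have hXK : Subgroup.zpowers (MulAut.congr e γ) ≤ F.autGroup R :=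
    (Subgroup.zpowers_le).mpr hγ'
  have hXp : IsPGroup p (Subgroup.zpowers (MulAut.congr e γ)) := by
    apply IsPGroup.of_card (n := k)
    rw [Nat.card_zpowers, hord]
  obtain ⟨δ, hδ, hδX⟩ := exists_cj_le_of_isSylowIn hRfa.2 hXK hXp
  have h1 : δ * MulAut.congr e γ * δ⁻¹ ∈ autInducedBy S R :=
    hδX (conj_mem_cj δ _ (Subgroup.mem_zpowers _))
  have h2 : δ * MulAut.congr e γ * δ⁻¹ ∈ E.autGroup R := autInducedBy_le_autGroup E hRS h1
  have he' : IsFIso F (e.trans δ) := he.trans ((mem_autGroup_iff F hRS δ).mp hδ)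
  have h3 : MulAut.congr (e.trans δ) γ = δ * MulAut.congr e γ * δ⁻¹ := by
    ext x; rfl
  have h4 := hSI.congr_mem_autGroup hRS hPS (e.trans δ).symm he'.symm h2
  have h5 : MulAut.congr (e.trans δ).symm (MulAut.congr (e.trans δ) γ) = γ := by
    ext x; simp
  rw [← h3, h5] at h4
  exact h4

/-- with the Frattini condition, the two systems have the same centric subgroups. -/
theorem isCentric_iff_of_frattini (E F : FusionSystem S) (hEF : E.IsSubsystemOf F)
    (hfr : ∀ P : Subgroup Ω, P ≤ S → ∀ φ ∈ F.Hom P, FrCond E F P φ) (P : Subgroup Ω) :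
    E.IsCentric P ↔ F.IsCentric P := by
  constructor
  · intro hE
    refine ⟨hE.1, ?_⟩
    rintro Q ⟨φ, hφ, hr⟩
    obtain ⟨α, hα, φ₀, hφ₀, heq⟩ := hfr P hE.1 φ hφ
    have hφ₀S : ∀ x, φ₀ x ∈ S := (E.le_of_mem hφ₀).2
    have hQ₀ := hE.2 φ₀.range ⟨φ₀, hφ₀, rfl⟩
    intro c hc
    have hcS : c ∈ S := hc.1
    have hcC : c ∈ Subgroup.centralizer (Q : Set Ω) := hc.2
    have hmem : ((α⁻¹ ⟨c, hcS⟩ : S) : Ω) ∈ centralizerIn S φ₀.range := by
      refine ⟨(α⁻¹ ⟨c, hcS⟩).2, ?_⟩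
      apply Subgroup.mem_centralizer_iff.mpr
      rintro _ ⟨x, rfl⟩
      have hφxQ : φ x ∈ Q := hr ▸ ⟨x, rfl⟩
      have h1 : φ x * c = c * φ x := Subgroup.mem_centralizer_iff.mp hcC _ hφxQ
      have h2 : α (⟨φ₀ x, hφ₀S x⟩ * α⁻¹ ⟨c, hcS⟩) = α (α⁻¹ ⟨c, hcS⟩ * ⟨φ₀ x, hφ₀S x⟩) := by
        rw [map_mul, map_mul, MulAut.apply_inv_self]
        apply Subtype.ext
        show ((α ⟨φ₀ x, hφ₀S x⟩ : S) : Ω) * c = c * ((α ⟨φ₀ x, hφ₀S x⟩ : S) : Ω)
        rw [← heq x (hφ₀S x)]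
        exact h1
      exact congrArg Subtype.val (α.injective h2)
    obtain ⟨x, hx⟩ := hQ₀ hmem
    have h3 : (⟨φ₀ x, hφ₀S x⟩ : S) = α⁻¹ ⟨c, hcS⟩ := Subtype.ext hx
    have h4 : φ x = c := by
      rw [heq x (hφ₀S x), h3, MulAut.apply_inv_self]
    rw [← hr, ← h4]
    exact ⟨x, rfl⟩
  · intro hF
    exact helper26.isCentric_of_subsystem E F (fun P => hEF P) hF

/-- the criterion for index prime to `p`. -/
theorem primeIdx_main [Finite S] {p : ℕ} [Fact p.Prime] (hS : IsPGroup p S)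
    (F : FusionSystem S) (hF : F.IsSaturated p) (E : FusionSystem S) (hEF : E.IsSubsystemOf F)
    (h : ∀ P : Subgroup Ω, F.IsCentric P →
      (Subgroup.closure {α : ↥(F.autGroup P) | ∃ k : ℕ, orderOf α = p ^ k}).map
        (F.autGroup P).subtype ≤ E.autGroup P) :
    E.HasPrimeToPIndexIn F p ∧
      (∀ (P : Subgroup Ω) (φ : P →* Ω), φ ∈ F.Hom P → ∃ α ∈ F.autGroup S, ∃ φ₀ ∈ E.Hom P,
        ∀ (x : P) (hx : φ₀ x ∈ S), φ x = ((α ⟨φ₀ x, hx⟩ : S) : Ω)) ∧
      ∀ P : Subgroup Ω, E.IsCentric P ↔ F.IsCentric P := by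
  have h' : ∀ P : Subgroup Ω, F.IsCentric P → oppSub p (F.autGroup P) ≤ E.autGroup P := by
    intro P hP
    rw [← map_closure_eq_oppSub]; exact h P hP
  have hE₁E : ∀ P : Subgroup Ω, (coreSystem E F).Hom P ⊆ E.Hom P := coreSystem_le E F
  have hE₁F : (coreSystem E F).IsSubsystemOf F := fun P φ hφ => hEF P (hE₁E P hφ)
  have hinv := coreSystem_autInv E F
  have h₁ := coreSystem_opp E F h'
  have hfr₁ := frattini_of_opp hS F hF (coreSystem E F) hE₁F hinv h₁
  have hfr : ∀ P : Subgroup Ω, P ≤ S → ∀ φ ∈ F.Hom P, FrCond E F P φ := by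
    intro P hPS φ hφ
    obtain ⟨α, hα, φ₀, hφ₀, heq⟩ := hfr₁ P hPS φ hφ
    exact ⟨α, hα, φ₀, hE₁E P hφ₀, heq⟩
  have hinvE₁ : (coreSystem E F).IsInvariantIn F :=
    ⟨hE₁F, stronglyClosed_self F, hinv, hfr₁⟩
  have hopp₁ := opp_le_of_invariant hS F hF (coreSystem E F) hinvE₁
  refine ⟨⟨hEF, fun P hPS => ?_⟩, fun P φ hφ => hfr P (F.le_of_mem hφ).1 φ hφ,
    fun P => isCentric_iff_of_frattini E F hEF hfr P⟩
  rw [map_closure_eq_oppSub]
  refine (hopp₁ P hPS).trans ?_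
  intro m hm
  exact (mem_autGroup_iff E hPS m).mpr (hE₁E P ((mem_autGroup_iff (coreSystem E F) hPS m).mp hm))

end Cfsg.Agent.helper25
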