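import Cfsg.Agent.Lib_helper25_Product
import Cfsg.Agent.Lib_helper25_NormSat1

set_option autoImplicit false
set_option linter.style.haveILetI false
set_option linter.unusedVariables false
set_option maxHeartbeats 1000000

namespace Cfsg.Agent.helper25

open Cfsg Cfsg.FusionSystem

variable {Ω₁ Ω₂ : Type*} [Group Ω₁] [Group Ω₂]

/-- first projection of a subgroup of a product. -/
abbrev pr₁ (P : Subgroup (Ω₁ × Ω₂)) : Subgroup Ω₁ := P.map (MonoidHom.fst Ω₁ Ω₂)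

/-- second projection of a subgroup of a product. -/
abbrev pr₂ (P : Subgroup (Ω₁ × Ω₂)) : Subgroup Ω₂ := P.map (MonoidHom.snd Ω₁ Ω₂)

/-- the coordinates of an element of `P`, in the projections. -/
def c₁ {P : Subgroup (Ω₁ × Ω₂)} (x : P) : pr₁ P := ⟨(x : Ω₁ × Ω₂).1, fst_mem_map x⟩

/-- the coordinates of an element of `P`, in the projections. -/
def c₂ {P : Subgroup (Ω₁ × Ω₂)} (x : P) : pr₂ P := ⟨(x : Ω₁ × Ω₂).2, snd_mem_map x⟩

theorem c₁_mul {P : Subgroup (Ω₁ × Ω₂)} (x y : P) : c₁ (x * y) = c₁ x * c₁ y := rfl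
theorem c₂_mul {P : Subgroup (Ω₁ × Ω₂)} (x y : P) : c₂ (x * y) = c₂ x * c₂ y := rfl

theorem exists_c₁ {P : Subgroup (Ω₁ × Ω₂)} (y : pr₁ P) : ∃ x : P, c₁ x = y := by
  obtain ⟨z, hz, hzy⟩ := y.2
  exact ⟨⟨z, hz⟩, Subtype.ext hzy⟩

theorem exists_c₂ {P : Subgroup (Ω₁ × Ω₂)} (y : pr₂ P) : ∃ x : P, c₂ x = y := by
  obtain ⟨z, hz, hzy⟩ := y.2
  exact ⟨⟨z, hz⟩, Subtype.ext hzy⟩

/-- pairs of automorphisms of the projections whose product preserves `P`. -/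
def prodStab (P : Subgroup (Ω₁ × Ω₂)) : Subgroup (MulAut (pr₁ P) × MulAut (pr₂ P)) where
  carrier := {α | ∀ x : P, (((α.1 (c₁ x) : pr₁ P) : Ω₁), ((α.2 (c₂ x) : pr₂ P) : Ω₂)) ∈ P ∧
    (((α.1⁻¹ (c₁ x) : pr₁ P) : Ω₁), ((α.2⁻¹ (c₂ x) : pr₂ P) : Ω₂)) ∈ P}
  one_mem' := fun x => ⟨x.2, x.2⟩
  mul_mem' := by
    intro a b ha hb x
    constructor
    · have h1 := (ha ⟨_, (hb x).1⟩).1
      exact h1
    · have h1 := (hb ⟨_, (ha x).2⟩).2
      have e : (a * b).1⁻¹ = b.1⁻¹ * a.1⁻¹ := mul_inv_rev _ _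
      have e' : (a * b).2⁻¹ = b.2⁻¹ * a.2⁻¹ := mul_inv_rev _ _
      rw [e, e']
      exact h1
  inv_mem' := by
    intro a ha x
    refine ⟨(ha x).2, ?_⟩
    have e : (a⁻¹).1⁻¹ = a.1 := inv_inv _
    have e' : (a⁻¹).2⁻¹ = a.2 := inv_inv _
    rw [e, e']
    exact (ha x).1

theorem mem_prodStab_of_forall {P : Subgroup (Ω₁ × Ω₂)} [Finite P]
    (α : MulAut (pr₁ P) × MulAut (pr₂ P))
    (h : ∀ x : P, (((α.1 (c₁ x) : pr₁ P) : Ω₁), ((α.2 (c₂ x) : pr₂ P) : Ω₂)) ∈ P) :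
    α ∈ prodStab P := by
  intro x
  refine ⟨h x, ?_⟩
  let f : P → P := fun y => ⟨_, h y⟩
  have hf : Function.Injective f := by
    intro a b hab
    have h1 : ((α.1 (c₁ a) : pr₁ P) : Ω₁) = ((α.1 (c₁ b) : pr₁ P) : Ω₁) :=
      congrArg (fun z : P => (z : Ω₁ × Ω₂).1) hab
    have h2 : ((α.2 (c₂ a) : pr₂ P) : Ω₂) = ((α.2 (c₂ b) : pr₂ P) : Ω₂) :=
      congrArg (fun z : P => (z : Ω₁ × Ω₂).2) hab
    have h3 := congrArg Subtype.val (α.1.injective (Subtype.ext h1))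
    have h4 := congrArg Subtype.val (α.2.injective (Subtype.ext h2))
    exact Subtype.ext (Prod.ext h3 h4)
  obtain ⟨y, hy⟩ := (Finite.injective_iff_surjective.mp hf) x
  have h1 : α.1 (c₁ y) = c₁ x := Subtype.ext (congrArg (fun z : P => (z : Ω₁ × Ω₂).1) hy)
  have h2 : α.2 (c₂ y) = c₂ x := Subtype.ext (congrArg (fun z : P => (z : Ω₁ × Ω₂).2) hy)
  rw [← h1, ← h2, MulAut.inv_apply_self, MulAut.inv_apply_self]
  exact y.2

/-- the automorphism of `P` given by a pair in the stabilizer. -/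
def prodActEquiv {P : Subgroup (Ω₁ × Ω₂)} (α : prodStab P) : MulAut P where
  toFun x := ⟨_, (α.2 x).1⟩
  invFun x := ⟨_, (α.2 x).2⟩
  left_inv x := by
    apply Subtype.ext
    apply Prod.ext
    · show ((α.1.1⁻¹ (α.1.1 (c₁ x)) : pr₁ P) : Ω₁) = _
      rw [MulAut.inv_apply_self]; rfl
    · show ((α.1.2⁻¹ (α.1.2 (c₂ x)) : pr₂ P) : Ω₂) = _
      rw [MulAut.inv_apply_self]; rfl
  right_inv x := by
    apply Subtype.ext
    apply Prod.ext
    · show ((α.1.1 (α.1.1⁻¹ (c₁ x)) : pr₁ P) : Ω₁) = _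
      rw [MulAut.apply_inv_self]; rfl
    · show ((α.1.2 (α.1.2⁻¹ (c₂ x)) : pr₂ P) : Ω₂) = _
      rw [MulAut.apply_inv_self]; rfl
  map_mul' x y := by
    apply Subtype.ext
    apply Prod.ext
    · show ((α.1.1 (c₁ (x * y)) : pr₁ P) : Ω₁) = _
      rw [c₁_mul, map_mul]; rfl
    · show ((α.1.2 (c₂ (x * y)) : pr₂ P) : Ω₂) = _
      rw [c₂_mul, map_mul]; rfl

theorem prodActEquiv_coe {P : Subgroup (Ω₁ × Ω₂)} (α : prodStab P) (x : P) :
    ((prodActEquiv α x : P) : Ω₁ × Ω₂) =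
      (((α.1.1 (c₁ x) : pr₁ P) : Ω₁), ((α.1.2 (c₂ x) : pr₂ P) : Ω₂)) := rfl

/-- the action of the stabilizer on `P`, as a homomorphism. -/
def prodAct (P : Subgroup (Ω₁ × Ω₂)) : prodStab P →* MulAut P where
  toFun := prodActEquiv
  map_one' := by apply MulEquiv.ext; intro x; apply Subtype.ext; rfl
  map_mul' a b := by apply MulEquiv.ext; intro x; apply Subtype.ext; rfl

theorem prodAct_coe {P : Subgroup (Ω₁ × Ω₂)} (α : prodStab P) (x : P) :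
    ((prodAct P α x : P) : Ω₁ × Ω₂) =
      (((α.1.1 (c₁ x) : pr₁ P) : Ω₁), ((α.1.2 (c₂ x) : pr₂ P) : Ω₂)) := rfl

theorem prodAct_injective (P : Subgroup (Ω₁ × Ω₂)) : Function.Injective (prodAct P) := by
  rw [injective_iff_map_eq_one]
  intro α hα
  apply Subtype.ext
  apply Prod.ext
  · apply MulEquiv.ext; intro y
    obtain ⟨x, rfl⟩ := exists_c₁ y
    have h1 := congrArg (fun f : MulAut P => ((f x : P) : Ω₁ × Ω₂).1) hα
    exact Subtype.ext h1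
  · apply MulEquiv.ext; intro y
    obtain ⟨x, rfl⟩ := exists_c₂ y
    have h1 := congrArg (fun f : MulAut P => ((f x : P) : Ω₁ × Ω₂).2) hα
    exact Subtype.ext h1

end Cfsg.Agent.helper25
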