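import Cfsg.Agent.Lib_helper25_ProdSat1
import Cfsg.Agent.Lib_helper25_NormSat3

set_option autoImplicit false
set_option linter.style.haveILetI false
set_option linter.unusedVariables false
set_option maxHeartbeats 1000000

namespace Cfsg.Agent.helper25

open Cfsg Cfsg.FusionSystem

variable {Ω₁ Ω₂ : Type*} [Group Ω₁] [Group Ω₂] {S₁ : Subgroup Ω₁} {S₂ : Subgroup Ω₂}

theorem prodAct_mem_autGroup (F₁ : FusionSystem S₁) (F₂ : FusionSystem S₂)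
    (E : FusionSystem (S₁.prod S₂)) (hE : IsProductSystem F₁ F₂ E) {P : Subgroup (Ω₁ × Ω₂)}
    (hP : P ≤ S₁.prod S₂) (α : prodStab P) (h₁ : α.1.1 ∈ F₁.autGroup (pr₁ P))
    (h₂ : α.1.2 ∈ F₂.autGroup (pr₂ P)) : prodAct P α ∈ E.autGroup P := by
  apply Subgroup.subset_closure
  show P.subtype.comp (prodAct P α).toMonoidHom ∈ E.Hom P
  rw [hE]
  exact ⟨hP, _, (mem_autGroup_iff F₁ (map_fst_le hP) _).mp h₁, _,
    (mem_autGroup_iff F₂ (map_snd_le hP) _).mp h₂, fun x _ _ => rfl⟩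

theorem exists_of_mem_autGroup [Finite S₁] [Finite S₂] (F₁ : FusionSystem S₁)
    (F₂ : FusionSystem S₂)
    (E : FusionSystem (S₁.prod S₂)) (hE : IsProductSystem F₁ F₂ E) {P : Subgroup (Ω₁ × Ω₂)}
    (hP : P ≤ S₁.prod S₂) {a : MulAut P} (ha : a ∈ E.autGroup P) :
    ∃ α : prodStab P, α.1.1 ∈ F₁.autGroup (pr₁ P) ∧ α.1.2 ∈ F₂.autGroup (pr₂ P) ∧
      prodAct P α = a := by
  haveI : Finite (S₁.prod S₂) := Finite.of_equiv _ (Subgroup.prodEquiv S₁ S₂).symm.toEquiv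
  haveI : Finite P := finite_of_le (S₁.prod S₂) hP
  have ha' : P.subtype.comp a.toMonoidHom ∈ E.Hom P := (mem_autGroup_iff E hP a).mp ha
  rw [hE] at ha'
  obtain ⟨-, φ₁, hφ₁, φ₂, hφ₂, hform⟩ := ha'
  have hform' := (eq_prodRes_iff P _ φ₁ φ₂).mp hform
  have hrange : (P.subtype.comp a.toMonoidHom).range = P := range_subtype_comp a
  have hr₁ : φ₁.range = pr₁ P := by
    rw [← range_prodRes_fst P φ₁ φ₂, ← hform', hrange]
  have hr₂ : φ₂.range = pr₂ P := by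
    rw [← range_prodRes_snd P φ₁ φ₂, ← hform', hrange]
  obtain ⟨α₁, hα₁, hα₁coe⟩ := exists_isFIso_of_mem F₁ hφ₁ hr₁
  obtain ⟨α₂, hα₂, hα₂coe⟩ := exists_isFIso_of_mem F₂ hφ₂ hr₂
  have hkey : ∀ x : P, (((α₁ (c₁ x) : pr₁ P) : Ω₁), ((α₂ (c₂ x) : pr₂ P) : Ω₂)) =
      ((a x : P) : Ω₁ × Ω₂) := by
    intro x
    rw [hα₁coe, hα₂coe]
    exact (hform x (fst_mem_map x) (snd_mem_map x)).symm
  have hmem : ((α₁, α₂) : MulAut (pr₁ P) × MulAut (pr₂ P)) ∈ prodStab P := by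
    apply mem_prodStab_of_forall
    intro x
    show (((α₁ (c₁ x) : pr₁ P) : Ω₁), ((α₂ (c₂ x) : pr₂ P) : Ω₂)) ∈ P
    rw [hkey]; exact (a x).2
  refine ⟨⟨(α₁, α₂), hmem⟩, (mem_autGroup_iff F₁ (map_fst_le hP) _).mpr hα₁,
    (mem_autGroup_iff F₂ (map_snd_le hP) _).mpr hα₂, ?_⟩
  apply MulEquiv.ext; intro x
  apply Subtype.ext
  rw [prodAct_coe]
  exact hkey x

/-- `Aut_E(P)` is the image of the stabilizer of `P` in `Aut_{F₁}(P₁) × Aut_{F₂}(P₂)`. -/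
theorem map_prodAct_autGroup [Finite S₁] [Finite S₂] (F₁ : FusionSystem S₁)
    (F₂ : FusionSystem S₂)
    (E : FusionSystem (S₁.prod S₂)) (hE : IsProductSystem F₁ F₂ E) {P : Subgroup (Ω₁ × Ω₂)}
    (hP : P ≤ S₁.prod S₂) :
    (((F₁.autGroup (pr₁ P)).prod (F₂.autGroup (pr₂ P))).subgroupOf (prodStab P)).map
      (prodAct P) = E.autGroup P := by
  apply le_antisymm
  · rintro _ ⟨α, hα, rfl⟩
    have h := Subgroup.mem_prod.mp (Subgroup.mem_subgroupOf.mp hα)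
    exact prodAct_mem_autGroup F₁ F₂ E hE hP α h.1 h.2
  · intro a ha
    obtain ⟨α, h₁, h₂, rfl⟩ := exists_of_mem_autGroup F₁ F₂ E hE hP ha
    exact ⟨α, Subgroup.mem_subgroupOf.mpr (Subgroup.mem_prod.mpr ⟨h₁, h₂⟩), rfl⟩

/-- `Aut_S(P)` is the image of the stabilizer of `P` in `Aut_{S₁}(P₁) × Aut_{S₂}(P₂)`. -/
theorem map_prodAct_autInducedBy {P : Subgroup (Ω₁ × Ω₂)} :
    (((autInducedBy S₁ (pr₁ P)).prod (autInducedBy S₂ (pr₂ P))).subgroupOf (prodStab P)).map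
      (prodAct P) = autInducedBy (S₁.prod S₂) P := by
  apply le_antisymm
  · rintro _ ⟨α, hα, rfl⟩
    have h := Subgroup.mem_prod.mp (Subgroup.mem_subgroupOf.mp hα)
    obtain ⟨g₁, hg₁, hg₁α⟩ := (mem_autInducedBy_iff _ _ _).mp h.1
    obtain ⟨g₂, hg₂, hg₂α⟩ := (mem_autInducedBy_iff _ _ _).mp h.2
    apply (mem_autInducedBy_iff _ _ _).mpr
    refine ⟨(g₁, g₂), Subgroup.mem_prod.mpr ⟨hg₁, hg₂⟩, fun x => ?_⟩
    rw [prodAct_coe, hg₁α, hg₂α]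
    rfl
  · intro a ha
    obtain ⟨g, hg, rfl⟩ := (mem_autInducedBy_iff' _ _ a).mp ha
    have hgS := Subgroup.mem_prod.mp hg.1
    have hgN : g ∈ Subgroup.normalizer (P : Set (Ω₁ × Ω₂)) := hg.2
    have hg₁N : g.1 ∈ Subgroup.normalizer ((pr₁ P : Subgroup Ω₁) : Set Ω₁) := by
      apply mem_normalizer_of_surj
      · rintro _ ⟨x, hx, rfl⟩
        exact ⟨g * x * g⁻¹, (Subgroup.mem_normalizer_iff.mp hgN x).mp hx, rfl⟩
      · rintro _ ⟨x, hx, rfl⟩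
        have h1 : g⁻¹ * x * g⁻¹⁻¹ ∈ P :=
          (Subgroup.mem_normalizer_iff.mp (Subgroup.inv_mem _ hgN) x).mp hx
        refine ⟨_, ⟨_, h1, rfl⟩, ?_⟩
        show g.1 * (g⁻¹ * x * g⁻¹⁻¹).1 * g.1⁻¹ = x.1
        simp only [Prod.fst_mul, Prod.fst_inv]
        group
    have hg₂N : g.2 ∈ Subgroup.normalizer ((pr₂ P : Subgroup Ω₂) : Set Ω₂) := by
      apply mem_normalizer_of_surj
      · rintro _ ⟨x, hx, rfl⟩
        exact ⟨g * x * g⁻¹, (Subgroup.mem_normalizer_iff.mp hgN x).mp hx, rfl⟩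
      · rintro _ ⟨x, hx, rfl⟩
        have h1 : g⁻¹ * x * g⁻¹⁻¹ ∈ P :=
          (Subgroup.mem_normalizer_iff.mp (Subgroup.inv_mem _ hgN) x).mp hx
        refine ⟨_, ⟨_, h1, rfl⟩, ?_⟩
        show g.2 * (g⁻¹ * x * g⁻¹⁻¹).2 * g.2⁻¹ = x.2
        simp only [Prod.snd_mul, Prod.snd_inv]
        group
    have hmem : ((normAut (pr₁ P) g.1 hg₁N, normAut (pr₂ P) g.2 hg₂N) :
        MulAut (pr₁ P) × MulAut (pr₂ P)) ∈ prodStab P := by
      intro x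
      constructor
      · exact (Subgroup.mem_normalizer_iff.mp hgN x).mp x.2
      · have h1 : g⁻¹ * (x : Ω₁ × Ω₂) * g⁻¹⁻¹ ∈ P :=
          (Subgroup.mem_normalizer_iff.mp (Subgroup.inv_mem _ hgN) x).mp x.2
        have e : (((normAut (pr₁ P) g.1 hg₁N)⁻¹ (c₁ x) : pr₁ P) : Ω₁) =
            (g⁻¹ * (x : Ω₁ × Ω₂) * g⁻¹⁻¹).1 := by
          have h2 : (normAut (pr₁ P) g.1 hg₁N)⁻¹ = normAut (pr₁ P) g.1⁻¹
              (Subgroup.inv_mem _ hg₁N) := by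
            apply inv_eq_of_mul_eq_one_left
            apply MulEquiv.ext; intro y
            apply Subtype.ext
            show g.1⁻¹ * (g.1 * (y : Ω₁) * g.1⁻¹) * g.1⁻¹⁻¹ = y
            group
          rw [h2]; rfl
        have e' : (((normAut (pr₂ P) g.2 hg₂N)⁻¹ (c₂ x) : pr₂ P) : Ω₂) =
            (g⁻¹ * (x : Ω₁ × Ω₂) * g⁻¹⁻¹).2 := by
          have h2 : (normAut (pr₂ P) g.2 hg₂N)⁻¹ = normAut (pr₂ P) g.2⁻¹
              (Subgroup.inv_mem _ hg₂N) := by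
            apply inv_eq_of_mul_eq_one_left
            apply MulEquiv.ext; intro y
            apply Subtype.ext
            show g.2⁻¹ * (g.2 * (y : Ω₂) * g.2⁻¹) * g.2⁻¹⁻¹ = y
            group
          rw [h2]; rfl
        show ((((normAut (pr₁ P) g.1 hg₁N)⁻¹ (c₁ x) : pr₁ P) : Ω₁),
          (((normAut (pr₂ P) g.2 hg₂N)⁻¹ (c₂ x) : pr₂ P) : Ω₂)) ∈ P
        rw [e, e']
        exact h1
    refine ⟨⟨_, hmem⟩, Subgroup.mem_subgroupOf.mpr (Subgroup.mem_prod.mpr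
      ⟨normAut_mem S₁ _ ⟨hgS.1, hg₁N⟩, normAut_mem S₂ _ ⟨hgS.2, hg₂N⟩⟩), ?_⟩
    apply MulEquiv.ext; intro x
    apply Subtype.ext
    rfl

end Cfsg.Agent.helper25
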