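import Cfsg.Agent.Lib_helper25_ProdSat2

set_option autoImplicit false
set_option linter.style.haveILetI false
set_option linter.unusedVariables false
set_option maxHeartbeats 1000000

namespace Cfsg.Agent.helper25

open Cfsg Cfsg.FusionSystem

variable {Ω₁ Ω₂ : Type*} [Group Ω₁] [Group Ω₂] {S₁ : Subgroup Ω₁} {S₂ : Subgroup Ω₂}

/-- `P ≤ S₁ × S₂` is well placed for the product system. -/
def IsGoodProd (F₁ : FusionSystem S₁) (F₂ : FusionSystem S₂) (p : ℕ)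
    (P : Subgroup (Ω₁ × Ω₂)) : Prop :=
  P ≤ S₁.prod S₂ ∧ F₁.IsReceptive (pr₁ P) ∧ F₂.IsReceptive (pr₂ P) ∧
    IsSylowIn p (prodStab P ⊓ (autInducedBy S₁ (pr₁ P)).prod (autInducedBy S₂ (pr₂ P)))
      (prodStab P ⊓ (F₁.autGroup (pr₁ P)).prod (F₂.autGroup (pr₂ P)))

theorem finite_prod [Finite S₁] [Finite S₂] : Finite (S₁.prod S₂) :=
  Finite.of_equiv _ (Subgroup.prodEquiv S₁ S₂).symm.toEquiv

theorem prod_le_prod {A A' : Subgroup Ω₁} {B B' : Subgroup Ω₂} (hA : A ≤ A') (hB : B ≤ B') :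
    A.prod B ≤ A'.prod B' := by
  intro x hx
  exact Subgroup.mem_prod.mpr ⟨hA (Subgroup.mem_prod.mp hx).1, hB (Subgroup.mem_prod.mp hx).2⟩

/-- a well placed subgroup is fully automized in the product system. -/
theorem fullyAutomized_of_goodProd [Finite S₁] [Finite S₂] {p : ℕ} [Fact p.Prime]
    (F₁ : FusionSystem S₁) (F₂ : FusionSystem S₂) (E : FusionSystem (S₁.prod S₂))
    (hE : IsProductSystem F₁ F₂ E) {P : Subgroup (Ω₁ × Ω₂)} (hgood : IsGoodProd F₁ F₂ p P) :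
    E.IsFullyAutomized p P := by
  obtain ⟨hP, -, -, hsyl⟩ := hgood
  haveI : Finite (pr₁ P) := finite_of_le S₁ (map_fst_le hP)
  haveI : Finite (pr₂ P) := finite_of_le S₂ (map_snd_le hP)
  haveI : Finite (S₁.prod S₂) := finite_prod
  haveI : Finite P := finite_of_le (S₁.prod S₂) hP
  refine ⟨hP, ?_⟩
  have hBA : prodStab P ⊓ (autInducedBy S₁ (pr₁ P)).prod (autInducedBy S₂ (pr₂ P)) ≤
      prodStab P ⊓ (F₁.autGroup (pr₁ P)).prod (F₂.autGroup (pr₂ P)) :=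
    inf_le_inf le_rfl (prod_le_prod (autInducedBy_le_autGroup F₁ (map_fst_le hP))
      (autInducedBy_le_autGroup F₂ (map_snd_le hP)))
  have hH'K' : (prodStab P ⊓ (autInducedBy S₁ (pr₁ P)).prod
      (autInducedBy S₂ (pr₂ P))).subgroupOf (prodStab P) ≤
      (prodStab P ⊓ (F₁.autGroup (pr₁ P)).prod (F₂.autGroup (pr₂ P))).subgroupOf (prodStab P) := by
    intro x hx
    exact Subgroup.mem_subgroupOf.mpr (hBA (Subgroup.mem_subgroupOf.mp hx))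
  have hs' : IsSylowIn p ((prodStab P ⊓ (autInducedBy S₁ (pr₁ P)).prod
      (autInducedBy S₂ (pr₂ P))).subgroupOf (prodStab P))
      ((prodStab P ⊓ (F₁.autGroup (pr₁ P)).prod (F₂.autGroup (pr₂ P))).subgroupOf
        (prodStab P)) := by
    rw [isSylowIn_iff_card hH'K', card_subgroupOf_of_le inf_le_left,
      card_subgroupOf_of_le inf_le_left]
    exact (isSylowIn_iff_card hBA).mp hsyl
  have h := isSylowIn_map_of_injective hH'K' (prodAct P) (prodAct_injective P) hs'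
  rw [Subgroup.inf_subgroupOf_left, Subgroup.inf_subgroupOf_left, map_prodAct_autInducedBy,
    map_prodAct_autGroup F₁ F₂ E hE hP] at h
  exact h

/-- a subgroup with receptive projections is receptive in the product system. -/
theorem receptive_of_goodProd [Finite S₁] [Finite S₂]
    (F₁ : FusionSystem S₁) (F₂ : FusionSystem S₂) (E : FusionSystem (S₁.prod S₂))
    (hE : IsProductSystem F₁ F₂ E) {P : Subgroup (Ω₁ × Ω₂)} (hP : P ≤ S₁.prod S₂)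
    (hrec₁ : F₁.IsReceptive (pr₁ P)) (hrec₂ : F₂.IsReceptive (pr₂ P)) : E.IsReceptive P := by
  refine ⟨hP, fun Q₀ φ hφ hr => ?_⟩
  have hφ' := hφ
  rw [hE] at hφ'
  obtain ⟨hQ₀, φ₁, hφ₁, φ₂, hφ₂, hform⟩ := hφ'
  have hform' := (eq_prodRes_iff Q₀ φ φ₁ φ₂).mp hform
  have hr₁ : φ₁.range = pr₁ P := by
    rw [← range_prodRes_fst Q₀ φ₁ φ₂, ← hform', hr]
  have hr₂ : φ₂.range = pr₂ P := by
    rw [← range_prodRes_snd Q₀ φ₁ φ₂, ← hform', hr]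
  obtain ⟨ψ₁, hψ₁, hψ₁ext⟩ := hrec₁.2 _ φ₁ hφ₁ hr₁
  obtain ⟨ψ₂, hψ₂, hψ₂ext⟩ := hrec₂.2 _ φ₂ hφ₂ hr₂
  have hNS : extender (S₁.prod S₂) Q₀ φ ≤ S₁.prod S₂ := (extender_le _ _ _).trans inf_le_left
  have hN₁ : pr₁ (extender (S₁.prod S₂) Q₀ φ) ≤ extender S₁ (pr₁ Q₀) φ₁ := by
    rintro _ ⟨g, hg, rfl⟩
    obtain ⟨hgS, hgN, h, hhS, hh⟩ := (mem_extender_iff _ _ _ _).mp hg
    have hg₁N : g.1 ∈ Subgroup.normalizer ((pr₁ Q₀ : Subgroup Ω₁) : Set Ω₁) := by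
      apply mem_normalizer_of_surj
      · rintro _ ⟨x, hx, rfl⟩
        exact ⟨g * x * g⁻¹, (Subgroup.mem_normalizer_iff.mp hgN x).mp hx, rfl⟩
      · rintro _ ⟨x, hx, rfl⟩
        have h1 : g⁻¹ * x * g⁻¹⁻¹ ∈ Q₀ :=
          (Subgroup.mem_normalizer_iff.mp (Subgroup.inv_mem _ hgN) x).mp hx
        refine ⟨_, ⟨_, h1, rfl⟩, ?_⟩
        show g.1 * (g⁻¹ * x * g⁻¹⁻¹).1 * g.1⁻¹ = x.1
        simp only [Prod.fst_mul, Prod.fst_inv]
        group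
    apply (mem_extender_iff _ _ _ _).mpr
    refine ⟨(Subgroup.mem_prod.mp hgS).1, hg₁N, h.1, (Subgroup.mem_prod.mp hhS).1,
      fun y hy => ?_⟩
    obtain ⟨x, rfl⟩ := exists_c₁ y
    have hx : g * (x : Ω₁ × Ω₂) * g⁻¹ ∈ Q₀ := (Subgroup.mem_normalizer_iff.mp hgN x).mp x.2
    have h1 := hh x hx
    rw [hform _ (fst_mem_map _) (snd_mem_map _), hform x (fst_mem_map _) (snd_mem_map _)] at h1
    exact congrArg Prod.fst h1
  have hN₂ : pr₂ (extender (S₁.prod S₂) Q₀ φ) ≤ extender S₂ (pr₂ Q₀) φ₂ := by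
    rintro _ ⟨g, hg, rfl⟩
    obtain ⟨hgS, hgN, h, hhS, hh⟩ := (mem_extender_iff _ _ _ _).mp hg
    have hg₂N : g.2 ∈ Subgroup.normalizer ((pr₂ Q₀ : Subgroup Ω₂) : Set Ω₂) := by
      apply mem_normalizer_of_surj
      · rintro _ ⟨x, hx, rfl⟩
        exact ⟨g * x * g⁻¹, (Subgroup.mem_normalizer_iff.mp hgN x).mp hx, rfl⟩
      · rintro _ ⟨x, hx, rfl⟩
        have h1 : g⁻¹ * x * g⁻¹⁻¹ ∈ Q₀ :=
          (Subgroup.mem_normalizer_iff.mp (Subgroup.inv_mem _ hgN) x).mp hx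
        refine ⟨_, ⟨_, h1, rfl⟩, ?_⟩
        show g.2 * (g⁻¹ * x * g⁻¹⁻¹).2 * g.2⁻¹ = x.2
        simp only [Prod.snd_mul, Prod.snd_inv]
        group
    apply (mem_extender_iff _ _ _ _).mpr
    refine ⟨(Subgroup.mem_prod.mp hgS).2, hg₂N, h.2, (Subgroup.mem_prod.mp hhS).2,
      fun y hy => ?_⟩
    obtain ⟨x, rfl⟩ := exists_c₂ y
    have hx : g * (x : Ω₁ × Ω₂) * g⁻¹ ∈ Q₀ := (Subgroup.mem_normalizer_iff.mp hgN x).mp x.2
    have h1 := hh x hx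
    rw [hform _ (fst_mem_map _) (snd_mem_map _), hform x (fst_mem_map _) (snd_mem_map _)] at h1
    exact congrArg Prod.snd h1
  refine ⟨prodRes _ (ψ₁.comp (Subgroup.inclusion hN₁)) (ψ₂.comp (Subgroup.inclusion hN₂)),
    ?_, ?_⟩
  · rw [hE]
    exact ⟨hNS, _, restrict_mem F₁ hN₁ hψ₁, _, restrict_mem F₂ hN₂ hψ₂, fun x _ _ => rfl⟩
  · intro x hxP hxN
    rw [hform ⟨x, hxP⟩ (fst_mem_map _) (snd_mem_map _)]
    apply Prod.ext
    · exact hψ₁ext x.1 (fst_mem_map ⟨x, hxP⟩) (hN₁ (fst_mem_map ⟨x, hxN⟩))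
    · exact hψ₂ext x.2 (snd_mem_map ⟨x, hxP⟩) (hN₂ (snd_mem_map ⟨x, hxN⟩))

end Cfsg.Agent.helper25
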