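import Cfsg.Agent.Lib_helper25_ProdSat3

set_option autoImplicit false
set_option linter.style.haveILetI false
set_option linter.unusedVariables false
set_option maxHeartbeats 1000000

namespace Cfsg.Agent.helper25

open Cfsg Cfsg.FusionSystem

section Generic

variable {G₁ G₂ : Type*} [Group G₁] [Group G₂]

theorem card_subgroup_prod (A₁ : Subgroup G₁) (A₂ : Subgroup G₂) :
    Nat.card (A₁.prod A₂) = Nat.card A₁ * Nat.card A₂ := by
  rw [Nat.card_congr (Subgroup.prodEquiv A₁ A₂).toEquiv, Nat.card_prod]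

/-- the product of Sylow subgroups is a Sylow subgroup of the product. -/
theorem isSylowIn_prod [Finite G₁] [Finite G₂] {p : ℕ} [Fact p.Prime] {B₁ A₁ : Subgroup G₁}
    {B₂ A₂ : Subgroup G₂} (h₁ : B₁ ≤ A₁) (h₂ : B₂ ≤ A₂) (hs₁ : IsSylowIn p B₁ A₁)
    (hs₂ : IsSylowIn p B₂ A₂) : IsSylowIn p (B₁.prod B₂) (A₁.prod A₂) := by
  rw [isSylowIn_iff_card (prod_le_prod h₁ h₂), card_subgroup_prod, card_subgroup_prod,
    (isSylowIn_iff_card h₁).mp hs₁, (isSylowIn_iff_card h₂).mp hs₂,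
    Nat.factorization_mul Nat.card_pos.ne' Nat.card_pos.ne', Finsupp.add_apply, pow_add]

end Generic

section Transport

variable {Ω : Type*} [Group Ω]

/-- transport of induced automorphisms along an isomorphism acting like an automorphism. -/
theorem congr_mem_autInducedBy_of_coe (S : Subgroup Ω) {R R' : Subgroup Ω} (h : R = R')
    (e : R ≃* R') (γ : MulAut R) (hγ : ∀ x, ((e x : R') : Ω) = (γ x : R)) {a : MulAut R}
    (ha : γ * a * γ⁻¹ ∈ autInducedBy S R) : MulAut.congr e a ∈ autInducedBy S R' := by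
  subst h
  have h1 : e = γ := MulEquiv.ext fun x => Subtype.ext (hγ x)
  subst h1
  have h2 : MulAut.congr e a = e * a * e⁻¹ := by
    apply MulEquiv.ext; intro x; rfl
  rw [h2]; exact ha

end Transport

variable {Ω₁ Ω₂ : Type*} [Group Ω₁] [Group Ω₂] {S₁ : Subgroup Ω₁} {S₂ : Subgroup Ω₂}

/-- the transport map on pairs of automorphisms. -/
def prodCongr {P Q : Subgroup (Ω₁ × Ω₂)} (e₁ : pr₁ P ≃* pr₁ Q) (e₂ : pr₂ P ≃* pr₂ Q) :
    MulAut (pr₁ P) × MulAut (pr₂ P) →* MulAut (pr₁ Q) × MulAut (pr₂ Q) :=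
  MonoidHom.prodMap (MulAut.congr e₁).toMonoidHom (MulAut.congr e₂).toMonoidHom

theorem prodCongr_injective {P Q : Subgroup (Ω₁ × Ω₂)} (e₁ : pr₁ P ≃* pr₁ Q)
    (e₂ : pr₂ P ≃* pr₂ Q) : Function.Injective (prodCongr e₁ e₂) := by
  intro a b hab
  have h1 : MulAut.congr e₁ a.1 = MulAut.congr e₁ b.1 := congrArg Prod.fst hab
  have h2 : MulAut.congr e₂ a.2 = MulAut.congr e₂ b.2 := congrArg Prod.snd hab
  exact Prod.ext ((MulAut.congr e₁).injective h1) ((MulAut.congr e₂).injective h2)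

theorem congr_mem_prodStab {P Q : Subgroup (Ω₁ × Ω₂)} [Finite Q] (e₁ : pr₁ P ≃* pr₁ Q)
    (e₂ : pr₂ P ≃* pr₂ Q)
    (hPQ : ∀ x : P, (((e₁ (c₁ x) : pr₁ Q) : Ω₁), ((e₂ (c₂ x) : pr₂ Q) : Ω₂)) ∈ Q)
    (hQP : ∀ y : Q, (((e₁.symm (c₁ y) : pr₁ P) : Ω₁), ((e₂.symm (c₂ y) : pr₂ P) : Ω₂)) ∈ P)
    {α : MulAut (pr₁ P) × MulAut (pr₂ P)} (hα : α ∈ prodStab P) :
    prodCongr e₁ e₂ α ∈ prodStab Q := by
  apply mem_prodStab_of_forall
  intro y
  show (((e₁ (α.1 (e₁.symm (c₁ y))) : pr₁ Q) : Ω₁), ((e₂ (α.2 (e₂.symm (c₂ y))) : pr₂ Q) : Ω₂)) ∈ Q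
  have hx' := (hα ⟨_, hQP y⟩).1
  exact hPQ ⟨_, hx'⟩

/-- transport of the stabilizer. -/
theorem map_prodCongr_prodStab {P Q : Subgroup (Ω₁ × Ω₂)} [Finite P] [Finite Q]
    (e₁ : pr₁ P ≃* pr₁ Q) (e₂ : pr₂ P ≃* pr₂ Q)
    (hPQ : ∀ x : P, (((e₁ (c₁ x) : pr₁ Q) : Ω₁), ((e₂ (c₂ x) : pr₂ Q) : Ω₂)) ∈ Q)
    (hQP : ∀ y : Q, (((e₁.symm (c₁ y) : pr₁ P) : Ω₁), ((e₂.symm (c₂ y) : pr₂ P) : Ω₂)) ∈ P) :
    (prodStab P).map (prodCongr e₁ e₂) = prodStab Q := by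
  apply le_antisymm
  · rintro _ ⟨α, hα, rfl⟩
    exact congr_mem_prodStab e₁ e₂ hPQ hQP hα
  · intro β hβ
    refine ⟨prodCongr e₁.symm e₂.symm β, congr_mem_prodStab e₁.symm e₂.symm hQP ?_ hβ, ?_⟩
    · intro x; exact hPQ x
    · apply Prod.ext
      · apply MulEquiv.ext; intro y
        show e₁ (e₁.symm (β.1 (e₁.symm.symm (e₁.symm y)))) = β.1 y
        simp
      · apply MulEquiv.ext; intro y
        show e₂ (e₂.symm (β.2 (e₂.symm.symm (e₂.symm y)))) = β.2 y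
        simp

/-- transport of the product of the automizers. -/
theorem map_prodCongr_autGroup (F₁ : FusionSystem S₁) (F₂ : FusionSystem S₂)
    {P Q : Subgroup (Ω₁ × Ω₂)} (e₁ : pr₁ P ≃* pr₁ Q) (e₂ : pr₂ P ≃* pr₂ Q)
    (he₁ : IsFIso F₁ e₁) (he₂ : IsFIso F₂ e₂) :
    ((F₁.autGroup (pr₁ P)).prod (F₂.autGroup (pr₂ P))).map (prodCongr e₁ e₂) =
      (F₁.autGroup (pr₁ Q)).prod (F₂.autGroup (pr₂ Q)) := by
  apply le_antisymm
  · rintro _ ⟨α, hα, rfl⟩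
    have h := Subgroup.mem_prod.mp hα
    exact Subgroup.mem_prod.mpr ⟨he₁.congr_mem_autGroup h.1, he₂.congr_mem_autGroup h.2⟩
  · intro β hβ
    have h := Subgroup.mem_prod.mp hβ
    refine ⟨prodCongr e₁.symm e₂.symm β, Subgroup.mem_prod.mpr
      ⟨he₁.symm.congr_mem_autGroup h.1, he₂.symm.congr_mem_autGroup h.2⟩, ?_⟩
    apply Prod.ext
    · apply MulEquiv.ext; intro y
      show e₁ (e₁.symm (β.1 (e₁.symm.symm (e₁.symm y)))) = β.1 y
      simp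
    · apply MulEquiv.ext; intro y
      show e₂ (e₂.symm (β.2 (e₂.symm.symm (e₂.symm y)))) = β.2 y
      simp

end Cfsg.Agent.helper25
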