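import Cfsg.Agent.Lib_helper25_ProdSat4

set_option autoImplicit false
set_option linter.style.haveILetI false
set_option linter.unusedVariables false
set_option maxHeartbeats 1000000

namespace Cfsg.Agent.helper25

open Cfsg Cfsg.FusionSystem

section Generic

variable {G₁ G₂ : Type*} [Group G₁] [Group G₂]

theorem isPGroup_subgroup_prod [Finite G₁] [Finite G₂] {p : ℕ} [Fact p.Prime] {B₁ : Subgroup G₁}
    {B₂ : Subgroup G₂} (h₁ : IsPGroup p B₁) (h₂ : IsPGroup p B₂) : IsPGroup p (B₁.prod B₂) := by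
  obtain ⟨n₁, hn₁⟩ := IsPGroup.iff_card.mp h₁
  obtain ⟨n₂, hn₂⟩ := IsPGroup.iff_card.mp h₂
  apply IsPGroup.of_card (n := n₁ + n₂)
  rw [card_subgroup_prod, hn₁, hn₂, pow_add]

end Generic

variable {Ω₁ Ω₂ : Type*} [Group Ω₁] [Group Ω₂] {S₁ : Subgroup Ω₁} {S₂ : Subgroup Ω₂}

/-- when the projections are fully automized and receptive, `P` has a well placed conjugate. -/
theorem exists_goodProd_of_proj [Finite S₁] [Finite S₂] {p : ℕ} [Fact p.Prime]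
    (h₁ : IsPGroup p S₁) (h₂ : IsPGroup p S₂)
    (F₁ : FusionSystem S₁) (F₂ : FusionSystem S₂) (E : FusionSystem (S₁.prod S₂))
    (hE : IsProductSystem F₁ F₂ E) {P : Subgroup (Ω₁ × Ω₂)} (hP : P ≤ S₁.prod S₂)
    (hfa₁ : F₁.IsFullyAutomized p (pr₁ P)) (hfa₂ : F₂.IsFullyAutomized p (pr₂ P))
    (hrec₁ : F₁.IsReceptive (pr₁ P)) (hrec₂ : F₂.IsReceptive (pr₂ P)) :
    ∃ P'' : Subgroup (Ω₁ × Ω₂), E.IsConj P P'' ∧ IsGoodProd F₁ F₂ p P'' := by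
  haveI : Finite (S₁.prod S₂) := finite_prod
  haveI : Finite P := finite_of_le (S₁.prod S₂) hP
  haveI : Finite (pr₁ P) := finite_of_le S₁ (map_fst_le hP)
  haveI : Finite (pr₂ P) := finite_of_le S₂ (map_snd_le hP)
  have hsyl₁ : IsSylowIn p (autInducedBy S₁ (pr₁ P)) (F₁.autGroup (pr₁ P)) := hfa₁.2
  have hsyl₂ : IsSylowIn p (autInducedBy S₂ (pr₂ P)) (F₂.autGroup (pr₂ P)) := hfa₂.2
  have hBA₁ := autInducedBy_le_autGroup F₁ (map_fst_le hP)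
  have hBA₂ := autInducedBy_le_autGroup F₂ (map_snd_le hP)
  have hsyl : IsSylowIn p ((autInducedBy S₁ (pr₁ P)).prod (autInducedBy S₂ (pr₂ P)))
      ((F₁.autGroup (pr₁ P)).prod (F₂.autGroup (pr₂ P))) :=
    isSylowIn_prod hBA₁ hBA₂ hsyl₁ hsyl₂
  obtain ⟨Y, -, hYK, hYp, hYcard⟩ := exists_sylow_ge (p := p)
    (X := (⊥ : Subgroup (MulAut (pr₁ P) × MulAut (pr₂ P))))
    (K := prodStab P ⊓ (F₁.autGroup (pr₁ P)).prod (F₂.autGroup (pr₂ P))) bot_le IsPGroup.of_bot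
  obtain ⟨γ, hγ, hγY⟩ := exists_cj_le_of_isSylowIn hsyl (hYK.trans inf_le_right) hYp
  have hγ₁ : (pr₁ P).subtype.comp γ.1.toMonoidHom ∈ F₁.Hom (pr₁ P) :=
    (mem_autGroup_iff F₁ (map_fst_le hP) γ.1).mp (Subgroup.mem_prod.mp hγ).1
  have hγ₂ : (pr₂ P).subtype.comp γ.2.toMonoidHom ∈ F₂.Hom (pr₂ P) :=
    (mem_autGroup_iff F₂ (map_snd_le hP) γ.2).mp (Subgroup.mem_prod.mp hγ).2
  have hψ : prodRes P ((pr₁ P).subtype.comp γ.1.toMonoidHom)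
      ((pr₂ P).subtype.comp γ.2.toMonoidHom) ∈ E.Hom P := by
    rw [hE]; exact ⟨hP, _, hγ₁, _, hγ₂, fun x _ _ => rfl⟩
  obtain ⟨ψ, hψdef⟩ : ∃ ψ : P →* Ω₁ × Ω₂, ψ = prodRes P
      ((pr₁ P).subtype.comp γ.1.toMonoidHom) ((pr₂ P).subtype.comp γ.2.toMonoidHom) := ⟨_, rfl⟩
  rw [← hψdef] at hψ
  have hψapply : ∀ x : P, ψ x = (((γ.1 (c₁ x) : pr₁ P) : Ω₁), ((γ.2 (c₂ x) : pr₂ P) : Ω₂)) := by
    intro x; rw [hψdef]; rfl
  have hr₁ : pr₁ ψ.range = pr₁ P := by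
    rw [hψdef]
    exact (range_prodRes_fst P _ _).trans (range_subtype_comp γ.1)
  have hr₂ : pr₂ ψ.range = pr₂ P := by
    rw [hψdef]
    exact (range_prodRes_snd P _ _).trans (range_subtype_comp γ.2)
  have hQS : ψ.range ≤ S₁.prod S₂ := range_le_of_mem E hψ
  haveI : Finite ψ.range := finite_of_le (S₁.prod S₂) hQS
  haveI : Finite (pr₁ ψ.range) := finite_of_le S₁ (map_fst_le hQS)
  haveI : Finite (pr₂ ψ.range) := finite_of_le S₂ (map_snd_le hQS)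
  obtain ⟨e₁, he₁, he₁coe⟩ := exists_isFIso_of_mem F₁ hγ₁
    ((range_subtype_comp γ.1).trans hr₁.symm)
  obtain ⟨e₂, he₂, he₂coe⟩ := exists_isFIso_of_mem F₂ hγ₂
    ((range_subtype_comp γ.2).trans hr₂.symm)
  have he₁coe' : ∀ x : pr₁ P, ((e₁ x : pr₁ ψ.range) : Ω₁) = ((γ.1 x : pr₁ P) : Ω₁) := he₁coe
  have he₂coe' : ∀ x : pr₂ P, ((e₂ x : pr₂ ψ.range) : Ω₂) = ((γ.2 x : pr₂ P) : Ω₂) := he₂coe
  have hPQ : ∀ x : P, (((e₁ (c₁ x) : pr₁ ψ.range) : Ω₁), ((e₂ (c₂ x) : pr₂ ψ.range) : Ω₂)) ∈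
      ψ.range := by
    intro x
    rw [he₁coe', he₂coe', ← hψapply]
    exact ⟨x, rfl⟩
  have hQP : ∀ y : ψ.range, (((e₁.symm (c₁ y) : pr₁ P) : Ω₁),
      ((e₂.symm (c₂ y) : pr₂ P) : Ω₂)) ∈ P := by
    rintro ⟨_, x, rfl⟩
    have h1 : e₁ (c₁ x) = c₁ (⟨ψ x, x, rfl⟩ : ψ.range) := by
      apply Subtype.ext
      rw [he₁coe']
      exact (congrArg Prod.fst (hψapply x)).symm
    have h2 : e₂ (c₂ x) = c₂ (⟨ψ x, x, rfl⟩ : ψ.range) := by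
      apply Subtype.ext
      rw [he₂coe']
      exact (congrArg Prod.snd (hψapply x)).symm
    rw [← h1, ← h2, MulEquiv.symm_apply_apply, MulEquiv.symm_apply_apply]
    exact x.2
  have hΦinj := prodCongr_injective e₁ e₂
  have hΦstab := map_prodCongr_prodStab e₁ e₂ hPQ hQP
  have hΦA := map_prodCongr_autGroup F₁ F₂ e₁ e₂ he₁ he₂
  have hΦK : (prodStab P ⊓ (F₁.autGroup (pr₁ P)).prod (F₂.autGroup (pr₂ P))).map
      (prodCongr e₁ e₂) = prodStab ψ.range ⊓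
        (F₁.autGroup (pr₁ ψ.range)).prod (F₂.autGroup (pr₂ ψ.range)) := by
    rw [Subgroup.map_inf_eq _ _ _ hΦinj, hΦstab, hΦA]
  have hYle : Y.map (prodCongr e₁ e₂) ≤ prodStab ψ.range ⊓
      (autInducedBy S₁ (pr₁ ψ.range)).prod (autInducedBy S₂ (pr₂ ψ.range)) := by
    rintro _ ⟨y, hy, rfl⟩
    refine ⟨hΦstab.le ⟨y, (hYK hy).1, rfl⟩, ?_⟩
    have hc := Subgroup.mem_prod.mp (hγY (conj_mem_cj γ Y hy))
    exact Subgroup.mem_prod.mpr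
      ⟨congr_mem_autInducedBy_of_coe S₁ hr₁.symm e₁ γ.1 he₁coe' hc.1,
        congr_mem_autInducedBy_of_coe S₂ hr₂.symm e₂ γ.2 he₂coe' hc.2⟩
  have hBA'' : prodStab ψ.range ⊓
      (autInducedBy S₁ (pr₁ ψ.range)).prod (autInducedBy S₂ (pr₂ ψ.range)) ≤
      prodStab ψ.range ⊓ (F₁.autGroup (pr₁ ψ.range)).prod (F₂.autGroup (pr₂ ψ.range)) :=
    inf_le_inf le_rfl (prod_le_prod (autInducedBy_le_autGroup F₁ (map_fst_le hQS))
      (autInducedBy_le_autGroup F₂ (map_snd_le hQS)))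
  have hYK'' : Y.map (prodCongr e₁ e₂) ≤ prodStab ψ.range ⊓
      (F₁.autGroup (pr₁ ψ.range)).prod (F₂.autGroup (pr₂ ψ.range)) := hYle.trans hBA''
  have hYsyl : IsSylowIn p (Y.map (prodCongr e₁ e₂)) (prodStab ψ.range ⊓
      (F₁.autGroup (pr₁ ψ.range)).prod (F₂.autGroup (pr₂ ψ.range))) := by
    rw [isSylowIn_iff_card hYK'', ← hΦK, Subgroup.card_map_of_injective hΦinj,
      Subgroup.card_map_of_injective hΦinj]
    exact hYcard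
  have hpB : IsPGroup p (prodStab ψ.range ⊓
      (autInducedBy S₁ (pr₁ ψ.range)).prod (autInducedBy S₂ (pr₂ ψ.range)) :
        Subgroup (MulAut (pr₁ ψ.range) × MulAut (pr₂ ψ.range))) :=
    (isPGroup_subgroup_prod (isPGroup_autInducedBy h₁ _) (isPGroup_autInducedBy h₂ _)).to_le
      inf_le_right
  refine ⟨ψ.range, ⟨ψ, hψ, rfl⟩, hQS, ?_, ?_, ?_⟩
  · rw [hr₁]; exact hrec₁
  · rw [hr₂]; exact hrec₂
  · exact isSylowIn_of_le_of_isPGroup hYsyl hYK'' hYle hBA'' hpB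

/-- the product of two saturated fusion systems is saturated. -/
theorem product_isSaturated [Finite S₁] [Finite S₂] {p : ℕ} [Fact p.Prime]
    (h₁ : IsPGroup p S₁) (h₂ : IsPGroup p S₂)
    (F₁ : FusionSystem S₁) (F₂ : FusionSystem S₂) (hF₁ : F₁.IsSaturated p)
    (hF₂ : F₂.IsSaturated p) (E : FusionSystem (S₁.prod S₂))
    (hE : IsProductSystem F₁ F₂ E) : E.IsSaturated p := by
  intro P hP
  obtain ⟨Q₁, ⟨ψ₁, hψ₁, hr₁⟩, hfa₁, hrec₁⟩ := hF₁ (pr₁ P) (map_fst_le hP)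
  obtain ⟨Q₂, ⟨ψ₂, hψ₂, hr₂⟩, hfa₂, hrec₂⟩ := hF₂ (pr₂ P) (map_snd_le hP)
  have hψ : prodRes P ψ₁ ψ₂ ∈ E.Hom P := by
    rw [hE]; exact ⟨hP, ψ₁, hψ₁, ψ₂, hψ₂, fun x _ _ => rfl⟩
  have hP' : (prodRes P ψ₁ ψ₂).range ≤ S₁.prod S₂ := range_le_of_mem E hψ
  have e₁ : pr₁ (prodRes P ψ₁ ψ₂).range = Q₁ := (range_prodRes_fst P ψ₁ ψ₂).trans hr₁
  have e₂ : pr₂ (prodRes P ψ₁ ψ₂).range = Q₂ := (range_prodRes_snd P ψ₁ ψ₂).trans hr₂
  obtain ⟨P'', hconj, hgood⟩ := exists_goodProd_of_proj h₁ h₂ F₁ F₂ E hE hP'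
    (by rw [e₁]; exact hfa₁) (by rw [e₂]; exact hfa₂) (by rw [e₁]; exact hrec₁)
    (by rw [e₂]; exact hrec₂)
  exact ⟨P'', isConj_trans E ⟨_, hψ, rfl⟩ hconj, fullyAutomized_of_goodProd F₁ F₂ E hE hgood,
    receptive_of_goodProd F₁ F₂ E hE hgood.1 hgood.2.1 hgood.2.2.1⟩

end Cfsg.Agent.helper25
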