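import Cfsg.Agent.Lib_helper25_Fusion
import Cfsg.Prelude.Def_FusionComponents

set_option autoImplicit false
set_option linter.style.haveILetI false
set_option linter.unusedVariables false
set_option maxHeartbeats 1000000

namespace Cfsg.Agent.helper25

open Cfsg Cfsg.FusionSystem

variable {Ω₁ Ω₂ : Type*} [Group Ω₁] [Group Ω₂] {S₁ : Subgroup Ω₁} {S₂ : Subgroup Ω₂}

/-- the restriction to `P` of the product of maps on the two projections of `P`. -/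
def prodRes (P : Subgroup (Ω₁ × Ω₂)) (φ₁ : P.map (MonoidHom.fst Ω₁ Ω₂) →* Ω₁)
    (φ₂ : P.map (MonoidHom.snd Ω₁ Ω₂) →* Ω₂) : P →* Ω₁ × Ω₂ :=
  (φ₁.comp ((MonoidHom.fst Ω₁ Ω₂).subgroupMap P)).prod
    (φ₂.comp ((MonoidHom.snd Ω₁ Ω₂).subgroupMap P))

theorem prodRes_apply (P : Subgroup (Ω₁ × Ω₂)) (φ₁ : P.map (MonoidHom.fst Ω₁ Ω₂) →* Ω₁)
    (φ₂ : P.map (MonoidHom.snd Ω₁ Ω₂) →* Ω₂) (x : P)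
    (h₁ : (x : Ω₁ × Ω₂).1 ∈ P.map (MonoidHom.fst Ω₁ Ω₂))
    (h₂ : (x : Ω₁ × Ω₂).2 ∈ P.map (MonoidHom.snd Ω₁ Ω₂)) :
    prodRes P φ₁ φ₂ x = (φ₁ ⟨(x : Ω₁ × Ω₂).1, h₁⟩, φ₂ ⟨(x : Ω₁ × Ω₂).2, h₂⟩) := rfl

theorem fst_mem_map {P : Subgroup (Ω₁ × Ω₂)} (x : P) :
    (x : Ω₁ × Ω₂).1 ∈ P.map (MonoidHom.fst Ω₁ Ω₂) := ⟨x, x.2, rfl⟩

theorem snd_mem_map {P : Subgroup (Ω₁ × Ω₂)} (x : P) :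
    (x : Ω₁ × Ω₂).2 ∈ P.map (MonoidHom.snd Ω₁ Ω₂) := ⟨x, x.2, rfl⟩

theorem eq_prodRes_iff (P : Subgroup (Ω₁ × Ω₂)) (φ : P →* Ω₁ × Ω₂)
    (φ₁ : P.map (MonoidHom.fst Ω₁ Ω₂) →* Ω₁) (φ₂ : P.map (MonoidHom.snd Ω₁ Ω₂) →* Ω₂) :
    (∀ (x : P) (h₁ : (x : Ω₁ × Ω₂).1 ∈ P.map (MonoidHom.fst Ω₁ Ω₂))
      (h₂ : (x : Ω₁ × Ω₂).2 ∈ P.map (MonoidHom.snd Ω₁ Ω₂)),
      φ x = (φ₁ ⟨(x : Ω₁ × Ω₂).1, h₁⟩, φ₂ ⟨(x : Ω₁ × Ω₂).2, h₂⟩)) ↔ φ = prodRes P φ₁ φ₂ := by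
  constructor
  · intro h
    ext x
    · rw [h x (fst_mem_map x) (snd_mem_map x)]; rfl
    · rw [h x (fst_mem_map x) (snd_mem_map x)]; rfl
  · rintro rfl x h₁ h₂
    rfl

/-- the maps of the product system with source `P`. -/
def prodHomSet (F₁ : FusionSystem S₁) (F₂ : FusionSystem S₂) (P : Subgroup (Ω₁ × Ω₂)) :
    Set (P →* Ω₁ × Ω₂) :=
  {φ | P ≤ S₁.prod S₂ ∧ ∃ φ₁ ∈ F₁.Hom (P.map (MonoidHom.fst Ω₁ Ω₂)),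
    ∃ φ₂ ∈ F₂.Hom (P.map (MonoidHom.snd Ω₁ Ω₂)), φ = prodRes P φ₁ φ₂}

theorem map_fst_le {P : Subgroup (Ω₁ × Ω₂)} (h : P ≤ S₁.prod S₂) :
    P.map (MonoidHom.fst Ω₁ Ω₂) ≤ S₁ := by
  rintro _ ⟨x, hx, rfl⟩; exact (Subgroup.mem_prod.mp (h hx)).1

theorem map_snd_le {P : Subgroup (Ω₁ × Ω₂)} (h : P ≤ S₁.prod S₂) :
    P.map (MonoidHom.snd Ω₁ Ω₂) ≤ S₂ := by
  rintro _ ⟨x, hx, rfl⟩; exact (Subgroup.mem_prod.mp (h hx)).2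

theorem range_prodRes_fst (P : Subgroup (Ω₁ × Ω₂)) (φ₁ : P.map (MonoidHom.fst Ω₁ Ω₂) →* Ω₁)
    (φ₂ : P.map (MonoidHom.snd Ω₁ Ω₂) →* Ω₂) :
    (prodRes P φ₁ φ₂).range.map (MonoidHom.fst Ω₁ Ω₂) = φ₁.range := by
  apply le_antisymm
  · rintro _ ⟨_, ⟨x, rfl⟩, rfl⟩
    exact ⟨⟨_, fst_mem_map x⟩, rfl⟩
  · rintro _ ⟨⟨_, ⟨x, hx, rfl⟩⟩, rfl⟩
    exact ⟨prodRes P φ₁ φ₂ ⟨x, hx⟩, ⟨_, rfl⟩, rfl⟩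

theorem range_prodRes_snd (P : Subgroup (Ω₁ × Ω₂)) (φ₁ : P.map (MonoidHom.fst Ω₁ Ω₂) →* Ω₁)
    (φ₂ : P.map (MonoidHom.snd Ω₁ Ω₂) →* Ω₂) :
    (prodRes P φ₁ φ₂).range.map (MonoidHom.snd Ω₁ Ω₂) = φ₂.range := by
  apply le_antisymm
  · rintro _ ⟨_, ⟨x, rfl⟩, rfl⟩
    exact ⟨⟨_, snd_mem_map x⟩, rfl⟩
  · rintro _ ⟨⟨_, ⟨x, hx, rfl⟩⟩, rfl⟩
    exact ⟨prodRes P φ₁ φ₂ ⟨x, hx⟩, ⟨_, rfl⟩, rfl⟩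

/-- the product fusion system. -/
def productSystem (F₁ : FusionSystem S₁) (F₂ : FusionSystem S₂) :
    FusionSystem (S₁.prod S₂) where
  Hom := prodHomSet F₁ F₂
  le_of_mem := by
    rintro P φ ⟨hP, φ₁, hφ₁, φ₂, hφ₂, rfl⟩
    refine ⟨hP, fun x => ?_⟩
    exact Subgroup.mem_prod.mpr ⟨(F₁.le_of_mem hφ₁).2 _, (F₂.le_of_mem hφ₂).2 _⟩
  injective_of_mem := by
    rintro P φ ⟨hP, φ₁, hφ₁, φ₂, hφ₂, rfl⟩ a b hab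
    have h1 : φ₁ ⟨_, fst_mem_map a⟩ = φ₁ ⟨_, fst_mem_map b⟩ := congrArg Prod.fst hab
    have h2 : φ₂ ⟨_, snd_mem_map a⟩ = φ₂ ⟨_, snd_mem_map b⟩ := congrArg Prod.snd hab
    have h3 := congrArg Subtype.val (F₁.injective_of_mem hφ₁ h1)
    have h4 := congrArg Subtype.val (F₂.injective_of_mem hφ₂ h2)
    exact Subtype.ext (Prod.ext h3 h4)
  conj_mem := by
    intro P g hP hg
    refine ⟨hP, conjHom _ g.1, F₁.conj_mem (map_fst_le hP) (Subgroup.mem_prod.mp hg).1,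
      conjHom _ g.2, F₂.conj_mem (map_snd_le hP) (Subgroup.mem_prod.mp hg).2, ?_⟩
    ext x <;> rfl
  comp_mem := by
    rintro P Q φ ψ ⟨hP, φ₁, hφ₁, φ₂, hφ₂, rfl⟩ ⟨hQ, ψ₁, hψ₁, ψ₂, hψ₂, rfl⟩ h
    have h₁ : ∀ x : P.map (MonoidHom.fst Ω₁ Ω₂), φ₁ x ∈ Q.map (MonoidHom.fst Ω₁ Ω₂) := by
      rintro ⟨_, ⟨x, hx, rfl⟩⟩
      exact ⟨_, h ⟨x, hx⟩, rfl⟩
    have h₂ : ∀ x : P.map (MonoidHom.snd Ω₁ Ω₂), φ₂ x ∈ Q.map (MonoidHom.snd Ω₁ Ω₂) := by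
      rintro ⟨_, ⟨x, hx, rfl⟩⟩
      exact ⟨_, h ⟨x, hx⟩, rfl⟩
    refine ⟨hP, _, F₁.comp_mem hφ₁ hψ₁ h₁, _, F₂.comp_mem hφ₂ hψ₂ h₂, ?_⟩
    ext x <;> rfl
  inv_mem := by
    rintro P φ ⟨hP, φ₁, hφ₁, φ₂, hφ₂, rfl⟩
    obtain ⟨ψ₁, hψ₁, hψ₁inv⟩ := F₁.inv_mem hφ₁
    obtain ⟨ψ₂, hψ₂, hψ₂inv⟩ := F₂.inv_mem hφ₂
    have e₁ := (range_prodRes_fst P φ₁ φ₂).symm
    have e₂ := (range_prodRes_snd P φ₁ φ₂).symm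
    have hψ₁' := hom_congr F₁ e₁ hψ₁
    have hψ₂' := hom_congr F₂ e₂ hψ₂
    have hr : (prodRes P φ₁ φ₂).range ≤ S₁.prod S₂ := by
      rintro _ ⟨x, rfl⟩
      exact Subgroup.mem_prod.mpr ⟨(F₁.le_of_mem hφ₁).2 _, (F₂.le_of_mem hφ₂).2 _⟩
    refine ⟨prodRes _ _ _, ⟨hr, _, hψ₁', _, hψ₂', rfl⟩, fun x => ?_⟩
    apply Prod.ext
    · exact hψ₁inv ⟨_, fst_mem_map x⟩
    · exact hψ₂inv ⟨_, snd_mem_map x⟩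

theorem isProductSystem_productSystem (F₁ : FusionSystem S₁) (F₂ : FusionSystem S₂) :
    IsProductSystem F₁ F₂ (productSystem F₁ F₂) := by
  intro P φ
  show φ ∈ prodHomSet F₁ F₂ P ↔ _
  constructor
  · rintro ⟨hP, φ₁, hφ₁, φ₂, hφ₂, h⟩
    exact ⟨hP, φ₁, hφ₁, φ₂, hφ₂, (eq_prodRes_iff P φ φ₁ φ₂).mpr h⟩
  · rintro ⟨hP, φ₁, hφ₁, φ₂, hφ₂, h⟩
    exact ⟨hP, φ₁, hφ₁, φ₂, hφ₂, (eq_prodRes_iff P φ φ₁ φ₂).mp h⟩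

end Cfsg.Agent.helper25
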