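import Mathlib

set_option autoImplicit false
set_option linter.style.haveILetI false

/-!
# `p`-subgroups of small symmetric groups are abelian

If `card α < p²` then every `p`-subgroup of `Perm α` is commutative.
-/

namespace Cfsg.Agent.helper25

section SmallSym

variable {p : ℕ} [hp : Fact p.Prime]

/-- a `p`-group of permutations of a set with `1` or `p` elements is commutative. -/
theorem comm_of_pgroup_perm_small {β : Type*} [Fintype β] [DecidableEq β]
    (hβ : Fintype.card β = 1 ∨ Fintype.card β = p)
    (R : Subgroup (Equiv.Perm β)) (hR : IsPGroup p R) :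
    ∀ x ∈ R, ∀ y ∈ R, x * y = y * x := by
  have hp' := hp.out
  obtain ⟨k, hk⟩ := IsPGroup.iff_card.mp hR
  have hdvd : Nat.card R ∣ (Fintype.card β).factorial := by
    have := Subgroup.card_subgroup_dvd_card R
    rwa [Nat.card_eq_fintype_card (α := Equiv.Perm β), Fintype.card_perm] at this
  have hk1 : k ≤ 1 := by
    by_contra hk2
    push Not at hk2
    have h2 : p ^ 2 ∣ (Fintype.card β).factorial := by
      refine dvd_trans ?_ hdvd
      rw [hk]
      exact pow_dvd_pow p hk2
    rcases hβ with h | h
    · rw [h, Nat.factorial_one] at h2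
      have := Nat.le_of_dvd one_pos h2
      have h4 : 2 ≤ p := hp'.two_le
      nlinarith
    · rw [h] at h2
      have hpp : p = (p - 1) + 1 := by have := hp'.two_le; omega
      rw [hpp, Nat.factorial_succ, ← hpp, pow_two] at h2
      have h3 : p ∣ (p - 1).factorial := Nat.dvd_of_mul_dvd_mul_left hp'.pos h2
      have h4 := (hp'.dvd_factorial).mp h3
      have := hp'.two_le
      omega
  have hcyc : IsCyclic R := by
    interval_cases k
    · rw [pow_zero] at hk
      haveI : Subsingleton R := (Nat.card_eq_one_iff_unique.mp hk).1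
      infer_instance
    · rw [pow_one] at hk
      exact isCyclic_of_prime_card hk
  intro x hx y hy
  haveI := hcyc
  have := (IsCyclic.commGroup (α := R)).mul_comm ⟨x, hx⟩ ⟨y, hy⟩
  exact congrArg Subtype.val this

/-- every `p`-subgroup of `Perm α` is commutative if `card α < p²`. -/
theorem comm_of_pgroup_perm_lt_sq {α : Type*} [Fintype α] [DecidableEq α]
    (hα : Fintype.card α < p ^ 2)
    (Q : Subgroup (Equiv.Perm α)) (hQ : IsPGroup p Q) :
    ∀ x ∈ Q, ∀ y ∈ Q, x * y = y * x := by
  classical
  have hp' := hp.out
  intro x hx y hy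
  ext a
  -- the orbit of a
  let O := MulAction.orbit Q a
  haveI : Fintype O := Fintype.ofFinite _
  have hcardO : Fintype.card O = 1 ∨ Fintype.card O = p := by
    obtain ⟨k, hk⟩ := hQ.card_orbit a
    have hle : Fintype.card O ≤ Fintype.card α := Fintype.card_subtype_le _
    have hk' : Fintype.card O = p ^ k := by
      rw [← Nat.card_eq_fintype_card]; exact hk
    have hk2 : k < 2 := by
      by_contra h
      push Not at h
      have : p ^ 2 ≤ p ^ k := Nat.pow_le_pow_right hp'.pos h
      omega
    interval_cases k
    · left; simpa using hk'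
    · right; simpa using hk'
  let φ : Q →* Equiv.Perm O := MulAction.toPermHom Q O
  have hR : IsPGroup p φ.range :=
    hQ.of_surjective φ.rangeRestrict φ.rangeRestrict_surjective
  have hcomm := comm_of_pgroup_perm_small hcardO φ.range hR (φ ⟨x, hx⟩) ⟨_, rfl⟩ (φ ⟨y, hy⟩) ⟨_, rfl⟩
  rw [← map_mul, ← map_mul] at hcomm
  have h1 := congrArg (fun σ : Equiv.Perm O => (σ ⟨a, MulAction.mem_orbit_self a⟩ : α)) hcomm
  have h2 : ∀ g : Q, ((φ g) ⟨a, MulAction.mem_orbit_self a⟩ : α) = (g : Equiv.Perm α) a := by
    intro g
    rfl
  simp only [h2] at h1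
  simpa using h1

end SmallSym

end Cfsg.Agent.helper25
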