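import Mathlib
import Cfsg.Prelude.Def_PLocal
import Cfsg.Agent.Lib_helper11_SL2U

set_option autoImplicit false
set_option linter.style.haveILetI false

/-!
# The affine action of `Qd(p)` on `𝔽_p²`
-/

namespace Cfsg.Agent.helper25

open Matrix

section QdAct

variable {p : ℕ}

/-- the affine condition on a matrix of `SL₃(𝔽_p)`: last row `(0, 0, 1)`. -/
def IsAff3 (M : Matrix.SpecialLinearGroup (Fin 3) (ZMod p)) : Prop :=
  (M : Matrix (Fin 3) (Fin 3) (ZMod p)) 2 0 = 0 ∧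
    (M : Matrix (Fin 3) (Fin 3) (ZMod p)) 2 1 = 0 ∧ (M : Matrix (Fin 3) (Fin 3) (ZMod p)) 2 2 = 1

theorem isAff3_one : IsAff3 (1 : Matrix.SpecialLinearGroup (Fin 3) (ZMod p)) := by
  refine ⟨?_, ?_, ?_⟩ <;> simp

theorem isAff3_mul {M N : Matrix.SpecialLinearGroup (Fin 3) (ZMod p)} (hM : IsAff3 M)
    (hN : IsAff3 N) : IsAff3 (M * N) := by
  obtain ⟨m0, m1, m2⟩ := hM
  obtain ⟨n0, n1, n2⟩ := hN
  refine ⟨?_, ?_, ?_⟩ <;>
    simp [Matrix.SpecialLinearGroup.coe_mul, Matrix.mul_apply, Fin.sum_univ_three, m0, m1, m2, n0,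
      n1, n2]

theorem isAff3_inv {M : Matrix.SpecialLinearGroup (Fin 3) (ZMod p)} (hM : IsAff3 M) :
    IsAff3 M⁻¹ := by
  obtain ⟨m0, m1, m2⟩ := hM
  have h : M * M⁻¹ = 1 := mul_inv_cancel M
  have h0 := congrArg (fun X : Matrix.SpecialLinearGroup (Fin 3) (ZMod p) =>
    (X : Matrix (Fin 3) (Fin 3) (ZMod p)) 2 0) h
  have h1 := congrArg (fun X : Matrix.SpecialLinearGroup (Fin 3) (ZMod p) =>
    (X : Matrix (Fin 3) (Fin 3) (ZMod p)) 2 1) h
  have h2 := congrArg (fun X : Matrix.SpecialLinearGroup (Fin 3) (ZMod p) =>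
    (X : Matrix (Fin 3) (Fin 3) (ZMod p)) 2 2) h
  simp only [Matrix.SpecialLinearGroup.coe_mul, Matrix.mul_apply, Fin.sum_univ_three, m0, m1, m2,
    zero_mul, zero_add, one_mul, Matrix.SpecialLinearGroup.coe_one] at h0 h1 h2
  refine ⟨?_, ?_, ?_⟩
  · simpa using h0
  · simpa using h1
  · simpa using h2

/-- the affine subgroup -/
def affSub (p : ℕ) : Subgroup (Matrix.SpecialLinearGroup (Fin 3) (ZMod p)) where
  carrier := {M | IsAff3 M}
  mul_mem' := isAff3_mul
  one_mem' := isAff3_one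
  inv_mem' := isAff3_inv

theorem qd_eq_affSub : Cfsg.qd p = affSub p := by
  apply le_antisymm
  · unfold Cfsg.qd
    rw [Subgroup.closure_le]
    intro M hM
    exact hM
  · intro M hM
    exact Subgroup.subset_closure hM

theorem isAff3_of_mem_qd {M : Matrix.SpecialLinearGroup (Fin 3) (ZMod p)} (hM : M ∈ Cfsg.qd p) :
    IsAff3 M := by
  rw [qd_eq_affSub] at hM
  exact hM

theorem mem_qd_of_isAff3 {M : Matrix.SpecialLinearGroup (Fin 3) (ZMod p)} (hM : IsAff3 M) :
    M ∈ Cfsg.qd p := Subgroup.subset_closure hM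

/-- the affine action on pairs -/
def affAct (M : Matrix.SpecialLinearGroup (Fin 3) (ZMod p)) (v : ZMod p × ZMod p) :
    ZMod p × ZMod p :=
  ((M : Matrix (Fin 3) (Fin 3) (ZMod p)) 0 0 * v.1 + (M : Matrix (Fin 3) (Fin 3) (ZMod p)) 0 1 * v.2
      + (M : Matrix (Fin 3) (Fin 3) (ZMod p)) 0 2,
    (M : Matrix (Fin 3) (Fin 3) (ZMod p)) 1 0 * v.1 + (M : Matrix (Fin 3) (Fin 3) (ZMod p)) 1 1 * v.2
      + (M : Matrix (Fin 3) (Fin 3) (ZMod p)) 1 2)

theorem affAct_one (v : ZMod p × ZMod p) :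
    affAct (1 : Matrix.SpecialLinearGroup (Fin 3) (ZMod p)) v = v := by
  unfold affAct
  ext <;> simp

theorem affAct_mul (M N : Matrix.SpecialLinearGroup (Fin 3) (ZMod p)) (hN : IsAff3 N)
    (v : ZMod p × ZMod p) : affAct (M * N) v = affAct M (affAct N v) := by
  obtain ⟨n0, n1, n2⟩ := hN
  unfold affAct
  ext
  · simp only [Matrix.SpecialLinearGroup.coe_mul, Matrix.mul_apply, Fin.sum_univ_three, n0, n1, n2]
    ring
  · simp only [Matrix.SpecialLinearGroup.coe_mul, Matrix.mul_apply, Fin.sum_univ_three, n0, n1, n2]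
    ring

/-- the action as a hom to `Function.End` -/
def qdEndHom (p : ℕ) : ↥(Cfsg.qd p) →* Function.End (ZMod p × ZMod p) where
  toFun g := affAct (g : Matrix.SpecialLinearGroup (Fin 3) (ZMod p))
  map_one' := by
    funext v
    exact affAct_one v
  map_mul' g h := by
    funext v
    exact affAct_mul _ _ (isAff3_of_mem_qd h.2) v

/-- the permutation action of `Qd(p)` on pairs. -/
def qdPermHom (p : ℕ) : ↥(Cfsg.qd p) →* Equiv.Perm (ZMod p × ZMod p) :=
  (qdEndHom p).toHomPerm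

theorem qdPermHom_apply (g : ↥(Cfsg.qd p)) (v : ZMod p × ZMod p) :
    qdPermHom p g v = affAct (g : Matrix.SpecialLinearGroup (Fin 3) (ZMod p)) v := rfl

theorem qdPermHom_injective [Fact p.Prime] : Function.Injective (qdPermHom p) := by
  rw [injective_iff_map_eq_one]
  intro g hg
  have h : ∀ v, affAct (g : Matrix.SpecialLinearGroup (Fin 3) (ZMod p)) v = v := by
    intro v
    rw [← qdPermHom_apply, hg]
    rfl
  obtain ⟨g0, g1, g2⟩ := isAff3_of_mem_qd g.2
  have h00 := h (0, 0)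
  have h10 := h (1, 0)
  have h01 := h (0, 1)
  unfold affAct at h00 h10 h01
  simp only [mul_zero, zero_add, mul_one, add_zero, Prod.mk.injEq] at h00 h10 h01
  obtain ⟨a02, a12⟩ := h00
  obtain ⟨a00, a10⟩ := h10
  obtain ⟨a01, a11⟩ := h01
  rw [a02, add_zero] at a00 a01
  rw [a12, add_zero] at a10 a11
  apply Subtype.ext
  apply Subtype.ext
  ext i j
  fin_cases i <;> fin_cases j <;> simp [a00, a01, a02, a10, a11, a12, g0, g1, g2]

end QdAct

end Cfsg.Agent.helper25
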