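import Mathlib
import Cfsg.Prelude.Def_PLocal
import Cfsg.Agent.Lib_helper11_SL2U
import Cfsg.Agent.Lib_helper25_QdAlt2

set_option autoImplicit false
set_option linter.style.haveILetI false

/-!
# `Qd(p)` has no subgroup of index two (`p` odd)
-/

namespace Cfsg.Agent.helper25

open Matrix Cfsg.Agent.helper11.SL2U

section QdSign

variable {p : ℕ}

/-- translation matrices -/
def tMat (a b : ZMod p) : Matrix.SpecialLinearGroup (Fin 3) (ZMod p) :=
  ⟨!![1, 0, a; 0, 1, b; 0, 0, 1], by rw [Matrix.det_fin_three]; simp⟩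

theorem coe_tMat (a b : ZMod p) :
    (tMat a b : Matrix (Fin 3) (Fin 3) (ZMod p)) = !![1, 0, a; 0, 1, b; 0, 0, 1] := rfl

theorem sl3_ext {A B : Matrix.SpecialLinearGroup (Fin 3) (ZMod p)}
    (h : (A : Matrix (Fin 3) (Fin 3) (ZMod p)) = (B : Matrix (Fin 3) (Fin 3) (ZMod p))) : A = B :=
  Subtype.ext h

theorem tMat_add (a b a' b' : ZMod p) : tMat (a + a') (b + b') = tMat a b * tMat a' b' := by
  apply sl3_ext
  rw [Matrix.SpecialLinearGroup.coe_mul, coe_tMat, coe_tMat, coe_tMat]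
  ext i j
  fin_cases i <;> fin_cases j <;> simp [Matrix.mul_apply, Fin.sum_univ_three, add_comm]

theorem tMat_zero : tMat (0 : ZMod p) 0 = 1 := by
  apply sl3_ext
  rw [coe_tMat, Matrix.SpecialLinearGroup.coe_one]
  ext i j
  fin_cases i <;> fin_cases j <;> simp

theorem tMat_pow (a b : ZMod p) (k : ℕ) :
    (tMat a b) ^ k = tMat ((k : ZMod p) * a) ((k : ZMod p) * b) := by
  induction k with
  | zero => simp [tMat_zero]
  | succ k ih =>
    rw [pow_succ, ih, ← tMat_add]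
    congr 1 <;> push_cast <;> ring

theorem tMat_pow_p [Fact p.Prime] (a b : ZMod p) : (tMat a b) ^ p = 1 := by
  rw [tMat_pow]
  simp [tMat_zero]

theorem isAff3_tMat (a b : ZMod p) : IsAff3 (tMat a b) := by
  refine ⟨?_, ?_, ?_⟩ <;> simp [coe_tMat]

/-- block embedding of `SL₂` -/
def iMat (A : Matrix.SpecialLinearGroup (Fin 2) (ZMod p)) :
    Matrix.SpecialLinearGroup (Fin 3) (ZMod p) :=
  ⟨!![(A : Matrix (Fin 2) (Fin 2) (ZMod p)) 0 0, (A : Matrix (Fin 2) (Fin 2) (ZMod p)) 0 1, 0;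
      (A : Matrix (Fin 2) (Fin 2) (ZMod p)) 1 0, (A : Matrix (Fin 2) (Fin 2) (ZMod p)) 1 1, 0;
      0, 0, 1], by
    have h := A.2
    rw [Matrix.det_fin_two] at h
    rw [Matrix.det_fin_three]
    simp only [Matrix.of_apply, Matrix.cons_val', Matrix.cons_val_zero, Matrix.cons_val_one,
      Matrix.cons_val_two, Matrix.empty_val', Matrix.cons_val_fin_one, Matrix.head_cons,
      Matrix.tail_cons]
    simp
    linear_combination h⟩

theorem coe_iMat (A : Matrix.SpecialLinearGroup (Fin 2) (ZMod p)) :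
    (iMat A : Matrix (Fin 3) (Fin 3) (ZMod p)) =
      !![(A : Matrix (Fin 2) (Fin 2) (ZMod p)) 0 0, (A : Matrix (Fin 2) (Fin 2) (ZMod p)) 0 1, 0;
      (A : Matrix (Fin 2) (Fin 2) (ZMod p)) 1 0, (A : Matrix (Fin 2) (Fin 2) (ZMod p)) 1 1, 0;
      0, 0, 1] := rfl

theorem iMat_mul (A B : Matrix.SpecialLinearGroup (Fin 2) (ZMod p)) :
    iMat (A * B) = iMat A * iMat B := by
  apply sl3_ext
  rw [Matrix.SpecialLinearGroup.coe_mul, coe_iMat, coe_iMat, coe_iMat]
  ext i j
  fin_cases i <;> fin_cases j <;>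
    simp [Matrix.SpecialLinearGroup.coe_mul, Matrix.mul_apply, Fin.sum_univ_three,
      Fin.sum_univ_two]

theorem iMat_one : iMat (1 : Matrix.SpecialLinearGroup (Fin 2) (ZMod p)) = 1 := by
  apply sl3_ext
  rw [coe_iMat, Matrix.SpecialLinearGroup.coe_one]
  ext i j
  fin_cases i <;> fin_cases j <;> simp

theorem isAff3_iMat (A : Matrix.SpecialLinearGroup (Fin 2) (ZMod p)) : IsAff3 (iMat A) := by
  refine ⟨?_, ?_, ?_⟩ <;> simp [coe_iMat]

/-- block embedding as a hom into `Qd(p)` -/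
def iHom (p : ℕ) : Matrix.SpecialLinearGroup (Fin 2) (ZMod p) →* ↥(Cfsg.qd p) where
  toFun A := ⟨iMat A, mem_qd_of_isAff3 (isAff3_iMat A)⟩
  map_one' := Subtype.ext iMat_one
  map_mul' A B := Subtype.ext (iMat_mul A B)

/-- the upper-left block of an affine matrix -/
def blk (M : Matrix.SpecialLinearGroup (Fin 3) (ZMod p)) (hM : IsAff3 M) :
    Matrix.SpecialLinearGroup (Fin 2) (ZMod p) :=
  ⟨!![(M : Matrix (Fin 3) (Fin 3) (ZMod p)) 0 0, (M : Matrix (Fin 3) (Fin 3) (ZMod p)) 0 1;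
    (M : Matrix (Fin 3) (Fin 3) (ZMod p)) 1 0, (M : Matrix (Fin 3) (Fin 3) (ZMod p)) 1 1], by
    obtain ⟨m0, m1, m2⟩ := hM
    have hdet := M.2
    rw [Matrix.det_fin_three, m0, m1, m2] at hdet
    rw [Matrix.det_fin_two]
    simp only [Matrix.of_apply, Matrix.cons_val', Matrix.cons_val_zero, Matrix.cons_val_one,
      Matrix.empty_val', Matrix.cons_val_fin_one]
    linear_combination hdet⟩

theorem coe_blk (M : Matrix.SpecialLinearGroup (Fin 3) (ZMod p)) (hM : IsAff3 M) :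
    (blk M hM : Matrix (Fin 2) (Fin 2) (ZMod p)) =
      !![(M : Matrix (Fin 3) (Fin 3) (ZMod p)) 0 0, (M : Matrix (Fin 3) (Fin 3) (ZMod p)) 0 1;
    (M : Matrix (Fin 3) (Fin 3) (ZMod p)) 1 0, (M : Matrix (Fin 3) (Fin 3) (ZMod p)) 1 1] := rfl

/-- decomposition of an affine matrix -/
theorem aff_decomp (M : Matrix.SpecialLinearGroup (Fin 3) (ZMod p)) (hM : IsAff3 M) :
    ∃ A : Matrix.SpecialLinearGroup (Fin 2) (ZMod p),
      M = tMat ((M : Matrix (Fin 3) (Fin 3) (ZMod p)) 0 2)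
        ((M : Matrix (Fin 3) (Fin 3) (ZMod p)) 1 2) * iMat A := by
  refine ⟨blk M hM, ?_⟩
  have m0 := hM.1
  have m1 := hM.2.1
  have m2 := hM.2.2
  apply sl3_ext
  rw [Matrix.SpecialLinearGroup.coe_mul, coe_tMat, coe_iMat, coe_blk]
  ext i j
  fin_cases i <;> fin_cases j <;>
    simp [Matrix.mul_apply, Fin.sum_univ_three, m0, m1, m2]

theorem lS_add' {F : Type*} [Field F] (s t : F) : lS (s + t) = lS s * lS t := by
  apply sl_ext
  rw [Matrix.SpecialLinearGroup.coe_mul, coe_lS, coe_lS, coe_lS]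
  ext i j
  fin_cases i <;> fin_cases j <;> simp [Matrix.mul_apply, Fin.sum_univ_two, add_comm]

theorem lS_zero' {F : Type*} [Field F] : lS (0 : F) = 1 := by
  apply sl_ext
  rw [coe_lS, Matrix.SpecialLinearGroup.coe_one]
  ext i j
  fin_cases i <;> fin_cases j <;> simp

theorem uS_pow' {F : Type*} [Field F] (s : F) (k : ℕ) : (uS s) ^ k = uS ((k : F) * s) := by
  induction k with
  | zero => simp [uS_zero]
  | succ k ih =>
    rw [pow_succ, ih, ← uS_add]
    congr 1; push_cast; ring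

theorem lS_pow' {F : Type*} [Field F] (s : F) (k : ℕ) : (lS s) ^ k = lS ((k : F) * s) := by
  induction k with
  | zero => simp [lS_zero']
  | succ k ih =>
    rw [pow_succ, ih, ← lS_add']
    congr 1; push_cast; ring

theorem units_int_eq_one_of_pow_odd {u : ℤˣ} {n : ℕ} (hn : Odd n) (h : u ^ n = 1) : u = 1 := by
  rcases Int.units_eq_one_or u with rfl | rfl
  · rfl
  · rw [Odd.neg_one_pow hn] at h
    exact absurd h (by decide)

/-- every hom from `Qd(p)` to `ℤˣ` is trivial, for odd `p`. -/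
theorem qd_hom_units_trivial [hp : Fact p.Prime] (hp2 : p ≠ 2) (χ : ↥(Cfsg.qd p) →* ℤˣ)
    (g : ↥(Cfsg.qd p)) : χ g = 1 := by
  have hodd : Odd p := hp.out.odd_of_ne_two hp2
  have key : ∀ h : ↥(Cfsg.qd p), h ^ p = 1 → χ h = 1 := by
    intro h hh
    apply units_int_eq_one_of_pow_odd hodd
    rw [← map_pow, hh, map_one]
  have hSL : (χ.comp (iHom p)).ker = ⊤ := by
    apply eq_top_of_uS_lS_mem
    · intro s
      rw [MonoidHom.mem_ker, MonoidHom.comp_apply]
      apply key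
      rw [← map_pow, uS_pow']
      have : ((p : ℕ) : ZMod p) * s = 0 := by simp
      rw [this, uS_zero, map_one]
    · intro s
      rw [MonoidHom.mem_ker, MonoidHom.comp_apply]
      apply key
      rw [← map_pow, lS_pow']
      have : ((p : ℕ) : ZMod p) * s = 0 := by simp
      rw [this, lS_zero', map_one]
  obtain ⟨A, hA⟩ := aff_decomp (g : Matrix.SpecialLinearGroup (Fin 3) (ZMod p))
    (isAff3_of_mem_qd g.2)
  set a := ((g : Matrix.SpecialLinearGroup (Fin 3) (ZMod p)) : Matrix (Fin 3) (Fin 3) (ZMod p)) 0 2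
  set b := ((g : Matrix.SpecialLinearGroup (Fin 3) (ZMod p)) : Matrix (Fin 3) (Fin 3) (ZMod p)) 1 2
  have hg : g = ⟨tMat a b, mem_qd_of_isAff3 (isAff3_tMat a b)⟩ * iHom p A := by
    apply Subtype.ext
    exact hA
  rw [hg, map_mul]
  have h1 : χ ⟨tMat a b, mem_qd_of_isAff3 (isAff3_tMat a b)⟩ = 1 := by
    apply key
    apply Subtype.ext
    simp only [Subgroup.coe_pow, Subgroup.coe_one]
    exact tMat_pow_p a b
  have h2 : χ (iHom p A) = 1 := by
    have : A ∈ (χ.comp (iHom p)).ker := by rw [hSL]; trivial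
    exact this
  rw [h1, h2, one_mul]

end QdSign

end Cfsg.Agent.helper25
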