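import Cfsg.Agent.Lib_helper25_FactorSat2
import Cfsg.Agent.Lib_helper26_Fusion
import Cfsg.Agent.Lib_helper25_ClassTwo

set_option autoImplicit false
set_option linter.style.haveILetI false
set_option linter.unusedVariables false

namespace Cfsg.Agent.helper25

open Cfsg Cfsg.FusionSystem

variable {Ω : Type*} [Group Ω] {S : Subgroup Ω}

/-- every map of the system fixes the elements of a central subgroup. -/
theorem isCentral_fix (F : FusionSystem S) {Q : Subgroup Ω} (hQ : F.IsCentral Q)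
    {P : Subgroup Ω} {φ : P →* Ω} (hφ : φ ∈ F.Hom P) (x : P) (hx : (x : Ω) ∈ Q) :
    φ x = x := by
  obtain ⟨ψ, hψ, hψφ, hψQ⟩ := hQ.2 P φ hφ
  have h1 := hψφ x
  have h2 := hψQ ⟨x, hx⟩
  have e : Subgroup.inclusion (le_sup_left : P ≤ P ⊔ Q) x =
      Subgroup.inclusion (le_sup_right : Q ≤ P ⊔ Q) ⟨x, hx⟩ := Subtype.ext rfl
  rw [e] at h1
  exact h1.symm.trans h2

theorem stronglyClosed_of_isCentral (F : FusionSystem S) {Q : Subgroup Ω} (hQ : F.IsCentral Q) :
    F.StronglyClosed Q :=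
  ⟨hQ.1, fun R hR φ hφ x => by rw [isCentral_fix F hQ hφ x (hR x.2)]; exact hR x.2⟩

theorem pResidual_eq_bot_of_isPGroup {G : Type*} [Group G] {p : ℕ} [Fact p.Prime]
    (h : IsPGroup p G) : pResidual p G = ⊥ := by
  unfold pResidual
  rw [Subgroup.closure_eq_bot_iff]
  intro g hg
  obtain ⟨k, hk⟩ := h g
  have h1 : orderOf g ∣ p ^ k := orderOf_dvd_of_pow_eq_one hk
  have h2 : Nat.Coprime (orderOf g) (p ^ k) := Nat.Coprime.pow_right k hg
  have h3 : orderOf g = 1 := Nat.Coprime.eq_one_of_dvd h2 h1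
  exact orderOf_eq_one_iff.mp h3

theorem hyperfocal_eq_bot_of_isPGroup_aut (F : FusionSystem S) (p : ℕ) [Fact p.Prime]
    (h : ∀ P : Subgroup Ω, P ≤ S → IsPGroup p (F.autGroup P)) : F.hyperfocalSubgroup p = ⊥ := by
  unfold hyperfocalSubgroup
  rw [Subgroup.closure_eq_bot_iff]
  rintro y ⟨P, α, x, hPS, hα, rfl⟩
  rw [pResidual_eq_bot_of_isPGroup (h P hPS), Subgroup.mem_bot] at hα
  rw [hα]
  show (x : Ω)⁻¹ * x = 1
  exact inv_mul_cancel _

/-- a quasisimple fusion system lives on a nonabelian group. -/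
theorem quasisimple_not_comm [Finite S] {p : ℕ} [Fact p.Prime] (hS : IsPGroup p S)
    (F : FusionSystem S) (hq : F.Quasisimple p) : ¬ IsMulCommutative S := by
  intro hab
  obtain ⟨hF, hhyp, hE⟩ := hq
  have hZc : F.IsCentral F.center := isCentral_center F
  have hZsc : F.StronglyClosed F.center := stronglyClosed_of_isCentral F hZc
  obtain ⟨E, hfac⟩ := exists_factorSystem_quotient F F.center hZsc
  obtain ⟨hEsat, hne, hEnorm⟩ := hE E hfac
  obtain ⟨hKS, hker, hrange, hiff⟩ := hfac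
  have habq : ∀ x ∈ (⊤ : Subgroup (S ⧸ (F.center).subgroupOf S)),
      ∀ y ∈ (⊤ : Subgroup (S ⧸ (F.center).subgroupOf S)), x * y = y * x := by
    intro x _ y _
    obtain ⟨a, rfl⟩ := QuotientGroup.mk_surjective x
    obtain ⟨b, rfl⟩ := QuotientGroup.mk_surjective y
    rw [← QuotientGroup.mk_mul, ← QuotientGroup.mk_mul, hab.is_comm.comm a b]
  have hsct : E.StronglyClosed ⊤ := ⟨le_rfl, fun R _ φ hφ x => (E.le_of_mem hφ).2 x⟩
  have hinn := Cfsg.Agent.helper26.inner_isNormalIn_of_comm E p hEsat habq ⊤ hsct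
  rcases hEnorm ⊤ _ hinn with h | ⟨-, h⟩
  · exact hne h
  have hEid : ∀ (P' : Subgroup (S ⧸ (F.center).subgroupOf S))
      (φ' : P' →* S ⧸ (F.center).subgroupOf S), φ' ∈ E.Hom P' → ∀ x : P', φ' x = x := by
    intro P' φ' hφ' x
    rw [← h P'] at hφ'
    obtain ⟨-, g, hg, hφg⟩ := hφ'
    rw [hφg x, habq g hg x (Subgroup.mem_top _), mul_inv_cancel_right]
  have hmod : ∀ (P : Subgroup Ω) (φ : P →* Ω), φ ∈ F.Hom P →
      ∀ x : P, (x : Ω)⁻¹ * φ x ∈ F.center := by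
    intro P φ hφ x
    obtain ⟨φ', ⟨ψ, hψ, hψind⟩, hPS, hφS, hP', hind⟩ := exists_induced hS F hF hZsc _ hker hφ
    have hφ'E : φ' ∈ E.Hom _ := (hiff _ φ').mpr ⟨le_top, ψ, hψ, hψind⟩
    have h1 := hind x
    rw [hEid _ φ' hφ'E] at h1
    have h1' : (QuotientGroup.mk' ((F.center).subgroupOf S)) ⟨x, hPS x.2⟩ =
        (QuotientGroup.mk' ((F.center).subgroupOf S)) ⟨φ x, hφS x⟩ := h1
    apply (hker ⟨(x : Ω)⁻¹ * φ x, S.mul_mem (S.inv_mem (hPS x.2)) (hφS x)⟩).mp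
    have e2 : (⟨(x : Ω)⁻¹ * φ x, S.mul_mem (S.inv_mem (hPS x.2)) (hφS x)⟩ : S) =
        (⟨x, hPS x.2⟩ : S)⁻¹ * ⟨φ x, hφS x⟩ := rfl
    rw [e2, map_mul, map_inv, ← h1', inv_mul_cancel]
  have hAut : ∀ P : Subgroup Ω, P ≤ S → IsPGroup p (F.autGroup P) := by
    intro P hPS α
    haveI : Finite P := finite_of_le S hPS
    have hα' : IsFIso F (α : MulAut P) := (mem_autGroup_iff F hPS _).mp α.2
    have hcs : IsChainStab (chain3 ⊥ ((F.center).subgroupOf P)) (α : MulAut P) := by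
      rw [isChainStab_chain3_bot]
      constructor
      · intro x hx
        exact Subtype.ext (isCentral_fix F hZc hα' x (Subgroup.mem_subgroupOf.mp hx))
      · intro x
        exact Subgroup.mem_subgroupOf.mpr (hmod P _ hα' x)
    obtain ⟨k, hk⟩ := hcs.exists_pow_eq_one (hS.to_le hPS) (chain3_mono bot_le)
      ⟨0, fun x hx => by
        rw [chain3_zero, Subgroup.mem_bot] at hx; rw [hx, map_one]⟩ (chain3_ge _ _ le_rfl)
    exact ⟨k, Subtype.ext hk⟩
  have hbot := hyperfocal_eq_bot_of_isPGroup_aut F p hAut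
  rw [hhyp] at hbot
  apply hne
  rw [eq_bot_iff]
  intro y _
  obtain ⟨a, rfl⟩ := QuotientGroup.mk_surjective y
  have h2 : (a : Ω) ∈ (⊥ : Subgroup Ω) := le_of_eq hbot a.2
  have h3 : a = 1 := Subtype.ext (Subgroup.mem_bot.mp h2)
  rw [h3]; exact Subgroup.one_mem _

end Cfsg.Agent.helper25
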