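import Cfsg.Agent.Lib_helper25_Alperin2
import Cfsg.Agent.Lib_helper25_Model

set_option autoImplicit false
set_option linter.style.haveILetI false
set_option linter.unusedVariables false

namespace Cfsg.Agent.helper25

open Cfsg Cfsg.FusionSystem

/-- a finite group with a strongly `p`-embedded subgroup has no nontrivial normal `p`-subgroup. -/
theorem normal_pSubgroup_eq_bot_of_SPE {X : Type*} [Group X] [Finite X] {p : ℕ} [Fact p.Prime]
    {Y : Subgroup X} (hY : IsStronglyPEmbedded p Y) (O : Subgroup X) [hOn : O.Normal]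
    (hO : IsPGroup p O) : O = ⊥ := by
  by_contra hne
  obtain ⟨hp, hYtop, T, hT⟩ := hY
  have hOT : O ≤ T := hO.le_sylow_of_normal T
  have hpp : p.Prime := Fact.out
  obtain ⟨n, hn⟩ := IsPGroup.iff_card.mp hO
  have hn0 : n ≠ 0 := by
    rintro rfl
    rw [pow_zero] at hn
    exact hne (Subgroup.eq_bot_of_card_eq O hn)
  have hdvd : p ∣ Nat.card O := by rw [hn]; exact dvd_pow_self p hn0
  obtain ⟨x, hx⟩ := exists_prime_orderOf_dvd_card' p hdvd
  have hrank : ¬ PRankLE p (1 - 1) ↥O := by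
    intro h
    have h1 := h (Subgroup.zpowers x) inferInstance (by
      intro a ha
      obtain ⟨k, rfl⟩ := Subgroup.mem_zpowers_iff.mp ha
      rw [← zpow_natCast, ← zpow_mul, mul_comm, zpow_mul, zpow_natCast, ← hx, pow_orderOf_eq_one,
        one_zpow])
    rw [Nat.card_zpowers, hx] at h1
    simp at h1
    exact hpp.one_lt.not_ge h1
  have h2 : Subgroup.normalizer ((O : Subgroup X) : Set X) ≤ kGeneratedCore p 1 (T : Subgroup X) := by
    unfold kGeneratedCore
    exact le_iSup (fun Q : {Q : Subgroup X // Q ≤ (T : Subgroup X) ∧ ¬ PRankLE p (1 - 1) Q} =>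
      Subgroup.normalizer ((Q : Subgroup X) : Set X)) ⟨O, hOT, hrank⟩
  rw [Subgroup.normalizer_eq_top] at h2
  exact hYtop (top_le_iff.mp (h2.trans hT))

theorem pCore_isPGroup_h25 (p : ℕ) [Fact p.Prime] (G : Type*) [Group G] [Finite G] :
    IsPGroup p (Cfsg.pCore p G) := by
  obtain ⟨T⟩ : Nonempty (Sylow p G) := inferInstance
  exact T.isPGroup'.to_le (pCore_le_sylow_h25 T)

theorem le_pCore_h25 {p : ℕ} {G : Type*} [Group G] {N : Subgroup G} (hN : N.Normal)
    (hp : IsPGroup p N) : N ≤ Cfsg.pCore p G :=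
  le_sSup ⟨hN, hp⟩

variable {Ω : Type*} [Group Ω] {S : Subgroup Ω}

theorem isPGroup_inn {p : ℕ} {P : Subgroup Ω} (hP : IsPGroup p P) : IsPGroup p (Inn P) := by
  have h1 : IsPGroup p (MulAut.conj : P →* MulAut P).range :=
    hP.of_surjective (MulAut.conj : P →* MulAut P).rangeRestrict
      (MonoidHom.rangeRestrict_surjective _)
  exact h1

/-- an essential subgroup is radical. -/
theorem isRadical_of_isEssential [Finite S] {p : ℕ} [Fact p.Prime] (hS : IsPGroup p S)
    (F : FusionSystem S) {P : Subgroup Ω} (hP : F.IsEssential p P) : F.IsRadical p P := by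
  obtain ⟨hPc, hPn, hnorm, Y, hY⟩ := hP
  have hPS : P ≤ S := hPc.1
  haveI : Finite P := finite_of_le S hPS
  have hInnF : Inn P ≤ F.autGroup P :=
    (inn_le_autInducedBy hPS).trans (autInducedBy_le_autGroup F hPS)
  refine ⟨hPS, le_antisymm ?_ ?_⟩
  · haveI := pCore_normal_h25 p ↥(F.autGroup P)
    have hOp := pCore_isPGroup_h25 p ↥(F.autGroup P)
    have hsurj : Function.Surjective (QuotientGroup.mk' ((Inn P).subgroupOf (F.autGroup P))) :=
      QuotientGroup.mk'_surjective _
    haveI : ((Cfsg.pCore p ↥(F.autGroup P)).map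
        (QuotientGroup.mk' ((Inn P).subgroupOf (F.autGroup P)))).Normal :=
      Subgroup.Normal.map inferInstance _ hsurj
    have hbot := normal_pSubgroup_eq_bot_of_SPE hY
      ((Cfsg.pCore p ↥(F.autGroup P)).map (QuotientGroup.mk' ((Inn P).subgroupOf (F.autGroup P))))
      (hOp.map _)
    rintro _ ⟨a, ha, rfl⟩
    have h1 : (QuotientGroup.mk' ((Inn P).subgroupOf (F.autGroup P))) a ∈
        (Cfsg.pCore p ↥(F.autGroup P)).map
          (QuotientGroup.mk' ((Inn P).subgroupOf (F.autGroup P))) := ⟨a, ha, rfl⟩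
    rw [hbot, Subgroup.mem_bot] at h1
    exact Subgroup.mem_subgroupOf.mp ((QuotientGroup.eq_one_iff a).mp h1)
  · intro α hα
    have hIp : IsPGroup p ((Inn P).subgroupOf (F.autGroup P)) :=
      isPGroup_subgroupOf _ (isPGroup_inn (hS.to_le hPS))
    have hle := le_pCore_h25 hnorm hIp
    exact ⟨⟨α, hInnF hα⟩, hle (Subgroup.mem_subgroupOf.mpr hα), rfl⟩

end Cfsg.Agent.helper25
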