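import Mathlib
import Cfsg.Prelude.Def_RootSubgroups

set_option autoImplicit false

namespace Cfsg.Agent.helper25

open Cfsg

variable {G : Type*} [Group G]

theorem mem_conjBy_iff (A : Subgroup G) (g x : G) : x ∈ conjBy A g ↔ g⁻¹ * x * g ∈ A := by
  constructor
  · rintro ⟨y, hy, rfl⟩
    have : g⁻¹ * (g * y * g⁻¹) * g = y := by group
    show g⁻¹ * (g * y * g⁻¹) * g ∈ A
    rw [this]; exact hy
  · intro h
    refine ⟨g⁻¹ * x * g, h, ?_⟩
    show g * (g⁻¹ * x * g) * g⁻¹ = x
    group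

theorem conj_mem_conjBy (A : Subgroup G) (g : G) {y : G} (hy : y ∈ A) : g * y * g⁻¹ ∈ conjBy A g :=
  ⟨y, hy, rfl⟩

theorem conjBy_one (A : Subgroup G) : conjBy A 1 = A := by
  ext x; rw [mem_conjBy_iff]; simp

theorem conjBy_conjBy (A : Subgroup G) (g h : G) : conjBy (conjBy A g) h = conjBy A (h * g) := by
  ext x
  rw [mem_conjBy_iff, mem_conjBy_iff, mem_conjBy_iff]
  have : g⁻¹ * (h⁻¹ * x * h) * g = (h * g)⁻¹ * x * (h * g) := by group
  rw [this]

theorem conjBy_of_mem (A : Subgroup G) {a : G} (ha : a ∈ A) : conjBy A a = A := by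
  ext x
  rw [mem_conjBy_iff]
  constructor
  · intro h
    have := A.mul_mem (A.mul_mem ha h) (A.inv_mem ha)
    have e : a * (a⁻¹ * x * a) * a⁻¹ = x := by group
    rwa [e] at this
  · intro h
    exact A.mul_mem (A.mul_mem (A.inv_mem ha) h) ha

theorem conjBy_eq_self_iff (A : Subgroup G) (g : G) :
    conjBy A g = A ↔ g ∈ Subgroup.normalizer (A : Set G) := by
  rw [Subgroup.mem_normalizer_iff'']
  constructor
  · intro h x
    rw [← mem_conjBy_iff, h]
  · intro h
    ext x
    rw [mem_conjBy_iff, ← h]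

theorem conjBy_eq_iff (A C : Subgroup G) (g : G) : conjBy A g = C ↔ A = conjBy C g⁻¹ := by
  constructor
  · rintro rfl
    rw [conjBy_conjBy, inv_mul_cancel, conjBy_one]
  · intro h
    rw [h, conjBy_conjBy, mul_inv_cancel, conjBy_one]

theorem conjBy_le (A K : Subgroup G) {g : G} (hA : A ≤ K) (hg : g ∈ K) : conjBy A g ≤ K := by
  rintro _ ⟨y, hy, rfl⟩
  exact K.mul_mem (K.mul_mem hg (hA hy)) (K.inv_mem hg)

theorem conjBy_inj (A C : Subgroup G) (g : G) (h : conjBy A g = conjBy C g) : A = C := by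
  have := congrArg (fun X => conjBy X g⁻¹) h
  simpa [conjBy_conjBy, conjBy_one] using this

section RankOne

variable {A B : Subgroup G}

theorem rankOne_left_ne_bot (h : IsRankOnePair A B) : A ≠ ⊥ := by
  intro hA
  have hB : B ≠ ⊥ := by
    intro hB; exact h.ne (hA.trans hB.symm)
  obtain ⟨b, hb⟩ := (Subgroup.ne_bot_iff_exists_ne_one).mp hB
  obtain ⟨a, ha, ha1, -⟩ := h.cond_right b.1 b.2 (fun h1 => hb (Subtype.ext h1))
  rw [hA, Subgroup.mem_bot] at ha
  exact ha1 ha

theorem rankOne_right_ne_bot (h : IsRankOnePair A B) : B ≠ ⊥ :=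
  rankOne_left_ne_bot (RankOnePair_symm h)

theorem rankOne_exists_left (h : IsRankOnePair A B) : ∃ a ∈ A, a ≠ 1 := by
  obtain ⟨a, ha⟩ := (Subgroup.ne_bot_iff_exists_ne_one).mp (rankOne_left_ne_bot h)
  exact ⟨a.1, a.2, fun h1 => ha (Subtype.ext h1)⟩

/-- `N_A(B) = 1`. -/
theorem rankOne_normalizer_left (h : IsRankOnePair A B) {a : G} (ha : a ∈ A)
    (hn : a ∈ Subgroup.normalizer (B : Set G)) : a = 1 := by
  by_contra ha1
  obtain ⟨b, hb, hb1, hab⟩ := h.cond_left a ha ha1
  have h1 : conjBy B a⁻¹ = B := (conjBy_eq_self_iff B a⁻¹).mpr (Subgroup.inv_mem _ hn)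
  rw [h1] at hab
  have h2 : A = conjBy B b := by
    have := (conjBy_eq_iff A B b⁻¹).mp hab
    rwa [inv_inv] at this
  rw [conjBy_of_mem B hb] at h2
  exact h.ne h2

theorem rankOne_normalizer_right (h : IsRankOnePair A B) {b : G} (hb : b ∈ B)
    (hn : b ∈ Subgroup.normalizer (A : Set G)) : b = 1 :=
  rankOne_normalizer_left (RankOnePair_symm h) hb hn

theorem rankOne_inf_normalizer_left (h : IsRankOnePair A B) :
    A ⊓ Subgroup.normalizer (B : Set G) = ⊥ := by
  rw [eq_bot_iff]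
  rintro a ⟨ha, hn⟩
  exact Subgroup.mem_bot.mpr (rankOne_normalizer_left h ha hn)

/-- `B` is a conjugate of `A` under `A ⊔ B`. -/
theorem rankOne_right_mem_unipotent (h : IsRankOnePair A B) : B ∈ unipotentSubgroups A B := by
  obtain ⟨a, ha, ha1⟩ := rankOne_exists_left h
  obtain ⟨b, hb, hb1, hab⟩ := h.cond_left a ha ha1
  refine ⟨a * b⁻¹, ?_, ?_⟩
  · exact Subgroup.mul_mem _ (Subgroup.mem_sup_left ha) (Subgroup.inv_mem _ (Subgroup.mem_sup_right hb))
  · rw [← conjBy_conjBy, hab, conjBy_conjBy, mul_inv_cancel, conjBy_one]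

/-- The set `{A} ∪ {a B a⁻¹ | a ∈ A}`. -/
def rankOneDelta (A B : Subgroup G) : Set (Subgroup G) := {C | C = A ∨ ∃ a ∈ A, C = conjBy B a}

theorem rankOneDelta_gen (h : IsRankOnePair A B) {x : G} (hx : x ∈ A ∨ x ∈ B) {C : Subgroup G}
    (hC : C ∈ rankOneDelta A B) : conjBy C x ∈ rankOneDelta A B := by
  -- first: x ∈ B acting on A
  have key : ∀ y ∈ B, conjBy A y ∈ rankOneDelta A B := by
    intro y hy
    by_cases hy1 : y = 1
    · left; rw [hy1, conjBy_one]
    · have hy1' : y⁻¹ ≠ 1 := fun h1 => hy1 (inv_eq_one.mp h1)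
      obtain ⟨a, ha, ha1, hab⟩ := h.cond_right y⁻¹ (B.inv_mem hy) hy1'
      right
      refine ⟨a⁻¹, A.inv_mem ha, ?_⟩
      rw [hab, inv_inv]
  rcases hx with hx | hx
  · rcases hC with rfl | ⟨a, ha, rfl⟩
    · left; exact conjBy_of_mem C hx
    · right; exact ⟨x * a, A.mul_mem hx ha, conjBy_conjBy B a x⟩
  · rcases hC with rfl | ⟨a, ha, rfl⟩
    · exact key x hx
    · by_cases ha1 : a = 1
      · right
        refine ⟨1, A.one_mem, ?_⟩
        rw [ha1]
        simp only [conjBy_one]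
        exact conjBy_of_mem B hx
      · have ha1' : a⁻¹ ≠ 1 := fun h1 => ha1 (inv_eq_one.mp h1)
        obtain ⟨b, hb, hb1, hab⟩ := h.cond_left a⁻¹ (A.inv_mem ha) ha1'
        rw [inv_inv] at hab
        rw [← hab, conjBy_conjBy]
        exact key _ (B.mul_mem hx (B.inv_mem hb))

theorem rankOneDelta_stable (h : IsRankOnePair A B) {x : G} (hx : x ∈ A ⊔ B) {C : Subgroup G} :
    C ∈ rankOneDelta A B ↔ conjBy C x ∈ rankOneDelta A B := by
  -- the set stabilizer of Delta is a subgroup containing A and B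
  let M : Subgroup G :=
    { carrier := {x | ∀ C, C ∈ rankOneDelta A B ↔ conjBy C x ∈ rankOneDelta A B}
      one_mem' := fun C => by rw [conjBy_one]
      mul_mem' := by
        intro x y hx hy C
        rw [← conjBy_conjBy, ← hx, ← hy]
      inv_mem' := by
        intro x hx C
        have := hx (conjBy C x⁻¹)
        rw [conjBy_conjBy, mul_inv_cancel, conjBy_one] at this
        exact this.symm }
  have hgen : ∀ x, (x ∈ A ∨ x ∈ B) → x ∈ M := by
    intro x hx C
    constructor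
    · exact fun hC => rankOneDelta_gen h hx hC
    · intro hC
      have hx' : x⁻¹ ∈ A ∨ x⁻¹ ∈ B := hx.imp (A.inv_mem) (B.inv_mem)
      have := rankOneDelta_gen h hx' hC
      rwa [conjBy_conjBy, inv_mul_cancel, conjBy_one] at this
  have hle : A ⊔ B ≤ M := sup_le (fun a ha => hgen a (Or.inl ha)) (fun b hb => hgen b (Or.inr hb))
  exact hle hx C

/-- `Ω = {A} ∪ B^A`. -/
theorem unipotentSubgroups_eq_delta (h : IsRankOnePair A B) :
    unipotentSubgroups A B = rankOneDelta A B := by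
  ext C
  constructor
  · rintro ⟨x, hx, rfl⟩
    exact (rankOneDelta_stable h hx).mp (Or.inl rfl)
  · rintro (rfl | ⟨a, ha, rfl⟩)
    · exact ⟨1, Subgroup.one_mem _, (conjBy_one C).symm⟩
    · obtain ⟨y, hy, hyB⟩ := rankOne_right_mem_unipotent h
      refine ⟨a * y, Subgroup.mul_mem _ (Subgroup.mem_sup_left ha) hy, ?_⟩
      rw [hyB, conjBy_conjBy]

theorem rankOne_conj_right_ne_left (h : IsRankOnePair A B) {a : G} (ha : a ∈ A) : conjBy B a ≠ A := by
  intro hBA
  have := (conjBy_eq_iff B A a).mp hBA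
  rw [conjBy_of_mem A (A.inv_mem ha)] at this
  exact h.ne this.symm

theorem rankOne_conj_right_inj (h : IsRankOnePair A B) {a a' : G} (ha : a ∈ A) (ha' : a' ∈ A)
    (he : conjBy B a = conjBy B a') : a = a' := by
  have h1 : conjBy B (a'⁻¹ * a) = B := by
    rw [← conjBy_conjBy, he, conjBy_conjBy, inv_mul_cancel, conjBy_one]
  have h2 := rankOne_normalizer_left h (A.mul_mem (A.inv_mem ha') ha)
    ((conjBy_eq_self_iff B _).mp h1)
  exact (inv_mul_eq_one.mp h2).symm

theorem mem_unipotent_conj (A B : Subgroup G) {C : Subgroup G} (hC : C ∈ unipotentSubgroups A B)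
    {x : G} (hx : x ∈ A ⊔ B) : conjBy C x ∈ unipotentSubgroups A B := by
  obtain ⟨y, hy, rfl⟩ := hC
  exact ⟨x * y, Subgroup.mul_mem _ hx hy, conjBy_conjBy A y x⟩

theorem unipotent_ne_left (h : IsRankOnePair A B) {C : Subgroup G} (hC : C ∈ unipotentSubgroups A B)
    (hCA : C ≠ A) : ∃ a ∈ A, C = conjBy B a := by
  rw [unipotentSubgroups_eq_delta h] at hC
  rcases hC with rfl | hC
  · exact absurd rfl hCA
  · exact hC

/-- a normal subgroup normalizing both `A` and `B` centralizes `A ⊔ B`. -/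
theorem rankOne_central_of_normalizes (h : IsRankOnePair A B) (N : Subgroup G) [N.Normal]
    (hNA : N ≤ Subgroup.normalizer (A : Set G)) (hNB : N ≤ Subgroup.normalizer (B : Set G)) :
    N ≤ Subgroup.centralizer ((A ⊔ B : Subgroup G) : Set G) := by
  have hA : ∀ n ∈ N, ∀ a ∈ A, a * n = n * a := by
    intro n hn a ha
    have h1 : n * a * n⁻¹ ∈ A := (Subgroup.mem_normalizer_iff.mp (hNA hn) a).mp ha
    have h2 : n * a * n⁻¹ * a⁻¹ ∈ A := A.mul_mem h1 (A.inv_mem ha)
    have h3 : n * a * n⁻¹ * a⁻¹ ∈ N := by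
      have : a * n⁻¹ * a⁻¹ ∈ N := ‹N.Normal›.conj_mem _ (N.inv_mem hn) a
      have := N.mul_mem hn this
      have e : n * (a * n⁻¹ * a⁻¹) = n * a * n⁻¹ * a⁻¹ := by group
      rwa [e] at this
    have h4 := rankOne_normalizer_left h h2 (hNB h3)
    have : n * a = a * n := by
      have e : n * a = (n * a * n⁻¹ * a⁻¹) * (a * n) := by group
      rw [e, h4, one_mul]
    exact this.symm
  have hB : ∀ n ∈ N, ∀ b ∈ B, b * n = n * b := by
    intro n hn b hb
    have h1 : n * b * n⁻¹ ∈ B := (Subgroup.mem_normalizer_iff.mp (hNB hn) b).mp hb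
    have h2 : n * b * n⁻¹ * b⁻¹ ∈ B := B.mul_mem h1 (B.inv_mem hb)
    have h3 : n * b * n⁻¹ * b⁻¹ ∈ N := by
      have : b * n⁻¹ * b⁻¹ ∈ N := ‹N.Normal›.conj_mem _ (N.inv_mem hn) b
      have := N.mul_mem hn this
      have e : n * (b * n⁻¹ * b⁻¹) = n * b * n⁻¹ * b⁻¹ := by group
      rwa [e] at this
    have h4 := rankOne_normalizer_right h h2 (hNA h3)
    have : n * b = b * n := by
      have e : n * b = (n * b * n⁻¹ * b⁻¹) * (b * n) := by group
      rw [e, h4, one_mul]
    exact this.symm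
  intro n hn
  rw [Subgroup.mem_centralizer_iff]
  intro x hx
  have hle : A ⊔ B ≤ Subgroup.centralizer ({n} : Set G) := by
    apply sup_le
    · intro a ha
      rw [Subgroup.mem_centralizer_iff]
      intro m hm
      rw [Set.mem_singleton_iff.mp hm]
      exact (hA n hn a ha).symm
    · intro b hb
      rw [Subgroup.mem_centralizer_iff]
      intro m hm
      rw [Set.mem_singleton_iff.mp hm]
      exact (hB n hn b hb).symm
  have := Subgroup.mem_centralizer_iff.mp (hle hx) n (Set.mem_singleton n)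
  exact this.symm

end RankOne

end Cfsg.Agent.helper25
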