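import Cfsg.Agent.Lib_helper25_Sylow2
import Cfsg.Agent.Lib_helper25_GroupFS

set_option autoImplicit false

namespace Cfsg.Agent.helper25

open Cfsg Cfsg.FusionSystem

variable {Ω : Type*} [Group Ω] {S : Subgroup Ω} {G : Type*} [Group G]

/-- image in `G` of `P ⊓ S` under `ι : S →* G`. -/
def im (ι : S →* G) (P : Subgroup Ω) : Subgroup G := (P.subgroupOf S).map ι

theorem mem_im_iff (ι : S →* G) (P : Subgroup Ω) (y : G) :
    y ∈ im ι P ↔ ∃ s : S, (s : Ω) ∈ P ∧ ι s = y := by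
  unfold im
  rw [Subgroup.mem_map]
  constructor
  · rintro ⟨s, hs, rfl⟩; exact ⟨s, Subgroup.mem_subgroupOf.mp hs, rfl⟩
  · rintro ⟨s, hs, rfl⟩; exact ⟨s, Subgroup.mem_subgroupOf.mpr hs, rfl⟩

theorem mem_im (ι : S →* G) {P : Subgroup Ω} {x : Ω} (hx : x ∈ P) (hxS : x ∈ S) :
    ι ⟨x, hxS⟩ ∈ im ι P :=
  (mem_im_iff ι P _).mpr ⟨⟨x, hxS⟩, hx, rfl⟩

theorem im_mono (ι : S →* G) {P Q : Subgroup Ω} (h : P ≤ Q) : im ι P ≤ im ι Q := by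
  intro y hy
  obtain ⟨s, hs, rfl⟩ := (mem_im_iff ι P y).mp hy
  exact (mem_im_iff ι Q _).mpr ⟨s, h hs, rfl⟩

theorem im_le_range (ι : S →* G) (P : Subgroup Ω) : im ι P ≤ ι.range := by
  intro y hy
  obtain ⟨s, -, rfl⟩ := (mem_im_iff ι P y).mp hy
  exact ⟨s, rfl⟩

theorem im_self (ι : S →* G) : im ι S = ι.range := by
  apply le_antisymm (im_le_range ι S)
  rintro _ ⟨s, rfl⟩
  exact (mem_im_iff ι S _).mpr ⟨s, s.2, rfl⟩

theorem mem_of_mem_im {ι : S →* G} (hι : Function.Injective ι) {P : Subgroup Ω} {s : S}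
    (h : ι s ∈ im ι P) : (s : Ω) ∈ P := by
  obtain ⟨s', hs', he⟩ := (mem_im_iff ι P _).mp h
  rw [← hι he]; exact hs'

theorem im_le_im_iff {ι : S →* G} (hι : Function.Injective ι) {P Q : Subgroup Ω} (hP : P ≤ S) :
    im ι P ≤ im ι Q ↔ P ≤ Q := by
  constructor
  · intro h x hx
    exact mem_of_mem_im hι (h (mem_im ι hx (hP hx)))
  · exact im_mono ι

theorem card_im {ι : S →* G} (hι : Function.Injective ι) {P : Subgroup Ω} (hP : P ≤ S) :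
    Nat.card (im ι P) = Nat.card P := by
  unfold im
  rw [Subgroup.card_map_of_injective hι]
  exact card_subgroupOf_of_le hP

/-- the isomorphism of `P ≤ S` onto its image. -/
noncomputable def imEquiv {ι : S →* G} (hι : Function.Injective ι) {P : Subgroup Ω} (hP : P ≤ S) :
    P ≃* im ι P :=
  (Subgroup.subgroupOfEquivOfLe hP).symm.trans ((P.subgroupOf S).equivMapOfInjective ι hι)

theorem imEquiv_coe {ι : S →* G} (hι : Function.Injective ι) {P : Subgroup Ω} (hP : P ≤ S) (x : P) :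
    ((imEquiv hι hP x : im ι P) : G) = ι ⟨x, hP x.2⟩ := rfl

/-- conjugation by `ι a` for `a ∈ N_S(P)` preserves the image of `P`. -/
theorem conj_mem_im (ι : S →* G) {P : Subgroup Ω} {a : Ω} (haS : a ∈ S)
    (haN : a ∈ Subgroup.normalizer (P : Set Ω)) {y : G} (hy : y ∈ im ι P) :
    ι ⟨a, haS⟩ * y * (ι ⟨a, haS⟩)⁻¹ ∈ im ι P := by
  obtain ⟨s, hs, rfl⟩ := (mem_im_iff ι P y).mp hy
  refine (mem_im_iff ι P _).mpr ⟨⟨a, haS⟩ * s * ⟨a, haS⟩⁻¹, ?_, ?_⟩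
  · exact (Subgroup.mem_normalizer_iff.mp haN s).mp hs
  · rw [map_mul, map_mul, map_inv]

theorem im_normalizer (ι : S →* G) {P : Subgroup Ω} {a : Ω} (haS : a ∈ S)
    (haN : a ∈ Subgroup.normalizer (P : Set Ω)) :
    ι ⟨a, haS⟩ ∈ Subgroup.normalizer ((im ι P : Subgroup G) : Set G) := by
  rw [Subgroup.mem_normalizer_iff]
  intro y
  constructor
  · exact conj_mem_im ι haS haN
  · intro hy
    have h1 := conj_mem_im ι (S.inv_mem haS) (inv_mem haN) hy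
    have e : (⟨a⁻¹, S.inv_mem haS⟩ : S) = (⟨a, haS⟩ : S)⁻¹ := rfl
    rw [e, map_inv] at h1
    have e2 : (ι ⟨a, haS⟩)⁻¹ * (ι ⟨a, haS⟩ * y * (ι ⟨a, haS⟩)⁻¹) * (ι ⟨a, haS⟩)⁻¹⁻¹ = y := by group
    rwa [e2] at h1

/-- a conjugation in `G` that keeps the image of `P` inside the image of `S` gives a map of the
system. -/
theorem exists_hom_of_cj_le {F : FusionSystem S} {ι : S →* G} (hF : F.IsRealizedBy ι)
    {P : Subgroup Ω} (hP : P ≤ S) {g : G} (hg : cj g (im ι P) ≤ ι.range) :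
    ∃ φ : P →* Ω, ∃ hφ : ∀ x : P, φ x ∈ S,
      φ ∈ F.Hom P ∧ ∀ x : P, ι ⟨φ x, hφ x⟩ = g * ι ⟨x, hP x.2⟩ * g⁻¹ := by
  have hmem : ∀ x : P, ((MulAut.conj g).toMonoidHom.comp (ι.comp (Subgroup.inclusion hP))) x ∈
      ι.range := fun x => hg (conj_mem_cj g _ (mem_im ι x.2 (hP x.2)))
  let e := MonoidHom.ofInjective hF.1
  let φ₀ : P →* ι.range :=
    ((MulAut.conj g).toMonoidHom.comp (ι.comp (Subgroup.inclusion hP))).codRestrict ι.range hmem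
  let φ : P →* Ω := S.subtype.comp (e.symm.toMonoidHom.comp φ₀)
  have hφS : ∀ x : P, φ x ∈ S := fun x => (e.symm (φ₀ x)).2
  have hφι : ∀ x : P, ι ⟨φ x, hφS x⟩ = g * ι ⟨x, hP x.2⟩ * g⁻¹ := by
    intro x
    have h1 : (⟨φ x, hφS x⟩ : S) = e.symm (φ₀ x) := rfl
    rw [h1, MonoidHom.apply_ofInjective_symm]
    rfl
  exact ⟨φ, hφS, (hF.2 P hP φ hφS).mpr ⟨g, hφι⟩, hφι⟩

theorem exists_of_mem_hom {F : FusionSystem S} {ι : S →* G} (hF : F.IsRealizedBy ι)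
    {P : Subgroup Ω} {φ : P →* Ω} (h : φ ∈ F.Hom P) :
    ∃ (hP : P ≤ S) (hφ : ∀ x : P, φ x ∈ S) (g : G),
      ∀ x : P, ι ⟨φ x, hφ x⟩ = g * ι ⟨x, hP x.2⟩ * g⁻¹ := by
  obtain ⟨hP, hφ⟩ := F.le_of_mem h
  exact ⟨hP, hφ, (hF.2 P hP φ hφ).mp h⟩

theorem im_range {ι : S →* G} {P : Subgroup Ω} (hP : P ≤ S) {φ : P →* Ω}
    (hφ : ∀ x : P, φ x ∈ S) {g : G}
    (hg : ∀ x : P, ι ⟨φ x, hφ x⟩ = g * ι ⟨x, hP x.2⟩ * g⁻¹) :
    im ι φ.range = cj g (im ι P) := by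
  ext y
  rw [mem_im_iff]
  constructor
  · rintro ⟨s, ⟨x, hx⟩, rfl⟩
    have h1 : s = ⟨φ x, hφ x⟩ := Subtype.ext hx.symm
    rw [h1, hg]
    exact conj_mem_cj g _ (mem_im ι x.2 (hP x.2))
  · rintro ⟨z, hz, rfl⟩
    obtain ⟨s, hs, rfl⟩ := (mem_im_iff ι P z).mp hz
    refine ⟨⟨φ ⟨s, hs⟩, hφ _⟩, ⟨⟨s, hs⟩, rfl⟩, ?_⟩
    rw [hg]
    rfl

end Cfsg.Agent.helper25
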