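import Mathlib

set_option autoImplicit false
set_option linter.unusedSectionVars false
set_option linter.unusedSimpArgs false

namespace Cfsg.Agent.helper25.Ree

open SemidirectProduct Matrix

section SD
variable {N Q : Type*} [Group N] [Group Q] {φ : Q →* MulAut N}

theorem sd_eq_inl (x : N ⋊[φ] Q) (h : x.right = 1) : x = inl x.left := by
  apply SemidirectProduct.ext
  · simp
  · simp [h]

theorem sd_right_pow (x : N ⋊[φ] Q) (k : ℕ) : (x ^ k).right = x.right ^ k :=
  map_pow (rightHom : N ⋊[φ] Q →* Q) x k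

/-- if the acting element has order dividing `k` and no nontrivial fixed points, then `x ^ k = 1` -/
theorem sd_pow_of_fpf [Finite N] (x : N ⋊[φ] Q) (k : ℕ) (hk : x.right ^ k = 1)
    (hfix : ∀ m : N, φ x.right m = m → m = 1) : x ^ k = 1 := by
  have hinj : Function.Injective (fun c : N => c⁻¹ * φ x.right c) := by
    intro c d h
    simp only at h
    have h2 : φ x.right (d * c⁻¹) = d * c⁻¹ := by
      rw [map_mul, map_inv]
      have : φ x.right c = c * (d⁻¹ * φ x.right d) := by rw [← h, mul_inv_cancel_left]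
      rw [this]
      group
    have := hfix _ h2
    exact (mul_inv_eq_one.mp this).symm
  obtain ⟨c, hc⟩ := Finite.surjective_of_injective hinj x.left
  have hb : x = (inl c)⁻¹ * inr x.right * ((inl c)⁻¹)⁻¹ := by
    apply SemidirectProduct.ext
    · simp only [inv_inv, ← map_inv, mul_left, mul_right, left_inl, right_inl, left_inr, right_inr,
        map_one, mul_one, one_mul, MulAut.one_apply]
      exact hc.symm
    · simp
  rw [hb, conj_pow, ← map_pow, hk, map_one, mul_one, mul_inv_cancel]

/-- if the acting element has order dividing `k` and `N` has exponent 3, then `x ^ (3k) = 1` -/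
theorem sd_pow_three_mul (x : N ⋊[φ] Q) (k : ℕ) (hk : x.right ^ k = 1) (h3 : ∀ m : N, m ^ 3 = 1) :
    x ^ (k * 3) = 1 := by
  rw [pow_mul, sd_eq_inl (x ^ k) (by rw [sd_right_pow, hk]), ← map_pow, h3, map_one]

/-- if the cube of the acting element inverts `N` and its sixth power is trivial, then `x ^ 6 = 1` -/
theorem sd_pow_six (x : N ⋊[φ] Q) (h6 : x.right ^ 6 = 1)
    (hinv : ∀ m : N, φ (x.right ^ 3) m = m⁻¹) : x ^ 6 = 1 := by
  have : x ^ 6 = x ^ 3 * x ^ 3 := by rw [← pow_add]
  rw [this]
  apply SemidirectProduct.ext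
  · rw [mul_left, sd_right_pow, hinv, mul_inv_cancel, one_left]
  · rw [mul_right, sd_right_pow, ← pow_add, h6, one_right]

end SD

section Mat
variable {L : Type} [Field L] [CharP L 3]

instance fact_three' : Fact (Nat.Prime 3) := ⟨Nat.prime_three⟩

abbrev M2 (L : Type) := Matrix (Fin 2) (Fin 2) L

/-- entrywise cube -/
def cube : M2 L →+* M2 L := (frobenius L 3).mapMatrix

theorem cube_apply (X : M2 L) (i j : Fin 2) : cube X i j = (X i j) ^ 3 := rfl

theorem cube_smul (c : L) (X : M2 L) : cube (c • X) = c ^ 3 • cube X := by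
  ext i j
  simp [cube_apply, mul_pow]

theorem cube_neg_one : cube (-1 : M2 L) = -1 := by
  rw [map_neg, map_one]

/-- the twisted action -/
def T (e : L) (G : M2 L) (X : M2 L) : M2 L := e • (G * X * (cube G)ᵀ)

theorem T_add (e : L) (G X Y : M2 L) : T e G (X + Y) = T e G X + T e G Y := by
  simp [T, mul_add, add_mul]

theorem T_T (e e' : L) (G G' X : M2 L) : T e G (T e' G' X) = T (e * e') (G * G') X := by
  simp only [T, map_mul, Matrix.transpose_mul, Matrix.mul_smul, Matrix.smul_mul, smul_smul]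
  congr 1
  simp only [Matrix.mul_assoc]

theorem T_one (X : M2 L) : T 1 1 X = X := by
  simp [T]

theorem T_one_neg_one (X : M2 L) : T 1 (-1) X = X := by
  simp [T, cube_neg_one]

/-- Cayley–Hamilton in dimension two for determinant one -/
theorem ch2 (G : M2 L) (hd : G.det = 1) : G * G = (G 0 0 + G 1 1) • G - 1 := by
  rw [Matrix.det_fin_two] at hd
  ext i j
  fin_cases i <;> fin_cases j <;>
    simp [Matrix.mul_apply, Fin.sum_univ_two] <;>
    first | linear_combination hd | linear_combination -hd | ring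

theorem sq_of_trace_zero (G : M2 L) (hd : G.det = 1) (ht : G 0 0 + G 1 1 = 0) : G * G = -1 := by
  rw [ch2 G hd, ht, zero_smul, zero_sub]

theorem cube_of_trace (G : M2 L) (hd : G.det = 1) (s : L) (hs : s * s = 1)
    (ht : G 0 0 + G 1 1 = -s) : G ^ 3 = s • (1 : M2 L) := by
  have h3 : (3 : L) = 0 := by
    have := CharP.cast_eq_zero L 3
    exact_mod_cast this
  have h2 := ch2 G hd
  rw [ht] at h2
  have : G ^ 3 = G * (G * G) := by rw [pow_succ, pow_two, Matrix.mul_assoc]
  rw [this, h2, Matrix.mul_sub, Matrix.mul_smul, h2, Matrix.mul_one]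
  -- (-s) • ((-s) • G - 1) - G = s • 1
  ext i j
  simp only [Matrix.sub_apply, Matrix.smul_apply, Matrix.one_apply, smul_eq_mul]
  split_ifs <;> linear_combination (G i j) * hs - (G i j) * h3 * 0

end Mat

section Eigen
variable {L : Type} [Field L] [CharP L 3]

/-- first spectral idempotent -/
def e1 (G : M2 L) (l m : L) : M2 L := (l - m)⁻¹ • (G - m • (1 : M2 L))
/-- second spectral idempotent -/
def e2 (G : M2 L) (l m : L) : M2 L := (l - m)⁻¹ • (l • (1 : M2 L) - G)

variable (G : M2 L) (hd : G.det = 1) (l m : L) (hlm : l * m = 1) (ht : l + m = G 0 0 + G 1 1)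

include hd hlm ht

theorem ch2' : G * G = (l + m) • G - (l * m) • (1 : M2 L) := by
  rw [ch2 G hd, ← ht, hlm, one_smul]

theorem G_e1 : G * e1 G l m = l • e1 G l m := by
  have h2 := ch2' G hd l m hlm ht
  have : G * (G - m • (1 : M2 L)) = l • (G - m • (1 : M2 L)) := by
    rw [Matrix.mul_sub, Matrix.mul_smul, Matrix.mul_one, h2]
    module
  rw [e1, Matrix.mul_smul, this, smul_comm]

theorem G_e2 : G * e2 G l m = m • e2 G l m := by
  have h2 := ch2' G hd l m hlm ht
  have : G * (l • (1 : M2 L) - G) = m • (l • (1 : M2 L) - G) := by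
    rw [Matrix.mul_sub, Matrix.mul_smul, Matrix.mul_one, h2]
    module
  rw [e2, Matrix.mul_smul, this, smul_comm]

theorem e1_G : e1 G l m * G = l • e1 G l m := by
  have h2 := ch2' G hd l m hlm ht
  have : (G - m • (1 : M2 L)) * G = l • (G - m • (1 : M2 L)) := by
    rw [Matrix.sub_mul, Matrix.smul_mul, Matrix.one_mul, h2]
    module
  rw [e1, Matrix.smul_mul, this, smul_comm]

theorem e2_G : e2 G l m * G = m • e2 G l m := by
  have h2 := ch2' G hd l m hlm ht
  have : (l • (1 : M2 L) - G) * G = m • (l • (1 : M2 L) - G) := by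
    rw [Matrix.sub_mul, Matrix.smul_mul, Matrix.one_mul, h2]
    module
  rw [e2, Matrix.smul_mul, this, smul_comm]

omit hd hlm ht in
theorem e_add (hne : l ≠ m) : e1 G l m + e2 G l m = 1 := by
  have h : l - m ≠ 0 := sub_ne_zero.mpr hne
  rw [e1, e2, ← smul_add]
  have : (G - m • (1 : M2 L)) + (l • (1 : M2 L) - G) = (l - m) • (1 : M2 L) := by module
  rw [this, smul_smul, inv_mul_cancel₀ h, one_smul]

theorem pow_e1 (n : ℕ) : G ^ n * e1 G l m = l ^ n • e1 G l m := by
  induction n with
  | zero => simp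
  | succ n ih =>
    rw [pow_succ, Matrix.mul_assoc, G_e1 G hd l m hlm ht, Matrix.mul_smul, ih, smul_smul, pow_succ,
      mul_comm]

theorem pow_e2 (n : ℕ) : G ^ n * e2 G l m = m ^ n • e2 G l m := by
  induction n with
  | zero => simp
  | succ n ih =>
    rw [pow_succ, Matrix.mul_assoc, G_e2 G hd l m hlm ht, Matrix.mul_smul, ih, smul_smul, pow_succ,
      mul_comm]

theorem pow_formula (hne : l ≠ m) (n : ℕ) : G ^ n = l ^ n • e1 G l m + m ^ n • e2 G l m := by
  rw [← pow_e1 G hd l m hlm ht, ← pow_e2 G hd l m hlm ht, ← Matrix.mul_add, e_add G l m hne,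
    Matrix.mul_one]

theorem pow_eq_smul (hne : l ≠ m) (n : ℕ) (s : L) (hl : l ^ n = s) (hm : m ^ n = s) :
    G ^ n = s • (1 : M2 L) := by
  rw [pow_formula G hd l m hlm ht hne, hl, hm, ← smul_add, e_add G l m hne]

/-- a component of a fixed matrix vanishes -/
theorem comp_zero (e : L) (P R : M2 L) (a b : L) (hP : P * G = a • P)
    (hR : (cube G)ᵀ * R = b • R) (hc : e * (a * b) ≠ 1) (X : M2 L) (hX : T e G X = X) :
    P * X * R = 0 := by
  have h1 : P * X * R = (e * (a * b)) • (P * X * R) := by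
    conv_lhs => rw [← hX]
    rw [T, Matrix.mul_smul, Matrix.smul_mul]
    have : P * (G * X * (cube G)ᵀ) * R = (P * G) * X * ((cube G)ᵀ * R) := by
      simp only [Matrix.mul_assoc]
    rw [this, hP, hR, Matrix.smul_mul, Matrix.smul_mul, Matrix.mul_smul, smul_smul, smul_smul]
    congr 1
    ring
  have h2 : (1 - e * (a * b)) • (P * X * R) = 0 := by
    rw [sub_smul, one_smul, ← h1, sub_self]
  rcases smul_eq_zero.mp h2 with h | h
  · exact absurd (sub_eq_zero.mp h).symm hc
  · exact h

theorem fpf (hne : l ≠ m) (e : L)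
    (h1 : e * (l * l ^ 3) ≠ 1) (h2 : e * (l * m ^ 3) ≠ 1) (h3 : e * (m * l ^ 3) ≠ 1)
    (h4 : e * (m * m ^ 3) ≠ 1) (X : M2 L) (hX : T e G X = X) : X = 0 := by
  set f1 : M2 L := (cube (e1 G l m))ᵀ with hf1
  set f2 : M2 L := (cube (e2 G l m))ᵀ with hf2
  have hf : f1 + f2 = 1 := by
    rw [hf1, hf2, ← Matrix.transpose_add, ← map_add, e_add G l m hne, map_one, Matrix.transpose_one]
  have hR1 : (cube G)ᵀ * f1 = l ^ 3 • f1 := by
    rw [hf1, ← Matrix.transpose_mul, ← map_mul, e1_G G hd l m hlm ht, cube_smul,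
      Matrix.transpose_smul]
  have hR2 : (cube G)ᵀ * f2 = m ^ 3 • f2 := by
    rw [hf2, ← Matrix.transpose_mul, ← map_mul, e2_G G hd l m hlm ht, cube_smul,
      Matrix.transpose_smul]
  have hP1 := e1_G G hd l m hlm ht
  have hP2 := e2_G G hd l m hlm ht
  have c11 := comp_zero G hd l m hlm ht e _ _ _ _ hP1 hR1 h1 X hX
  have c12 := comp_zero G hd l m hlm ht e _ _ _ _ hP1 hR2 h2 X hX
  have c21 := comp_zero G hd l m hlm ht e _ _ _ _ hP2 hR1 h3 X hX
  have c22 := comp_zero G hd l m hlm ht e _ _ _ _ hP2 hR2 h4 X hX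
  have : X = (e1 G l m + e2 G l m) * X * (f1 + f2) := by
    rw [e_add G l m hne, hf, Matrix.one_mul, Matrix.mul_one]
  rw [this, Matrix.add_mul, Matrix.add_mul, Matrix.mul_add, Matrix.mul_add, c11, c12, c21, c22]
  simp

end Eigen

section Main
variable {L : Type} [Field L] [CharP L 3]

theorem three_zero : (3 : L) = 0 := by
  have := CharP.cast_eq_zero L 3
  exact_mod_cast this

theorem neg_one_ne_one : (-1 : L) ≠ 1 := by
  intro h
  have h3 : (3 : L) = 0 := three_zero
  have : (1 : L) = 0 := by linear_combination h3 + h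
  exact one_ne_zero this

theorem sq_eq_one_cases (x : L) (h : x * x = 1) : x = 1 ∨ x = -1 := by
  have : (x - 1) * (x + 1) = 0 := by linear_combination h
  rcases mul_eq_zero.mp this with h | h
  · left; exact sub_eq_zero.mp h
  · right; exact eq_neg_of_add_eq_zero_left h

/-- the key statement about a single rational matrix of determinant one with "generic" trace -/
theorem mat_main (α k : ℕ) (hq : 3 ^ α = 8 * k + 3)
    (hsq : ∀ D : L, D ^ (3 ^ α) = D → IsSquare D)
    (G : M2 L) (hd : G.det = 1) (htq : (G 0 0 + G 1 1) ^ (3 ^ α) = G 0 0 + G 1 1)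
    (ht0 : G 0 0 + G 1 1 ≠ 0) (ht1 : G 0 0 + G 1 1 ≠ 1) (ht2 : G 0 0 + G 1 1 ≠ -1) :
    (∀ e : L, (e = 1 ∨ e = -1) → ∀ X, T e G X = X → X = 0) ∧
    ((G ^ (4 * k + 1) = 1 ∨ G ^ (4 * k + 1) = -1) ∨ (G ^ (4 * k + 2) = 1 ∨ G ^ (4 * k + 2) = -1)) := by
  have h3 : (3 : L) = 0 := three_zero
  obtain ⟨t, htdef⟩ : ∃ t : L, t = G 0 0 + G 1 1 := ⟨_, rfl⟩
  rw [← htdef] at htq ht0 ht1 ht2
  have hD : (t * t - 1) ^ (3 ^ α) = t * t - 1 := by
    rw [sub_pow_char_pow, mul_pow, htq, one_pow]
  obtain ⟨s, hs⟩ := hsq _ hD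
  obtain ⟨l, hl⟩ : ∃ l : L, l = -(t + s) := ⟨_, rfl⟩
  obtain ⟨m, hm⟩ : ∃ m : L, m = -(t - s) := ⟨_, rfl⟩
  have hlm : l * m = 1 := by
    rw [hl, hm]; linear_combination hs
  have hsum : l + m = t := by
    rw [hl, hm]; linear_combination (-t) * h3
  have hs0 : s ≠ 0 := by
    intro h0
    rw [h0, mul_zero] at hs
    rcases sq_eq_one_cases t (by linear_combination hs) with h | h
    · exact ht1 h
    · exact ht2 h
  have hne : l ≠ m := by
    intro h
    apply hs0
    have : l - m = 0 := sub_eq_zero.mpr h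
    rw [hl, hm] at this
    linear_combination this + s * h3
  have hl0 : l ≠ 0 := by
    intro h; rw [h, zero_mul] at hlm; exact zero_ne_one hlm
  have hroot : l * l - t * l + 1 = 0 := by
    rw [← hsum]; linear_combination -hlm
  -- the Frobenius image of `l` is again a root
  have hroot' : (l ^ (3 ^ α)) * (l ^ (3 ^ α)) - t * l ^ (3 ^ α) + 1 = 0 := by
    have : (l * l - t * l + 1) ^ (3 ^ α) = 0 := by rw [hroot, zero_pow (by positivity)]
    rw [add_pow_char_pow, sub_pow_char_pow, mul_pow, mul_pow, htq, one_pow] at this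
    exact this
  have hcases : l ^ (3 ^ α) = l ∨ l ^ (3 ^ α) = m := by
    have : (l ^ (3 ^ α) - l) * (l ^ (3 ^ α) - m) = 0 := by
      have e : (l ^ (3 ^ α) - l) * (l ^ (3 ^ α) - m)
          = (l ^ (3 ^ α)) * (l ^ (3 ^ α)) - (l + m) * l ^ (3 ^ α) + l * m := by ring
      rw [e, hsum, hlm]; exact hroot'
    rcases mul_eq_zero.mp this with h | h
    · left; exact sub_eq_zero.mp h
    · right; exact sub_eq_zero.mp h
  have hm_inv : ∀ n : ℕ, l ^ n * m ^ n = 1 := by
    intro n; rw [← mul_pow, hlm, one_pow]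
  -- `l ^ 8 ≠ 1`
  have hl8 : l ^ 8 ≠ 1 := by
    intro h8
    rcases hcases with hc | hc
    · -- l ^ (q - 1) = 1, so l ^ 2 = 1
      have h1 : l ^ (8 * k + 2) = 1 := by
        have : l ^ (8 * k + 2) * l = l := by rw [← pow_succ, ← hq]; exact hc
        exact mul_right_cancel₀ hl0 (by rw [this, one_mul])
      have h2 : l ^ 2 = 1 := by
        rw [pow_add, pow_mul, h8, one_pow, one_mul] at h1; exact h1
      apply hne
      have : l * l = l * m := by rw [hlm, ← pow_two, h2]
      exact mul_left_cancel₀ hl0 this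
    · -- l ^ (q + 1) = 1, so l ^ 4 = 1
      have h1 : l ^ (8 * k + 4) = 1 := by
        have : l ^ (8 * k + 4) = l ^ (3 ^ α) * l := by rw [hq, ← pow_succ]
        rw [this, hc, mul_comm, hlm]
      have h4 : l ^ 4 = 1 := by
        rw [pow_add, pow_mul, h8, one_pow, one_mul] at h1; exact h1
      rcases sq_eq_one_cases (l ^ 2) (by rw [← pow_add]; exact h4) with h | h
      · apply hne
        have : l * l = l * m := by rw [hlm, ← pow_two, h]
        exact mul_left_cancel₀ hl0 this
      · apply ht0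
        have : t * l = 0 := by linear_combination -hroot + h
        rcases mul_eq_zero.mp this with h' | h'
        · exact h'
        · exact absurd h' hl0
  constructor
  · intro e he X hX
    have he2 : e * e = 1 := by rcases he with rfl | rfl <;> ring
    have hm4 : m ^ 4 * l ^ 4 = 1 := by rw [mul_comm]; exact hm_inv 4
    have hm2 : m ^ 2 * l ^ 2 = 1 := by rw [mul_comm]; exact hm_inv 2
    apply fpf G hd l m hlm (hsum.trans htdef) hne e _ _ _ _ X hX
    · intro h
      apply hl8
      linear_combination (-(l ^ 8)) * he2 + (e * (l * l ^ 3) + 1) * h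
    · intro h
      have h1 : e * m ^ 2 = 1 := by
        have : e * (l * m ^ 3) = e * m ^ 2 * (l * m) := by ring
        rw [this, hlm, mul_one] at h; exact h
      have h2 : m ^ 4 = 1 := by
        linear_combination (-(m ^ 4)) * he2 + (e * m ^ 2 + 1) * h1
      apply hl8
      have : l ^ 4 = 1 := by rw [h2, one_mul] at hm4; exact hm4
      calc l ^ 8 = l ^ 4 * l ^ 4 := by ring
        _ = 1 := by rw [this, one_mul]
    · intro h
      have h1 : e * l ^ 2 = 1 := by
        have : e * (m * l ^ 3) = e * l ^ 2 * (l * m) := by ring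
        rw [this, hlm, mul_one] at h; exact h
      have h2 : l ^ 4 = 1 := by
        linear_combination (-(l ^ 4)) * he2 + (e * l ^ 2 + 1) * h1
      apply hl8
      calc l ^ 8 = l ^ 4 * l ^ 4 := by ring
        _ = 1 := by rw [h2, one_mul]
    · intro h
      have h2 : m ^ 8 = 1 := by
        linear_combination (-(m ^ 8)) * he2 + (e * (m * m ^ 3) + 1) * h
      apply hl8
      have := hm_inv 8
      rw [h2, mul_one] at this; exact this
  · rcases hcases with hc | hc
    · left
      have h1 : l ^ (8 * k + 2) = 1 := by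
        have : l ^ (8 * k + 2) * l = l := by rw [← pow_succ, ← hq]; exact hc
        exact mul_right_cancel₀ hl0 (by rw [this, one_mul])
      have h2 : l ^ (4 * k + 1) * l ^ (4 * k + 1) = 1 := by
        rw [← pow_add]; convert h1 using 2; ring
      have hmm : m ^ (4 * k + 1) = l ^ (4 * k + 1) := by
        have := hm_inv (4 * k + 1)
        have hne0 : l ^ (4 * k + 1) ≠ 0 := pow_ne_zero _ hl0
        apply mul_left_cancel₀ hne0
        rw [this, h2]
      rcases sq_eq_one_cases _ h2 with h | h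
      · left
        rw [pow_eq_smul G hd l m hlm (hsum.trans htdef) hne _ 1 h (by rw [hmm, h]), one_smul]
      · right
        rw [pow_eq_smul G hd l m hlm (hsum.trans htdef) hne _ (-1) h (by rw [hmm, h]), neg_smul, one_smul]
    · right
      have h1 : l ^ (8 * k + 4) = 1 := by
        have : l ^ (8 * k + 4) = l ^ (3 ^ α) * l := by rw [hq, ← pow_succ]
        rw [this, hc, mul_comm, hlm]
      have h2 : l ^ (4 * k + 2) * l ^ (4 * k + 2) = 1 := by
        rw [← pow_add]; convert h1 using 2; ring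
      have hmm : m ^ (4 * k + 2) = l ^ (4 * k + 2) := by
        have := hm_inv (4 * k + 2)
        have hne0 : l ^ (4 * k + 2) ≠ 0 := pow_ne_zero _ hl0
        apply mul_left_cancel₀ hne0
        rw [this, h2]
      rcases sq_eq_one_cases _ h2 with h | h
      · left
        rw [pow_eq_smul G hd l m hlm (hsum.trans htdef) hne _ 1 h (by rw [hmm, h]), one_smul]
      · right
        rw [pow_eq_smul G hd l m hlm (hsum.trans htdef) hne _ (-1) h (by rw [hmm, h]), neg_smul, one_smul]

end Main
end Cfsg.Agent.helper25.Ree
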