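import Cfsg.Agent.Lib_helper25_Ree1

set_option autoImplicit false
set_option linter.unusedSectionVars false
set_option linter.unusedSimpArgs false

namespace Cfsg.Agent.helper25.Ree

open SemidirectProduct Matrix

section Grp
variable (L : Type) [Field L] [CharP L 3]

abbrev SL2 := Matrix.SpecialLinearGroup (Fin 2) L

/-- matrices with entries fixed by the `3^α`-power map -/
def ratSL (α : ℕ) : Subgroup (SL2 L) where
  carrier := {g | ∀ i j, (g.1 i j) ^ (3 ^ α) = g.1 i j}
  mul_mem' := by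
    intro a b ha hb i j
    show ((a * b).1 i j) ^ (3 ^ α) = (a * b).1 i j
    rw [Matrix.SpecialLinearGroup.coe_mul, Matrix.mul_apply, Fin.sum_univ_two, add_pow_char_pow,
      mul_pow, mul_pow, ha, ha, hb, hb]
  one_mem' := by
    intro i j
    show ((1 : SL2 L).1 i j) ^ (3 ^ α) = (1 : SL2 L).1 i j
    rw [Matrix.SpecialLinearGroup.coe_one, Matrix.one_apply]
    split_ifs <;> simp
  inv_mem' := by
    intro a ha i j
    show ((a⁻¹).1 i j) ^ (3 ^ α) = (a⁻¹).1 i j
    have hodd : Odd (3 ^ α) := Odd.pow (by decide)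
    rw [Matrix.SpecialLinearGroup.coe_inv, Matrix.adjugate_fin_two]
    have ha' : ∀ i j, (a.1 i j) ^ (3 ^ α) = a.1 i j := ha
    fin_cases i <;> fin_cases j <;> simp [ha', hodd.neg_pow]

variable {L}

/-- the twisted action of `{±1} × SL₂` -/
def Tx (x : ℤˣ × SL2 L) (X : M2 L) : M2 L := T (((x.1 : ℤ)) : L) x.2.1 X

theorem Tx_mul (x y : ℤˣ × SL2 L) (X : M2 L) : Tx (x * y) X = Tx x (Tx y X) := by
  simp only [Tx, T_T, Prod.fst_mul, Prod.snd_mul, Units.val_mul, Int.cast_mul,
    Matrix.SpecialLinearGroup.coe_mul]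

theorem Tx_one (X : M2 L) : Tx (1 : ℤˣ × SL2 L) X = X := by
  simp only [Tx, Prod.fst_one, Prod.snd_one, Units.val_one, Int.cast_one,
    Matrix.SpecialLinearGroup.coe_one, T_one]

theorem Tx_add (x : ℤˣ × SL2 L) (X Y : M2 L) : Tx x (X + Y) = Tx x X + Tx x Y := T_add _ _ _ _

/-- the action as an automorphism of the additive group of matrices, written multiplicatively -/
def rhoAut (x : ℤˣ × SL2 L) : MulAut (Multiplicative (M2 L)) where
  toFun X := Multiplicative.ofAdd (Tx x (Multiplicative.toAdd X))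
  invFun X := Multiplicative.ofAdd (Tx x⁻¹ (Multiplicative.toAdd X))
  left_inv X := by
    show Multiplicative.ofAdd (Tx x⁻¹ (Tx x (Multiplicative.toAdd X))) = X
    rw [← Tx_mul, inv_mul_cancel, Tx_one]; rfl
  right_inv X := by
    show Multiplicative.ofAdd (Tx x (Tx x⁻¹ (Multiplicative.toAdd X))) = X
    rw [← Tx_mul, mul_inv_cancel, Tx_one]; rfl
  map_mul' X Y := by
    show Multiplicative.ofAdd (Tx x (Multiplicative.toAdd X + Multiplicative.toAdd Y)) = _
    rw [Tx_add]; rfl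

theorem rhoAut_apply (x : ℤˣ × SL2 L) (X : Multiplicative (M2 L)) :
    rhoAut x X = Multiplicative.ofAdd (Tx x (Multiplicative.toAdd X)) := rfl

/-- the action as a homomorphism -/
def rhoHom : ℤˣ × SL2 L →* MulAut (Multiplicative (M2 L)) where
  toFun := rhoAut
  map_one' := by
    apply MulEquiv.ext
    intro X
    rw [rhoAut_apply, Tx_one]; rfl
  map_mul' x y := by
    apply MulEquiv.ext
    intro X
    rw [MulAut.mul_apply, rhoAut_apply, rhoAut_apply, rhoAut_apply, Tx_mul]; rfl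

theorem rhoHom_apply (x : ℤˣ × SL2 L) (X : Multiplicative (M2 L)) :
    rhoHom x X = Multiplicative.ofAdd (Tx x (Multiplicative.toAdd X)) := rfl

variable (L) in
/-- the acting group: image of `{±1} × SL₂(q)` -/
def QQ (α : ℕ) : Subgroup (MulAut (Multiplicative (M2 L))) :=
  (rhoHom.comp (MonoidHom.prodMap (MonoidHom.id ℤˣ) (ratSL L α).subtype)).range

variable (L) in
/-- the group `M₂(L) ⋊ ({±1} × PSL₂(q))` -/
abbrev HH (α : ℕ) := Multiplicative (M2 L) ⋊[(QQ L α).subtype] ↥(QQ L α)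

theorem mem_QQ (α : ℕ) (A : MulAut (Multiplicative (M2 L))) (hA : A ∈ QQ L α) :
    ∃ (ε : ℤˣ) (g : SL2 L), g ∈ ratSL L α ∧ A = rhoHom (ε, g) := by
  obtain ⟨⟨ε, g⟩, hx⟩ := MonoidHom.mem_range.mp hA
  exact ⟨ε, g.1, g.2, hx.symm⟩

theorem rhoHom_mem (α : ℕ) (ε : ℤˣ) (g : SL2 L) (hg : g ∈ ratSL L α) : rhoHom (ε, g) ∈ QQ L α :=
  MonoidHom.mem_range.mpr ⟨(ε, ⟨g, hg⟩), rfl⟩

/-- triviality criterion -/
theorem rhoHom_eq_one (x : ℤˣ × SL2 L) (h1 : ((x.1 : ℤ) : L) = 1)
    (h2 : (x.2.1 : M2 L) = 1 ∨ (x.2.1 : M2 L) = -1) : rhoHom x = 1 := by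
  apply MulEquiv.ext
  intro X
  rw [rhoHom_apply, MulAut.one_apply, Tx, h1]
  rcases h2 with h | h
  · rw [h, T_one]; rfl
  · rw [h, T_one_neg_one]; rfl

/-- inversion criterion -/
theorem rhoHom_eq_inv (x : ℤˣ × SL2 L) (h1 : ((x.1 : ℤ) : L) = -1)
    (h2 : (x.2.1 : M2 L) = 1 ∨ (x.2.1 : M2 L) = -1) (X : Multiplicative (M2 L)) :
    rhoHom x X = X⁻¹ := by
  rw [rhoHom_apply, Tx, h1]
  have : ∀ Y : M2 L, T (-1 : L) x.2.1 Y = -Y := by
    intro Y
    rcases h2 with h | h
    · rw [h]; simp [T]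
    · rw [h]; simp [T, cube_neg_one]
  rw [this]; rfl

theorem pow_fst (x : ℤˣ × SL2 L) (k : ℕ) : ((((x ^ k).1 : ℤˣ) : ℤ) : L) = (((x.1 : ℤ)) : L) ^ k := by
  simp [Prod.pow_fst, Units.val_pow_eq_pow_val, Int.cast_pow]

theorem pow_snd (x : ℤˣ × SL2 L) (k : ℕ) : ((x ^ k).2.1 : M2 L) = (x.2.1 : M2 L) ^ k := by
  simp [Prod.pow_snd, Matrix.SpecialLinearGroup.coe_pow]

end Grp

section Bound
variable {L : Type} [Field L] [CharP L 3]

theorem mul_exp_three (m : Multiplicative (M2 L)) : m ^ 3 = 1 := by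
  have h3 : (3 : L) = 0 := three_zero
  have : m ^ 3 = Multiplicative.ofAdd ((3 : ℕ) • Multiplicative.toAdd m) := rfl
  rw [this]
  have h : (3 : ℕ) • Multiplicative.toAdd m = 0 := by
    ext i j
    simp only [Matrix.smul_apply, Matrix.zero_apply, nsmul_eq_mul]
    have : ((3 : ℕ) : L) = 0 := by exact_mod_cast h3
    rw [this, zero_mul]
  rw [h]; rfl

theorem right_pow_eq_one (α : ℕ) (h : HH L α) (x : ℤˣ × SL2 L) (hx : h.right.1 = rhoHom x) (n : ℕ)
    (h1 : rhoHom (x ^ n) = 1) : h.right ^ n = 1 := by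
  apply Subtype.ext
  rw [Subgroup.coe_pow, hx, ← map_pow, h1]; rfl

theorem unit_cast_cases (ε : ℤˣ) : (((ε : ℤ)) : L) = 1 ∨ (((ε : ℤ)) : L) = -1 := by
  rcases Int.units_eq_one_or ε with rfl | rfl
  · left; simp
  · right; simp

theorem HH_pow [Finite L] (α k : ℕ) (hq : 3 ^ α = 8 * k + 3)
    (hsq : ∀ D : L, D ^ (3 ^ α) = D → IsSquare D) (h : HH L α) :
    h ^ 6 = 1 ∨ h ^ 9 = 1 ∨ h ^ (8 * k + 2) = 1 ∨ h ^ (4 * k + 2) = 1 := by
  obtain ⟨ε, g, hg, hA⟩ := mem_QQ α h.right.1 h.right.2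
  obtain ⟨x, hxdef⟩ : ∃ x : ℤˣ × SL2 L, x = (ε, g) := ⟨_, rfl⟩
  rw [← hxdef] at hA
  obtain ⟨e, hedef⟩ : ∃ e : L, e = (((x.1 : ℤ)) : L) := ⟨_, rfl⟩
  obtain ⟨G, hGdef⟩ : ∃ G : M2 L, G = x.2.1 := ⟨_, rfl⟩
  have he : e = 1 ∨ e = -1 := by rw [hedef]; exact unit_cast_cases _
  have he2 : e * e = 1 := by rcases he with rfl | rfl <;> ring
  have hd : G.det = 1 := by rw [hGdef]; exact x.2.2
  have hrat : ∀ i j, (G i j) ^ (3 ^ α) = G i j := by
    intro i j; rw [hGdef, hxdef]; exact hg i j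
  have htq : (G 0 0 + G 1 1) ^ (3 ^ α) = G 0 0 + G 1 1 := by
    rw [add_pow_char_pow, hrat, hrat]
  have hφ : ∀ m : Multiplicative (M2 L), ((QQ L α).subtype h.right) m
      = Multiplicative.ofAdd (T e G (Multiplicative.toAdd m)) := by
    intro m
    show h.right.1 m = _
    rw [hA, rhoHom_apply, Tx, hedef, hGdef]
  have hpe : ∀ n : ℕ, ((((x ^ n).1 : ℤˣ) : ℤ) : L) = e ^ n := by
    intro n; rw [pow_fst, hedef]
  have hpG : ∀ n : ℕ, ((x ^ n).2.1 : M2 L) = G ^ n := by
    intro n; rw [pow_snd, hGdef]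
  by_cases ht0 : G 0 0 + G 1 1 = 0
  · -- trace zero
    left
    have h2 : h.right ^ 2 = 1 := by
      apply right_pow_eq_one α h x hA
      apply rhoHom_eq_one
      · rw [hpe, pow_two, he2]
      · right; rw [hpG, pow_two]; exact sq_of_trace_zero G hd ht0
    exact sd_pow_three_mul h 2 h2 mul_exp_three
  by_cases ht1 : G 0 0 + G 1 1 = 1 ∨ G 0 0 + G 1 1 = -1
  · -- unipotent up to sign
    have hG3 : G ^ 3 = 1 ∨ G ^ 3 = -1 := by
      rcases ht1 with ht | ht
      · right
        have := cube_of_trace G hd (-1) (by ring) (by rw [ht]; ring)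
        rw [this]; simp
      · left
        have := cube_of_trace G hd 1 (by ring) (by rw [ht])
        rw [this]; simp
    rcases he with he1 | he1
    · right; left
      have h3 : h.right ^ 3 = 1 := by
        apply right_pow_eq_one α h x hA
        apply rhoHom_eq_one
        · rw [hpe, he1, one_pow]
        · rw [hpG]; exact hG3
      exact sd_pow_three_mul h 3 h3 mul_exp_three
    · left
      apply sd_pow_six h
      · apply right_pow_eq_one α h x hA
        apply rhoHom_eq_one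
        · rw [hpe, he1]; norm_num
        · left
          rw [hpG]
          have : G ^ 6 = G ^ 3 * G ^ 3 := by rw [← pow_add]
          rw [this]
          rcases hG3 with h | h <;> rw [h] <;> simp
      · intro m
        show (h.right ^ 3).1 m = m⁻¹
        rw [Subgroup.coe_pow, hA, ← map_pow]
        apply rhoHom_eq_inv
        · rw [hpe, he1]; norm_num
        · rw [hpG]; exact hG3
  · -- generic trace
    push_neg at ht1
    obtain ⟨hfix, hpow⟩ := mat_main α k hq hsq G hd htq ht0 ht1.1 ht1.2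
    have hfix' : ∀ m : Multiplicative (M2 L), (QQ L α).subtype h.right m = m → m = 1 := by
      intro m hm
      rw [hφ] at hm
      have : T e G (Multiplicative.toAdd m) = Multiplicative.toAdd m :=
        Multiplicative.ofAdd.injective hm
      have := hfix e he _ this
      exact Multiplicative.toAdd.injective this
    right; right
    rcases hpow with hp | hp
    · left
      apply sd_pow_of_fpf h _ _ hfix'
      apply right_pow_eq_one α h x hA
      apply rhoHom_eq_one
      · rw [hpe]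
        have : e ^ (8 * k + 2) = (e * e) ^ (4 * k + 1) := by rw [← pow_two, ← pow_mul]; congr 1; ring
        rw [this, he2, one_pow]
      · left
        rw [hpG]
        have : G ^ (8 * k + 2) = G ^ (4 * k + 1) * G ^ (4 * k + 1) := by rw [← pow_add]; congr 1; ring
        rw [this]
        rcases hp with h | h <;> rw [h] <;> simp
    · right
      apply sd_pow_of_fpf h _ _ hfix'
      apply right_pow_eq_one α h x hA
      apply rhoHom_eq_one
      · rw [hpe]
        have : e ^ (4 * k + 2) = (e * e) ^ (2 * k + 1) := by rw [← pow_two, ← pow_mul]; congr 1; ring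
        rw [this, he2, one_pow]
      · rw [hpG]; exact hp

end Bound
end Cfsg.Agent.helper25.Ree
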