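import Cfsg.Agent.Lib_helper25_Ree2

set_option autoImplicit false
set_option linter.unusedSectionVars false
set_option linter.unusedSimpArgs false

namespace Cfsg.Agent.helper25.Ree

open SemidirectProduct Matrix

section Ker
variable {L : Type} [Field L] [CharP L 3]

/-- the kernel of the twisted action -/
theorem T_eq_id (e : L) (he : e = 1 ∨ e = -1) (H : M2 L) (hd : H.det = 1)
    (hfix : ∀ X : M2 L, T e H X = X) : e = 1 ∧ (H = 1 ∨ H = -1) := by
  have he2 : e * e = 1 := by rcases he with rfl | rfl <;> ring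
  set C : M2 L := (cube H)ᵀ with hC
  have h1 : e • (H * C) = 1 := by
    have := hfix 1
    rw [T, Matrix.mul_one] at this
    exact this
  have hHC : H * (e • C) = 1 := by rw [Matrix.mul_smul]; exact h1
  have hCH : (e • C) * H = 1 := mul_eq_one_comm.mp hHC
  have hcomm : ∀ X : M2 L, H * X = X * H := by
    intro X
    have := hfix X
    rw [T] at this
    calc H * X = H * X * ((e • C) * H) := by rw [hCH, Matrix.mul_one]
      _ = (e • (H * X * C)) * H := by
          rw [Matrix.smul_mul, Matrix.mul_smul, Matrix.smul_mul, Matrix.mul_assoc (H * X)]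
      _ = X * H := by rw [this]
  have c1 := hcomm !![0, 1; 0, 0]
  have c2 := hcomm !![0, 0; 1, 0]
  have a10 : H 1 0 = 0 := by
    have := congrFun (congrFun c1 1) 1
    simp [Matrix.mul_apply, Fin.sum_univ_two] at this
    exact this
  have a01 : H 0 1 = 0 := by
    have := congrFun (congrFun c2 0) 0
    simp [Matrix.mul_apply, Fin.sum_univ_two] at this
    exact this
  have a00 : H 0 0 = H 1 1 := by
    have := congrFun (congrFun c1 0) 1
    simp [Matrix.mul_apply, Fin.sum_univ_two] at this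
    exact this
  have hsc : H = H 0 0 • (1 : M2 L) := by
    ext i j
    fin_cases i <;> fin_cases j <;> simp [a10, a01, a00]
  have hc2 : H 0 0 * H 0 0 = 1 := by
    rw [Matrix.det_fin_two, a10, a01, ← a00] at hd
    linear_combination hd
  have hH : H = 1 ∨ H = -1 := by
    rcases sq_eq_one_cases _ hc2 with h | h
    · left; rw [hsc, h, one_smul]
    · right; rw [hsc, h, neg_smul, one_smul]
  refine ⟨?_, hH⟩
  have h00 := congrFun (congrFun (hfix 1) 0) 0
  rcases hH with h | h
  · rw [h] at h00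
    simpa [T] using h00
  · rw [h] at h00
    simpa [T, cube_neg_one] using h00

end Ker

section Wit
variable {L : Type} [Field L] [CharP L 3]

theorem rhoHom_pow_eq_one (x : ℤˣ × SL2 L) (n : ℕ) (h : rhoHom x ^ n = 1) :
    ((((x.1 : ℤ)) : L)) ^ n = 1 ∧ ((x.2.1 : M2 L) ^ n = 1 ∨ (x.2.1 : M2 L) ^ n = -1) := by
  rw [← map_pow] at h
  have hfix : ∀ X : M2 L, T (((((x ^ n).1 : ℤˣ) : ℤ)) : L) (x ^ n).2.1 X = X := by
    intro X
    have := congrArg (fun A : MulAut (Multiplicative (M2 L)) => A (Multiplicative.ofAdd X)) h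
    simp only [rhoHom_apply, MulAut.one_apply] at this
    exact Multiplicative.ofAdd.injective this
  have := T_eq_id _ (unit_cast_cases _) _ ((x ^ n).2.2) hfix
  rw [pow_fst, pow_snd] at this
  exact this

theorem sd_cube_left {N Q : Type*} [Group N] [Group Q] {φ : Q →* MulAut N} (x : N ⋊[φ] Q) :
    (x ^ 3).left = x.left * φ x.right x.left * φ x.right (φ x.right x.left) := by
  rw [pow_succ, pow_two, mul_left, mul_left, mul_right, map_mul, MulAut.mul_apply]

theorem orderOf_inr (α : ℕ) (A : MulAut (Multiplicative (M2 L))) (hA : A ∈ QQ L α) :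
    orderOf (inr ⟨A, hA⟩ : HH L α) = orderOf A := by
  rw [orderOf_injective _ inr_injective, ← Subgroup.orderOf_coe]

theorem one_add_one : (1 : L) + 1 = -1 := by
  have h3 : (3 : L) = 0 := three_zero
  linear_combination h3

/-- the standard unipotent element -/
def uSL : SL2 L := ⟨!![1, 1; 0, 1], by simp [Matrix.det_fin_two]⟩

theorem uSL_mem (α : ℕ) : (uSL : SL2 L) ∈ ratSL L α := by
  intro i j
  fin_cases i <;> fin_cases j <;> simp [uSL]

theorem uSL_cube : ((uSL : SL2 L).1 : M2 L) ^ 3 = 1 := by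
  have := cube_of_trace (uSL : SL2 L).1 (uSL : SL2 L).2 1 (by ring)
    (by simp [uSL]; exact one_add_one)
  rw [this, one_smul]

theorem exists_order_six (α : ℕ) : ∃ h : HH L α, orderOf h = 6 := by
  refine ⟨inr ⟨rhoHom (-1, uSL), rhoHom_mem α _ _ (uSL_mem α)⟩, ?_⟩
  rw [orderOf_inr]
  apply orderOf_eq_of_pow_and_pow_div_prime (by norm_num)
  · rw [← map_pow]
    apply rhoHom_eq_one
    · rw [pow_fst]; norm_num
    · left
      rw [pow_snd]
      have : ((uSL : SL2 L).1 : M2 L) ^ 6 = ((uSL : SL2 L).1 : M2 L) ^ 3 * ((uSL : SL2 L).1 : M2 L) ^ 3 := by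
        rw [← pow_add]
      rw [this, uSL_cube, Matrix.mul_one]
  · intro p hp hp6
    have : p = 2 ∨ p = 3 := by
      have h6 : (6 : ℕ) = 2 * 3 := by norm_num
      rw [h6] at hp6
      rcases (Nat.Prime.dvd_mul hp).mp hp6 with h | h
      · exact Or.inl ((Nat.prime_dvd_prime_iff_eq hp Nat.prime_two).mp h)
      · exact Or.inr ((Nat.prime_dvd_prime_iff_eq hp Nat.prime_three).mp h)
    rcases this with rfl | rfl
    · -- cube is not trivial
      intro h
      have := (rhoHom_pow_eq_one _ _ h).1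
      norm_num at this
      exact neg_one_ne_one this
    · -- square is not trivial
      intro h
      have := (rhoHom_pow_eq_one _ _ h).2
      have h01 : (((uSL : SL2 L).1 : M2 L) ^ 2) 0 1 = -1 := by
        rw [pow_two]
        simp [uSL, Matrix.mul_apply, Fin.sum_univ_two]
        exact one_add_one
      rcases this with h' | h'
      · have h'' : (((uSL : SL2 L).1 : M2 L) ^ (6 / 3)) 0 1 = (1 : M2 L) 0 1 := by rw [h']
        norm_num at h''
        rw [h01] at h''
        simp at h''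
      · have h'' : (((uSL : SL2 L).1 : M2 L) ^ (6 / 3)) 0 1 = (-1 : M2 L) 0 1 := by rw [h']
        norm_num at h''
        rw [h01] at h''
        simp at h''

theorem exists_order_nine (α : ℕ) : ∃ h : HH L α, orderOf h = 9 := by
  have h3 : (3 : L) = 0 := three_zero
  let a : ↥(QQ L α) := ⟨rhoHom (1, uSL), rhoHom_mem α _ _ (uSL_mem α)⟩
  let h : HH L α := ⟨Multiplicative.ofAdd !![0, 0; 0, 1], a⟩
  refine ⟨h, ?_⟩
  have h9 : (9 : ℕ) = 3 ^ (1 + 1) := by norm_num
  rw [h9]
  apply orderOf_eq_prime_pow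
  · rw [pow_one]
    intro hc
    have hl := congrArg SemidirectProduct.left hc
    rw [sd_cube_left, one_left] at hl
    have : ∀ X : Multiplicative (M2 L), (QQ L α).subtype h.right X
        = Multiplicative.ofAdd (T 1 (!![1, 1; 0, 1] : M2 L) (Multiplicative.toAdd X)) := by
      intro X
      show rhoHom (1, uSL) X = _
      rw [rhoHom_apply, Tx]
      simp [uSL]
    rw [this, this] at hl
    have hl' := congrArg Multiplicative.toAdd hl
    simp only [toAdd_mul, toAdd_ofAdd, toAdd_one] at hl'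
    have hT : ∀ a b c d : L, T 1 (!![1, 1; 0, 1] : M2 L) !![a, b; c, d]
        = !![a + b + c + d, b + d; c + d, d] := by
      intro a b c d
      have hcu : cube (!![1, 1; 0, 1] : M2 L) = !![1, 1; 0, 1] := by
        ext i j
        fin_cases i <;> fin_cases j <;> simp [cube_apply]
      rw [T, hcu, one_smul]
      ext i j
      fin_cases i <;> fin_cases j <;>
        simp [Matrix.mul_apply, Fin.sum_univ_two, Matrix.transpose_apply] <;> ring
    have hleft : Multiplicative.toAdd h.left = !![(0 : L), 0; 0, 1] := rfl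
    rw [hleft, hT, hT] at hl'
    have h00 := congrFun (congrFun hl' 0) 0
    simp at h00
    have : (1 : L) = 0 := by linear_combination 2 * h3 - h00
    exact one_ne_zero this
  · have hr : h.right ^ 3 = 1 := by
      apply Subtype.ext
      rw [Subgroup.coe_pow]
      show rhoHom (1, uSL) ^ 3 = 1
      rw [← map_pow]
      apply rhoHom_eq_one
      · rw [pow_fst]; simp
      · left; rw [pow_snd]; exact uSL_cube
    have := sd_pow_three_mul h 3 hr mul_exp_three
    norm_num
    exact this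

end Wit

section Tori
variable {L : Type} [Field L] [CharP L 3]

theorem dmat_pow (a b : L) (n : ℕ) : (!![a, 0; 0, b] : M2 L) ^ n = !![a ^ n, 0; 0, b ^ n] := by
  induction n with
  | zero =>
    ext i j
    fin_cases i <;> fin_cases j <;> simp
  | succ n ih =>
    rw [pow_succ, ih]
    ext i j
    fin_cases i <;> fin_cases j <;> simp [Matrix.mul_apply, Fin.sum_univ_two, pow_succ]

/-- the split torus element -/
def dSL (θ : Lˣ) : SL2 L := ⟨!![(θ : L), 0; 0, ((θ⁻¹ : Lˣ) : L)], by simp [Matrix.det_fin_two]⟩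

theorem dSL_mem (α : ℕ) (θ : Lˣ) (hθ : (θ : L) ^ (3 ^ α) = θ) : dSL θ ∈ ratSL L α := by
  have hinv : (((θ⁻¹ : Lˣ) : L)) ^ (3 ^ α) = ((θ⁻¹ : Lˣ) : L) := by
    rw [Units.val_inv_eq_inv_val, inv_pow, hθ]
  intro i j
  fin_cases i <;> fin_cases j <;> simp [dSL, hθ] <;> exact hinv

theorem unit_pow_half (θ : Lˣ) (a : ℕ) (ha : 0 < a) (ho : orderOf θ = 2 * a) : (θ : L) ^ a = -1 := by
  have h1 : ((θ : L) ^ a) * ((θ : L) ^ a) = 1 := by
    rw [← pow_add, ← two_mul, ← ho, ← Units.val_pow_eq_pow_val, pow_orderOf_eq_one, Units.val_one]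
  rcases sq_eq_one_cases _ h1 with h | h
  · exfalso
    have : θ ^ a = 1 := by
      apply Units.ext
      rw [Units.val_pow_eq_pow_val, h, Units.val_one]
    have := orderOf_dvd_of_pow_eq_one this
    rw [ho] at this
    have := Nat.le_of_dvd ha this
    omega
  · exact h

theorem exists_order_split (α k : ℕ) (θ : Lˣ) (ho : orderOf θ = 8 * k + 2)
    (hθ : (θ : L) ^ (3 ^ α) = θ) : ∃ h : HH L α, orderOf h = 8 * k + 2 := by
  refine ⟨inr ⟨rhoHom (-1, dSL θ), rhoHom_mem α _ _ (dSL_mem α θ hθ)⟩, ?_⟩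
  rw [orderOf_inr]
  have hD : ∀ n : ℕ, ((dSL θ).1 : M2 L) ^ n = !![(θ : L) ^ n, 0; 0, (((θ⁻¹ : Lˣ) : L)) ^ n] :=
    fun n => dmat_pow _ _ n
  have hpow : rhoHom ((-1 : ℤˣ), dSL θ) ^ (8 * k + 2) = 1 := by
    rw [← map_pow]
    apply rhoHom_eq_one
    · rw [pow_fst]
      have : Even (8 * k + 2) := ⟨4 * k + 1, by ring⟩
      simp [this.neg_one_pow]
    · left
      rw [pow_snd, hD, ← ho, ← Units.val_pow_eq_pow_val, ← Units.val_pow_eq_pow_val,
        pow_orderOf_eq_one, inv_pow, pow_orderOf_eq_one]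
      ext i j
      fin_cases i <;> fin_cases j <;> simp
  have hmin : ∀ n : ℕ, rhoHom ((-1 : ℤˣ), dSL θ) ^ n = 1 → (8 * k + 2) ∣ n := by
    intro n hn
    obtain ⟨h1, h2⟩ := rhoHom_pow_eq_one _ _ hn
    have heven : Even n := by
      rcases Nat.even_or_odd n with h | h
      · exact h
      · exfalso
        simp [h.neg_one_pow] at h1
        exact neg_one_ne_one h1
    have hθn : ((θ : L) ^ n) * ((θ : L) ^ n) = 1 := by
      rw [hD] at h2
      rcases h2 with h | h
      · have := congrFun (congrFun h 0) 0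
        simp at this
        rw [this, one_mul]
      · have := congrFun (congrFun h 0) 0
        simp at this
        rw [this]; ring
    have : θ ^ (2 * n) = 1 := by
      apply Units.ext
      rw [Units.val_pow_eq_pow_val, two_mul, pow_add, hθn, Units.val_one]
    have hdvd := orderOf_dvd_of_pow_eq_one this
    rw [ho] at hdvd
    have h41 : (4 * k + 1) ∣ n := by
      have : 2 * (4 * k + 1) ∣ 2 * n := by
        have e : 2 * (4 * k + 1) = 8 * k + 2 := by ring
        rw [e]; exact hdvd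
      exact Nat.dvd_of_mul_dvd_mul_left (by norm_num) this
    have h2n : 2 ∣ n := heven.two_dvd
    have hcop : Nat.Coprime 2 (4 * k + 1) := by
      rw [Nat.coprime_two_left]
      exact ⟨2 * k, by ring⟩
    have := hcop.mul_dvd_of_dvd_of_dvd h2n h41
    have e : 2 * (4 * k + 1) = 8 * k + 2 := by ring
    rw [e] at this
    exact this
  exact Nat.dvd_antisymm (orderOf_dvd_of_pow_eq_one hpow) (hmin _ (pow_orderOf_eq_one _))

/-- the non-split torus element with eigenvalue `μ` -/
def gSL (μ : Lˣ) : SL2 L :=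
  ⟨!![0, -1; 1, (μ : L) + ((μ⁻¹ : Lˣ) : L)], by simp [Matrix.det_fin_two]⟩

theorem gSL_mem (α k : ℕ) (hq : 3 ^ α = 8 * k + 3) (μ : Lˣ) (ho : orderOf μ = 8 * k + 4) :
    gSL μ ∈ ratSL L α := by
  have hμ : μ ^ (3 ^ α) = μ⁻¹ := by
    rw [eq_inv_iff_mul_eq_one, ← pow_succ, hq]
    have : 8 * k + 3 + 1 = orderOf μ := by rw [ho]
    rw [this, pow_orderOf_eq_one]
  have h1 : (μ : L) ^ (3 ^ α) = ((μ⁻¹ : Lˣ) : L) := by
    rw [← Units.val_pow_eq_pow_val, hμ]
  have h2 : (((μ⁻¹ : Lˣ) : L)) ^ (3 ^ α) = (μ : L) := by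
    rw [← Units.val_pow_eq_pow_val, inv_pow, hμ, inv_inv]
  have hodd : Odd (3 ^ α) := Odd.pow (by decide)
  intro i j
  fin_cases i <;> fin_cases j
  · simp [gSL]
  · simp [gSL, hodd.neg_pow]
  · simp [gSL]
  · show ((μ : L) + ((μ⁻¹ : Lˣ) : L)) ^ (3 ^ α) = (μ : L) + ((μ⁻¹ : Lˣ) : L)
    rw [add_pow_char_pow, h1, h2, add_comm]

theorem exists_order_nonsplit (α k : ℕ) (hk : 1 ≤ k) (hq : 3 ^ α = 8 * k + 3) (μ : Lˣ)
    (ho : orderOf μ = 8 * k + 4) : ∃ h : HH L α, orderOf h = 4 * k + 2 := by
  refine ⟨inr ⟨rhoHom (1, gSL μ), rhoHom_mem α _ _ (gSL_mem α k hq μ ho)⟩, ?_⟩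
  rw [orderOf_inr]
  set G : M2 L := (gSL μ).1 with hG
  have hd : G.det = 1 := (gSL μ).2
  set l : L := (μ : L) with hl
  set m : L := ((μ⁻¹ : Lˣ) : L) with hm
  have hlm : l * m = 1 := by rw [hl, hm, ← Units.val_mul, mul_inv_cancel, Units.val_one]
  have ht : l + m = G 0 0 + G 1 1 := by simp [hG, gSL, hl, hm]
  have hne : l ≠ m := by
    intro h
    have : μ ^ 2 = 1 := by
      apply Units.ext
      rw [Units.val_pow_eq_pow_val, pow_two, Units.val_one]
      calc (μ : L) * (μ : L) = l * m := by rw [← h]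
        _ = 1 := hlm
    have := orderOf_dvd_of_pow_eq_one this
    rw [ho] at this
    have := Nat.le_of_dvd (by norm_num) this
    omega
  have hlhalf : l ^ (4 * k + 2) = -1 :=
    unit_pow_half μ (4 * k + 2) (by omega) (by rw [ho]; ring)
  have hmhalf : m ^ (4 * k + 2) = -1 := by
    have := congrArg (fun x : L => x ^ (4 * k + 2)) hlm
    simp only [mul_pow, one_pow, hlhalf] at this
    linear_combination -this
  have hGhalf : G ^ (4 * k + 2) = -1 := by
    rw [pow_eq_smul G hd l m hlm ht hne _ (-1) hlhalf hmhalf, neg_smul, one_smul]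
  have hpow : rhoHom ((1 : ℤˣ), gSL μ) ^ (4 * k + 2) = 1 := by
    rw [← map_pow]
    apply rhoHom_eq_one
    · rw [pow_fst]; simp
    · right; rw [pow_snd]; exact hGhalf
  have he1 : e1 G l m ≠ 0 := by
    intro h
    have := congrFun (congrFun h 1) 0
    simp [e1, hG, gSL] at this
    exact hne (sub_eq_zero.mp this)
  have hmin : ∀ n : ℕ, rhoHom ((1 : ℤˣ), gSL μ) ^ n = 1 → (4 * k + 2) ∣ n := by
    intro n hn
    obtain ⟨-, h2⟩ := rhoHom_pow_eq_one _ _ hn
    have hpe := pow_e1 G hd l m hlm ht n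
    have hln : (l ^ n) * (l ^ n) = 1 := by
      rcases h2 with h | h
      · have h' : G ^ n = 1 := h
        rw [h', Matrix.one_mul] at hpe
        have : (l ^ n - 1) • e1 G l m = 0 := by rw [sub_smul, one_smul, ← hpe, sub_self]
        rcases smul_eq_zero.mp this with h0 | h0
        · rw [sub_eq_zero.mp h0, one_mul]
        · exact absurd h0 he1
      · have h' : G ^ n = -1 := h
        rw [h', neg_mul, Matrix.one_mul] at hpe
        have : (l ^ n + 1) • e1 G l m = 0 := by rw [add_smul, one_smul, ← hpe, neg_add_cancel]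
        rcases smul_eq_zero.mp this with h0 | h0
        · rw [eq_neg_of_add_eq_zero_left h0]; ring
        · exact absurd h0 he1
    have : μ ^ (2 * n) = 1 := by
      apply Units.ext
      rw [Units.val_pow_eq_pow_val, two_mul, pow_add, Units.val_one]
      exact hln
    have hdvd := orderOf_dvd_of_pow_eq_one this
    rw [ho] at hdvd
    have : 2 * (4 * k + 2) ∣ 2 * n := by
      have e : 2 * (4 * k + 2) = 8 * k + 4 := by ring
      rw [e]; exact hdvd
    exact Nat.dvd_of_mul_dvd_mul_left (by norm_num) this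
  exact Nat.dvd_antisymm (orderOf_dvd_of_pow_eq_one hpow) (hmin _ (pow_orderOf_eq_one _))

end Tori
end Cfsg.Agent.helper25.Ree
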