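import Cfsg.Agent.Lib_helper25_Model
import Cfsg.Agent.Lib_helper25_Radical

set_option autoImplicit false
set_option linter.style.haveILetI false
set_option linter.unusedVariables false

namespace Cfsg.Agent.helper25

open Cfsg
open scoped IsMulCommutative

/-- an automorphism of a finite group `G` with `C_G(O_p(G)) ≤ O_p(G)` that fixes a Sylow
`p`-subgroup elementwise is conjugation by an element of that Sylow subgroup. -/
theorem rigidity_aux {G : Type*} [Group G] [Finite G] {p : ℕ} [Fact p.Prime] (T : Sylow p G)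
    (hC : Subgroup.centralizer ((pCore p G : Subgroup G) : Set G) ≤ pCore p G)
    (ψ : G ≃* G) (hψ : ∀ t ∈ (T : Subgroup G), ψ t = t) :
    ∃ z ∈ (T : Subgroup G), ∀ g : G, ψ g = z * g * z⁻¹ := by
  classical
  haveI hQn : (pCore p G).Normal := pCore_normal_h25 p G
  have hQT : pCore p G ≤ T := pCore_le_sylow_h25 T
  haveI hZn : (pCore p G ⊓ Subgroup.centralizer ((pCore p G : Subgroup G) : Set G)).Normal :=
    inferInstance
  have hZT : pCore p G ⊓ Subgroup.centralizer ((pCore p G : Subgroup G) : Set G) ≤ T :=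
    inf_le_left.trans hQT
  haveI : IsMulCommutative
      ↥(pCore p G ⊓ Subgroup.centralizer ((pCore p G : Subgroup G) : Set G)) :=
    ⟨⟨fun a b => by
      apply Subtype.ext
      exact b.2.2 a a.2.1⟩⟩
  have hfmem : ∀ g : G, ψ g * g⁻¹ ∈
      pCore p G ⊓ Subgroup.centralizer ((pCore p G : Subgroup G) : Set G) := by
    intro g
    have h1 : g⁻¹ * ψ g ∈ Subgroup.centralizer ((pCore p G : Subgroup G) : Set G) := by
      rw [Subgroup.mem_centralizer_iff]
      intro x hx
      have hx' : g * x * g⁻¹ ∈ pCore p G := hQn.conj_mem x hx g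
      have h2 := hψ _ (hQT hx')
      rw [map_mul, map_mul, map_inv, hψ x (hQT hx)] at h2
      calc x * (g⁻¹ * ψ g) = g⁻¹ * (g * x * g⁻¹) * ψ g := by group
        _ = g⁻¹ * (ψ g * x * (ψ g)⁻¹) * ψ g := by rw [h2]
        _ = g⁻¹ * ψ g * x := by group
    have h3 : g⁻¹ * ψ g ∈
        pCore p G ⊓ Subgroup.centralizer ((pCore p G : Subgroup G) : Set G) := ⟨hC h1, h1⟩
    have h4 := hZn.conj_mem _ h3 g
    have e : g * (g⁻¹ * ψ g) * g⁻¹ = ψ g * g⁻¹ := by group
    rwa [e] at h4
  let f : G → ↥(pCore p G ⊓ Subgroup.centralizer ((pCore p G : Subgroup G) : Set G)) :=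
    fun g => ⟨ψ g * g⁻¹, hfmem g⟩
  have hft : ∀ g : G, ∀ t ∈ (T : Subgroup G), f (g * t) = f g := by
    intro g t ht
    apply Subtype.ext
    show ψ (g * t) * (g * t)⁻¹ = ψ g * g⁻¹
    rw [map_mul, hψ t ht]; group
  have hfmul : ∀ h g : G, f (h * g) = f h * MulAut.conjNormal h (f g) := by
    intro h g
    apply Subtype.ext
    show ψ (h * g) * (h * g)⁻¹ = (ψ h * h⁻¹) * (h * (ψ g * g⁻¹) * h⁻¹)
    rw [map_mul]; group
  let Fq : G ⧸ (T : Subgroup G) →
      ↥(pCore p G ⊓ Subgroup.centralizer ((pCore p G : Subgroup G) : Set G)) :=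
    fun q => Quotient.liftOn' q f (by
      intro a b hab
      have h := QuotientGroup.leftRel_apply.mp hab
      have e : b = a * (a⁻¹ * b) := by group
      rw [e, hft a _ h])
  have hFq : ∀ g : G, Fq (g : G ⧸ (T : Subgroup G)) = f g := fun g => rfl
  haveI : Fintype (G ⧸ (T : Subgroup G)) := Fintype.ofFinite _
  have hkey : ∀ h : G, (f h) ^ Fintype.card (G ⧸ (T : Subgroup G)) *
      MulAut.conjNormal h (∏ q : G ⧸ (T : Subgroup G), Fq q) =
      ∏ q : G ⧸ (T : Subgroup G), Fq q := by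
    intro h
    have h1 : ∏ q : G ⧸ (T : Subgroup G), Fq (h • q) = ∏ q : G ⧸ (T : Subgroup G), Fq q :=
      Equiv.prod_comp (MulAction.toPerm h) Fq
    have h2 : ∀ q : G ⧸ (T : Subgroup G), Fq (h • q) = f h * MulAut.conjNormal h (Fq q) := by
      intro q
      induction q using QuotientGroup.induction_on with
      | H g =>
        show Fq ((h * g : G) : G ⧸ (T : Subgroup G)) = _
        rw [hFq, hFq, hfmul]
    have h3 : ∏ q : G ⧸ (T : Subgroup G), Fq (h • q) =
        (f h) ^ Fintype.card (G ⧸ (T : Subgroup G)) *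
          MulAut.conjNormal h (∏ q : G ⧸ (T : Subgroup G), Fq q) := by
      simp_rw [h2]
      rw [Finset.prod_mul_distrib, Finset.prod_const, Finset.card_univ, map_prod]
    rw [← h3]; exact h1
  have hZp : IsPGroup p
      ↥(pCore p G ⊓ Subgroup.centralizer ((pCore p G : Subgroup G) : Set G)) :=
    (pCore_isPGroup_h25 p G).to_le inf_le_left
  obtain ⟨k, hk⟩ := IsPGroup.iff_card.mp hZp
  have hnp : ¬ p ∣ Fintype.card (G ⧸ (T : Subgroup G)) := by
    rw [← Nat.card_eq_fintype_card]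
    exact T.not_dvd_index
  have hcop : (Nat.card
      ↥(pCore p G ⊓ Subgroup.centralizer ((pCore p G : Subgroup G) : Set G))).Coprime
      (Fintype.card (G ⧸ (T : Subgroup G))) := by
    rw [hk]
    apply Nat.Coprime.pow_left
    exact (Nat.Prime.coprime_iff_not_dvd Fact.out).mpr hnp
  obtain ⟨z, hz⟩ := (powCoprime hcop).surjective (∏ q : G ⧸ (T : Subgroup G), Fq q)
  have hz' : z ^ Fintype.card (G ⧸ (T : Subgroup G)) = ∏ q : G ⧸ (T : Subgroup G), Fq q := hz
  have hfz : ∀ h : G, f h = z * (MulAut.conjNormal h z)⁻¹ := by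
    intro h
    apply (powCoprime hcop).injective
    show (f h) ^ Fintype.card (G ⧸ (T : Subgroup G)) =
      (z * (MulAut.conjNormal h z)⁻¹) ^ Fintype.card (G ⧸ (T : Subgroup G))
    rw [mul_pow, inv_pow, ← map_pow, hz', eq_mul_inv_iff_mul_eq]
    exact hkey h
  refine ⟨(z : G), hZT z.2, fun g => ?_⟩
  have h1 := congrArg Subtype.val (hfz g)
  have h2 : ψ g * g⁻¹ = (z : G) * (g * (z : G) * g⁻¹)⁻¹ := h1
  calc ψ g = (ψ g * g⁻¹) * g := by group
    _ = ((z : G) * (g * (z : G) * g⁻¹)⁻¹) * g := by rw [h2]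
    _ = z * g * (z : G)⁻¹ := by group

end Cfsg.Agent.helper25
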