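import Cfsg.Agent.Lib_helper25_RankOne

set_option autoImplicit false

namespace Cfsg.Agent.helper25

open Cfsg
open scoped commutatorElement

variable {G : Type*} [Group G] {A B : Subgroup G}

/-- `A` acts regularly on `Ω ∖ {A}`. -/
theorem rankOne_regular (h : IsRankOnePair A B) {D : Subgroup G} (hD : D ∈ unipotentSubgroups A B)
    (hDA : D ≠ A) {a : G} (ha : a ∈ A) (hn : conjBy D a = D) : a = 1 := by
  obtain ⟨a₀, ha₀, rfl⟩ := unipotent_ne_left h hD hDA
  rw [conjBy_conjBy] at hn
  have := rankOne_conj_right_inj h (A.mul_mem ha ha₀) ha₀ hn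
  exact mul_eq_right.mp this

theorem unipotentSubgroups_symm (h : IsRankOnePair A B) :
    unipotentSubgroups B A = unipotentSubgroups A B := by
  obtain ⟨y, hy, hyB⟩ := rankOne_right_mem_unipotent h
  ext C
  constructor
  · rintro ⟨x, hx, rfl⟩
    rw [sup_comm] at hx
    refine ⟨x * y, Subgroup.mul_mem _ hx hy, ?_⟩
    rw [hyB, conjBy_conjBy]
  · rintro ⟨x, hx, rfl⟩
    refine ⟨x * y⁻¹, ?_, ?_⟩
    · rw [sup_comm]; exact Subgroup.mul_mem _ hx (Subgroup.inv_mem _ hy)
    · rw [hyB, conjBy_conjBy, inv_mul_cancel_right]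

/-- `B` acts regularly on `Ω ∖ {B}`. -/
theorem rankOne_regular_right (h : IsRankOnePair A B) {D : Subgroup G}
    (hD : D ∈ unipotentSubgroups A B) (hDB : D ≠ B) {b : G} (hb : b ∈ B) (hn : conjBy D b = D) :
    b = 1 := by
  rw [← unipotentSubgroups_symm h] at hD
  exact rankOne_regular (RankOnePair_symm h) hD hDB hb hn

/-- if `A` centralizes (or just normalizes) a different unipotent subgroup, contradiction. -/
theorem rankOne_not_normalizes (h : IsRankOnePair A B) {D : Subgroup G}
    (hD : D ∈ unipotentSubgroups A B) (hDA : D ≠ A) : ¬ (A ≤ Subgroup.normalizer (D : Set G)) := by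
  intro hle
  obtain ⟨a, ha, ha1⟩ := rankOne_exists_left h
  exact ha1 (rankOne_regular h hD hDA ha ((conjBy_eq_self_iff D a).mpr (hle ha)))

theorem rankOne_not_normalizes_right (h : IsRankOnePair A B) {D : Subgroup G}
    (hD : D ∈ unipotentSubgroups A B) (hDB : D ≠ B) : ¬ (B ≤ Subgroup.normalizer (D : Set G)) := by
  rw [← unipotentSubgroups_symm h] at hD
  exact rankOne_not_normalizes (RankOnePair_symm h) hD hDB

theorem conjBy_mem_unipotent_left (A B : Subgroup G) {x : G} (hx : x ∈ A ⊔ B) :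
    conjBy A x ∈ unipotentSubgroups A B := ⟨x, hx, rfl⟩

theorem conjBy_mem_unipotent_right (h : IsRankOnePair A B) {x : G} (hx : x ∈ A ⊔ B) :
    conjBy B x ∈ unipotentSubgroups A B :=
  mem_unipotent_conj A B (rankOne_right_mem_unipotent h) hx

theorem commute_of_commutator_eq_bot {A B : Subgroup G} (h : ⁅A, B⁆ = ⊥) {a b : G} (ha : a ∈ A)
    (hb : b ∈ B) : a * b = b * a := by
  have : ⁅a, b⁆ ∈ ⁅A, B⁆ := Subgroup.commutator_mem_commutator ha hb
  rw [h, Subgroup.mem_bot, commutatorElement_eq_one_iff_mul_comm] at this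
  exact this

theorem le_normalizer_of_commutator_eq_bot {A B : Subgroup G} (h : ⁅A, B⁆ = ⊥) :
    A ≤ Subgroup.normalizer (B : Set G) := by
  intro a ha
  rw [Subgroup.mem_normalizer_iff]
  intro b
  constructor
  · intro hb
    have := commute_of_commutator_eq_bot h ha hb
    rw [this, mul_inv_cancel_right]; exact hb
  · intro hb
    have h2 := commute_of_commutator_eq_bot h (A.inv_mem ha) hb
    have e : b = a⁻¹ * (a * b * a⁻¹) * a := by group
    rw [e, h2, mul_assoc, inv_mul_cancel, mul_one]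
    exact hb

/-- commuting pairs are not rank one pairs. -/
theorem rankOne_commutator_ne_bot (h : IsRankOnePair A B) : ⁅A, B⁆ ≠ ⊥ := by
  intro hc
  have hle := le_normalizer_of_commutator_eq_bot hc
  obtain ⟨a, ha, ha1⟩ := rankOne_exists_left h
  exact ha1 (rankOne_normalizer_left h ha (hle ha))

end Cfsg.Agent.helper25

namespace Cfsg.Agent.helper25

open Cfsg

variable {G : Type*} [Group G]

theorem exists_partner_of_not_isolated {S : Set (Subgroup G)} {A : Subgroup G}
    (hA : ¬ IsIsolatedIn (FAdj S) S A) (hAS : A ∈ S) : ∃ C ∈ S, IsRankOnePair A C := by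
  unfold IsIsolatedIn at hA
  push Not at hA
  obtain ⟨C, hC⟩ := hA hAS
  by_cases h1 : FAdj S A C
  · exact ⟨C, h1.2.1, h1.2.2⟩
  · have h2 := hC h1
    exact ⟨C, h2.1, RankOnePair_symm h2.2.2⟩

/-- the closure of a set of trivial elements is trivial. -/
theorem exists_ne_one_of_closure_ne_bot {T : Set G} (h : Subgroup.closure T ≠ ⊥) :
    ∃ t ∈ T, t ≠ 1 := by
  by_contra hcon
  push Not at hcon
  apply h
  rw [eq_bot_iff, Subgroup.closure_le]
  intro t ht
  exact Subgroup.mem_bot.mpr (hcon t ht)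

end Cfsg.Agent.helper25

namespace Cfsg.Agent.helper25

open Cfsg

variable {G : Type*} [Group G]

theorem le_centralizer_zpowers_iff (E : Subgroup G) (x : G) :
    E ≤ Subgroup.centralizer ((Subgroup.zpowers x : Subgroup G) : Set G) ↔ ∀ e ∈ E, e * x = x * e := by
  constructor
  · intro h e he
    have := Subgroup.mem_centralizer_iff.mp (h he) x (Subgroup.mem_zpowers x)
    exact this.symm
  · intro h e he
    rw [Subgroup.mem_centralizer_iff]
    rintro _ ⟨k, rfl⟩
    have hc : Commute x e := (h e he).symm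
    exact (hc.zpow_left k).eq

end Cfsg.Agent.helper25

namespace Cfsg.Agent.helper25

open Cfsg

variable {G : Type*} [Group G] {A B : Subgroup G}

/-- In a rank one pair with `B` abelian, the commutators `[a, b]` (for a fixed `a ∈ A#`) cannot all
commute with `B`. -/
theorem rankOne_commutators_not_central (h : IsRankOnePair A B) (hB : IsMulCommutative B) {a : G}
    (ha : a ∈ A) (ha1 : a ≠ 1)
    (hc : ∀ b ∈ B, ∀ b' ∈ B, (a * b * a⁻¹ * b⁻¹) * b' = b' * (a * b * a⁻¹ * b⁻¹)) : False := by
  have hcomm : ∀ b ∈ B, ∀ b' ∈ B, b' * (a * b * a⁻¹) = (a * b * a⁻¹) * b' := by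
    intro b hb b' hb'
    have h1 := hc b hb b' hb'
    have hbb' : b * b' = b' * b := setLike_mul_comm hb hb'
    have e1 : a * b * a⁻¹ = (a * b * a⁻¹ * b⁻¹) * b := by group
    rw [e1]
    generalize a * b * a⁻¹ * b⁻¹ = c at h1
    calc b' * (c * b) = (b' * c) * b := by rw [mul_assoc]
      _ = (c * b') * b := by rw [h1]
      _ = c * (b' * b) := by rw [mul_assoc]
      _ = c * (b * b') := by rw [hbb']
      _ = c * b * b' := by rw [mul_assoc]
  have hnorm : B ≤ Subgroup.normalizer ((conjBy B a : Subgroup G) : Set G) := by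
    intro b' hb'
    rw [Subgroup.mem_normalizer_iff]
    intro x
    constructor
    · rintro ⟨b, hb, rfl⟩
      have := hcomm b hb b' hb'
      show b' * (a * b * a⁻¹) * b'⁻¹ ∈ _
      rw [this, mul_inv_cancel_right]
      exact ⟨b, hb, rfl⟩
    · intro hx
      obtain ⟨b, hb, hbx⟩ := hx
      have h3 : a * b * a⁻¹ = b' * x * b'⁻¹ := hbx
      have := hcomm b hb b'⁻¹ (B.inv_mem hb')
      have e : x = b'⁻¹ * (b' * x * b'⁻¹) * b'⁻¹⁻¹ := by group
      rw [e, ← h3, this, mul_inv_cancel_right]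
      exact ⟨b, hb, rfl⟩
  have hDΩ : conjBy B a ∈ unipotentSubgroups A B :=
    conjBy_mem_unipotent_right h (Subgroup.mem_sup_left ha)
  have hDB : conjBy B a ≠ B := fun he =>
    ha1 (rankOne_normalizer_left h ha ((conjBy_eq_self_iff B a).mp he))
  exact rankOne_not_normalizes_right h hDΩ hDB hnorm

/-- conjugating by a central multiple. -/
theorem conjBy_central_mul (D : Subgroup G) {c : G} (hc : c ∈ Subgroup.center G) (x : G) :
    conjBy D (c * x) = conjBy D x := by
  ext y
  rw [mem_conjBy_iff, mem_conjBy_iff]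
  have h1 : ∀ g : G, g * c = c * g := fun g => Subgroup.mem_center_iff.mp hc g
  have : (c * x)⁻¹ * y * (c * x) = x⁻¹ * y * x := by
    calc (c * x)⁻¹ * y * (c * x) = x⁻¹ * c⁻¹ * (y * c) * x := by group
      _ = x⁻¹ * c⁻¹ * (c * y) * x := by rw [h1 y]
      _ = x⁻¹ * y * x := by group
  rw [this]

end Cfsg.Agent.helper25
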