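import Mathlib
import Cfsg.Prelude.Def_RootSubgroups

set_option autoImplicit false
set_option linter.style.haveILetI false
set_option linter.unusedVariables false
set_option maxHeartbeats 1000000

namespace Cfsg.Agent.helper25

open Cfsg Matrix

variable {k : Type*} [Field k]

/-- the upper unitriangular matrix with entry `s`. -/
def Umat (s : k) : Matrix.SpecialLinearGroup (Fin 2) k :=
  ⟨!![1, s; 0, 1], by simp [Matrix.det_fin_two]⟩

/-- the lower unitriangular matrix with entry `t`. -/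
def Lmat (t : k) : Matrix.SpecialLinearGroup (Fin 2) k :=
  ⟨!![1, 0; t, 1], by simp [Matrix.det_fin_two]⟩

theorem sl2_ext {g h : Matrix.SpecialLinearGroup (Fin 2) k}
    (h00 : (g : Matrix (Fin 2) (Fin 2) k) 0 0 = (h : Matrix (Fin 2) (Fin 2) k) 0 0)
    (h01 : (g : Matrix (Fin 2) (Fin 2) k) 0 1 = (h : Matrix (Fin 2) (Fin 2) k) 0 1)
    (h10 : (g : Matrix (Fin 2) (Fin 2) k) 1 0 = (h : Matrix (Fin 2) (Fin 2) k) 1 0)
    (h11 : (g : Matrix (Fin 2) (Fin 2) k) 1 1 = (h : Matrix (Fin 2) (Fin 2) k) 1 1) : g = h := by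
  apply Subtype.ext
  ext i j
  fin_cases i <;> fin_cases j <;> assumption

theorem sl2_mul_apply (g h : Matrix.SpecialLinearGroup (Fin 2) k) (i j : Fin 2) :
    ((g * h : Matrix.SpecialLinearGroup (Fin 2) k) : Matrix (Fin 2) (Fin 2) k) i j =
      (g : Matrix (Fin 2) (Fin 2) k) i 0 * (h : Matrix (Fin 2) (Fin 2) k) 0 j +
      (g : Matrix (Fin 2) (Fin 2) k) i 1 * (h : Matrix (Fin 2) (Fin 2) k) 1 j := by
  rw [Matrix.SpecialLinearGroup.coe_mul, Matrix.mul_apply, Fin.sum_univ_two]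

theorem sl2_inv_00 (g : Matrix.SpecialLinearGroup (Fin 2) k) :
    ((g⁻¹ : Matrix.SpecialLinearGroup (Fin 2) k) : Matrix (Fin 2) (Fin 2) k) 0 0 =
      (g : Matrix (Fin 2) (Fin 2) k) 1 1 := by
  rw [Matrix.SpecialLinearGroup.coe_inv, Matrix.adjugate_fin_two]; rfl
theorem sl2_inv_01 (g : Matrix.SpecialLinearGroup (Fin 2) k) :
    ((g⁻¹ : Matrix.SpecialLinearGroup (Fin 2) k) : Matrix (Fin 2) (Fin 2) k) 0 1 =
      - (g : Matrix (Fin 2) (Fin 2) k) 0 1 := by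
  rw [Matrix.SpecialLinearGroup.coe_inv, Matrix.adjugate_fin_two]; rfl
theorem sl2_inv_10 (g : Matrix.SpecialLinearGroup (Fin 2) k) :
    ((g⁻¹ : Matrix.SpecialLinearGroup (Fin 2) k) : Matrix (Fin 2) (Fin 2) k) 1 0 =
      - (g : Matrix (Fin 2) (Fin 2) k) 1 0 := by
  rw [Matrix.SpecialLinearGroup.coe_inv, Matrix.adjugate_fin_two]; rfl
theorem sl2_inv_11 (g : Matrix.SpecialLinearGroup (Fin 2) k) :
    ((g⁻¹ : Matrix.SpecialLinearGroup (Fin 2) k) : Matrix (Fin 2) (Fin 2) k) 1 1 =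
      (g : Matrix (Fin 2) (Fin 2) k) 0 0 := by
  rw [Matrix.SpecialLinearGroup.coe_inv, Matrix.adjugate_fin_two]; rfl

theorem sl2_det (g : Matrix.SpecialLinearGroup (Fin 2) k) :
    (g : Matrix (Fin 2) (Fin 2) k) 0 0 * (g : Matrix (Fin 2) (Fin 2) k) 1 1 -
      (g : Matrix (Fin 2) (Fin 2) k) 0 1 * (g : Matrix (Fin 2) (Fin 2) k) 1 0 = 1 := by
  have := g.2
  rw [Matrix.det_fin_two] at this
  exact this

@[simp] theorem Umat_00 (s : k) : (Umat s : Matrix (Fin 2) (Fin 2) k) 0 0 = 1 := rfl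
@[simp] theorem Umat_01 (s : k) : (Umat s : Matrix (Fin 2) (Fin 2) k) 0 1 = s := rfl
@[simp] theorem Umat_10 (s : k) : (Umat s : Matrix (Fin 2) (Fin 2) k) 1 0 = 0 := rfl
@[simp] theorem Umat_11 (s : k) : (Umat s : Matrix (Fin 2) (Fin 2) k) 1 1 = 1 := rfl
@[simp] theorem Lmat_00 (s : k) : (Lmat s : Matrix (Fin 2) (Fin 2) k) 0 0 = 1 := rfl
@[simp] theorem Lmat_01 (s : k) : (Lmat s : Matrix (Fin 2) (Fin 2) k) 0 1 = 0 := rfl
@[simp] theorem Lmat_10 (s : k) : (Lmat s : Matrix (Fin 2) (Fin 2) k) 1 0 = s := rfl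
@[simp] theorem Lmat_11 (s : k) : (Lmat s : Matrix (Fin 2) (Fin 2) k) 1 1 = 1 := rfl

theorem sl2_one_00 : ((1 : Matrix.SpecialLinearGroup (Fin 2) k) : Matrix (Fin 2) (Fin 2) k) 0 0 = 1 :=
  by simp
theorem sl2_one_01 : ((1 : Matrix.SpecialLinearGroup (Fin 2) k) : Matrix (Fin 2) (Fin 2) k) 0 1 = 0 :=
  by simp
theorem sl2_one_10 : ((1 : Matrix.SpecialLinearGroup (Fin 2) k) : Matrix (Fin 2) (Fin 2) k) 1 0 = 0 :=
  by simp
theorem sl2_one_11 : ((1 : Matrix.SpecialLinearGroup (Fin 2) k) : Matrix (Fin 2) (Fin 2) k) 1 1 = 1 :=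
  by simp

/-- membership in the upper unitriangular subgroup. -/
theorem mem_upper_iff (g : Matrix.SpecialLinearGroup (Fin 2) k) :
    g ∈ upperUnipotentSL2 k ↔ (g : Matrix (Fin 2) (Fin 2) k) 1 0 = 0 ∧
      (g : Matrix (Fin 2) (Fin 2) k) 0 0 = 1 ∧ (g : Matrix (Fin 2) (Fin 2) k) 1 1 = 1 := by
  constructor
  · intro hg
    unfold upperUnipotentSL2 at hg
    induction hg using Subgroup.closure_induction with
    | mem x hx => exact hx
    | one => exact ⟨sl2_one_10, sl2_one_00, sl2_one_11⟩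
    | mul x y _ _ hx hy =>
      obtain ⟨hx1, hx2, hx3⟩ := hx
      obtain ⟨hy1, hy2, hy3⟩ := hy
      refine ⟨?_, ?_, ?_⟩
      · rw [sl2_mul_apply, hx1, hy1, hx3]; ring
      · rw [sl2_mul_apply, hx2, hy2, hy1]; ring
      · rw [sl2_mul_apply, hx1, hx3, hy3]; ring
    | inv x _ hx =>
      obtain ⟨hx1, hx2, hx3⟩ := hx
      exact ⟨by rw [sl2_inv_10, hx1, neg_zero], by rw [sl2_inv_00, hx3], by rw [sl2_inv_11, hx2]⟩
  · intro h
    exact Subgroup.subset_closure h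

/-- membership in the lower unitriangular subgroup. -/
theorem mem_lower_iff (g : Matrix.SpecialLinearGroup (Fin 2) k) :
    g ∈ lowerUnipotentSL2 k ↔ (g : Matrix (Fin 2) (Fin 2) k) 0 1 = 0 ∧
      (g : Matrix (Fin 2) (Fin 2) k) 0 0 = 1 ∧ (g : Matrix (Fin 2) (Fin 2) k) 1 1 = 1 := by
  constructor
  · intro hg
    unfold lowerUnipotentSL2 at hg
    induction hg using Subgroup.closure_induction with
    | mem x hx => exact hx
    | one => exact ⟨sl2_one_01, sl2_one_00, sl2_one_11⟩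
    | mul x y _ _ hx hy =>
      obtain ⟨hx1, hx2, hx3⟩ := hx
      obtain ⟨hy1, hy2, hy3⟩ := hy
      refine ⟨?_, ?_, ?_⟩
      · rw [sl2_mul_apply, hx1, hy1, hx2]; ring
      · rw [sl2_mul_apply, hx2, hy2, hx1]; ring
      · rw [sl2_mul_apply, hy1, hx3, hy3]; ring
    | inv x _ hx =>
      obtain ⟨hx1, hx2, hx3⟩ := hx
      exact ⟨by rw [sl2_inv_01, hx1, neg_zero], by rw [sl2_inv_00, hx3], by rw [sl2_inv_11, hx2]⟩
  · intro h
    exact Subgroup.subset_closure h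

theorem Umat_mem (s : k) : Umat s ∈ upperUnipotentSL2 k :=
  (mem_upper_iff _).mpr ⟨rfl, rfl, rfl⟩

theorem Lmat_mem (t : k) : Lmat t ∈ lowerUnipotentSL2 k :=
  (mem_lower_iff _).mpr ⟨rfl, rfl, rfl⟩

theorem eq_Umat_of_mem {g : Matrix.SpecialLinearGroup (Fin 2) k} (hg : g ∈ upperUnipotentSL2 k) :
    g = Umat ((g : Matrix (Fin 2) (Fin 2) k) 0 1) := by
  obtain ⟨h1, h2, h3⟩ := (mem_upper_iff g).mp hg
  exact sl2_ext (by rw [h2]; rfl) rfl (by rw [h1]; rfl) (by rw [h3]; rfl)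

theorem eq_Lmat_of_mem {g : Matrix.SpecialLinearGroup (Fin 2) k} (hg : g ∈ lowerUnipotentSL2 k) :
    g = Lmat ((g : Matrix (Fin 2) (Fin 2) k) 1 0) := by
  obtain ⟨h1, h2, h3⟩ := (mem_lower_iff g).mp hg
  exact sl2_ext (by rw [h2]; rfl) (by rw [h1]; rfl) rfl (by rw [h3]; rfl)

theorem Umat_zero : Umat (0 : k) = 1 :=
  sl2_ext (by simp) (by simp) (by simp) (by simp)

theorem Lmat_zero : Lmat (0 : k) = 1 :=
  sl2_ext (by simp) (by simp) (by simp) (by simp)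

theorem Umat_inv (s : k) : (Umat s)⁻¹ = Umat (-s) :=
  sl2_ext (by rw [sl2_inv_00]; rfl) (by rw [sl2_inv_01]; rfl) (by rw [sl2_inv_10]; simp)
    (by rw [sl2_inv_11]; rfl)

theorem Lmat_inv (t : k) : (Lmat t)⁻¹ = Lmat (-t) :=
  sl2_ext (by rw [sl2_inv_00]; rfl) (by rw [sl2_inv_01]; simp) (by rw [sl2_inv_10]; rfl)
    (by rw [sl2_inv_11]; rfl)

theorem mem_conjBy_iff_sl2 {G : Type*} [Group G] (A : Subgroup G) (g x : G) :
    x ∈ conjBy A g ↔ g⁻¹ * x * g ∈ A := by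
  constructor
  · rintro ⟨y, hy, rfl⟩
    have : g⁻¹ * (g * y * g⁻¹) * g = y := by group
    show g⁻¹ * (g * y * g⁻¹) * g ∈ A
    rw [this]; exact hy
  · intro h
    refine ⟨g⁻¹ * x * g, h, ?_⟩
    show g * (g⁻¹ * x * g) * g⁻¹ = x
    group

/-- the key equality of conjugates. -/
theorem conjBy_lower_eq_conjBy_upper {s t : k} (hst : s * t = 1) :
    conjBy (lowerUnipotentSL2 k) (Umat s)⁻¹ = conjBy (upperUnipotentSL2 k) (Lmat t)⁻¹ := by
  ext x
  rw [mem_conjBy_iff_sl2, mem_conjBy_iff_sl2, inv_inv, inv_inv, mem_lower_iff, mem_upper_iff]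
  simp only [sl2_mul_apply, Umat_inv, Lmat_inv, Umat_00, Umat_01, Umat_10, Umat_11, Lmat_00,
    Lmat_01, Lmat_10, Lmat_11]
  have ht : t ≠ 0 := right_ne_zero_of_mul_eq_one hst
  have hs : s = t⁻¹ := eq_inv_of_mul_eq_one_left hst
  subst hs
  constructor
  · rintro ⟨h1, h2, h3⟩
    refine ⟨?_, ?_, ?_⟩
    · field_simp at h1 h2 h3 ⊢
      linear_combination (-1) * h1
    · field_simp at h1 h2 h3 ⊢
      apply mul_left_cancel₀ ht
      linear_combination h3 - h1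
    · field_simp at h1 h2 h3 ⊢
      apply mul_left_cancel₀ ht
      linear_combination h1 + h2
  · rintro ⟨h1, h2, h3⟩
    refine ⟨?_, ?_, ?_⟩
    · field_simp at h1 h2 h3 ⊢
      linear_combination (-1) * h1
    · field_simp at h1 h2 h3 ⊢
      linear_combination h1 + t * h3
    · field_simp at h1 h2 h3 ⊢
      linear_combination (-1) * h1 + t * h2

end Cfsg.Agent.helper25
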