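import Cfsg.Agent.Lib_helper25_SL2Rank1

set_option autoImplicit false
set_option linter.style.haveILetI false
set_option linter.unusedVariables false
set_option maxHeartbeats 1000000

namespace Cfsg.Agent.helper25

open Cfsg Matrix

variable {k : Type*} [Field k]

theorem Umat_mul (s s' : k) : Umat s * Umat s' = Umat (s + s') :=
  sl2_ext (by rw [sl2_mul_apply]; simp) (by rw [sl2_mul_apply]; simp [add_comm])
    (by rw [sl2_mul_apply]; simp) (by rw [sl2_mul_apply]; simp)

theorem Lmat_mul (t t' : k) : Lmat t * Lmat t' = Lmat (t + t') :=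
  sl2_ext (by rw [sl2_mul_apply]; simp) (by rw [sl2_mul_apply]; simp)
    (by rw [sl2_mul_apply]; simp) (by rw [sl2_mul_apply]; simp)

theorem Umat_eq_one_iff (s : k) : Umat s = 1 ↔ s = 0 := by
  constructor
  · intro h
    have := congrArg (fun g : Matrix.SpecialLinearGroup (Fin 2) k =>
      (g : Matrix (Fin 2) (Fin 2) k) 0 1) h
    simpa using this
  · intro h; rw [h]; exact Umat_zero

theorem Lmat_eq_one_iff (t : k) : Lmat t = 1 ↔ t = 0 := by
  constructor
  · intro h
    have := congrArg (fun g : Matrix.SpecialLinearGroup (Fin 2) k =>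
      (g : Matrix (Fin 2) (Fin 2) k) 1 0) h
    simpa using this
  · intro h; rw [h]; exact Lmat_zero

theorem upper_comm : IsMulCommutative ↥(upperUnipotentSL2 k) := by
  refine ⟨⟨fun x y => ?_⟩⟩
  apply Subtype.ext
  show (x : Matrix.SpecialLinearGroup (Fin 2) k) * y = y * x
  rw [eq_Umat_of_mem x.2, eq_Umat_of_mem y.2, Umat_mul, Umat_mul, add_comm]

theorem lower_comm : IsMulCommutative ↥(lowerUnipotentSL2 k) := by
  refine ⟨⟨fun x y => ?_⟩⟩
  apply Subtype.ext
  show (x : Matrix.SpecialLinearGroup (Fin 2) k) * y = y * x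
  rw [eq_Lmat_of_mem x.2, eq_Lmat_of_mem y.2, Lmat_mul, Lmat_mul, add_comm]

theorem isNilpotent_of_comm {G : Type*} [Group G] (h : IsMulCommutative G) : Group.IsNilpotent G := by
  letI : CommGroup G := { (inferInstance : Group G) with mul_comm := h.is_comm.comm }
  infer_instance

/-- every element of `SL₂(k)` is a product of unitriangular matrices. -/
theorem lower_sup_upper : lowerUnipotentSL2 k ⊔ upperUnipotentSL2 k = ⊤ := by
  rw [eq_top_iff]
  have key : ∀ g : Matrix.SpecialLinearGroup (Fin 2) k, (g : Matrix (Fin 2) (Fin 2) k) 1 0 ≠ 0 →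
      g ∈ lowerUnipotentSL2 k ⊔ upperUnipotentSL2 k := by
    intro g hc
    have hdet := sl2_det g
    have e : g = Umat (((g : Matrix (Fin 2) (Fin 2) k) 0 0 - 1) / (g : Matrix (Fin 2) (Fin 2) k) 1 0) *
        Lmat ((g : Matrix (Fin 2) (Fin 2) k) 1 0) *
        Umat (((g : Matrix (Fin 2) (Fin 2) k) 1 1 - 1) / (g : Matrix (Fin 2) (Fin 2) k) 1 0) := by
      apply sl2_ext
      · simp only [sl2_mul_apply, Umat_00, Umat_01, Umat_10, Umat_11, Lmat_00, Lmat_01, Lmat_10,
          Lmat_11]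
        field_simp
        ring
      · simp only [sl2_mul_apply, Umat_00, Umat_01, Umat_10, Umat_11, Lmat_00, Lmat_01, Lmat_10,
          Lmat_11]
        field_simp
        linear_combination (-1 : k) * hdet
      · simp only [sl2_mul_apply, Umat_00, Umat_01, Umat_10, Umat_11, Lmat_00, Lmat_01, Lmat_10,
          Lmat_11]
        ring
      · simp only [sl2_mul_apply, Umat_00, Umat_01, Umat_10, Umat_11, Lmat_00, Lmat_01, Lmat_10,
          Lmat_11]
        field_simp
        ring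
    rw [e]
    exact Subgroup.mul_mem _ (Subgroup.mul_mem _
      ((le_sup_right : upperUnipotentSL2 k ≤ _) (Umat_mem _))
      ((le_sup_left : lowerUnipotentSL2 k ≤ _) (Lmat_mem _)))
      ((le_sup_right : upperUnipotentSL2 k ≤ _) (Umat_mem _))
  intro g _
  by_cases hc : (g : Matrix (Fin 2) (Fin 2) k) 1 0 = 0
  · have hdet := sl2_det g
    rw [hc, mul_zero, sub_zero] at hdet
    have ha : (g : Matrix (Fin 2) (Fin 2) k) 0 0 ≠ 0 := left_ne_zero_of_mul_eq_one hdet
    have h1 : Lmat 1 * g ∈ lowerUnipotentSL2 k ⊔ upperUnipotentSL2 k := by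
      apply key
      rw [sl2_mul_apply]
      simp only [Lmat_10, Lmat_11, one_mul, hc, add_zero]
      exact ha
    have h2 : g = (Lmat 1)⁻¹ * (Lmat 1 * g) := by group
    rw [h2]
    exact Subgroup.mul_mem _ (Subgroup.inv_mem _
      ((le_sup_left : lowerUnipotentSL2 k ≤ _) (Lmat_mem _))) h1
  · exact key g hc

theorem lower_ne_upper : lowerUnipotentSL2 k ≠ upperUnipotentSL2 k := by
  intro h
  have h1 : Umat (1 : k) ∈ lowerUnipotentSL2 k := h ▸ Umat_mem 1
  have h2 := ((mem_lower_iff _).mp h1).1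
  simp at h2

theorem rankOneCondition_lower_upper :
    RankOneCondition (lowerUnipotentSL2 k) (upperUnipotentSL2 k) := by
  intro a ha ha1
  rw [eq_Lmat_of_mem ha] at ha1 ⊢
  have ht : (a : Matrix (Fin 2) (Fin 2) k) 1 0 ≠ 0 := fun h => ha1 ((Lmat_eq_one_iff _).mpr h)
  refine ⟨Umat ((a : Matrix (Fin 2) (Fin 2) k) 1 0)⁻¹, Umat_mem _, ?_, ?_⟩
  · intro h
    exact inv_ne_zero ht ((Umat_eq_one_iff _).mp h)
  · exact conjBy_lower_eq_conjBy_upper (inv_mul_cancel₀ ht)

theorem rankOneCondition_upper_lower :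
    RankOneCondition (upperUnipotentSL2 k) (lowerUnipotentSL2 k) := by
  intro b hb hb1
  rw [eq_Umat_of_mem hb] at hb1 ⊢
  have hs : (b : Matrix (Fin 2) (Fin 2) k) 0 1 ≠ 0 := fun h => hb1 ((Umat_eq_one_iff _).mpr h)
  refine ⟨Lmat ((b : Matrix (Fin 2) (Fin 2) k) 0 1)⁻¹, Lmat_mem _, ?_, ?_⟩
  · intro h
    exact inv_ne_zero hs ((Lmat_eq_one_iff _).mp h)
  · exact (conjBy_lower_eq_conjBy_upper (mul_inv_cancel₀ hs)).symm

theorem isRankOnePair_lower_upper : IsRankOnePair (lowerUnipotentSL2 k) (upperUnipotentSL2 k) :=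
  ⟨lower_ne_upper, isNilpotent_of_comm lower_comm, isNilpotent_of_comm upper_comm,
    rankOneCondition_lower_upper, rankOneCondition_upper_lower⟩

theorem isSpecial_lower_upper :
    IsSpecialRankOnePair (lowerUnipotentSL2 k) (upperUnipotentSL2 k) := by
  refine ⟨isRankOnePair_lower_upper, ?_⟩
  intro a ha ha1 b hb hb1 heq
  obtain ⟨t, htdef⟩ : ∃ t : k, t = (a : Matrix (Fin 2) (Fin 2) k) 1 0 := ⟨_, rfl⟩
  obtain ⟨s, hsdef⟩ : ∃ s : k, s = (b : Matrix (Fin 2) (Fin 2) k) 0 1 := ⟨_, rfl⟩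
  have hat : a = Lmat t := by rw [htdef]; exact eq_Lmat_of_mem ha
  have hbs : b = Umat s := by rw [hsdef]; exact eq_Umat_of_mem hb
  subst hat
  subst hbs
  have ht : t ≠ 0 := fun h => ha1 ((Lmat_eq_one_iff _).mpr h)
  have hs : s ≠ 0 := fun h => hb1 ((Umat_eq_one_iff _).mpr h)
  -- derive `s * t = 1`
  have hx : (Umat s)⁻¹ * Lmat 1 * Umat s ∈ conjBy (lowerUnipotentSL2 k) (Umat s)⁻¹ := by
    rw [mem_conjBy_iff_sl2, inv_inv]
    have e : Umat s * ((Umat s)⁻¹ * Lmat 1 * Umat s) * (Umat s)⁻¹ = Lmat (1 : k) := by group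
    rw [e]; exact Lmat_mem 1
  rw [heq, mem_conjBy_iff_sl2, inv_inv, mem_upper_iff] at hx
  have h00 := hx.2.1
  simp only [sl2_mul_apply, Umat_inv, Lmat_inv, Umat_00, Umat_01, Umat_10, Umat_11, Lmat_00,
    Lmat_01, Lmat_10, Lmat_11] at h00
  have hst : s * t = 1 := by
    have h1 : s * (s * t - 1) = 0 := by linear_combination h00
    rcases mul_eq_zero.mp h1 with h | h
    · exact absurd h hs
    · linear_combination h
  apply sl2_ext
  · simp only [sl2_mul_apply, Umat_inv, Lmat_inv, Umat_00, Umat_01, Umat_10, Umat_11, Lmat_00,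
      Lmat_01, Lmat_10, Lmat_11]
    linear_combination (0 : k) * hst
  · simp only [sl2_mul_apply, Umat_inv, Lmat_inv, Umat_00, Umat_01, Umat_10, Umat_11, Lmat_00,
      Lmat_01, Lmat_10, Lmat_11]
    linear_combination (-s) * hst
  · simp only [sl2_mul_apply, Umat_inv, Lmat_inv, Umat_00, Umat_01, Umat_10, Umat_11, Lmat_00,
      Lmat_01, Lmat_10, Lmat_11]
    linear_combination (-t) * hst
  · simp only [sl2_mul_apply, Umat_inv, Lmat_inv, Umat_00, Umat_01, Umat_10, Umat_11, Lmat_00,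
      Lmat_01, Lmat_10, Lmat_11]
    linear_combination (0 : k) * hst

/-- `SL₂(k)` is a special rank one group with abelian unipotent subgroups. -/
theorem sl2_special_rank_one (k : Type*) [Field k] :
    IsRankOneGroup (Matrix.SpecialLinearGroup (Fin 2) k) (lowerUnipotentSL2 k)
      (upperUnipotentSL2 k) ∧
    IsSpecialRankOnePair (lowerUnipotentSL2 k) (upperUnipotentSL2 k) ∧
    HasAbelianUnipotents (lowerUnipotentSL2 k) (upperUnipotentSL2 k) :=
  ⟨⟨lower_sup_upper, isRankOnePair_lower_upper⟩, isSpecial_lower_upper, lower_comm, upper_comm⟩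

end Cfsg.Agent.helper25
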