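import Mathlib
import Cfsg.Agent.Lib_helper25_SSimple

set_option autoImplicit false
universe u v

/-! Classes of elements of prime order r (not the characteristic) in GL_n over a finite field (helper25). -/

namespace Cfsg.Agent.helper25.SSimple

open Polynomial UniqueFactorizationMonoid

section OrderFactors

variable {F : Type v} [Field F]

theorem mulX_pow_apply {ι : Type*} (P : ι → MIrr F) (k : ℕ) (c : Ms P) (i : ι) :
    ((mulX P) ^ k) c i = AdjoinRoot.root (P i).poly ^ k * c i := by
  induction k generalizing c with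
  | zero => rw [pow_zero, pow_zero, one_mul]; rfl
  | succ k ih =>
    rw [pow_succ, Module.End.mul_apply, ih, mulX_apply, pow_succ, mul_assoc]

theorem model_pow_ss {V : Type u} [AddCommGroup V] [Module F V] {ι : Type*} (P : ι → MIrr F)
    (f : Module.End F V) (φ : V ≃ₗ[F] Ms P) (hφ : ∀ x, φ (f x) = mulX P (φ x)) (k : ℕ) (x : V) :
    φ ((f ^ k) x) = ((mulX P) ^ k) (φ x) := by
  induction k generalizing x with
  | zero => rfl
  | succ k ih =>
    rw [pow_succ, Module.End.mul_apply, ih, hφ, pow_succ, Module.End.mul_apply]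

theorem pow_eq_one_iff_model {V : Type u} [AddCommGroup V] [Module F V] {ι : Type*}
    (P : ι → MIrr F) (f : Module.End F V) (φ : V ≃ₗ[F] Ms P)
    (hφ : ∀ x, φ (f x) = mulX P (φ x)) (k : ℕ) :
    f ^ k = 1 ↔ ∀ i, (P i).poly ∣ X ^ k - 1 := by
  classical
  have key : ∀ i, (P i).poly ∣ X ^ k - 1 ↔ AdjoinRoot.root (P i).poly ^ k = 1 := by
    intro i
    rw [← AdjoinRoot.mk_eq_zero, map_sub, map_pow, AdjoinRoot.mk_X, map_one, sub_eq_zero]
  constructor
  · intro h i
    rw [key]
    have h1 := model_pow_ss P f φ hφ k (φ.symm (Pi.single i 1))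
    rw [h, Module.End.one_apply, LinearEquiv.apply_symm_apply] at h1
    have h2 := congrFun h1 i
    rw [mulX_pow_apply, Pi.single_eq_same, mul_one] at h2
    exact h2.symm
  · intro h
    apply LinearMap.ext
    intro x
    apply φ.injective
    rw [model_pow_ss P f φ hφ k x]
    funext i
    rw [mulX_pow_apply, (key i).mp (h i), one_mul]
    rfl

theorem normalizedFactors_of_model [DecidableEq F] {ι : Type*} [Fintype ι] (P : ι → MIrr F)
    (f₀ : F[X]) (h : f₀ = ∏ i, (P i).poly) :
    normalizedFactors f₀ = Finset.univ.val.map (fun i => (P i).poly) := by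
  have h1 : f₀ = (Finset.univ.val.map (fun i => (P i).poly)).prod := h
  rw [h1, normalizedFactors_prod_eq]
  · rw [Multiset.map_map]
    apply Multiset.map_congr rfl
    intro i _
    exact (P i).monic.normalize_eq_self
  · intro a ha
    obtain ⟨i, _, rfl⟩ := Multiset.mem_map.mp ha
    exact (P i).irr

variable {n : ℕ}

theorem pow_eq_one_iff_factors [DecidableEq F] (p : ℕ) [Fact p.Prime] [CharP F p]
    (g : Matrix.GeneralLinearGroup (Fin n) F) (hg : (orderOf g).Coprime p) (k : ℕ) :
    g ^ k = 1 ↔ ∀ x ∈ normalizedFactors g.val.charpoly, x ∣ X ^ k - 1 := by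
  obtain ⟨ι, _, P, φ, hφ, hch⟩ := exists_ss_model_charpoly _ (Fin n → F) (Glin g)
    (isSemisimple_of_coprime p g hg) rfl
  rw [charpoly_Glin] at hch
  rw [normalizedFactors_of_model P _ hch]
  have h1 : g ^ k = 1 ↔ Glin g ^ k = 1 := by
    unfold Glin
    rw [← map_pow, ← Units.val_pow_eq_pow_val]
    constructor
    · intro h
      rw [h, Units.val_one, map_one]
    · intro h
      apply Units.ext
      apply (Matrix.toLinAlgEquiv' (R := F) (n := Fin n)).injective
      rw [h, Units.val_one, map_one]
  rw [h1, pow_eq_one_iff_model P (Glin g) φ hφ k]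
  constructor
  · intro h x hx
    obtain ⟨i, _, rfl⟩ := Multiset.mem_map.mp hx
    exact h i
  · intro h i
    exact h _ (Multiset.mem_map.mpr ⟨i, Finset.mem_univ_val i, rfl⟩)

theorem orderOf_eq_prime_iff_factors [DecidableEq F] (p : ℕ) [Fact p.Prime] [CharP F p]
    (r : ℕ) [Fact r.Prime]
    (g : Matrix.GeneralLinearGroup (Fin n) F) (hg : (orderOf g).Coprime p) :
    orderOf g = r ↔ (∀ x ∈ normalizedFactors g.val.charpoly, x ∣ X ^ r - 1) ∧
      ¬ (∀ x ∈ normalizedFactors g.val.charpoly, x ∣ X ^ 1 - 1) := by
  rw [← pow_eq_one_iff_factors p g hg r, ← pow_eq_one_iff_factors p g hg 1, pow_one]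
  have hr := (Fact.out : r.Prime)
  constructor
  · intro h
    refine ⟨by rw [← h]; exact pow_orderOf_eq_one g, ?_⟩
    intro h1
    rw [h1, orderOf_one] at h
    exact hr.one_lt.ne h
  · rintro ⟨h1, h2⟩
    exact orderOf_eq_prime h1 h2

end OrderFactors

end Cfsg.Agent.helper25.SSimple

namespace Cfsg.Agent.helper25.SSimple

open Polynomial UniqueFactorizationMonoid

section Cyclo

variable {F : Type v} [Field F] [DecidableEq F]

/-- the monic irreducible factors of the `r`-th cyclotomic polynomial -/
noncomputable def Rset (F : Type v) [Field F] [DecidableEq F] (r : ℕ) : Finset F[X] :=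
  (normalizedFactors (cyclotomic r F)).toFinset

theorem mem_Rset_iff (r : ℕ) (x : F[X]) :
    x ∈ Rset F r ↔ Irreducible x ∧ x.Monic ∧ x ∣ cyclotomic r F := by
  unfold Rset
  rw [Multiset.mem_toFinset, mem_normalizedFactors_iff' (cyclotomic_ne_zero r F)]
  constructor
  · rintro ⟨h1, h2, h3⟩
    refine ⟨h1, ?_, h3⟩
    rw [← h2]
    exact monic_normalize h1.ne_zero
  · rintro ⟨h1, h2, h3⟩
    exact ⟨h1, h2.normalize_eq_self, h3⟩

omit [DecidableEq F] in
theorem X_sub_one_irr : Irreducible (X - 1 : F[X]) := by
  have := irreducible_X_sub_C (1 : F)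
  rwa [map_one] at this

omit [DecidableEq F] in
theorem X_sub_one_monic : (X - 1 : F[X]).Monic := by
  have := monic_X_sub_C (1 : F)
  rwa [map_one] at this

omit [DecidableEq F] in
theorem eq_X_sub_one_of_dvd (x : F[X]) (hm : x.Monic) (hi : Irreducible x) (h : x ∣ X - 1) :
    x = X - 1 :=
  eq_of_monic_of_associated hm X_sub_one_monic (hi.associated_of_dvd X_sub_one_irr h)

theorem dvd_X_pow_sub_one_iff (r : ℕ) [Fact r.Prime] (x : F[X]) (hm : x.Monic)
    (hi : Irreducible x) : x ∣ X ^ r - 1 ↔ x = X - 1 ∨ x ∈ Rset F r := by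
  rw [← cyclotomic_prime_mul_X_sub_one F r]
  constructor
  · intro h
    rcases (hi.prime).dvd_or_dvd h with h1 | h1
    · right
      exact (mem_Rset_iff r x).mpr ⟨hi, hm, h1⟩
    · left
      exact eq_X_sub_one_of_dvd x hm hi h1
  · rintro (rfl | h)
    · exact dvd_mul_left _ _
    · exact dvd_mul_of_dvd_left ((mem_Rset_iff r x).mp h).2.2 _

theorem X_sub_one_notMem_Rset (p : ℕ) [Fact p.Prime] [CharP F p] (r : ℕ) [Fact r.Prime]
    (hrp : r ≠ p) : (X - 1 : F[X]) ∉ Rset F r := by
  intro h
  have h1 := ((mem_Rset_iff r _).mp h).2.2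
  have h2 : (cyclotomic r F).eval 1 = 0 := by
    obtain ⟨c, hc⟩ := h1
    rw [hc, eval_mul, eval_sub, eval_X, eval_one, sub_self, zero_mul]
  rw [eval_one_cyclotomic_prime, CharP.cast_eq_zero_iff F p] at h2
  have hp := (Fact.out : p.Prime)
  have hr := (Fact.out : r.Prime)
  exact hrp ((Nat.prime_dvd_prime_iff_eq hp hr).mp h2).symm

end Cyclo

section MainCount

variable {F : Type v} [Field F] [DecidableEq F]

/-- the polynomial with factor multiset `replicate a (X - 1) + s` -/
noncomputable def fOf (a : ℕ) (s : Multiset F[X]) : F[X] := (X - 1) ^ a * s.prod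

theorem nf_fOf (a : ℕ) (s : Multiset F[X]) (hs : ∀ x ∈ s, Irreducible x ∧ x.Monic) :
    normalizedFactors (fOf a s) = Multiset.replicate a (X - 1) + s := by
  have hs0 : s.prod ≠ 0 := by
    apply Multiset.prod_ne_zero
    intro h0
    exact (hs 0 h0).1.ne_zero rfl
  unfold fOf
  rw [normalizedFactors_mul (pow_ne_zero _ X_sub_one_irr.ne_zero) hs0, normalizedFactors_pow,
    normalizedFactors_irreducible X_sub_one_irr, X_sub_one_monic.normalize_eq_self,
    normalizedFactors_prod_eq s (fun x hx => (hs x hx).1), Multiset.nsmul_singleton]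
  congr 1
  conv_rhs => rw [← Multiset.map_id s]
  apply Multiset.map_congr rfl
  intro x hx
  exact (hs x hx).2.normalize_eq_self

omit [DecidableEq F] in
theorem fOf_monic (a : ℕ) (s : Multiset F[X]) (hs : ∀ x ∈ s, Irreducible x ∧ x.Monic) :
    (fOf a s).Monic := by
  unfold fOf
  apply Monic.mul (X_sub_one_monic.pow a)
  have := monic_multiset_prod_of_monic s id (fun x hx => (hs x hx).2)
  rwa [Multiset.map_id] at this

omit [DecidableEq F] in
theorem fOf_natDegree (a : ℕ) (s : Multiset F[X]) (i : ℕ)
    (hs : ∀ x ∈ s, (Irreducible x ∧ x.Monic) ∧ x.natDegree = i) :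
    (fOf a s).natDegree = a + i * Multiset.card s := by
  unfold fOf
  have h1 : (s.prod).Monic := by
    have := monic_multiset_prod_of_monic s id (fun x hx => (hs x hx).1.2)
    rwa [Multiset.map_id] at this
  rw [Monic.natDegree_mul (X_sub_one_monic.pow a) h1, Monic.natDegree_pow X_sub_one_monic,
    natDegree_multiset_prod_of_monic s (fun x hx => (hs x hx).1.2)]
  have h2 : (X - 1 : F[X]).natDegree = 1 := by
    have := natDegree_X_sub_C (1 : F)
    rwa [map_one] at this
  rw [h2, mul_one]
  congr 1
  rw [Multiset.map_congr rfl (fun x hx => (hs x hx).2), Multiset.map_const', Multiset.sum_replicate,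
    smul_eq_mul, mul_comm]

theorem fOf_coeff_zero (a : ℕ) (s : Multiset F[X]) (hs : ∀ x ∈ s, Irreducible x ∧ x.Monic)
    (hX : X ∉ s) : (fOf a s).coeff 0 ≠ 0 := by
  intro h0
  rw [← X_dvd_iff] at h0
  have hne : fOf a s ≠ 0 := (fOf_monic a s hs).ne_zero
  have h1 : X ∈ normalizedFactors (fOf a s) := by
    rw [mem_normalizedFactors_iff' hne]
    exact ⟨irreducible_X, monic_X.normalize_eq_self, h0⟩
  rw [nf_fOf a s hs, Multiset.mem_add] at h1
  rcases h1 with h1 | h1
  · have := Multiset.eq_of_mem_replicate h1
    have h2 := congrArg (fun q : F[X] => q.coeff 0) this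
    simp at h2
  · exact hX h1

end MainCount

end Cfsg.Agent.helper25.SSimple

namespace Cfsg.Agent.helper25.SSimple

open Polynomial UniqueFactorizationMonoid

section Counting

theorem sum_choose_aux (t N : ℕ) (ht : 1 ≤ t) :
    ∑ c ∈ Finset.range N, (t + c).choose (c + 1) + 1 = (N + t).choose t := by
  obtain ⟨t', rfl⟩ : ∃ t', t = t' + 1 := ⟨t - 1, by omega⟩
  induction N with
  | zero => simp
  | succ N ih =>
    rw [Finset.sum_range_succ, add_right_comm, ih]
    have h1 : (N + 1 + (t' + 1)).choose (t' + 1) = (N + (t' + 1)).choose t'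
        + (N + (t' + 1)).choose (t' + 1) := by
      have : N + 1 + (t' + 1) = (N + (t' + 1)) + 1 := by ring
      rw [this, Nat.choose_succ_succ]
    have h2 : (t' + 1 + N).choose (N + 1) = (N + (t' + 1)).choose t' := by
      have : t' + 1 + N = N + (t' + 1) := by ring
      rw [this]
      apply Nat.choose_symm_of_eq_add
      ring
    rw [h1, h2]
    ring

theorem card_multisets_le {α : Type*} [Fintype α] [DecidableEq α] (N : ℕ)
    (ht : 1 ≤ Fintype.card α) :
    Nat.card {s : Multiset α // s ≠ 0 ∧ Multiset.card s ≤ N}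
      = (N + Fintype.card α).choose (Fintype.card α) - 1 := by
  let T := Σ c : Fin N, {s : Multiset α // Multiset.card s = (c : ℕ) + 1}
  let Φ : {s : Multiset α // s ≠ 0 ∧ Multiset.card s ≤ N} → T := fun s =>
    ⟨⟨Multiset.card s.1 - 1, by
      have h1 := s.2.2
      have h2 : 0 < Multiset.card s.1 := Multiset.card_pos.mpr s.2.1
      omega⟩, ⟨s.1, by
      have h2 : 0 < Multiset.card s.1 := Multiset.card_pos.mpr s.2.1
      show Multiset.card s.1 = Multiset.card s.1 - 1 + 1
      omega⟩⟩
  have hbij : Function.Bijective Φ := by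
    constructor
    · intro s s' h
      have := congrArg (fun x : T => (x.2.1 : Multiset α)) h
      exact Subtype.ext this
    · rintro ⟨c, s, hs⟩
      refine ⟨⟨s, ?_, ?_⟩, ?_⟩
      · intro h0
        rw [h0, Multiset.card_zero] at hs
        omega
      · have := c.2
        omega
      · apply Sigma.subtype_ext
        · apply Fin.ext
          show Multiset.card s - 1 = (c : ℕ)
          omega
        · rfl
  have hfin : ∀ c : Fin N, Finite {s : Multiset α // Multiset.card s = (c : ℕ) + 1} :=
    fun c => (inferInstance : Finite (Sym α ((c : ℕ) + 1)))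
  rw [Nat.card_congr (Equiv.ofBijective Φ hbij), Nat.card_sigma]
  have h1 : ∀ c : Fin N, Nat.card {s : Multiset α // Multiset.card s = (c : ℕ) + 1}
      = (Fintype.card α + (c : ℕ)).choose ((c : ℕ) + 1) := by
    intro c
    show Nat.card (Sym α ((c : ℕ) + 1)) = _
    rw [Nat.card_eq_fintype_card, Sym.card_sym_eq_choose]
    congr 1
  rw [Finset.sum_congr rfl (fun c _ => h1 c),
    Fin.sum_univ_eq_sum_range (fun c => (Fintype.card α + c).choose (c + 1)) N]
  have := sum_choose_aux (Fintype.card α) N ht
  omega

end Counting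

end Cfsg.Agent.helper25.SSimple

namespace Cfsg.Agent.helper25.SSimple

open Polynomial UniqueFactorizationMonoid

section MainR

variable {F : Type v} [Field F]

theorem count_order_r_classes [Fintype F] {p q : ℕ} [Fact p.Prime] [CharP F p]
    (hF : Fintype.card F = q) (n r i t : ℕ) (hr : r.Prime) (hrp : r ≠ p)
    (hi : i = orderOf (q : ZMod r)) (ht : t * i = r - 1) :
    Nat.card {C : ConjClasses (Matrix.GeneralLinearGroup (Fin n) F) //
      ∃ g : Matrix.GeneralLinearGroup (Fin n) F, ConjClasses.mk g = C ∧ orderOf g = r}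
      = Nat.choose (n / i + t) t - 1 := by
  classical
  have : Fact r.Prime := ⟨hr⟩
  have hp := (Fact.out : p.Prime)
  obtain ⟨f, _, hKf⟩ := FiniteField.card F p
  have hcop : p.Coprime r := (Nat.coprime_primes hp hr).mpr (Ne.symm hrp)
  have hi' : orderOf (ZMod.unitOfCoprime (p ^ (f : ℕ)) (hcop.pow_left f)) = i := by
    rw [hi, ← orderOf_units, ZMod.coe_unitOfCoprime, ← hF, hKf]
  have hipos : 0 < i := by
    rw [← hi']
    exact orderOf_pos _
  have hmem : ∀ x ∈ Rset F r, (Irreducible x ∧ x.Monic) ∧ x.natDegree = i := by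
    intro x hx
    obtain ⟨h1, h2, h3⟩ := (mem_Rset_iff r x).mp hx
    refine ⟨⟨h1, h2⟩, ?_⟩
    rw [natDegree_of_dvd_cyclotomic_of_irreducible hKf hcop h3 h1, hi']
  have hcardR : (Rset F r).card = t := by
    unfold Rset
    rw [normalizedFactors_cyclotomic_card hKf hcop, hi', Nat.totient_prime hr, ← ht]
    exact Nat.mul_div_cancel t hipos
  have ht1 : 1 ≤ t := by
    rcases Nat.eq_zero_or_pos t with h | h
    · rw [h, zero_mul] at ht
      have := hr.two_le
      omega
    · exact h
  have hXnot : (X : F[X]) ∉ Rset F r := by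
    intro h
    have h1 := ((mem_Rset_iff r X).mp h).2.2
    rw [X_dvd_iff, cyclotomic_coeff_zero F hr.one_lt] at h1
    exact one_ne_zero h1
  have hX1not : (X - 1 : F[X]) ∉ Rset F r := X_sub_one_notMem_Rset p r hrp
  -- p'-ness of elements of order r
  have hcop' : ∀ g : Matrix.GeneralLinearGroup (Fin n) F, orderOf g = r → (orderOf g).Coprime p := by
    intro g hg
    rw [hg]
    exact hcop.symm
  -- the parameter set
  let α := ↥(Rset F r)
  let S := {s : Multiset α // s ≠ 0 ∧ Multiset.card s ≤ n / i}
  let polys : Multiset α → Multiset F[X] := fun s => s.map Subtype.val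
  have hpolys : ∀ s : Multiset α, ∀ x ∈ polys s, (Irreducible x ∧ x.Monic) ∧ x.natDegree = i := by
    intro s x hx
    obtain ⟨y, _, rfl⟩ := Multiset.mem_map.mp hx
    exact hmem y.1 y.2
  have hpolysR : ∀ s : Multiset α, ∀ x ∈ polys s, x ∈ Rset F r := by
    intro s x hx
    obtain ⟨y, _, rfl⟩ := Multiset.mem_map.mp hx
    exact y.2
  have hpolys_card : ∀ s : Multiset α, Multiset.card (polys s) = Multiset.card s :=
    fun s => Multiset.card_map _ _
  have hle : ∀ s : S, i * Multiset.card s.1 ≤ n := by
    intro s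
    have := (Nat.le_div_iff_mul_le hipos).mp s.2.2
    rw [mul_comm]
    exact this
  let fS : S → F[X] := fun s => fOf (n - i * Multiset.card s.1) (polys s.1)
  have hfS_m : ∀ s : S, (fS s).Monic := fun s => fOf_monic _ _ (fun x hx => (hpolys s.1 x hx).1)
  have hfS_d : ∀ s : S, (fS s).natDegree = n := by
    intro s
    show (fOf (n - i * Multiset.card s.1) (polys s.1)).natDegree = n
    rw [fOf_natDegree _ _ i (hpolys s.1), hpolys_card]
    have := hle s
    omega
  have hfS_0 : ∀ s : S, (fS s).coeff 0 ≠ 0 := by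
    intro s
    apply fOf_coeff_zero _ _ (fun x hx => (hpolys s.1 x hx).1)
    intro hX
    exact hXnot (hpolysR s.1 X hX)
  have hfS_nf : ∀ s : S, normalizedFactors (fS s)
      = Multiset.replicate (n - i * Multiset.card s.1) (X - 1) + polys s.1 :=
    fun s => nf_fOf _ _ (fun x hx => (hpolys s.1 x hx).1)
  have hex : ∀ s : S, ∃ g : Matrix.GeneralLinearGroup (Fin n) F,
      (orderOf g).Coprime p ∧ g.val.charpoly = fS s :=
    fun s => exists_GL_of_charpoly p (fS s) (hfS_m s) (hfS_d s) (hfS_0 s)
  choose gS hgS_c hgS_ch using hex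
  have hgS_ord : ∀ s : S, orderOf (gS s) = r := by
    intro s
    rw [orderOf_eq_prime_iff_factors p r (gS s) (hgS_c s), hgS_ch, hfS_nf]
    constructor
    · intro x hx
      rw [Multiset.mem_add] at hx
      rcases hx with hx | hx
      · rw [Multiset.eq_of_mem_replicate hx]
        exact (dvd_X_pow_sub_one_iff r _ X_sub_one_monic X_sub_one_irr).mpr (Or.inl rfl)
      · exact (dvd_X_pow_sub_one_iff r x (hpolys s.1 x hx).1.2 (hpolys s.1 x hx).1.1).mpr
          (Or.inr (hpolysR s.1 x hx))
    · intro hall
      obtain ⟨y, hy⟩ := Multiset.exists_mem_of_ne_zero s.2.1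
      have hy' : y.1 ∈ polys s.1 := Multiset.mem_map.mpr ⟨y, hy, rfl⟩
      have h1 := hall y.1 (Multiset.mem_add.mpr (Or.inr hy'))
      rw [pow_one] at h1
      have h2 := eq_X_sub_one_of_dvd y.1 (hmem y.1 y.2).1.2 (hmem y.1 y.2).1.1 h1
      apply hX1not
      rw [← h2]
      exact y.2
  let Φ : S → {C : ConjClasses (Matrix.GeneralLinearGroup (Fin n) F) //
      ∃ g : Matrix.GeneralLinearGroup (Fin n) F, ConjClasses.mk g = C ∧ orderOf g = r} :=
    fun s => ⟨ConjClasses.mk (gS s), gS s, rfl, hgS_ord s⟩
  have hfilter : ∀ s : S, (normalizedFactors (fS s)).filter (fun x => x ≠ X - 1) = polys s.1 := by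
    intro s
    rw [hfS_nf, Multiset.filter_add]
    have h1 : (Multiset.replicate (n - i * Multiset.card s.1) (X - 1 : F[X])).filter
        (fun x => x ≠ X - 1) = 0 := by
      rw [Multiset.filter_eq_nil]
      intro x hx
      rw [Multiset.eq_of_mem_replicate hx]
      exact fun h => h rfl
    have h2 : (polys s.1).filter (fun x => x ≠ X - 1) = polys s.1 := by
      rw [Multiset.filter_eq_self]
      intro x hx h
      apply hX1not
      rw [← h]
      exact hpolysR s.1 x hx
    rw [h1, h2, zero_add]
  have hbij : Function.Bijective Φ := by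
    constructor
    · intro s s' h
      have h1 : ConjClasses.mk (gS s) = ConjClasses.mk (gS s') := congrArg Subtype.val h
      rw [ConjClasses.mk_eq_mk_iff_isConj] at h1
      have h2 := charpoly_eq_of_isConj _ _ h1
      rw [hgS_ch, hgS_ch] at h2
      have h3 : polys s.1 = polys s'.1 := by
        rw [← hfilter s, ← hfilter s', h2]
      apply Subtype.ext
      exact Multiset.map_injective Subtype.val_injective h3
    · rintro ⟨C, g, rfl, hg⟩
      have hgc := hcop' g hg
      have hfac := (orderOf_eq_prime_iff_factors p r g hgc).mp hg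
      set L := normalizedFactors g.val.charpoly with hL
      have hLne : g.val.charpoly ≠ 0 := (Matrix.charpoly_monic _).ne_zero
      have hLprop : ∀ x ∈ L, Irreducible x ∧ x.Monic := by
        intro x hx
        have h1 := irreducible_of_normalized_factor x hx
        refine ⟨h1, ?_⟩
        rw [← normalize_normalized_factor x hx]
        exact monic_normalize h1.ne_zero
      have hLR : ∀ x ∈ L, x = X - 1 ∨ x ∈ Rset F r := by
        intro x hx
        exact (dvd_X_pow_sub_one_iff r x (hLprop x hx).2 (hLprop x hx).1).mp (hfac.1 x hx)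
      set L' := L.filter (fun x => x ≠ X - 1) with hL'
      have hL'R : ∀ x ∈ L', x ∈ Rset F r := by
        intro x hx
        rw [hL', Multiset.mem_filter] at hx
        rcases hLR x hx.1 with h | h
        · exact absurd h hx.2
        · exact h
      let s0 : Multiset α := L'.pmap (fun x hx => (⟨x, hx⟩ : α)) hL'R
      have hs0polys : polys s0 = L' := by
        show (L'.pmap (fun x hx => (⟨x, hx⟩ : α)) hL'R).map Subtype.val = L'
        rw [Multiset.map_pmap]
        exact (Multiset.pmap_eq_map _ (fun a => a) L' hL'R).trans (Multiset.map_id' L')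
      have hLsplit : L = Multiset.replicate (Multiset.count (X - 1) L) (X - 1) + L' := by
        rw [hL', ← Multiset.filter_eq' L (X - 1)]
        exact (Multiset.filter_add_not (fun x => x = X - 1) L).symm
      have hprod : g.val.charpoly = fOf (Multiset.count (X - 1) L) L' := by
        have h1 : L.prod = g.val.charpoly := by
          apply eq_of_monic_of_associated _ (Matrix.charpoly_monic _) (prod_normalizedFactors hLne)
          have := monic_multiset_prod_of_monic L id (fun x hx => (hLprop x hx).2)
          rwa [Multiset.map_id] at this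
        rw [← h1]
        conv_lhs => rw [hLsplit]
        rw [Multiset.prod_add, Multiset.prod_replicate]
        rfl
      have hL'prop : ∀ x ∈ L', (Irreducible x ∧ x.Monic) ∧ x.natDegree = i := by
        intro x hx
        exact hmem x (hL'R x hx)
      have hdegL : n = Multiset.count (X - 1) L + i * Multiset.card L' := by
        have h1 := fOf_natDegree (Multiset.count (X - 1) L) L' i hL'prop
        rw [← hprod, Matrix.charpoly_natDegree_eq_dim, Fintype.card_fin] at h1
        exact h1
      have hcards0 : Multiset.card s0 = Multiset.card L' := Multiset.card_pmap _ _ _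
      have hs0ne : s0 ≠ 0 := by
        intro h0
        have h1 : L' = 0 := by
          rw [← hs0polys, h0]
          rfl
        apply hfac.2
        intro x hx
        rw [pow_one]
        have : x = X - 1 := by
          by_contra hne
          have : x ∈ L' := by
            rw [hL', Multiset.mem_filter]
            exact ⟨hx, hne⟩
          rw [h1] at this
          exact absurd this (Multiset.notMem_zero x)
        rw [this]
      have hs0le : Multiset.card s0 ≤ n / i := by
        rw [Nat.le_div_iff_mul_le hipos, hcards0, mul_comm]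
        omega
      refine ⟨⟨s0, hs0ne, hs0le⟩, Subtype.ext ?_⟩
      show ConjClasses.mk (gS ⟨s0, hs0ne, hs0le⟩) = ConjClasses.mk g
      rw [ConjClasses.mk_eq_mk_iff_isConj]
      apply isConj_of_charpoly_eq p _ _ (hgS_c _) hgc
      rw [hgS_ch, hprod]
      show fOf (n - i * Multiset.card s0) (polys s0) = _
      rw [hs0polys, hcards0]
      congr 1
      omega
  rw [← Nat.card_congr (Equiv.ofBijective Φ hbij)]
  have hcardα : Fintype.card α = t := by
    rw [Fintype.card_coe, hcardR]
  have := card_multisets_le (α := α) (n / i) (by rw [hcardα]; exact ht1)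
  rw [hcardα] at this
  exact this

end MainR

end Cfsg.Agent.helper25.SSimple

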