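import Cfsg.Agent.Lib_helper25_Sylow

set_option autoImplicit false

namespace Cfsg.Agent.helper25

variable {G : Type*} [Group G]

theorem isSylowIn_of_le [Finite G] {p : ℕ} [Fact p.Prime] {H M K : Subgroup G} (hHM : H ≤ M)
    (hMK : M ≤ K) (hs : IsSylowIn p H K) : IsSylowIn p H M := by
  have hHp : IsPGroup p H := hs.isPGroup (hHM.trans hMK)
  rw [isSylowIn_iff_card hHM]
  apply le_antisymm (card_le_of_isPGroup_le hHM hHp)
  rw [(isSylowIn_iff_card (hHM.trans hMK)).mp hs]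
  apply Nat.pow_le_pow_right (Fact.out : p.Prime).pos
  have hdvd : Nat.card M ∣ Nat.card K := Subgroup.card_dvd_of_le hMK
  exact (Nat.factorization_le_iff_dvd Nat.card_pos.ne' Nat.card_pos.ne').mpr hdvd p

/-- if `N_S(Q)` is Sylow in `N_G(Q)` and the `p`-group `X` lies in `N_S(Q) C_G(Q)` then some
`c ∈ C_G(Q)` conjugates `X` into `N_S(Q)`. -/
theorem exists_centralizer_cj_le [Finite G] {p : ℕ} [Fact p.Prime] {S Q X : Subgroup G}
    (hs : IsSylowIn p (S ⊓ Subgroup.normalizer (Q : Set G)) (Subgroup.normalizer (Q : Set G)))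
    (hX : IsPGroup p X)
    (hXM : X ≤ (S ⊓ Subgroup.normalizer (Q : Set G)) ⊔ Subgroup.centralizer (Q : Set G)) :
    ∃ c ∈ Subgroup.centralizer (Q : Set G), cj c X ≤ S ⊓ Subgroup.normalizer (Q : Set G) := by
  have hM : (S ⊓ Subgroup.normalizer (Q : Set G)) ⊔ Subgroup.centralizer (Q : Set G) ≤
      Subgroup.normalizer (Q : Set G) :=
    sup_le inf_le_right (Subgroup.centralizer_le_normalizer _)
  have hs' : IsSylowIn p (S ⊓ Subgroup.normalizer (Q : Set G))
      ((S ⊓ Subgroup.normalizer (Q : Set G)) ⊔ Subgroup.centralizer (Q : Set G)) :=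
    isSylowIn_of_le le_sup_left hM hs
  obtain ⟨m, hm, hmX⟩ := exists_cj_le_of_isSylowIn hs' hXM hX
  have hnorm : (S ⊓ Subgroup.normalizer (Q : Set G)) ≤
      Subgroup.normalizer ((Subgroup.centralizer (Q : Set G) : Subgroup G) : Set G) :=
    inf_le_right.trans (normalizer_le_normalizer_centralizer Q)
  have hm' : m ∈ (((S ⊓ Subgroup.normalizer (Q : Set G)) ⊔ Subgroup.centralizer (Q : Set G) :
      Subgroup G) : Set G) := hm
  rw [Subgroup.coe_mul_of_left_le_normalizer_right _ _ hnorm] at hm'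
  obtain ⟨s, hs1, c, hc, rfl⟩ := hm'
  refine ⟨c, hc, ?_⟩
  have h1 : cj s⁻¹ (cj (s * c) X) ≤ cj s⁻¹ (S ⊓ Subgroup.normalizer (Q : Set G)) := cj_mono _ hmX
  rw [cj_cj, cj_of_mem (inv_mem hs1)] at h1
  have e : s⁻¹ * (s * c) = c := by group
  rwa [e] at h1

end Cfsg.Agent.helper25
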