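import Cfsg.Agent.Lib_helper25_NormSat2
import Cfsg.Agent.Lib_helper25_SatRS2
import Cfsg.Agent.Lib_helper25_Sylow2

set_option autoImplicit false
set_option linter.style.haveILetI false
set_option linter.unusedVariables false
set_option maxHeartbeats 1000000

namespace Cfsg.Agent.helper25

open Cfsg Cfsg.FusionSystem

section Generic

variable {G : Type*} [Group G]

/-- a normal `p`-subgroup lies in every Sylow subgroup. -/
theorem le_of_isSylowIn_of_normal [Finite G] {p : ℕ} [Fact p.Prime] {H K D : Subgroup G}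
    (hs : IsSylowIn p H K) (hDK : D ≤ K) (hn : K ≤ Subgroup.normalizer (D : Set G))
    (hD : IsPGroup p D) : D ≤ H := by
  obtain ⟨k, hk, hkD⟩ := exists_cj_le_of_isSylowIn hs hDK hD
  have h1 : cj k D = D := (cj_eq_self_iff k D).mpr (hn hk)
  rwa [h1] at hkD

/-- conjugation into a Sylow subgroup by an element of a normal subgroup. -/
theorem exists_normal_cj_le [Finite G] {p : ℕ} [Fact p.Prime] {H K M X : Subgroup G}
    (hs : IsSylowIn p H K) (hHK : H ≤ K) (hMK : M ≤ K)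
    (hn : H ≤ Subgroup.normalizer (M : Set G))
    (hX : IsPGroup p X) (hXM : X ≤ H ⊔ M) : ∃ m ∈ M, cj m X ≤ H := by
  have hs' : IsSylowIn p H (H ⊔ M) := isSylowIn_of_le le_sup_left (sup_le hHK hMK) hs
  obtain ⟨u, hu, huX⟩ := exists_cj_le_of_isSylowIn hs' hXM hX
  have hu' : u ∈ ((H ⊔ M : Subgroup G) : Set G) := hu
  rw [Subgroup.coe_mul_of_left_le_normalizer_right _ _ hn] at hu'
  obtain ⟨s, hs1, c, hc, rfl⟩ := hu'
  refine ⟨c, hc, ?_⟩
  have h1 : cj s⁻¹ (cj (s * c) X) ≤ cj s⁻¹ H := cj_mono _ huX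
  rw [cj_cj, cj_of_mem (inv_mem hs1)] at h1
  have e : s⁻¹ * (s * c) = c := by group
  rwa [e] at h1

end Generic

variable {Ω : Type*} [Group Ω] {S : Subgroup Ω}

/-- saturation on all subgroups of order greater than `n`. -/
def SatAbove (F : FusionSystem S) (p n : ℕ) : Prop :=
  ∀ R : Subgroup Ω, R ≤ S → n < Nat.card R →
    ∃ Q : Subgroup Ω, F.IsConj R Q ∧ F.IsFullyAutomized p Q ∧ F.IsReceptive Q

/-- automorphisms in `Aut_F(R)` stabilizing `P`. -/
def oneStab (F : FusionSystem S) (R P : Subgroup Ω) : Subgroup (MulAut R) :=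
  F.autGroup R ⊓ stabIn R P

/-- `N_S(R) ∩ N(P)`. -/
def nrm2 (S R P : Subgroup Ω) : Subgroup Ω := normalizerIn S R ⊓ Subgroup.normalizer (P : Set Ω)

theorem nrm2_le (S R P : Subgroup Ω) : nrm2 S R P ≤ S := inf_le_left.trans inf_le_left

/-- a pair in good position. -/
def IsGoodPair (F : FusionSystem S) (p : ℕ) (R P : Subgroup Ω) : Prop :=
  P ≤ R ∧ F.IsReceptive R ∧ IsSylowIn p (autInducedBy (nrm2 S R P) R) (oneStab F R P)

theorem map_congr_oneStab (F : FusionSystem S) {R R' P P' : Subgroup Ω} (e : R ≃* R')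
    (he : IsFIso F e) (hP : ∀ x : R, ((e x : R') : Ω) ∈ P' ↔ (x : Ω) ∈ P) :
    (oneStab F R P).map (MulAut.congr e).toMonoidHom = oneStab F R' P' := by
  apply le_antisymm
  · rintro _ ⟨α, hα, rfl⟩
    exact ⟨he.congr_mem_autGroup hα.1, congr_mem_stabIn e hP hα.2⟩
  · intro β hβ
    have hP' : ∀ y : R', ((e.symm y : R) : Ω) ∈ P ↔ (y : Ω) ∈ P' := fun y => by
      rw [← hP, MulEquiv.apply_symm_apply]
    refine ⟨MulAut.congr e.symm β, ⟨he.symm.congr_mem_autGroup hβ.1,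
      congr_mem_stabIn e.symm hP' hβ.2⟩, ?_⟩
    apply MulEquiv.ext; intro y
    show e (e.symm (β (e (e.symm y)))) = β y
    rw [MulEquiv.apply_symm_apply, MulEquiv.apply_symm_apply]

theorem autInducedBy_nrm2_le (F : FusionSystem S) {R P : Subgroup Ω} (hR : R ≤ S) :
    autInducedBy (nrm2 S R P) R ≤ oneStab F R P := by
  intro α hα
  obtain ⟨g, hg, hgα⟩ := (mem_autInducedBy_iff _ _ α).mp hα
  refine ⟨?_, ?_⟩
  · apply autInducedBy_le_autGroup F hR
    exact (mem_autInducedBy_iff _ _ α).mpr ⟨g, hg.1.1, hgα⟩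
  · intro x
    rw [hgα x]
    exact (Subgroup.mem_normalizer_iff.mp hg.2 x).symm

theorem mem_autInducedBy_nrm2 {R P : Subgroup Ω} [Finite P] (hPR : P ≤ R) {y : MulAut R}
    (hyS : y ∈ autInducedBy S R) (hst : y ∈ stabIn R P) : y ∈ autInducedBy (nrm2 S R P) R := by
  obtain ⟨g, hg, rfl⟩ := (mem_autInducedBy_iff' S R y).mp hyS
  have hgP : g ∈ Subgroup.normalizer (P : Set Ω) := by
    apply Subgroup.mem_normalizer_fintype
    intro n hn
    exact (hst ⟨n, hPR hn⟩).mpr hn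
  exact (mem_autInducedBy_iff _ _ _).mpr ⟨g, ⟨hg, hgP⟩, fun x => rfl⟩

/-- every pair whose larger member lies in a saturated class is conjugate to a good pair. -/
theorem exists_goodPair [Finite S] {p : ℕ} [Fact p.Prime] (hS : IsPGroup p S)
    (F : FusionSystem S) {R P : Subgroup Ω} (hPR : P ≤ R) (hRS : R ≤ S)
    (hsat : ∃ Q : Subgroup Ω, F.IsConj R Q ∧ F.IsFullyAutomized p Q ∧ F.IsReceptive Q) :
    ∃ (R₀ P₀ : Subgroup Ω) (e : R ≃* R₀), IsFIso F e ∧ IsGoodPair F p R₀ P₀ ∧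
      ∀ x : R, ((e x : R₀) : Ω) ∈ P₀ ↔ (x : Ω) ∈ P := by
  obtain ⟨R₀, hconj, hfa, hrec⟩ := hsat
  have hR₀S := hfa.1
  haveI : Finite R := finite_of_le S hRS
  haveI : Finite R₀ := finite_of_le S hR₀S
  obtain ⟨φ₀, hφ₀, hr₀⟩ := hconj
  obtain ⟨χ₀, hχ₀, -⟩ := exists_isFIso_of_mem F hφ₀ hr₀
  have hK₁le : (oneStab F R P).map (MulAut.congr χ₀).toMonoidHom ≤ F.autGroup R₀ := by
    rintro _ ⟨a, ha, rfl⟩; exact hχ₀.congr_mem_autGroup ha.1
  obtain ⟨Y, -, hYK, hYp, hYcard⟩ := exists_sylow_ge (p := p)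
    (X := (⊥ : Subgroup (MulAut R₀)))
    (K := (oneStab F R P).map (MulAut.congr χ₀).toMonoidHom) bot_le IsPGroup.of_bot
  have hsylR : IsSylowIn p (autInducedBy S R₀) (F.autGroup R₀) := hfa.2
  obtain ⟨β, hβ, hβY⟩ := exists_cj_le_of_isSylowIn hsylR (hYK.trans hK₁le) hYp
  have hβiso : IsFIso F β := (mem_autGroup_iff F hR₀S β).mp hβ
  have he : IsFIso F (χ₀.trans β) := hχ₀.trans hβiso
  have hK₂ : (oneStab F R P).map (MulAut.congr (χ₀.trans β)).toMonoidHom =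
      cj β ((oneStab F R P).map (MulAut.congr χ₀).toMonoidHom) := by
    rw [cj, Subgroup.map_map]
    congr 1
  obtain ⟨e, hedef⟩ : ∃ e : R ≃* R₀, e = χ₀.trans β := ⟨_, rfl⟩
  rw [← hedef] at he hK₂
  have heP : ∀ x : R, ((e x : R₀) : Ω) ∈ (P.subgroupOf R).map (R₀.subtype.comp e.toMonoidHom) ↔
      (x : Ω) ∈ P := mem_map_iso_iff e P
  have hP₀R₀ : (P.subgroupOf R).map (R₀.subtype.comp e.toMonoidHom) ≤ R₀ := by
    rintro _ ⟨z, -, rfl⟩; exact (e z).2
  haveI : Finite ((P.subgroupOf R).map (R₀.subtype.comp e.toMonoidHom) : Subgroup Ω) :=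
    finite_of_le S (hP₀R₀.trans hR₀S)
  have hK := map_congr_oneStab F e he heP
  have hY'K : cj β Y ≤ oneStab F R₀ ((P.subgroupOf R).map (R₀.subtype.comp e.toMonoidHom)) := by
    rw [← hK, hK₂]; exact cj_mono β hYK
  have hY'syl : IsSylowIn p (cj β Y)
      (oneStab F R₀ ((P.subgroupOf R).map (R₀.subtype.comp e.toMonoidHom))) := by
    rw [isSylowIn_iff_card hY'K, ← hK, hK₂, card_cj, card_cj]; exact hYcard
  refine ⟨R₀, _, e, he, ⟨hP₀R₀, hrec, ?_⟩, heP⟩
  have hH := autInducedBy_nrm2_le F (R := R₀)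
    (P := (P.subgroupOf R).map (R₀.subtype.comp e.toMonoidHom)) hR₀S
  have hHp : IsPGroup p (autInducedBy
      (nrm2 S R₀ ((P.subgroupOf R).map (R₀.subtype.comp e.toMonoidHom))) R₀) :=
    isPGroup_autInducedBy (hS.to_le (nrm2_le S _ _)) _
  refine isSylowIn_of_le_of_isPGroup hY'syl hY'K ?_ hH hHp
  intro y hy
  exact mem_autInducedBy_nrm2 hP₀R₀ (hβY hy) (hY'K hy).2

end Cfsg.Agent.helper25
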