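import Cfsg.Agent.Lib_helper25_SatCrit9

set_option autoImplicit false
set_option linter.style.haveILetI false
set_option linter.unusedVariables false
set_option maxHeartbeats 2000000

namespace Cfsg.Agent.helper25

open Cfsg Cfsg.FusionSystem

variable {Ω : Type*} [Group Ω] {S : Subgroup Ω}

/-- the sub-claim: an isomorphism onto the big member of a good pair, followed by the return map,
restricts on `Ph` to an automorphism extending to `Q*(Ph)`, given the claim for larger sources. -/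
theorem extQ_sub [Finite S] {p : ℕ} [Fact p.Prime] (hS : IsPGroup p S) (F : FusionSystem S)
    {Ph : Subgroup Ω} (hPhS : Ph ≤ S) (hle : Ph ≤ qStar F p Ph) {c : ℕ}
    (IH : ∀ (R' : Subgroup Ω) (ψ' : R' →* Ω), Ph ≤ R' → R' ≤ normalizerIn S Ph →
      c < Nat.card R' → ψ' ∈ F.Hom R' → (∀ x, ψ' x ∈ normalizerIn S Ph) →
      (Ph.subgroupOf R').map ψ' = Ph →
      ∃ α ∈ extQ F p Ph hle, ∀ (x : Ph) (hx : (x : Ω) ∈ R'), ((α x : Ph) : Ω) = ψ' ⟨x, hx⟩)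
    {R₀ P₀ : Subgroup Ω} (hgood : IsGoodPair F p R₀ P₀)
    {θ₀ : normalizerIn S P₀ →* Ω} (hθ₀ : θ₀ ∈ F.Hom (normalizerIn S P₀))
    (hθ₀N : ∀ x, θ₀ x ∈ normalizerIn S Ph)
    (hθ₀P : (P₀.subgroupOf (normalizerIn S P₀)).map θ₀ = Ph)
    {R₂ : Subgroup Ω} (e₂ : R₂ ≃* R₀) (he₂ : IsFIso F e₂)
    (he₂P : ∀ x : R₂, ((e₂ x : R₀) : Ω) ∈ P₀ ↔ (x : Ω) ∈ Ph)
    (hPhR₂ : Ph ≤ R₂) (hR₂N : R₂ ≤ normalizerIn S Ph) (hnot : ¬ qStar F p Ph ≤ R₂)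
    (hc : Nat.card R₂ = c) :
    ∃ α ∈ extQ F p Ph hle,
      ∀ (x : Ph) (h : ((e₂ ⟨x, hPhR₂ x.2⟩ : R₀) : Ω) ∈ normalizerIn S P₀),
        ((α x : Ph) : Ω) = θ₀ ⟨((e₂ ⟨x, hPhR₂ x.2⟩ : R₀) : Ω), h⟩ := by
  have hP₀R₀ : P₀ ≤ R₀ := hgood.1
  have hR₀S : R₀ ≤ S := hgood.2.1.1
  have hP₀S : P₀ ≤ S := hP₀R₀.trans hR₀S
  have hR₂S : R₂ ≤ S := hR₂N.trans inf_le_left
  have hQS : qStar F p Ph ≤ S := (qStar_le_normalizerIn F p Ph).trans inf_le_left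
  have hM : qStar F p Ph ⊓ Subgroup.normalizer (R₂ : Set Ω) ≤ normalizerIn S R₂ :=
    fun g hg => ⟨hQS hg.1, hg.2⟩
  have hMB : ∀ (g : Ω) (hg : g ∈ qStar F p Ph ⊓ Subgroup.normalizer (R₂ : Set Ω)),
      MulAut.congr e₂ (normAut R₂ g (hM hg).2) ∈ opStab F p hP₀R₀ := by
    intro g hg
    obtain ⟨hgS, hgN, hgop⟩ := (mem_qStar_iff F p Ph g).mp hg.1
    have hβ : MulAut.congr e₂ (normAut R₂ g (hM hg).2) ∈ oneStab F R₀ P₀ :=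
      ⟨he₂.congr_mem_autGroup (autInducedBy_le_autGroup F hR₂S (normAut_mem S R₂ (hM hg))),
        congr_mem_stabIn e₂ he₂P (normAut_mem_stabIn (hM hg).2 hgN)⟩
    refine (mem_opStab_iff F p hP₀R₀ _).mpr ⟨hβ, ?_⟩
    have e1 : stabRes F hP₀R₀ ⟨_, hβ⟩ =
        MulAut.congr (resIso e₂ hPhR₂ hP₀R₀ he₂P) (normAut Ph g hgN) := by
      apply MulEquiv.ext; intro x
      apply Subtype.ext
      rfl
    rw [e1]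
    exact (mem_opAut_congr F p _ (resIso_isFIso he₂ hPhR₂ hP₀R₀ he₂P) _).mpr hgop
  obtain ⟨b, hb, ψ₂, hψ₂, hψ₂e⟩ := goodPair_extend hS F hgood (opStab_le F p hP₀R₀)
    (opStab_normal F p hP₀R₀ hR₀S) e₂ he₂ hM hMB
  obtain ⟨h₀, hh₀, hN₀, hform⟩ := exists_qStar_of_mem_opStab hS F hgood hb
  have hDN : R₂ ⊔ (qStar F p Ph ⊓ Subgroup.normalizer (R₂ : Set Ω)) ≤
      Subgroup.normalizer (Ph : Set Ω) :=
    sup_le (hR₂N.trans inf_le_right) (fun g hg => (qStar_le_normalizerIn F p Ph hg.1).2)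
  obtain ⟨hψ₂N, hψ₂P⟩ := extend_props F hPhR₂ hP₀R₀ hP₀S e₂ he₂P
    (opStab_le F p hP₀R₀ hb).2 hDN hψ₂ hψ₂e
  have hψ₃ := F.comp_mem hψ₂ hθ₀ hψ₂N
  have hψ₃P : (Ph.subgroupOf (R₂ ⊔ (qStar F p Ph ⊓ Subgroup.normalizer (R₂ : Set Ω)))).map
      (θ₀.comp (ψ₂.codRestrict _ hψ₂N)) = Ph := by
    rw [map_comp_codRestrict, hψ₂P]; exact hθ₀P
  have hgrow : R₂ < R₂ ⊔ (qStar F p Ph ⊓ Subgroup.normalizer (R₂ : Set Ω)) :=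
    lt_sup_inf_normalizer hS hR₂S hQS
      (hR₂N.trans (normalizerIn_le_normalizer_qStar F p hPhS)) hnot
  have hDS : R₂ ⊔ (qStar F p Ph ⊓ Subgroup.normalizer (R₂ : Set Ω)) ≤ S :=
    sup_le hR₂S (inf_le_left.trans hQS)
  haveI : Finite (R₂ ⊔ (qStar F p Ph ⊓ Subgroup.normalizer (R₂ : Set Ω)) : Subgroup Ω) :=
    finite_of_le S hDS
  have hclt : c < Nat.card (R₂ ⊔ (qStar F p Ph ⊓ Subgroup.normalizer (R₂ : Set Ω)) :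
      Subgroup Ω) := by
    rw [← hc]; exact card_lt_of_lt' hgrow
  have hDN' : R₂ ⊔ (qStar F p Ph ⊓ Subgroup.normalizer (R₂ : Set Ω)) ≤ normalizerIn S Ph :=
    fun g hg => ⟨hDS hg, hDN hg⟩
  obtain ⟨α₃, hα₃, hα₃e⟩ := IH _ _ (hPhR₂.trans le_sup_left) hDN' hclt hψ₃
    (fun x => hθ₀N _) hψ₃P
  have hh₀N : h₀ ∈ normalizerIn S P₀ := qStar_le_normalizerIn F p P₀ hh₀
  have hhN : θ₀ ⟨h₀, hh₀N⟩ ∈ normalizerIn S Ph := hθ₀N _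
  have hγ := normAut_mem_extQ F p hPhS hle hhN
  refine ⟨(normAut Ph _ hhN.2)⁻¹ * α₃, Subgroup.mul_mem _ (Subgroup.inv_mem _ hγ) hα₃, ?_⟩
  intro x hx
  have hxP₀ : ((e₂ ⟨x, hPhR₂ x.2⟩ : R₀) : Ω) ∈ P₀ := (he₂P _).mpr x.2
  have hy : θ₀ ⟨((e₂ ⟨x, hPhR₂ x.2⟩ : R₀) : Ω), hx⟩ ∈ Ph :=
    hθ₀P.le ⟨⟨_, hx⟩, Subgroup.mem_subgroupOf.mpr hxP₀, rfl⟩
  have h1 : α₃ x = normAut Ph _ hhN.2 ⟨θ₀ ⟨_, hx⟩, hy⟩ := by
    apply Subtype.ext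
    rw [hα₃e x (Subgroup.mem_sup_left (hPhR₂ x.2))]
    show θ₀ ⟨ψ₂ ⟨x, _⟩, _⟩ = θ₀ ⟨h₀, hh₀N⟩ * θ₀ ⟨_, hx⟩ * (θ₀ ⟨h₀, hh₀N⟩)⁻¹
    rw [← map_inv, ← map_mul, ← map_mul]
    congr 1
    apply Subtype.ext
    show ψ₂ ⟨x, _⟩ = h₀ * ((e₂ ⟨x, hPhR₂ x.2⟩ : R₀) : Ω) * h₀⁻¹
    have h2 := hψ₂e ⟨x, hPhR₂ x.2⟩
    have h3 := hform ⟨_, hxP₀⟩
    rw [← h3]
    exact h2
  show (((normAut Ph _ hhN.2)⁻¹ (α₃ x) : Ph) : Ω) = _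
  rw [h1, MulAut.inv_apply_self]

end Cfsg.Agent.helper25
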