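import Cfsg.Agent.Lib_helper25_SatCrit10

set_option autoImplicit false
set_option linter.style.haveILetI false
set_option linter.unusedVariables false
set_option maxHeartbeats 2000000

namespace Cfsg.Agent.helper25

open Cfsg Cfsg.FusionSystem

variable {Ω : Type*} [Group Ω] {S : Subgroup Ω}

/-- every map of the system between subgroups of `N_S(Ph)` strictly containing `Ph` and
preserving `Ph` restricts on `Ph` to an automorphism that extends to `Q*(Ph)`. -/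
theorem extQ_of_map [Finite S] {p : ℕ} [Fact p.Prime] (hS : IsPGroup p S) (F : FusionSystem S)
    {n : ℕ} (hsat : SatAbove F p n) {Ph : Subgroup Ω} (hfn : F.IsFullyNormalized Ph)
    (hA : ∀ P : Subgroup Ω, F.IsConj Ph P → NLe F P Ph) (hle : Ph ≤ qStar F p Ph) :
    ∀ (k : ℕ) (R : Subgroup Ω) (ψ : R →* Ω), Ph ≤ R → R ≤ normalizerIn S Ph → n < Nat.card R →
      ψ ∈ F.Hom R → (∀ x, ψ x ∈ normalizerIn S Ph) → (Ph.subgroupOf R).map ψ = Ph →
      Nat.card S - Nat.card R ≤ k →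
      ∃ α ∈ extQ F p Ph hle, ∀ (x : Ph) (hx : (x : Ω) ∈ R), ((α x : Ph) : Ω) = ψ ⟨x, hx⟩ := by
  intro k
  induction k using Nat.strong_induction_on with
  | _ k ih =>
  intro R ψ hPhR hRN hn hψ hψN hψP hk
  have hPhS : Ph ≤ S := hfn.1
  have hRS : R ≤ S := hRN.trans inf_le_left
  have hQS : qStar F p Ph ≤ S := (qStar_le_normalizerIn F p Ph).trans inf_le_left
  haveI : Finite R := finite_of_le S hRS
  haveI : Finite (qStar F p Ph) := finite_of_le S hQS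
  by_cases hQR : qStar F p Ph ≤ R
  · -- restrict to Q*
    have hψQ := restrict_mem F hQR hψ
    have hval : ∀ g : qStar F p Ph, (ψ.comp (Subgroup.inclusion hQR)) g ∈ qStar F p Ph :=
      fun g => map_mem_qStar F p hPhR (hRN.trans inf_le_right) hψ hψP ⟨g, hQR g.2⟩ g.2
    have hr : (ψ.comp (Subgroup.inclusion hQR)).range = qStar F p Ph := by
      apply Subgroup.eq_of_le_of_card_ge
      · rintro _ ⟨g, rfl⟩; exact hval g
      · exact le_of_eq (Nat.card_congr (MonoidHom.ofInjective (F.injective_of_mem hψQ)).toEquiv)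
    obtain ⟨β, hβ, hβcoe⟩ := exists_isFIso_of_mem F hψQ hr
    have hβst : β ∈ oneStab F (qStar F p Ph) Ph := by
      refine ⟨(mem_autGroup_iff F hQS β).mpr hβ, mem_stabIn_of_forall β (fun x hx => ?_)⟩
      rw [hβcoe]
      exact hψP.le ⟨⟨x, hQR x.2⟩, Subgroup.mem_subgroupOf.mpr hx, rfl⟩
    refine ⟨stabRes F hle ⟨β, hβst⟩, ⟨_, rfl⟩, fun x hx => ?_⟩
    rw [stabRes_coe]
    show ((β ⟨x, hle x.2⟩ : qStar F p Ph) : Ω) = ψ ⟨x, hx⟩
    rw [hβcoe]; rfl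
  · obtain ⟨eψ, heψ, heψcoe⟩ := exists_isFIso_of_mem F hψ rfl
    have hR'N : ψ.range ≤ normalizerIn S Ph := by rintro _ ⟨x, rfl⟩; exact hψN x
    have hPhR' : Ph ≤ ψ.range := by
      intro y hy
      obtain ⟨x, -, hxy⟩ := hψP.ge hy
      exact ⟨x, hxy⟩
    have hcardR' : Nat.card ψ.range = Nat.card R := (Nat.card_congr eψ.toEquiv).symm
    have hQR' : ¬ qStar F p Ph ≤ ψ.range := by
      intro hQR'
      apply hQR
      obtain ⟨ι, hι, hιr, hι1, hι2⟩ := exists_inv_hom F hψ rfl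
      have hιP : (Ph.subgroupOf ψ.range).map ι = Ph := by
        ext y; constructor
        · rintro ⟨w, hw, rfl⟩
          obtain ⟨z, hz, hzw⟩ := hψP.ge (Subgroup.mem_subgroupOf.mp hw)
          have hmem : ψ z ∈ ψ.range := ⟨z, rfl⟩
          have hwe : w = ⟨ψ z, hmem⟩ := Subtype.ext hzw.symm
          rw [hwe, hι1 z hmem]; exact Subgroup.mem_subgroupOf.mp hz
        · intro hy
          have hmem : ψ ⟨y, hPhR hy⟩ ∈ ψ.range := ⟨_, rfl⟩
          refine ⟨⟨ψ ⟨y, hPhR hy⟩, hmem⟩, ?_, hι1 ⟨y, hPhR hy⟩ hmem⟩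
          apply Subgroup.mem_subgroupOf.mpr
          exact hψP.le ⟨⟨y, hPhR hy⟩, Subgroup.mem_subgroupOf.mpr hy, rfl⟩
      have hmem : ∀ g : qStar F p Ph, ι ⟨g, hQR' g.2⟩ ∈ qStar F p Ph ⊓ R := fun g =>
        ⟨map_mem_qStar F p hPhR' (hR'N.trans inf_le_right) hι hιP ⟨g, hQR' g.2⟩ g.2,
          hιr.le ⟨_, rfl⟩⟩
      haveI : Finite (qStar F p Ph ⊓ R : Subgroup Ω) := finite_of_le S (inf_le_left.trans hQS)
      have hcardle : Nat.card (qStar F p Ph) ≤ Nat.card (qStar F p Ph ⊓ R : Subgroup Ω) := by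
        apply Nat.card_le_card_of_injective (fun g : qStar F p Ph =>
          (⟨ι ⟨g, hQR' g.2⟩, hmem g⟩ : (qStar F p Ph ⊓ R : Subgroup Ω)))
        intro a b hab
        have h3 := F.injective_of_mem hι (congrArg Subtype.val hab)
        exact Subtype.ext (Subtype.mk.inj h3)
      have he : qStar F p Ph ⊓ R = qStar F p Ph :=
        Subgroup.eq_of_le_of_card_ge inf_le_left hcardle
      rw [← he]; exact inf_le_right
    obtain ⟨R₀, P₀, e, he, hgood, heP⟩ := exists_goodPair hS F hPhR hRS (hsat R hRS hn)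
    have hP₀R₀ : P₀ ≤ R₀ := hgood.1
    have hconj : F.IsConj Ph P₀ := by
      refine ⟨_, restrict_mem F hPhR he, ?_⟩
      ext y; constructor
      · rintro ⟨x, rfl⟩
        exact (heP _).mpr x.2
      · intro hy
        have hx : ((e.symm ⟨y, hP₀R₀ hy⟩ : R) : Ω) ∈ Ph := by
          rw [← heP, MulEquiv.apply_symm_apply]; exact hy
        refine ⟨⟨_, hx⟩, ?_⟩
        show ((e ⟨((e.symm ⟨y, hP₀R₀ hy⟩ : R) : Ω), _⟩ : R₀) : Ω) = y
        have e1 : (⟨((e.symm ⟨y, hP₀R₀ hy⟩ : R) : Ω), hPhR hx⟩ : R) = e.symm ⟨y, hP₀R₀ hy⟩ :=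
          Subtype.ext rfl
        rw [e1, MulEquiv.apply_symm_apply]
    obtain ⟨θ₀, hθ₀, hθ₀N, hθ₀P⟩ := hA P₀ hconj
    have IH' : ∀ (R' : Subgroup Ω) (ψ' : R' →* Ω), Ph ≤ R' → R' ≤ normalizerIn S Ph →
        Nat.card R < Nat.card R' → ψ' ∈ F.Hom R' → (∀ x, ψ' x ∈ normalizerIn S Ph) →
        (Ph.subgroupOf R').map ψ' = Ph →
        ∃ α ∈ extQ F p Ph hle, ∀ (x : Ph) (hx : (x : Ω) ∈ R'),
          ((α x : Ph) : Ω) = ψ' ⟨x, hx⟩ := by
      intro R' ψ' h1 h2 h3 h4 h5 h6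
      have hR'S : R' ≤ S := h2.trans inf_le_left
      have hle' : Nat.card R' ≤ Nat.card S := Subgroup.card_le_of_le hR'S
      exact ih (Nat.card S - Nat.card R') (by omega) R' ψ' h1 h2 (by omega) h4 h5 h6 le_rfl
    obtain ⟨α₁, hα₁, hα₁e⟩ := extQ_sub hS F hPhS hle IH' hgood hθ₀ hθ₀N hθ₀P e he heP hPhR hRN
      hQR rfl
    have he' : IsFIso F (eψ.symm.trans e) := heψ.symm.trans he
    have he'P : ∀ y : ψ.range, (((eψ.symm.trans e) y : R₀) : Ω) ∈ P₀ ↔ (y : Ω) ∈ Ph := by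
      intro y
      show ((e (eψ.symm y) : R₀) : Ω) ∈ P₀ ↔ _
      rw [heP]
      have hy : (y : Ω) = ψ (eψ.symm y) := by rw [← heψcoe, MulEquiv.apply_symm_apply]
      constructor
      · intro h; rw [hy]; exact hψP.le ⟨_, Subgroup.mem_subgroupOf.mpr h, rfl⟩
      · intro h
        obtain ⟨x, hx, hxy⟩ := hψP.ge h
        have hxe : x = eψ.symm y := F.injective_of_mem hψ (hxy.trans hy)
        rw [← hxe]; exact Subgroup.mem_subgroupOf.mp hx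
    obtain ⟨α₂, hα₂, hα₂e⟩ := extQ_sub hS F hPhS hle IH' hgood hθ₀ hθ₀N hθ₀P
      (eψ.symm.trans e) he' he'P hPhR' hR'N hQR' hcardR'
    refine ⟨α₂⁻¹ * α₁, Subgroup.mul_mem _ (Subgroup.inv_mem _ hα₂) hα₁, fun x hx => ?_⟩
    have hyPh : ψ ⟨x, hx⟩ ∈ Ph := hψP.le ⟨⟨x, hx⟩, Subgroup.mem_subgroupOf.mpr x.2, rfl⟩
    have hP₀N : P₀ ≤ normalizerIn S P₀ := le_normalizerIn (hP₀R₀.trans hgood.2.1.1)
    have hxe : ((e ⟨x, hPhR x.2⟩ : R₀) : Ω) ∈ normalizerIn S P₀ := hP₀N ((heP _).mpr x.2)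
    have hsymm : eψ.symm ⟨ψ ⟨x, hx⟩, hPhR' hyPh⟩ = ⟨x, hx⟩ := by
      rw [MulEquiv.symm_apply_eq]
      apply Subtype.ext
      rw [heψcoe]
    have hye : ((((eψ.symm.trans e) ⟨ψ ⟨x, hx⟩, hPhR' hyPh⟩ : R₀)) : Ω) ∈ normalizerIn S P₀ := by
      show ((e (eψ.symm ⟨ψ ⟨x, hx⟩, hPhR' hyPh⟩) : R₀) : Ω) ∈ _
      rw [hsymm]; exact hxe
    have h1 := hα₁e x hxe
    have h2 := hα₂e ⟨ψ ⟨x, hx⟩, hyPh⟩ hye
    have h3 : α₁ x = α₂ ⟨ψ ⟨x, hx⟩, hyPh⟩ := by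
      apply Subtype.ext
      rw [h1, h2]
      congr 1
      apply Subtype.ext
      show ((e ⟨x, hPhR x.2⟩ : R₀) : Ω) = ((e (eψ.symm ⟨ψ ⟨x, hx⟩, hPhR' hyPh⟩) : R₀) : Ω)
      rw [hsymm]
    show ((α₂⁻¹ (α₁ x) : Ph) : Ω) = ψ ⟨x, hx⟩
    rw [h3, MulAut.inv_apply_self]

end Cfsg.Agent.helper25
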