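import Cfsg.Agent.Lib_helper25_SatCrit11

set_option autoImplicit false
set_option linter.style.haveILetI false
set_option linter.unusedVariables false
set_option maxHeartbeats 2000000

namespace Cfsg.Agent.helper25

open Cfsg Cfsg.FusionSystem

variable {Ω : Type*} [Group Ω] {S : Subgroup Ω}

/-- one step through a strictly larger subgroup, transported to `Ph`, lies in `extQ`. -/
theorem bstep [Finite S] {p : ℕ} [Fact p.Prime] (hS : IsPGroup p S) (F : FusionSystem S)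
    {n : ℕ} (hsat : SatAbove F p n) {Ph : Subgroup Ω} (hfn : F.IsFullyNormalized Ph)
    (hA : ∀ P : Subgroup Ω, F.IsConj Ph P → NLe F P Ph) (hle : Ph ≤ qStar F p Ph)
    {Q P₁ P'' : Subgroup Ω} (hPQ : P₁ ≤ Q) (hc₁ : Nat.card P₁ = n) (hlt : n < Nat.card Q)
    {ψ : Q →* Ω} (hψ : ψ ∈ F.Hom Q) (hP'' : (P₁.subgroupOf Q).map ψ = P'')
    {θ' : normalizerIn S P₁ →* Ω} (hθ' : θ' ∈ F.Hom (normalizerIn S P₁))
    (hθ'N : ∀ x, θ' x ∈ normalizerIn S Ph)
    (hθ'P : (P₁.subgroupOf (normalizerIn S P₁)).map θ' = Ph)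
    {θ'' : normalizerIn S P'' →* Ω} (hθ'' : θ'' ∈ F.Hom (normalizerIn S P''))
    (hθ''N : ∀ x, θ'' x ∈ normalizerIn S Ph)
    (hθ''P : (P''.subgroupOf (normalizerIn S P'')).map θ'' = Ph) :
    ∃ α ∈ extQ F p Ph hle, ∀ (y : P₁) (hy : (y : Ω) ∈ normalizerIn S P₁)
      (hψy : ψ ⟨y, hPQ y.2⟩ ∈ normalizerIn S P'') (hθy : θ' ⟨y, hy⟩ ∈ Ph),
      ((α ⟨θ' ⟨y, hy⟩, hθy⟩ : Ph) : Ω) = θ'' ⟨ψ ⟨y, hPQ y.2⟩, hψy⟩ := by
  have hQS : Q ≤ S := (F.le_of_mem hψ).1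
  haveI : Finite Q := finite_of_le S hQS
  have hQp : IsPGroup p Q := hS.to_le hQS
  have hPhS : Ph ≤ S := hfn.1
  haveI : Finite Ph := finite_of_le S hPhS
  have hPltQ : P₁ < Q := by
    apply lt_of_le_of_ne hPQ
    intro he
    rw [he] at hc₁
    omega
  have hPltD : P₁ < normalizerIn Q P₁ := lt_normalizerIn hQp hPltQ
  have hDQ : normalizerIn Q P₁ ≤ Q := inf_le_left
  have hDN : normalizerIn Q P₁ ≤ normalizerIn S P₁ := fun x hx => ⟨hQS hx.1, hx.2⟩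
  have hDS : normalizerIn Q P₁ ≤ S := hDQ.trans hQS
  haveI : Finite (normalizerIn Q P₁) := finite_of_le S hDS
  have hθD := restrict_mem F hDN hθ'
  have hψD := restrict_mem F hDQ hψ
  have hmapD : (P₁.subgroupOf (normalizerIn Q P₁)).map (ψ.comp (Subgroup.inclusion hDQ)) = P'' := by
    rw [map_comp_inclusion hDQ hPltD.le ψ]; exact hP''
  have hP''S : P'' ≤ S := by
    rw [← hP'']; rintro _ ⟨x, -, rfl⟩; exact (F.le_of_mem hψ).2 x
  haveI : Finite P'' := finite_of_le S hP''S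
  have hψDval : ∀ z : normalizerIn Q P₁, (ψ.comp (Subgroup.inclusion hDQ)) z ∈
      normalizerIn S P'' := by
    intro z
    refine ⟨(F.le_of_mem hψD).2 z, ?_⟩
    haveI : Finite ((P₁.subgroupOf (normalizerIn Q P₁)).map (ψ.comp (Subgroup.inclusion hDQ)) :
        Subgroup Ω) := by rw [hmapD]; infer_instance
    have hDNP : normalizerIn Q P₁ ≤ Subgroup.normalizer (P₁ : Set Ω) := inf_le_right
    have h1 := map_sub_normalizer (D := normalizerIn Q P₁) (P := P₁) hDNP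
      (ψ.comp (Subgroup.inclusion hDQ)) z
    rw [hmapD] at h1
    exact h1
  obtain ⟨ι, hι, hιr, hι1, hι2⟩ := exists_inv_hom F hθD rfl
  have hιD : ∀ w, ι w ∈ normalizerIn Q P₁ := fun w => hιr.le ⟨w, rfl⟩
  have hc₁mem := F.comp_mem hι hψD hιD
  have hc₁val : ∀ w, ((ψ.comp (Subgroup.inclusion hDQ)).comp (ι.codRestrict _ hιD)) w ∈
      normalizerIn S P'' := fun w => hψDval _
  have hc₂mem := F.comp_mem hc₁mem hθ'' hc₁val
  -- the source
  have hPhR : Ph ≤ (θ'.comp (Subgroup.inclusion hDN)).range := by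
    intro y hy
    obtain ⟨x, hx, hxy⟩ := hθ'P.ge hy
    have hxP : (x : Ω) ∈ P₁ := Subgroup.mem_subgroupOf.mp hx
    exact ⟨⟨x, hPltD.le hxP⟩, hxy⟩
  have hRN : (θ'.comp (Subgroup.inclusion hDN)).range ≤ normalizerIn S Ph := by
    rintro _ ⟨z, rfl⟩; exact hθ'N _
  have hcardR : Nat.card (θ'.comp (Subgroup.inclusion hDN)).range =
      Nat.card (normalizerIn Q P₁) :=
    (Nat.card_congr (MonoidHom.ofInjective (F.injective_of_mem hθD)).toEquiv).symm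
  have hnR : n < Nat.card (θ'.comp (Subgroup.inclusion hDN)).range := by
    rw [hcardR, ← hc₁]; exact card_lt_of_lt' hPltD
  have hRS : (θ'.comp (Subgroup.inclusion hDN)).range ≤ S := hRN.trans inf_le_left
  haveI : Finite (θ'.comp (Subgroup.inclusion hDN)).range := finite_of_le S hRS
  -- key pointwise description
  have hkey : ∀ (z : normalizerIn Q P₁)
      (hw : (θ'.comp (Subgroup.inclusion hDN)) z ∈ (θ'.comp (Subgroup.inclusion hDN)).range),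
      ι ⟨(θ'.comp (Subgroup.inclusion hDN)) z, hw⟩ = z := fun z hw => hι1 z hw
  have hmap : (Ph.subgroupOf (θ'.comp (Subgroup.inclusion hDN)).range).map
      (θ''.comp (((ψ.comp (Subgroup.inclusion hDQ)).comp (ι.codRestrict _ hιD)).codRestrict _
        hc₁val)) = Ph := by
    apply Subgroup.eq_of_le_of_card_ge
    · rintro _ ⟨w, hw, rfl⟩
      have hwPh : (w : Ω) ∈ Ph := Subgroup.mem_subgroupOf.mp hw
      obtain ⟨z, hz⟩ := w.2
      obtain ⟨x, hx, hxw⟩ := hθ'P.ge hwPh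
      have hxz : x = Subgroup.inclusion hDN z := F.injective_of_mem hθ' (hxw.trans hz.symm)
      have hzP : (z : Ω) ∈ P₁ := by
        have h1 : (x : Ω) ∈ P₁ := Subgroup.mem_subgroupOf.mp hx
        rw [hxz] at h1; exact h1
      have hwe : w = ⟨(θ'.comp (Subgroup.inclusion hDN)) z, ⟨z, rfl⟩⟩ := Subtype.ext hz.symm
      show θ'' ⟨(ψ.comp (Subgroup.inclusion hDQ)) ⟨ι w, hιD w⟩, hc₁val w⟩ ∈ Ph
      have h2 : (⟨ι w, hιD w⟩ : normalizerIn Q P₁) = z := by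
        apply Subtype.ext
        show ι w = z
        rw [hwe]; exact hkey z _
      have h3 : (ψ.comp (Subgroup.inclusion hDQ)) ⟨ι w, hιD w⟩ ∈ P'' := by
        rw [h2]
        exact hmapD.le ⟨z, Subgroup.mem_subgroupOf.mpr hzP, rfl⟩
      exact hθ''P.le ⟨_, Subgroup.mem_subgroupOf.mpr h3, rfl⟩
    · rw [Subgroup.card_map_of_injective (F.injective_of_mem hc₂mem),
        card_subgroupOf_of_le hPhR]
  obtain ⟨α, hα, hαe⟩ := extQ_of_map hS F hsat hfn hA hle _ _ _ hPhR hRN hnR hc₂mem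
    (fun w => hθ''N _) hmap le_rfl
  refine ⟨α, hα, ?_⟩
  intro y hy hψy hθy
  have hyD : (y : Ω) ∈ normalizerIn Q P₁ := hPltD.le y.2
  have hw : (θ'.comp (Subgroup.inclusion hDN)) ⟨y, hyD⟩ ∈
      (θ'.comp (Subgroup.inclusion hDN)).range := ⟨_, rfl⟩
  have h1 := hαe ⟨θ' ⟨y, hy⟩, hθy⟩ hw
  rw [h1]
  show θ'' ⟨(ψ.comp (Subgroup.inclusion hDQ)) ⟨ι ⟨_, hw⟩, hιD _⟩, hc₁val _⟩ = _
  congr 1
  apply Subtype.ext
  show (ψ.comp (Subgroup.inclusion hDQ)) ⟨ι ⟨_, hw⟩, hιD _⟩ = ψ ⟨y, hPQ y.2⟩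
  have h2 : (⟨ι ⟨(θ'.comp (Subgroup.inclusion hDN)) ⟨y, hyD⟩, hw⟩, hιD _⟩ :
      normalizerIn Q P₁) = ⟨y, hyD⟩ := by
    apply Subtype.ext
    show ι ⟨(θ'.comp (Subgroup.inclusion hDN)) ⟨y, hyD⟩, hw⟩ = y
    rw [hkey ⟨y, hyD⟩ hw]
  rw [h2]
  rfl

end Cfsg.Agent.helper25
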