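import Cfsg.Agent.Lib_helper25_SatCrit12

set_option autoImplicit false
set_option linter.style.haveILetI false
set_option linter.unusedVariables false
set_option maxHeartbeats 2000000

namespace Cfsg.Agent.helper25

open Cfsg Cfsg.FusionSystem

variable {Ω : Type*} [Group Ω] {S : Subgroup Ω}

/-- the property defining the second auxiliary system. -/
def BProp (F : FusionSystem S) (p : ℕ) (Ph : Subgroup Ω) (hle : Ph ≤ qStar F p Ph)
    (P : Subgroup Ω) (φ : P →* Ω) : Prop :=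
  F.IsConj Ph P → ∀ P' : Subgroup Ω, φ.range = P' →
    ∀ θ : normalizerIn S P →* Ω, θ ∈ F.Hom (normalizerIn S P) →
    (∀ x, θ x ∈ normalizerIn S Ph) → (P.subgroupOf (normalizerIn S P)).map θ = Ph →
    ∀ θ' : normalizerIn S P' →* Ω, θ' ∈ F.Hom (normalizerIn S P') →
    (∀ x, θ' x ∈ normalizerIn S Ph) → (P'.subgroupOf (normalizerIn S P')).map θ' = Ph →
    ∃ α ∈ extQ F p Ph hle, ∀ (x : P) (hx : (x : Ω) ∈ normalizerIn S P)
      (hφx : φ x ∈ normalizerIn S P') (hθx : θ ⟨x, hx⟩ ∈ Ph),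
      ((α ⟨θ ⟨x, hx⟩, hθx⟩ : Ph) : Ω) = θ' ⟨φ x, hφx⟩

theorem bProp_of_restrict [Finite S] {p : ℕ} [Fact p.Prime] (hS : IsPGroup p S)
    (F : FusionSystem S) {n : ℕ} (hsat : SatAbove F p n) {Ph : Subgroup Ω}
    (hfn : F.IsFullyNormalized Ph) (hcPh : Nat.card Ph = n)
    (hA : ∀ P : Subgroup Ω, F.IsConj Ph P → NLe F P Ph) (hle : Ph ≤ qStar F p Ph)
    {Q P : Subgroup Ω} (hPQ : P ≤ Q) (hlt : n < Nat.card Q) {ψ : Q →* Ω} (hψ : ψ ∈ F.Hom Q) :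
    BProp F p Ph hle P (ψ.comp (Subgroup.inclusion hPQ)) := by
  intro hconj P' hP' θ hθ hθN hθP θ' hθ' hθ'N hθ'P
  have hc₁ : Nat.card P = n := by rw [← isConj_card_eq F hconj]; exact hcPh
  have hmap : (P.subgroupOf Q).map ψ = P' := by rw [← range_restrict_eq_map hPQ ψ]; exact hP'
  obtain ⟨α, hα, hαe⟩ := bstep hS F hsat hfn hA hle hPQ hc₁ hlt hψ hmap hθ hθN hθP hθ' hθ'N hθ'P
  exact ⟨α, hα, fun x hx hφx hθx => hαe x hx hφx hθx⟩

/-- the second auxiliary system. -/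
def bSystem [Finite S] {p : ℕ} [Fact p.Prime] (hS : IsPGroup p S) (F : FusionSystem S) {n : ℕ}
    (hsat : SatAbove F p n) (hnS : n < Nat.card S) {Ph : Subgroup Ω}
    (hfn : F.IsFullyNormalized Ph) (hcPh : Nat.card Ph = n)
    (hA : ∀ P : Subgroup Ω, F.IsConj Ph P → NLe F P Ph) (hle : Ph ≤ qStar F p Ph) :
    FusionSystem S where
  Hom P := {φ | φ ∈ F.Hom P ∧ BProp F p Ph hle P φ}
  le_of_mem h := F.le_of_mem h.1
  injective_of_mem h := F.injective_of_mem h.1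
  conj_mem := by
    intro P g hP hg
    refine ⟨F.conj_mem hP hg, ?_⟩
    have e : conjHom P g = (conjHom S g).comp (Subgroup.inclusion hP) := by
      ext x; rfl
    rw [e]
    exact bProp_of_restrict hS F hsat hfn hcPh hA hle hP hnS (F.conj_mem le_rfl hg)
  comp_mem := by
    intro P Q φ ψ hφ hψ h
    refine ⟨F.comp_mem hφ.1 hψ.1 h, ?_⟩
    intro hconj P' hP' θ hθ hθN hθP θ'' hθ'' hθ''N hθ''P
    have hQS : Q ≤ S := (F.le_of_mem hψ.1).1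
    haveI : Finite Q := finite_of_le S hQS
    have hcard : Nat.card P = n := by rw [← isConj_card_eq F hconj]; exact hcPh
    have hrQ : φ.range ≤ Q := by rintro _ ⟨x, rfl⟩; exact h x
    have hcr : Nat.card φ.range = n := by
      rw [← Nat.card_congr (MonoidHom.ofInjective (F.injective_of_mem hφ.1)).toEquiv]; exact hcard
    have hconj₁ : F.IsConj Ph φ.range := isConj_trans F hconj ⟨φ, hφ.1, rfl⟩
    obtain ⟨θ₁, hθ₁, hθ₁N, hθ₁P⟩ := hA _ hconj₁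
    obtain ⟨α₁, hα₁, hα₁e⟩ := hφ.2 hconj φ.range rfl θ hθ hθN hθP θ₁ hθ₁ hθ₁N hθ₁P
    have hr₁S : φ.range ≤ S := range_le_of_mem F hφ.1
    -- second step
    have hstep2 : ∃ α₂ ∈ extQ F p Ph hle, ∀ (y : φ.range)
        (hy : (y : Ω) ∈ normalizerIn S φ.range)
        (hψy : ψ ⟨y, hrQ y.2⟩ ∈ normalizerIn S P') (hθy : θ₁ ⟨y, hy⟩ ∈ Ph),
        ((α₂ ⟨θ₁ ⟨y, hy⟩, hθy⟩ : Ph) : Ω) = θ'' ⟨ψ ⟨y, hrQ y.2⟩, hψy⟩ := by
      have hr2 : (ψ.comp (Subgroup.inclusion hrQ)).range = P' := by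
        rw [← hP']
        ext y; constructor
        · rintro ⟨⟨_, x, rfl⟩, rfl⟩; exact ⟨x, rfl⟩
        · rintro ⟨x, rfl⟩; exact ⟨⟨φ x, ⟨x, rfl⟩⟩, rfl⟩
      by_cases hQn : Nat.card Q = n
      · have hrQe : φ.range = Q :=
          Subgroup.eq_of_le_of_card_ge hrQ (by rw [hcr, hQn])
        have hrψ : ψ.range = P' := by
          rw [← hr2]
          ext y; constructor
          · rintro ⟨z, rfl⟩
            have hz : (z : Ω) ∈ φ.range := by rw [hrQe]; exact z.2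
            exact ⟨⟨z, hz⟩, rfl⟩
          · rintro ⟨z, rfl⟩; exact ⟨_, rfl⟩
        subst hrQe
        obtain ⟨α₂, hα₂, hα₂e⟩ := hψ.2 hconj₁ P' hrψ θ₁ hθ₁ hθ₁N hθ₁P θ'' hθ'' hθ''N hθ''P
        exact ⟨α₂, hα₂, fun y hy hψy hθy => hα₂e y hy hψy hθy⟩
      · have hlt : n < Nat.card Q := by
          have := Subgroup.card_le_of_le hrQ
          omega
        have hmap : (φ.range.subgroupOf Q).map ψ = P' := by
          rw [← range_restrict_eq_map hrQ ψ]; exact hr2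
        exact bstep hS F hsat hfn hA hle hrQ hcr hlt hψ.1 hmap hθ₁ hθ₁N hθ₁P hθ'' hθ''N hθ''P
    obtain ⟨α₂, hα₂, hα₂e⟩ := hstep2
    refine ⟨α₂ * α₁, Subgroup.mul_mem _ hα₂ hα₁, ?_⟩
    intro x hx hφx hθx
    have hφxN : φ x ∈ normalizerIn S φ.range := le_normalizerIn hr₁S ⟨x, rfl⟩
    have h1 := hα₁e x hx hφxN hθx
    have hθ₁mem : θ₁ ⟨φ x, hφxN⟩ ∈ Ph := by rw [← h1]; exact (α₁ ⟨θ ⟨x, hx⟩, hθx⟩).2
    have h2 := hα₂e ⟨φ x, ⟨x, rfl⟩⟩ hφxN hφx hθ₁mem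
    show ((α₂ (α₁ ⟨θ ⟨x, hx⟩, hθx⟩) : Ph) : Ω) = _
    have e1 : α₁ ⟨θ ⟨x, hx⟩, hθx⟩ = ⟨θ₁ ⟨φ x, hφxN⟩, hθ₁mem⟩ := Subtype.ext h1
    rw [e1, h2]
    rfl
  inv_mem := by
    intro P φ hφ
    obtain ⟨ψ, hψ, hψφ⟩ := F.inv_mem hφ.1
    refine ⟨ψ, ⟨hψ, ?_⟩, hψφ⟩
    intro hconj P' hP' θ hθ hθN hθP θ' hθ' hθ'N hθ'P
    have hr : ψ.range = P := by
      ext y; constructor
      · rintro ⟨⟨_, x, rfl⟩, rfl⟩
        rw [hψφ x]; exact x.2
      · intro hy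
        exact ⟨⟨φ ⟨y, hy⟩, ⟨_, rfl⟩⟩, hψφ ⟨y, hy⟩⟩
    have hPP' : P = P' := hr.symm.trans hP'
    subst hPP'
    have hconjP : F.IsConj Ph P := isConj_trans F hconj ⟨ψ, hψ, hr⟩
    obtain ⟨α, hα, hαe⟩ := hφ.2 hconjP φ.range rfl θ' hθ' hθ'N hθ'P θ hθ hθN hθP
    refine ⟨α⁻¹, Subgroup.inv_mem _ hα, ?_⟩
    intro y hy hψy hθy
    obtain ⟨x, hx⟩ := y.2
    have hye : y = ⟨φ x, ⟨x, rfl⟩⟩ := Subtype.ext hx.symm
    have hψyx : ψ y = x := by rw [hye]; exact hψφ x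
    have hxN : (x : Ω) ∈ normalizerIn S P := by rw [← hψyx]; exact hψy
    have hφxN : φ x ∈ normalizerIn S φ.range := by rw [hx]; exact hy
    have hθ'x : θ' ⟨x, hxN⟩ ∈ Ph :=
      hθ'P.le ⟨⟨x, hxN⟩, Subgroup.mem_subgroupOf.mpr x.2, rfl⟩
    have h1 := hαe x hxN hφxN hθ'x
    have e2 : (⟨φ x, hφxN⟩ : normalizerIn S φ.range) = ⟨y, hy⟩ := Subtype.ext hx
    rw [e2] at h1
    have e3 : α ⟨θ' ⟨x, hxN⟩, hθ'x⟩ = ⟨θ ⟨y, hy⟩, hθy⟩ := Subtype.ext h1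
    have e4 : α⁻¹ ⟨θ ⟨y, hy⟩, hθy⟩ = ⟨θ' ⟨x, hxN⟩, hθ'x⟩ := by
      rw [← e3]
      show α.symm (α _) = _
      exact α.symm_apply_apply _
    rw [e4]
    show θ' ⟨x, hxN⟩ = θ' ⟨ψ y, hψy⟩
    congr 1
    exact Subtype.ext hψyx.symm

/-- (b): every automorphism of `Ph` in the system extends to `Q*(Ph)`. -/
theorem autGroup_le_extQ [Finite S] {p : ℕ} [Fact p.Prime] (hS : IsPGroup p S)
    (F : FusionSystem S) {n : ℕ} (hsat : SatAbove F p n) (hnS : n < Nat.card S)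
    (ℋ : Set (Subgroup Ω)) (hℋ : ∀ P ∈ ℋ, ∀ Q, F.IsConj P Q → Q ∈ ℋ)
    (hgen : ∀ E : FusionSystem S, (∀ P ∈ ℋ, F.Hom P ⊆ E.Hom P) → F ≤ E)
    {Ph : Subgroup Ω} (hPhℋ : Ph ∉ ℋ) (hfn : F.IsFullyNormalized Ph) (hcPh : Nat.card Ph = n)
    (hA : ∀ P : Subgroup Ω, F.IsConj Ph P → NLe F P Ph) (hle : Ph ≤ qStar F p Ph) :
    F.autGroup Ph ≤ extQ F p Ph hle := by
  have hPhS : Ph ≤ S := hfn.1
  have hsub : F ≤ bSystem hS F hsat hnS hfn hcPh hA hle := by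
    apply hgen
    intro P hP φ hφ
    refine ⟨hφ, ?_⟩
    intro hconj
    exact absurd (hℋ P hP Ph (isConj_symm F hconj)) hPhℋ
  intro a ha
  have haF : IsFIso F a := (mem_autGroup_iff F hPhS a).mp ha
  have hb := (hsub Ph haF).2
  have hr : (Ph.subtype.comp a.toMonoidHom).range = Ph := by
    ext y; constructor
    · rintro ⟨x, rfl⟩; exact (a x).2
    · intro hy
      exact ⟨a.symm ⟨y, hy⟩, by
        show ((a (a.symm ⟨y, hy⟩) : Ph) : Ω) = y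
        rw [MulEquiv.apply_symm_apply]⟩
  have hsubN : (normalizerIn S Ph).subtype ∈ F.Hom (normalizerIn S Ph) :=
    subtype_mem F inf_le_left
  have hmapN : (Ph.subgroupOf (normalizerIn S Ph)).map (normalizerIn S Ph).subtype = Ph := by
    ext y; constructor
    · rintro ⟨z, hz, rfl⟩; exact Subgroup.mem_subgroupOf.mp hz
    · intro hy
      exact ⟨⟨y, le_normalizerIn hPhS hy⟩, Subgroup.mem_subgroupOf.mpr hy, rfl⟩
  obtain ⟨α, hα, hαe⟩ := hb (isConj_refl F hPhS) Ph hr _ hsubN (fun x => x.2) hmapN _ hsubN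
    (fun x => x.2) hmapN
  have hαa : α = a := by
    apply MulEquiv.ext; intro x
    apply Subtype.ext
    have hxN : (x : Ω) ∈ normalizerIn S Ph := le_normalizerIn hPhS x.2
    have hax : (Ph.subtype.comp a.toMonoidHom) x ∈ normalizerIn S Ph :=
      le_normalizerIn hPhS (a x).2
    exact hαe x hxN hax x.2
  rw [← hαa]; exact hα

end Cfsg.Agent.helper25
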