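import Cfsg.Agent.Lib_helper25_SatCrit13

set_option autoImplicit false
set_option linter.style.haveILetI false
set_option linter.unusedVariables false
set_option maxHeartbeats 2000000

namespace Cfsg.Agent.helper25

open Cfsg Cfsg.FusionSystem

variable {Ω : Type*} [Group Ω] {S : Subgroup Ω}

/-- `Ph` is fully automized once it forms a good pair with `Q*(Ph)` and all its automorphisms
extend. -/
theorem fullyAutomized_of_goodQ [Finite S] {p : ℕ} [Fact p.Prime] (hS : IsPGroup p S)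
    (F : FusionSystem S) {Ph : Subgroup Ω} (hPhS : Ph ≤ S) (hle : Ph ≤ qStar F p Ph)
    (hgood : IsGoodPair F p (qStar F p Ph) Ph)
    (hext : F.autGroup Ph ≤ extQ F p Ph hle) : F.IsFullyAutomized p Ph := by
  obtain ⟨-, hrec, hsyl⟩ := hgood
  have hQS : qStar F p Ph ≤ S := hrec.1
  haveI : Finite (qStar F p Ph) := finite_of_le S hQS
  haveI : Finite Ph := finite_of_le S hPhS
  obtain ⟨Rs, hRs⟩ := hsyl
  have h1 := isSylowIn_map_range (stabRes F hle) Rs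
  have hrange : (stabRes F hle).range = F.autGroup Ph := by
    apply le_antisymm
    · rintro _ ⟨b, rfl⟩
      exact stabRes_mem_autGroup F hle hQS b
    · exact hext
  have hmap : (Rs : Subgroup _).map (stabRes F hle) = autInducedBy S Ph := by
    apply le_antisymm
    · rintro _ ⟨t, ht, rfl⟩
      rw [hRs] at ht
      have ht' : (t : MulAut (qStar F p Ph)) ∈ autInducedBy (nrm2 S (qStar F p Ph) Ph)
          (qStar F p Ph) := Subgroup.mem_subgroupOf.mp ht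
      obtain ⟨g, hg, hgt⟩ := (mem_autInducedBy_iff _ _ _).mp ht'
      refine (mem_autInducedBy_iff S Ph _).mpr ⟨g, hg.1.1, fun x => ?_⟩
      rw [stabRes_coe, hgt]
    · intro α hα
      obtain ⟨g, hg, rfl⟩ := (mem_autInducedBy_iff' S Ph α).mp hα
      have hgQ : g ∈ Subgroup.normalizer (qStar F p Ph : Set Ω) :=
        normalizerIn_le_normalizer_qStar F p hPhS hg
      have hgn : g ∈ nrm2 S (qStar F p Ph) Ph := ⟨⟨hg.1, hgQ⟩, hg.2⟩
      have ht : normAut (qStar F p Ph) g hgQ ∈ autInducedBy (nrm2 S (qStar F p Ph) Ph)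
          (qStar F p Ph) := (mem_autInducedBy_iff _ _ _).mpr ⟨g, hgn, fun x => rfl⟩
      have ht1 := autInducedBy_nrm2_le F hQS ht
      refine ⟨⟨_, ht1⟩, ?_, ?_⟩
      · show (⟨_, ht1⟩ : oneStab F (qStar F p Ph) Ph) ∈ (Rs : Subgroup _)
        rw [hRs]
        exact Subgroup.mem_subgroupOf.mpr ht
      · apply MulEquiv.ext; intro x
        apply Subtype.ext
        rfl
  rw [hrange, hmap] at h1
  exact ⟨hPhS, h1⟩

/-- `Ph` is receptive once it forms a good pair with `Q*(Ph)`, all its automorphisms extend and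
it has property (a). -/
theorem receptive_of_goodQ [Finite S] {p : ℕ} [Fact p.Prime] (hS : IsPGroup p S)
    (F : FusionSystem S) {Ph : Subgroup Ω} (hPhS : Ph ≤ S) (hle : Ph ≤ qStar F p Ph)
    (hgood : IsGoodPair F p (qStar F p Ph) Ph)
    (hext : F.autGroup Ph ≤ extQ F p Ph hle)
    (hA : ∀ P : Subgroup Ω, F.IsConj Ph P → NLe F P Ph) : F.IsReceptive Ph := by
  obtain ⟨-, hrec, hsyl⟩ := hgood
  have hQS : qStar F p Ph ≤ S := hrec.1
  haveI : Finite (qStar F p Ph) := finite_of_le S hQS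
  haveI : Finite Ph := finite_of_le S hPhS
  refine ⟨hPhS, fun P φ hφ hr => ?_⟩
  have hPS : P ≤ S := (F.le_of_mem hφ).1
  haveI : Finite P := finite_of_le S hPS
  have hconj : F.IsConj Ph P := isConj_symm F ⟨φ, hφ, hr⟩
  obtain ⟨θ, hθ, hθN, hθP⟩ := hA P hconj
  have hPN : P ≤ normalizerIn S P := le_normalizerIn hPS
  -- the automorphism `a`
  have hθPmem := restrict_mem F hPN hθ
  have hθPr : (θ.comp (Subgroup.inclusion hPN)).range = Ph := by
    rw [range_restrict_eq_map]; exact hθP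
  obtain ⟨eθ, heθ, heθcoe⟩ := exists_isFIso_of_mem F hθPmem hθPr
  obtain ⟨eφ, heφ, heφcoe⟩ := exists_isFIso_of_mem F hφ hr
  have haF : IsFIso F (eθ.symm.trans eφ) := heθ.symm.trans heφ
  have haA : (eθ.symm.trans eφ : MulAut Ph) ∈ F.autGroup Ph :=
    (mem_autGroup_iff F hPhS _).mpr haF
  have hakey : ∀ (x : P) (hθx : θ ⟨x, hPN x.2⟩ ∈ Ph),
      (((eθ.symm.trans eφ) ⟨θ ⟨x, hPN x.2⟩, hθx⟩ : Ph) : Ω) = φ x := by
    intro x hθx
    have e1 : (⟨θ ⟨x, hPN x.2⟩, hθx⟩ : Ph) = eθ x := Subtype.ext (heθcoe x).symm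
    show ((eφ (eθ.symm ⟨θ ⟨x, hPN x.2⟩, hθx⟩) : Ph) : Ω) = φ x
    rw [e1, MulEquiv.symm_apply_apply, heφcoe]
  obtain ⟨β₀, hβ₀, hβ₀e⟩ := (mem_extQ_iff F p Ph hle _).mp (hext haA)
  -- the extender and its image
  have hNle : extender S P φ ≤ normalizerIn S P := extender_le S P φ
  have hNS : extender S P φ ≤ S := hNle.trans inf_le_left
  have hθNmem := restrict_mem F hNle hθ
  have hN'S : (θ.comp (Subgroup.inclusion hNle)).range ≤ S := range_le_of_mem F hθNmem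
  have hnQ : ∀ z : normalizerIn S P, θ z ∈ Subgroup.normalizer (qStar F p Ph : Set Ω) :=
    fun z => normalizerIn_le_normalizer_qStar F p hPhS (hθN z)
  have hHK := autInducedBy_nrm2_le F (R := qStar F p Ph) (P := Ph) hQS
  have hMK : (stabRes F hle).ker.map (oneStab F (qStar F p Ph) Ph).subtype ≤
      oneStab F (qStar F p Ph) Ph := Subgroup.map_subtype_le _
  have hnorm : autInducedBy (nrm2 S (qStar F p Ph) Ph) (qStar F p Ph) ≤ Subgroup.normalizer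
      (((stabRes F hle).ker.map (oneStab F (qStar F p Ph) Ph).subtype :
        Subgroup (MulAut (qStar F p Ph))) : Set (MulAut (qStar F p Ph))) := by
    apply le_normalizer_of_conj_mem
    rintro s hs _ ⟨k, hk, rfl⟩
    refine ⟨⟨s, hHK hs⟩ * k * ⟨s, hHK hs⟩⁻¹, ?_, rfl⟩
    exact (MonoidHom.normal_ker (stabRes F hle)).conj_mem k hk _
  have hXp : IsPGroup p (cj β₀ (autInducedBy (θ.comp (Subgroup.inclusion hNle)).range
      (qStar F p Ph))) :=
    IsPGroup_cj _ (isPGroup_autInducedBy (hS.to_le hN'S) _)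
  have hX : cj β₀ (autInducedBy (θ.comp (Subgroup.inclusion hNle)).range (qStar F p Ph)) ≤
      autInducedBy (nrm2 S (qStar F p Ph) Ph) (qStar F p Ph) ⊔
        (stabRes F hle).ker.map (oneStab F (qStar F p Ph) Ph).subtype := by
    rintro _ ⟨u, hu, rfl⟩
    obtain ⟨g', hg', rfl⟩ := (mem_autInducedBy_iff' _ _ u).mp hu
    obtain ⟨⟨g, hgN⟩, hgg'⟩ := hg'.1
    have hgg : θ ⟨g, hNle hgN⟩ = g' := hgg'
    obtain ⟨hgS, hgP, h, hhS, hh⟩ := (mem_extender_iff S P φ g).mp hgN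
    have hhP : h ∈ Subgroup.normalizer (Ph : Set Ω) := gen_normalizes hr hgP hh
    have hhQ : h ∈ Subgroup.normalizer (qStar F p Ph : Set Ω) :=
      normalizerIn_le_normalizer_qStar F p hPhS ⟨hhS, hhP⟩
    have hg'NPh : g' ∈ normalizerIn S Ph := by rw [← hgg]; exact hθN _
    have hvT : normAut (qStar F p Ph) h hhQ ∈
        autInducedBy (nrm2 S (qStar F p Ph) Ph) (qStar F p Ph) :=
      (mem_autInducedBy_iff _ _ _).mpr ⟨h, ⟨⟨hhS, hhQ⟩, hhP⟩, fun x => rfl⟩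
    have huT : normAut (qStar F p Ph) g' hg'.2 ∈
        autInducedBy (nrm2 S (qStar F p Ph) Ph) (qStar F p Ph) :=
      (mem_autInducedBy_iff _ _ _).mpr ⟨g', ⟨⟨hg'NPh.1, hg'.2⟩, hg'NPh.2⟩, fun x => rfl⟩
    have hvK := hHK hvT
    have huK := hHK huT
    have hwK : β₀ * normAut (qStar F p Ph) g' hg'.2 * β₀⁻¹ ∈ oneStab F (qStar F p Ph) Ph :=
      Subgroup.mul_mem _ (Subgroup.mul_mem _ hβ₀ huK) (Subgroup.inv_mem _ hβ₀)
    have hres : stabRes F hle ⟨_, hwK⟩ = stabRes F hle ⟨_, hvK⟩ := by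
      have e1 : (⟨β₀ * normAut (qStar F p Ph) g' hg'.2 * β₀⁻¹, hwK⟩ :
          oneStab F (qStar F p Ph) Ph) =
          (⟨β₀, hβ₀⟩ : oneStab F (qStar F p Ph) Ph) * ⟨_, huK⟩ *
            (⟨β₀, hβ₀⟩ : oneStab F (qStar F p Ph) Ph)⁻¹ := rfl
      have e2 : stabRes F hle ⟨β₀, hβ₀⟩ = (eθ.symm.trans eφ : MulAut Ph) := by
        apply MulEquiv.ext; intro y
        apply Subtype.ext
        rw [stabRes_coe]; exact hβ₀e y
      rw [e1, map_mul, map_mul, map_inv, e2]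
      apply MulEquiv.ext; intro y
      -- write y = a z, z = θ x
      obtain ⟨z, rfl⟩ : ∃ z : Ph, (eθ.symm.trans eφ : MulAut Ph) z = y :=
        ⟨(eθ.symm.trans eφ : MulAut Ph).symm y, MulEquiv.apply_symm_apply _ _⟩
      apply Subtype.ext
      show (((eθ.symm.trans eφ : MulAut Ph) (stabRes F hle ⟨_, huK⟩
        ((eθ.symm.trans eφ : MulAut Ph)⁻¹ ((eθ.symm.trans eφ : MulAut Ph) z))) : Ph) : Ω) = _
      rw [MulAut.inv_apply_self, stabRes_coe]
      show _ = h * (((eθ.symm.trans eφ : MulAut Ph) z : Ph) : Ω) * h⁻¹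
      obtain ⟨x, hx, hxz⟩ := hθP.ge z.2
      have hxP : (x : Ω) ∈ P := Subgroup.mem_subgroupOf.mp hx
      have hze : z = ⟨θ ⟨(⟨x, hxP⟩ : P), hPN hxP⟩, by
          have : (⟨((⟨x, hxP⟩ : P) : Ω), hPN hxP⟩ : normalizerIn S P) = x := Subtype.ext rfl
          rw [this, hxz]; exact z.2⟩ := by
        apply Subtype.ext
        have : (⟨((⟨x, hxP⟩ : P) : Ω), hPN hxP⟩ : normalizerIn S P) = x := Subtype.ext rfl
        show (z : Ω) = θ ⟨((⟨x, hxP⟩ : P) : Ω), hPN hxP⟩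
        rw [this, hxz]
      have hcx : g * ((⟨x, hxP⟩ : P) : Ω) * g⁻¹ ∈ P :=
        (Subgroup.mem_normalizer_iff.mp hgP _).mp hxP
      have h2 := hakey ⟨x, hxP⟩ (by
        have : (⟨((⟨x, hxP⟩ : P) : Ω), hPN hxP⟩ : normalizerIn S P) = x := Subtype.ext rfl
        rw [this, hxz]; exact z.2)
      have h3 : (((eθ.symm.trans eφ : MulAut Ph) z : Ph) : Ω) = φ ⟨x, hxP⟩ := by
        rw [hze]; exact h2
      rw [h3, ← hh ⟨x, hxP⟩ hcx]
      -- the left side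
      have hθc : θ ⟨g * ((⟨x, hxP⟩ : P) : Ω) * g⁻¹, hPN hcx⟩ ∈ Ph :=
        hθP.le ⟨_, Subgroup.mem_subgroupOf.mpr hcx, rfl⟩
      have h4 := hakey ⟨g * ((⟨x, hxP⟩ : P) : Ω) * g⁻¹, hcx⟩ hθc
      rw [← h4]
      congr 2
      apply Subtype.ext
      show ((normAut (qStar F p Ph) g' hg'.2 ⟨z, hle z.2⟩ : qStar F p Ph) : Ω) = _
      rw [normAut_coe]
      show g' * (z : Ω) * g'⁻¹ = θ ⟨g * (x : Ω) * g⁻¹, _⟩
      have e5 : (⟨g * (x : Ω) * g⁻¹, hPN hcx⟩ : normalizerIn S P) =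
          ⟨g, hNle hgN⟩ * x * ⟨g, hNle hgN⟩⁻¹ := Subtype.ext rfl
      rw [e5, map_mul, map_mul, map_inv, hgg, hxz]
    have hmem : (normAut (qStar F p Ph) h hhQ)⁻¹ *
        (β₀ * normAut (qStar F p Ph) g' hg'.2 * β₀⁻¹) ∈
        (stabRes F hle).ker.map (oneStab F (qStar F p Ph) Ph).subtype := by
      refine ⟨(⟨_, hvK⟩ : oneStab F (qStar F p Ph) Ph)⁻¹ * ⟨_, hwK⟩, ?_, rfl⟩
      apply MonoidHom.mem_ker.mpr
      rw [map_mul, map_inv, hres, inv_mul_cancel]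
    have e6 : β₀ * normAut (qStar F p Ph) g' hg'.2 * β₀⁻¹ =
        normAut (qStar F p Ph) h hhQ * ((normAut (qStar F p Ph) h hhQ)⁻¹ *
        (β₀ * normAut (qStar F p Ph) g' hg'.2 * β₀⁻¹)) := by group
    show β₀ * normAut (qStar F p Ph) g' hg'.2 * β₀⁻¹ ∈ _
    rw [e6]
    exact Subgroup.mul_mem _ (Subgroup.mem_sup_left hvT) (Subgroup.mem_sup_right hmem)
  obtain ⟨κ, hκ, hκX⟩ := exists_normal_cj_le hsyl hHK hMK hnorm hXp hX
  obtain ⟨k₀, hk₀, rfl⟩ := hκ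
  have hβK : (k₀ : MulAut (qStar F p Ph)) * β₀ ∈ oneStab F (qStar F p Ph) Ph :=
    Subgroup.mul_mem _ k₀.2 hβ₀
  have hβF : IsFIso F ((k₀ : MulAut (qStar F p Ph)) * β₀) :=
    (mem_autGroup_iff F hQS _).mp hβK.1
  have hβe : ∀ y : Ph, ((((k₀ : MulAut (qStar F p Ph)) * β₀) ⟨y, hle y.2⟩ : qStar F p Ph) : Ω) =
      (((eθ.symm.trans eφ : MulAut Ph) y : Ph) : Ω) := by
    intro y
    have h1 : stabRes F hle ⟨_, hβK⟩ = stabRes F hle k₀ * stabRes F hle ⟨β₀, hβ₀⟩ := by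
      rw [← map_mul]; rfl
    rw [MonoidHom.mem_ker.mp hk₀, one_mul] at h1
    have h2 : ((stabRes F hle ⟨_, hβK⟩ y : Ph) : Ω) = ((stabRes F hle ⟨β₀, hβ₀⟩ y : Ph) : Ω) := by
      rw [h1]
    rw [stabRes_coe, stabRes_coe] at h2
    rw [h2]; exact hβ₀e y
  -- the image of the extender lies in the extender of `β`
  have hNext : ∀ z : extender S P φ, (θ.comp (Subgroup.inclusion hNle)) z ∈
      extender S (qStar F p Ph) ((qStar F p Ph).subtype.comp
        ((k₀ : MulAut (qStar F p Ph)) * β₀).toMonoidHom) := by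
    intro z
    have hzn : (θ.comp (Subgroup.inclusion hNle)) z ∈ normalizerIn S (qStar F p Ph) :=
      ⟨(hθN _).1, hnQ _⟩
    apply mem_extender_of_aut _ hzn
    have h1 : normAut (qStar F p Ph) ((θ.comp (Subgroup.inclusion hNle)) z) hzn.2 ∈
        autInducedBy (θ.comp (Subgroup.inclusion hNle)).range (qStar F p Ph) :=
      (mem_autInducedBy_iff _ _ _).mpr ⟨_, ⟨z, rfl⟩, fun x => rfl⟩
    have h2 := hκX (conj_mem_cj _ _ (conj_mem_cj β₀ _ h1))
    have e3 : (k₀ : MulAut (qStar F p Ph)) * β₀ *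
        normAut (qStar F p Ph) ((θ.comp (Subgroup.inclusion hNle)) z) hzn.2 *
        ((k₀ : MulAut (qStar F p Ph)) * β₀)⁻¹ =
        (k₀ : MulAut (qStar F p Ph)) * (β₀ *
        normAut (qStar F p Ph) ((θ.comp (Subgroup.inclusion hNle)) z) hzn.2 * β₀⁻¹) *
        (k₀ : MulAut (qStar F p Ph))⁻¹ := by group
    rw [e3]
    exact autInducedBy_mono' (nrm2_le S _ _) _ h2
  obtain ⟨ψ₁, hψ₁, hψ₁e⟩ := hrec.2 (qStar F p Ph) _ hβF (range_subtype_comp _)
  refine ⟨ψ₁.comp ((θ.comp (Subgroup.inclusion hNle)).codRestrict _ hNext),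
    F.comp_mem hθNmem hψ₁ hNext, ?_⟩
  intro x hxP hxN
  have hθx : θ ⟨x, hPN hxP⟩ ∈ Ph := hθP.le ⟨_, Subgroup.mem_subgroupOf.mpr hxP, rfl⟩
  show ψ₁ ⟨(θ.comp (Subgroup.inclusion hNle)) ⟨x, hxN⟩, hNext _⟩ = φ ⟨x, hxP⟩
  have h1 := hψ₁e (θ ⟨x, hPN hxP⟩) (hle hθx) (hNext ⟨x, hxN⟩)
  have h2 := hβe ⟨θ ⟨x, hPN hxP⟩, hθx⟩
  have h3 := hakey ⟨x, hxP⟩ hθx
  rw [← h3, ← h2]
  exact h1

end Cfsg.Agent.helper25
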