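import Cfsg.Agent.Lib_helper25_SatCrit1

set_option autoImplicit false
set_option linter.style.haveILetI false
set_option linter.unusedVariables false
set_option maxHeartbeats 1000000

namespace Cfsg.Agent.helper25

open Cfsg Cfsg.FusionSystem

variable {Ω : Type*} [Group Ω] {S : Subgroup Ω}

theorem autInducedBy_mono' {K K' : Subgroup Ω} (h : K ≤ K') (P : Subgroup Ω) :
    autInducedBy K P ≤ autInducedBy K' P := by
  intro α hα
  obtain ⟨g, hg, hgα⟩ := (mem_autInducedBy_iff K P α).mp hα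
  exact (mem_autInducedBy_iff K' P α).mpr ⟨g, h hg, hgα⟩

/-- the extension lemma for good pairs: an isomorphism onto the larger member of a good pair can
be corrected by an element of a normal subgroup `B` of the stabilizer so as to extend over any
subgroup `M` of `N_S(R)` whose transported action lies in `B`. -/
theorem goodPair_extend [Finite S] {p : ℕ} [Fact p.Prime] (hS : IsPGroup p S)
    (F : FusionSystem S) {R₀ P₀ : Subgroup Ω} (hgood : IsGoodPair F p R₀ P₀)
    {B : Subgroup (MulAut R₀)} (hB : B ≤ oneStab F R₀ P₀)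
    (hBn : oneStab F R₀ P₀ ≤ Subgroup.normalizer (B : Set (MulAut R₀)))
    {R : Subgroup Ω} (e : R ≃* R₀) (he : IsFIso F e) {M : Subgroup Ω}
    (hM : M ≤ normalizerIn S R)
    (hMB : ∀ (g : Ω) (hg : g ∈ M), MulAut.congr e (normAut R g (hM hg).2) ∈ B) :
    ∃ b ∈ B, ∃ ψ ∈ F.Hom (R ⊔ M),
      ∀ x : R, ψ (Subgroup.inclusion le_sup_left x) = ((b (e x) : R₀) : Ω) := by
  obtain ⟨hP₀R₀, hrec, hsyl⟩ := hgood
  have hR₀S := hrec.1
  have hRS : R ≤ S := he.le_left
  haveI : Finite R₀ := finite_of_le S hR₀S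
  haveI : Finite R := finite_of_le S hRS
  have hT₀A : autInducedBy (nrm2 S R₀ P₀) R₀ ≤ oneStab F R₀ P₀ := autInducedBy_nrm2_le F hR₀S
  have hsylB : IsSylowIn p (autInducedBy (nrm2 S R₀ P₀) R₀ ⊓ B) B :=
    isSylowIn_inf_of_normal hT₀A hsyl hB hBn
  have hXp : IsPGroup p ((autInducedBy M R).map (MulAut.congr e).toMonoidHom) :=
    (isPGroup_autInducedBy (hS.to_le (hM.trans inf_le_left)) R).map _
  have hXB : (autInducedBy M R).map (MulAut.congr e).toMonoidHom ≤ B := by
    rintro _ ⟨α, hα, rfl⟩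
    obtain ⟨g, hg, rfl⟩ := (mem_autInducedBy_iff' M R α).mp hα
    exact hMB g hg.1
  obtain ⟨b, hb, hbX⟩ := exists_cj_le_of_isSylowIn hsylB hXB hXp
  have hbiso : IsFIso F b := (mem_autGroup_iff F hR₀S b).mp (hB hb).1
  have he' : IsFIso F (e.trans b) := he.trans hbiso
  have hle : R ⊔ M ≤ extender S R (R₀.subtype.comp (e.trans b).toMonoidHom) := by
    apply sup_le (le_extender F he')
    intro g hg
    have hgN : g ∈ normalizerIn S R := hM hg
    apply mem_extender_of_iso (e.trans b) hgN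
    have h1 : MulAut.congr (e.trans b) (normAut R g hgN.2) ∈
        cj b ((autInducedBy M R).map (MulAut.congr e).toMonoidHom) := by
      refine ⟨MulAut.congr e (normAut R g hgN.2), ⟨normAut R g hgN.2, ?_, rfl⟩, ?_⟩
      · exact (mem_autInducedBy_iff' M R _).mpr ⟨g, ⟨hg, hgN.2⟩, rfl⟩
      · apply MulEquiv.ext; intro y; rfl
    have h2 := hbX h1
    exact autInducedBy_mono' (nrm2_le S R₀ P₀) R₀ h2.1
  obtain ⟨ψ, hψ, hψe⟩ := hrec.2 R _ he' (range_subtype_comp (e.trans b))
  refine ⟨b, hb, ψ.comp (Subgroup.inclusion hle), restrict_mem F hle hψ, fun x => ?_⟩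
  exact hψe x x.2 _

end Cfsg.Agent.helper25
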