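import Cfsg.Agent.Lib_helper25_SatCrit2
import Cfsg.Agent.Lib_helper25_NormSat4

set_option autoImplicit false
set_option linter.style.haveILetI false
set_option linter.unusedVariables false
set_option maxHeartbeats 1000000

namespace Cfsg.Agent.helper25

open Cfsg Cfsg.FusionSystem

variable {Ω : Type*} [Group Ω] {S : Subgroup Ω}

/-- some map of the system carries `N_S(P)` into `N_S(P')` and `P` onto `P'`. -/
def NLe (F : FusionSystem S) (P P' : Subgroup Ω) : Prop :=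
  ∃ θ ∈ F.Hom (normalizerIn S P), (∀ x, θ x ∈ normalizerIn S P') ∧
    (P.subgroupOf (normalizerIn S P)).map θ = P'

theorem NLe.refl (F : FusionSystem S) {P : Subgroup Ω} (hP : P ≤ S) : NLe F P P := by
  refine ⟨(normalizerIn S P).subtype, subtype_mem F inf_le_left, fun x => x.2, ?_⟩
  ext y; constructor
  · rintro ⟨z, hz, rfl⟩; exact Subgroup.mem_subgroupOf.mp hz
  · intro hy
    exact ⟨⟨y, le_normalizerIn hP hy⟩, Subgroup.mem_subgroupOf.mpr hy, rfl⟩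

theorem map_sub_normalizer {D P : Subgroup Ω} (hDN : D ≤ Subgroup.normalizer (P : Set Ω))
    (μ : D →* Ω) [Finite ((P.subgroupOf D).map μ : Subgroup Ω)] (z : D) :
    μ z ∈ Subgroup.normalizer (((P.subgroupOf D).map μ : Subgroup Ω) : Set Ω) := by
  apply Subgroup.mem_normalizer_fintype
  rintro _ ⟨x, hx, rfl⟩
  refine ⟨z * x * z⁻¹, ?_, by rw [map_mul, map_mul, map_inv]⟩
  apply Subgroup.mem_subgroupOf.mpr
  have hxP : (x : Ω) ∈ P := Subgroup.mem_subgroupOf.mp hx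
  exact (Subgroup.mem_normalizer_iff.mp (hDN z.2) _).mp hxP

theorem map_comp_codRestrict {D N P : Subgroup Ω} (μ : D →* Ω) (hval : ∀ z, μ z ∈ N)
    (θ : N →* Ω) :
    (P.subgroupOf D).map (θ.comp (μ.codRestrict N hval)) =
      (((P.subgroupOf D).map μ).subgroupOf N).map θ := by
  ext y; constructor
  · rintro ⟨z, hz, rfl⟩
    exact ⟨⟨μ z, hval z⟩, Subgroup.mem_subgroupOf.mpr ⟨z, hz, rfl⟩, rfl⟩
  · rintro ⟨w, hw, rfl⟩
    obtain ⟨z, hz, hzw⟩ := Subgroup.mem_subgroupOf.mp hw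
    refine ⟨z, hz, ?_⟩
    show θ ⟨μ z, hval z⟩ = θ w
    congr 1
    exact Subtype.ext hzw

theorem le_nrm2_of_le {R P : Subgroup Ω} (hRP : R ≤ normalizerIn S P) : R ≤ nrm2 S R P :=
  fun x hx => ⟨⟨(hRP hx).1, Subgroup.le_normalizer hx⟩, (hRP hx).2⟩

theorem nrm2_le_normalizerIn (S R P : Subgroup Ω) : nrm2 S R P ≤ normalizerIn S P :=
  fun x hx => ⟨hx.1.1, hx.2⟩

theorem lt_nrm2 [Finite S] {p : ℕ} [Fact p.Prime] (hS : IsPGroup p S) {R P : Subgroup Ω}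
    (hRlt : R < normalizerIn S P) : R < nrm2 S R P := by
  haveI : Finite (normalizerIn S P) := finite_of_le S inf_le_left
  haveI : Finite (S ⊓ Subgroup.normalizer (P : Set Ω) : Subgroup Ω) := finite_of_le S inf_le_left
  have h1 : R < normalizerIn (normalizerIn S P) R :=
    lt_normalizerIn (hS.to_le inf_le_left) hRlt
  apply lt_of_lt_of_le h1
  intro x hx
  exact ⟨⟨hx.1.1, hx.2⟩, hx.1.2⟩

/-- push a pair into a good pair along an extension to `N_S(R) ∩ N_S(P)`. -/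
theorem pair_push [Finite S] {p : ℕ} [Fact p.Prime] (hS : IsPGroup p S)
    (F : FusionSystem S) {R₀ P₀ : Subgroup Ω} (hgood : IsGoodPair F p R₀ P₀)
    {R P : Subgroup Ω} (hRP : R ≤ normalizerIn S P) (e : R ≃* R₀) (he : IsFIso F e)
    (heP : ∀ x : R, ((e x : R₀) : Ω) ∈ P₀ ↔ (x : Ω) ∈ P) (hPR : P ≤ R) :
    ∃ μ ∈ F.Hom (R ⊔ nrm2 S R P), (∀ z, μ z ∈ normalizerIn S P₀) ∧
      (P.subgroupOf (R ⊔ nrm2 S R P)).map μ = P₀ ∧
      (R.subgroupOf (R ⊔ nrm2 S R P)).map μ = R₀ := by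
  have hRS : R ≤ S := he.le_left
  have hR₀S : R₀ ≤ S := hgood.2.1.1
  have hP₀R₀ : P₀ ≤ R₀ := hgood.1
  haveI : Finite R := finite_of_le S hRS
  haveI : Finite P₀ := finite_of_le S (hP₀R₀.trans hR₀S)
  have hM : nrm2 S R P ≤ normalizerIn S R := inf_le_left
  have hMB : ∀ (g : Ω) (hg : g ∈ nrm2 S R P),
      MulAut.congr e (normAut R g (hM hg).2) ∈ oneStab F R₀ P₀ := by
    intro g hg
    refine ⟨he.congr_mem_autGroup (autInducedBy_le_autGroup F hRS (normAut_mem S R (hM hg))), ?_⟩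
    exact congr_mem_stabIn e heP (normAut_mem_stabIn (hM hg).2 hg.2)
  obtain ⟨b, hb, μ, hμ, hμe⟩ := goodPair_extend hS F hgood le_rfl Subgroup.le_normalizer e he hM hMB
  have hmap : (P.subgroupOf (R ⊔ nrm2 S R P)).map μ = P₀ := by
    ext y; constructor
    · rintro ⟨z, hz, rfl⟩
      have hzP : (z : Ω) ∈ P := Subgroup.mem_subgroupOf.mp hz
      have e1 : z = Subgroup.inclusion le_sup_left (⟨z, hPR hzP⟩ : R) := Subtype.ext rfl
      rw [e1, hμe]
      exact (hb.2 _).mpr ((heP _).mpr hzP)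
    · intro hy
      have h1 : (((b⁻¹ : MulAut R₀) ⟨y, hP₀R₀ hy⟩ : R₀) : Ω) ∈ P₀ :=
        ((Subgroup.inv_mem _ hb).2 ⟨y, hP₀R₀ hy⟩).mpr hy
      have h2 : ((e.symm ((b⁻¹ : MulAut R₀) ⟨y, hP₀R₀ hy⟩) : R) : Ω) ∈ P := by
        rw [← heP, MulEquiv.apply_symm_apply]; exact h1
      refine ⟨Subgroup.inclusion le_sup_left (e.symm ((b⁻¹ : MulAut R₀) ⟨y, hP₀R₀ hy⟩)),
        Subgroup.mem_subgroupOf.mpr h2, ?_⟩
      rw [hμe, MulEquiv.apply_symm_apply, MulAut.apply_inv_self]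
  have hmapR : (R.subgroupOf (R ⊔ nrm2 S R P)).map μ = R₀ := by
    ext y; constructor
    · rintro ⟨z, hz, rfl⟩
      have hzR : (z : Ω) ∈ R := Subgroup.mem_subgroupOf.mp hz
      have e1 : z = Subgroup.inclusion le_sup_left (⟨z, hzR⟩ : R) := Subtype.ext rfl
      rw [e1, hμe]
      exact (b _).2
    · intro hy
      refine ⟨Subgroup.inclusion le_sup_left (e.symm ((b⁻¹ : MulAut R₀) ⟨y, hy⟩)),
        Subgroup.mem_subgroupOf.mpr (e.symm ((b⁻¹ : MulAut R₀) ⟨y, hy⟩)).2, ?_⟩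
      rw [hμe, MulEquiv.apply_symm_apply, MulAut.apply_inv_self]
  refine ⟨μ, hμ, ?_, hmap, hmapR⟩
  intro z
  refine ⟨(F.le_of_mem hμ).2 z, ?_⟩
  have hDN : R ⊔ nrm2 S R P ≤ Subgroup.normalizer (P : Set Ω) :=
    sup_le (hRP.trans inf_le_right) inf_le_right
  haveI : Finite ((P.subgroupOf (R ⊔ nrm2 S R P)).map μ : Subgroup Ω) := by
    rw [hmap]; infer_instance
  have h := map_sub_normalizer hDN μ z
  rw [hmap] at h
  exact h

end Cfsg.Agent.helper25
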