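import Cfsg.Agent.Lib_helper25_SatCrit3

set_option autoImplicit false
set_option linter.style.haveILetI false
set_option linter.unusedVariables false
set_option maxHeartbeats 1000000

namespace Cfsg.Agent.helper25

open Cfsg Cfsg.FusionSystem

variable {Ω : Type*} [Group Ω] {S : Subgroup Ω}

/-- a single step defined on a subgroup properly containing `P` inside `N_S(P)` and landing in
the normalizer of a fully normalized conjugate yields a map of the whole normalizer. -/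
theorem NLe_of_step [Finite S] {p : ℕ} [Fact p.Prime] (hS : IsPGroup p S) (F : FusionSystem S)
    {n : ℕ} (hsat : SatAbove F p n) {Ph : Subgroup Ω} (hPh : F.IsFullyNormalized Ph) :
    ∀ (k : ℕ) (P R : Subgroup Ω) (ψ : R →* Ω), P ≤ R → R ≤ normalizerIn S P → n < Nat.card R →
      ψ ∈ F.Hom R → (∀ x, ψ x ∈ normalizerIn S Ph) → (P.subgroupOf R).map ψ = Ph →
      Nat.card S - Nat.card R ≤ k → NLe F P Ph := by
  intro k
  induction k using Nat.strong_induction_on with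
  | _ k ih =>
  intro P R ψ hPR hRN hn hψ hψN hψP hk
  have hRS : R ≤ S := hRN.trans inf_le_left
  have hPS : P ≤ S := hPR.trans hRS
  haveI : Finite R := finite_of_le S hRS
  haveI : Finite (normalizerIn S P) := finite_of_le S inf_le_left
  haveI : Finite (normalizerIn S Ph) := finite_of_le S inf_le_left
  by_cases hRe : R = normalizerIn S P
  · refine ⟨ψ.comp (Subgroup.inclusion hRe.ge), hom_congr F hRe hψ, fun x => hψN _, ?_⟩
    rw [map_comp_inclusion hRe.ge (le_normalizerIn hPS) ψ]; exact hψP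
  · have hRlt : R < normalizerIn S P := lt_of_le_of_ne hRN hRe
    obtain ⟨eψ, heψ, heψcoe⟩ := exists_isFIso_of_mem F hψ rfl
    have hR'N : ψ.range ≤ normalizerIn S Ph := by rintro _ ⟨x, rfl⟩; exact hψN x
    have hPhR' : Ph ≤ ψ.range := by
      rw [← hψP]; rintro _ ⟨x, -, rfl⟩; exact ⟨x, rfl⟩
    have hcardR' : Nat.card ψ.range = Nat.card R := (Nat.card_congr eψ.toEquiv).symm
    have hconj : F.IsConj P Ph :=
      ⟨ψ.comp (Subgroup.inclusion hPR), restrict_mem F hPR hψ, by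
        rw [range_restrict_eq_map, hψP]⟩
    have hR'lt : ψ.range < normalizerIn S Ph := by
      apply lt_of_le_of_ne hR'N
      intro hR'e
      apply hRe
      apply Subgroup.eq_of_le_of_card_ge hRN
      have h1 := hPh.2 P (isConj_symm F hconj)
      rw [← hcardR', hR'e]; exact h1
    obtain ⟨R₀, P₀, e, he, hgood, heP⟩ := exists_goodPair hS F hPR hRS (hsat R hRS hn)
    obtain ⟨μ, hμ, hμN, hμP, -⟩ := pair_push hS F hgood hRN e he heP hPR
    have he' : IsFIso F (eψ.symm.trans e) := heψ.symm.trans he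
    have he'P : ∀ y : ψ.range, (((eψ.symm.trans e) y : R₀) : Ω) ∈ P₀ ↔ (y : Ω) ∈ Ph := by
      intro y
      show ((e (eψ.symm y) : R₀) : Ω) ∈ P₀ ↔ _
      rw [heP]
      have hy : (y : Ω) = ψ (eψ.symm y) := by rw [← heψcoe, MulEquiv.apply_symm_apply]
      constructor
      · intro h; rw [hy, ← hψP]; exact ⟨_, Subgroup.mem_subgroupOf.mpr h, rfl⟩
      · intro h
        rw [← hψP] at h
        obtain ⟨x, hx, hxy⟩ := h
        have hxe : x = eψ.symm y := F.injective_of_mem hψ (hxy.trans hy)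
        rw [← hxe]; exact Subgroup.mem_subgroupOf.mp hx
    obtain ⟨μ', hμ', hμ'N, hμ'P, -⟩ :=
      pair_push hS F hgood hR'N (eψ.symm.trans e) he' he'P hPhR'
    -- sizes
    have hDS : R ⊔ nrm2 S R P ≤ S := sup_le hRS (nrm2_le S R P)
    have hD'S : ψ.range ⊔ nrm2 S ψ.range Ph ≤ S :=
      sup_le (hR'N.trans inf_le_left) (nrm2_le S _ _)
    haveI : Finite (R ⊔ nrm2 S R P : Subgroup Ω) := finite_of_le S hDS
    haveI : Finite (ψ.range ⊔ nrm2 S ψ.range Ph : Subgroup Ω) := finite_of_le S hD'S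
    have hlt1 : Nat.card R < Nat.card (R ⊔ nrm2 S R P : Subgroup Ω) :=
      card_lt_of_lt' (lt_of_lt_of_le (lt_nrm2 hS hRlt) le_sup_right)
    have hlt2 : Nat.card R < Nat.card (ψ.range ⊔ nrm2 S ψ.range Ph : Subgroup Ω) := by
      rw [← hcardR']
      exact card_lt_of_lt' (lt_of_lt_of_le (lt_nrm2 hS hR'lt) le_sup_right)
    have hle1 : Nat.card (R ⊔ nrm2 S R P : Subgroup Ω) ≤ Nat.card S :=
      Subgroup.card_le_of_le hDS
    have hle2 : Nat.card (ψ.range ⊔ nrm2 S ψ.range Ph : Subgroup Ω) ≤ Nat.card S :=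
      Subgroup.card_le_of_le hD'S
    -- inverse of μ'
    obtain ⟨ι, hι, hιr, hι1, hι2⟩ := exists_inv_hom F hμ' rfl
    have hcardμ' : Nat.card μ'.range = Nat.card (ψ.range ⊔ nrm2 S ψ.range Ph : Subgroup Ω) :=
      (Nat.card_congr (MonoidHom.ofInjective (F.injective_of_mem hμ')).toEquiv).symm
    have hP₀le : P₀ ≤ μ'.range := by
      rw [← hμ'P]; rintro _ ⟨x, -, rfl⟩; exact ⟨x, rfl⟩
    have hrN : μ'.range ≤ normalizerIn S P₀ := by rintro _ ⟨x, rfl⟩; exact hμ'N x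
    have hιN : ∀ y, ι y ∈ normalizerIn S Ph := by
      intro y
      have h1 : ι y ∈ ψ.range ⊔ nrm2 S ψ.range Ph := hιr.le ⟨y, rfl⟩
      exact (sup_le hR'N (nrm2_le_normalizerIn S _ _)) h1
    have hιP : (P₀.subgroupOf μ'.range).map ι = Ph := by
      ext y; constructor
      · rintro ⟨w, hw, rfl⟩
        have hwP₀ : (w : Ω) ∈ P₀ := Subgroup.mem_subgroupOf.mp hw
        rw [← hμ'P] at hwP₀
        obtain ⟨z, hz, hzw⟩ := hwP₀
        have hmem : μ' z ∈ μ'.range := ⟨z, rfl⟩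
        have hwe : w = ⟨μ' z, hmem⟩ := Subtype.ext hzw.symm
        rw [hwe, hι1 z hmem]; exact Subgroup.mem_subgroupOf.mp hz
      · intro hy
        have hyD : y ∈ ψ.range ⊔ nrm2 S ψ.range Ph := Subgroup.mem_sup_left (hPhR' hy)
        refine ⟨⟨μ' ⟨y, hyD⟩, ⟨_, rfl⟩⟩, ?_, hι1 ⟨y, hyD⟩ _⟩
        apply Subgroup.mem_subgroupOf.mpr
        show μ' ⟨y, hyD⟩ ∈ P₀
        rw [← hμ'P]; exact ⟨⟨y, hyD⟩, Subgroup.mem_subgroupOf.mpr hy, rfl⟩
    have hcall1 : NLe F P₀ Ph :=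
      ih (Nat.card S - Nat.card μ'.range) (by rw [hcardμ']; omega) P₀ μ'.range ι hP₀le hrN
        (by rw [hcardμ']; omega) hι hιN hιP le_rfl
    obtain ⟨θ₀, hθ₀, hθ₀N, hθ₀P⟩ := hcall1
    have hψ₂ := F.comp_mem hμ hθ₀ hμN
    have hψ₂P : (P.subgroupOf (R ⊔ nrm2 S R P)).map (θ₀.comp (μ.codRestrict _ hμN)) = Ph := by
      rw [map_comp_codRestrict, hμP]; exact hθ₀P
    exact ih (Nat.card S - Nat.card (R ⊔ nrm2 S R P : Subgroup Ω)) (by omega) P
      (R ⊔ nrm2 S R P) _ (hPR.trans le_sup_left) (sup_le hRN (nrm2_le_normalizerIn S R P))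
      (by omega) hψ₂ (fun x => hθ₀N _) hψ₂P le_rfl

end Cfsg.Agent.helper25
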