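import Cfsg.Agent.Lib_helper25_SatCrit4

set_option autoImplicit false
set_option linter.style.haveILetI false
set_option linter.unusedVariables false
set_option maxHeartbeats 1000000

namespace Cfsg.Agent.helper25

open Cfsg Cfsg.FusionSystem

variable {Ω : Type*} [Group Ω] {S : Subgroup Ω}

/-- pull the relation back along a map defined on a strictly larger subgroup. -/
theorem NLe_of_map [Finite S] {p : ℕ} [Fact p.Prime] (hS : IsPGroup p S) (F : FusionSystem S)
    {n : ℕ} (hsat : SatAbove F p n) {Ph : Subgroup Ω} (hPh : F.IsFullyNormalized Ph)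
    {Q P : Subgroup Ω} (hPQ : P ≤ Q) (hcard : Nat.card P = n) (hlt : n < Nat.card Q)
    {ψ : Q →* Ω} (hψ : ψ ∈ F.Hom Q) (h : NLe F ((P.subgroupOf Q).map ψ) Ph) : NLe F P Ph := by
  have hQS : Q ≤ S := (F.le_of_mem hψ).1
  haveI : Finite Q := finite_of_le S hQS
  have hQp : IsPGroup p Q := hS.to_le hQS
  have hPltQ : P < Q := by
    apply lt_of_le_of_ne hPQ
    intro he
    rw [he] at hcard
    omega
  have hPltR : P < normalizerIn Q P := lt_normalizerIn hQp hPltQ
  have hRQ : normalizerIn Q P ≤ Q := inf_le_left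
  haveI : Finite (normalizerIn Q P) := finite_of_le S (hRQ.trans hQS)
  have hψR := restrict_mem F hRQ hψ
  have hmapR : (P.subgroupOf (normalizerIn Q P)).map (ψ.comp (Subgroup.inclusion hRQ)) =
      (P.subgroupOf Q).map ψ := map_comp_inclusion hRQ hPltR.le ψ
  have hP'S : (P.subgroupOf Q).map ψ ≤ S := by
    rintro _ ⟨x, -, rfl⟩; exact (F.le_of_mem hψ).2 x
  haveI : Finite ((P.subgroupOf Q).map ψ : Subgroup Ω) := finite_of_le S hP'S
  haveI : Finite ((P.subgroupOf (normalizerIn Q P)).map (ψ.comp (Subgroup.inclusion hRQ)) :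
      Subgroup Ω) := by rw [hmapR]; infer_instance
  have hval : ∀ z : normalizerIn Q P, (ψ.comp (Subgroup.inclusion hRQ)) z ∈
      normalizerIn S ((P.subgroupOf Q).map ψ) := by
    intro z
    refine ⟨(F.le_of_mem hψR).2 z, ?_⟩
    have hDN : normalizerIn Q P ≤ Subgroup.normalizer (P : Set Ω) := inf_le_right
    have h1 := map_sub_normalizer (D := normalizerIn Q P) (P := P) hDN
      (ψ.comp (Subgroup.inclusion hRQ)) z
    rw [hmapR] at h1
    exact h1
  obtain ⟨θ', hθ', hθ'N, hθ'P⟩ := h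
  have hψ₂ := F.comp_mem hψR hθ' hval
  have hψ₂P : (P.subgroupOf (normalizerIn Q P)).map
      (θ'.comp ((ψ.comp (Subgroup.inclusion hRQ)).codRestrict _ hval)) = Ph := by
    rw [map_comp_codRestrict, hmapR]; exact hθ'P
  have hn : n < Nat.card (normalizerIn Q P) := by
    rw [← hcard]; exact card_lt_of_lt' hPltR
  have hRN : normalizerIn Q P ≤ normalizerIn S P := fun x hx => ⟨hQS hx.1, hx.2⟩
  exact NLe_of_step hS F hsat hPh _ P (normalizerIn Q P) _ hPltR.le hRN hn hψ₂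
    (fun x => hθ'N _) hψ₂P le_rfl

/-- the property defining the auxiliary system. -/
def AProp (F : FusionSystem S) (ℋ : Set (Subgroup Ω)) (n : ℕ) (P : Subgroup Ω) (φ : P →* Ω) :
    Prop :=
  Nat.card P = n → P ∉ ℋ → ∀ Ph : Subgroup Ω, F.IsFullyNormalized Ph →
    (NLe F P Ph ↔ NLe F φ.range Ph)

theorem aProp_of_restrict [Finite S] {p : ℕ} [Fact p.Prime] (hS : IsPGroup p S)
    (F : FusionSystem S) {n : ℕ} (hsat : SatAbove F p n) (ℋ : Set (Subgroup Ω))
    {Q P : Subgroup Ω} (hPQ : P ≤ Q) (hlt : n < Nat.card Q) {ψ : Q →* Ω} (hψ : ψ ∈ F.Hom Q) :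
    AProp F ℋ n P (ψ.comp (Subgroup.inclusion hPQ)) := by
  intro hcard hP Ph hPh
  have hQS : Q ≤ S := (F.le_of_mem hψ).1
  haveI : Finite Q := finite_of_le S hQS
  rw [range_restrict_eq_map]
  constructor
  · intro h
    -- use the inverse of ψ
    obtain ⟨ι, hι, hιr, hι1, hι2⟩ := exists_inv_hom F hψ rfl
    have hP'le : (P.subgroupOf Q).map ψ ≤ ψ.range := by
      rintro _ ⟨x, -, rfl⟩; exact ⟨x, rfl⟩
    have hcard' : Nat.card ((P.subgroupOf Q).map ψ : Subgroup Ω) = n := by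
      rw [Subgroup.card_map_of_injective (F.injective_of_mem hψ), card_subgroupOf_of_le hPQ]
      exact hcard
    have hlt' : n < Nat.card ψ.range := by
      rw [← Nat.card_congr (MonoidHom.ofInjective (F.injective_of_mem hψ)).toEquiv]; exact hlt
    have hback : (((P.subgroupOf Q).map ψ).subgroupOf ψ.range).map ι = P := by
      ext y; constructor
      · rintro ⟨w, hw, rfl⟩
        obtain ⟨x, hx, hxw⟩ := Subgroup.mem_subgroupOf.mp hw
        have hmem : ψ x ∈ ψ.range := ⟨x, rfl⟩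
        have hwe : w = ⟨ψ x, hmem⟩ := Subtype.ext hxw.symm
        rw [hwe, hι1 x hmem]; exact Subgroup.mem_subgroupOf.mp hx
      · intro hy
        have hmem : ψ ⟨y, hPQ hy⟩ ∈ ψ.range := ⟨_, rfl⟩
        refine ⟨⟨ψ ⟨y, hPQ hy⟩, hmem⟩, ?_, hι1 ⟨y, hPQ hy⟩ hmem⟩
        apply Subgroup.mem_subgroupOf.mpr
        exact ⟨⟨y, hPQ hy⟩, Subgroup.mem_subgroupOf.mpr hy, rfl⟩
    apply NLe_of_map hS F hsat hPh hP'le hcard' hlt' hι
    rw [hback]; exact h
  · intro h
    exact NLe_of_map hS F hsat hPh hPQ hcard hlt hψ h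

/-- the auxiliary system of maps respecting the relation. -/
def aSystem [Finite S] {p : ℕ} [Fact p.Prime] (hS : IsPGroup p S) (F : FusionSystem S) {n : ℕ}
    (hsat : SatAbove F p n) (hnS : n < Nat.card S) (ℋ : Set (Subgroup Ω))
    (hℋ : ∀ P ∈ ℋ, ∀ Q, F.IsConj P Q → Q ∈ ℋ) : FusionSystem S where
  Hom P := {φ | φ ∈ F.Hom P ∧ AProp F ℋ n P φ}
  le_of_mem h := F.le_of_mem h.1
  injective_of_mem h := F.injective_of_mem h.1
  conj_mem := by
    intro P g hP hg
    refine ⟨F.conj_mem hP hg, ?_⟩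
    have e : conjHom P g = (conjHom S g).comp (Subgroup.inclusion hP) := by
      ext x; rfl
    rw [e]
    exact aProp_of_restrict hS F hsat ℋ hP hnS (F.conj_mem le_rfl hg)
  comp_mem := by
    intro P Q φ ψ hφ hψ h
    refine ⟨F.comp_mem hφ.1 hψ.1 h, ?_⟩
    intro hcard hP Ph hPh
    have hQS : Q ≤ S := (F.le_of_mem hψ.1).1
    haveI : Finite Q := finite_of_le S hQS
    have h1 := hφ.2 hcard hP Ph hPh
    rw [h1]
    have hrQ : φ.range ≤ Q := by rintro _ ⟨x, rfl⟩; exact h x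
    have hcr : Nat.card φ.range = n := by
      rw [← Nat.card_congr (MonoidHom.ofInjective (F.injective_of_mem hφ.1)).toEquiv]; exact hcard
    by_cases hQn : Nat.card Q = n
    · have hrQe : φ.range = Q :=
        Subgroup.eq_of_le_of_card_ge hrQ (by rw [hcr, hQn])
      have hQℋ : Q ∉ ℋ := by
        intro hQ
        apply hP
        exact hℋ Q hQ P (isConj_symm F ⟨φ, hφ.1, hrQe⟩)
      have h2 := hψ.2 hQn hQℋ Ph hPh
      have hr2 : (ψ.comp (φ.codRestrict Q h)).range = ψ.range := by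
        ext y; constructor
        · rintro ⟨x, rfl⟩; exact ⟨_, rfl⟩
        · rintro ⟨z, rfl⟩
          have hz : (z : Ω) ∈ φ.range := by rw [hrQe]; exact z.2
          obtain ⟨x, hx⟩ := hz
          refine ⟨x, ?_⟩
          show ψ ⟨φ x, h x⟩ = ψ z
          congr 1
          exact Subtype.ext hx
      rw [hr2, hrQe]; exact h2
    · have hlt : n < Nat.card Q := by
        have := Subgroup.card_le_of_le hrQ
        omega
      have h2 := aProp_of_restrict hS F hsat ℋ hrQ hlt hψ.1 hcr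
        (fun hr => hP (hℋ _ hr P (isConj_symm F ⟨φ, hφ.1, rfl⟩))) Ph hPh
      have hr2 : (ψ.comp (φ.codRestrict Q h)).range =
          (ψ.comp (Subgroup.inclusion hrQ)).range := by
        ext y; constructor
        · rintro ⟨x, rfl⟩; exact ⟨⟨φ x, ⟨x, rfl⟩⟩, rfl⟩
        · rintro ⟨⟨_, x, rfl⟩, rfl⟩; exact ⟨x, rfl⟩
      rw [hr2]; exact h2
  inv_mem := by
    intro P φ hφ
    obtain ⟨ψ, hψ, hψφ⟩ := F.inv_mem hφ.1
    refine ⟨ψ, ⟨hψ, ?_⟩, hψφ⟩
    intro hcard hP Ph hPh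
    have hr : ψ.range = P := by
      ext y; constructor
      · rintro ⟨⟨_, x, rfl⟩, rfl⟩
        rw [hψφ x]; exact x.2
      · intro hy
        exact ⟨⟨φ ⟨y, hy⟩, ⟨_, rfl⟩⟩, hψφ ⟨y, hy⟩⟩
    have hcP : Nat.card P = n := by
      rw [Nat.card_congr (MonoidHom.ofInjective (F.injective_of_mem hφ.1)).toEquiv]; exact hcard
    have hPℋ : P ∉ ℋ := fun hPin => hP (hℋ P hPin _ ⟨φ, hφ.1, rfl⟩)
    rw [hr]
    exact (hφ.2 hcP hPℋ Ph hPh).symm

/-- (a): every member of a class outside `ℋ` of order `n` maps, with its normalizer, to any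
fully normalized member. -/
theorem NLe_of_conj [Finite S] {p : ℕ} [Fact p.Prime] (hS : IsPGroup p S) (F : FusionSystem S)
    {n : ℕ} (hsat : SatAbove F p n) (hnS : n < Nat.card S) (ℋ : Set (Subgroup Ω))
    (hℋ : ∀ P ∈ ℋ, ∀ Q, F.IsConj P Q → Q ∈ ℋ)
    (hgen : ∀ E : FusionSystem S, (∀ P ∈ ℋ, F.Hom P ⊆ E.Hom P) → F ≤ E)
    {P Ph : Subgroup Ω} (hP : P ∉ ℋ) (hcard : Nat.card P = n) (hconj : F.IsConj P Ph)
    (hPh : F.IsFullyNormalized Ph) : NLe F P Ph := by
  have hle : F ≤ aSystem hS F hsat hnS ℋ hℋ :=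
    hgen _ (fun P' hP' φ hφ => ⟨hφ, fun _ h => absurd hP' h⟩)
  obtain ⟨φ, hφ, rfl⟩ := hconj
  have h1 := (hle P hφ).2 hcard hP φ.range hPh
  exact h1.mpr (NLe.refl F (range_le_of_mem F hφ))

end Cfsg.Agent.helper25
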