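import Cfsg.Agent.Lib_helper25_SatCrit5
import Cfsg.Agent.Lib_helper1_Core

set_option autoImplicit false
set_option linter.style.haveILetI false
set_option linter.unusedVariables false
set_option maxHeartbeats 1000000

namespace Cfsg.Agent.helper25

open Cfsg Cfsg.FusionSystem

variable {Ω : Type*} [Group Ω] {S : Subgroup Ω}

/-- `O_p(Aut_F(P))` as a subgroup of `Aut(P)`. -/
def opAut (F : FusionSystem S) (p : ℕ) (P : Subgroup Ω) : Subgroup (MulAut P) :=
  (pCore p (F.autGroup P)).map (F.autGroup P).subtype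

theorem opAut_le (F : FusionSystem S) (p : ℕ) (P : Subgroup Ω) : opAut F p P ≤ F.autGroup P :=
  Subgroup.map_subtype_le _

theorem opAut_isPGroup (F : FusionSystem S) (p : ℕ) (P : Subgroup Ω) :
    IsPGroup p (opAut F p P) :=
  (helper1.pCore_isPGroup p).map _

theorem opAut_normal (F : FusionSystem S) (p : ℕ) (P : Subgroup Ω) :
    F.autGroup P ≤ Subgroup.normalizer (opAut F p P : Set (MulAut P)) := by
  apply le_normalizer_of_conj_mem
  rintro a ha _ ⟨d, hd, rfl⟩
  haveI := helper1.pCore_normal (G := F.autGroup P) p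
  have h1 : (⟨a, ha⟩ : F.autGroup P) * d * (⟨a, ha⟩ : F.autGroup P)⁻¹ ∈ pCore p (F.autGroup P) :=
    (helper1.pCore_normal (G := F.autGroup P) p).conj_mem d hd ⟨a, ha⟩
  exact ⟨_, h1, rfl⟩

theorem le_opAut (F : FusionSystem S) (p : ℕ) (P : Subgroup Ω) {D : Subgroup (MulAut P)}
    (hD : D ≤ F.autGroup P) (hn : F.autGroup P ≤ Subgroup.normalizer (D : Set (MulAut P)))
    (hp : IsPGroup p D) : D ≤ opAut F p P := by
  have hN : (D.subgroupOf (F.autGroup P)).Normal :=
    (Subgroup.normal_subgroupOf_iff_le_normalizer hD).mpr hn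
  have hp' : IsPGroup p (D.subgroupOf (F.autGroup P)) :=
    hp.comap_of_injective _ (Subgroup.subtype_injective _)
  have h1 := helper1.le_pCore hN hp'
  intro d hd
  exact ⟨⟨d, hD hd⟩, h1 (Subgroup.mem_subgroupOf.mpr hd), rfl⟩

theorem opAut_congr_le (F : FusionSystem S) (p : ℕ) {P P' : Subgroup Ω} (e : P ≃* P')
    (he : IsFIso F e) : (opAut F p P).map (MulAut.congr e).toMonoidHom ≤ opAut F p P' := by
  apply le_opAut
  · rintro _ ⟨d, hd, rfl⟩
    exact he.congr_mem_autGroup (opAut_le F p P hd)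
  · apply le_normalizer_of_conj_mem
    rintro β hβ _ ⟨d, hd, rfl⟩
    have hα : MulAut.congr e.symm β ∈ F.autGroup P := he.symm.congr_mem_autGroup hβ
    have h1 : MulAut.congr e.symm β * d * (MulAut.congr e.symm β)⁻¹ ∈ opAut F p P :=
      (Subgroup.mem_normalizer_iff.mp (opAut_normal F p P hα) d).mp hd
    refine ⟨_, h1, ?_⟩
    apply MulEquiv.ext; intro y
    show e ((MulAut.congr e.symm β * d * (MulAut.congr e.symm β)⁻¹) (e.symm y)) =
      β (e (d (e.symm (β⁻¹ y))))
    show e (e.symm (β (e (d (e.symm (β⁻¹ (e (e.symm y)))))))) = β (e (d (e.symm (β⁻¹ y))))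
    rw [MulEquiv.apply_symm_apply, MulEquiv.apply_symm_apply]
  · exact (opAut_isPGroup F p P).map _

theorem mem_opAut_congr (F : FusionSystem S) (p : ℕ) {P P' : Subgroup Ω} (e : P ≃* P')
    (he : IsFIso F e) (d : MulAut P) :
    MulAut.congr e d ∈ opAut F p P' ↔ d ∈ opAut F p P := by
  constructor
  · intro h
    have h1 := opAut_congr_le F p e.symm he.symm ⟨_, h, rfl⟩
    have e1 : (MulAut.congr e.symm).toMonoidHom (MulAut.congr e d) = d := by
      apply MulEquiv.ext; intro y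
      show e.symm (e (d (e.symm (e y)))) = d y
      rw [MulEquiv.symm_apply_apply, MulEquiv.symm_apply_apply]
    rwa [e1] at h1
  · intro h
    exact opAut_congr_le F p e he ⟨d, h, rfl⟩

/-- the elements of `N_S(P)` inducing on `P` an element of `O_p(Aut_F(P))`. -/
def qStar (F : FusionSystem S) (p : ℕ) (P : Subgroup Ω) : Subgroup Ω :=
  (((opAut F p P).comap P.normalizerMonoidHom).map
    (Subgroup.normalizer (P : Set Ω)).subtype) ⊓ S

theorem mem_qStar_iff (F : FusionSystem S) (p : ℕ) (P : Subgroup Ω) (g : Ω) :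
    g ∈ qStar F p P ↔ g ∈ S ∧ ∃ hg : g ∈ Subgroup.normalizer (P : Set Ω),
      normAut P g hg ∈ opAut F p P := by
  constructor
  · rintro ⟨⟨⟨x, hx⟩, hmem, rfl⟩, hS⟩
    exact ⟨hS, hx, hmem⟩
  · rintro ⟨hS, hg, hmem⟩
    exact ⟨⟨⟨g, hg⟩, hmem, rfl⟩, hS⟩

theorem qStar_le_normalizerIn (F : FusionSystem S) (p : ℕ) (P : Subgroup Ω) :
    qStar F p P ≤ normalizerIn S P := by
  intro g hg
  obtain ⟨hS, hgN, -⟩ := (mem_qStar_iff F p P g).mp hg
  exact ⟨hS, hgN⟩

theorem centralizerIn_le_qStar (F : FusionSystem S) (p : ℕ) (P : Subgroup Ω) :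
    centralizerIn S P ≤ qStar F p P := by
  intro g hg
  refine (mem_qStar_iff F p P g).mpr ⟨hg.1, Subgroup.centralizer_le_normalizer _ hg.2, ?_⟩
  have h1 : normAut P g (Subgroup.centralizer_le_normalizer _ hg.2) = 1 := by
    apply MulEquiv.ext; intro x
    apply Subtype.ext
    show g * (x : Ω) * g⁻¹ = x
    have h1 := Subgroup.mem_centralizer_iff.mp hg.2 x x.2
    rw [← h1]; group
  rw [h1]; exact Subgroup.one_mem _

theorem le_qStar [Finite S] {p : ℕ} [Fact p.Prime] (hS : IsPGroup p S) (F : FusionSystem S)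
    {P : Subgroup Ω} (hP : P ≤ S) : P ≤ qStar F p P := by
  haveI : Finite P := finite_of_le S hP
  have hinn : autInducedBy P P ≤ opAut F p P := by
    apply le_opAut
    · exact (autInducedBy_mono' hP P).trans (autInducedBy_le_autGroup F hP)
    · apply le_normalizer_of_conj_mem
      intro a ha d hd
      obtain ⟨g, hg, hgd⟩ := (mem_autInducedBy_iff P P d).mp hd
      refine (mem_autInducedBy_iff P P _).mpr ⟨((a ⟨g, hg⟩ : P) : Ω), (a ⟨g, hg⟩).2, ?_⟩
      intro x
      show ((a (d (a⁻¹ x)) : P) : Ω) = _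
      have h1 : d (a⁻¹ x) = ⟨g, hg⟩ * a⁻¹ x * ⟨g, hg⟩⁻¹ := by
        apply Subtype.ext; rw [hgd]; rfl
      rw [h1, map_mul, map_mul, map_inv, MulAut.apply_inv_self]
      rfl
    · exact isPGroup_autInducedBy (hS.to_le hP) P
  intro g hg
  refine (mem_qStar_iff F p P g).mpr ⟨hP hg, Subgroup.le_normalizer hg, ?_⟩
  apply hinn
  exact (mem_autInducedBy_iff P P _).mpr ⟨g, hg, fun x => rfl⟩

/-- maps of the system carry `Q*(P)` into `Q*` of the image. -/
theorem map_mem_qStar [Finite S] (F : FusionSystem S) (p : ℕ) {D P P' : Subgroup Ω} (hPD : P ≤ D)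
    (hDN : D ≤ Subgroup.normalizer (P : Set Ω)) {ψ : D →* Ω} (hψ : ψ ∈ F.Hom D)
    (hP' : (P.subgroupOf D).map ψ = P') (g : D) (hg : (g : Ω) ∈ qStar F p P) :
    ψ g ∈ qStar F p P' := by
  have hDS : D ≤ S := (F.le_of_mem hψ).1
  have hP'S : P' ≤ S := by
    rw [← hP']; rintro _ ⟨x, -, rfl⟩; exact (F.le_of_mem hψ).2 x
  haveI : Finite P' := finite_of_le S hP'S
  obtain ⟨hgS, hgN, hgop⟩ := (mem_qStar_iff F p P g).mp hg
  have hψP := restrict_mem F hPD hψ
  have hr : (ψ.comp (Subgroup.inclusion hPD)).range = P' := by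
    rw [range_restrict_eq_map, hP']
  obtain ⟨e, he, hecoe⟩ := exists_isFIso_of_mem F hψP hr
  have hnorm : ψ g ∈ Subgroup.normalizer (P' : Set Ω) := by
    haveI : Finite ((P.subgroupOf D).map ψ : Subgroup Ω) := by rw [hP']; infer_instance
    have h1 := map_sub_normalizer hDN ψ g
    rwa [hP'] at h1
  refine (mem_qStar_iff F p P' _).mpr ⟨(F.le_of_mem hψ).2 g, hnorm, ?_⟩
  have h2 : normAut P' (ψ g) hnorm = MulAut.congr e (normAut P g hgN) := by
    apply MulEquiv.ext; intro y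
    apply Subtype.ext
    show ψ g * (y : Ω) * (ψ g)⁻¹ = ((e (normAut P g hgN (e.symm y)) : P') : Ω)
    rw [hecoe]
    have hy : (y : Ω) = ψ (Subgroup.inclusion hPD (e.symm y)) := by
      have := hecoe (e.symm y)
      rw [MulEquiv.apply_symm_apply] at this
      exact this
    rw [hy, ← map_inv, ← map_mul, ← map_mul]
    rfl
  rw [h2]
  exact (mem_opAut_congr F p e he _).mpr hgop

end Cfsg.Agent.helper25
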