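import Cfsg.Agent.Lib_helper25_SatCrit6

set_option autoImplicit false
set_option linter.style.haveILetI false
set_option linter.unusedVariables false
set_option maxHeartbeats 1000000

namespace Cfsg.Agent.helper25

open Cfsg Cfsg.FusionSystem

variable {Ω : Type*} [Group Ω] {S : Subgroup Ω}

theorem normalizerIn_le_normalizer_qStar (F : FusionSystem S) (p : ℕ) {P : Subgroup Ω}
    (hP : P ≤ S) : normalizerIn S P ≤ Subgroup.normalizer (qStar F p P : Set Ω) := by
  apply le_normalizer_of_conj_mem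
  intro g hg x hx
  obtain ⟨hxS, hxN, hxop⟩ := (mem_qStar_iff F p P x).mp hx
  have hN : g * x * g⁻¹ ∈ Subgroup.normalizer (P : Set Ω) :=
    Subgroup.mul_mem _ (Subgroup.mul_mem _ hg.2 hxN) (Subgroup.inv_mem _ hg.2)
  refine (mem_qStar_iff F p P _).mpr
    ⟨S.mul_mem (S.mul_mem hg.1 hxS) (S.inv_mem hg.1), hN, ?_⟩
  have hga : normAut P g hg.2 ∈ F.autGroup P :=
    autInducedBy_le_autGroup F hP (normAut_mem S P hg)
  have h1 : normAut P g hg.2 * normAut P x hxN * (normAut P g hg.2)⁻¹ ∈ opAut F p P :=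
    (Subgroup.mem_normalizer_iff.mp (opAut_normal F p P hga) _).mp hxop
  have h2 : normAut P (g * x * g⁻¹) hN =
      normAut P g hg.2 * normAut P x hxN * (normAut P g hg.2)⁻¹ := by
    have e : (⟨g * x * g⁻¹, hN⟩ : Subgroup.normalizer (P : Set Ω)) =
        ⟨g, hg.2⟩ * ⟨x, hxN⟩ * ⟨g, hg.2⟩⁻¹ := rfl
    show P.normalizerMonoidHom ⟨g * x * g⁻¹, hN⟩ = _
    rw [e, map_mul, map_mul, map_inv]
    rfl
  rw [h2]; exact h1

/-- the property (a) for the class of `P₁`. -/
def ClassA (F : FusionSystem S) (P₁ : Subgroup Ω) : Prop :=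
  ∀ P Ph : Subgroup Ω, F.IsConj P₁ P → F.IsConj P₁ Ph → F.IsFullyNormalized Ph → NLe F P Ph

theorem NLe.isConj {F : FusionSystem S} {P P' : Subgroup Ω} (hP : P ≤ S) (h : NLe F P P') :
    F.IsConj P P' := by
  obtain ⟨θ, hθ, -, hθP⟩ := h
  exact ⟨θ.comp (Subgroup.inclusion (le_normalizerIn hP)),
    restrict_mem F (le_normalizerIn hP) hθ, by rw [range_restrict_eq_map, hθP]⟩

theorem NLe.card_le [Finite S] {F : FusionSystem S} {P P' : Subgroup Ω} (h : NLe F P P') :
    Nat.card (normalizerIn S P) ≤ Nat.card (normalizerIn S P') := by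
  obtain ⟨θ, hθ, hθN, -⟩ := h
  haveI : Finite (normalizerIn S P') := finite_of_le S inf_le_left
  apply Nat.card_le_card_of_injective (fun x : normalizerIn S P =>
    (⟨θ x, hθN x⟩ : normalizerIn S P'))
  intro a b hab
  exact F.injective_of_mem hθ (congrArg Subtype.val hab)

/-- in a class with property (a) some fully normalized member `Ph` forms a good pair with
`Q*(Ph)`, provided `Q*` is strictly bigger for some member. -/
theorem exists_good_Ph [Finite S] {p : ℕ} [Fact p.Prime] (hS : IsPGroup p S)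
    (F : FusionSystem S) {n : ℕ} (hsat : SatAbove F p n) {P₁ : Subgroup Ω} (hP₁ : P₁ ≤ S)
    (hcard : Nat.card P₁ = n) (hA : ClassA F P₁)
    (hQ : ∃ Q : Subgroup Ω, F.IsConj P₁ Q ∧ qStar F p Q ≠ Q) :
    ∃ Ph : Subgroup Ω, F.IsConj P₁ Ph ∧ F.IsFullyNormalized Ph ∧
      IsGoodPair F p (qStar F p Ph) Ph ∧ Ph < qStar F p Ph := by
  obtain ⟨P₂, hc₂, hfn₂⟩ := exists_fullyNormalized_conj F hP₁
  have hP₂S : P₂ ≤ S := hfn₂.1
  haveI : Finite P₂ := finite_of_le S hP₂S
  have hcard₂ : Nat.card P₂ = n := by rw [← isConj_card_eq F hc₂]; exact hcard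
  -- Q*(P₂) is strictly bigger
  have hlt₂ : P₂ < qStar F p P₂ := by
    apply lt_of_le_of_ne (le_qStar hS F hP₂S)
    intro heq
    obtain ⟨Q, hcQ, hQne⟩ := hQ
    have hQS : Q ≤ S := isConj_le_right F hcQ
    have hQle : Q ≤ qStar F p Q := le_qStar hS F hQS
    obtain ⟨g, hgq, hgQ⟩ : ∃ g, g ∈ qStar F p Q ∧ g ∉ Q := by
      by_contra hcon
      push Not at hcon
      exact hQne (le_antisymm hcon hQle)
    obtain ⟨θ, hθ, hθN, hθP⟩ := hA Q P₂ hcQ hc₂ hfn₂
    have hgN : g ∈ normalizerIn S Q := qStar_le_normalizerIn F p Q hgq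
    have h1 := map_mem_qStar F p (le_normalizerIn hQS) inf_le_right hθ hθP ⟨g, hgN⟩ hgq
    rw [← heq, ← hθP] at h1
    obtain ⟨x, hx, hxg⟩ := h1
    have h2 := F.injective_of_mem hθ hxg
    apply hgQ
    have h3 : (x : Ω) = g := congrArg Subtype.val h2
    rw [← h3]; exact Subgroup.mem_subgroupOf.mp hx
  have hRS : qStar F p P₂ ≤ S := (qStar_le_normalizerIn F p P₂).trans inf_le_left
  haveI : Finite (qStar F p P₂) := finite_of_le S hRS
  have hnR : n < Nat.card (qStar F p P₂) := by rw [← hcard₂]; exact card_lt_of_lt' hlt₂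
  obtain ⟨R₀, P₀, e, he, hgood, heP⟩ := exists_goodPair hS F hlt₂.le hRS (hsat _ hRS hnR)
  obtain ⟨μ, hμ, hμN, hμP, hμR⟩ :=
    pair_push hS F hgood (qStar_le_normalizerIn F p P₂) e he heP hlt₂.le
  -- the source of μ contains N_S(P₂)
  have hNle : normalizerIn S P₂ ≤ qStar F p P₂ ⊔ nrm2 S (qStar F p P₂) P₂ := by
    apply le_trans _ le_sup_right
    intro g hg
    exact ⟨⟨hg.1, normalizerIn_le_normalizer_qStar F p hP₂S hg⟩, hg.2⟩
  have hμ' := restrict_mem F hNle hμ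
  have hμ'P : (P₂.subgroupOf (normalizerIn S P₂)).map (μ.comp (Subgroup.inclusion hNle)) = P₀ := by
    rw [map_comp_inclusion hNle (le_normalizerIn hP₂S) μ]; exact hμP
  have hNLe₂₀ : NLe F P₂ P₀ := ⟨_, hμ', fun x => hμN _, hμ'P⟩
  have hc₂₀ : F.IsConj P₂ P₀ := hNLe₂₀.isConj hP₂S
  have hc₀ : F.IsConj P₁ P₀ := isConj_trans F hc₂ hc₂₀
  have hP₀S : P₀ ≤ S := isConj_le_right F hc₀
  haveI : Finite P₀ := finite_of_le S hP₀S
  have hfn₀ : F.IsFullyNormalized P₀ := by
    refine ⟨hP₀S, fun Q' hQ' => ?_⟩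
    have h1 := hfn₂.2 Q' (isConj_trans F hc₂₀ hQ')
    exact h1.trans hNLe₂₀.card_le
  -- R₀ = Q*(P₀)
  have hR₀ : R₀ = qStar F p P₀ := by
    have hDN : qStar F p P₂ ⊔ nrm2 S (qStar F p P₂) P₂ ≤ Subgroup.normalizer (P₂ : Set Ω) :=
      sup_le ((qStar_le_normalizerIn F p P₂).trans inf_le_right) inf_le_right
    apply le_antisymm
    · rw [← hμR]
      rintro _ ⟨z, hz, rfl⟩
      exact map_mem_qStar F p (hlt₂.le.trans le_sup_left) hDN hμ hμP z
        (Subgroup.mem_subgroupOf.mp hz)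
    · -- compare orders through the reverse map
      obtain ⟨θ, hθ, hθN, hθP⟩ := hA P₀ P₂ hc₀ hc₂ hfn₂
      have hcR₀ : Nat.card R₀ = Nat.card (qStar F p P₂) := (Nat.card_congr e.toEquiv).symm
      have hle' : R₀ ≤ qStar F p P₀ := by
        rw [← hμR]
        rintro _ ⟨z, hz, rfl⟩
        exact map_mem_qStar F p (hlt₂.le.trans le_sup_left) hDN hμ hμP z
          (Subgroup.mem_subgroupOf.mp hz)
      have hQ₀S : qStar F p P₀ ≤ S := (qStar_le_normalizerIn F p P₀).trans inf_le_left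
      haveI : Finite (qStar F p P₀) := finite_of_le S hQ₀S
      have hcle : Nat.card (qStar F p P₀) ≤ Nat.card (qStar F p P₂) := by
        have hmem : ∀ h : qStar F p P₀, θ ⟨h, qStar_le_normalizerIn F p P₀ h.2⟩ ∈
            qStar F p P₂ := fun h =>
          map_mem_qStar F p (le_normalizerIn hP₀S) inf_le_right hθ hθP
            ⟨h, qStar_le_normalizerIn F p P₀ h.2⟩ h.2
        apply Nat.card_le_card_of_injective (fun h : qStar F p P₀ =>
          (⟨θ ⟨h, qStar_le_normalizerIn F p P₀ h.2⟩, hmem h⟩ : qStar F p P₂))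
        intro a b hab
        have h3 := F.injective_of_mem hθ (congrArg Subtype.val hab)
        exact Subtype.ext (Subtype.mk.inj h3)
      exact (Subgroup.eq_of_le_of_card_ge hle' (by rw [hcR₀]; exact hcle)).ge
  subst hR₀
  refine ⟨P₀, hc₀, hfn₀, hgood, lt_of_le_of_ne (le_qStar hS F hP₀S) ?_⟩
  intro heq
  have h1 : Nat.card (qStar F p P₀) = Nat.card (qStar F p P₂) := (Nat.card_congr e.toEquiv).symm
  have h2 : Nat.card P₀ = n := by rw [← isConj_card_eq F hc₀]; exact hcard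
  rw [← heq, h2] at h1
  omega

end Cfsg.Agent.helper25
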