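import Cfsg.Agent.Lib_helper25_SatCrit7

set_option autoImplicit false
set_option linter.style.haveILetI false
set_option linter.unusedVariables false
set_option maxHeartbeats 1000000

namespace Cfsg.Agent.helper25

open Cfsg Cfsg.FusionSystem

variable {Ω : Type*} [Group Ω] {S : Subgroup Ω}

/-- restriction of an isomorphism to corresponding subgroups. -/
def resIso {R R' P P' : Subgroup Ω} (e : R ≃* R') (hPR : P ≤ R) (hP'R' : P' ≤ R')
    (h : ∀ x : R, ((e x : R') : Ω) ∈ P' ↔ (x : Ω) ∈ P) : P ≃* P' where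
  toFun x := ⟨((e ⟨x, hPR x.2⟩ : R') : Ω), (h _).mpr x.2⟩
  invFun y := ⟨((e.symm ⟨y, hP'R' y.2⟩ : R) : Ω), by
    rw [← h, MulEquiv.apply_symm_apply]; exact y.2⟩
  left_inv x := by
    apply Subtype.ext
    show ((e.symm ⟨((e ⟨x, hPR x.2⟩ : R') : Ω), _⟩ : R) : Ω) = x
    have e1 : (⟨((e ⟨x, hPR x.2⟩ : R') : Ω), hP'R' ((h _).mpr x.2)⟩ : R') = e ⟨x, hPR x.2⟩ :=
      Subtype.ext rfl
    rw [e1, MulEquiv.symm_apply_apply]
  right_inv y := by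
    apply Subtype.ext
    show ((e ⟨((e.symm ⟨y, hP'R' y.2⟩ : R) : Ω), _⟩ : R') : Ω) = y
    have e1 : (⟨((e.symm ⟨y, hP'R' y.2⟩ : R) : Ω), hPR (by
        rw [← h, MulEquiv.apply_symm_apply]; exact y.2)⟩ : R) = e.symm ⟨y, hP'R' y.2⟩ :=
      Subtype.ext rfl
    rw [e1, MulEquiv.apply_symm_apply]
  map_mul' x y := by
    apply Subtype.ext
    have e1 : (⟨((x * y : P) : Ω), hPR (x * y).2⟩ : R) = ⟨x, hPR x.2⟩ * ⟨y, hPR y.2⟩ := rfl
    show ((e ⟨((x * y : P) : Ω), hPR (x * y).2⟩ : R') : Ω) =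
      ((e ⟨x, hPR x.2⟩ : R') : Ω) * ((e ⟨y, hPR y.2⟩ : R') : Ω)
    rw [e1, map_mul]; rfl

theorem resIso_coe {R R' P P' : Subgroup Ω} (e : R ≃* R') (hPR : P ≤ R) (hP'R' : P' ≤ R')
    (h : ∀ x : R, ((e x : R') : Ω) ∈ P' ↔ (x : Ω) ∈ P) (x : P) :
    ((resIso e hPR hP'R' h x : P') : Ω) = ((e ⟨x, hPR x.2⟩ : R') : Ω) := rfl

theorem resIso_symm_coe {R R' P P' : Subgroup Ω} (e : R ≃* R') (hPR : P ≤ R) (hP'R' : P' ≤ R')
    (h : ∀ x : R, ((e x : R') : Ω) ∈ P' ↔ (x : Ω) ∈ P) (y : P') :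
    (((resIso e hPR hP'R' h).symm y : P) : Ω) = ((e.symm ⟨y, hP'R' y.2⟩ : R) : Ω) := rfl

theorem resIso_isFIso {F : FusionSystem S} {R R' P P' : Subgroup Ω} {e : R ≃* R'}
    (he : IsFIso F e) (hPR : P ≤ R) (hP'R' : P' ≤ R')
    (h : ∀ x : R, ((e x : R') : Ω) ∈ P' ↔ (x : Ω) ∈ P) : IsFIso F (resIso e hPR hP'R' h) := by
  have h1 := restrict_mem F hPR he
  have e1 : P'.subtype.comp (resIso e hPR hP'R' h).toMonoidHom =
      (R'.subtype.comp e.toMonoidHom).comp (Subgroup.inclusion hPR) := by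
    ext x; rfl
  unfold IsFIso
  rw [e1]; exact h1

/-- restriction `Aut_F(R) ∩ Stab(P) → Aut(P)`. -/
def stabRes (F : FusionSystem S) {R P : Subgroup Ω} (hPR : P ≤ R) :
    ↥(oneStab F R P) →* MulAut P :=
  (resAut hPR).comp (Subgroup.inclusion (inf_le_right : oneStab F R P ≤ stabIn R P))

theorem stabRes_coe (F : FusionSystem S) {R P : Subgroup Ω} (hPR : P ≤ R)
    (α : oneStab F R P) (x : P) :
    ((stabRes F hPR α x : P) : Ω) = (((α : MulAut R) ⟨x, hPR x.2⟩ : R) : Ω) := rfl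

theorem stabRes_mem_autGroup (F : FusionSystem S) {R P : Subgroup Ω} (hPR : P ≤ R)
    (hRS : R ≤ S) (α : oneStab F R P) : stabRes F hPR α ∈ F.autGroup P := by
  rw [mem_autGroup_iff F (hPR.trans hRS)]
  have hα : IsFIso F (α : MulAut R) := (mem_autGroup_iff F hRS _).mp α.2.1
  have h1 := restrict_mem F hPR hα
  have e1 : P.subtype.comp (stabRes F hPR α).toMonoidHom =
      (R.subtype.comp (α : MulAut R).toMonoidHom).comp (Subgroup.inclusion hPR) := by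
    ext x; rfl
  unfold IsFIso
  rw [e1]; exact h1

/-- the automorphisms of `P` that extend to automorphisms in `Aut_F(Q*(P))`. -/
def extQ (F : FusionSystem S) (p : ℕ) (P : Subgroup Ω) (hle : P ≤ qStar F p P) :
    Subgroup (MulAut P) :=
  (stabRes F hle).range

theorem mem_extQ_iff (F : FusionSystem S) (p : ℕ) (P : Subgroup Ω) (hle : P ≤ qStar F p P)
    (α : MulAut P) : α ∈ extQ F p P hle ↔ ∃ β ∈ oneStab F (qStar F p P) P,
      ∀ x : P, ((β ⟨x, hle x.2⟩ : qStar F p P) : Ω) = α x := by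
  constructor
  · rintro ⟨β, rfl⟩
    exact ⟨β.1, β.2, fun x => rfl⟩
  · rintro ⟨β, hβ, h⟩
    refine ⟨⟨β, hβ⟩, ?_⟩
    apply MulEquiv.ext; intro x
    apply Subtype.ext
    exact h x

/-- the members of the stabilizer whose restriction lies in `O_p(Aut_F(P))`. -/
def opStab (F : FusionSystem S) (p : ℕ) {R P : Subgroup Ω} (hPR : P ≤ R) :
    Subgroup (MulAut R) :=
  ((opAut F p P).comap (stabRes F hPR)).map (oneStab F R P).subtype

theorem opStab_le (F : FusionSystem S) (p : ℕ) {R P : Subgroup Ω} (hPR : P ≤ R) :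
    opStab F p hPR ≤ oneStab F R P := Subgroup.map_subtype_le _

theorem mem_opStab_iff (F : FusionSystem S) (p : ℕ) {R P : Subgroup Ω} (hPR : P ≤ R)
    (β : MulAut R) : β ∈ opStab F p hPR ↔ ∃ hβ : β ∈ oneStab F R P,
      stabRes F hPR ⟨β, hβ⟩ ∈ opAut F p P := by
  constructor
  · rintro ⟨β', hβ', rfl⟩
    exact ⟨β'.2, hβ'⟩
  · rintro ⟨hβ, h⟩
    exact ⟨⟨β, hβ⟩, h, rfl⟩

theorem opStab_normal (F : FusionSystem S) (p : ℕ) {R P : Subgroup Ω} (hPR : P ≤ R)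
    (hRS : R ≤ S) :
    oneStab F R P ≤ Subgroup.normalizer (opStab F p hPR : Set (MulAut R)) := by
  apply le_normalizer_of_conj_mem
  intro a ha β hβ
  obtain ⟨hβ1, hβ2⟩ := (mem_opStab_iff F p hPR β).mp hβ
  have hmem : a * β * a⁻¹ ∈ oneStab F R P :=
    Subgroup.mul_mem _ (Subgroup.mul_mem _ ha hβ1) (Subgroup.inv_mem _ ha)
  refine (mem_opStab_iff F p hPR _).mpr ⟨hmem, ?_⟩
  have e1 : (⟨a * β * a⁻¹, hmem⟩ : oneStab F R P) =
      (⟨a, ha⟩ : oneStab F R P) * ⟨β, hβ1⟩ * (⟨a, ha⟩ : oneStab F R P)⁻¹ := rfl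
  rw [e1, map_mul, map_mul, map_inv]
  have hra := stabRes_mem_autGroup F hPR hRS ⟨a, ha⟩
  exact (Subgroup.mem_normalizer_iff.mp (opAut_normal F p P hra) _).mp hβ2

/-- an element of `opStab` of a good pair restricts to conjugation by an element of `Q*`. -/
theorem exists_qStar_of_mem_opStab [Finite S] {p : ℕ} [Fact p.Prime] (hS : IsPGroup p S)
    (F : FusionSystem S) {R₀ P₀ : Subgroup Ω} (hgood : IsGoodPair F p R₀ P₀) {b : MulAut R₀}
    (hb : b ∈ opStab F p hgood.1) :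
    ∃ h₀ ∈ qStar F p P₀, ∃ hN : h₀ ∈ Subgroup.normalizer (P₀ : Set Ω),
      ∀ x : P₀, ((b ⟨x, hgood.1 x.2⟩ : R₀) : Ω) = h₀ * x * h₀⁻¹ := by
  obtain ⟨hP₀R₀, hrec, hsyl⟩ := hgood
  have hR₀S := hrec.1
  haveI : Finite R₀ := finite_of_le S hR₀S
  haveI : Finite P₀ := finite_of_le S (hP₀R₀.trans hR₀S)
  obtain ⟨hb1, hb2⟩ := (mem_opStab_iff F p hP₀R₀ b).mp hb
  obtain ⟨Rs, hRs⟩ := hsyl
  have hsyl' := isSylowIn_map_range (stabRes F hP₀R₀) Rs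
  -- the normal p-subgroup
  have hD : opAut F p P₀ ⊓ (stabRes F hP₀R₀).range ≤ (Rs : Subgroup _).map (stabRes F hP₀R₀) := by
    apply le_of_isSylowIn_of_normal hsyl' inf_le_right
    · apply le_normalizer_of_conj_mem
      rintro a ⟨a', rfl⟩ d ⟨hd1, hd2⟩
      refine ⟨?_, ?_⟩
      · exact (Subgroup.mem_normalizer_iff.mp
          (opAut_normal F p P₀ (stabRes_mem_autGroup F hP₀R₀ hR₀S a')) _).mp hd1
      · obtain ⟨d', rfl⟩ := hd2
        exact ⟨a' * d' * a'⁻¹, by rw [map_mul, map_mul, map_inv]⟩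
    · exact (opAut_isPGroup F p P₀).to_le inf_le_left
  obtain ⟨t, ht, hteq⟩ := hD ⟨hb2, ⟨⟨b, hb1⟩, rfl⟩⟩
  rw [hRs] at ht
  have ht' : (t : MulAut R₀) ∈ autInducedBy (nrm2 S R₀ P₀) R₀ := Subgroup.mem_subgroupOf.mp ht
  obtain ⟨h₀, hh₀, hh₀t⟩ := (mem_autInducedBy_iff _ _ _).mp ht'
  have hN : h₀ ∈ Subgroup.normalizer (P₀ : Set Ω) := hh₀.2
  have hform : ∀ x : P₀, ((b ⟨x, hP₀R₀ x.2⟩ : R₀) : Ω) = h₀ * x * h₀⁻¹ := by
    intro x
    have h1 : ((stabRes F hP₀R₀ t x : P₀) : Ω) = ((stabRes F hP₀R₀ ⟨b, hb1⟩ x : P₀) : Ω) := by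
      rw [hteq]
    rw [stabRes_coe, stabRes_coe] at h1
    rw [← h1, hh₀t]
  refine ⟨h₀, ?_, hN, hform⟩
  refine (mem_qStar_iff F p P₀ h₀).mpr ⟨hh₀.1.1, hN, ?_⟩
  have e1 : normAut P₀ h₀ hN = stabRes F hP₀R₀ ⟨b, hb1⟩ := by
    apply MulEquiv.ext; intro x
    apply Subtype.ext
    rw [stabRes_coe]
    exact (hform x).symm
  rw [e1]; exact hb2

end Cfsg.Agent.helper25
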