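import Cfsg.Agent.Lib_helper25_SatCrit8

set_option autoImplicit false
set_option linter.style.haveILetI false
set_option linter.unusedVariables false
set_option maxHeartbeats 2000000

namespace Cfsg.Agent.helper25

open Cfsg Cfsg.FusionSystem

variable {Ω : Type*} [Group Ω] {S : Subgroup Ω}

/-- a subgroup not containing the normal subgroup `Q` grows inside `R N_Q(R)`. -/
theorem lt_sup_inf_normalizer [Finite S] {p : ℕ} [Fact p.Prime] (hS : IsPGroup p S)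
    {R Q : Subgroup Ω} (hRS : R ≤ S) (hQS : Q ≤ S)
    (hRQ : R ≤ Subgroup.normalizer (Q : Set Ω)) (hnot : ¬ Q ≤ R) :
    R < R ⊔ (Q ⊓ Subgroup.normalizer (R : Set Ω)) := by
  have hDS : R ⊔ Q ≤ S := sup_le hRS hQS
  haveI : Finite (R ⊔ Q : Subgroup Ω) := finite_of_le S hDS
  have hlt : R < R ⊔ Q := by
    apply lt_of_le_of_ne le_sup_left
    intro he
    apply hnot
    rw [he]; exact le_sup_right
  have h1 : R < normalizerIn (R ⊔ Q) R := lt_normalizerIn (hS.to_le hDS) hlt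
  obtain ⟨g, hgN, hgR⟩ := SetLike.exists_of_lt h1
  obtain ⟨a, ha, t, ht, hat⟩ := exists_mul_of_mem_sup hRQ hgN.1
  have htN : t ∈ Subgroup.normalizer (R : Set Ω) := by
    have e : t = a⁻¹ * g := by rw [← hat]; group
    rw [e]
    exact Subgroup.mul_mem _ (Subgroup.inv_mem _ (Subgroup.le_normalizer ha)) hgN.2
  have htR : t ∉ R := by
    intro h
    apply hgR
    rw [← hat]; exact R.mul_mem ha h
  apply lt_of_le_of_ne le_sup_left
  intro he
  apply htR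
  rw [he]
  exact Subgroup.mem_sup_right ⟨ht, htN⟩

/-- properties of an extension of `b ∘ e` with `b` stabilizing `P₀`. -/
theorem extend_props [Finite S] (F : FusionSystem S) {R R₀ P P₀ M : Subgroup Ω} (hPR : P ≤ R)
    (hP₀R₀ : P₀ ≤ R₀) (hP₀S : P₀ ≤ S) (e : R ≃* R₀)
    (heP : ∀ x : R, ((e x : R₀) : Ω) ∈ P₀ ↔ (x : Ω) ∈ P) {b : MulAut R₀}
    (hb : b ∈ stabIn R₀ P₀) (hDN : R ⊔ M ≤ Subgroup.normalizer (P : Set Ω))
    {μ : ↥(R ⊔ M) →* Ω} (hμ : μ ∈ F.Hom (R ⊔ M))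
    (hμe : ∀ x : R, μ (Subgroup.inclusion le_sup_left x) = ((b (e x) : R₀) : Ω)) :
    (∀ z, μ z ∈ normalizerIn S P₀) ∧ (P.subgroupOf (R ⊔ M)).map μ = P₀ := by
  haveI : Finite P₀ := finite_of_le S hP₀S
  have hmap : (P.subgroupOf (R ⊔ M)).map μ = P₀ := by
    ext y; constructor
    · rintro ⟨z, hz, rfl⟩
      have hzP : (z : Ω) ∈ P := Subgroup.mem_subgroupOf.mp hz
      have e1 : z = Subgroup.inclusion le_sup_left (⟨z, hPR hzP⟩ : R) := Subtype.ext rfl
      rw [e1, hμe]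
      exact (hb _).mpr ((heP _).mpr hzP)
    · intro hy
      have h1 : (((b⁻¹ : MulAut R₀) ⟨y, hP₀R₀ hy⟩ : R₀) : Ω) ∈ P₀ :=
        ((Subgroup.inv_mem _ hb) ⟨y, hP₀R₀ hy⟩).mpr hy
      have h2 : ((e.symm ((b⁻¹ : MulAut R₀) ⟨y, hP₀R₀ hy⟩) : R) : Ω) ∈ P := by
        rw [← heP, MulEquiv.apply_symm_apply]; exact h1
      refine ⟨Subgroup.inclusion le_sup_left (e.symm ((b⁻¹ : MulAut R₀) ⟨y, hP₀R₀ hy⟩)),
        Subgroup.mem_subgroupOf.mpr h2, ?_⟩
      rw [hμe, MulEquiv.apply_symm_apply, MulAut.apply_inv_self]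
  refine ⟨?_, hmap⟩
  intro z
  refine ⟨(F.le_of_mem hμ).2 z, ?_⟩
  haveI : Finite ((P.subgroupOf (R ⊔ M)).map μ : Subgroup Ω) := by
    rw [hmap]; infer_instance
  have h := map_sub_normalizer hDN μ z
  rw [hmap] at h
  exact h

/-- conjugation by an element of `Q*(P) ` lies in `extQ`. -/
theorem normAut_mem_extQ [Finite S] (F : FusionSystem S) (p : ℕ) {P : Subgroup Ω} (hP : P ≤ S)
    (hle : P ≤ qStar F p P) {h : Ω} (hh : h ∈ normalizerIn S P) :
    normAut P h hh.2 ∈ extQ F p P hle := by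
  have hQS : qStar F p P ≤ S := (qStar_le_normalizerIn F p P).trans inf_le_left
  have hnQ : h ∈ normalizerIn S (qStar F p P) :=
    ⟨hh.1, normalizerIn_le_normalizer_qStar F p hP hh⟩
  refine (mem_extQ_iff F p P hle _).mpr ⟨normAut (qStar F p P) h hnQ.2, ⟨?_, ?_⟩, fun x => rfl⟩
  · exact autInducedBy_le_autGroup F hQS (normAut_mem S _ hnQ)
  · exact normAut_mem_stabIn hnQ.2 hh.2

end Cfsg.Agent.helper25
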