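import Cfsg.Statements.S5078
import Cfsg.Agent.Lib_helper25_Fusion

set_option autoImplicit false
open Cfsg

namespace Cfsg.Agent.S5078

open Cfsg.FusionSystem Cfsg.Agent.helper25

theorem result {Ω : Type*} [Group Ω] {S : Subgroup Ω} [Finite S] (F : Cfsg.FusionSystem S) (P : Subgroup Ω) (hP : F.IsReceptive P) : F.IsFullyCentralized P := by
  obtain ⟨hPS, hrec⟩ := hP
  refine ⟨hPS, ?_⟩
  rintro Q ⟨φ, hφ, rfl⟩
  obtain ⟨ψ, hψ, hψφ⟩ := F.inv_mem hφ
  have hQS : φ.range ≤ S := range_le_of_mem F hφ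
  have hψrange : ψ.range = P := by
    apply le_antisymm
    · rintro _ ⟨⟨_, x, rfl⟩, rfl⟩
      rw [hψφ]; exact x.2
    · intro x hx
      exact ⟨⟨φ ⟨x, hx⟩, ⟨x, hx⟩, rfl⟩, hψφ ⟨x, hx⟩⟩
  obtain ⟨χ, hχ, hχψ⟩ := hrec φ.range ψ hψ hψrange
  -- membership in the extender
  have hQext : φ.range ≤ extender S φ.range ψ := by
    intro q hq
    apply Subgroup.subset_closure
    refine ⟨hQS hq, Subgroup.le_normalizer hq, ψ ⟨q, hq⟩, (F.le_of_mem hψ).2 _, ?_⟩
    intro x hx
    have : (⟨q * (x : Ω) * q⁻¹, hx⟩ : φ.range) = ⟨q, hq⟩ * x * ⟨q, hq⟩⁻¹ := rfl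
    rw [this, map_mul, map_mul, map_inv]
  have hCext : centralizerIn S φ.range ≤ extender S φ.range ψ := by
    intro c hc
    apply Subgroup.subset_closure
    have hcc : c ∈ Subgroup.centralizer (φ.range : Set Ω) := hc.2
    refine ⟨hc.1, ?_, 1, S.one_mem, ?_⟩
    · exact Subgroup.centralizer_le_normalizer _ hcc
    · intro x hx
      have hx' : c * (x : Ω) * c⁻¹ = x := by
        have := hcc x x.2
        rw [← this]; group
      have : (⟨c * (x : Ω) * c⁻¹, hx⟩ : φ.range) = x := Subtype.ext hx'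
      rw [this]; simp
  have hfin : Finite (centralizerIn S P) :=
    Finite.of_injective (Subgroup.inclusion (inf_le_left : centralizerIn S P ≤ S))
      (Subgroup.inclusion_injective _)
  have hmem : ∀ c : centralizerIn S φ.range, χ ⟨c, hCext c.2⟩ ∈ centralizerIn S P := by
    intro c
    refine ⟨(F.le_of_mem hχ).2 _, ?_⟩
    intro y hy
    rw [← hψrange] at hy
    obtain ⟨q, rfl⟩ := hy
    have h1 : χ ⟨q, hQext q.2⟩ = ψ q := hχψ q q.2 (hQext q.2)
    have hcq : (q : Ω) * c = c * q := c.2.2 q q.2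
    rw [← h1, ← map_mul, ← map_mul]
    congr 1
    exact Subtype.ext hcq
  let f : centralizerIn S φ.range → centralizerIn S P := fun c => ⟨χ ⟨c, hCext c.2⟩, hmem c⟩
  have hf : Function.Injective f := by
    intro a b hab
    have : χ ⟨a, hCext a.2⟩ = χ ⟨b, hCext b.2⟩ := congrArg Subtype.val hab
    have h2 := F.injective_of_mem hχ this
    exact Subtype.ext (congrArg (fun z : extender S φ.range ψ => (z : Ω)) h2)
  exact Nat.card_le_card_of_injective f hf

end Cfsg.Agent.S5078
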