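import Cfsg.Agent.Lib_helper25_SatBasic
import Cfsg.Agent.S5078

set_option autoImplicit false
set_option linter.style.haveILetI false
set_option linter.unusedVariables false

namespace Cfsg.Agent.helper25

open Cfsg Cfsg.FusionSystem

variable {Ω : Type*} [Group Ω] {S : Subgroup Ω}

theorem receptive_fullyCentralized [Finite S] (F : FusionSystem S) {P : Subgroup Ω}
    (hP : F.IsReceptive P) : F.IsFullyCentralized P :=
  Cfsg.Agent.S5078.result F P hP

theorem mem_autInducedBy_iff' (K P : Subgroup Ω) (α : MulAut P) :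
    α ∈ autInducedBy K P ↔ ∃ (g : Ω) (hg : g ∈ normalizerIn K P), α = normAut P g hg.2 := by
  constructor
  · intro h
    rw [autInducedBy_eq_map] at h
    obtain ⟨n, hn, rfl⟩ := h
    exact ⟨n, Subgroup.mem_subgroupOf.mp hn, rfl⟩
  · rintro ⟨g, hg, rfl⟩
    exact normAut_mem K P hg

/-- a fully automized receptive subgroup is fully normalized. -/
theorem fullyNormalized_of_automized_receptive [Finite S] {p : ℕ} [Fact p.Prime]
    (hS : IsPGroup p S) (F : FusionSystem S) {P : Subgroup Ω} (h₁ : F.IsFullyAutomized p P)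
    (h₂ : F.IsReceptive P) : F.IsFullyNormalized P := by
  refine ⟨h₁.1, ?_⟩
  intro Q hQ
  obtain ⟨φ, hφ, hφN, -⟩ := exists_normalizer_hom hS F h₁ h₂ (isConj_symm F hQ)
  haveI : Finite (normalizerIn S P) := finite_of_le S inf_le_left
  let f : normalizerIn S Q → normalizerIn S P := fun x => ⟨φ x, hφN x⟩
  have hf : Function.Injective f := by
    intro a b hab
    exact F.injective_of_mem hφ (congrArg Subtype.val hab)
  exact Nat.card_le_card_of_injective f hf

/-- every subgroup of `S` is conjugate to a fully normalized one. -/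
theorem exists_fullyNormalized_conj [Finite S] (F : FusionSystem S) {P : Subgroup Ω} (hP : P ≤ S) :
    ∃ Q, F.IsConj P Q ∧ F.IsFullyNormalized Q := by
  have hfin : {Q : Subgroup Ω | F.IsConj P Q}.Finite :=
    (finite_subgroups_le S).subset (fun Q hQ => isConj_le_right F hQ)
  obtain ⟨Q, hQ, hmax⟩ := Set.exists_max_image _ (fun Q => Nat.card (normalizerIn S Q)) hfin
    ⟨P, isConj_refl F hP⟩
  refine ⟨Q, hQ, isConj_le_right F hQ, ?_⟩
  intro R hR
  exact hmax R (isConj_trans F hQ hR)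

/-- every subgroup of `S` is conjugate to a fully centralized one. -/
theorem exists_fullyCentralized_conj [Finite S] (F : FusionSystem S) {P : Subgroup Ω} (hP : P ≤ S) :
    ∃ Q, F.IsConj P Q ∧ F.IsFullyCentralized Q := by
  have hfin : {Q : Subgroup Ω | F.IsConj P Q}.Finite :=
    (finite_subgroups_le S).subset (fun Q hQ => isConj_le_right F hQ)
  obtain ⟨Q, hQ, hmax⟩ := Set.exists_max_image _ (fun Q => Nat.card (centralizerIn S Q)) hfin
    ⟨P, isConj_refl F hP⟩
  refine ⟨Q, hQ, isConj_le_right F hQ, ?_⟩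
  intro R hR
  exact hmax R (isConj_trans F hQ hR)

/-- for `P` fully normalized and `Q` a fully automized receptive conjugate, the extension lemma
gives an isomorphism of `N_S(P)` onto `N_S(Q)`. -/
theorem exists_normalizer_iso [Finite S] {p : ℕ} [Fact p.Prime] (hS : IsPGroup p S)
    (F : FusionSystem S) {P Q : Subgroup Ω} (hP : F.IsFullyNormalized P)
    (hQ₁ : F.IsFullyAutomized p Q) (hQ₂ : F.IsReceptive Q) (hPQ : F.IsConj P Q) :
    ∃ φ ∈ F.Hom (normalizerIn S P), φ.range = normalizerIn S Q ∧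
      (P.subgroupOf (normalizerIn S P)).map φ = Q := by
  obtain ⟨φ, hφ, hφN, hφP⟩ := exists_normalizer_hom hS F hQ₁ hQ₂ hPQ
  refine ⟨φ, hφ, ?_, hφP⟩
  haveI : Finite (normalizerIn S Q) := finite_of_le S inf_le_left
  have hle : φ.range ≤ normalizerIn S Q := by
    rintro _ ⟨x, rfl⟩; exact hφN x
  apply Subgroup.eq_of_le_of_card_ge hle
  have h1 : Nat.card φ.range = Nat.card (normalizerIn S P) :=
    (Nat.card_congr (MonoidHom.ofInjective (F.injective_of_mem hφ)).toEquiv).symm
  rw [h1]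
  exact hP.2 Q hPQ

/-- transfer of "fully centralized" along an isomorphism of normalizers. -/
theorem fullyCentralized_of_normalizer_iso [Finite S] (F : FusionSystem S) {P Q : Subgroup Ω}
    (hPS : P ≤ S) (hQ : F.IsFullyCentralized Q) {φ : normalizerIn S P →* Ω}
    (hφ : φ ∈ F.Hom (normalizerIn S P)) (hr : φ.range = normalizerIn S Q)
    (hφP : (P.subgroupOf (normalizerIn S P)).map φ = Q) : F.IsFullyCentralized P := by
  refine ⟨hPS, ?_⟩
  have hPQ : F.IsConj P Q := by
    refine ⟨φ.comp (Subgroup.inclusion (le_normalizerIn hPS)), restrict_mem F _ hφ, ?_⟩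
    rw [← hφP]
    ext y; constructor
    · rintro ⟨x, rfl⟩
      exact ⟨Subgroup.inclusion (le_normalizerIn hPS) x, Subgroup.mem_subgroupOf.mpr x.2, rfl⟩
    · rintro ⟨x, hx, rfl⟩
      exact ⟨⟨x, Subgroup.mem_subgroupOf.mp hx⟩, rfl⟩
  obtain ⟨ψ, hψ, hψr, hψφ, hφψ⟩ := exists_inv_hom F hφ hr
  have hcard : Nat.card (centralizerIn S Q) ≤ Nat.card (centralizerIn S P) := by
    haveI : Finite (centralizerIn S P) := finite_of_le S inf_le_left
    have hCN : centralizerIn S Q ≤ normalizerIn S Q :=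
      inf_le_inf_left S (Subgroup.centralizer_le_normalizer _)
    have hmem : ∀ c : centralizerIn S Q, ψ ⟨c, hCN c.2⟩ ∈ centralizerIn S P := by
      intro c
      refine ⟨(F.le_of_mem hψ).2 _, Subgroup.mem_centralizer_iff.mpr ?_⟩
      intro x hx
      have hd : ψ ⟨c, hCN c.2⟩ ∈ normalizerIn S P := by
        rw [← hψr]; exact ⟨_, rfl⟩
      have hxN : x ∈ normalizerIn S P := le_normalizerIn hPS hx
      have hφx : φ ⟨x, hxN⟩ ∈ Q := by
        rw [← hφP]; exact ⟨⟨x, hxN⟩, Subgroup.mem_subgroupOf.mpr hx, rfl⟩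
      have hcomm : φ ⟨x, hxN⟩ * (c : Ω) = (c : Ω) * φ ⟨x, hxN⟩ :=
        Subgroup.mem_centralizer_iff.mp c.2.2 _ hφx
      have h1 : φ (⟨x, hxN⟩ * ⟨ψ ⟨c, hCN c.2⟩, hd⟩) = φ (⟨ψ ⟨c, hCN c.2⟩, hd⟩ * ⟨x, hxN⟩) := by
        rw [map_mul, map_mul, hφψ ⟨c, hCN c.2⟩ hd]
        exact hcomm
      have h2 := F.injective_of_mem hφ h1
      exact congrArg Subtype.val h2
    let f : centralizerIn S Q → centralizerIn S P := fun c => ⟨ψ ⟨c, hCN c.2⟩, hmem c⟩
    have hf : Function.Injective f := by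
      intro a b hab
      have h1 : ψ ⟨a, hCN a.2⟩ = ψ ⟨b, hCN b.2⟩ := congrArg Subtype.val hab
      have h2 := F.injective_of_mem hψ h1
      exact Subtype.ext (congrArg (fun z : normalizerIn S Q => (z : Ω)) h2)
    exact Nat.card_le_card_of_injective f hf
  intro R hR
  exact (hQ.2 R (isConj_trans F (isConj_symm F hPQ) hR)).trans hcard

/-- transfer of "fully automized" along an isomorphism of normalizers. -/
theorem fullyAutomized_of_normalizer_iso [Finite S] {p : ℕ} [Fact p.Prime] (F : FusionSystem S)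
    {P Q : Subgroup Ω} (hPS : P ≤ S) (hQ : F.IsFullyAutomized p Q)
    {φ : normalizerIn S P →* Ω} (hφ : φ ∈ F.Hom (normalizerIn S P))
    (hr : φ.range = normalizerIn S Q)
    (hφP : (P.subgroupOf (normalizerIn S P)).map φ = Q) : F.IsFullyAutomized p P := by
  refine ⟨hPS, ?_⟩
  obtain ⟨hQS, hsyl⟩ := hQ
  have hsyl' : IsSylowIn p (autInducedBy S Q) (F.autGroup Q) := hsyl
  have hres : φ.comp (Subgroup.inclusion (le_normalizerIn hPS)) ∈ F.Hom P := restrict_mem F _ hφ
  have hresr : (φ.comp (Subgroup.inclusion (le_normalizerIn hPS))).range = Q := by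
    rw [← hφP]
    ext y; constructor
    · rintro ⟨x, rfl⟩
      exact ⟨Subgroup.inclusion (le_normalizerIn hPS) x, Subgroup.mem_subgroupOf.mpr x.2, rfl⟩
    · rintro ⟨x, hx, rfl⟩
      exact ⟨⟨x, Subgroup.mem_subgroupOf.mp hx⟩, rfl⟩
  obtain ⟨e, he, hecoe⟩ := exists_isFIso_of_mem F hres hresr
  have hecoe' : ∀ x : P, ((e x : Q) : Ω) = φ ⟨x, le_normalizerIn hPS x.2⟩ := hecoe
  haveI : Finite P := finite_of_le S hPS
  haveI : Finite Q := finite_of_le S hQS
  -- transport of induced automorphisms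
  have hkey : ∀ (g : Ω) (hg : g ∈ normalizerIn S P) (hg' : φ ⟨g, hg⟩ ∈ normalizerIn S Q),
      MulAut.congr e (normAut P g hg.2) = normAut Q (φ ⟨g, hg⟩) hg'.2 := by
    intro g hg hg'
    ext y
    show ((e (normAut P g hg.2 (e.symm y)) : Q) : Ω) = φ ⟨g, hg⟩ * y * (φ ⟨g, hg⟩)⁻¹
    rw [hecoe']
    have h1 : (⟨((normAut P g hg.2 (e.symm y) : P) : Ω),
        le_normalizerIn hPS (normAut P g hg.2 (e.symm y)).2⟩ : normalizerIn S P) =
        ⟨g, hg⟩ * ⟨(e.symm y : P), le_normalizerIn hPS (e.symm y).2⟩ * ⟨g, hg⟩⁻¹ := rfl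
    rw [h1, map_mul, map_mul, map_inv, ← hecoe' (e.symm y), MulEquiv.apply_symm_apply]
  have hmapS : (autInducedBy S P).map (MulAut.congr e).toMonoidHom = autInducedBy S Q := by
    apply le_antisymm
    · rintro _ ⟨α, hα, rfl⟩
      obtain ⟨g, hg, rfl⟩ := (mem_autInducedBy_iff' S P α).mp hα
      have hg' : φ ⟨g, hg⟩ ∈ normalizerIn S Q := by rw [← hr]; exact ⟨_, rfl⟩
      show MulAut.congr e (normAut P g hg.2) ∈ _
      rw [hkey g hg hg']
      exact normAut_mem S Q hg'
    · intro β hβ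
      obtain ⟨h, hh, rfl⟩ := (mem_autInducedBy_iff' S Q β).mp hβ
      have hh' : h ∈ φ.range := by rw [hr]; exact hh
      obtain ⟨g, rfl⟩ := hh'
      refine ⟨normAut P g g.2.2, normAut_mem S P g.2, ?_⟩
      exact hkey g g.2 hh
  have hinj : Function.Injective (MulAut.congr e).toMonoidHom := (MulAut.congr e).injective
  have hc1 : Nat.card (autInducedBy S P) = Nat.card (autInducedBy S Q) := by
    rw [← hmapS, Subgroup.card_map_of_injective hinj]
  have hc2 : Nat.card (F.autGroup P) = Nat.card (F.autGroup Q) := by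
    rw [← he.map_autGroup, Subgroup.card_map_of_injective hinj]
  show IsSylowIn p (autInducedBy S P) (F.autGroup P)
  rw [isSylowIn_iff_card (autInducedBy_le_autGroup F hPS), hc1, hc2]
  exact (isSylowIn_iff_card (autInducedBy_le_autGroup F hQS)).mp hsyl'

/-- in a saturated system a fully normalized subgroup is fully centralized and fully automized. -/
theorem fullyNormalized_imp [Finite S] {p : ℕ} [Fact p.Prime] (hS : IsPGroup p S)
    (F : FusionSystem S) (hF : F.IsSaturated p) {P : Subgroup Ω} (hP : F.IsFullyNormalized P) :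
    F.IsFullyCentralized P ∧ F.IsFullyAutomized p P := by
  obtain ⟨Q, hPQ, hQ₁, hQ₂⟩ := hF P hP.1
  obtain ⟨φ, hφ, hr, hφP⟩ := exists_normalizer_iso hS F hP hQ₁ hQ₂ hPQ
  exact ⟨fullyCentralized_of_normalizer_iso F hP.1 (receptive_fullyCentralized F hQ₂) hφ hr hφP,
    fullyAutomized_of_normalizer_iso F hP.1 hQ₁ hφ hr hφP⟩

end Cfsg.Agent.helper25
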