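import Cfsg.Agent.Lib_helper25_SatEquiv2

set_option autoImplicit false
set_option linter.style.haveILetI false
set_option linter.unusedVariables false

namespace Cfsg.Agent.helper25

open Cfsg Cfsg.FusionSystem

/-- a `p`-subgroup that is not Sylow is normalized by an element outside it whose `p'`-powers
stay outside. -/
theorem exists_normalizing_of_not_sylow {A : Type*} [Group A] [Finite A] {p : ℕ} [Fact p.Prime]
    (H : Subgroup A) (hH : IsPGroup p H)
    (hns : Nat.card H ≠ p ^ (Nat.card A).factorization p) :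
    ∃ x : A, x ∈ Subgroup.normalizer (H : Set A) ∧ ∀ m : ℕ, ¬ p ∣ m → x ^ m ∉ H := by
  obtain ⟨n, hn⟩ := IsPGroup.iff_card.mp hH
  have hp : p.Prime := Fact.out
  have hA : Nat.card A ≠ 0 := Nat.card_pos.ne'
  have hdvd0 : p ^ n ∣ Nat.card A := hn ▸ Subgroup.card_subgroup_dvd_card H
  have hle : n ≤ (Nat.card A).factorization p := (hp.pow_dvd_iff_le_factorization hA).mp hdvd0
  have hne : n ≠ (Nat.card A).factorization p := by
    intro h; apply hns; rw [hn, h]
  have hdvd : p ^ (n + 1) ∣ Nat.card A := (hp.pow_dvd_iff_le_factorization hA).mpr (by omega)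
  have h1 := Sylow.prime_dvd_card_quotient_normalizer hdvd hn
  haveI : (H.comap (Subgroup.normalizer (H : Set A)).subtype).Normal :=
    (Subgroup.normal_in_normalizer : (H.subgroupOf (Subgroup.normalizer (H : Set A))).Normal)
  obtain ⟨xbar, hx⟩ := exists_prime_orderOf_dvd_card' p h1
  obtain ⟨x, rfl⟩ := QuotientGroup.mk_surjective xbar
  refine ⟨x, x.2, ?_⟩
  intro m hm hxm
  apply hm
  rw [← hx, orderOf_dvd_iff_pow_eq_one, ← QuotientGroup.mk_pow, QuotientGroup.eq_one_iff]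
  exact hxm

theorem card_lt_of_lt' {G : Type*} [Group G] {H K : Subgroup G} [Finite K] (h : H < K) :
    Nat.card H < Nat.card K := by
  apply lt_of_le_of_ne (Subgroup.card_le_of_le h.le)
  intro he
  exact h.ne (Subgroup.eq_of_le_of_card_ge h.le he.ge)

variable {Ω : Type*} [Group Ω] {S : Subgroup Ω}

theorem le_normalizer_of_conj_mem {K P : Subgroup Ω} (h : ∀ x ∈ K, ∀ y ∈ P, x * y * x⁻¹ ∈ P) :
    K ≤ Subgroup.normalizer (P : Set Ω) := by
  intro x hx
  rw [Subgroup.mem_normalizer_iff]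
  intro y
  constructor
  · exact h x hx y
  · intro hy
    have h1 := h x⁻¹ (inv_mem hx) _ hy
    have e : x⁻¹ * (x * y * x⁻¹) * x⁻¹⁻¹ = y := by group
    rwa [e] at h1

theorem mem_normalizer_of_surj {P : Subgroup Ω} {s : Ω} (h : ∀ y ∈ P, s * y * s⁻¹ ∈ P)
    (h' : ∀ y ∈ P, ∃ z ∈ P, s * z * s⁻¹ = y) : s ∈ Subgroup.normalizer (P : Set Ω) := by
  rw [Subgroup.mem_normalizer_iff]
  intro y
  constructor
  · exact h y
  · intro hy
    obtain ⟨z, hz, he⟩ := h' _ hy
    have : z = y := mul_left_cancel (mul_right_cancel he)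
    rw [← this]; exact hz

/-- a proper subgroup of a finite `p`-group is properly contained in its normalizer. -/
theorem lt_normalizerIn [Finite S] {p : ℕ} [Fact p.Prime] (hS : IsPGroup p S) {Q : Subgroup Ω}
    (hQ : Q < S) : Q < normalizerIn S Q := by
  haveI : Group.IsNilpotent S := hS.isNilpotent
  have hlt : Q.subgroupOf S < ⊤ := by
    rw [lt_top_iff_ne_top]
    intro h
    rw [Subgroup.subgroupOf_eq_top] at h
    exact (not_le_of_gt hQ) h
  have h1 := Group.normalizerCondition_of_isNilpotent (G := S) (Q.subgroupOf S) hlt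
  obtain ⟨x, hxN, hxQ⟩ := SetLike.exists_of_lt h1
  refine lt_of_le_of_ne (le_normalizerIn hQ.le) ?_
  intro heq
  apply hxQ
  rw [Subgroup.mem_subgroupOf]
  have hx' : (x : Ω) ∈ normalizerIn S Q := by
    refine ⟨x.2, Subgroup.mem_normalizer_iff.mpr ?_⟩
    intro h
    constructor
    · intro hh
      have := (Subgroup.mem_normalizer_iff.mp hxN ⟨h, hQ.le hh⟩).mp (Subgroup.mem_subgroupOf.mpr hh)
      exact Subgroup.mem_subgroupOf.mp this
    · intro hh
      have hhS : h ∈ S := by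
        have e : h = (x : Ω)⁻¹ * ((x : Ω) * h * (x : Ω)⁻¹) * x := by group
        rw [e]
        exact S.mul_mem (S.mul_mem (S.inv_mem x.2) (hQ.le hh)) x.2
      have := (Subgroup.mem_normalizer_iff.mp hxN ⟨h, hhS⟩).mpr (Subgroup.mem_subgroupOf.mpr hh)
      exact Subgroup.mem_subgroupOf.mp this
  rw [← heq] at hx'
  exact hx'

/-- an element of `N_S(Q)` whose transported action is induced by `S` lies in the extender. -/
theorem mem_extender_of_aut {Q : Subgroup Ω} (α : MulAut Q) {g : Ω} (hg : g ∈ normalizerIn S Q)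
    (h : α * normAut Q g hg.2 * α⁻¹ ∈ autInducedBy S Q) :
    g ∈ extender S Q (Q.subtype.comp α.toMonoidHom) := by
  apply Subgroup.subset_closure
  obtain ⟨h', hh'S, hh'⟩ := (mem_autInducedBy_iff S Q _).mp h
  refine ⟨hg.1, hg.2, h', hh'S, ?_⟩
  intro x hx
  have h3 := hh' (α x)
  have h4 : (α * normAut Q g hg.2 * α⁻¹) (α x) = α (normAut Q g hg.2 x) := by
    show α (normAut Q g hg.2 (α.symm (α x))) = _
    rw [MulEquiv.symm_apply_apply]
  rw [h4] at h3
  exact h3

/-- images of normalizing elements normalize the image. -/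
theorem map_mem_normalizer {Q P N : Subgroup Ω} (hQN : Q ≤ N)
    (hN : N ≤ Subgroup.normalizer (Q : Set Ω)) (ψ : N →* Ω) (ε : Q ≃* P)
    (hval : ∀ q : Q, ψ ⟨q, hQN q.2⟩ = ((ε q : P) : Ω)) (x : N) :
    ψ x ∈ Subgroup.normalizer (P : Set Ω) := by
  have hconj : ∀ (x : N) (y : Ω), y ∈ P → ψ x * y * (ψ x)⁻¹ ∈ P := by
    intro x y hy
    have h1 : ψ ⟨(ε.symm ⟨y, hy⟩ : Q), hQN (ε.symm ⟨y, hy⟩).2⟩ = y := by
      rw [hval, MulEquiv.apply_symm_apply]
    have hxq : (x : Ω) * ((ε.symm ⟨y, hy⟩ : Q) : Ω) * (x : Ω)⁻¹ ∈ Q :=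
      (Subgroup.mem_normalizer_iff.mp (hN x.2) _).mp (ε.symm ⟨y, hy⟩).2
    have h2 := hval ⟨_, hxq⟩
    have h3 : (⟨(x : Ω) * ((ε.symm ⟨y, hy⟩ : Q) : Ω) * (x : Ω)⁻¹, hQN hxq⟩ : N) =
        x * ⟨(ε.symm ⟨y, hy⟩ : Q), hQN (ε.symm ⟨y, hy⟩).2⟩ * x⁻¹ := rfl
    rw [h3, map_mul, map_mul, map_inv, h1] at h2
    rw [h2]
    exact (ε _).2
  rw [Subgroup.mem_normalizer_iff]
  intro y
  constructor
  · exact hconj x y
  · intro hy
    have h1 := hconj x⁻¹ _ hy
    rw [map_inv, inv_inv] at h1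
    have e1 : (ψ x)⁻¹ * (ψ x * y * (ψ x)⁻¹) * ψ x = y := by group
    rwa [e1] at h1

theorem range_subtype_comp {P Q : Subgroup Ω} (e : P ≃* Q) :
    (Q.subtype.comp e.toMonoidHom).range = Q := by
  ext y; constructor
  · rintro ⟨z, rfl⟩; exact (e z).2
  · intro hy
    refine ⟨e.symm ⟨y, hy⟩, ?_⟩
    show ((e (e.symm ⟨y, hy⟩) : Q) : Ω) = y
    rw [MulEquiv.apply_symm_apply]

/-- an automorphism of a receptive `Q` normalizing `Aut_S(Q)` extends to `N_S(Q)`. -/
theorem exists_extend_aut [Finite S] (F : FusionSystem S) {Q : Subgroup Ω} (hQ : F.IsReceptive Q)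
    {α : MulAut Q} (hα : α ∈ F.autGroup Q)
    (hnorm : ∀ b ∈ autInducedBy S Q, α * b * α⁻¹ ∈ autInducedBy S Q) :
    ∃ α' : MulAut (normalizerIn S Q), α' ∈ F.autGroup (normalizerIn S Q) ∧
      ∀ q : Q, ((α' ⟨q, le_normalizerIn hQ.1 q.2⟩ : normalizerIn S Q) : Ω) = α q := by
  have hQS := hQ.1
  have hα' : IsFIso F α := (mem_autGroup_iff F hQS α).mp hα
  have hr : (Q.subtype.comp α.toMonoidHom).range = Q := range_subtype_comp α
  have hext : extender S Q (Q.subtype.comp α.toMonoidHom) = normalizerIn S Q := by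
    apply le_antisymm (extender_le S Q _)
    intro g hg
    exact mem_extender_of_aut α hg (hnorm _ (normAut_mem S Q hg))
  obtain ⟨ψ, hψ, hψφ⟩ := hQ.2 Q _ hα' hr
  have hψ' := hom_congr F hext hψ
  have hval : ∀ q : Q, (ψ.comp (Subgroup.inclusion hext.ge)) ⟨q, le_normalizerIn hQS q.2⟩ =
      ((α q : Q) : Ω) := fun q => hψφ q q.2 (hext.ge (le_normalizerIn hQS q.2))
  have hψ'N : ∀ x, (ψ.comp (Subgroup.inclusion hext.ge)) x ∈ normalizerIn S Q := fun x =>
    ⟨(F.le_of_mem hψ').2 x,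
      map_mem_normalizer (le_normalizerIn hQS) inf_le_right _ α hval x⟩
  have hrange : (ψ.comp (Subgroup.inclusion hext.ge)).range = normalizerIn S Q := by
    haveI : Finite (normalizerIn S Q) := finite_of_le S inf_le_left
    apply Subgroup.eq_of_le_of_card_ge
    · rintro _ ⟨x, rfl⟩; exact hψ'N x
    · exact le_of_eq (Nat.card_congr (MonoidHom.ofInjective (F.injective_of_mem hψ')).toEquiv)
  obtain ⟨e, he, hecoe⟩ := exists_isFIso_of_mem F hψ' hrange
  refine ⟨e, (mem_autGroup_iff F inf_le_left e).mpr he, ?_⟩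
  intro q
  rw [hecoe]; exact hval q

end Cfsg.Agent.helper25
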