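import Cfsg.Agent.Lib_helper25_Solvable

set_option autoImplicit false
set_option linter.style.haveILetI false
set_option linter.unusedVariables false

namespace Cfsg.Agent.helper25

open Cfsg Cfsg.FusionSystem
open scoped commutatorElement

variable {Ω : Type*} [Group Ω] {S : Subgroup Ω}

/-- the centralizer in `S` of a subgroup normal in the system is strongly closed. -/
theorem stronglyClosed_centralizerIn_of_isNormal (F : FusionSystem S) {Q : Subgroup Ω}
    (hQ : F.IsNormal Q) : F.StronglyClosed (centralizerIn S Q) := by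
  refine ⟨inf_le_left, fun R hR φ hφ x => ?_⟩
  obtain ⟨ψ, hψ, hψφ, hψQ⟩ := hQ.2 R φ hφ
  refine ⟨(F.le_of_mem hφ).2 x, ?_⟩
  show φ x ∈ Subgroup.centralizer (Q : Set Ω)
  rw [Subgroup.mem_centralizer_iff]
  intro q hq
  have hq' : q ∈ (Q.subgroupOf (R ⊔ Q)).map ψ := hψQ.ge hq
  obtain ⟨q₀, hq₀, rfl⟩ := hq'
  have hq₀Q : (q₀ : Ω) ∈ Q := Subgroup.mem_subgroupOf.mp hq₀
  rw [← hψφ x, ← map_mul, ← map_mul]
  congr 1
  apply Subtype.ext
  show (q₀ : Ω) * x = x * q₀
  have hxC := (hR x.2).2
  exact Subgroup.mem_centralizer_iff.mp hxC q₀ hq₀Q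

/-- a solvable saturated fusion system is constrained. -/
theorem solvable_constrained [Finite S] {p : ℕ} [Fact p.Prime] (hS : IsPGroup p S)
    (F : FusionSystem S) (hF : F.IsSaturated p) (h : F.IsSolvableSystem) :
    F.IsConstrained p := by
  have hQ : F.IsNormal F.core := isNormal_core F
  refine ⟨hF, F.core, hQ, ?_⟩
  have hQsc : F.StronglyClosed F.core := isNormal_stronglyClosed F hQ
  have hCsc := stronglyClosed_centralizerIn_of_isNormal F hQ
  obtain ⟨n, T, h0, hlast, hmono, hsc, hcomm⟩ := solvable_chain hS F hF h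
  have hCQ : centralizerIn S F.core ≤ F.core := by
    by_contra hnot
    have hj : ∃ j : Fin n, T (Fin.castSucc j) ⊓ centralizerIn S F.core ≤ F.core ∧
        ¬ T j.succ ⊓ centralizerIn S F.core ≤ F.core := by
      by_contra hcon
      push Not at hcon
      have hall : ∀ i : Fin (n + 1), T i ⊓ centralizerIn S F.core ≤ F.core := by
        intro i
        induction i using Fin.induction with
        | zero => rw [h0]; exact inf_le_left.trans bot_le
        | succ j ih => exact hcon j ih
      apply hnot
      have h1 := hall (Fin.last n)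
      rw [hlast] at h1
      exact (le_inf inf_le_left le_rfl).trans h1
    obtain ⟨j, hjle, hjnot⟩ := hj
    apply hjnot
    have hA₁ : F.IsNormal (T j.succ ⊓ centralizerIn S F.core) := by
      apply isNormal_of_chain hS F hF _ 2
        ![⊥, T (Fin.castSucc j) ⊓ centralizerIn S F.core, T j.succ ⊓ centralizerIn S F.core]
        rfl rfl
      · rw [Fin.monotone_iff_le_succ]
        intro i
        fin_cases i
        · show (⊥ : Subgroup Ω) ≤ _
          exact bot_le
        · show T (Fin.castSucc j) ⊓ centralizerIn S F.core ≤ T j.succ ⊓ centralizerIn S F.core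
          exact inf_le_inf_right _ (hmono (Fin.castSucc_lt_succ (i := j)).le)
      · intro i
        fin_cases i
        · refine ⟨stronglyClosed_inf F (hsc _) hCsc, ?_⟩
          show ⁅T j.succ ⊓ centralizerIn S F.core, T (Fin.castSucc j) ⊓ centralizerIn S F.core⁆ ≤ ⊥
          rw [Subgroup.commutator_le]
          intro a ha b hb
          have hb' : b ∈ F.core := hjle hb
          have h2 := Subgroup.mem_centralizer_iff.mp ha.2.2 b hb'
          rw [Subgroup.mem_bot, commutatorElement_eq_one_iff_mul_comm]; exact h2.symm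
        · refine ⟨stronglyClosed_inf F (hsc _) hCsc, ?_⟩
          show ⁅T j.succ ⊓ centralizerIn S F.core, T j.succ ⊓ centralizerIn S F.core⁆ ≤
            T (Fin.castSucc j) ⊓ centralizerIn S F.core
          rw [Subgroup.commutator_le]
          intro a ha b hb
          refine ⟨hcomm j (Subgroup.commutator_mem_commutator ha.1 hb.1), ?_⟩
          rw [commutatorElement_def]
          exact Subgroup.mul_mem _ (Subgroup.mul_mem _ (Subgroup.mul_mem _ ha.2 hb.2)
            (Subgroup.inv_mem _ ha.2)) (Subgroup.inv_mem _ hb.2)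
    exact le_sSup (s := {Q : Subgroup Ω | F.IsNormal Q}) hA₁
  refine ⟨hQ.1, fun Q' hQ' => ?_⟩
  obtain ⟨φ, hφ, hr⟩ := hQ'
  haveI : Finite F.core := finite_of_le S hQ.1
  have hQ'eq : Q' = F.core := by
    rw [← hr]
    apply Subgroup.eq_of_le_of_card_ge
    · rintro _ ⟨x, rfl⟩
      exact hQsc.2 F.core le_rfl φ hφ x
    · exact le_of_eq (Nat.card_congr (MonoidHom.ofInjective (F.injective_of_mem hφ)).toEquiv)
  rw [hQ'eq]; exact hCQ

end Cfsg.Agent.helper25
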