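import Mathlib
import Cfsg.Prelude.Def_JordanBlocks

set_option autoImplicit false
set_option linter.unusedSectionVars false

/-! Order of the centraliser in GL of a unipotent matrix of given Jordan type (helper25). -/



namespace Cfsg.Agent.helper25.UCent

section Alg

variable {F : Type*} [Field F] {t : ℕ} (d : Fin t → ℕ)

/-- index type of the Jordan type matrix -/
abbrev Ix := (k : Fin t) × Fin (d k)

/-- the nilpotent part `J - 1` as a linear map: shift down inside each block -/
def Nl : Module.End F (Ix d → F) where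
  toFun v := fun p => if h : 1 ≤ (p.2 : ℕ) then v ⟨p.1, ⟨(p.2 : ℕ) - 1, by have := p.2.2; omega⟩⟩ else 0
  map_add' := by
    intro v w
    funext p
    by_cases h : 1 ≤ (p.2 : ℕ)
    · simp [h]
    · simp [h]
  map_smul' := by
    intro a v
    funext p
    by_cases h : 1 ≤ (p.2 : ℕ)
    · simp [h]
    · simp [h]

theorem Nl_apply (v : Ix d → F) (p : Ix d) :
    Nl d v p = if h : 1 ≤ (p.2 : ℕ) then v ⟨p.1, ⟨(p.2 : ℕ) - 1, by have := p.2.2; omega⟩⟩ else 0 := rfl

theorem Nl_pow_apply (m : ℕ) (v : Ix d → F) (p : Ix d) :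
    ((Nl d) ^ m) v p = if h : m ≤ (p.2 : ℕ) then v ⟨p.1, ⟨(p.2 : ℕ) - m, by have := p.2.2; omega⟩⟩ else 0 := by
  induction m generalizing v with
  | zero =>
    rw [pow_zero, dif_pos (Nat.zero_le _)]
    rfl
  | succ m ih =>
    rw [pow_succ, Module.End.mul_apply, ih]
    by_cases h : m + 1 ≤ (p.2 : ℕ)
    · have h1 : m ≤ (p.2 : ℕ) := by omega
      rw [dif_pos h, dif_pos h1, Nl_apply]
      have h2 : 1 ≤ (p.2 : ℕ) - m := by omega
      rw [dif_pos h2]
      congr 1
    · rw [dif_neg h]
      by_cases h1 : m ≤ (p.2 : ℕ)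
      · rw [dif_pos h1, Nl_apply]
        have h2 : ¬ 1 ≤ (p.2 : ℕ) - m := by omega
        rw [dif_neg h2]
      · rw [dif_neg h1]

theorem jordan_sub_one :
    Cfsg.jordanTypeMatrix d F - 1 = LinearMap.toMatrix' (Nl d) := by
  ext ⟨k, i⟩ ⟨l, j⟩
  rw [LinearMap.toMatrix'_apply, Nl_apply, Matrix.sub_apply, Matrix.one_apply]
  unfold Cfsg.jordanTypeMatrix
  by_cases hkl : k = l
  · subst hkl
    rw [Matrix.blockDiagonal'_apply_eq]
    unfold Cfsg.jordanBlock
    rw [Matrix.of_apply]
    by_cases h1 : (i : ℕ) = j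
    · have hij : i = j := Fin.ext h1
      subst hij
      rw [if_pos rfl, if_pos rfl, sub_self]
      by_cases h3 : 1 ≤ (i : ℕ)
      · rw [dif_pos h3, Pi.single_apply, if_neg]
        intro h
        have := Sigma.mk.inj_iff.mp h
        have h4 := congrArg Fin.val (eq_of_heq this.2)
        simp at h4
        omega
      · rw [dif_neg h3]
    · have hne : (⟨k, i⟩ : Ix d) ≠ ⟨k, j⟩ := by
        intro h
        apply h1
        have := Sigma.mk.inj_iff.mp h
        simpa using congrArg Fin.val (eq_of_heq this.2)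
      rw [if_neg h1, if_neg hne, sub_zero]
      by_cases h2 : (i : ℕ) = (j : ℕ) + 1
      · rw [if_pos h2]
        have h3 : 1 ≤ (i : ℕ) := by omega
        rw [dif_pos h3, Pi.single_apply, if_pos]
        show (⟨k, ⟨(i : ℕ) - 1, _⟩⟩ : Ix d) = ⟨k, j⟩
        congr 1
        apply Fin.ext
        show (i : ℕ) - 1 = j
        omega
      · rw [if_neg h2]
        by_cases h3 : 1 ≤ (i : ℕ)
        · rw [dif_pos h3, Pi.single_apply, if_neg]
          intro h
          apply h2
          have := Sigma.mk.inj_iff.mp h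
          have h4 := congrArg Fin.val (eq_of_heq this.2)
          simp at h4
          omega
        · rw [dif_neg h3]
  · rw [Matrix.blockDiagonal'_apply_ne _ _ _ hkl]
    have hne : (⟨k, i⟩ : Ix d) ≠ ⟨l, j⟩ := by
      intro h
      exact hkl (Sigma.mk.inj_iff.mp h).1
    rw [if_neg hne, sub_zero]
    by_cases h3 : 1 ≤ (i : ℕ)
    · rw [dif_pos h3, Pi.single_apply, if_neg]
      intro h
      exact hkl (Sigma.mk.inj_iff.mp h).1
    · rw [dif_neg h3]

theorem toLin'_jordan_sub_one :
    Matrix.toLin' (Cfsg.jordanTypeMatrix d F - 1) = Nl d := by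
  rw [jordan_sub_one, Matrix.toLin'_toMatrix']

end Alg

end Cfsg.Agent.helper25.UCent



namespace Cfsg.Agent.helper25.UCent

section Alg2

variable {F : Type*} [Field F] {t : ℕ} {d : Fin t → ℕ}

theorem ix_eq_iff (p p' : Ix d) : p = p' ↔ p.1 = p'.1 ∧ (p.2 : ℕ) = (p'.2 : ℕ) := by
  constructor
  · rintro rfl
    exact ⟨rfl, rfl⟩
  · obtain ⟨k, i⟩ := p
    obtain ⟨l, j⟩ := p'
    rintro ⟨h1, h2⟩
    simp only at h1 h2
    subst h1
    congr 1
    exact Fin.ext h2

variable (hd : ∀ k, 1 ≤ d k)

/-- bottom index of block `k` -/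
def p0 (k : Fin t) : Ix d := ⟨k, ⟨0, hd k⟩⟩

/-- generator of block `k` -/
def xk (k : Fin t) : Ix d → F := Pi.single (p0 hd k) 1

theorem Nl_pow_xk (p : Ix d) :
    ((Nl d) ^ (p.2 : ℕ)) (xk (F := F) hd p.1) = Pi.single p 1 := by
  funext p'
  rw [Nl_pow_apply, Pi.single_apply]
  by_cases h : (p.2 : ℕ) ≤ (p'.2 : ℕ)
  · rw [dif_pos h]
    unfold xk
    rw [Pi.single_apply]
    congr 1
    apply propext
    rw [ix_eq_iff, ix_eq_iff]
    unfold p0
    simp only
    constructor
    · rintro ⟨h1, h2⟩
      exact ⟨h1, by omega⟩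
    · rintro ⟨h1, h2⟩
      exact ⟨h1, by omega⟩
  · rw [dif_neg h, if_neg]
    intro h'
    rw [h'] at h
    exact h le_rfl

theorem Nl_pow_xk_top (k : Fin t) :
    ((Nl d) ^ (d k)) (xk (F := F) hd k) = 0 := by
  funext p'
  rw [Nl_pow_apply]
  by_cases h : d k ≤ (p'.2 : ℕ)
  · rw [dif_pos h]
    unfold xk
    rw [Pi.single_apply, if_neg]
    · rfl
    · rw [ix_eq_iff]
      unfold p0
      simp only
      rintro ⟨h1, h2⟩
      have := p'.2.2
      have h5 : d p'.1 = d k := congrArg d h1
      omega
  · rw [dif_neg h]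
    rfl

theorem Nl_pow_eq_zero (M : ℕ) (hM : ∀ k, d k ≤ M) : (Nl (F := F) d) ^ M = 0 := by
  apply LinearMap.ext
  intro v
  funext p
  rw [Nl_pow_apply, dif_neg]
  · rfl
  · have := p.2.2
    have := hM p.1
    omega

/-- the endomorphism determined by the images `y k` of the generators -/
noncomputable def phi (y : Fin t → Ix d → F) : Module.End F (Ix d → F) :=
  (Pi.basisFun F (Ix d)).constr F (fun p => ((Nl d) ^ (p.2 : ℕ)) (y p.1))

theorem phi_single (y : Fin t → Ix d → F) (p : Ix d) :
    phi y (Pi.single p 1) = ((Nl d) ^ (p.2 : ℕ)) (y p.1) := by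
  have := (Pi.basisFun F (Ix d)).constr_basis F (fun p => ((Nl d) ^ (p.2 : ℕ)) (y p.1)) p
  rwa [Pi.basisFun_apply] at this

theorem end_ext (f g : Module.End F (Ix d → F))
    (h : ∀ p, f (Pi.single p 1) = g (Pi.single p 1)) : f = g := by
  apply (Pi.basisFun F (Ix d)).ext
  intro p
  rw [Pi.basisFun_apply]
  exact h p

theorem phi_xk (y : Fin t → Ix d → F) (k : Fin t) : phi y (xk hd k) = y k := by
  unfold xk
  rw [phi_single]
  show ((Nl d) ^ 0) (y k) = y k
  rw [pow_zero]
  rfl

theorem Nl_single (p : Ix d) :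
    Nl (F := F) d (Pi.single p 1) =
      if h : (p.2 : ℕ) + 1 < d p.1 then Pi.single (⟨p.1, ⟨(p.2 : ℕ) + 1, h⟩⟩ : Ix d) 1 else 0 := by
  funext p'
  rw [Nl_apply]
  by_cases h1 : 1 ≤ (p'.2 : ℕ)
  · rw [dif_pos h1, Pi.single_apply]
    by_cases h : (p.2 : ℕ) + 1 < d p.1
    · rw [dif_pos h, Pi.single_apply]
      congr 1
      apply propext
      rw [ix_eq_iff, ix_eq_iff]
      simp only
      constructor
      · rintro ⟨h1, h2⟩
        exact ⟨h1, by omega⟩
      · rintro ⟨h1, h2⟩
        exact ⟨h1, by omega⟩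
    · rw [dif_neg h, if_neg]
      · rfl
      · rw [ix_eq_iff]
        simp only
        rintro ⟨h2, h3⟩
        have := p'.2.2
        have h5 : d p'.1 = d p.1 := congrArg d h2
        omega
  · rw [dif_neg h1]
    by_cases h : (p.2 : ℕ) + 1 < d p.1
    · rw [dif_pos h, Pi.single_apply, if_neg]
      rw [ix_eq_iff]
      simp only
      rintro ⟨h2, h3⟩
      omega
    · rw [dif_neg h]
      rfl

theorem phi_commute (y : Fin t → Ix d → F) (hy : ∀ k, ((Nl d) ^ (d k)) (y k) = 0) :
    Commute (phi y) (Nl d) := by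
  apply end_ext
  intro p
  rw [Module.End.mul_apply, Module.End.mul_apply, phi_single, Nl_single]
  by_cases h : (p.2 : ℕ) + 1 < d p.1
  · rw [dif_pos h, phi_single]
    show ((Nl d) ^ ((p.2 : ℕ) + 1)) (y p.1) = _
    rw [pow_succ', Module.End.mul_apply]
  · rw [dif_neg h, map_zero]
    have h2 : (p.2 : ℕ) + 1 = d p.1 := by
      have := p.2.2
      omega
    have := hy p.1
    rw [← h2, pow_succ', Module.End.mul_apply] at this
    exact this.symm

theorem commute_pow_apply (φ : Module.End F (Ix d → F)) (h : Commute φ (Nl d)) (m : ℕ)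
    (v : Ix d → F) : φ (((Nl d) ^ m) v) = ((Nl d) ^ m) (φ v) := by
  have := LinearMap.congr_fun (h.pow_right m).eq v
  rwa [Module.End.mul_apply, Module.End.mul_apply] at this

theorem commute_single (φ : Module.End F (Ix d → F)) (h : Commute φ (Nl d)) (p : Ix d) :
    φ (Pi.single p 1) = ((Nl d) ^ (p.2 : ℕ)) (φ (xk hd p.1)) := by
  rw [← commute_pow_apply φ h, Nl_pow_xk]

theorem eq_phi (φ : Module.End F (Ix d → F)) (h : Commute φ (Nl d)) :
    φ = phi (fun k => φ (xk hd k)) := by
  apply end_ext
  intro p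
  rw [phi_single, commute_single hd φ h]

/-- the `t × t` matrix of top coefficients -/
def Amat (y : Fin t → Ix d → F) : Matrix (Fin t) (Fin t) F :=
  Matrix.of fun l k => y k (p0 hd l)

/-- top coefficients of a vector -/
def top : (Ix d → F) →ₗ[F] (Fin t → F) where
  toFun v := fun l => v (p0 hd l)
  map_add' := by
    intro v w
    rfl
  map_smul' := by
    intro a v
    rfl

theorem top_apply (v : Ix d → F) (l : Fin t) : top hd v l = v (p0 hd l) := rfl

theorem top_Nl_pow (m : ℕ) (hm : 1 ≤ m) (v : Ix d → F) : top hd (((Nl d) ^ m) v) = 0 := by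
  funext l
  rw [top_apply, Nl_pow_apply, dif_neg]
  · rfl
  · unfold p0
    simp only
    omega

theorem top_phi (φ : Module.End F (Ix d → F)) (h : Commute φ (Nl d)) (v : Ix d → F) :
    top hd (φ v) = (Amat hd (fun k => φ (xk hd k))).mulVec (top hd v) := by
  have key : (top hd).comp φ = (Matrix.mulVecLin (Amat hd (fun k => φ (xk hd k)))).comp (top hd) := by
    apply (Pi.basisFun F (Ix d)).ext
    intro p
    rw [Pi.basisFun_apply, LinearMap.comp_apply, LinearMap.comp_apply, Matrix.mulVecLin_apply,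
      commute_single hd φ h]
    by_cases hp : (p.2 : ℕ) = 0
    · have hp' : p = p0 hd p.1 := by
        rw [ix_eq_iff]
        exact ⟨rfl, hp⟩
      have h1 : top hd (Pi.single p (1 : F)) = Pi.single p.1 1 := by
        funext l
        rw [top_apply, Pi.single_apply, Pi.single_apply]
        congr 1
        apply propext
        rw [ix_eq_iff]
        unfold p0
        simp only
        constructor
        · rintro ⟨h1, _⟩
          exact h1
        · intro h1
          exact ⟨h1, hp.symm⟩
      rw [h1, Matrix.mulVec_single_one, hp, pow_zero]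
      funext l
      rfl
    · have h1 : top hd (Pi.single p (1 : F)) = 0 := by
        funext l
        rw [top_apply, Pi.single_apply, if_neg]
        · rfl
        · rw [ix_eq_iff]
          unfold p0
          simp only
          rintro ⟨_, h2⟩
          exact hp h2.symm
      rw [h1, Matrix.mulVec_zero, top_Nl_pow hd _ (by omega)]
  have := LinearMap.congr_fun key v
  rwa [LinearMap.comp_apply, LinearMap.comp_apply, Matrix.mulVecLin_apply] at this

theorem top_surjective (c : Fin t → F) : ∃ v : Ix d → F, top hd v = c := by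
  refine ⟨fun p => if (p.2 : ℕ) = 0 then c p.1 else 0, ?_⟩
  funext l
  rw [top_apply]
  unfold p0
  simp

theorem exists_Nl_of_top_eq_zero (w : Ix d → F) (hw : top hd w = 0) : ∃ u, w = Nl d u := by
  refine ⟨fun p => if h : (p.2 : ℕ) + 1 < d p.1 then w ⟨p.1, ⟨(p.2 : ℕ) + 1, h⟩⟩ else 0, ?_⟩
  funext p
  rw [Nl_apply]
  by_cases h1 : 1 ≤ (p.2 : ℕ)
  · rw [dif_pos h1]
    have h2 : (p.2 : ℕ) - 1 + 1 < d p.1 := by
      have := p.2.2
      omega
    simp only
    rw [dif_pos h2]
    congr 1
    rw [ix_eq_iff]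
    simp only
    exact ⟨trivial, by omega⟩
  · rw [dif_neg h1]
    have hp : p = p0 hd p.1 := by
      rw [ix_eq_iff]
      unfold p0
      simp only
      exact ⟨trivial, by omega⟩
    rw [hp]
    exact congrFun hw p.1

theorem det_ne_zero_of_surjective (φ : Module.End F (Ix d → F)) (h : Commute φ (Nl d))
    (hs : Function.Surjective φ) : (Amat hd (fun k => φ (xk hd k))).det ≠ 0 := by
  have hsur : Function.Surjective (Amat hd (fun k => φ (xk hd k))).mulVec := by
    intro c
    obtain ⟨v, hv⟩ := top_surjective hd c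
    obtain ⟨u, hu⟩ := hs v
    refine ⟨top hd u, ?_⟩
    rw [← top_phi hd φ h, hu, hv]
  have := (Matrix.mulVec_surjective_iff_isUnit.mp hsur)
  rw [Matrix.isUnit_iff_isUnit_det] at this
  exact this.ne_zero

theorem surjective_of_det_ne_zero (φ : Module.End F (Ix d → F)) (h : Commute φ (Nl d))
    (hA : (Amat hd (fun k => φ (xk hd k))).det ≠ 0) : Function.Surjective φ := by
  have hsur : Function.Surjective (Amat hd (fun k => φ (xk hd k))).mulVec := by
    rw [Matrix.mulVec_surjective_iff_isUnit, Matrix.isUnit_iff_isUnit_det]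
    exact isUnit_iff_ne_zero.mpr hA
  have base : ∀ v : Ix d → F, ∃ z u, v = φ z + Nl d u := by
    intro v
    obtain ⟨c, hc⟩ := hsur (top hd v)
    obtain ⟨z, hz⟩ := top_surjective hd c
    have h0 : top hd (v - φ z) = 0 := by
      rw [map_sub, top_phi hd φ h, hz, hc, sub_self]
    obtain ⟨u, hu⟩ := exists_Nl_of_top_eq_zero hd _ h0
    refine ⟨z, u, ?_⟩
    rw [← hu]
    abel
  have step : ∀ j : ℕ, ∀ v : Ix d → F, ∃ z u, v = φ z + ((Nl d) ^ j) u := by
    intro j
    induction j with
    | zero =>
      intro v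
      refine ⟨0, v, ?_⟩
      rw [map_zero, zero_add, pow_zero]
      rfl
    | succ j ih =>
      intro v
      obtain ⟨z, u, hv⟩ := ih v
      obtain ⟨z', u', hu⟩ := base u
      refine ⟨z + ((Nl d) ^ j) z', u', ?_⟩
      rw [hv, hu, map_add, map_add, commute_pow_apply φ h, pow_succ, Module.End.mul_apply]
      abel
  intro v
  obtain ⟨z, u, hv⟩ := step (∑ k, d k) v
  refine ⟨z, ?_⟩
  rw [hv, Nl_pow_eq_zero (∑ k, d k) (fun k => Finset.single_le_sum (f := d) (fun i _ => Nat.zero_le _) (Finset.mem_univ k))]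
  simp

end Alg2

end Cfsg.Agent.helper25.UCent



namespace Cfsg.Agent.helper25.UCent

section Equivs

variable {F : Type*} [Field F] {t : ℕ} {d : Fin t → ℕ} (hd : ∀ k, 1 ≤ d k)

/-- invertible endomorphisms commuting with `Nl` are parametrised by generator images -/
noncomputable def centEquiv :
    {φ : (Ix d → F) ≃ₗ[F] (Ix d → F) // Commute (φ.toLinearMap : Module.End F (Ix d → F)) (Nl d)} ≃
    {y : Fin t → Ix d → F // (∀ k, ((Nl d) ^ (d k)) (y k) = 0) ∧ (Amat hd y).det ≠ 0} where
  toFun φ := ⟨fun k => φ.1 (xk hd k), by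
    constructor
    · intro k
      have := commute_pow_apply (φ.1.toLinearMap) φ.2 (d k) (xk hd k)
      rw [Nl_pow_xk_top, map_zero] at this
      exact this.symm
    · exact det_ne_zero_of_surjective hd (φ.1.toLinearMap) φ.2 φ.1.surjective⟩
  invFun y := ⟨LinearEquiv.ofBijective (phi y.1) (by
      have hc := phi_commute y.1 y.2.1
      have hs : Function.Surjective (phi y.1) := by
        apply surjective_of_det_ne_zero hd _ hc
        have : (fun k => phi y.1 (xk hd k)) = y.1 := by
          funext k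
          rw [phi_xk]
        rw [this]
        exact y.2.2
      exact ⟨LinearMap.injective_iff_surjective.mpr hs, hs⟩), by
    have hc := phi_commute y.1 y.2.1
    exact hc⟩
  left_inv := by
    intro φ
    apply Subtype.ext
    apply LinearEquiv.toLinearMap_injective
    show phi (fun k => φ.1 (xk hd k)) = φ.1.toLinearMap
    exact (eq_phi hd φ.1.toLinearMap φ.2).symm
  right_inv := by
    intro y
    apply Subtype.ext
    funext k
    show phi y.1 (xk hd k) = y.1 k
    rw [phi_xk]

/-- `GL` as linear equivalences -/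
noncomputable def glEquiv : GL (Ix d) F ≃ ((Ix d → F) ≃ₗ[F] (Ix d → F)) :=
  (Matrix.GeneralLinearGroup.toLin.trans
    (LinearMap.GeneralLinearGroup.generalLinearEquiv F (Ix d → F))).toEquiv

theorem glEquiv_toLinearMap (g : GL (Ix d) F) :
    (glEquiv g).toLinearMap = Matrix.toLin' (g : Matrix (Ix d) (Ix d) F) := by
  apply LinearMap.ext
  intro v
  rfl

theorem commute_iff (g : Matrix (Ix d) (Ix d) F) :
    g * Cfsg.jordanTypeMatrix d F = Cfsg.jordanTypeMatrix d F * g ↔
      Commute (Matrix.toLin' g : Module.End F (Ix d → F)) (Nl d) := by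
  have h1 : g * Cfsg.jordanTypeMatrix d F = Cfsg.jordanTypeMatrix d F * g ↔
      g * (Cfsg.jordanTypeMatrix d F - 1) = (Cfsg.jordanTypeMatrix d F - 1) * g := by
    rw [mul_sub, sub_mul, mul_one, one_mul, sub_left_inj]
  rw [h1, ← toLin'_jordan_sub_one]
  unfold Commute SemiconjBy
  rw [Module.End.mul_eq_comp, Module.End.mul_eq_comp, ← Matrix.toLin'_mul, ← Matrix.toLin'_mul]
  exact (Matrix.toLin'.injective.eq_iff).symm

/-- the centraliser in `GL` as commuting linear equivalences -/
noncomputable def glCentEquiv :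
    {g : GL (Ix d) F // (g : Matrix (Ix d) (Ix d) F) * Cfsg.jordanTypeMatrix d F =
      Cfsg.jordanTypeMatrix d F * (g : Matrix (Ix d) (Ix d) F)} ≃
    {φ : (Ix d → F) ≃ₗ[F] (Ix d → F) // Commute (φ.toLinearMap : Module.End F (Ix d → F)) (Nl d)} :=
  Equiv.subtypeEquiv glEquiv (by
    intro g
    rw [glEquiv_toLinearMap]
    exact commute_iff g.val)

theorem Nl_pow_eq_zero_iff (m : ℕ) (y : Ix d → F) :
    ((Nl d) ^ m) y = 0 ↔ ∀ p : Ix d, (p.2 : ℕ) + m < d p.1 → y p = 0 := by
  constructor
  · intro h p hp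
    have := congrFun h ⟨p.1, ⟨(p.2 : ℕ) + m, hp⟩⟩
    rw [Nl_pow_apply, dif_pos (by simp)] at this
    refine Eq.trans ?_ this
    congr 1
    rw [ix_eq_iff]
    simp
  · intro h
    funext p
    rw [Nl_pow_apply]
    by_cases hm : m ≤ (p.2 : ℕ)
    · rw [dif_pos hm]
      apply h
      simp only
      have := p.2.2
      omega
    · rw [dif_neg hm]
      rfl

/-- free coordinates outside the top row -/
abbrev Sp (d : Fin t → ℕ) : Type :=
  Σ kl : Fin t × Fin t, {j : Fin (d kl.2) // 1 ≤ (j : ℕ) ∧ d kl.2 ≤ (j : ℕ) + d kl.1}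

/-- split the parameters into the top matrix and the free coordinates -/
noncomputable def splitEquiv :
    {y : Fin t → Ix d → F // (∀ k, ((Nl d) ^ (d k)) (y k) = 0) ∧ (Amat hd y).det ≠ 0} ≃
    {B : Matrix (Fin t) (Fin t) F // B.BlockTriangular d ∧ B.det ≠ 0} × (Sp d → F) where
  toFun y := (⟨Amat hd y.1, by
      constructor
      · intro i j hij
        have := (Nl_pow_eq_zero_iff (d j) (y.1 j)).mp (y.2.1 j) (p0 hd i) (by
          unfold p0
          simp only
          omega)
        exact this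
      · exact y.2.2⟩, fun s => y.1 s.1.1 ⟨s.1.2, s.2.1⟩)
  invFun Bw := ⟨fun k p => if h0 : (p.2 : ℕ) = 0 then Bw.1.1 p.1 k else
      if h : d p.1 ≤ (p.2 : ℕ) + d k then Bw.2 ⟨(k, p.1), ⟨p.2, by omega, h⟩⟩ else 0, by
    have hA : Amat hd (fun k p => if h0 : (p.2 : ℕ) = 0 then Bw.1.1 p.1 k else
      if h : d p.1 ≤ (p.2 : ℕ) + d k then Bw.2 ⟨(k, p.1), ⟨p.2, by omega, h⟩⟩ else 0) = Bw.1.1 := by
      ext l k
      unfold Amat p0
      simp
    constructor
    · intro k
      rw [Nl_pow_eq_zero_iff]
      intro p hp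
      beta_reduce
      by_cases h0 : (p.2 : ℕ) = 0
      · rw [dif_pos h0]
        apply Bw.1.2.1
        omega
      · rw [dif_neg h0, dif_neg]
        omega
    · rw [hA]
      exact Bw.1.2.2⟩
  left_inv := by
    intro y
    apply Subtype.ext
    funext k p
    simp only
    by_cases h0 : (p.2 : ℕ) = 0
    · rw [dif_pos h0]
      have hp : p0 hd p.1 = p := by
        rw [ix_eq_iff]
        exact ⟨rfl, h0.symm⟩
      show y.1 k (p0 hd p.1) = y.1 k p
      rw [hp]
    · rw [dif_neg h0]
      by_cases h : d p.1 ≤ (p.2 : ℕ) + d k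
      · rw [dif_pos h]
      · rw [dif_neg h]
        symm
        exact (Nl_pow_eq_zero_iff (d k) (y.1 k)).mp (y.2.1 k) p (by omega)
  right_inv := by
    intro Bw
    obtain ⟨⟨B, hB⟩, w⟩ := Bw
    apply Prod.ext
    · apply Subtype.ext
      ext l k
      simp only
      unfold Amat p0
      simp
    · funext s
      obtain ⟨⟨k, l⟩, ⟨j, hj1, hj2⟩⟩ := s
      simp only
      rw [dif_neg (by omega), dif_pos hj2]

end Equivs

end Cfsg.Agent.helper25.UCent



namespace Cfsg.Agent.helper25.UCent

section BT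

variable {F : Type*} [Field F] {m β : Type*} [Fintype m] [DecidableEq m] [Fintype β] [LinearOrder β]
  (b : m → β)

/-- rebuild a block triangular matrix from diagonal blocks and strictly upper entries -/
def btBuild (C : ∀ a : β, Matrix {i // b i = a} {i // b i = a} F)
    (w : {p : m × m // b p.1 < b p.2} → F) : Matrix m m F :=
  Matrix.of fun i j => if h : b j = b i then C (b i) ⟨i, rfl⟩ ⟨j, h⟩ else
    if h' : b i < b j then w ⟨(i, j), h'⟩ else 0

theorem btBuild_blockTriangular (C : ∀ a : β, Matrix {i // b i = a} {i // b i = a} F)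
    (w : {p : m × m // b p.1 < b p.2} → F) : (btBuild b C w).BlockTriangular b := by
  intro i j hij
  unfold btBuild
  rw [Matrix.of_apply, dif_neg (ne_of_lt hij), dif_neg (not_lt_of_gt hij)]

theorem btBuild_toSquareBlock (C : ∀ a : β, Matrix {i // b i = a} {i // b i = a} F)
    (w : {p : m × m // b p.1 < b p.2} → F) (a : β) :
    (btBuild b C w).toSquareBlock b a = C a := by
  ext ⟨i, hi⟩ ⟨j, hj⟩
  rw [Matrix.toSquareBlock_def, Matrix.of_apply]
  unfold btBuild
  rw [Matrix.of_apply]
  subst hi
  rw [dif_pos hj]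

theorem btBuild_det (C : ∀ a : β, Matrix {i // b i = a} {i // b i = a} F)
    (w : {p : m × m // b p.1 < b p.2} → F) :
    (btBuild b C w).det = ∏ a : β, (C a).det := by
  rw [(btBuild_blockTriangular b C w).det_fintype]
  apply Finset.prod_congr rfl
  intro a _
  rw [btBuild_toSquareBlock]

/-- invertible block triangular matrices decompose into diagonal blocks and free entries -/
noncomputable def btEquiv :
    {B : Matrix m m F // B.BlockTriangular b ∧ B.det ≠ 0} ≃
    (∀ a : β, {C : Matrix {i // b i = a} {i // b i = a} F // C.det ≠ 0}) ×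
      ({p : m × m // b p.1 < b p.2} → F) where
  toFun B := (fun a => ⟨B.1.toSquareBlock b a, by
      have h := B.2.2
      rw [B.2.1.det_fintype] at h
      exact (Finset.prod_ne_zero_iff.mp h) a (Finset.mem_univ a)⟩, fun p => B.1 p.1.1 p.1.2)
  invFun Cw := ⟨btBuild b (fun a => (Cw.1 a).1) Cw.2, btBuild_blockTriangular b _ _, by
    rw [btBuild_det]
    exact Finset.prod_ne_zero_iff.mpr (fun a _ => (Cw.1 a).2)⟩
  left_inv := by
    intro B
    apply Subtype.ext
    ext i j
    show btBuild b (fun a => B.1.toSquareBlock b a) (fun p => B.1 p.1.1 p.1.2) i j = B.1 i j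
    unfold btBuild
    rw [Matrix.of_apply]
    by_cases h : b j = b i
    · rw [dif_pos h]
      rfl
    · rw [dif_neg h]
      by_cases h' : b i < b j
      · rw [dif_pos h']
      · rw [dif_neg h']
        symm
        apply B.2.1
        exact lt_of_le_of_ne (not_lt.mp h') h
  right_inv := by
    intro Cw
    obtain ⟨C, w⟩ := Cw
    apply Prod.ext
    · funext a
      apply Subtype.ext
      show (btBuild b (fun a => (C a).1) w).toSquareBlock b a = (C a).1
      rw [btBuild_toSquareBlock]
    · funext p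
      obtain ⟨⟨i, j⟩, hp⟩ := p
      show btBuild b (fun a => (C a).1) w i j = w ⟨(i, j), hp⟩
      unfold btBuild
      rw [Matrix.of_apply, dif_neg (ne_of_gt hp), dif_pos hp]

theorem card_bt [Fintype F] :
    Nat.card {B : Matrix m m F // B.BlockTriangular b ∧ B.det ≠ 0} =
      (∏ a : β, Nat.card {C : Matrix {i // b i = a} {i // b i = a} F // C.det ≠ 0}) *
        (Nat.card F) ^ (Nat.card {p : m × m // b p.1 < b p.2}) := by
  rw [Nat.card_congr (btEquiv b), Nat.card_prod, Nat.card_pi, Nat.card_fun]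

end BT

section GLcard

variable {F : Type*} [Field F] [Fintype F]

/-- matrices with nonzero determinant form `GL` -/
noncomputable def detNeZeroEquiv (ι : Type*) [Fintype ι] [DecidableEq ι] :
    {C : Matrix ι ι F // C.det ≠ 0} ≃ GL ι F where
  toFun C := Matrix.GeneralLinearGroup.mkOfDetNeZero C.1 C.2
  invFun g := ⟨g.val, by
    have := Matrix.GeneralLinearGroup.det_ne_zero g
    exact this⟩
  left_inv := by
    intro C
    rfl
  right_inv := by
    intro g
    apply Units.ext
    rfl

theorem card_det_ne_zero (ι : Type*) [Fintype ι] [DecidableEq ι] :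
    Nat.card {C : Matrix ι ι F // C.det ≠ 0} =
      ∏ j : Fin (Fintype.card ι), (Fintype.card F ^ (Fintype.card ι) - Fintype.card F ^ (j : ℕ)) := by
  have e : ι ≃ Fin (Fintype.card ι) := Fintype.equivFin ι
  have e2 : {C : Matrix ι ι F // C.det ≠ 0} ≃
      {C : Matrix (Fin (Fintype.card ι)) (Fin (Fintype.card ι)) F // C.det ≠ 0} :=
    Equiv.subtypeEquiv (Matrix.reindex e e) (by
      intro C
      rw [Matrix.det_reindex_self])
  rw [Nat.card_congr e2, Nat.card_congr (detNeZeroEquiv _), Matrix.card_GL_field]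

end GLcard

end Cfsg.Agent.helper25.UCent



namespace Cfsg.Agent.helper25.UCent

section Arith

/-- number of free coordinates in one block pair -/
theorem card_fin_sub (n m : ℕ) (hn : 1 ≤ n) :
    Fintype.card {j : Fin n // 1 ≤ (j : ℕ) ∧ n ≤ (j : ℕ) + m} = if n ≤ m then n - 1 else m := by
  rw [Fintype.card_subtype, Finset.card_filter,
    Fin.sum_univ_eq_sum_range (fun j => if 1 ≤ j ∧ n ≤ j + m then 1 else 0) n,
    ← Finset.card_filter]
  have : (Finset.range n).filter (fun j => 1 ≤ j ∧ n ≤ j + m) = Finset.Ico (max 1 (n - m)) n := by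
    ext j
    simp only [Finset.mem_filter, Finset.mem_range, Finset.mem_Ico]
    omega
  rw [this, Nat.card_Ico]
  split_ifs with h
  · omega
  · omega

variable {t : ℕ} (d : Fin t → ℕ)

/-- the pairing exponent -/
def epair (i j : ℕ) : ℕ := if i < j then i else if j < i then j else i - 1

theorem sum_comp_d (M : ℕ) (hM : ∀ k, d k < M) (g : ℕ → ℕ) :
    ∑ k, g (d k) = ∑ i ∈ Finset.range M, (Finset.univ.filter (fun k : Fin t => d k = i)).card * g i := by
  rw [← Finset.sum_fiberwise_of_maps_to (s := Finset.univ) (t := Finset.range M) (g := d)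
    (fun k _ => Finset.mem_range.mpr (hM k))]
  apply Finset.sum_congr rfl
  intro i _
  rw [Finset.sum_congr rfl (fun k hk => by rw [(Finset.mem_filter.mp hk).2] : ∀ k ∈ Finset.univ.filter (fun k : Fin t => d k = i), g (d k) = g i),
    Finset.sum_const, smul_eq_mul]

theorem exponent_identity (M : ℕ) (a : ℕ → ℕ) :
    ∑ i ∈ Finset.range M, a i * ∑ j ∈ Finset.range M, a j * epair i j =
      2 * (∑ i ∈ Finset.range M, ∑ j ∈ Finset.range M, if i < j then i * a i * a j else 0) +
        ∑ i ∈ Finset.range M, (i - 1) * a i ^ 2 := by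
  have h1 : ∀ i j : ℕ, a i * (a j * epair i j) =
      (if i < j then i * a i * a j else 0) + (if j < i then j * a j * a i else 0) +
        (if i = j then (i - 1) * a i ^ 2 else 0) := by
    intro i j
    unfold epair
    rcases lt_trichotomy i j with h | h | h
    · rw [if_pos h, if_pos h, if_neg (by omega), if_neg (by omega)]
      ring
    · subst h
      rw [if_neg (lt_irrefl _), if_neg (lt_irrefl _), if_neg (lt_irrefl _), if_pos rfl]
      ring
    · rw [if_neg (by omega), if_pos h, if_neg (by omega), if_pos h, if_neg (by omega)]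
      ring
  have h2 : ∑ i ∈ Finset.range M, a i * ∑ j ∈ Finset.range M, a j * epair i j =
      ∑ i ∈ Finset.range M, ∑ j ∈ Finset.range M, ((if i < j then i * a i * a j else 0) +
        (if j < i then j * a j * a i else 0) + (if i = j then (i - 1) * a i ^ 2 else 0)) := by
    apply Finset.sum_congr rfl
    intro i _
    rw [Finset.mul_sum]
    apply Finset.sum_congr rfl
    intro j _
    exact h1 i j
  rw [h2]
  simp only [Finset.sum_add_distrib]
  have h3 : ∑ i ∈ Finset.range M, ∑ j ∈ Finset.range M, (if j < i then j * a j * a i else 0) =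
      ∑ i ∈ Finset.range M, ∑ j ∈ Finset.range M, (if i < j then i * a i * a j else 0) := by
    rw [Finset.sum_comm]
  have h4 : ∑ i ∈ Finset.range M, ∑ j ∈ Finset.range M, (if i = j then (i - 1) * a i ^ 2 else 0) =
      ∑ i ∈ Finset.range M, (i - 1) * a i ^ 2 := by
    apply Finset.sum_congr rfl
    intro i hi
    rw [Finset.sum_ite_eq (Finset.range M) i (fun _ => (i - 1) * a i ^ 2), if_pos hi]
  rw [h3, h4]
  ring

theorem total_exponent (hd : ∀ k, 1 ≤ d k) (M : ℕ) (hM : ∀ k, d k < M) :
    (∑ k : Fin t, ∑ l : Fin t, ((if d l ≤ d k then d l - 1 else d k) + (if d l < d k then 1 else 0))) =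
      2 * (∑ i ∈ Finset.range M, ∑ j ∈ Finset.range M,
        if i < j then i * (Finset.univ.filter (fun k : Fin t => d k = i)).card *
          (Finset.univ.filter (fun k : Fin t => d k = j)).card else 0) +
        ∑ i ∈ Finset.range M, (i - 1) * (Finset.univ.filter (fun k : Fin t => d k = i)).card ^ 2 := by
  rw [← exponent_identity M (fun i => (Finset.univ.filter (fun k : Fin t => d k = i)).card)]
  have h1 : ∀ k l : Fin t, ((if d l ≤ d k then d l - 1 else d k) + (if d l < d k then 1 else 0)) =
      epair (d k) (d l) := by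
    intro k l
    unfold epair
    have := hd l
    have := hd k
    split_ifs <;> omega
  simp only [h1]
  rw [sum_comp_d d M hM (fun i => ∑ l : Fin t, epair i (d l))]
  apply Finset.sum_congr rfl
  intro i _
  congr 1
  exact sum_comp_d d M hM (fun j => epair i j)

end Arith

end Cfsg.Agent.helper25.UCent



namespace Cfsg.Agent.helper25.UCent

/-- order of `GL_n(q)` -/
def glc (q n : ℕ) : ℕ := ∏ j : Fin n, (q ^ n - q ^ (j : ℕ))

theorem card_centralizer {F : Type*} [Field F] [Fintype F] {t : ℕ} (d : Fin t → ℕ)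
    (hd : ∀ k, 1 ≤ d k) :
    Nat.card {g : GL (Ix d) F // (g : Matrix (Ix d) (Ix d) F) * Cfsg.jordanTypeMatrix d F =
      Cfsg.jordanTypeMatrix d F * (g : Matrix (Ix d) (Ix d) F)} =
    (Fintype.card F) ^ (2 * (∑ i ∈ Finset.range (Finset.univ.sup d + 1),
        ∑ j ∈ Finset.range (Finset.univ.sup d + 1),
          if i < j then i * (Finset.univ.filter (fun k : Fin t => d k = i)).card *
            (Finset.univ.filter (fun k : Fin t => d k = j)).card else 0) +
        ∑ i ∈ Finset.range (Finset.univ.sup d + 1),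
          (i - 1) * (Finset.univ.filter (fun k : Fin t => d k = i)).card ^ 2) *
      ∏ i ∈ Finset.range (Finset.univ.sup d + 1),
        glc (Fintype.card F) (Finset.univ.filter (fun k : Fin t => d k = i)).card := by
  classical
  have hM : ∀ k, d k < Finset.univ.sup d + 1 :=
    fun k => Nat.lt_succ_of_le (Finset.le_sup (Finset.mem_univ k))
  generalize Finset.univ.sup d + 1 = M at hM ⊢
  let b' : Fin t → Fin M := fun k => ⟨d k, hM k⟩
  have e1 := (glCentEquiv (F := F) (d := d)).trans ((centEquiv hd).trans (splitEquiv hd))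
  have e2 : {B : Matrix (Fin t) (Fin t) F // B.BlockTriangular d ∧ B.det ≠ 0} ≃
      {B : Matrix (Fin t) (Fin t) F // B.BlockTriangular b' ∧ B.det ≠ 0} :=
    Equiv.subtypeEquivRight (fun B => by
      constructor
      · rintro ⟨h1, h2⟩
        exact ⟨fun i j hij => h1 hij, h2⟩
      · rintro ⟨h1, h2⟩
        exact ⟨fun i j hij => h1 hij, h2⟩)
  rw [Nat.card_congr e1, Nat.card_prod, Nat.card_congr e2, card_bt b', Nat.card_fun]
  have hblocks : ∀ a : Fin M,
      Nat.card {C : Matrix {i // b' i = a} {i // b' i = a} F // C.det ≠ 0} =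
        glc (Fintype.card F) (Finset.univ.filter (fun k : Fin t => d k = (a : ℕ))).card := by
    intro a
    rw [card_det_ne_zero]
    have : Fintype.card {i // b' i = a} =
        (Finset.univ.filter (fun k : Fin t => d k = (a : ℕ))).card := by
      rw [Fintype.card_subtype]
      congr 1
      ext k
      simp [b', Fin.ext_iff]
    rw [this]
    rfl
  rw [Finset.prod_congr rfl (fun a _ => hblocks a),
    Fin.prod_univ_eq_prod_range
      (fun i => glc (Fintype.card F) (Finset.univ.filter (fun k : Fin t => d k = i)).card) M]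
  have hstrict : Nat.card {p : Fin t × Fin t // b' p.1 < b' p.2} =
      ∑ k : Fin t, ∑ l : Fin t, if d l < d k then 1 else 0 := by
    rw [Nat.card_eq_fintype_card, Fintype.card_subtype, Finset.card_filter, Fintype.sum_prod_type,
      Finset.sum_comm]
    apply Finset.sum_congr rfl
    intro k _
    apply Finset.sum_congr rfl
    intro l _
    rfl
  have hSp : Nat.card (Sp d) =
      ∑ k : Fin t, ∑ l : Fin t, if d l ≤ d k then d l - 1 else d k := by
    rw [Nat.card_eq_fintype_card, Fintype.card_sigma, Fintype.sum_prod_type]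
    apply Finset.sum_congr rfl
    intro k _
    apply Finset.sum_congr rfl
    intro l _
    exact card_fin_sub (d l) (d k) (hd l)
  rw [hstrict, hSp, Nat.card_eq_fintype_card, ← total_exponent d hd M hM]
  simp only [Finset.sum_add_distrib]
  ring

end Cfsg.Agent.helper25.UCent
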