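import Mathlib
import Cfsg.Agent.S0752
import Cfsg.Agent.Lib_helper25_Jordan
import Cfsg.Agent.Lib_helper25_UCent

set_option autoImplicit false
set_option linter.unusedSectionVars false

universe u

/-! Jordan types of unipotent elements of the symplectic group (helper25). -/




namespace Cfsg.Agent.helper25.SpJ

section Abstract

variable {F : Type*} [Field F] {V : Type*} [AddCommGroup V] [Module F V] [FiniteDimensional F V]

theorem even_finrank_of_alt_nondeg (g : LinearMap.BilinForm F V) (hA : g.IsAlt)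
    (hnd : ∀ x, (∀ y, g x y = 0) → x = 0) : Even (Module.finrank F V) := by
  obtain ⟨m, k, b, h1, h2, h3, h4⟩ := Cfsg.Agent.S0752.result g hA
  have hk : k = 0 := by
    by_contra hk
    have hpos : 0 < k := Nat.pos_of_ne_zero hk
    have h0 := hnd (b (Sum.inr ⟨0, hpos⟩)) (h4 ⟨0, hpos⟩)
    exact b.ne_zero _ h0
  subst hk
  rw [Module.finrank_eq_card_basis b]
  simp

variable (B : LinearMap.BilinForm F V) (U Ui : Module.End F V)

theorem adj_left (hUi : U * Ui = 1) (hu : ∀ x y, B (U x) (U y) = B x y) (a b : V) :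
    B ((U - 1) a) b = B a ((Ui - 1) b) := by
  have h1 : B (U a) b = B a (Ui b) := by
    have := hu a (Ui b)
    have h2 : U (Ui b) = b := by
      have := LinearMap.congr_fun hUi b
      simpa using this
    rw [h2] at this
    exact this
  simp only [LinearMap.sub_apply, Module.End.one_apply, map_sub, h1]

theorem adj_right (hUi : U * Ui = 1) (hu : ∀ x y, B (U x) (U y) = B x y) (a b : V) :
    B a ((U - 1) b) = B ((Ui - 1) a) b := by
  have h1 : B a (U b) = B (Ui a) b := by
    have := hu (Ui a) b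
    have h2 : U (Ui a) = a := by
      have := LinearMap.congr_fun hUi a
      simpa using this
    rw [h2] at this
    exact this
  simp only [LinearMap.sub_apply, Module.End.one_apply, map_sub, h1]

theorem adj_left_pow (hUi : U * Ui = 1) (hu : ∀ x y, B (U x) (U y) = B x y) (j : ℕ) (a b : V) :
    B (((U - 1) ^ j) a) b = B a (((Ui - 1) ^ j) b) := by
  induction j generalizing a b with
  | zero => simp
  | succ j ih =>
    rw [pow_succ, Module.End.mul_apply, ih, adj_left B U Ui hUi hu, ← Module.End.mul_apply, ← pow_succ']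

theorem adj_right_pow (hUi : U * Ui = 1) (hu : ∀ x y, B (U x) (U y) = B x y) (j : ℕ) (a b : V) :
    B a (((U - 1) ^ j) b) = B (((Ui - 1) ^ j) a) b := by
  induction j generalizing a b with
  | zero => simp
  | succ j ih =>
    rw [pow_succ, Module.End.mul_apply, ih, adj_right B U Ui hUi hu, ← Module.End.mul_apply, ← pow_succ']

omit [FiniteDimensional F V] in
theorem sub_one_eq (hUi : U * Ui = 1) : U - 1 = (-U) * (Ui - 1) := by
  rw [mul_sub, neg_mul, hUi, mul_one]
  abel

omit [FiniteDimensional F V] in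
theorem commute_neg (hUi : U * Ui = 1) (hUi' : Ui * U = 1) : Commute (-U) (Ui - 1) := by
  unfold Commute SemiconjBy
  rw [mul_sub, sub_mul, neg_mul, mul_neg, hUi, hUi', mul_one, one_mul]

omit [FiniteDimensional F V] in
theorem sub_one_pow_eq (hUi : U * Ui = 1) (hUi' : Ui * U = 1) (j : ℕ) :
    (U - 1) ^ j = (-U) ^ j * (Ui - 1) ^ j := by
  rw [sub_one_eq U Ui hUi, (commute_neg U Ui hUi hUi').mul_pow]

/-- the key parity statement: even powers of `U - 1` have even rank -/
theorem even_finrank_range_pow (hA : B.IsAlt) (hnd : ∀ x, (∀ y, B x y = 0) → x = 0)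
    (hUi : U * Ui = 1) (hUi' : Ui * U = 1) (hu : ∀ x y, B (U x) (U y) = B x y) (k : ℕ) :
    Even (Module.finrank F (LinearMap.range ((U - 1) ^ (2 * k)))) := by
  set N : Module.End F V := U - 1 with hN
  set N' : Module.End F V := Ui - 1 with hN'
  -- the form g x y = B (N^k x) (N^k y)
  let g : LinearMap.BilinForm F V := B.compl₁₂ (N ^ k) (N ^ k)
  have hg : ∀ x y, g x y = B ((N ^ k) x) ((N ^ k) y) := fun x y => rfl
  have hgalt : g.IsAlt := fun x => hA _
  have hrad1 : ∀ x, (∀ y, g x y = 0) → (N ^ (2 * k)) x = 0 := by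
    intro x hx
    have h1 : (N' ^ k) ((N ^ k) x) = 0 := by
      apply hnd
      intro y
      have := hx y
      rw [hg, adj_right_pow B U Ui hUi hu] at this
      exact this
    rw [two_mul, pow_add, Module.End.mul_apply]
    have h2 : N ^ k = (-U) ^ k * N' ^ k := sub_one_pow_eq U Ui hUi hUi' k
    have h3 : (N ^ k) ((N ^ k) x) = ((-U) ^ k * N' ^ k) ((N ^ k) x) := by rw [← h2]
    rw [h3, Module.End.mul_apply, h1, map_zero]
  have hrad2 : ∀ x, (N ^ (2 * k)) x = 0 → ∀ y, g x y = 0 := by
    intro x hx y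
    rw [hg, adj_right_pow B U Ui hUi hu]
    have h2 : N' ^ k = (-Ui) ^ k * N ^ k := sub_one_pow_eq Ui U hUi' hUi k
    rw [h2, Module.End.mul_apply, ← Module.End.mul_apply (N ^ k), ← pow_add, ← two_mul, hx, map_zero]
    simp
  obtain ⟨W, hW⟩ := Submodule.exists_isCompl (LinearMap.ker (N ^ (2 * k)))
  have hWeven : Even (Module.finrank F W) := by
    apply even_finrank_of_alt_nondeg (g.restrict W)
    · intro x
      exact hgalt x
    · intro x hx
      have hxR : (x : V) ∈ LinearMap.ker (N ^ (2 * k)) := by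
        rw [LinearMap.mem_ker]
        apply hrad1
        intro v
        have hv : v ∈ LinearMap.ker (N ^ (2 * k)) ⊔ W := by
          rw [hW.sup_eq_top]
          trivial
        obtain ⟨r, hr, w, hw, rfl⟩ := Submodule.mem_sup.mp hv
        rw [map_add]
        have h1 : g (x : V) r = 0 := by
          rw [← hgalt.neg_eq, hrad2 r (LinearMap.mem_ker.mp hr), neg_zero]
        have h2 : g (x : V) w = 0 := hx ⟨w, hw⟩
        rw [h1, h2, add_zero]
      have : (x : V) ∈ LinearMap.ker (N ^ (2 * k)) ⊓ W := ⟨hxR, x.2⟩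
      rw [hW.inf_eq_bot] at this
      exact Subtype.ext ((Submodule.mem_bot F).mp this)
  have h1 := Submodule.finrank_add_eq_of_isCompl hW
  have h2 := LinearMap.finrank_range_add_finrank_ker (N ^ (2 * k))
  have : Module.finrank F (LinearMap.range (N ^ (2 * k))) = Module.finrank F W := by omega
  rw [this]
  exact hWeven

end Abstract

end Cfsg.Agent.helper25.SpJ



namespace Cfsg.Agent.helper25.SpJ

open Cfsg.Agent.helper25.UCent Cfsg.Agent.helper25.Jordan

section Concrete

variable {F : Type*} [Field F] {m t : ℕ}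

/-- the standard symplectic form -/
noncomputable def stdForm (m : ℕ) : LinearMap.BilinForm F (Fin m ⊕ Fin m → F) :=
  Matrix.toBilin' (Matrix.J (Fin m) F)

theorem stdForm_apply (x y : Fin m ⊕ Fin m → F) :
    stdForm m x y = x ⬝ᵥ (Matrix.J (Fin m) F).mulVec y := by
  unfold stdForm
  rw [Matrix.toBilin'_apply']

theorem stdForm_isAlt : (stdForm (F := F) m).IsAlt := by
  intro x
  rw [stdForm_apply]
  unfold Matrix.J
  rw [Matrix.fromBlocks_mulVec]
  simp only [dotProduct, Fintype.sum_sum_type, Sum.elim_inl, Sum.elim_inr, Matrix.zero_mulVec,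
    zero_add, add_zero, Matrix.neg_mulVec, Matrix.one_mulVec, Pi.neg_apply, Function.comp_apply]
  rw [← Finset.sum_add_distrib]
  apply Finset.sum_eq_zero
  intro i _
  ring

theorem stdForm_nondeg (x : Fin m ⊕ Fin m → F) (hx : ∀ y, stdForm m x y = 0) : x = 0 := by
  have h1 : Matrix.vecMul x (Matrix.J (Fin m) F) = 0 := by
    apply dotProduct_eq_zero
    intro y
    have := hx y
    rw [stdForm_apply, Matrix.dotProduct_mulVec] at this
    exact this
  have h2 : Matrix.vecMul (Matrix.vecMul x (Matrix.J (Fin m) F)) (Matrix.J (Fin m) F) = 0 := by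
    rw [h1, Matrix.zero_vecMul]
  rw [Matrix.vecMul_vecMul, Matrix.J_squared, Matrix.vecMul_neg, Matrix.vecMul_one, neg_eq_zero] at h2
  exact h2

theorem stdForm_invariant (A : Matrix (Fin m ⊕ Fin m) (Fin m ⊕ Fin m) F)
    (hA : A ∈ Matrix.symplecticGroup (Fin m) F) (x y : Fin m ⊕ Fin m → F) :
    stdForm m (A.mulVec x) (A.mulVec y) = stdForm m x y := by
  rw [stdForm_apply, stdForm_apply]
  have h1 := SymplecticGroup.mem_iff'.mp hA
  rw [← Matrix.vecMul_transpose, ← Matrix.dotProduct_mulVec, Matrix.mulVec_mulVec, Matrix.mulVec_mulVec,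
    h1]

variable (d : Fin t → ℕ)

/-- currying the index type -/
def kap : (Ix d → F) ≃ₗ[F] Md F d where
  toFun v := fun k i => v ⟨k, i⟩
  invFun c := fun p => c p.1 p.2
  map_add' := by
    intro v w
    rfl
  map_smul' := by
    intro a v
    rfl
  left_inv := by
    intro v
    rfl
  right_inv := by
    intro c
    rfl

theorem kap_Nl (v : Ix d → F) : kap d (Nl d v) = shk d 1 (kap d v) := by
  funext k i
  rw [shk_apply]
  rfl

end Concrete

end Cfsg.Agent.helper25.SpJ



namespace Cfsg.Agent.helper25.SpJ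

open Cfsg.Agent.helper25.UCent Cfsg.Agent.helper25.Jordan

section Forward

variable {F : Type*} [Field F] {m t : ℕ}

theorem even_mult_of_even_ranks (d : Fin t → ℕ) (h : ∀ k, Even (∑ l, (d l - 2 * k))) (j : ℕ)
    (hj : Odd j) : Even (Finset.univ.filter (fun l : Fin t => d l = j)).card := by
  obtain ⟨k, rfl⟩ := hj
  have h1 : (Finset.univ.filter (fun l : Fin t => d l = 2 * k + 1)).card + 2 * ∑ l, (d l - (2 * k + 1)) =
      ∑ l, (d l - 2 * k) + ∑ l, (d l - 2 * (k + 1)) := by
    rw [Finset.card_filter, Finset.mul_sum, ← Finset.sum_add_distrib, ← Finset.sum_add_distrib]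
    apply Finset.sum_congr rfl
    intro l _
    split_ifs <;> omega
  have h2 : Even ((Finset.univ.filter (fun l : Fin t => d l = 2 * k + 1)).card +
      2 * ∑ l, (d l - (2 * k + 1))) := by
    rw [h1]
    exact (h k).add (h (k + 1))
  exact (Nat.even_add.mp h2).mpr (even_two_mul _)

/-- square matrices on `Fin m ⊕ Fin m` -/
abbrev Mt (m : ℕ) (F : Type*) : Type _ := Matrix (Fin m ⊕ Fin m) (Fin m ⊕ Fin m) F

/-- multiplication by the inverse of a unit, as a linear equivalence -/
noncomputable def unitEquiv (c : (Mt m F)ˣ) : (Fin m ⊕ Fin m → F) ≃ₗ[F] (Fin m ⊕ Fin m → F) :=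
  LinearEquiv.ofLinearMap (Matrix.toLin' (c⁻¹).val) (Matrix.toLin' c.val)
    (by rw [← Matrix.toLin'_mul, Units.inv_mul, Matrix.toLin'_one])
    (by rw [← Matrix.toLin'_mul, Units.mul_inv, Matrix.toLin'_one])

/-- the linear equivalence carrying a conjugate of the Jordan matrix to the block model -/
noncomputable def modelEquiv (d : Fin t → ℕ) (e : Ix d ≃ Fin m ⊕ Fin m)
    (c : (Mt m F)ˣ) : (Fin m ⊕ Fin m → F) ≃ₗ[F] Md F d :=
  (unitEquiv c).trans ((LinearEquiv.funCongrLeft F F e).trans (kap d))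

theorem modelEquiv_apply (d : Fin t → ℕ) (e : Ix d ≃ Fin m ⊕ Fin m)
    (c : (Mt m F)ˣ) (x : Fin m ⊕ Fin m → F) :
    modelEquiv d e c x = kap d (((c⁻¹).val.mulVec x) ∘ e) := rfl

theorem reindex_mulVec_comp (d : Fin t → ℕ) (e : Ix d ≃ Fin m ⊕ Fin m)
    (M : Matrix (Ix d) (Ix d) F) (z : Fin m ⊕ Fin m → F) :
    ((Matrix.reindex e e M).mulVec z) ∘ e = M.mulVec (z ∘ e) := by
  rw [Matrix.reindex_apply, Matrix.submatrix_mulVec_equiv]
  funext p
  simp

theorem modelEquiv_conj (d : Fin t → ℕ) (e : Ix d ≃ Fin m ⊕ Fin m)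
    (c : (Mt m F)ˣ) (A : Mt m F)
    (hc : SemiconjBy c.val (Matrix.reindex e e (Cfsg.jordanTypeMatrix d F)) A)
    (x : Fin m ⊕ Fin m → F) :
    modelEquiv d e c ((Matrix.toLin' A - 1 : Module.End F (Fin m ⊕ Fin m → F)) x) =
      shk d 1 (modelEquiv d e c x) := by
  have h1 : (c⁻¹).val * A = Matrix.reindex e e (Cfsg.jordanTypeMatrix d F) * (c⁻¹).val := by
    have h2 : c.val * Matrix.reindex e e (Cfsg.jordanTypeMatrix d F) = A * c.val := hc
    calc (c⁻¹).val * A
        = (c⁻¹).val * (A * c.val) * (c⁻¹).val := by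
          rw [Matrix.mul_assoc, Matrix.mul_assoc, Units.mul_inv, Matrix.mul_one]
      _ = Matrix.reindex e e (Cfsg.jordanTypeMatrix d F) * (c⁻¹).val := by
          rw [← h2, ← Matrix.mul_assoc, Units.inv_mul, Matrix.one_mul]
  rw [modelEquiv_apply, modelEquiv_apply, ← kap_Nl, ← toLin'_jordan_sub_one]
  congr 1
  rw [LinearMap.sub_apply, Module.End.one_apply, Matrix.toLin'_apply, Matrix.mulVec_sub,
    Matrix.mulVec_mulVec, h1, ← Matrix.mulVec_mulVec, Matrix.toLin'_apply, Matrix.sub_mulVec,
    Matrix.one_mulVec]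
  funext p
  simp only [Function.comp_apply, Pi.sub_apply]
  rw [← reindex_mulVec_comp d e]
  rfl

theorem forward (d : Fin t → ℕ) (e : Ix d ≃ Fin m ⊕ Fin m)
    (A : Matrix.symplecticGroup (Fin m) F)
    (h : IsConj (Matrix.reindex e e (Cfsg.jordanTypeMatrix d F))
      (A : Matrix (Fin m ⊕ Fin m) (Fin m ⊕ Fin m) F)) (j : ℕ) (hj : Odd j) :
    Even (Finset.univ.filter (fun k : Fin t => d k = j)).card := by
  obtain ⟨c, hc⟩ := h
  apply even_mult_of_even_ranks d _ j hj
  intro k
  rw [← finrank_range_pow d (Matrix.toLin' A.1 - 1 : Module.End F (Fin m ⊕ Fin m → F))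
    (modelEquiv d e c) (modelEquiv_conj d e c A.1 hc) (2 * k)]
  have hdet : IsUnit A.1.det := SymplecticGroup.symplectic_det A.2
  apply even_finrank_range_pow (stdForm m) (Matrix.toLin' A.1) (Matrix.toLin' A.1⁻¹)
    stdForm_isAlt stdForm_nondeg
  · rw [Module.End.mul_eq_comp, ← Matrix.toLin'_mul, Matrix.mul_nonsing_inv _ hdet, Matrix.toLin'_one]
    rfl
  · rw [Module.End.mul_eq_comp, ← Matrix.toLin'_mul, Matrix.nonsing_inv_mul _ hdet, Matrix.toLin'_one]
    rfl
  · intro x y
    rw [Matrix.toLin'_apply, Matrix.toLin'_apply]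
    exact stdForm_invariant A.1 A.2 x y

end Forward

end Cfsg.Agent.helper25.SpJ




namespace Cfsg.Agent.helper25.SpJ

open Cfsg.Agent.helper25.UCent Cfsg.Agent.helper25.Jordan

section Real

variable (F : Type u) [Field F]

/-- the multiset `s` is the Jordan type of a unipotent isometry of a symplectic space -/
def SpReal (s : Multiset ℕ) : Prop :=
  ∃ (V : Type u) (_ : AddCommGroup V) (_ : Module F V) (_ : FiniteDimensional F V)
    (B : LinearMap.BilinForm F V) (U Ui : Module.End F V),
    B.IsAlt ∧ (∀ x, (∀ y, B x y = 0) → x = 0) ∧ U * Ui = 1 ∧ Ui * U = 1 ∧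
    (∀ x y, B (U x) (U y) = B x y) ∧
    ∀ k, Module.finrank F (LinearMap.range ((U - 1) ^ k)) = (s.map (fun a => a - k)).sum

variable {F}

/-- product of submodules as a product type -/
def prodSubEquiv {V V' : Type*} [AddCommGroup V] [Module F V] [AddCommGroup V'] [Module F V']
    (p : Submodule F V) (q : Submodule F V') : (p.prod q) ≃ₗ[F] (p × q) where
  toFun x := (⟨x.1.1, x.2.1⟩, ⟨x.1.2, x.2.2⟩)
  invFun y := ⟨(y.1.1, y.2.1), ⟨y.1.2, y.2.2⟩⟩
  map_add' := by
    intro x y
    rfl
  map_smul' := by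
    intro a x
    rfl
  left_inv := by
    intro x
    rfl
  right_inv := by
    intro y
    rfl

theorem finrank_range_prodMap {V V' : Type*} [AddCommGroup V] [Module F V] [AddCommGroup V']
    [Module F V'] [FiniteDimensional F V] [FiniteDimensional F V']
    (f : Module.End F V) (g : Module.End F V') :
    Module.finrank F (LinearMap.range (f.prodMap g)) =
      Module.finrank F (LinearMap.range f) + Module.finrank F (LinearMap.range g) := by
  rw [LinearMap.range_prodMap, LinearEquiv.finrank_eq (prodSubEquiv _ _), Module.finrank_prod]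

theorem prodMap_sub_one {V V' : Type*} [AddCommGroup V] [Module F V] [AddCommGroup V']
    [Module F V'] (f : Module.End F V) (g : Module.End F V') :
    (f.prodMap g - 1 : Module.End F (V × V')) = (f - 1).prodMap (g - 1) := by
  apply LinearMap.ext
  intro x
  rfl

theorem prodMap_pow' {V V' : Type*} [AddCommGroup V] [Module F V] [AddCommGroup V']
    [Module F V'] (f : Module.End F V) (g : Module.End F V') (k : ℕ) :
    (f.prodMap g : Module.End F (V × V')) ^ k = (f ^ k).prodMap (g ^ k) := by
  induction k with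
  | zero =>
    rw [pow_zero, pow_zero, pow_zero, LinearMap.prodMap_one]
  | succ k ih =>
    rw [pow_succ, pow_succ, pow_succ, ih, LinearMap.prodMap_mul]

theorem SpReal.add {s s' : Multiset ℕ} (h : SpReal F s) (h' : SpReal F s') : SpReal F (s + s') := by
  obtain ⟨V, _, _, _, B, U, Ui, hA, hnd, h1, h2, hu, hr⟩ := h
  obtain ⟨V', _, _, _, B', U', Ui', hA', hnd', h1', h2', hu', hr'⟩ := h'
  refine ⟨V × V', inferInstance, inferInstance, inferInstance,
    B.compl₁₂ (LinearMap.fst F V V') (LinearMap.fst F V V') +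
      B'.compl₁₂ (LinearMap.snd F V V') (LinearMap.snd F V V'),
    U.prodMap U', Ui.prodMap Ui', ?_, ?_, ?_, ?_, ?_, ?_⟩
  · intro x
    show B x.1 x.1 + B' x.2 x.2 = 0
    rw [hA, hA', add_zero]
  · intro x hx
    have hx' : ∀ y : V × V', B x.1 y.1 + B' x.2 y.2 = 0 := hx
    apply Prod.ext
    · apply hnd
      intro y
      have := hx' (y, 0)
      simpa using this
    · apply hnd'
      intro y
      have := hx' (0, y)
      simpa using this
  · rw [LinearMap.prodMap_mul, h1, h1', LinearMap.prodMap_one]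
  · rw [LinearMap.prodMap_mul, h2, h2', LinearMap.prodMap_one]
  · intro x y
    show B (U x.1) (U y.1) + B' (U' x.2) (U' y.2) = B x.1 y.1 + B' x.2 y.2
    rw [hu, hu']
  · intro k
    rw [prodMap_sub_one, prodMap_pow', finrank_range_prodMap, hr, hr', Multiset.map_add,
      Multiset.sum_add]

end Real

end Cfsg.Agent.helper25.SpJ




namespace Cfsg.Agent.helper25.SpJ

open Cfsg.Agent.helper25.UCent Cfsg.Agent.helper25.Jordan

section Siegel

variable {F : Type u} [Field F] {W : Type u} [AddCommGroup W] [Module F W] [FiniteDimensional F W]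

/-- the canonical alternating pairing on `W × W*` -/
def pairForm (F : Type u) [Field F] (W : Type u) [AddCommGroup W] [Module F W] :
    LinearMap.BilinForm F (W × Module.Dual F W) :=
  LinearMap.mk₂ F (fun p q => p.2 q.1 - q.2 p.1)
    (by intro a b c; simp only [Prod.fst_add, Prod.snd_add, LinearMap.add_apply, map_add]; ring)
    (by intro r a b; simp only [Prod.smul_fst, Prod.smul_snd, LinearMap.smul_apply, map_smul, smul_eq_mul]; ring)
    (by intro a b c; simp only [Prod.fst_add, Prod.snd_add, LinearMap.add_apply, map_add]; ring)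
    (by intro r a b; simp only [Prod.smul_fst, Prod.smul_snd, LinearMap.smul_apply, map_smul, smul_eq_mul]; ring)

theorem pairForm_apply (p q : W × Module.Dual F W) : pairForm F W p q = p.2 q.1 - q.2 p.1 := rfl

theorem pairForm_isAlt : (pairForm F W).IsAlt := by
  intro p
  rw [pairForm_apply, sub_self]

theorem pairForm_nondeg (p : W × Module.Dual F W) (hp : ∀ q, pairForm F W p q = 0) : p = 0 := by
  apply Prod.ext
  · show p.1 = 0
    rw [← Module.forall_dual_apply_eq_zero_iff F]
    intro η
    have := hp (0, η)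
    rw [pairForm_apply] at this
    simpa using this
  · show p.2 = 0
    apply LinearMap.ext
    intro y
    have := hp (y, 0)
    rw [pairForm_apply] at this
    simpa using this

variable (U₀ U₀i : Module.End F W) (S : Module.Dual F W →ₗ[F] W)

/-- the Siegel-type isometry `(x, ξ) ↦ (U₀ (x + S ξ), ξ ∘ U₀i)` -/
def sieg : Module.End F (W × Module.Dual F W) :=
  (U₀.comp (LinearMap.fst F W (Module.Dual F W) + S.comp (LinearMap.snd F W (Module.Dual F W)))).prod
    (U₀i.dualMap.comp (LinearMap.snd F W (Module.Dual F W)))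

/-- its inverse -/
def siegInv : Module.End F (W × Module.Dual F W) :=
  (U₀i.comp (LinearMap.fst F W (Module.Dual F W)) -
      S.comp (U₀.dualMap.comp (LinearMap.snd F W (Module.Dual F W)))).prod
    (U₀.dualMap.comp (LinearMap.snd F W (Module.Dual F W)))

theorem sieg_apply (p : W × Module.Dual F W) :
    sieg U₀ U₀i S p = (U₀ (p.1 + S p.2), U₀i.dualMap p.2) := rfl

theorem siegInv_apply (p : W × Module.Dual F W) :
    siegInv U₀ U₀i S p = (U₀i p.1 - S (U₀.dualMap p.2), U₀.dualMap p.2) := rfl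

theorem dual_cancel (h : U₀ * U₀i = 1) (ξ : Module.Dual F W) : U₀i.dualMap (U₀.dualMap ξ) = ξ := by
  apply LinearMap.ext
  intro y
  rw [LinearMap.dualMap_apply, LinearMap.dualMap_apply, ← Module.End.mul_apply, h, Module.End.one_apply]

theorem sieg_mul_inv (h1 : U₀ * U₀i = 1) : sieg U₀ U₀i S * siegInv U₀ U₀i S = 1 := by
  apply LinearMap.ext
  intro p
  rw [Module.End.mul_apply, sieg_apply, siegInv_apply, Module.End.one_apply]
  simp only
  rw [sub_add_cancel, ← Module.End.mul_apply, h1, Module.End.one_apply, dual_cancel U₀ U₀i h1]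

theorem sieg_inv_mul (h2 : U₀i * U₀ = 1) :
    siegInv U₀ U₀i S * sieg U₀ U₀i S = 1 := by
  apply LinearMap.ext
  intro p
  rw [Module.End.mul_apply, sieg_apply, siegInv_apply, Module.End.one_apply]
  simp only
  rw [← Module.End.mul_apply, h2, Module.End.one_apply, dual_cancel U₀i U₀ h2, add_sub_cancel_right]

theorem sieg_invariant (h2 : U₀i * U₀ = 1) (hS : ∀ ξ η : Module.Dual F W, η (S ξ) = ξ (S η))
    (p q : W × Module.Dual F W) :
    pairForm F W (sieg U₀ U₀i S p) (sieg U₀ U₀i S q) = pairForm F W p q := by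
  rw [pairForm_apply, pairForm_apply, sieg_apply, sieg_apply]
  simp only [LinearMap.dualMap_apply]
  rw [← Module.End.mul_apply, ← Module.End.mul_apply, h2, Module.End.one_apply, Module.End.one_apply,
    map_add, map_add, hS p.2 q.2]
  ring

end Siegel

end Cfsg.Agent.helper25.SpJ




namespace Cfsg.Agent.helper25.SpJ

open Cfsg.Agent.helper25.UCent Cfsg.Agent.helper25.Jordan

section Double

variable {F : Type u} [Field F] {W : Type u} [AddCommGroup W] [Module F W] [FiniteDimensional F W]

theorem rank_inv_le (U Ui : Module.End F W) (h1 : U * Ui = 1) (h2 : Ui * U = 1) (k : ℕ) :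
    Module.finrank F (LinearMap.range ((Ui - 1) ^ k)) ≤
      Module.finrank F (LinearMap.range ((U - 1) ^ k)) := by
  rw [sub_one_pow_eq Ui U h2 h1 k, Module.End.mul_eq_comp, LinearMap.range_comp]
  exact Submodule.finrank_map_le _ _

theorem rank_inv_eq (U Ui : Module.End F W) (h1 : U * Ui = 1) (h2 : Ui * U = 1) (k : ℕ) :
    Module.finrank F (LinearMap.range ((Ui - 1) ^ k)) =
      Module.finrank F (LinearMap.range ((U - 1) ^ k)) :=
  le_antisymm (rank_inv_le U Ui h1 h2 k) (rank_inv_le Ui U h2 h1 k)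

theorem dualMap_pow' (f : Module.End F W) (k : ℕ) :
    (f.dualMap : Module.End F (Module.Dual F W)) ^ k = (f ^ k).dualMap := by
  induction k with
  | zero =>
    rw [pow_zero, pow_zero]
    exact LinearMap.dualMap_id.symm
  | succ k ih =>
    rw [pow_succ, ih, pow_succ', Module.End.mul_eq_comp, Module.End.mul_eq_comp,
      LinearMap.dualMap_comp_dualMap]

theorem dualMap_sub_one (f : Module.End F W) :
    (f.dualMap - 1 : Module.End F (Module.Dual F W)) = (f - 1).dualMap := by
  apply LinearMap.ext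
  intro ξ
  apply LinearMap.ext
  intro y
  simp [LinearMap.dualMap_apply]

theorem sieg_zero (U₀ U₀i : Module.End F W) :
    sieg U₀ U₀i 0 = U₀.prodMap U₀i.dualMap := by
  apply LinearMap.ext
  intro p
  rw [sieg_apply]
  simp

theorem finrank_range_sieg_zero (U₀ U₀i : Module.End F W) (h1 : U₀ * U₀i = 1) (h2 : U₀i * U₀ = 1)
    (k : ℕ) :
    Module.finrank F (LinearMap.range ((sieg U₀ U₀i 0 - 1) ^ k)) =
      Module.finrank F (LinearMap.range ((U₀ - 1) ^ k)) +
        Module.finrank F (LinearMap.range ((U₀ - 1) ^ k)) := by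
  rw [sieg_zero, prodMap_sub_one, prodMap_pow', finrank_range_prodMap, dualMap_sub_one, dualMap_pow',
    LinearMap.finrank_range_dualMap_eq_finrank_range, rank_inv_eq U₀ U₀i h1 h2 k]

theorem shk_one_nilpotent {ι : Type} [Fintype ι] (e : ι → ℕ) :
    IsNilpotent (shk (F := F) e 1) := by
  refine ⟨∑ i, e i, ?_⟩
  rw [shk_pow]
  apply LinearMap.ext
  intro c
  funext i j
  rw [shk_apply, dif_neg]
  · rfl
  · have := j.2
    have := Finset.single_le_sum (f := e) (fun i _ => Nat.zero_le _) (Finset.mem_univ i)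
    omega

theorem SpReal.double {ι : Type} [Fintype ι] (e : ι → ℕ) :
    SpReal F (Finset.univ.val.map e + Finset.univ.val.map e) := by
  obtain ⟨u, hu⟩ := (shk_one_nilpotent (F := F) e).isUnit_one_add
  have h1 : (1 + shk (F := F) e 1) * (↑u⁻¹ : Module.End F (Md F e)) = 1 := by
    rw [← hu]
    exact u.mul_inv
  have h2 : (↑u⁻¹ : Module.End F (Md F e)) * (1 + shk (F := F) e 1) = 1 := by
    rw [← hu]
    exact u.inv_mul
  refine ⟨Md F e × Module.Dual F (Md F e), inferInstance, inferInstance, inferInstance,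
    pairForm F (Md F e), sieg (1 + shk e 1) (↑u⁻¹) 0, siegInv (1 + shk e 1) (↑u⁻¹) 0,
    pairForm_isAlt, pairForm_nondeg, sieg_mul_inv _ _ _ h1, sieg_inv_mul _ _ _ h2,
    sieg_invariant _ _ _ h2 (by intro ξ η; simp), ?_⟩
  intro k
  rw [finrank_range_sieg_zero _ _ h1 h2, add_sub_cancel_left, shk_pow, finrank_range_shk,
    Multiset.map_add, Multiset.sum_add, Multiset.map_map]
  rfl

end Double

end Cfsg.Agent.helper25.SpJ




namespace Cfsg.Agent.helper25.SpJ

open Cfsg.Agent.helper25.UCent Cfsg.Agent.helper25.Jordan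

section Single

variable {F : Type u} [Field F]

theorem sh1_pow_apply (l k : ℕ) (c : Fin l → F) (j : Fin l) :
    ((sh1 (F := F) l) ^ k) c j =
      if h : k ≤ (j : ℕ) then c ⟨(j : ℕ) - k, by have := j.2; omega⟩ else 0 := by
  induction k generalizing c with
  | zero =>
    rw [pow_zero, dif_pos (Nat.zero_le _)]
    rfl
  | succ k ih =>
    rw [pow_succ, Module.End.mul_apply, ih]
    by_cases h : k + 1 ≤ (j : ℕ)
    · have h1 : k ≤ (j : ℕ) := by omega
      rw [dif_pos h, dif_pos h1, sh1_apply]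
      have h2 : 1 ≤ (j : ℕ) - k := by omega
      rw [dif_pos h2]
      congr 1
    · rw [dif_neg h]
      by_cases h1 : k ≤ (j : ℕ)
      · rw [dif_pos h1, sh1_apply]
        have h2 : ¬ 1 ≤ (j : ℕ) - k := by omega
        rw [dif_neg h2]
      · rw [dif_neg h1]

theorem sh1_pow_self (l : ℕ) : (sh1 (F := F) l) ^ l = 0 := by
  apply LinearMap.ext
  intro c
  funext j
  rw [sh1_pow_apply, dif_neg]
  · rfl
  · have := j.2
    omega

theorem ranks_of_ker_le_one {V : Type u} [AddCommGroup V] [Module F V] [FiniteDimensional F V]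
    (N : Module.End F V) (hN : IsNilpotent N) (n : ℕ) (hn : Module.finrank F V = n)
    (hk : Module.finrank F (LinearMap.ker N) ≤ 1) (k : ℕ) :
    Module.finrank F (LinearMap.range (N ^ k)) = n - k := by
  obtain ⟨ι, _, e, φ, hpos, hφ⟩ := exists_model n V N hN hn
  have hsum : ∑ i, e i = n := by
    rw [← hn, LinearEquiv.finrank_eq φ, finrank_Md]
  have hr1 := finrank_range_pow e N φ hφ 1
  rw [pow_one] at hr1
  have hrn := LinearMap.finrank_range_add_finrank_ker N
  have hcard : ∑ i, (e i - 1) + Fintype.card ι = ∑ i, e i := by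
    rw [Fintype.card_eq_sum_ones, ← Finset.sum_add_distrib]
    apply Finset.sum_congr rfl
    intro i _
    have := hpos i
    omega
  have hle : Fintype.card ι ≤ 1 := by omega
  rw [finrank_range_pow e N φ hφ k]
  have hss : Subsingleton ι := Fintype.card_le_one_iff_subsingleton.mp hle
  rcases isEmpty_or_nonempty ι with hemp | ⟨⟨i₀⟩⟩
  · rw [Finset.univ_eq_empty, Finset.sum_empty] at hsum ⊢
    omega
  · rw [Fintype.sum_subsingleton _ i₀] at hsum ⊢
    rw [hsum]

variable {W : Type u} [AddCommGroup W] [Module F W] [FiniteDimensional F W]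
  (U₀ U₀i : Module.End F W) (S : Module.Dual F W →ₗ[F] W)

theorem sieg_sub_one_apply (p : W × Module.Dual F W) :
    (sieg U₀ U₀i S - 1) p = (U₀ (p.1 + S p.2) - p.1, U₀i.dualMap p.2 - p.2) := rfl

theorem sieg_pow_snd (j : ℕ) (p : W × Module.Dual F W) :
    (((sieg U₀ U₀i S - 1) ^ j) p).2 = ((U₀i.dualMap - 1 : Module.End F (Module.Dual F W)) ^ j) p.2 := by
  induction j with
  | zero => rfl
  | succ j ih =>
    rw [pow_succ', Module.End.mul_apply, sieg_sub_one_apply, pow_succ', Module.End.mul_apply, ← ih]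
    rfl

theorem sieg_pow_fst (j : ℕ) (x : W) :
    ((sieg U₀ U₀i S - 1) ^ j) (x, 0) = (((U₀ - 1) ^ j) x, 0) := by
  induction j with
  | zero => rfl
  | succ j ih =>
    rw [pow_succ', Module.End.mul_apply, ih, sieg_sub_one_apply, pow_succ', Module.End.mul_apply]
    simp

theorem sieg_nilpotent (h1 : U₀ * U₀i = 1) (h2 : U₀i * U₀ = 1) (a : ℕ) (ha : (U₀ - 1) ^ a = 0) :
    (sieg U₀ U₀i S - 1) ^ (a + a) = 0 := by
  have hd : (U₀i.dualMap - 1 : Module.End F (Module.Dual F W)) ^ a = 0 := by
    rw [dualMap_sub_one, dualMap_pow', sub_one_pow_eq U₀i U₀ h2 h1 a, ha, mul_zero]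
    apply LinearMap.ext
    intro ξ
    apply LinearMap.ext
    intro y
    simp
  apply LinearMap.ext
  intro p
  rw [pow_add, Module.End.mul_apply]
  have h3 : ((sieg U₀ U₀i S - 1) ^ a) p = ((((sieg U₀ U₀i S - 1) ^ a) p).1, 0) := by
    apply Prod.ext
    · rfl
    · rw [sieg_pow_snd, hd]
      rfl
  rw [h3, sieg_pow_fst, ha]
  rfl

end Single

end Cfsg.Agent.helper25.SpJ




namespace Cfsg.Agent.helper25.SpJ

open Cfsg.Agent.helper25.UCent Cfsg.Agent.helper25.Jordan

section SingleBlock

variable {F : Type u} [Field F] (l : ℕ) (hl : 1 ≤ l)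

/-- the first basis vector -/
def e0 : Fin l → F := Pi.single ⟨0, hl⟩ 1

/-- the rank one symmetric map `ξ ↦ ξ(e₀) e₀` -/
def Sone : Module.Dual F (Fin l → F) →ₗ[F] (Fin l → F) :=
  (LinearMap.applyₗ (e0 (F := F) l hl)).smulRight (e0 l hl)

theorem Sone_apply (ξ : Module.Dual F (Fin l → F)) : Sone l hl ξ = ξ (e0 l hl) • e0 l hl := rfl

theorem Sone_symm (ξ η : Module.Dual F (Fin l → F)) : η (Sone l hl ξ) = ξ (Sone l hl η) := by
  rw [Sone_apply, Sone_apply, map_smul, map_smul, smul_eq_mul, smul_eq_mul, mul_comm]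

theorem decomp_e0 (y : Fin l → F) :
    ∃ y' : Fin l → F, y = y ⟨0, hl⟩ • e0 l hl + sh1 l y' := by
  refine ⟨fun j => if h : (j : ℕ) + 1 < l then y ⟨(j : ℕ) + 1, h⟩ else 0, ?_⟩
  funext j
  rw [Pi.add_apply, Pi.smul_apply, sh1_apply, smul_eq_mul]
  unfold e0
  rw [Pi.single_apply]
  by_cases h1 : 1 ≤ (j : ℕ)
  · rw [dif_pos h1, if_neg]
    · have h2 : (j : ℕ) - 1 + 1 < l := by
        have := j.2
        omega
      simp only
      rw [dif_pos h2, mul_zero, zero_add]
      congr 1
      apply Fin.ext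
      simp only
      omega
    · intro h
      have := congrArg Fin.val h
      simp only at this
      omega
  · rw [dif_neg h1, add_zero, if_pos, mul_one]
    · congr 1
      apply Fin.ext
      simp only
      omega
    · apply Fin.ext
      simp only
      omega

/-- evaluation at the last coordinate -/
def evalLast : (Fin l → F) →ₗ[F] F where
  toFun x := x ⟨l - 1, by omega⟩
  map_add' := by
    intro x y
    rfl
  map_smul' := by
    intro a x
    rfl

theorem ker_small (U₀i : Module.End F (Fin l → F))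
    (h2 : U₀i * (1 + sh1 l) = 1)
    (p : (Fin l → F) × Module.Dual F (Fin l → F))
    (hp : (sieg (1 + sh1 l) U₀i (Sone l hl) - 1) p = 0)
    (hlast : p.1 ⟨l - 1, by omega⟩ = 0) : p = 0 := by
  rw [sieg_sub_one_apply] at hp
  have ha : (1 + sh1 (F := F) l) (p.1 + Sone l hl p.2) - p.1 = 0 := congrArg Prod.fst hp
  have hb : U₀i.dualMap p.2 - p.2 = 0 := congrArg Prod.snd hp
  -- ξ kills the image of the shift
  have hξn : ∀ z, p.2 (sh1 l z) = 0 := by
    intro z
    have h3 : U₀i.dualMap p.2 = p.2 := sub_eq_zero.mp hb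
    have h4 := LinearMap.congr_fun h3 ((1 + sh1 (F := F) l) z)
    rw [LinearMap.dualMap_apply, ← Module.End.mul_apply, h2, Module.End.one_apply,
      LinearMap.add_apply, Module.End.one_apply, map_add] at h4
    have : p.2 z = p.2 z + p.2 (sh1 l z) := h4
    exact (left_eq_add.mp this)
  -- expand (a)
  have ha' : sh1 l p.1 + Sone l hl p.2 + sh1 l (Sone l hl p.2) = 0 := by
    rw [LinearMap.add_apply, Module.End.one_apply, map_add] at ha
    rw [← ha]
    abel
  -- coordinate 0
  have hξ0 : p.2 (e0 l hl) = 0 := by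
    have := congrFun ha' ⟨0, hl⟩
    rw [Pi.add_apply, Pi.add_apply, sh1_apply, sh1_apply, dif_neg (by simp), dif_neg (by simp),
      Sone_apply, Pi.smul_apply, smul_eq_mul] at this
    unfold e0 at this ⊢
    rw [Pi.single_eq_same, mul_one, zero_add, add_zero] at this
    exact this
  have hξ : p.2 = 0 := by
    apply LinearMap.ext
    intro y
    obtain ⟨y', hy⟩ := decomp_e0 l hl y
    rw [hy, map_add, map_smul, hξ0, hξn, smul_zero, add_zero]
    rfl
  have hS : Sone l hl p.2 = 0 := by
    rw [hξ, map_zero]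
  have hn : sh1 l p.1 = 0 := by
    rw [hS, map_zero, add_zero, add_zero] at ha'
    exact ha'
  have hx : p.1 = 0 := by
    funext j
    by_cases hj : (j : ℕ) + 1 < l
    · have := congrFun hn ⟨(j : ℕ) + 1, hj⟩
      rw [sh1_apply, dif_pos (by simp)] at this
      exact this
    · have hj' : j = ⟨l - 1, by omega⟩ := by
        apply Fin.ext
        have := j.2
        simp only
        omega
      rw [hj']
      exact hlast
  exact Prod.ext hx hξ

include hl in
theorem SpReal.single : SpReal F ({2 * l} : Multiset ℕ) := by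
  have hnil : IsNilpotent (sh1 (F := F) l) := ⟨l, sh1_pow_self l⟩
  obtain ⟨u, hu⟩ := hnil.isUnit_one_add
  have h1 : (1 + sh1 (F := F) l) * (↑u⁻¹ : Module.End F (Fin l → F)) = 1 := by
    rw [← hu]
    exact u.mul_inv
  have h2 : (↑u⁻¹ : Module.End F (Fin l → F)) * (1 + sh1 (F := F) l) = 1 := by
    rw [← hu]
    exact u.inv_mul
  refine ⟨(Fin l → F) × Module.Dual F (Fin l → F), inferInstance, inferInstance, inferInstance,
    pairForm F (Fin l → F), sieg (1 + sh1 l) (↑u⁻¹) (Sone l hl),
    siegInv (1 + sh1 l) (↑u⁻¹) (Sone l hl),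
    pairForm_isAlt, pairForm_nondeg, sieg_mul_inv _ _ _ h1, sieg_inv_mul _ _ _ h2,
    sieg_invariant _ _ _ h2 (Sone_symm l hl), ?_⟩
  intro k
  have hNnil : IsNilpotent (sieg (1 + sh1 (F := F) l) (↑u⁻¹) (Sone l hl) - 1) := by
    refine ⟨l + l, sieg_nilpotent _ _ _ h1 h2 l ?_⟩
    rw [add_sub_cancel_left]
    exact sh1_pow_self l
  have hfin : Module.finrank F ((Fin l → F) × Module.Dual F (Fin l → F)) = 2 * l := by
    rw [Module.finrank_prod, Subspace.dual_finrank_eq, Module.finrank_fin_fun]
    ring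
  have hker : Module.finrank F (LinearMap.ker (sieg (1 + sh1 (F := F) l) (↑u⁻¹) (Sone l hl) - 1)) ≤ 1 := by
    let lam : LinearMap.ker (sieg (1 + sh1 (F := F) l) (↑u⁻¹) (Sone l hl) - 1) →ₗ[F] F :=
      ((evalLast l hl).comp
        (LinearMap.fst F (Fin l → F) (Module.Dual F (Fin l → F)))).comp (Submodule.subtype _)
    have hinj : Function.Injective lam := by
      intro p q hpq
      apply Subtype.ext
      have hpq' : p.1.1 ⟨l - 1, by omega⟩ = q.1.1 ⟨l - 1, by omega⟩ := hpq
      have h3 : (p.1 - q.1).1 ⟨l - 1, by omega⟩ = 0 := by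
        show p.1.1 ⟨l - 1, by omega⟩ - q.1.1 ⟨l - 1, by omega⟩ = 0
        rw [hpq', sub_self]
      have h4 : (sieg (1 + sh1 (F := F) l) (↑u⁻¹) (Sone l hl) - 1 :
          Module.End F ((Fin l → F) × Module.Dual F (Fin l → F))) (p.1 - q.1) = 0 := by
        rw [map_sub, LinearMap.mem_ker.mp p.2, LinearMap.mem_ker.mp q.2, sub_self]
      exact sub_eq_zero.mp (ker_small l hl _ h2 (p.1 - q.1) h4 h3)
    have := LinearMap.finrank_le_finrank_of_injective hinj
    rwa [Module.finrank_self] at this
  rw [ranks_of_ker_le_one _ hNnil (2 * l) hfin hker k, Multiset.map_singleton, Multiset.sum_singleton]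

end SingleBlock

end Cfsg.Agent.helper25.SpJ




namespace Cfsg.Agent.helper25.SpJ

open Cfsg.Agent.helper25.UCent Cfsg.Agent.helper25.Jordan

section Decomp

variable {F : Type u} [Field F]

theorem SpReal.zero : SpReal F (0 : Multiset ℕ) := by
  have := SpReal.double (F := F) (fun _ : Fin 0 => 0)
  simpa using this

theorem SpReal.pair (a : ℕ) : SpReal F ({a} + {a} : Multiset ℕ) := by
  have := SpReal.double (F := F) (fun _ : Fin 1 => a)
  simpa using this

theorem SpReal.of_counts : ∀ (n : ℕ) (s : Multiset ℕ), Multiset.card s = n → 0 ∉ s →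
    (∀ j, Odd j → Even (s.count j)) → SpReal F s := by
  intro n
  induction n using Nat.strong_induction_on with
  | _ n ih =>
  intro s hcard h0 hodd
  rcases Multiset.empty_or_exists_mem s with rfl | ⟨a, ha⟩
  · exact SpReal.zero
  · rcases Nat.even_or_odd a with hev | hod
    · -- even part: split off a single block
      obtain ⟨l, hl⟩ := hev
      have hl1 : 1 ≤ l := by
        rcases Nat.eq_zero_or_pos l with h | h
        · exfalso
          apply h0
          rw [h] at hl
          rw [hl] at ha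
          exact ha
        · exact h
      have hs : s = {2 * l} + s.erase a := by
        rw [Multiset.singleton_add, ← two_mul] at *
        rw [← hl, Multiset.cons_erase ha]
      rw [hs]
      apply SpReal.add (SpReal.single l hl1)
      apply ih (n - 1) _ (s.erase a)
      · rw [Multiset.card_erase_of_mem ha, hcard]
        rfl
      · intro h
        exact h0 (Multiset.mem_of_mem_erase h)
      · intro j hj
        have hne : j ≠ a := by
          rintro rfl
          rw [hl, ← two_mul] at hj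
          exact (Nat.not_even_iff_odd.mpr hj) (even_two_mul l)
        rw [Multiset.count_erase_of_ne hne]
        exact hodd j hj
      · have : 0 < Multiset.card s := Multiset.card_pos_iff_exists_mem.mpr ⟨a, ha⟩
        omega
    · -- odd part: split off a pair
      have hc := hodd a hod
      have hc1 : 1 ≤ s.count a := Multiset.one_le_count_iff_mem.mpr ha
      have hc2 : 2 ≤ s.count a := by
        obtain ⟨r, hr⟩ := hc
        omega
      have ha' : a ∈ s.erase a := by
        rw [← Multiset.one_le_count_iff_mem, Multiset.count_erase_self]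
        omega
      have hs : s = ({a} + {a}) + (s.erase a).erase a := by
        rw [add_assoc, Multiset.singleton_add, Multiset.singleton_add, Multiset.cons_erase ha',
          Multiset.cons_erase ha]
      rw [hs]
      apply SpReal.add (SpReal.pair a)
      apply ih (n - 2) _ ((s.erase a).erase a)
      · rw [Multiset.card_erase_of_mem ha', Multiset.card_erase_of_mem ha, hcard]
        rfl
      · intro h
        exact h0 (Multiset.mem_of_mem_erase (Multiset.mem_of_mem_erase h))
      · intro j hj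
        by_cases hne : j = a
        · subst hne
          rw [Multiset.count_erase_self, Multiset.count_erase_self]
          obtain ⟨r, hr⟩ := hc
          exact ⟨r - 1, by omega⟩
        · rw [Multiset.count_erase_of_ne hne, Multiset.count_erase_of_ne hne]
          exact hodd j hj
      · have h1 : s.count a ≤ Multiset.card s := Multiset.count_le_card a s
        omega

end Decomp

end Cfsg.Agent.helper25.SpJ




namespace Cfsg.Agent.helper25.SpJ

open Cfsg.Agent.helper25.UCent Cfsg.Agent.helper25.Jordan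

section Backward

variable {F : Type u} [Field F] {m t : ℕ}

theorem gram_eq_neg_J {V : Type u} [AddCommGroup V] [Module F V]
    (B : LinearMap.BilinForm F V) (hA : B.IsAlt) (b₁ : Module.Basis (Fin m ⊕ Fin m) F V)
    (h1 : ∀ i j : Fin m, B (b₁ (Sum.inl i)) (b₁ (Sum.inr j)) = if i = j then 1 else 0)
    (h2 : ∀ i j : Fin m, B (b₁ (Sum.inl i)) (b₁ (Sum.inl j)) = 0)
    (h3 : ∀ i j : Fin m, B (b₁ (Sum.inr i)) (b₁ (Sum.inr j)) = 0) :
    LinearMap.BilinForm.toMatrix b₁ B = -Matrix.J (Fin m) F := by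
  ext i j
  rw [LinearMap.BilinForm.toMatrix_apply, Matrix.neg_apply]
  unfold Matrix.J
  rcases i with i | i <;> rcases j with j | j
  · rw [h2]
    simp
  · rw [h1]
    simp [Matrix.one_apply]
  · rw [← hA.neg_eq, h1]
    simp [Matrix.one_apply, eq_comm]
  · rw [h3]
    simp

theorem symplectic_of_basis {V : Type u} [AddCommGroup V] [Module F V]
    (B : LinearMap.BilinForm F V) (hA : B.IsAlt) (b₁ : Module.Basis (Fin m ⊕ Fin m) F V)
    (h1 : ∀ i j : Fin m, B (b₁ (Sum.inl i)) (b₁ (Sum.inr j)) = if i = j then 1 else 0)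
    (h2 : ∀ i j : Fin m, B (b₁ (Sum.inl i)) (b₁ (Sum.inl j)) = 0)
    (h3 : ∀ i j : Fin m, B (b₁ (Sum.inr i)) (b₁ (Sum.inr j)) = 0)
    (U : Module.End F V) (hu : ∀ x y, B (U x) (U y) = B x y) :
    LinearMap.toMatrix b₁ b₁ U ∈ Matrix.symplecticGroup (Fin m) F := by
  rw [SymplecticGroup.mem_iff']
  have hcomp : B.comp U U = B := by
    apply LinearMap.ext
    intro x
    apply LinearMap.ext
    intro y
    exact hu x y
  have h := LinearMap.BilinForm.toMatrix_comp b₁ b₁ B U U
  rw [hcomp, gram_eq_neg_J B hA b₁ h1 h2 h3] at h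
  rw [Matrix.mul_neg, Matrix.neg_mul] at h
  exact (neg_injective h).symm

theorem conj_of_equiv {V : Type u} [AddCommGroup V] [Module F V]
    (b₁ : Module.Basis (Fin m ⊕ Fin m) F V) (U : Module.End F V) (M : Mt m F)
    (Ψ : V ≃ₗ[F] (Fin m ⊕ Fin m → F)) (hΨ : ∀ x, Ψ (U x) = M.mulVec (Ψ x)) :
    IsConj M (LinearMap.toMatrix b₁ b₁ U) := by
  set std := Pi.basisFun F (Fin m ⊕ Fin m) with hstd
  set P : Mt m F := LinearMap.toMatrix b₁ std Ψ.toLinearMap with hP
  set Pinv : Mt m F := LinearMap.toMatrix std b₁ Ψ.symm.toLinearMap with hPinv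
  have hPP : P * Pinv = 1 := by
    rw [hP, hPinv, ← LinearMap.toMatrix_comp std b₁ std]
    have : Ψ.toLinearMap.comp Ψ.symm.toLinearMap = LinearMap.id := by
      apply LinearMap.ext
      intro x
      simp
    rw [this, LinearMap.toMatrix_id]
  have hPiP : Pinv * P = 1 := by
    rw [hP, hPinv, ← LinearMap.toMatrix_comp b₁ std b₁]
    have : Ψ.symm.toLinearMap.comp Ψ.toLinearMap = LinearMap.id := by
      apply LinearMap.ext
      intro x
      simp
    rw [this, LinearMap.toMatrix_id]
  have hPA : P * LinearMap.toMatrix b₁ b₁ U = M * P := by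
    have hM : M = LinearMap.toMatrix std std (Matrix.toLin' M) := by
      rw [hstd, LinearMap.toMatrix_eq_toMatrix', LinearMap.toMatrix'_toLin']
    rw [hP]
    conv_rhs => rw [hM]
    rw [← LinearMap.toMatrix_comp b₁ b₁ std, ← LinearMap.toMatrix_comp b₁ std std]
    congr 1
    apply LinearMap.ext
    intro x
    show Ψ (U x) = Matrix.toLin' M (Ψ x)
    rw [hΨ, Matrix.toLin'_apply]
  refine ⟨⟨Pinv, P, hPiP, hPP⟩, ?_⟩
  show Pinv * M = LinearMap.toMatrix b₁ b₁ U * Pinv
  have h1 : LinearMap.toMatrix b₁ b₁ U = Pinv * M * P := by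
    rw [Matrix.mul_assoc, ← hPA, ← Matrix.mul_assoc, hPiP, Matrix.one_mul]
  rw [h1, Matrix.mul_assoc, hPP, Matrix.mul_one]

theorem backward (d : Fin t → ℕ) (hd : ∀ k, 1 ≤ d k) (hsum : ∑ k, d k = 2 * m)
    (h : ∀ j, Odd j → Even (Finset.univ.filter (fun k : Fin t => d k = j)).card) :
    ∃ e : Ix d ≃ Fin m ⊕ Fin m, ∃ A : Matrix.symplecticGroup (Fin m) F,
      IsConj (Matrix.reindex e e (Cfsg.jordanTypeMatrix d F)) (A : Mt m F) := by
  classical
  set s : Multiset ℕ := Finset.univ.val.map d with hs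
  have hs0 : 0 ∉ s := by
    intro h0
    obtain ⟨k, _, hk⟩ := Multiset.mem_map.mp h0
    have := hd k
    omega
  have hcount : ∀ j, s.count j = (Finset.univ.filter (fun k : Fin t => d k = j)).card := by
    intro j
    rw [hs, ← card_fiber_eq_count, Fintype.card_subtype]
  obtain ⟨V, _, _, _, B, U, Ui, hA, hnd, h1, h2, hu, hr⟩ :=
    SpReal.of_counts (F := F) _ s rfl hs0 (fun j hj => by rw [hcount]; exact h j hj)
  obtain ⟨m', k', b, hb1, hb2, hb3, hb4⟩ := Cfsg.Agent.S0752.result B hA
  have hk' : k' = 0 := by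
    by_contra hk
    have hpos : 0 < k' := Nat.pos_of_ne_zero hk
    have h0 := hnd (b (Sum.inr ⟨0, hpos⟩)) (hb4 ⟨0, hpos⟩)
    exact b.ne_zero _ h0
  subst hk'
  have hfinV : Module.finrank F V = 2 * m := by
    have := hr 0
    rw [pow_zero, Module.End.one_eq_id, LinearMap.range_id, finrank_top, hs, Multiset.map_map] at this
    rw [this, ← hsum]
    rfl
  have hm' : m' = m := by
    have := Module.finrank_eq_card_basis b
    rw [hfinV] at this
    simp at this
    omega
  subst hm'
  set b₁ : Module.Basis (Fin m' ⊕ Fin m') F V :=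
    b.reindex (Equiv.sumEmpty (Fin m' ⊕ Fin m') (Fin 0)) with hb₁def
  have hb₁ : ∀ i, b₁ i = b (Sum.inl i) := by
    intro i
    rw [hb₁def, Module.Basis.reindex_apply]
    rfl
  have hAsymp : LinearMap.toMatrix b₁ b₁ U ∈ Matrix.symplecticGroup (Fin m') F := by
    apply symplectic_of_basis B hA b₁ _ _ _ U hu
    · intro i j
      rw [hb₁, hb₁]
      exact hb1 i j
    · intro i j
      rw [hb₁, hb₁]
      exact hb2 i j
    · intro i j
      rw [hb₁, hb₁]
      exact hb3 i j
  -- nilpotency of N = U - 1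
  have hnil : IsNilpotent (U - 1) := by
    refine ⟨s.sum, ?_⟩
    have h0 : (s.map (fun a => a - s.sum)).sum = 0 := by
      apply Multiset.sum_eq_zero
      intro x hx
      obtain ⟨a, ha, rfl⟩ := Multiset.mem_map.mp hx
      have := Multiset.le_sum_of_mem ha
      omega
    have h3 := hr s.sum
    rw [h0, Submodule.finrank_eq_zero] at h3
    exact LinearMap.range_eq_bot.mp h3
  obtain ⟨ι, _, e', φ, hpos, hφ⟩ := exists_model (F := F) (2 * m') V (U - 1) hnil hfinV
  have hms : Finset.univ.val.map e' = Finset.univ.val.map d := by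
    apply multiset_eq_of_sums
    · intro h0
      obtain ⟨i, _, hi⟩ := Multiset.mem_map.mp h0
      have := hpos i
      omega
    · exact hs0
    · intro k
      rw [← hs, ← hr k, finrank_range_pow e' (U - 1) φ hφ k, Multiset.map_map]
      rfl
  obtain ⟨χ, hχ⟩ := exists_intertwiner (F := F) e' d (U - 1) φ hφ (shk d 1)
    (LinearEquiv.refl F (Md F d)) (fun x => rfl) hms
  -- ψ : V ≃ (Ix d → F)
  set ψ : V ≃ₗ[F] (Ix d → F) := χ.trans (kap d).symm with hψdef
  have hψN : ∀ x, ψ ((U - 1) x) = Nl d (ψ x) := by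
    intro x
    apply (kap d).injective
    rw [kap_Nl]
    show kap d ((kap d).symm (χ ((U - 1) x))) = shk d 1 (kap d ((kap d).symm (χ x)))
    rw [LinearEquiv.apply_symm_apply, LinearEquiv.apply_symm_apply, hχ]
  have hψU : ∀ x, ψ (U x) = (Cfsg.jordanTypeMatrix d F).mulVec (ψ x) := by
    intro x
    have h3 := hψN x
    rw [← toLin'_jordan_sub_one, Matrix.toLin'_apply, Matrix.sub_mulVec, Matrix.one_mulVec,
      LinearMap.sub_apply, Module.End.one_apply, map_sub] at h3
    exact sub_left_injective h3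
  have hcard : Fintype.card (Ix d) = Fintype.card (Fin m' ⊕ Fin m') := by
    rw [Fintype.card_sigma, Fintype.card_sum, Fintype.card_fin]
    simp only [Fintype.card_fin]
    rw [hsum]
    ring
  let e : Ix d ≃ Fin m' ⊕ Fin m' := Fintype.equivOfCardEq hcard
  refine ⟨e, ⟨LinearMap.toMatrix b₁ b₁ U, hAsymp⟩, ?_⟩
  apply conj_of_equiv b₁ U _ (ψ.trans (LinearEquiv.funCongrLeft F F e.symm))
  intro x
  show (ψ (U x)) ∘ e.symm = (Matrix.reindex e e (Cfsg.jordanTypeMatrix d F)).mulVec ((ψ x) ∘ e.symm)
  rw [hψU]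
  have h3 := reindex_mulVec_comp d e (Cfsg.jordanTypeMatrix d F) ((ψ x) ∘ e.symm)
  have h4 : ((ψ x) ∘ e.symm) ∘ e = ψ x := by
    funext p
    simp
  rw [h4] at h3
  rw [← h3]
  funext q
  simp

end Backward

end Cfsg.Agent.helper25.SpJ
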