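import Mathlib
import Cfsg.Agent.Lib_helper25_TransvC

set_option autoImplicit false

namespace Cfsg.Agent.helper25.TransvE

open Matrix Cfsg.Agent.helper25.Transv Cfsg.Agent.S1339 Cfsg.Agent.helper25.TransvB
  Cfsg.Agent.helper25.TransvC

section mat
variable {R : Type*} [CommRing R] {n : ℕ}

/-- Matrices supported on row `0` off the diagonal. -/
def rowM (r : Fin (n + 1) → R) : Matrix (Fin (n + 2)) (Fin (n + 2)) R :=
  fun a b => if a = 0 then (Fin.cases (motive := fun _ => R) 0 r b) else 0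

/-- Matrices supported on column `1`, rows `≥ 2`. -/
def colM (k : Fin n → R) : Matrix (Fin (n + 2)) (Fin (n + 2)) R :=
  fun a b => if b = 1 then
    (Fin.cases (motive := fun _ => R) 0 (fun a' => Fin.cases (motive := fun _ => R) 0 k a') a) else 0

theorem rowM_zero_succ (r : Fin (n + 1) → R) (b : Fin (n + 1)) : rowM r 0 b.succ = r b := by
  simp [rowM]

theorem rowM_zero_zero (r : Fin (n + 1) → R) : rowM r 0 0 = 0 := by
  simp [rowM]

theorem rowM_of_ne (r : Fin (n + 1) → R) {a : Fin (n + 2)} (ha : a ≠ 0) (b : Fin (n + 2)) :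
    rowM r a b = 0 := by
  simp [rowM, ha]

theorem colM_succ_succ_one (k : Fin n → R) (a : Fin n) : colM k a.succ.succ 1 = k a := by
  simp [colM]

theorem colM_of_ne (k : Fin n → R) (a : Fin (n + 2)) {b : Fin (n + 2)} (hb : b ≠ 1) :
    colM k a b = 0 := by
  simp [colM, hb]

theorem colM_zero (k : Fin n → R) (b : Fin (n + 2)) : colM k 0 b = 0 := by
  simp [colM]

theorem colM_one (k : Fin n → R) (b : Fin (n + 2)) : colM k 1 b = 0 := by
  unfold colM
  split_ifs
  · rw [← Fin.succ_zero_eq_one, Fin.cases_succ, Fin.cases_zero]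
  · rfl

theorem one_ne_zero' : (1 : Fin (n + 2)) ≠ 0 := fun h => h01 h.symm

theorem succ_succ_ne_one (a : Fin n) : a.succ.succ ≠ (1 : Fin (n + 2)) := by
  intro h
  have := congrArg Fin.val h
  simp at this

theorem supp_rowM (r : Fin (n + 1) → R) : Supp 0 1 (rowM r) :=
  ⟨fun a => by
      by_cases ha : a = 0
      · rw [ha]; exact rowM_zero_zero r
      · exact rowM_of_ne r ha 0,
    fun b => rowM_of_ne r one_ne_zero' b,
    fun a b ha _ => rowM_of_ne r ha b⟩

theorem supp_colM (k : Fin n → R) : Supp 0 1 (colM k) :=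
  ⟨fun a => colM_of_ne k a h01, fun b => colM_one k b, fun a b _ hb => colM_of_ne k a hb⟩

end mat

section grp
variable {F : Type*} [Field F] [Fintype F] [DecidableEq F] {n : ℕ}

local notation "G2" => Matrix.SpecialLinearGroup (Fin (n + 2)) F

theorem det_one_add_of_supp [CharP F 2] (hF : Fintype.card F = 2) {m : ℕ} {i j : Fin m}
    {N : Matrix (Fin m) (Fin m) F} (hN : Supp i j N) : (1 + N).det = 1 := by
  haveI : Nonempty (Fin m) := ⟨i⟩
  have h4 : (4 : ℕ) = 2 ^ 2 := by norm_num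
  have hpow : (1 + N) ^ 4 = 1 := by
    rw [h4, add_pow_char_pow_of_commute (p := 2) (n := 2) (Commute.one_left _), one_pow, ← h4,
      supp_pow_four hN, add_zero]
  have hd : (1 + N).det ^ 4 = 1 := by rw [← Matrix.det_pow, hpow, Matrix.det_one]
  rcases zero_or_one_of_card_two hF (1 + N).det with h | h
  · rw [h] at hd; norm_num at hd
  · exact h

/-- The element of `Q` with given row and column data. -/
def mkQ [CharP F 2] (hF : Fintype.card F = 2) (rk : (Fin (n + 1) → F) × (Fin n → F)) :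
    ↥(qSub (F := F) (0 : Fin (n + 2)) 1) :=
  ⟨(⟨1 + (rowM rk.1 + colM rk.2),
      det_one_add_of_supp hF ((supp_rowM rk.1).add (supp_colM rk.2))⟩ : G2), by
    show Supp 0 1 (1 + (rowM rk.1 + colM rk.2) - 1)
    rw [add_sub_cancel_left]
    exact (supp_rowM rk.1).add (supp_colM rk.2)⟩

theorem mkQ_coe [CharP F 2] (hF : Fintype.card F = 2) (rk : (Fin (n + 1) → F) × (Fin n → F)) :
    (((mkQ hF rk : ↥(qSub (F := F) (0 : Fin (n + 2)) 1)) : G2) :
      Matrix (Fin (n + 2)) (Fin (n + 2)) F) = 1 + (rowM rk.1 + colM rk.2) := rfl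

/-- The parametrization of `Q`. -/
def equivQ [CharP F 2] (hF : Fintype.card F = 2) :
    ↥(qSub (F := F) (0 : Fin (n + 2)) 1) ≃ (Fin (n + 1) → F) × (Fin n → F) where
  toFun g := (fun b => ((g : G2) : Matrix (Fin (n + 2)) (Fin (n + 2)) F) 0 b.succ,
    fun a => ((g : G2) : Matrix (Fin (n + 2)) (Fin (n + 2)) F) a.succ.succ 1)
  invFun := mkQ hF
  left_inv g := by
    have hs : Supp 0 1 (((g : G2) : Matrix (Fin (n + 2)) (Fin (n + 2)) F) - 1) := g.2
    apply Subtype.ext
    apply Subtype.ext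
    rw [mkQ_coe]
    ext a b
    rw [Matrix.add_apply, Matrix.add_apply]
    rcases Fin.eq_zero_or_eq_succ a with rfl | ⟨a', rfl⟩
    · rw [colM_zero, add_zero]
      rcases Fin.eq_zero_or_eq_succ b with rfl | ⟨b', rfl⟩
      · rw [rowM_zero_zero, add_zero]
        have := hs.1 0
        rw [Matrix.sub_apply, sub_eq_zero] at this
        exact this.symm
      · rw [rowM_zero_succ, Matrix.one_apply_ne (Ne.symm (Fin.succ_ne_zero _)), zero_add]
    · rw [rowM_of_ne _ (Fin.succ_ne_zero _), zero_add]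
      rcases Fin.eq_zero_or_eq_succ a' with rfl | ⟨a'', rfl⟩
      · rw [Fin.succ_zero_eq_one, colM_one, add_zero]
        have := hs.2.1 b
        rw [Matrix.sub_apply, sub_eq_zero] at this
        exact this.symm
      · by_cases hb : b = 1
        · rw [hb, colM_succ_succ_one, Matrix.one_apply_ne (succ_succ_ne_one a''), zero_add]
        · rw [colM_of_ne _ _ hb, add_zero]
          have := hs.2.2 a''.succ.succ b (Fin.succ_ne_zero _) hb
          rw [Matrix.sub_apply, sub_eq_zero] at this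
          exact this.symm
  right_inv rk := by
    apply Prod.ext
    · funext b
      show (((mkQ hF rk : ↥(qSub (F := F) (0 : Fin (n + 2)) 1)) : G2) :
        Matrix (Fin (n + 2)) (Fin (n + 2)) F) 0 b.succ = rk.1 b
      rw [mkQ_coe, Matrix.add_apply, Matrix.add_apply, rowM_zero_succ, colM_zero, add_zero,
        Matrix.one_apply_ne (Ne.symm (Fin.succ_ne_zero _)), zero_add]
    · funext a
      show (((mkQ hF rk : ↥(qSub (F := F) (0 : Fin (n + 2)) 1)) : G2) :
        Matrix (Fin (n + 2)) (Fin (n + 2)) F) a.succ.succ 1 = rk.2 a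
      rw [mkQ_coe, Matrix.add_apply, Matrix.add_apply, rowM_of_ne _ (Fin.succ_ne_zero _),
        colM_succ_succ_one, zero_add, Matrix.one_apply_ne (succ_succ_ne_one a), zero_add]

theorem card_qSub [CharP F 2] (hF : Fintype.card F = 2) :
    Nat.card ↥(qSub (F := F) (0 : Fin (n + 2)) 1) = 2 ^ (2 * n + 1) := by
  rw [Nat.card_congr (equivQ hF), Nat.card_prod, Nat.card_eq_fintype_card,
    Nat.card_eq_fintype_card, Fintype.card_fun, Fintype.card_fun, Fintype.card_fin,
    Fintype.card_fin, hF, ← pow_add]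
  congr 1
  omega

/-- Matrices supported on row `i` only. -/
def RSupp {m : ℕ} (i : Fin m) (N : Matrix (Fin m) (Fin m) F) : Prop :=
  (∀ a, N a i = 0) ∧ (∀ a b, a ≠ i → N a b = 0)

theorem RSupp.supp {m : ℕ} {i j : Fin m} (hij : i ≠ j) {N : Matrix (Fin m) (Fin m) F}
    (h : RSupp i N) : Supp i j N :=
  ⟨h.1, fun b => h.2 j b (Ne.symm hij), fun a b ha _ => h.2 a b ha⟩

theorem RSupp.add {m : ℕ} {i : Fin m} {N M : Matrix (Fin m) (Fin m) F} (hN : RSupp i N)
    (hM : RSupp i M) : RSupp i (N + M) :=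
  ⟨fun a => by rw [Matrix.add_apply, hN.1 a, hM.1 a, add_zero],
    fun a b ha => by rw [Matrix.add_apply, hN.2 a b ha, hM.2 a b ha, add_zero]⟩

theorem RSupp.mul_eq_zero {m : ℕ} {i : Fin m} {N M : Matrix (Fin m) (Fin m) F} (hN : RSupp i N)
    (hM : RSupp i M) : N * M = 0 := by
  ext a b
  rw [Matrix.mul_apply, Matrix.zero_apply]
  refine Finset.sum_eq_zero fun k _ => ?_
  by_cases hk : k = i
  · rw [hk, hN.1 a, zero_mul]
  · rw [hM.2 k b hk, mul_zero]

theorem rsupp_zero {m : ℕ} (i : Fin m) : RSupp i (0 : Matrix (Fin m) (Fin m) F) :=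
  ⟨fun _ => rfl, fun _ _ _ => rfl⟩

theorem mul_of_rsupp {m : ℕ} {i : Fin m} {X Y : Matrix (Fin m) (Fin m) F}
    (hX : RSupp i (X - 1)) (hY : RSupp i (Y - 1)) : X * Y = 1 + ((X - 1) + (Y - 1)) := by
  have e : X * Y = (X - 1) * (Y - 1) + 1 + ((X - 1) + (Y - 1)) := by noncomm_ring
  rw [e, hX.mul_eq_zero hY, zero_add]

/-- The elementary abelian subgroup `E` of `Q`. -/
def eSub [CharP F 2] {m : ℕ} (i : Fin m) : Subgroup (Matrix.SpecialLinearGroup (Fin m) F) where
  carrier := {g | RSupp i ((g : Matrix (Fin m) (Fin m) F) - 1)}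
  one_mem' := by
    show RSupp i (((1 : Matrix.SpecialLinearGroup (Fin m) F) : Matrix (Fin m) (Fin m) F) - 1)
    rw [Matrix.SpecialLinearGroup.coe_one, sub_self]; exact rsupp_zero i
  mul_mem' := by
    intro g h hg hh
    show RSupp i (((g * h : Matrix.SpecialLinearGroup (Fin m) F) : Matrix (Fin m) (Fin m) F) - 1)
    rw [Matrix.SpecialLinearGroup.coe_mul, mul_of_rsupp hg hh, add_sub_cancel_left]
    exact RSupp.add hg hh
  inv_mem' := by
    intro g hg
    have hgg : g * g = 1 := by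
      apply Subtype.ext
      rw [Matrix.SpecialLinearGroup.coe_mul, mul_of_rsupp hg hg, Matrix.SpecialLinearGroup.coe_one]
      have h2 : ((g : Matrix (Fin m) (Fin m) F) - 1) + ((g : Matrix (Fin m) (Fin m) F) - 1) = 0 := by
        rw [← two_smul ℕ, ]
        ext c d
        rw [Matrix.smul_apply, Matrix.zero_apply, nsmul_eq_mul]
        have : ((2 : ℕ) : F) = 0 := CharP.cast_eq_zero F 2
        rw [this, zero_mul]
      rw [h2, add_zero]
    have : g⁻¹ = g := inv_eq_of_mul_eq_one_right hgg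
    rw [this]; exact hg

theorem mem_eSub [CharP F 2] {m : ℕ} {i : Fin m} {g : Matrix.SpecialLinearGroup (Fin m) F} :
    g ∈ eSub (F := F) i ↔ RSupp i ((g : Matrix (Fin m) (Fin m) F) - 1) := Iff.rfl

theorem eSub_le_qSub [CharP F 2] {m : ℕ} {i j : Fin m} (hij : i ≠ j) :
    eSub (F := F) i ≤ qSub (F := F) i j := fun _ hg => RSupp.supp hij hg

theorem eSub_sq [CharP F 2] {m : ℕ} {i : Fin m} {g : Matrix.SpecialLinearGroup (Fin m) F}
    (hg : g ∈ eSub (F := F) i) : g ^ 2 = 1 := by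
  rw [pow_two]
  apply Subtype.ext
  rw [Matrix.SpecialLinearGroup.coe_mul, mul_of_rsupp hg hg, Matrix.SpecialLinearGroup.coe_one]
  have h2 : ((g : Matrix (Fin m) (Fin m) F) - 1) + ((g : Matrix (Fin m) (Fin m) F) - 1) = 0 := by
    rw [← two_smul ℕ]
    ext c d
    rw [Matrix.smul_apply, Matrix.zero_apply, nsmul_eq_mul]
    have : ((2 : ℕ) : F) = 0 := CharP.cast_eq_zero F 2
    rw [this, zero_mul]
  rw [h2, add_zero]

theorem eSub_comm [CharP F 2] {m : ℕ} {i : Fin m} {g h : Matrix.SpecialLinearGroup (Fin m) F}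
    (hg : g ∈ eSub (F := F) i) (hh : h ∈ eSub (F := F) i) : g * h = h * g := by
  apply Subtype.ext
  rw [Matrix.SpecialLinearGroup.coe_mul, Matrix.SpecialLinearGroup.coe_mul, mul_of_rsupp hg hh,
    mul_of_rsupp hh hg, add_comm ((g : Matrix (Fin m) (Fin m) F) - 1)]

theorem isElementaryAbelian_eSub [CharP F 2] {m : ℕ} (i : Fin m) :
    Cfsg.IsElementaryAbelian 2 (eSub (F := F) i) :=
  ⟨⟨⟨fun a b => Subtype.ext (eSub_comm a.2 b.2)⟩⟩, fun _ ha => eSub_sq ha⟩

theorem rsupp_rowM (r : Fin (n + 1) → F) : RSupp (0 : Fin (n + 2)) (rowM r) :=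
  ⟨(supp_rowM r).1, fun _ b ha => rowM_of_ne r ha b⟩

/-- The parametrization of `E`. -/
def equivE [CharP F 2] (hF : Fintype.card F = 2) :
    ↥(eSub (F := F) (0 : Fin (n + 2))) ≃ (Fin (n + 1) → F) where
  toFun g := fun b => ((g : G2) : Matrix (Fin (n + 2)) (Fin (n + 2)) F) 0 b.succ
  invFun r := ⟨(⟨1 + rowM r, det_one_add_of_supp hF (supp_rowM r)⟩ : G2), by
    show RSupp 0 (1 + rowM r - 1)
    rw [add_sub_cancel_left]
    exact rsupp_rowM r⟩
  left_inv g := by
    have hs : RSupp 0 (((g : G2) : Matrix (Fin (n + 2)) (Fin (n + 2)) F) - 1) := g.2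
    apply Subtype.ext
    apply Subtype.ext
    show 1 + rowM _ = ((g : G2) : Matrix (Fin (n + 2)) (Fin (n + 2)) F)
    ext a b
    rw [Matrix.add_apply]
    rcases Fin.eq_zero_or_eq_succ a with rfl | ⟨a', rfl⟩
    · rcases Fin.eq_zero_or_eq_succ b with rfl | ⟨b', rfl⟩
      · rw [rowM_zero_zero, add_zero]
        have := hs.1 0
        rw [Matrix.sub_apply, sub_eq_zero] at this
        exact this.symm
      · rw [rowM_zero_succ, Matrix.one_apply_ne (Ne.symm (Fin.succ_ne_zero _)), zero_add]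
    · rw [rowM_of_ne _ (Fin.succ_ne_zero _), add_zero]
      have := hs.2 a'.succ b (Fin.succ_ne_zero _)
      rw [Matrix.sub_apply, sub_eq_zero] at this
      exact this.symm
  right_inv r := by
    funext b
    show (1 + rowM r : Matrix (Fin (n + 2)) (Fin (n + 2)) F) 0 b.succ = r b
    rw [Matrix.add_apply, rowM_zero_succ, Matrix.one_apply_ne (Ne.symm (Fin.succ_ne_zero _)),
      zero_add]

theorem card_eSub [CharP F 2] (hF : Fintype.card F = 2) :
    Nat.card ↥(eSub (F := F) (0 : Fin (n + 2))) = 2 ^ (n + 1) := by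
  rw [Nat.card_congr (equivE hF), Nat.card_eq_fintype_card, Fintype.card_fun, Fintype.card_fin, hF]

end grp

end Cfsg.Agent.helper25.TransvE
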