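import Mathlib
import Cfsg.Agent.Lib_helper25_TransvD

set_option autoImplicit false

namespace Cfsg.Agent.helper25.TransvF

open Matrix Cfsg.Agent.helper25.Transv Cfsg.Agent.S1339 Cfsg.Agent.helper25.TransvB
  Cfsg.Agent.helper25.TransvD

section general
variable {G : Type*} [Group G]

theorem eq_one_of_odd_of_pow (K : Subgroup G) [Finite K] (hodd : Odd (Nat.card K)) {x : G}
    (hx : x ∈ K) {r : ℕ} (h : x ^ (2 ^ r) = 1) : x = 1 := by
  have h1 : orderOf x ∣ 2 ^ r := orderOf_dvd_of_pow_eq_one h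
  have h2 : orderOf x ∣ Nat.card K := by
    have := orderOf_dvd_natCard (⟨x, hx⟩ : K)
    rwa [Subgroup.orderOf_mk] at this
  have hcop : Nat.Coprime (2 ^ r) (Nat.card K) :=
    Nat.Coprime.pow_left r (Nat.coprime_two_left.mpr hodd)
  have : orderOf x = 1 := Nat.eq_one_of_dvd_coprimes hcop h1 h2
  exact orderOf_eq_one_iff.mp this

/-- A fixed-point-free involution inverts. -/
theorem inverts_of_fpf (z : G) (hz : z * z = 1) (K : Subgroup G) [Finite K]
    (hzK : ∀ k ∈ K, z * k * z⁻¹ ∈ K) (hfix : ∀ k ∈ K, z * k = k * z → k = 1) :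
    ∀ k ∈ K, z * k * z⁻¹ = k⁻¹ := by
  have hzinv : z⁻¹ = z := inv_eq_of_mul_eq_one_right hz
  let f : K → K := fun k => ⟨(k : G)⁻¹ * (z * k * z⁻¹), K.mul_mem (K.inv_mem k.2) (hzK k k.2)⟩
  have hinj : Function.Injective f := by
    intro k h hkh
    have h1 : (k : G)⁻¹ * (z * k * z⁻¹) = (h : G)⁻¹ * (z * h * z⁻¹) := congrArg Subtype.val hkh
    have h2 : z * ((k : G) * (h : G)⁻¹) = ((k : G) * (h : G)⁻¹) * z := by
      have h3 : (k : G)⁻¹ * z * k = (h : G)⁻¹ * z * h := by
        have := congrArg (fun x => x * z) h1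
        simp only [mul_assoc, inv_mul_cancel, mul_one] at this
        simpa [mul_assoc] using this
      calc z * ((k : G) * (h : G)⁻¹) = k * ((k : G)⁻¹ * z * k) * (h : G)⁻¹ := by group
        _ = k * ((h : G)⁻¹ * z * h) * (h : G)⁻¹ := by rw [h3]
        _ = ((k : G) * (h : G)⁻¹) * z := by group
    have h4 := hfix _ (K.mul_mem k.2 (K.inv_mem h.2)) h2
    apply Subtype.ext
    exact mul_inv_eq_one.mp h4
  have hsurj : Function.Surjective f := Finite.injective_iff_surjective.mp hinj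
  intro k hk
  obtain ⟨k0, hk0⟩ := hsurj ⟨k, hk⟩
  have hk0' : (k0 : G)⁻¹ * (z * k0 * z⁻¹) = k := congrArg Subtype.val hk0
  rw [← hk0', hzinv]
  have e1 : z * ((k0 : G)⁻¹ * (z * k0 * z)) * z = z * (k0 : G)⁻¹ * z * k0 * (z * z) := by group
  have e2 : ((k0 : G)⁻¹ * (z * k0 * z))⁻¹ = z⁻¹ * (k0 : G)⁻¹ * z⁻¹ * k0 := by group
  rw [e1, e2, hz, mul_one, hzinv]

theorem comm_of_inverts (z : G) (K : Subgroup G) (hinv : ∀ k ∈ K, z * k * z⁻¹ = k⁻¹)
    {a b : G} (ha : a ∈ K) (hb : b ∈ K) : a * b = b * a := by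
  have h1 := hinv (a * b) (K.mul_mem ha hb)
  have h2 : z * (a * b) * z⁻¹ = (z * a * z⁻¹) * (z * b * z⁻¹) := by group
  rw [h2, hinv a ha, hinv b hb] at h1
  have h3 : (a⁻¹ * b⁻¹)⁻¹ = ((a * b)⁻¹)⁻¹ := by rw [h1]
  rw [_root_.mul_inv_rev, inv_inv, inv_inv, inv_inv] at h3
  exact h3.symm

theorem sq_centralizes {q k : G} (h : q * k * q⁻¹ = k ∨ q * k * q⁻¹ = k⁻¹) :
    (q * q) * k * (q * q)⁻¹ = k := by
  have e : (q * q) * k * (q * q)⁻¹ = q * (q * k * q⁻¹) * q⁻¹ := by group
  rw [e]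
  rcases h with h | h
  · rw [h, h]
  · rw [h]
    have : q * k⁻¹ * q⁻¹ = (q * k * q⁻¹)⁻¹ := by group
    rw [this, h, inv_inv]

end general

section grp
variable {F : Type*} [Field F] [Fintype F] [DecidableEq F] [CharP F 2] {m : ℕ}

local notation "Gm" => Matrix.SpecialLinearGroup (Fin m) F

theorem two_eq_zero_F : (2 : F) = 0 := by
  have : ((2 : ℕ) : F) = 0 := CharP.cast_eq_zero F 2
  exact_mod_cast this

theorem tv_coe {i j : Fin m} (hij : i ≠ j) :
    ((tv (F := F) i j hij : Gm) : Matrix (Fin m) (Fin m) F) = 1 + Matrix.single i j (1 : F) := rfl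

theorem tv_mulVec_e {i j : Fin m} (hij : i ≠ j) :
    (tv (F := F) i j hij : Matrix (Fin m) (Fin m) F) *ᵥ (Pi.single i (1 : F))
      = Pi.single i (1 : F) := by
  rw [tv_mulVec, Pi.single_eq_of_ne (Ne.symm hij), Pi.single_zero, add_zero]

theorem key_vec {i j : Fin m} (hij : i ≠ j) {k : Gm} (hk : k * tv i j hij * k = tv i j hij) :
    (k : Matrix (Fin m) (Fin m) F) *ᵥ ((k : Matrix (Fin m) (Fin m) F) *ᵥ Pi.single i (1 : F))
      + (k : Matrix (Fin m) (Fin m) F) *ᵥ
        Pi.single i (((k : Matrix (Fin m) (Fin m) F) *ᵥ Pi.single i (1 : F)) j)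
      = Pi.single i (1 : F) := by
  have h1 := congrArg (fun x : Gm => (x : Matrix (Fin m) (Fin m) F) *ᵥ Pi.single i (1 : F)) hk
  simp only [Matrix.SpecialLinearGroup.coe_mul] at h1
  rw [tv_mulVec_e, ← Matrix.mulVec_mulVec, ← Matrix.mulVec_mulVec, tv_mulVec,
    Matrix.mulVec_add] at h1
  exact h1

theorem pow_four_of_fix {i j : Fin m} (hij : i ≠ j) {k : Gm}
    (hk : k * tv i j hij * k = tv i j hij)
    (hfix : (k : Matrix (Fin m) (Fin m) F) *ᵥ Pi.single i (1 : F) = Pi.single i (1 : F)) :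
    k ^ (2 ^ 2) = 1 := by
  set A : Matrix (Fin m) (Fin m) F := (k : Matrix (Fin m) (Fin m) F) with hA
  set E : Matrix (Fin m) (Fin m) F := Matrix.single i j (1 : F) with hE
  have hAE : A * E = E := by
    ext a b
    by_cases hb : b = j
    · rw [hb, hE, Matrix.mul_single_apply_same, mul_one]
      have := congrFun hfix a
      rw [Matrix.mulVec_single_one] at this
      have h2 : A a i = (Pi.single i (1 : F) : Fin m → F) a := this
      rw [h2]
      by_cases ha : a = i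
      · rw [ha, Pi.single_eq_same, Matrix.single_apply_same]
      · rw [Pi.single_eq_of_ne ha, Matrix.single_apply_of_row_ne (Ne.symm ha)]
    · rw [hE, Matrix.mul_single_apply_of_ne (1 : F) i j a b hb A,
        Matrix.single_apply_of_col_ne i a (Ne.symm hb)]
  have hEE : E * E = 0 := by
    rw [hE, Matrix.single_mul_single_of_ne _ _ _ _ (Ne.symm hij)]
  have h1 : A * (1 + E) * A = 1 + E := by
    have := congrArg (fun x : Gm => (x : Matrix (Fin m) (Fin m) F)) hk
    simpa only [Matrix.SpecialLinearGroup.coe_mul, tv_coe] using this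
  have h2 : A * A = 1 + (E - E * A) := by
    have e : A * (1 + E) * A = A * A + A * E * A := by noncomm_ring
    rw [e, hAE] at h1
    have : A * A = 1 + E - E * A := eq_sub_of_add_eq h1
    rw [this]; abel
  have hDD : (E - E * A) * (E - E * A) = 0 := by
    have e : (E - E * A) * (E - E * A)
        = E * E - E * E * A - E * (A * E) + E * (A * E) * A := by noncomm_ring
    rw [e, hAE, hEE]; simp
  have hD2 : (E - E * A) + (E - E * A) = 0 := by
    ext c d
    rw [Matrix.add_apply, Matrix.zero_apply, ← two_mul, two_eq_zero_F, zero_mul]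
  have h4 : A ^ 4 = 1 := by
    have e : A ^ 4 = (A * A) * (A * A) := by noncomm_ring
    rw [e, h2]
    have e2 : (1 + (E - E * A)) * (1 + (E - E * A))
        = 1 + ((E - E * A) + (E - E * A)) + (E - E * A) * (E - E * A) := by noncomm_ring
    rw [e2, hD2, hDD, add_zero, add_zero]
  apply Subtype.ext
  rw [Matrix.SpecialLinearGroup.coe_pow, Matrix.SpecialLinearGroup.coe_one]
  exact h4

theorem tv_mul_self {i j : Fin m} (hij : i ≠ j) :
    tv (F := F) i j hij * tv i j hij = 1 := by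
  apply Subtype.ext
  rw [Matrix.SpecialLinearGroup.coe_mul, tv_coe, Matrix.SpecialLinearGroup.coe_one]
  have e : (1 + Matrix.single i j (1 : F)) * (1 + Matrix.single i j (1 : F))
      = 1 + (Matrix.single i j (1 : F) + Matrix.single i j (1 : F))
        + Matrix.single i j (1 : F) * Matrix.single i j (1 : F) := by noncomm_ring
  rw [e, Matrix.single_mul_single_of_ne _ _ _ _ (Ne.symm hij), add_zero]
  have h2 : Matrix.single i j (1 : F) + Matrix.single i j (1 : F) = 0 := by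
    ext c d
    rw [Matrix.add_apply, Matrix.zero_apply, ← two_mul, two_eq_zero_F, zero_mul]
  rw [h2, add_zero]

theorem kzk_of_inverts {i j : Fin m} (hij : i ≠ j) (K : Subgroup Gm)
    (hinv : ∀ k ∈ K, tv i j hij * k * (tv (F := F) i j hij)⁻¹ = k⁻¹) {k : Gm} (hk : k ∈ K) :
    k * tv i j hij * k = tv i j hij := by
  have h1 := hinv k hk
  have h2 : tv i j hij * k = k⁻¹ * tv (F := F) i j hij := mul_inv_eq_iff_eq_mul.mp h1
  rw [mul_assoc, h2, ← mul_assoc, mul_inv_cancel, one_mul]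

theorem eq_one_of_fix {i j : Fin m} (hij : i ≠ j) (K : Subgroup Gm) (hodd : Odd (Nat.card K))
    (hinv : ∀ k ∈ K, tv i j hij * k * (tv (F := F) i j hij)⁻¹ = k⁻¹) {k : Gm} (hk : k ∈ K)
    (hfix : (k : Matrix (Fin m) (Fin m) F) *ᵥ Pi.single i (1 : F) = Pi.single i (1 : F)) :
    k = 1 :=
  eq_one_of_odd_of_pow K hodd hk (pow_four_of_fix hij (kzk_of_inverts hij K hinv hk) hfix)

theorem star {i j : Fin m} (hF : Fintype.card F = 2) (hij : i ≠ j) (K : Subgroup Gm)
    (hodd : Odd (Nat.card K))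
    (hinv : ∀ k ∈ K, tv i j hij * k * (tv (F := F) i j hij)⁻¹ = k⁻¹) {k : Gm} (hk : k ∈ K)
    (hk1 : k ≠ 1) :
    (k : Matrix (Fin m) (Fin m) F) *ᵥ ((k : Matrix (Fin m) (Fin m) F) *ᵥ Pi.single i (1 : F))
      = Pi.single i (1 : F) - (k : Matrix (Fin m) (Fin m) F) *ᵥ Pi.single i (1 : F) := by
  have hkv := key_vec hij (kzk_of_inverts hij K hinv hk)
  rcases zero_or_one_of_card_two hF
    (((k : Matrix (Fin m) (Fin m) F) *ᵥ Pi.single i (1 : F)) j) with h0 | h1
  · exfalso
    rw [h0, Pi.single_zero, Matrix.mulVec_zero, add_zero, Matrix.mulVec_mulVec,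
      ← Matrix.SpecialLinearGroup.coe_mul] at hkv
    have hkk := eq_one_of_fix hij K hodd hinv (K.mul_mem hk hk) hkv
    apply hk1
    apply eq_one_of_odd_of_pow K hodd hk (r := 1)
    rw [pow_one, pow_two]; exact hkk
  · rw [h1] at hkv
    exact eq_sub_of_add_eq hkv

theorem two_elements {i j : Fin m} (hF : Fintype.card F = 2) (hij : i ≠ j) (K : Subgroup Gm)
    (hodd : Odd (Nat.card K))
    (hinv : ∀ k ∈ K, tv i j hij * k * (tv (F := F) i j hij)⁻¹ = k⁻¹) {k h : Gm} (hk : k ∈ K)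
    (hh : h ∈ K) (hk1 : k ≠ 1) (hh1 : h ≠ 1) : k * h = 1 ∨ k = h := by
  by_cases hkh : k * h = 1
  · exact Or.inl hkh
  right
  set A : Matrix (Fin m) (Fin m) F := (k : Matrix (Fin m) (Fin m) F) with hA
  set B : Matrix (Fin m) (Fin m) F := (h : Matrix (Fin m) (Fin m) F) with hB
  set e : Fin m → F := Pi.single i (1 : F) with he
  have hAB : A * B = B * A := by
    have := comm_of_inverts _ K hinv hk hh
    have := congrArg (fun x : Gm => (x : Matrix (Fin m) (Fin m) F)) this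
    simpa only [Matrix.SpecialLinearGroup.coe_mul] using this
  have X1 : A *ᵥ (A *ᵥ e) = e - A *ᵥ e := star hF hij K hodd hinv hk hk1
  have X2 : B *ᵥ (B *ᵥ e) = e - B *ᵥ e := star hF hij K hodd hinv hh hh1
  have X4 : (A * B) *ᵥ ((A * B) *ᵥ e) = e - (A * B) *ᵥ e := by
    have := star hF hij K hodd hinv (K.mul_mem hk hh) hkh
    simpa only [Matrix.SpecialLinearGroup.coe_mul] using this
  -- c = A b = B a
  have hc1 : (A * B) *ᵥ e = A *ᵥ (B *ᵥ e) := (Matrix.mulVec_mulVec _ _ _).symm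
  have hc2 : (A * B) *ᵥ e = B *ᵥ (A *ᵥ e) := by rw [hAB]; exact (Matrix.mulVec_mulVec _ _ _).symm
  have hBc : B *ᵥ ((A * B) *ᵥ e) = A *ᵥ e - (A * B) *ᵥ e := by
    rw [hc1, Matrix.mulVec_mulVec, ← hAB, ← Matrix.mulVec_mulVec, X2, Matrix.mulVec_sub, ← hc1]
  have hAc : A *ᵥ ((A * B) *ᵥ e) = B *ᵥ e - (A * B) *ᵥ e := by
    rw [hc2, Matrix.mulVec_mulVec, hAB, ← Matrix.mulVec_mulVec, X1, Matrix.mulVec_sub, ← hc2]
  have hABc : (A * B) *ᵥ ((A * B) *ᵥ e) = e - A *ᵥ e - (B *ᵥ e - (A * B) *ᵥ e) := by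
    rw [show (A * B) *ᵥ ((A * B) *ᵥ e) = A *ᵥ (B *ᵥ ((A * B) *ᵥ e)) from
      (Matrix.mulVec_mulVec _ _ _).symm, hBc, Matrix.mulVec_sub, X1, hAc]
  have hab : A *ᵥ e = B *ᵥ e := by
    funext r
    have h1 := congrFun hABc r
    have h2 := congrFun X4 r
    rw [h2] at h1
    simp only [Pi.sub_apply] at h1
    have h2F := two_eq_zero_F (F := F)
    linear_combination h1 + ((A * B) *ᵥ e) r * h2F - (B *ᵥ e) r * h2F
  -- h⁻¹ k fixes e
  have hfix : ((h⁻¹ * k : Gm) : Matrix (Fin m) (Fin m) F) *ᵥ e = e := by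
    rw [Matrix.SpecialLinearGroup.coe_mul, ← Matrix.mulVec_mulVec]
    show ((h⁻¹ : Gm) : Matrix (Fin m) (Fin m) F) *ᵥ (A *ᵥ e) = e
    rw [hab, Matrix.mulVec_mulVec, hB, ← Matrix.SpecialLinearGroup.coe_mul, inv_mul_cancel,
      Matrix.SpecialLinearGroup.coe_one, Matrix.one_mulVec]
  have := eq_one_of_fix hij K hodd hinv (K.mul_mem (K.inv_mem hh) hk) hfix
  exact (inv_mul_eq_one.mp this).symm

/-- `Q` normalizes no nontrivial subgroup of odd order. -/
theorem no_odd {i j b : Fin m} (hF : Fintype.card F = 2) (hij : i ≠ j) (hbi : b ≠ i)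
    (hbj : b ≠ j) (K : Subgroup Gm) (hodd : Odd (Nat.card K))
    (hQK : qSub (F := F) i j ≤ Subgroup.normalizer (K : Set Gm)) : K = ⊥ := by
  set z : Gm := tv i j hij with hz
  have hzQ : z ∈ qSub (F := F) i j := tv_mem_qSub hij
  have hzz : z * z = 1 := tv_mul_self hij
  haveI : Finite K := inferInstance
  have hKQ : ∀ x ∈ K, x ∈ qSub (F := F) i j → x = 1 := by
    intro x hxK hxQ
    apply eq_one_of_odd_of_pow K hodd hxK (r := 2)
    have := pow_four_of_mem_qSet (F := F) (show x ∈ qSet i j from hxQ)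
    exact this
  have hnorm : ∀ q ∈ qSub (F := F) i j, ∀ k ∈ K, q * k * q⁻¹ ∈ K :=
    fun q hq k hk => (Subgroup.mem_normalizer_iff.mp (hQK hq) k).mp hk
  have hfix : ∀ k ∈ K, z * k = k * z → k = 1 := by
    intro k hk hkz
    have hkC : k ∈ Subgroup.centralizer ({z} : Set Gm) := by
      rw [Subgroup.mem_centralizer_iff]
      intro x hx
      rw [Set.mem_singleton_iff] at hx
      rw [hx]; exact hkz
    have hkcent : k ∈ Subgroup.centralizer ((qSub (F := F) i j : Subgroup Gm) : Set Gm) := by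
      rw [Subgroup.mem_centralizer_iff]
      intro q hq
      have h1 : k * q * k⁻¹ * q⁻¹ ∈ qSub (F := F) i j :=
        mul_mem (conj_mem_qSub hij hkC hq) (inv_mem hq)
      have h2 : k * q * k⁻¹ * q⁻¹ ∈ K := by
        have := hnorm q hq k⁻¹ (K.inv_mem hk)
        have e : k * q * k⁻¹ * q⁻¹ = k * (q * k⁻¹ * q⁻¹) := by group
        rw [e]; exact K.mul_mem hk this
      have h3 := hKQ _ h2 h1
      have e : k * q = (k * q * k⁻¹ * q⁻¹) * (q * k) := by group
      rw [e, h3, one_mul]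
    rcases centralizer_cases hF hij hkcent with h | h
    · exact h
    · exfalso
      have hzK : z ∈ K := by rw [hz, ← h]; exact hk
      have : z = 1 := eq_one_of_odd_of_pow K hodd hzK (r := 1) (by rw [pow_one, pow_two]; exact hzz)
      exact tv_ne_one hij this
  have hzK : ∀ k ∈ K, z * k * z⁻¹ ∈ K := hnorm z hzQ
  have hinv := inverts_of_fpf z hzz K hzK hfix
  by_contra hne
  rw [Subgroup.eq_bot_iff_forall] at hne
  push Not at hne
  obtain ⟨k, hk, hk1⟩ := hne
  have hP : ∀ q ∈ qSub (F := F) i j, q * k * q⁻¹ = k ∨ q * k * q⁻¹ = k⁻¹ := by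
    intro q hq
    have hh := hnorm q hq k hk
    have hh1 : q * k * q⁻¹ ≠ 1 := by
      intro h
      exact hk1 (conj_eq_one_iff.mp h)
    rcases two_elements hF hij K hodd hinv hk hh hk1 hh1 with h | h
    · right; exact eq_inv_of_mul_eq_one_right h
    · left; exact h.symm
  have hq1 : tv (F := F) i b (Ne.symm hbi) ∈ qSub (F := F) i j :=
    tv_mem_qSub_row hij b (Ne.symm hbi)
  have hq2 : tv (F := F) b j hbj ∈ qSub (F := F) i j := tv_mem_qSub_col hij b hbj
  have hx : (tv (F := F) i b (Ne.symm hbi) * tv b j hbj)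
      * (tv (F := F) i b (Ne.symm hbi) * tv b j hbj) = z := by
    rcases comm_cases hF hij hq1 hq2 with h | h
    · exact absurd h (tv_comm_ne hij hbi hbj)
    · have e : (tv (F := F) i b (Ne.symm hbi) * tv b j hbj)
          * (tv (F := F) i b (Ne.symm hbi) * tv b j hbj)
          = (tv i j hij * (tv b j hbj * tv (F := F) i b (Ne.symm hbi)))
            * (tv (F := F) i b (Ne.symm hbi) * tv b j hbj) := by rw [← h]
      rw [e]
      have e2 : (tv i j hij * (tv b j hbj * tv (F := F) i b (Ne.symm hbi)))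
            * (tv (F := F) i b (Ne.symm hbi) * tv b j hbj)
          = tv i j hij * (tv b j hbj * (tv (F := F) i b (Ne.symm hbi)
            * tv (F := F) i b (Ne.symm hbi)) * tv b j hbj) := by group
      rw [e2, tv_mul_self, mul_one, tv_mul_self, mul_one]
  have hc := sq_centralizes (hP _ (mul_mem hq1 hq2))
  rw [hx, hinv k hk] at hc
  apply hk1
  apply eq_one_of_odd_of_pow K hodd hk (r := 1)
  rw [pow_one, pow_two]
  have : k⁻¹ * k = 1 := inv_mul_cancel k
  rw [hc] at this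
  exact this

end grp

end Cfsg.Agent.helper25.TransvF
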