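import Cfsg.Prelude.Def_Classical
import Cfsg.Agent.Lib_helper25_L3

set_option autoImplicit false
set_option linter.style.haveILetI false
set_option linter.unusedSectionVars false
set_option linter.unnecessarySeqFocus false
set_option linter.unusedSimpArgs false

open Polynomial

namespace Cfsg.Agent.helper25.U3

section
variable {F : Type*} [Field F] [Fintype F]

theorem slToMat_apply (g : Matrix.SpecialLinearGroup (Fin 3) F) :
    Cfsg.slToMat 3 F g = (g : Matrix (Fin 3) (Fin 3) F) := rfl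

theorem mem_SU_iff (q : ℕ) (g : Matrix.SpecialLinearGroup (Fin 3) F) :
    g ∈ Cfsg.SU 3 F q ↔ ∀ u v : Fin 3 → F,
      Cfsg.hermForm 3 F q ((g : Matrix (Fin 3) (Fin 3) F).mulVec u)
        ((g : Matrix (Fin 3) (Fin 3) F).mulVec v) = Cfsg.hermForm 3 F q u v := Iff.rfl

/-- the unitary relation `gᵀ * g^(q) = 1` -/
theorem unitary_rel (q : ℕ) (hq : 0 < q) (g : Matrix.SpecialLinearGroup (Fin 3) F)
    (hg : g ∈ Cfsg.SU 3 F q) :
    (g : Matrix (Fin 3) (Fin 3) F).transpose * (g : Matrix (Fin 3) (Fin 3) F).map (fun x => x ^ q) = 1 := by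
  ext i j
  have h := (mem_SU_iff q g).1 hg (Pi.single i 1) (Pi.single j 1)
  simp only [Cfsg.hermForm, Matrix.mulVec_single_one] at h
  rw [Matrix.mul_apply]
  simp only [Matrix.transpose_apply, Matrix.map_apply]
  have h2 : (∑ x : Fin 3, (g : Matrix (Fin 3) (Fin 3) F).col i x * (g : Matrix (Fin 3) (Fin 3) F).col j x ^ q) =
      ∑ x : Fin 3, (g : Matrix (Fin 3) (Fin 3) F) x i * (g : Matrix (Fin 3) (Fin 3) F) x j ^ q := rfl
  rw [← h2, h, Matrix.one_apply]
  by_cases hij : i = j
  · subst hij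
    simp [Pi.single_apply, Finset.sum_ite_eq', hq.ne']
  · simp only [hij, if_false]
    apply Finset.sum_eq_zero
    intro k _
    by_cases hk : k = i
    · subst hk
      have : (Pi.single j (1 : F) : Fin 3 → F) k = 0 := by simp [Pi.single_apply, hij]
      rw [this, zero_pow hq.ne', mul_zero]
    · have : (Pi.single i (1 : F) : Fin 3 → F) k = 0 := by simp [Pi.single_apply, hk]
      rw [this, zero_mul]

/-- conversely, the matrix relation gives membership, when `x ↦ x ^ q` is additive -/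
theorem mem_SU_of_rel (q : ℕ) (hadd : ∀ x y : F, (x + y) ^ q = x ^ q + y ^ q)
    (g : Matrix.SpecialLinearGroup (Fin 3) F)
    (h : (g : Matrix (Fin 3) (Fin 3) F).transpose * (g : Matrix (Fin 3) (Fin 3) F).map (fun x => x ^ q) = 1) :
    g ∈ Cfsg.SU 3 F q := by
  rw [mem_SU_iff]
  intro u v
  have hsum : ∀ (s : Finset (Fin 3)) (f : Fin 3 → F), (∑ i ∈ s, f i) ^ q = ∑ i ∈ s, f i ^ q := by
    intro s f
    by_cases hq : q = 0
    · subst hq
      have := hadd 0 0
      simp at this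
    induction s using Finset.induction_on with
    | empty => simp [zero_pow hq]
    | insert a s ha ih => rw [Finset.sum_insert ha, Finset.sum_insert ha, hadd, ih]
  simp only [Cfsg.hermForm, Matrix.mulVec, dotProduct]
  have hent : ∀ i j : Fin 3, ∑ k : Fin 3, (g : Matrix (Fin 3) (Fin 3) F) k i *
      (g : Matrix (Fin 3) (Fin 3) F) k j ^ q = if i = j then 1 else 0 := by
    intro i j
    have := congrFun (congrFun h i) j
    rw [Matrix.mul_apply, Matrix.one_apply] at this
    simpa [Matrix.transpose_apply, Matrix.map_apply] using this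
  calc ∑ k : Fin 3, (∑ i : Fin 3, (g : Matrix (Fin 3) (Fin 3) F) k i * u i) *
        (∑ j : Fin 3, (g : Matrix (Fin 3) (Fin 3) F) k j * v j) ^ q
      = ∑ k : Fin 3, ∑ i : Fin 3, ∑ j : Fin 3, ((g : Matrix (Fin 3) (Fin 3) F) k i *
          (g : Matrix (Fin 3) (Fin 3) F) k j ^ q) * (u i * v j ^ q) := by
        apply Finset.sum_congr rfl
        intro k _
        rw [hsum, Finset.sum_mul]
        apply Finset.sum_congr rfl
        intro i _
        rw [Finset.mul_sum]
        apply Finset.sum_congr rfl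
        intro j _
        rw [mul_pow]; ring
    _ = ∑ i : Fin 3, ∑ j : Fin 3, (∑ k : Fin 3, (g : Matrix (Fin 3) (Fin 3) F) k i *
          (g : Matrix (Fin 3) (Fin 3) F) k j ^ q) * (u i * v j ^ q) := by
        rw [Finset.sum_comm]
        apply Finset.sum_congr rfl
        intro i _
        rw [Finset.sum_comm]
        apply Finset.sum_congr rfl
        intro j _
        rw [Finset.sum_mul]
    _ = ∑ i : Fin 3, u i * v i ^ q := by
        apply Finset.sum_congr rfl
        intro i _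
        simp only [hent]
        simp [Finset.sum_ite_eq]

end

end Cfsg.Agent.helper25.U3

namespace Cfsg.Agent.helper25.U3

section
variable {F : Type*} [Field F] [Fintype F]

open Matrix

theorem q_eq_pow (p : ℕ) [Fact p.Prime] [CharP F p] (q : ℕ) (hF : Fintype.card F = q ^ 2) :
    ∃ n, q = p ^ n := by
  obtain ⟨k, hp, hk⟩ := FiniteField.card F p
  have hdvd : q ∣ p ^ (k : ℕ) := by
    rw [← hk, hF]; exact dvd_pow_self q (by norm_num)
  obtain ⟨m, _, hm⟩ := (Nat.dvd_prime_pow hp).1 hdvd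
  exact ⟨m, hm⟩

theorem charpoly_map_frob (p : ℕ) [Fact p.Prime] [CharP F p] (n : ℕ)
    (g : Matrix (Fin 3) (Fin 3) F) (hdet : g.det = 1)
    (hrel : g.transpose * g.map (fun x => x ^ (p ^ n)) = 1) :
    g.charpoly.map (iterateFrobenius F p n) = - g.charpoly.reverse := by
  have hmap : g.map (fun x => x ^ (p ^ n)) = g.map (iterateFrobenius F p n) := by
    ext i j; simp [iterateFrobenius_def]
  rw [hmap] at hrel
  rw [← Matrix.charpoly_map, Matrix.reverse_charpoly]
  set gs := g.map (iterateFrobenius F p n) with hgs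
  set A : Matrix (Fin 3) (Fin 3) F[X] := g.map C with hA
  set B : Matrix (Fin 3) (Fin 3) F[X] := gs.map C with hB
  have hAB : A.transpose * B = 1 := by
    have := congrArg (fun M : Matrix (Fin 3) (Fin 3) F => M.map (C : F →+* F[X])) hrel
    simp only [Matrix.map_mul, Matrix.map_one, map_zero, map_one] at this
    rw [← this, hA, hB, Matrix.transpose_map]
  have hdetA : A.det = 1 := by
    have := RingHom.map_det (C : F →+* F[X]) g
    rw [RingHom.mapMatrix_apply, hdet, map_one] at this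
    exact this.symm
  have hc : charmatrix gs = (X : F[X]) • (1 : Matrix (Fin 3) (Fin 3) F[X]) - B := by
    unfold charmatrix
    rw [RingHom.mapMatrix_apply]
    congr 1
    ext i j
    simp [Matrix.scalar_apply, Matrix.diagonal_apply, Matrix.one_apply]
  have h1 : A.transpose * ((X : F[X]) • (1 : Matrix (Fin 3) (Fin 3) F[X]) - B) =
      ((X : F[X]) • A - 1).transpose := by
    rw [Matrix.mul_sub, hAB, Matrix.mul_smul, Matrix.mul_one, Matrix.transpose_sub,
      Matrix.transpose_smul, Matrix.transpose_one]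
  have h2 : (A.transpose * ((X : F[X]) • (1 : Matrix (Fin 3) (Fin 3) F[X]) - B)).det =
      ((X : F[X]) • (1 : Matrix (Fin 3) (Fin 3) F[X]) - B).det := by
    rw [Matrix.det_mul, Matrix.det_transpose, hdetA, one_mul]
  show (charmatrix gs).det = -(1 - (X : F[X]) • A).det
  rw [hc, ← h2, h1, Matrix.det_transpose]
  have : (X : F[X]) • A - 1 = -(1 - (X : F[X]) • A) := by abel
  rw [this, Matrix.det_neg, Fintype.card_fin]
  ring

theorem root_conj (p : ℕ) [Fact p.Prime] [CharP F p] (n : ℕ)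
    (g : Matrix (Fin 3) (Fin 3) F) (hdet : g.det = 1)
    (hrel : g.transpose * g.map (fun x => x ^ (p ^ n)) = 1)
    {L : Type*} [Field L] [Algebra F L] (β : L) (hβ0 : β ≠ 0)
    (hβ : aeval β g.charpoly = 0) (e : ℕ) (hfix : β ^ ((p ^ n) ^ (e + 1)) = β) :
    aeval ((β⁻¹) ^ ((p ^ n) ^ e)) g.charpoly = 0 := by
  haveI : CharP L p := charP_of_injective_algebraMap (algebraMap F L).injective p
  have ha : eval₂ (algebraMap F L) β⁻¹ (g.charpoly.map (iterateFrobenius F p n)) = 0 := by
    rw [charpoly_map_frob p n g hdet hrel, eval₂_neg, neg_eq_zero]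
    letI : Invertible β := invertibleOfNonzero hβ0
    have := (eval₂_reverse_eq_zero_iff (algebraMap F L) β g.charpoly).2 hβ
    rwa [invOf_eq_inv] at this
  set z : L := (β⁻¹) ^ ((p ^ n) ^ e) with hz
  have hzq : z ^ (p ^ n) = β⁻¹ := by
    rw [hz, ← pow_mul, ← pow_succ, inv_pow, hfix]
  have hcomp : (iterateFrobenius L p n).comp (algebraMap F L) =
      (algebraMap F L).comp (iterateFrobenius F p n) := by
    ext x
    simp [iterateFrobenius_def]
  have hb : iterateFrobenius L p n (eval₂ (algebraMap F L) z g.charpoly) =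
      eval₂ (algebraMap F L) (z ^ (p ^ n)) (g.charpoly.map (iterateFrobenius F p n)) := by
    rw [hom_eval₂, hcomp, eval₂_map, iterateFrobenius_def]
  rw [hzq, ha, iterateFrobenius_def] at hb
  exact pow_eq_zero_iff (pow_ne_zero _ (Fact.out : p.Prime).ne_zero) |>.1 hb

end

end Cfsg.Agent.helper25.U3

namespace Cfsg.Agent.helper25.U3

section
variable {F : Type*} [Field F] [Fintype F]

open Matrix Cfsg.Agent.helper25.L3

/-- the target set -/
def TargetU (p q m : ℕ) : Prop :=
  m ∣ q + 1 ∨ m ∣ p * (q + 1) / Nat.gcd 3 (q + 1) ∨ m ∣ (q ^ 2 - 1) / Nat.gcd 3 (q + 1) ∨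
    m ∣ (q ^ 2 - q + 1) / Nat.gcd 3 (q + 1)

theorem TargetU.mono {p q m m' : ℕ} (h : m' ∣ m) (ht : TargetU p q m) : TargetU p q m' := by
  rcases ht with h1 | h1 | h1 | h1
  · exact Or.inl (h.trans h1)
  · exact Or.inr (Or.inl (h.trans h1))
  · exact Or.inr (Or.inr (Or.inl (h.trans h1)))
  · exact Or.inr (Or.inr (Or.inr (h.trans h1)))

theorem du_dvd_three (q : ℕ) : Nat.gcd 3 (q + 1) ∣ 3 := Nat.gcd_dvd_left _ _
theorem du_dvd_q1 (q : ℕ) : Nat.gcd 3 (q + 1) ∣ q + 1 := Nat.gcd_dvd_right _ _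
theorem du_pos (q : ℕ) : 0 < Nat.gcd 3 (q + 1) := Nat.gcd_pos_of_pos_left _ (by norm_num)

theorem q2m1_fac (q : ℕ) (hq : 1 ≤ q) : q ^ 2 - 1 = (q + 1) * (q - 1) := by
  obtain ⟨j, rfl⟩ : ∃ j, q = j + 1 := ⟨q - 1, by omega⟩
  simp only [Nat.add_sub_cancel]
  have : (j + 1) ^ 2 = (j + 1 + 1) * j + 1 := by ring
  rw [this, Nat.add_sub_cancel]

theorem du_dvd_q2m1 (q : ℕ) (hq : 1 ≤ q) : Nat.gcd 3 (q + 1) ∣ q ^ 2 - 1 := by
  rw [q2m1_fac q hq]; exact Dvd.dvd.mul_right (du_dvd_q1 q) _

theorem du_dvd_M (q : ℕ) : Nat.gcd 3 (q + 1) ∣ q ^ 2 - q + 1 := by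
  rcases (Nat.dvd_prime Nat.prime_three).1 (du_dvd_three q) with h | h
  · rw [h]; exact one_dvd _
  · rw [h]
    have h3 : 3 ∣ q + 1 := h ▸ du_dvd_q1 q
    obtain ⟨j, hj⟩ := h3
    have hq : q = 3 * j - 1 := by omega
    have hj1 : 1 ≤ j := by omega
    obtain ⟨i, rfl⟩ : ∃ i, j = i + 1 := ⟨j - 1, by omega⟩
    have hq' : q = 3 * i + 2 := by omega
    rw [hq']
    have : (3 * i + 2) ^ 2 - (3 * i + 2) + 1 = 3 * (3 * i * i + 3 * i + 1) := by
      have : (3 * i + 2) ^ 2 = (9 * i * i + 9 * i + 2) + (3 * i + 2) := by ring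
      rw [this, Nat.add_sub_cancel]; ring
    rw [this]; exact dvd_mul_right _ _

/-- `d = gcd(3, q+1)` divides `gcd(3, q² - 1)` -/
theorem du_dvd_dl (q : ℕ) (hq : 1 ≤ q) : Nat.gcd 3 (q + 1) ∣ Nat.gcd 3 (q ^ 2 - 1) :=
  Nat.dvd_gcd (du_dvd_three q) (du_dvd_q2m1 q hq)

theorem psu_pow_eq_one (q : ℕ) (g : Cfsg.SU 3 F q) (k : ℕ) (l : F)
    (h : ((g : Matrix.SpecialLinearGroup (Fin 3) F) : Matrix (Fin 3) (Fin 3) F) ^ k =
      Matrix.scalar (Fin 3) l) :
    (QuotientGroup.mk g : Cfsg.PSU 3 F q) ^ k = 1 := by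
  rw [← QuotientGroup.mk_pow, QuotientGroup.eq_one_iff, Subgroup.mem_center_iff]
  intro h'
  apply Subtype.ext
  apply Subtype.ext
  simp only [Subgroup.coe_mul, SubgroupClass.coe_pow, Matrix.SpecialLinearGroup.coe_mul,
    Matrix.SpecialLinearGroup.coe_pow]
  rw [h]
  exact ((Matrix.scalar_commute l (fun _ => Commute.all _ _) _).eq).symm

theorem pow_card_pow_mod {M : Type*} [Monoid M] (x : M) (Q m : ℕ) (hx : x ^ (Q ^ m) = x) (i : ℕ) :
    x ^ (Q ^ i) = x ^ (Q ^ (i % m)) := by
  have key : ∀ t j : ℕ, x ^ (Q ^ (j + m * t)) = x ^ (Q ^ j) := by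
    intro t
    induction t with
    | zero => intro j; simp
    | succ t ih =>
      intro j
      have : j + m * (t + 1) = (j + m * t) + m := by ring
      rw [this, pow_add, mul_comm, pow_mul, hx, ih]
  have := key (i / m) (i % m)
  rwa [Nat.mod_add_div] at this

theorem conj_root (p : ℕ) [Fact p.Prime] [CharP F p] (f : F[X]) (hirr : Irreducible f)
    (y : AdjoinRoot f) (hy : aeval y f = 0) :
    ∃ i, y = (AdjoinRoot.root f) ^ (Fintype.card F ^ i) := by
  haveI := Fact.mk hirr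
  haveI := finite_adjoinRoot f hirr.ne_zero
  let ψ : AdjoinRoot f →ₐ[F] AdjoinRoot f :=
    AdjoinRoot.liftAlgHom f (Algebra.ofId F (AdjoinRoot f)) y (by simpa [aeval_def] using hy)
  have hinj : Function.Injective ψ := ψ.toRingHom.injective
  have hbij : Function.Bijective ψ := ⟨hinj, Finite.injective_iff_surjective.1 hinj⟩
  obtain ⟨i, hi⟩ := FiniteField.exists_forall_apply_eq_pow F p (AdjoinRoot f)
    (AlgEquiv.ofBijective ψ hbij)
  refine ⟨i, ?_⟩
  have := hi (AdjoinRoot.root f)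
  rw [Nat.card_eq_fintype_card] at this
  rw [← this]
  simp [ψ]

theorem pow_card_adjoinRoot (f : F[X]) (hirr : Irreducible f) (x : AdjoinRoot f) :
    x ^ (Fintype.card F ^ f.natDegree) = x := by
  haveI := Fact.mk hirr
  haveI := finite_adjoinRoot f hirr.ne_zero
  haveI : Fintype (AdjoinRoot f) := Fintype.ofFinite _
  have := FiniteField.pow_card x
  rwa [Fintype.card_eq_nat_card, natCard_adjoinRoot f hirr.ne_zero] at this

/-- an irreducible polynomial whose root is fixed by the `Q`-Frobenius has degree one -/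
theorem natDegree_eq_one_of_fixed (f : F[X]) (hirr : Irreducible f)
    (h : (AdjoinRoot.root f) ^ Fintype.card F = AdjoinRoot.root f) : f.natDegree ∣ 1 := by
  apply hirr.natDegree_dvd_of_dvd_X_pow_card_pow_sub_X
  rw [← AdjoinRoot.mk_eq_zero, map_sub, map_pow, AdjoinRoot.mk_X, Nat.card_eq_fintype_card, pow_one,
    h, sub_self]

end

end Cfsg.Agent.helper25.U3
namespace Cfsg.Agent.helper25.U3

section GS
variable {F : Type*} [Field F] [Fintype F] {V : Type*} [AddCommGroup V] [Module F V]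

open Cfsg.Agent.helper25.L3

/-- data of a nondegenerate hermitian form -/
structure HermData (q : ℕ) (h : V → V → F) : Prop where
  add : ∀ x x' y, h (x + x') y = h x y + h x' y
  smul : ∀ (c : F) x y, h (c • x) y = c * h x y
  symm : ∀ x y, h y x = (h x y) ^ q
  nd : ∀ x, (∀ y, h x y = 0) → x = 0

/-- the linear functional `x ↦ h x z` -/
def HermData.lin {q : ℕ} {h : V → V → F} (H : HermData q h) (z : V) : V →ₗ[F] F where
  toFun x := h x z
  map_add' x x' := H.add x x' z
  map_smul' c x := by simp [H.smul]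

theorem HermData.lin_apply {q : ℕ} {h : V → V → F} (H : HermData q h) (z x : V) :
    H.lin z x = h x z := rfl

theorem q_pos_of_card (q : ℕ) (hF : Fintype.card F = q ^ 2) : 2 ≤ q := by
  have := two_le_card (F := F)
  rw [hF] at this
  by_contra hlt
  have : q ≤ 1 := by omega
  have : q ^ 2 ≤ 1 := by nlinarith
  omega

/-- the norm `c ↦ c^(q+1)` is onto the fixed field of `x ↦ x^q` -/
theorem exists_norm_inv (q : ℕ) (hF : Fintype.card F = q ^ 2) (a : F) (ha0 : a ≠ 0)
    (ha : a ^ q = a) : ∃ c : F, c ^ (q + 1) * a = 1 := by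
  classical
  have hq := q_pos_of_card (F := F) q hF
  obtain ⟨t, ht⟩ := IsCyclic.exists_generator (α := Fˣ)
  have hord : orderOf t = (q + 1) * (q - 1) := by
    rw [orderOf_eq_card_of_forall_mem_zpowers ht, Nat.card_eq_fintype_card, Fintype.card_units, hF]
    obtain ⟨j, rfl⟩ : ∃ j, q = j + 1 := ⟨q - 1, by omega⟩
    simp only [Nat.add_sub_cancel]
    have : (j + 1) ^ 2 = (j + 1 + 1) * j + 1 := by ring
    rw [this, Nat.add_sub_cancel]
  let u : Fˣ := (Units.mk0 a ha0)⁻¹
  have hu : u ∈ Submonoid.powers t := mem_powers_iff_mem_zpowers.2 (ht u)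
  obtain ⟨k, hk⟩ := (Submonoid.mem_powers_iff _ _).1 hu
  have ha1 : a ^ (q - 1) = 1 := by
    have h1 : a ^ (q - 1) * a = a := by rw [← pow_succ, Nat.sub_add_cancel (by omega), ha]
    have h2 : (a ^ (q - 1) - 1) * a = 0 := by rw [sub_mul, h1, one_mul, sub_self]
    rcases mul_eq_zero.1 h2 with h3 | h3
    · exact sub_eq_zero.1 h3
    · exact absurd h3 ha0
  have hu1 : u ^ (q - 1) = 1 := by
    apply Units.ext
    simp only [u, Units.val_pow_eq_pow_val, Units.val_inv_eq_inv_val, Units.val_mk0, inv_pow, ha1,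
      inv_one, Units.val_one]
  have hdvd : (q + 1) * (q - 1) ∣ k * (q - 1) := by
    rw [← hord]
    apply orderOf_dvd_of_pow_eq_one
    rw [pow_mul, hk, hu1]
  have hk' : q + 1 ∣ k := Nat.dvd_of_mul_dvd_mul_right (by omega) hdvd
  obtain ⟨e, he⟩ := hk'
  refine ⟨((t ^ e : Fˣ) : F), ?_⟩
  have h1 : (t ^ e) ^ (q + 1) = u := by rw [← pow_mul, mul_comm, ← he, hk]
  have h2 : (((t ^ e : Fˣ) : F)) ^ (q + 1) = a⁻¹ := by
    have := congrArg (fun w : Fˣ => (w : F)) h1
    simpa [u] using this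
  rw [h2, inv_mul_cancel₀ ha0]

theorem gs_step (q : ℕ) (hF : Fintype.card F = q ^ 2) (h2 : (2 : F) ≠ 0) {h : V → V → F}
    (H : HermData q h) (hV : Module.finrank F V = 3) (k : ℕ) (hk : k < 3) (v : Fin k → V)
    (hv : ∀ i j, h (v i) (v j) = if i = j then 1 else 0) :
    ∃ w, h w w = 1 ∧ ∀ i, h w (v i) = 0 := by
  classical
  have hq := q_pos_of_card (F := F) q hF
  haveI : FiniteDimensional F V := Module.finite_of_finrank_pos (by rw [hV]; norm_num)
  let φ : V →ₗ[F] (Fin k → F) := LinearMap.pi (fun i => H.lin (v i))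
  have hker : LinearMap.ker φ ≠ ⊥ :=
    LinearMap.ker_ne_bot_of_finrank_lt (by rw [Module.finrank_fin_fun, hV]; exact hk)
  obtain ⟨x, hxW, hx0⟩ := Submodule.exists_mem_ne_zero_of_ne_bot hker
  have hxW' : ∀ i, h x (v i) = 0 := fun i => congrFun (LinearMap.mem_ker.1 hxW) i
  by_contra hcon0
  have hcon : ∀ w, h w w = 1 → ∃ i, h w (v i) ≠ 0 := by
    intro w hw
    by_contra hne
    exact hcon0 ⟨w, hw, fun i => by_contra (fun hi => hne ⟨i, hi⟩)⟩
  have hiso : ∀ w, (∀ i, h w (v i) = 0) → h w w = 0 := by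
    intro w hw
    by_contra ha0
    have ha : (h w w) ^ q = h w w := (H.symm w w).symm
    obtain ⟨c, hc⟩ := exists_norm_inv q hF _ ha0 ha
    obtain ⟨i, hi⟩ := hcon (c • w) (by
      rw [H.smul, H.symm (c • w) w, H.smul, mul_pow, ha, ← hc]
      ring)
    apply hi
    rw [H.smul, hw i, mul_zero]
  have hpol : ∀ w w', (∀ i, h w (v i) = 0) → (∀ i, h w' (v i) = 0) → h w w' = 0 := by
    intro w w' hw hw'
    by_contra ht
    have hw1 : ∀ i, h ((h w w')⁻¹ • w) (v i) = 0 := fun i => by rw [H.smul, hw i, mul_zero]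
    have h11 : h ((h w w')⁻¹ • w) w' = 1 := by rw [H.smul]; exact inv_mul_cancel₀ ht
    set w1 := (h w w')⁻¹ • w with hw1def
    have hsum : ∀ i, h (w1 + w') (v i) = 0 := fun i => by rw [H.add, hw1 i, hw' i, add_zero]
    have e0 := hiso _ hsum
    have e1 := hiso _ hw1
    have e2 := hiso _ hw'
    have a1 : h w1 (w1 + w') = 1 := by
      rw [H.symm (w1 + w') w1, H.add, e1, zero_add, ← H.symm w' w1, h11]
    have a2 : h w' (w1 + w') = 1 := by
      rw [H.symm (w1 + w') w', H.add, e2, add_zero, h11, one_pow]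
    rw [H.add, a1, a2, one_add_one_eq_two] at e0
    exact h2 e0
  apply hx0
  apply H.nd
  intro y
  set y' := y - ∑ i, h y (v i) • v i with hy'def
  have hy' : ∀ j, h y' (v j) = 0 := by
    intro j
    rw [← H.lin_apply, hy'def, map_sub, map_sum]
    simp only [H.lin_apply, H.smul, hv]
    simp [Finset.sum_ite_eq']
  have hyx : h y x = 0 := by
    have hy : y = y' + ∑ i, h y (v i) • v i := by rw [hy'def]; abel
    have h1 : H.lin x y = H.lin x (y' + ∑ i, h y (v i) • v i) := congrArg _ hy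
    rw [map_add, map_sum] at h1
    simp only [H.lin_apply, H.smul] at h1
    rw [h1, hpol y' x hy' hxW', zero_add]
    apply Finset.sum_eq_zero
    intro i _
    rw [H.symm x (v i), hxW' i, zero_pow (by omega), mul_zero]
  rw [H.symm y x, hyx, zero_pow (by omega)]

theorem exists_orthonormal (q : ℕ) (hF : Fintype.card F = q ^ 2) (h2 : (2 : F) ≠ 0)
    {h : V → V → F} (H : HermData q h) (hV : Module.finrank F V = 3) :
    ∃ v : Fin 3 → V, ∀ i j, h (v i) (v j) = if i = j then 1 else 0 := by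
  have hq := q_pos_of_card (F := F) q hF
  obtain ⟨v0, h00, -⟩ := gs_step q hF h2 H hV 0 (by norm_num) Fin.elim0 (fun i => i.elim0)
  obtain ⟨v1, h11, h10⟩ := gs_step q hF h2 H hV 1 (by norm_num) ![v0] (by
    intro i j
    fin_cases i; fin_cases j
    simpa using h00)
  have h10' : h v1 v0 = 0 := by simpa using h10 0
  have h01 : h v0 v1 = 0 := by rw [H.symm v1 v0, h10', zero_pow (by omega)]
  obtain ⟨v2, h22, h2x⟩ := gs_step q hF h2 H hV 2 (by norm_num) ![v0, v1] (by
    intro i j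
    fin_cases i <;> fin_cases j <;> simp [h00, h11, h10', h01])
  have h20 : h v2 v0 = 0 := by simpa using h2x 0
  have h21 : h v2 v1 = 0 := by simpa using h2x 1
  have h02 : h v0 v2 = 0 := by rw [H.symm v2 v0, h20, zero_pow (by omega)]
  have h12 : h v1 v2 = 0 := by rw [H.symm v2 v1, h21, zero_pow (by omega)]
  refine ⟨![v0, v1, v2], ?_⟩
  intro i j
  fin_cases i <;> fin_cases j <;> simp [h00, h11, h22, h10', h01, h20, h21, h02, h12]

end GS

end Cfsg.Agent.helper25.U3
namespace Cfsg.Agent.helper25.U3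

section Transfer
variable {F : Type*} [Field F] [Fintype F] {V : Type*} [AddCommGroup V] [Module F V]

open Cfsg.Agent.helper25.L3

theorem transfer (q : ℕ) (hF : Fintype.card F = q ^ 2) (h2 : (2 : F) ≠ 0) {h : V → V → F}
    (H : HermData q h) (hV : Module.finrank F V = 3)
    (hfrob : ∀ a b : F, (a + b) ^ q = a ^ q + b ^ q)
    (φ : V →ₗ[F] V) (hφ : ∀ x y, h (φ x) (φ y) = h x y) (hdet : LinearMap.det φ = 1) :
    ∃ g : Cfsg.SU 3 F q, ∀ k : ℕ, g ^ k = 1 → φ ^ k = 1 := by
  classical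
  have hq := q_pos_of_card (F := F) q hF
  obtain ⟨v, hv⟩ := exists_orthonormal q hF h2 H hV
  have hli : LinearIndependent F v := by
    rw [Fintype.linearIndependent_iff]
    intro c hc j
    have := congrArg (H.lin (v j)) hc
    rw [map_sum, map_zero] at this
    simp only [H.lin_apply, H.smul, hv] at this
    simpa [Finset.sum_ite_eq'] using this
  let b : Module.Basis (Fin 3) F V := basisOfLinearIndependentOfCardEqFinrank hli (by simp [hV])
  have hb : ∀ i, b i = v i := fun i => by simp [b]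
  have hrepr : ∀ x i, b.repr x i = h x (v i) := by
    intro x i
    have hx : x = ∑ k, b.repr x k • v k := by
      conv_lhs => rw [← b.sum_repr x]
      simp only [hb]
    have := congrArg (H.lin (v i)) hx
    rw [map_sum] at this
    simp only [H.lin_apply, H.smul, hv] at this
    rw [this]; simp [Finset.sum_ite_eq']
  have hpars : ∀ x y, h x y = ∑ k, h x (v k) * (h y (v k)) ^ q := by
    intro x y
    have hx : x = ∑ k, h x (v k) • v k := by
      conv_lhs => rw [← b.sum_repr x]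
      simp only [hb, hrepr]
    have := congrArg (H.lin y) hx
    rw [map_sum] at this
    simp only [H.lin_apply, H.smul] at this
    rw [this]
    apply Finset.sum_congr rfl
    intro k _
    rw [H.symm y (v k)]
  let G : Matrix (Fin 3) (Fin 3) F := LinearMap.toMatrix b b φ
  have hG : ∀ i j, G i j = h (φ (v j)) (v i) := by
    intro i j
    show LinearMap.toMatrix b b φ i j = _
    rw [LinearMap.toMatrix_apply, hrepr, hb]
  have hdetG : G.det = 1 := by rw [LinearMap.det_toMatrix, hdet]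
  let g0 : Matrix.SpecialLinearGroup (Fin 3) F := ⟨G, hdetG⟩
  have hmem : g0 ∈ Cfsg.SU 3 F q := by
    apply mem_SU_of_rel q hfrob
    ext i j
    rw [Matrix.mul_apply]
    simp only [Matrix.transpose_apply, Matrix.map_apply]
    show ∑ k, G k i * G k j ^ q = _
    simp only [hG]
    rw [← hpars, hφ, hv, Matrix.one_apply]
  refine ⟨⟨g0, hmem⟩, ?_⟩
  intro k hk
  have h1 : G ^ k = 1 := by
    have := congrArg (fun z : Cfsg.SU 3 F q =>
      ((z : Matrix.SpecialLinearGroup (Fin 3) F) : Matrix (Fin 3) (Fin 3) F)) hk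
    simpa using this
  have h2 : LinearMap.toMatrixAlgEquiv b (φ ^ k) = LinearMap.toMatrixAlgEquiv b 1 := by
    rw [map_pow, map_one]; exact h1
  exact (LinearMap.toMatrixAlgEquiv b).injective h2

theorem two_ne_zero_of_char (p : ℕ) [Fact p.Prime] [CharP F p] (hp : p ≠ 2) : (2 : F) ≠ 0 := by
  intro h
  have h' : ((2 : ℕ) : F) = 0 := by exact_mod_cast h
  rw [CharP.cast_eq_zero_iff F p] at h'
  exact hp ((Nat.prime_dvd_prime_iff_eq Fact.out Nat.prime_two).1 h')

theorem frob_add (p : ℕ) [Fact p.Prime] [CharP F p] (q : ℕ) (hF : Fintype.card F = q ^ 2)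
    (a b : F) : (a + b) ^ q = a ^ q + b ^ q := by
  obtain ⟨n, hn⟩ := q_eq_pow (F := F) p q hF
  rw [hn]; exact add_pow_char_pow a b p n

/-- family (4): a Singer-type element of `SU₃` of order divisible by `q² - q + 1` -/
theorem exists_fam4U (p : ℕ) [Fact p.Prime] [CharP F p] (hp : p ≠ 2) (q : ℕ)
    (hF : Fintype.card F = q ^ 2) :
    ∃ g : Cfsg.SU 3 F q, q ^ 2 - q + 1 ∣ orderOf g := by
  classical
  haveI : NeZero 3 := ⟨by norm_num⟩
  obtain ⟨n, hn⟩ := q_eq_pow (F := F) p q hF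
  have hq := q_pos_of_card (F := F) q hF
  let L := FiniteField.Extension F p 3
  haveI : Fintype L := Fintype.ofFinite L
  have hcardL : Fintype.card L = q ^ 6 := by
    rw [Fintype.card_eq_nat_card, FiniteField.natCard_extension, Nat.card_eq_fintype_card, hF,
      ← pow_mul]
  haveI : CharP L p := charP_of_injective_algebraMap (algebraMap F L).injective p
  have hz6 : ∀ u : L, u ^ (q ^ 6) = u := fun u => by rw [← hcardL]; exact FiniteField.pow_card u
  have hfrobL : ∀ a b : L, (a + b) ^ q = a ^ q + b ^ q := by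
    intro a b; rw [hn]; exact add_pow_char_pow a b p n
  let h : L → L → F := fun x y => Algebra.trace F L (x * y ^ (q ^ 3))
  have hfin3 : Module.finrank F L = 3 := FiniteField.finrank_extension F p 3
  have htr : ∀ z : L, algebraMap F L (Algebra.trace F L z) = z + z ^ (q ^ 2) + z ^ (q ^ 4) := by
    intro z
    rw [FiniteField.algebraMap_trace_eq_sum_pow, hfin3, Nat.card_eq_fintype_card, hF]
    simp [Finset.sum_range_succ, ← pow_mul]
  have H : HermData q h :=
    { add := fun x x' y => by simp only [h, add_mul, map_add]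
      smul := fun c x y => by simp only [h, smul_mul_assoc, map_smul, smul_eq_mul]
      symm := fun x y => by
        apply (algebraMap F L).injective
        rw [map_pow, htr, htr, hfrobL, hfrobL]
        have hw : y * x ^ (q ^ 3) = (x * y ^ (q ^ 3)) ^ (q ^ 3) := by
          rw [mul_pow, ← pow_mul, show q ^ 3 * q ^ 3 = q ^ 6 by ring, hz6, mul_comm]
        rw [hw]
        set z := x * y ^ (q ^ 3) with hz
        have e1 : (z ^ (q ^ 3)) ^ (q ^ 2) = (z ^ (q ^ 4)) ^ q := by
          rw [← pow_mul, ← pow_mul, show q ^ 3 * q ^ 2 = q ^ 4 * q by ring]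
        have e2 : (z ^ (q ^ 3)) ^ (q ^ 4) = z ^ q := by
          rw [← pow_mul, show q ^ 3 * q ^ 4 = q ^ 6 * q by ring, pow_mul, hz6]
        have e3 : z ^ (q ^ 3) = (z ^ (q ^ 2)) ^ q := by
          rw [← pow_mul, show q ^ 2 * q = q ^ 3 by ring]
        rw [e1, e2]
        nth_rewrite 1 [e3]
        ring
      nd := fun x hx => by
        apply (traceForm_nondegenerate F L).1 x
        intro b
        have := hx (b ^ (q ^ 3))
        simp only [h] at this
        rw [← pow_mul, show q ^ 3 * q ^ 3 = q ^ 6 by ring, hz6] at this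
        rw [Algebra.traceForm_apply]
        exact this }
  -- the element
  obtain ⟨ζ, hζ⟩ := IsCyclic.exists_generator (α := Lˣ)
  have hordζ : orderOf (ζ : L) = q ^ 6 - 1 := by
    rw [orderOf_units, orderOf_eq_card_of_forall_mem_zpowers hζ, Nat.card_eq_fintype_card,
      Fintype.card_units, hcardL]
  have hfac : q ^ 6 - 1 = (q ^ 2 - q + 1) * ((q ^ 2 + q + 1) * (q ^ 2 - 1)) := by
    obtain ⟨j, rfl⟩ : ∃ j, q = j + 1 := ⟨q - 1, by omega⟩
    have e1 : (j + 1) ^ 2 - (j + 1) + 1 = j * j + j + 1 := by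
      have : (j + 1) ^ 2 = (j * j + j) + (j + 1) := by ring
      rw [this, Nat.add_sub_cancel]
    have e2 : (j + 1) ^ 2 - 1 = j * j + 2 * j := by
      have : (j + 1) ^ 2 = (j * j + 2 * j) + 1 := by ring
      rw [this, Nat.add_sub_cancel]
    have e3 : (j + 1) ^ 6 = (j * j + j + 1) * (((j + 1) ^ 2 + (j + 1) + 1) * (j * j + 2 * j)) + 1 := by
      ring
    rw [e1, e2, e3, Nat.add_sub_cancel]
  have hcF : Fintype.card F - 1 = q ^ 2 - 1 := by rw [hF]
  set β : L := ((ζ : L) ^ (q ^ 2 + q + 1)) ^ (q ^ 2 - 1) with hβ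
  have hβ' : β = (ζ : L) ^ ((q ^ 2 + q + 1) * (q ^ 2 - 1)) := by rw [hβ, ← pow_mul]
  have hordβ : orderOf β = q ^ 2 - q + 1 := by
    have hpos : 0 < (q ^ 2 + q + 1) * (q ^ 2 - 1) := by
      apply Nat.mul_pos (by positivity)
      have : 4 ≤ q ^ 2 := by nlinarith
      omega
    rw [hβ', orderOf_pow' _ hpos.ne', hordζ, Nat.gcd_eq_right ⟨_, hfac.trans (mul_comm _ _)⟩, hfac,
      Nat.mul_div_cancel _ hpos]
  have hnorm : Algebra.norm F β = 1 := by
    rw [hβ, map_pow, ← hcF]
    apply FiniteField.pow_card_sub_one_eq_one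
    exact ((ζ.isUnit.pow _).map (Algebra.norm F)).ne_zero
  have hβu : β ^ (q ^ 3 + 1) = 1 := by
    have e : q ^ 3 + 1 = (q ^ 2 - q + 1) * (q + 1) := by
      obtain ⟨j, rfl⟩ : ∃ j, q = j + 1 := ⟨q - 1, by omega⟩
      have e1 : (j + 1) ^ 2 - (j + 1) + 1 = j * j + j + 1 := by
        have : (j + 1) ^ 2 = (j * j + j) + (j + 1) := by ring
        rw [this, Nat.add_sub_cancel]
      rw [e1]; ring
    rw [e, pow_mul, ← hordβ, pow_orderOf_eq_one, one_pow]
  let φ : L →ₗ[F] L := Algebra.lmul F L β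
  have hφ : ∀ x y, h (φ x) (φ y) = h x y := by
    intro x y
    show Algebra.trace F L (β * x * (β * y) ^ (q ^ 3)) = Algebra.trace F L (x * y ^ (q ^ 3))
    congr 1
    rw [mul_pow]
    have : β * x * (β ^ (q ^ 3) * y ^ (q ^ 3)) = β ^ (q ^ 3 + 1) * (x * y ^ (q ^ 3)) := by
      rw [pow_succ]; ring
    rw [this, hβu, one_mul]
  have hdet : LinearMap.det φ = 1 := by
    rw [← hnorm, Algebra.norm_apply]
  obtain ⟨g, hg⟩ := transfer q hF (two_ne_zero_of_char p hp) H hfin3 (frob_add p q hF) φ hφ hdet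
  refine ⟨g, ?_⟩
  rw [← hordβ]
  apply orderOf_dvd_of_pow_eq_one
  have h1 := hg _ (pow_orderOf_eq_one g)
  have h2 : Algebra.lmul F L (β ^ orderOf g) = Algebra.lmul F L 1 := by
    rw [map_pow, map_one]; exact h1
  exact Algebra.lmul_injective h2

end Transfer

end Cfsg.Agent.helper25.U3
namespace Cfsg.Agent.helper25.U3

section Blk
variable {F : Type*} [Field F] [Fintype F]

open Matrix Cfsg.Agent.helper25.L3

/-- block matrices `2 + 1` -/
def blk (A B C D E : F) : Matrix (Fin 3) (Fin 3) F := !![A, B, 0; C, D, 0; 0, 0, E]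

theorem blk_mul (A B C D E A' B' C' D' E' : F) :
    blk A B C D E * blk A' B' C' D' E' =
      blk (A * A' + B * C') (A * B' + B * D') (C * A' + D * C') (C * B' + D * D') (E * E') := by
  ext i j
  fin_cases i <;> fin_cases j <;> simp [blk, Matrix.mul_apply, Fin.sum_univ_three]

theorem blk_one : blk (1 : F) 0 0 1 1 = 1 := by
  ext i j
  fin_cases i <;> fin_cases j <;> simp [blk]

theorem blk_congr {A B C D E A' B' C' D' E' : F} (hA : A = A') (hB : B = B') (hC : C = C')
    (hD : D = D') (hE : E = E') : blk A B C D E = blk A' B' C' D' E' := by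
  subst hA hB hC hD hE; rfl

theorem blk_det (A B C D E : F) : (blk A B C D E).det = (A * D - B * C) * E := by
  simp [blk, Matrix.det_fin_three]; ring

theorem blk_mem (q : ℕ) (σ : F →+* F) (hσ : ∀ x, σ x = x ^ q) (A B C D E : F)
    (hdet : (A * D - B * C) * E = 1) (h1 : A * σ A + C * σ C = 1) (h2 : A * σ B + C * σ D = 0)
    (h3 : B * σ A + D * σ C = 0) (h4 : B * σ B + D * σ D = 1) (h5 : E * σ E = 1) :
    ∃ g : Cfsg.SU 3 F q,
      ((g : Matrix.SpecialLinearGroup (Fin 3) F) : Matrix (Fin 3) (Fin 3) F) = blk A B C D E := by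
  have hfrob : ∀ a b : F, (a + b) ^ q = a ^ q + b ^ q := fun a b => by
    rw [← hσ, ← hσ, ← hσ, map_add]
  have hd : (blk A B C D E).det = 1 := by rw [blk_det, hdet]
  refine ⟨⟨⟨blk A B C D E, hd⟩, mem_SU_of_rel q hfrob _ ?_⟩, rfl⟩
  show (blk A B C D E).transpose * (blk A B C D E).map (fun x => x ^ q) = 1
  have h0 : (0 : F) ^ q = 0 := by rw [← hσ, map_zero]
  have hmap : (blk A B C D E).map (fun x => x ^ q) = blk (σ A) (σ B) (σ C) (σ D) (σ E) := by
    ext i j
    fin_cases i <;> fin_cases j <;> simp [blk, hσ, h0]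
  have htr : (blk A B C D E).transpose = blk A C B D E := by
    ext i j
    fin_cases i <;> fin_cases j <;> simp [blk]
  rw [hmap, htr, blk_mul, ← blk_one]
  exact blk_congr h1 h2 h3 h4 h5

/-- the Frobenius `x ↦ x^q` as a ring homomorphism -/
theorem exists_sigma (p : ℕ) [Fact p.Prime] [CharP F p] (q : ℕ) (hF : Fintype.card F = q ^ 2) :
    ∃ σ : F →+* F, (∀ x, σ x = x ^ q) ∧ ∀ x, σ (σ x) = x := by
  obtain ⟨n, hn⟩ := q_eq_pow (F := F) p q hF
  refine ⟨iterateFrobenius F p n, fun x => by rw [iterateFrobenius_def, hn], fun x => ?_⟩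
  rw [iterateFrobenius_def, iterateFrobenius_def, ← hn, ← pow_mul, ← pow_two, ← hF]
  exact FiniteField.pow_card x

theorem odd_q (p : ℕ) [Fact p.Prime] [CharP F p] (hp : p ≠ 2) (q : ℕ)
    (hF : Fintype.card F = q ^ 2) : Odd q := by
  obtain ⟨n, hn⟩ := q_eq_pow (F := F) p q hF
  rw [hn]
  exact ((Fact.out : p.Prime).odd_of_ne_two hp).pow

/-- the parameters: `a` of order `q+1`, `ε` with `ε^(q+1) = -1`, `c ≠ 0` with `c^q = -c`,
and a generator `t` -/
theorem exists_params (p : ℕ) [Fact p.Prime] [CharP F p] (hp : p ≠ 2) (q : ℕ)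
    (hF : Fintype.card F = q ^ 2) :
    ∃ t a ε c : F, t ≠ 0 ∧ orderOf t = q ^ 2 - 1 ∧ orderOf a = q + 1 ∧ a ≠ 0 ∧
      ε ^ (q + 1) = -1 ∧ c ≠ 0 ∧ c ^ q = -c := by
  classical
  have hq := q_pos_of_card (F := F) q hF
  obtain ⟨j, hj⟩ := odd_q (F := F) p hp q hF
  obtain ⟨t, ht⟩ := IsCyclic.exists_generator (α := Fˣ)
  have hord : orderOf (t : F) = q ^ 2 - 1 := by
    rw [orderOf_units, orderOf_eq_card_of_forall_mem_zpowers ht, Nat.card_eq_fintype_card,
      Fintype.card_units, hF]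
  have hfac : q ^ 2 - 1 = (q + 1) * (q - 1) := q2m1_fac q (by omega)
  have h2F := two_ne_zero_of_char (F := F) p hp
  have hj1 : 1 ≤ j := by omega
  have hm : q ^ 2 - 1 = 2 * (2 * j * (j + 1)) := by
    rw [hfac, hj]
    have : 2 * j + 1 - 1 = 2 * j := by omega
    rw [this]; ring
  have hhalf : (t : F) ^ (2 * j * (j + 1)) = -1 := by
    have hsq : ((t : F) ^ (2 * j * (j + 1))) ^ 2 = 1 := by
      rw [← pow_mul, mul_comm, ← hm, ← hord, pow_orderOf_eq_one]
    have hne : (t : F) ^ (2 * j * (j + 1)) ≠ 1 := by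
      intro h1
      have := orderOf_dvd_of_pow_eq_one h1
      rw [hord, hm] at this
      have hpos : 0 < 2 * j * (j + 1) := by positivity
      have := Nat.le_of_dvd hpos this
      omega
    have : ((t : F) ^ (2 * j * (j + 1)) - 1) * ((t : F) ^ (2 * j * (j + 1)) + 1) = 0 := by
      ring_nf; ring_nf at hsq; rw [hsq]; ring
    rcases mul_eq_zero.1 this with h | h
    · exact absurd (sub_eq_zero.1 h) hne
    · exact eq_neg_of_add_eq_zero_left h
  have ht0 : (t : F) ≠ 0 := t.ne_zero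
  refine ⟨(t : F), (t : F) ^ (q - 1), (t : F) ^ j, (t : F) ^ (j + 1), ht0, hord, ?_,
    pow_ne_zero _ ht0, ?_, pow_ne_zero _ ht0, ?_⟩
  · have hpos : 0 < q - 1 := by omega
    rw [orderOf_pow' _ hpos.ne', hord, Nat.gcd_eq_right ⟨q + 1, hfac.trans (mul_comm _ _)⟩, hfac,
      Nat.mul_div_cancel _ hpos]
  · rw [← pow_mul, hj, ← hhalf]
    congr 1; ring
  · have h1 : ((t : F) ^ (j + 1)) ^ (q - 1) = -1 := by
      rw [← pow_mul, hj, ← hhalf]
      congr 1
      have : 2 * j + 1 - 1 = 2 * j := by omega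
      rw [this]; ring
    have h2 : ((t : F) ^ (j + 1)) ^ q = ((t : F) ^ (j + 1)) ^ (q - 1) * (t : F) ^ (j + 1) := by
      rw [← pow_succ, Nat.sub_add_cancel (by omega)]
    rw [h2, h1]; ring

end Blk

end Cfsg.Agent.helper25.U3
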