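import Cfsg.Prelude.Def_Classical
import Cfsg.Agent.Lib_helper25_L3
import Cfsg.Agent.Lib_helper25_U3a

set_option autoImplicit false
set_option linter.style.haveILetI false
set_option linter.unusedSectionVars false
set_option linter.unnecessarySeqFocus false
set_option linter.unusedSimpArgs false
set_option linter.unusedVariables false

open Polynomial

namespace Cfsg.Agent.helper25.U3

section Center
variable {F : Type*} [Field F] [Fintype F]

open Matrix Cfsg.Agent.helper25.L3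

theorem sigma_inv_of_pow (q : ℕ) (σ : F →+* F) (hσ : ∀ x, σ x = x ^ q) (a : F)
    (ha : a ^ (q + 1) = 1) : σ a = a⁻¹ := by
  have ha0 : a ≠ 0 := by
    rintro rfl
    rw [zero_pow (by omega)] at ha
    exact zero_ne_one ha
  rw [hσ]
  apply eq_inv_of_mul_eq_one_left
  rw [← pow_succ, ha]

/-- the centre of `SU₃(q)` consists of scalar matrices -/
theorem center_scalar (p : ℕ) [Fact p.Prime] [CharP F p] (hp : p ≠ 2) (q : ℕ)
    (hF : Fintype.card F = q ^ 2) (z : Cfsg.SU 3 F q) (hz : z ∈ Subgroup.center (Cfsg.SU 3 F q)) :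
    ∃ r : F, ((z : Matrix.SpecialLinearGroup (Fin 3) F) : Matrix (Fin 3) (Fin 3) F) =
      Matrix.scalar (Fin 3) r := by
  classical
  have hq := q_pos_of_card (F := F) q hF
  obtain ⟨σ, hσ, hσσ⟩ := exists_sigma (F := F) p q hF
  obtain ⟨t, a, ε, c, ht0, hordt, horda, ha0, hε, hc0, hc⟩ := exists_params (F := F) p hp q hF
  have ha1 : a ^ (q + 1) = 1 := by rw [← horda]; exact pow_orderOf_eq_one a
  have hσa : σ a = a⁻¹ := sigma_inv_of_pow q σ hσ a ha1
  have ha2 : a ^ 2 ≠ 1 := by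
    intro h
    have := orderOf_dvd_of_pow_eq_one h
    rw [horda] at this
    have := Nat.le_of_dvd (by norm_num) this
    omega
  have hane1 : a ≠ 1 := by
    rintro rfl
    exact ha2 (one_pow 2)
  have hane : a ≠ a⁻¹ := by
    intro h
    apply ha2
    rw [pow_two]
    nth_rewrite 2 [h]
    exact mul_inv_cancel₀ ha0
  obtain ⟨gD, hgD⟩ := blk_mem q σ hσ a 0 0 a⁻¹ 1
    (by rw [mul_zero, sub_zero, mul_one]; exact mul_inv_cancel₀ ha0)
    (by rw [hσa, map_zero, mul_zero, add_zero]; exact mul_inv_cancel₀ ha0)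
    (by simp) (by simp)
    (by rw [map_inv₀, hσa, inv_inv, map_zero, mul_zero, zero_add]; exact inv_mul_cancel₀ ha0)
    (by simp)
  let P : Matrix (Fin 3) (Fin 3) F := !![0, 1, 0; 0, 0, 1; 1, 0, 0]
  have hPdet : P.det = 1 := by simp [P, Matrix.det_fin_three]
  have hfrob : ∀ a b : F, (a + b) ^ q = a ^ q + b ^ q := fun a b => by
    rw [← hσ, ← hσ, ← hσ, map_add]
  have h0 : (0 : F) ^ q = 0 := zero_pow (by omega)
  have hPmem : (⟨P, hPdet⟩ : Matrix.SpecialLinearGroup (Fin 3) F) ∈ Cfsg.SU 3 F q := by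
    apply mem_SU_of_rel q hfrob
    show P.transpose * P.map (fun x => x ^ q) = 1
    ext i j
    fin_cases i <;> fin_cases j <;>
      simp [P, Matrix.mul_apply, Fin.sum_univ_three, h0]
  let gP : Cfsg.SU 3 F q := ⟨⟨P, hPdet⟩, hPmem⟩
  set Z : Matrix (Fin 3) (Fin 3) F :=
    ((z : Matrix.SpecialLinearGroup (Fin 3) F) : Matrix (Fin 3) (Fin 3) F) with hZ
  rw [Subgroup.mem_center_iff] at hz
  have hD : blk a 0 0 a⁻¹ 1 * Z = Z * blk a 0 0 a⁻¹ 1 := by
    have := congrArg (fun w : Cfsg.SU 3 F q =>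
      ((w : Matrix.SpecialLinearGroup (Fin 3) F) : Matrix (Fin 3) (Fin 3) F)) (hz gD)
    simp only [Subgroup.coe_mul, Matrix.SpecialLinearGroup.coe_mul, hgD] at this
    exact this
  have hP : P * Z = Z * P := by
    have := congrArg (fun w : Cfsg.SU 3 F q =>
      ((w : Matrix.SpecialLinearGroup (Fin 3) F) : Matrix (Fin 3) (Fin 3) F)) (hz gP)
    simp only [Subgroup.coe_mul, Matrix.SpecialLinearGroup.coe_mul] at this
    exact this
  have ha1' : a⁻¹ ≠ 1 := fun h => hane1 (by rw [← inv_inv a, h, inv_one])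
  have e01 : Z 0 1 = 0 := by
    have := congrFun (congrFun hD 0) 1
    simp [blk, Matrix.mul_apply, Fin.sum_univ_three] at this
    have h' : (a - a⁻¹) * Z 0 1 = 0 := by rw [sub_mul, this]; ring
    rcases mul_eq_zero.1 h' with h'' | h''
    · exact absurd (sub_eq_zero.1 h'') hane
    · exact h''
  have e10 : Z 1 0 = 0 := by
    have := congrFun (congrFun hD 1) 0
    simp [blk, Matrix.mul_apply, Fin.sum_univ_three] at this
    have h' : (a⁻¹ - a) * Z 1 0 = 0 := by rw [sub_mul, this]; ring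
    rcases mul_eq_zero.1 h' with h'' | h''
    · exact absurd (sub_eq_zero.1 h'').symm hane
    · exact h''
  have e02 : Z 0 2 = 0 := by
    have := congrFun (congrFun hD 0) 2
    simp [blk, Matrix.mul_apply, Fin.sum_univ_three] at this
    have h' : (a - 1) * Z 0 2 = 0 := by rw [sub_mul, this]; ring
    rcases mul_eq_zero.1 h' with h'' | h''
    · exact absurd (sub_eq_zero.1 h'') hane1
    · exact h''
  have e12 : Z 1 2 = 0 := by
    have := congrFun (congrFun hD 1) 2
    simp [blk, Matrix.mul_apply, Fin.sum_univ_three] at this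
    have h' : (a⁻¹ - 1) * Z 1 2 = 0 := by rw [sub_mul, this]; ring
    rcases mul_eq_zero.1 h' with h'' | h''
    · exact absurd (sub_eq_zero.1 h'') ha1'
    · exact h''
  have e20 : Z 2 0 = 0 := by
    have := congrFun (congrFun hD 2) 0
    simp [blk, Matrix.mul_apply, Fin.sum_univ_three] at this
    have h' : (a - 1) * Z 2 0 = 0 := by rw [sub_mul, mul_comm a, ← this]; ring
    rcases mul_eq_zero.1 h' with h'' | h''
    · exact absurd (sub_eq_zero.1 h'') hane1
    · exact h''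
  have e21 : Z 2 1 = 0 := by
    have := congrFun (congrFun hD 2) 1
    simp [blk, Matrix.mul_apply, Fin.sum_univ_three] at this
    have h' : (a⁻¹ - 1) * Z 2 1 = 0 := by rw [sub_mul, mul_comm a⁻¹, ← this]; ring
    rcases mul_eq_zero.1 h' with h'' | h''
    · exact absurd (sub_eq_zero.1 h'') ha1'
    · exact h''
  have d01 : Z 1 1 = Z 0 0 := by
    have := congrFun (congrFun hP 0) 1
    simpa [P, Matrix.mul_apply, Fin.sum_univ_three] using this
  have d12 : Z 2 2 = Z 1 1 := by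
    have := congrFun (congrFun hP 1) 2
    simpa [P, Matrix.mul_apply, Fin.sum_univ_three] using this
  refine ⟨Z 0 0, ?_⟩
  ext i j
  fin_cases i <;> fin_cases j <;>
    simp [Matrix.scalar_apply, Matrix.diagonal_apply, e01, e10, e02, e12, e20, e21, d01, d12]

end Center

end Cfsg.Agent.helper25.U3
namespace Cfsg.Agent.helper25.U3

section Fams
variable {F : Type*} [Field F] [Fintype F]

open Matrix Cfsg.Agent.helper25.L3

theorem scalar_of_psu_pow (p : ℕ) [Fact p.Prime] [CharP F p] (hp : p ≠ 2) (q : ℕ)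
    (hF : Fintype.card F = q ^ 2) (g : Cfsg.SU 3 F q) (k : ℕ)
    (h : (QuotientGroup.mk g : Cfsg.PSU 3 F q) ^ k = 1) :
    ∃ r : F, r ^ 3 = 1 ∧ r ^ (q + 1) = 1 ∧
      ((g : Matrix.SpecialLinearGroup (Fin 3) F) : Matrix (Fin 3) (Fin 3) F) ^ k =
        Matrix.scalar (Fin 3) r := by
  have hq := q_pos_of_card (F := F) q hF
  rw [← QuotientGroup.mk_pow, QuotientGroup.eq_one_iff] at h
  obtain ⟨r, hr⟩ := center_scalar p hp q hF (g ^ k) h
  have hmat : (((g ^ k : Cfsg.SU 3 F q) : Matrix.SpecialLinearGroup (Fin 3) F) :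
      Matrix (Fin 3) (Fin 3) F) =
      ((g : Matrix.SpecialLinearGroup (Fin 3) F) : Matrix (Fin 3) (Fin 3) F) ^ k := by simp
  refine ⟨r, ?_, ?_, by rw [← hmat, hr]⟩
  · have hdet := ((g ^ k : Cfsg.SU 3 F q) : Matrix.SpecialLinearGroup (Fin 3) F).det_coe
    rw [hr] at hdet
    simpa [Matrix.scalar_apply, Matrix.det_diagonal] using hdet
  · have hrel := unitary_rel q (by omega) ((g ^ k : Cfsg.SU 3 F q) : Matrix.SpecialLinearGroup (Fin 3) F)
      (g ^ k).2
    rw [hr] at hrel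
    have := congrFun (congrFun hrel 0) 0
    simp [Matrix.mul_apply, Fin.sum_univ_three, Matrix.scalar_apply, Matrix.diagonal_apply] at this
    rw [pow_succ, mul_comm]; exact this

theorem orderOf_dvd_du_mul (p : ℕ) [Fact p.Prime] [CharP F p] (hp : p ≠ 2) (q : ℕ)
    (hF : Fintype.card F = q ^ 2) (g : Cfsg.SU 3 F q) :
    orderOf g ∣ Nat.gcd 3 (q + 1) * orderOf (QuotientGroup.mk g : Cfsg.PSU 3 F q) := by
  set k := orderOf (QuotientGroup.mk g : Cfsg.PSU 3 F q) with hk
  obtain ⟨r, hr3, hrq, hs⟩ := scalar_of_psu_pow p hp q hF g k (pow_orderOf_eq_one _)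
  have hrd : r ^ Nat.gcd 3 (q + 1) = 1 := pow_gcd_eq_one.2 ⟨hr3, hrq⟩
  apply orderOf_dvd_of_pow_eq_one
  apply Subtype.ext
  apply Subtype.ext
  simp only [SubgroupClass.coe_pow, Matrix.SpecialLinearGroup.coe_pow]
  rw [mul_comm, pow_mul, hs, ← map_pow, hrd, map_one]
  rfl

theorem K_dvd_orderOf_U (p : ℕ) [Fact p.Prime] [CharP F p] (hp : p ≠ 2) (q : ℕ)
    (hF : Fintype.card F = q ^ 2) (g : Cfsg.SU 3 F q) (M : ℕ) (hM : M ∣ orderOf g)
    (hd : Nat.gcd 3 (q + 1) ∣ M) :
    M / Nat.gcd 3 (q + 1) ∣ orderOf (QuotientGroup.mk g : Cfsg.PSU 3 F q) := by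
  have h1 := hM.trans (orderOf_dvd_du_mul p hp q hF g)
  obtain ⟨e, he⟩ := hd
  rw [he, Nat.mul_div_cancel_left _ (du_pos q)]
  rw [he] at h1
  exact Nat.dvd_of_mul_dvd_mul_left (du_pos q) h1

theorem mat_pow_of_pow_eq_one (q : ℕ) (g : Cfsg.SU 3 F q) (k : ℕ) (h : g ^ k = 1) :
    ((g : Matrix.SpecialLinearGroup (Fin 3) F) : Matrix (Fin 3) (Fin 3) F) ^ k = 1 := by
  have := congrArg (fun w : Cfsg.SU 3 F q =>
    ((w : Matrix.SpecialLinearGroup (Fin 3) F) : Matrix (Fin 3) (Fin 3) F)) h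
  simpa using this

theorem blk_apply_00 (A B C D E : F) : blk A B C D E 0 0 = A := rfl
theorem blk_apply_01 (A B C D E : F) : blk A B C D E 0 1 = B := rfl
theorem blk_apply_22 (A B C D E : F) : blk A B C D E 2 2 = E := rfl

theorem blk_diag_pow (A D E : F) (k : ℕ) :
    (blk A 0 0 D E) ^ k = blk (A ^ k) 0 0 (D ^ k) (E ^ k) := by
  induction k with
  | zero => simp [blk_one]
  | succ k ih =>
    rw [pow_succ, ih, blk_mul]
    apply blk_congr <;> ring

/-- family (1): an element of `PSU₃` of order divisible by `q + 1` -/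
theorem exists_fam1U (p : ℕ) [Fact p.Prime] [CharP F p] (hp : p ≠ 2) (q : ℕ)
    (hF : Fintype.card F = q ^ 2) : ∃ x : Cfsg.PSU 3 F q, q + 1 ∣ orderOf x := by
  classical
  have hq := q_pos_of_card (F := F) q hF
  obtain ⟨σ, hσ, hσσ⟩ := exists_sigma (F := F) p q hF
  obtain ⟨t, a, ε, c, ht0, hordt, horda, ha0, hε, hc0, hc⟩ := exists_params (F := F) p hp q hF
  have ha1 : a ^ (q + 1) = 1 := by rw [← horda]; exact pow_orderOf_eq_one a
  have hσa : σ a = a⁻¹ := sigma_inv_of_pow q σ hσ a ha1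
  obtain ⟨gD, hgD⟩ := blk_mem q σ hσ a 0 0 a⁻¹ 1
    (by rw [mul_zero, sub_zero, mul_one]; exact mul_inv_cancel₀ ha0)
    (by rw [hσa, map_zero, mul_zero, add_zero]; exact mul_inv_cancel₀ ha0)
    (by simp) (by simp)
    (by rw [map_inv₀, hσa, inv_inv, map_zero, mul_zero, zero_add]; exact inv_mul_cancel₀ ha0)
    (by simp)
  refine ⟨QuotientGroup.mk gD, ?_⟩
  obtain ⟨r, -, -, hs⟩ := scalar_of_psu_pow p hp q hF gD _ (pow_orderOf_eq_one (QuotientGroup.mk gD : Cfsg.PSU 3 F q))
  rw [hgD, blk_diag_pow] at hs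
  have h00 := congrFun (congrFun hs 0) 0
  have h22 := congrFun (congrFun hs 2) 2
  rw [blk_apply_00, Matrix.scalar_apply, Matrix.diagonal_apply_eq] at h00
  rw [blk_apply_22, Matrix.scalar_apply, Matrix.diagonal_apply_eq, one_pow] at h22
  rw [← horda]
  apply orderOf_dvd_of_pow_eq_one
  rw [h00, ← h22]

theorem t2_pow (a c ε e' E : F) (hε0 : ε ≠ 0) (he' : ε * e' = -1) (k : ℕ) :
    (blk (a * (1 + c)) (a * c * e') (a * c * ε) (a * (1 - c)) E) ^ k =
      blk (a ^ k * (1 + k * c)) (a ^ k * (k * c * e')) (a ^ k * (k * c * ε))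
        (a ^ k * (1 - k * c)) (E ^ k) := by
  have he : e' = -ε⁻¹ := by
    rw [eq_neg_iff_add_eq_zero]
    field_simp
    linear_combination he'
  subst he
  induction k with
  | zero =>
    rw [pow_zero, ← blk_one]
    apply blk_congr <;> simp
  | succ k ih =>
    rw [pow_succ, ih, blk_mul]
    apply blk_congr <;> (push_cast; field_simp; ring)

theorem coprime_p_q1 (p : ℕ) [Fact p.Prime] [CharP F p] (q : ℕ) (hF : Fintype.card F = q ^ 2) :
    Nat.Coprime p (q + 1) := by
  have hq := q_pos_of_card (F := F) q hF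
  obtain ⟨n, hn⟩ := q_eq_pow (F := F) p q hF
  have hn0 : n ≠ 0 := by
    rintro rfl
    rw [pow_zero] at hn
    omega
  have hpq : p ∣ q := by rw [hn]; exact dvd_pow_self p hn0
  have h1 : Nat.Coprime q (q + 1) := by simp
  exact Nat.Coprime.coprime_dvd_left hpq h1

/-- family (2): an element of `SU₃` of order divisible by `p (q + 1)` -/
theorem exists_fam2U (p : ℕ) [Fact p.Prime] [CharP F p] (hp : p ≠ 2) (q : ℕ)
    (hF : Fintype.card F = q ^ 2) : ∃ g : Cfsg.SU 3 F q, p * (q + 1) ∣ orderOf g := by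
  classical
  have hq := q_pos_of_card (F := F) q hF
  obtain ⟨σ, hσ, hσσ⟩ := exists_sigma (F := F) p q hF
  obtain ⟨t, a, ε, c, ht0, hordt, horda, ha0, hε, hc0, hc⟩ := exists_params (F := F) p hp q hF
  have ha1 : a ^ (q + 1) = 1 := by rw [← horda]; exact pow_orderOf_eq_one a
  have hσa : σ a = a⁻¹ := sigma_inv_of_pow q σ hσ a ha1
  have hσc : σ c = -c := by rw [hσ, hc]
  have hε0 : ε ≠ 0 := by
    rintro rfl
    rw [zero_pow (by omega)] at hε
    have : (1 : F) = 0 := by linear_combination hε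
    exact one_ne_zero this
  have hσε : σ ε = -ε⁻¹ := by
    rw [hσ, eq_neg_iff_add_eq_zero]
    field_simp
    rw [← pow_succ, hε]; ring
  have hee : ε * (-ε⁻¹) = -1 := by field_simp
  obtain ⟨g, hg⟩ := blk_mem q σ hσ (a * (1 + c)) (a * c * (-ε⁻¹)) (a * c * ε) (a * (1 - c))
    (a⁻¹ * a⁻¹)
    (by field_simp; ring)
    (by simp only [map_mul, map_add, map_sub, map_one, map_neg, map_inv₀, hσa, hσc, hσε]
        field_simp; ring)
    (by simp only [map_mul, map_add, map_sub, map_one, map_neg, map_inv₀, hσa, hσc, hσε]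
        field_simp; ring)
    (by simp only [map_mul, map_add, map_sub, map_one, map_neg, map_inv₀, hσa, hσc, hσε]
        field_simp; ring)
    (by simp only [map_mul, map_add, map_sub, map_one, map_neg, map_inv₀, hσa, hσc, hσε]
        field_simp; ring)
    (by simp only [map_mul, map_add, map_sub, map_one, map_neg, map_inv₀, hσa, hσc, hσε]
        field_simp)
  refine ⟨g, ?_⟩
  have hone := mat_pow_of_pow_eq_one q g _ (pow_orderOf_eq_one g)
  rw [hg, t2_pow a c ε (-ε⁻¹) _ hε0 hee] at hone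
  have h01 := congrFun (congrFun hone 0) 1
  have h00 := congrFun (congrFun hone 0) 0
  rw [blk_apply_01, Matrix.one_apply_ne (by decide)] at h01
  rw [blk_apply_00, Matrix.one_apply_eq] at h00
  have hk0 : ((orderOf g : ℕ) : F) = 0 := by
    rcases mul_eq_zero.1 h01 with h | h
    · exact absurd h (pow_ne_zero _ ha0)
    · rcases mul_eq_zero.1 h with h | h
      · rcases mul_eq_zero.1 h with h | h
        · exact h
        · exact absurd h hc0
      · exact absurd h (neg_ne_zero.2 (inv_ne_zero hε0))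
  rw [hk0, zero_mul, add_zero, mul_one] at h00
  have h1 : q + 1 ∣ orderOf g := by
    rw [← horda]; exact orderOf_dvd_of_pow_eq_one h00
  have h2 : p ∣ orderOf g := (CharP.cast_eq_zero_iff F p _).1 hk0
  exact (coprime_p_q1 (F := F) p q hF).mul_dvd_of_dvd_of_dvd h2 h1

/-- the matrix with eigenvalue `x` on `(1, ε)` and `y` on `(1, -ε)` -/
def t3 (x y ε : F) : Matrix (Fin 3) (Fin 3) F :=
  blk ((x + y) / 2) ((x - y) / (2 * ε)) (ε * (x - y) / 2) ((x + y) / 2) ((x * y)⁻¹)

theorem t3_mul (h2 : (2 : F) ≠ 0) (ε : F) (hε0 : ε ≠ 0) (x y x' y' : F) :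
    t3 x y ε * t3 x' y' ε = t3 (x * x') (y * y') ε := by
  unfold t3
  rw [blk_mul]
  apply blk_congr
  · field_simp; ring
  · field_simp; ring
  · field_simp; ring
  · field_simp; ring
  · rw [← mul_inv]; congr 1; ring

theorem t3_pow (h2 : (2 : F) ≠ 0) (ε : F) (hε0 : ε ≠ 0) (x y : F) (k : ℕ) :
    t3 x y ε ^ k = t3 (x ^ k) (y ^ k) ε := by
  induction k with
  | zero =>
    rw [pow_zero, pow_zero, pow_zero, ← blk_one]
    unfold t3
    apply blk_congr
    · field_simp; ring
    · simp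
    · simp
    · field_simp; ring
    · simp
  | succ k ih => rw [pow_succ, ih, t3_mul h2 ε hε0, ← pow_succ, ← pow_succ]

/-- family (3): an element of `SU₃` of order divisible by `q² - 1` -/
theorem exists_fam3U (p : ℕ) [Fact p.Prime] [CharP F p] (hp : p ≠ 2) (q : ℕ)
    (hF : Fintype.card F = q ^ 2) : ∃ g : Cfsg.SU 3 F q, q ^ 2 - 1 ∣ orderOf g := by
  classical
  have hq := q_pos_of_card (F := F) q hF
  have h2F := two_ne_zero_of_char (F := F) p hp
  obtain ⟨σ, hσ, hσσ⟩ := exists_sigma (F := F) p q hF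
  obtain ⟨t, a, ε, c, ht0, hordt, horda, ha0, hε, hc0, hc⟩ := exists_params (F := F) p hp q hF
  have hε0 : ε ≠ 0 := by
    rintro rfl
    rw [zero_pow (by omega)] at hε
    have : (1 : F) = 0 := by linear_combination hε
    exact one_ne_zero this
  have hσε : σ ε = -ε⁻¹ := by
    rw [hσ, eq_neg_iff_add_eq_zero]
    field_simp
    rw [← pow_succ, hε]; ring
  set y : F := (σ t)⁻¹ with hy
  have hσt0 : σ t ≠ 0 := by rw [hσ]; exact pow_ne_zero _ ht0
  have hy0 : y ≠ 0 := inv_ne_zero hσt0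
  have hσt : σ t = y⁻¹ := by rw [hy, inv_inv]
  have hσy : σ y = t⁻¹ := by rw [hy, map_inv₀, hσσ]
  have hσ2 : σ 2 = 2 := map_ofNat σ 2
  obtain ⟨g, hg⟩ := blk_mem q σ hσ ((t + y) / 2) ((t - y) / (2 * ε)) (ε * (t - y) / 2)
    ((t + y) / 2) ((t * y)⁻¹)
    (by field_simp; ring)
    (by simp only [map_mul, map_add, map_sub, map_div₀, map_neg, map_inv₀, hσt, hσy, hσε, hσ2]
        field_simp; ring)
    (by simp only [map_mul, map_add, map_sub, map_div₀, map_neg, map_inv₀, hσt, hσy, hσε, hσ2]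
        field_simp; ring)
    (by simp only [map_mul, map_add, map_sub, map_div₀, map_neg, map_inv₀, hσt, hσy, hσε, hσ2]
        field_simp; ring)
    (by simp only [map_mul, map_add, map_sub, map_div₀, map_neg, map_inv₀, hσt, hσy, hσε, hσ2]
        field_simp; ring)
    (by simp only [map_mul, map_add, map_sub, map_div₀, map_neg, map_inv₀, hσt, hσy, hσε, hσ2]
        field_simp)
  refine ⟨g, ?_⟩
  have hone := mat_pow_of_pow_eq_one q g _ (pow_orderOf_eq_one g)
  have hg' : ((g : Matrix.SpecialLinearGroup (Fin 3) F) : Matrix (Fin 3) (Fin 3) F) = t3 t y ε := hg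
  rw [hg', t3_pow h2F ε hε0] at hone
  have h01 := congrFun (congrFun hone 0) 1
  have h00 := congrFun (congrFun hone 0) 0
  unfold t3 at h01 h00
  rw [blk_apply_01, Matrix.one_apply_ne (by decide)] at h01
  rw [blk_apply_00, Matrix.one_apply_eq] at h00
  have hxy : t ^ orderOf g = y ^ orderOf g := by
    rcases div_eq_zero_iff.1 h01 with h | h
    · exact sub_eq_zero.1 h
    · exact absurd h (mul_ne_zero h2F hε0)
  rw [← hxy] at h00
  have hx1 : t ^ orderOf g = 1 := by
    have : (t ^ orderOf g + t ^ orderOf g) / 2 = t ^ orderOf g := by field_simp; ring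
    rw [← this]; exact h00
  rw [← hordt]
  exact orderOf_dvd_of_pow_eq_one hx1

end Fams

end Cfsg.Agent.helper25.U3
namespace Cfsg.Agent.helper25.U3

section Sup
variable {F : Type*} [Field F] [Fintype F]

open Matrix Cfsg.Agent.helper25.L3

theorem spec_superset_U (p : ℕ) [Fact p.Prime] [CharP F p] (hp : p ≠ 2) (q : ℕ)
    (hF : Fintype.card F = q ^ 2) (m : ℕ) (h : TargetU p q m) :
    ∃ x : Cfsg.PSU 3 F q, orderOf x = m := by
  classical
  have hq := q_pos_of_card (F := F) q hF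
  have hfin : ∀ x : Cfsg.PSU 3 F q, orderOf x ≠ 0 := fun x => (orderOf_pos x).ne'
  rcases h with h | h | h | h
  · obtain ⟨x, hx⟩ := exists_fam1U (F := F) p hp q hF
    exact exists_orderOf_eq_of_dvd' _ m (h.trans hx) (hfin _)
  · obtain ⟨g, hg⟩ := exists_fam2U (F := F) p hp q hF
    exact exists_orderOf_eq_of_dvd' _ m
      (h.trans (K_dvd_orderOf_U p hp q hF g _ hg (Dvd.dvd.mul_left (du_dvd_q1 q) p))) (hfin _)
  · obtain ⟨g, hg⟩ := exists_fam3U (F := F) p hp q hF
    exact exists_orderOf_eq_of_dvd' _ m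
      (h.trans (K_dvd_orderOf_U p hp q hF g _ hg (du_dvd_q2m1 q (by omega)))) (hfin _)
  · obtain ⟨g, hg⟩ := exists_fam4U (F := F) p hp q hF
    exact exists_orderOf_eq_of_dvd' _ m
      (h.trans (K_dvd_orderOf_U p hp q hF g _ hg (du_dvd_M q))) (hfin _)

end Sup

end Cfsg.Agent.helper25.U3
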