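import Cfsg.Prelude.Def_Classical
import Cfsg.Agent.Lib_helper25_L3
import Cfsg.Agent.Lib_helper25_U3a
import Cfsg.Agent.Lib_helper25_U3b

set_option autoImplicit false
set_option linter.style.haveILetI false
set_option linter.unusedSectionVars false
set_option linter.unnecessarySeqFocus false
set_option linter.unusedSimpArgs false
set_option linter.unusedVariables false

open Polynomial

namespace Cfsg.Agent.helper25.U3

section Sub
variable {F : Type*} [Field F] [Fintype F]

open Matrix Cfsg.Agent.helper25.L3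

theorem root_conj' (p : ℕ) [Fact p.Prime] [CharP F p] (n q : ℕ) (hn : q = p ^ n)
    (g : Matrix (Fin 3) (Fin 3) F) (hdet : g.det = 1)
    (hrel : g.transpose * g.map (fun x => x ^ q) = 1)
    {L : Type*} [Field L] [Algebra F L] (β : L) (hβ0 : β ≠ 0)
    (hβ : aeval β g.charpoly = 0) (e : ℕ) (hfix : β ^ (q ^ (e + 1)) = β) :
    aeval ((β⁻¹) ^ (q ^ e)) g.charpoly = 0 := by
  subst hn
  exact root_conj p n g hdet hrel β hβ0 hβ e hfix

theorem fixed_of_pow_q1 {K : Type*} [Field K] (q : ℕ) (hq : 1 ≤ q) (β : K)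
    (h : β ^ (q + 1) = 1) : β ^ (q ^ 2) = β := by
  have : q ^ 2 = (q + 1) * (q - 1) + 1 := by
    have h2 := q2m1_fac q hq
    have h1 : 1 ≤ q ^ 2 := Nat.one_le_pow _ _ (by omega)
    omega
  rw [this, pow_succ, pow_mul, h, one_pow, one_mul]

theorem raise_pow {K : Type*} [Field K] (A B : K) (h : A * B = 1) (m : ℕ) : A ^ m * B ^ m = 1 := by
  rw [← mul_pow, h, one_pow]

theorem M_identities (q : ℕ) (hq : 1 ≤ q) :
    (q ^ 2 - q + 1) * (q + 1) = q ^ 3 + 1 ∧
      (q ^ 2 - q + 1) * (q ^ 2 + q + 1) = (q ^ 2) ^ 2 + q ^ 2 + 1 := by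
  obtain ⟨j, rfl⟩ : ∃ j, q = j + 1 := ⟨q - 1, by omega⟩
  have e1 : (j + 1) ^ 2 - (j + 1) + 1 = j * j + j + 1 := by
    have : (j + 1) ^ 2 = (j * j + j) + (j + 1) := by ring
    rw [this, Nat.add_sub_cancel]
  rw [e1]
  constructor <;> ring

/-- Case I: irreducible characteristic polynomial -/
theorem caseU_irr (p : ℕ) [Fact p.Prime] [CharP F p] (n q : ℕ) (hn : q = p ^ n)
    (hF : Fintype.card F = q ^ 2)
    (g : Matrix (Fin 3) (Fin 3) F) (hdet : g.det = 1)
    (hrel : g.transpose * g.map (fun x => x ^ q) = 1)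
    (hm : g.charpoly.Monic) (hd : g.charpoly.natDegree = 3) (h0 : g.charpoly.coeff 0 = -1)
    (hirr : Irreducible g.charpoly) :
    ∃ l : F, g.charpoly ∣ X ^ ((q ^ 2 - q + 1) / Nat.gcd 3 (q + 1)) - C l := by
  have hq := q_pos_of_card (F := F) q hF
  set χ := g.charpoly with hχ
  haveI := Fact.mk hirr
  have h1 := root_pow_norm χ hirr hm
  rw [hd, q3_div, h0] at h1
  have hN : (AdjoinRoot.root χ) ^ (Fintype.card F ^ 2 + Fintype.card F + 1) = 1 := by
    rw [h1]; norm_num
  rw [hF] at hN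
  set β := AdjoinRoot.root χ with hβdef
  have hβ0 : β ≠ 0 := by
    intro h
    rw [h, zero_pow (by positivity)] at hN
    exact zero_ne_one hN
  have hβroot : aeval β χ = 0 := by rw [hβdef, AdjoinRoot.aeval_eq, AdjoinRoot.mk_self]
  have h6 : β ^ (q ^ 6) = β := by
    have := pow_card_adjoinRoot χ hirr β
    rw [hd, hF, ← pow_mul] at this
    exact this
  have hy := root_conj' p n q hn g hdet hrel β hβ0 hβroot 5 h6
  obtain ⟨i, hi⟩ := conj_root p χ hirr _ hy
  have h63 : β ^ (Fintype.card F ^ 3) = β := by rw [hF, ← pow_mul]; exact h6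
  rw [← hβdef, pow_card_pow_mod β (Fintype.card F) 3 h63 i, hF] at hi
  have hAB : ∀ B : AdjoinRoot χ, (β⁻¹) ^ (q ^ 5) = B → β ^ (q ^ 5) * B = 1 := by
    intro B hB
    rw [← hB, inv_pow]
    exact mul_inv_cancel₀ (pow_ne_zero _ hβ0)
  have hnot : ¬ β ^ (q + 1) = 1 := by
    intro h
    have hfix := fixed_of_pow_q1 q (by omega) β h
    have := natDegree_eq_one_of_fixed χ hirr (by rw [hF]; exact hfix)
    rw [hd] at this
    norm_num at this
  have hj : i % 3 = 0 ∨ i % 3 = 1 ∨ i % 3 = 2 := by omega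
  have hu : β ^ (q ^ 3) * β = 1 := by
    rcases hj with hj | hj | hj
    · exfalso
      rw [hj, pow_zero, pow_one] at hi
      have e := raise_pow _ _ (hAB _ hi) q
      rw [← pow_mul, ← pow_succ, h6] at e
      apply hnot
      rw [pow_succ, mul_comm]; exact e
    · rw [hj, pow_one] at hi
      have e := raise_pow _ _ (hAB _ hi) (q ^ 4)
      rw [← pow_mul, ← pow_mul, show q ^ 5 * q ^ 4 = q ^ 6 * q ^ 3 by ring,
        show q ^ 2 * q ^ 4 = q ^ 6 by ring, pow_mul, h6] at e
      exact e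
    · exfalso
      rw [hj] at hi
      have e := raise_pow _ _ (hAB _ hi) (q ^ 2)
      rw [← pow_mul, ← pow_mul, show q ^ 5 * q ^ 2 = q ^ 6 * q by ring,
        show (q ^ 2) ^ 2 * q ^ 2 = q ^ 6 by ring, pow_mul, h6] at e
      apply hnot
      rw [pow_succ]; exact e
  obtain ⟨hM1, hM2⟩ := M_identities q (by omega)
  set M := q ^ 2 - q + 1 with hMdef
  have hγ1 : (β ^ M) ^ (q + 1) = 1 := by
    rw [← pow_mul, hM1, pow_succ]; exact hu
  have hγ2 : (β ^ M) ^ (q ^ 2 + q + 1) = 1 := by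
    rw [← pow_mul, hM2]; exact hN
  have hγ : β ^ M = 1 := by
    have : q ^ 2 + q + 1 = (q + 1) * q + 1 := by ring
    rw [this, pow_succ, pow_mul, hγ1, one_pow, one_mul] at hγ2
    exact hγ2
  obtain ⟨e, he⟩ := du_dvd_M q
  rw [← hMdef] at he
  have hdiv : M / Nat.gcd 3 (q + 1) = e := by
    rw [he]; exact Nat.mul_div_cancel_left _ (du_pos q)
  rw [hdiv]
  have h3 : (β ^ e) ^ Nat.gcd 3 (q + 1) = 1 := by
    rw [← pow_mul, mul_comm, ← he, hγ]
  have h3' : (β ^ e) ^ Nat.gcd 3 (Fintype.card F - 1) = 1 := by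
    obtain ⟨c, hc⟩ := du_dvd_dl q (by omega)
    rw [hF, hc, pow_mul, h3, one_pow]
  obtain ⟨l, _, hl⟩ := root_of_unity_in_F (F := F) _ h3'
  refine ⟨l, ?_⟩
  rw [← AdjoinRoot.mk_eq_zero, map_sub, map_pow, AdjoinRoot.mk_X, AdjoinRoot.mk_C, sub_eq_zero]
  exact hl.symm

end Sub

end Cfsg.Agent.helper25.U3
namespace Cfsg.Agent.helper25.U3

section Sub2
variable {F : Type*} [Field F] [Fintype F]

open Matrix Cfsg.Agent.helper25.L3

/-- Case II: a linear factor times an irreducible quadratic is impossible -/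
theorem caseU_quad (p : ℕ) [Fact p.Prime] [CharP F p] (n q : ℕ) (hn : q = p ^ n)
    (hF : Fintype.card F = q ^ 2)
    (g : Matrix (Fin 3) (Fin 3) F) (hdet : g.det = 1)
    (hrel : g.transpose * g.map (fun x => x ^ q) = 1)
    (ψ : F[X]) (a : F) (hχ : g.charpoly = (X - C a) * ψ) (hmψ : ψ.Monic)
    (hdψ : ψ.natDegree = 2) (ha : a * ψ.coeff 0 = 1) (hirr : Irreducible ψ) : False := by
  have hq := q_pos_of_card (F := F) q hF
  haveI := Fact.mk hirr
  have hψ0 : ψ.coeff 0 ≠ 0 := right_ne_zero_of_mul_eq_one ha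
  have h1 := root_pow_norm ψ hirr hmψ
  rw [hdψ, q2_div] at h1
  have h1' : (AdjoinRoot.root ψ) ^ (Fintype.card F + 1) =
      algebraMap F (AdjoinRoot ψ) (ψ.coeff 0) := by
    rw [h1]; norm_num
  set β := AdjoinRoot.root ψ with hβdef
  have hβ0 : β ≠ 0 := by
    intro h
    rw [h, zero_pow (by omega)] at h1'
    have := (algebraMap F (AdjoinRoot ψ)).injective (h1'.symm.trans (map_zero _).symm)
    exact hψ0 this
  have hβψ : aeval β ψ = 0 := by rw [hβdef, AdjoinRoot.aeval_eq, AdjoinRoot.mk_self]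
  have hβroot : aeval β g.charpoly = 0 := by rw [hχ, map_mul, hβψ, mul_zero]
  have h4 : β ^ (q ^ 4) = β := by
    have := pow_card_adjoinRoot ψ hirr β
    rw [hdψ, hF, ← pow_mul] at this
    exact this
  have hy := root_conj' p n q hn g hdet hrel β hβ0 hβroot 3 h4
  have hnot : ¬ β ^ (q + 1) = 1 := by
    intro h
    have hfix := fixed_of_pow_q1 q (by omega) β h
    have := natDegree_eq_one_of_fixed ψ hirr (by rw [hF]; exact hfix)
    rw [hdψ] at this
    norm_num at this
  rw [hχ, map_mul] at hy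
  rcases mul_eq_zero.1 hy with hy1 | hy2
  · rw [map_sub, aeval_X, aeval_C, sub_eq_zero] at hy1
    have hβa : β = algebraMap F (AdjoinRoot ψ) ((a ^ q)⁻¹) := by
      rw [map_inv₀, map_pow, ← hy1, ← pow_mul, show q ^ 3 * q = q ^ 4 by ring, inv_pow, h4, inv_inv]
    have hfix : β ^ Fintype.card F = β := by
      rw [hβa, ← map_pow, FiniteField.pow_card]
    have := natDegree_eq_one_of_fixed ψ hirr hfix
    rw [hdψ] at this
    norm_num at this
  · obtain ⟨i, hi⟩ := conj_root p ψ hirr _ hy2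
    have h42 : β ^ (Fintype.card F ^ 2) = β := by rw [hF, ← pow_mul]; exact h4
    rw [← hβdef, pow_card_pow_mod β (Fintype.card F) 2 h42 i, hF] at hi
    have hAB : ∀ B : AdjoinRoot ψ, (β⁻¹) ^ (q ^ 3) = B → β ^ (q ^ 3) * B = 1 := by
      intro B hB
      rw [← hB, inv_pow]
      exact mul_inv_cancel₀ (pow_ne_zero _ hβ0)
    have hj : i % 2 = 0 ∨ i % 2 = 1 := by omega
    rcases hj with hj | hj
    · rw [hj, pow_zero, pow_one] at hi
      have e := raise_pow _ _ (hAB _ hi) q
      rw [← pow_mul, ← pow_succ, h4] at e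
      apply hnot
      rw [pow_succ, mul_comm]; exact e
    · rw [hj, pow_one] at hi
      have e := raise_pow _ _ (hAB _ hi) (q ^ 2)
      rw [← pow_mul, ← pow_mul, show q ^ 3 * q ^ 2 = q ^ 4 * q by ring,
        show q ^ 2 * q ^ 2 = q ^ 4 by ring, pow_mul, h4] at e
      apply hnot
      rw [pow_succ]; exact e

theorem distinct_gen (χ : F[X]) (a b c : F) (hχ : χ = (X - C a) * ((X - C b) * (X - C c)))
    (hab : a ≠ b) (hbc : b ≠ c) (hac : a ≠ c) (k : ℕ) (l : F)
    (ha : a ^ k = l) (hb : b ^ k = l) (hc : c ^ k = l) : χ ∣ X ^ k - C l := by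
  have h1 := X_sub_C_dvd_of_pow_eq a l k ha
  have h2 := X_sub_C_dvd_of_pow_eq b l k hb
  have h3 := X_sub_C_dvd_of_pow_eq c l k hc
  have c12 : IsCoprime (X - C a) (X - C b) :=
    isCoprime_X_sub_C_of_isUnit_sub (sub_ne_zero.2 hab).isUnit
  have c13 : IsCoprime (X - C a) (X - C c) :=
    isCoprime_X_sub_C_of_isUnit_sub (sub_ne_zero.2 hac).isUnit
  have c23 : IsCoprime (X - C b) (X - C c) :=
    isCoprime_X_sub_C_of_isUnit_sub (sub_ne_zero.2 hbc).isUnit
  rw [hχ]
  exact (c12.mul_right c13).mul_dvd h1 (c23.mul_dvd h2 h3)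

theorem double_gen (p : ℕ) [Fact p.Prime] [CharP F p] (χ : F[X]) (a c : F)
    (hχ : χ = (X - C a) ^ 2 * (X - C c)) (hac : a * a * c = 1) (hne : a ≠ c)
    (N d : ℕ) (hd3 : d ∣ 3) (hdN : d ∣ N) (hd0 : 0 < d) (haN : a ^ N = 1) :
    ∃ l : F, χ ∣ X ^ (p * N / d) - C l := by
  have hp2 : 2 ≤ p := (Fact.out : p.Prime).two_le
  have haa0 : a * a ≠ 0 := left_ne_zero_of_mul_eq_one hac
  have ha0 : a ≠ 0 := left_ne_zero_of_mul haa0
  set k0 := N / d with hk0def
  have hk0 : N = d * k0 := (Nat.mul_div_cancel' hdN).symm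
  have hdiv : p * N / d = p * k0 := Nat.mul_div_assoc p hdN
  rw [hdiv]
  set z := a ^ k0 with hz
  have hzd : z ^ d = 1 := by
    rw [hz, ← pow_mul, mul_comm, ← hk0, haN]
  have hz3 : z ^ 3 = 1 := by
    obtain ⟨j, hj⟩ := hd3
    rw [hj, pow_mul, hzd, one_pow]
  have hck0 : c ^ k0 = z := by
    have hc' : c = (a * a)⁻¹ := eq_inv_of_mul_eq_one_right hac
    rw [hc', inv_pow, mul_pow, ← hz]
    apply inv_eq_of_mul_eq_one_left
    rw [← hz3]; ring
  refine ⟨z ^ p, ?_⟩
  have hexp : (X : F[X]) ^ (p * k0) - C (z ^ p) = (X ^ k0 - C z) ^ p := by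
    rw [sub_pow_char]
    congr 1
    · rw [mul_comm, pow_mul]
    · rw [C_pow]
  have h1 : X - C a ∣ X ^ k0 - C z := X_sub_C_dvd_of_pow_eq a z k0 hz.symm
  have h2 : (X - C a) ^ 2 ∣ X ^ (p * k0) - C (z ^ p) := by
    rw [hexp]
    exact (pow_dvd_pow _ hp2).trans (pow_dvd_pow_of_dvd h1 p)
  have h3 : X - C c ∣ X ^ (p * k0) - C (z ^ p) := by
    apply X_sub_C_dvd_of_pow_eq
    rw [mul_comm, pow_mul, hck0]
  have hcop : IsCoprime ((X - C a) ^ 2) (X - C c) :=
    (isCoprime_X_sub_C_of_isUnit_sub (sub_ne_zero.2 hne).isUnit).pow_left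
  rw [hχ]
  exact hcop.mul_dvd h2 h3

/-- if `b = a^(-q) ≠ a` then `a b a ≠ 1` -/
theorem swap_ne (q : ℕ) (hF : Fintype.card F = q ^ 2) (a b : F) (ha0 : a ≠ 0)
    (hb : b = (a⁻¹) ^ q) (hab : a ≠ b) (h : a * (b * a) = 1) : False := by
  have hb' : b = (a * a)⁻¹ := by
    apply eq_inv_of_mul_eq_one_left
    rw [← h]; ring
  have haq : a ^ q = a * a := by
    have : (a ^ q)⁻¹ = (a * a)⁻¹ := by rw [← inv_pow, ← hb, hb']
    exact inv_injective this
  have h4 : a ^ (q ^ 2) = a * a * (a * a) := by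
    rw [pow_two, pow_mul, haq, mul_pow, haq]
  have hfix : a ^ (q ^ 2) = a := by rw [← hF]; exact FiniteField.pow_card a
  have h3 : a * a * a = 1 := by
    have : a * (a * a * a - 1) = 0 := by
      have := h4.symm.trans hfix
      linear_combination this
    rcases mul_eq_zero.1 this with h' | h'
    · exact absurd h' ha0
    · exact sub_eq_zero.1 h'
  apply hab
  rw [hb']
  apply eq_inv_of_mul_eq_one_left
  rw [← h3]; ring

theorem caseSwap (q : ℕ) (hF : Fintype.card F = q ^ 2) (χ : F[X]) (a b c : F)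
    (hχ : χ = (X - C a) * ((X - C b) * (X - C c))) (habc : a * (b * c) = 1)
    (hb : b = (a⁻¹) ^ q) (hab : a ≠ b) :
    ∃ l : F, χ ∣ X ^ ((q ^ 2 - 1) / Nat.gcd 3 (q + 1)) - C l := by
  have hq := q_pos_of_card (F := F) q hF
  have ha0 : a ≠ 0 := left_ne_zero_of_mul_eq_one habc
  have hbc0 : b * c ≠ 0 := right_ne_zero_of_mul_eq_one habc
  have hb0 : b ≠ 0 := left_ne_zero_of_mul hbc0
  have hc0 : c ≠ 0 := right_ne_zero_of_mul hbc0
  have hfixa : a ^ (q ^ 2) = a := by rw [← hF]; exact FiniteField.pow_card a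
  have ha' : a = (b⁻¹) ^ q := by
    rw [hb, ← inv_pow, inv_inv, ← pow_mul, ← pow_two, hfixa]
  have hca : a ≠ c := by
    intro hca
    rw [← hca] at habc
    exact swap_ne q hF a b ha0 hb hab habc
  have hcb : b ≠ c := by
    intro hcb
    rw [← hcb] at habc
    exact swap_ne q hF b a hb0 ha' (Ne.symm hab) (by rw [← habc]; ring)
  obtain ⟨k, hk⟩ := du_dvd_q2m1 q (by omega)
  have hdiv : (q ^ 2 - 1) / Nat.gcd 3 (q + 1) = k := by
    rw [hk]; exact Nat.mul_div_cancel_left _ (du_pos q)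
  rw [hdiv]
  set l := a ^ k with hl
  have hld : l ^ Nat.gcd 3 (q + 1) = 1 := by
    rw [hl, ← pow_mul, mul_comm, ← hk, ← hF]
    exact FiniteField.pow_card_sub_one_eq_one a ha0
  have hl3 : l ^ 3 = 1 := by
    obtain ⟨j, hj⟩ := du_dvd_three q
    rw [hj, pow_mul, hld, one_pow]
  have hlq : l ^ (q + 1) = 1 := by
    obtain ⟨j, hj⟩ := du_dvd_q1 q
    rw [hj, pow_mul, hld, one_pow]
  have hl0 : l ≠ 0 := pow_ne_zero _ ha0
  have hbk : b ^ k = l := by
    rw [hb, ← pow_mul, mul_comm, pow_mul, inv_pow, ← hl, inv_pow]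
    apply inv_eq_of_mul_eq_one_left
    rw [← pow_succ', hlq]
  have hck : c ^ k = l := by
    have hc' : c = (a * b)⁻¹ := by
      apply eq_inv_of_mul_eq_one_right
      rw [← habc]; ring
    rw [hc', inv_pow, mul_pow, hbk, ← hl]
    apply inv_eq_of_mul_eq_one_left
    rw [← hl3]; ring
  exact ⟨l, distinct_gen χ a b c hχ hab hcb hca k l rfl hbk hck⟩

end Sub2

end Cfsg.Agent.helper25.U3
namespace Cfsg.Agent.helper25.U3

section Sub3
variable {F : Type*} [Field F] [Fintype F]

open Matrix Cfsg.Agent.helper25.L3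

theorem root_conj_F (p : ℕ) [Fact p.Prime] [CharP F p] (n q : ℕ) (hn : q = p ^ n)
    (hF : Fintype.card F = q ^ 2)
    (g : Matrix (Fin 3) (Fin 3) F) (hdet : g.det = 1)
    (hrel : g.transpose * g.map (fun x => x ^ q) = 1)
    (x : F) (hx0 : x ≠ 0) (hx : g.charpoly.IsRoot x) : g.charpoly.IsRoot ((x⁻¹) ^ q) := by
  have h := root_conj' p n q hn g hdet hrel (L := F) x hx0
    (by rw [coe_aeval_eq_eval]; exact hx) 1
    (by rw [show q ^ (1 + 1) = q ^ 2 by ring, ← hF]; exact FiniteField.pow_card x)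
  rw [pow_one, coe_aeval_eq_eval] at h
  exact h

theorem targetU_of_dvd (p q : ℕ) (g : Cfsg.SU 3 F q) (k : ℕ) (l : F)
    (h : ((g : Matrix.SpecialLinearGroup (Fin 3) F) : Matrix (Fin 3) (Fin 3) F).charpoly ∣
      X ^ k - C l) (ht : TargetU p q k) :
    TargetU p q (orderOf (QuotientGroup.mk g : Cfsg.PSU 3 F q)) :=
  TargetU.mono (orderOf_dvd_of_pow_eq_one
    (psu_pow_eq_one q g k l (pow_eq_scalar_of_dvd _ k l h))) ht

theorem pow_q1_of_fix (q : ℕ) (x : F) (hx0 : x ≠ 0) (h : (x⁻¹) ^ q = x) : x ^ (q + 1) = 1 := by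
  calc x ^ (q + 1) = x ^ q * x := pow_succ _ _
    _ = x ^ q * (x⁻¹) ^ q := by rw [h]
    _ = 1 := by rw [inv_pow, mul_inv_cancel₀ (pow_ne_zero _ hx0)]

theorem tU1 (p q : ℕ) : TargetU p q (q + 1) := Or.inl dvd_rfl
theorem tU2 (p q : ℕ) : TargetU p q (p * (q + 1) / Nat.gcd 3 (q + 1)) := Or.inr (Or.inl dvd_rfl)
theorem tU2' (p q : ℕ) : TargetU p q p := by
  refine Or.inr (Or.inl ?_)
  rw [Nat.mul_div_assoc p (du_dvd_q1 q)]
  exact dvd_mul_right _ _
theorem tU3 (p q : ℕ) : TargetU p q ((q ^ 2 - 1) / Nat.gcd 3 (q + 1)) :=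
  Or.inr (Or.inr (Or.inl dvd_rfl))
theorem tU4 (p q : ℕ) : TargetU p q ((q ^ 2 - q + 1) / Nat.gcd 3 (q + 1)) :=
  Or.inr (Or.inr (Or.inr dvd_rfl))

theorem spec_subset_U (p : ℕ) [Fact p.Prime] [CharP F p] (hp : p ≠ 2) (q : ℕ)
    (hF : Fintype.card F = q ^ 2) (x : Cfsg.PSU 3 F q) : TargetU p q (orderOf x) := by
  obtain ⟨g, rfl⟩ := QuotientGroup.mk_surjective x
  have hq := q_pos_of_card (F := F) q hF
  obtain ⟨n, hn⟩ := q_eq_pow (F := F) p q hF
  obtain ⟨hm, hd, h0⟩ := charpoly_facts (g : Matrix.SpecialLinearGroup (Fin 3) F)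
  have hdet : ((g : Matrix.SpecialLinearGroup (Fin 3) F) : Matrix (Fin 3) (Fin 3) F).det = 1 :=
    (g : Matrix.SpecialLinearGroup (Fin 3) F).det_coe
  have hrel := unitary_rel q (by omega) (g : Matrix.SpecialLinearGroup (Fin 3) F) g.2
  set G := ((g : Matrix.SpecialLinearGroup (Fin 3) F) : Matrix (Fin 3) (Fin 3) F) with hG
  set χ := G.charpoly with hχdef
  by_cases hr : ∃ a, χ.IsRoot a
  · obtain ⟨a, ha⟩ := hr
    obtain ⟨ψ, hψ⟩ := dvd_iff_isRoot.2 ha
    have hψ0 : ψ ≠ 0 := by
      rintro rfl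
      rw [mul_zero] at hψ
      exact hm.ne_zero hψ
    have hmψ : ψ.Monic := by
      have : ((X - C a) * ψ).Monic := hψ ▸ hm
      exact (monic_X_sub_C a).of_mul_monic_left this
    have hdψ : ψ.natDegree = 2 := by
      have := natDegree_mul (X_sub_C_ne_zero a) hψ0
      rw [← hψ, hd, natDegree_X_sub_C] at this
      omega
    have hc0 : a * ψ.coeff 0 = 1 := by
      have := congrArg (fun f : F[X] => f.coeff 0) hψ
      simp only [mul_coeff_zero, coeff_sub, coeff_X_zero, coeff_C_zero, zero_sub] at this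
      rw [h0] at this
      linear_combination this
    by_cases hr2 : ∃ b, ψ.IsRoot b
    · obtain ⟨b, hb⟩ := hr2
      obtain ⟨φ, hφ⟩ := dvd_iff_isRoot.2 hb
      have hφ0 : φ ≠ 0 := by
        rintro rfl
        rw [mul_zero] at hφ
        exact hψ0 hφ
      have hmφ : φ.Monic := by
        have : ((X - C b) * φ).Monic := hφ ▸ hmψ
        exact (monic_X_sub_C b).of_mul_monic_left this
      have hdφ : φ.natDegree = 1 := by
        have := natDegree_mul (X_sub_C_ne_zero b) hφ0
        rw [← hφ, hdψ, natDegree_X_sub_C] at this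
        omega
      have hφeq : φ = X - C (-φ.coeff 0) := by
        rw [C_neg, sub_neg_eq_add]
        exact hmφ.eq_X_add_C hdφ
      set c := -φ.coeff 0 with hc
      have hχ3 : χ = (X - C a) * ((X - C b) * (X - C c)) := by rw [hψ, hφ, hφeq]
      have habc : a * (b * c) = 1 := by
        have : ψ.coeff 0 = b * c := by
          rw [hφ, hφeq]
          simp [mul_coeff_zero]
        rw [← this]; exact hc0
      have ha0 : a ≠ 0 := left_ne_zero_of_mul_eq_one habc
      have hbc0 : b * c ≠ 0 := right_ne_zero_of_mul_eq_one habc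
      have hb0 : b ≠ 0 := left_ne_zero_of_mul hbc0
      have hcc0 : c ≠ 0 := right_ne_zero_of_mul hbc0
      have hmem : ∀ y, χ.IsRoot y → y = a ∨ y = b ∨ y = c := by
        intro y hy
        rw [hχ3, IsRoot.def, eval_mul, eval_mul] at hy
        simp only [eval_sub, eval_X, eval_C] at hy
        rcases mul_eq_zero.1 hy with h | h
        · exact Or.inl (sub_eq_zero.1 h)
        · rcases mul_eq_zero.1 h with h | h
          · exact Or.inr (Or.inl (sub_eq_zero.1 h))
          · exact Or.inr (Or.inr (sub_eq_zero.1 h))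
      have hrb : χ.IsRoot b := by
        rw [hχ3, IsRoot.def, eval_mul, eval_mul]
        simp
      have hrc : χ.IsRoot c := by
        rw [hχ3, IsRoot.def, eval_mul, eval_mul]
        simp
      have hfa := hmem _ (root_conj_F p n q hn hF G hdet hrel a ha0 ha)
      have hfb := hmem _ (root_conj_F p n q hn hF G hdet hrel b hb0 hrb)
      have hfc := hmem _ (root_conj_F p n q hn hF G hdet hrel c hcc0 hrc)
      by_cases fa : (a⁻¹) ^ q = a
      · by_cases fb : (b⁻¹) ^ q = b
        · by_cases fc : (c⁻¹) ^ q = c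
          · have ha1 := pow_q1_of_fix q a ha0 fa
            have hb1 := pow_q1_of_fix q b hb0 fb
            have hc1 := pow_q1_of_fix q c hcc0 fc
            by_cases hab : a = b
            · by_cases hbc : b = c
              · have hχt : χ = (X - C a) ^ 3 := by rw [hχ3, ← hbc, ← hab]; ring
                rcases caseTriple p χ a hχt with ⟨l, hl⟩ | ⟨hp2, _⟩
                · exact targetU_of_dvd p q g p l hl (tU2' p q)
                · exact absurd hp2 hp
              · have hχt : χ = (X - C a) ^ 2 * (X - C c) := by rw [hχ3, ← hab]; ring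
                obtain ⟨l, hl⟩ := double_gen p χ a c hχt (by rw [← habc, ← hab]; ring)
                  (hab ▸ hbc) (q + 1) _ (du_dvd_three q) (du_dvd_q1 q) (du_pos q) ha1
                exact targetU_of_dvd p q g _ l hl (tU2 p q)
            · by_cases hbc : b = c
              · have hχt : χ = (X - C b) ^ 2 * (X - C a) := by rw [hχ3, ← hbc]; ring
                obtain ⟨l, hl⟩ := double_gen p χ b a hχt (by rw [← habc, ← hbc]; ring)
                  (Ne.symm hab) (q + 1) _ (du_dvd_three q) (du_dvd_q1 q) (du_pos q) hb1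
                exact targetU_of_dvd p q g _ l hl (tU2 p q)
              · by_cases hac : a = c
                · have hχt : χ = (X - C a) ^ 2 * (X - C b) := by rw [hχ3, ← hac]; ring
                  obtain ⟨l, hl⟩ := double_gen p χ a b hχt (by rw [← habc, ← hac]; ring)
                    hab (q + 1) _ (du_dvd_three q) (du_dvd_q1 q) (du_pos q) ha1
                  exact targetU_of_dvd p q g _ l hl (tU2 p q)
                · have := distinct_gen χ a b c hχ3 hab hbc hac (q + 1) 1 ha1 hb1 hc1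
                  exact targetU_of_dvd p q g _ 1 this (tU1 p q)
          · rcases hfc with h | h | h
            · obtain ⟨l, hl⟩ := caseSwap q hF χ c a b (by rw [hχ3]; ring) (by rw [← habc]; ring)
                h.symm (fun hca => fc (h.trans hca.symm))
              exact targetU_of_dvd p q g _ l hl (tU3 p q)
            · obtain ⟨l, hl⟩ := caseSwap q hF χ c b a (by rw [hχ3]; ring) (by rw [← habc]; ring)
                h.symm (fun hcb => fc (h.trans hcb.symm))
              exact targetU_of_dvd p q g _ l hl (tU3 p q)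
            · exact absurd h fc
        · rcases hfb with h | h | h
          · obtain ⟨l, hl⟩ := caseSwap q hF χ b a c (by rw [hχ3]; ring) (by rw [← habc]; ring)
              h.symm (fun hba => fb (h.trans hba.symm))
            exact targetU_of_dvd p q g _ l hl (tU3 p q)
          · exact absurd h fb
          · obtain ⟨l, hl⟩ := caseSwap q hF χ b c a (by rw [hχ3]; ring) (by rw [← habc]; ring)
              h.symm (fun hbc => fb (h.trans hbc.symm))
            exact targetU_of_dvd p q g _ l hl (tU3 p q)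
      · rcases hfa with h | h | h
        · exact absurd h fa
        · obtain ⟨l, hl⟩ := caseSwap q hF χ a b c hχ3 habc
            h.symm (fun hab => fa (h.trans hab.symm))
          exact targetU_of_dvd p q g _ l hl (tU3 p q)
        · obtain ⟨l, hl⟩ := caseSwap q hF χ a c b (by rw [hχ3]; ring) (by rw [← habc]; ring)
            h.symm (fun hac => fa (h.trans hac.symm))
          exact targetU_of_dvd p q g _ l hl (tU3 p q)
    · -- ψ irreducible: impossible
      exfalso
      have hirr : Irreducible ψ := by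
        rw [hmψ.irreducible_iff_roots_eq_zero_of_degree_le_three (by omega) (by omega)]
        apply Multiset.eq_zero_of_forall_notMem
        intro b hb
        exact hr2 ⟨b, (mem_roots hψ0).1 hb⟩
      exact caseU_quad p n q hn hF G hdet hrel ψ a hψ hmψ hdψ hc0 hirr
  · have hirr : Irreducible χ := by
      rw [hm.irreducible_iff_roots_eq_zero_of_degree_le_three (by omega) (by omega)]
      apply Multiset.eq_zero_of_forall_notMem
      intro b hb
      exact hr ⟨b, (mem_roots hm.ne_zero).1 hb⟩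
    obtain ⟨l, hl⟩ := caseU_irr p n q hn hF G hdet hrel hm hd h0 hirr
    exact targetU_of_dvd p q g _ l hl (tU4 p q)

end Sub3

end Cfsg.Agent.helper25.U3
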