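import Mathlib
import Cfsg.Agent.Lib_helper26_EssP2

set_option autoImplicit false
set_option linter.style.haveILetI false

namespace Cfsg.Agent.h26AbEss

variable {H : Type*} [CommGroup H]

/-- `τ_α(x) = α(x) x⁻¹`. -/
def tau (α : MulAut H) : H →* H where
  toFun x := α x * x⁻¹
  map_one' := by simp
  map_mul' x y := by
    rw [map_mul, mul_inv]
    exact mul_mul_mul_comm _ _ _ _

theorem tau_apply (α : MulAut H) (x : H) : tau α x = α x * x⁻¹ := rfl

theorem apply_eq (α : MulAut H) (x : H) : α x = x * tau α x := by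
  rw [tau_apply, mul_comm (α x), ← mul_assoc, mul_inv_cancel, one_mul]

theorem tau_eq_one_iff (α : MulAut H) (x : H) : tau α x = 1 ↔ α x = x := by
  rw [tau_apply, mul_inv_eq_one]

theorem tau_comm (α : MulAut H) (x : H) : α (tau α x) = tau α (α x) := by
  rw [tau_apply, tau_apply, map_mul, map_inv]

theorem pow_apply_of_fixed (α : MulAut H) (x : H) (h : α (tau α x) = tau α x) (n : ℕ) :
    (α ^ n) x = x * (tau α x) ^ n := by
  induction n with
  | zero => simp
  | succ n ih =>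
    rw [pow_succ', MulAut.mul_apply, ih, map_mul, map_pow, h, apply_eq α x, pow_succ', mul_assoc]

theorem pow_apply4 (α : MulAut H) (m : H) (h4 : tau α (tau α (tau α (tau α m))) = 1) (n : ℕ) :
    (α ^ n) m = m * (tau α m) ^ n * (tau α (tau α m)) ^ (n.choose 2) *
      (tau α (tau α (tau α m))) ^ (n.choose 3) := by
  induction n with
  | zero => simp
  | succ n ih =>
    have h2 : (n + 1).choose 2 = n.choose 1 + n.choose 2 := Nat.choose_succ_succ' n 1
    have h3 : (n + 1).choose 3 = n.choose 2 + n.choose 3 := Nat.choose_succ_succ' n 2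
    rw [pow_succ', MulAut.mul_apply, ih]
    simp only [map_mul, map_pow]
    rw [apply_eq α m, apply_eq α (tau α m), apply_eq α (tau α (tau α m)),
      apply_eq α (tau α (tau α (tau α m))), h4, mul_one, h2, h3, Nat.choose_one_right]
    generalize tau α m = t1
    generalize tau α t1 = t2
    generalize tau α t2 = t3
    simp only [mul_pow, pow_add, pow_one]
    simp only [mul_comm, mul_left_comm, mul_assoc]

theorem fix_step {p : ℕ} (α : MulAut H) (i : ℕ) (hi : 1 ≤ i)
    (h : ∀ x : H, x ^ (p ^ i) = 1 → α x = x) :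
    ∀ x : H, x ^ (p ^ (i + 1)) = 1 → (α ^ p) x = x := by
  intro x hx
  have hxp : (x ^ p) ^ (p ^ i) = 1 := by rw [← pow_mul, ← pow_succ']; exact hx
  have h1 : α (x ^ p) = x ^ p := h _ hxp
  have ht : (tau α x) ^ p = 1 := by
    rw [tau_apply, mul_pow, inv_pow, ← map_pow, h1, mul_inv_cancel]
  have ht' : (tau α x) ^ (p ^ i) = 1 := by
    obtain ⟨j, rfl⟩ : ∃ j, i = j + 1 := ⟨i - 1, by omega⟩
    rw [pow_succ', pow_mul, ht, one_pow]
  have hfix : α (tau α x) = tau α x := h _ ht'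
  rw [pow_apply_of_fixed α x hfix, ht, mul_one]

theorem fix_pow {p : ℕ} (α : MulAut H) (h : ∀ x : H, x ^ p = 1 → α x = x) :
    ∀ i : ℕ, ∀ x : H, x ^ (p ^ (i + 1)) = 1 → (α ^ (p ^ i)) x = x := by
  intro i
  induction i with
  | zero =>
    intro x hx
    rw [pow_zero, pow_one]
    exact h x (by simpa using hx)
  | succ i ih =>
    intro x hx
    have := fix_step (p := p) (α ^ (p ^ i)) (i + 1) (by omega) ih x hx
    rwa [← pow_mul, ← pow_succ] at this

theorem pow_eq_one_of_fix [Finite H] {p : ℕ} [hp : Fact p.Prime] (hH : IsPGroup p H) (α : MulAut H)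
    (h : ∀ x : H, x ^ p = 1 → α x = x) : ∃ k : ℕ, α ^ (p ^ k) = 1 := by
  obtain ⟨m, hm⟩ := IsPGroup.iff_card.mp hH
  refine ⟨m, ?_⟩
  ext x
  have hx : x ^ (p ^ (m + 1)) = 1 := by
    rw [pow_succ, pow_mul, ← hm, pow_card_eq_one', one_pow]
  exact fix_pow α h m x hx

/-- `Ω₁(H)`. -/
def Om (p : ℕ) (H : Type*) [CommGroup H] : Subgroup H := (powMonoidHom p : H →* H).ker

theorem mem_Om {p : ℕ} {x : H} : x ∈ Om p H ↔ x ^ p = 1 := by
  unfold Om; rw [MonoidHom.mem_ker]; rfl

/-- restriction of automorphisms to `Ω₁(H)`. -/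
def resOm (p : ℕ) : MulAut H →* MulAut (Om p H) where
  toFun α :=
    { toFun := fun x => ⟨α x, by rw [mem_Om, ← map_pow, mem_Om.mp x.2, map_one]⟩
      invFun := fun x => ⟨α⁻¹ x, by rw [mem_Om, ← map_pow, mem_Om.mp x.2, map_one]⟩
      left_inv := fun x => by ext; simp
      right_inv := fun x => by ext; simp
      map_mul' := fun x y => by ext; simp }
  map_one' := by ext; rfl
  map_mul' := fun α β => by ext; rfl

theorem resOm_apply (p : ℕ) (α : MulAut H) (x : Om p H) : ((resOm p α) x : H) = α x := rfl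

theorem fix_of_card_prime {p : ℕ} [hp : Fact p.Prime] [Finite H] (α : MulAut H) (hα : α ^ p = 1)
    (T : Subgroup H) (hT : Nat.card T = p) (hinv : ∀ x ∈ T, α x ∈ T) : ∀ x ∈ T, α x = x := by
  haveI : Fact (Nat.card T).Prime := by rw [hT]; exact hp
  have hcyc : IsCyclic T := isCyclic_of_prime_card rfl
  obtain ⟨⟨t, htT⟩, ht⟩ := hcyc.exists_generator
  have hgen : ∀ x ∈ T, ∃ n : ℕ, t ^ n = x := by
    intro x hx
    have h1 := ht ⟨x, hx⟩
    rw [← mem_powers_iff_mem_zpowers, Submonoid.mem_powers_iff] at h1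
    obtain ⟨n, hn⟩ := h1
    exact ⟨n, congrArg Subtype.val hn⟩
  obtain ⟨c, hc⟩ := hgen (α t) (hinv t htT)
  have hpow : ∀ n : ℕ, (α ^ n) t = t ^ (c ^ n) := by
    intro n
    induction n with
    | zero => simp
    | succ n ih => rw [pow_succ', MulAut.mul_apply, ih, map_pow, ← hc, ← pow_mul, pow_succ']
  have h1 : t ^ (c ^ p) = t ^ 1 := by rw [← hpow, hα, pow_one]; rfl
  have hord : orderOf t = p := by
    have h2 : orderOf (⟨t, htT⟩ : T) = Nat.card T := orderOf_eq_card_of_forall_mem_zpowers ht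
    rw [hT] at h2
    rw [← h2]
    exact (Subgroup.orderOf_mk t htT).symm
  rw [pow_eq_pow_iff_modEq, hord] at h1
  have h2 : c ≡ 1 [MOD p] := by
    have h3 : ((c ^ p : ℕ) : ZMod p) = ((1 : ℕ) : ZMod p) := (ZMod.natCast_eq_natCast_iff _ _ _).mpr h1
    rw [Nat.cast_pow, ZMod.pow_card] at h3
    exact (ZMod.natCast_eq_natCast_iff _ _ _).mp h3
  have hfix : α t = t := by
    rw [← hc]
    conv_rhs => rw [← pow_one t]
    exact pow_eq_pow_iff_modEq.mpr (hord ▸ h2)
  intro x hx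
  obtain ⟨n, rfl⟩ := hgen x hx
  rw [map_pow, hfix]

theorem exists_fixed {p : ℕ} [hp : Fact p.Prime] [Finite H] (α : MulAut H) (hα : α ^ p = 1)
    (hdvd : p ∣ Nat.card (Om p H)) : ∃ w : H, w ^ p = 1 ∧ w ≠ 1 ∧ α w = w := by
  set β := resOm p α with hβdef
  have hβ : β ^ p = 1 := by rw [hβdef, ← map_pow, hα, map_one]
  have hG : IsPGroup p (Subgroup.zpowers β) := by
    rintro ⟨g, hg⟩
    obtain ⟨j, rfl⟩ := Subgroup.mem_zpowers_iff.mp hg
    refine ⟨1, Subtype.ext ?_⟩
    show (β ^ j) ^ (p ^ 1) = 1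
    rw [pow_one, ← zpow_natCast, ← zpow_mul, mul_comm, zpow_mul, zpow_natCast, hβ, one_zpow]
  have h1 : (1 : Om p H) ∈ MulAction.fixedPoints (Subgroup.zpowers β) (Om p H) := by
    intro g
    show (g : MulAut (Om p H)) 1 = 1
    exact map_one _
  obtain ⟨b, hb, hb1⟩ := hG.exists_fixed_point_of_prime_dvd_card_of_fixed_point (Om p H) hdvd h1
  refine ⟨b, mem_Om.mp b.2, fun h => hb1 (Subtype.ext h.symm), ?_⟩
  have h2 := hb ⟨β, Subgroup.mem_zpowers β⟩
  exact congrArg Subtype.val h2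

theorem tau_mem_Om {p : ℕ} (α : MulAut H) {x : H} (hx : x ^ p = 1) : (tau α x) ^ p = 1 := by
  rw [← map_pow, hx, map_one]

theorem tau_tau_eq_one {p : ℕ} [hp : Fact p.Prime] [Finite H] (α : MulAut H) (hα : α ^ p = 1)
    (hcard : Nat.card (Om p H) = p ^ 2) : ∀ x : H, x ^ p = 1 → tau α (tau α x) = 1 := by
  let f : Om p H →* H := (tau α).comp (Om p H).subtype
  obtain ⟨w, hw, hw1, hwf⟩ := exists_fixed α hα (by rw [hcard]; exact dvd_pow_self p two_ne_zero)
  have hker : f.ker ≠ ⊥ := by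
    intro h
    have h1 : (⟨w, mem_Om.mpr hw⟩ : Om p H) ∈ f.ker := by
      rw [MonoidHom.mem_ker]
      show tau α w = 1
      rwa [tau_eq_one_iff]
    rw [h, Subgroup.mem_bot] at h1
    exact hw1 (congrArg Subtype.val h1)
  have hmul : Nat.card f.ker * Nat.card f.range = Nat.card (Om p H) := by
    rw [← Subgroup.index_ker, Subgroup.card_mul_index]
  have hdk : Nat.card f.ker ∣ p ^ 2 := by rw [← hcard, ← hmul]; exact dvd_mul_right _ _
  obtain ⟨j, hj, hjk⟩ := (Nat.dvd_prime_pow hp.out).mp hdk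
  have hj0 : j ≠ 0 := by
    rintro rfl
    rw [pow_zero] at hjk
    exact hker (Subgroup.card_eq_one.mp hjk)
  have hrc : Nat.card f.range ∣ p := by
    have h3 : p ^ j * Nat.card f.range = p ^ 2 := by rw [← hjk, hmul, hcard]
    have hj' : j = 1 ∨ j = 2 := by omega
    rcases hj' with rfl | rfl
    · rw [pow_one, pow_two] at h3
      have := Nat.eq_of_mul_eq_mul_left hp.out.pos h3
      rw [this]
    · have h4 : p ^ 2 * Nat.card f.range = p ^ 2 * 1 := by rw [h3, mul_one]
      have := Nat.eq_of_mul_eq_mul_left (pow_pos hp.out.pos 2) h4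
      rw [this]; exact one_dvd _
  intro x hx
  have hxr : tau α x ∈ f.range := ⟨⟨x, mem_Om.mpr hx⟩, rfl⟩
  rcases (Nat.dvd_prime hp.out).mp hrc with h1 | hp1
  · have hb : f.range = ⊥ := Subgroup.card_eq_one.mp h1
    rw [hb, Subgroup.mem_bot] at hxr
    rw [hxr, map_one]
  · have hinv : ∀ y ∈ f.range, α y ∈ f.range := by
      rintro _ ⟨⟨y, hy⟩, rfl⟩
      refine ⟨⟨α y, ?_⟩, ?_⟩
      · rw [mem_Om, ← map_pow, mem_Om.mp hy, map_one]
      · show tau α (α y) = α (tau α y)
        rw [tau_comm]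
    have := fix_of_card_prime α hα f.range hp1 hinv _ hxr
    rwa [tau_eq_one_iff]

end Cfsg.Agent.h26AbEss
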