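import Mathlib
import Cfsg.Agent.Lib_helper26_AbEssA

set_option autoImplicit false
set_option linter.style.haveILetI false

namespace Cfsg.Agent.h26AbEss

variable {H : Type*} [CommGroup H]

section A

variable [Finite H] {p : ℕ} [hp : Fact p.Prime]

/-- an automorphism in `A` fixing `Ω₁(H)` pointwise is trivial. -/
theorem eq_one_of_fix (hH : IsPGroup p H) (A : Subgroup (MulAut H))
    (hcore : ∀ N : Subgroup A, N.Normal → IsPGroup p N → N = ⊥)
    (α : A) (hα : ∀ x : H, x ^ p = 1 → (α : MulAut H) x = x) : α = 1 := by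
  let K : Subgroup A :=
    { carrier := {β | ∀ x : H, x ^ p = 1 → (β : MulAut H) x = x}
      one_mem' := fun x _ => rfl
      mul_mem' := fun {a b} ha hb x hx => by
        show (a : MulAut H) ((b : MulAut H) x) = x
        rw [hb x hx, ha x hx]
      inv_mem' := fun {a} ha x hx => by
        show ((a : MulAut H)⁻¹) x = x
        conv_lhs => rw [← ha x hx]
        exact MulAut.inv_apply_self H _ _ }
  have hKn : K.Normal := by
    constructor
    intro n hn g x hx
    show (g : MulAut H) ((n : MulAut H) ((g : MulAut H)⁻¹ x)) = x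
    have h1 : ((g : MulAut H)⁻¹ x) ^ p = 1 := by rw [← map_pow, hx, map_one]
    rw [hn _ h1]
    exact MulAut.apply_inv_self H _ _
  have hKp : IsPGroup p K := by
    rintro ⟨β, hβ⟩
    obtain ⟨k, hk⟩ := pow_eq_one_of_fix hH (β : MulAut H) hβ
    refine ⟨k, Subtype.ext (Subtype.ext ?_)⟩
    rw [Subgroup.coe_pow, Subgroup.coe_pow]
    exact hk
  have h1 := hcore K hKn hKp
  have h2 : α ∈ K := hα
  rw [h1, Subgroup.mem_bot] at h2
  exact h2

theorem no_invariant_line (hH : IsPGroup p H) (A : Subgroup (MulAut H)) (hdvd : p ∣ Nat.card A)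
    (hcore : ∀ N : Subgroup A, N.Normal → IsPGroup p N → N = ⊥)
    (hcard : Nat.card (Om p H) = p ^ 2) (L : Subgroup H) (hL : L ≤ Om p H) (hLc : Nat.card L = p)
    (hinv : ∀ α ∈ A, ∀ x ∈ L, α x ∈ L) : False := by
  let U : Subgroup A :=
    { carrier := {α | (∀ x ∈ L, (α : MulAut H) x = x) ∧
        ∀ x : H, x ^ p = 1 → tau (α : MulAut H) x ∈ L}
      one_mem' := ⟨fun x _ => rfl, fun x _ => by
        have h0 : tau ((1 : A) : MulAut H) x = 1 := by rw [tau_eq_one_iff]; rfl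
        rw [h0]; exact L.one_mem⟩
      mul_mem' := by
        rintro a b ⟨ha1, ha2⟩ ⟨hb1, hb2⟩
        refine ⟨fun x hx => ?_, fun x hx => ?_⟩
        · show (a : MulAut H) ((b : MulAut H) x) = x
          rw [hb1 x hx, ha1 x hx]
        · have h1 : tau ((a * b : A) : MulAut H) x =
              tau (a : MulAut H) x * tau (b : MulAut H) x := by
            show (a : MulAut H) ((b : MulAut H) x) * x⁻¹ = _
            rw [apply_eq (b : MulAut H) x, map_mul, ha1 _ (hb2 x hx), tau_apply (a : MulAut H) x,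
              mul_right_comm]
          rw [h1]; exact L.mul_mem (ha2 x hx) (hb2 x hx)
      inv_mem' := by
        rintro a ⟨ha1, ha2⟩
        refine ⟨fun x hx => ?_, fun x hx => ?_⟩
        · show ((a : MulAut H)⁻¹) x = x
          conv_lhs => rw [← ha1 x hx]
          exact MulAut.inv_apply_self H _ _
        · have hyp : (((a : MulAut H)⁻¹) x) ^ p = 1 := by rw [← map_pow, hx, map_one]
          have h1 : tau ((a⁻¹ : A) : MulAut H) x =
              (tau (a : MulAut H) (((a : MulAut H)⁻¹) x))⁻¹ := by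
            show ((a : MulAut H)⁻¹) x * x⁻¹ =
              ((a : MulAut H) (((a : MulAut H)⁻¹) x) * (((a : MulAut H)⁻¹) x)⁻¹)⁻¹
            rw [MulAut.apply_inv_self H, mul_inv_rev, inv_inv]
          rw [h1]; exact L.inv_mem (ha2 _ hyp) }
  have hUn : U.Normal := by
    constructor
    rintro n ⟨hn1, hn2⟩ g
    refine ⟨fun x hx => ?_, fun x hx => ?_⟩
    · show (g : MulAut H) ((n : MulAut H) ((g : MulAut H)⁻¹ x)) = x
      have hgx : ((g : MulAut H)⁻¹) x ∈ L := hinv _ (A.inv_mem g.2) x hx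
      rw [hn1 _ hgx]
      exact MulAut.apply_inv_self H _ _
    · have hyp : (((g : MulAut H)⁻¹) x) ^ p = 1 := by rw [← map_pow, hx, map_one]
      have h1 : tau ((g * n * g⁻¹ : A) : MulAut H) x =
          (g : MulAut H) (tau (n : MulAut H) (((g : MulAut H)⁻¹) x)) := by
        show (g : MulAut H) ((n : MulAut H) ((g : MulAut H)⁻¹ x)) * x⁻¹ =
          (g : MulAut H) ((n : MulAut H) ((g : MulAut H)⁻¹ x) * ((g : MulAut H)⁻¹ x)⁻¹)
        rw [map_mul, map_inv, MulAut.apply_inv_self H]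
      rw [h1]
      exact hinv _ g.2 _ (hn2 _ hyp)
  have hUp : IsPGroup p U := by
    rintro ⟨β, hβ1, hβ2⟩
    have hfix : ∀ x : H, x ^ p = 1 → ((β : MulAut H) ^ p) x = x := by
      intro x hx
      have h1 : (β : MulAut H) (tau (β : MulAut H) x) = tau (β : MulAut H) x := hβ1 _ (hβ2 x hx)
      rw [pow_apply_of_fixed _ x h1, tau_mem_Om _ hx, mul_one]
    obtain ⟨k, hk⟩ := pow_eq_one_of_fix hH ((β : MulAut H) ^ p) hfix
    refine ⟨k + 1, Subtype.ext (Subtype.ext ?_)⟩
    rw [Subgroup.coe_pow, Subgroup.coe_pow, pow_succ', pow_mul]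
    exact hk
  have hU := hcore U hUn hUp
  obtain ⟨α, hαo⟩ := exists_prime_orderOf_dvd_card' p hdvd
  have hαp : (α : MulAut H) ^ p = 1 := by
    have h1 : α ^ p = 1 := by rw [← hαo]; exact pow_orderOf_eq_one α
    have h2 := congrArg (fun a : A => (a : MulAut H)) h1
    simpa using h2
  have hfixL : ∀ x ∈ L, (α : MulAut H) x = x :=
    fix_of_card_prime (α : MulAut H) hαp L hLc (hinv _ α.2)
  have hmem : α ∈ U := by
    refine ⟨hfixL, fun x hx => ?_⟩
    have htt := tau_tau_eq_one (α : MulAut H) hαp hcard x hx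
    rw [tau_eq_one_iff] at htt
    let C : Subgroup H := Om p H ⊓ (tau (α : MulAut H)).ker
    have hLC : L ≤ C := by
      intro y hy
      refine Subgroup.mem_inf.mpr ⟨hL hy, ?_⟩
      rw [MonoidHom.mem_ker, tau_eq_one_iff]
      exact hfixL y hy
    have hCO : C ≤ Om p H := inf_le_left
    have hdC : Nat.card C ∣ p ^ 2 := by
      rw [← hcard]; exact Subgroup.card_dvd_of_le hCO
    obtain ⟨j, hj, hjC⟩ := (Nat.dvd_prime_pow hp.out).mp hdC
    have hj0 : j ≠ 0 := by
      rintro rfl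
      rw [pow_zero] at hjC
      have h3 : Nat.card L ≤ Nat.card C := Subgroup.card_le_of_le hLC
      rw [hLc, hjC] at h3
      exact absurd h3 (not_le.mpr hp.out.one_lt)
    have hj' : j = 1 ∨ j = 2 := by omega
    rcases hj' with rfl | rfl
    · have hLeq : L = C := by
        apply Subgroup.eq_of_le_of_card_ge hLC
        rw [hLc, hjC, pow_one]
      rw [hLeq]
      refine Subgroup.mem_inf.mpr ⟨mem_Om.mpr (tau_mem_Om _ hx), ?_⟩
      rw [MonoidHom.mem_ker, tau_eq_one_iff]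
      exact htt
    · have hCeq : C = Om p H := by
        apply Subgroup.eq_of_le_of_card_ge hCO
        rw [hcard, hjC]
      have hxC : x ∈ C := by rw [hCeq]; exact mem_Om.mpr hx
      have h4 : tau (α : MulAut H) x = 1 := (Subgroup.mem_inf.mp hxC).2
      rw [h4]; exact L.one_mem
  rw [hU, Subgroup.mem_bot] at hmem
  rw [hmem, orderOf_one] at hαo
  exact hp.out.one_lt.ne hαo

end A

section Iso

variable [Finite H] {p : ℕ} [hp : Fact p.Prime]

/-- the subgroup of `n`-th powers. -/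
def Pw (n : ℕ) (H : Type*) [CommGroup H] : Subgroup H := (powMonoidHom n : H →* H).range

theorem mem_Pw {n : ℕ} {y : H} : y ∈ Pw n H ↔ ∃ x : H, x ^ n = y := by
  unfold Pw; rw [MonoidHom.mem_range]; rfl

theorem card_Pw_step (i : ℕ) (hOm : Om p H ≤ Pw (p ^ i) H) :
    Nat.card (Pw (p ^ i) H) = Nat.card (Om p H) * Nat.card (Pw (p ^ (i + 1)) H) := by
  let g : Pw (p ^ i) H →* H := (powMonoidHom p).comp (Pw (p ^ i) H).subtype
  have hr : g.range = Pw (p ^ (i + 1)) H := by
    ext y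
    constructor
    · rintro ⟨⟨z, hz⟩, rfl⟩
      obtain ⟨x, rfl⟩ := mem_Pw.mp hz
      exact mem_Pw.mpr ⟨x, by rw [pow_succ, pow_mul]; rfl⟩
    · intro hy
      obtain ⟨x, rfl⟩ := mem_Pw.mp hy
      refine ⟨⟨x ^ (p ^ i), mem_Pw.mpr ⟨x, rfl⟩⟩, ?_⟩
      show (x ^ p ^ i) ^ p = _
      rw [← pow_mul, ← pow_succ]
  have hk : g.ker = (Om p H).subgroupOf (Pw (p ^ i) H) := by
    ext ⟨z, hz⟩
    rw [MonoidHom.mem_ker, Subgroup.mem_subgroupOf, mem_Om]
    rfl
  have hmul : Nat.card g.ker * Nat.card g.range = Nat.card (Pw (p ^ i) H) := by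
    rw [← Subgroup.index_ker, Subgroup.card_mul_index]
  rw [← hmul, hr, hk, Nat.card_congr (Subgroup.subgroupOfEquivOfLe hOm).toEquiv]

theorem card_of_homocyclic (k : ℕ) (hk : ∀ x : H, x ^ (p ^ k) = 1)
    (hL : ∀ w : H, w ^ p = 1 → ∃ x : H, x ^ (p ^ (k - 1)) = w)
    (hcard : Nat.card (Om p H) = p ^ 2) : Nat.card H = p ^ (2 * k) := by
  have key : ∀ j ≤ k, Nat.card (Pw (p ^ (k - j)) H) = p ^ (2 * j) := by
    intro j
    induction j with
    | zero =>
      intro _
      have h0 : Pw (p ^ (k - 0)) H = ⊥ := by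
        rw [eq_bot_iff]
        intro y hy
        obtain ⟨x, rfl⟩ := mem_Pw.mp hy
        rw [Subgroup.mem_bot]
        exact hk x
      rw [h0]; simp
    | succ j ih =>
      intro hj
      have hOm : Om p H ≤ Pw (p ^ (k - (j + 1))) H := by
        intro w hw
        obtain ⟨x, hx⟩ := hL w (mem_Om.mp hw)
        refine mem_Pw.mpr ⟨x ^ (p ^ j), ?_⟩
        rw [← pow_mul, ← pow_add, ← hx]
        congr 2
        omega
      have h1 := card_Pw_step (k - (j + 1)) hOm
      have e : k - (j + 1) + 1 = k - j := by omega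
      rw [e, ih (by omega), hcard] at h1
      rw [h1]; ring
  have h0 := key k le_rfl
  have h1 : Pw (p ^ (k - k)) H = ⊤ := by
    rw [Nat.sub_self, pow_zero, eq_top_iff]
    intro y _
    exact mem_Pw.mpr ⟨y, pow_one y⟩
  rw [h1, Subgroup.card_top] at h0
  exact h0

theorem pow_val_add {n : ℕ} [NeZero n] (x : H) (hx : x ^ n = 1) (a b : ZMod n) :
    x ^ (a + b).val = x ^ a.val * x ^ b.val := by
  rw [ZMod.val_add, ← pow_add]
  exact (pow_eq_pow_mod _ hx).symm

/-- the homomorphism `(a, b) ↦ x₁^a x₂^b`. -/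
def prodHom (n : ℕ) [NeZero n] (x1 x2 : H) (h1 : x1 ^ n = 1) (h2 : x2 ^ n = 1) :
    Multiplicative (ZMod n × ZMod n) →* H where
  toFun g := x1 ^ (Multiplicative.toAdd g).1.val * x2 ^ (Multiplicative.toAdd g).2.val
  map_one' := by simp
  map_mul' g g' := by
    show x1 ^ ((Multiplicative.toAdd g).1 + (Multiplicative.toAdd g').1).val *
      x2 ^ ((Multiplicative.toAdd g).2 + (Multiplicative.toAdd g').2).val = _
    rw [pow_val_add x1 h1, pow_val_add x2 h2]
    exact mul_mul_mul_comm _ _ _ _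

theorem indep (w1 w2 : H) (hw1 : w1 ^ p = 1) (hw1' : w1 ≠ 1) (hw2 : w2 ^ p = 1)
    (hw2' : w2 ∉ Subgroup.zpowers w1) (a b : ℕ) (h : w1 ^ a * w2 ^ b = 1) : p ∣ a ∧ p ∣ b := by
  have ho1 : orderOf w1 = p := orderOf_eq_prime hw1 hw1'
  have hw2'' : w2 ≠ 1 := fun h => hw2' (h ▸ Subgroup.one_mem _)
  have ho2 : orderOf w2 = p := orderOf_eq_prime hw2 hw2''
  have hb : p ∣ b := by
    by_contra hb
    have hcop : Nat.Coprime b p := ((Nat.Prime.coprime_iff_not_dvd hp.out).mpr hb).symm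
    obtain ⟨b', -, hb'⟩ := Nat.exists_mul_mod_eq_one_of_coprime hcop hp.out.one_lt
    have h1 : w2 ^ b = (w1 ^ a)⁻¹ := eq_inv_of_mul_eq_one_right h
    have h2 : w2 ^ (b * b') = w2 := by
      conv_rhs => rw [← pow_one w2]
      rw [pow_eq_pow_iff_modEq, ho2]
      show b * b' % p = 1 % p
      rw [hb', Nat.mod_eq_of_lt hp.out.one_lt]
    apply hw2'
    rw [← h2, pow_mul, h1]
    exact Subgroup.pow_mem _ (Subgroup.inv_mem _ (Subgroup.pow_mem _ (Subgroup.mem_zpowers w1) a)) b'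
  refine ⟨?_, hb⟩
  obtain ⟨c, rfl⟩ := hb
  rw [pow_mul, hw2, one_pow, mul_one] at h
  rw [← ho1]; exact orderOf_dvd_of_pow_eq_one h

theorem val_eq_of_mul_eq_zero (k : ℕ) (hk1 : 1 ≤ k) (a : ZMod (p ^ k))
    (h : (p : ZMod (p ^ k)) * a = 0) : ∃ a' : ℕ, a.val = p ^ (k - 1) * a' := by
  haveI : NeZero (p ^ k) := ⟨pow_ne_zero _ hp.out.ne_zero⟩
  have h1 : ((p * a.val : ℕ) : ZMod (p ^ k)) = 0 := by
    rw [Nat.cast_mul, ZMod.natCast_zmod_val]; exact h
  rw [ZMod.natCast_eq_zero_iff] at h1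
  obtain ⟨j, rfl⟩ : ∃ j, k = j + 1 := ⟨k - 1, by omega⟩
  have h1' : p * p ^ j ∣ p * a.val := by rw [← pow_succ']; exact h1
  have h2 := Nat.dvd_of_mul_dvd_mul_left hp.out.pos h1'
  obtain ⟨a', ha'⟩ := h2
  exact ⟨a', by simpa using ha'⟩

theorem prodHom_injective (k : ℕ) (hk1 : 1 ≤ k) [NeZero (p ^ k)] (x1 x2 : H)
    (h1 : x1 ^ (p ^ k) = 1) (h2 : x2 ^ (p ^ k) = 1)
    (hw1' : x1 ^ (p ^ (k - 1)) ≠ 1)
    (hw2' : x2 ^ (p ^ (k - 1)) ∉ Subgroup.zpowers (x1 ^ (p ^ (k - 1)))) :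
    Function.Injective (prodHom (p ^ k) x1 x2 h1 h2) := by
  set f := prodHom (p ^ k) x1 x2 h1 h2 with hf
  rw [← MonoidHom.ker_eq_bot_iff]
  by_contra hker
  have hcardG : Nat.card (Multiplicative (ZMod (p ^ k) × ZMod (p ^ k))) = p ^ (2 * k) := by
    rw [Nat.card_eq_fintype_card, Fintype.card_multiplicative, Fintype.card_prod, ZMod.card]
    ring
  have hGp : IsPGroup p (Multiplicative (ZMod (p ^ k) × ZMod (p ^ k))) :=
    IsPGroup.of_card hcardG
  have hkp : IsPGroup p f.ker := hGp.to_subgroup _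
  obtain ⟨n, hn⟩ := IsPGroup.iff_card.mp hkp
  have hn0 : n ≠ 0 := by
    rintro rfl
    rw [pow_zero] at hn
    exact hker (Subgroup.card_eq_one.mp hn)
  have hdvd : p ∣ Nat.card f.ker := by rw [hn]; exact dvd_pow_self p hn0
  obtain ⟨⟨g, hg⟩, hgo⟩ := exists_prime_orderOf_dvd_card' p hdvd
  have hgo' : orderOf g = p := (Subgroup.orderOf_mk g hg).symm.trans hgo
  have hgp : g ^ p = 1 := by
    have h5 := pow_orderOf_eq_one g
    rwa [hgo'] at h5
  have hsm : p • Multiplicative.toAdd g = 0 := by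
    have := congrArg Multiplicative.toAdd hgp
    rwa [toAdd_pow, toAdd_one] at this
  have ha0 : (p : ZMod (p ^ k)) * (Multiplicative.toAdd g).1 = 0 := by
    have := congrArg Prod.fst hsm
    rwa [Prod.smul_fst, nsmul_eq_mul, Prod.fst_zero] at this
  have hb0 : (p : ZMod (p ^ k)) * (Multiplicative.toAdd g).2 = 0 := by
    have := congrArg Prod.snd hsm
    rwa [Prod.smul_snd, nsmul_eq_mul, Prod.snd_zero] at this
  obtain ⟨a', ha'⟩ := val_eq_of_mul_eq_zero k hk1 _ ha0
  obtain ⟨b', hb'⟩ := val_eq_of_mul_eq_zero k hk1 _ hb0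
  have hfg : x1 ^ (Multiplicative.toAdd g).1.val * x2 ^ (Multiplicative.toAdd g).2.val = 1 := hg
  rw [ha', hb', pow_mul, pow_mul] at hfg
  have hw1 : (x1 ^ (p ^ (k - 1))) ^ p = 1 := by
    rw [← pow_mul, ← pow_succ, Nat.sub_add_cancel hk1]; exact h1
  have hw2 : (x2 ^ (p ^ (k - 1))) ^ p = 1 := by
    rw [← pow_mul, ← pow_succ, Nat.sub_add_cancel hk1]; exact h2
  obtain ⟨hda, hdb⟩ := indep _ _ hw1 hw1' hw2 hw2' a' b' hfg
  have hpk : p ^ k = p ^ (k - 1) * p := by rw [← pow_succ, Nat.sub_add_cancel hk1]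
  have hva : (Multiplicative.toAdd g).1.val = 0 := by
    have hlt := ZMod.val_lt (Multiplicative.toAdd g).1
    have hdv : p ^ k ∣ (Multiplicative.toAdd g).1.val := by
      rw [ha', hpk]; exact Nat.mul_dvd_mul_left _ hda
    exact Nat.eq_zero_of_dvd_of_lt hdv hlt
  have hvb : (Multiplicative.toAdd g).2.val = 0 := by
    have hlt := ZMod.val_lt (Multiplicative.toAdd g).2
    have hdv : p ^ k ∣ (Multiplicative.toAdd g).2.val := by
      rw [hb', hpk]; exact Nat.mul_dvd_mul_left _ hdb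
    exact Nat.eq_zero_of_dvd_of_lt hdv hlt
  have hg1 : g = 1 := by
    have h3 : Multiplicative.toAdd g = 0 := by
      apply Prod.ext
      · exact (ZMod.val_eq_zero _).mp hva
      · exact (ZMod.val_eq_zero _).mp hvb
    exact Multiplicative.toAdd.injective h3
  rw [hg1, orderOf_one] at hgo'
  exact hp.out.one_lt.ne hgo'

end Iso

end Cfsg.Agent.h26AbEss
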