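import Mathlib
import Cfsg.Agent.Lib_helper26_AbEssB
import Cfsg.Agent.Lib_helper1_ElemAb

set_option autoImplicit false
set_option linter.style.haveILetI false

namespace Cfsg.Agent.h26AbEss

section Main

variable {H : Type*} [CommGroup H] [Finite H] {p : ℕ} [hp : Fact p.Prime]

theorem p_le_three (hH : IsPGroup p H) (A : Subgroup (MulAut H)) (hdvd : p ∣ Nat.card A)
    (hcore : ∀ N : Subgroup A, N.Normal → IsPGroup p N → N = ⊥)
    (hcard : Nat.card (Om p H) = p ^ 2) (k : ℕ) (hk2 : 2 ≤ k) (hk : ∀ x : H, x ^ (p ^ k) = 1)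
    (hL : ∀ w : H, w ^ p = 1 → ∃ x : H, x ^ (p ^ (k - 1)) = w) : p ≤ 3 := by
  by_contra hp3
  have hp4 : 4 ≤ p := by omega
  obtain ⟨α, hαo⟩ := exists_prime_orderOf_dvd_card' p hdvd
  have hαp : (α : MulAut H) ^ p = 1 := by
    have h1 : α ^ p = 1 := by rw [← hαo]; exact pow_orderOf_eq_one α
    have h2 := congrArg (fun a : A => (a : MulAut H)) h1
    simpa using h2
  have hN2 := tau_tau_eq_one (α : MulAut H) hαp hcard
  set τ := tau (α : MulAut H) with hτ
  have key : ∀ m : H, m ^ (p ^ 2) = 1 → (α : MulAut H) (m ^ p) = m ^ p := by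
    intro m hm
    have hmp : (m ^ p) ^ p = 1 := by rw [← pow_mul, ← pow_two]; exact hm
    have h2 : (τ (τ m)) ^ p = 1 := by
      rw [← map_pow, ← map_pow]; exact hN2 _ hmp
    have h4 : τ (τ (τ (τ m))) = 1 := hN2 _ h2
    have h3 : (τ (τ (τ m))) ^ p = 1 := by rw [← map_pow, h2, map_one]
    have hform := pow_apply4 (α : MulAut H) m h4 p
    rw [hαp] at hform
    obtain ⟨c2, hc2⟩ := Nat.Prime.dvd_choose_self hp.out (k := 2) (by norm_num) (by omega)
    obtain ⟨c3, hc3⟩ := Nat.Prime.dvd_choose_self hp.out (k := 3) (by norm_num) (by omega)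
    rw [hc2, hc3, pow_mul, pow_mul, h2, h3, one_pow, one_pow, mul_one, mul_one] at hform
    have h5 : (τ m) ^ p = 1 := by
      have h6 : m * 1 = m * (τ m) ^ p := by rw [mul_one]; exact hform
      exact (mul_left_cancel h6).symm
    rw [← map_pow] at h5
    exact (tau_eq_one_iff _ _).mp h5
  have hfix : ∀ w : H, w ^ p = 1 → (α : MulAut H) w = w := by
    intro w hw
    obtain ⟨x, rfl⟩ := hL w hw
    have e : k - 1 = (k - 2) + 1 := by omega
    rw [e, pow_succ, pow_mul]
    apply key
    rw [← pow_mul, ← pow_add]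
    have e2 : k - 2 + 2 = k := by omega
    rw [e2]; exact hk x
  have h1 := eq_one_of_fix hH A hcore α hfix
  rw [h1, orderOf_one] at hαo
  exact hp.out.one_lt.ne hαo

theorem main_comm (hH : IsPGroup p H) (A : Subgroup (MulAut H))
    (hdvd : p ∣ Nat.card A) (hcore : ∀ N : Subgroup A, N.Normal → IsPGroup p N → N = ⊥)
    (hrk : Nat.card (Om p H) ≤ p ^ 2) :
    ((∀ a : H, a ^ p = 1) ∧ Nat.card H = p ^ 2) ∨
      (p ≤ 3 ∧ ∃ k : ℕ, Nonempty (H ≃* Multiplicative (ZMod (p ^ k) × ZMod (p ^ k)))) := by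
  have hOmp : IsPGroup p (Om p H) := hH.to_subgroup _
  obtain ⟨j, hj⟩ := IsPGroup.iff_card.mp hOmp
  have hj2 : j ≤ 2 := by
    rw [hj] at hrk
    exact (Nat.pow_le_pow_iff_right hp.out.one_lt).mp hrk
  have hj' : j = 0 ∨ j = 1 ∨ j = 2 := by omega
  rcases hj' with rfl | rfl | rfl
  · -- Ω₁ trivial
    exfalso
    rw [pow_zero] at hj
    have hbot : Om p H = ⊥ := Subgroup.card_eq_one.mp hj
    have hall : ∀ α : A, α = 1 := by
      intro α
      apply eq_one_of_fix hH A hcore α
      intro x hx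
      have hx1 : x ∈ Om p H := mem_Om.mpr hx
      rw [hbot, Subgroup.mem_bot] at hx1
      rw [hx1, map_one]
    haveI : Subsingleton A := ⟨fun a b => by rw [hall a, hall b]⟩
    rw [Nat.card_of_subsingleton (1 : A)] at hdvd
    exact hp.out.one_lt.ne' (Nat.dvd_one.mp hdvd)
  · -- Ω₁ of order p
    exfalso
    rw [pow_one] at hj
    haveI : Fact (Nat.card (Om p H)).Prime := by rw [hj]; exact hp
    haveI hcyc : IsCyclic (Om p H) := isCyclic_of_prime_card rfl
    let φ : A →* MulAut (Om p H) := (resOm p).comp A.subtype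
    have hφ : Function.Injective φ := by
      rw [injective_iff_map_eq_one]
      intro α hα
      apply eq_one_of_fix hH A hcore α
      intro x hx
      have h1 := congrArg (fun e : MulAut (Om p H) => ((e ⟨x, mem_Om.mpr hx⟩ : Om p H) : H)) hα
      exact h1
    have h1 := Subgroup.card_dvd_of_injective φ hφ
    rw [IsCyclic.card_mulAut, hj, Nat.totient_prime hp.out] at h1
    have h2 : p ∣ p - 1 := hdvd.trans h1
    have h3 := Nat.le_of_dvd (by have := hp.out.two_le; omega) h2
    have := hp.out.two_le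
    omega
  · -- main case
    have hex : ∃ k : ℕ, ∀ x : H, x ^ (p ^ k) = 1 := by
      obtain ⟨m, hm⟩ := IsPGroup.iff_card.mp hH
      exact ⟨m, fun x => by rw [← hm]; exact pow_card_eq_one'⟩
    classical
    let k := Nat.find hex
    have hk : ∀ x : H, x ^ (p ^ k) = 1 := Nat.find_spec hex
    have hOmne : Om p H ≠ ⊥ := by
      intro h
      rw [h] at hj
      simp at hj
      have := hp.out.one_lt
      nlinarith [hj]
    have hk1 : 1 ≤ k := by
      by_contra hk0
      have hk0' : k = 0 := by omega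
      apply hOmne
      rw [eq_bot_iff]
      intro x _
      have := hk x
      rw [hk0', pow_zero, pow_one] at this
      rw [Subgroup.mem_bot]; exact this
    have hmin : ∃ x : H, x ^ (p ^ (k - 1)) ≠ 1 := by
      by_contra hno
      push Not at hno
      exact Nat.find_min hex (m := k - 1) (by omega) hno
    let L : Subgroup H := Pw (p ^ (k - 1)) H
    have hLO : L ≤ Om p H := by
      intro y hy
      obtain ⟨x, rfl⟩ := mem_Pw.mp hy
      rw [mem_Om, ← pow_mul, ← pow_succ, Nat.sub_add_cancel hk1]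
      exact hk x
    have hLne : L ≠ ⊥ := by
      intro h
      obtain ⟨x, hx⟩ := hmin
      have : x ^ (p ^ (k - 1)) ∈ L := mem_Pw.mpr ⟨x, rfl⟩
      rw [h, Subgroup.mem_bot] at this
      exact hx this
    have hLinv : ∀ α ∈ A, ∀ x ∈ L, α x ∈ L := by
      intro α _ y hy
      obtain ⟨x, rfl⟩ := mem_Pw.mp hy
      exact mem_Pw.mpr ⟨α x, (map_pow α x _).symm⟩
    have hdL : Nat.card L ∣ p ^ 2 := by rw [← hj]; exact Subgroup.card_dvd_of_le hLO
    obtain ⟨i, hi, hiL⟩ := (Nat.dvd_prime_pow hp.out).mp hdL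
    have hi0 : i ≠ 0 := by
      rintro rfl
      rw [pow_zero] at hiL
      exact hLne (Subgroup.card_eq_one.mp hiL)
    have hi' : i = 1 ∨ i = 2 := by omega
    have hLeq : L = Om p H := by
      rcases hi' with rfl | rfl
      · exfalso
        rw [pow_one] at hiL
        exact no_invariant_line hH A hdvd hcore hj L hLO hiL hLinv
      · apply Subgroup.eq_of_le_of_card_ge hLO
        rw [hj, hiL]
    have hL : ∀ w : H, w ^ p = 1 → ∃ x : H, x ^ (p ^ (k - 1)) = w := by
      intro w hw
      have : w ∈ L := by rw [hLeq]; exact mem_Om.mpr hw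
      exact mem_Pw.mp this
    have hcardH : Nat.card H = p ^ (2 * k) := card_of_homocyclic k hk hL hj
    by_cases hk1' : k = 1
    · left
      refine ⟨fun a => ?_, ?_⟩
      · have := hk a
        rwa [hk1', pow_one] at this
      · rw [hcardH, hk1']
    · right
      have hk2 : 2 ≤ k := by omega
      refine ⟨p_le_three hH A hdvd hcore hj k hk2 hk hL, k, ?_⟩
      -- construct the isomorphism
      obtain ⟨⟨w1, hw1m⟩, hw1ne⟩ := (Subgroup.ne_bot_iff_exists_ne_one).mp hOmne
      have hw1 : w1 ^ p = 1 := mem_Om.mp hw1m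
      have hw1' : w1 ≠ 1 := fun h => hw1ne (Subtype.ext h)
      have ho1 : orderOf w1 = p := orderOf_eq_prime hw1 hw1'
      have hnle : ¬ Om p H ≤ Subgroup.zpowers w1 := by
        intro hle
        have h1 := Subgroup.card_le_of_le hle
        rw [hj, Nat.card_zpowers, ho1] at h1
        have := hp.out.one_lt
        nlinarith [h1]
      obtain ⟨w2, hw2m, hw2n⟩ := SetLike.not_le_iff_exists.mp hnle
      have hw2 : w2 ^ p = 1 := mem_Om.mp hw2m
      obtain ⟨x1, hx1⟩ := hL w1 hw1
      obtain ⟨x2, hx2⟩ := hL w2 hw2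
      haveI : NeZero (p ^ k) := ⟨pow_ne_zero _ hp.out.ne_zero⟩
      have hinj := prodHom_injective k hk1 x1 x2 (hk x1) (hk x2) (by rw [hx1]; exact hw1')
        (by rw [hx1, hx2]; exact hw2n)
      have hcardG : Nat.card (Multiplicative (ZMod (p ^ k) × ZMod (p ^ k))) = p ^ (2 * k) := by
        rw [Nat.card_eq_fintype_card, Fintype.card_multiplicative, Fintype.card_prod, ZMod.card]
        ring
      have hbij := hinj.bijective_of_nat_card_le (by rw [hcardG, hcardH])
      exact ⟨(MulEquiv.ofBijective _ hbij).symm⟩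

end Main

/-- Version for a group with a commutativity hypothesis, in terms of the Frattini subgroup. -/
theorem main {H : Type*} [Group H] [Finite H] {p : ℕ} [hp : Fact p.Prime]
    (hc : ∀ a b : H, a * b = b * a) (hH : IsPGroup p H) (A : Subgroup (MulAut H))
    (hdvd : p ∣ Nat.card A) (hcore : ∀ N : Subgroup A, N.Normal → IsPGroup p N → N = ⊥)
    (hrk : (frattini H).index ≤ p ^ 2) :
    ((∀ a : H, a ^ p = 1) ∧ Nat.card H = p ^ 2) ∨
      (p ≤ 3 ∧ ∃ k : ℕ, Nonempty (H ≃* Multiplicative (ZMod (p ^ k) × ZMod (p ^ k)))) := by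
  letI iC : CommGroup H := { (inferInstance : Group H) with mul_comm := hc }
  apply main_comm hH A hdvd hcore
  have hfr : frattini H ≤ Pw p H := by
    apply Cfsg.Agent.helper1.frattini_le_of_elemAb_quot (p := p) (Pw p H)
    · rw [commutator_def, Subgroup.commutator_le]
      intro g₁ _ g₂ _
      rw [commutatorElement_eq_one_iff_commute.mpr (Commute.all g₁ g₂)]
      exact Subgroup.one_mem _
    · intro x
      exact mem_Pw.mpr ⟨x, rfl⟩
  have h1 : (Pw p H).index ≤ (frattini H).index :=
    Nat.le_of_dvd (Nat.pos_of_ne_zero Subgroup.index_ne_zero_of_finite) (Subgroup.index_dvd_of_le hfr)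
  have h2 : Nat.card (Om p H) = (Pw p H).index := by
    have e1 : Nat.card (Om p H) * Nat.card (Pw p H) = Nat.card H := by
      have := Subgroup.card_mul_index (Om p H)
      rw [← this]
      congr 1
      exact (Subgroup.index_ker (powMonoidHom p : H →* H)).symm
    have e2 := Subgroup.card_mul_index (Pw p H)
    have hpos : 0 < Nat.card (Pw p H) := Nat.card_pos
    have e3 : Nat.card (Pw p H) * Nat.card (Om p H) = Nat.card (Pw p H) * (Pw p H).index := by
      rw [e2, mul_comm, e1]
    exact Nat.eq_of_mul_eq_mul_left hpos e3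
  rw [h2]
  exact h1.trans hrk

end Cfsg.Agent.h26AbEss
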