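import Mathlib

set_option autoImplicit false

namespace Cfsg.Agent.h26AbIdx

open Subgroup

variable {Ω : Type*} [Group Ω]

/-- Element-level hypotheses for a nonabelian group `S` with an abelian normal subgroup `A`
with cyclic quotient generated by any element outside `A`. -/
structure Setup (S A : Subgroup Ω) : Prop where
  hAS : A ≤ S
  hAc : ∀ a ∈ A, ∀ b ∈ A, a * b = b * a
  hAn : ∀ s ∈ S, ∀ a ∈ A, s * a * s⁻¹ ∈ A
  hdec : ∀ x ∈ S, x ∉ A → ∀ s ∈ S, ∃ a ∈ A, ∃ k : ℕ, s = a * x ^ k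
  hna : ∃ s ∈ S, ∃ t ∈ S, s * t ≠ t * s

theorem setup_of {S A : Subgroup Ω} [Finite S] {p : ℕ} [hp : Fact p.Prime] (hS : IsPGroup p S)
    (hna : ¬ IsMulCommutative ↥S) (hAS : A ≤ S) (hAc : IsMulCommutative ↥A)
    (hidx : (A.subgroupOf S).index = p) : Setup S A := by
  obtain ⟨n, hn⟩ := IsPGroup.iff_card.mp hS
  have hn0 : n ≠ 0 := by
    rintro rfl
    have h1 : (A.subgroupOf S).index ∣ Nat.card S := Subgroup.index_dvd_card _
    rw [hidx, hn, pow_zero] at h1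
    exact hp.out.one_lt.ne' (Nat.dvd_one.mp h1)
  have hnorm : (A.subgroupOf S).Normal := by
    apply Subgroup.normal_of_index_eq_minFac_card
    rw [hidx, hn, Nat.pow_minFac hn0, Nat.Prime.minFac_eq hp.out]
  have hAn : ∀ s ∈ S, ∀ a ∈ A, s * a * s⁻¹ ∈ A := by
    intro s hs a ha
    have := hnorm.conj_mem ⟨a, hAS ha⟩ (Subgroup.mem_subgroupOf.mpr ha) ⟨s, hs⟩
    exact Subgroup.mem_subgroupOf.mp this
  refine ⟨hAS, ?_, hAn, ?_, ?_⟩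
  · intro a ha b hb
    exact congrArg Subtype.val (hAc.is_comm.comm ⟨a, ha⟩ ⟨b, hb⟩)
  · intro x hx hxA s hs
    have hQ : Nat.card (↥S ⧸ A.subgroupOf S) = p := by rw [← Subgroup.index_eq_card, hidx]
    have hne : (QuotientGroup.mk ⟨x, hx⟩ : ↥S ⧸ A.subgroupOf S) ≠ 1 := by
      intro h
      rw [QuotientGroup.eq_one_iff] at h
      exact hxA (Subgroup.mem_subgroupOf.mp h)
    obtain ⟨k, hk⟩ := (Submonoid.mem_powers_iff _ _).mp
      (mem_powers_of_prime_card hQ hne (g' := (QuotientGroup.mk ⟨s, hs⟩ : ↥S ⧸ A.subgroupOf S)))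
    rw [← QuotientGroup.mk_pow, QuotientGroup.eq] at hk
    have h2 : (x ^ k)⁻¹ * s ∈ A := by
      have := Subgroup.mem_subgroupOf.mp hk
      simpa using this
    refine ⟨x ^ k * ((x ^ k)⁻¹ * s) * (x ^ k)⁻¹, hAn _ (S.pow_mem hx k) _ h2, k, ?_⟩
    group
  · by_contra h
    push Not at h
    exact hna ⟨⟨fun a b => Subtype.ext (h a a.2 b b.2)⟩⟩

/-- the commutator map `a ↦ [x,a]` -/
def fx (x a : Ω) : Ω := x * a * x⁻¹ * a⁻¹

theorem fx_one (x : Ω) : fx x 1 = 1 := by simp [fx]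

theorem fx_eq_one_iff {x a : Ω} : fx x a = 1 ↔ x * a = a * x := by
  unfold fx
  rw [mul_inv_eq_one, mul_inv_eq_iff_eq_mul]

theorem mem_Z2_iff {S : Subgroup Ω} {y : Ω} :
    y ∈ (_root_.upperCentralSeries ↥S 2).map S.subtype ↔
      y ∈ S ∧ ∀ s ∈ S, y * s * y⁻¹ * s⁻¹ ∈ S ⊓ centralizer (S : Set Ω) := by
  constructor
  · rintro ⟨y', hy', rfl⟩
    refine ⟨y'.2, fun s hs => ?_⟩
    have h1 : y' * (⟨s, hs⟩ : ↥S) * y'⁻¹ * (⟨s, hs⟩ : ↥S)⁻¹ ∈ Subgroup.upperCentralSeries ↥S 1 :=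
      hy' ⟨s, hs⟩
    rw [Subgroup.upperCentralSeries_one, Subgroup.mem_center_iff] at h1
    refine ⟨?_, mem_centralizer_iff.mpr fun g hg => ?_⟩
    · exact S.mul_mem (S.mul_mem (S.mul_mem y'.2 hs) (S.inv_mem y'.2)) (S.inv_mem hs)
    · exact congrArg Subtype.val (h1 ⟨g, hg⟩)
  · rintro ⟨hy, h⟩
    refine ⟨⟨y, hy⟩, ?_, rfl⟩
    show (⟨y, hy⟩ : ↥S) ∈ Subgroup.upperCentralSeries ↥S (1 + 1)
    rw [Subgroup.mem_upperCentralSeries_succ_iff]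
    intro s
    rw [Subgroup.upperCentralSeries_one, Subgroup.mem_center_iff]
    intro g
    apply Subtype.ext
    exact mem_centralizer_iff.mp (h s.1 s.2).2 g.1 g.2

namespace Setup

variable {S A : Subgroup Ω} (h : Setup S A)

include h

theorem Z_le_A : S ⊓ centralizer (S : Set Ω) ≤ A := by
  intro z hz
  by_contra hzA
  obtain ⟨s, hs, t, ht, hst⟩ := h.hna
  obtain ⟨a, ha, k, rfl⟩ := h.hdec z hz.1 hzA s hs
  obtain ⟨b, hb, j, rfl⟩ := h.hdec z hz.1 hzA t ht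
  apply hst
  have hzc : ∀ g ∈ S, Commute g z := fun g hg => mem_centralizer_iff.mp hz.2 g hg
  have hza := hzc a (h.hAS ha)
  have hzb := hzc b (h.hAS hb)
  have hab : Commute a b := h.hAc a ha b hb
  have c1 : Commute a (b * z ^ j) := hab.mul_right (hza.pow_right j)
  have c2 : Commute (z ^ k) (b * z ^ j) :=
    (hzb.symm.pow_left k).mul_right (Commute.pow_pow_self z k j)
  exact (c1.mul_left c2).eq

theorem cent_A {x : Ω} (hx : x ∈ S) (hxA : x ∉ A) {a : Ω} (ha : a ∈ A) (hax : a * x = x * a) :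
    a ∈ S ⊓ centralizer (S : Set Ω) := by
  refine ⟨h.hAS ha, mem_centralizer_iff.mpr fun s hs => ?_⟩
  obtain ⟨b, hb, k, rfl⟩ := h.hdec x hx hxA s hs
  have c1 : Commute a b := h.hAc a ha b hb
  have c2 : Commute a (x ^ k) := Commute.pow_right hax k
  exact ((c1.mul_right c2).eq).symm

theorem fx_mem {x a : Ω} (hx : x ∈ S) (ha : a ∈ A) : fx x a ∈ A :=
  A.mul_mem (h.hAn x hx a ha) (A.inv_mem ha)

theorem fx_mul {x a b : Ω} (hx : x ∈ S) (ha : a ∈ A) (hb : b ∈ A) :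
    fx x (a * b) = fx x a * fx x b := by
  have hc : a⁻¹ * (x * b * x⁻¹ * b⁻¹) = (x * b * x⁻¹ * b⁻¹) * a⁻¹ :=
    h.hAc _ (A.inv_mem ha) _ (h.fx_mem hx hb)
  unfold fx
  calc x * (a * b) * x⁻¹ * (a * b)⁻¹ = x * a * x⁻¹ * ((x * b * x⁻¹ * b⁻¹) * a⁻¹) := by group
    _ = x * a * x⁻¹ * (a⁻¹ * (x * b * x⁻¹ * b⁻¹)) := by rw [hc]
    _ = _ := by group

theorem fx_inv {x a : Ω} (hx : x ∈ S) (ha : a ∈ A) : fx x a⁻¹ = (fx x a)⁻¹ := by
  have h1 := h.fx_mul hx ha (A.inv_mem ha)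
  rw [mul_inv_cancel, fx_one] at h1
  exact (inv_eq_of_mul_eq_one_right h1.symm).symm

/-- the commutator homomorphism `A → A` -/
def fhom {x : Ω} (hx : x ∈ S) : ↥A →* ↥A where
  toFun a := ⟨fx x a, h.fx_mem hx a.2⟩
  map_one' := Subtype.ext (fx_one x)
  map_mul' a b := Subtype.ext (h.fx_mul hx a.2 b.2)

theorem fhom_apply {x : Ω} (hx : x ∈ S) (a : ↥A) : ((h.fhom hx a : ↥A) : Ω) = fx x a := rfl

theorem ker_fhom {x : Ω} (hx : x ∈ S) (hxA : x ∉ A) :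
    (h.fhom hx).ker = (S ⊓ centralizer (S : Set Ω)).subgroupOf A := by
  ext a
  rw [MonoidHom.mem_ker, Subgroup.mem_subgroupOf]
  constructor
  · intro h1
    have h2 : fx x a = 1 := congrArg Subtype.val h1
    rw [fx_eq_one_iff] at h2
    exact h.cent_A hx hxA a.2 h2.symm
  · intro h1
    apply Subtype.ext
    show fx x a = 1
    rw [fx_eq_one_iff]
    exact (mem_centralizer_iff.mp h1.2 x hx)

theorem pow_conj {x : Ω} (hx : x ∈ S) (k : ℕ) :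
    ∀ a ∈ A, ∃ b ∈ A, x ^ k * a * (x ^ k)⁻¹ * a⁻¹ = fx x b := by
  induction k with
  | zero => intro a _; exact ⟨1, A.one_mem, by simp [fx]⟩
  | succ k ih =>
    intro a ha
    obtain ⟨b, hb, hb2⟩ := ih a ha
    have ha' : x ^ k * a * (x ^ k)⁻¹ ∈ A := h.hAn _ (S.pow_mem hx k) a ha
    refine ⟨x ^ k * a * (x ^ k)⁻¹ * b, A.mul_mem ha' hb, ?_⟩
    rw [h.fx_mul hx ha' hb, ← hb2]
    unfold fx
    rw [pow_succ']
    group

theorem comm_mem {x : Ω} (hx : x ∈ S) (hxA : x ∉ A) {s t : Ω} (hs : s ∈ S) (ht : t ∈ S) :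
    ∃ c ∈ A, s * t * s⁻¹ * t⁻¹ = fx x c := by
  obtain ⟨a, ha, k, rfl⟩ := h.hdec x hx hxA s hs
  obtain ⟨b, hb, j, rfl⟩ := h.hdec x hx hxA t ht
  obtain ⟨c, hc, hc2⟩ := h.pow_conj hx j a⁻¹ (A.inv_mem ha)
  obtain ⟨d, hd, hd2⟩ := h.pow_conj hx k b hb
  refine ⟨c * d, A.mul_mem hc hd, ?_⟩
  rw [h.fx_mul hx hc hd, ← hc2, ← hd2, inv_inv]
  have hu : x ^ k * b * (x ^ k)⁻¹ ∈ A := h.hAn _ (S.pow_mem hx k) b hb
  have hv : x ^ j * a⁻¹ * (x ^ j)⁻¹ ∈ A := h.hAn _ (S.pow_mem hx j) _ (A.inv_mem ha)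
  have huv := h.hAc _ hu _ hv
  have hav := h.hAc _ ha _ hv
  calc a * x ^ k * (b * x ^ j) * (a * x ^ k)⁻¹ * (b * x ^ j)⁻¹
      = a * ((x ^ k * b * (x ^ k)⁻¹) * (x ^ j * a⁻¹ * (x ^ j)⁻¹)) * b⁻¹ := by group
    _ = a * ((x ^ j * a⁻¹ * (x ^ j)⁻¹) * (x ^ k * b * (x ^ k)⁻¹)) * b⁻¹ := by rw [huv]
    _ = (a * (x ^ j * a⁻¹ * (x ^ j)⁻¹)) * (x ^ k * b * (x ^ k)⁻¹ * b⁻¹) := by group
    _ = ((x ^ j * a⁻¹ * (x ^ j)⁻¹) * a) * (x ^ k * b * (x ^ k)⁻¹ * b⁻¹) := by rw [hav]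

theorem comm_eq {x : Ω} (hx : x ∈ S) (hxA : x ∉ A) :
    ⁅S, S⁆ = (h.fhom hx).range.map A.subtype := by
  apply le_antisymm
  · rw [Subgroup.commutator_le]
    intro s hs t ht
    obtain ⟨c, hc, hc2⟩ := h.comm_mem hx hxA hs ht
    refine ⟨⟨fx x c, h.fx_mem hx hc⟩, ⟨⟨c, hc⟩, rfl⟩, ?_⟩
    rw [commutatorElement_def]
    exact hc2.symm
  · rintro _ ⟨_, ⟨a, rfl⟩, rfl⟩
    exact Subgroup.commutator_mem_commutator hx (h.hAS a.2)

theorem comm_le_A : ⁅S, S⁆ ≤ A := by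
  obtain ⟨s, hs, t, ht, hst⟩ := h.hna
  have : ∃ x ∈ S, x ∉ A := by
    by_contra hcon
    push Not at hcon
    exact hst (h.hAc s (hcon s hs) t (hcon t ht))
  obtain ⟨x, hx, hxA⟩ := this
  rw [h.comm_eq hx hxA]
  exact Subgroup.map_subtype_le _

theorem exists_not_mem : ∃ x ∈ S, x ∉ A := by
  obtain ⟨s, hs, t, ht, hst⟩ := h.hna
  by_contra hcon
  push Not at hcon
  exact hst (h.hAc s (hcon s hs) t (hcon t ht))

/-- if `[x,a]` is central then `x^k a x^-k = [x,a]^k a` -/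
theorem pow_conj_central {x a : Ω} (hz : fx x a ∈ S ⊓ centralizer (S : Set Ω)) (hx : x ∈ S)
    (k : ℕ) : x ^ k * a * (x ^ k)⁻¹ = fx x a ^ k * a := by
  induction k with
  | zero => simp
  | succ k ih =>
    have hc : x * fx x a ^ k = fx x a ^ k * x :=
      (Commute.pow_right (mem_centralizer_iff.mp hz.2 x hx) k).eq
    calc x ^ (k + 1) * a * (x ^ (k + 1))⁻¹ = x * (x ^ k * a * (x ^ k)⁻¹) * x⁻¹ := by
          rw [pow_succ']; group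
      _ = x * (fx x a ^ k * a) * x⁻¹ := by rw [ih]
      _ = (x * fx x a ^ k) * a * x⁻¹ := by group
      _ = fx x a ^ k * x * a * x⁻¹ := by rw [hc]
      _ = fx x a ^ k * (x * a * x⁻¹ * a⁻¹) * a := by group
      _ = fx x a ^ (k + 1) * a := by rw [pow_succ]; rfl

/-- elements `a ∈ A` with `[x,a]` central lie in `Z₂`. -/
theorem mem_Z2_of {x a : Ω} (hx : x ∈ S) (hxA : x ∉ A) (ha : a ∈ A)
    (hz : fx x a ∈ S ⊓ centralizer (S : Set Ω)) :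
    a ∈ (_root_.upperCentralSeries ↥S 2).map S.subtype := by
  rw [mem_Z2_iff]
  refine ⟨h.hAS ha, fun s hs => ?_⟩
  obtain ⟨b, hb, k, rfl⟩ := h.hdec x hx hxA s hs
  have h1 := h.pow_conj_central hz hx k
  have hv : x ^ k * a⁻¹ * (x ^ k)⁻¹ ∈ A := h.hAn _ (S.pow_mem hx k) _ (A.inv_mem ha)
  have hbv := h.hAc _ hb _ hv
  have e : a * (b * x ^ k) * a⁻¹ * (b * x ^ k)⁻¹ = (fx x a ^ k)⁻¹ := by
    calc a * (b * x ^ k) * a⁻¹ * (b * x ^ k)⁻¹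
        = a * (b * (x ^ k * a⁻¹ * (x ^ k)⁻¹)) * b⁻¹ := by group
      _ = a * ((x ^ k * a⁻¹ * (x ^ k)⁻¹) * b) * b⁻¹ := by rw [hbv]
      _ = a * (x ^ k * a * (x ^ k)⁻¹)⁻¹ := by group
      _ = a * (fx x a ^ k * a)⁻¹ := by rw [h1]
      _ = (fx x a ^ k)⁻¹ := by group
  rw [e]
  exact Subgroup.inv_mem _ (Subgroup.pow_mem _ hz k)

end Setup

end Cfsg.Agent.h26AbIdx
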