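import Cfsg.Agent.Lib_helper26_AbIdxA

set_option autoImplicit false
set_option linter.style.haveILetI false

namespace Cfsg.Agent.h26AbIdx

open Subgroup
open scoped commutatorElement

theorem card_mul_relIndex_le {G : Type*} [Group G] {H K : Subgroup G} (hHK : H ≤ K) :
    Nat.card H * H.relIndex K = Nat.card K := by
  have := Subgroup.relIndex_mul_relIndex (⊥ : Subgroup G) H K bot_le hHK
  rwa [Subgroup.relIndex_bot_left, Subgroup.relIndex_bot_left] at this

section TypeLevel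

variable {𝒜 : Type*} [Group 𝒜] [Finite 𝒜] (f : 𝒜 →* 𝒜)

theorem relIndex_ker_comap : f.ker.relIndex (f.ker.comap f) = Nat.card ↥(f.range ⊓ f.ker) := by
  have h1 := Subgroup.relIndex_comap (⊥ : Subgroup 𝒜) f (f.ker.comap f)
  rw [Subgroup.relIndex_bot_left, Subgroup.map_comap_eq, MonoidHom.comap_bot] at h1
  exact h1

theorem card_ker_inf_mul_card_map (L : Subgroup 𝒜) :
    Nat.card ↥(f.ker ⊓ L) * Nat.card ↥(L.map f) = Nat.card L := by
  have h1 := Subgroup.relIndex_comap (⊥ : Subgroup 𝒜) f L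
  rw [Subgroup.relIndex_bot_left, MonoidHom.comap_bot] at h1
  rw [← h1, ← Subgroup.inf_relIndex_right]
  exact card_mul_relIndex_le inf_le_right

theorem index_ker_sup_range : (f.ker ⊔ f.range).index = Nat.card ↥(f.ker ⊓ f.range) := by
  have h1 : f.ker.relIndex (f.ker ⊔ f.range) = f.ker.relIndex f.range :=
    Subgroup.relIndex_sup_left _ _
  have h2 := Subgroup.relIndex_mul_index (le_sup_left : f.ker ≤ f.ker ⊔ f.range)
  have h3 : f.ker.index = Nat.card f.range := Subgroup.index_ker f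
  have h4 : Nat.card ↥(f.ker ⊓ f.range) * (f.ker ⊓ f.range).relIndex f.range =
      Nat.card f.range := card_mul_relIndex_le inf_le_right
  rw [Subgroup.inf_relIndex_right] at h4
  rw [h1, h3, ← h4] at h2
  have hpos : 0 < f.ker.relIndex f.range := Nat.pos_of_ne_zero Subgroup.index_ne_zero_of_finite
  exact Nat.eq_of_mul_eq_mul_left hpos (by rw [h2]; ring)

end TypeLevel

variable {Ω : Type*} [Group Ω]

namespace Setup

variable {S A : Subgroup Ω} (h : Setup S A)

include h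

/-- elements of `A` whose commutator with `x` is central -/
def A2 {x : Ω} (hx : x ∈ S) : Subgroup Ω :=
  ((h.fhom hx).ker.comap (h.fhom hx)).map A.subtype

theorem mem_A2 {x : Ω} (hx : x ∈ S) (hxA : x ∉ A) {a : Ω} :
    a ∈ h.A2 hx ↔ a ∈ A ∧ fx x a ∈ S ⊓ centralizer (S : Set Ω) := by
  constructor
  · rintro ⟨a', ha', rfl⟩
    refine ⟨a'.2, ?_⟩
    have ha'' : h.fhom hx a' ∈ (h.fhom hx).ker := ha'
    rw [h.ker_fhom hx hxA, Subgroup.mem_subgroupOf] at ha''
    exact ha''
  · rintro ⟨ha, hz⟩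
    refine ⟨⟨a, ha⟩, ?_, rfl⟩
    show h.fhom hx ⟨a, ha⟩ ∈ (h.fhom hx).ker
    rw [h.ker_fhom hx hxA, Subgroup.mem_subgroupOf]
    exact hz

theorem map_ker {x : Ω} (hx : x ∈ S) (hxA : x ∉ A) :
    (h.fhom hx).ker.map A.subtype = S ⊓ centralizer (S : Set Ω) := by
  rw [h.ker_fhom hx hxA, Subgroup.subgroupOf_map_subtype, inf_eq_left.mpr h.Z_le_A]

theorem finiteA [Finite S] : Finite A :=
  Finite.of_injective (Subgroup.inclusion h.hAS) (Subgroup.inclusion_injective _)

theorem relIndex_Z_A2 [Finite S] {x : Ω} (hx : x ∈ S) (hxA : x ∉ A) :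
    (S ⊓ centralizer (S : Set Ω)).relIndex (h.A2 hx) =
      Nat.card ↥((S ⊓ centralizer (S : Set Ω)) ⊓ ⁅S, S⁆) := by
  haveI := h.finiteA
  have inj : Function.Injective A.subtype := Subgroup.subtype_injective A
  have e1 : S ⊓ centralizer (S : Set Ω) = (h.fhom hx).ker.map A.subtype := (h.map_ker hx hxA).symm
  rw [e1, h.comm_eq hx hxA]
  unfold A2
  rw [Subgroup.relIndex_map_map_of_injective _ _ inj, relIndex_ker_comap,
    ← Subgroup.map_inf _ _ _ inj, Subgroup.card_map_of_injective inj, inf_comm]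

theorem index_Z_A [Finite S] {x : Ω} (hx : x ∈ S) (hxA : x ∉ A) :
    ((S ⊓ centralizer (S : Set Ω)).subgroupOf A).index = Nat.card ↥⁅S, S⁆ := by
  haveI := h.finiteA
  have inj : Function.Injective A.subtype := Subgroup.subtype_injective A
  rw [← h.ker_fhom hx hxA, Subgroup.index_ker, h.comm_eq hx hxA,
    Subgroup.card_map_of_injective inj]

theorem index_ZS' [Finite S] {x : Ω} (hx : x ∈ S) (hxA : x ∉ A) :
    (((S ⊓ centralizer (S : Set Ω)) ⊔ ⁅S, S⁆).subgroupOf A).index =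
      Nat.card ↥((S ⊓ centralizer (S : Set Ω)) ⊓ ⁅S, S⁆) := by
  haveI := h.finiteA
  have inj : Function.Injective A.subtype := Subgroup.subtype_injective A
  rw [Subgroup.subgroupOf_sup h.Z_le_A h.comm_le_A, ← h.ker_fhom hx hxA]
  have e2 : (⁅S, S⁆ : Subgroup Ω).subgroupOf A = (h.fhom hx).range := by
    rw [h.comm_eq hx hxA]
    exact Subgroup.comap_map_eq_self_of_injective inj _
  rw [e2, index_ker_sup_range]
  have e1 : S ⊓ centralizer (S : Set Ω) = (h.fhom hx).ker.map A.subtype := (h.map_ker hx hxA).symm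
  rw [e1, h.comm_eq hx hxA, ← Subgroup.map_inf _ _ _ inj, Subgroup.card_map_of_injective inj]

theorem lcs_card [Finite S] {p : ℕ} {x : Ω} (hx : x ∈ S) (hxA : x ∉ A)
    (hZ0 : Nat.card ↥((S ⊓ centralizer (S : Set Ω)) ⊓ ⁅S, S⁆) = p) :
    ∀ k : ℕ, Nat.card ↥⁅S, S⁆ ≤ Nat.card ↥(Subgroup.lowerCentralSeries S (k + 1)) * p ^ k := by
  haveI := h.finiteA
  have inj : Function.Injective A.subtype := Subgroup.subtype_injective A
  intro k
  induction k with
  | zero => simp [Subgroup.lowerCentralSeries_succ]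
  | succ k ih =>
    set L := Subgroup.lowerCentralSeries S (k + 1) with hL
    have hLI : L ≤ ⁅S, S⁆ := Subgroup.lowerCentralSeries_antitone S (show 1 ≤ k + 1 by omega)
    have hLA : L ≤ A := hLI.trans h.comm_le_A
    have h1 := card_ker_inf_mul_card_map (h.fhom hx) (L.subgroupOf A)
    have h2 : Nat.card ↥((h.fhom hx).ker ⊓ L.subgroupOf A) ≤ p := by
      rw [← hZ0, ← Subgroup.card_map_of_injective inj]
      haveI : Finite ↥((S ⊓ centralizer (S : Set Ω)) ⊓ ⁅S, S⁆) :=
        Finite.of_injective (Subgroup.inclusion (inf_le_left.trans inf_le_left))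
          (Subgroup.inclusion_injective _)
      apply Subgroup.card_le_of_le
      rintro _ ⟨a, ⟨ha1, ha2⟩, rfl⟩
      refine ⟨?_, hLI (Subgroup.mem_subgroupOf.mp ha2)⟩
      rw [← h.map_ker hx hxA]
      exact ⟨a, ha1, rfl⟩
    have hfin2 : Finite ↥(Subgroup.lowerCentralSeries S (k + 1 + 1)) := by
      have hle : Subgroup.lowerCentralSeries S (k + 1 + 1) ≤ S := by
        have := Subgroup.lowerCentralSeries_antitone S (show 0 ≤ k + 1 + 1 by omega)
        simpa using this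
      exact Finite.of_injective (Subgroup.inclusion hle) (Subgroup.inclusion_injective _)
    have h3 : Nat.card ↥((L.subgroupOf A).map (h.fhom hx)) ≤
        Nat.card ↥(Subgroup.lowerCentralSeries S (k + 1 + 1)) := by
      rw [← Subgroup.card_map_of_injective inj]
      apply Subgroup.card_le_of_le
      rintro _ ⟨_, ⟨a, ha, rfl⟩, rfl⟩
      have ha' : (a : Ω) ∈ L := Subgroup.mem_subgroupOf.mp ha
      rw [Subgroup.lowerCentralSeries_succ]
      have h4 : ⁅(a : Ω), x⁆ ∈ ⁅L, S⁆ := Subgroup.commutator_mem_commutator ha' hx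
      have h5 := Subgroup.inv_mem _ h4
      rw [commutatorElement_inv] at h5
      exact h5
    have h4 : Nat.card ↥(L.subgroupOf A) = Nat.card L :=
      Nat.card_congr (Subgroup.subgroupOfEquivOfLe hLA).toEquiv
    rw [h4] at h1
    calc Nat.card ↥⁅S, S⁆ ≤ Nat.card L * p ^ k := ih
      _ = Nat.card ↥((h.fhom hx).ker ⊓ L.subgroupOf A) *
            Nat.card ↥((L.subgroupOf A).map (h.fhom hx)) * p ^ k := by rw [h1]
      _ ≤ p * Nat.card ↥(Subgroup.lowerCentralSeries S (k + 1 + 1)) * p ^ k :=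
          Nat.mul_le_mul_right _ (Nat.mul_le_mul h2 h3)
      _ = Nat.card ↥(Subgroup.lowerCentralSeries S (k + 1 + 1)) * p ^ (k + 1) := by
          rw [pow_succ]; ring

theorem max_class [Finite S] {p : ℕ} [hp : Fact p.Prime] (hidx : (A.subgroupOf S).index = p)
    {x : Ω} (hx : x ∈ S) (hxA : x ∉ A)
    (hZ0 : Nat.card ↥((S ⊓ centralizer (S : Set Ω)) ⊓ ⁅S, S⁆) = p) (m : ℕ)
    (hm : ((S ⊓ centralizer (S : Set Ω)).subgroupOf S).index = p ^ m) (h3 : 3 ≤ m) :
    ¬ Subgroup.lowerCentralSeries S (m - 2) ≤ S ⊓ centralizer (S : Set Ω) := by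
  intro hle
  have hcI : Nat.card ↥⁅S, S⁆ * p = p ^ m := by
    rw [← h.index_Z_A hx hxA, ← hm, ← hidx]
    exact Subgroup.relIndex_mul_relIndex _ _ _ h.Z_le_A h.hAS
  obtain ⟨k, rfl⟩ : ∃ k, m = k + 3 := ⟨m - 3, by omega⟩
  have h1 := h.lcs_card hx hxA hZ0 k
  have h2 : k + 3 - 2 = k + 1 := by omega
  rw [h2] at hle
  have hLI : Subgroup.lowerCentralSeries S (k + 1) ≤ ⁅S, S⁆ :=
    Subgroup.lowerCentralSeries_antitone S (show 1 ≤ k + 1 by omega)
  have h4 : Nat.card ↥(Subgroup.lowerCentralSeries S (k + 1)) ≤ p := by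
    rw [← hZ0]
    haveI : Finite ↥((S ⊓ centralizer (S : Set Ω)) ⊓ ⁅S, S⁆) :=
      Finite.of_injective (Subgroup.inclusion (inf_le_left.trans inf_le_left))
        (Subgroup.inclusion_injective _)
    exact Subgroup.card_le_of_le (le_inf hle hLI)
  have h5 : Nat.card ↥⁅S, S⁆ ≤ p ^ (k + 1) := by
    calc Nat.card ↥⁅S, S⁆ ≤ _ := h1
      _ ≤ p * p ^ k := Nat.mul_le_mul_right _ h4
      _ = p ^ (k + 1) := by rw [pow_succ]; ring
  have h6 : p ^ (k + 3) ≤ p ^ (k + 1) * p := by rw [← hcI]; exact Nat.mul_le_mul_right _ h5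
  have h7 : p ^ (k + 1) * p = p ^ (k + 2) := by rw [pow_succ p (k + 1)]
  rw [h7] at h6
  have := Nat.pow_lt_pow_right hp.out.one_lt (show k + 2 < k + 3 by omega)
  omega

end Setup

end Cfsg.Agent.h26AbIdx
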