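import Mathlib

set_option autoImplicit false
set_option linter.style.haveILetI false

namespace Cfsg.Agent.h26AbIdx

section Core

variable {P : Type*} [Group P]

/-- automorphisms fixing `D` pointwise and acting trivially on `P/D` (left cosets form). -/
def chainStab (D : Subgroup P) : Subgroup (MulAut P) where
  carrier := {γ | (∀ d ∈ D, γ d = d) ∧ ∀ y : P, γ y * y⁻¹ ∈ D}
  one_mem' := ⟨fun d _ => rfl, fun y => by simp⟩
  mul_mem' := by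
    rintro γ δ ⟨h1, h2⟩ ⟨h3, h4⟩
    refine ⟨fun d hd => ?_, fun y => ?_⟩
    · show γ (δ d) = d
      rw [h3 d hd, h1 d hd]
    · show γ (δ y) * y⁻¹ ∈ D
      have e : γ (δ y) * y⁻¹ = γ (δ y * y⁻¹) * (γ y * y⁻¹) := by
        rw [map_mul, map_inv]; group
      rw [e, h1 _ (h4 y)]
      exact D.mul_mem (h4 y) (h2 y)
  inv_mem' := by
    rintro γ ⟨h1, h2⟩
    refine ⟨fun d hd => ?_, fun y => ?_⟩
    · have := h1 d hd
      calc γ⁻¹ d = γ⁻¹ (γ d) := by rw [this]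
        _ = d := by simp
    · have h3 := h2 (γ⁻¹ y)
      have e : γ (γ⁻¹ y) = y := by simp
      rw [e] at h3
      have := D.inv_mem h3
      simpa using this

theorem mem_chainStab {D : Subgroup P} {γ : MulAut P} :
    γ ∈ chainStab D ↔ (∀ d ∈ D, γ d = d) ∧ ∀ y : P, γ y * y⁻¹ ∈ D := Iff.rfl

theorem chainStab_pow {D : Subgroup P} {γ : MulAut P} (hγ : γ ∈ chainStab D) (n : ℕ) (y : P) :
    (γ ^ n) y = (γ y * y⁻¹) ^ n * y := by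
  induction n with
  | zero => simp
  | succ n ih =>
    rw [pow_succ', MulAut.mul_apply, ih, map_mul, map_pow, hγ.1 _ (hγ.2 y), pow_succ]
    group

theorem isPGroup_chainStab [Finite P] {p : ℕ} [hp : Fact p.Prime] (hP : IsPGroup p P)
    (D : Subgroup P) : IsPGroup p (chainStab D) := by
  obtain ⟨k, hk⟩ := IsPGroup.iff_card.mp hP
  intro γ
  refine ⟨k, ?_⟩
  apply Subtype.ext
  rw [Subgroup.coe_pow, Subgroup.coe_one]
  ext y
  rw [chainStab_pow γ.2, ← hk, pow_card_eq_one']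
  simp

theorem conj_mem_chainStab {D : Subgroup P} {g κ : MulAut P} (hg : ∀ d, d ∈ D ↔ g d ∈ D)
    (hκ : κ ∈ chainStab D) : g * κ * g⁻¹ ∈ chainStab D := by
  have hg' : ∀ d ∈ D, g⁻¹ d ∈ D := by
    intro d hd
    rw [hg]; simpa using hd
  refine ⟨fun d hd => ?_, fun y => ?_⟩
  · show g (κ (g⁻¹ d)) = d
    rw [hκ.1 _ (hg' d hd)]; simp
  · show g (κ (g⁻¹ y)) * y⁻¹ ∈ D
    have e : g (κ (g⁻¹ y)) * y⁻¹ = g (κ (g⁻¹ y) * (g⁻¹ y)⁻¹) := by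
      rw [map_mul, map_inv]; simp
    rw [e]
    exact (hg _).mp (hκ.2 _)

/-- A chain-stabilizing automorphism in `𝔸` lies in any maximal `p`-subgroup `𝔹` of `𝔸`
that fixes `D` pointwise. -/
theorem mem_of_chain [Finite P] {p : ℕ} [hp : Fact p.Prime] (hP : IsPGroup p P)
    (𝔸 𝔹 : Subgroup (MulAut P)) (h𝔹𝔸 : 𝔹 ≤ 𝔸) (h𝔹p : IsPGroup p 𝔹)
    (hsyl : ∀ Q : Subgroup (MulAut P), 𝔹 ≤ Q → Q ≤ 𝔸 → IsPGroup p Q → Q = 𝔹)
    (D : Subgroup P) (hD𝔹 : ∀ β ∈ 𝔹, ∀ d ∈ D, β d = d)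
    (β : MulAut P) (hβ : β ∈ 𝔸) (hβc : β ∈ chainStab D) : β ∈ 𝔹 := by
  set K := chainStab D ⊓ 𝔸 with hK
  have hKp : IsPGroup p K := (isPGroup_chainStab hP D).to_le inf_le_left
  have hnorm : 𝔹 ≤ Subgroup.normalizer (K : Set (MulAut P)) := by
    have key : ∀ b ∈ 𝔹, ∀ κ ∈ K, b * κ * b⁻¹ ∈ K := by
      intro b hb κ hκ
      refine ⟨conj_mem_chainStab (fun d => ?_) hκ.1,
        𝔸.mul_mem (𝔸.mul_mem (h𝔹𝔸 hb) hκ.2) (𝔸.inv_mem (h𝔹𝔸 hb))⟩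
      constructor
      · intro hd; rw [hD𝔹 b hb d hd]; exact hd
      · intro hd
        have h1 := hD𝔹 b⁻¹ (𝔹.inv_mem hb) _ hd
        have h2 : b⁻¹ (b d) = d := by simp
        rw [h2] at h1
        rw [h1]; exact hd
    intro b hb
    rw [Subgroup.mem_normalizer_iff]
    intro κ
    constructor
    · exact key b hb κ
    · intro h1
      have := key b⁻¹ (𝔹.inv_mem hb) _ h1
      simpa [mul_assoc] using this
  have hsup : IsPGroup p (K ⊔ 𝔹 : Subgroup (MulAut P)) := hKp.to_sup_of_normal_left' h𝔹p hnorm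
  have heq := hsyl (K ⊔ 𝔹) le_sup_right (sup_le inf_le_right h𝔹𝔸) hsup
  have : β ∈ K ⊔ 𝔹 := (le_sup_left : K ≤ K ⊔ 𝔹) ⟨hβc, hβ⟩
  rw [heq] at this
  exact this

/-- The core lemma on strongly embedded automorphism groups acting on a group with an abelian
maximal subgroup `P₀`. -/
theorem core_main [Finite P] {p : ℕ} [hp : Fact p.Prime] (hP : IsPGroup p P)
    (𝔸 𝔹 M I : Subgroup (MulAut P)) (h𝔹𝔸 : 𝔹 ≤ 𝔸) (h𝔹p : IsPGroup p 𝔹)
    (hsyl : ∀ Q : Subgroup (MulAut P), 𝔹 ≤ Q → Q ≤ 𝔸 → IsPGroup p Q → Q = 𝔹)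
    (hrad : ∀ N : Subgroup (MulAut P), N ≤ 𝔸 → 𝔸 ≤ Subgroup.normalizer (N : Set (MulAut P)) →
      IsPGroup p N → N ≤ I)
    (hMne : ∃ α ∈ 𝔸, α ∉ M)
    (hMprop : ∀ α ∈ 𝔸, α ∉ M → ∀ β ∈ 𝔹, α * β * α⁻¹ ∈ 𝔹 → β ∈ I)
    (P₀ : Subgroup P) (hP₀c : ∀ a ∈ P₀, ∀ b ∈ P₀, a * b = b * a)
    (hmax : ∀ Q : Subgroup P, P₀ < Q → Q = ⊤)
    (h𝔹Z : ∀ β ∈ 𝔹, ∀ d ∈ P₀, (∀ y : P, d * y = y * d) → β d = d)
    (hβ₀ : ∃ β₀ ∈ 𝔹, β₀ ∉ I ∧ β₀ ∈ chainStab P₀) :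
    ∃ α ∈ 𝔸, P₀.map α.toMonoidHom ≠ P₀ ∧
      (∀ d ∈ P₀ ⊓ P₀.map α.toMonoidHom, ∀ y : P, d * y = y * d) ∧
      ∀ β ∈ 𝔸, β ∈ chainStab (P₀ ⊓ P₀.map α.toMonoidHom) → β ∈ I := by
  obtain ⟨β₀, hβ₀𝔹, hβ₀I, hβ₀c⟩ := hβ₀
  -- Step 1
  have step1 : ∃ α ∈ 𝔸, α ∉ M ∧ P₀.map α.toMonoidHom ≠ P₀ := by
    by_contra hcon
    push Not at hcon
    obtain ⟨α₁, hα₁, hα₁M⟩ := hMne
    have hall : ∀ α ∈ 𝔸, P₀.map α.toMonoidHom = P₀ := by
      intro α hα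
      by_cases hαM : α ∈ M
      · have h1 : α₁ * α ∉ M := fun h => hα₁M (by
          have := M.mul_mem h (M.inv_mem hαM); simpa using this)
        have h2 := hcon (α₁ * α) (𝔸.mul_mem hα₁ hα) h1
        have h3 := hcon α₁ hα₁ hα₁M
        have h4 : (P₀.map α.toMonoidHom).map α₁.toMonoidHom = P₀ := by
          rw [Subgroup.map_map]; exact h2
        have h5 : (P₀.map α.toMonoidHom).map α₁.toMonoidHom = P₀.map α₁.toMonoidHom := by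
          rw [h4, h3]
        exact Subgroup.map_injective α₁.injective h5
      · exact hcon α hα hαM
    have hmem : ∀ α ∈ 𝔸, ∀ d, d ∈ P₀ ↔ α d ∈ P₀ := by
      intro α hα d
      constructor
      · intro hd
        rw [← hall α hα]; exact ⟨d, hd, rfl⟩
      · intro hd
        rw [← hall α hα] at hd
        obtain ⟨d', hd', he⟩ := hd
        have : d' = d := α.injective he
        rw [← this]; exact hd'
    have hK : chainStab P₀ ⊓ 𝔸 ≤ I := by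
      apply hrad _ inf_le_right _ ((isPGroup_chainStab hP P₀).to_le inf_le_left)
      have key : ∀ g ∈ 𝔸, ∀ κ ∈ chainStab P₀ ⊓ 𝔸, g * κ * g⁻¹ ∈ chainStab P₀ ⊓ 𝔸 := by
        intro g hg κ hκ
        exact ⟨conj_mem_chainStab (hmem g hg) hκ.1,
          𝔸.mul_mem (𝔸.mul_mem hg hκ.2) (𝔸.inv_mem hg)⟩
      intro g hg
      rw [Subgroup.mem_normalizer_iff]
      intro κ
      constructor
      · exact key g hg κ
      · intro h1
        have := key g⁻¹ (𝔸.inv_mem hg) _ h1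
        simpa [mul_assoc] using this
    exact hβ₀I (hK ⟨hβ₀c, h𝔹𝔸 hβ₀𝔹⟩)
  obtain ⟨α, hα, hαM, hαP⟩ := step1
  set Q := P₀.map α.toMonoidHom with hQ
  have hQc : ∀ a ∈ Q, ∀ b ∈ Q, a * b = b * a := by
    rintro _ ⟨a, ha, rfl⟩ _ ⟨b, hb, rfl⟩
    show α a * α b = α b * α a
    rw [← map_mul, ← map_mul, hP₀c a ha b hb]
  have hcard : Nat.card Q = Nat.card P₀ := Subgroup.card_map_of_injective α.injective
  have hsup : P₀ ⊔ Q = ⊤ := by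
    apply hmax
    apply lt_of_le_of_ne le_sup_left
    intro h1
    have h2 : Q ≤ P₀ := by rw [h1]; exact le_sup_right
    exact hαP (Subgroup.eq_of_le_of_card_ge h2 hcard.ge)
  -- D is central
  have hDc : ∀ d ∈ P₀ ⊓ Q, ∀ y : P, d * y = y * d := by
    intro d hd y
    have hy : y ∈ P₀ ⊔ Q := by rw [hsup]; exact Subgroup.mem_top y
    have hle : P₀ ⊔ Q ≤ Subgroup.centralizer {d} := by
      apply sup_le
      · intro a ha
        rw [Subgroup.mem_centralizer_iff]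
        intro e he
        rw [Set.mem_singleton_iff] at he
        subst he
        exact hP₀c _ hd.1 a ha
      · intro a ha
        rw [Subgroup.mem_centralizer_iff]
        intro e he
        rw [Set.mem_singleton_iff] at he
        subst he
        exact hQc _ hd.2 a ha
    have := Subgroup.mem_centralizer_iff.mp (hle hy) d rfl
    exact this
  refine ⟨α, hα, hαP, hDc, ?_⟩
  intro β hβ hβc
  -- β ∈ 𝔹
  have h1 : β ∈ 𝔹 := mem_of_chain hP 𝔸 𝔹 h𝔹𝔸 h𝔹p hsyl (P₀ ⊓ Q)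
    (fun b hb d hd => h𝔹Z b hb d hd.1 (hDc d hd)) β hβ hβc
  -- α⁻¹ β α ∈ 𝔹
  set D' := (P₀ ⊓ Q).map (α⁻¹ : MulAut P).toMonoidHom with hD'
  have hD'P₀ : D' ≤ P₀ := by
    rintro _ ⟨d, hd, rfl⟩
    obtain ⟨e, he, rfl⟩ := hd.2
    show α⁻¹ (α e) ∈ P₀
    simpa using he
  have hD'c : ∀ d ∈ D', ∀ y : P, d * y = y * d := by
    rintro _ ⟨d, hd, rfl⟩ y
    show α⁻¹ d * y = y * α⁻¹ d
    have := hDc d hd (α y)
    have h2 := congrArg (α⁻¹ : MulAut P) this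
    simpa using h2
  have h2 : α⁻¹ * β * α ∈ chainStab D' := by
    refine ⟨?_, fun y => ?_⟩
    · rintro _ ⟨d, hd, rfl⟩
      show α⁻¹ (β (α (α⁻¹ d))) = α⁻¹ d
      have e : α (α⁻¹ d) = d := by simp
      rw [e, hβc.1 d hd]
    · show α⁻¹ (β (α y)) * y⁻¹ ∈ D'
      refine ⟨β (α y) * (α y)⁻¹, hβc.2 (α y), ?_⟩
      show α⁻¹ (β (α y) * (α y)⁻¹) = _
      rw [map_mul, map_inv]
      simp
  have h3 : α⁻¹ * β * α ∈ 𝔹 := mem_of_chain hP 𝔸 𝔹 h𝔹𝔸 h𝔹p hsyl D'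
    (fun b hb d hd => h𝔹Z b hb d (hD'P₀ hd) (hD'c d hd)) _
    (𝔸.mul_mem (𝔸.mul_mem (𝔸.inv_mem hα) hβ) hα) h2
  have h4 : α⁻¹ ∉ M := fun h => hαM (by simpa using M.inv_mem h)
  have h5 : α⁻¹ * β * (α⁻¹)⁻¹ ∈ 𝔹 := by rw [inv_inv]; exact h3
  exact hMprop α⁻¹ (𝔸.inv_mem hα) h4 β h1 h5

end Core

end Cfsg.Agent.h26AbIdx
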