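import Cfsg.Agent.Lib_helper25_Extendable2
import Cfsg.Agent.Lib_helper26_Fusion

set_option autoImplicit false

namespace Cfsg.Agent.h26EssGen

open Cfsg Cfsg.FusionSystem Cfsg.Agent.helper25

variable {Ω : Type*} [Group Ω] {S : Subgroup Ω}

/-- image of `Q' ⊓ P` under `φ : P →* Ω`. -/
def imS {P : Subgroup Ω} (φ : P →* Ω) (Q' : Subgroup Ω) : Subgroup Ω := (Q'.subgroupOf P).map φ

theorem mem_imS_iff {P : Subgroup Ω} (φ : P →* Ω) (Q' : Subgroup Ω) (y : Ω) :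
    y ∈ imS φ Q' ↔ ∃ x : P, (x : Ω) ∈ Q' ∧ φ x = y := by
  unfold imS
  rw [Subgroup.mem_map]
  constructor
  · rintro ⟨x, hx, rfl⟩; exact ⟨x, Subgroup.mem_subgroupOf.mp hx, rfl⟩
  · rintro ⟨x, hx, rfl⟩; exact ⟨x, Subgroup.mem_subgroupOf.mpr hx, rfl⟩

theorem imS_congr {P P' : Subgroup Ω} (φ : P →* Ω) (θ : P' →* Ω) {Q' : Subgroup Ω} (hP : Q' ≤ P)
    (hP' : Q' ≤ P') (h : ∀ (x : Ω) (hx : x ∈ Q'), φ ⟨x, hP hx⟩ = θ ⟨x, hP' hx⟩) :
    imS φ Q' = imS θ Q' := by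
  ext y
  rw [mem_imS_iff, mem_imS_iff]
  constructor
  · rintro ⟨x, hx, rfl⟩
    exact ⟨⟨x, hP' hx⟩, hx, (h x hx).symm⟩
  · rintro ⟨x, hx, rfl⟩
    exact ⟨⟨x, hP hx⟩, hx, h x hx⟩

/-- the image of `Q' ≤ P` under a map of the system is conjugate to `Q'`. -/
theorem isConj_imS (F : FusionSystem S) {P : Subgroup Ω} {φ : P →* Ω} (hφ : φ ∈ F.Hom P)
    {Q' : Subgroup Ω} (hQ' : Q' ≤ P) : F.IsConj Q' (imS φ Q') := by
  refine ⟨φ.comp (Subgroup.inclusion hQ'), restrict_mem F hQ' hφ, ?_⟩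
  ext y
  rw [mem_imS_iff, MonoidHom.mem_range]
  constructor
  · rintro ⟨x, rfl⟩
    exact ⟨Subgroup.inclusion hQ' x, x.2, rfl⟩
  · rintro ⟨x, hx, rfl⟩
    exact ⟨⟨x, hx⟩, rfl⟩

theorem imS_comp {P R : Subgroup Ω} (φ : P →* Ω) (ψ : R →* Ω) (h : ∀ x : P, φ x ∈ R)
    (Q' : Subgroup Ω) : imS (ψ.comp (φ.codRestrict R h)) Q' = imS ψ (imS φ Q') := by
  ext y
  rw [mem_imS_iff, mem_imS_iff]
  constructor
  · rintro ⟨x, hx, rfl⟩
    exact ⟨⟨φ x, h x⟩, (mem_imS_iff φ Q' _).mpr ⟨x, hx, rfl⟩, rfl⟩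
  · rintro ⟨z, hz, rfl⟩
    obtain ⟨x, hx, hxz⟩ := (mem_imS_iff φ Q' _).mp hz
    refine ⟨x, hx, ?_⟩
    show ψ ⟨φ x, h x⟩ = ψ z
    congr 1
    exact Subtype.ext hxz

/-- specification of the chosen maps `N_S(Q') → N_S(Q)`. -/
def ChiSpec (F : FusionSystem S) (Q : Subgroup Ω) (chi : Subgroup Ω → Ω → Ω) : Prop :=
  ∀ Q' : Subgroup Ω, F.IsConj Q' Q → ∃ ψ ∈ F.Hom (normalizerIn S Q'),
    (∀ x : normalizerIn S Q', chi Q' x = ψ x) ∧ (Q'.subgroupOf (normalizerIn S Q')).map ψ = Q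

theorem exists_chi [Finite S] {p : ℕ} [Fact p.Prime] (hS : IsPGroup p S) (F : FusionSystem S)
    {Q : Subgroup Ω} (h₁ : F.IsFullyAutomized p Q) (h₂ : F.IsReceptive Q) :
    ∃ chi : Subgroup Ω → Ω → Ω, ChiSpec F Q chi := by
  classical
  have h : ∀ Q' : Subgroup Ω, ∃ f : Ω → Ω, F.IsConj Q' Q → ∃ ψ ∈ F.Hom (normalizerIn S Q'),
      (∀ x : normalizerIn S Q', f x = ψ x) ∧ (Q'.subgroupOf (normalizerIn S Q')).map ψ = Q := by
    intro Q'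
    by_cases hc : F.IsConj Q' Q
    · obtain ⟨ψ, hψ, -, hψQ⟩ := exists_normalizer_hom hS F h₁ h₂ hc
      refine ⟨fun x => if hx : x ∈ normalizerIn S Q' then ψ ⟨x, hx⟩ else 1, fun _ => ⟨ψ, hψ, ?_, hψQ⟩⟩
      intro x
      show (if hx : (x : Ω) ∈ normalizerIn S Q' then ψ ⟨x, hx⟩ else 1) = ψ x
      rw [dif_pos x.2]
    · exact ⟨fun _ => 1, fun h => absurd h hc⟩
  choose chi hchi using h
  exact ⟨chi, hchi⟩

/-- compatibility of `φ` with `H` along `Q'`. -/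
def Compat {Q : Subgroup Ω} (H : Subgroup (MulAut Q)) (chi : Subgroup Ω → Ω → Ω) {P : Subgroup Ω}
    (φ : P →* Ω) (Q' : Subgroup Ω) : Prop :=
  ∃ β : MulAut Q, β ∈ H ∧ ∀ (x : P) (_ : (x : Ω) ∈ Q') (hq : chi Q' x ∈ Q),
    chi (imS φ Q') (φ x) = β ⟨chi Q' x, hq⟩

theorem le_normalizerIn' {Q' : Subgroup Ω} (hQ'S : Q' ≤ S) : Q' ≤ normalizerIn S Q' :=
  fun _ hx => ⟨hQ'S hx, Subgroup.le_normalizer hx⟩

/-- consequences of the specification. -/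
theorem ChiSpec.mem {F : FusionSystem S} {Q : Subgroup Ω} {chi : Subgroup Ω → Ω → Ω}
    (hchi : ChiSpec F Q chi) {Q' : Subgroup Ω} (hc : F.IsConj Q' Q) {x : Ω} (hx : x ∈ Q') :
    chi Q' x ∈ Q := by
  obtain ⟨ψ, hψ, hψx, hψQ⟩ := hchi Q' hc
  have hQ'S : Q' ≤ S := isConj_le_left F hc
  rw [← hψQ]
  exact ⟨⟨x, le_normalizerIn' hQ'S hx⟩, Subgroup.mem_subgroupOf.mpr hx,
    (hψx ⟨x, le_normalizerIn' hQ'S hx⟩).symm⟩

theorem ChiSpec.surj {F : FusionSystem S} {Q : Subgroup Ω} {chi : Subgroup Ω → Ω → Ω}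
    (hchi : ChiSpec F Q chi) {Q' : Subgroup Ω} (hc : F.IsConj Q' Q) {z : Ω} (hz : z ∈ Q) :
    ∃ x ∈ Q', chi Q' x = z := by
  obtain ⟨ψ, hψ, hψx, hψQ⟩ := hchi Q' hc
  rw [← hψQ] at hz
  obtain ⟨x, hx, rfl⟩ := hz
  exact ⟨x, Subgroup.mem_subgroupOf.mp hx, hψx x⟩

theorem map_mem_normalizer {P' : Subgroup Ω} (θ : P' →* Ω) {Q' : Subgroup Ω} (x : P')
    (hx : (x : Ω) ∈ Subgroup.normalizer (Q' : Set Ω)) :
    θ x ∈ Subgroup.normalizer ((imS θ Q' : Subgroup Ω) : Set Ω) := by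
  rw [Subgroup.mem_normalizer_iff]
  intro y
  constructor
  · intro hy
    obtain ⟨q, hq, rfl⟩ := (mem_imS_iff θ Q' y).mp hy
    rw [← map_inv, ← map_mul, ← map_mul]
    exact (mem_imS_iff θ Q' _).mpr ⟨x * q * x⁻¹, (Subgroup.mem_normalizer_iff.mp hx q).mp hq, rfl⟩
  · intro hy
    obtain ⟨q, hq, hqe⟩ := (mem_imS_iff θ Q' _).mp hy
    have e : y = θ (x⁻¹ * q * x) := by
      rw [map_mul, map_mul, map_inv, hqe]; group
    rw [e]
    refine (mem_imS_iff θ Q' _).mpr ⟨x⁻¹ * q * x, ?_, rfl⟩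
    have h1 := (Subgroup.mem_normalizer_iff.mp (inv_mem hx) q).mp hq
    rwa [inv_inv] at h1

/-- **Key lemma**: a map of the system defined on a subgroup strictly containing `Q'` is
compatible along `Q'`. -/
theorem compat_of_ext [Finite S] {p : ℕ} [Fact p.Prime] (hS : IsPGroup p S) (F : FusionSystem S)
    {Q : Subgroup Ω} (hQS : Q ≤ S) {H : Subgroup (MulAut Q)} (hH : extSet F Q ⊆ (H : Set (MulAut Q)))
    {chi : Subgroup Ω → Ω → Ω} (hchi : ChiSpec F Q chi)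
    {Q' P' : Subgroup Ω} (hc : F.IsConj Q' Q) (hlt : Q' < P') {θ : P' →* Ω} (hθ : θ ∈ F.Hom P')
    {P : Subgroup Ω} (hQ'P : Q' ≤ P) (φ : P →* Ω)
    (hφθ : ∀ (x : Ω) (hx : x ∈ Q'), φ ⟨x, hQ'P hx⟩ = θ ⟨x, hlt.le hx⟩) :
    Compat H chi φ Q' := by
  have hP'S : P' ≤ S := (F.le_of_mem hθ).1
  have hQ'S : Q' ≤ S := hlt.le.trans hP'S
  have : Finite P' := finite_of_le S hP'S
  have hP'p : IsPGroup p P' := hS.to_le hP'S
  have hN'lt : Q' < normalizerIn P' Q' := lt_normalizerIn hP'p hlt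
  have hN'P' : normalizerIn P' Q' ≤ P' := inf_le_left
  have hN'N : normalizerIn P' Q' ≤ normalizerIn S Q' := fun x hx => ⟨hP'S hx.1, hx.2⟩
  have himeq : imS φ Q' = imS θ Q' := imS_congr φ θ hQ'P hlt.le hφθ
  have hc'' : F.IsConj (imS θ Q') Q := isConj_trans F (isConj_symm F (isConj_imS F hθ hlt.le)) hc
  obtain ⟨ψ', hψ', hψ'x, hψ'Q⟩ := hchi Q' hc
  obtain ⟨ψ'', hψ'', hψ''x, hψ''Q⟩ := hchi (imS θ Q') hc''
  have ha : ψ'.comp (Subgroup.inclusion hN'N) ∈ F.Hom (normalizerIn P' Q') :=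
    restrict_mem F hN'N hψ'
  obtain ⟨ρ, hρ, hρx⟩ := F.inv_mem ha
  have hc1 : θ.comp (Subgroup.inclusion hN'P') ∈ F.Hom (normalizerIn P' Q') :=
    restrict_mem F hN'P' hθ
  have hθN : ∀ x : normalizerIn P' Q',
      (θ.comp (Subgroup.inclusion hN'P')) x ∈ normalizerIn S (imS θ Q') := by
    intro x
    exact ⟨(F.le_of_mem hθ).2 _, map_mem_normalizer θ (Subgroup.inclusion hN'P' x) x.2.2⟩
  have hρN : ∀ y, ρ y ∈ normalizerIn P' Q' := by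
    rintro ⟨_, x, rfl⟩
    rw [hρx x]; exact x.2
  have hd := F.comp_mem hρ hc1 hρN
  have hcomp1N : ∀ y, ((θ.comp (Subgroup.inclusion hN'P')).comp
      (ρ.codRestrict (normalizerIn P' Q') hρN)) y ∈ normalizerIn S (imS θ Q') := fun y => hθN _
  have he := F.comp_mem hd hψ'' hcomp1N
  have heval : ∀ (w : (ψ'.comp (Subgroup.inclusion hN'N)).range) (x : normalizerIn P' Q'),
      (w : Ω) = ψ' (Subgroup.inclusion hN'N x) →
      (ψ''.comp (((θ.comp (Subgroup.inclusion hN'P')).comp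
        (ρ.codRestrict (normalizerIn P' Q') hρN)).codRestrict (normalizerIn S (imS θ Q'))
          hcomp1N)) w = ψ'' ⟨θ (Subgroup.inclusion hN'P' x), hθN x⟩ := by
    intro w x hw
    have hw' : w = ⟨(ψ'.comp (Subgroup.inclusion hN'N)) x, ⟨x, rfl⟩⟩ := Subtype.ext hw
    rw [hw']
    show ψ'' ⟨θ (Subgroup.inclusion hN'P' ⟨ρ ⟨(ψ'.comp (Subgroup.inclusion hN'N)) x, ⟨x, rfl⟩⟩,
      hρN _⟩), _⟩ = _
    congr 1
    apply Subtype.ext
    show θ (Subgroup.inclusion hN'P' ⟨ρ ⟨(ψ'.comp (Subgroup.inclusion hN'N)) x, ⟨x, rfl⟩⟩,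
      hρN _⟩) = θ (Subgroup.inclusion hN'P' x)
    congr 1
    apply Subtype.ext
    exact hρx x
  have hQP₁ : Q ≤ (ψ'.comp (Subgroup.inclusion hN'N)).range := by
    intro z hz
    rw [← hψ'Q] at hz
    obtain ⟨x, hx, rfl⟩ := hz
    have hxQ' : (x : Ω) ∈ Q' := Subgroup.mem_subgroupOf.mp hx
    exact ⟨⟨x, hN'lt.le hxQ'⟩, rfl⟩
  have hQneP₁ : Q ≠ (ψ'.comp (Subgroup.inclusion hN'N)).range := by
    intro heq
    obtain ⟨g, hgN, hgQ⟩ := SetLike.exists_of_lt hN'lt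
    have h1 : ψ' ⟨g, hN'N hgN⟩ ∈ (ψ'.comp (Subgroup.inclusion hN'N)).range := ⟨⟨g, hgN⟩, rfl⟩
    rw [← heq, ← hψ'Q] at h1
    obtain ⟨x, hx, hxe⟩ := h1
    have h2 := F.injective_of_mem hψ' hxe
    apply hgQ
    have hxQ' : (x : Ω) ∈ Q' := Subgroup.mem_subgroupOf.mp hx
    rw [h2] at hxQ'; exact hxQ'
  have hQltP₁ : Q < (ψ'.comp (Subgroup.inclusion hN'N)).range := lt_of_le_of_ne hQP₁ hQneP₁
  have hres := restrict_mem F hQP₁ he
  -- an element of `Q` comes from `Q'`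
  have hfrom : ∀ z : Q, ∃ x : normalizerIn P' Q', (x : Ω) ∈ Q' ∧
      (z : Ω) = ψ' (Subgroup.inclusion hN'N x) := by
    intro z
    obtain ⟨x, hx, hxz⟩ := hψ'Q.ge z.2
    have hxQ' : (x : Ω) ∈ Q' := Subgroup.mem_subgroupOf.mp hx
    exact ⟨⟨x, hN'lt.le hxQ'⟩, hxQ', hxz.symm⟩
  have hψ''Qmem : ∀ x : normalizerIn P' Q', (x : Ω) ∈ Q' →
      ψ'' ⟨θ (Subgroup.inclusion hN'P' x), hθN x⟩ ∈ Q := by
    intro x hx
    rw [← hψ''Q]
    refine ⟨⟨θ (Subgroup.inclusion hN'P' x), hθN x⟩, Subgroup.mem_subgroupOf.mpr ?_, rfl⟩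
    exact (mem_imS_iff θ Q' _).mpr ⟨Subgroup.inclusion hN'P' x, hx, rfl⟩
  have hresQ : ∀ z : Q, ((ψ''.comp (((θ.comp (Subgroup.inclusion hN'P')).comp
        (ρ.codRestrict (normalizerIn P' Q') hρN)).codRestrict (normalizerIn S (imS θ Q'))
          hcomp1N)).comp (Subgroup.inclusion hQP₁)) z ∈ Q := by
    intro z
    obtain ⟨x, hxQ', hxz⟩ := hfrom z
    have := heval (Subgroup.inclusion hQP₁ z) x hxz
    show (ψ''.comp _) (Subgroup.inclusion hQP₁ z) ∈ Q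
    rw [this]
    exact hψ''Qmem x hxQ'
  have : Finite Q := finite_of_le S hQS
  obtain ⟨β, hβ, hβx⟩ := Cfsg.Agent.helper26.exists_mulAut_of_mem F _ hres hresQ
  have hβext : β ∈ extSet F Q := ⟨_, hQltP₁, _, he, fun z => (hβx z).symm⟩
  refine ⟨β, hH hβext, ?_⟩
  intro x hx hq
  rw [himeq, hβx]
  have hxN : (x : Ω) ∈ normalizerIn P' Q' := hN'lt.le hx
  have e1 : φ x = θ (Subgroup.inclusion hN'P' ⟨x, hxN⟩) := hφθ x hx
  have e2 : chi Q' x = ψ' (Subgroup.inclusion hN'N ⟨x, hxN⟩) := hψ'x ⟨x, hN'N hxN⟩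
  have e3 := heval (Subgroup.inclusion hQP₁ ⟨chi Q' x, hq⟩) ⟨x, hxN⟩ e2
  show _ = (ψ''.comp _) (Subgroup.inclusion hQP₁ ⟨chi Q' x, hq⟩)
  rw [e3, e1]
  exact hψ''x ⟨θ (Subgroup.inclusion hN'P' ⟨x, hxN⟩), hθN ⟨x, hxN⟩⟩

/-- the subsystem of maps compatible with `H` along every conjugate of `Q`. -/
def sysE [Finite S] {p : ℕ} [Fact p.Prime] (hS : IsPGroup p S) (F : FusionSystem S)
    {Q : Subgroup Ω} (hQS : Q ≤ S) (hQne : Q ≠ S) (H : Subgroup (MulAut Q))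
    (hH : extSet F Q ⊆ (H : Set (MulAut Q))) (chi : Subgroup Ω → Ω → Ω) (hchi : ChiSpec F Q chi) :
    FusionSystem S where
  Hom P := {φ | φ ∈ F.Hom P ∧ ∀ Q' : Subgroup Ω, Q' ≤ P → F.IsConj Q' Q → Compat H chi φ Q'}
  le_of_mem h := F.le_of_mem h.1
  injective_of_mem h := F.injective_of_mem h.1
  conj_mem := by
    intro P g hP hg
    refine ⟨F.conj_mem hP hg, ?_⟩
    intro Q' hQ'P hc
    have hQ'S := hQ'P.trans hP
    have hQ'ne : Q' ≠ S := by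
      rintro rfl
      obtain ⟨φ, hφ, hr⟩ := hc
      exact hQne (hr.symm.trans (Cfsg.Agent.helper26.range_eq_of_mem_top F φ hφ))
    have hN := lt_normalizerIn hS (lt_of_le_of_ne hQ'S hQ'ne)
    exact compat_of_ext hS F hQS hH hchi hc hN
      (F.conj_mem (inf_le_left : normalizerIn S Q' ≤ S) hg) hQ'P (conjHom P g) (fun x hx => rfl)
  comp_mem := by
    rintro P R φ ψ ⟨hφ, hφc⟩ ⟨hψ, hψc⟩ h
    refine ⟨F.comp_mem hφ hψ h, ?_⟩
    intro Q' hQ'P hc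
    have hc' : F.IsConj (imS φ Q') Q :=
      isConj_trans F (isConj_symm F (isConj_imS F hφ hQ'P)) hc
    have hQ''R : imS φ Q' ≤ R := by
      intro y hy
      obtain ⟨x, _, rfl⟩ := (mem_imS_iff φ Q' y).mp hy
      exact h x
    obtain ⟨β₁, hβ₁, hβ₁x⟩ := hφc Q' hQ'P hc
    obtain ⟨β₂, hβ₂, hβ₂x⟩ := hψc (imS φ Q') hQ''R hc'
    refine ⟨β₂ * β₁, H.mul_mem hβ₂ hβ₁, ?_⟩
    intro x hx hq
    rw [imS_comp]
    have e1 := hβ₁x x hx hq
    have hq' : chi (imS φ Q') (φ x) ∈ Q := by rw [e1]; exact (β₁ _).2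
    have e2 := hβ₂x ⟨φ x, h x⟩ ((mem_imS_iff φ Q' _).mpr ⟨x, hx, rfl⟩) hq'
    show chi (imS ψ (imS φ Q')) (ψ ⟨φ x, h x⟩) = ((β₂ * β₁) ⟨chi Q' x, hq⟩ : Q)
    rw [e2, MulAut.mul_apply]
    congr 2
    exact Subtype.ext e1
  inv_mem := by
    rintro P φ ⟨hφ, hφc⟩
    obtain ⟨ψ, hψ, hψx⟩ := F.inv_mem hφ
    refine ⟨ψ, ⟨hψ, ?_⟩, hψx⟩
    intro Q'' hQ''r hc''
    have hψP : ∀ y : φ.range, ψ y ∈ P := by
      rintro ⟨_, x, rfl⟩
      rw [hψx x]; exact x.2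
    have hQ'P : imS ψ Q'' ≤ P := by
      intro y hy
      obtain ⟨z, _, rfl⟩ := (mem_imS_iff ψ Q'' y).mp hy
      exact hψP z
    have hc' : F.IsConj (imS ψ Q'') Q :=
      isConj_trans F (isConj_symm F (isConj_imS F hψ hQ''r)) hc''
    have hback : imS φ (imS ψ Q'') = Q'' := by
      ext y
      rw [mem_imS_iff]
      constructor
      · rintro ⟨x, hx, rfl⟩
        obtain ⟨⟨_, x₀, rfl⟩, hz, hzx⟩ := (mem_imS_iff ψ Q'' _).mp hx
        rw [hψx x₀] at hzx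
        have : x = x₀ := Subtype.ext hzx.symm
        rw [this]; exact hz
      · intro hy
        obtain ⟨x₀, rfl⟩ := hQ''r hy
        exact ⟨x₀, (mem_imS_iff ψ Q'' _).mpr ⟨⟨φ x₀, ⟨x₀, rfl⟩⟩, hy, hψx x₀⟩, rfl⟩
    obtain ⟨β, hβ, hβx⟩ := hφc (imS ψ Q'') hQ'P hc'
    refine ⟨β⁻¹, H.inv_mem hβ, ?_⟩
    intro y hy hq
    have hx : ((⟨ψ y, hψP y⟩ : P) : Ω) ∈ imS ψ Q'' := (mem_imS_iff ψ Q'' _).mpr ⟨y, hy, rfl⟩
    have hq' : chi (imS ψ Q'') (ψ y) ∈ Q := hchi.mem hc' hx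
    have e1 := hβx ⟨ψ y, hψP y⟩ hx hq'
    have hφψ : φ ⟨ψ y, hψP y⟩ = y := by
      obtain ⟨_, x₀, rfl⟩ := y
      show φ ⟨ψ ⟨φ x₀, _⟩, _⟩ = φ x₀
      congr 1
      exact Subtype.ext (hψx x₀)
    rw [hback, hφψ] at e1
    have e2 : (⟨chi Q'' y, hq⟩ : Q) = β ⟨chi (imS ψ Q'') (ψ y), hq'⟩ := Subtype.ext e1
    rw [e2, MulAut.inv_apply_self]

theorem essential_ne_top [Finite S] {p : ℕ} [Fact p.Prime] (hS : IsPGroup p S) (F : FusionSystem S)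
    (hF : F.IsSaturated p) : ¬ F.IsEssential p S := by
  rintro ⟨hcen, hfn, hnorm, Y, hdvd, -, -⟩
  obtain ⟨_, hfa⟩ := fullyNormalized_imp hS F hF hfn
  obtain ⟨R, hR⟩ := hfa.2
  have hInn : Inn S = autInducedBy S S := by
    apply le_antisymm (inn_le_autInducedBy le_rfl)
    intro α hα
    obtain ⟨g, hg, hx⟩ := (mem_autInducedBy_iff S S α).mp hα
    refine ⟨⟨g, hg⟩, ?_⟩
    ext x
    exact (hx x).symm
  have hidx : ¬ p ∣ (R : Subgroup (F.autGroup S)).index := R.not_dvd_index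
  rw [hR, ← hInn, Subgroup.index_eq_card] at hidx
  exact hidx hdvd

/-- **Main theorem** (AKO I.3.3(b)): the class of an essential subgroup cannot be omitted. -/
theorem exists_sys [Finite S] {p : ℕ} [Fact p.Prime] (hS : IsPGroup p S) (F : FusionSystem S)
    (hF : F.IsSaturated p) {Q : Subgroup Ω} (hQ : F.IsEssential p Q) :
    ∃ E : FusionSystem S,
      (∀ R : Subgroup Ω, R ≤ S → ¬ F.IsConj Q R → F.autGroup R ≤ E.autGroup R) ∧ ¬ F ≤ E := by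
  have hfn := hQ.2.1
  have hQS : Q ≤ S := hfn.1
  have hQne : Q ≠ S := by
    rintro rfl
    exact essential_ne_top hS F hF hQ
  have hQlt : Q < S := lt_of_le_of_ne hQS hQne
  obtain ⟨hfc, hfa⟩ := fullyNormalized_imp hS F hF hfn
  have hrec := receptive_of_fullyCentralized hS F hF hfc
  have : Finite Q := finite_of_le S hQS
  rcases extendable_main hS F hF hQlt hfn with ⟨hness, -⟩ | ⟨-, hnorm, hspe⟩
  · exact absurd hQ hness
  have hH : extSet F Q ⊆ ((Subgroup.closure (extSet F Q) : Subgroup (MulAut Q)) : Set (MulAut Q)) :=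
    Subgroup.subset_closure
  -- some automorphism lies outside `H₀`
  have hex : ∃ α ∈ F.autGroup Q, α ∉ Subgroup.closure (extSet F Q) := by
    by_contra hall
    push Not at hall
    apply hspe.2.1
    have h1 : (Subgroup.closure (extSet F Q)).subgroupOf (F.autGroup Q) = ⊤ :=
      Subgroup.subgroupOf_eq_top.mpr hall
    rw [h1]
    exact Subgroup.map_top_of_surjective _ (QuotientGroup.mk'_surjective _)
  obtain ⟨α, hα, hαH⟩ := hex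
  obtain ⟨chi, hchi⟩ := exists_chi hS F hfa hrec
  refine ⟨sysE hS F hQS hQne _ hH chi hchi, ?_, ?_⟩
  · intro R hR hnc a ha
    have ha' : R.subtype.comp a.toMonoidHom ∈ F.Hom R := (mem_autGroup_iff F hR a).mp ha
    apply Subgroup.subset_closure
    refine ⟨ha', ?_⟩
    intro Q' hQ'R hc
    have hne : Q' ≠ R := by
      rintro rfl
      exact hnc (isConj_symm F hc)
    exact compat_of_ext hS F hQS hH hchi hc (lt_of_le_of_ne hQ'R hne) ha' hQ'R _ (fun x hx => rfl)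
  · intro hle
    have hα' : Q.subtype.comp α.toMonoidHom ∈ F.Hom Q := (mem_autGroup_iff F hQS α).mp hα
    obtain ⟨-, hcompat⟩ := hle Q hα'
    obtain ⟨β, hβ, hβx⟩ := hcompat Q le_rfl (isConj_refl F hQS)
    have him : imS (Q.subtype.comp α.toMonoidHom) Q = Q := by
      ext y
      rw [mem_imS_iff]
      constructor
      · rintro ⟨x, -, rfl⟩
        exact (α x).2
      · intro hy
        exact ⟨α⁻¹ ⟨y, hy⟩, (α⁻¹ ⟨y, hy⟩).2, by simp⟩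
    obtain ⟨ψ, hψ, hψx, hψQ⟩ := hchi Q (isConj_refl F hQS)
    have hNlt := lt_normalizerIn hS hQlt
    have hres := restrict_mem F hNlt.le hψ
    have hresQ : ∀ z : Q, (ψ.comp (Subgroup.inclusion hNlt.le)) z ∈ Q := by
      intro z
      apply hψQ.le
      exact ⟨Subgroup.inclusion hNlt.le z, Subgroup.mem_subgroupOf.mpr z.2, rfl⟩
    obtain ⟨γ, hγ, hγx⟩ := Cfsg.Agent.helper26.exists_mulAut_of_mem F _ hres hresQ
    have hγext : γ ∈ extSet F Q := ⟨_, hNlt, ψ, hψ, fun z => (hγx z).symm⟩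
    have hγH := hH hγext
    have hchiγ : ∀ z : Q, chi Q z = γ z := by
      intro z
      rw [hγx]
      exact hψx (Subgroup.inclusion hNlt.le z)
    have hrel : γ * α = β * γ := by
      ext x
      rw [MulAut.mul_apply, MulAut.mul_apply]
      have hq : chi Q x ∈ Q := by rw [hchiγ]; exact (γ x).2
      have e := hβx x x.2 hq
      rw [him] at e
      have e' : chi Q ((α x : Q) : Ω) = β ⟨chi Q x, hq⟩ := e
      rw [hchiγ] at e'
      rw [e']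
      congr 2
      exact Subtype.ext (hchiγ x)
    apply hαH
    have : α = γ⁻¹ * (β * γ) := by rw [← hrel]; group
    rw [this]
    exact Subgroup.mul_mem _ (Subgroup.inv_mem _ hγH) (Subgroup.mul_mem _ hβ hγH)

end Cfsg.Agent.h26EssGen
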