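import Cfsg.Agent.Lib_helper26_AbIdxB
import Cfsg.Agent.Lib_helper26_AbIdxC
import Cfsg.Agent.Lib_helper26_EssGen
import Cfsg.Agent.Lib_helper25_Extendable2
import Cfsg.Agent.Lib_helper25_Radical
import Cfsg.Agent.Lib_helper25_SatRS
import Cfsg.Agent.Lib_helper14_PMin

set_option autoImplicit false
set_option linter.style.haveILetI false

namespace Cfsg.Agent.h26AbIdx

open Cfsg Cfsg.FusionSystem Cfsg.Agent.helper25

variable {Ω : Type*} [Group Ω] {S : Subgroup Ω}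

theorem exists_spe_lift [Finite S] {p : ℕ} [hp : Fact p.Prime] (hS : IsPGroup p S)
    (F : FusionSystem S) (hF : F.IsSaturated p) {P : Subgroup Ω} (hP : F.IsEssential p P) :
    ∃ M : Subgroup (MulAut P), (∃ α ∈ F.autGroup P, α ∉ M) ∧
      ∀ α ∈ F.autGroup P, α ∉ M → ∀ β ∈ autInducedBy S P,
        α * β * α⁻¹ ∈ autInducedBy S P → β ∈ Inn P := by
  obtain ⟨hPc, hPn, hnorm, Y₀, hY₀⟩ := hP
  have hPS : P ≤ S := hPc.1
  haveI : Finite P := finite_of_le S hPS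
  obtain ⟨_, hPfa⟩ := fullyNormalized_imp hS F hF hPn
  obtain ⟨R₀, hR₀⟩ := hPfa.2
  have hSF : autInducedBy S P ≤ F.autGroup P := autInducedBy_le_autGroup F hPS
  have hsurj : Function.Surjective (QuotientGroup.mk' ((Inn P).subgroupOf (F.autGroup P))) :=
    QuotientGroup.mk'_surjective _
  have hTbar : (R₀.mapSurjective hsurj).toSubgroup =
      ((autInducedBy S P).subgroupOf (F.autGroup P)).map
        (QuotientGroup.mk' ((Inn P).subgroupOf (F.autGroup P))) := by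
    rw [Sylow.coe_mapSurjective, hR₀]
  obtain ⟨hdvd, hY₀ne, R', hR'⟩ := hY₀
  have hR'1 : R'.toSubgroup ≠ ⊥ := R'.ne_bot_of_dvd_card hdvd
  have hR'Y : R'.toSubgroup ≤ Y₀ := by
    rw [Cfsg.Agent.helper14.kGeneratedCore_one_le_iff _ _ R'.isPGroup'] at hR'
    exact Subgroup.le_normalizer.trans (hR' R'.toSubgroup le_rfl hR'1)
  obtain ⟨c, hc⟩ := exists_cj_le_sylow (R₀.mapSurjective hsurj) R'.isPGroup'
  have hceq : cj c R'.toSubgroup = (R₀.mapSurjective hsurj).toSubgroup := by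
    apply Subgroup.eq_of_le_of_card_ge hc
    rw [card_cj, Sylow.card_eq_multiplicity, Sylow.card_eq_multiplicity]
  have hM : IsStronglyPEmbedded p (cj c Y₀) := spe_cj ⟨hdvd, hY₀ne, R', hR'⟩ c
  have hTM : (R₀.mapSurjective hsurj).toSubgroup ≤ cj c Y₀ := by
    rw [← hceq]; exact cj_mono c hR'Y
  have hTp : IsPGroup p (R₀.mapSurjective hsurj).toSubgroup := (R₀.mapSurjective hsurj).isPGroup'
  set π := QuotientGroup.mk' ((Inn P).subgroupOf (F.autGroup P)) with hπ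
  set Y := cj c Y₀ with hY
  refine ⟨(Y.comap π).map (F.autGroup P).subtype, ?_, ?_⟩
  · have hne : Y ≠ ⊤ := hM.2.1
    obtain ⟨q, hq⟩ : ∃ q, q ∉ Y := by
      by_contra hcon
      push Not at hcon
      exact hne (eq_top_iff.mpr fun q _ => hcon q)
    obtain ⟨a, rfl⟩ := hsurj q
    refine ⟨a.1, a.2, ?_⟩
    rintro ⟨a', ha', he⟩
    have : a' = a := Subtype.ext he
    subst this
    exact hq ha'
  · intro α hα hαM β hβ hconj
    have hg : π ⟨α, hα⟩ ∉ Y := by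
      intro h1
      exact hαM ⟨⟨α, hα⟩, h1, rfl⟩
    have hβF : β ∈ F.autGroup P := hSF hβ
    have hb : π ⟨β, hβF⟩ ∈ (R₀.mapSurjective hsurj).toSubgroup := by
      rw [hTbar]; exact ⟨⟨β, hβF⟩, Subgroup.mem_subgroupOf.mpr hβ, rfl⟩
    have hconjF : α * β * α⁻¹ ∈ F.autGroup P := hSF hconj
    have he : π ⟨α * β * α⁻¹, hconjF⟩ ∈ (R₀.mapSurjective hsurj).toSubgroup := by
      rw [hTbar]; exact ⟨⟨_, hconjF⟩, Subgroup.mem_subgroupOf.mpr hconj, rfl⟩
    have heq : π ⟨α * β * α⁻¹, hconjF⟩ = π ⟨α, hα⟩ * π ⟨β, hβF⟩ * (π ⟨α, hα⟩)⁻¹ := by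
      rw [← map_inv, ← map_mul, ← map_mul]; rfl
    have heI : π ⟨α * β * α⁻¹, hconjF⟩ ∈ Y ⊓ Y.map (MulAut.conj (π ⟨α, hα⟩)).toMonoidHom := by
      refine ⟨hTM he, ?_⟩
      rw [heq]
      exact ⟨π ⟨β, hβF⟩, hTM hb, rfl⟩
    have hnd : ¬ p ∣ Nat.card ↥(Y ⊓ Y.map (MulAut.conj (π ⟨α, hα⟩)).toMonoidHom) :=
      fun h1 => hg (Cfsg.Agent.helper14.mem_of_spe_of_dvd_card_inf Y hM _ h1)
    obtain ⟨k, hk⟩ := hTp ⟨_, he⟩
    have hk' : (π ⟨α * β * α⁻¹, hconjF⟩) ^ p ^ k = 1 := by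
      have h2 := congrArg Subtype.val hk
      rw [Subgroup.coe_pow, Subgroup.coe_one] at h2
      exact h2
    have hord : orderOf (π ⟨α * β * α⁻¹, hconjF⟩) ∣ p ^ k := orderOf_dvd_of_pow_eq_one hk'
    have hord2 : orderOf (π ⟨α * β * α⁻¹, hconjF⟩) ∣
        Nat.card ↥(Y ⊓ Y.map (MulAut.conj (π ⟨α, hα⟩)).toMonoidHom) := by
      have := orderOf_dvd_natCard
        (⟨_, heI⟩ : ↥(Y ⊓ Y.map (MulAut.conj (π ⟨α, hα⟩)).toMonoidHom))
      rwa [Subgroup.orderOf_mk] at this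
    have h1 : orderOf (π ⟨α * β * α⁻¹, hconjF⟩) = 1 := by
      obtain ⟨j, hj, hj2⟩ := (Nat.dvd_prime_pow hp.out).mp hord
      rcases Nat.eq_zero_or_pos j with rfl | hjpos
      · simpa using hj2
      · exfalso
        apply hnd
        have : p ∣ orderOf (π ⟨α * β * α⁻¹, hconjF⟩) := by
          rw [hj2]; exact dvd_pow_self p hjpos.ne'
        exact this.trans hord2
    have he1 : π ⟨α * β * α⁻¹, hconjF⟩ = 1 := orderOf_eq_one_iff.mp h1
    have hb1 : π ⟨β, hβF⟩ = 1 := by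
      have h2 := heq.symm.trans he1
      have h3 := congrArg (fun t => (π ⟨α, hα⟩)⁻¹ * t * π ⟨α, hα⟩) h2
      simpa [mul_assoc] using h3
    have h4 : (⟨β, hβF⟩ : ↥(F.autGroup P)) ∈ (Inn P).subgroupOf (F.autGroup P) :=
      (QuotientGroup.eq_one_iff _).mp hb1
    exact Subgroup.mem_subgroupOf.mp h4

theorem key [Finite S] {p : ℕ} [hp : Fact p.Prime] (hS : IsPGroup p S) (F : FusionSystem S)
    (hF : F.IsSaturated p) {A : Subgroup Ω} (h : Setup S A) (hidx : (A.subgroupOf S).index = p)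
    {P : Subgroup Ω} (hP : F.IsEssential p P) {x : Ω} (hxP : x ∈ P) (hxA : x ∉ A) :
    ∃ Q' : Subgroup ↥P, Q'.Normal ∧ Q'.index = p ∧ Q' ≠ A.subgroupOf P ∧
      (∀ d ∈ A.subgroupOf P ⊓ Q', (d : Ω) ∈ S ⊓ Subgroup.centralizer (S : Set Ω)) ∧
      (∀ a ∈ A, a ∈ Subgroup.normalizer (P : Set Ω) → ∀ hf : fx x a ∈ P,
        (⟨fx x a, hf⟩ : ↥P) ∈ Q' → a ∈ P) ∧
      (Subgroup.center ↥P ≤ A.subgroupOf P → Subgroup.center ↥P ≤ Q') ∧
      (A.subgroupOf P).index = p ∧ ∃ a₀ ∈ A, a₀ ∈ normalizerIn S P ∧ a₀ ∉ P := by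
  have hPS : P ≤ S := hP.1.1
  haveI : Finite P := finite_of_le S hPS
  have hPp : IsPGroup p P := hS.to_le hPS
  have hxS : x ∈ S := hPS hxP
  have hcentric : centralizerIn S P ≤ P := hP.1.2 P (isConj_refl F hPS)
  have hrad := isRadical_of_isEssential hS F hP
  obtain ⟨_, hPfa⟩ := fullyNormalized_imp hS F hF hP.2.1
  obtain ⟨R₀, hR₀⟩ := hPfa.2
  have hSF : autInducedBy S P ≤ F.autGroup P := autInducedBy_le_autGroup F hPS
  have h𝔹p := isPGroup_autInducedBy hS P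
  have hPne : P ≠ S := by
    rintro rfl
    exact Cfsg.Agent.h26EssGen.essential_ne_top hS F hF hP
  have hPlt : P < S := lt_of_le_of_ne hPS hPne
  have hlt := lt_normalizerIn hS hPlt
  obtain ⟨n, hnN, hnP⟩ := SetLike.exists_of_lt hlt
  obtain ⟨a₀, ha₀A, k₀, hn⟩ := h.hdec x hxS hxA n hnN.1
  have hxN : x ∈ normalizerIn S P := (le_normalizerIn hPS) hxP
  have ha₀N : a₀ ∈ normalizerIn S P := by
    have : a₀ = n * (x ^ k₀)⁻¹ := by rw [hn]; group
    rw [this]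
    exact Subgroup.mul_mem _ hnN (Subgroup.inv_mem _ (Subgroup.pow_mem _ hxN k₀))
  have ha₀P : a₀ ∉ P := by
    intro h1
    apply hnP
    rw [hn]
    exact P.mul_mem h1 (P.pow_mem hxP k₀)
  have inn_imp : ∀ a (ha : a ∈ normalizerIn S P), normAut P a ha.2 ∈ Inn P → a ∈ P := by
    intro a ha hinn
    obtain ⟨y, hy⟩ := hinn
    have hc : (y : Ω)⁻¹ * a ∈ centralizerIn S P := by
      refine ⟨S.mul_mem (S.inv_mem (hPS y.2)) ha.1, ?_⟩
      show _ ∈ Subgroup.centralizer (P : Set Ω)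
      rw [Subgroup.mem_centralizer_iff]
      intro w hw
      have h1 : (y : Ω) * w * (y : Ω)⁻¹ = a * w * a⁻¹ :=
        congrArg (fun f : MulAut ↥P => ((f ⟨w, hw⟩ : ↥P) : Ω)) hy
      calc w * ((y : Ω)⁻¹ * a) = (y : Ω)⁻¹ * ((y : Ω) * w * (y : Ω)⁻¹) * a := by group
        _ = (y : Ω)⁻¹ * (a * w * a⁻¹) * a := by rw [h1]
        _ = (y : Ω)⁻¹ * a * w := by group
    have h2 := hcentric hc
    have : a = (y : Ω) * ((y : Ω)⁻¹ * a) := by group
    rw [this]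
    exact P.mul_mem y.2 h2
  have hsyl : ∀ Q : Subgroup (MulAut P), autInducedBy S P ≤ Q → Q ≤ F.autGroup P →
      IsPGroup p Q → Q = autInducedBy S P := by
    intro Q h1 h2 h3
    have h4 : IsPGroup p (Q.subgroupOf (F.autGroup P)) :=
      h3.comap_of_injective _ (Subgroup.subtype_injective _)
    have h5 : (R₀ : Subgroup _) ≤ Q.subgroupOf (F.autGroup P) := by
      rw [hR₀]
      intro a ha
      exact Subgroup.mem_subgroupOf.mpr (h1 (Subgroup.mem_subgroupOf.mp ha))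
    have h6 := R₀.is_maximal' h4 h5
    rw [hR₀, Subgroup.subgroupOf_inj, inf_eq_left.mpr h2, inf_eq_left.mpr hSF] at h6
    exact h6
  have hrad' : ∀ N : Subgroup (MulAut P), N ≤ F.autGroup P →
      F.autGroup P ≤ Subgroup.normalizer (N : Set (MulAut P)) → IsPGroup p N → N ≤ Inn P := by
    intro N h1 h2 h3
    have hN : (N.subgroupOf (F.autGroup P)).Normal :=
      (Subgroup.normal_subgroupOf_iff_le_normalizer h1).mpr h2
    have h4 : IsPGroup p (N.subgroupOf (F.autGroup P)) :=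
      h3.comap_of_injective _ (Subgroup.subtype_injective _)
    have h5 := le_pCore_h25 hN h4
    rw [← hrad.2]
    intro a ha
    exact ⟨⟨a, h1 ha⟩, h5 (Subgroup.mem_subgroupOf.mpr ha), rfl⟩
  obtain ⟨M, hMne, hMprop⟩ := exists_spe_lift hS F hF hP
  have hP₀c : ∀ a ∈ A.subgroupOf P, ∀ b ∈ A.subgroupOf P, a * b = b * a := by
    intro a ha b hb
    exact Subtype.ext (h.hAc a.1 (Subgroup.mem_subgroupOf.mp ha) b.1 (Subgroup.mem_subgroupOf.mp hb))
  have hmax : ∀ Q : Subgroup ↥P, A.subgroupOf P < Q → Q = ⊤ := by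
    intro Q hQ
    obtain ⟨y, hyQ, hyA⟩ := SetLike.exists_of_lt hQ
    have hyA' : (y : Ω) ∉ A := fun h1 => hyA (Subgroup.mem_subgroupOf.mpr h1)
    rw [eq_top_iff]
    intro w _
    obtain ⟨a, ha, k, hk⟩ := h.hdec y.1 (hPS y.2) hyA' w.1 (hPS w.2)
    have haP : a ∈ P := by
      have : a = w.1 * (y.1 ^ k)⁻¹ := by rw [hk]; group
      rw [this]
      exact P.mul_mem w.2 (P.inv_mem (P.pow_mem y.2 k))
    have : w = ⟨a, haP⟩ * y ^ k := Subtype.ext (by simpa using hk)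
    rw [this]
    exact Q.mul_mem (hQ.le (Subgroup.mem_subgroupOf.mpr ha)) (Q.pow_mem hyQ k)
  have h𝔹Z : ∀ β ∈ autInducedBy S P, ∀ d ∈ A.subgroupOf P, (∀ y : ↥P, d * y = y * d) →
      β d = d := by
    intro β hβ d hd hdc
    obtain ⟨g, hg, hgβ⟩ := (mem_autInducedBy_iff S P β).mp hβ
    have hdx : (d : Ω) * x = x * d := congrArg Subtype.val (hdc ⟨x, hxP⟩)
    have hdZ := h.cent_A hxS hxA (Subgroup.mem_subgroupOf.mp hd) hdx
    apply Subtype.ext
    rw [hgβ d]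
    have := Subgroup.mem_centralizer_iff.mp hdZ.2 g hg
    rw [this]
    group
  have hβ₀ : ∃ β₀ ∈ autInducedBy S P, β₀ ∉ Inn P ∧ β₀ ∈ chainStab (A.subgroupOf P) := by
    refine ⟨normAut P a₀ ha₀N.2, normAut_mem S P ha₀N, fun h1 => ha₀P (inn_imp a₀ ha₀N h1), ?_, ?_⟩
    · intro d hd
      apply Subtype.ext
      show a₀ * (d : Ω) * a₀⁻¹ = d
      rw [h.hAc a₀ ha₀A d (Subgroup.mem_subgroupOf.mp hd)]
      group
    · intro y
      rw [Subgroup.mem_subgroupOf]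
      show a₀ * (y : Ω) * a₀⁻¹ * (y : Ω)⁻¹ ∈ A
      have : a₀ * (y : Ω) * a₀⁻¹ * (y : Ω)⁻¹ = a₀ * ((y : Ω) * a₀⁻¹ * (y : Ω)⁻¹) := by group
      rw [this]
      exact A.mul_mem ha₀A (h.hAn y (hPS y.2) _ (A.inv_mem ha₀A))
  obtain ⟨α, hα, hαP, hDc, hmain⟩ := core_main hPp (F.autGroup P) (autInducedBy S P) M (Inn P)
    hSF h𝔹p hsyl hrad' hMne hMprop (A.subgroupOf P) hP₀c hmax h𝔹Z hβ₀
  have hidxP : (A.subgroupOf P).index = p := by
    have hPnA : P ≤ Subgroup.normalizer (A : Set Ω) := by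
      intro y hy
      rw [Subgroup.mem_normalizer_iff]
      intro a
      constructor
      · exact fun ha => h.hAn y (hPS hy) a ha
      · intro ha
        have := h.hAn y⁻¹ (S.inv_mem (hPS hy)) _ ha
        simpa [mul_assoc] using this
    have h1 := Cfsg.Agent.helper14.relIndex_sup_of_le_normalizer A P hPnA
    have h2 : A.relIndex (A ⊔ P) * (A ⊔ P).relIndex S = A.relIndex S :=
      Subgroup.relIndex_mul_relIndex _ _ _ le_sup_left (sup_le h.hAS hPS)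
    have h3 : A.relIndex S = p := hidx
    have h4 : A.relIndex (A ⊔ P) ≠ 1 := by
      rw [Ne, Subgroup.relIndex_eq_one]
      intro h5
      exact hxA (h5 ((le_sup_right : P ≤ A ⊔ P) hxP))
    have h5 : A.relIndex (A ⊔ P) ∣ p := by
      rw [← h3, ← h2]; exact dvd_mul_right _ _
    have h6 : A.relIndex (A ⊔ P) = p := ((Nat.dvd_prime hp.out).mp h5).resolve_left h4
    rw [h1, Subgroup.inf_relIndex_right] at h6
    exact h6
  have hQidx : ((A.subgroupOf P).map α.toMonoidHom).index = p := by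
    rw [Subgroup.index_map_of_bijective α.bijective]; exact hidxP
  have hQn : ((A.subgroupOf P).map α.toMonoidHom).Normal := by
    obtain ⟨m, hm⟩ := IsPGroup.iff_card.mp hPp
    have hm0 : m ≠ 0 := by
      rintro rfl
      have h1 : (A.subgroupOf P).index ∣ Nat.card P := Subgroup.index_dvd_card _
      rw [hidxP, hm, pow_zero] at h1
      exact hp.out.one_lt.ne' (Nat.dvd_one.mp h1)
    apply Subgroup.normal_of_index_eq_minFac_card
    rw [hQidx, hm, Nat.pow_minFac hm0, Nat.Prime.minFac_eq hp.out]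
  have hDZ : ∀ d ∈ A.subgroupOf P ⊓ (A.subgroupOf P).map α.toMonoidHom,
      (d : Ω) ∈ S ⊓ Subgroup.centralizer (S : Set Ω) := by
    intro d hd
    have hdx : (d : Ω) * x = x * d := congrArg Subtype.val (hDc d hd ⟨x, hxP⟩)
    exact h.cent_A hxS hxA (Subgroup.mem_subgroupOf.mp hd.1) hdx
  refine ⟨(A.subgroupOf P).map α.toMonoidHom, hQn, hQidx, hαP, hDZ, ?_, ?_, hidxP,
    a₀, ha₀A, ha₀N, ha₀P⟩
  · intro a haA haN hf hq
    have haN' : a ∈ normalizerIn S P := ⟨h.hAS haA, haN⟩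
    have hgA : fx x a ∈ A := h.fx_mem hxS haA
    have hgD : (⟨fx x a, hf⟩ : ↥P) ∈ A.subgroupOf P ⊓ (A.subgroupOf P).map α.toMonoidHom :=
      ⟨Subgroup.mem_subgroupOf.mpr hgA, hq⟩
    have hgZ := hDZ _ hgD
    apply inn_imp a haN'
    apply hmain _ (hSF (normAut_mem S P haN'))
    refine ⟨fun d hd => ?_, fun y => ?_⟩
    · apply Subtype.ext
      show a * (d : Ω) * a⁻¹ = d
      rw [h.hAc a haA d (Subgroup.mem_subgroupOf.mp hd.1)]
      group
    · obtain ⟨b, hb, k, hk⟩ := h.hdec x hxS hxA y.1 (hPS y.2)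
      have hu : x ^ k * a⁻¹ * (x ^ k)⁻¹ ∈ A := h.hAn _ (S.pow_mem hxS k) _ (A.inv_mem haA)
      have hab := h.hAc a haA b hb
      have hbu := h.hAc b hb _ (A.mul_mem haA hu)
      have hpc := h.pow_conj_central hgZ hxS k
      have e : a * (y : Ω) * a⁻¹ * (y : Ω)⁻¹ = (fx x a ^ k)⁻¹ := by
        rw [hk]
        calc a * (b * x ^ k) * a⁻¹ * (b * x ^ k)⁻¹
            = (a * b) * (x ^ k * a⁻¹ * (x ^ k)⁻¹) * b⁻¹ := by group
          _ = (b * a) * (x ^ k * a⁻¹ * (x ^ k)⁻¹) * b⁻¹ := by rw [hab]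
          _ = (b * (a * (x ^ k * a⁻¹ * (x ^ k)⁻¹))) * b⁻¹ := by group
          _ = ((a * (x ^ k * a⁻¹ * (x ^ k)⁻¹)) * b) * b⁻¹ := by rw [hbu]
          _ = a * (x ^ k * a * (x ^ k)⁻¹)⁻¹ := by group
          _ = a * (fx x a ^ k * a)⁻¹ := by rw [hpc]
          _ = (fx x a ^ k)⁻¹ := by group
      have e2 : (normAut P a haN) y * y⁻¹ = ((⟨fx x a, hf⟩ : ↥P) ^ k)⁻¹ := by
        apply Subtype.ext
        show a * (y : Ω) * a⁻¹ * (y : Ω)⁻¹ = _
        rw [e]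
        simp
      rw [e2]
      exact Subgroup.inv_mem _ (Subgroup.pow_mem _ hgD k)
  · intro hcen z hz
    have hz' : (α⁻¹ : MulAut ↥P) z ∈ Subgroup.center ↥P := by
      rw [Subgroup.mem_center_iff] at hz ⊢
      intro w
      have h1 := hz (α w)
      have h2 := congrArg (α⁻¹ : MulAut ↥P) h1
      simpa using h2
    refine ⟨(α⁻¹ : MulAut ↥P) z, hcen hz', ?_⟩
    show α ((α⁻¹ : MulAut ↥P) z) = z
    simp

end Cfsg.Agent.h26AbIdx
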