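import Cfsg.Agent.Lib_helper26_AbIdxD

set_option autoImplicit false
set_option linter.style.haveILetI false

namespace Cfsg.Agent.h26AbIdx

open Cfsg Cfsg.FusionSystem Cfsg.Agent.helper25

variable {Ω : Type*} [Group Ω] {S : Subgroup Ω}

/-- `P = (P ∩ A)⟨x⟩`. -/
theorem eq_sup_zpowers {A : Subgroup Ω} (h : Setup S A) {P : Subgroup Ω} (hPS : P ≤ S) {x : Ω}
    (hxP : x ∈ P) (hxA : x ∉ A) : P = (P ⊓ A) ⊔ Subgroup.zpowers x := by
  apply le_antisymm
  · intro y hy
    obtain ⟨a, ha, k, hk⟩ := h.hdec x (hPS hxP) hxA y (hPS hy)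
    have haP : a ∈ P := by
      have : a = y * (x ^ k)⁻¹ := by rw [hk]; group
      rw [this]
      exact P.mul_mem hy (P.inv_mem (P.pow_mem hxP k))
    rw [hk]
    exact Subgroup.mul_mem _ (Subgroup.mem_sup_left ⟨haP, ha⟩)
      (Subgroup.mem_sup_right (Subgroup.pow_mem _ (Subgroup.mem_zpowers x) k))
  · exact sup_le inf_le_left ((Subgroup.zpowers_le).mpr hxP)

/-- elements of `A₂` normalize `P` when `Z ≤ P`. -/
theorem A2_le_normalizer {A : Subgroup Ω} (h : Setup S A) {P : Subgroup Ω} (hPS : P ≤ S) {x : Ω}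
    (hxS : x ∈ S) (hxP : x ∈ P) (hxA : x ∉ A)
    (hZP : S ⊓ Subgroup.centralizer (S : Set Ω) ≤ P) :
    h.A2 hxS ≤ Subgroup.normalizer (P : Set Ω) := by
  have key : ∀ a ∈ h.A2 hxS, ∀ y ∈ P, a * y * a⁻¹ ∈ P := by
    intro a ha y hy
    rw [h.mem_A2 hxS hxA] at ha
    obtain ⟨haA, hg⟩ := ha
    obtain ⟨b, hb, k, hk⟩ := h.hdec x hxS hxA y (hPS hy)
    have hbP : b ∈ P := by
      have : b = y * (x ^ k)⁻¹ := by rw [hk]; group
      rw [this]
      exact P.mul_mem hy (P.inv_mem (P.pow_mem hxP k))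
    have hab := h.hAc a haA b hb
    have e1 : a * x * a⁻¹ = (fx x a)⁻¹ * x := by unfold fx; group
    have e2 : a * x ^ k * a⁻¹ = (a * x * a⁻¹) ^ k := by
      rw [← MulAut.conj_apply, map_pow]; rfl
    have e : a * y * a⁻¹ = b * ((fx x a)⁻¹ * x) ^ k := by
      rw [hk, ← e1, ← e2]
      calc a * (b * x ^ k) * a⁻¹ = (a * b) * x ^ k * a⁻¹ := by group
        _ = (b * a) * x ^ k * a⁻¹ := by rw [hab]
        _ = b * (a * x ^ k * a⁻¹) := by group
    rw [e]
    exact P.mul_mem hbP (P.pow_mem (P.mul_mem (P.inv_mem (hZP hg)) hxP) k)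
  intro a ha
  rw [Subgroup.mem_normalizer_iff]
  intro y
  constructor
  · exact key a ha y
  · intro hy
    have := key a⁻¹ (Subgroup.inv_mem _ ha) _ hy
    simpa [mul_assoc] using this

theorem main [Finite S] {p : ℕ} [hp : Fact p.Prime] (hS : IsPGroup p S) (F : FusionSystem S)
    (hF : F.IsSaturated p) {A : Subgroup Ω} (h : Setup S A) (hidx : (A.subgroupOf S).index = p)
    {P : Subgroup Ω} (hP : F.IsEssential p P) {x : Ω} (hxS : x ∈ S) (hxP : x ∈ P) (hxA : x ∉ A) :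
    P.relIndex (normalizerIn S P) = p ∧
    (S ⊓ Subgroup.centralizer (S : Set Ω)).relIndex (h.A2 hxS) = p ∧
    (P ⊓ A = S ⊓ Subgroup.centralizer (S : Set Ω) ∨ P ⊓ A = h.A2 hxS) := by
  have hPS : P ≤ S := hP.1.1
  haveI : Finite P := finite_of_le S hPS
  have hcentric : centralizerIn S P ≤ P := hP.1.2 P (isConj_refl F hPS)
  have hZP : S ⊓ Subgroup.centralizer (S : Set Ω) ≤ P := by
    intro z hz
    apply hcentric
    refine ⟨hz.1, ?_⟩
    show z ∈ Subgroup.centralizer (P : Set Ω)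
    rw [Subgroup.mem_centralizer_iff]
    intro w hw
    exact Subgroup.mem_centralizer_iff.mp hz.2 w (hPS hw)
  have hZA := h.Z_le_A
  obtain ⟨Q', hQn, hQidx, hQne, hDZ, hkey, hcen, hidxP, a₀, ha₀A, ha₀N, ha₀P⟩ :=
    key hS F hF h hidx hP hxP hxA
  have hPeq := eq_sup_zpowers h hPS hxP hxA
  -- commutators in Q'
  have hcardQ : Nat.card (↥P ⧸ Q') = p := by rw [← Subgroup.index_eq_card]; exact hQidx
  haveI : IsCyclic (↥P ⧸ Q') := isCyclic_of_prime_card hcardQ
  have hcomm : ∀ y w : ↥P, y * w * y⁻¹ * w⁻¹ ∈ Q' := by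
    intro y w
    rw [← QuotientGroup.eq_one_iff]
    simp only [QuotientGroup.mk_mul, QuotientGroup.mk_inv]
    rw [mul_comm' (y : ↥P ⧸ Q') (w : ↥P ⧸ Q')]
    group
  have hfxP : ∀ b ∈ P ⊓ A, ∃ hf : fx x b ∈ P, (⟨fx x b, hf⟩ : ↥P) ∈ A.subgroupOf P ⊓ Q' := by
    intro b hb
    have hf : fx x b ∈ P := P.mul_mem (P.mul_mem (P.mul_mem hxP hb.1) (P.inv_mem hxP)) (P.inv_mem hb.1)
    refine ⟨hf, Subgroup.mem_subgroupOf.mpr (h.fx_mem hxS hb.2), ?_⟩
    exact hcomm ⟨x, hxP⟩ ⟨b, hb.1⟩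
  -- N_A
  set N := normalizerIn S P with hN
  have hPN : P ≤ N := le_normalizerIn hPS
  have hNA_norm : N ⊓ A ≤ Subgroup.normalizer (P : Set Ω) := fun a ha => ha.1.2
  have hfN : ∀ a ∈ N ⊓ A, fx x a ∈ P := by
    intro a ha
    have h1 : a * x⁻¹ * a⁻¹ ∈ P := (Subgroup.mem_normalizer_iff.mp ha.1.2 x⁻¹).mp (P.inv_mem hxP)
    have : fx x a = x * (a * x⁻¹ * a⁻¹) := by unfold fx; group
    rw [this]
    exact P.mul_mem hxP h1
  let g : ↥(N ⊓ A) →* (↥P ⧸ Q') :=
    { toFun := fun a => QuotientGroup.mk (⟨fx x a, hfN a.1 a.2⟩ : ↥P)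
      map_one' := by
        rw [← QuotientGroup.mk_one]
        congr 1
        exact Subtype.ext (fx_one x)
      map_mul' := by
        intro a b
        rw [← QuotientGroup.mk_mul]
        congr 1
        exact Subtype.ext (h.fx_mul hxS a.2.2 b.2.2) }
  have hker : g.ker = (P ⊓ A).subgroupOf (N ⊓ A) := by
    ext a
    rw [MonoidHom.mem_ker, Subgroup.mem_subgroupOf]
    constructor
    · intro h1
      have h2 : (⟨fx x a, hfN a.1 a.2⟩ : ↥P) ∈ Q' := (QuotientGroup.eq_one_iff _).mp h1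
      exact ⟨hkey a.1 a.2.2 a.2.1.2 _ h2, a.2.2⟩
    · intro h1
      obtain ⟨hf, h2⟩ := hfxP a.1 h1
      exact (QuotientGroup.eq_one_iff _).mpr h2.2
  have hrel1 : (P ⊓ A).relIndex (N ⊓ A) = p := by
    have h1 : g.ker.index = Nat.card g.range := Subgroup.index_ker g
    have h2 : Nat.card g.range ∣ p := by
      rw [← hcardQ]; exact Subgroup.card_subgroup_dvd_card _
    have h3 : (P ⊓ A).relIndex (N ⊓ A) ∣ p := by
      show ((P ⊓ A).subgroupOf (N ⊓ A)).index ∣ p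
      rw [← hker, h1]; exact h2
    have h4 : (P ⊓ A).relIndex (N ⊓ A) ≠ 1 := by
      rw [Ne, Subgroup.relIndex_eq_one]
      intro h5
      exact ha₀P (h5 ⟨ha₀N, ha₀A⟩).1
    exact ((Nat.dvd_prime hp.out).mp h3).resolve_left h4
  have hN1 : P.relIndex N = p := by
    have h1 := Cfsg.Agent.helper14.relIndex_sup_of_le_normalizer P (N ⊓ A) hNA_norm
    have h2 : P ⊔ (N ⊓ A) = N := by
      apply le_antisymm (sup_le hPN inf_le_left)
      intro n hn
      obtain ⟨a, ha, k, hk⟩ := h.hdec x hxS hxA n hn.1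
      have haN : a ∈ N := by
        have : a = n * (x ^ k)⁻¹ := by rw [hk]; group
        rw [this]
        exact Subgroup.mul_mem _ hn (Subgroup.inv_mem _ (Subgroup.pow_mem _ (hPN hxP) k))
      rw [hk]
      exact Subgroup.mul_mem _ (Subgroup.mem_sup_right ⟨haN, ha⟩)
        (Subgroup.mem_sup_left (P.pow_mem hxP k))
    have h3 : P ⊓ (N ⊓ A) = P ⊓ A := by
      apply le_antisymm
      · exact fun y hy => ⟨hy.1, hy.2.2⟩
      · exact fun y hy => ⟨hy.1, hPN hy.1, hy.2⟩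
    rw [h2, h3] at h1
    rw [h1]; exact hrel1
  refine ⟨hN1, ?_⟩
  have hA2n := A2_le_normalizer h hPS hxS hxP hxA hZP
  have hZP₀ : S ⊓ Subgroup.centralizer (S : Set Ω) ≤ P ⊓ A := le_inf hZP hZA
  by_cases hab : ∀ y ∈ P, ∀ w ∈ P, y * w = w * y
  · -- abelian case
    have hP₀Z : P ⊓ A = S ⊓ Subgroup.centralizer (S : Set Ω) := by
      apply le_antisymm _ hZP₀
      intro b hb
      exact h.cent_A hxS hxA hb.2 (hab b hb.1 x hxP)
    have hNA : N ⊓ A = h.A2 hxS := by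
      apply le_antisymm
      · intro a ha
        rw [h.mem_A2 hxS hxA]
        refine ⟨ha.2, ?_⟩
        rw [← hP₀Z]
        exact ⟨hfN a ha, h.fx_mem hxS ha.2⟩
      · intro a ha
        have ha' := (h.mem_A2 hxS hxA).mp ha
        exact ⟨⟨h.hAS ha'.1, hA2n ha⟩, ha'.1⟩
    refine ⟨?_, Or.inl hP₀Z⟩
    rw [← hNA, ← hP₀Z]; exact hrel1
  · -- nonabelian case
    push Not at hab
    obtain ⟨y₁, hy₁, w₁, hw₁, hyw⟩ := hab
    have hcenle : Subgroup.center ↥P ≤ A.subgroupOf P := by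
      intro z hz
      rw [Subgroup.mem_subgroupOf]
      by_contra hzA
      have hP₀Z : ∀ b ∈ P ⊓ A, b ∈ S ⊓ Subgroup.centralizer (S : Set Ω) := by
        intro b hb
        apply h.cent_A (hPS z.2) hzA hb.2
        have := Subgroup.mem_center_iff.mp hz ⟨b, hb.1⟩
        exact congrArg Subtype.val this
      apply hyw
      obtain ⟨b, hb, k, hk⟩ := h.hdec x hxS hxA y₁ (hPS hy₁)
      obtain ⟨b', hb', j, hj⟩ := h.hdec x hxS hxA w₁ (hPS hw₁)
      have hbP : b ∈ P := by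
        have : b = y₁ * (x ^ k)⁻¹ := by rw [hk]; group
        rw [this]
        exact P.mul_mem hy₁ (P.inv_mem (P.pow_mem hxP k))
      have hb'P : b' ∈ P := by
        have : b' = w₁ * (x ^ j)⁻¹ := by rw [hj]; group
        rw [this]
        exact P.mul_mem hw₁ (P.inv_mem (P.pow_mem hxP j))
      have hbZ := hP₀Z b ⟨hbP, hb⟩
      have hb'Z := hP₀Z b' ⟨hb'P, hb'⟩
      have c1 : ∀ s ∈ S, Commute s b := fun s hs => Subgroup.mem_centralizer_iff.mp hbZ.2 s hs
      have c2 : ∀ s ∈ S, Commute s b' := fun s hs => Subgroup.mem_centralizer_iff.mp hb'Z.2 s hs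
      rw [hk, hj]
      have d1 : Commute b (b' * x ^ j) :=
        ((c1 b' (h.hAS hb')).symm).mul_right ((c1 _ (S.pow_mem hxS j)).symm)
      have d2 : Commute (x ^ k) (b' * x ^ j) :=
        (c2 _ (S.pow_mem hxS k)).mul_right (Commute.pow_pow_self x k j)
      exact (d1.mul_left d2).eq
    have hcenQ := hcen hcenle
    have hZcen : ∀ z (hz : z ∈ S ⊓ Subgroup.centralizer (S : Set Ω)),
        (⟨z, hZP hz⟩ : ↥P) ∈ Subgroup.center ↥P := by
      intro z hz
      rw [Subgroup.mem_center_iff]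
      intro w
      apply Subtype.ext
      exact Subgroup.mem_centralizer_iff.mp hz.2 w.1 (hPS w.2)
    have hP₀A2 : P ⊓ A = h.A2 hxS := by
      apply le_antisymm
      · intro b hb
        rw [h.mem_A2 hxS hxA]
        obtain ⟨hf, h2⟩ := hfxP b hb
        exact ⟨hb.2, hDZ _ h2⟩
      · intro a ha
        have ha' := (h.mem_A2 hxS hxA).mp ha
        have haN := hA2n ha
        have hf : fx x a ∈ P := hZP ha'.2
        have hq : (⟨fx x a, hf⟩ : ↥P) ∈ Q' := hcenQ (hZcen _ ha'.2)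
        exact ⟨hkey a ha'.1 haN hf hq, ha'.1⟩
    refine ⟨?_, Or.inr hP₀A2⟩
    rw [← hP₀A2]
    -- |P₀ : Z| = p
    have hDmap : (A.subgroupOf P ⊓ Q').map P.subtype = S ⊓ Subgroup.centralizer (S : Set Ω) := by
      apply le_antisymm
      · rintro _ ⟨d, hd, rfl⟩
        exact hDZ d hd
      · intro z hz
        exact ⟨⟨z, hZP hz⟩, ⟨hcenle (hZcen z hz), hcenQ (hZcen z hz)⟩, rfl⟩
    have hP₀map : (A.subgroupOf P).map P.subtype = P ⊓ A := by
      rw [Subgroup.subgroupOf_map_subtype, inf_comm]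
    rw [← hDmap, ← hP₀map,
      Subgroup.relIndex_map_map_of_injective _ _ (Subgroup.subtype_injective P),
      Subgroup.inf_relIndex_left]
    have h3 : Q'.relIndex (A.subgroupOf P) ∣ p := by
      rw [← hQidx]; exact Subgroup.relIndex_dvd_index_of_normal _ _
    have h4 : Q'.relIndex (A.subgroupOf P) ≠ 1 := by
      rw [Ne, Subgroup.relIndex_eq_one]
      intro h5
      apply hQne
      symm
      apply Subgroup.eq_of_le_of_card_ge h5
      have c1 := Subgroup.card_mul_index Q'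
      have c2 := Subgroup.card_mul_index (A.subgroupOf P)
      rw [hQidx] at c1
      rw [hidxP] at c2
      have : Nat.card ↥Q' * p = Nat.card ↥(A.subgroupOf P) * p := by rw [c1, c2]
      exact (Nat.eq_of_mul_eq_mul_right hp.out.pos this).le
    exact ((Nat.dvd_prime hp.out).mp h3).resolve_left h4

end Cfsg.Agent.h26AbIdx
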