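import Cfsg.Agent.Lib_helper26_AbIdxB

set_option autoImplicit false
set_option linter.style.haveILetI false

namespace Cfsg.Agent.h26AbIdx

open Subgroup

variable {Ω : Type*} [Group Ω]

namespace Setup

variable {S A : Subgroup Ω} (h : Setup S A)

include h

theorem Z2_le_A [Finite S] {p : ℕ} [hp : Fact p.Prime] (hidx : (A.subgroupOf S).index = p)
    (huniq : ∀ B : Subgroup Ω, B ≤ S → IsMulCommutative ↥B → (B.subgroupOf S).index = p → B = A)
    (hZ0 : Nat.card ↥((S ⊓ centralizer (S : Set Ω)) ⊓ ⁅S, S⁆) = p) :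
    (_root_.upperCentralSeries ↥S 2).map S.subtype ≤ A := by
  intro y hy
  by_contra hyA
  rw [mem_Z2_iff] at hy
  obtain ⟨hyS, hy2⟩ := hy
  haveI := h.finiteA
  have hfin0 : Finite ↥((S ⊓ centralizer (S : Set Ω)) ⊓ ⁅S, S⁆) :=
    Finite.of_injective (Subgroup.inclusion (inf_le_left.trans inf_le_left))
      (Subgroup.inclusion_injective _)
  have h1 : ((S ⊓ centralizer (S : Set Ω)).subgroupOf A).index ∣ p := by
    rw [h.index_Z_A hyS hyA]
    have hle : ⁅S, S⁆ ≤ (S ⊓ centralizer (S : Set Ω)) ⊓ ⁅S, S⁆ := by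
      apply le_inf _ le_rfl
      rw [h.comm_eq hyS hyA]
      rintro _ ⟨_, ⟨a, rfl⟩, rfl⟩
      exact hy2 a (h.hAS a.2)
    rw [← hZ0]
    exact Subgroup.card_dvd_of_le hle
  have hZS : (S ⊓ centralizer (S : Set Ω)).relIndex A * A.relIndex S =
      (S ⊓ centralizer (S : Set Ω)).relIndex S :=
    Subgroup.relIndex_mul_relIndex _ _ _ h.Z_le_A h.hAS
  have hAS' : A.relIndex S = p := hidx
  -- B = C_S(y)
  set B : Subgroup Ω := S ⊓ centralizer ({y} : Set Ω) with hB
  have hyB : y ∈ B := ⟨hyS, Subgroup.mem_centralizer_singleton_iff.mpr rfl⟩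
  have hZB : S ⊓ centralizer (S : Set Ω) ≤ B := by
    intro z hz
    refine ⟨hz.1, Subgroup.mem_centralizer_singleton_iff.mpr ?_⟩
    exact (mem_centralizer_iff.mp hz.2 y hyS).symm
  have hyZ : y ∉ S ⊓ centralizer (S : Set Ω) := fun h2 => hyA (h.Z_le_A h2)
  have hBc : ∀ u ∈ B, ∀ v ∈ B, u * v = v * u := by
    intro u hu v hv
    obtain ⟨a, ha, i, hi⟩ := h.hdec y hyS hyA u hu.1
    obtain ⟨b, hb, j, hj⟩ := h.hdec y hyS hyA v hv.1
    have huy : u * y = y * u := Subgroup.mem_centralizer_singleton_iff.mp hu.2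
    have hvy : v * y = y * v := Subgroup.mem_centralizer_singleton_iff.mp hv.2
    have hay : a * y = y * a := by
      have e : a = u * (y ^ i)⁻¹ := by rw [hi]; group
      have c1 : Commute u y := huy
      have c2 : Commute ((y ^ i)⁻¹) y := ((Commute.refl y).pow_left i).inv_left
      rw [e]
      exact (c1.mul_left c2).eq
    have hby : b * y = y * b := by
      have e : b = v * (y ^ j)⁻¹ := by rw [hj]; group
      have c1 : Commute v y := hvy
      have c2 : Commute ((y ^ j)⁻¹) y := ((Commute.refl y).pow_left j).inv_left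
      rw [e]
      exact (c1.mul_left c2).eq
    have haZ := h.cent_A hyS hyA ha hay
    have hbZ := h.cent_A hyS hyA hb hby
    have c1 : ∀ s ∈ S, Commute s a := fun s hs => mem_centralizer_iff.mp haZ.2 s hs
    have c2 : ∀ s ∈ S, Commute s b := fun s hs => mem_centralizer_iff.mp hbZ.2 s hs
    rw [hi, hj]
    have d1 : Commute a (b * y ^ j) :=
      ((c1 b (h.hAS hb)).symm).mul_right ((c1 _ (S.pow_mem hyS j)).symm)
    have d2 : Commute (y ^ i) (b * y ^ j) :=
      (c2 _ (S.pow_mem hyS i)).mul_right (Commute.pow_pow_self y i j)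
    exact (d1.mul_left d2).eq
  have hBS : B ≤ S := inf_le_left
  have hrel : (S ⊓ centralizer (S : Set Ω)).relIndex B * B.relIndex S =
      (S ⊓ centralizer (S : Set Ω)).relIndex S :=
    Subgroup.relIndex_mul_relIndex _ _ _ hZB hBS
  have hne1 : (S ⊓ centralizer (S : Set Ω)).relIndex B ≠ 1 := by
    rw [Ne, Subgroup.relIndex_eq_one]
    exact fun h2 => hyZ (h2 hyB)
  have hne2 : B.relIndex S ≠ 1 := by
    rw [Ne, Subgroup.relIndex_eq_one]
    intro h2
    apply hyZ
    refine ⟨hyS, mem_centralizer_iff.mpr fun s hs => ?_⟩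
    exact Subgroup.mem_centralizer_singleton_iff.mp (h2 hs).2
  have hBidx : B.relIndex S = p := by
    rcases (Nat.dvd_prime hp.out).mp h1 with h3 | h3
    · -- |S : Z| = p
      have h4 : (S ⊓ centralizer (S : Set Ω)).relIndex A = 1 := h3
      rw [h4, one_mul, hAS'] at hZS
      rw [← hZS] at hrel
      have h5 : (S ⊓ centralizer (S : Set Ω)).relIndex B ∣ p := ⟨_, hrel.symm⟩
      rcases (Nat.dvd_prime hp.out).mp h5 with h6 | h6
      · exact absurd h6 hne1
      · rw [h6] at hrel
        have : B.relIndex S = 1 := by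
          have hp0 := hp.out.pos
          have : p * B.relIndex S = p * 1 := by rw [hrel, mul_one]
          exact Nat.eq_of_mul_eq_mul_left hp0 this
        exact absurd this hne2
    · have h4 : (S ⊓ centralizer (S : Set Ω)).relIndex A = p := h3
      rw [h4, hAS'] at hZS
      rw [← hZS] at hrel
      have h5 : B.relIndex S ∣ p ^ 2 := ⟨_, by rw [pow_two, ← hrel, mul_comm]⟩
      obtain ⟨i, hi, hi2⟩ := (Nat.dvd_prime_pow hp.out).mp h5
      interval_cases i
      · rw [pow_zero] at hi2; exact absurd hi2 hne2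
      · rw [pow_one] at hi2; exact hi2
      · exfalso
        rw [hi2] at hrel
        have : (S ⊓ centralizer (S : Set Ω)).relIndex B = 1 := by
          have hp0 : 0 < p ^ 2 := pow_pos hp.out.pos 2
          have : (S ⊓ centralizer (S : Set Ω)).relIndex B * p ^ 2 = 1 * p ^ 2 := by
            rw [hrel, one_mul, pow_two]
          exact Nat.eq_of_mul_eq_mul_right hp0 this
        exact hne1 this
  have hBA := huniq B hBS ⟨⟨fun u v => Subtype.ext (hBc u u.2 v v.2)⟩⟩ hBidx
  exact hyA (hBA ▸ hyB)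

theorem Z2_eq_A2 {x : Ω} (hx : x ∈ S) (hxA : x ∉ A)
    (hZ2 : (_root_.upperCentralSeries ↥S 2).map S.subtype ≤ A) :
    (_root_.upperCentralSeries ↥S 2).map S.subtype = h.A2 hx := by
  apply le_antisymm
  · intro y hy
    rw [h.mem_A2 hx hxA]
    refine ⟨hZ2 hy, ?_⟩
    rw [mem_Z2_iff] at hy
    have h1 := Subgroup.inv_mem _ (hy.2 x hx)
    have e : (y * x * y⁻¹ * x⁻¹)⁻¹ = fx x y := by unfold fx; group
    rw [e] at h1
    exact h1
  · intro a ha
    rw [h.mem_A2 hx hxA] at ha
    exact h.mem_Z2_of hx hxA ha.1 ha.2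

end Setup

end Cfsg.Agent.h26AbIdx
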