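import Cfsg.Agent.Lib_helper26_AbIdxC
import Cfsg.Agent.Lib_helper25_SatRS

set_option autoImplicit false
set_option linter.style.haveILetI false

namespace Cfsg.Agent.h26AbIdx

section T

variable {P : Type*} [Group P]

theorem exists_dvd_add_mul {p : ℕ} [hp : Fact p.Prime] (b m : ℕ) (hb : ¬ p ∣ b) :
    ∃ j : ℕ, p ∣ m + b * j := by
  have hb' : (b : ZMod p) ≠ 0 := fun h => hb ((ZMod.natCast_eq_zero_iff _ _).mp h)
  refine ⟨((-(m : ZMod p)) * (b : ZMod p)⁻¹).val, ?_⟩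
  rw [← ZMod.natCast_eq_zero_iff]
  push_cast
  rw [ZMod.natCast_zmod_val]
  field_simp
  ring

theorem pow_eq_one_of_dvd {z : P} {p : ℕ} (hz : z ^ p = 1) {n : ℕ} (h : p ∣ n) : z ^ n = 1 := by
  obtain ⟨q, rfl⟩ := h
  rw [pow_mul, hz, one_pow]

theorem aut_pow_fix {u : MulAut P} {z : P} (hz : u z = z) (n : ℕ) : (u ^ n) z = z := by
  induction n with
  | zero => simp
  | succ n ih => rw [pow_succ', MulAut.mul_apply, ih, hz]

theorem aut_pow_shift {u : MulAut P} {z : P} (hz : u z = z) {y : P} {k : ℕ}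
    (h : u y = y * z ^ k) (n : ℕ) : (u ^ n) y = y * z ^ (k * n) := by
  induction n with
  | zero => simp
  | succ n ih =>
    rw [pow_succ', MulAut.mul_apply, ih, map_mul, map_pow, hz, h, mul_assoc, ← pow_add,
      Nat.mul_succ, Nat.add_comm]

theorem card_zpowers_of_prime {G : Type*} [Group G] {p : ℕ} [hp : Fact p.Prime] {u : G}
    (h1 : u ^ p = 1) (h2 : u ≠ 1) : Nat.card (Subgroup.zpowers u) = p := by
  rw [Nat.card_zpowers]
  exact orderOf_eq_prime h1 h2

/-- a `p`-subgroup of a group of order not divisible by `p²` containing an element `u` of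
order `p` is `⟨u⟩`. -/
theorem eq_zpowers_of_pgroup {G : Type*} [Group G] [Finite G] {p : ℕ} [hp : Fact p.Prime]
    (𝔸 : Subgroup G) (hcard : ¬ p ^ 2 ∣ Nat.card 𝔸) {u : G} (h1 : u ^ p = 1) (h2 : u ≠ 1)
    (Q : Subgroup G) (hQ𝔸 : Q ≤ 𝔸) (hQp : IsPGroup p Q) (huQ : u ∈ Q) :
    Q = Subgroup.zpowers u := by
  symm
  apply Subgroup.eq_of_le_of_card_ge ((Subgroup.zpowers_le).mpr huQ)
  rw [card_zpowers_of_prime h1 h2]
  obtain ⟨m, hm⟩ := IsPGroup.iff_card.mp hQp
  have hdvd : Nat.card Q ∣ Nat.card 𝔸 := Subgroup.card_dvd_of_le hQ𝔸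
  rw [hm] at hdvd ⊢
  have hm1 : m ≤ 1 := by
    by_contra hcon
    push Not at hcon
    exact hcard ((pow_dvd_pow p hcon).trans hdvd)
  calc p ^ m ≤ p ^ 1 := Nat.pow_le_pow_right hp.out.pos hm1
    _ = p := pow_one p

variable [Finite P] {p : ℕ} [hp : Fact p.Prime]

theorem aux_nondeg (hP : IsPGroup p P) (hc : ∀ a b : P, a * b = b * a)
    (𝔸 : Subgroup (MulAut P)) (hcard : ¬ p ^ 2 ∣ Nat.card 𝔸)
    (u u' : MulAut P) (hu𝔸 : u ∈ 𝔸) (hu'𝔸 : u' ∈ 𝔸)
    (hou : u ^ p = 1) (hu1 : u ≠ 1) (hou' : u' ^ p = 1) (hu'1 : u' ≠ 1)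
    (hne : Subgroup.zpowers u ≠ Subgroup.zpowers u')
    (z z' : P) (huz : u z = z) (hu'z' : u' z' = z')
    (hu : ∀ y, ∃ k : ℕ, u y = y * z ^ k) (hu' : ∀ y, ∃ k : ℕ, u' y = y * z' ^ k)
    (hfix : u' z = z) : False := by
  set D : Subgroup P := Subgroup.closure {z, z'} with hD
  have hzD : z ∈ D := Subgroup.subset_closure (by simp)
  have hz'D : z' ∈ D := Subgroup.subset_closure (by simp)
  have hu'D : ∀ d ∈ D, u' d = d := by
    intro d hd
    induction hd using Subgroup.closure_induction with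
    | mem x hx =>
      rcases hx with rfl | rfl
      · exact hfix
      · exact hu'z'
    | one => exact map_one _
    | mul x y _ _ hx hy => rw [map_mul, hx, hy]
    | inv x _ hx => rw [map_inv, hx]
  have hu'c : u' ∈ chainStab D := by
    refine ⟨hu'D, fun y => ?_⟩
    obtain ⟨k, hk⟩ := hu' y
    rw [hk, hc y, mul_inv_cancel_right]
    exact D.pow_mem hz'D k
  have huD : ∀ d ∈ D, u d ∈ D := by
    intro d hd
    induction hd using Subgroup.closure_induction with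
    | mem x hx =>
      rcases hx with rfl | rfl
      · rw [huz]; exact hzD
      · obtain ⟨k, hk⟩ := hu x
        rw [hk]
        exact D.mul_mem hz'D (D.pow_mem hzD k)
    | one => rw [map_one]; exact D.one_mem
    | mul x y _ _ hx hy => rw [map_mul]; exact D.mul_mem hx hy
    | inv x _ hx => rw [map_inv]; exact D.inv_mem hx
  have hupD : ∀ n : ℕ, ∀ d ∈ D, (u ^ n) d ∈ D := by
    intro n
    induction n with
    | zero => intro d hd; simpa using hd
    | succ n ih =>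
      intro d hd
      rw [pow_succ', MulAut.mul_apply]
      exact huD _ (ih d hd)
  have huiff : ∀ d, d ∈ D ↔ u d ∈ D := by
    intro d
    refine ⟨huD d, fun h => ?_⟩
    have h1 := hupD (p - 1) _ h
    have h2 : (u ^ (p - 1)) (u d) = d := by
      rw [← MulAut.mul_apply, ← pow_succ, Nat.sub_add_cancel hp.out.pos, hou]
      rfl
    rwa [h2] at h1
  have hv : u * u' * u⁻¹ ∈ chainStab D := conj_mem_chainStab huiff hu'c
  set Q' : Subgroup (MulAut P) := Subgroup.closure {u', u * u' * u⁻¹} with hQ'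
  have hQ'c : Q' ≤ chainStab D := by
    rw [hQ', Subgroup.closure_le]
    rintro x (rfl | rfl)
    · exact hu'c
    · exact hv
  have hQ'p : IsPGroup p Q' := (isPGroup_chainStab hP D).to_le hQ'c
  have hQ'𝔸 : Q' ≤ 𝔸 := by
    rw [hQ', Subgroup.closure_le]
    rintro x (rfl | rfl)
    · exact hu'𝔸
    · exact 𝔸.mul_mem (𝔸.mul_mem hu𝔸 hu'𝔸) (𝔸.inv_mem hu𝔸)
  have hQ'eq : Q' = Subgroup.zpowers u' :=
    eq_zpowers_of_pgroup 𝔸 hcard hou' hu'1 Q' hQ'𝔸 hQ'p (Subgroup.subset_closure (by simp))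
  have hvz : u * u' * u⁻¹ ∈ Subgroup.zpowers u' := by
    rw [← hQ'eq]; exact Subgroup.subset_closure (by simp)
  have key : ∀ y ∈ Subgroup.zpowers u', u * y * u⁻¹ ∈ Subgroup.zpowers u' := by
    intro y hy
    obtain ⟨i, rfl⟩ := Subgroup.mem_zpowers_iff.mp hy
    have : u * u' ^ i * u⁻¹ = (u * u' * u⁻¹) ^ i := by
      rw [conj_zpow]
    rw [this]
    exact Subgroup.zpow_mem _ hvz i
  have keyn : ∀ n : ℕ, ∀ y ∈ Subgroup.zpowers u', u ^ n * y * (u ^ n)⁻¹ ∈ Subgroup.zpowers u' := by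
    intro n
    induction n with
    | zero => intro y hy; simpa using hy
    | succ n ih =>
      intro y hy
      have h1 := key _ (ih y hy)
      have e : u ^ (n + 1) * y * (u ^ (n + 1))⁻¹ = u * (u ^ n * y * (u ^ n)⁻¹) * u⁻¹ := by
        rw [pow_succ']; group
      rw [e]; exact h1
  have hnorm : Subgroup.zpowers u ≤ Subgroup.normalizer (Subgroup.zpowers u' : Set (MulAut P)) := by
    apply Cfsg.Agent.helper25.le_normalizer_of_conj_mem
    intro x hx y hy
    rw [← mem_powers_iff_mem_zpowers] at hx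
    obtain ⟨n, rfl⟩ := hx
    exact keyn n y hy
  have hUp : IsPGroup p (Subgroup.zpowers u) :=
    IsPGroup.of_card (n := 1) (by rw [card_zpowers_of_prime hou hu1, pow_one])
  have hU'p : IsPGroup p (Subgroup.zpowers u') :=
    IsPGroup.of_card (n := 1) (by rw [card_zpowers_of_prime hou' hu'1, pow_one])
  have hsup : IsPGroup p (Subgroup.zpowers u ⊔ Subgroup.zpowers u' : Subgroup (MulAut P)) :=
    IsPGroup.to_sup_of_normal_right' hUp hU'p hnorm
  have hsup𝔸 : Subgroup.zpowers u ⊔ Subgroup.zpowers u' ≤ 𝔸 :=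
    sup_le ((Subgroup.zpowers_le).mpr hu𝔸) ((Subgroup.zpowers_le).mpr hu'𝔸)
  have e1 := eq_zpowers_of_pgroup 𝔸 hcard hou hu1 _ hsup𝔸 hsup
    (Subgroup.mem_sup_left (Subgroup.mem_zpowers u))
  have e2 := eq_zpowers_of_pgroup 𝔸 hcard hou' hu'1 _ hsup𝔸 hsup
    (Subgroup.mem_sup_right (Subgroup.mem_zpowers u'))
  exact hne (e1.symm.trans e2)

/-- the main lemma on two subgroups of order `p` acting as "transvections" on an abelian
`p`-group. -/
theorem lemmaT (hP : IsPGroup p P) (hc : ∀ a b : P, a * b = b * a)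
    (𝔸 : Subgroup (MulAut P)) (hcard : ¬ p ^ 2 ∣ Nat.card 𝔸)
    (u u' : MulAut P) (hu𝔸 : u ∈ 𝔸) (hu'𝔸 : u' ∈ 𝔸)
    (hou : u ^ p = 1) (hu1 : u ≠ 1) (hou' : u' ^ p = 1) (hu'1 : u' ≠ 1)
    (hne : Subgroup.zpowers u ≠ Subgroup.zpowers u')
    (z z' : P) (hz : z ^ p = 1) (hz' : z' ^ p = 1)
    (huz : u z = z) (hu'z' : u' z' = z')
    (hu : ∀ y, ∃ k : ℕ, u y = y * z ^ k) (hu' : ∀ y, ∃ k : ℕ, u' y = y * z' ^ k) :
    (∃ t ∈ Subgroup.closure ({u, u'} : Set (MulAut P)), t z = z⁻¹) ∧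
    (∀ y, u y = y → ∃ j : ℕ, u' (y * z ^ j) = y * z ^ j) := by
  obtain ⟨a, ha⟩ := hu z'
  obtain ⟨b, hb⟩ := hu' z
  have hb0 : ¬ p ∣ b := by
    intro hdvd
    have h1 : u' z = z := by rw [hb, pow_eq_one_of_dvd hz' hdvd, mul_one]
    exact aux_nondeg hP hc 𝔸 hcard u u' hu𝔸 hu'𝔸 hou hu1 hou' hu'1 hne z z' huz hu'z' hu hu' h1
  have ha0 : ¬ p ∣ a := by
    intro hdvd
    have h1 : u z' = z' := by rw [ha, pow_eq_one_of_dvd hz hdvd, mul_one]
    exact aux_nondeg hP hc 𝔸 hcard u' u hu'𝔸 hu𝔸 hou' hu'1 hou hu1 hne.symm z' z hu'z' huz hu' hu h1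
  have hcomm : ∀ x y : P, Commute x y := fun x y => hc x y
  constructor
  · have hab : ¬ p ∣ a * b := by
      intro h
      rcases (Nat.Prime.dvd_mul hp.out).mp h with h | h
      · exact ha0 h
      · exact hb0 h
    obtain ⟨k, hk⟩ := exists_dvd_add_mul (p := p) (a * b) 1 hab
    -- `u'^k z = z * z'^(b*k)`
    have h1 : (u' ^ k) z = z * z' ^ (b * k) := aut_pow_shift hu'z' hb k
    have h1' : (u' ^ k) z' = z' := aut_pow_fix hu'z' k
    set w : MulAut P := u * u' ^ k * u with hw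
    have hwz : w z = z' ^ (b * k) := by
      rw [hw, MulAut.mul_apply, MulAut.mul_apply, huz, h1, map_mul, huz, map_pow, ha,
        (hcomm z' (z ^ a)).mul_pow, ← pow_mul]
      have e : z * (z' ^ (b * k) * z ^ (a * (b * k))) = z ^ (1 + a * b * k) * z' ^ (b * k) := by
        rw [hc (z' ^ (b * k)), ← mul_assoc, pow_add, pow_one, mul_assoc a b k]
      rw [e, pow_eq_one_of_dvd hz hk, one_mul]
    have hwz' : w z' = z ^ a := by
      rw [hw, MulAut.mul_apply, MulAut.mul_apply, ha, map_mul, map_pow, h1, h1',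
        (hcomm z (z' ^ (b * k))).mul_pow, ← pow_mul]
      have e : z' * (z ^ a * z' ^ (b * k * a)) = z' ^ (1 + a * b * k) * z ^ a := by
        have hexp : b * k * a + 1 = 1 + a * b * k := by ring
        rw [hc (z ^ a), ← mul_assoc, ← pow_succ', hexp]
      rw [e, pow_eq_one_of_dvd hz' hk, one_mul, map_pow, huz]
    refine ⟨w * w, ?_, ?_⟩
    · have hwm : w ∈ Subgroup.closure ({u, u'} : Set (MulAut P)) := by
        have h2 : u ∈ Subgroup.closure ({u, u'} : Set (MulAut P)) :=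
          Subgroup.subset_closure (by simp)
        have h3 : u' ∈ Subgroup.closure ({u, u'} : Set (MulAut P)) :=
          Subgroup.subset_closure (by simp)
        exact Subgroup.mul_mem _ (Subgroup.mul_mem _ h2 (Subgroup.pow_mem _ h3 k)) h2
      exact Subgroup.mul_mem _ hwm hwm
    · rw [MulAut.mul_apply, hwz, map_pow, hwz', ← pow_mul]
      apply eq_inv_of_mul_eq_one_left
      have e : z ^ (a * (b * k)) * z = z ^ (1 + a * b * k) := by
        rw [pow_add, pow_one, hc, mul_assoc a b k]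
      rw [e, pow_eq_one_of_dvd hz hk]
  · intro y hy
    obtain ⟨m, hm⟩ := hu' y
    obtain ⟨j, hj⟩ := exists_dvd_add_mul (p := p) b m hb0
    refine ⟨j, ?_⟩
    rw [map_mul, map_pow, hm, hb, (hcomm z (z' ^ b)).mul_pow, ← pow_mul]
    have e : y * z' ^ m * (z ^ j * z' ^ (b * j)) = y * z ^ j * z' ^ (m + b * j) := by
      rw [pow_add, mul_assoc y, mul_assoc y, ← mul_assoc (z' ^ m), hc (z' ^ m) (z ^ j),
        mul_assoc (z ^ j)]
    rw [e, pow_eq_one_of_dvd hz' hj, mul_one]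

end T

end Cfsg.Agent.h26AbIdx
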