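import Cfsg.Agent.Lib_helper26_AbIdxG
import Cfsg.Agent.Lib_helper26_AbIdxE
import Cfsg.Agent.Lib_helper26_Coprime
import Cfsg.Agent.Lib_helper25_NormalChar
import Cfsg.Agent.Lib_helper25_SatRS
import Cfsg.Agent.Lib_helper25_SatEquiv2

set_option autoImplicit false
set_option linter.style.haveILetI false

namespace Cfsg.Agent.h26AbIdx

open Cfsg Cfsg.FusionSystem Cfsg.Agent.helper25

variable {Ω : Type*} [Group Ω] {S : Subgroup Ω}

/-- restriction of an `F`-automorphism to an invariant subgroup. -/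
theorem exists_restrict_aut [Finite S] (F : FusionSystem S) {P Z : Subgroup Ω} (hPS : P ≤ S)
    (hZP : Z ≤ P) {α : MulAut P} (hα : α ∈ F.autGroup P)
    (h : ∀ z : P, (z : Ω) ∈ Z → ((α z : P) : Ω) ∈ Z) :
    ∃ γ : MulAut Z, γ ∈ F.autGroup Z ∧ ∀ z : Z, ((γ z : Z) : Ω) = ((α ⟨z, hZP z.2⟩ : P) : Ω) := by
  haveI : Finite Z := finite_of_le S (hZP.trans hPS)
  have hα' : IsFIso F α := (mem_autGroup_iff F hPS α).mp hα
  have hφ : (P.subtype.comp α.toMonoidHom).comp (Subgroup.inclusion hZP) ∈ F.Hom Z :=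
    restrict_mem F hZP hα'
  have hinj := F.injective_of_mem hφ
  have hrange : ((P.subtype.comp α.toMonoidHom).comp (Subgroup.inclusion hZP)).range = Z := by
    apply Subgroup.eq_of_le_of_card_ge
    · rintro _ ⟨z, rfl⟩
      exact h ⟨z, hZP z.2⟩ z.2
    · exact le_of_eq (Nat.card_congr (MonoidHom.ofInjective hinj).toEquiv)
  obtain ⟨e, he, hecoe⟩ := exists_isFIso_of_mem F hφ hrange
  exact ⟨e, (mem_autGroup_iff F (hZP.trans hPS) e).mpr he, fun z => hecoe z⟩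

theorem aut_preserves_center {P Z : Subgroup Ω}
    (hchar : ∀ y : P, (y : Ω) ∈ Z ↔ ∀ w : P, y * w = w * y) (α : MulAut P) (z : P)
    (hz : (z : Ω) ∈ Z) : ((α z : P) : Ω) ∈ Z := by
  rw [hchar]
  intro w
  have h1 := (hchar z).mp hz (α.symm w)
  have h2 := congrArg α h1
  rw [map_mul, map_mul, MulEquiv.apply_symm_apply] at h2
  exact h2

theorem closure_pair_fix {P : Type*} [Group P] {u u' : MulAut P} {c : P} (h1 : u c = c)
    (h2 : u' c = c) {l : MulAut P} (hl : l ∈ Subgroup.closure ({u, u'} : Set (MulAut P))) :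
    l c = c := by
  induction hl using Subgroup.closure_induction with
  | mem x hx =>
    rcases hx with rfl | rfl
    · exact h1
    · exact h2
  | one => rfl
  | mul x y _ _ hx hy => rw [MulAut.mul_apply, hy, hx]
  | inv x _ hx =>
    have h3 : x⁻¹ (x c) = c := MulAut.inv_apply_self P x c
    rw [hx] at h3
    exact h3

theorem zpow_fix {P : Type*} [Group P] {u : MulAut P} {c : P} (h1 : u c = c) {l : MulAut P}
    (hl : l ∈ Subgroup.zpowers u) : l c = c := by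
  have : l ∈ Subgroup.closure ({u, u} : Set (MulAut P)) := by
    rw [Subgroup.zpowers_eq_closure] at hl
    simpa using hl
  exact closure_pair_fix h1 h1 this

section center

variable [Finite S] {p : ℕ} [hp : Fact p.Prime]

theorem S_le_normalizer_center :
    S ≤ Subgroup.normalizer ((S ⊓ Subgroup.centralizer (S : Set Ω) : Subgroup Ω) : Set Ω) := by
  apply le_normalizer_of_conj_mem
  intro s hs z hz
  have h1 : s * z = z * s := Subgroup.mem_centralizer_iff.mp hz.2 s hs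
  have : s * z * s⁻¹ = z := by rw [h1]; group
  rw [this]; exact hz

theorem normalizerIn_center :
    normalizerIn S (S ⊓ Subgroup.centralizer (S : Set Ω)) = S :=
  inf_eq_left.mpr S_le_normalizer_center

theorem center_fullyNormalized (F : FusionSystem S) :
    F.IsFullyNormalized (S ⊓ Subgroup.centralizer (S : Set Ω)) := by
  refine ⟨inf_le_left, fun Q _ => ?_⟩
  rw [normalizerIn_center]
  exact Subgroup.card_le_of_le inf_le_left

theorem autInducedBy_center_eq_bot :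
    autInducedBy S (S ⊓ Subgroup.centralizer (S : Set Ω)) = ⊥ := by
  rw [eq_bot_iff]
  intro α hα
  obtain ⟨g, hg, hgx⟩ := (mem_autInducedBy_iff S _ α).mp hα
  rw [Subgroup.mem_bot]
  ext x
  rw [hgx x]
  have h1 : g * (x : Ω) = x * g := Subgroup.mem_centralizer_iff.mp x.2.2 g hg
  rw [h1]; simp

theorem not_dvd_card_autGroup_center (hS : IsPGroup p S) (F : FusionSystem S)
    (hF : F.IsSaturated p) :
    ¬ p ∣ Nat.card (F.autGroup (S ⊓ Subgroup.centralizer (S : Set Ω))) := by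
  haveI : Finite ↥(S ⊓ Subgroup.centralizer (S : Set Ω)) := finite_of_le S inf_le_left
  obtain ⟨_, hfa⟩ := fullyNormalized_imp hS F hF (center_fullyNormalized F)
  obtain ⟨R₀, hR₀⟩ := hfa.2
  intro hdvd
  have h1 := R₀.ne_bot_of_dvd_card hdvd
  apply h1
  rw [hR₀, autInducedBy_center_eq_bot, Subgroup.bot_subgroupOf]

end center

section gam

variable [Finite S] {p : ℕ} [hp : Fact p.Prime]

/-- automorphisms in `Aut_F(Z(S))` preserve `Z(S) ∩ S'`. -/
theorem autCenter_comm_mem (hS : IsPGroup p S) (F : FusionSystem S) (hF : F.IsSaturated p)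
    {δ : MulAut ↥(S ⊓ Subgroup.centralizer (S : Set Ω))}
    (hδ : δ ∈ F.autGroup (S ⊓ Subgroup.centralizer (S : Set Ω)))
    (z : ↥(S ⊓ Subgroup.centralizer (S : Set Ω))) (hz : (z : Ω) ∈ ⁅S, S⁆) :
    ((δ z : ↥(S ⊓ Subgroup.centralizer (S : Set Ω))) : Ω) ∈ ⁅S, S⁆ := by
  obtain ⟨hfc, _⟩ := fullyNormalized_imp hS F hF (center_fullyNormalized F)
  have hrec := receptive_of_fullyCentralized hS F hF hfc
  have hnorm : ∀ b ∈ autInducedBy S (S ⊓ Subgroup.centralizer (S : Set Ω)),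
      δ * b * δ⁻¹ ∈ autInducedBy S (S ⊓ Subgroup.centralizer (S : Set Ω)) := by
    intro b hb
    rw [autInducedBy_center_eq_bot, Subgroup.mem_bot] at hb ⊢
    rw [hb]; simp
  obtain ⟨δ', _, hval⟩ := exists_extend_aut F hrec hδ hnorm
  have hN : normalizerIn S (S ⊓ Subgroup.centralizer (S : Set Ω)) = S := normalizerIn_center
  have hzN : (z : Ω) ∈ ⁅normalizerIn S (S ⊓ Subgroup.centralizer (S : Set Ω)),
      normalizerIn S (S ⊓ Subgroup.centralizer (S : Set Ω))⁆ := by rw [hN]; exact hz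
  rw [← Subgroup.map_subtype_commutator] at hzN
  obtain ⟨z', hz', hz'e⟩ := hzN
  have hfix := (inferInstance : (commutator
    ↥(normalizerIn S (S ⊓ Subgroup.centralizer (S : Set Ω)))).Characteristic).fixed δ'
  have h1 : δ' z' ∈ commutator ↥(normalizerIn S (S ⊓ Subgroup.centralizer (S : Set Ω))) := by
    rw [← hfix] at hz'
    exact hz'
  have h2 : ((δ' z' : ↥(normalizerIn S (S ⊓ Subgroup.centralizer (S : Set Ω)))) : Ω) ∈
      ⁅normalizerIn S (S ⊓ Subgroup.centralizer (S : Set Ω)),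
        normalizerIn S (S ⊓ Subgroup.centralizer (S : Set Ω))⁆ := by
    rw [← Subgroup.map_subtype_commutator]
    exact ⟨_, h1, rfl⟩
  have hle : ⁅normalizerIn S (S ⊓ Subgroup.centralizer (S : Set Ω)),
      normalizerIn S (S ⊓ Subgroup.centralizer (S : Set Ω))⁆ ≤ ⁅S, S⁆ :=
    Subgroup.commutator_mono inf_le_left inf_le_left
  have h2' := hle h2
  have h3 : z' = ⟨z, le_normalizerIn hrec.1 z.2⟩ := Subtype.ext hz'e
  rw [h3, hval z] at h2'
  exact h2'

/-- the automorphisms in `Aut_F(Z(S))` acting trivially on `Z(S)/(Z(S) ∩ S')`. -/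
def gam0 (F : FusionSystem S) : Subgroup (MulAut ↥(S ⊓ Subgroup.centralizer (S : Set Ω))) where
  carrier := {γ | γ ∈ F.autGroup (S ⊓ Subgroup.centralizer (S : Set Ω)) ∧
    ∀ z : ↥(S ⊓ Subgroup.centralizer (S : Set Ω)),
      ((γ z : ↥(S ⊓ Subgroup.centralizer (S : Set Ω))) : Ω) * (z : Ω)⁻¹ ∈ ⁅S, S⁆}
  one_mem' := ⟨Subgroup.one_mem _, fun z => by simp⟩
  mul_mem' := by
    rintro γ δ ⟨h1, h2⟩ ⟨h3, h4⟩
    refine ⟨Subgroup.mul_mem _ h1 h3, fun z => ?_⟩
    have e : ((γ (δ z) : ↥(S ⊓ Subgroup.centralizer (S : Set Ω))) : Ω) * (z : Ω)⁻¹ =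
        ((γ (δ z) : ↥(S ⊓ Subgroup.centralizer (S : Set Ω))) : Ω) *
          ((δ z : ↥(S ⊓ Subgroup.centralizer (S : Set Ω))) : Ω)⁻¹ *
          (((δ z : ↥(S ⊓ Subgroup.centralizer (S : Set Ω))) : Ω) * (z : Ω)⁻¹) := by group
    rw [MulAut.mul_apply, e]
    exact Subgroup.mul_mem _ (h2 (δ z)) (h4 z)
  inv_mem' := by
    rintro γ ⟨h1, h2⟩
    refine ⟨Subgroup.inv_mem _ h1, fun z => ?_⟩
    have h3 := h2 (γ⁻¹ z)
    rw [MulAut.apply_inv_self] at h3
    have e : ((γ⁻¹ z : ↥(S ⊓ Subgroup.centralizer (S : Set Ω))) : Ω) * (z : Ω)⁻¹ =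
        ((z : Ω) * ((γ⁻¹ z : ↥(S ⊓ Subgroup.centralizer (S : Set Ω))) : Ω)⁻¹)⁻¹ := by group
    rw [e]; exact Subgroup.inv_mem _ h3

/-- the fixed points of `gam0` on `Z(S)`. -/
def QQ (F : FusionSystem S) : Subgroup Ω where
  carrier := {q | ∃ hq : q ∈ S ⊓ Subgroup.centralizer (S : Set Ω),
    ∀ γ ∈ gam0 F, γ ⟨q, hq⟩ = ⟨q, hq⟩}
  one_mem' := ⟨Subgroup.one_mem _, fun γ _ => map_one γ⟩
  mul_mem' := by
    rintro a b ⟨ha, ha2⟩ ⟨hb, hb2⟩
    refine ⟨Subgroup.mul_mem _ ha hb, fun γ hγ => ?_⟩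
    have : (⟨a * b, Subgroup.mul_mem _ ha hb⟩ : ↥(S ⊓ Subgroup.centralizer (S : Set Ω))) =
        ⟨a, ha⟩ * ⟨b, hb⟩ := rfl
    rw [this, map_mul, ha2 γ hγ, hb2 γ hγ]
  inv_mem' := by
    rintro a ⟨ha, ha2⟩
    refine ⟨Subgroup.inv_mem _ ha, fun γ hγ => ?_⟩
    have : (⟨a⁻¹, Subgroup.inv_mem _ ha⟩ : ↥(S ⊓ Subgroup.centralizer (S : Set Ω))) =
        (⟨a, ha⟩)⁻¹ := rfl
    rw [this, map_inv, ha2 γ hγ]

theorem QQ_le (F : FusionSystem S) : QQ F ≤ S ⊓ Subgroup.centralizer (S : Set Ω) :=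
  fun _ hq => hq.1

theorem QQ_invariant (hS : IsPGroup p S) (F : FusionSystem S) (hF : F.IsSaturated p)
    {δ : MulAut ↥(S ⊓ Subgroup.centralizer (S : Set Ω))}
    (hδ : δ ∈ F.autGroup (S ⊓ Subgroup.centralizer (S : Set Ω)))
    {q : Ω} (hq : q ∈ QQ F) (hqZ : q ∈ S ⊓ Subgroup.centralizer (S : Set Ω)) :
    ((δ ⟨q, hqZ⟩ : ↥(S ⊓ Subgroup.centralizer (S : Set Ω))) : Ω) ∈ QQ F := by
  obtain ⟨hq', hfix⟩ := hq
  refine ⟨(δ ⟨q, hqZ⟩).2, fun γ hγ => ?_⟩
  have hγ' : δ⁻¹ * γ * δ ∈ gam0 F := by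
    refine ⟨Subgroup.mul_mem _ (Subgroup.mul_mem _ (Subgroup.inv_mem _ hδ) hγ.1) hδ, fun z => ?_⟩
    have h1 := hγ.2 (δ z)
    have h2 := autCenter_comm_mem hS F hF (Subgroup.inv_mem _ hδ)
      (γ (δ z) * (δ z)⁻¹) (by simpa using h1)
    have e : δ⁻¹ (γ (δ z) * (δ z)⁻¹) = (δ⁻¹ * γ * δ) z * z⁻¹ := by
      rw [map_mul, map_inv, MulAut.inv_apply_self]
      rfl
    rw [e] at h2
    simpa using h2
  have h3 := hfix _ hγ'
  have h4 : γ (δ ⟨q, hq'⟩) = δ ⟨q, hq'⟩ := by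
    have := congrArg δ h3
    rw [MulAut.mul_apply, MulAut.mul_apply, MulAut.apply_inv_self] at this
    exact this
  exact h4

theorem center_decomp (hS : IsPGroup p S) (F : FusionSystem S) (hF : F.IsSaturated p)
    (z : Ω) (hz : z ∈ S ⊓ Subgroup.centralizer (S : Set Ω)) :
    ∃ q ∈ QQ F, ∃ c ∈ ⁅S, S⁆, z = q * c := by
  haveI : Finite ↥(S ⊓ Subgroup.centralizer (S : Set Ω)) := finite_of_le S inf_le_left
  have hcomm : ∀ a b : ↥(S ⊓ Subgroup.centralizer (S : Set Ω)), a * b = b * a := by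
    intro a b
    apply Subtype.ext
    exact (Subgroup.mem_centralizer_iff.mp a.2.2 b b.2.1).symm
  haveI : IsMulCommutative ↥(S ⊓ Subgroup.centralizer (S : Set Ω)) := ⟨⟨hcomm⟩⟩
  have hnd : ¬ p ∣ Nat.card (gam0 F) := by
    intro hdvd
    apply not_dvd_card_autGroup_center hS F hF
    exact hdvd.trans (Subgroup.card_dvd_of_le (fun γ hγ => hγ.1))
  have hZp : IsPGroup p ↥(S ⊓ Subgroup.centralizer (S : Set Ω)) := hS.to_le inf_le_left
  obtain ⟨k, hk⟩ := IsPGroup.iff_card.mp hZp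
  have hcop : (Nat.card (gam0 F)).Coprime (Nat.card ↥(S ⊓ Subgroup.centralizer (S : Set Ω))) := by
    rw [hk]
    exact Nat.Coprime.pow_right k ((Nat.Prime.coprime_iff_not_dvd hp.out).mpr hnd).symm
  obtain ⟨_, hsup⟩ := Cfsg.Agent.helper26.coprime_decomp (gam0 F) hcop
  haveI hnormal : (Cfsg.Agent.helper26.commPts (gam0 F)).Normal := by
    refine ⟨fun n hn g => ?_⟩
    have : g * n * g⁻¹ = n := by rw [hcomm g n, mul_inv_cancel_right]
    rw [this]; exact hn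
  have hmem : (⟨z, hz⟩ : ↥(S ⊓ Subgroup.centralizer (S : Set Ω))) ∈
      Cfsg.Agent.helper26.fixedPts (gam0 F) ⊔ Cfsg.Agent.helper26.commPts (gam0 F) := by
    rw [hsup]; trivial
  rw [Subgroup.mem_sup_of_normal_right] at hmem
  obtain ⟨q', hq', c', hc', hqc⟩ := hmem
  refine ⟨q', ⟨q'.2, fun γ hγ => hq' γ hγ⟩, c', ?_, ?_⟩
  · have hle : Cfsg.Agent.helper26.commPts (gam0 F) ≤
        (⁅S, S⁆ : Subgroup Ω).subgroupOf (S ⊓ Subgroup.centralizer (S : Set Ω)) := by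
      unfold Cfsg.Agent.helper26.commPts
      rw [Subgroup.closure_le]
      rintro y ⟨g, hg, m, rfl⟩
      rw [SetLike.mem_coe, Subgroup.mem_subgroupOf]
      have h1 := hg.2 m
      have e : ((m⁻¹ * g m : ↥(S ⊓ Subgroup.centralizer (S : Set Ω))) : Ω) =
          ((g m : ↥(S ⊓ Subgroup.centralizer (S : Set Ω))) : Ω) * (m : Ω)⁻¹ := by
        rw [hcomm]; rfl
      rw [e]; exact h1
    exact Subgroup.mem_subgroupOf.mp (hle hc')
  · have := congrArg Subtype.val hqc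
    exact this.symm

end gam

end Cfsg.Agent.h26AbIdx
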