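import Cfsg.Agent.Lib_helper26_AbIdxH

set_option autoImplicit false
set_option linter.style.haveILetI false
set_option maxHeartbeats 1600000

namespace Cfsg.Agent.h26AbIdx

open Cfsg Cfsg.FusionSystem Cfsg.Agent.helper25

variable {Ω : Type*} [Group Ω] {S : Subgroup Ω}

theorem conj_formula {b x d : Ω} (hb : b ∈ S) (hx : x ∈ S)
    (hd : d ∈ S ⊓ Subgroup.centralizer (S : Set Ω))
    (hc : b * x * b⁻¹ * x⁻¹ ∈ S ⊓ Subgroup.centralizer (S : Set Ω)) (k : ℕ) :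
    b * (d * x ^ k) * b⁻¹ = d * x ^ k * (b * x * b⁻¹ * x⁻¹) ^ k := by
  have hcx : Commute (b * x * b⁻¹ * x⁻¹) x := (Subgroup.mem_centralizer_iff.mp hc.2 x hx).symm
  have hdb : b * d = d * b := Subgroup.mem_centralizer_iff.mp hd.2 b hb
  have h1 : b * x * b⁻¹ = (b * x * b⁻¹ * x⁻¹) * x := by group
  have h2 : b * x ^ k * b⁻¹ = ((b * x * b⁻¹ * x⁻¹) * x) ^ k := by rw [← h1, conj_pow]
  have h3 : ((b * x * b⁻¹ * x⁻¹) * x) ^ k = (b * x * b⁻¹ * x⁻¹) ^ k * x ^ k := hcx.mul_pow k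
  have h4 : (b * x * b⁻¹ * x⁻¹) ^ k * x ^ k = x ^ k * (b * x * b⁻¹ * x⁻¹) ^ k :=
    (hcx.pow_pow k k).eq
  calc b * (d * x ^ k) * b⁻¹ = (b * d) * x ^ k * b⁻¹ := by group
    _ = d * (b * x ^ k * b⁻¹) := by rw [hdb]; group
    _ = d * (x ^ k * (b * x * b⁻¹ * x⁻¹) ^ k) := by rw [h2, h3, h4]
    _ = d * x ^ k * (b * x * b⁻¹ * x⁻¹) ^ k := by group

theorem zpowers_eq_of_mem {G : Type*} [Group G] {p : ℕ} [hp : Fact p.Prime] {u v : G}
    (hu : u ^ p = 1) (hv : v ^ p = 1) (hv1 : v ≠ 1) (hvu : v ∈ Subgroup.zpowers u) :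
    Subgroup.zpowers v = Subgroup.zpowers u := by
  have hu1 : u ≠ 1 := by
    rintro rfl
    rw [Subgroup.zpowers_one_eq_bot, Subgroup.mem_bot] at hvu
    exact hv1 hvu
  haveI : Finite (Subgroup.zpowers u) := by
    apply Nat.finite_of_card_ne_zero
    rw [card_zpowers_of_prime hu hu1]
    exact hp.out.ne_zero
  apply Subgroup.eq_of_le_of_card_ge ((Subgroup.zpowers_le).mpr hvu)
  rw [card_zpowers_of_prime hu hu1, card_zpowers_of_prime hv hv1]

section typeH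

variable [Finite S] {p : ℕ} [hp : Fact p.Prime]

theorem typeH_invariant (hS : IsPGroup p S) (F : FusionSystem S) (hF : F.IsSaturated p)
    {A : Subgroup Ω} (h : Setup S A) (hidx : (A.subgroupOf S).index = p) (hp2 : p ≠ 2)
    {P : Subgroup Ω} (hP : F.IsEssential p P) {x : Ω} (hxS : x ∈ S) (hxP : x ∈ P) (hxA : x ∉ A)
    (hPA : P ⊓ A = S ⊓ Subgroup.centralizer (S : Set Ω))
    (hZ0 : Nat.card ↥((S ⊓ Subgroup.centralizer (S : Set Ω)) ⊓ ⁅S, S⁆) = p)
    {α : MulAut P} (hα : α ∈ F.autGroup P) (q : P) (hq : (q : Ω) ∈ QQ F) :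
    ((α q : P) : Ω) ∈ QQ F := by
  have hPS : P ≤ S := hP.1.1
  haveI : Finite P := finite_of_le S hPS
  have hPp : IsPGroup p P := hS.to_le hPS
  have hZP : S ⊓ Subgroup.centralizer (S : Set Ω) ≤ P := by rw [← hPA]; exact inf_le_left
  obtain ⟨_, _, _, _, _, _, _, _, a₀, ha₀A, ha₀N, ha₀P⟩ := key hS F hF h hidx hP hxP hxA
  have ha₀S : a₀ ∈ S := h.hAS ha₀A
  -- the central commutator
  have hz₁A : a₀ * x * a₀⁻¹ * x⁻¹ ∈ A := by
    have : a₀ * x * a₀⁻¹ * x⁻¹ = a₀ * (x * a₀⁻¹ * x⁻¹) := by group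
    rw [this]
    exact A.mul_mem ha₀A (h.hAn x hxS _ (A.inv_mem ha₀A))
  have hz₁P : a₀ * x * a₀⁻¹ * x⁻¹ ∈ P :=
    P.mul_mem ((Subgroup.mem_normalizer_iff.mp ha₀N.2 x).mp hxP) (P.inv_mem hxP)
  have hz₁Z : a₀ * x * a₀⁻¹ * x⁻¹ ∈ S ⊓ Subgroup.centralizer (S : Set Ω) := by
    rw [← hPA]; exact ⟨hz₁P, hz₁A⟩
  have hz₁C : a₀ * x * a₀⁻¹ * x⁻¹ ∈ ⁅S, S⁆ := by
    have := Subgroup.commutator_mem_commutator ha₀S hxS
    rwa [commutatorElement_def] at this
  have hz₁1 : a₀ * x * a₀⁻¹ * x⁻¹ ≠ 1 := by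
    intro h1
    have h2 : a₀ * x = x * a₀ := by
      have := congrArg (fun t => t * x * a₀) h1
      simpa [mul_assoc] using this
    exact ha₀P (hZP (h.cent_A hxS hxA ha₀A h2))
  have hz₁p : (a₀ * x * a₀⁻¹ * x⁻¹) ^ p = 1 := by
    have h1 : (⟨a₀ * x * a₀⁻¹ * x⁻¹, hz₁Z, hz₁C⟩ :
        ↥((S ⊓ Subgroup.centralizer (S : Set Ω)) ⊓ ⁅S, S⁆)) ^
        Nat.card ↥((S ⊓ Subgroup.centralizer (S : Set Ω)) ⊓ ⁅S, S⁆) = 1 := pow_card_eq_one'
    rw [hZ0] at h1
    exact congrArg Subtype.val h1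
  -- every element of `P` is `d * x^k` with `d` central
  have hdecP : ∀ y : P, ∃ d ∈ S ⊓ Subgroup.centralizer (S : Set Ω), ∃ k : ℕ, (y : Ω) = d * x ^ k := by
    intro y
    obtain ⟨b, hbA, k, hk⟩ := h.hdec x hxS hxA y (hPS y.2)
    have hbP : b ∈ P := by
      have : b = y * (x ^ k)⁻¹ := by rw [hk]; group
      rw [this]
      exact P.mul_mem y.2 (P.inv_mem (P.pow_mem hxP k))
    refine ⟨b, ?_, k, hk⟩
    rw [← hPA]; exact ⟨hbP, hbA⟩
  have hPc : ∀ a b : P, a * b = b * a := by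
    intro a b
    obtain ⟨d, hd, k, hk⟩ := hdecP a
    obtain ⟨e, he, j, hj⟩ := hdecP b
    apply Subtype.ext
    show (a : Ω) * b = b * a
    rw [hk, hj]
    have c1 : Commute d e := (Subgroup.mem_centralizer_iff.mp he.2 d hd.1)
    have c2 : Commute d (x ^ j) :=
      (Subgroup.mem_centralizer_iff.mp hd.2 _ (S.pow_mem hxS j)).symm
    have c3 : Commute (x ^ k) e :=
      (Subgroup.mem_centralizer_iff.mp he.2 _ (S.pow_mem hxS k))
    have c4 : Commute (x ^ k) (x ^ j) := (Commute.refl x).pow_pow k j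
    exact ((c1.mul_right c2).mul_left (c3.mul_right c4)).eq
  set u : MulAut P := normAut P a₀ ha₀N.2 with hu
  set z₁ : P := ⟨a₀ * x * a₀⁻¹ * x⁻¹, hz₁P⟩ with hz₁
  have hu𝔸 : u ∈ F.autGroup P := autInducedBy_le_autGroup F hPS (normAut_mem S P ha₀N)
  have hz₁pow : z₁ ^ p = 1 := Subtype.ext (by rw [Subgroup.coe_pow]; exact hz₁p)
  have hz₁ne : z₁ ≠ 1 := fun h1 => hz₁1 (congrArg Subtype.val h1)
  have hform : ∀ (b : Ω) (hbN : b ∈ Subgroup.normalizer (P : Set Ω)) (hbS : b ∈ S)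
      (hbc : b * x * b⁻¹ * x⁻¹ ∈ S ⊓ Subgroup.centralizer (S : Set Ω)) (y : P) (d : Ω)
      (hd : d ∈ S ⊓ Subgroup.centralizer (S : Set Ω)) (k : ℕ) (hy : (y : Ω) = d * x ^ k),
      ((normAut P b hbN y : P) : Ω) = y * (b * x * b⁻¹ * x⁻¹) ^ k := by
    intro b hbN hbS hbc y d hd k hy
    rw [normAut_coe, hy]
    exact conj_formula hbS hxS hd hbc k
  have hu_formula : ∀ y : P, ∃ k : ℕ, u y = y * z₁ ^ k := by
    intro y
    obtain ⟨d, hd, k, hk⟩ := hdecP y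
    refine ⟨k, Subtype.ext ?_⟩
    rw [Subgroup.coe_mul, Subgroup.coe_pow]
    exact hform a₀ ha₀N.2 ha₀S hz₁Z y d hd k hk
  have hcentral_fix : ∀ y : P, (y : Ω) ∈ S ⊓ Subgroup.centralizer (S : Set Ω) → u y = y := by
    intro y hy
    apply Subtype.ext
    rw [hu, normAut_coe]
    have h1 : a₀ * (y : Ω) = y * a₀ := Subgroup.mem_centralizer_iff.mp hy.2 a₀ ha₀S
    rw [h1]; group
  have huz : u z₁ = z₁ := hcentral_fix z₁ hz₁Z
  have hou : u ^ p = 1 := by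
    ext y
    obtain ⟨k, hk⟩ := hu_formula y
    rw [aut_pow_shift huz hk p, pow_eq_one_of_dvd hz₁pow (Dvd.intro_left k rfl), mul_one]
    rfl
  have hu1 : u ≠ 1 := by
    intro h1
    have h2 : u ⟨x, hxP⟩ = ⟨x, hxP⟩ := by rw [h1]; rfl
    have h3 : a₀ * x * a₀⁻¹ = x := congrArg Subtype.val h2
    apply hz₁1
    rw [h3]; group
  have hfixZ : ∀ y : P, u y = y → (y : Ω) ∈ S ⊓ Subgroup.centralizer (S : Set Ω) := by
    intro y hy
    have h3 : a₀ * (y : Ω) * a₀⁻¹ = y := congrArg Subtype.val hy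
    have h4 : a₀ * (y : Ω) = y * a₀ := by
      have := congrArg (fun t => t * a₀) h3
      simpa [mul_assoc] using this
    by_cases hyA : (y : Ω) ∈ A
    · rw [← hPA]; exact ⟨y.2, hyA⟩
    · exfalso
      exact ha₀P (hZP (h.cent_A (hPS y.2) hyA ha₀A h4))
  -- `Aut_S(P) = ⟨u⟩`
  have hAutS : autInducedBy S P ≤ Subgroup.zpowers u := by
    intro β hβ
    obtain ⟨g, hgS, hgx⟩ := (mem_autInducedBy_iff S P β).mp hβ
    obtain ⟨b, hbA, j, hj⟩ := h.hdec x hxS hxA g hgS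
    have hbS : b ∈ S := h.hAS hbA
    -- conjugation by `g` and by `b` agree on `P`
    have hgb : ∀ y : P, g * (y : Ω) * g⁻¹ = b * y * b⁻¹ := by
      intro y
      have h1 : x ^ j * (y : Ω) = y * x ^ j := by
        have := hPc ⟨x ^ j, P.pow_mem hxP j⟩ y
        exact congrArg Subtype.val this
      rw [hj]
      calc b * x ^ j * (y : Ω) * (b * x ^ j)⁻¹ = b * (x ^ j * y) * (x ^ j)⁻¹ * b⁻¹ := by group
        _ = b * (y * x ^ j) * (x ^ j)⁻¹ * b⁻¹ := by rw [h1]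
        _ = b * y * b⁻¹ := by group
    have hbconj : ∀ y : P, b * (y : Ω) * b⁻¹ ∈ P := by
      intro y
      rw [← hgb y, ← hgx y]
      exact (β y).2
    have hbN : b ∈ Subgroup.normalizer (P : Set Ω) := by
      apply mem_normalizer_of_surj (fun y hy => hbconj ⟨y, hy⟩)
      intro y hy
      refine ⟨(β.symm ⟨y, hy⟩ : P), (β.symm ⟨y, hy⟩).2, ?_⟩
      rw [← hgb, ← hgx, MulEquiv.apply_symm_apply]
    have hcA : b * x * b⁻¹ * x⁻¹ ∈ A := by
      have : b * x * b⁻¹ * x⁻¹ = b * (x * b⁻¹ * x⁻¹) := by group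
      rw [this]
      exact A.mul_mem hbA (h.hAn x hxS _ (A.inv_mem hbA))
    have hcP : b * x * b⁻¹ * x⁻¹ ∈ P := P.mul_mem (hbconj ⟨x, hxP⟩) (P.inv_mem hxP)
    have hcZ : b * x * b⁻¹ * x⁻¹ ∈ S ⊓ Subgroup.centralizer (S : Set Ω) := by
      rw [← hPA]; exact ⟨hcP, hcA⟩
    have hcC : b * x * b⁻¹ * x⁻¹ ∈ ⁅S, S⁆ := by
      have := Subgroup.commutator_mem_commutator hbS hxS
      rwa [commutatorElement_def] at this
    -- the commutator is a power of `z₁`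
    have htop := zpowers_eq_top_of_prime_card hZ0
      (g := (⟨a₀ * x * a₀⁻¹ * x⁻¹, hz₁Z, hz₁C⟩ :
        ↥((S ⊓ Subgroup.centralizer (S : Set Ω)) ⊓ ⁅S, S⁆)))
      (fun h1 => hz₁1 (congrArg Subtype.val h1))
    haveI : Finite ↥((S ⊓ Subgroup.centralizer (S : Set Ω)) ⊓ ⁅S, S⁆) :=
      finite_of_le S (inf_le_left.trans inf_le_left)
    have hmem : (⟨b * x * b⁻¹ * x⁻¹, hcZ, hcC⟩ :
        ↥((S ⊓ Subgroup.centralizer (S : Set Ω)) ⊓ ⁅S, S⁆)) ∈
        Subgroup.zpowers (⟨a₀ * x * a₀⁻¹ * x⁻¹, hz₁Z, hz₁C⟩ :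
          ↥((S ⊓ Subgroup.centralizer (S : Set Ω)) ⊓ ⁅S, S⁆)) := by
      rw [htop]; trivial
    rw [← mem_powers_iff_mem_zpowers] at hmem
    obtain ⟨i, hi⟩ := hmem
    have hi' : (a₀ * x * a₀⁻¹ * x⁻¹) ^ i = b * x * b⁻¹ * x⁻¹ := by
      have := congrArg Subtype.val hi
      simpa using this
    have hβu : β = u ^ i := by
      ext y
      obtain ⟨d, hd, k, hk⟩ := hdecP y
      obtain ⟨k', hk'⟩ := hu_formula y
      rw [hgx y, hgb y]
      have h1 := hform b hbN hbS hcZ y d hd k hk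
      rw [normAut_coe] at h1
      rw [h1]
      have h2 := hform a₀ ha₀N.2 ha₀S hz₁Z y d hd k hk
      have h3 : u y = y * z₁ ^ k := Subtype.ext (by
        rw [Subgroup.coe_mul, Subgroup.coe_pow]; exact h2)
      rw [aut_pow_shift huz h3 i, Subgroup.coe_mul, Subgroup.coe_pow, ← hi', ← pow_mul,
        Nat.mul_comm]
    rw [hβu]
    exact Subgroup.pow_mem _ (Subgroup.mem_zpowers u) i
  -- `p²` does not divide `|Aut_F(P)|`
  have hcard : ¬ p ^ 2 ∣ Nat.card (F.autGroup P) := by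
    intro hdvd
    obtain ⟨_, hPfa⟩ := fullyNormalized_imp hS F hF hP.2.1
    obtain ⟨R₀, hR₀⟩ := hPfa.2
    have h1 := R₀.pow_dvd_card_of_pow_dvd_card hdvd
    have h2 : (R₀ : Subgroup (F.autGroup P)).map (F.autGroup P).subtype ≤ Subgroup.zpowers u := by
      rintro _ ⟨r, hr, rfl⟩
      rw [hR₀] at hr
      exact hAutS (Subgroup.mem_subgroupOf.mp hr)
    have hcz : Nat.card (Subgroup.zpowers u) = p := card_zpowers_of_prime hou hu1
    have h3 : Nat.card (R₀ : Subgroup (F.autGroup P)) ≤ p := by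
      calc Nat.card (R₀ : Subgroup (F.autGroup P))
          = Nat.card ((R₀ : Subgroup (F.autGroup P)).map (F.autGroup P).subtype) :=
            (Subgroup.card_map_of_injective (Subgroup.subtype_injective (F.autGroup P))).symm
        _ ≤ Nat.card (Subgroup.zpowers u) := Subgroup.card_le_of_le h2
        _ = p := hcz
    have h4 := Nat.le_of_dvd Nat.card_pos h1
    have h5 : p ^ 2 ≤ p := h4.trans h3
    have h6 : p < p ^ 2 := by
      have := hp.out.one_lt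
      nlinarith
    omega
  -- automorphisms normalizing `⟨u⟩`
  have hsame_case : ∀ n ∈ F.autGroup P, n * u * n⁻¹ ∈ Subgroup.zpowers u →
      ∀ q : P, (q : Ω) ∈ QQ F → ((n q : P) : Ω) ∈ QQ F := by
    intro n hn hnu q hq
    have hv1 : n * u * n⁻¹ ≠ 1 := by
      intro h1
      apply hu1
      have := congrArg (fun t => n⁻¹ * t * n) h1
      simpa [mul_assoc] using this
    have hvp : (n * u * n⁻¹) ^ p = 1 := by rw [conj_pow, hou]; simp
    have heq := zpowers_eq_of_mem hou hvp hv1 hnu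
    have hu_mem : u ∈ Subgroup.zpowers (n * u * n⁻¹) := by
      rw [heq]; exact Subgroup.mem_zpowers u
    have hnZ : ∀ z : P, (z : Ω) ∈ S ⊓ Subgroup.centralizer (S : Set Ω) →
        ((n z : P) : Ω) ∈ S ⊓ Subgroup.centralizer (S : Set Ω) := by
      intro z hz
      apply hfixZ
      apply zpow_fix _ hu_mem
      rw [MulAut.mul_apply, MulAut.mul_apply, MulAut.inv_apply_self, hcentral_fix z hz]
    obtain ⟨γ, hγ, hγv⟩ := exists_restrict_aut F hPS hZP hn hnZ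
    have hqZ : (q : Ω) ∈ S ⊓ Subgroup.centralizer (S : Set Ω) := QQ_le F hq
    have h1 := QQ_invariant hS F hF hγ hq hqZ
    rw [hγv] at h1
    exact h1
  set u' : MulAut P := α * u * α⁻¹ with hu'
  set z₁' : P := α z₁ with hz₁'
  have hu'𝔸 : u' ∈ F.autGroup P :=
    Subgroup.mul_mem _ (Subgroup.mul_mem _ hα hu𝔸) (Subgroup.inv_mem _ hα)
  by_cases hsame : Subgroup.zpowers u = Subgroup.zpowers u'
  · apply hsame_case α hα _ q hq
    rw [hsame]; exact Subgroup.mem_zpowers u'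
  · have hou' : u' ^ p = 1 := by rw [hu', conj_pow, hou]; simp
    have hu'1 : u' ≠ 1 := by
      intro h1
      apply hu1
      have := congrArg (fun t => α⁻¹ * t * α) h1
      simpa [hu', mul_assoc] using this
    have hz₁'pow : z₁' ^ p = 1 := by rw [hz₁', ← map_pow, hz₁pow, map_one]
    have hu'z' : u' z₁' = z₁' := by
      rw [hu', hz₁', MulAut.mul_apply, MulAut.mul_apply, MulAut.inv_apply_self, huz]
    have hu'_formula : ∀ y : P, ∃ k : ℕ, u' y = y * z₁' ^ k := by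
      intro y
      obtain ⟨k, hk⟩ := hu_formula (α⁻¹ y)
      refine ⟨k, ?_⟩
      rw [hu', MulAut.mul_apply, MulAut.mul_apply, hk, map_mul, map_pow, MulAut.apply_inv_self]
    obtain ⟨⟨t, ht, htz⟩, hF2⟩ := lemmaT hPp hPc (F.autGroup P) hcard u u' hu𝔸 hu'𝔸 hou hu1
      hou' hu'1 hsame z₁ z₁' hz₁pow hz₁'pow huz hu'z' hu_formula hu'_formula
    have hL𝔸 : Subgroup.closure ({u, u'} : Set (MulAut P)) ≤ F.autGroup P := by
      rw [Subgroup.closure_le]
      rintro y (rfl | rfl)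
      · exact hu𝔸
      · exact hu'𝔸
    have ht𝔸 : t ∈ F.autGroup P := hL𝔸 ht
    -- the action of `t` on the centre
    have htZ : ∀ z : P, (z : Ω) ∈ S ⊓ Subgroup.centralizer (S : Set Ω) →
        ∃ j : ℕ, u' (z * z₁ ^ j) = z * z₁ ^ j ∧ t z = z * z₁ ^ j * z₁ ^ j := by
      intro z hz
      have huzz : u z = z := hcentral_fix z hz
      obtain ⟨j, hj⟩ := hF2 z huzz
      refine ⟨j, hj, ?_⟩
      have huc : u (z * z₁ ^ j) = z * z₁ ^ j := by rw [map_mul, map_pow, huz, huzz]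
      have htc : t (z * z₁ ^ j) = z * z₁ ^ j := closure_pair_fix huc hj ht
      rw [map_mul, map_pow, htz, inv_pow] at htc
      have := congrArg (fun w => w * z₁ ^ j) htc
      simpa [mul_assoc] using this
    have hz₁ZΩ : (z₁ : Ω) ∈ S ⊓ Subgroup.centralizer (S : Set Ω) := hz₁Z
    have htZ' : ∀ z : P, (z : Ω) ∈ S ⊓ Subgroup.centralizer (S : Set Ω) →
        ((t z : P) : Ω) ∈ S ⊓ Subgroup.centralizer (S : Set Ω) := by
      intro z hz
      obtain ⟨j, _, hj⟩ := htZ z hz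
      rw [hj]
      exact Subgroup.mul_mem _ (Subgroup.mul_mem _ hz (Subgroup.pow_mem _ hz₁ZΩ j))
        (Subgroup.pow_mem _ hz₁ZΩ j)
    obtain ⟨τ, hτ, hτv⟩ := exists_restrict_aut F hPS hZP ht𝔸 htZ'
    have hτ0 : τ ∈ gam0 F := by
      refine ⟨hτ, fun z => ?_⟩
      rw [hτv]
      obtain ⟨j, _, hj⟩ := htZ ⟨z, hZP z.2⟩ z.2
      rw [hj]
      have hzc : ∀ w ∈ S, w * (z : Ω) = z * w := fun w hw =>
        Subgroup.mem_centralizer_iff.mp z.2.2 w hw
      have hw : (z₁ : Ω) ^ j * (z₁ : Ω) ^ j ∈ ⁅S, S⁆ :=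
        Subgroup.mul_mem _ (Subgroup.pow_mem _ hz₁C j) (Subgroup.pow_mem _ hz₁C j)
      have hwS : (z₁ : Ω) ^ j * (z₁ : Ω) ^ j ∈ S :=
        Subgroup.mul_mem _ (S.pow_mem hz₁Z.1 j) (S.pow_mem hz₁Z.1 j)
      have e : (((⟨z, hZP z.2⟩ : P) * z₁ ^ j * z₁ ^ j : P) : Ω) * (z : Ω)⁻¹ =
          (z₁ : Ω) ^ j * (z₁ : Ω) ^ j := by
        show (z : Ω) * (z₁ : Ω) ^ j * (z₁ : Ω) ^ j * (z : Ω)⁻¹ = _
        rw [mul_assoc (z : Ω), ← hzc _ hwS]; group
      rw [e]; exact hw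
    -- `u'` fixes `QQ`
    have hfixQ' : ∀ q : P, (q : Ω) ∈ QQ F → u' q = q := by
      intro q hq
      have hqZ : (q : Ω) ∈ S ⊓ Subgroup.centralizer (S : Set Ω) := QQ_le F hq
      obtain ⟨j, hj1, hj2⟩ := htZ q hqZ
      obtain ⟨hq', hfix⟩ := hq
      have h1 := hfix τ hτ0
      have h2 : ((τ ⟨(q : Ω), hq'⟩ : ↥(S ⊓ Subgroup.centralizer (S : Set Ω))) : Ω) = q :=
        congrArg Subtype.val h1
      rw [hτv] at h2
      have h3 : t q = q := Subtype.ext h2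
      rw [hj2] at h3
      have h4 : z₁ ^ (j + j) = 1 := by
        rw [pow_add]
        have := congrArg (fun w => q⁻¹ * w) h3
        simpa [mul_assoc] using this
      have hord : orderOf z₁ = p := orderOf_eq_prime hz₁pow hz₁ne
      have h5 : p ∣ j + j := by rw [← hord]; exact orderOf_dvd_of_pow_eq_one h4
      have h6 : p ∣ j := by
        rw [← two_mul] at h5
        rcases (Nat.Prime.dvd_mul hp.out).mp h5 with h7 | h7
        · exfalso
          exact hp2 ((Nat.prime_dvd_prime_iff_eq hp.out Nat.prime_two).mp h7)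
        · exact h7
      have h7 : z₁ ^ j = 1 := pow_eq_one_of_dvd hz₁pow h6
      rw [h7, mul_one] at hj1
      exact hj1
    -- Sylow conjugacy inside `⟨u, u'⟩`
    have hconj : ∃ l ∈ Subgroup.closure ({u, u'} : Set (MulAut P)),
        l * u * l⁻¹ ∈ Subgroup.zpowers u' := by
      set L₀ : Subgroup (MulAut P) := Subgroup.closure ({u, u'} : Set (MulAut P)) with hL₀
      have huL : u ∈ L₀ := Subgroup.subset_closure (by simp)
      have hu'L : u' ∈ L₀ := Subgroup.subset_closure (by simp)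
      have hU₁p : IsPGroup p ((Subgroup.zpowers u).subgroupOf L₀) := by
        apply IsPGroup.comap_of_injective _ _ (Subgroup.subtype_injective _)
        exact IsPGroup.of_card (n := 1) (by rw [card_zpowers_of_prime hou hu1, pow_one])
      have hU₂p : IsPGroup p ((Subgroup.zpowers u').subgroupOf L₀) := by
        apply IsPGroup.comap_of_injective _ _ (Subgroup.subtype_injective _)
        exact IsPGroup.of_card (n := 1) (by rw [card_zpowers_of_prime hou' hu'1, pow_one])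
      obtain ⟨R₁, hR₁⟩ := hU₁p.exists_le_sylow
      obtain ⟨R₂, hR₂⟩ := hU₂p.exists_le_sylow
      obtain ⟨l, hl⟩ := MulAction.exists_smul_eq L₀ R₁ R₂
      have hR₂eq : (R₂ : Subgroup L₀).map L₀.subtype = Subgroup.zpowers u' := by
        apply eq_zpowers_of_pgroup (F.autGroup P) hcard hou' hu'1
        · exact (Subgroup.map_subtype_le _).trans hL𝔸
        · exact R₂.isPGroup'.map _
        · exact ⟨⟨u', hu'L⟩, hR₂ (Subgroup.mem_subgroupOf.mpr (Subgroup.mem_zpowers u')), rfl⟩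
      have huR₁ : (⟨u, huL⟩ : L₀) ∈ (R₁ : Subgroup L₀) :=
        hR₁ (Subgroup.mem_subgroupOf.mpr (Subgroup.mem_zpowers u))
      have h1 : l * ⟨u, huL⟩ * l⁻¹ ∈ ((l • R₁ : Sylow p L₀) : Subgroup L₀) := by
        rw [Sylow.coe_subgroup_smul]
        have := Subgroup.smul_mem_pointwise_smul _ (MulAut.conj l) _ huR₁
        simpa [MulAut.smul_def] using this
      rw [hl] at h1
      refine ⟨l, l.2, ?_⟩
      rw [← hR₂eq]
      exact ⟨_, h1, rfl⟩
    obtain ⟨l, hl, hlu⟩ := hconj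
    have hl𝔸 : l ∈ F.autGroup P := hL𝔸 hl
    have hv1 : l * u * l⁻¹ ≠ 1 := by
      intro h1
      apply hu1
      have := congrArg (fun t => l⁻¹ * t * l) h1
      simpa [mul_assoc] using this
    have hvp : (l * u * l⁻¹) ^ p = 1 := by rw [conj_pow, hou]; simp
    have heq := zpowers_eq_of_mem hou' hvp hv1 hlu
    have hu'_mem : u' ∈ Subgroup.zpowers (l * u * l⁻¹) := by
      rw [heq]; exact Subgroup.mem_zpowers u'
    obtain ⟨i, hi⟩ := Subgroup.mem_zpowers_iff.mp hu'_mem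
    have hn : l⁻¹ * α ∈ F.autGroup P := Subgroup.mul_mem _ (Subgroup.inv_mem _ hl𝔸) hα
    have hnu : (l⁻¹ * α) * u * (l⁻¹ * α)⁻¹ ∈ Subgroup.zpowers u := by
      have e : (l⁻¹ * α) * u * (l⁻¹ * α)⁻¹ = l⁻¹ * u' * l := by rw [hu']; group
      rw [e, ← hi, conj_zpow]
      have e2 : l⁻¹ * (l * u ^ i * l⁻¹) * l = u ^ i := by group
      rw [e2]
      exact Subgroup.zpow_mem _ (Subgroup.mem_zpowers u) i
    have hnq := hsame_case _ hn hnu q hq
    have hαq : α q = l ((l⁻¹ * α) q) := by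
      rw [MulAut.mul_apply, MulAut.apply_inv_self]
    have hfix1 : u ((l⁻¹ * α) q) = (l⁻¹ * α) q := hcentral_fix _ (QQ_le F hnq)
    have hfix2 : u' ((l⁻¹ * α) q) = (l⁻¹ * α) q := hfixQ' _ hnq
    rw [hαq, closure_pair_fix hfix1 hfix2 hl]
    exact hnq

end typeH

end Cfsg.Agent.h26AbIdx
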