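import Mathlib
import Cfsg.Prelude.Def_FusionSystem
import Cfsg.Agent.Lib_helper26_Alperin

set_option autoImplicit false

namespace Cfsg.Agent.helper26

open Cfsg Cfsg.FusionSystem

variable {Ω : Type*} [Group Ω] {S : Subgroup Ω}

/-! ### Alperin's fusion theorem -/

theorem alperin_aut_step_ind [Finite S] (p : ℕ) [Fact p.Prime] (hS : IsPGroup p S) (F E : FusionSystem S)
    (hE : ∀ R : Subgroup Ω, F.IsFullyNormalized R → F.IsCentric R → F.IsRadical p R →
      (∀ T : Subgroup Ω, T ≤ S → Nat.card R < Nat.card T → F.Hom T ⊆ E.Hom T) →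
      F.autGroup R ≤ E.autGroup R)
    (Q : Subgroup Ω) (hQa : F.IsFullyAutomized p Q) (hQr : F.IsReceptive Q)
    (IH : ∀ T : Subgroup Ω, T ≤ S → Nat.card Q < Nat.card T → F.Hom T ⊆ E.Hom T) :
    F.autGroup Q ≤ E.autGroup Q := by
  have hQS := hQr.1
  haveI : Finite Q := finite_of_le hQS
  have hQn : F.IsFullyNormalized Q := isFullyNormalized_of_receptive p hS F Q hQa hQr
  intro α hα
  by_cases hcr : F.IsCentric Q ∧ F.IsRadical p Q
  · exact hE Q hQn hcr.1 hcr.2 IH hα
  have hα' : Q.subtype.comp α.toMonoidHom ∈ F.Hom Q := (mem_autGroup_iff F hQS α).mp hα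
  have hαr : (Q.subtype.comp α.toMonoidHom).range = Q := IsFIso.range_eq (F := F) (e := α) hα'
  have hg : ∃ g ∈ extender S Q (Q.subtype.comp α.toMonoidHom), g ∉ Q := by
    by_cases hc : F.IsCentric Q
    · have hnr : ¬ F.IsRadical p Q := fun h => hcr ⟨hc, h⟩
      have hne : (pCore p (F.autGroup Q)).map (F.autGroup Q).subtype ≠ Inn Q := fun h => hnr ⟨hQS, h⟩
      have hle := inn_le_pCore_map hS F hQS
      have hnle : ¬ (pCore p (F.autGroup Q)).map (F.autGroup Q).subtype ≤ Inn Q :=
        fun h => hne (le_antisymm h hle)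
      obtain ⟨κ, hκK, hκI⟩ := SetLike.not_le_iff_exists.mp hnle
      obtain ⟨κ', hκ'K, rfl⟩ := hκK
      obtain ⟨-, R, hR⟩ := hQa
      have hKR : ∀ β ∈ pCore p (F.autGroup Q), (β : MulAut Q) ∈ autInducedBy S Q := by
        intro β hβ
        have h1 : β ∈ (R : Subgroup (F.autGroup Q)) := helper1.pCore_le_sylow R hβ
        rw [hR, Subgroup.mem_subgroupOf] at h1
        exact h1
      obtain ⟨g, hgS, hg⟩ := (mem_autInducedBy_iff S Q _).mp (hKR κ' hκ'K)
      have hgN : g ∈ Subgroup.normalizer (Q : Set Ω) := by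
        haveI : Finite ((Q : Set Ω)) := ‹Finite Q›
        apply Subgroup.mem_normalizer_fintype
        intro n hn
        have := hg ⟨n, hn⟩
        show g * n * g⁻¹ ∈ Q
        rw [← this]; exact ((κ' : MulAut Q) ⟨n, hn⟩).2
      refine ⟨g, ?_, ?_⟩
      · haveI := helper1.pCore_normal (G := F.autGroup Q) p
        have hconj : (⟨α, hα⟩ : F.autGroup Q) * κ' * (⟨α, hα⟩ : F.autGroup Q)⁻¹ ∈ pCore p (F.autGroup Q) :=
          Subgroup.Normal.conj_mem inferInstance κ' hκ'K _
        obtain ⟨h, hhS, hh⟩ := (mem_autInducedBy_iff S Q _).mp (hKR _ hconj)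
        rw [mem_extender_iff]
        refine ⟨hgS, hgN, h, hhS, fun x hx => ?_⟩
        have h5 := hh (α x)
        have key : ((((⟨α, hα⟩ : F.autGroup Q) * κ' * (⟨α, hα⟩ : F.autGroup Q)⁻¹ : F.autGroup Q) :
            MulAut Q)) (α x) = α ((κ' : MulAut Q) x) := by
          show α ((κ' : MulAut Q) (α⁻¹ (α x))) = _
          rw [MulAut.inv_apply_self]
        rw [key] at h5
        have h6 : (κ' : MulAut Q) x = ⟨g * x * g⁻¹, hx⟩ := Subtype.ext (hg x)
        rw [h6] at h5
        exact h5
      · intro hgQ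
        apply hκI
        refine ⟨⟨g, hgQ⟩, ?_⟩
        ext x
        exact (hg x).symm
    · have hnle : ¬ centralizerIn S Q ≤ Q := fun h => hc (isCentric_of_receptive F hQr h)
      obtain ⟨c, hcC, hcQ⟩ := SetLike.not_le_iff_exists.mp hnle
      exact ⟨c, centralizerIn_le_extender S Q _ hcC, hcQ⟩
  obtain ⟨g, hgT, hgQ⟩ := hg
  obtain ⟨θ, hθ, hθ'⟩ := hQr.2 Q _ hα' hαr
  have hQT : Q ≤ extender S Q (Q.subtype.comp α.toMonoidHom) := le_extender F hα'
  have hTS : extender S Q (Q.subtype.comp α.toMonoidHom) ≤ S :=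
    (extender_le_normalizerIn S Q _).trans (normalizerIn_le S Q)
  haveI : Finite (extender S Q (Q.subtype.comp α.toMonoidHom)) := finite_of_le hTS
  have hcard : Nat.card Q < Nat.card (extender S Q (Q.subtype.comp α.toMonoidHom)) :=
    card_lt_of_le_of_not_mem hQT hgT hgQ
  have hθE : θ ∈ E.Hom _ := IH _ hTS hcard hθ
  have hres := restrict_mem E hQT θ hθE
  rw [mem_autGroup_iff E hQS]
  convert hres using 1
  ext x
  exact (hθ' x x.2 (hQT x.2)).symm

/-- **Alperin's fusion theorem** (test-system form, with induction hypothesis available): a fusion system `E` over `S` containing the `F`-automorphism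
groups of all fully normalized, centric, radical subgroups contains the saturated system `F`. -/
theorem alperin_ind [Finite S] (p : ℕ) [Fact p.Prime] (hS : IsPGroup p S) (F : FusionSystem S)
    (hF : F.IsSaturated p) (E : FusionSystem S)
    (hE : ∀ R : Subgroup Ω, F.IsFullyNormalized R → F.IsCentric R → F.IsRadical p R →
      (∀ T : Subgroup Ω, T ≤ S → Nat.card R < Nat.card T → F.Hom T ⊆ E.Hom T) →
      F.autGroup R ≤ E.autGroup R) : F ≤ E := by
  have main : ∀ k : ℕ, ∀ P : Subgroup Ω, P ≤ S → Nat.card S - Nat.card P = k → F.Hom P ⊆ E.Hom P := by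
    intro k
    induction k using Nat.strong_induction_on with
    | _ k ih =>
      intro P hPS hk
      have IH : ∀ T : Subgroup Ω, T ≤ S → Nat.card P < Nat.card T → F.Hom T ⊆ E.Hom T := by
        intro T hTS hlt
        have hTle : Nat.card T ≤ Nat.card S := Subgroup.card_le_of_le hTS
        exact ih (Nat.card S - Nat.card T) (by omega) T hTS rfl
      intro φ hφ
      haveI : Finite P := finite_of_le hPS
      obtain ⟨Q, hPQ, hQa, hQr⟩ := hF P hPS
      have hQS := hQr.1
      have hcardPQ : Nat.card P = Nat.card Q := card_eq_of_isConj F hPQ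
      have IHQ : ∀ T : Subgroup Ω, T ≤ S → Nat.card Q < Nat.card T → F.Hom T ⊆ E.Hom T :=
        fun T hT h => IH T hT (hcardPQ ▸ h)
      have hAut : F.autGroup Q ≤ E.autGroup Q := alperin_aut_step_ind p hS F E hE Q hQa hQr IHQ
      by_cases hPtop : P = S
      · have hQP : Q = P := by
          rw [hPtop]
          exact Subgroup.eq_of_le_of_card_ge hQS (by rw [← hcardPQ, hPtop])
        subst hQP
        have hφP : ∀ t : Q, φ t ∈ Q := fun t => hPtop.ge ((F.le_of_mem hφ).2 t)
        obtain ⟨α, hα, hα'⟩ := exists_mulAut_of_mem F φ hφ hφP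
        have h1 := (mem_autGroup_iff E hPS α).mp (hAut hα)
        convert h1 using 1
        ext x
        exact (hα' x).symm
      · have hP'S : φ.range ≤ S := by
          rintro _ ⟨x, rfl⟩; exact (F.le_of_mem hφ).2 x
        have hPP' : F.IsConj P φ.range := ⟨φ, hφ, rfl⟩
        have hP'Q : F.IsConj φ.range Q := isConj_trans F (isConj_symm F hPP') hPQ
        have hcardP' : Nat.card P = Nat.card φ.range := card_eq_of_isConj F hPP'
        have hP'ne : φ.range ≠ S := by
          intro h
          apply hPtop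
          exact Subgroup.eq_of_le_of_card_ge hPS (by rw [hcardP', h])
        obtain ⟨ψ, hψ, hψN, hψQ⟩ := exists_normalizer_hom p hS F Q P hQa hQr hPQ
        obtain ⟨ψ', hψ', hψ'N, hψ'Q⟩ := exists_normalizer_hom p hS F Q φ.range hQa hQr hP'Q
        obtain ⟨g, hgN, hgP⟩ := exists_mem_normalizerIn_not_mem hS hPS hPtop
        obtain ⟨g', hg'N, hg'P⟩ := exists_mem_normalizerIn_not_mem hS hP'S hP'ne
        have hPN := le_normalizerIn hPS
        have hP'N := le_normalizerIn hP'S
        haveI : Finite (normalizerIn S P) := finite_of_le (normalizerIn_le S P)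
        haveI : Finite (normalizerIn S φ.range) := finite_of_le (normalizerIn_le S φ.range)
        have hψE : ψ ∈ E.Hom (normalizerIn S P) :=
          IH _ (normalizerIn_le S P) (card_lt_of_le_of_not_mem hPN hgN hgP) hψ
        have hψ'E : ψ' ∈ E.Hom (normalizerIn S φ.range) :=
          IH _ (normalizerIn_le S φ.range)
            (by rw [hcardP']; exact card_lt_of_le_of_not_mem hP'N hg'N hg'P) hψ'
        have ha_F := restrict_mem F hPN ψ hψ
        have ha_E := restrict_mem E hPN ψ hψE
        have har : (ψ.comp (Subgroup.inclusion hPN)).range = Q := by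
          rw [← hψQ]; ext y; constructor
          · rintro ⟨x, rfl⟩
            exact ⟨Subgroup.inclusion hPN x, Subgroup.mem_subgroupOf.mpr x.2, rfl⟩
          · rintro ⟨n, hn, rfl⟩
            exact ⟨⟨n, Subgroup.mem_subgroupOf.mp hn⟩, rfl⟩
        have hb_F := restrict_mem F hP'N ψ' hψ'
        have hb_E := restrict_mem E hP'N ψ' hψ'E
        have hbr : (ψ'.comp (Subgroup.inclusion hP'N)).range = Q := by
          rw [← hψ'Q]; ext y; constructor
          · rintro ⟨x, rfl⟩
            exact ⟨Subgroup.inclusion hP'N x, Subgroup.mem_subgroupOf.mpr x.2, rfl⟩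
          · rintro ⟨n, hn, rfl⟩
            exact ⟨⟨n, Subgroup.mem_subgroupOf.mp hn⟩, rfl⟩
        obtain ⟨ea, hea, hea'⟩ := exists_isFIso_of_mem F ha_F har
        have heaE : IsFIso E ea := by
          unfold IsFIso
          convert ha_E using 1
          ext x; exact hea' x
        obtain ⟨eb, heb, heb'⟩ := exists_isFIso_of_mem F hb_F hbr
        have hebE : IsFIso E eb := by
          unfold IsFIso
          convert hb_E using 1
          ext x; exact heb' x
        obtain ⟨eφ, heφ, heφ'⟩ := exists_isFIso_of_mem F hφ rfl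
        have hαF : IsFIso F (ea.symm.trans (eφ.trans eb)) := hea.symm.trans (heφ.trans heb)
        haveI : Finite Q := finite_of_le hQS
        have hαmem : (ea.symm.trans (eφ.trans eb) : MulAut Q) ∈ F.autGroup Q :=
          (mem_autGroup_iff_isFIso F hQS _).mpr hαF
        have hαE : IsFIso E (ea.symm.trans (eφ.trans eb)) :=
          (mem_autGroup_iff_isFIso E hQS _).mp (hAut hαmem)
        have hφE : IsFIso E (ea.trans ((ea.symm.trans (eφ.trans eb)).trans eb.symm)) :=
          heaE.trans (hαE.trans hebE.symm)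
        have hcomp : ea.trans ((ea.symm.trans (eφ.trans eb)).trans eb.symm) = eφ := by
          ext x; simp
        rw [hcomp] at hφE
        unfold IsFIso at hφE
        convert hφE using 1
        ext x; exact (heφ' x).symm
  intro P φ hφ
  exact main _ P (F.le_of_mem hφ).1 rfl hφ

end Cfsg.Agent.helper26
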