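import Mathlib

set_option autoImplicit false

namespace Cfsg.Agent.h26Alt

open Pointwise

theorem comm_of_card_dvd_prime {G : Type*} [Group G] {p : ℕ} [hp : Fact p.Prime]
    (h : Nat.card G ∣ p) (a b : G) : a * b = b * a := by
  rcases (Nat.dvd_prime hp.out).mp h with h1 | h1
  · have := (Nat.card_eq_one_iff_unique.mp h1).1
    exact Subsingleton.elim _ _
  · have := isCyclic_of_prime_card h1
    letI := IsCyclic.commGroup (α := G)
    exact mul_comm a b

/-- a `p`-group of permutations of fewer than `p²` points is abelian. -/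
theorem perm_pgroup_comm {X : Type*} [Fintype X] [DecidableEq X] {p : ℕ} [hp : Fact p.Prime]
    (hX : Fintype.card X < p ^ 2) (Q : Subgroup (Equiv.Perm X)) (hQ : IsPGroup p Q)
    (g h : Equiv.Perm X) (hg : g ∈ Q) (hh : h ∈ Q) : g * h = h * g := by
  ext x
  obtain ⟨k, hk⟩ := hQ.card_orbit x
  have hOle : Nat.card (MulAction.orbit Q x) ≤ Fintype.card X := by
    rw [← Nat.card_eq_fintype_card]
    exact Nat.card_le_card_of_injective Subtype.val Subtype.val_injective
  have hppos : 0 < p := hp.out.pos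
  have hk1 : k ≤ 1 := by
    by_contra hc
    push Not at hc
    have : p ^ 2 ≤ p ^ k := Nat.pow_le_pow_right hppos hc
    omega
  have hρp : IsPGroup p (MulAction.toPermHom Q (MulAction.orbit Q x)).range :=
    hQ.of_surjective _ (MonoidHom.rangeRestrict_surjective _)
  obtain ⟨m, hm⟩ := IsPGroup.iff_card.mp hρp
  have hdvd : Nat.card (MulAction.toPermHom Q (MulAction.orbit Q x)).range ∣
      (Nat.card (MulAction.orbit Q x)).factorial := by
    rw [← Nat.card_perm]
    exact Subgroup.card_subgroup_dvd_card _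
  have hm1 : m ≤ 1 := by
    by_contra hc
    push Not at hc
    have h2 : p ^ 2 ∣ (p ^ k).factorial := by
      rw [hm, hk] at hdvd
      exact (pow_dvd_pow p hc).trans hdvd
    interval_cases k
    · simp only [pow_zero, Nat.factorial_one, Nat.dvd_one] at h2
      have : 1 < p ^ 2 := Nat.one_lt_pow (by norm_num) hp.out.one_lt
      omega
    · rw [pow_one] at h2
      obtain ⟨q, hq⟩ : ∃ q, p = q + 1 := ⟨p - 1, by omega⟩
      have h3 : p ^ 2 ∣ p * (p - 1).factorial := by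
        have : p.factorial = p * (p - 1).factorial := by
          rw [hq, Nat.factorial_succ]; simp
        rwa [this] at h2
      rw [pow_two] at h3
      have h4 : p ∣ (p - 1).factorial := Nat.dvd_of_mul_dvd_mul_left hppos h3
      have h5 := (Nat.Prime.dvd_factorial hp.out).mp h4
      omega
  have hcd : Nat.card (MulAction.toPermHom Q (MulAction.orbit Q x)).range ∣ p := by
    rw [hm]
    calc p ^ m ∣ p ^ 1 := pow_dvd_pow p hm1
      _ = p := pow_one p
  have hc := comm_of_card_dvd_prime hcd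
    ⟨MulAction.toPermHom Q (MulAction.orbit Q x) ⟨g, hg⟩, ⟨_, rfl⟩⟩
    ⟨MulAction.toPermHom Q (MulAction.orbit Q x) ⟨h, hh⟩, ⟨_, rfl⟩⟩
  have h6 := congrArg (fun σ : Equiv.Perm (MulAction.orbit Q x) =>
    ((σ ⟨x, MulAction.mem_orbit_self x⟩ : MulAction.orbit Q x) : X)) (congrArg Subtype.val hc)
  exact h6

/-- one non-abelian `p`-subgroup makes every Sylow `p`-subgroup non-abelian. -/
theorem not_comm_sylow {G : Type*} [Group G] [Finite G] {p : ℕ} [Fact p.Prime] (S : Sylow p G)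
    (R : Subgroup G) (hR : IsPGroup p R) (a b : G) (ha : a ∈ R) (hb : b ∈ R)
    (hab : a * b ≠ b * a) : ¬ IsMulCommutative S := by
  intro hc
  obtain ⟨P', hRP'⟩ := hR.exists_le_sylow
  obtain ⟨g, hg⟩ := MulAction.exists_smul_eq G P' S
  have key : ∀ x ∈ R, g * x * g⁻¹ ∈ S := by
    intro x hx
    rw [← hg]
    have h1 : (MulAut.conj g) • x ∈ (MulAut.conj g) • (P' : Subgroup G) :=
      Subgroup.smul_mem_pointwise_smul _ _ _ (hRP' hx)
    exact h1
  have h2 := hc.is_comm.comm (⟨g * a * g⁻¹, key a ha⟩ : S) ⟨g * b * g⁻¹, key b hb⟩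
  have h3 : g * a * g⁻¹ * (g * b * g⁻¹) = g * b * g⁻¹ * (g * a * g⁻¹) := congrArg Subtype.val h2
  apply hab
  have e1 : a * b = g⁻¹ * (g * a * g⁻¹ * (g * b * g⁻¹)) * g := by group
  rw [e1, h3]; group

section Heis

variable (p : ℕ) [hp : Fact p.Prime]

/-- Heisenberg permutations of `F_p²`. -/
def hz (a b c : ZMod p) : Equiv.Perm (ZMod p × ZMod p) where
  toFun v := (v.1 + a, v.2 + b * v.1 + c)
  invFun v := (v.1 - a, v.2 - b * (v.1 - a) - c)
  left_inv v := by
    apply Prod.ext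
    · show v.1 + a - a = v.1; ring
    · show v.2 + b * v.1 + c - b * (v.1 + a - a) - c = v.2; ring
  right_inv v := by
    apply Prod.ext
    · show v.1 - a + a = v.1; ring
    · show v.2 - b * (v.1 - a) - c + b * (v.1 - a) + c = v.2; ring

theorem hz_apply (a b c : ZMod p) (v : ZMod p × ZMod p) :
    hz p a b c v = (v.1 + a, v.2 + b * v.1 + c) := rfl

theorem hz_mul (a b c a' b' c' : ZMod p) :
    hz p a b c * hz p a' b' c' = hz p (a + a') (b + b') (c + c' + b * a') := by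
  ext v
  · simp only [Equiv.Perm.mul_apply, hz_apply]; ring
  · simp only [Equiv.Perm.mul_apply, hz_apply]; ring

theorem hz_one : hz p 0 0 0 = 1 := by
  ext v
  · simp [hz_apply]
  · simp [hz_apply]

theorem hz_inv (a b c : ZMod p) : (hz p a b c)⁻¹ = hz p (-a) (-b) (a * b - c) := by
  rw [inv_eq_iff_mul_eq_one, hz_mul, ← hz_one]
  congr 1 <;> ring

theorem hz_injective : Function.Injective
    (fun t : ZMod p × ZMod p × ZMod p => hz p t.1 t.2.1 t.2.2) := by
  rintro ⟨a, b, c⟩ ⟨a', b', c'⟩ h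
  have h0 := congrArg (fun σ : Equiv.Perm (ZMod p × ZMod p) => σ (0, 0)) h
  have h1 := congrArg (fun σ : Equiv.Perm (ZMod p × ZMod p) => σ (1, 0)) h
  simp only [hz_apply, Prod.mk.injEq] at h0 h1
  obtain ⟨ha, hc⟩ := h0
  obtain ⟨-, hb⟩ := h1
  simp only [zero_add, mul_zero, add_zero, mul_one] at ha hc hb
  subst ha; subst hc
  have hb' : b = b' := add_right_cancel hb
  subst hb'
  rfl

/-- the Heisenberg group as a group of permutations. -/
def heis : Subgroup (Equiv.Perm (ZMod p × ZMod p)) where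
  carrier := Set.range (fun t : ZMod p × ZMod p × ZMod p => hz p t.1 t.2.1 t.2.2)
  one_mem' := ⟨(0, 0, 0), hz_one p⟩
  mul_mem' := by
    rintro _ _ ⟨⟨a, b, c⟩, rfl⟩ ⟨⟨a', b', c'⟩, rfl⟩
    exact ⟨(a + a', b + b', c + c' + b * a'), (hz_mul p a b c a' b' c').symm⟩
  inv_mem' := by
    rintro _ ⟨⟨a, b, c⟩, rfl⟩
    exact ⟨(-a, -b, a * b - c), (hz_inv p a b c).symm⟩

theorem hz_mem (a b c : ZMod p) : hz p a b c ∈ heis p := ⟨(a, b, c), rfl⟩

theorem heis_isPGroup : IsPGroup p (heis p) := by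
  have hne : NeZero p := ⟨hp.out.ne_zero⟩
  have hcard : Nat.card (heis p) = p ^ 3 := by
    have h1 : Nat.card (heis p) = Nat.card (ZMod p × ZMod p × ZMod p) :=
      (Nat.card_congr (Equiv.ofInjective _ (hz_injective p))).symm
    rw [h1, Nat.card_prod, Nat.card_prod, Nat.card_zmod]
    ring
  exact IsPGroup.of_card hcard

theorem hz_noncomm : hz p 1 0 0 * hz p 0 1 0 ≠ hz p 0 1 0 * hz p 1 0 0 := by
  intro h
  rw [hz_mul, hz_mul] at h
  have h2 := hz_injective p (a₁ := (1 + 0, 0 + 1, 0 + 0 + 0 * 0)) (a₂ := (0 + 1, 1 + 0, 0 + 0 + 1 * 1)) h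
  simp only [Prod.mk.injEq] at h2
  obtain ⟨-, -, h3⟩ := h2
  simp at h3

end Heis

/-- sign of an element of a `p`-group of permutations, `p` odd. -/
theorem sign_eq_one_of_pgroup {X : Type*} [Fintype X] [DecidableEq X] {p : ℕ} [hp : Fact p.Prime]
    (hp2 : p ≠ 2) (Q : Subgroup (Equiv.Perm X)) (hQ : IsPGroup p Q) (σ : Equiv.Perm X)
    (hσ : σ ∈ Q) : Equiv.Perm.sign σ = 1 := by
  obtain ⟨k, hk⟩ := hQ ⟨σ, hσ⟩
  have h1 : σ ^ p ^ k = 1 := congrArg Subtype.val hk
  have h2 : (Equiv.Perm.sign σ) ^ p ^ k = 1 := by rw [← map_pow, h1, map_one]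
  rcases Int.units_eq_one_or (Equiv.Perm.sign σ) with h | h
  · exact h
  · rw [h] at h2
    have hodd : Odd (p ^ k) := (hp.out.odd_of_ne_two hp2).pow
    rw [Odd.neg_one_pow hodd] at h2
    exact absurd h2 (by decide)

/-- for `p` odd and `p² ≤ n` the alternating group of degree `n` has a non-abelian
`p`-subgroup. -/
theorem exists_nonabelian_odd {n p : ℕ} [hp : Fact p.Prime] (hp2 : p ≠ 2) (hn : p ^ 2 ≤ n) :
    ∃ (R : Subgroup (alternatingGroup (Fin n))) (a b : alternatingGroup (Fin n)),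
      IsPGroup p R ∧ a ∈ R ∧ b ∈ R ∧ a * b ≠ b * a := by
  have hne : NeZero p := ⟨hp.out.ne_zero⟩
  have hcard : Fintype.card (ZMod p × ZMod p) ≤ Fintype.card (Fin n) := by
    rw [Fintype.card_prod, ZMod.card, Fintype.card_fin, ← pow_two]; exact hn
  obtain ⟨ι⟩ := Function.Embedding.nonempty_of_card_le hcard
  have hinj := Equiv.Perm.viaEmbeddingHom_injective ι
  have hRp : IsPGroup p ((heis p).map (Equiv.Perm.viaEmbeddingHom ι)) :=
    (heis_isPGroup p).map _
  have hmem : ∀ σ ∈ heis p, Equiv.Perm.viaEmbeddingHom ι σ ∈ alternatingGroup (Fin n) := by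
    intro σ hσ
    rw [Equiv.Perm.mem_alternatingGroup]
    exact sign_eq_one_of_pgroup hp2 _ hRp _ ⟨σ, hσ, rfl⟩
  refine ⟨((heis p).map (Equiv.Perm.viaEmbeddingHom ι)).subgroupOf (alternatingGroup (Fin n)),
    ⟨_, hmem _ (hz_mem p 1 0 0)⟩, ⟨_, hmem _ (hz_mem p 0 1 0)⟩, ?_, ?_, ?_, ?_⟩
  · exact hRp.comap_of_injective _ (Subgroup.subtype_injective _)
  · exact Subgroup.mem_subgroupOf.mpr ⟨_, hz_mem p 1 0 0, rfl⟩
  · exact Subgroup.mem_subgroupOf.mpr ⟨_, hz_mem p 0 1 0, rfl⟩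
  · intro h
    have h1 : Equiv.Perm.viaEmbeddingHom ι (hz p 1 0 0) * Equiv.Perm.viaEmbeddingHom ι (hz p 0 1 0) =
        Equiv.Perm.viaEmbeddingHom ι (hz p 0 1 0) * Equiv.Perm.viaEmbeddingHom ι (hz p 1 0 0) :=
      congrArg Subtype.val h
    rw [← map_mul, ← map_mul] at h1
    exact hz_noncomm p (hinj h1)


section Two

def pa : Equiv.Perm (Fin 6) := ⟨![1,2,3,0,5,4], ![3,0,1,2,5,4], by decide, by decide⟩
def pb : Equiv.Perm (Fin 6) := ⟨![2,1,0,3,5,4], ![2,1,0,3,5,4], by decide, by decide⟩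

def d8set : Finset (Equiv.Perm (Fin 6)) :=
  {1, pa, pa*pa, pa*pa*pa, pb, pb*pa, pb*pa*pa, pb*pa*pa*pa}

set_option maxRecDepth 100000 in
theorem d8_mul : ∀ x ∈ d8set, ∀ y ∈ d8set, x * y ∈ d8set := by decide
set_option maxRecDepth 100000 in
theorem d8_inv : ∀ x ∈ d8set, x⁻¹ ∈ d8set := by decide
theorem d8_card : d8set.card = 8 := by decide
set_option maxRecDepth 100000 in
theorem d8_sign : ∀ x ∈ d8set, Equiv.Perm.sign x = 1 := by decide
theorem d8_nc : pa * pb ≠ pb * pa := by decide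
theorem pa_mem : pa ∈ d8set := by decide
theorem pb_mem : pb ∈ d8set := by decide
theorem one_mem_d8 : (1 : Equiv.Perm (Fin 6)) ∈ d8set := by decide

def d8 : Subgroup (Equiv.Perm (Fin 6)) where
  carrier := ↑d8set
  one_mem' := Finset.mem_coe.mpr one_mem_d8
  mul_mem' := fun hx hy => Finset.mem_coe.mpr (d8_mul _ (Finset.mem_coe.mp hx) _ (Finset.mem_coe.mp hy))
  inv_mem' := fun hx => Finset.mem_coe.mpr (d8_inv _ (Finset.mem_coe.mp hx))

theorem d8_isPGroup : IsPGroup 2 d8 := by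
  have hcard : Nat.card d8 = 2 ^ 3 := by
    have h1 : Nat.card d8 = Nat.card {x // x ∈ d8set} :=
      Nat.card_congr (Equiv.subtypeEquivRight (fun x => Iff.rfl))
    rw [h1, Nat.card_eq_fintype_card, Fintype.card_coe, d8_card]
    norm_num
  exact IsPGroup.of_card hcard

theorem exists_nonabelian_two {n : ℕ} (hn : 6 ≤ n) :
    ∃ (R : Subgroup (alternatingGroup (Fin n))) (a b : alternatingGroup (Fin n)),
      IsPGroup 2 R ∧ a ∈ R ∧ b ∈ R ∧ a * b ≠ b * a := by
  have hinj := Equiv.Perm.viaEmbeddingHom_injective (Fin.castLEEmb hn)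
  have hRp : IsPGroup 2 (d8.map (Equiv.Perm.viaEmbeddingHom (Fin.castLEEmb hn))) :=
    d8_isPGroup.map _
  have hmem : ∀ σ ∈ d8, Equiv.Perm.viaEmbeddingHom (Fin.castLEEmb hn) σ ∈
      alternatingGroup (Fin n) := by
    intro σ hσ
    rw [Equiv.Perm.mem_alternatingGroup, Equiv.Perm.viaEmbeddingHom_apply]
    unfold Equiv.Perm.viaEmbedding
    rw [Equiv.Perm.sign_extendDomain]
    exact d8_sign σ hσ
  have ha : pa ∈ d8 := pa_mem
  have hb : pb ∈ d8 := pb_mem
  refine ⟨(d8.map (Equiv.Perm.viaEmbeddingHom (Fin.castLEEmb hn))).subgroupOf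
    (alternatingGroup (Fin n)), ⟨_, hmem _ ha⟩, ⟨_, hmem _ hb⟩, ?_, ?_, ?_, ?_⟩
  · exact hRp.comap_of_injective _ (Subgroup.subtype_injective _)
  · exact Subgroup.mem_subgroupOf.mpr ⟨_, ha, rfl⟩
  · exact Subgroup.mem_subgroupOf.mpr ⟨_, hb, rfl⟩
  · intro h
    have h1 : Equiv.Perm.viaEmbeddingHom (Fin.castLEEmb hn) pa *
        Equiv.Perm.viaEmbeddingHom (Fin.castLEEmb hn) pb =
        Equiv.Perm.viaEmbeddingHom (Fin.castLEEmb hn) pb *
        Equiv.Perm.viaEmbeddingHom (Fin.castLEEmb hn) pa := congrArg Subtype.val h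
    rw [← map_mul, ← map_mul] at h1
    exact d8_nc (hinj h1)

end Two

theorem alt_sylow_comm_iff (n p : ℕ) (hn : 6 ≤ n) [hp : Fact p.Prime]
    (S : Sylow p (alternatingGroup (Fin n))) : IsMulCommutative S ↔ n < p ^ 2 := by
  constructor
  · intro hc
    by_contra hlt
    push Not at hlt
    by_cases hp2 : p = 2
    · subst hp2
      obtain ⟨R, a, b, hR, ha, hb, hab⟩ := exists_nonabelian_two hn
      exact not_comm_sylow S R hR a b ha hb hab hc
    · obtain ⟨R, a, b, hR, ha, hb, hab⟩ := exists_nonabelian_odd hp2 hlt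
      exact not_comm_sylow S R hR a b ha hb hab hc
  · intro hlt
    have hQ : IsPGroup p ((S : Subgroup (alternatingGroup (Fin n))).map
        (alternatingGroup (Fin n)).subtype) := S.isPGroup'.map _
    refine ⟨⟨fun x y => ?_⟩⟩
    have h := perm_pgroup_comm (X := Fin n) (by simpa using hlt) _ hQ x.1.1 y.1.1
      ⟨x.1, x.2, rfl⟩ ⟨y.1, y.2, rfl⟩
    exact Subtype.ext (Subtype.ext h)

end Cfsg.Agent.h26Alt
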