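import Cfsg.Agent.Lib_helper25_Saturated
import Cfsg.Agent.Lib_helper25_SatBasic

set_option autoImplicit false
set_option linter.style.haveILetI false

namespace Cfsg.Agent.h26AutSys

open Cfsg Cfsg.FusionSystem Cfsg.Agent.helper25
open scoped Pointwise

variable {Ω : Type*} [Group Ω]

/-- The fusion system on `T` whose maps are the restrictions of the automorphisms in `B`. -/
def autSys (T : Subgroup Ω) (B : Subgroup (MulAut T)) (hB : Inn T ≤ B) : FusionSystem T where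
  Hom P := {φ | ∃ hP : P ≤ T, ∃ γ ∈ B, ∀ x : P, φ x = ((γ ⟨x, hP x.2⟩ : T) : Ω)}
  le_of_mem := by
    rintro P φ ⟨hP, γ, -, h⟩
    exact ⟨hP, fun x => by rw [h x]; exact (γ _).2⟩
  injective_of_mem := by
    rintro P φ ⟨hP, γ, -, h⟩ a b hab
    rw [h a, h b] at hab
    have := γ.injective (Subtype.ext hab)
    have h3 : (a : Ω) = (b : Ω) := congrArg (fun t : ↥T => (t : Ω)) this
    exact Subtype.ext h3
  conj_mem := by
    intro P g hP hg
    exact ⟨hP, MulAut.conj ⟨g, hg⟩, hB ⟨⟨g, hg⟩, rfl⟩, fun x => rfl⟩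
  comp_mem := by
    rintro P Q φ ψ ⟨hP, γ, hγ, h1⟩ ⟨hQ, δ, hδ, h2⟩ h
    refine ⟨hP, δ * γ, B.mul_mem hδ hγ, fun x => ?_⟩
    show ψ (φ.codRestrict Q h x) = _
    rw [h2]
    show ((δ _ : T) : Ω) = ((δ (γ ⟨x, _⟩) : T) : Ω)
    congr 2
    exact Subtype.ext (h1 x)
  inv_mem := by
    rintro P φ ⟨hP, γ, hγ, h1⟩
    have hle : φ.range ≤ T := by
      rintro _ ⟨x, rfl⟩
      rw [h1]; exact (γ _).2
    refine ⟨T.subtype.comp ((γ⁻¹ : MulAut T).toMonoidHom.comp (Subgroup.inclusion hle)),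
      ⟨hle, γ⁻¹, B.inv_mem hγ, fun y => rfl⟩, ?_⟩
    intro x
    show (((γ⁻¹ : MulAut T) ⟨φ x, _⟩ : T) : Ω) = x
    have e : (⟨φ x, hle ⟨x, rfl⟩⟩ : T) = γ ⟨x, hP x.2⟩ := Subtype.ext (h1 x)
    have e2 : (γ⁻¹ : MulAut T) (⟨φ x, hle ⟨x, rfl⟩⟩ : T) = ⟨x, hP x.2⟩ := by rw [e]; simp
    exact congrArg Subtype.val e2

theorem mem_autSys {T : Subgroup Ω} {B : Subgroup (MulAut T)} {hB : Inn T ≤ B} {P : Subgroup Ω}
    {φ : P →* Ω} : φ ∈ (autSys T B hB).Hom P ↔
      ∃ hP : P ≤ T, ∃ γ ∈ B, ∀ x : P, φ x = ((γ ⟨x, hP x.2⟩ : T) : Ω) := Iff.rfl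

theorem autGroup_autSys (T : Subgroup Ω) (B : Subgroup (MulAut T)) (hB : Inn T ≤ B) :
    (autSys T B hB).autGroup T = B := by
  ext α
  rw [mem_autGroup_iff _ le_rfl]
  constructor
  · rintro ⟨_, γ, hγ, h⟩
    have : α = γ := by
      ext x
      exact h x
    rw [this]; exact hγ
  · intro hα
    exact ⟨le_rfl, α, hα, fun x => rfl⟩

theorem autSys_realized (T : Subgroup Ω) (C : Subgroup (MulAut T)) :
    (autSys T (Inn T ⊔ C) le_sup_left).IsRealizedBy
      (SemidirectProduct.inl : T →* T ⋊[C.subtype] C) := by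
  refine ⟨SemidirectProduct.inl_injective, ?_⟩
  intro P hP φ hφ
  constructor
  · rintro ⟨_, γ, hγ, h⟩
    have h2 : γ ∈ ((Inn T : Subgroup (MulAut T)) : Set (MulAut T)) * (C : Set (MulAut T)) := by
      rw [← Subgroup.normal_mul]; exact hγ
    obtain ⟨a, ⟨n, rfl⟩, c, hc, rfl⟩ := Set.mem_mul.mp h2
    refine ⟨SemidirectProduct.inl n * SemidirectProduct.inr ⟨c, hc⟩, fun x => ?_⟩
    have e : (⟨φ x, hφ x⟩ : T) = n * (c ⟨x, hP x.2⟩) * n⁻¹ := Subtype.ext (h x)
    have e2 := SemidirectProduct.inl_aut (φ := C.subtype) ⟨c, hc⟩ (⟨x, hP x.2⟩ : T)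
    have e3 : (C.subtype ⟨c, hc⟩) (⟨x, hP x.2⟩ : T) = c ⟨x, hP x.2⟩ := rfl
    rw [e3] at e2
    rw [e, map_mul, map_mul, map_inv, e2, map_inv]
    group
  · rintro ⟨g, hg⟩
    refine ⟨hP, MulAut.conj g.left * (g.right : MulAut T),
      Subgroup.mul_mem _ (Subgroup.mem_sup_left ⟨g.left, rfl⟩) (Subgroup.mem_sup_right g.right.2),
      fun x => ?_⟩
    have h1 := hg x
    have e2 := SemidirectProduct.inl_aut (φ := C.subtype) g.right (⟨x, hP x.2⟩ : T)
    have h3 : (SemidirectProduct.inl (⟨φ x, hφ x⟩ : T) : T ⋊[C.subtype] C) =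
        SemidirectProduct.inl (g.left * ((g.right : MulAut T) ⟨x, hP x.2⟩) * g.left⁻¹) := by
      rw [h1, map_mul, map_mul, map_inv]
      have e3 : (C.subtype g.right) (⟨x, hP x.2⟩ : T) = (g.right : MulAut T) ⟨x, hP x.2⟩ := rfl
      rw [← e3, e2]
      conv_lhs => rw [← SemidirectProduct.inl_left_mul_inr_right g]
      rw [map_inv]
      group
    have h4 := SemidirectProduct.inl_injective h3
    exact congrArg Subtype.val h4

theorem autSys_saturated (T : Subgroup Ω) [Finite T] {p : ℕ} [hp : Fact p.Prime]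
    (hT : IsPGroup p T) (C : Subgroup (MulAut T)) (hC : (Nat.card C).Coprime p) :
    (autSys T (Inn T ⊔ C) le_sup_left).IsSaturated p := by
  haveI : Finite (T ⋊[C.subtype] C) := Finite.of_equiv _ SemidirectProduct.equivProd.symm
  have hcard : Nat.card (T ⋊[C.subtype] C) = Nat.card T * Nat.card C := by
    rw [Nat.card_congr SemidirectProduct.equivProd, Nat.card_prod]
  obtain ⟨n, hn⟩ := IsPGroup.iff_card.mp hT
  have hCpos : Nat.card C ≠ 0 := Nat.card_pos.ne'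
  have hndvd : ¬ p ∣ Nat.card C := by
    intro h1
    have := Nat.Coprime.eq_one_of_dvd hC.symm h1
    exact hp.out.one_lt.ne' this
  have hr : Nat.card (SemidirectProduct.inl : T →* T ⋊[C.subtype] C).range =
      p ^ (Nat.card (T ⋊[C.subtype] C)).factorization p := by
    rw [← Nat.card_congr (MonoidHom.ofInjective SemidirectProduct.inl_injective).toEquiv, hcard, hn,
      Nat.factorization_mul (pow_ne_zero n hp.out.ne_zero) hCpos]
    simp [Nat.Prime.factorization_pow hp.out, Nat.factorization_eq_zero_of_not_dvd hndvd]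
  exact realized_isSaturated (autSys_realized T C) (Sylow.ofCard _ hr) (Sylow.coe_ofCard _ hr)

end Cfsg.Agent.h26AutSys
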