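import Mathlib

set_option autoImplicit false
set_option linter.style.haveILetI false
set_option linter.unusedVariables false

/-! Automorphisms preserving a chain of normal subgroups with cyclic steps (helper26). -/

namespace Cfsg.Agent.h26Chain

variable {T : Type*} [Group T]

/-- automorphisms of a cyclic group commute. -/
theorem mulAut_comm {G : Type*} [Group G] [hG : IsCyclic G] (α β : MulAut G) :
    α * β = β * α := by
  obtain ⟨g, hg⟩ := hG.exists_generator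
  obtain ⟨a, ha⟩ := Subgroup.mem_zpowers_iff.mp (hg (α g))
  obtain ⟨b, hb⟩ := Subgroup.mem_zpowers_iff.mp (hg (β g))
  ext x
  obtain ⟨k, rfl⟩ := Subgroup.mem_zpowers_iff.mp (hg x)
  simp only [MulAut.mul_apply, map_zpow]
  rw [← hb, ← ha, map_zpow, map_zpow, ← ha, ← hb]
  simp only [← _root_.zpow_mul]
  congr 1
  ring

/-- automorphisms preserving `M` and `N`. -/
def stab2 (M N : Subgroup T) : Subgroup (MulAut T) where
  carrier := {a | (∀ x, x ∈ M ↔ a x ∈ M) ∧ (∀ x, x ∈ N ↔ a x ∈ N)}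
  one_mem' := ⟨fun _ => Iff.rfl, fun _ => Iff.rfl⟩
  mul_mem' := by
    rintro a b ⟨ha1, ha2⟩ ⟨hb1, hb2⟩
    exact ⟨fun x => (hb1 x).trans (ha1 (b x)), fun x => (hb2 x).trans (ha2 (b x))⟩
  inv_mem' := by
    rintro a ⟨ha1, ha2⟩
    refine ⟨fun x => ?_, fun x => ?_⟩
    · have h := ha1 (a⁻¹ x)
      rw [MulAut.apply_inv_self] at h
      exact h.symm
    · have h := ha2 (a⁻¹ x)
      rw [MulAut.apply_inv_self] at h
      exact h.symm

theorem mem_stab2 {M N : Subgroup T} {a : MulAut T} :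
    a ∈ stab2 M N ↔ (∀ x, x ∈ M ↔ a x ∈ M) ∧ (∀ x, x ∈ N ↔ a x ∈ N) := Iff.rfl

/-- `a` acts trivially on `M/N`. -/
def Triv (M N : Subgroup T) (a : MulAut T) : Prop := ∀ x ∈ M, x⁻¹ * a x ∈ N

theorem Triv.pow {M N : Subgroup T} {a : MulAut T} (ha : ∀ x, x ∈ M → a x ∈ M)
    (h : Triv M N a) (k : ℕ) : Triv M N (a ^ k) := by
  induction k with
  | zero => intro x _; simp
  | succ k ih =>
    intro x hx
    have h1 := h x hx
    have h2 := ih (a x) (ha x hx)
    have e : x⁻¹ * (a ^ (k + 1)) x = (x⁻¹ * a x) * ((a x)⁻¹ * (a ^ k) (a x)) := by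
      rw [pow_succ, MulAut.mul_apply]; group
    rw [e]; exact N.mul_mem h1 h2

/-- cyclic step. -/
def CycStep (M N : Subgroup T) : Prop := ∃ y ∈ M, ∀ x ∈ M, ∃ k : ℤ, (y ^ k)⁻¹ * x ∈ N

section pair

variable (M N : Subgroup T) [hN : N.Normal]

def resM (a : stab2 M N) : ↥M ≃* ↥M where
  toFun x := ⟨(a : MulAut T) x, (a.2.1 x).mp x.2⟩
  invFun x := ⟨(a : MulAut T)⁻¹ x, (((stab2 M N).inv_mem a.2).1 x).mp x.2⟩
  left_inv x := Subtype.ext (MulAut.inv_apply_self T _ _)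
  right_inv x := Subtype.ext (MulAut.apply_inv_self T _ _)
  map_mul' x y := Subtype.ext (map_mul (a : MulAut T) _ _)

theorem resM_apply (a : stab2 M N) (x : ↥M) :
    ((resM M N a x : ↥M) : T) = (a : MulAut T) x := rfl

theorem map_resM (a : stab2 M N) :
    (N.subgroupOf M).map ((resM M N a : ↥M ≃* ↥M) : ↥M →* ↥M) = N.subgroupOf M := by
  ext x
  constructor
  · rintro ⟨y, hy, rfl⟩
    exact Subgroup.mem_subgroupOf.mpr ((a.2.2 y).mp (Subgroup.mem_subgroupOf.mp hy))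
  · intro hx
    refine ⟨(resM M N a).symm x, ?_, (resM M N a).apply_symm_apply x⟩
    show (resM M N a).symm x ∈ N.subgroupOf M
    apply Subgroup.mem_subgroupOf.mpr
    have h := ((stab2 M N).inv_mem a.2).2 (x : T)
    exact h.mp (Subgroup.mem_subgroupOf.mp hx)

def rhoE (a : stab2 M N) : (↥M ⧸ N.subgroupOf M) ≃* (↥M ⧸ N.subgroupOf M) :=
  QuotientGroup.congr (N.subgroupOf M) (N.subgroupOf M) (resM M N a) (map_resM M N a)

theorem rhoE_mk (a : stab2 M N) (x : ↥M) :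
    rhoE M N a (QuotientGroup.mk x) = QuotientGroup.mk (resM M N a x) := rfl

def rho : stab2 M N →* MulAut (↥M ⧸ N.subgroupOf M) where
  toFun a := rhoE M N a
  map_one' := by
    ext q
    induction q using QuotientGroup.induction_on with
    | H x => rfl
  map_mul' a b := by
    ext q
    induction q using QuotientGroup.induction_on with
    | H x => rfl

theorem rho_mk (a : stab2 M N) (x : ↥M) :
    rho M N a (QuotientGroup.mk x) = QuotientGroup.mk (resM M N a x) := rfl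

theorem rho_eq_one_iff (a : stab2 M N) : rho M N a = 1 ↔ Triv M N (a : MulAut T) := by
  constructor
  · intro h x hx
    have h1 : rho M N a (QuotientGroup.mk ⟨x, hx⟩) = QuotientGroup.mk ⟨x, hx⟩ := by
      rw [h]; rfl
    rw [rho_mk] at h1
    have h3 := QuotientGroup.eq.mp h1.symm
    have h4 := Subgroup.mem_subgroupOf.mp h3
    rw [Subgroup.coe_mul, Subgroup.coe_inv] at h4
    exact h4
  · intro h
    ext q
    induction q using QuotientGroup.induction_on with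
    | H x =>
      rw [rho_mk]
      show (QuotientGroup.mk (resM M N a x) : ↥M ⧸ N.subgroupOf M) = QuotientGroup.mk x
      symm
      rw [QuotientGroup.eq]
      apply Subgroup.mem_subgroupOf.mpr
      have := h x x.2
      rw [Subgroup.coe_mul, Subgroup.coe_inv]
      exact this

theorem isCyclic_quo (h : CycStep M N) : IsCyclic (↥M ⧸ N.subgroupOf M) := by
  obtain ⟨y, hy, hgen⟩ := h
  rw [isCyclic_iff_exists_zpowers_eq_top]
  refine ⟨QuotientGroup.mk ⟨y, hy⟩, (Subgroup.eq_top_iff' _).mpr fun q => ?_⟩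
  induction q using QuotientGroup.induction_on with
  | H x =>
    obtain ⟨k, hk⟩ := hgen x x.2
    rw [Subgroup.mem_zpowers_iff]
    refine ⟨k, ?_⟩
    rw [← QuotientGroup.mk_zpow, QuotientGroup.eq]
    apply Subgroup.mem_subgroupOf.mpr
    simpa using hk

theorem triv_comm (h : CycStep M N) (a b : stab2 M N) :
    Triv M N ((a : MulAut T) * b * (a : MulAut T)⁻¹ * (b : MulAut T)⁻¹) := by
  haveI := isCyclic_quo M N h
  have h1 : rho M N (a * b * a⁻¹ * b⁻¹) = 1 := by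
    rw [map_mul, map_mul, map_mul, map_inv, map_inv]
    rw [mulAut_comm (rho M N a) (rho M N b)]
    group
  exact (rho_eq_one_iff M N _).mp h1

theorem rho_conj (h : CycStep M N) (a b : stab2 M N) :
    rho M N (a * b * a⁻¹) = rho M N b := by
  haveI := isCyclic_quo M N h
  rw [map_mul, map_mul, map_inv, mulAut_comm (rho M N a) (rho M N b)]
  group

theorem rho_pow_sub_one (p : ℕ) [hp : Fact p.Prime] [Finite T] (hT : IsPGroup p T)
    (h : CycStep M N) (a : stab2 M N) (o : ℕ) (ho : o.Coprime p)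
    (hao : (a : MulAut T) ^ o = 1) : (rho M N a) ^ (p - 1) = 1 := by
  haveI := isCyclic_quo M N h
  have hQ : IsPGroup p (↥M ⧸ N.subgroupOf M) := (hT.to_subgroup M).to_quotient _
  obtain ⟨e, he⟩ := IsPGroup.iff_card.mp hQ
  have hcard : Nat.card (MulAut (↥M ⧸ N.subgroupOf M)) = Nat.totient (p ^ e) := by
    rw [IsCyclic.card_mulAut, he]
  have hφo : (rho M N a) ^ o = 1 := by
    rw [← map_pow]
    have : a ^ o = 1 := Subtype.ext hao
    rw [this, map_one]
  rcases Nat.eq_zero_or_pos e with he0 | he0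
  · subst he0
    rw [pow_zero, Nat.totient_one] at hcard
    haveI : Subsingleton (MulAut (↥M ⧸ N.subgroupOf M)) :=
      (Nat.card_eq_one_iff_unique.mp hcard).1
    exact Subsingleton.elim _ _
  · obtain ⟨e', rfl⟩ : ∃ e', e = e' + 1 := ⟨e - 1, by omega⟩
    rw [Nat.totient_prime_pow_succ hp.out] at hcard
    have h1 : ((rho M N a) ^ (p - 1)) ^ (p ^ e') = 1 := by
      rw [← pow_mul, mul_comm, ← hcard]; exact pow_card_eq_one'
    have h2 : ((rho M N a) ^ (p - 1)) ^ o = 1 := by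
      rw [← pow_mul, mul_comm, pow_mul, hφo, one_pow]
    have d1 := orderOf_dvd_of_pow_eq_one h1
    have d2 := orderOf_dvd_of_pow_eq_one h2
    have hc : Nat.gcd (p ^ e') o = 1 := Nat.Coprime.pow_left e' ho.symm
    have d3 : orderOf ((rho M N a) ^ (p - 1)) ∣ 1 := by
      have := Nat.dvd_gcd d1 d2
      rwa [hc] at this
    exact orderOf_eq_one_iff.mp (Nat.dvd_one.mp d3)

theorem triv_pow_sub_one (p : ℕ) [hp : Fact p.Prime] [Finite T] (hT : IsPGroup p T)
    (h : CycStep M N) (a : stab2 M N) (o : ℕ) (ho : o.Coprime p)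
    (hao : (a : MulAut T) ^ o = 1) : Triv M N ((a : MulAut T) ^ (p - 1)) := by
  have h3 : rho M N (a ^ (p - 1)) = 1 := by
    rw [map_pow]; exact rho_pow_sub_one M N p hT h a o ho hao
  exact (rho_eq_one_iff M N _).mp h3

end pair

section chain

variable {m : ℕ} (d : Fin (m + 1) → Subgroup T)

/-- automorphisms preserving every member of the chain. -/
def Stab : Subgroup (MulAut T) where
  carrier := {a | ∀ i, ∀ x, x ∈ d i ↔ a x ∈ d i}
  one_mem' := fun _ _ => Iff.rfl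
  mul_mem' := by
    intro a b ha hb i x
    exact (hb i x).trans (ha i (b x))
  inv_mem' := by
    intro a ha i x
    have h := ha i (a⁻¹ x)
    rw [MulAut.apply_inv_self] at h
    exact h.symm

theorem mem_Stab {a : MulAut T} : a ∈ Stab d ↔ ∀ i, ∀ x, x ∈ d i ↔ a x ∈ d i := Iff.rfl

theorem mem_Stab_of_forall [Finite T] {A : Subgroup (MulAut T)}
    (h : ∀ a ∈ A, ∀ i, ∀ x ∈ d i, a x ∈ d i) : A ≤ Stab d := by
  intro a ha i x
  refine ⟨h a ha i x, fun hx => ?_⟩
  have := h a⁻¹ (A.inv_mem ha) i _ hx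
  rwa [MulAut.inv_apply_self] at this

theorem Stab_le (i : Fin m) : Stab d ≤ stab2 (d i.succ) (d i.castSucc) :=
  fun a ha => ⟨ha i.succ, ha i.castSucc⟩

theorem fix_of_triv [Finite T] (h0 : d 0 = ⊥) (a : MulAut T) (ha : a ∈ Stab d)
    (htriv : ∀ i : Fin m, Triv (d i.succ) (d i.castSucc) a) :
    ∀ i : Fin (m + 1), ∀ x ∈ d i, (a ^ (Nat.card T ^ (i : ℕ))) x = x := by
  intro i
  induction i using Fin.induction with
  | zero =>
    intro x hx
    rw [h0, Subgroup.mem_bot] at hx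
    rw [hx, map_one]
  | succ i ih =>
    intro x hx
    have hbt : Triv (d i.succ) (d i.castSucc) (a ^ (Nat.card T ^ (i : ℕ))) :=
      Triv.pow (fun y hy => (ha i.succ y).mp hy) (htriv i) _
    have he : x⁻¹ * (a ^ (Nat.card T ^ (i : ℕ))) x ∈ d i.castSucc := hbt x hx
    have hfix : (a ^ (Nat.card T ^ (i : ℕ))) (x⁻¹ * (a ^ (Nat.card T ^ (i : ℕ))) x) =
        x⁻¹ * (a ^ (Nat.card T ^ (i : ℕ))) x := by
      have := ih _ he
      simpa using this
    have hpow : ∀ k : ℕ, ((a ^ (Nat.card T ^ (i : ℕ))) ^ k) x =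
        x * (x⁻¹ * (a ^ (Nat.card T ^ (i : ℕ))) x) ^ k := by
      intro k
      induction k with
      | zero => simp
      | succ k ihk =>
        rw [pow_succ', MulAut.mul_apply, ihk, map_mul, map_pow, hfix, pow_succ', mul_assoc x⁻¹,
          mul_inv_cancel_left]
    have h1 := hpow (Nat.card T)
    rw [pow_card_eq_one', mul_one] at h1
    rw [Fin.val_succ, pow_succ, pow_mul]
    exact h1

theorem pow_eq_one_of_triv [Finite T] (h0 : d 0 = ⊥) (hlast : d (Fin.last m) = ⊤)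
    (a : MulAut T) (ha : a ∈ Stab d)
    (htriv : ∀ i : Fin m, Triv (d i.succ) (d i.castSucc) a) :
    a ^ (Nat.card T ^ m) = 1 := by
  ext x
  have := fix_of_triv d h0 a ha htriv (Fin.last m) x (by rw [hlast]; trivial)
  simpa using this

theorem eq_one_of_triv (p : ℕ) [hp : Fact p.Prime] [Finite T] (hT : IsPGroup p T)
    (h0 : d 0 = ⊥) (hlast : d (Fin.last m) = ⊤)
    (a : MulAut T) (ha : a ∈ Stab d)
    (htriv : ∀ i : Fin m, Triv (d i.succ) (d i.castSucc) a)
    (o : ℕ) (ho : o.Coprime p) (hao : a ^ o = 1) : a = 1 := by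
  have h1 := pow_eq_one_of_triv d h0 hlast a ha htriv
  obtain ⟨k, hk⟩ := IsPGroup.iff_card.mp hT
  rw [hk, ← pow_mul] at h1
  have d1 := orderOf_dvd_of_pow_eq_one h1
  have d2 := orderOf_dvd_of_pow_eq_one hao
  have hc : Nat.gcd (p ^ (k * m)) o = 1 := Nat.Coprime.pow_left _ ho.symm
  have d3 : orderOf a ∣ 1 := by
    have := Nat.dvd_gcd d1 d2
    rwa [hc] at this
  exact orderOf_eq_one_iff.mp (Nat.dvd_one.mp d3)

variable [hn : ∀ i, (d i).Normal]

/-- a `p'`-group of automorphisms preserving the chain is abelian of exponent dividing `p - 1`. -/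
theorem comm_and_exp (p : ℕ) [hp : Fact p.Prime] [Finite T] (hT : IsPGroup p T)
    (h0 : d 0 = ⊥) (hlast : d (Fin.last m) = ⊤)
    (hcyc : ∀ i : Fin m, CycStep (d i.succ) (d i.castSucc))
    (H : Subgroup (MulAut T)) (hH : H ≤ Stab d) (hcop : (Nat.card H).Coprime p) :
    (∀ a ∈ H, ∀ b ∈ H, a * b = b * a) ∧ ∀ a ∈ H, a ^ (p - 1) = 1 := by
  have hpow : ∀ c ∈ H, c ^ (Nat.card H) = 1 := by
    intro c hc
    have : (⟨c, hc⟩ : H) ^ (Nat.card H) = 1 := pow_card_eq_one'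
    exact congrArg Subtype.val this
  constructor
  · intro a ha b hb
    have hc : a * b * a⁻¹ * b⁻¹ ∈ H := H.mul_mem (H.mul_mem (H.mul_mem ha hb) (H.inv_mem ha)) (H.inv_mem hb)
    have h1 : a * b * a⁻¹ * b⁻¹ = 1 := by
      apply eq_one_of_triv d p hT h0 hlast _ (hH hc) _ (Nat.card H) hcop (hpow _ hc)
      intro i
      exact triv_comm (d i.succ) (d i.castSucc) (hcyc i) ⟨a, Stab_le d i (hH ha)⟩
        ⟨b, Stab_le d i (hH hb)⟩
    calc a * b = (a * b * a⁻¹ * b⁻¹) * (b * a) := by group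
      _ = b * a := by rw [h1, one_mul]
  · intro a ha
    have hc : a ^ (p - 1) ∈ H := H.pow_mem ha _
    apply eq_one_of_triv d p hT h0 hlast _ (hH hc) _ (Nat.card H) hcop (hpow _ hc)
    intro i
    exact triv_pow_sub_one (d i.succ) (d i.castSucc) p hT (hcyc i) ⟨a, Stab_le d i (hH ha)⟩
      (Nat.card H) hcop (hpow a ha)

/-- the `p`-part of the stabilizer of the chain modulo the stability group. -/
def Kp (p : ℕ) (hcyc : ∀ i : Fin m, CycStep (d i.succ) (d i.castSucc)) :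
    Subgroup (MulAut T) where
  carrier := {a | ∃ ha : a ∈ Stab d, ∃ j : ℕ, ∀ i : Fin m,
    (rho (d i.succ) (d i.castSucc) ⟨a, Stab_le d i ha⟩) ^ (p ^ j) = 1}
  one_mem' := by
    refine ⟨(Stab d).one_mem, 0, fun i => ?_⟩
    rw [pow_zero, pow_one]
    exact map_one (rho (d i.succ) (d i.castSucc))
  mul_mem' := by
    rintro a b ⟨ha, j1, h1⟩ ⟨hb, j2, h2⟩
    refine ⟨(Stab d).mul_mem ha hb, j1 + j2, fun i => ?_⟩
    haveI := isCyclic_quo (d i.succ) (d i.castSucc) (hcyc i)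
    have e : (⟨a * b, Stab_le d i ((Stab d).mul_mem ha hb)⟩ : stab2 (d i.succ) (d i.castSucc)) =
        ⟨a, Stab_le d i ha⟩ * ⟨b, Stab_le d i hb⟩ := rfl
    rw [e, map_mul]
    have hcm : Commute (rho (d i.succ) (d i.castSucc) ⟨a, Stab_le d i ha⟩)
        (rho (d i.succ) (d i.castSucc) ⟨b, Stab_le d i hb⟩) := mulAut_comm _ _
    rw [hcm.mul_pow, pow_add, pow_mul, h1 i, one_pow, mul_comm (p ^ j1), pow_mul, h2 i, one_pow,
      one_mul]
  inv_mem' := by
    rintro a ⟨ha, j, h⟩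
    refine ⟨(Stab d).inv_mem ha, j, fun i => ?_⟩
    have e : (⟨a⁻¹, Stab_le d i ((Stab d).inv_mem ha)⟩ : stab2 (d i.succ) (d i.castSucc)) =
        (⟨a, Stab_le d i ha⟩ : stab2 (d i.succ) (d i.castSucc))⁻¹ := rfl
    rw [e, map_inv, inv_pow, h i, inv_one]

theorem Kp_le_Stab (p : ℕ) (hcyc : ∀ i : Fin m, CycStep (d i.succ) (d i.castSucc)) :
    Kp d p hcyc ≤ Stab d := fun a ha => ha.1

theorem Kp_conj (p : ℕ) (hcyc : ∀ i : Fin m, CycStep (d i.succ) (d i.castSucc))
    {a k : MulAut T} (ha : a ∈ Stab d) (hk : k ∈ Kp d p hcyc) : a * k * a⁻¹ ∈ Kp d p hcyc := by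
  obtain ⟨hk1, j, h⟩ := hk
  refine ⟨(Stab d).mul_mem ((Stab d).mul_mem ha hk1) ((Stab d).inv_mem ha), j, fun i => ?_⟩
  have e : (⟨a * k * a⁻¹, Stab_le d i ((Stab d).mul_mem ((Stab d).mul_mem ha hk1)
      ((Stab d).inv_mem ha))⟩ : stab2 (d i.succ) (d i.castSucc)) =
      ⟨a, Stab_le d i ha⟩ * ⟨k, Stab_le d i hk1⟩ * (⟨a, Stab_le d i ha⟩)⁻¹ := rfl
  rw [e, rho_conj _ _ (hcyc i), h i]

theorem Kp_pow (p : ℕ) [hp : Fact p.Prime] [Finite T] (hT : IsPGroup p T)
    (h0 : d 0 = ⊥) (hlast : d (Fin.last m) = ⊤)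
    (hcyc : ∀ i : Fin m, CycStep (d i.succ) (d i.castSucc))
    {k : MulAut T} (hk : k ∈ Kp d p hcyc) : ∃ j : ℕ, k ^ (p ^ j) = 1 := by
  obtain ⟨hk1, j, h⟩ := hk
  obtain ⟨e, he⟩ := IsPGroup.iff_card.mp hT
  have hk2 : k ^ (p ^ j) ∈ Stab d := (Stab d).pow_mem hk1 _
  have h1 := pow_eq_one_of_triv d h0 hlast (k ^ (p ^ j)) hk2 (by
    intro i
    have h2 : rho (d i.succ) (d i.castSucc) (⟨k, Stab_le d i hk1⟩ ^ (p ^ j)) = 1 := by
      rw [map_pow]; exact h i
    exact (rho_eq_one_iff _ _ _).mp h2)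
  refine ⟨j + e * m, ?_⟩
  rw [pow_add, pow_mul, pow_mul p e m, ← he]
  exact h1

theorem mem_Kp_of_pow (p : ℕ) (hcyc : ∀ i : Fin m, CycStep (d i.succ) (d i.castSucc))
    {a : MulAut T} (ha : a ∈ Stab d) {j : ℕ} (haj : a ^ (p ^ j) = 1) : a ∈ Kp d p hcyc := by
  refine ⟨ha, j, fun i => ?_⟩
  rw [← map_pow]
  have : (⟨a, Stab_le d i ha⟩ : stab2 (d i.succ) (d i.castSucc)) ^ (p ^ j) = 1 := Subtype.ext haj
  rw [this, map_one]

end chain

end Cfsg.Agent.h26Chain
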