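import Mathlib

set_option autoImplicit false
set_option linter.style.haveILetI false
set_option linter.unusedVariables false

/-! Common eigenvectors for commuting automorphisms of exponent `p - 1`, and invariant chains with
cyclic steps in `p`-groups (helper26). -/

namespace Cfsg.Agent.h26Chain

open Polynomial

theorem prod_X_sub_C_zmod (p : ℕ) [hp : Fact p.Prime] :
    (∏ a : ZMod p, (X - C a) : (ZMod p)[X]) = X ^ p - X := by
  have hr := FiniteField.roots_X_pow_card_sub_X (ZMod p)
  rw [ZMod.card p] at hr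
  have hm : (X ^ p - X : (ZMod p)[X]).Monic := by
    apply Polynomial.monic_X_pow_sub
    rw [degree_X]
    exact_mod_cast hp.out.one_lt
  have hc : Multiset.card (X ^ p - X : (ZMod p)[X]).roots =
      (X ^ p - X : (ZMod p)[X]).natDegree := by
    rw [hr, FiniteField.X_pow_card_sub_X_natDegree_eq _ hp.out.one_lt]
    simp [ZMod.card]
  have h := Polynomial.prod_multiset_X_sub_C_of_monic_of_roots_card_eq hm hc
  rw [hr] at h
  rw [← h]
  rfl

theorem exists_eigen {p : ℕ} [hp : Fact p.Prime] {V : Type*} [AddCommGroup V]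
    [Module (ZMod p) V] [Nontrivial V] (f : Module.End (ZMod p) V) (hf : f ^ p = f) :
    ∃ a : ZMod p, ∃ v : V, v ≠ 0 ∧ f v = a • v := by
  by_contra hcon
  push Not at hcon
  have hinj : ∀ a : ZMod p, Function.Injective (aeval f (X - C a : (ZMod p)[X])) := by
    intro a
    rw [injective_iff_map_eq_zero]
    intro v hv
    by_contra hv0
    apply hcon a v hv0
    have h1 : f v - a • v = 0 := by
      simpa [Algebra.algebraMap_eq_smul_one] using hv
    exact sub_eq_zero.mp h1
  have hpi : ∀ s : Finset (ZMod p),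
      Function.Injective (aeval f (∏ a ∈ s, (X - C a) : (ZMod p)[X])) := by
    intro s
    induction s using Finset.induction_on with
    | empty =>
      simp only [Finset.prod_empty, map_one]
      exact Function.injective_id
    | insert a s ha ih =>
      rw [Finset.prod_insert ha, map_mul]
      intro x y hxy
      rw [Module.End.mul_apply, Module.End.mul_apply] at hxy
      exact ih (hinj a hxy)
  have h0 : aeval f (∏ a : ZMod p, (X - C a) : (ZMod p)[X]) = 0 := by
    rw [prod_X_sub_C_zmod, map_sub, map_pow, aeval_X, hf, sub_self]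
  have h1 := hpi Finset.univ
  rw [h0] at h1
  obtain ⟨v, hv⟩ := exists_ne (0 : V)
  exact hv (h1 (by simp))

theorem exists_eigen_mod (p : ℕ) [hp : Fact p.Prime] {W : Type*} [CommGroup W]
    [Module (ZMod p) (Additive W)] [Nontrivial W] (f : W →* W)
    (hf : ∀ w, f^[p - 1] w = w) : ∃ a : ℕ, ∃ w : W, w ≠ 1 ∧ f w = w ^ a := by
  have hfp : ∀ w, f^[p] w = f w := by
    intro w
    have h1 : f^[(p - 1) + 1] w = f w := by
      rw [Function.iterate_succ_apply', hf]
    rwa [Nat.sub_add_cancel hp.out.one_le] at h1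
  let fl : Additive W →ₗ[ZMod p] Additive W := (MonoidHom.toAdditive f).toZModLinearMap p
  have hfl : ∀ v : Additive W, fl v = Additive.ofMul (f v.toMul) := fun v => rfl
  have hit : ∀ n : ℕ, ∀ v : Additive W, (fl^[n]) v = Additive.ofMul (f^[n] v.toMul) := by
    intro n
    induction n with
    | zero => intro v; rfl
    | succ n ih =>
      intro v
      rw [Function.iterate_succ_apply', Function.iterate_succ_apply', ih]
      rfl
  have hflp : fl ^ p = fl := by
    apply LinearMap.ext
    intro v
    rw [Module.End.pow_apply, hit, hfp]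
    rfl
  obtain ⟨a, v, hv, hav⟩ := exists_eigen fl hflp
  refine ⟨a.val, v.toMul, ?_, ?_⟩
  · intro h
    apply hv
    exact congrArg Additive.ofMul h
  · have h1 : a • v = (a.val) • v := by
      conv_lhs => rw [← ZMod.natCast_zmod_val a]
      exact Nat.cast_smul_eq_nsmul (ZMod p) a.val v
    have h2 : fl v = a.val • v := hav.trans h1
    have h3 := congrArg Additive.toMul h2
    simpa [hfl] using h3

theorem exists_eigen_group {p : ℕ} [hp : Fact p.Prime] {W : Type*} [Group W] [Nontrivial W]
    (hcomm : ∀ a b : W, a * b = b * a) (hexp : ∀ w : W, w ^ p = 1) (f : W →* W)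
    (hf : ∀ w, f^[p - 1] w = w) : ∃ a : ℕ, ∃ w : W, w ≠ 1 ∧ f w = w ^ a := by
  letI iC : CommGroup W := { (inferInstance : Group W) with mul_comm := hcomm }
  letI iM : Module (ZMod p) (Additive W) := AddCommGroup.zmodModule (n := p) (by
    intro x
    show Additive.ofMul ((Additive.toMul x) ^ p) = Additive.ofMul 1
    rw [hexp])
  exact exists_eigen_mod p f hf

theorem exists_common_eigen {G : Type*} [Group G] {p : ℕ} [hp : Fact p.Prime] (V : Subgroup G)
    [Finite V] (hV : V ≠ ⊥) (hcomm : ∀ x ∈ V, ∀ y ∈ V, x * y = y * x)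
    (hexp : ∀ x ∈ V, x ^ p = 1)
    (𝒮 : Set (G →* G)) (hinv : ∀ f ∈ 𝒮, ∀ x ∈ V, f x ∈ V)
    (hcm : ∀ f ∈ 𝒮, ∀ g ∈ 𝒮, ∀ x ∈ V, f (g x) = g (f x))
    (hpw : ∀ f ∈ 𝒮, ∀ x ∈ V, f^[p - 1] x = x) :
    ∃ w ∈ V, w ≠ 1 ∧ ∀ f ∈ 𝒮, f w ∈ Subgroup.zpowers w := by
  classical
  let P : Subgroup G → Prop := fun U => U ≤ V ∧ U ≠ ⊥ ∧ ∀ f ∈ 𝒮, ∀ x ∈ U, f x ∈ U
  have hPV : P V := ⟨le_rfl, hV, hinv⟩
  have hex : ∃ n : ℕ, ∃ U, P U ∧ Nat.card U = n := ⟨_, V, hPV, rfl⟩
  obtain ⟨U, hU, hUn⟩ := Nat.find_spec hex
  haveI : Finite U := Finite.of_injective (Subgroup.inclusion hU.1)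
    (Subgroup.inclusion_injective _)
  have hmin : ∀ U', P U' → U' ≤ U → U' = U := by
    intro U' hU' hle
    have h1 : Nat.card U ≤ Nat.card U' := by
      rw [hUn]; exact Nat.find_min' hex ⟨U', hU', rfl⟩
    exact Subgroup.eq_of_le_of_card_ge hle h1
  obtain ⟨hUV, hUne, hUinv⟩ := hU
  have hscal : ∀ f ∈ 𝒮, ∃ a : ℕ, ∀ u ∈ U, f u = u ^ a := by
    intro f hf
    haveI : Nontrivial U := (Subgroup.nontrivial_iff_ne_bot U).mpr hUne
    let fU : ↥U →* ↥U := (f.comp U.subtype).codRestrict U (fun x => hUinv f hf x x.2)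
    have hfU : ∀ (n : ℕ) (u : ↥U), ((fU^[n] u : ↥U) : G) = f^[n] u := by
      intro n
      induction n with
      | zero => intro u; rfl
      | succ n ih =>
        intro u
        rw [Function.iterate_succ_apply', Function.iterate_succ_apply', ← ih]
        rfl
    obtain ⟨a, w, hw1, hwa⟩ := exists_eigen_group (p := p) (W := ↥U)
      (fun x y => Subtype.ext (hcomm x (hUV x.2) y (hUV y.2)))
      (fun x => Subtype.ext (hexp x (hUV x.2))) fU
      (fun u => Subtype.ext (by rw [hfU]; exact hpw f hf u (hUV u.2)))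
    refine ⟨a, ?_⟩
    let Ua : Subgroup G :=
      { carrier := {u | u ∈ U ∧ f u = u ^ a}
        one_mem' := ⟨U.one_mem, by simp⟩
        mul_mem' := by
          rintro x y ⟨hx, hx2⟩ ⟨hy, hy2⟩
          refine ⟨U.mul_mem hx hy, ?_⟩
          rw [map_mul, hx2, hy2, (show Commute x y from hcomm x (hUV hx) y (hUV hy)).mul_pow]
        inv_mem' := by
          rintro x ⟨hx, hx2⟩
          exact ⟨U.inv_mem hx, by rw [map_inv, hx2, inv_pow]⟩ }
    have hUa : P Ua := by
      refine ⟨fun x hx => hUV hx.1, ?_, ?_⟩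
      · intro hbot
        have hw : (w : G) ∈ Ua := ⟨w.2, by
          have := congrArg Subtype.val hwa
          exact this⟩
        rw [hbot, Subgroup.mem_bot] at hw
        exact hw1 (Subtype.ext hw)
      · intro g hg x hx
        refine ⟨hUinv g hg x hx.1, ?_⟩
        rw [hcm f hf g hg x (hUV hx.1), hx.2, map_pow]
    have hUaU := hmin Ua hUa (fun x hx => hx.1)
    intro u hu
    have hu' : u ∈ Ua := by rw [hUaU]; exact hu
    exact hu'.2
  obtain ⟨⟨u, hu⟩, hu1⟩ := (Subgroup.ne_bot_iff_exists_ne_one).mp hUne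
  refine ⟨u, hUV hu, fun h => hu1 (Subtype.ext h), fun f hf => ?_⟩
  obtain ⟨a, ha⟩ := hscal f hf
  rw [ha u hu]
  exact Subgroup.npow_mem_zpowers u a

universe u

/-- invariant chains with cyclic steps for a commuting family of endomorphisms with
`f ^ (p - 1) = id` on a finite `p`-group. -/
theorem exists_chain (p : ℕ) [hp : Fact p.Prime] :
    ∀ (n : ℕ) (G : Type u) [Group G] [Finite G], Nat.card G = n → IsPGroup p G →
    ∀ 𝒮 : Set (G →* G), (∀ f ∈ 𝒮, ∀ g ∈ 𝒮, ∀ x, f (g x) = g (f x)) →
      (∀ f ∈ 𝒮, ∀ x, f^[p - 1] x = x) →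
      ∃ (m : ℕ) (d : Fin (m + 1) → Subgroup G), d 0 = ⊥ ∧ d (Fin.last m) = ⊤ ∧
        (∀ i, (d i).Normal ∧ ∀ f ∈ 𝒮, ∀ x ∈ d i, f x ∈ d i) ∧
        ∀ i : Fin m, d i.castSucc ≤ d i.succ ∧
          ∃ y, d i.succ = d i.castSucc ⊔ Subgroup.zpowers y := by
  intro n
  induction n using Nat.strong_induction_on with
  | _ n ih =>
    intro G _ _ hn hG 𝒮 hcm hpw
    by_cases htriv : Subsingleton G
    · refine ⟨0, fun _ => ⊥, rfl, ?_, ?_, ?_⟩
      · exact (Subgroup.eq_bot_of_subsingleton ⊤).symm
      · intro i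
        refine ⟨inferInstance, fun f _ x hx => ?_⟩
        rw [Subgroup.mem_bot] at hx ⊢
        rw [hx, map_one]
      · intro i; exact i.elim0
    · rw [not_subsingleton_iff_nontrivial] at htriv
      haveI := htriv
      have hp2 : 2 ≤ p := hp.out.two_le
      have hsurj : ∀ f ∈ 𝒮, Function.Surjective f := by
        intro f hf x
        refine ⟨f^[p - 2] x, ?_⟩
        have h1 : f^[(p - 2) + 1] x = x := by
          have : p - 2 + 1 = p - 1 := by omega
          rw [this]; exact hpw f hf x
        rwa [Function.iterate_succ_apply'] at h1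
      let V : Subgroup G :=
        { carrier := {x | x ∈ Subgroup.center G ∧ x ^ p = 1}
          one_mem' := ⟨Subgroup.one_mem _, one_pow _⟩
          mul_mem' := by
            rintro x y ⟨hx, hx2⟩ ⟨hy, hy2⟩
            refine ⟨Subgroup.mul_mem _ hx hy, ?_⟩
            have hc : Commute x y := Subgroup.mem_center_iff.mp hy x
            rw [hc.mul_pow, hx2, hy2, one_mul]
          inv_mem' := by
            rintro x ⟨hx, hx2⟩
            exact ⟨Subgroup.inv_mem _ hx, by rw [inv_pow, hx2, inv_one]⟩ }
      have hVne : V ≠ ⊥ := by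
        haveI := hG.center_nontrivial
        have hdvd : p ∣ Nat.card (Subgroup.center G) := by
          rcases (hG.to_subgroup (Subgroup.center G)).card_eq_or_dvd with h | h
          · exfalso
            have := (Subgroup.center G).one_lt_card_iff_ne_bot.mpr
              ((Subgroup.nontrivial_iff_ne_bot _).mp inferInstance)
            omega
          · exact h
        obtain ⟨x, hx⟩ := exists_prime_orderOf_dvd_card' p hdvd
        intro hbot
        have hxV : (x : G) ∈ V := ⟨x.2, by
          have := pow_orderOf_eq_one x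
          rw [hx] at this
          exact congrArg Subtype.val this⟩
        rw [hbot, Subgroup.mem_bot] at hxV
        have : x = 1 := Subtype.ext hxV
        rw [this, orderOf_one] at hx
        exact hp.out.one_lt.ne hx
      have hinv : ∀ f ∈ 𝒮, ∀ x ∈ V, f x ∈ V := by
        rintro f hf x ⟨hx, hx2⟩
        refine ⟨?_, by rw [← map_pow, hx2, map_one]⟩
        rw [Subgroup.mem_center_iff]
        intro g
        obtain ⟨g', rfl⟩ := hsurj f hf g
        rw [← map_mul, ← map_mul, Subgroup.mem_center_iff.mp hx g']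
      obtain ⟨w, hwV, hw1, hwf⟩ := exists_common_eigen (p := p) V hVne
        (fun x hx y hy => Subgroup.mem_center_iff.mp hy.1 x) (fun x hx => hx.2) 𝒮 hinv
        (fun f hf g hg x _ => hcm f hf g hg x) (fun f hf x _ => hpw f hf x)
      have hWn : (Subgroup.zpowers w).Normal := by
        refine ⟨fun z hz g => ?_⟩
        obtain ⟨k, rfl⟩ := Subgroup.mem_zpowers_iff.mp hz
        have hc : w ^ k ∈ Subgroup.center G := Subgroup.zpow_mem _ hwV.1 k
        have : g * w ^ k * g⁻¹ = w ^ k := by
          rw [Subgroup.mem_center_iff.mp hc g, mul_inv_cancel_right]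
        rw [this]; exact Subgroup.zpow_mem_zpowers w k
      haveI := hWn
      have hlt : Nat.card (G ⧸ Subgroup.zpowers w) < n := by
        have h1 := Subgroup.card_eq_card_quotient_mul_card_subgroup (Subgroup.zpowers w)
        have h2 : 1 < Nat.card (Subgroup.zpowers w) := by
          rw [Subgroup.one_lt_card_iff_ne_bot]
          intro hb
          have := Subgroup.mem_zpowers w
          rw [hb, Subgroup.mem_bot] at this
          exact hw1 this
        have h3 : 0 < Nat.card (G ⧸ Subgroup.zpowers w) := Nat.card_pos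
        rw [hn] at h1
        nlinarith
      have hfW : ∀ f ∈ 𝒮, Subgroup.zpowers w ≤ (Subgroup.zpowers w).comap f := by
        intro f hf z hz
        obtain ⟨k, rfl⟩ := Subgroup.mem_zpowers_iff.mp hz
        rw [Subgroup.mem_comap, map_zpow]
        exact Subgroup.zpow_mem _ (hwf f hf) k
      let 𝒮' : Set ((G ⧸ Subgroup.zpowers w) →* (G ⧸ Subgroup.zpowers w)) :=
        {g | ∃ f ∈ 𝒮, ∀ x : G, g (QuotientGroup.mk x) = QuotientGroup.mk (f x)}
      have hcm' : ∀ f ∈ 𝒮', ∀ g ∈ 𝒮', ∀ x, f (g x) = g (f x) := by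
        rintro g₁ ⟨f₁, hf₁, h₁⟩ g₂ ⟨f₂, hf₂, h₂⟩ q
        induction q using QuotientGroup.induction_on with
        | H x => rw [h₂, h₁, h₁, h₂, hcm f₁ hf₁ f₂ hf₂ x]
      have hpw' : ∀ f ∈ 𝒮', ∀ x, f^[p - 1] x = x := by
        rintro g ⟨f, hf, h⟩ q
        have hit : ∀ (k : ℕ) (x : G), g^[k] (QuotientGroup.mk x) =
            (QuotientGroup.mk (f^[k] x) : G ⧸ Subgroup.zpowers w) := by
          intro k
          induction k with
          | zero => intro x; rfl
          | succ k ihk =>
            intro x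
            rw [Function.iterate_succ_apply, h, ihk, Function.iterate_succ_apply]
        induction q using QuotientGroup.induction_on with
        | H x => rw [hit, hpw f hf x]
      obtain ⟨m', d', h0', hlast', hinv', hstep'⟩ :=
        ih (Nat.card (G ⧸ Subgroup.zpowers w)) hlt (G ⧸ Subgroup.zpowers w) rfl
          (hG.to_quotient _) 𝒮' hcm' hpw'
      refine ⟨m' + 1, Fin.cons ⊥ (fun i => (d' i).comap (QuotientGroup.mk' (Subgroup.zpowers w))),
        rfl, ?_, ?_, ?_⟩
      · rw [← Fin.succ_last, Fin.cons_succ, hlast', Subgroup.comap_top]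
      · intro i
        refine Fin.cases ?_ (fun j => ?_) i
        · rw [Fin.cons_zero]
          refine ⟨inferInstance, fun f _ x hx => ?_⟩
          rw [Subgroup.mem_bot] at hx ⊢
          rw [hx, map_one]
        · rw [Fin.cons_succ]
          refine ⟨(hinv' j).1.comap _, fun f hf x hx => ?_⟩
          rw [Subgroup.mem_comap] at hx ⊢
          have hg : QuotientGroup.map (Subgroup.zpowers w) (Subgroup.zpowers w) f (hfW f hf) ∈ 𝒮' :=
            ⟨f, hf, fun x => rfl⟩
          exact (hinv' j).2 _ hg _ hx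
      · intro i
        refine Fin.cases ?_ (fun j => ?_) i
        · rw [Fin.castSucc_zero, Fin.cons_zero, Fin.cons_succ, h0']
          refine ⟨bot_le, w, ?_⟩
          rw [bot_sup_eq, MonoidHom.comap_bot, QuotientGroup.ker_mk']
        · rw [← Fin.succ_castSucc, Fin.cons_succ, Fin.cons_succ]
          refine ⟨Subgroup.comap_mono (hstep' j).1, ?_⟩
          obtain ⟨ybar, hy⟩ := (hstep' j).2
          obtain ⟨y, rfl⟩ := QuotientGroup.mk_surjective ybar
          refine ⟨y, le_antisymm ?_ ?_⟩
          · intro x hx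
            rw [Subgroup.mem_comap, hy] at hx
            haveI := (hinv' j.castSucc).1
            obtain ⟨u, hu, z, hz, huz⟩ := Subgroup.mem_sup_of_normal_left.mp hx
            obtain ⟨k, rfl⟩ := Subgroup.mem_zpowers_iff.mp hz
            have h1 : x * (y ^ k)⁻¹ ∈ (d' j.castSucc).comap
                (QuotientGroup.mk' (Subgroup.zpowers w)) := by
              rw [Subgroup.mem_comap]
              have : (QuotientGroup.mk' (Subgroup.zpowers w)) (x * (y ^ k)⁻¹) = u := by
                rw [map_mul, map_inv, map_zpow]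
                have huz' : (QuotientGroup.mk x : G ⧸ Subgroup.zpowers w) =
                    u * (QuotientGroup.mk y) ^ k := huz.symm
                show (QuotientGroup.mk x : G ⧸ Subgroup.zpowers w) * ((QuotientGroup.mk y) ^ k)⁻¹ = u
                rw [huz', mul_inv_cancel_right]
              rw [this]; exact hu
            have h2 : x = (x * (y ^ k)⁻¹) * y ^ k := by group
            rw [h2]
            exact Subgroup.mul_mem _ (Subgroup.mem_sup_left h1)
              (Subgroup.mem_sup_right (Subgroup.zpow_mem_zpowers y k))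
          · apply sup_le
            · exact Subgroup.comap_mono (by rw [hy]; exact le_sup_left)
            · rw [Subgroup.zpowers_le, Subgroup.mem_comap, hy]
              exact Subgroup.mem_sup_right (Subgroup.mem_zpowers _)

end Cfsg.Agent.h26Chain
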