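import Cfsg.Agent.Lib_helper26_ChainA
import Cfsg.Agent.Lib_helper26_ChainB
import Cfsg.Agent.Lib_helper26_AutSys
import Cfsg.Agent.Lib_helper26_EssGen
import Cfsg.Agent.Lib_helper25_ChainNormal2
import Cfsg.Agent.Lib_helper25_Hyperfocal

set_option autoImplicit false
set_option linter.style.haveILetI false
set_option linter.unusedVariables false

/-! Supersoluble fusion systems: chains of strongly closed subgroups with cyclic steps (helper26). -/

namespace Cfsg.Agent.h26Chain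

open Cfsg Cfsg.FusionSystem Cfsg.Agent.helper25 Cfsg.Agent.h26AutSys Cfsg.Agent.h26EssGen

variable {Ω : Type*} [Group Ω]

theorem cycStep_subgroupOf (S P c₀ c₁ : Subgroup Ω) (hPS : P ≤ S)
    (hc₀S : c₀ ≤ S) (hN : S ≤ Subgroup.normalizer (c₀ : Set Ω)) (x : Ω) (hx : x ∈ S)
    (hc : c₁ = c₀ ⊔ Subgroup.zpowers x) :
    CycStep (c₁.subgroupOf P) (c₀.subgroupOf P) := by
  haveI hNn : (c₀.subgroupOf S).Normal :=
    (Subgroup.normal_subgroupOf_iff_le_normalizer hc₀S).mpr hN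
  let π := QuotientGroup.mk' (c₀.subgroupOf S)
  let ψ : ↥P →* ↥S ⧸ c₀.subgroupOf S := π.comp (Subgroup.inclusion hPS)
  have hker : ∀ z : ↥P, ψ z = 1 ↔ z ∈ c₀.subgroupOf P := by
    intro z
    show π (Subgroup.inclusion hPS z) = 1 ↔ _
    rw [QuotientGroup.mk'_apply, QuotientGroup.eq_one_iff]
    rfl
  have hzx : Subgroup.zpowers x ≤ S := Subgroup.zpowers_le.mpr hx
  have himg : ∀ z : ↥P, z ∈ c₁.subgroupOf P → ψ z ∈ Subgroup.zpowers (π ⟨x, hx⟩) := by
    intro z hz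
    have h1 : (Subgroup.inclusion hPS z) ∈ (c₀ ⊔ Subgroup.zpowers x).subgroupOf S := by
      rw [← hc]; exact hz
    rw [Subgroup.subgroupOf_sup hc₀S hzx] at h1
    obtain ⟨n, hn, u, hu, hnu⟩ := Subgroup.mem_sup_of_normal_left.mp h1
    obtain ⟨k, hk⟩ := Subgroup.mem_zpowers_iff.mp (Subgroup.mem_subgroupOf.mp hu)
    have hu' : u = (⟨x, hx⟩ : ↥S) ^ k := Subtype.ext (by rw [Subgroup.coe_zpow]; exact hk.symm)
    show π (Subgroup.inclusion hPS z) ∈ _
    rw [← hnu, map_mul, hu', map_zpow]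
    have h2 : π n = 1 := by
      rw [QuotientGroup.mk'_apply, QuotientGroup.eq_one_iff]; exact hn
    rw [h2, one_mul]
    exact Subgroup.zpow_mem_zpowers _ k
  have hI : (c₁.subgroupOf P).map ψ ≤ Subgroup.zpowers (π ⟨x, hx⟩) := by
    rintro _ ⟨z, hz, rfl⟩; exact himg z hz
  haveI : IsCyclic ↥((c₁.subgroupOf P).map ψ) := Subgroup.isCyclic_of_le hI
  obtain ⟨⟨g, hg⟩, hgen⟩ := IsCyclic.exists_generator (α := ↥((c₁.subgroupOf P).map ψ))
  obtain ⟨y, hy, rfl⟩ := hg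
  refine ⟨y, hy, fun z hz => ?_⟩
  have hz' := hgen ⟨ψ z, ⟨z, hz, rfl⟩⟩
  obtain ⟨k, hk⟩ := Subgroup.mem_zpowers_iff.mp hz'
  refine ⟨k, ?_⟩
  rw [← hker, map_mul, map_inv, map_zpow]
  have hk' : (ψ y) ^ k = ψ z := by
    have := congrArg Subtype.val hk
    simpa using this
  rw [hk', inv_mul_cancel]

variable {S : Subgroup Ω}

/-- the chain induced on a subgroup `P ≤ S`. -/
theorem chain_data [Finite S] (F : FusionSystem S) {P : Subgroup Ω} (hPS : P ≤ S)
    (m : ℕ) (c : Fin (m + 1) → Subgroup Ω) (h0 : c 0 = ⊥) (hlast : c (Fin.last m) = S)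
    (hsc : ∀ i, F.StronglyClosed (c i))
    (hstep : ∀ i : Fin m, c i.castSucc ≤ c i.succ ∧
      ∃ x ∈ S, c i.succ = c i.castSucc ⊔ Subgroup.zpowers x) :
    (∀ i, ((c i).subgroupOf P).Normal) ∧ (c 0).subgroupOf P = ⊥ ∧
      (c (Fin.last m)).subgroupOf P = ⊤ ∧
      (∀ i : Fin m, CycStep ((c i.succ).subgroupOf P) ((c i.castSucc).subgroupOf P)) ∧
      F.autGroup P ≤ Stab (fun i => (c i).subgroupOf P) := by
  haveI : Finite P := finite_of_le S hPS
  refine ⟨fun i => ⟨fun n hn g => ?_⟩, ?_, ?_, fun i => ?_, ?_⟩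
  · rw [Subgroup.mem_subgroupOf] at hn ⊢
    have hN := stronglyClosed_le_normalizer F (hsc i) (hPS g.2)
    exact (Subgroup.mem_normalizer_iff.mp hN _).mp hn
  · rw [h0, Subgroup.bot_subgroupOf]
  · rw [hlast, Subgroup.subgroupOf_eq_top]; exact hPS
  · obtain ⟨_, x, hx, hc⟩ := hstep i
    exact cycStep_subgroupOf S P _ _ hPS (hsc _).1 (stronglyClosed_le_normalizer F (hsc _)) x hx hc
  · apply mem_Stab_of_forall
    intro a ha i x hx
    exact Subgroup.mem_subgroupOf.mpr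
      (stronglyClosed_aut_mem F (hsc i) hPS ha (Subgroup.mem_subgroupOf.mp hx))

theorem isNormal_top_of_chain [Finite S] {p : ℕ} [hp : Fact p.Prime] (hS : IsPGroup p S)
    (F : FusionSystem S) (hF : F.IsSaturated p)
    (m : ℕ) (c : Fin (m + 1) → Subgroup Ω) (h0 : c 0 = ⊥) (hlast : c (Fin.last m) = S)
    (hsc : ∀ i, F.StronglyClosed (c i))
    (hstep : ∀ i : Fin m, c i.castSucc ≤ c i.succ ∧
      ∃ x ∈ S, c i.succ = c i.castSucc ⊔ Subgroup.zpowers x) :
    F.IsNormal S := by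
  rw [isNormal_iff_stronglyClosed hS F hF]
  refine ⟨⟨le_rfl, fun R hR φ hφ x => (F.le_of_mem hφ).2 x⟩, ?_⟩
  intro P hPc hPr
  have hPS : P ≤ S := hPc.1
  haveI : Finite P := finite_of_le S hPS
  have hPp : IsPGroup p P := hS.to_le hPS
  obtain ⟨hn, hd0, hdl, hcyc, hAS⟩ := chain_data F hPS m c h0 hlast hsc hstep
  haveI := hn
  apply le_of_normal_pSubgroup hS F hPc hPr le_rfl Subgroup.le_normalizer
    (Kp (fun i => (c i).subgroupOf P) p hcyc)
  · intro a ha k hk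
    exact Kp_conj _ p hcyc (hAS ha) hk
  · intro k hk
    exact Kp_pow (fun i => (c i).subgroupOf P) p hPp hd0 hdl hcyc hk
  · intro g hg
    obtain ⟨j, hj⟩ := (IsPGroup.iff_orderOf.mp hS) ⟨g, hg.1⟩
    have hgj : g ^ (p ^ j) = 1 := by
      have := pow_orderOf_eq_one (⟨g, hg.1⟩ : S)
      rw [hj] at this
      exact congrArg Subtype.val this
    apply mem_Kp_of_pow _ p hcyc (j := j)
    · intro i x
      show x ∈ (c i).subgroupOf P ↔ normAut P g hg.2 x ∈ (c i).subgroupOf P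
      rw [Subgroup.mem_subgroupOf, Subgroup.mem_subgroupOf, normAut_coe]
      have hN := stronglyClosed_le_normalizer F (hsc i) hg.1
      exact Subgroup.mem_normalizer_iff.mp hN _
    · have h1 : (normAut P g hg.2) ^ (p ^ j) =
          P.normalizerMonoidHom ((⟨g, hg.2⟩ : Subgroup.normalizer (P : Set Ω)) ^ (p ^ j)) := by
        rw [map_pow]; rfl
      rw [h1]
      have h2 : (⟨g, hg.2⟩ : Subgroup.normalizer (P : Set Ω)) ^ (p ^ j) = 1 := Subtype.ext hgj
      rw [h2, map_one]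

theorem comm_exp_of_chain [Finite S] {p : ℕ} [hp : Fact p.Prime] (hS : IsPGroup p S)
    (hall : ∀ F : FusionSystem S, F.IsSaturated p →
      ∃ (m : ℕ) (c : Fin (m + 1) → Subgroup Ω), c 0 = ⊥ ∧ c (Fin.last m) = S ∧
        (∀ i : Fin (m + 1), F.StronglyClosed (c i)) ∧
        ∀ i : Fin m, c i.castSucc ≤ c i.succ ∧
          ∃ x ∈ S, c i.succ = c i.castSucc ⊔ Subgroup.zpowers x)
    (H : Subgroup (MulAut ↥S)) (hcop : (Nat.card ↥H).Coprime p) :
    IsMulCommutative ↥H ∧ ∀ h ∈ H, h ^ (p - 1) = 1 := by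
  obtain ⟨m, c, h0, hlast, hsc, hstep⟩ :=
    hall (autSys S (Inn S ⊔ H) le_sup_left) (autSys_saturated S hS H hcop)
  obtain ⟨hn, hd0, hdl, hcyc, hAS⟩ :=
    chain_data (autSys S (Inn S ⊔ H) le_sup_left) (le_refl S) m c h0 hlast hsc hstep
  haveI := hn
  have hHS : H ≤ Stab (fun i => (c i).subgroupOf S) := by
    refine le_trans ?_ hAS
    rw [autGroup_autSys]
    exact le_sup_right
  obtain ⟨h1, h2⟩ := comm_and_exp (fun i => (c i).subgroupOf S) p hS hd0 hdl hcyc H hHS hcop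
  exact ⟨⟨⟨fun a b => Subtype.ext (h1 a a.2 b b.2)⟩⟩, h2⟩

theorem mulAut_pow_apply {G : Type*} [Group G] (k : MulAut G) (n : ℕ) (x : G) :
    (k ^ n) x = k^[n] x := by
  induction n with
  | zero => rfl
  | succ n ih => rw [pow_succ', MulAut.mul_apply, ih, Function.iterate_succ_apply']

theorem exists_chain_of_normal [Finite S] {p : ℕ} [hp : Fact p.Prime] (hS : IsPGroup p S)
    (hH : ∀ H : Subgroup (MulAut ↥S), (Nat.card ↥H).Coprime p →
      IsMulCommutative ↥H ∧ ∀ h ∈ H, h ^ (p - 1) = 1)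
    (F : FusionSystem S) (hF : F.IsSaturated p) (hN : F.IsNormal S) :
    ∃ (m : ℕ) (c : Fin (m + 1) → Subgroup Ω), c 0 = ⊥ ∧ c (Fin.last m) = S ∧
      (∀ i : Fin (m + 1), F.StronglyClosed (c i)) ∧
      ∀ i : Fin m, c i.castSucc ≤ c i.succ ∧
        ∃ x ∈ S, c i.succ = c i.castSucc ⊔ Subgroup.zpowers x := by
  have hInnA : Inn ↥S ≤ F.autGroup S :=
    (inn_le_autInducedBy le_rfl).trans (autInducedBy_le_autGroup F le_rfl)
  have hInn : Inn S = autInducedBy S S := by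
    apply le_antisymm (inn_le_autInducedBy le_rfl)
    intro α hα
    obtain ⟨g, hg, hx⟩ := (mem_autInducedBy_iff S S α).mp hα
    refine ⟨⟨g, hg⟩, ?_⟩
    ext x
    exact (hx x).symm
  obtain ⟨-, R, hR⟩ := fullyAutomized_of_top_or_essential hS F hF (Or.inl rfl)
  rw [← hInn] at hR
  haveI hInnN : (Inn ↥S).Normal := by
    refine ⟨fun n hn a => ?_⟩
    obtain ⟨g, rfl⟩ := hn
    refine ⟨a g, ?_⟩
    ext x
    simp [MulAut.conj_apply, map_mul, map_inv]
  haveI hNn : ((Inn ↥S).subgroupOf (F.autGroup S)).Normal := Subgroup.normal_subgroupOf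
  have hidx : ¬ p ∣ ((Inn ↥S).subgroupOf (F.autGroup S)).index := by
    rw [← hR]; exact R.not_dvd_index
  have hNp : IsPGroup p ↥((Inn ↥S).subgroupOf (F.autGroup S)) := by
    rw [← hR]; exact R.isPGroup'
  have hcopN : Nat.Coprime (Nat.card ↥((Inn ↥S).subgroupOf (F.autGroup S)))
      ((Inn ↥S).subgroupOf (F.autGroup S)).index := by
    obtain ⟨k, hk⟩ := IsPGroup.iff_card.mp hNp
    rw [hk]
    exact Nat.Coprime.pow_left k ((Nat.Prime.coprime_iff_not_dvd hp.out).mpr hidx)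
  obtain ⟨K₀, hK₀⟩ := Subgroup.exists_right_complement'_of_coprime hcopN
  have hK₀card : Nat.card K₀ = ((Inn ↥S).subgroupOf (F.autGroup S)).index :=
    (hK₀.symm.index_eq_card).symm
  have hKcop : (Nat.card ↥(K₀.map (F.autGroup S).subtype)).Coprime p := by
    rw [Subgroup.card_map_of_injective (Subgroup.subtype_injective _), hK₀card]
    exact ((Nat.Prime.coprime_iff_not_dvd hp.out).mpr hidx).symm
  obtain ⟨hKc, hKe⟩ := hH _ hKcop
  let 𝒮 : Set (↥S →* ↥S) := {f | ∃ k ∈ K₀.map (F.autGroup S).subtype, f = k.toMonoidHom}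
  have hcm : ∀ f ∈ 𝒮, ∀ g ∈ 𝒮, ∀ x, f (g x) = g (f x) := by
    rintro _ ⟨k₁, hk₁, rfl⟩ _ ⟨k₂, hk₂, rfl⟩ x
    have h1 := hKc.is_comm.comm (⟨k₁, hk₁⟩ : ↥(K₀.map (F.autGroup S).subtype)) ⟨k₂, hk₂⟩
    have h2 : k₁ * k₂ = k₂ * k₁ := congrArg Subtype.val h1
    exact DFunLike.congr_fun h2 x
  have hpw : ∀ f ∈ 𝒮, ∀ x, f^[p - 1] x = x := by
    rintro _ ⟨k, hk, rfl⟩ x
    have h1 := hKe k hk
    have h2 := mulAut_pow_apply k (p - 1) x
    rw [h1] at h2
    exact h2.symm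
  obtain ⟨m, d, h0, hlast, hinv, hstep⟩ := exists_chain p (Nat.card ↥S) ↥S rfl hS 𝒮 hcm hpw
  have hAinv : ∀ β ∈ F.autGroup S, ∀ i, ∀ z ∈ d i, β z ∈ d i := by
    intro β hβ i z hz
    obtain ⟨⟨n, k⟩, hnk⟩ := hK₀.2 ⟨β, hβ⟩
    have hnk' : (n : ↥(F.autGroup S)) * (k : ↥(F.autGroup S)) = ⟨β, hβ⟩ := hnk
    have hβeq : β = ((n : ↥(F.autGroup S)) : MulAut ↥S) * ((k : ↥(F.autGroup S)) : MulAut ↥S) := by
      have := congrArg Subtype.val hnk'
      exact this.symm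
    have hn : ((n : ↥(F.autGroup S)) : MulAut ↥S) ∈ Inn ↥S := Subgroup.mem_subgroupOf.mp n.2
    obtain ⟨g, hg⟩ := hn
    have hk : ((k : ↥(F.autGroup S)) : MulAut ↥S) ∈ K₀.map (F.autGroup S).subtype :=
      Subgroup.mem_map_of_mem _ k.2
    have hkz : ((k : ↥(F.autGroup S)) : MulAut ↥S) z ∈ d i :=
      (hinv i).2 _ ⟨_, hk, rfl⟩ z hz
    rw [hβeq, MulAut.mul_apply, ← hg]
    show g * _ * g⁻¹ ∈ d i
    exact (hinv i).1.conj_mem _ hkz g
  have hnorm : ∀ i, F.IsNormal ((d i).map S.subtype) := by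
    intro i
    rw [isNormal_iff_essential hS F hF]
    intro P hP
    have hPS' : P = S := by
      rcases hP with rfl | hP
      · rfl
      · have h1 := ((isNormal_iff_essential hS F hF S).mp hN P (Or.inr hP)).1
        exact le_antisymm hP.1.1 h1
    subst hPS'
    refine ⟨Subgroup.map_subtype_le _, fun α hα => ?_⟩
    have e : ((d i).map P.subtype).subgroupOf P = d i :=
      Subgroup.comap_map_eq_self_of_injective P.subtype_injective _
    rw [e]
    exact map_aut_eq_of_forall (F.autGroup P) _ (fun β hβ z hz => hAinv β hβ i z hz) hα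
  refine ⟨m, fun i => (d i).map S.subtype, ?_, ?_, fun i => isNormal_stronglyClosed F (hnorm i),
    fun i => ⟨Subgroup.map_mono (hstep i).1, ?_⟩⟩
  · show (d 0).map S.subtype = ⊥
    rw [h0, Subgroup.map_bot]
  · show (d (Fin.last m)).map S.subtype = S
    rw [hlast, ← MonoidHom.range_eq_map, Subgroup.range_subtype]
  · obtain ⟨y, hy⟩ := (hstep i).2
    refine ⟨(y : Ω), y.2, ?_⟩
    show (d i.succ).map S.subtype = (d i.castSucc).map S.subtype ⊔ Subgroup.zpowers (y : Ω)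
    rw [hy, Subgroup.map_sup, MonoidHom.map_zpowers]
    rfl

end Cfsg.Agent.h26Chain
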