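import Cfsg.Agent.Lib_helper26_ChainA
import Cfsg.Agent.Lib_helper26_AbEssA

set_option autoImplicit false
set_option linter.style.haveILetI false
set_option linter.unusedVariables false

/-! Abelian `p`-groups with pairwise distinct invariants: `p'`-groups of automorphisms are abelian of
exponent dividing `p - 1` (helper26). -/

namespace Cfsg.Agent.h26Chain

open Cfsg.Agent.h26AbEss

theorem zmod_eq_smul_of_smul_eq_zero {p : ℕ} [hp : Fact p.Prime] {N e : ℕ} (hN : N = p ^ e)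
    (he : 1 ≤ e) (a : ZMod N) (ha : p • a = 0) :
    ∃ c : ℕ, a = (p ^ (e - 1) * c : ℕ) • (1 : ZMod N) := by
  subst hN
  haveI : NeZero (p ^ e) := ⟨pow_ne_zero e hp.out.ne_zero⟩
  have h1 : ((p * a.val : ℕ) : ZMod (p ^ e)) = 0 := by
    rw [Nat.cast_mul, ZMod.natCast_zmod_val]
    rw [nsmul_eq_mul] at ha
    exact ha
  rw [ZMod.natCast_eq_zero_iff] at h1
  obtain ⟨e', rfl⟩ : ∃ e', e = e' + 1 := ⟨e - 1, by omega⟩
  have h0 : p * p ^ e' ∣ p ^ (e' + 1) := by rw [pow_succ']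
  have h2 : p ^ e' ∣ a.val := (Nat.mul_dvd_mul_iff_left hp.out.pos).mp (h0.trans h1)
  obtain ⟨c, hc⟩ := h2
  refine ⟨c, ?_⟩
  rw [Nat.add_sub_cancel, nsmul_eq_mul, mul_one, ← hc, ZMod.natCast_zmod_val]

theorem zmod_pow_smul_eq_zero {p : ℕ} {N e b : ℕ} (hN : N = p ^ e) (heb : e ≤ b) (z : ZMod N) :
    p ^ b • z = 0 := by
  rw [nsmul_eq_mul]
  have : ((p ^ b : ℕ) : ZMod N) = 0 := by
    rw [ZMod.natCast_eq_zero_iff, hN]; exact pow_dvd_pow p heb
  rw [this, zero_mul]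

theorem single_nsmul {ι : Type} [DecidableEq ι] {K : ι → Type} [∀ i, AddCommGroup (K i)] (i : ι)
    (m : ℕ) (a : K i) : m • (Pi.single i a : ∀ j, K j) = Pi.single i (m • a) := by
  funext j
  rcases eq_or_ne j i with rfl | h
  · simp
  · simp [h]

theorem addStep {ι : Type} [Fintype ι] [DecidableEq ι] {p : ℕ} [hp : Fact p.Prime] (n e : ι → ℕ)
    (hn : ∀ i, n i = p ^ e i) (he : ∀ i, 1 ≤ e i) (hinj : Function.Injective e) (b : ℕ) :
    ∃ y : (∀ i, ZMod (n i)), p • y = 0 ∧ (∃ z, p ^ b • z = y) ∧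
      ∀ x : (∀ i, ZMod (n i)), p • x = 0 → (∃ z, p ^ b • z = x) →
        ∃ k : ℕ, ∃ w : (∀ i, ZMod (n i)), p ^ (b + 1) • w = x - k • y := by
  classical
  have hcoord : ∀ i, e i ≠ b + 1 → ∀ a : ZMod (n i), p • a = 0 →
      (∃ z : ZMod (n i), p ^ b • z = a) → ∃ w : ZMod (n i), p ^ (b + 1) • w = a := by
    rintro i hi a ha ⟨z, hz⟩
    rcases Nat.lt_or_ge b (e i) with hlt | hge
    · have h2 : b + 2 ≤ e i := by omega
      obtain ⟨c, hc⟩ := zmod_eq_smul_of_smul_eq_zero (hn i) (he i) a ha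
      refine ⟨(p ^ (e i - 2 - b) * c : ℕ) • (1 : ZMod (n i)), ?_⟩
      rw [hc, ← mul_nsmul']
      congr 1
      have h3 : e i - 1 = (b + 1) + (e i - 2 - b) := by omega
      rw [h3, pow_add]; ring
    · refine ⟨0, ?_⟩
      rw [smul_zero, ← hz]
      exact (zmod_pow_smul_eq_zero (hn i) hge z).symm
  by_cases hex : ∃ i₀, e i₀ = b + 1
  · obtain ⟨i₀, hi₀⟩ := hex
    refine ⟨Pi.single i₀ (p ^ b • (1 : ZMod (n i₀))), ?_, ⟨Pi.single i₀ 1, ?_⟩, ?_⟩
    · rw [single_nsmul, ← mul_nsmul', ← pow_succ']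
      have h0 : p ^ (b + 1) • (1 : ZMod (n i₀)) = 0 := by
        rw [nsmul_eq_mul, mul_one, ZMod.natCast_eq_zero_iff, hn i₀, hi₀]
      rw [h0, Pi.single_zero]
    · rw [single_nsmul]
    · rintro x hx ⟨z, hz⟩
      obtain ⟨c, hc⟩ := zmod_eq_smul_of_smul_eq_zero (hn i₀) (he i₀) (x i₀) (congrFun hx i₀)
      have hw : ∀ i, i ≠ i₀ → ∃ w : ZMod (n i), p ^ (b + 1) • w = x i := by
        intro i hi
        exact hcoord i (fun h => hi (hinj (h.trans hi₀.symm))) (x i) (congrFun hx i)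
          ⟨z i, congrFun hz i⟩
      refine ⟨c, fun i => if h : i = i₀ then 0 else Classical.choose (hw i h), ?_⟩
      funext i
      by_cases h : i = i₀
      · subst h
        simp only [Pi.smul_apply, dif_pos, Pi.sub_apply, Pi.single_eq_same, smul_zero]
        rw [hc, hi₀, Nat.add_sub_cancel, mul_comm (p ^ b) c, mul_nsmul', sub_self]
      · simp only [Pi.smul_apply, dif_neg h, Pi.sub_apply, Pi.single_eq_of_ne h, smul_zero,
          sub_zero]
        exact Classical.choose_spec (hw i h)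
  · refine ⟨0, smul_zero _, ⟨0, smul_zero _⟩, ?_⟩
    rintro x hx ⟨z, hz⟩
    have hw : ∀ i, ∃ w : ZMod (n i), p ^ (b + 1) • w = x i := by
      intro i
      exact hcoord i (fun h => hex ⟨i, h⟩) (x i) (congrFun hx i) ⟨z i, congrFun hz i⟩
    refine ⟨0, fun i => Classical.choose (hw i), ?_⟩
    funext i
    simp only [Pi.smul_apply, Pi.sub_apply, smul_zero, sub_zero, Pi.zero_apply]
    exact Classical.choose_spec (hw i)

/-- one step of the socle filtration is cyclic. -/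
def StepProp (p b : ℕ) (G : Type*) [CommGroup G] : Prop :=
  ∃ y : G, y ^ p = 1 ∧ (∃ z, z ^ (p ^ b) = y) ∧
    ∀ x : G, x ^ p = 1 → (∃ z, z ^ (p ^ b) = x) →
      ∃ k : ℕ, ∃ w : G, w ^ (p ^ (b + 1)) = (y ^ k)⁻¹ * x

theorem StepProp.of_equiv {p b : ℕ} {G G' : Type*} [CommGroup G] [CommGroup G'] (φ : G ≃* G')
    (h : StepProp p b G') : StepProp p b G := by
  obtain ⟨y, hy1, ⟨z, hz⟩, hy3⟩ := h
  refine ⟨φ.symm y, by rw [← map_pow, hy1, map_one], ⟨φ.symm z, by rw [← map_pow, hz]⟩, ?_⟩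
  rintro x hx ⟨z', hz'⟩
  obtain ⟨k, w, hw⟩ := hy3 (φ x) (by rw [← map_pow, hx, map_one]) ⟨φ z', by rw [← map_pow, hz']⟩
  refine ⟨k, φ.symm w, ?_⟩
  rw [← map_pow, hw, map_mul, map_inv, map_pow, φ.symm_apply_apply]

theorem stepProp_multiplicative {p b : ℕ} {A : Type*} [AddCommGroup A]
    (h : ∃ y : A, p • y = 0 ∧ (∃ z, p ^ b • z = y) ∧
      ∀ x : A, p • x = 0 → (∃ z, p ^ b • z = x) →
        ∃ k : ℕ, ∃ w : A, p ^ (b + 1) • w = x - k • y) :
    StepProp p b (Multiplicative A) := by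
  obtain ⟨y, hy1, ⟨z, hz⟩, hy3⟩ := h
  refine ⟨Multiplicative.ofAdd y, congrArg Multiplicative.ofAdd hy1,
    ⟨Multiplicative.ofAdd z, congrArg Multiplicative.ofAdd hz⟩, ?_⟩
  rintro x hx ⟨z', hz'⟩
  obtain ⟨k, w, hw⟩ := hy3 x.toAdd (congrArg Multiplicative.toAdd hx)
    ⟨z'.toAdd, congrArg Multiplicative.toAdd hz'⟩
  refine ⟨k, Multiplicative.ofAdd w, ?_⟩
  show Multiplicative.ofAdd (p ^ (b + 1) • w) = _
  rw [hw, sub_eq_neg_add]
  rfl

/-- splitting two coordinates off a product. -/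
theorem exists_split {ι : Type} [DecidableEq ι] (M : ι → Type) [∀ i, CommGroup (M i)]
    (i j : ι) (hij : i ≠ j) :
    ∃ (R : Type) (_ : CommGroup R), Nonempty ((∀ k, M k) ≃* (M i × M j) × R) := by
  refine ⟨∀ k : {k // k ≠ i ∧ k ≠ j}, M k.1, inferInstance, ⟨?_⟩⟩
  exact
    { toFun := fun f => ((f i, f j), fun k => f k.1)
      invFun := fun g k => if h1 : k = i then h1 ▸ g.1.1 else
        if h2 : k = j then h2 ▸ g.1.2 else g.2 ⟨k, h1, h2⟩
      left_inv := by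
        intro f
        funext k
        by_cases h1 : k = i
        · subst h1; simp
        · by_cases h2 : k = j
          · subst h2; simp [h1]
          · simp [h1, h2]
      right_inv := by
        rintro ⟨⟨a, b⟩, g⟩
        refine Prod.ext (Prod.ext ?_ ?_) ?_
        · simp
        · simp [hij.symm]
        · funext k
          simp [k.2.1, k.2.2]
      map_mul' := fun f g => rfl }

variable {G : Type*} [CommGroup G]

/-- the socle filtration `Ω₁(G) ∩ G^(p^b)`. -/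
def socF (p b : ℕ) (G : Type*) [CommGroup G] : Subgroup (Om p G) where
  carrier := {t | ∃ z : G, z ^ (p ^ b) = (t : G)}
  one_mem' := ⟨1, by simp⟩
  mul_mem' := by
    rintro s t ⟨z, hz⟩ ⟨z', hz'⟩
    exact ⟨z * z', by rw [mul_pow, hz, hz']; rfl⟩
  inv_mem' := by
    rintro s ⟨z, hz⟩
    exact ⟨z⁻¹, by rw [inv_pow, hz]; rfl⟩

theorem mem_socF {p b : ℕ} {t : Om p G} : t ∈ socF p b G ↔ ∃ z : G, z ^ (p ^ b) = (t : G) :=
  Iff.rfl

theorem cycStep_socF {p b : ℕ} (h : StepProp p b G) :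
    CycStep (socF p b G) (socF p (b + 1) G) := by
  obtain ⟨y, hy1, hy2, hy3⟩ := h
  refine ⟨⟨y, mem_Om.mpr hy1⟩, hy2, ?_⟩
  rintro ⟨x, hx⟩ hx2
  obtain ⟨k, w, hw⟩ := hy3 x (mem_Om.mp hx) hx2
  refine ⟨(k : ℤ), w, ?_⟩
  rw [hw]
  simp

theorem comm_exp_of_distinct [Finite G] {p : ℕ} [hp : Fact p.Prime] (hG : IsPGroup p G)
    (hno : ¬ ∃ (n : ℕ) (H : Type) (_ : CommGroup H), 0 < n ∧
      Nonempty (G ≃* (Multiplicative (ZMod (p ^ n)) × Multiplicative (ZMod (p ^ n))) × H))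
    (H : Subgroup (MulAut G)) (hcop : (Nat.card H).Coprime p) :
    (∀ a ∈ H, ∀ b ∈ H, a * b = b * a) ∧ ∀ a ∈ H, a ^ (p - 1) = 1 := by
  classical
  obtain ⟨ι, fι, n, hn1, ⟨φ⟩⟩ := CommGroup.equiv_prod_multiplicative_zmod_of_finite G
  obtain ⟨k₀, hk₀⟩ := IsPGroup.iff_card.mp hG
  -- each `n i` is a power of `p`
  have hcard : Nat.card G = ∏ i, n i := by
    rw [Nat.card_congr φ.toEquiv, Nat.card_pi]
    apply Finset.prod_congr rfl
    intro i _
    exact Nat.card_zmod (n i)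
  have hne : ∀ i, ∃ e, 1 ≤ e ∧ n i = p ^ e := by
    intro i
    have h1 : n i ∣ p ^ k₀ := by
      rw [← hk₀, hcard]; exact Finset.dvd_prod_of_mem n (Finset.mem_univ i)
    obtain ⟨e, -, he⟩ := (Nat.dvd_prime_pow hp.out).mp h1
    refine ⟨e, ?_, he⟩
    rcases Nat.eq_zero_or_pos e with h0 | h0
    · rw [h0, pow_zero] at he
      have := hn1 i
      omega
    · exact h0
  choose e he1 hne using hne
  have hinj : Function.Injective e := by
    intro i j hij
    by_contra hne'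
    apply hno
    obtain ⟨R, iR, ⟨ψ⟩⟩ := exists_split (fun k => Multiplicative (ZMod (n k))) i j hne'
    refine ⟨e i, R, iR, he1 i, ⟨?_⟩⟩
    have ci : Multiplicative (ZMod (n i)) ≃* Multiplicative (ZMod (p ^ e i)) :=
      AddEquiv.toMultiplicative (ZMod.ringEquivCongr (hne i)).toAddEquiv
    have cj : Multiplicative (ZMod (n j)) ≃* Multiplicative (ZMod (p ^ e i)) :=
      AddEquiv.toMultiplicative (ZMod.ringEquivCongr ((hne j).trans (by rw [hij]))).toAddEquiv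
    exact (φ.trans ψ).trans (MulEquiv.prodCongr (MulEquiv.prodCongr ci cj) (MulEquiv.refl R))
  have hstep : ∀ b, StepProp p b G := by
    intro b
    apply StepProp.of_equiv (φ.trans (MulEquiv.piMultiplicative (fun i => ZMod (n i))))
    exact stepProp_multiplicative (addStep n e hne he1 hinj b)
  -- the chain in `Ω₁(G)`
  haveI : Finite (Om p G) := inferInstance
  have hT : IsPGroup p (Om p G) := hG.to_subgroup _
  let d : Fin (k₀ + 1) → Subgroup (Om p G) := fun i => socF p (k₀ - i) G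
  have hd0 : d 0 = ⊥ := by
    show socF p (k₀ - ((0 : Fin (k₀ + 1)) : ℕ)) G = ⊥
    rw [Fin.val_zero, Nat.sub_zero, eq_bot_iff]
    rintro t ⟨z, hz⟩
    rw [Subgroup.mem_bot]
    apply Subtype.ext
    rw [← hz, ← hk₀]
    exact pow_card_eq_one'
  have hdl : d (Fin.last k₀) = ⊤ := by
    show socF p (k₀ - ((Fin.last k₀ : Fin (k₀ + 1)) : ℕ)) G = ⊤
    rw [Fin.val_last, Nat.sub_self, eq_top_iff]
    intro t _
    exact ⟨t, by simp⟩
  have hcyc : ∀ i : Fin k₀, CycStep (d i.succ) (d i.castSucc) := by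
    intro i
    show CycStep (socF p (k₀ - ((i.succ : Fin (k₀ + 1)) : ℕ)) G)
      (socF p (k₀ - ((i.castSucc : Fin (k₀ + 1)) : ℕ)) G)
    rw [Fin.val_succ, Fin.val_castSucc]
    have h1 : k₀ - (i : ℕ) = (k₀ - ((i : ℕ) + 1)) + 1 := by
      have := i.2; omega
    rw [h1]
    exact cycStep_socF (hstep _)
  have hHS : H.map (resOm p) ≤ Stab d := by
    apply mem_Stab_of_forall
    rintro _ ⟨α, hα, rfl⟩ i t ⟨z, hz⟩
    exact ⟨α z, by rw [← map_pow, hz]; rfl⟩
  have hcop' : (Nat.card (H.map (resOm p (H := G)))).Coprime p :=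
    Nat.Coprime.coprime_dvd_left (Subgroup.card_map_dvd _ _) hcop
  obtain ⟨h1, h2⟩ := comm_and_exp d p hT hd0 hdl hcyc (H.map (resOm p)) hHS hcop'
  have hpowH : ∀ c ∈ H, c ^ (Nat.card H) = 1 := by
    intro c hc
    have : (⟨c, hc⟩ : H) ^ (Nat.card H) = 1 := pow_card_eq_one'
    exact congrArg Subtype.val this
  have hfaith : ∀ c ∈ H, resOm p c = 1 → c = 1 := by
    intro c hc hres
    have hfix : ∀ x : G, x ^ p = 1 → c x = x := by
      intro x hx
      have := congrArg (fun f : MulAut (Om p G) => ((f ⟨x, mem_Om.mpr hx⟩ : Om p G) : G)) hres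
      exact this
    obtain ⟨k, hk⟩ := pow_eq_one_of_fix hG c hfix
    have d1 := orderOf_dvd_of_pow_eq_one hk
    have d2 := orderOf_dvd_of_pow_eq_one (hpowH c hc)
    have hc1 : Nat.gcd (p ^ k) (Nat.card H) = 1 := Nat.Coprime.pow_left k hcop.symm
    have d3 : orderOf c ∣ 1 := by
      have := Nat.dvd_gcd d1 d2
      rwa [hc1] at this
    exact orderOf_eq_one_iff.mp (Nat.dvd_one.mp d3)
  constructor
  · intro a ha b hb
    have hc : a * b * a⁻¹ * b⁻¹ ∈ H :=
      H.mul_mem (H.mul_mem (H.mul_mem ha hb) (H.inv_mem ha)) (H.inv_mem hb)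
    have h3 : a * b * a⁻¹ * b⁻¹ = 1 := by
      apply hfaith _ hc
      rw [map_mul, map_mul, map_mul, map_inv, map_inv,
        h1 _ (Subgroup.mem_map_of_mem _ ha) _ (Subgroup.mem_map_of_mem _ hb)]
      group
    calc a * b = (a * b * a⁻¹ * b⁻¹) * (b * a) := by group
      _ = b * a := by rw [h3, one_mul]
  · intro a ha
    apply hfaith _ (H.pow_mem ha _)
    rw [map_pow]
    exact h2 _ (Subgroup.mem_map_of_mem _ ha)

end Cfsg.Agent.h26Chain
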