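import Mathlib

set_option autoImplicit false
set_option linter.style.haveILetI false
set_option linter.unusedVariables false

/-! Non-abelian (or wrong exponent) `p'`-groups of automorphisms of `(C × C) × H` (helper26). -/

namespace Cfsg.Agent.h26Chain

section lift

variable {A : Type*} [Group A] {H₀ : Type*} [Group H₀] {G : Type*} [Group G]

/-- transport an automorphism of `A` to `G ≃* A × H₀` (acting trivially on `H₀`). -/
def liftEquiv (ψ : G ≃* A × H₀) (α : MulAut A) : MulAut G :=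
  ψ.trans ((MulEquiv.prodCongr α (MulEquiv.refl H₀)).trans ψ.symm)

theorem liftEquiv_apply (ψ : G ≃* A × H₀) (α : MulAut A) (x : G) :
    liftEquiv ψ α x = ψ.symm (α (ψ x).1, (ψ x).2) := rfl

def liftAut (ψ : G ≃* A × H₀) : MulAut A →* MulAut G where
  toFun := liftEquiv ψ
  map_one' := by
    ext x
    rw [liftEquiv_apply]
    simp
  map_mul' α β := by
    ext x
    rw [MulAut.mul_apply, liftEquiv_apply, liftEquiv_apply, liftEquiv_apply]
    simp

theorem liftAut_apply (ψ : G ≃* A × H₀) (α : MulAut A) (x : G) :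
    ψ (liftAut ψ α x) = (α (ψ x).1, (ψ x).2) := by
  show ψ (liftEquiv ψ α x) = _
  rw [liftEquiv_apply, MulEquiv.apply_symm_apply]

theorem liftAut_injective (ψ : G ≃* A × H₀) : Function.Injective (liftAut ψ) := by
  intro α β h
  ext a
  have h1 := liftAut_apply ψ α (ψ.symm (a, 1))
  have h2 := liftAut_apply ψ β (ψ.symm (a, 1))
  rw [h] at h1
  rw [h1] at h2
  simpa using (congrArg Prod.fst h2)

end lift

section autos

variable {C : Type*} [CommGroup C]

def sgnForm (s : Bool) (ε₁ ε₂ : ℤˣ) (x : C × C) : C × C :=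
  if s then (x.2 ^ (ε₁ : ℤ), x.1 ^ (ε₂ : ℤ)) else (x.1 ^ (ε₁ : ℤ), x.2 ^ (ε₂ : ℤ))

theorem unit_zpow_zpow (ε : ℤˣ) (a : C) : (a ^ (ε : ℤ)) ^ (ε : ℤ) = a := by
  rw [← zpow_mul, ← Units.val_mul, Int.units_mul_self, Units.val_one, zpow_one]

def signedPermM (C : Type*) [CommGroup C] : Submonoid (MulAut (C × C)) where
  carrier := {α | ∃ (s : Bool) (ε₁ ε₂ : ℤˣ), ∀ x, α x = sgnForm s ε₁ ε₂ x}
  one_mem' := ⟨false, 1, 1, fun x => by simp [sgnForm]⟩
  mul_mem' := by
    rintro α β ⟨s, ε₁, ε₂, hα⟩ ⟨t, δ₁, δ₂, hβ⟩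
    cases s <;> cases t
    · refine ⟨false, ε₁ * δ₁, ε₂ * δ₂, fun x => ?_⟩
      rw [MulAut.mul_apply, hβ, hα]
      simp only [sgnForm, Bool.false_eq_true, ↓reduceIte, Units.val_mul, zpow_mul']
    · refine ⟨true, ε₁ * δ₁, ε₂ * δ₂, fun x => ?_⟩
      rw [MulAut.mul_apply, hβ, hα]
      simp only [sgnForm, Bool.false_eq_true, ↓reduceIte, Units.val_mul, zpow_mul']
    · refine ⟨true, ε₁ * δ₂, ε₂ * δ₁, fun x => ?_⟩
      rw [MulAut.mul_apply, hβ, hα]
      simp only [sgnForm, Bool.false_eq_true, ↓reduceIte, Units.val_mul, zpow_mul']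
    · refine ⟨false, ε₁ * δ₂, ε₂ * δ₁, fun x => ?_⟩
      rw [MulAut.mul_apply, hβ, hα]
      simp only [sgnForm, Bool.false_eq_true, ↓reduceIte, Units.val_mul, zpow_mul']

theorem pow_four_of_mem {α : MulAut (C × C)} (hα : α ∈ signedPermM C) : α ^ 4 = 1 := by
  obtain ⟨s, ε₁, ε₂, h⟩ := hα
  apply MulEquiv.ext
  intro x
  show ((α ^ 4) x) = x
  have e : (α ^ 4) x = α (α (α (α x))) := by
    simp [pow_succ, MulAut.mul_apply]
  rw [e]
  cases s
  · have h2 : ∀ y, α (α y) = y := by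
      intro y
      rw [h, h]
      simp only [sgnForm, Bool.false_eq_true, ↓reduceIte, unit_zpow_zpow]
    rw [h2, h2]
  · have h2 : ∀ y : C × C, α (α y) = (y.1 ^ ((ε₁ * ε₂ : ℤˣ) : ℤ), y.2 ^ ((ε₁ * ε₂ : ℤˣ) : ℤ)) := by
      intro y
      rw [h, h]
      simp only [sgnForm, ↓reduceIte, Units.val_mul, zpow_mul']
      rw [← zpow_mul y.2, ← zpow_mul y.2, mul_comm (ε₁ : ℤ) (ε₂ : ℤ)]
    rw [h2, h2]
    simp only [unit_zpow_zpow]

def signedPerm (C : Type*) [CommGroup C] : Subgroup (MulAut (C × C)) :=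
  { signedPermM C with
    inv_mem' := by
      intro α hα
      have h4 := pow_four_of_mem hα
      have e : α⁻¹ = α ^ 3 := by
        apply inv_eq_of_mul_eq_one_right
        rw [← pow_succ', h4]
      show α⁻¹ ∈ signedPermM C
      rw [e]
      exact (signedPermM C).pow_mem hα 3 }

theorem mem_signedPerm {α : MulAut (C × C)} :
    α ∈ signedPerm C ↔ ∃ (s : Bool) (ε₁ ε₂ : ℤˣ), ∀ x, α x = sgnForm s ε₁ ε₂ x := Iff.rfl

theorem signedPerm_isPGroup : IsPGroup 2 (signedPerm C) := by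
  intro g
  refine ⟨2, ?_⟩
  apply Subtype.ext
  have := pow_four_of_mem (C := C) g.2
  simpa using this

/-- the swap. -/
def swapA (C : Type*) [CommGroup C] : MulAut (C × C) := MulEquiv.prodComm

/-- inversion of the left coordinate. -/
def invL (C : Type*) [CommGroup C] : MulAut (C × C) :=
  MulEquiv.prodCongr (MulEquiv.inv C) (MulEquiv.refl C)

theorem swapA_mem : swapA C ∈ signedPerm C :=
  ⟨true, 1, 1, fun x => by
    simp only [sgnForm, ↓reduceIte, Units.val_one, zpow_one]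
    rfl⟩

theorem invL_mem : invL C ∈ signedPerm C :=
  ⟨false, -1, 1, fun x => by
    simp only [sgnForm, Bool.false_eq_true, ↓reduceIte, Units.val_neg, Units.val_one, zpow_neg,
      zpow_one]
    rfl⟩

theorem swap_invL_ne {g : C} (hg : g ^ 2 ≠ 1) : swapA C * invL C ≠ invL C * swapA C := by
  intro h
  have h1 := congrArg (fun f : MulAut (C × C) => (f (1, g)).1) h
  apply hg
  have h2 : g = g⁻¹ := h1
  calc g ^ 2 = g * g := pow_two g
    _ = g * g⁻¹ := by rw [← h2]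
    _ = 1 := mul_inv_cancel g

/-- an automorphism of order 3. -/
def rho3 (C : Type*) [CommGroup C] : MulAut (C × C) where
  toFun x := (x.2⁻¹, x.1 * x.2⁻¹)
  invFun x := (x.1⁻¹ * x.2, x.1⁻¹)
  left_inv x := by
    apply Prod.ext
    · show (x.2⁻¹)⁻¹ * (x.1 * x.2⁻¹) = x.1
      rw [inv_inv, mul_comm x.1, mul_inv_cancel_left]
    · show (x.2⁻¹)⁻¹ = x.2
      rw [inv_inv]
  right_inv x := by
    apply Prod.ext
    · show (x.1⁻¹)⁻¹ = x.1
      rw [inv_inv]
    · show x.1⁻¹ * x.2 * (x.1⁻¹)⁻¹ = x.2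
      rw [inv_inv, mul_comm x.1⁻¹, mul_assoc, inv_mul_cancel, mul_one]
  map_mul' x y := by
    apply Prod.ext
    · show (x.2 * y.2)⁻¹ = x.2⁻¹ * y.2⁻¹
      rw [mul_inv]
    · show x.1 * y.1 * (x.2 * y.2)⁻¹ = x.1 * x.2⁻¹ * (y.1 * y.2⁻¹)
      rw [mul_inv, mul_mul_mul_comm]

theorem rho3_pow_three : rho3 C ^ 3 = 1 := by
  apply MulEquiv.ext
  intro x
  have e : (rho3 C ^ 3) x = rho3 C (rho3 C (rho3 C x)) := by
    simp [pow_succ, MulAut.mul_apply]
  rw [e]
  apply Prod.ext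
  · simp only [rho3, MulEquiv.coe_mk, Equiv.coe_fn_mk, MulAut.one_apply, mul_inv_rev, inv_inv]
    rw [inv_mul_cancel_right]
  · simp only [rho3, MulEquiv.coe_mk, Equiv.coe_fn_mk, MulAut.one_apply, mul_inv_rev, inv_inv]
    rw [inv_mul_cancel_right, inv_mul_cancel_right]

theorem rho3_ne_one {g : C} (hg : g ≠ 1) : rho3 C ≠ 1 := by
  intro h
  have h1 := congrArg (fun f : MulAut (C × C) => (f (1, g)).1) h
  simp only [rho3, MulEquiv.coe_mk, Equiv.coe_fn_mk, MulAut.one_apply] at h1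
  apply hg
  rw [← inv_inv g, h1, inv_one]

end autos

theorem not_comm_exp_of_split {G : Type*} [Group G] [Finite G] {p : ℕ} [hp : Fact p.Prime]
    (n : ℕ) (hn : 0 < n) (H₀ : Type) [CommGroup H₀]
    (ψ : G ≃* (Multiplicative (ZMod (p ^ n)) × Multiplicative (ZMod (p ^ n))) × H₀) :
    ∃ H : Subgroup (MulAut G), (Nat.card H).Coprime p ∧
      ¬ ((∀ a ∈ H, ∀ b ∈ H, a * b = b * a) ∧ ∀ h ∈ H, h ^ (p - 1) = 1) := by
  have hN2 : 2 ≤ p ^ n := by
    calc 2 ≤ p := hp.out.two_le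
      _ = p ^ 1 := (pow_one p).symm
      _ ≤ p ^ n := Nat.pow_le_pow_right hp.out.pos hn
  have hg1 : (Multiplicative.ofAdd (1 : ZMod (p ^ n))) ≠ 1 := by
    intro h
    have h1 : (1 : ZMod (p ^ n)) = 0 := h
    have h2 : ((1 : ℕ) : ZMod (p ^ n)) = 0 := by rw [Nat.cast_one]; exact h1
    rw [ZMod.natCast_eq_zero_iff] at h2
    have := Nat.le_of_dvd Nat.one_pos h2
    omega
  rcases eq_or_ne p 2 with hp2 | hp2
  · refine ⟨Subgroup.zpowers (liftAut ψ (rho3 _)), ?_, ?_⟩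
    · rw [Nat.card_zpowers]
      have h3 : (liftAut ψ (rho3 (Multiplicative (ZMod (p ^ n))))) ^ 3 = 1 := by
        rw [← map_pow, rho3_pow_three, map_one]
      have h2 : Nat.Coprime 3 p := by
        rw [hp2]; norm_num
      exact Nat.Coprime.coprime_dvd_left (orderOf_dvd_of_pow_eq_one h3) h2
    · rintro ⟨-, h2⟩
      have h3 := h2 _ (Subgroup.mem_zpowers _)
      have h4 : p - 1 = 1 := by rw [hp2]
      rw [h4, pow_one] at h3
      have h5 : rho3 (Multiplicative (ZMod (p ^ n))) = 1 := by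
        apply liftAut_injective ψ
        rw [h3, map_one]
      exact rho3_ne_one hg1 h5
  · have hp3 : 3 ≤ p := by
      have := hp.out.two_le
      omega
    have hN3 : 3 ≤ p ^ n := by
      calc 3 ≤ p := hp3
        _ = p ^ 1 := (pow_one p).symm
        _ ≤ p ^ n := Nat.pow_le_pow_right hp.out.pos hn
    have hg2 : (Multiplicative.ofAdd (1 : ZMod (p ^ n))) ^ 2 ≠ 1 := by
      intro h
      have h1 : (2 : ℕ) • (1 : ZMod (p ^ n)) = 0 := h
      have h2 : ((2 : ℕ) : ZMod (p ^ n)) = 0 := by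
        rw [nsmul_eq_mul, mul_one] at h1; exact h1
      rw [ZMod.natCast_eq_zero_iff] at h2
      have := Nat.le_of_dvd (by norm_num) h2
      omega
    refine ⟨(signedPerm _).map (liftAut ψ), ?_, ?_⟩
    · have hP : IsPGroup 2 ((signedPerm (Multiplicative (ZMod (p ^ n)))).map (liftAut ψ)) :=
        signedPerm_isPGroup.map _
      obtain ⟨k, hk⟩ := IsPGroup.iff_card.mp hP
      rw [hk]
      exact Nat.Coprime.pow_left k ((Nat.coprime_primes Nat.prime_two hp.out).mpr (Ne.symm hp2))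
    · rintro ⟨h1, -⟩
      have h3 := h1 _ (Subgroup.mem_map_of_mem _ swapA_mem) _ (Subgroup.mem_map_of_mem _ invL_mem)
      rw [← map_mul, ← map_mul] at h3
      exact swap_invL_ne hg2 (liftAut_injective ψ h3)

end Cfsg.Agent.h26Chain
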