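import Cfsg.Agent.Lib_helper25_NormalChar
import Cfsg.Agent.Lib_helper25_ChainNormal2
import Cfsg.Agent.Lib_helper25_Radical
import Cfsg.Prelude.Def_FusionComponents

set_option autoImplicit false

namespace Cfsg.Agent.h26Constr

open Cfsg Cfsg.FusionSystem Cfsg.Agent.helper25

variable {Ω : Type*} [Group Ω] {S : Subgroup Ω}

/-- automorphisms of `P` fixing `R` pointwise and acting trivially on `Q/R`. -/
def stab2 (P Q R : Subgroup Ω) : Subgroup (MulAut P) where
  carrier := {α | (∀ x : P, (x : Ω) ∈ R → α x = x) ∧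
    (∀ x : P, (x : Ω) ∈ Q → ((x⁻¹ * α x : P) : Ω) ∈ R)}
  one_mem' := ⟨fun x _ => rfl, fun x _ => by simp [R.one_mem]⟩
  mul_mem' := by
    rintro α β ⟨hα1, hα2⟩ ⟨hβ1, hβ2⟩
    refine ⟨fun x hx => ?_, fun x hx => ?_⟩
    · rw [MulAut.mul_apply, hβ1 x hx, hα1 x hx]
    · rw [MulAut.mul_apply]
      have hr := hβ2 x hx
      have e : β x = x * (x⁻¹ * β x) := by group
      rw [e, map_mul, hα1 _ hr]
      have e2 : x⁻¹ * (α x * (x⁻¹ * β x)) = (x⁻¹ * α x) * (x⁻¹ * β x) := by group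
      rw [e2]
      exact R.mul_mem (hα2 x hx) hr
  inv_mem' := by
    rintro α ⟨hα1, hα2⟩
    have hfix : ∀ x : P, (x : Ω) ∈ R → α⁻¹ x = x := by
      intro x hx
      have := hα1 x hx
      calc α⁻¹ x = α⁻¹ (α x) := by rw [this]
        _ = x := by simp
    refine ⟨hfix, fun x hx => ?_⟩
    have hr := hα2 x hx
    have e : x = α⁻¹ x * (x⁻¹ * α x) := by
      have h1 : α x = x * (x⁻¹ * α x) := by group
      have h2 : α⁻¹ (α x) = α⁻¹ x * α⁻¹ (x⁻¹ * α x) := by rw [← map_mul, ← h1]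
      rw [hfix _ hr] at h2
      simpa using h2
    have e2 : x⁻¹ * α⁻¹ x = (x⁻¹ * α x)⁻¹ := by
      have : α⁻¹ x = x * (x⁻¹ * α x)⁻¹ := by
        calc α⁻¹ x = α⁻¹ x * (x⁻¹ * α x) * (x⁻¹ * α x)⁻¹ := by group
          _ = x * (x⁻¹ * α x)⁻¹ := by rw [← e]
      rw [this]; group
    rw [e2]
    exact R.inv_mem hr

theorem pow_fix {P : Subgroup Ω} (α : MulAut P) {x r : P} (h1 : α x = x * r) (h2 : α r = r) (k : ℕ) :
    (α ^ k) x = x * r ^ k := by
  induction k with
  | zero => simp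
  | succ k ih =>
    rw [pow_succ', MulAut.mul_apply, ih, map_mul, map_pow, h2, h1, pow_succ', mul_assoc]

theorem stab2_pow_eq_one {P Q R : Subgroup Ω} [Finite P] (hRQ : R ≤ Q) (hQP : Q ≤ P)
    (hnorm : P ≤ Subgroup.normalizer (Q : Set Ω))
    (hcent : ∀ z : P, (∀ q : P, (q : Ω) ∈ Q → z * q = q * z) → (z : Ω) ∈ Q)
    {α : MulAut P} (hα : α ∈ stab2 P Q R) : α ^ (Nat.card R * Nat.card Q) = 1 := by
  obtain ⟨h1, h2⟩ := hα
  have : Finite Q := Finite.of_injective (Subgroup.inclusion hQP) (Subgroup.inclusion_injective hQP)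
  have : Finite R := Finite.of_injective (Subgroup.inclusion (hRQ.trans hQP))
    (Subgroup.inclusion_injective (hRQ.trans hQP))
  have hpowmem : ∀ (X : Subgroup Ω) [Finite X] (z : P), (z : Ω) ∈ X → z ^ Nat.card X = 1 := by
    intro X _ z hz
    apply Subtype.ext
    have h := pow_card_eq_one' (G := X) (x := ⟨z, hz⟩)
    have h' : (((⟨z, hz⟩ : X) ^ Nat.card X : X) : Ω) = ((1 : X) : Ω) := congrArg Subtype.val h
    rw [Subgroup.coe_pow, Subgroup.coe_one] at h'
    rw [Subgroup.coe_pow, Subgroup.coe_one]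
    exact h'
  have hγQ : ∀ x : P, (x : Ω) ∈ Q → (α ^ Nat.card R) x = x := by
    intro x hx
    have hr := h2 x hx
    have e : α x = x * (x⁻¹ * α x) := by group
    rw [pow_fix α e (h1 _ hr), hpowmem R _ hr, mul_one]
  have hγ : ∀ x : P, ((α ^ Nat.card R) ^ Nat.card Q) x = x := by
    intro x
    set γ := α ^ Nat.card R with hγdef
    have hz : ((x⁻¹ * γ x : P) : Ω) ∈ Q := by
      apply hcent
      intro q hq
      have hxq : ((x * q * x⁻¹ : P) : Ω) ∈ Q :=
        (Subgroup.mem_normalizer_iff.mp (hnorm x.2) q).mp hq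
      have e1 : γ (x * q * x⁻¹) = x * q * x⁻¹ := hγQ _ hxq
      rw [map_mul, map_mul, map_inv, hγQ q hq] at e1
      -- γ x * q * (γ x)⁻¹ = x * q * x⁻¹
      have e2 : x⁻¹ * γ x * q = x⁻¹ * (γ x * q * (γ x)⁻¹) * γ x := by group
      rw [e2, e1]; group
    have e : γ x = x * (x⁻¹ * γ x) := by group
    rw [pow_fix γ e (hγQ _ hz), hpowmem Q _ hz, mul_one]
  ext x
  rw [pow_mul, hγ x]
  rfl

theorem stab2_isPGroup {p : ℕ} [Fact p.Prime] {P Q R : Subgroup Ω} [Finite P] (hP : IsPGroup p P)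
    (hRQ : R ≤ Q) (hQP : Q ≤ P) (hnorm : P ≤ Subgroup.normalizer (Q : Set Ω))
    (hcent : ∀ z : P, (∀ q : P, (q : Ω) ∈ Q → z * q = q * z) → (z : Ω) ∈ Q) :
    IsPGroup p (stab2 P Q R) := by
  have : Finite Q := Finite.of_injective (Subgroup.inclusion hQP) (Subgroup.inclusion_injective hQP)
  have : Finite R := Finite.of_injective (Subgroup.inclusion (hRQ.trans hQP))
    (Subgroup.inclusion_injective (hRQ.trans hQP))
  obtain ⟨a, ha⟩ := IsPGroup.iff_card.mp (hP.to_le (hRQ.trans hQP))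
  obtain ⟨b, hb⟩ := IsPGroup.iff_card.mp (hP.to_le hQP)
  intro α
  refine ⟨a + b, ?_⟩
  apply Subtype.ext
  have := stab2_pow_eq_one hRQ hQP hnorm hcent α.2
  rw [ha, hb, ← pow_add] at this
  simpa using this

theorem stab2_normal {P Q R : Subgroup Ω} (A : Subgroup (MulAut P))
    (hQ : ∀ δ ∈ A, ∀ x : P, (x : Ω) ∈ Q → ((δ x : P) : Ω) ∈ Q)
    (hR : ∀ δ ∈ A, ∀ x : P, (x : Ω) ∈ R → ((δ x : P) : Ω) ∈ R) :
    ((stab2 P Q R).subgroupOf A).Normal := by
  constructor
  intro n hn g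
  rw [Subgroup.mem_subgroupOf] at hn ⊢
  obtain ⟨h1, h2⟩ := hn
  have hginv : (g : MulAut P)⁻¹ ∈ A := A.inv_mem g.2
  show ((g : MulAut P) * (n : MulAut P) * (g : MulAut P)⁻¹) ∈ stab2 P Q R
  refine ⟨fun x hx => ?_, fun x hx => ?_⟩
  · have h3 := h1 ((g : MulAut P)⁻¹ x) (hR _ hginv x hx)
    rw [MulAut.mul_apply, MulAut.mul_apply, h3]
    simp
  · have hy := hQ _ hginv x hx
    have hr := h2 _ hy
    have hgr := hR _ g.2 _ hr
    have e : (((g : MulAut P) * (n : MulAut P) * (g : MulAut P)⁻¹) x) =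
        x * (g : MulAut P) (((g : MulAut P)⁻¹ x)⁻¹ * (n : MulAut P) ((g : MulAut P)⁻¹ x)) := by
      rw [MulAut.mul_apply, MulAut.mul_apply, map_mul, map_inv]
      simp
    rw [e]
    have e2 : x⁻¹ * (x * (g : MulAut P) (((g : MulAut P)⁻¹ x)⁻¹ *
        (n : MulAut P) ((g : MulAut P)⁻¹ x))) =
        (g : MulAut P) (((g : MulAut P)⁻¹ x)⁻¹ * (n : MulAut P) ((g : MulAut P)⁻¹ x)) := by group
    rw [e2]
    exact hgr

/-- in a saturated system whose core `Q` is centric, for `U` strongly closed: `C_U(Q ⊓ U) ≤ Q`. -/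
theorem centralizer_le_core [Finite S] {p : ℕ} [Fact p.Prime] (hS : IsPGroup p S)
    (F : FusionSystem S) (hF : F.IsSaturated p) (hQc : centralizerIn S F.core ≤ F.core)
    {U : Subgroup Ω} (hU : F.StronglyClosed U) :
    centralizerIn U (F.core ⊓ U) ≤ F.core := by
  have hQ : F.IsNormal F.core := isNormal_core F
  have hQsc := isNormal_stronglyClosed F hQ
  have hQS : F.core ≤ S := hQ.1
  have hUS : U ≤ S := hU.1
  have hRsc : F.StronglyClosed (F.core ⊓ U) :=
    ⟨inf_le_left.trans hQS, fun P hP φ hφ x =>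
      ⟨hQsc.2 P (hP.trans inf_le_left) φ hφ x, hU.2 P (hP.trans inf_le_right) φ hφ x⟩⟩
  have hSNQ := isNormal_le_normalizer F hQ
  have hSNU := stronglyClosed_le_normalizer F hU
  have hSNR := stronglyClosed_le_normalizer F hRsc
  have hYS : centralizerIn U (F.core ⊓ U) ≤ S := inf_le_left.trans hUS
  have hSNY : S ≤ Subgroup.normalizer ((centralizerIn U (F.core ⊓ U) : Subgroup Ω) : Set Ω) := by
    intro s hs
    rw [Subgroup.mem_normalizer_iff]
    have key : ∀ t ∈ S, ∀ y ∈ centralizerIn U (F.core ⊓ U),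
        t * y * t⁻¹ ∈ centralizerIn U (F.core ⊓ U) := by
      intro t ht y hy
      refine ⟨(Subgroup.mem_normalizer_iff.mp (hSNU ht) y).mp hy.1, ?_⟩
      apply Subgroup.mem_centralizer_iff.mpr
      intro r hr
      have hr' : t⁻¹ * r * t⁻¹⁻¹ ∈ F.core ⊓ U :=
        (Subgroup.mem_normalizer_iff.mp (hSNR (S.inv_mem ht)) r).mp hr
      have hc := Subgroup.mem_centralizer_iff.mp hy.2 _ hr'
      have e1 : r * (t * y * t⁻¹) = t * ((t⁻¹ * r * t⁻¹⁻¹) * y) * t⁻¹ := by group
      rw [e1, hc]; group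
    intro y
    constructor
    · exact key s hs y
    · intro hy
      have := key s⁻¹ (S.inv_mem hs) _ hy
      have e : s⁻¹ * (s * y * s⁻¹) * s⁻¹⁻¹ = y := by group
      rwa [e] at this
  have hnormal : F.IsNormal (F.core ⊔ centralizerIn U (F.core ⊓ U)) := by
    rw [isNormal_iff_essential hS F hF]
    intro P hP
    have hPS : P ≤ S := by
      rcases hP with rfl | hP
      · exact le_rfl
      · exact hP.1.1
    have : Finite P := finite_of_le S hPS
    obtain ⟨hQP, -⟩ := (isNormal_iff_essential hS F hF F.core).mp hQ P hP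
    have hYP : centralizerIn U (F.core ⊓ U) ≤ P := by
      rcases hP with rfl | hess
      · exact hYS
      · have hrad := isRadical_of_isEssential hS F hess
        apply le_of_normalizer_inf_le hS hPS hYS hSNY
        rintro y ⟨hyY, hyN⟩
        have hyS : y ∈ S := hYS hyY
        have hyNS : y ∈ normalizerIn S P := ⟨hyS, hyN⟩
        have hαF : normAut P y hyN ∈ F.autGroup P :=
          autInducedBy_le_autGroup F hPS (normAut_mem S P hyNS)
        have hαst : normAut P y hyN ∈ stab2 P F.core (F.core ⊓ U) := by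
          refine ⟨fun x hx => ?_, fun x hx => ?_⟩
          · apply Subtype.ext
            show y * (x : Ω) * y⁻¹ = x
            have hc := Subgroup.mem_centralizer_iff.mp hyY.2 _ hx
            rw [← hc]; group
          · show (x : Ω)⁻¹ * (y * (x : Ω) * y⁻¹) ∈ F.core ⊓ U
            refine ⟨F.core.mul_mem (F.core.inv_mem hx)
              ((Subgroup.mem_normalizer_iff.mp (hSNQ hyS) _).mp hx), ?_⟩
            have hxS : (x : Ω) ∈ S := hPS x.2
            have h1 : (x : Ω)⁻¹ * y * (x : Ω)⁻¹⁻¹ ∈ U :=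
              (Subgroup.mem_normalizer_iff.mp (hSNU (S.inv_mem hxS)) y).mp hyY.1
            have e : (x : Ω)⁻¹ * (y * (x : Ω) * y⁻¹) = ((x : Ω)⁻¹ * y * (x : Ω)⁻¹⁻¹) * y⁻¹ := by group
            rw [e]
            exact U.mul_mem h1 (U.inv_mem hyY.1)
        have hKn : ((stab2 P F.core (F.core ⊓ U)).subgroupOf (F.autGroup P)).Normal :=
          stab2_normal (F.autGroup P)
            (fun δ hδ x hx => stronglyClosed_aut_mem F hQsc hPS hδ hx)
            (fun δ hδ x hx => stronglyClosed_aut_mem F hRsc hPS hδ hx)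
        have hKp : IsPGroup p ((stab2 P F.core (F.core ⊓ U)).subgroupOf (F.autGroup P)) := by
          apply isPGroup_subgroupOf
          apply stab2_isPGroup (hS.to_le hPS) inf_le_left hQP (hPS.trans hSNQ)
          intro z hz
          apply hQc
          refine ⟨hPS z.2, Subgroup.mem_centralizer_iff.mpr ?_⟩
          intro q hq
          exact (congrArg Subtype.val (hz ⟨q, hQP hq⟩ hq)).symm
        have hKle : (stab2 P F.core (F.core ⊓ U)).subgroupOf (F.autGroup P) ≤
            pCore p (F.autGroup P) := le_sSup ⟨hKn, hKp⟩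
        have hmem : (⟨normAut P y hyN, hαF⟩ : F.autGroup P) ∈ pCore p (F.autGroup P) :=
          hKle (Subgroup.mem_subgroupOf.mpr hαst)
        have hinn : normAut P y hyN ∈ Inn P := by
          rw [← hrad.2]
          exact ⟨_, hmem, rfl⟩
        exact mem_of_normAut_mem_inn F hess.1 hyNS hinn
    refine ⟨sup_le hQP hYP, ?_⟩
    intro α hα
    apply map_aut_eq_of_forall (F.autGroup P) _ _ hα
    intro β hβ z hz
    have hz' : (z : Ω) ∈ F.core ⊔ centralizerIn U (F.core ⊓ U) := Subgroup.mem_subgroupOf.mp hz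
    have hle : F.core ⊔ centralizerIn U (F.core ⊓ U) ≤
        (((F.core ⊔ centralizerIn U (F.core ⊓ U)).subgroupOf P).comap β.toMonoidHom).map
          P.subtype := by
      apply sup_le
      · intro x hx
        refine ⟨⟨x, hQP hx⟩, ?_, rfl⟩
        show ((β ⟨x, hQP hx⟩ : P) : Ω) ∈ F.core ⊔ centralizerIn U (F.core ⊓ U)
        exact (le_sup_left : F.core ≤ _) (stronglyClosed_aut_mem F hQsc hPS hβ hx)
      · intro y hy
        refine ⟨⟨y, hYP hy⟩, ?_, rfl⟩
        show ((β ⟨y, hYP hy⟩ : P) : Ω) ∈ F.core ⊔ centralizerIn U (F.core ⊓ U)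
        apply (le_sup_right : centralizerIn U (F.core ⊓ U) ≤ _)
        refine ⟨stronglyClosed_aut_mem F hU hPS hβ hy.1, ?_⟩
        apply Subgroup.mem_centralizer_iff.mpr
        intro r hr
        have hrP : r ∈ P := hQP hr.1
        have hr' : ((β⁻¹ ⟨r, hrP⟩ : P) : Ω) ∈ F.core ⊓ U :=
          stronglyClosed_aut_mem F hRsc hPS (inv_mem hβ) hr
        have hc := Subgroup.mem_centralizer_iff.mp hy.2 _ hr'
        have hc' : β⁻¹ ⟨r, hrP⟩ * ⟨y, hYP hy⟩ = ⟨y, hYP hy⟩ * β⁻¹ ⟨r, hrP⟩ := Subtype.ext hc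
        have h2 := congrArg β hc'
        rw [map_mul, map_mul, MulAut.apply_inv_self] at h2
        exact congrArg Subtype.val h2
    obtain ⟨z', hz'm, hz'z⟩ := hle hz'
    have : z' = z := Subtype.ext hz'z
    rw [← this]
    exact hz'm
  have hle : F.core ⊔ centralizerIn U (F.core ⊓ U) ≤ F.core := le_sSup hnormal
  exact le_sup_right.trans hle

/-- a normal subsystem of a constrained system is constrained. -/
theorem isConstrained_of_isNormalIn [Finite S] {p : ℕ} [Fact p.Prime] (hS : IsPGroup p S)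
    (F : FusionSystem S) (hFc : F.IsConstrained p) {U : Subgroup Ω} (D : FusionSystem U)
    (hD : D.IsNormalIn F p) : D.IsConstrained p := by
  obtain ⟨hF, Q₀, hQ₀n, hQ₀c⟩ := hFc
  have hQ₀le : Q₀ ≤ F.core := le_sSup hQ₀n
  have hQc : centralizerIn S F.core ≤ F.core := by
    intro x hx
    apply hQ₀le
    apply hQ₀c.2 Q₀ (isConj_refl F hQ₀c.1)
    exact ⟨hx.1, Subgroup.centralizer_le (SetLike.coe_subset_coe.mpr hQ₀le) hx.2⟩
  obtain ⟨⟨hDsat, -, hsub, hUsc, -, -⟩, -⟩ := hD
  have hUS : U ≤ S := hUsc.1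
  have : Finite U := finite_of_le S hUS
  have hUp : IsPGroup p U := hS.to_le hUS
  have hRD : D.IsNormal (F.core ⊓ U) := by
    rw [isNormal_iff_chain hUp D hDsat]
    obtain ⟨n, Qs, h0, hlast, hmono, hstep⟩ :=
      (isNormal_iff_chain hS F hF F.core).mp (isNormal_core F)
    refine ⟨n, fun i => Qs i ⊓ U, ?_, ?_, fun i j hij => inf_le_inf_right U (hmono hij),
      fun i => ⟨?_, ?_⟩⟩
    · show Qs 0 ⊓ U = ⊥
      rw [h0]; exact bot_inf_eq _
    · show Qs (Fin.last n) ⊓ U = F.core ⊓ U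
      rw [hlast]
    · refine ⟨inf_le_right, fun P hP φ hφ x => ⟨?_, (D.le_of_mem hφ).2 x⟩⟩
      exact (hstep i).1.2 P (hP.trans inf_le_left) φ (hsub P hφ) x
    · apply le_inf
      · exact (Subgroup.commutator_mono inf_le_left inf_le_left).trans (hstep i).2
      · apply (Subgroup.commutator_mono (inf_le_right : F.core ⊓ U ≤ U)
          (inf_le_right : Qs i.succ ⊓ U ≤ U)).trans
        rw [Subgroup.commutator_le]
        intro a ha b hb
        exact U.mul_mem (U.mul_mem (U.mul_mem ha hb) (U.inv_mem ha)) (U.inv_mem hb)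
  refine ⟨hDsat, F.core ⊓ U, hRD, inf_le_right, ?_⟩
  intro R' hconj
  have hRsc := isNormal_stronglyClosed D hRD
  have hR'R : R' = F.core ⊓ U := by
    obtain ⟨φ, hφ, hr⟩ := hconj
    have hle : R' ≤ F.core ⊓ U := by
      rw [← hr]
      rintro _ ⟨x, rfl⟩
      exact hRsc.2 _ le_rfl φ hφ x
    have : Finite ↥(F.core ⊓ U) := finite_of_le U inf_le_right
    apply Subgroup.eq_of_le_of_card_ge hle
    rw [← hr]
    exact (Nat.card_congr (MonoidHom.ofInjective (D.injective_of_mem hφ)).toEquiv).le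
  rw [hR'R]
  intro x hx
  exact ⟨centralizer_le_core hS F hF hQc hUsc hx, hx.1⟩

/-- a subnormal subsystem of a constrained system is constrained. -/
theorem isConstrained_of_isSubnormalIn {p : ℕ} {T S' : Subgroup Ω} {E : FusionSystem T}
    {F : FusionSystem S'} (h : E.IsSubnormalIn F p) :
    Fact p.Prime → Finite S' → IsPGroup p S' → F.IsConstrained p → E.IsConstrained p := by
  induction h with
  | refl F p => intro _ _ _ h; exact h
  | step hED hDF ih =>
    intro hp hfin hS hF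
    have hUS := hDF.1.2.2.2.1.1
    exact ih hp (finite_of_le _ hUS) (hS.to_le hUS) (isConstrained_of_isNormalIn hS _ hF _ hDF)

end Cfsg.Agent.h26Constr
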