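import Cfsg.Agent.Lib_helper26_AbIdxI
import Cfsg.Agent.Lib_helper26_AbIdxF
import Cfsg.Agent.Lib_helper26_EssGen
import Cfsg.Agent.Lib_helper25_NormalChar
import Cfsg.Agent.Lib_helper25_Focal

set_option autoImplicit false
set_option linter.style.haveILetI false

namespace Cfsg.Agent.h26Cp2

open Cfsg Cfsg.FusionSystem Cfsg.Agent.helper25

variable {Ω : Type*} [Group Ω] {S : Subgroup Ω}

/-- the centre of `S`, as a subgroup of the ambient group. -/
abbrev Zs (S : Subgroup Ω) : Subgroup Ω := S ⊓ Subgroup.centralizer (S : Set Ω)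

theorem mem_Zs {x : Ω} : x ∈ Zs S ↔ x ∈ S ∧ ∀ s ∈ S, s * x = x * s := by
  constructor
  · intro h; exact ⟨h.1, fun s hs => Subgroup.mem_centralizer_iff.mp h.2 s hs⟩
  · intro h; exact ⟨h.1, Subgroup.mem_centralizer_iff.mpr h.2⟩

theorem Zs_eq_map_center : Zs S = (Subgroup.center ↥S).map S.subtype := by
  ext x
  constructor
  · intro h
    have hx : x ∈ S := h.1
    refine ⟨⟨x, hx⟩, ?_, rfl⟩
    show (⟨x, hx⟩ : ↥S) ∈ Subgroup.center ↥S
    rw [Subgroup.mem_center_iff]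
    intro g
    apply Subtype.ext
    exact Subgroup.mem_centralizer_iff.mp h.2 g g.2
  · rintro ⟨y, hy, rfl⟩
    refine ⟨y.2, Subgroup.mem_centralizer_iff.mpr fun s hs => ?_⟩
    exact congrArg Subtype.val (Subgroup.mem_center_iff.mp hy ⟨s, hs⟩)

theorem card_Zs : Nat.card (Zs S) = Nat.card (Subgroup.center ↥S) := by
  rw [Zs_eq_map_center]
  exact Subgroup.card_map_of_injective (Subgroup.subtype_injective S)

theorem relIndex_Zs : (Zs S).relIndex S = (Subgroup.center ↥S).index := by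
  rw [Zs_eq_map_center]
  unfold Subgroup.relIndex Subgroup.subgroupOf
  rw [Subgroup.comap_map_eq_self_of_injective (Subgroup.subtype_injective S)]

theorem card_S_eq [Finite S] : Nat.card S = Nat.card (Zs S) * (Subgroup.center ↥S).index := by
  rw [card_Zs]
  exact (Subgroup.card_mul_index _).symm

theorem not_comm [Finite S] {p : ℕ} [Fact p.Prime] (hS : IsPGroup p S) (F : FusionSystem S)
    (hF : F.IsSaturated p) (hS1 : S ≠ ⊥) (hcore : F.core = ⊥) : ¬ IsMulCommutative ↥S := by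
  intro hc
  have hn : F.IsNormal S := by
    rw [isNormal_iff_essential hS F hF]
    intro P hP
    have hPS : P ≤ S := by
      rcases hP with rfl | hP
      · exact le_rfl
      · exact hP.1.1
    have hSP : S ≤ P := by
      rcases hP with rfl | hP
      · exact le_rfl
      · have hcentric : centralizerIn S P ≤ P := hP.1.2 P (isConj_refl F hPS)
        intro s hs
        apply hcentric
        refine ⟨hs, Subgroup.mem_centralizer_iff.mpr fun y hy => ?_⟩
        exact congrArg Subtype.val (hc.is_comm.comm ⟨y, hPS hy⟩ ⟨s, hs⟩)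
    refine ⟨hSP, fun α _ => ?_⟩
    have h1 : S.subgroupOf P = ⊤ := Subgroup.subgroupOf_eq_top.mpr hPS
    rw [h1]
    exact Subgroup.map_top_of_surjective _ α.surjective
  have hle : S ≤ F.core := le_sSup hn
  rw [hcore] at hle
  exact hS1 (le_bot_iff.mp hle)

theorem index_center [Finite S] {p : ℕ} [hp : Fact p.Prime] (hS : IsPGroup p S)
    (hna : ¬ IsMulCommutative ↥S) (hZ : (Subgroup.center ↥S).index ≤ p ^ 2) :
    (Subgroup.center ↥S).index = p ^ 2 := by
  obtain ⟨k, hk⟩ := hS.index (Subgroup.center ↥S)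
  rw [hk] at hZ ⊢
  have hk2 : k ≤ 2 := (Nat.pow_le_pow_iff_right hp.out.one_lt).mp hZ
  by_contra hne
  have hk1 : k ≤ 1 := by
    rcases Nat.lt_or_ge k 2 with h | h
    · omega
    · exfalso; apply hne
      have : k = 2 := le_antisymm hk2 h
      rw [this]
  have hcard : Nat.card (↥S ⧸ Subgroup.center ↥S) = p ^ k := by
    rw [← Subgroup.index_eq_card, hk]
  haveI : IsCyclic (↥S ⧸ Subgroup.center ↥S) := by
    interval_cases k
    · rw [pow_zero] at hcard
      haveI := (Nat.card_eq_one_iff_unique.mp hcard).1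
      exact isCyclic_of_subsingleton
    · rw [pow_one] at hcard
      exact isCyclic_of_prime_card hcard
  apply hna
  exact ⟨⟨fun a b => commutative_of_cyclic_center_quotient
    (QuotientGroup.mk' (Subgroup.center ↥S)) (by rw [QuotientGroup.ker_mk']) a b⟩⟩

theorem comm_mem_Zs [Finite S] {p : ℕ} [hp : Fact p.Prime]
    (hidx : (Subgroup.center ↥S).index = p ^ 2) {a b : Ω} (ha : a ∈ S) (hb : b ∈ S) :
    a * b * a⁻¹ * b⁻¹ ∈ Zs S := by
  have hcard : Nat.card (↥S ⧸ Subgroup.center ↥S) = p ^ 2 := by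
    rw [← Subgroup.index_eq_card, hidx]
  have hc := IsPGroup.commutative_of_card_eq_prime_sq hcard
  set a' : ↥S := ⟨a, ha⟩ with ha'
  set b' : ↥S := ⟨b, hb⟩ with hb'
  have h1 : ((a' * b' * a'⁻¹ * b'⁻¹ : ↥S) : ↥S ⧸ Subgroup.center ↥S) = 1 := by
    simp only [QuotientGroup.mk_mul, QuotientGroup.mk_inv]
    rw [hc (QuotientGroup.mk a') (QuotientGroup.mk b')]
    group
  rw [QuotientGroup.eq_one_iff] at h1
  rw [Zs_eq_map_center]
  exact ⟨_, h1, rfl⟩

theorem comm_le_Zs [Finite S] {p : ℕ} [hp : Fact p.Prime]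
    (hidx : (Subgroup.center ↥S).index = p ^ 2) : ⁅S, S⁆ ≤ Zs S := by
  rw [Subgroup.commutator_le]
  intro a ha b hb
  rw [commutatorElement_def]
  exact comm_mem_Zs hidx ha hb

theorem mid_props [Finite S] {p : ℕ} [hp : Fact p.Prime]
    (hidx : (Subgroup.center ↥S).index = p ^ 2) {M : Subgroup Ω} (hZM : Zs S ≤ M) (hMS : M ≤ S)
    (hMZ : M ≠ Zs S) (hMne : M ≠ S) :
    (Zs S).relIndex M = p ∧ M.relIndex S = p := by
  have h1 : (Zs S).relIndex M * M.relIndex S = (Zs S).relIndex S :=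
    Subgroup.relIndex_mul_relIndex _ _ _ hZM hMS
  rw [relIndex_Zs, hidx] at h1
  have ha : (Zs S).relIndex M ≠ 1 :=
    fun h => hMZ (le_antisymm (Subgroup.relIndex_eq_one.mp h) hZM)
  have hb : M.relIndex S ≠ 1 :=
    fun h => hMne (le_antisymm hMS (Subgroup.relIndex_eq_one.mp h))
  have hdvd : (Zs S).relIndex M ∣ p ^ 2 := Dvd.intro _ h1
  obtain ⟨i, hi, hi2⟩ := (Nat.dvd_prime_pow hp.out).mp hdvd
  interval_cases i
  · exact absurd (by simpa using hi2) ha
  · rw [pow_one] at hi2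
    rw [hi2] at h1 ⊢
    refine ⟨rfl, ?_⟩
    have : p * M.relIndex S = p * p := by rw [h1, sq]
    exact Nat.eq_of_mul_eq_mul_left hp.out.pos this
  · exfalso
    rw [hi2] at h1
    apply hb
    have : p ^ 2 * M.relIndex S = p ^ 2 * 1 := by rw [h1, mul_one]
    exact Nat.eq_of_mul_eq_mul_left (pow_pos hp.out.pos 2) this

theorem Zs_subgroupOf_normal {M : Subgroup Ω} (hMS : M ≤ S) : ((Zs S).subgroupOf M).Normal := by
  refine ⟨fun n hn g => ?_⟩
  have hnZ : (n : Ω) ∈ Zs S := Subgroup.mem_subgroupOf.mp hn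
  have : g * n * g⁻¹ = n := by
    apply Subtype.ext
    show (g : Ω) * n * (g : Ω)⁻¹ = n
    rw [Subgroup.mem_centralizer_iff.mp hnZ.2 g (hMS g.2)]
    group
  rw [this]; exact hn

theorem mid_comm [Finite S] {p : ℕ} [hp : Fact p.Prime] {M : Subgroup Ω}
    (hMS : M ≤ S) (hrel : (Zs S).relIndex M = p) : ∀ a ∈ M, ∀ b ∈ M, a * b = b * a := by
  haveI := Zs_subgroupOf_normal (S := S) hMS
  have hcard : Nat.card (↥M ⧸ (Zs S).subgroupOf M) = p := by
    rw [← Subgroup.index_eq_card]; exact hrel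
  haveI : IsCyclic (↥M ⧸ (Zs S).subgroupOf M) := isCyclic_of_prime_card hcard
  have hker : (QuotientGroup.mk' ((Zs S).subgroupOf M)).ker ≤ Subgroup.center ↥M := by
    rw [QuotientGroup.ker_mk']
    intro n hn
    rw [Subgroup.mem_center_iff]
    intro g
    apply Subtype.ext
    exact Subgroup.mem_centralizer_iff.mp (Subgroup.mem_subgroupOf.mp hn).2 g (hMS g.2)
  intro a ha b hb
  exact congrArg Subtype.val (commutative_of_cyclic_center_quotient _ hker ⟨a, ha⟩ ⟨b, hb⟩)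

theorem ess_mid [Finite S] {p : ℕ} [Fact p.Prime] (hS : IsPGroup p S) (F : FusionSystem S)
    (hF : F.IsSaturated p) (hna : ¬ IsMulCommutative ↥S) {P : Subgroup Ω}
    (hP : F.IsEssential p P) : Zs S ≤ P ∧ P ≤ S ∧ P ≠ Zs S ∧ P ≠ S := by
  have hPS : P ≤ S := hP.1.1
  have hcentric : centralizerIn S P ≤ P := hP.1.2 P (isConj_refl F hPS)
  have hZP : Zs S ≤ P := by
    intro z hz
    apply hcentric
    exact ⟨hz.1, Subgroup.centralizer_le (show (P : Set Ω) ⊆ S from hPS) hz.2⟩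
  refine ⟨hZP, hPS, ?_, ?_⟩
  · intro hPZ
    apply hna
    have hSle : S ≤ Zs S := by
      intro s hs
      rw [← hPZ]
      apply hcentric
      refine ⟨hs, Subgroup.mem_centralizer_iff.mpr fun y hy => ?_⟩
      rw [hPZ] at hy
      exact (Subgroup.mem_centralizer_iff.mp hy.2 s hs).symm
    exact ⟨⟨fun a b => Subtype.ext
      ((Subgroup.mem_centralizer_iff.mp (hSle b.2).2 a a.2))⟩⟩
  · rintro rfl
    exact Cfsg.Agent.h26EssGen.essential_ne_top hS F hF hP

theorem cent_mid {y : Ω} (hy : y ∈ S) (hyZ : y ∉ Zs S) :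
    Zs S ≤ S ⊓ Subgroup.centralizer {y} ∧ S ⊓ Subgroup.centralizer {y} ≤ S ∧
      S ⊓ Subgroup.centralizer {y} ≠ Zs S ∧ S ⊓ Subgroup.centralizer {y} ≠ S ∧
      y ∈ S ⊓ Subgroup.centralizer {y} := by
  have hy' : y ∈ S ⊓ Subgroup.centralizer {y} :=
    ⟨hy, Subgroup.mem_centralizer_singleton_iff.mpr rfl⟩
  refine ⟨?_, inf_le_left, ?_, ?_, hy'⟩
  · intro z hz
    refine ⟨hz.1, Subgroup.mem_centralizer_singleton_iff.mpr ?_⟩
    exact (Subgroup.mem_centralizer_iff.mp hz.2 y hy).symm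
  · intro h
    rw [h] at hy'
    exact hyZ hy'
  · intro h
    apply hyZ
    refine ⟨hy, Subgroup.mem_centralizer_iff.mpr fun s hs => ?_⟩
    have hs' : s ∈ S ⊓ Subgroup.centralizer {y} := by rw [h]; exact hs
    exact Subgroup.mem_centralizer_singleton_iff.mp hs'.2

theorem pow_mem_Zs [Finite S] {p : ℕ} [hp : Fact p.Prime]
    (hidx : (Subgroup.center ↥S).index = p ^ 2) {x : Ω} (hx : x ∈ S) : x ^ p ∈ Zs S := by
  by_cases hxZ : x ∈ Zs S
  · exact Subgroup.pow_mem _ hxZ p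
  · obtain ⟨h1, h2, h3, h4, h5⟩ := cent_mid hx hxZ
    obtain ⟨hrel, _⟩ := mid_props hidx h1 h2 h3 h4
    haveI := Zs_subgroupOf_normal (S := S) h2
    have hcard : Nat.card (↥(S ⊓ Subgroup.centralizer {x}) ⧸
        (Zs S).subgroupOf (S ⊓ Subgroup.centralizer {x})) = p := by
      rw [← Subgroup.index_eq_card]; exact hrel
    have h6 : ((⟨x, h5⟩ : ↥(S ⊓ Subgroup.centralizer {x})) :
        ↥(S ⊓ Subgroup.centralizer {x}) ⧸ (Zs S).subgroupOf (S ⊓ Subgroup.centralizer {x})) ^ p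
        = 1 := by
      rw [← hcard]; exact pow_card_eq_one'
    rw [← QuotientGroup.mk_pow, QuotientGroup.eq_one_iff] at h6
    have h7 := Subgroup.mem_subgroupOf.mp h6
    simpa using h7

/-- the commutator subgroup has order `p`. -/
theorem card_comm [Finite S] {p : ℕ} [hp : Fact p.Prime] (hS : IsPGroup p S)
    (hna : ¬ IsMulCommutative ↥S) (hidx : (Subgroup.center ↥S).index = p ^ 2) :
    Nat.card ↥⁅S, S⁆ = p := by
  -- a noncentral element
  have hex : ∃ y ∈ S, y ∉ Zs S := by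
    by_contra hcon
    push Not at hcon
    apply hna
    exact ⟨⟨fun a b => Subtype.ext (Subgroup.mem_centralizer_iff.mp (hcon b b.2).2 a a.2)⟩⟩
  obtain ⟨y, hy, hyZ⟩ := hex
  obtain ⟨h1, h2, h3, h4, h5⟩ := cent_mid hy hyZ
  obtain ⟨hrel, hrel2⟩ := mid_props hidx h1 h2 h3 h4
  have hc := mid_comm (p := p) h2 hrel
  have hAc : IsMulCommutative ↥(S ⊓ Subgroup.centralizer {y}) :=
    ⟨⟨fun a b => Subtype.ext (hc a a.2 b b.2)⟩⟩
  have h := Cfsg.Agent.h26AbIdx.setup_of hS hna h2 hAc hrel2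
  obtain ⟨x, hxS, hxA⟩ := h.exists_not_mem
  rw [← h.index_Z_A hxS hxA]
  exact hrel

end Cfsg.Agent.h26Cp2
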