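import Cfsg.Agent.Lib_helper26_EssP2
import Cfsg.Agent.Lib_helper25_Radical

set_option autoImplicit false

namespace Cfsg.Agent.h26EssP2

open Cfsg Cfsg.FusionSystem Cfsg.Agent.helper25

variable {Ω : Type*} [Group Ω] {S : Subgroup Ω}

theorem essential_p2 [Finite S] {p : ℕ} [hp : Fact p.Prime] (hS : IsPGroup p S)
    (F : FusionSystem S) (H : Subgroup Ω) (hH : F.IsEssential p H)
    (hcard : Nat.card H = p ^ 2) :
    Cfsg.IsElementaryAbelian p H ∧
      ∃ K : Subgroup ↥(F.autGroup H),
        Nonempty (↥K ≃* Matrix.SpecialLinearGroup (Fin 2) (ZMod p)) := by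
  have hHS : H ≤ S := hH.1.1
  have : Finite H := finite_of_le S hHS
  have hc : ∀ a b : H, a * b = b * a := IsPGroup.commutative_of_card_eq_prime_sq hcard
  have hInn : Inn H = ⊥ := by
    rw [MonoidHom.range_eq_bot_iff]
    ext g x
    show ((g * x * g⁻¹ : H) : Ω) = x
    rw [hc g x]; simp
  have hrad := isRadical_of_isEssential hS F hH
  have hpc : pCore p (F.autGroup H) = ⊥ := by
    have h1 := hrad.2
    rw [hInn] at h1
    exact (Subgroup.map_eq_bot_iff_of_injective _ (Subgroup.subtype_injective _)).mp h1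
  have hcore : ∀ N : Subgroup (F.autGroup H), N.Normal → IsPGroup p N → N = ⊥ := by
    intro N hN hNp
    rw [eq_bot_iff, ← hpc]
    exact le_sSup ⟨hN, hNp⟩
  have hdvd : p ∣ Nat.card (F.autGroup H) := by
    obtain ⟨hn, E, hE⟩ := hH.2.2
    exact hE.1.trans (Subgroup.card_quotient_dvd_card _)
  have hexp : ∀ a : H, a ^ p = 1 := by
    by_contra hne
    push Not at hne
    obtain ⟨a, ha⟩ := hne
    have h1 : orderOf a ∣ p ^ 2 := hcard ▸ orderOf_dvd_natCard a
    obtain ⟨k, hk, hk2⟩ := (Nat.dvd_prime_pow hp.out).mp h1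
    have hk' : k = 2 := by
      by_contra hk3
      have hk1 : k ≤ 1 := by omega
      apply ha
      have h3 : orderOf a ∣ p := by
        rw [hk2]
        calc p ^ k ∣ p ^ 1 := pow_dvd_pow p hk1
          _ = p := pow_one p
      exact orderOf_dvd_iff_pow_eq_one.mp h3
    rw [hk', ← hcard] at hk2
    have hcyc : IsCyclic H := isCyclic_of_orderOf_eq_card a hk2
    obtain ⟨P⟩ : Nonempty (Sylow p (F.autGroup H)) := inferInstance
    have hPn : (P : Subgroup (F.autGroup H)).Normal := by
      constructor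
      intro n hn g
      have : g * n * g⁻¹ = n := by
        apply Subtype.ext
        show (g : MulAut H) * (n : MulAut H) * (g : MulAut H)⁻¹ = n
        rw [mulAut_comm_of_cyclic (g : MulAut H) (n : MulAut H)]
        simp
      rw [this]; exact hn
    exact P.ne_bot_of_dvd_card hdvd (hcore _ hPn P.isPGroup')
  refine ⟨⟨⟨⟨fun a b => hc a b⟩⟩, fun a ha => ?_⟩, exists_sl2 hc hexp hcard _ hdvd hcore⟩
  exact congrArg Subtype.val (hexp ⟨a, ha⟩)

end Cfsg.Agent.h26EssP2
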