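import Cfsg.Statements.S5257
import Cfsg.Agent.Lib_helper26_AbIdxE
import Cfsg.Agent.Lib_helper26_AbIdxF

set_option autoImplicit false
open Cfsg

namespace Cfsg.Agent.S5257

open Cfsg.FusionSystem Cfsg.Agent.helper25 Cfsg.Agent.h26AbIdx in
theorem exists_not_mem_of_ne {Ω : Type*} [Group Ω] {S : Subgroup Ω} (F : Cfsg.FusionSystem S) {p : ℕ}
    {A : Subgroup Ω} (h : Setup S A) {P : Subgroup Ω} (hP : F.IsEssential p P) (hPA : P ≠ A) :
    ∃ x ∈ P, x ∉ A := by
  by_contra hcon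
  push Not at hcon
  have hPS : P ≤ S := hP.1.1
  have hcentric : centralizerIn S P ≤ P := hP.1.2 P (isConj_refl F hPS)
  apply hPA
  apply le_antisymm hcon
  intro a ha
  apply hcentric
  refine ⟨h.hAS ha, ?_⟩
  show a ∈ Subgroup.centralizer (P : Set Ω)
  rw [Subgroup.mem_centralizer_iff]
  intro w hw
  exact h.hAc w (hcon w hw) a ha

/-- Let p be an odd prime, S a finite nonabelian p-group with a unique abelian subgroup A of index p, and F a saturated fusion system over S having an F-essential subgroup other than A. Then the second centre Z₂(S) lies in A; Z(S) ∩ [S, S] has order p; Z(S)[S, S] has index p in A; Z(S) has index p in Z₂(S); and S/Z(S) has maximal nilpotency class (if S/Z(S) has order pᵐ with m ≥ 3 then the term of index m − 2 of the lower central series of S, counting S as index 0, is not contained in Z(S)). -/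
theorem result {Ω : Type*} [Group Ω] {S : Subgroup Ω} [Finite S] (p : ℕ) [Fact p.Prime] (hS : IsPGroup p S) (F : Cfsg.FusionSystem S) (hF : F.IsSaturated p) (hp : p ≠ 2) (hna : ¬ IsMulCommutative ↥S) (A : Subgroup Ω) (hA : A ≤ S ∧ IsMulCommutative ↥A ∧ (A.subgroupOf S).index = p) (huniq : ∀ B : Subgroup Ω, B ≤ S → IsMulCommutative ↥B → (B.subgroupOf S).index = p → B = A) (P : Subgroup Ω) (hP : F.IsEssential p P) (hPA : P ≠ A) : ((upperCentralSeries ↥S 2).map S.subtype) ≤ A ∧ Nat.card ↥((S ⊓ Subgroup.centralizer (S : Set Ω)) ⊓ ((commutator ↥S).map S.subtype)) = p ∧ (((S ⊓ Subgroup.centralizer (S : Set Ω)) ⊔ ((commutator ↥S).map S.subtype)).subgroupOf A).index = p ∧ (((S ⊓ Subgroup.centralizer (S : Set Ω))).subgroupOf ((upperCentralSeries ↥S 2).map S.subtype)).index = p ∧ ∀ m : ℕ, ((S ⊓ Subgroup.centralizer (S : Set Ω)).subgroupOf S).index = p ^ m → 3 ≤ m → ¬ Subgroup.lowerCentralSeries S (m - 2) ≤ (S ⊓ Subgroup.centralizer (S : Set Ω))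 := by
  have h := Cfsg.Agent.h26AbIdx.setup_of hS hna hA.1 hA.2.1 hA.2.2
  obtain ⟨x, hxP, hxA⟩ := exists_not_mem_of_ne F h hP hPA
  have hPS : P ≤ S := hP.1.1
  have hxS : x ∈ S := hPS hxP
  obtain ⟨hN1, hrel, hshape⟩ := Cfsg.Agent.h26AbIdx.main hS F hF h hA.2.2 hP hxS hxP hxA
  have hZ0 : Nat.card ↥((S ⊓ Subgroup.centralizer (S : Set Ω)) ⊓ ⁅S, S⁆) = p := by
    rw [← h.relIndex_Z_A2 hxS hxA]; exact hrel
  have hZ2A := h.Z2_le_A hA.2.2 huniq hZ0
  have hZ2 := h.Z2_eq_A2 hxS hxA hZ2A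
  rw [Subgroup.map_subtype_commutator]
  refine ⟨hZ2A, hZ0, ?_, ?_, ?_⟩
  · rw [h.index_ZS' hxS hxA]; exact hZ0
  · show (S ⊓ Subgroup.centralizer (S : Set Ω)).relIndex _ = p
    rw [hZ2]; exact hrel
  · intro m hm h3
    exact h.max_class hA.2.2 hxS hxA hZ0 m hm h3

end Cfsg.Agent.S5257
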