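import Cfsg.Statements.S5244
import Cfsg.Agent.Lib_helper26_AbIdxI
import Cfsg.Agent.Lib_helper26_AbIdxF
import Cfsg.Agent.S5257

set_option autoImplicit false
open Cfsg

namespace Cfsg.Agent.S5244

open Cfsg.FusionSystem Cfsg.Agent.helper25 Cfsg.Agent.h26AbIdx in
theorem exists_not_mem_of_ne {Ω : Type*} [Group Ω] {S : Subgroup Ω} (F : Cfsg.FusionSystem S) {p : ℕ}
    {A : Subgroup Ω} (h : Setup S A) {P : Subgroup Ω} (hP : F.IsEssential p P) (hPA : P ≠ A) :
    ∃ x ∈ P, x ∉ A := by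
  by_contra hcon
  push Not at hcon
  have hPS : P ≤ S := hP.1.1
  have hcentric : centralizerIn S P ≤ P := hP.1.2 P (isConj_refl F hPS)
  apply hPA
  apply le_antisymm hcon
  intro a ha
  apply hcentric
  refine ⟨h.hAS ha, ?_⟩
  show a ∈ Subgroup.centralizer (P : Set Ω)
  rw [Subgroup.mem_centralizer_iff]
  intro w hw
  exact h.hAc w (hcon w hw) a ha

theorem center_char_S {Ω : Type*} [Group Ω] {S : Subgroup Ω} :
    ∀ y : ↥S, (y : Ω) ∈ S ⊓ Subgroup.centralizer (S : Set Ω) ↔ ∀ w : ↥S, y * w = w * y := by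
  intro y
  constructor
  · intro hy w
    apply Subtype.ext
    exact (Subgroup.mem_centralizer_iff.mp hy.2 w w.2).symm
  · intro hy
    refine ⟨y.2, Subgroup.mem_centralizer_iff.mpr fun s hs => ?_⟩
    exact (congrArg Subtype.val (hy ⟨s, hs⟩)).symm

open Cfsg.Agent.h26AbIdx in
theorem center_char_B {Ω : Type*} [Group Ω] {S : Subgroup Ω} {p : ℕ} [hp : Fact p.Prime]
    {A : Subgroup Ω} (h : Setup S A) {P : Subgroup Ω} (hPS : P ≤ S) {x : Ω} (hxS : x ∈ S)
    (hxP : x ∈ P) (hxA : x ∉ A) (hPA : P ⊓ A = h.A2 hxS)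
    (hrel : (S ⊓ Subgroup.centralizer (S : Set Ω)).relIndex (h.A2 hxS) = p) :
    ∀ y : ↥P, (y : Ω) ∈ S ⊓ Subgroup.centralizer (S : Set Ω) ↔ ∀ w : ↥P, y * w = w * y := by
  intro y
  constructor
  · intro hy w
    apply Subtype.ext
    exact (Subgroup.mem_centralizer_iff.mp hy.2 w (hPS w.2)).symm
  · intro hy
    have hyc : ∀ w ∈ P, (y : Ω) * w = w * y := fun w hw => congrArg Subtype.val (hy ⟨w, hw⟩)
    obtain ⟨b, hbA, k, hk⟩ := h.hdec x hxS hxA y (hPS y.2)
    have hbP : b ∈ P := by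
      have : b = y * (x ^ k)⁻¹ := by rw [hk]; group
      rw [this]
      exact P.mul_mem y.2 (P.inv_mem (P.pow_mem hxP k))
    by_cases hxk : x ^ k ∈ A
    · have h1 : x ^ k ∈ S ⊓ Subgroup.centralizer (S : Set Ω) :=
        h.cent_A hxS hxA hxk ((Commute.refl x).pow_left k).eq
      have hyx : (y : Ω) * x = x * y := hyc x hxP
      have hbx : b * x = x * b := by
        have e : b = y * (x ^ k)⁻¹ := by rw [hk]; group
        have c1 : Commute (y : Ω) x := hyx
        have c2 : Commute ((x ^ k)⁻¹) x := ((Commute.refl x).pow_left k).inv_left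
        rw [e]
        exact (c1.mul_left c2).eq
      have h2 := h.cent_A hxS hxA hbA hbx
      rw [hk]
      exact Subgroup.mul_mem _ h2 h1
    · exfalso
      have hle : h.A2 hxS ≤ S ⊓ Subgroup.centralizer (S : Set Ω) := by
        intro w hw
        have hwPA : w ∈ P ⊓ A := by rw [hPA]; exact hw
        have hyw := hyc w hwPA.1
        have hbw : b * w = w * b := h.hAc b hbA w hwPA.2
        have hxw : w * x ^ k = x ^ k * w := by
          rw [hk] at hyw
          have e1 : b * x ^ k * w = b * (w * x ^ k) := by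
            rw [hyw, ← mul_assoc w b, ← hbw, mul_assoc]
          have e2 : x ^ k * w = w * x ^ k := by
            have := congrArg (fun t => b⁻¹ * t) e1
            simpa [mul_assoc] using this
          exact e2.symm
        exact h.cent_A (S.pow_mem hxS k) hxk hwPA.2 hxw
      have h1 := Subgroup.relIndex_eq_one.mpr hle
      rw [hrel] at h1
      exact hp.out.one_lt.ne' h1

open Cfsg.FusionSystem Cfsg.Agent.helper25 Cfsg.Agent.h26AbIdx in
theorem QQ_inv_of_char {Ω : Type*} [Group Ω] {S : Subgroup Ω} [Finite S] {p : ℕ} [Fact p.Prime]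
    (hS : IsPGroup p S) (F : Cfsg.FusionSystem S) (hF : F.IsSaturated p) {P : Subgroup Ω}
    (hPS : P ≤ S) (hZP : S ⊓ Subgroup.centralizer (S : Set Ω) ≤ P)
    (hchar : ∀ y : ↥P, (y : Ω) ∈ S ⊓ Subgroup.centralizer (S : Set Ω) ↔ ∀ w : ↥P, y * w = w * y)
    {α : MulAut ↥P} (hα : α ∈ F.autGroup P) (q : ↥P) (hq : (q : Ω) ∈ QQ F) :
    ((α q : ↥P) : Ω) ∈ QQ F := by
  obtain ⟨γ, hγ, hγv⟩ := exists_restrict_aut F hPS hZP hα
    (fun z hz => aut_preserves_center hchar α z hz)
  have h1 := QQ_invariant hS F hF hγ hq (QQ_le F hq)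
  rw [hγv] at h1
  exact h1

theorem map_eq_of_forall {Ω : Type*} [Group Ω] {P Q : Subgroup Ω} (G : Subgroup (MulAut ↥P))
    (hinv : ∀ α ∈ G, ∀ q : ↥P, (q : Ω) ∈ Q → ((α q : ↥P) : Ω) ∈ Q) :
    ∀ α ∈ G, (Q.subgroupOf P).map α.toMonoidHom = Q.subgroupOf P := by
  intro α hα
  apply le_antisymm
  · rintro _ ⟨q, hq, rfl⟩
    exact Subgroup.mem_subgroupOf.mpr (hinv α hα q (Subgroup.mem_subgroupOf.mp hq))
  · intro q hq
    refine ⟨α⁻¹ q, Subgroup.mem_subgroupOf.mpr
      (hinv α⁻¹ (G.inv_mem hα) q (Subgroup.mem_subgroupOf.mp hq)), ?_⟩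
    show α (α⁻¹ q) = q
    simp

open Cfsg.FusionSystem Cfsg.Agent.helper25 Cfsg.Agent.h26AbIdx in
theorem ess_cases {Ω : Type*} [Group Ω] {S : Subgroup Ω} [Finite S] {p : ℕ} [hp : Fact p.Prime]
    (hS : IsPGroup p S) (F : Cfsg.FusionSystem S) (hF : F.IsSaturated p) {A : Subgroup Ω}
    (h : Setup S A) (hidx : (A.subgroupOf S).index = p) {P : Subgroup Ω}
    (hP : F.IsEssential p P) (hPA : P ≠ A) :
    S ⊓ Subgroup.centralizer (S : Set Ω) ≤ P ∧
    ((∃ x ∈ S, x ∈ P ∧ x ∉ A ∧ P ⊓ A = S ⊓ Subgroup.centralizer (S : Set Ω) ∧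
      Nat.card ↥((S ⊓ Subgroup.centralizer (S : Set Ω)) ⊓ ⁅S, S⁆) = p) ∨
    (∀ y : ↥P, (y : Ω) ∈ S ⊓ Subgroup.centralizer (S : Set Ω) ↔ ∀ w : ↥P, y * w = w * y)) := by
  have hPS : P ≤ S := hP.1.1
  have hcentric : centralizerIn S P ≤ P := hP.1.2 P (isConj_refl F hPS)
  have hZP : S ⊓ Subgroup.centralizer (S : Set Ω) ≤ P := by
    intro z hz
    apply hcentric
    exact ⟨hz.1, Subgroup.centralizer_le (show (P : Set Ω) ⊆ S from hPS) hz.2⟩
  refine ⟨hZP, ?_⟩
  obtain ⟨x, hxP, hxA⟩ := exists_not_mem_of_ne F h hP hPA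
  have hxS : x ∈ S := hPS hxP
  obtain ⟨_, hrel, hshape⟩ := Cfsg.Agent.h26AbIdx.main hS F hF h hidx hP hxS hxP hxA
  have hZ0 : Nat.card ↥((S ⊓ Subgroup.centralizer (S : Set Ω)) ⊓ ⁅S, S⁆) = p := by
    rw [← h.relIndex_Z_A2 hxS hxA]; exact hrel
  rcases hshape with hsh | hsh
  · exact Or.inl ⟨x, hxS, hxP, hxA, hsh, hZ0⟩
  · exact Or.inr (center_char_B h hPS hxS hxP hxA hsh hrel)

/-- Let p be an odd prime, S a finite nonabelian p-group with a unique abelian subgroup A of index p, and F a saturated fusion system over S with no nontrivial normal subgroup (O_p(F) = 1) in which A is not F-essential. Then some subgroup Z(S)⟨x⟩ with x ∈ S outside A is F-essential, the centre Z(S) is contained in the commutator subgroup of S, and S has maximal nilpotency class (if S has order pⁿ with n ≥ 3, the term of index n − 2 of its lower central series, counting S itself as the term of index 0, is nontrivial). -/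
theorem result {Ω : Type*} [Group Ω] {S : Subgroup Ω} [Finite S] (p : ℕ) [Fact p.Prime] (hS : IsPGroup p S) (F : Cfsg.FusionSystem S) (hF : F.IsSaturated p) (hp : p ≠ 2) (hna : ¬ IsMulCommutative ↥S) (A : Subgroup Ω) (hA : A ≤ S ∧ IsMulCommutative ↥A ∧ (A.subgroupOf S).index = p) (huniq : ∀ B : Subgroup Ω, B ≤ S → IsMulCommutative ↥B → (B.subgroupOf S).index = p → B = A) (hcore : F.core = ⊥) (hAe : ¬ F.IsEssential p A) : (∃ x ∈ S, x ∉ A ∧ F.IsEssential p ((S ⊓ Subgroup.centralizer (S : Set Ω)) ⊔ Subgroup.zpowers x)) ∧ (S ⊓ Subgroup.centralizer (S : Set Ω)) ≤ (commutator ↥S).map S.subtype ∧ ∀ n : ℕ, Nat.card S = p ^ n → 3 ≤ n → Subgroup.lowerCentralSeries S (n - 2) ≠ ⊥ := by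
  have h := Cfsg.Agent.h26AbIdx.setup_of hS hna hA.1 hA.2.1 hA.2.2
  have hidx := hA.2.2
  -- (1) an essential subgroup of type `Z⟨x⟩`
  have part1 : ∃ x ∈ S, x ∉ A ∧
      F.IsEssential p ((S ⊓ Subgroup.centralizer (S : Set Ω)) ⊔ Subgroup.zpowers x) := by
    by_contra hno
    push Not at hno
    have hZn : F.IsNormal (S ⊓ Subgroup.centralizer (S : Set Ω)) := by
      rw [Cfsg.Agent.helper25.isNormal_iff_essential hS F hF]
      intro P hP
      rcases hP with rfl | hP
      · exact ⟨inf_le_left, map_eq_of_forall _ (fun α _ z hz =>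
          Cfsg.Agent.h26AbIdx.aut_preserves_center center_char_S α z hz)⟩
      · have hPA : P ≠ A := fun e => hAe (e ▸ hP)
        obtain ⟨hZP, hc⟩ := ess_cases hS F hF h hidx hP hPA
        rcases hc with ⟨x, hxS, hxP, hxA, hPAeq, _⟩ | hchar
        · exfalso
          apply hno x hxS hxA
          have := Cfsg.Agent.h26AbIdx.eq_sup_zpowers h hP.1.1 hxP hxA
          rw [hPAeq] at this
          rw [← this]
          exact hP
        · exact ⟨hZP, map_eq_of_forall _ (fun α _ z hz =>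
            Cfsg.Agent.h26AbIdx.aut_preserves_center hchar α z hz)⟩
    have hle : S ⊓ Subgroup.centralizer (S : Set Ω) ≤ F.core := le_sSup hZn
    rw [hcore] at hle
    haveI : Nontrivial ↥S := by
      by_contra hnt
      rw [not_nontrivial_iff_subsingleton] at hnt
      exact hna ⟨⟨fun a b => Subsingleton.elim _ _⟩⟩
    haveI := hS.center_nontrivial
    obtain ⟨z, hz⟩ := exists_ne (1 : Subgroup.center ↥S)
    have hzZ : ((z : ↥S) : Ω) ∈ S ⊓ Subgroup.centralizer (S : Set Ω) := by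
      refine ⟨(z : ↥S).2, Subgroup.mem_centralizer_iff.mpr fun s hs => ?_⟩
      exact congrArg Subtype.val (Subgroup.mem_center_iff.mp z.2 ⟨s, hs⟩)
    have h1 := hle hzZ
    rw [Subgroup.mem_bot] at h1
    apply hz
    apply Subtype.ext
    apply Subtype.ext
    exact h1
  -- (2) the centre lies in the commutator subgroup
  have hQn : F.IsNormal (Cfsg.Agent.h26AbIdx.QQ F) := by
    rw [Cfsg.Agent.helper25.isNormal_iff_essential hS F hF]
    intro P hP
    rcases hP with rfl | hP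
    · exact ⟨(Cfsg.Agent.h26AbIdx.QQ_le F).trans inf_le_left, map_eq_of_forall _ (fun α hα q hq =>
        QQ_inv_of_char hS F hF le_rfl inf_le_left center_char_S hα q hq)⟩
    · have hPA : P ≠ A := fun e => hAe (e ▸ hP)
      obtain ⟨hZP, hc⟩ := ess_cases hS F hF h hidx hP hPA
      refine ⟨(Cfsg.Agent.h26AbIdx.QQ_le F).trans hZP, ?_⟩
      rcases hc with ⟨x, hxS, hxP, hxA, hPAeq, hZ0⟩ | hchar
      · exact map_eq_of_forall _ (fun α hα q hq =>
          Cfsg.Agent.h26AbIdx.typeH_invariant hS F hF h hidx hp hP hxS hxP hxA hPAeq hZ0 hα q hq)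
      · exact map_eq_of_forall _ (fun α hα q hq =>
          QQ_inv_of_char hS F hF hP.1.1 hZP hchar hα q hq)
  have hQbot : Cfsg.Agent.h26AbIdx.QQ F ≤ ⊥ := by
    rw [← hcore]; exact le_sSup hQn
  have part2 : S ⊓ Subgroup.centralizer (S : Set Ω) ≤ (commutator ↥S).map S.subtype := by
    rw [Subgroup.map_subtype_commutator]
    intro z hz
    obtain ⟨q, hq, c, hc, hzc⟩ := Cfsg.Agent.h26AbIdx.center_decomp hS F hF z hz
    have hq1 : q = 1 := Subgroup.mem_bot.mp (hQbot hq)
    rw [hzc, hq1, one_mul]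
    exact hc
  refine ⟨part1, part2, ?_⟩
  -- (3) maximal class
  obtain ⟨x, hxS, hxA, hP₁⟩ := part1
  have hP₁A : (S ⊓ Subgroup.centralizer (S : Set Ω)) ⊔ Subgroup.zpowers x ≠ A :=
    fun e => hAe (e ▸ hP₁)
  obtain ⟨_, hb, _, _, he⟩ := Cfsg.Agent.S5257.result p hS F hF hp hna A hA huniq _ hP₁ hP₁A
  have hZcard : Nat.card ↥(S ⊓ Subgroup.centralizer (S : Set Ω)) = p := by
    rw [inf_eq_left.mpr part2] at hb
    exact hb
  intro n hn h3
  have hidxZ : ((S ⊓ Subgroup.centralizer (S : Set Ω)).subgroupOf S).index = p ^ (n - 1) := by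
    have h1 := Subgroup.card_mul_index ((S ⊓ Subgroup.centralizer (S : Set Ω)).subgroupOf S)
    have h2 : Nat.card ↥((S ⊓ Subgroup.centralizer (S : Set Ω)).subgroupOf S) = p := by
      rw [← hZcard]
      exact Nat.card_congr (Subgroup.subgroupOfEquivOfLe inf_le_left).toEquiv
    rw [h2, hn] at h1
    have h4 : p ^ n = p * p ^ (n - 1) := by
      rw [← pow_succ', Nat.sub_add_cancel (by omega)]
    rw [h4] at h1
    exact Nat.eq_of_mul_eq_mul_left (Fact.out : p.Prime).pos h1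
  by_cases hn4 : 4 ≤ n
  · have h5 := he (n - 1) hidxZ (by omega)
    intro hbot
    apply h5
    have e1 : n - 2 = (n - 1 - 2) + 1 := by omega
    rw [e1, Subgroup.lowerCentralSeries_succ, Subgroup.commutator_eq_bot_iff_le_centralizer] at hbot
    have hle : Subgroup.lowerCentralSeries S (n - 1 - 2) ≤ S :=
      Subgroup.lowerCentralSeries_antitone S (Nat.zero_le _)
    exact le_inf hle hbot
  · have hn3 : n = 3 := by omega
    subst hn3
    intro hbot
    obtain ⟨s, hs, t, ht, hst⟩ := h.hna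
    apply hst
    have h6 : s * t * s⁻¹ * t⁻¹ ∈ Subgroup.lowerCentralSeries S (3 - 2) := by
      show s * t * s⁻¹ * t⁻¹ ∈ ⁅S, S⁆
      have := Subgroup.commutator_mem_commutator hs ht
      rwa [commutatorElement_def] at this
    rw [hbot, Subgroup.mem_bot] at h6
    have := congrArg (fun w => w * t * s) h6
    simpa [mul_assoc] using this

end Cfsg.Agent.S5244
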