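import Cfsg.Agent.Lib_helper26_Cp2A
import Cfsg.Agent.S5244
import Cfsg.Agent.Lib_helper26_EssP2b
import Cfsg.Agent.Lib_helper23_Omega1
import Cfsg.Agent.Lib_helper1_PGroup
import Cfsg.Agent.Lib_helper1_ElemAb

set_option autoImplicit false
set_option linter.style.haveILetI false

namespace Cfsg.Agent.h26Cp2

open Cfsg Cfsg.FusionSystem Cfsg.Agent.helper25
open scoped commutatorElement

variable {Ω : Type*} [Group Ω] {S : Subgroup Ω}

theorem odd_center_le_comm [Finite S] {p : ℕ} [hp : Fact p.Prime] (hS : IsPGroup p S)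
    (F : FusionSystem S) (hF : F.IsSaturated p) (hp2 : p ≠ 2) (hna : ¬ IsMulCommutative ↥S)
    (hidx : (Subgroup.center ↥S).index = p ^ 2) (hcore : F.core = ⊥) : Zs S ≤ ⁅S, S⁆ := by
  have hQn : F.IsNormal (Cfsg.Agent.h26AbIdx.QQ F) := by
    rw [isNormal_iff_essential hS F hF]
    intro P hP
    rcases hP with rfl | hP
    · exact ⟨(Cfsg.Agent.h26AbIdx.QQ_le F).trans inf_le_left,
        Cfsg.Agent.S5244.map_eq_of_forall _ (fun α hα q hq =>
          Cfsg.Agent.S5244.QQ_inv_of_char hS F hF le_rfl inf_le_left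
            Cfsg.Agent.S5244.center_char_S hα q hq)⟩
    · obtain ⟨hZP, hPS, hPZ, hPne⟩ := ess_mid hS F hF hna hP
      obtain ⟨y, hyS, hyP⟩ : ∃ y ∈ S, y ∉ P := by
        by_contra hcon
        push Not at hcon
        exact hPne (le_antisymm hPS hcon)
      have hyZ : y ∉ Zs S := fun h => hyP (hZP h)
      obtain ⟨h1, h2, h3, h4, h5⟩ := cent_mid hyS hyZ
      obtain ⟨hrel, hrel2⟩ := mid_props hidx h1 h2 h3 h4
      have hc := mid_comm (p := p) h2 hrel
      have hAc : IsMulCommutative ↥(S ⊓ Subgroup.centralizer {y}) :=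
        ⟨⟨fun a b => Subtype.ext (hc a a.2 b b.2)⟩⟩
      have h := Cfsg.Agent.h26AbIdx.setup_of hS hna h2 hAc hrel2
      have hPA : P ≠ S ⊓ Subgroup.centralizer {y} := by
        intro e
        rw [e] at hyP
        exact hyP h5
      obtain ⟨hZP', hc'⟩ := Cfsg.Agent.S5244.ess_cases hS F hF h hrel2 hP hPA
      refine ⟨(Cfsg.Agent.h26AbIdx.QQ_le F).trans hZP', ?_⟩
      rcases hc' with ⟨x, hxS, hxP, hxA, hPAeq, hZ0⟩ | hchar
      · exact Cfsg.Agent.S5244.map_eq_of_forall _ (fun α hα q hq =>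
          Cfsg.Agent.h26AbIdx.typeH_invariant hS F hF h hrel2 hp2 hP hxS hxP hxA hPAeq hZ0 hα q hq)
      · exact Cfsg.Agent.S5244.map_eq_of_forall _ (fun α hα q hq =>
          Cfsg.Agent.S5244.QQ_inv_of_char hS F hF hP.1.1 hZP' hchar hα q hq)
  have hQbot : Cfsg.Agent.h26AbIdx.QQ F ≤ ⊥ := by
    rw [← hcore]; exact le_sSup hQn
  intro z hz
  obtain ⟨q, hq, c, hc, hzc⟩ := Cfsg.Agent.h26AbIdx.center_decomp hS F hF z hz
  have hq1 : q = 1 := Subgroup.mem_bot.mp (hQbot hq)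
  rw [hzc, hq1, one_mul]
  exact hc

theorem odd_card_Zs [Finite S] {p : ℕ} [hp : Fact p.Prime] (hS : IsPGroup p S)
    (F : FusionSystem S) (hF : F.IsSaturated p) (hp2 : p ≠ 2) (hna : ¬ IsMulCommutative ↥S)
    (hidx : (Subgroup.center ↥S).index = p ^ 2) (hcore : F.core = ⊥) :
    Nat.card (Zs S) = p := by
  have h1 := odd_center_le_comm hS F hF hp2 hna hidx hcore
  have h2 := comm_le_Zs hidx
  have h3 : Zs S = ⁅S, S⁆ := le_antisymm h1 h2
  rw [h3]
  exact card_comm hS hna hidx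

theorem comm_eq_Zs [Finite S] {p : ℕ} [hp : Fact p.Prime] (hS : IsPGroup p S)
    (hna : ¬ IsMulCommutative ↥S) (hidx : (Subgroup.center ↥S).index = p ^ 2)
    (hcZ : Nat.card (Zs S) = p) : ⁅S, S⁆ = Zs S := by
  haveI : Finite (Zs S) := finite_of_le S inf_le_left
  apply Subgroup.eq_of_le_of_card_ge (comm_le_Zs hidx)
  rw [hcZ, card_comm hS hna hidx]

theorem extraspecial_of [Finite S] {p : ℕ} [hp : Fact p.Prime] (hS : IsPGroup p S)
    (hna : ¬ IsMulCommutative ↥S) (hidx : (Subgroup.center ↥S).index = p ^ 2)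
    (hcZ : Nat.card (Zs S) = p) :
    Cfsg.IsExtraspecial p ↥S ∧ Nat.card S = p ^ 3 := by
  have hcomm : commutator ↥S = Subgroup.center ↥S := by
    apply Subgroup.map_injective (Subgroup.subtype_injective S)
    rw [Subgroup.map_subtype_commutator, ← Zs_eq_map_center]
    exact comm_eq_Zs hS hna hidx hcZ
  have hcardc : Nat.card (Subgroup.center ↥S) = p := by rw [← card_Zs]; exact hcZ
  refine ⟨⟨⟨hS, ?_, hcomm⟩, hcardc⟩, ?_⟩
  · apply le_antisymm
    · apply Cfsg.Agent.helper1.frattini_le_of_elemAb_quot (p := p) (Subgroup.center ↥S)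
        (le_of_eq hcomm)
      intro x
      have h1 := pow_mem_Zs hidx x.2
      rw [Zs_eq_map_center] at h1
      obtain ⟨y, hy, hyx⟩ := h1
      have h2 : y = x ^ p := Subtype.ext (by rw [Subgroup.coe_pow]; exact hyx)
      rw [← h2]; exact hy
    · rw [← hcomm]
      exact Cfsg.Agent.helper1.commutator_le_frattini_of_isPGroup hS
  · rw [card_S_eq, hidx, hcZ]; ring

theorem odd_exponent [Finite S] {p : ℕ} [hp : Fact p.Prime] (hS : IsPGroup p S)
    (F : FusionSystem S) (hF : F.IsSaturated p) (hp2 : p ≠ 2) (hna : ¬ IsMulCommutative ↥S)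
    (hidx : (Subgroup.center ↥S).index = p ^ 2) (hcore : F.core = ⊥)
    (hcZ : Nat.card (Zs S) = p) : ∀ x ∈ S, x ^ p = 1 := by
  have hodd : Odd p := hp.out.odd_of_ne_two hp2
  have hcomm : ∀ x ∈ S, ∀ y ∈ S, ⁅x, y⁆ ∈ Subgroup.centralizer (S : Set Ω) := by
    intro x hx y hy
    rw [commutatorElement_def]
    exact (comm_mem_Zs hidx hx hy).2
  have hpow : ∀ x ∈ S, x ^ p ∈ Subgroup.centralizer (S : Set Ω) :=
    fun x hx => (pow_mem_Zs hidx hx).2
  have hmem : ∀ x, x ∈ Cfsg.Agent.helper23.omegaK p hodd S hcomm hpow 1 ↔ x ∈ S ∧ x ^ p = 1 := by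
    intro x
    rw [Cfsg.Agent.helper23.mem_omegaK, pow_one]
  generalize Cfsg.Agent.helper23.omegaK p hodd S hcomm hpow 1 = T₀ at hmem
  by_contra hcon
  push Not at hcon
  obtain ⟨x₀, hx₀S, hx₀⟩ := hcon
  have hT₀S : T₀ ≤ S := fun x hx => ((hmem x).mp hx).1
  have hT₀ne : ¬ S ≤ T₀ := fun h => hx₀ ((hmem x₀).mp (h hx₀S)).2
  haveI : Finite (Zs S) := finite_of_le S inf_le_left
  have hZT : Zs S ≤ T₀ := by
    intro ζ hζ
    rw [hmem]
    refine ⟨hζ.1, ?_⟩
    have h1 : (⟨ζ, hζ⟩ : ↥(Zs S)) ^ Nat.card (Zs S) = 1 := pow_card_eq_one'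
    rw [hcZ] at h1
    exact congrArg Subtype.val h1
  have hn : F.IsNormal T₀ := by
    rw [isNormal_iff_essential hS F hF]
    intro P hP
    rcases hP with rfl | hP
    · refine ⟨hT₀S, Cfsg.Agent.S5244.map_eq_of_forall _ (fun α _ q hq => ?_)⟩
      rw [hmem] at hq ⊢
      refine ⟨(α q).2, ?_⟩
      have h1 : q ^ p = 1 := Subtype.ext (by rw [Subgroup.coe_pow]; exact hq.2)
      have h2 : (α q) ^ p = 1 := by rw [← map_pow, h1, map_one]
      have h3 := congrArg Subtype.val h2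
      simpa using h3
    · obtain ⟨hZP, hPS, hPZ, hPne⟩ := ess_mid hS F hF hna hP
      obtain ⟨hrel, hrel2⟩ := mid_props hidx hZP hPS hPZ hPne
      have hcardP : Nat.card P = p ^ 2 := by
        have h1 := Subgroup.card_mul_index ((Zs S).subgroupOf P)
        have h2 : Nat.card ↥((Zs S).subgroupOf P) = Nat.card (Zs S) :=
          Nat.card_congr (Subgroup.subgroupOfEquivOfLe hZP).toEquiv
        have h3 : ((Zs S).subgroupOf P).index = p := hrel
        rw [h2, hcZ, h3] at h1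
        rw [← h1, sq]
      obtain ⟨hEA, _⟩ := Cfsg.Agent.h26EssP2.essential_p2 hS F P hP hcardP
      have hPT : P ≤ T₀ := by
        intro y hy
        rw [hmem]
        exact ⟨hPS hy, hEA.2 y hy⟩
      have hTP : T₀ ≤ P := by
        have h1 := Subgroup.relIndex_mul_relIndex P T₀ S hPT hT₀S
        rw [hrel2] at h1
        have h2 : P.relIndex T₀ ∣ p := Dvd.intro _ h1
        rcases (Nat.dvd_prime hp.out).mp h2 with h3 | h3
        · exact Subgroup.relIndex_eq_one.mp h3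
        · exfalso
          rw [h3] at h1
          have h4 : T₀.relIndex S = 1 := by
            have : p * T₀.relIndex S = p * 1 := by rw [h1, mul_one]
            exact Nat.eq_of_mul_eq_mul_left hp.out.pos this
          exact hT₀ne (Subgroup.relIndex_eq_one.mp h4)
      exact ⟨hTP, Cfsg.Agent.S5244.map_eq_of_forall _ (fun α _ q _ => hPT (α q).2)⟩
  have hle : T₀ ≤ ⊥ := by
    rw [← hcore]; exact le_sSup hn
  have h1 : Zs S ≤ ⊥ := hZT.trans hle
  rw [le_bot_iff] at h1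
  have h2 : Nat.card (Zs S) = 1 := by rw [h1]; exact Subgroup.card_bot
  rw [hcZ] at h2
  exact hp.out.one_lt.ne' h2

end Cfsg.Agent.h26Cp2
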