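import Cfsg.Agent.Lib_helper26_AbIdxG

set_option autoImplicit false
set_option linter.style.haveILetI false

namespace Cfsg.Agent.h26Cp2

variable {P : Type*} [Group P]

/-- data of an involutory "transvection" `u` with centre `z` in a group `𝔸` of automorphisms of
an abelian `2`-group whose order is not divisible by `4`. -/
structure TD (𝔸 : Subgroup (MulAut P)) (u : MulAut P) (z : P) : Prop where
  hP : IsPGroup 2 P
  hc : ∀ a b : P, a * b = b * a
  hcard : ¬ 2 ^ 2 ∣ Nat.card 𝔸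
  hu𝔸 : u ∈ 𝔸
  hou : u ^ 2 = 1
  hu1 : u ≠ 1
  hz2 : z ^ 2 = 1
  huz : u z = z
  hform : ∀ y, ∃ k : ℕ, u y = y * z ^ k

/-- the data in the non-normal case. -/
structure BD (𝔸 : Subgroup (MulAut P)) (u : MulAut P) (z : P) (d : MulAut P) (w : P) : Prop where
  td : TD 𝔸 u z
  td' : TD 𝔸 d w
  hne : d ≠ u
  hconj : ∃ g ∈ 𝔸, d = g * u * g⁻¹ ∧ w = g z

variable [Finite P]

theorem pow_cases (z : P) (hz2 : z ^ 2 = 1) (k : ℕ) : z ^ k = 1 ∨ z ^ k = z := by
  rcases Nat.even_or_odd' k with ⟨m, rfl | rfl⟩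
  · left; rw [pow_mul, hz2, one_pow]
  · right; rw [pow_succ, pow_mul, hz2, one_pow, one_mul]

theorem zpowers_ne {u u' : MulAut P} (hou : u ^ 2 = 1) (hu'1 : u' ≠ 1) (hne : u ≠ u') :
    Subgroup.zpowers u ≠ Subgroup.zpowers u' := by
  intro h
  have h1 : u' ∈ Subgroup.zpowers u := by rw [h]; exact Subgroup.mem_zpowers u'
  rw [← mem_powers_iff_mem_zpowers] at h1
  obtain ⟨i, hi⟩ := h1
  have hi' : u ^ i = u' := hi
  rcases Nat.even_or_odd' i with ⟨m, rfl | rfl⟩
  · apply hu'1; rw [← hi', pow_mul, hou, one_pow]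
  · apply hne; rw [← hi', pow_succ, pow_mul, hou, one_pow, one_mul]

theorem comm_of_conj_eq {G : Type*} [Group G] {l α u : G} (hl : l * u * l⁻¹ = α * u * α⁻¹) :
    (l⁻¹ * α) * u = u * (l⁻¹ * α) := by
  calc l⁻¹ * α * u = l⁻¹ * (α * u * α⁻¹) * α := by group
    _ = l⁻¹ * (l * u * l⁻¹) * α := by rw [hl]
    _ = u * (l⁻¹ * α) := by group

namespace TD

variable {𝔸 : Subgroup (MulAut P)} {u : MulAut P} {z : P}

theorem z_ne_one (h : TD 𝔸 u z) : z ≠ 1 := by
  rintro rfl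
  apply h.hu1
  ext y
  obtain ⟨k, hk⟩ := h.hform y
  rw [hk, one_pow, mul_one]; rfl

theorem form' (h : TD 𝔸 u z) (y : P) : u y = y ∨ u y = y * z := by
  obtain ⟨k, hk⟩ := h.hform y
  rcases pow_cases z h.hz2 k with h1 | h1
  · left; rw [hk, h1, mul_one]
  · right; rw [hk, h1]

theorem uu (h : TD 𝔸 u z) : u * u = 1 := by rw [← sq]; exact h.hou

theorem uinv (h : TD 𝔸 u z) : u⁻¹ = u := inv_eq_of_mul_eq_one_left h.uu

theorem zz (h : TD 𝔸 u z) : z * z = 1 := by rw [← sq]; exact h.hz2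

theorem conj (h : TD 𝔸 u z) {g : MulAut P} (hg : g ∈ 𝔸) : TD 𝔸 (g * u * g⁻¹) (g z) where
  hP := h.hP
  hc := h.hc
  hcard := h.hcard
  hu𝔸 := 𝔸.mul_mem (𝔸.mul_mem hg h.hu𝔸) (𝔸.inv_mem hg)
  hou := by rw [conj_pow, h.hou]; simp
  hu1 := by
    intro h1
    apply h.hu1
    have := congrArg (fun t => g⁻¹ * t * g) h1
    simpa [mul_assoc] using this
  hz2 := by rw [← map_pow, h.hz2, map_one]
  huz := by rw [MulAut.mul_apply, MulAut.mul_apply, MulAut.inv_apply_self, h.huz]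
  hform := by
    intro y
    obtain ⟨k, hk⟩ := h.hform (g⁻¹ y)
    refine ⟨k, ?_⟩
    rw [MulAut.mul_apply, MulAut.mul_apply, hk, map_mul, map_pow, MulAut.apply_inv_self]

theorem nondeg (h : TD 𝔸 u z) {u' : MulAut P} {z' : P} (h' : TD 𝔸 u' z') (hne : u ≠ u') :
    u' z = z * z' := by
  rcases h'.form' z with h1 | h1
  · exfalso
    exact Cfsg.Agent.h26AbIdx.aux_nondeg (p := 2) h.hP h.hc 𝔸 h.hcard u u' h.hu𝔸 h'.hu𝔸 h.hou
      h.hu1 h'.hou h'.hu1 (zpowers_ne h.hou h'.hu1 hne) z z' h.huz h'.huz h.hform h'.hform h1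
  · exact h1

theorem third (h : TD 𝔸 u z) {g k : MulAut P} (hg : g ∈ 𝔸) (hk : k ∈ 𝔸)
    (hd : g * u * g⁻¹ ≠ u) (he1 : k * u * k⁻¹ ≠ u) (he2 : k * u * k⁻¹ ≠ g * u * g⁻¹) :
    k * u * k⁻¹ = u * (g * u * g⁻¹) * u⁻¹ := by
  by_contra hne
  have hd' := h.conj hg
  have he' := h.conj hk
  have h3 : TD 𝔸 ((u * g) * u * (u * g)⁻¹) ((u * g) z) := h.conj (𝔸.mul_mem h.hu𝔸 hg)
  have e3 : (u * g) * u * (u * g)⁻¹ = u * (g * u * g⁻¹) * u⁻¹ := by group
  rw [e3] at h3
  have n1 : (k * u * k⁻¹) ((u * g) z) = (u * g) z * k z := h3.nondeg he' (Ne.symm hne)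
  have n2 : (k * u * k⁻¹) (g z) = g z * k z := hd'.nondeg he' (Ne.symm he2)
  have n3 : (k * u * k⁻¹) z = z * k z := h.nondeg he' (Ne.symm he1)
  have n4 : u (g z) = g z * z := hd'.nondeg h hd
  have hv2 : k z * k z = 1 := he'.zz
  have e5 : (u * g) z = g z * z := n4
  rw [e5, map_mul, n2, n3] at n1
  have e6 : g z * k z * (z * k z) = g z * z * (k z * k z) := by
    rw [mul_assoc, ← mul_assoc (k z) z, h.hc (k z) z, mul_assoc z, ← mul_assoc (g z)]
  rw [e6, hv2, mul_one] at n1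
  have e7 : k z = 1 := by
    have := mul_left_cancel (a := g z * z) (b := 1) (c := k z) (by rw [mul_one]; exact n1)
    exact this.symm
  apply h.z_ne_one
  have : k z = k 1 := by rw [e7, map_one]
  exact k.injective this

end TD


theorem BD.mk' {𝔸 : Subgroup (MulAut P)} {u : MulAut P} {z : P} (h : TD 𝔸 u z) {g : MulAut P}
    (hg : g ∈ 𝔸) (hne : g * u * g⁻¹ ≠ u) : BD 𝔸 u z (g * u * g⁻¹) (g z) :=
  ⟨h, h.conj hg, hne, g, hg, rfl, rfl⟩

namespace BD

variable {𝔸 : Subgroup (MulAut P)} {u : MulAut P} {z : P} {d : MulAut P} {w : P}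

theorem uw (h : BD 𝔸 u z d w) : u w = w * z := h.td'.nondeg h.td h.hne

theorem dz (h : BD 𝔸 u z d w) : d z = z * w := h.td.nondeg h.td' (Ne.symm h.hne)

theorem w_ne_one (h : BD 𝔸 u z d w) : w ≠ 1 := h.td'.z_ne_one

theorem w_ne_z (h : BD 𝔸 u z d w) : w ≠ z := by
  intro e
  have h1 := h.uw
  rw [e, h.td.huz] at h1
  apply h.td.z_ne_one
  have := mul_left_cancel (a := z) (b := 1) (c := z) (by rw [mul_one]; exact h1)
  exact this.symm

theorem dz_ne (h : BD 𝔸 u z d w) : d z ≠ z := by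
  rw [h.dz]
  intro e
  apply h.w_ne_one
  have := mul_left_cancel (a := z) (b := w) (c := 1) (by rw [mul_one]; exact e)
  exact this

theorem uw_ne (h : BD 𝔸 u z d w) : u w ≠ w := by
  rw [h.uw]
  intro e
  apply h.td.z_ne_one
  exact mul_left_cancel (a := w) (b := z) (c := 1) (by rw [mul_one]; exact e)

theorem conj_cases (h : BD 𝔸 u z d w) {k : MulAut P} (hk : k ∈ 𝔸) :
    k * u * k⁻¹ = u ∨ k * u * k⁻¹ = d ∨ k * u * k⁻¹ = u * d * u⁻¹ := by
  obtain ⟨g, hg, hd, -⟩ := h.hconj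
  by_cases h1 : k * u * k⁻¹ = u
  · exact Or.inl h1
  by_cases h2 : k * u * k⁻¹ = d
  · exact Or.inr (Or.inl h2)
  right; right
  rw [hd] at h2 ⊢
  exact h.td.third hg hk (by rw [← hd]; exact h.hne) h1 h2

theorem braid (h : BD 𝔸 u z d w) : d * u * d⁻¹ = u * d * u⁻¹ := by
  rcases h.conj_cases h.td'.hu𝔸 with h1 | h1 | h1
  · exfalso
    have h2 : d * u = u * d := by
      have := congrArg (fun t => t * d) h1
      simpa [mul_assoc] using this
    have h3 : d (u z) = u (d z) := by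
      have := congrArg (fun t : MulAut P => t z) h2
      simpa [MulAut.mul_apply] using this
    rw [h.td.huz, h.dz, map_mul, h.td.huz, h.uw] at h3
    apply h.td.z_ne_one
    have h4 := mul_left_cancel h3
    have := mul_left_cancel (a := w) (b := 1) (c := z) (by rw [mul_one]; exact h4)
    exact this.symm
  · exfalso
    apply h.hne
    have := congrArg (fun t => d⁻¹ * t * d) h1
    simp only [mul_assoc, inv_mul_cancel_left, inv_mul_cancel, mul_one] at this
    exact this.symm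
  · exact h1

theorem frattini (h : BD 𝔸 u z d w) {α : MulAut P} (hα : α ∈ 𝔸) :
    ∃ l ∈ Subgroup.closure ({u, d} : Set (MulAut P)), ∃ k ∈ 𝔸, α = l * k ∧ k * u = u * k := by
  have huC : u ∈ Subgroup.closure ({u, d} : Set (MulAut P)) := Subgroup.subset_closure (by simp)
  have hdC : d ∈ Subgroup.closure ({u, d} : Set (MulAut P)) := Subgroup.subset_closure (by simp)
  have hC𝔸 : Subgroup.closure ({u, d} : Set (MulAut P)) ≤ 𝔸 := by
    rw [Subgroup.closure_le]
    rintro x (rfl | rfl)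
    · exact h.td.hu𝔸
    · exact h.td'.hu𝔸
  have key : ∀ l ∈ Subgroup.closure ({u, d} : Set (MulAut P)), l * u * l⁻¹ = α * u * α⁻¹ →
      ∃ l ∈ Subgroup.closure ({u, d} : Set (MulAut P)), ∃ k ∈ 𝔸, α = l * k ∧ k * u = u * k := by
    intro l hl hlu
    refine ⟨l, hl, l⁻¹ * α, 𝔸.mul_mem (𝔸.inv_mem (hC𝔸 hl)) hα, by group, comm_of_conj_eq hlu⟩
  rcases h.conj_cases hα with h1 | h1 | h1
  · apply key 1 (Subgroup.one_mem _)
    rw [h1]; group
  · apply key (u * d * u⁻¹) (Subgroup.mul_mem _ (Subgroup.mul_mem _ huC hdC) (Subgroup.inv_mem _ huC))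
    rw [h1]
    have hb := h.braid
    calc u * d * u⁻¹ * u * (u * d * u⁻¹)⁻¹ = u * (d * u * d⁻¹) * u⁻¹ := by group
      _ = u * (u * d * u⁻¹) * u⁻¹ := by rw [hb]
      _ = (u * u) * d * (u * u)⁻¹ := by group
      _ = d := by rw [h.td.uu]; group
  · apply key d hdC
    rw [h1]; exact h.braid

theorem fix_closure (h : BD 𝔸 u z d w) {y : P} (hu : u y = y) (hd : d y = y) {l : MulAut P}
    (hl : l ∈ Subgroup.closure ({u, d} : Set (MulAut P))) : l y = y := by
  induction hl using Subgroup.closure_induction with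
  | mem x hx =>
    rcases hx with rfl | rfl
    · exact hu
    · exact hd
  | one => rfl
  | mul a b _ _ ha hb => rw [MulAut.mul_apply, hb, ha]
  | inv a _ ha =>
    have := congrArg (a⁻¹ : MulAut P) ha
    rw [MulAut.inv_apply_self] at this
    exact this.symm

theorem conj_mem_closure (h : BD 𝔸 u z d w) {k : MulAut P} (hk : k ∈ 𝔸) :
    k * u * k⁻¹ ∈ Subgroup.closure ({u, d} : Set (MulAut P)) := by
  have huC : u ∈ Subgroup.closure ({u, d} : Set (MulAut P)) := Subgroup.subset_closure (by simp)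
  have hdC : d ∈ Subgroup.closure ({u, d} : Set (MulAut P)) := Subgroup.subset_closure (by simp)
  rcases h.conj_cases hk with h1 | h1 | h1
  · rw [h1]; exact huC
  · rw [h1]; exact hdC
  · rw [h1]
    exact Subgroup.mul_mem _ (Subgroup.mul_mem _ huC hdC) (Subgroup.inv_mem _ huC)

theorem moved (h : BD 𝔸 u z d w) {l : MulAut P}
    (hl : l ∈ Subgroup.closure ({u, d} : Set (MulAut P))) :
    ∀ y : P, y⁻¹ * l y ∈ Subgroup.closure ({z, w} : Set P) := by
  have hzC : z ∈ Subgroup.closure ({z, w} : Set P) := Subgroup.subset_closure (by simp)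
  have hwC : w ∈ Subgroup.closure ({z, w} : Set P) := Subgroup.subset_closure (by simp)
  induction hl using Subgroup.closure_induction with
  | mem x hx =>
    intro y
    rcases hx with rfl | rfl
    · obtain ⟨k, hk⟩ := h.td.hform y
      rw [hk, inv_mul_cancel_left]
      exact Subgroup.pow_mem _ hzC k
    · obtain ⟨k, hk⟩ := h.td'.hform y
      rw [hk, inv_mul_cancel_left]
      exact Subgroup.pow_mem _ hwC k
  | one => intro y; simp
  | mul a b _ _ ha hb =>
    intro y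
    have h1 := hb y
    have h2 := ha y
    have h3 := ha (y⁻¹ * b y)
    have e : y⁻¹ * (a * b) y = (y⁻¹ * a y) * ((y⁻¹ * b y) * ((y⁻¹ * b y)⁻¹ * a (y⁻¹ * b y))) := by
      rw [mul_inv_cancel_left, map_mul, map_inv, MulAut.mul_apply]
      group
    rw [e]
    exact Subgroup.mul_mem _ h2 (Subgroup.mul_mem _ h1 h3)
  | inv a _ ha =>
    intro y
    have h1 := ha (a⁻¹ y)
    rw [MulAut.apply_inv_self] at h1
    have e : y⁻¹ * a⁻¹ y = ((a⁻¹ y)⁻¹ * y)⁻¹ := by group
    rw [e]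
    exact Subgroup.inv_mem _ h1

theorem zdec (h : BD 𝔸 u z d w) (y : P) : d y = y ∨ d (y * z) = y * z := by
  rcases h.td'.form' y with h1 | h1
  · exact Or.inl h1
  · right
    rw [map_mul, h1, h.dz]
    calc y * w * (z * w) = y * (w * (z * w)) := by rw [mul_assoc]
      _ = y * (z * (w * w)) := by rw [← mul_assoc w z w, h.td.hc w z, mul_assoc]
      _ = y * z := by rw [h.td'.zz, mul_one]

end BD

end Cfsg.Agent.h26Cp2
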