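import Mathlib
import Cfsg.Agent.Lib_helper7_MaxClass

set_option autoImplicit false
set_option linter.style.haveILetI false

namespace Cfsg.Agent.h26MaxCls


variable {X : Type*} [Group X] [Finite X] {p : ℕ} [hp : Fact p.Prime]

/-- In a finite `p`-group the upper central series is strictly increasing until it reaches `⊤`. -/
theorem ucs_lt_succ (hX : IsPGroup p X) (k : ℕ) (h : Subgroup.upperCentralSeries X k ≠ ⊤) :
    Subgroup.upperCentralSeries X k < Subgroup.upperCentralSeries X (k + 1) := by
  have hQp : IsPGroup p (X ⧸ Subgroup.upperCentralSeries X k) := hX.to_quotient _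
  haveI : Nontrivial (X ⧸ Subgroup.upperCentralSeries X k) := by
    rw [← not_subsingleton_iff_nontrivial]
    intro hs
    exact h (QuotientGroup.subgroup_eq_top_of_subsingleton _ hs)
  haveI := hQp.center_nontrivial
  obtain ⟨⟨q, hq⟩, hq1⟩ := exists_ne (1 : Subgroup.center (X ⧸ Subgroup.upperCentralSeries X k))
  obtain ⟨x, rfl⟩ := QuotientGroup.mk_surjective q
  refine lt_of_le_of_ne (Subgroup.upperCentralSeries_mono X (Nat.le_succ k)) ?_
  intro heq
  have hx : x ∈ Subgroup.upperCentralSeries X (k + 1) := by
    rw [Subgroup.mem_upperCentralSeries_succ_iff]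
    intro y
    rw [← QuotientGroup.eq_one_iff]
    have h1 := Subgroup.mem_center_iff.mp hq (QuotientGroup.mk y)
    rw [commutatorElement_def]
    simp only [QuotientGroup.mk_mul, QuotientGroup.mk_inv]
    rw [← h1]
    group
  rw [← heq] at hx
  apply hq1
  apply Subtype.ext
  exact (QuotientGroup.eq_one_iff x).mpr hx

/-- If `Z_{j+1} ≠ ⊤` then `X / Z_{j+1}` is not cyclic; in particular `p²` divides the index. -/
theorem sq_dvd_index_ucs_succ (hX : IsPGroup p X) (j : ℕ) (h : Subgroup.upperCentralSeries X (j + 1) ≠ ⊤) :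
    p ^ 2 ∣ (Subgroup.upperCentralSeries X (j + 1)).index := by
  obtain ⟨m, hm⟩ := hX.index (Subgroup.upperCentralSeries X (j + 1))
  have hm0 : m ≠ 0 := by
    rintro rfl
    rw [pow_zero, Subgroup.index_eq_one] at hm
    exact h hm
  have hm1 : m ≠ 1 := by
    rintro rfl
    rw [pow_one] at hm
    apply h
    have hle : Subgroup.upperCentralSeries X j ≤ Subgroup.upperCentralSeries X (j + 1) :=
      Subgroup.upperCentralSeries_mono X (Nat.le_succ j)
    have hcardQ : Nat.card (X ⧸ Subgroup.upperCentralSeries X (j + 1)) = p := by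
      rw [← Subgroup.index_eq_card]; exact hm
    haveI : IsCyclic (X ⧸ Subgroup.upperCentralSeries X (j + 1)) := isCyclic_of_prime_card hcardQ
    let f : X ⧸ Subgroup.upperCentralSeries X j →* X ⧸ Subgroup.upperCentralSeries X (j + 1) :=
      QuotientGroup.map _ _ (MonoidHom.id X) (by intro x hx; exact hle hx)
    have hker : f.ker ≤ Subgroup.center (X ⧸ Subgroup.upperCentralSeries X j) := by
      intro q hq
      obtain ⟨x, rfl⟩ := QuotientGroup.mk_surjective q
      have hx : x ∈ Subgroup.upperCentralSeries X (j + 1) := by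
        rw [MonoidHom.mem_ker] at hq
        have : f (QuotientGroup.mk x) = QuotientGroup.mk x := rfl
        rw [this] at hq
        exact (QuotientGroup.eq_one_iff x).mp hq
      rw [Subgroup.mem_center_iff]
      intro q'
      obtain ⟨y, rfl⟩ := QuotientGroup.mk_surjective q'
      have h1 := (Subgroup.mem_upperCentralSeries_succ_iff.mp hx) y
      rw [← QuotientGroup.eq_one_iff, commutatorElement_def] at h1
      simp only [QuotientGroup.mk_mul, QuotientGroup.mk_inv] at h1
      have h2 : (QuotientGroup.mk x : X ⧸ Subgroup.upperCentralSeries X j) * QuotientGroup.mk y =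
          (QuotientGroup.mk x * QuotientGroup.mk y * (QuotientGroup.mk x)⁻¹ *
            (QuotientGroup.mk y)⁻¹) * (QuotientGroup.mk y * QuotientGroup.mk x) := by group
      rw [h2, h1, one_mul]
    rw [eq_top_iff]
    intro a _
    rw [Subgroup.mem_upperCentralSeries_succ_iff]
    intro b
    rw [← QuotientGroup.eq_one_iff, commutatorElement_def]
    simp only [QuotientGroup.mk_mul, QuotientGroup.mk_inv]
    have h3 := commutative_of_cyclic_center_quotient f hker (QuotientGroup.mk a) (QuotientGroup.mk b)
    rw [h3]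
    group
  have : 2 ≤ m := by omega
  rw [hm]
  exact pow_dvd_pow p this

theorem mul_card_ucs_dvd (hX : IsPGroup p X) (k : ℕ) (h : Subgroup.upperCentralSeries X k ≠ ⊤) :
    p * Nat.card (Subgroup.upperCentralSeries X k) ∣ Nat.card (Subgroup.upperCentralSeries X (k + 1)) := by
  have hlt := ucs_lt_succ hX k h
  have h1 : Nat.card (Subgroup.upperCentralSeries X k) *
      (Subgroup.upperCentralSeries X k).relIndex (Subgroup.upperCentralSeries X (k + 1)) =
      Nat.card (Subgroup.upperCentralSeries X (k + 1)) := by
    have := Subgroup.card_mul_index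
      ((Subgroup.upperCentralSeries X k).subgroupOf (Subgroup.upperCentralSeries X (k + 1)))
    rw [Nat.card_congr (Subgroup.subgroupOfEquivOfLe hlt.le).toEquiv] at this
    exact this
  -- relIndex is a power of p, not 1
  have hdvd : (Subgroup.upperCentralSeries X k).relIndex (Subgroup.upperCentralSeries X (k + 1)) ∣
      Nat.card X :=
    (Dvd.intro_left _ h1).trans (Subgroup.card_subgroup_dvd_card _)
  obtain ⟨n, hn⟩ := hX.exists_card_eq
  rw [hn] at hdvd
  obtain ⟨m, _, hm⟩ := (Nat.dvd_prime_pow hp.out).mp hdvd
  have hm0 : m ≠ 0 := by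
    rintro rfl
    rw [pow_zero, Subgroup.relIndex_eq_one] at hm
    exact absurd hm (not_le_of_gt hlt)
  have hpd : p ∣ (Subgroup.upperCentralSeries X k).relIndex (Subgroup.upperCentralSeries X (k + 1)) := by
    rw [hm]; exact dvd_pow_self p hm0
  rw [← h1, mul_comm]
  exact Nat.mul_dvd_mul_left _ hpd

/-- In a `p`-group of order `p^n` and class at least `n - 1` (`n ≥ 3`), the `j`-th term of the upper
central series has order `p^j` for `j ≤ n - 2`. -/
theorem card_ucs (hX : IsPGroup p X) (n : ℕ) (hn : Nat.card X = p ^ n) (h3 : 3 ≤ n)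
    (hm : Subgroup.upperCentralSeries X (n - 2) ≠ ⊤) :
    ∀ j, j ≤ n - 2 → Nat.card (Subgroup.upperCentralSeries X j) = p ^ j := by
  have hp1 : 1 < p := hp.out.one_lt
  have hne : ∀ j, j ≤ n - 2 → Subgroup.upperCentralSeries X j ≠ ⊤ := by
    intro j hj h
    apply hm
    rw [eq_top_iff, ← h]
    exact Subgroup.upperCentralSeries_mono X hj
  have hlow : ∀ j, j ≤ n - 2 → p ^ j ∣ Nat.card (Subgroup.upperCentralSeries X j) := by
    intro j
    induction j with
    | zero => intro _; simp
    | succ j ih =>
      intro hj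
      have h1 := mul_card_ucs_dvd hX j (hne j (by omega))
      have h2 := ih (by omega)
      rw [pow_succ, mul_comm]
      exact (Nat.mul_dvd_mul_left p h2).trans h1
  have hup : ∀ k, k ≤ n - 2 → p ^ k * Nat.card (Subgroup.upperCentralSeries X (n - 2 - k)) ∣
      Nat.card (Subgroup.upperCentralSeries X (n - 2)) := by
    intro k
    induction k with
    | zero => intro _; simp
    | succ k ih =>
      intro hk
      have h1 := mul_card_ucs_dvd hX (n - 2 - (k + 1)) (hne _ (by omega))
      have e : n - 2 - (k + 1) + 1 = n - 2 - k := by omega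
      rw [e] at h1
      have h2 := ih (by omega)
      have h3' : p ^ (k + 1) * Nat.card (Subgroup.upperCentralSeries X (n - 2 - (k + 1))) =
          p ^ k * (p * Nat.card (Subgroup.upperCentralSeries X (n - 2 - (k + 1)))) := by ring
      rw [h3']
      exact (Nat.mul_dvd_mul_left _ h1).trans h2
  have htop : Nat.card (Subgroup.upperCentralSeries X (n - 2)) * p ^ 2 ∣ p ^ n := by
    have e : n - 2 = (n - 3) + 1 := by omega
    have h1 := sq_dvd_index_ucs_succ hX (n - 3) (by rw [← e]; exact hm)
    rw [← e] at h1
    rw [← hn, ← Subgroup.card_mul_index (Subgroup.upperCentralSeries X (n - 2))]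
    exact Nat.mul_dvd_mul_left _ h1
  intro j hj
  obtain ⟨a, ha⟩ := (hX.to_subgroup (Subgroup.upperCentralSeries X j)).exists_card_eq
  have h1 := hlow j hj
  have h2 := hup (n - 2 - j) (by omega)
  have e : n - 2 - (n - 2 - j) = j := by omega
  rw [e] at h2
  have h4 : p ^ (n - 2 - j) * Nat.card (Subgroup.upperCentralSeries X j) * p ^ 2 ∣ p ^ n :=
    (Nat.mul_dvd_mul_right h2 _).trans htop
  rw [ha] at h1 h4 ⊢
  rw [← pow_add, ← pow_add] at h4
  have h5 := (Nat.pow_dvd_pow_iff_le_right hp1).mp h1
  have h6 := (Nat.pow_dvd_pow_iff_le_right hp1).mp h4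
  have : a = j := by omega
  rw [this]

/-- The centralizer of the second centre has index `p` in a `p`-group of maximal class of
order at least `p^4` (we only need `|Z| = p`, `|Z₂| = p²`). -/
theorem index_centralizer_Z2 (hX : IsPGroup p X)
    (h1 : Nat.card (Subgroup.center X) = p) (h2 : Nat.card (Subgroup.upperCentralSeries X 2) = p ^ 2) :
    (Subgroup.centralizer ((Subgroup.upperCentralSeries X 2 : Subgroup X) : Set X)).index = p := by
  have hp1 : 1 < p := hp.out.one_lt
  have hle : Subgroup.center X ≤ Subgroup.upperCentralSeries X 2 := by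
    rw [← Subgroup.upperCentralSeries_one]; exact Subgroup.upperCentralSeries_mono X (by norm_num)
  -- an element of Z₂ outside Z
  obtain ⟨w, hw2, hw1⟩ : ∃ w ∈ Subgroup.upperCentralSeries X 2, w ∉ Subgroup.center X := by
    by_contra hcon
    push Not at hcon
    have : Subgroup.upperCentralSeries X 2 = Subgroup.center X := le_antisymm hcon hle
    rw [this, h1] at h2
    have : p ^ 1 < p ^ 2 := Nat.pow_lt_pow_right hp1 (by norm_num)
    rw [pow_one] at this
    omega
  have hcomm : ∀ x ∈ (⊤ : Subgroup X), x * w * x⁻¹ * w⁻¹ ∈ Subgroup.center X := by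
    intro x _
    have e2 : (2 : ℕ) = 1 + 1 := rfl
    rw [e2, Subgroup.mem_upperCentralSeries_succ_iff] at hw2
    have h3 := hw2 x
    rw [Subgroup.upperCentralSeries_one, commutatorElement_def] at h3
    have h4 := (Subgroup.center X).inv_mem h3
    have h5 : (w * x * w⁻¹ * x⁻¹)⁻¹ = x * w * x⁻¹ * w⁻¹ := by group
    rwa [h5] at h4
  obtain ⟨f, hf⟩ := Cfsg.Agent.helper7.exists_commHom (⊤ : Subgroup X) w hcomm
  -- Z₂ = Z ⊔ Subgroup.zpowers w
  have hgen : Subgroup.upperCentralSeries X 2 = Subgroup.center X ⊔ Subgroup.zpowers w := by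
    symm
    have hle2 : Subgroup.center X ⊔ Subgroup.zpowers w ≤ Subgroup.upperCentralSeries X 2 :=
      sup_le hle (by rw [Subgroup.zpowers_le]; exact hw2)
    have hlt : Subgroup.center X < Subgroup.center X ⊔ Subgroup.zpowers w := by
      refine lt_of_le_of_ne le_sup_left ?_
      intro heq
      apply hw1
      rw [heq]
      exact (le_sup_right : Subgroup.zpowers w ≤ _) (Subgroup.mem_zpowers w)
    -- cardinalities
    obtain ⟨a, ha⟩ := (hX.to_subgroup (Subgroup.center X ⊔ Subgroup.zpowers w)).exists_card_eq
    have hd1 : Nat.card (Subgroup.center X) ∣ Nat.card ↥(Subgroup.center X ⊔ Subgroup.zpowers w) :=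
      Subgroup.card_dvd_of_le le_sup_left
    have hd2 : Nat.card ↥(Subgroup.center X ⊔ Subgroup.zpowers w) ∣ Nat.card (Subgroup.upperCentralSeries X 2) :=
      Subgroup.card_dvd_of_le hle2
    have hlt' : Nat.card (Subgroup.center X) < Nat.card ↥(Subgroup.center X ⊔ Subgroup.zpowers w) := by
      apply lt_of_le_of_ne (Subgroup.card_le_of_le hlt.le)
      intro he
      exact hlt.ne (Subgroup.eq_of_le_of_card_ge hlt.le he.ge)
    rw [ha, h1] at hlt'
    rw [ha, h2] at hd2
    have ha2 : a ≤ 2 := (Nat.pow_dvd_pow_iff_le_right hp1).mp hd2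
    have ha1 : 1 < a := by
      by_contra hcon
      push Not at hcon
      have : p ^ a ≤ p ^ 1 := Nat.pow_le_pow_right hp1.le hcon
      rw [pow_one] at this
      omega
    have : a = 2 := by omega
    subst this
    exact Subgroup.eq_of_le_of_card_ge hle2 (by rw [ha, h2])
  -- ker f = centralizer Z₂ (as subgroup of ⊤)
  have hker : ∀ x : (⊤ : Subgroup X), x ∈ f.ker ↔
      (x : X) ∈ Subgroup.centralizer ((Subgroup.upperCentralSeries X 2 : Subgroup X) : Set X) := by
    intro x
    rw [MonoidHom.mem_ker]
    constructor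
    · intro hx
      have h3 : (x : X) * w * (x : X)⁻¹ * w⁻¹ = 1 := by
        rw [← hf x, hx]; rfl
      have h4 : (x : X) * w = w * (x : X) := by
        have : (x : X) * w = ((x : X) * w * (x : X)⁻¹ * w⁻¹) * (w * (x : X)) := by group
        rw [this, h3, one_mul]
      rw [Subgroup.mem_centralizer_iff]
      intro y hy
      rw [SetLike.mem_coe, hgen] at hy
      -- y ∈ center ⊔ Subgroup.zpowers w
      have hyc : y ∈ Subgroup.centralizer ({(x : X)} : Set X) := by
        have hsup : Subgroup.center X ⊔ Subgroup.zpowers w ≤ Subgroup.centralizer ({(x : X)} : Set X) := by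
          apply sup_le
          · intro z hz
            rw [Subgroup.mem_centralizer_iff]
            intro t ht
            rw [Set.mem_singleton_iff] at ht
            subst ht
            exact (Subgroup.mem_center_iff.mp hz _)
          · rw [Subgroup.zpowers_le, Subgroup.mem_centralizer_iff]
            intro t ht
            rw [Set.mem_singleton_iff] at ht
            subst ht
            exact h4
        exact hsup hy
      rw [Subgroup.mem_centralizer_iff] at hyc
      exact (hyc (x : X) rfl).symm
    · intro hx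
      apply Subtype.ext
      rw [hf x]
      have h4 := Subgroup.mem_centralizer_iff.mp hx w hw2
      show (x : X) * w * (x : X)⁻¹ * w⁻¹ = 1
      rw [← h4]; group
  -- index computation
  have hidx : f.ker.index = Nat.card f.range := Subgroup.index_ker f
  have hrange_ne : f.range ≠ ⊥ := by
    intro hbot
    apply hw1
    rw [Subgroup.mem_center_iff]
    intro x
    have hxk : (⟨x, Subgroup.mem_top x⟩ : (⊤ : Subgroup X)) ∈ f.ker := by
      rw [MonoidHom.mem_ker]
      have : f ⟨x, Subgroup.mem_top x⟩ ∈ f.range := ⟨_, rfl⟩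
      rw [hbot, Subgroup.mem_bot] at this
      exact this
    have := (hker _).mp hxk
    exact (Subgroup.mem_centralizer_iff.mp this w hw2).symm
  have hrcard : Nat.card f.range = p := by
    have hd : Nat.card f.range ∣ p := by
      rw [← h1]; exact Subgroup.card_subgroup_dvd_card _
    rcases (Nat.dvd_prime hp.out).mp hd with h | h
    · exfalso; exact hrange_ne (Subgroup.card_eq_one.mp h)
    · exact h
  -- transfer index from subgroup of ⊤ to X
  have hmap : f.ker.map (⊤ : Subgroup X).subtype =
      Subgroup.centralizer ((Subgroup.upperCentralSeries X 2 : Subgroup X) : Set X) := by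
    ext x
    constructor
    · rintro ⟨y, hy, rfl⟩
      exact (hker y).mp hy
    · intro hx
      exact ⟨⟨x, Subgroup.mem_top x⟩, (hker _).mpr hx, rfl⟩
  rw [← hmap, Subgroup.index_map_subtype, hidx, hrcard, Subgroup.index_top, mul_one]

end Cfsg.Agent.h26MaxCls
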