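import Cfsg.Statements.S5270
import Cfsg.Agent.Lib_helper26_MaxCls
import Cfsg.Agent.Lib_helper26_Sat
import Cfsg.Agent.Lib_helper25_SatBasic
import Cfsg.Agent.Lib_helper25_Fusion
import Cfsg.Agent.Lib_helper25_SatEquiv
import Cfsg.Agent.Lib_helper25_SatEquiv2
import Cfsg.Agent.Lib_helper25_SatRS
import Cfsg.Agent.S5081

set_option autoImplicit false
open Cfsg Cfsg.FusionSystem Cfsg.Agent.helper25

namespace Cfsg.Agent.S5270

open Cfsg.FusionSystem Cfsg.Agent.helper25 in
theorem fn_of_normal {Ω : Type*} [Group Ω] {S : Subgroup Ω} [Finite S] (F : Cfsg.FusionSystem S)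
    {P : Subgroup Ω} (hP : P ≤ S) (hn : S ≤ Subgroup.normalizer (P : Set Ω)) :
    F.IsFullyNormalized P := by
  refine ⟨hP, fun Q _ => ?_⟩
  have h1 : normalizerIn S P = S := by
    unfold normalizerIn; exact inf_eq_left.mpr hn
  rw [h1]
  have h2 : normalizerIn S Q ≤ S := inf_le_left
  exact Subgroup.card_le_of_le h2

theorem mem_map_center {Ω : Type*} [Group Ω] {S : Subgroup Ω} (x : Ω) :
    x ∈ (Subgroup.center ↥S).map S.subtype ↔ x ∈ S ∧ ∀ s ∈ S, s * x = x * s := by
  constructor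
  · rintro ⟨y, hy, rfl⟩
    refine ⟨y.2, fun s hs => ?_⟩
    have := Subgroup.mem_center_iff.mp hy ⟨s, hs⟩
    exact congrArg Subtype.val this
  · rintro ⟨hx, h⟩
    refine ⟨⟨x, hx⟩, ?_, rfl⟩
    show (⟨x, hx⟩ : ↥S) ∈ Subgroup.center ↥S
    rw [Subgroup.mem_center_iff]
    intro s
    exact Subtype.ext (h s s.2)

/-- Let p ≥ 5 be a prime, S a finite p-group of maximal class of order p^n with n ≥ 4, and F a saturated fusion system over S. If some map of F defined on the second centre Z₂(S) with image Z₂(S) does not carry Z(S) into itself, then the centralizer C_S(Z₂(S)) is an F-essential subgroup. -/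
theorem result {Ω : Type*} [Group Ω] {S : Subgroup Ω} [Finite S] (p : ℕ) [Fact p.Prime] (hS : IsPGroup p ↥S) (n : ℕ) (hn : Nat.card S = p ^ n) (h4 : 4 ≤ n) (hmax : Subgroup.lowerCentralSeries S (n - 2) ≠ ⊥) (F : Cfsg.FusionSystem S) (hF : F.IsSaturated p) (hp : 5 ≤ p) (φ : ↥((Subgroup.upperCentralSeries ↥S 2).map S.subtype) →* Ω) (hφ : φ ∈ F.Hom ((Subgroup.upperCentralSeries ↥S 2).map S.subtype)) (hφZ : φ.range = ((Subgroup.upperCentralSeries ↥S 2).map S.subtype)) (hmove : ∃ (z : Ω) (hz : z ∈ ((Subgroup.upperCentralSeries ↥S 2).map S.subtype)), z ∈ ((Subgroup.center ↥S).map S.subtype) ∧ φ ⟨z, hz⟩ ∉ ((Subgroup.center ↥S).map S.subtype)) : F.IsEssential p (S ⊓ Subgroup.centralizer (((Subgroup.upperCentralSeries ↥S 2).map S.subtype) : Set Ω)) := by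
  classical
  have hp1 : 1 < p := (Fact.out : p.Prime).one_lt
  -- intrinsic facts
  have hucs : Subgroup.upperCentralSeries ↥S (n - 2) ≠ ⊤ := by
    intro h
    rw [← Subgroup.lowerCentralSeries_eq_bot_iff_upperCentralSeries_eq_top] at h
    apply hmax
    rw [← Subgroup.top_subtype_lowerCentralSeries, h, Subgroup.map_bot]
  have hcards := Cfsg.Agent.h26MaxCls.card_ucs hS n hn (by omega) hucs
  have hc1 : Nat.card (Subgroup.center ↥S) = p := by
    have := hcards 1 (by omega)
    rwa [Subgroup.upperCentralSeries_one, pow_one] at this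
  have hc2 : Nat.card (Subgroup.upperCentralSeries ↥S 2) = p ^ 2 := hcards 2 (by omega)
  have hidx := Cfsg.Agent.h26MaxCls.index_centralizer_Z2 hS hc1 hc2
  generalize hZ2' : (Subgroup.upperCentralSeries ↥S 2).map S.subtype = Z2 at φ hφ hφZ hmove ⊢
  have hZ2 : Z2 = (Subgroup.upperCentralSeries ↥S 2).map S.subtype := hZ2'.symm
  set Z1 := (Subgroup.center ↥S).map S.subtype with hZ1
  set C := S ⊓ Subgroup.centralizer (Z2 : Set Ω) with hC
  have hZ2S : Z2 ≤ S := by rw [hZ2]; exact Subgroup.map_subtype_le _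
  have hCS : C ≤ S := inf_le_left
  have hCsub : C.subgroupOf S =
      Subgroup.centralizer ((Subgroup.upperCentralSeries ↥S 2 : Subgroup ↥S) : Set ↥S) := by
    ext x
    rw [Subgroup.mem_subgroupOf, Subgroup.mem_centralizer_iff]
    constructor
    · intro hx y hy
      have h1 := Subgroup.mem_centralizer_iff.mp hx.2 (y : Ω) (by rw [hZ2]; exact ⟨y, hy, rfl⟩)
      exact Subtype.ext h1
    · intro hx
      refine Subgroup.mem_inf.mpr ⟨x.2, ?_⟩
      rw [Subgroup.mem_centralizer_iff]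
      intro y' hy'
      rw [SetLike.mem_coe, hZ2] at hy'
      obtain ⟨y, hy, rfl⟩ := hy'
      exact congrArg Subtype.val (hx y hy)
  have hCidx : C.relIndex S = p := by
    show (C.subgroupOf S).index = p
    rw [hCsub]; exact hidx
  have hCltS : C < S := by
    refine lt_of_le_of_ne hCS ?_
    intro h
    have : C.relIndex S = 1 := Subgroup.relIndex_eq_one.mpr h.ge
    omega
  -- subgroups strictly between
  have hmaxC : ∀ Q : Subgroup Ω, C < Q → Q ≤ S → S = Q := by
    intro Q hCQ hQS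
    have h1 := Subgroup.relIndex_mul_relIndex C Q S hCQ.le hQS
    rw [hCidx] at h1
    have h2 : C.relIndex Q ≠ 1 := by
      intro h
      exact absurd (Subgroup.relIndex_eq_one.mp h) (not_le_of_gt hCQ)
    have h3 : C.relIndex Q ∣ p := Dvd.intro _ h1
    rcases (Nat.dvd_prime (Fact.out : p.Prime)).mp h3 with h | h
    · exact absurd h h2
    · rw [h] at h1
      have h4 : Q.relIndex S = 1 := by
        have hp0 : 0 < p := by omega
        exact Nat.eq_of_mul_eq_mul_left hp0 (by rw [h1, mul_one])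
      exact le_antisymm (Subgroup.relIndex_eq_one.mp h4) hQS
  -- Z2 commutative, hence inside C
  have hZ2card : Nat.card Z2 = p ^ 2 := by
    rw [hZ2, Subgroup.card_map_of_injective (Subgroup.subtype_injective S)]
    exact hc2
  have hZ2comm : ∀ a ∈ Z2, ∀ b ∈ Z2, a * b = b * a := by
    intro a ha b hb
    have := (IsPGroup.isMulCommutative_of_card_eq_prime_sq hZ2card).is_comm.comm
      (⟨a, ha⟩ : Z2) ⟨b, hb⟩
    exact congrArg Subtype.val this
  have hZ2C : Z2 ≤ C := by
    intro a ha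
    refine Subgroup.mem_inf.mpr ⟨hZ2S ha, ?_⟩
    rw [Subgroup.mem_centralizer_iff]
    intro b hb
    exact hZ2comm b hb a ha
  -- normality in S
  have hZ2n : S ≤ Subgroup.normalizer (Z2 : Set Ω) := by
    have hnorm : (Subgroup.upperCentralSeries ↥S 2).Normal := inferInstance
    refine le_normalizer_of_conj_mem (fun s hs x hx => ?_)
    rw [hZ2] at hx ⊢
    obtain ⟨y, hy, rfl⟩ := Subgroup.mem_map.mp hx
    have h1 := hnorm.conj_mem y hy (⟨s, hs⟩ : ↥S)
    exact Subgroup.mem_map.mpr ⟨_, h1, rfl⟩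
  have hCn : S ≤ Subgroup.normalizer (C : Set Ω) := by
    apply le_normalizer_of_conj_mem
    intro s hs c hc
    have hc' := Subgroup.mem_inf.mp hc
    refine Subgroup.mem_inf.mpr ⟨S.mul_mem (S.mul_mem hs hc'.1) (S.inv_mem hs), ?_⟩
    rw [Subgroup.mem_centralizer_iff]
    intro y hy
    have hy' : s⁻¹ * y * s ∈ Z2 := by
      have := (Subgroup.mem_normalizer_iff''.mp (hZ2n hs) y).mp hy
      exact this
    have h1 := Subgroup.mem_centralizer_iff.mp hc'.2 _ hy'
    have e1 : y * (s * c * s⁻¹) = s * ((s⁻¹ * y * s) * c) * s⁻¹ := by group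
    have e2 : s * c * s⁻¹ * y = s * (c * (s⁻¹ * y * s)) * s⁻¹ := by group
    rw [e1, e2, h1]
  have hfnZ2 : F.IsFullyNormalized Z2 := fn_of_normal F hZ2S hZ2n
  have hfnC : F.IsFullyNormalized C := fn_of_normal F hCS hCn
  have hrec : F.IsReceptive Z2 :=
    receptive_of_fullyCentralized hS F hF (fullyNormalized_imp hS F hF hfnZ2).1
  obtain ⟨ψ, hψ, hψφ⟩ := hrec.2 Z2 φ hφ hφZ
  have hCext : C ≤ Cfsg.FusionSystem.extender S Z2 φ :=
    Cfsg.Agent.helper26.centralizerIn_le_extender S Z2 φ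
  have hψC : ψ.comp (Subgroup.inclusion hCext) ∈ F.Hom C := restrict_mem F hCext hψ
  set ψC := ψ.comp (Subgroup.inclusion hCext) with hψCdef
  have hψCval : ∀ (y : Ω) (hy : y ∈ Z2), ψC ⟨y, hZ2C hy⟩ = φ ⟨y, hy⟩ := by
    intro y hy
    exact hψφ y hy (hCext (hZ2C hy))
  have hψCC : ∀ c : C, ψC c ∈ C := by
    intro c
    refine Subgroup.mem_inf.mpr ⟨(F.le_of_mem hψC).2 c, ?_⟩
    rw [Subgroup.mem_centralizer_iff]
    intro y hy
    have hy' : y ∈ φ.range := by rw [hφZ]; exact hy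
    obtain ⟨y', rfl⟩ := hy'
    rw [← hψCval y'.1 y'.2, ← map_mul, ← map_mul]
    congr 1
    apply Subtype.ext
    show (y' : Ω) * (c : Ω) = (c : Ω) * (y' : Ω)
    exact Subgroup.mem_centralizer_iff.mp (Subgroup.mem_inf.mp c.2).2 _ y'.2
  have hinjC := F.injective_of_mem hψC
  have hrangeC : ψC.range = C := by
    haveI : Finite C := finite_of_le S hCS
    apply Subgroup.eq_of_le_of_card_ge
    · rintro _ ⟨c, rfl⟩; exact hψCC c
    · rw [← Nat.card_congr (MonoidHom.ofInjective hinjC).toEquiv]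
  obtain ⟨α₀, hα₀F, hα₀val⟩ := exists_isFIso_of_mem F hψC hrangeC
  have hα₀mem : α₀ ∈ F.autGroup C := (mem_autGroup_iff F hCS α₀).mpr hα₀F
  -- apply the criterion
  rcases Cfsg.Agent.S5081.result p hS F hF C hCltS hfnC _ rfl with ⟨_, hH⟩ | ⟨hess, _⟩
  swap
  · exact hess
  exfalso
  -- the stabilizer of Z1 inside Aut(C)
  let K : Subgroup (MulAut C) :=
    { carrier := {α | ∀ x : C, (x : Ω) ∈ Z1 ↔ ((α x : C) : Ω) ∈ Z1}
      one_mem' := fun x => Iff.rfl
      mul_mem' := by
        intro a b ha hb x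
        show (x : Ω) ∈ Z1 ↔ ((a (b x) : C) : Ω) ∈ Z1
        exact (hb x).trans (ha (b x))
      inv_mem' := by
        intro a ha x
        have := ha (a⁻¹ x)
        have e : a (a⁻¹ x) = x := by
          show a (a.symm x) = x
          exact MulEquiv.apply_symm_apply a x
        rw [e] at this
        exact this.symm }
  have hHK : F.autGroup C ≤ K := by
    rw [← hH, Subgroup.closure_le]
    rintro α ⟨Q, hCQ, χ, hχ, hχα⟩
    have hQS : Q ≤ S := (F.le_of_mem hχ).1
    have hSQ : S = Q := hmaxC Q hCQ hQS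
    subst hSQ
    intro x
    have hinj := F.injective_of_mem hχ
    have hsurj : ∀ s ∈ S, ∃ t : S, χ t = s := by
      intro s hs
      let g : ↥S → ↥S := fun t => ⟨χ t, (F.le_of_mem hχ).2 t⟩
      have hg : Function.Injective g := by
        intro a b hab
        exact hinj (congrArg Subtype.val hab)
      obtain ⟨t, ht⟩ := (Finite.injective_iff_surjective.mp hg) ⟨s, hs⟩
      exact ⟨t, congrArg Subtype.val ht⟩
    rw [← hχα x]
    set x' : ↥S := Subgroup.inclusion hCQ.le x with hx'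
    show ((x : Ω)) ∈ Z1 ↔ χ x' ∈ Z1
    have hxx' : (x : Ω) = (x' : Ω) := rfl
    rw [hxx', mem_map_center, mem_map_center]
    constructor
    · rintro ⟨_, h⟩
      refine ⟨(F.le_of_mem hχ).2 x', fun s hs => ?_⟩
      obtain ⟨t, rfl⟩ := hsurj s hs
      rw [← map_mul, ← map_mul]
      congr 1
      exact Subtype.ext (h t t.2)
    · rintro ⟨_, h⟩
      refine ⟨x'.2, fun s hs => ?_⟩
      have h1 := h (χ ⟨s, hs⟩) ((F.le_of_mem hχ).2 _)
      rw [← map_mul, ← map_mul] at h1
      exact congrArg Subtype.val (hinj h1)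
  obtain ⟨z, hz, hz1, hz2⟩ := hmove
  have := hHK hα₀mem ⟨z, hZ2C hz⟩
  have h1 : ((α₀ ⟨z, hZ2C hz⟩ : C) : Ω) = φ ⟨z, hz⟩ := by
    rw [hα₀val]; exact hψCval z hz
  rw [h1] at this
  exact hz2 (this.mp hz1)

end Cfsg.Agent.S5270
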