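import Cfsg.Agent.Lib_helper26_Cp2A
import Cfsg.Agent.Lib_helper26_Cp2C
import Cfsg.Agent.Lib_helper25_SatRS
import Cfsg.Agent.Lib_helper25_SatEquiv2
import Cfsg.Agent.S5270

set_option autoImplicit false
set_option linter.style.haveILetI false

namespace Cfsg.Agent.h26Cp2

open Cfsg Cfsg.FusionSystem Cfsg.Agent.helper25

variable {Ω : Type*} [Group Ω] {S : Subgroup Ω}

theorem extend_to_top [Finite S] {p : ℕ} [Fact p.Prime] (hS : IsPGroup p S) (F : FusionSystem S)
    (hF : F.IsSaturated p) {E : Subgroup Ω} (hES : E ≤ S)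
    (hEn : S ≤ Subgroup.normalizer (E : Set Ω)) {α : MulAut E} (hα : α ∈ F.autGroup E)
    (hnorm : ∀ b ∈ autInducedBy S E, α * b * α⁻¹ ∈ autInducedBy S E) :
    ∃ β : MulAut S, β ∈ F.autGroup S ∧ ∀ q : E, ((β ⟨q, hES q.2⟩ : S) : Ω) = α q := by
  have hfn : F.IsFullyNormalized E := Cfsg.Agent.S5270.fn_of_normal F hES hEn
  obtain ⟨hfc, _⟩ := fullyNormalized_imp hS F hF hfn
  have hrec := receptive_of_fullyCentralized hS F hF hfc
  obtain ⟨α', hα', hval⟩ := exists_extend_aut F hrec hα hnorm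
  have hN : normalizerIn S E = S := by
    unfold normalizerIn; exact inf_eq_left.mpr hEn
  have hval' : ∀ (q : Ω) (hq : q ∈ E) (hq' : q ∈ normalizerIn S E),
      ((α' ⟨q, hq'⟩ : normalizerIn S E) : Ω) = α ⟨q, hq⟩ := by
    intro q hq hq'
    exact hval ⟨q, hq⟩
  clear hval
  generalize normalizerIn S E = N at α' hα' hval' hN
  subst hN
  exact ⟨α', hα', fun q => hval' q q.2 (hES q.2)⟩

/-- the subgroups of index `2` containing the centre. -/
def MM (S : Subgroup Ω) : Set (Subgroup Ω) :=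
  {E | Zs S ≤ E ∧ E ≤ S ∧ 2 * Nat.card E = Nat.card S}

/-- the context for the prime `2`. -/
structure Hyp (S : Subgroup Ω) (F : FusionSystem S) (z : Ω) : Prop where
  hS : IsPGroup 2 S
  hF : F.IsSaturated 2
  hna : ¬ IsMulCommutative ↥S
  hidx : (Subgroup.center ↥S).index = 2 ^ 2
  hzZ : z ∈ Zs S
  hz1 : z ≠ 1
  hz2 : z * z = 1
  hcomm : ∀ a ∈ S, ∀ b ∈ S, a * b * a⁻¹ * b⁻¹ = 1 ∨ a * b * a⁻¹ * b⁻¹ = z

theorem exists_z [Finite S] (hc : Nat.card ↥⁅S, S⁆ = 2) :
    ∃ z ∈ ⁅S, S⁆, z ≠ 1 ∧ z * z = 1 ∧ ∀ c ∈ ⁅S, S⁆, c = 1 ∨ c = z := by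
  obtain ⟨y, hy1, hy2⟩ := (Nat.card_eq_two_iff' (1 : ↥⁅S, S⁆)).mp hc
  have hall : ∀ c ∈ ⁅S, S⁆, c = 1 ∨ c = (y : Ω) := by
    intro c hc'
    by_cases h1 : c = 1
    · exact Or.inl h1
    · right
      have := hy2 ⟨c, hc'⟩ (fun h => h1 (congrArg Subtype.val h))
      exact congrArg Subtype.val this
  refine ⟨y, y.2, fun h => hy1 (Subtype.ext h), ?_, hall⟩
  rcases hall _ (Subgroup.mul_mem _ y.2 y.2) with h1 | h1
  · exact h1
  · exfalso
    apply hy1
    apply Subtype.ext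
    exact mul_left_cancel (a := (y : Ω)) (b := (y : Ω)) (c := 1) (by rw [mul_one]; exact h1)

theorem hyp_of [Finite S] (hS : IsPGroup 2 S) (F : FusionSystem S) (hF : F.IsSaturated 2)
    (hna : ¬ IsMulCommutative ↥S) (hidx : (Subgroup.center ↥S).index = 2 ^ 2) :
    ∃ z, Hyp S F z := by
  have hc := card_comm hS hna hidx
  obtain ⟨z, hzc, hz1, hz2, hall⟩ := exists_z hc
  refine ⟨z, hS, hF, hna, hidx, comm_le_Zs hidx hzc, hz1, hz2, ?_⟩
  intro a ha b hb
  apply hall
  have := Subgroup.commutator_mem_commutator ha hb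
  rwa [commutatorElement_def] at this

section mm

variable [Finite S] {F : FusionSystem S} {z : Ω}

theorem card_S_four (h : Hyp S F z) : Nat.card S = Nat.card (Zs S) * 4 := by
  rw [card_S_eq, h.hidx]; norm_num

theorem MM.rel (h : Hyp S F z) {E : Subgroup Ω} (hE : E ∈ MM S) :
    (Zs S).relIndex E = 2 ∧ E.relIndex S = 2 := by
  obtain ⟨hZE, hES, hcard⟩ := hE
  have h1 := card_S_four h
  haveI : Finite (Zs S) := finite_of_le S inf_le_left
  have hpos : 0 < Nat.card (Zs S) := Nat.card_pos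
  have hposS : 0 < Nat.card S := Nat.card_pos
  apply mid_props (p := 2) h.hidx hZE hES
  · rintro rfl; omega
  · intro e; rw [e] at hcard; omega

theorem MM.comm (h : Hyp S F z) {E : Subgroup Ω} (hE : E ∈ MM S) :
    ∀ a ∈ E, ∀ b ∈ E, a * b = b * a :=
  mid_comm (p := 2) hE.2.1 (MM.rel h hE).1

theorem MM.normal (h : Hyp S F z) {E : Subgroup Ω} (hE : E ∈ MM S) :
    S ≤ Subgroup.normalizer (E : Set Ω) := by
  apply le_normalizer_of_conj_mem
  intro s hs y hy
  have h1 : s * y * s⁻¹ * y⁻¹ ∈ Zs S := comm_mem_Zs (p := 2) h.hidx hs (hE.2.1 hy)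
  have : s * y * s⁻¹ = (s * y * s⁻¹ * y⁻¹) * y := by group
  rw [this]; exact E.mul_mem (hE.1 h1) hy

theorem MM.coset (h : Hyp S F z) {E : Subgroup Ω} (hE : E ∈ MM S) {x s : Ω} (hx : x ∈ S)
    (hxE : x ∉ E) (hs : s ∈ S) (hsE : s ∉ E) : s * x⁻¹ ∈ E := by
  have hidx2 : (E.subgroupOf S).index = 2 := (MM.rel h hE).2
  have h0 := Subgroup.mul_mem_iff_of_index_two hidx2 (a := (⟨s, hs⟩ : ↥S))
    (b := (⟨x, hx⟩ : ↥S)⁻¹)
  have h1 : (⟨s, hs⟩ : ↥S) * (⟨x, hx⟩ : ↥S)⁻¹ ∈ E.subgroupOf S := by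
    rw [h0]
    constructor
    · intro h'; exact absurd (Subgroup.mem_subgroupOf.mp h') hsE
    · intro h'
      rw [Subgroup.inv_mem_iff] at h'
      exact absurd (Subgroup.mem_subgroupOf.mp h') hxE
  exact Subgroup.mem_subgroupOf.mp h1

theorem MM.u_form (h : Hyp S F z) {E : Subgroup Ω} (hE : E ∈ MM S) {x : Ω} (hxS : x ∈ S)
    (hxN : x ∈ Subgroup.normalizer (E : Set Ω)) (y : E) :
    normAut E x hxN y = y ∨ normAut E x hxN y = y * ⟨z, hE.1 h.hzZ⟩ := by
  have hyS : (y : Ω) ∈ S := hE.2.1 y.2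
  rcases h.hcomm x hxS y hyS with h1 | h1
  · left
    apply Subtype.ext
    rw [normAut_coe]
    have := congrArg (fun t => t * (y : Ω)) h1
    simpa [mul_assoc] using this
  · right
    apply Subtype.ext
    rw [normAut_coe, Subgroup.coe_mul]
    show x * (y : Ω) * x⁻¹ = y * z
    have h2 : x * (y : Ω) * x⁻¹ = z * y := by
      have := congrArg (fun t => t * (y : Ω)) h1
      simpa [mul_assoc] using this
    rw [h2]
    exact (Subgroup.mem_centralizer_iff.mp h.hzZ.2 y hyS).symm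

theorem MM.u_fix_iff (h : Hyp S F z) {E : Subgroup Ω} (hE : E ∈ MM S) {x : Ω} (hxS : x ∈ S)
    (hxE : x ∉ E) (hxN : x ∈ Subgroup.normalizer (E : Set Ω)) (y : E) :
    normAut E x hxN y = y ↔ (y : Ω) ∈ Zs S := by
  have hc := MM.comm h hE
  constructor
  · intro h1
    have h2 : x * (y : Ω) * x⁻¹ = y := congrArg Subtype.val h1
    have hxy : x * (y : Ω) = y * x := by
      have := congrArg (fun t => t * x) h2
      simpa [mul_assoc] using this
    refine mem_Zs.mpr ⟨hE.2.1 y.2, fun s hs => ?_⟩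
    by_cases hsE : s ∈ E
    · exact hc s hsE y y.2
    · have h3 := MM.coset h hE hxS hxE hs hsE
      have h4 : s * x⁻¹ * (y : Ω) = y * (s * x⁻¹) := hc _ h3 y y.2
      calc s * (y : Ω) = (s * x⁻¹) * (x * y) := by group
        _ = (s * x⁻¹) * (y * x) := by rw [hxy]
        _ = (s * x⁻¹ * y) * x := by group
        _ = (y * (s * x⁻¹)) * x := by rw [h4]
        _ = y * s := by group
  · intro hy
    apply Subtype.ext
    rw [normAut_coe]
    have := Subgroup.mem_centralizer_iff.mp hy.2 x hxS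
    rw [this]; group

theorem MM.autS (h : Hyp S F z) {E : Subgroup Ω} (hE : E ∈ MM S) {x : Ω} (hxS : x ∈ S)
    (hxE : x ∉ E) (hxN : x ∈ Subgroup.normalizer (E : Set Ω)) :
    ∀ b ∈ autInducedBy S E, b = 1 ∨ b = normAut E x hxN := by
  intro b hb
  have hc := MM.comm h hE
  obtain ⟨g, hgS, hgb⟩ := (mem_autInducedBy_iff S E b).mp hb
  by_cases hgE : g ∈ E
  · left
    ext y
    rw [hgb y]
    show g * (y : Ω) * g⁻¹ = y
    rw [hc g hgE y y.2]; group
  · right
    ext y
    rw [hgb y, normAut_coe]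
    have h3 := MM.coset h hE hxS hxE hgS hgE
    have hxy : x * (y : Ω) * x⁻¹ ∈ E := (normAut E x hxN y).2
    have h4 := hc _ h3 _ hxy
    calc g * (y : Ω) * g⁻¹ = (g * x⁻¹ * (x * y * x⁻¹)) * (g * x⁻¹)⁻¹ := by group
      _ = (x * y * x⁻¹ * (g * x⁻¹)) * (g * x⁻¹)⁻¹ := by rw [h4]
      _ = x * y * x⁻¹ := by group

theorem MM.td (h : Hyp S F z) {E : Subgroup Ω} (hE : E ∈ MM S) {x : Ω} (hxS : x ∈ S)
    (hxE : x ∉ E) (hxN : x ∈ Subgroup.normalizer (E : Set Ω)) :
    TD (F.autGroup E) (normAut E x hxN) ⟨z, hE.1 h.hzZ⟩ := by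
  have hES : E ≤ S := hE.2.1
  haveI : Finite E := finite_of_le S hES
  have hEn := MM.normal h hE
  have hform := MM.u_form h hE hxS hxN
  have hfix := MM.u_fix_iff h hE hxS hxE hxN
  have hautS := MM.autS h hE hxS hxE hxN
  set u : MulAut E := normAut E x hxN with hu
  set zE : E := ⟨z, hE.1 h.hzZ⟩ with hzE
  have hzz : zE * zE = 1 := Subtype.ext h.hz2
  have huz : u zE = zE := (hfix zE).mpr h.hzZ
  have hou : u ^ 2 = 1 := by
    ext y
    show ((u ^ 2) y : Ω) = y
    rw [sq, MulAut.mul_apply]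
    rcases hform y with h1 | h1
    · rw [h1, h1]
    · rw [h1, map_mul, h1, huz, mul_assoc, hzz, mul_one]
  have hu1 : u ≠ 1 := by
    intro h1
    have hle : E ≤ Zs S := by
      intro y hy
      have : u ⟨y, hy⟩ = ⟨y, hy⟩ := by rw [h1]; rfl
      exact (hfix ⟨y, hy⟩).mp this
    have := Subgroup.relIndex_eq_one.mpr hle
    have h2 := (MM.rel h hE).1
    omega
  have huS : u ∈ autInducedBy S E := normAut_mem S E ⟨hxS, hxN⟩
  have hcard : ¬ 2 ^ 2 ∣ Nat.card (F.autGroup E) := by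
    intro hdvd
    have hfn := Cfsg.Agent.S5270.fn_of_normal F hES hEn
    obtain ⟨_, hfa⟩ := fullyNormalized_imp h.hS F h.hF hfn
    obtain ⟨R₀, hR₀⟩ := hfa.2
    have h1 := R₀.pow_dvd_card_of_pow_dvd_card hdvd
    have h2 : (R₀ : Subgroup (F.autGroup E)).map (F.autGroup E).subtype ≤ Subgroup.zpowers u := by
      rintro _ ⟨r, hr, rfl⟩
      rw [hR₀] at hr
      rcases hautS _ (Subgroup.mem_subgroupOf.mp hr) with h3 | h3
      · have : (F.autGroup E).subtype r = 1 := h3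
        rw [this]; exact Subgroup.one_mem _
      · have : (F.autGroup E).subtype r = u := h3
        rw [this]; exact Subgroup.mem_zpowers u
    have hcz : Nat.card (Subgroup.zpowers u) = 2 :=
      Cfsg.Agent.h26AbIdx.card_zpowers_of_prime (p := 2) hou hu1
    have h3 : Nat.card (R₀ : Subgroup (F.autGroup E)) ≤ 2 := by
      calc Nat.card (R₀ : Subgroup (F.autGroup E))
          = Nat.card ((R₀ : Subgroup (F.autGroup E)).map (F.autGroup E).subtype) :=
            (Subgroup.card_map_of_injective (Subgroup.subtype_injective (F.autGroup E))).symm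
        _ ≤ Nat.card (Subgroup.zpowers u) := Subgroup.card_le_of_le h2
        _ = 2 := hcz
    have h4 := Nat.le_of_dvd Nat.card_pos h1
    norm_num at h4
    omega
  refine ⟨h.hS.to_le hES, fun a b => Subtype.ext (MM.comm h hE a a.2 b b.2), hcard,
    autInducedBy_le_autGroup F hES huS, hou, hu1, ?_, huz, ?_⟩
  · rw [sq]; exact hzz
  · intro y
    rcases hform y with h1 | h1
    · exact ⟨0, by rw [h1, pow_zero, mul_one]⟩
    · exact ⟨1, by rw [h1, pow_one]⟩

/-- the conjugates in `Aut_F(E)` of the elements of `Aut_S(E)`. -/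
def Dset (F : FusionSystem S) (E : Subgroup Ω) : Set (MulAut E) :=
  {d | ∃ α ∈ F.autGroup E, ∃ b ∈ autInducedBy S E, d = α * b * α⁻¹}

/-- the common fixed points of `Dset`. -/
def CC (F : FusionSystem S) (E : Subgroup Ω) : Subgroup Ω where
  carrier := {y | ∃ hy : y ∈ E, ∀ d ∈ Dset F E, d ⟨y, hy⟩ = ⟨y, hy⟩}
  one_mem' := ⟨E.one_mem, fun d _ => map_one d⟩
  mul_mem' := by
    rintro a b ⟨ha, ha2⟩ ⟨hb, hb2⟩
    refine ⟨E.mul_mem ha hb, fun d hd => ?_⟩
    have : (⟨a * b, E.mul_mem ha hb⟩ : E) = ⟨a, ha⟩ * ⟨b, hb⟩ := rfl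
    rw [this, map_mul, ha2 d hd, hb2 d hd]
  inv_mem' := by
    rintro a ⟨ha, ha2⟩
    refine ⟨E.inv_mem ha, fun d hd => ?_⟩
    have : (⟨a⁻¹, E.inv_mem ha⟩ : E) = (⟨a, ha⟩ : E)⁻¹ := rfl
    rw [this, map_inv, ha2 d hd]

theorem mem_CC {F : FusionSystem S} {E : Subgroup Ω} {y : Ω} :
    y ∈ CC F E ↔ ∃ hy : y ∈ E, ∀ d ∈ Dset F E, d ⟨y, hy⟩ = ⟨y, hy⟩ := Iff.rfl

/-- the elements moved by `Dset`. -/
def gens (F : FusionSystem S) (E : Subgroup Ω) : Set Ω :=
  {t | ∃ d ∈ Dset F E, ∃ y : E, t = (y : Ω)⁻¹ * ((d y : E) : Ω)}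

theorem struct_E (h : Hyp S F z) {E : Subgroup Ω} (hE : E ∈ MM S) :
    (∀ α ∈ F.autGroup E, ∃ l k : MulAut E, α = l * k ∧
      (∃ β ∈ F.autGroup S, ∀ y : E, ((k y : E) : Ω) = β ⟨y, hE.2.1 y.2⟩) ∧
      (∀ y : E, (y : Ω) ∈ CC F E → l y = y) ∧
      (∀ y : E, (y : Ω)⁻¹ * ((l y : E) : Ω) ∈ Subgroup.closure (gens F E))) ∧
    z ∈ gens F E ∧
    ((Zs S ≤ CC F E ∧ ∀ t ∈ gens F E, t = 1 ∨ t = z) ∨
     (∃ w ∈ E, w ∉ Zs S ∧ w * w = 1 ∧ w ∈ gens F E ∧
        (∀ t ∈ gens F E, t ∈ Subgroup.closure ({z, w} : Set Ω)) ∧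
        z ∉ CC F E ∧ CC F E ≤ Zs S ∧ ∀ y ∈ Zs S, y ∈ CC F E ∨ y * z ∈ CC F E)) := by
  obtain ⟨hZE, hES, hcardE⟩ := id hE
  haveI : Finite E := finite_of_le S hES
  have hEn := MM.normal h hE
  obtain ⟨hrelZ, hrelS⟩ := MM.rel h hE
  obtain ⟨x, hxS, hxE⟩ : ∃ x ∈ S, x ∉ E := by
    by_contra hcon
    push Not at hcon
    have : E.relIndex S = 1 := Subgroup.relIndex_eq_one.mpr hcon
    omega
  have hxN : x ∈ Subgroup.normalizer (E : Set Ω) := hEn hxS
  have td := MM.td h hE hxS hxE hxN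
  have hfix := MM.u_fix_iff h hE hxS hxE hxN
  have hautS := MM.autS h hE hxS hxE hxN
  have hzE : z ∈ E := hZE h.hzZ
  set u : MulAut E := normAut E x hxN with hu
  set zE : E := ⟨z, hZE h.hzZ⟩ with hzEdef
  have huS : u ∈ autInducedBy S E := normAut_mem S E ⟨hxS, hxN⟩
  have hD : ∀ d', d' ∈ Dset F E ↔ d' = 1 ∨ ∃ α ∈ F.autGroup E, d' = α * u * α⁻¹ := by
    intro d'
    constructor
    · rintro ⟨α, hα, b, hb, rfl⟩
      rcases hautS b hb with rfl | rfl
      · left; group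
      · right; exact ⟨α, hα, rfl⟩
    · rintro (rfl | ⟨α, hα, rfl⟩)
      · exact ⟨1, Subgroup.one_mem _, 1, Subgroup.one_mem _, by group⟩
      · exact ⟨α, hα, u, huS, rfl⟩
  have huD : u ∈ Dset F E := (hD u).mpr (Or.inr ⟨1, Subgroup.one_mem _, by group⟩)
  -- extension of automorphisms commuting with `u`
  have hext : ∀ k ∈ F.autGroup E, k * u = u * k →
      ∃ β ∈ F.autGroup S, ∀ y : E, ((k y : E) : Ω) = β ⟨y, hES y.2⟩ := by
    intro k hk hku
    have hnorm : ∀ b ∈ autInducedBy S E, k * b * k⁻¹ ∈ autInducedBy S E := by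
      intro b hb
      rcases hautS b hb with rfl | rfl
      · have : k * 1 * k⁻¹ = (1 : MulAut E) := by group
        rw [this]; exact Subgroup.one_mem _
      · have : k * u * k⁻¹ = u := by rw [hku]; group
        rw [this]; exact huS
    obtain ⟨β, hβ, hβv⟩ := extend_to_top h.hS F h.hF hES hEn hk hnorm
    exact ⟨β, hβ, fun y => (hβv y).symm⟩
  -- `z` is a generator
  have hz_gen : z ∈ gens F E := by
    obtain ⟨y, hyE, hyZ⟩ : ∃ y ∈ E, y ∉ Zs S := by
      by_contra hcon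
      push Not at hcon
      have : (Zs S).relIndex E = 1 := Subgroup.relIndex_eq_one.mpr hcon
      omega
    refine ⟨u, huD, ⟨y, hyE⟩, ?_⟩
    rcases td.form' ⟨y, hyE⟩ with h1 | h1
    · exact absurd ((hfix ⟨y, hyE⟩).mp h1) hyZ
    · rw [h1, Subgroup.coe_mul, inv_mul_cancel_left]
  refine ⟨?_, hz_gen, ?_⟩
  · -- the factorization
    intro α hα
    by_cases hA : ∀ g ∈ F.autGroup E, g * u * g⁻¹ = u
    · have hαu : α * u = u * α := by
        have := hA α hα
        have h2 := congrArg (fun t => t * α) this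
        simpa [mul_assoc] using h2
      refine ⟨1, α, by group, hext α hα hαu, fun y _ => rfl, fun y => ?_⟩
      have : (y : Ω)⁻¹ * (((1 : MulAut E) y : E) : Ω) = 1 := by
        show (y : Ω)⁻¹ * (y : Ω) = 1
        group
      rw [this]; exact Subgroup.one_mem _
    · push Not at hA
      obtain ⟨g, hg, hne⟩ := hA
      have bd := BD.mk' td hg hne
      obtain ⟨l, hl, k, hk, hαlk, hku⟩ := bd.frattini hα
      have hdD : g * u * g⁻¹ ∈ Dset F E := (hD _).mpr (Or.inr ⟨g, hg, rfl⟩)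
      refine ⟨l, k, hαlk, hext k hk hku, ?_, ?_⟩
      · intro y hy
        obtain ⟨hyE, hyfix⟩ := hy
        have h1 : u y = y := hyfix u huD
        have h2 : (g * u * g⁻¹) y = y := hyfix _ hdD
        exact bd.fix_closure h1 h2 hl
      · intro y
        have h1 := bd.moved hl y
        have hle : Subgroup.closure ({zE, g zE} : Set E) ≤
            (Subgroup.closure (gens F E)).comap E.subtype := by
          rw [Subgroup.closure_le]
          rintro t (rfl | rfl)
          · exact Subgroup.subset_closure hz_gen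
          · apply Subgroup.subset_closure
            refine ⟨g * u * g⁻¹, hdD, zE, ?_⟩
            rw [bd.dz, Subgroup.coe_mul, inv_mul_cancel_left]
            rfl
        have h2 := hle h1
        rw [Subgroup.mem_comap] at h2
        simpa using h2
  · by_cases hA : ∀ g ∈ F.autGroup E, g * u * g⁻¹ = u
    · left
      have hD' : ∀ d' ∈ Dset F E, d' = 1 ∨ d' = u := by
        intro d' hd'
        rcases (hD d').mp hd' with h1 | ⟨α, hα, h1⟩
        · exact Or.inl h1
        · right; rw [h1]; exact hA α hα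
      constructor
      · intro ζ hζ
        refine ⟨hZE hζ, fun d' hd' => ?_⟩
        rcases hD' d' hd' with rfl | rfl
        · rfl
        · exact (hfix ⟨ζ, hZE hζ⟩).mpr hζ
      · rintro t ⟨d', hd', y, rfl⟩
        rcases hD' d' hd' with rfl | rfl
        · left
          show (y : Ω)⁻¹ * (y : Ω) = 1
          group
        · rcases td.form' y with h1 | h1
          · left; rw [h1]; group
          · right; rw [h1, Subgroup.coe_mul, inv_mul_cancel_left]
    · right
      push Not at hA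
      obtain ⟨g, hg, hne⟩ := hA
      have bd := BD.mk' td hg hne
      have hdD : g * u * g⁻¹ ∈ Dset F E := (hD _).mpr (Or.inr ⟨g, hg, rfl⟩)
      -- membership in `CC` from being fixed by `u` and `d`
      have hCC : ∀ y : E, u y = y → (g * u * g⁻¹) y = y → (y : Ω) ∈ CC F E := by
        intro y h1 h2
        refine ⟨y.2, fun d' hd' => ?_⟩
        rcases (hD d').mp hd' with rfl | ⟨α, hα, rfl⟩
        · rfl
        · exact bd.fix_closure h1 h2 (bd.conj_mem_closure hα)
      have hwgen : ((g zE : E) : Ω) ∈ gens F E := by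
        refine ⟨g * u * g⁻¹, hdD, zE, ?_⟩
        rw [bd.dz, Subgroup.coe_mul, inv_mul_cancel_left]
      refine ⟨((g zE : E) : Ω), (g zE).2, ?_, ?_, hwgen, ?_, ?_, ?_, ?_⟩
      · intro hw
        exact bd.uw_ne ((hfix (g zE)).mpr hw)
      · have := bd.td'.zz
        exact congrArg Subtype.val this
      · rintro t ⟨d', hd', y, rfl⟩
        rcases (hD d').mp hd' with rfl | ⟨α, hα, rfl⟩
        · have : (y : Ω)⁻¹ * (((1 : MulAut E) y : E) : Ω) = 1 := by
            show (y : Ω)⁻¹ * (y : Ω) = 1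
            group
          rw [this]; exact Subgroup.one_mem _
        · have h1 := bd.moved (bd.conj_mem_closure hα) y
          have hle : Subgroup.closure ({zE, g zE} : Set E) ≤
              (Subgroup.closure ({z, ((g zE : E) : Ω)} : Set Ω)).comap E.subtype := by
            rw [Subgroup.closure_le]
            rintro t (rfl | rfl)
            · exact Subgroup.subset_closure (by simp [hzEdef])
            · exact Subgroup.subset_closure (by simp)
          have h2 := hle h1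
          rw [Subgroup.mem_comap] at h2
          simpa using h2
      · rintro ⟨hzE', hzfix⟩
        exact bd.dz_ne (hzfix _ hdD)
      · rintro y ⟨hyE, hyfix⟩
        exact (hfix ⟨y, hyE⟩).mp (hyfix u huD)
      · intro y hy
        have hyE : y ∈ E := hZE hy
        have h1 : u ⟨y, hyE⟩ = ⟨y, hyE⟩ := (hfix _).mpr hy
        rcases bd.zdec ⟨y, hyE⟩ with h2 | h2
        · left; exact hCC ⟨y, hyE⟩ h1 h2
        · right
          have h3 : u (⟨y, hyE⟩ * zE) = ⟨y, hyE⟩ * zE := by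
            rw [map_mul, h1, td.huz]
          exact hCC (⟨y, hyE⟩ * zE) h3 h2

end mm

end Cfsg.Agent.h26Cp2
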