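import Cfsg.Agent.Lib_helper26_Cp2D
import Cfsg.Agent.S5244

set_option autoImplicit false
set_option linter.style.haveILetI false

namespace Cfsg.Agent.h26Cp2

open Cfsg Cfsg.FusionSystem Cfsg.Agent.helper25

variable {Ω : Type*} [Group Ω] {S : Subgroup Ω}

theorem exists_restrict_iso (F : FusionSystem S) {β : MulAut S} (hβ : β ∈ F.autGroup S)
    {E : Subgroup Ω} (hES : E ≤ S) :
    ∃ (E' : Subgroup Ω) (θ : E ≃* E'), IsFIso F θ ∧ E' ≤ S ∧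
      (∀ y : E, ((θ y : E') : Ω) = β ⟨y, hES y.2⟩) := by
  have hβ' : IsFIso F β := (mem_autGroup_iff F le_rfl β).mp hβ
  have hφ : (S.subtype.comp β.toMonoidHom).comp (Subgroup.inclusion hES) ∈ F.Hom E :=
    restrict_mem F hES hβ'
  obtain ⟨e, he, hecoe⟩ := exists_isFIso_of_mem F hφ rfl
  exact ⟨_, e, he, he.le_right, fun y => hecoe y⟩

theorem Dset_transport (F : FusionSystem S) {E E' : Subgroup Ω} {θ : E ≃* E'} (hθ : IsFIso F θ)
    {β : MulAut S} (hES : E ≤ S) (hθβ : ∀ y : E, ((θ y : E') : Ω) = β ⟨y, hES y.2⟩)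
    {d : MulAut E} (hd : d ∈ Dset F E) : MulAut.congr θ d ∈ Dset F E' := by
  obtain ⟨α, hα, b, hb, rfl⟩ := hd
  refine ⟨MulAut.congr θ α, hθ.congr_mem_autGroup hα, MulAut.congr θ b, ?_, ?_⟩
  · obtain ⟨g, hg, hgb⟩ := (mem_autInducedBy_iff S E b).mp hb
    rw [mem_autInducedBy_iff]
    refine ⟨β ⟨g, hg⟩, (β ⟨g, hg⟩).2, fun y' => ?_⟩
    show ((θ (b (θ.symm y')) : E') : Ω) = _
    rw [hθβ]
    set g' : ↥S := ⟨g, hg⟩ with hg'
    set y₀ : ↥S := ⟨θ.symm y', hES (θ.symm y').2⟩ with hy₀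
    have h1 : (⟨((b (θ.symm y') : E) : Ω), hES (b (θ.symm y')).2⟩ : ↥S) = g' * y₀ * g'⁻¹ :=
      Subtype.ext (hgb _)
    rw [h1, map_mul, map_mul, map_inv]
    have h2 : ((β y₀ : ↥S) : Ω) = y' := by
      rw [hy₀, ← hθβ, MulEquiv.apply_symm_apply]
    rw [Subgroup.coe_mul, Subgroup.coe_mul, Subgroup.coe_inv, h2]
  · rw [map_mul, map_mul, map_inv]

theorem center_inv_S (β : MulAut S) (q : S) (hq : (q : Ω) ∈ Zs S) : ((β q : S) : Ω) ∈ Zs S :=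
  Cfsg.Agent.h26AbIdx.aut_preserves_center Cfsg.Agent.S5244.center_char_S β q hq

theorem MM_transport (F : FusionSystem S) {E E' : Subgroup Ω} (θ : E ≃* E') {β : MulAut S}
    (hE : E ∈ MM S) (hE'S : E' ≤ S)
    (hθβ : ∀ y : E, ((θ y : E') : Ω) = β ⟨y, hE.2.1 y.2⟩) : E' ∈ MM S := by
  refine ⟨?_, hE'S, ?_⟩
  · intro ζ hζ
    have h1 := center_inv_S β⁻¹ ⟨ζ, hζ.1⟩ hζ
    have h2 : ((β⁻¹ ⟨ζ, hζ.1⟩ : S) : Ω) ∈ E := hE.1 h1
    have h3 := hθβ ⟨_, h2⟩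
    have h4 : (⟨((β⁻¹ ⟨ζ, hζ.1⟩ : S) : Ω), hE.2.1 h2⟩ : ↥S) = β⁻¹ ⟨ζ, hζ.1⟩ := rfl
    rw [h4, MulAut.apply_inv_self] at h3
    have h5 : ((θ ⟨_, h2⟩ : E') : Ω) = ζ := h3
    rw [← h5]
    exact (θ _).2
  · rw [← hE.2.2]
    congr 1
    exact (Nat.card_congr θ.toEquiv).symm

/-- the candidate normal subgroup. -/
def Qn (F : FusionSystem S) : Subgroup Ω := Zs S ⊓ ⨅ E ∈ MM S, CC F E

theorem mem_Qn {F : FusionSystem S} {q : Ω} :
    q ∈ Qn F ↔ q ∈ Zs S ∧ ∀ E ∈ MM S, q ∈ CC F E := by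
  unfold Qn
  rw [Subgroup.mem_inf]
  simp only [Subgroup.mem_iInf]

theorem Qn_inv_S (F : FusionSystem S) {β : MulAut S} (hβ : β ∈ F.autGroup S) (q : S)
    (hq : (q : Ω) ∈ Qn F) : ((β q : S) : Ω) ∈ Qn F := by
  rw [mem_Qn] at hq ⊢
  refine ⟨center_inv_S β q hq.1, fun E hE => ?_⟩
  have hES : E ≤ S := hE.2.1
  obtain ⟨E', θ, hθ, hE'S, hθβ⟩ := exists_restrict_iso F (Subgroup.inv_mem _ hβ) hES
  have hE' : E' ∈ MM S := MM_transport F θ hE hE'S hθβ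
  obtain ⟨hq', hqfix⟩ := hq.2 E' hE'
  have h1 := hθβ (θ.symm ⟨q, hq'⟩)
  rw [MulEquiv.apply_symm_apply] at h1
  have h2 : β⁻¹ ⟨((θ.symm ⟨q, hq'⟩ : E) : Ω), hES (θ.symm ⟨q, hq'⟩).2⟩ = q :=
    Subtype.ext h1.symm
  have h3 : (⟨((θ.symm ⟨q, hq'⟩ : E) : Ω), hES (θ.symm ⟨q, hq'⟩).2⟩ : ↥S) = β q := by
    have := congrArg β h2
    rw [MulAut.apply_inv_self] at this
    exact this
  have h4 : ((β q : S) : Ω) = ((θ.symm ⟨q, hq'⟩ : E) : Ω) := by rw [← h3]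
  rw [h4]
  refine ⟨(θ.symm ⟨q, hq'⟩).2, fun d hd => ?_⟩
  have h5 := hqfix _ (Dset_transport F hθ hES hθβ hd)
  have h6 : θ (d (θ.symm ⟨q, hq'⟩)) = ⟨q, hq'⟩ := h5
  have h7 : d (θ.symm ⟨q, hq'⟩) = θ.symm ⟨q, hq'⟩ := by
    apply θ.injective
    rw [h6, MulEquiv.apply_symm_apply]
  exact h7

/-- the subgroup generated by all the moved elements. -/
def TT (F : FusionSystem S) : Subgroup Ω := Subgroup.closure {t | ∃ E ∈ MM S, t ∈ gens F E}

theorem gens_le {F : FusionSystem S} {E : Subgroup Ω} (hES : E ≤ S) {t : Ω} (ht : t ∈ gens F E) :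
    t ∈ S := by
  obtain ⟨d, _, y, rfl⟩ := ht
  exact S.mul_mem (S.inv_mem (hES y.2)) (hES (d y).2)

theorem TT_le (F : FusionSystem S) : TT F ≤ S := by
  unfold TT
  rw [Subgroup.closure_le]
  rintro t ⟨E, hE, ht⟩
  exact gens_le hE.2.1 ht

theorem TT_inv_S (F : FusionSystem S) {β : MulAut S} (hβ : β ∈ F.autGroup S) :
    ∀ t ∈ TT F, ∀ ht : t ∈ S, ((β ⟨t, ht⟩ : S) : Ω) ∈ TT F := by
  intro t htT
  unfold TT at htT
  induction htT using Subgroup.closure_induction with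
  | mem t ht' =>
    intro ht
    obtain ⟨E, hE, d, hd, y, rfl⟩ := ht'
    have hES : E ≤ S := hE.2.1
    obtain ⟨E', θ, hθ, hE'S, hθβ⟩ := exists_restrict_iso F hβ hES
    have hE' : E' ∈ MM S := MM_transport F θ hE hE'S hθβ
    apply Subgroup.subset_closure
    refine ⟨E', hE', MulAut.congr θ d, Dset_transport F hθ hES hθβ hd, θ y, ?_⟩
    have h1 : (⟨(y : Ω)⁻¹ * ((d y : E) : Ω), ht⟩ : ↥S) =
        (⟨y, hES y.2⟩ : ↥S)⁻¹ * (⟨d y, hES (d y).2⟩ : ↥S) := rfl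
    rw [h1, map_mul, map_inv, Subgroup.coe_mul, Subgroup.coe_inv, ← hθβ, ← hθβ]
    show _ = ((θ y : E') : Ω)⁻¹ * ((θ (d (θ.symm (θ y))) : E') : Ω)
    rw [MulEquiv.symm_apply_apply]
  | one =>
    intro ht
    have : (⟨1, ht⟩ : ↥S) = 1 := rfl
    rw [this, map_one]
    exact Subgroup.one_mem _
  | mul a b ha hb iha ihb =>
    intro ht
    have haS : a ∈ S := TT_le F ha
    have hbS : b ∈ S := TT_le F hb
    have : (⟨a * b, ht⟩ : ↥S) = (⟨a, haS⟩ : ↥S) * (⟨b, hbS⟩ : ↥S) := rfl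
    rw [this, map_mul, Subgroup.coe_mul]
    exact Subgroup.mul_mem _ (iha haS) (ihb hbS)
  | inv a ha iha =>
    intro ht
    have haS : a ∈ S := TT_le F ha
    have : (⟨a⁻¹, ht⟩ : ↥S) = (⟨a, haS⟩ : ↥S)⁻¹ := rfl
    rw [this, map_inv, Subgroup.coe_inv]
    exact Subgroup.inv_mem _ (iha haS)

theorem focal_le [Finite S] {p : ℕ} [Fact p.Prime] (hS : IsPGroup p S) (F : FusionSystem S)
    (hF : F.IsSaturated p) (T : Subgroup Ω) (hcomm : ⁅S, S⁆ ≤ T)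
    (hT : ∀ P : Subgroup Ω, (P = S ∨ F.IsEssential p P) → ∀ α ∈ F.autGroup P, ∀ x : P,
      (x : Ω)⁻¹ * ((α x : P) : Ω) ∈ T) :
    F.hyperfocalSubgroup p ≤ T := by
  have hE : ∀ P : Subgroup Ω, (P = S ∨ F.IsEssential p P) →
      F.autGroup P ≤ (modSystem F T hcomm).autGroup P := by
    intro P hP α hα
    have hPS : P ≤ S := by
      rcases hP with rfl | hP
      · exact le_rfl
      · exact hP.1.1
    apply Subgroup.subset_closure
    exact ⟨(mem_autGroup_iff F hPS α).mp hα, fun x => hT P hP α hα x⟩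
  have hsub := alperin hS F hF _ hE
  have h1 : F.focalSubgroup ≤ T := by
    unfold focalSubgroup
    rw [Subgroup.closure_le]
    rintro _ ⟨P, φ, x, hφ, rfl⟩
    exact (hsub P hφ).2 x
  have h2 : F.hyperfocalSubgroup p ≤ F.focalSubgroup := by
    rw [focal_eq_hyperfocal_sup hS F hF]; exact le_sup_left
  exact h2.trans h1

section two

variable [Finite S] {F : FusionSystem S} {z : Ω}

theorem ess_mem_MM (h : Hyp S F z) {P : Subgroup Ω} (hP : F.IsEssential 2 P) : P ∈ MM S := by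
  obtain ⟨hZP, hPS, hPZ, hPne⟩ := ess_mid h.hS F h.hF h.hna hP
  obtain ⟨_, hrel2⟩ := mid_props (p := 2) h.hidx hZP hPS hPZ hPne
  refine ⟨hZP, hPS, ?_⟩
  have h1 := Subgroup.card_mul_index (P.subgroupOf S)
  have h2 : Nat.card ↥(P.subgroupOf S) = Nat.card P :=
    Nat.card_congr (Subgroup.subgroupOfEquivOfLe hPS).toEquiv
  have h3 : (P.subgroupOf S).index = 2 := hrel2
  rw [h2, h3] at h1
  omega

theorem Qn_normal (h : Hyp S F z) : F.IsNormal (Qn F) := by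
  have hQZ : Qn F ≤ Zs S := fun q hq => (mem_Qn.mp hq).1
  rw [isNormal_iff_essential h.hS F h.hF]
  intro P hP
  rcases hP with rfl | hP
  · exact ⟨hQZ.trans inf_le_left, Cfsg.Agent.S5244.map_eq_of_forall _
      (fun α hα q hq => Qn_inv_S F hα q hq)⟩
  · have hPM := ess_mem_MM h hP
    refine ⟨hQZ.trans hPM.1, Cfsg.Agent.S5244.map_eq_of_forall _ (fun α hα q hq => ?_)⟩
    obtain ⟨hfac, -, -⟩ := struct_E h hPM
    obtain ⟨l, k, hαlk, ⟨β, hβ, hkβ⟩, hlfix, -⟩ := hfac α hα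
    have h1 : ((k q : P) : Ω) ∈ Qn F := by
      rw [hkβ q]
      exact Qn_inv_S F hβ _ hq
    have h2 : l (k q) = k q := hlfix (k q) ((mem_Qn.mp h1).2 P hPM)
    rw [hαlk, MulAut.mul_apply, h2]
    exact h1

theorem hyp_le_TT (h : Hyp S F z) {E₀ : Subgroup Ω} (hE₀ : E₀ ∈ MM S)
    (hii : ∀ β ∈ F.autGroup S, ∀ x : S, (x : Ω)⁻¹ * ((β x : S) : Ω) ∈ TT F) :
    F.hyperfocalSubgroup 2 ≤ TT F := by
  apply focal_le h.hS F h.hF
  · rw [Subgroup.commutator_le]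
    intro a ha b hb
    rw [commutatorElement_def]
    rcases h.hcomm a ha b hb with h1 | h1
    · rw [h1]; exact Subgroup.one_mem _
    · rw [h1]
      obtain ⟨-, hz, -⟩ := struct_E h hE₀
      exact Subgroup.subset_closure ⟨E₀, hE₀, hz⟩
  · intro P hP α hα x
    rcases hP with rfl | hP
    · exact hii α hα x
    · have hPM := ess_mem_MM h hP
      obtain ⟨hfac, -, -⟩ := struct_E h hPM
      obtain ⟨l, k, hαlk, ⟨β, hβ, hkβ⟩, -, hlmov⟩ := hfac α hα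
      have h1 : (x : Ω)⁻¹ * ((α x : P) : Ω) =
          ((x : Ω)⁻¹ * ((k x : P) : Ω)) * (((k x : P) : Ω)⁻¹ * ((l (k x) : P) : Ω)) := by
        rw [hαlk, MulAut.mul_apply]; group
      rw [h1]
      apply Subgroup.mul_mem
      · rw [hkβ x]
        exact hii β hβ ⟨x, hPM.2.1 x.2⟩
      · have hle : Subgroup.closure (gens F P) ≤ TT F := by
          apply Subgroup.closure_mono
          intro t ht
          exact ⟨P, hPM, ht⟩
        exact hle (hlmov (k x))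

end two

end Cfsg.Agent.h26Cp2
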