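import Cfsg.Agent.Lib_helper26_Cp2E
import Cfsg.Agent.S0206

set_option autoImplicit false
set_option linter.style.haveILetI false
set_option maxHeartbeats 800000

namespace Cfsg.Agent.h26Cp2

open Cfsg Cfsg.FusionSystem Cfsg.Agent.helper25

variable {Ω : Type*} [Group Ω] {S : Subgroup Ω}

theorem dih8 {G : Type*} [Group G] [Finite G] (x₁ x₂ : G) (h1 : x₁ * x₁ = 1) (h2 : x₂ * x₂ = 1)
    (h3 : (x₁ * x₂) ^ 2 ≠ 1) (h4 : (x₁ * x₂) ^ 4 = 1) :
    Nat.card (Subgroup.closure ({x₁, x₂} : Set G)) = 8 ∧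
      Nonempty (↥(Subgroup.closure ({x₁, x₂} : Set G)) ≃* DihedralGroup 4) := by
  have hx₁ : x₁ ≠ 1 := by rintro rfl; apply h3; rw [one_mul, sq, h2]
  have hx₂ : x₂ ≠ 1 := by rintro rfl; apply h3; rw [mul_one, sq, h1]
  have hne : x₁ ≠ x₂ := by rintro rfl; apply h3; rw [h1, one_pow]
  have o1 : orderOf x₁ = 2 := orderOf_eq_prime (by rw [sq]; exact h1) hx₁
  have o2 : orderOf x₂ = 2 := orderOf_eq_prime (by rw [sq]; exact h2) hx₂
  have o3 : orderOf (x₁ * x₂) = 4 := by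
    have := orderOf_eq_prime_pow (p := 2) (n := 1) (x := x₁ * x₂) (by simpa using h3)
      (by norm_num; exact h4)
    simpa using this
  obtain ⟨e⟩ := Cfsg.Agent.S0206.result x₁ x₂ o1 o2 hne
  rw [o3] at e
  exact ⟨by rw [Nat.card_congr e.toEquiv, DihedralGroup.nat_card], ⟨e⟩⟩

section two

variable [Finite S] {F : FusionSystem S} {z : Ω}

theorem MM.cosetZ (h : Hyp S F z) {E : Subgroup Ω} (hE : E ∈ MM S) {y e : Ω} (hyE : y ∈ E)
    (hyZ : y ∉ Zs S) (heE : e ∈ E) (heZ : e ∉ Zs S) : e * y⁻¹ ∈ Zs S := by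
  have hidx2 : ((Zs S).subgroupOf E).index = 2 := (MM.rel h hE).1
  have h0 := Subgroup.mul_mem_iff_of_index_two hidx2 (a := (⟨e, heE⟩ : ↥E))
    (b := (⟨y, hyE⟩ : ↥E)⁻¹)
  have h1 : (⟨e, heE⟩ : ↥E) * (⟨y, hyE⟩ : ↥E)⁻¹ ∈ (Zs S).subgroupOf E := by
    rw [h0]
    constructor
    · intro h'; exact absurd (Subgroup.mem_subgroupOf.mp h') heZ
    · intro h'
      rw [Subgroup.inv_mem_iff] at h'
      exact absurd (Subgroup.mem_subgroupOf.mp h') hyZ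
  exact Subgroup.mem_subgroupOf.mp h1

theorem MM.inter (h : Hyp S F z) {E₁ E₂ : Subgroup Ω} (hE₁ : E₁ ∈ MM S) (hE₂ : E₂ ∈ MM S)
    {y : Ω} (hy₁ : y ∈ E₁) (hy₂ : y ∈ E₂) (hyZ : y ∉ Zs S) : E₁ = E₂ := by
  have hle : E₁ ≤ E₂ := by
    intro e he
    by_cases heZ : e ∈ Zs S
    · exact hE₂.1 heZ
    · have h1 := MM.cosetZ h hE₁ hy₁ hyZ he heZ
      have h2 : e = (e * y⁻¹) * y := by group
      rw [h2]; exact E₂.mul_mem (hE₂.1 h1) hy₂
  haveI : Finite E₂ := finite_of_le S hE₂.2.1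
  apply Subgroup.eq_of_le_of_card_ge hle
  have h3 := hE₁.2.2
  have h4 := hE₂.2.2
  omega

theorem Hyp.exists_comm (h : Hyp S F z) : ∃ a ∈ S, ∃ b ∈ S, a * b * a⁻¹ * b⁻¹ = z := by
  by_contra hcon
  push Not at hcon
  apply h.hna
  refine ⟨⟨fun a b => Subtype.ext ?_⟩⟩
  rcases h.hcomm a a.2 b b.2 with h1 | h1
  · have := congrArg (fun t => t * (b : Ω) * a) h1
    simpa [mul_assoc] using this
  · exact absurd h1 (hcon a a.2 b b.2)

theorem Hyp.beta_z (h : Hyp S F z) (β : MulAut S) : ((β ⟨z, h.hzZ.1⟩ : S) : Ω) = z := by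
  obtain ⟨a, ha, b, hb, hab⟩ := h.exists_comm
  set a' : ↥S := ⟨a, ha⟩ with ha'
  set b' : ↥S := ⟨b, hb⟩ with hb'
  have h1 : (⟨z, h.hzZ.1⟩ : ↥S) = a' * b' * a'⁻¹ * b'⁻¹ := Subtype.ext hab.symm
  rcases h.hcomm (β a') (β a').2 (β b') (β b').2 with h2 | h2
  · exfalso
    have h3 : β (a' * b' * a'⁻¹ * b'⁻¹) = 1 := by
      apply Subtype.ext
      rw [map_mul, map_mul, map_mul, map_inv, map_inv]
      exact h2
    have h4 : a' * b' * a'⁻¹ * b'⁻¹ = 1 := β.injective (h3.trans (map_one β).symm)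
    apply h.hz1
    rw [← hab]
    exact congrArg Subtype.val h4
  · rw [h1, map_mul, map_mul, map_mul, map_inv, map_inv]
    exact h2

/-- two noncommuting elements have commutator `z`. -/
theorem Hyp.comm_eq (h : Hyp S F z) {a b : Ω} (ha : a ∈ S) (hb : b ∈ S) (hab : a * b ≠ b * a) :
    a * b * a⁻¹ * b⁻¹ = z := by
  rcases h.hcomm a ha b hb with h1 | h1
  · exfalso
    apply hab
    have := congrArg (fun t => t * b * a) h1
    simpa [mul_assoc] using this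
  · exact h1

theorem MM.not_comm (h : Hyp S F z) {E : Subgroup Ω} (hE : E ∈ MM S) {x w : Ω} (hxS : x ∈ S)
    (hxE : x ∉ E) (hwE : w ∈ E) (hwZ : w ∉ Zs S) : x * w ≠ w * x := by
  intro hxw
  have hxN : x ∈ Subgroup.normalizer (E : Set Ω) := MM.normal h hE hxS
  apply hwZ
  apply (MM.u_fix_iff h hE hxS hxE hxN ⟨w, hwE⟩).mp
  apply Subtype.ext
  rw [normAut_coe]
  show x * w * x⁻¹ = w
  rw [hxw]; group

end two

end Cfsg.Agent.h26Cp2
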