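import Cfsg.Agent.Lib_helper26_Cp2F

set_option autoImplicit false
set_option linter.style.haveILetI false
set_option maxHeartbeats 1600000

namespace Cfsg.Agent.h26Cp2

open Cfsg Cfsg.FusionSystem Cfsg.Agent.helper25

variable {Ω : Type*} [Group Ω] {S : Subgroup Ω}

section two

variable [Finite S] {F : FusionSystem S} {z : Ω}

/-- the "type B" data of a member of `MM`. -/
def TypeB (F : FusionSystem S) (z : Ω) (E : Subgroup Ω) (w : Ω) : Prop :=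
  w ∈ E ∧ w ∉ Zs S ∧ w * w = 1 ∧ w ∈ gens F E ∧
    (∀ t ∈ gens F E, t ∈ Subgroup.closure ({z, w} : Set Ω)) ∧
    z ∉ CC F E ∧ CC F E ≤ Zs S ∧ ∀ y ∈ Zs S, y ∈ CC F E ∨ y * z ∈ CC F E

theorem Qn_eq_bot (h : Hyp S F z) (hcore : F.core = ⊥) : Qn F = ⊥ := by
  have h1 : Qn F ≤ F.core := le_sSup (Qn_normal h)
  rw [hcore] at h1
  exact le_bot_iff.mp h1

theorem exists_typeB (h : Hyp S F z) (hcore : F.core = ⊥) :
    ∃ E ∈ MM S, ∃ w, TypeB F z E w := by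
  by_contra hcon
  have h1 : z ∈ Qn F := by
    refine mem_Qn.mpr ⟨h.hzZ, fun E hE => ?_⟩
    obtain ⟨-, -, hc⟩ := struct_E h hE
    rcases hc with ⟨hZC, -⟩ | ⟨w, hB⟩
    · exact hZC h.hzZ
    · exact absurd ⟨E, hE, w, hB⟩ hcon
  rw [Qn_eq_bot h hcore, Subgroup.mem_bot] at h1
  exact h.hz1 h1

/-- squares of central elements lie in `CC` of a type B subgroup. -/
theorem TypeB.sq_mem {E : Subgroup Ω} {w : Ω} (hB : TypeB F z E w) (h : Hyp S F z) {ζ : Ω}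
    (hζ : ζ ∈ Zs S) : ζ * ζ ∈ CC F E := by
  obtain ⟨-, -, -, -, -, -, -, hdec⟩ := hB
  rcases hdec ζ hζ with h1 | h1
  · exact Subgroup.mul_mem _ h1 h1
  · have h2 := Subgroup.mul_mem _ h1 h1
    have hzc : z * ζ = ζ * z := Subgroup.mem_centralizer_iff.mp hζ.2 z h.hzZ.1
    have e : ζ * z * (ζ * z) = ζ * ζ := by
      calc ζ * z * (ζ * z) = ζ * (z * ζ) * z := by group
        _ = ζ * (ζ * z) * z := by rw [hzc]
        _ = ζ * ζ * (z * z) := by group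
        _ = ζ * ζ := by rw [h.hz2, mul_one]
    rw [e] at h2
    exact h2

/-- an involution of `S` lies in one of two distinct type B subgroups. -/
theorem invol_mem (h : Hyp S F z) {E₁ E₂ : Subgroup Ω} (hE₁ : E₁ ∈ MM S) (hE₂ : E₂ ∈ MM S)
    {w₁ w₂ : Ω} (hB₁ : TypeB F z E₁ w₁) (hB₂ : TypeB F z E₂ w₂) (hne : E₁ ≠ E₂)
    {t : Ω} (htS : t ∈ S) (ht2 : t * t = 1) : t ∈ E₁ ∨ t ∈ E₂ := by
  by_contra hcon
  push Not at hcon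
  obtain ⟨ht₁, ht₂⟩ := hcon
  have hw₁E := hB₁.1
  have hw₁Z := hB₁.2.1
  have hw₁2 := hB₁.2.2.1
  have hw₂E := hB₂.1
  have hw₂Z := hB₂.2.1
  have hw₂2 := hB₂.2.2.1
  have hw₁S : w₁ ∈ S := hE₁.2.1 hw₁E
  have hw₂S : w₂ ∈ S := hE₂.2.1 hw₂E
  have hw₂E₁ : w₂ ∉ E₁ := fun hc => hne (MM.inter h hE₁ hE₂ hc hw₂E hw₂Z)
  have hw₁inv : w₁⁻¹ = w₁ := inv_eq_of_mul_eq_one_left hw₁2
  have hw₂inv : w₂⁻¹ = w₂ := inv_eq_of_mul_eq_one_left hw₂2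
  -- e = t w₂ ∈ E₁
  have he : t * w₂⁻¹ ∈ E₁ := MM.coset h hE₁ hw₂S hw₂E₁ htS ht₁
  have heZ : t * w₂⁻¹ ∉ Zs S := by
    intro hc
    apply ht₂
    have : t = (t * w₂⁻¹) * w₂ := by group
    rw [this]
    exact E₂.mul_mem (hE₂.1 hc) hw₂E
  have hζ : t * w₂⁻¹ * w₁⁻¹ ∈ Zs S := MM.cosetZ h hE₁ hw₁E hw₁Z he heZ
  rw [hw₁inv, hw₂inv] at hζ
  -- the commutator of w₁ and w₂
  have hnc : w₂ * w₁ ≠ w₁ * w₂ := MM.not_comm h hE₁ hw₂S hw₂E₁ hw₁E hw₁Z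
  have hcz : w₂ * w₁ * w₂ * w₁ = z := by
    have := h.comm_eq hw₂S hw₁S hnc
    rw [hw₁inv, hw₂inv] at this
    exact this
  -- t = ζ w₁ w₂
  set ζ := t * w₂ * w₁ with hζdef
  have ht : t = ζ * w₁ * w₂ := by
    rw [hζdef]
    calc t = t * (w₂ * (w₁ * w₁) * w₂) := by rw [hw₁2, mul_one, hw₂2, mul_one]
      _ = t * w₂ * w₁ * w₁ * w₂ := by group
  have hζc : ∀ s ∈ S, s * ζ = ζ * s := fun s hs => Subgroup.mem_centralizer_iff.mp hζ.2 s hs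
  have h1 : ζ * ζ * (w₁ * w₂ * w₁ * w₂) = 1 := by
    have e1 : t * t = ζ * ζ * (w₁ * w₂ * w₁ * w₂) := by
      have e2 : w₁ * w₂ * ζ = ζ * (w₁ * w₂) := hζc _ (S.mul_mem hw₁S hw₂S)
      calc t * t = ζ * w₁ * w₂ * (ζ * w₁ * w₂) := by rw [← ht]
        _ = ζ * (w₁ * w₂ * ζ) * (w₁ * w₂) := by group
        _ = ζ * (ζ * (w₁ * w₂)) * (w₁ * w₂) := by rw [e2]
        _ = ζ * ζ * (w₁ * w₂ * w₁ * w₂) := by group
    rw [← e1]; exact ht2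
  have hcz' : w₁ * w₂ * w₁ * w₂ = z := by
    -- conjugate of `hcz` by `w₁`
    have : w₁ * w₂ * w₁ * w₂ = w₁ * (w₂ * w₁ * w₂ * w₁) * w₁ := by
      calc w₁ * w₂ * w₁ * w₂ = w₁ * w₂ * w₁ * w₂ * (w₁ * w₁) := by rw [hw₁2, mul_one]
        _ = w₁ * (w₂ * w₁ * w₂ * w₁) * w₁ := by group
    rw [this, hcz]
    have hzc : w₁ * z = z * w₁ := Subgroup.mem_centralizer_iff.mp h.hzZ.2 w₁ hw₁S
    rw [hzc, mul_assoc, hw₁2, mul_one]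
  rw [hcz'] at h1
  -- z = (ζ²)⁻¹ ∈ CC F E₁
  have h2 : z = (ζ * ζ)⁻¹ := by
    have := eq_inv_of_mul_eq_one_right h1
    exact this
  apply hB₁.2.2.2.2.2.1
  rw [h2]
  exact Subgroup.inv_mem _ (hB₁.sq_mem h hζ)

end two

end Cfsg.Agent.h26Cp2
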