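import Cfsg.Agent.Lib_helper26_Cp2G

set_option autoImplicit false
set_option linter.style.haveILetI false
set_option maxHeartbeats 1600000

namespace Cfsg.Agent.h26Cp2

open Cfsg Cfsg.FusionSystem Cfsg.Agent.helper25

variable {Ω : Type*} [Group Ω] {S : Subgroup Ω}

section two

variable [Finite S] {F : FusionSystem S} {z : Ω}

/-- the subgroup generated by two noncommuting involutions of `S` has order `8`. -/
theorem card_closure_invol (h : Hyp S F z) {w₁ w₂ : Ω} (hw₁S : w₁ ∈ S) (hw₂S : w₂ ∈ S)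
    (hw₁2 : w₁ * w₁ = 1) (hw₂2 : w₂ * w₂ = 1) (hnc : w₁ * w₂ ≠ w₂ * w₁) :
    Nat.card (Subgroup.closure ({(⟨w₁, hw₁S⟩ : ↥S), ⟨w₂, hw₂S⟩} : Set ↥S)) = 8 ∧
      Nonempty (↥(Subgroup.closure ({(⟨w₁, hw₁S⟩ : ↥S), ⟨w₂, hw₂S⟩} : Set ↥S)) ≃*
        DihedralGroup 4) := by
  have hw₁inv : w₁⁻¹ = w₁ := inv_eq_of_mul_eq_one_left hw₁2
  have hw₂inv : w₂⁻¹ = w₂ := inv_eq_of_mul_eq_one_left hw₂2
  have hcz : w₁ * w₂ * w₁ * w₂ = z := by
    have := h.comm_eq hw₁S hw₂S hnc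
    rw [hw₁inv, hw₂inv] at this
    exact this
  apply dih8
  · exact Subtype.ext hw₁2
  · exact Subtype.ext hw₂2
  · intro h1
    apply h.hz1
    have h2 := congrArg Subtype.val h1
    rw [← hcz]
    simpa [sq, mul_assoc] using h2
  · apply Subtype.ext
    have e : ((⟨w₁, hw₁S⟩ * ⟨w₂, hw₂S⟩ : ↥S) ^ 4 : ↥S).1 = (w₁ * w₂ * w₁ * w₂) * (w₁ * w₂ * w₁ * w₂) := by
      simp [pow_succ, mul_assoc]
    rw [e, hcz, h.hz2]
    rfl

theorem two_center (h : Hyp S F z) (hcore : F.core = ⊥) (hhyp : F.hyperfocalSubgroup 2 = S) :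
    ∃ E ∈ MM S, ∃ w, TypeB F z E w ∧ ∀ y ∈ Zs S, y = 1 ∨ y = z := by
  obtain ⟨E₁, hE₁, w₁, hB₁⟩ := exists_typeB h hcore
  refine ⟨E₁, hE₁, w₁, hB₁, ?_⟩
  have hQ := Qn_eq_bot h hcore
  obtain ⟨hw₁E, hw₁Z, hw₁2, hw₁g, hg₁, hz₁, hC₁Z, hdec₁⟩ := id hB₁
  by_contra hcon
  push Not at hcon
  obtain ⟨y₀, hy₀Z, hy₀1, hy₀z⟩ := hcon
  obtain ⟨c, hcC, hc1⟩ : ∃ c ∈ CC F E₁, c ≠ 1 := by
    rcases hdec₁ y₀ hy₀Z with h1 | h1
    · exact ⟨y₀, h1, hy₀1⟩
    · refine ⟨y₀ * z, h1, fun e => hy₀z ?_⟩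
      have : y₀ * z = z * z := by rw [e, h.hz2]
      exact mul_right_cancel this
  have hcZ : c ∈ Zs S := hC₁Z hcC
  have hcS : c ∈ S := hcZ.1
  have hcz : c ≠ z := fun e => hz₁ (e ▸ hcC)
  obtain ⟨E₂, hE₂, hcE₂⟩ : ∃ E₂ ∈ MM S, c ∉ CC F E₂ := by
    by_contra hcon
    push Not at hcon
    have : c ∈ Qn F := mem_Qn.mpr ⟨hcZ, hcon⟩
    rw [hQ, Subgroup.mem_bot] at this
    exact hc1 this
  obtain ⟨-, -, hc₂⟩ := struct_E h hE₂
  rcases hc₂ with ⟨hZC, -⟩ | ⟨w₂, hB₂⟩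
  · exact hcE₂ (hZC hcZ)
  obtain ⟨hw₂E, hw₂Z, hw₂2, hw₂g, hg₂, hz₂, hC₂Z, hdec₂⟩ := id hB₂
  have hne : E₁ ≠ E₂ := by
    rintro rfl
    exact hcE₂ hcC
  have hw₁S : w₁ ∈ S := hE₁.2.1 hw₁E
  have hw₂S : w₂ ∈ S := hE₂.2.1 hw₂E
  have hw₂E₁ : w₂ ∉ E₁ := fun hc => hne (MM.inter h hE₁ hE₂ hc hw₂E hw₂Z)
  -- every type B member is E₁ or E₂
  have hB3 : ∀ E₃ ∈ MM S, ∀ w₃, TypeB F z E₃ w₃ → E₃ = E₁ ∨ E₃ = E₂ := by
    intro E₃ hE₃ w₃ hB₃
    rcases invol_mem h hE₁ hE₂ hB₁ hB₂ hne (hE₃.2.1 hB₃.1) hB₃.2.2.1 with h1 | h1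
    · left; exact MM.inter h hE₃ hE₁ hB₃.1 h1 hB₃.2.1
    · right; exact MM.inter h hE₃ hE₂ hB₃.1 h1 hB₃.2.1
  have hC12 : ∀ y, y ∈ CC F E₁ → y ∈ CC F E₂ → y = 1 := by
    intro y hy1 hy2
    have : y ∈ Qn F := by
      refine mem_Qn.mpr ⟨hC₁Z hy1, fun E hE => ?_⟩
      obtain ⟨-, -, hc⟩ := struct_E h hE
      rcases hc with ⟨hZC, -⟩ | ⟨w, hB⟩
      · exact hZC (hC₁Z hy1)
      · rcases hB3 E hE w hB with rfl | rfl
        · exact hy1
        · exact hy2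
    rw [hQ, Subgroup.mem_bot] at this
    exact this
  have hcc : ∀ s ∈ S, s * c = c * s := fun s hs => Subgroup.mem_centralizer_iff.mp hcZ.2 s hs
  have hczC₂ : c * z ∈ CC F E₂ := (hdec₂ c hcZ).resolve_left hcE₂
  have hC₁ : ∀ y ∈ CC F E₁, y = 1 ∨ y = c := by
    intro y hy
    rcases hdec₂ y (hC₁Z hy) with h1 | h1
    · left; exact hC12 y hy h1
    · right
      have h2 : y * c⁻¹ ∈ CC F E₂ := by
        have := Subgroup.mul_mem _ h1 (Subgroup.inv_mem _ hczC₂)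
        have e : y * z * (c * z)⁻¹ = y * c⁻¹ := by group
        rw [e] at this; exact this
      have h3 : y * c⁻¹ ∈ CC F E₁ := Subgroup.mul_mem _ hy (Subgroup.inv_mem _ hcC)
      have h4 := hC12 _ h3 h2
      exact mul_inv_eq_one.mp h4
  have hcc2 : c * c = 1 := by
    rcases hC₁ _ (Subgroup.mul_mem _ hcC hcC) with h1 | h1
    · exact h1
    · exfalso; apply hc1
      exact mul_left_cancel (a := c) (b := c) (c := 1) (by rw [mul_one]; exact h1)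
  have hZs : ∀ ζ ∈ Zs S, ζ = 1 ∨ ζ = z ∨ ζ = c ∨ ζ = c * z := by
    intro ζ hζ
    rcases hdec₁ ζ hζ with h1 | h1
    · rcases hC₁ ζ h1 with h2 | h2
      · exact Or.inl h2
      · exact Or.inr (Or.inr (Or.inl h2))
    · rcases hC₁ _ h1 with h2 | h2
      · right; left
        have : ζ * z = z * z := by rw [h2, h.hz2]
        exact mul_right_cancel this
      · right; right; right
        have : ζ * z * z = c * z := by rw [h2]
        rw [mul_assoc, h.hz2, mul_one] at this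
        exact this
  have hzT : z ∈ TT F := Subgroup.subset_closure ⟨E₁, hE₁, (struct_E h hE₁).2.1⟩
  have hw₁T : w₁ ∈ TT F := Subgroup.subset_closure ⟨E₁, hE₁, hw₁g⟩
  have hw₂T : w₂ ∈ TT F := Subgroup.subset_closure ⟨E₂, hE₂, hw₂g⟩
  have hgoodZ : ∀ ζ ∈ Zs S, ζ ∈ TT F ∨ ζ * c ∈ TT F := by
    intro ζ hζ
    rcases hZs ζ hζ with h1 | h1 | h1 | h1
    · left; rw [h1]; exact Subgroup.one_mem _
    · left; rw [h1]; exact hzT
    · right; rw [h1, hcc2]; exact Subgroup.one_mem _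
    · right
      have e : c * z * c = z := by
        calc c * z * c = c * (z * c) := mul_assoc _ _ _
          _ = c * (c * z) := by rw [hcc z h.hzZ.1]
          _ = z := by rw [← mul_assoc, hcc2, one_mul]
      rw [h1, e]; exact hzT
  have hgoodmul : ∀ x m, m ∈ S → m ∈ TT F → (x ∈ TT F ∨ x * c ∈ TT F) →
      (x * m ∈ TT F ∨ x * m * c ∈ TT F) := by
    intro x m hm hmT hg
    rcases hg with h1 | h1
    · left; exact Subgroup.mul_mem _ h1 hmT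
    · right
      have e : x * m * c = x * c * m := by rw [mul_assoc, hcc m hm, ← mul_assoc]
      rw [e]; exact Subgroup.mul_mem _ h1 hmT
  have hgoodE₁ : ∀ e ∈ E₁, e ∈ TT F ∨ e * c ∈ TT F := by
    intro e he
    by_cases heZ : e ∈ Zs S
    · exact hgoodZ e heZ
    · have h1 := MM.cosetZ h hE₁ hw₁E hw₁Z he heZ
      have h2 := hgoodmul (e * w₁⁻¹) w₁ hw₁S hw₁T (hgoodZ _ h1)
      have e3 : e * w₁⁻¹ * w₁ = e := by group
      rw [e3] at h2; exact h2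
  have hgood : ∀ x ∈ S, x ∈ TT F ∨ x * c ∈ TT F := by
    intro x hx
    by_cases hxE : x ∈ E₁
    · exact hgoodE₁ x hxE
    · have h1 := MM.coset h hE₁ hw₂S hw₂E₁ hx hxE
      have h2 := hgoodmul (x * w₂⁻¹) w₂ hw₂S hw₂T (hgoodE₁ _ h1)
      have e3 : x * w₂⁻¹ * w₂ = x := by group
      rw [e3] at h2; exact h2
  have hii : ∀ β ∈ F.autGroup S, ∀ x : S, (x : Ω)⁻¹ * ((β x : S) : Ω) ∈ TT F := by
    intro β hβ x
    have hβc : ((β ⟨c, hcS⟩ : S) : Ω) = c ∨ ((β ⟨c, hcS⟩ : S) : Ω) = c * z := by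
      have h1 := center_inv_S β ⟨c, hcS⟩ hcZ
      rcases hZs _ h1 with h2 | h2 | h2 | h2
      · exfalso; apply hc1
        have h3 : β ⟨c, hcS⟩ = 1 := Subtype.ext h2
        have h4 := β.injective (h3.trans (map_one β).symm)
        exact congrArg Subtype.val h4
      · exfalso; apply hcz
        have h3 := h.beta_z β
        have h4 : β ⟨c, hcS⟩ = β ⟨z, h.hzZ.1⟩ := Subtype.ext (h2.trans h3.symm)
        exact congrArg Subtype.val (β.injective h4)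
      · exact Or.inl h2
      · exact Or.inr h2
    have hcβc : c⁻¹ * ((β ⟨c, hcS⟩ : S) : Ω) ∈ TT F := by
      rcases hβc with h2 | h2
      · rw [h2, inv_mul_cancel]; exact Subgroup.one_mem _
      · rw [h2, inv_mul_cancel_left]; exact hzT
    rcases hgood x x.2 with h1 | h1
    · have h2 := TT_inv_S F hβ x h1 x.2
      exact Subgroup.mul_mem _ (Subgroup.inv_mem _ h1) h2
    · have hmS : (x : Ω) * c ∈ S := S.mul_mem x.2 hcS
      have h2 := TT_inv_S F hβ _ h1 hmS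
      have h3 : (⟨(x : Ω) * c, hmS⟩ : ↥S) = x * ⟨c, hcS⟩ := rfl
      rw [h3, map_mul, Subgroup.coe_mul] at h2
      have hsS : (x : Ω)⁻¹ * ((β x : S) : Ω) ∈ S := S.mul_mem (S.inv_mem x.2) (β x).2
      have e1 : (x : Ω)⁻¹ * ((β x : S) : Ω) = c⁻¹ * ((x : Ω)⁻¹ * ((β x : S) : Ω)) * c := by
        rw [mul_assoc, hcc _ hsS, inv_mul_cancel_left]
      have e2 : c⁻¹ * ((x : Ω)⁻¹ * ((β x : S) : Ω)) * c =
          ((x : Ω) * c)⁻¹ * (((β x : S) : Ω) * ((β ⟨c, hcS⟩ : S) : Ω)) *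
            (c⁻¹ * ((β ⟨c, hcS⟩ : S) : Ω))⁻¹ := by group
      rw [e1, e2]
      exact Subgroup.mul_mem _ (Subgroup.mul_mem _ (Subgroup.inv_mem _ h1) h2)
        (Subgroup.inv_mem _ hcβc)
  have hle : F.hyperfocalSubgroup 2 ≤ TT F := hyp_le_TT h hE₁ hii
  rw [hhyp] at hle
  -- `TT F` is generated by `w₁`, `w₂`
  have hnc : w₁ * w₂ ≠ w₂ * w₁ := fun e => (MM.not_comm h hE₁ hw₂S hw₂E₁ hw₁E hw₁Z) e.symm
  have hw₁cl : w₁ ∈ Subgroup.closure ({w₁, w₂} : Set Ω) := Subgroup.subset_closure (by simp)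
  have hw₂cl : w₂ ∈ Subgroup.closure ({w₁, w₂} : Set Ω) := Subgroup.subset_closure (by simp)
  have hzcl : z ∈ Subgroup.closure ({w₁, w₂} : Set Ω) := by
    rw [← h.comm_eq hw₁S hw₂S hnc]
    exact Subgroup.mul_mem _ (Subgroup.mul_mem _ (Subgroup.mul_mem _ hw₁cl hw₂cl)
      (Subgroup.inv_mem _ hw₁cl)) (Subgroup.inv_mem _ hw₂cl)
  have hTle : TT F ≤ Subgroup.closure ({w₁, w₂} : Set Ω) := by
    unfold TT
    rw [Subgroup.closure_le]
    rintro t ⟨E, hE, ht⟩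
    obtain ⟨-, -, hc⟩ := struct_E h hE
    rcases hc with ⟨-, hgA⟩ | ⟨w, hB⟩
    · rcases hgA t ht with h1 | h1
      · rw [h1]; exact Subgroup.one_mem _
      · rw [h1]; exact hzcl
    · rcases hB3 E hE w hB with rfl | rfl
      · have h1 := hg₁ t ht
        have hle' : Subgroup.closure ({z, w₁} : Set Ω) ≤ Subgroup.closure ({w₁, w₂} : Set Ω) := by
          rw [Subgroup.closure_le]
          rintro y (rfl | rfl)
          · exact hzcl
          · exact hw₁cl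
        exact hle' h1
      · have h1 := hg₂ t ht
        have hle' : Subgroup.closure ({z, w₂} : Set Ω) ≤ Subgroup.closure ({w₁, w₂} : Set Ω) := by
          rw [Subgroup.closure_le]
          rintro y (rfl | rfl)
          · exact hzcl
          · exact hw₂cl
        exact hle' h1
  -- cardinalities
  obtain ⟨hc8, -⟩ := card_closure_invol h hw₁S hw₂S hw₁2 hw₂2 hnc
  have htop : Subgroup.closure ({(⟨w₁, hw₁S⟩ : ↥S), ⟨w₂, hw₂S⟩} : Set ↥S) = ⊤ := by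
    rw [eq_top_iff]
    intro s _
    have h1 : (s : Ω) ∈ Subgroup.closure ({w₁, w₂} : Set Ω) := hTle (hle s.2)
    have h2 : Subgroup.closure ({w₁, w₂} : Set Ω) =
        (Subgroup.closure ({(⟨w₁, hw₁S⟩ : ↥S), ⟨w₂, hw₂S⟩} : Set ↥S)).map S.subtype := by
      rw [MonoidHom.map_closure, Set.image_pair]
      rfl
    rw [h2] at h1
    obtain ⟨s', hs', hss'⟩ := h1
    have : s' = s := Subtype.ext hss'
    rw [← this]; exact hs'
  rw [htop, Subgroup.card_top, card_S_four h] at hc8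
  have hcZ2 : Nat.card (Zs S) = 2 := by omega
  obtain ⟨y, -, hy2⟩ := (Nat.card_eq_two_iff' (1 : ↥(Zs S))).mp hcZ2
  have h1 := hy2 ⟨z, h.hzZ⟩ (fun e => h.hz1 (congrArg Subtype.val e))
  have h2 := hy2 ⟨c, hcZ⟩ (fun e => hc1 (congrArg Subtype.val e))
  exact hcz (congrArg Subtype.val (h2.trans h1.symm))

theorem two_final (h : Hyp S F z) (hcore : F.core = ⊥) (hhyp : F.hyperfocalSubgroup 2 = S) :
    Nat.card (Zs S) = 2 ∧ Nonempty (↥S ≃* DihedralGroup 4) := by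
  obtain ⟨E₁, hE₁, w₁, hB₁, hZ2⟩ := two_center h hcore hhyp
  obtain ⟨hw₁E, hw₁Z, hw₁2, -, -, -, -, -⟩ := id hB₁
  have hw₁S : w₁ ∈ S := hE₁.2.1 hw₁E
  have hcard : Nat.card (Zs S) = 2 := by
    rw [Nat.card_eq_two_iff' (1 : ↥(Zs S))]
    refine ⟨⟨z, h.hzZ⟩, fun e => h.hz1 (congrArg Subtype.val e), fun y hy => ?_⟩
    rcases hZ2 y y.2 with h1 | h1
    · exact absurd (Subtype.ext h1) hy
    · exact Subtype.ext h1
  refine ⟨hcard, ?_⟩
  -- an element outside `E₁`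
  obtain ⟨x, hxS, hxE⟩ : ∃ x ∈ S, x ∉ E₁ := by
    by_contra hcon
    push Not at hcon
    have h1 : E₁.relIndex S = 1 := Subgroup.relIndex_eq_one.mpr hcon
    have h2 := (MM.rel h hE₁).2
    omega
  have hzc : ∀ s ∈ S, s * z = z * s := fun s hs => Subgroup.mem_centralizer_iff.mp h.hzZ.2 s hs
  have hw₁inv : w₁⁻¹ = w₁ := inv_eq_of_mul_eq_one_left hw₁2
  -- an involution outside `E₁`
  obtain ⟨w', hw'S, hw'E, hw'2⟩ : ∃ w' ∈ S, w' ∉ E₁ ∧ w' * w' = 1 := by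
    have hx2 : x ^ 2 ∈ Zs S := pow_mem_Zs (p := 2) h.hidx hxS
    rw [sq] at hx2
    rcases hZ2 _ hx2 with h1 | h1
    · exact ⟨x, hxS, hxE, h1⟩
    · refine ⟨x * w₁, S.mul_mem hxS hw₁S, ?_, ?_⟩
      · intro hc
        apply hxE
        have : x = (x * w₁) * w₁⁻¹ := by group
        rw [this]
        exact E₁.mul_mem hc (E₁.inv_mem hw₁E)
      · have hnc := MM.not_comm h hE₁ hxS hxE hw₁E hw₁Z
        have h2 := h.comm_eq hxS hw₁S hnc
        rw [hw₁inv] at h2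
        -- x w₁ x⁻¹ w₁ = z
        have h3 : x * w₁ = z * w₁ * x := by
          have := congrArg (fun t => t * w₁ * x) h2
          simp only [mul_assoc, inv_mul_cancel, mul_one, hw₁2] at this
          rw [mul_assoc]; exact this
        calc x * w₁ * (x * w₁) = x * w₁ * x * w₁ := by group
          _ = z * w₁ * x * x * w₁ := by rw [h3]
          _ = z * w₁ * (x * x) * w₁ := by group
          _ = z * w₁ * z * w₁ := by rw [h1]
          _ = z * (w₁ * z) * w₁ := by group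
          _ = z * (z * w₁) * w₁ := by rw [hzc w₁ hw₁S]
          _ = (z * z) * (w₁ * w₁) := by group
          _ = 1 := by rw [h.hz2, hw₁2, one_mul]
  have hnc : w₁ * w' ≠ w' * w₁ := fun e => (MM.not_comm h hE₁ hw'S hw'E hw₁E hw₁Z) e.symm
  obtain ⟨hc8, ⟨e⟩⟩ := card_closure_invol h hw₁S hw'S hw₁2 hw'2 hnc
  have hS8 : Nat.card S = 8 := by rw [card_S_four h, hcard]
  have htop : Subgroup.closure ({(⟨w₁, hw₁S⟩ : ↥S), ⟨w', hw'S⟩} : Set ↥S) = ⊤ :=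
    Subgroup.eq_top_of_card_eq _ (by rw [hc8, hS8])
  exact ⟨((MulEquiv.subgroupCongr htop).trans Subgroup.topEquiv).symm.trans e⟩

end two

end Cfsg.Agent.h26Cp2
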