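import Mathlib

set_option autoImplicit false

namespace Cfsg.Agent.helper26.DI

/-! Automorphisms of odd order of `∏ C_{2^{a_i}}` with distinct `a_i` are trivial. -/

section ZM

variable {m : ℕ}

theorem zmod_two_torsion (hm : 1 ≤ m) (z : ZMod (2 ^ m)) (hz : z + z = 0) :
    z = 0 ∨ z = ((2 ^ (m - 1) : ℕ) : ZMod (2 ^ m)) := by
  have : NeZero (2 ^ m) := ⟨by positivity⟩
  obtain ⟨k, hk, hklt⟩ : ∃ k : ℕ, (k : ZMod (2 ^ m)) = z ∧ k < 2 ^ m :=
    ⟨z.val, ZMod.natCast_zmod_val z, ZMod.val_lt z⟩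
  subst hk
  have h1 : ((k + k : ℕ) : ZMod (2 ^ m)) = 0 := by rw [Nat.cast_add]; exact hz
  rw [ZMod.natCast_eq_zero_iff] at h1
  have h2m : 2 ^ m = 2 ^ (m - 1) * 2 := by rw [← pow_succ, Nat.sub_add_cancel hm]
  obtain ⟨c, hc⟩ := h1
  generalize hP : 2 ^ (m - 1) = P at *
  have hPpos : 0 < P := by rw [← hP]; positivity
  have hkc : k = P * c := by
    have : k + k = P * 2 * c := by rw [hc, h2m]
    nlinarith
  have hc2 : c < 2 := by
    have : P * c < P * 2 := by rw [← hkc, ← h2m]; exact hklt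
    exact Nat.lt_of_mul_lt_mul_left this
  interval_cases c
  · left; rw [hkc]; simp
  · right; rw [hkc]; simp

theorem zmod_smul_eq_zero {j : ℕ} (h : m ≤ j) (w : ZMod (2 ^ m)) : (2 ^ j) • w = 0 := by
  rw [nsmul_eq_mul]
  have : ((2 ^ j : ℕ) : ZMod (2 ^ m)) = 0 := (ZMod.natCast_eq_zero_iff _ _).mpr (pow_dvd_pow 2 h)
  rw [this, zero_mul]

theorem zmod_smul_pow {j : ℕ} (hj : j < m) :
    (2 ^ j) • ((2 ^ (m - 1 - j) : ℕ) : ZMod (2 ^ m)) = ((2 ^ (m - 1) : ℕ) : ZMod (2 ^ m)) := by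
  rw [nsmul_eq_mul, ← Nat.cast_mul, ← pow_add]
  congr 2
  omega

theorem zmod_half_add_half (hm : 1 ≤ m) :
    ((2 ^ (m - 1) : ℕ) : ZMod (2 ^ m)) + ((2 ^ (m - 1) : ℕ) : ZMod (2 ^ m)) = 0 := by
  rw [← Nat.cast_add, ZMod.natCast_eq_zero_iff, ← two_mul, ← pow_succ', Nat.sub_add_cancel hm]

end ZM

variable {n : ℕ} (a : Fin n → ℕ)

/-- `u ∈ Ω₁(B) ∩ 2^j B`. -/
def InV (j : ℕ) (u : (i : Fin n) → ZMod (2 ^ a i)) : Prop :=
  2 • u = 0 ∧ ∃ w : (i : Fin n) → ZMod (2 ^ a i), (2 ^ j) • w = u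

variable {a}

theorem inV_iff (ha1 : ∀ i, 1 ≤ a i) (j : ℕ) (u : (i : Fin n) → ZMod (2 ^ a i)) :
    InV a j u ↔ ∀ i, u i = 0 ∨
      (u i = ((2 ^ (a i - 1) : ℕ) : ZMod (2 ^ a i)) ∧ j < a i) := by
  constructor
  · rintro ⟨h2, w, hw⟩ i
    by_cases h0 : u i = 0
    · left; exact h0
    · right
      have h3 : u i + u i = 0 := by
        have := congrFun h2 i
        simpa [two_smul] using this
      rcases zmod_two_torsion (ha1 i) (u i) h3 with h | h
      · exact absurd h h0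
      · refine ⟨h, ?_⟩
        by_contra hj
        push Not at hj
        apply h0
        rw [← hw, Pi.smul_apply]
        exact zmod_smul_eq_zero hj (w i)
  · intro h
    constructor
    · funext i
      rw [Pi.smul_apply, two_smul]
      rcases h i with h0 | ⟨h1, _⟩
      · rw [h0]; simp
      · rw [h1]; exact zmod_half_add_half (ha1 i)
    · classical
      refine ⟨fun i => if u i = 0 then 0 else ((2 ^ (a i - 1 - j) : ℕ) : ZMod (2 ^ a i)), ?_⟩
      funext i
      rw [Pi.smul_apply]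
      by_cases h0 : u i = 0
      · rw [if_pos h0, h0, smul_zero]
      · rw [if_neg h0]
        rcases h i with h1 | ⟨h1, h2⟩
        · exact absurd h1 h0
        · rw [h1]; exact zmod_smul_pow h2

theorem kp_B (ha : StrictMono a) (ha1 : ∀ i, 1 ≤ a i) (j : ℕ) (u u' : (i : Fin n) → ZMod (2 ^ a i))
    (hu : InV a j u) (hu' : InV a j u') (hn : ¬ InV a (j + 1) u) (hn' : ¬ InV a (j + 1) u') :
    InV a (j + 1) (u - u') := by
  rw [inV_iff ha1] at hu hu' hn hn' ⊢
  push Not at hn hn'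
  obtain ⟨i, hi0, hi1⟩ := hn
  obtain ⟨i', hi0', hi1'⟩ := hn'
  have hie : u i = ((2 ^ (a i - 1) : ℕ) : ZMod (2 ^ a i)) ∧ j < a i := by
    rcases hu i with h | h
    · exact absurd h hi0
    · exact h
  have hie' : u' i' = ((2 ^ (a i' - 1) : ℕ) : ZMod (2 ^ a i')) ∧ j < a i' := by
    rcases hu' i' with h | h
    · exact absurd h hi0'
    · exact h
  have hai : a i = j + 1 := by have := hi1 hie.1; omega
  have hai' : a i' = j + 1 := by have := hi1' hie'.1; omega
  have hii : i = i' := ha.injective (hai.trans hai'.symm)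
  subst hii
  intro k
  by_cases hk : k = i
  · subst hk
    left
    rw [Pi.sub_apply, hie.1, hie'.1, sub_self]
  · have hak : a k ≠ j + 1 := fun h => hk (ha.injective (h.trans hai.symm))
    have hhalf := zmod_half_add_half (ha1 k)
    rcases hu k with h | ⟨h, hj⟩ <;> rcases hu' k with h' | ⟨h', hj'⟩
    · left; rw [Pi.sub_apply, h, h', sub_self]
    · right
      refine ⟨?_, by omega⟩
      rw [Pi.sub_apply, h, h', zero_sub]
      exact neg_eq_of_add_eq_zero_left hhalf
    · right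
      refine ⟨?_, by omega⟩
      rw [Pi.sub_apply, h, h', sub_zero]
    · left; rw [Pi.sub_apply, h, h', sub_self]

theorem triv_B {J : ℕ} (hJ : ∀ i, a i ≤ J) (w : (i : Fin n) → ZMod (2 ^ a i)) : (2 ^ J) • w = 0 := by
  funext i
  rw [Pi.smul_apply]
  exact zmod_smul_eq_zero (hJ i) (w i)

section A

variable {A : Type*} [Group A]

/-- the additive coordinates of `x`. -/
def v (e : A ≃* Multiplicative ((i : Fin n) → ZMod (2 ^ a i))) (x : A) :
    (i : Fin n) → ZMod (2 ^ a i) := Multiplicative.toAdd (e x)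

variable (e : A ≃* Multiplicative ((i : Fin n) → ZMod (2 ^ a i)))

theorem v_pow (x : A) (k : ℕ) : v e (x ^ k) = k • v e x := by
  unfold v; rw [map_pow]; rfl

theorem v_mul_inv (x y : A) : v e (x * y⁻¹) = v e x - v e y := by
  unfold v; rw [map_mul, map_inv, toAdd_mul, toAdd_inv, sub_eq_add_neg]

theorem v_eq_zero_iff (x : A) : v e x = 0 ↔ x = 1 := by
  unfold v
  constructor
  · intro h
    have h1 : e x = 1 := h
    exact (MulEquiv.map_eq_one_iff e).mp h1
  · rintro rfl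
    rw [map_one]; rfl

theorem v_injective : Function.Injective (v e) := by
  intro x y h
  exact e.injective h

theorem v_surjective (w : (i : Fin n) → ZMod (2 ^ a i)) : ∃ y : A, v e y = w :=
  ⟨e.symm (Multiplicative.ofAdd w), by unfold v; rw [MulEquiv.apply_symm_apply]; rfl⟩

/-- `x ∈ Ω₁(A) ∩ ℧^j(A)`. -/
def InVA (j : ℕ) (x : A) : Prop := x ^ 2 = 1 ∧ ∃ y : A, y ^ (2 ^ j) = x

theorem inVA_iff (j : ℕ) (x : A) : InVA j x ↔ InV a j (v e x) := by
  unfold InVA InV
  constructor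
  · rintro ⟨h1, y, hy⟩
    refine ⟨?_, v e y, ?_⟩
    · rw [← v_pow, h1]; exact (v_eq_zero_iff e 1).mpr rfl
    · rw [← v_pow, hy]
  · rintro ⟨h1, w, hw⟩
    refine ⟨?_, ?_⟩
    · rw [← v_pow] at h1; exact (v_eq_zero_iff e _).mp h1
    · obtain ⟨y, hy⟩ := v_surjective e w
      refine ⟨y, v_injective e ?_⟩
      rw [v_pow, hy, hw]

include e in
theorem comm_of_equiv (x y : A) : x * y = y * x := by
  apply e.injective
  rw [map_mul, map_mul, mul_comm]

theorem sq_mul_inv (hcomm : ∀ x y : A, x * y = y * x) (b x : A) :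
    (b * x⁻¹) ^ 2 = b ^ 2 * (x ^ 2)⁻¹ := by
  rw [pow_two, pow_two, pow_two, mul_inv_rev]
  calc b * x⁻¹ * (b * x⁻¹) = b * (x⁻¹ * b) * x⁻¹ := by simp only [mul_assoc]
    _ = b * (b * x⁻¹) * x⁻¹ := by rw [hcomm x⁻¹ b]
    _ = b * b * (x⁻¹ * x⁻¹) := by simp only [mul_assoc]

theorem fix_of_odd (α : MulAut A) {q : ℕ} (hq : Odd q) (hαq : α ^ q = 1) {x d : A}
    (h1 : α x = d * x) (h2 : α d = d) (h3 : d ^ 2 = 1) : d = 1 := by
  have key : ∀ m : ℕ, (α ^ m) x = d ^ m * x := by
    intro m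
    induction m with
    | zero => simp
    | succ m ih =>
      rw [pow_succ', MulAut.mul_apply, ih, map_mul, map_pow, h2, h1, pow_succ, mul_assoc]
  have h4 := key q
  rw [hαq, MulAut.one_apply] at h4
  have h5 : d ^ q = 1 := by
    have : d ^ q * x = 1 * x := by rw [one_mul]; exact h4.symm
    exact mul_right_cancel this
  obtain ⟨k, rfl⟩ := hq
  rw [pow_succ, pow_mul, h3, one_pow, one_mul] at h5
  exact h5

include e in
theorem aut_trivial (ha : StrictMono a) (ha1 : ∀ i, 1 ≤ a i) (α : MulAut A) {q : ℕ} (hq : Odd q)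
    (hαq : α ^ q = 1) : α = 1 := by
  have hcomm := comm_of_equiv e
  have hJ : ∀ i, a i ≤ ∑ i, a i := fun i => Finset.single_le_sum (fun _ _ => Nat.zero_le _)
    (Finset.mem_univ i)
  have htop : ∀ y : A, y ^ (2 ^ (∑ i, a i)) = 1 := by
    intro y
    apply (v_eq_zero_iff e _).mp
    rw [v_pow]
    exact triv_B hJ _
  have hpres : ∀ (β : MulAut A) (j : ℕ) (x : A), InVA j x → InVA j (β x) := by
    rintro β j x ⟨h1, y, hy⟩
    exact ⟨by rw [← map_pow, h1, map_one], β y, by rw [← map_pow, hy]⟩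
  -- first induction: `α` fixes `Ω₁ ∩ ℧^j`
  have hC : ∀ t j : ℕ, j + t = ∑ i, a i → ∀ x : A, InVA j x → α x = x := by
    intro t
    induction t with
    | zero =>
      rintro j hj x ⟨_, y, hy⟩
      rw [add_zero] at hj
      rw [hj, htop] at hy
      rw [← hy, map_one]
    | succ t ih =>
      intro j hj x hx
      have ih' := ih (j + 1) (by omega)
      by_cases hx1 : InVA (j + 1) x
      · exact ih' x hx1
      · have hαx : InVA j (α x) := hpres α j x hx
        have hαx1 : ¬ InVA (j + 1) (α x) := by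
          intro h
          apply hx1
          have := hpres α⁻¹ (j + 1) (α x) h
          rwa [MulAut.inv_apply_self] at this
        have hd : InVA (j + 1) (α x * x⁻¹) := by
          rw [inVA_iff e] at hx hx1 hαx hαx1 ⊢
          rw [v_mul_inv]
          exact kp_B ha ha1 j _ _ hαx hx hαx1 hx1
        have hd1 : α x * x⁻¹ = 1 :=
          fix_of_odd α hq hαq (x := x) (by group) (ih' _ hd) hd.1
        exact mul_inv_eq_one.mp hd1
  have hC0 : ∀ x : A, x ^ 2 = 1 → α x = x := fun x hx =>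
    hC (∑ i, a i) 0 (by omega) x ⟨hx, x, by simp⟩
  -- second induction: `α` fixes `℧^k`
  have hD : ∀ t k : ℕ, k + t = ∑ i, a i → ∀ y : A, α (y ^ (2 ^ k)) = y ^ (2 ^ k) := by
    intro t
    induction t with
    | zero =>
      intro k hk y
      rw [add_zero] at hk
      rw [hk, htop, map_one]
    | succ t ih =>
      intro k hk y
      have ih' := ih (k + 1) (by omega) y
      set x := y ^ (2 ^ k) with hx
      have hx2 : α (x ^ 2) = x ^ 2 := by
        have : x ^ 2 = y ^ (2 ^ (k + 1)) := by rw [hx, ← pow_mul, ← pow_succ]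
        rw [this]; exact ih'
      have hd2 : (α x * x⁻¹) ^ 2 = 1 := by
        rw [sq_mul_inv hcomm, ← map_pow, hx2, mul_inv_cancel]
      have hd1 : α x * x⁻¹ = 1 :=
        fix_of_odd α hq hαq (x := x) (by group) (hC0 _ hd2) hd2
      exact mul_inv_eq_one.mp hd1
  ext x
  have := hD (∑ i, a i) 0 (by omega) x
  simpa using this

end A

end Cfsg.Agent.helper26.DI
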