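import Cfsg.Agent.Lib_helper26_ModT
import Cfsg.Agent.Lib_helper26_Fusion
import Cfsg.Prelude.Def_FusionComponents

set_option autoImplicit false
set_option linter.style.haveILetI false
set_option linter.unusedVariables false

namespace Cfsg.Agent.helper26.ModT

open Cfsg Cfsg.FusionSystem Cfsg.Agent.helper25

variable {Ω : Type*} [Group Ω] {S : Subgroup Ω}

/-- a power `g ^ k` with `k ≡ 1` modulo `m` (prime to `p`) that is a `p'`-element. -/
theorem exists_pow_pprime {G : Type*} [Group G] (g : G) (hg : 0 < orderOf g) (p m : ℕ)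
    [Fact p.Prime] (hm : 0 < m) (hcop : Nat.Coprime m p) :
    ∃ k : ℕ, k ≡ 1 [MOD m] ∧ Nat.Coprime (orderOf (g ^ k)) p := by
  refine ⟨(p ^ ((orderOf g).factorization p)) ^ (Nat.totient m),
    Nat.ModEq.pow_totient (Nat.Coprime.pow_left _ hcop.symm), ?_⟩
  have hpak : p ^ ((orderOf g).factorization p) ∣
      (p ^ ((orderOf g).factorization p)) ^ (Nat.totient m) :=
    dvd_pow_self _ (Nat.totient_pos.mpr hm).ne'
  have hdvd : orderOf (g ^ ((p ^ ((orderOf g).factorization p)) ^ (Nat.totient m))) ∣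
      orderOf g / p ^ ((orderOf g).factorization p) := by
    apply orderOf_dvd_of_pow_eq_one
    rw [← pow_mul]
    apply orderOf_dvd_iff_pow_eq_one.mp
    obtain ⟨c, hc⟩ := hpak
    rw [hc]
    have h3 : p ^ ((orderOf g).factorization p) *
        (orderOf g / p ^ ((orderOf g).factorization p)) = orderOf g :=
      Nat.ordProj_mul_ordCompl_eq_self (orderOf g) p
    exact ⟨c, by
      conv_rhs => rw [← h3]
      ring⟩
  have h2 : Nat.Coprime p (orderOf g / p ^ ((orderOf g).factorization p)) :=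
    Nat.coprime_ordCompl (Fact.out) hg.ne'
  exact Nat.Coprime.coprime_dvd_left hdvd h2.symm

/-- a `p'`-automorphism of `P` in the system extends modulo `T` to a `p'`-automorphism of `PT`. -/
theorem exists_pprime_extension [Finite S] {p : ℕ} [Fact p.Prime]
    (hS : IsPGroup p S) (F : Cfsg.FusionSystem S) (hF : F.IsSaturated p) {T : Subgroup Ω}
    (hT : F.StronglyClosed T) {P : Subgroup Ω} (hPS : P ≤ S) (β : MulAut P)
    (hβ : β ∈ F.autGroup P) (hcop : Nat.Coprime (orderOf β) p) :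
    ∃ ω : MulAut ↥(P ⊔ T), ω ∈ F.autGroup (P ⊔ T) ∧ Nat.Coprime (orderOf ω) p ∧
      (∀ x : P, ((β x : P) : Ω)⁻¹ * ((ω (Subgroup.inclusion le_sup_left x) : ↥(P ⊔ T)) : Ω) ∈ T) ∧
      (∀ (t : Ω) (ht : t ∈ T), ((ω ⟨t, (le_sup_right : T ≤ P ⊔ T) ht⟩ : ↥(P ⊔ T)) : Ω) ∈ T) := by
  have hTS := hT.1
  have hDS : P ⊔ T ≤ S := sup_le hPS hTS
  haveI : Finite ↥(P ⊔ T) := finite_of_le S hDS
  haveI : Finite P := finite_of_le S hPS
  have hβ' : P.subtype.comp β.toMonoidHom ∈ F.Hom P := (mem_autGroup_iff F hPS β).mp hβ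
  obtain ⟨ψ, hψ, hψβ⟩ := exists_extension_mod hS F hF hT hβ'
  have hψβ' : ∀ y : P, ((β y : P) : Ω)⁻¹ * ψ (Subgroup.inclusion le_sup_left y) ∈ T := hψβ
  have hval : ∀ d : ↥(P ⊔ T), ψ d ∈ P ⊔ T := by
    apply sup_hom_mem
    · intro y hy
      have e : ψ ⟨y, (le_sup_left : P ≤ P ⊔ T) hy⟩ = ((β ⟨y, hy⟩ : P) : Ω) *
          ((((β ⟨y, hy⟩ : P) : Ω))⁻¹ * ψ (Subgroup.inclusion le_sup_left ⟨y, hy⟩)) := by
        rw [mul_inv_cancel_left]; rfl
      rw [e]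
      exact Subgroup.mul_mem _ (Subgroup.mem_sup_left (β ⟨y, hy⟩).2)
        (Subgroup.mem_sup_right (hψβ' ⟨y, hy⟩))
    · intro t ht
      exact Subgroup.mem_sup_right (sc_map_mem F hT le_sup_right hψ ht)
  obtain ⟨ψh, hψh, hψhc⟩ := Cfsg.Agent.helper26.exists_mulAut_of_mem F ψ hψ hval
  have hT_inv : ∀ (j : ℕ) (t : Ω) (ht : t ∈ T),
      (((ψh ^ j) ⟨t, (le_sup_right : T ≤ P ⊔ T) ht⟩ : ↥(P ⊔ T)) : Ω) ∈ T := by
    intro j
    induction j with
    | zero => intro t ht; exact ht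
    | succ j ih =>
      intro t ht
      rw [pow_succ']
      show ((ψh ((ψh ^ j) ⟨t, (le_sup_right : T ≤ P ⊔ T) ht⟩) : ↥(P ⊔ T)) : Ω) ∈ T
      rw [hψhc]
      exact sc_map_mem F hT le_sup_right hψ (ih t ht)
  have hcong : ∀ (j : ℕ) (y : P), (((β ^ j) y : P) : Ω)⁻¹ *
      (((ψh ^ j) (Subgroup.inclusion le_sup_left y) : ↥(P ⊔ T)) : Ω) ∈ T := by
    intro j
    induction j with
    | zero =>
      intro y
      show (y : Ω)⁻¹ * (y : Ω) ∈ T
      rw [inv_mul_cancel]; exact T.one_mem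
    | succ j ih =>
      intro y
      rw [pow_succ', pow_succ']
      show ((β ((β ^ j) y) : P) : Ω)⁻¹ *
        ((ψh ((ψh ^ j) (Subgroup.inclusion le_sup_left y)) : ↥(P ⊔ T)) : Ω) ∈ T
      have htT : (((β ^ j) y : P) : Ω)⁻¹ *
        (((ψh ^ j) (Subgroup.inclusion le_sup_left y) : ↥(P ⊔ T)) : Ω) ∈ T := ih y
      have e : (ψh ^ j) (Subgroup.inclusion le_sup_left y) =
          Subgroup.inclusion le_sup_left ((β ^ j) y) *
            ⟨_, (le_sup_right : T ≤ P ⊔ T) htT⟩ := by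
        apply Subtype.ext
        show _ = (((β ^ j) y : P) : Ω) * ((((β ^ j) y : P) : Ω)⁻¹ *
          (((ψh ^ j) (Subgroup.inclusion le_sup_left y) : ↥(P ⊔ T)) : Ω))
        rw [mul_inv_cancel_left]
      rw [e, map_mul, Subgroup.coe_mul, hψhc, hψhc, ← mul_assoc]
      exact T.mul_mem (hψβ' ((β ^ j) y)) (sc_map_mem F hT le_sup_right hψ htT)
  obtain ⟨k, hk1, hkcop⟩ := exists_pow_pprime ψh (orderOf_pos ψh) p (orderOf β) (orderOf_pos β) hcop
  have hβk : β ^ k = β := by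
    have := (pow_eq_pow_iff_modEq (x := β)).mpr hk1
    rwa [pow_one] at this
  refine ⟨ψh ^ k, pow_mem hψh k, hkcop, fun x => ?_, fun t ht => hT_inv k t ht⟩
  have := hcong k x
  rwa [hβk] at this

theorem exists_induced_hom {G₁ G₂ G₃ : Type*} [Group G₁] [Group G₂] [Group G₃] (g : G₁ →* G₂)
    (hg : Function.Surjective g) (f : G₁ →* G₃) (hker : g.ker ≤ f.ker) :
    ∃ h : G₂ →* G₃, ∀ x, h (g x) = f x :=
  ⟨g.liftOfSurjective hg ⟨f, hker⟩, fun x => g.liftOfRightInverse_comp_apply _ _ ⟨f, hker⟩ x⟩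

/-- powers of an induced automorphism. -/
theorem induced_pow {Ω' : Type*} [Group Ω'] (θ : S →* Ω') {D : Subgroup Ω} (hDS : D ≤ S)
    {D' : Subgroup Ω'} (δ : MulAut D) (δ' : MulAut D')
    (h : ∀ (d : D) (hd' : θ ⟨d, hDS d.2⟩ ∈ D'),
      ((δ' ⟨θ ⟨d, hDS d.2⟩, hd'⟩ : D') : Ω') = θ ⟨(δ d : D), hDS (δ d).2⟩) (n : ℕ) :
    ∀ (d : D) (hd' : θ ⟨d, hDS d.2⟩ ∈ D'),
      (((δ' ^ n) ⟨θ ⟨d, hDS d.2⟩, hd'⟩ : D') : Ω') = θ ⟨((δ ^ n) d : D), hDS ((δ ^ n) d).2⟩ := by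
  induction n with
  | zero => intro d hd'; rfl
  | succ n ih =>
    intro d hd'
    have hmem : θ ⟨(δ d : D), hDS (δ d).2⟩ ∈ D' := (h d hd') ▸ (δ' _).2
    have e : δ' ⟨θ ⟨d, hDS d.2⟩, hd'⟩ = ⟨θ ⟨(δ d : D), hDS (δ d).2⟩, hmem⟩ :=
      Subtype.ext (h d hd')
    rw [pow_succ, pow_succ]
    show (((δ' ^ n) (δ' ⟨θ ⟨d, hDS d.2⟩, hd'⟩) : D') : Ω') = θ ⟨((δ ^ n) (δ d) : D), _⟩
    rw [e]
    exact ih (δ d) hmem

theorem preimageAlong_le {Ω' : Type*} [Group Ω'] (θ : S →* Ω') (P' : Subgroup Ω') :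
    preimageAlong θ P' ≤ S := by
  rintro _ ⟨s, -, rfl⟩; exact s.2

theorem mem_preimageAlong {Ω' : Type*} [Group Ω'] (θ : S →* Ω') (P' : Subgroup Ω') (x : Ω) :
    x ∈ preimageAlong θ P' ↔ ∃ hx : x ∈ S, θ ⟨x, hx⟩ ∈ P' := by
  constructor
  · rintro ⟨s, hs, rfl⟩; exact ⟨s.2, hs⟩
  · rintro ⟨hx, h⟩; exact ⟨⟨x, hx⟩, h, rfl⟩

/-- an automorphism of `D ≥ T` in `F` induces an automorphism of the image of `D` in the factor
system. -/
theorem exists_induced_aut {Ω' : Type*} [Group Ω'] {S' : Subgroup Ω'} [Finite S]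
    (F : FusionSystem S) {T : Subgroup Ω} (hT : F.StronglyClosed T) (θ : S →* Ω')
    (E : FusionSystem S') (hE : F.IsFactorSystem T θ E)
    {D : Subgroup Ω} (hTD : T ≤ D) (hDS : D ≤ S) (δ : MulAut D) (hδ : δ ∈ F.autGroup D) :
    ∃ δ' : MulAut ↥((D.subgroupOf S).map θ), δ' ∈ E.autGroup ((D.subgroupOf S).map θ) ∧
      ∀ (d : D) (hd' : θ ⟨d, hDS d.2⟩ ∈ (D.subgroupOf S).map θ),
        ((δ' ⟨θ ⟨d, hDS d.2⟩, hd'⟩ : ↥((D.subgroupOf S).map θ)) : Ω') =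
          θ ⟨(δ d : D), hDS (δ d).2⟩ := by
  obtain ⟨hTS, hker, hrange, hiff⟩ := hE
  have hD'S' : (D.subgroupOf S).map θ ≤ S' := by
    rintro _ ⟨s, -, rfl⟩; rw [← hrange]; exact ⟨s, rfl⟩
  haveI : Finite S' := by
    rw [← hrange]; exact Finite.of_surjective θ.rangeRestrict θ.rangeRestrict_surjective
  haveI : Finite ↥((D.subgroupOf S).map θ) := finite_of_le S' hD'S'
  have hmemD' : ∀ d : D, θ ⟨d, hDS d.2⟩ ∈ (D.subgroupOf S).map θ :=
    fun d => ⟨⟨d, hDS d.2⟩, Subgroup.mem_subgroupOf.mpr d.2, rfl⟩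
  let g : D →* ↥((D.subgroupOf S).map θ) :=
    (θ.comp (Subgroup.inclusion hDS)).codRestrict ((D.subgroupOf S).map θ) hmemD'
  have hg : Function.Surjective g := by
    rintro ⟨_, s, hs, rfl⟩
    exact ⟨⟨s, Subgroup.mem_subgroupOf.mp hs⟩, Subtype.ext rfl⟩
  let f : D →* Ω' := θ.comp ((Subgroup.inclusion hDS).comp δ.toMonoidHom)
  have hδ' : D.subtype.comp δ.toMonoidHom ∈ F.Hom D := (mem_autGroup_iff F hDS δ).mp hδ
  have hkerle : g.ker ≤ f.ker := by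
    intro d hd
    rw [MonoidHom.mem_ker] at hd ⊢
    have h1 : θ ⟨d, hDS d.2⟩ = 1 := congrArg Subtype.val hd
    have h2 : (d : Ω) ∈ T := (hker _).mp h1
    have h3 : ((δ d : D) : Ω) ∈ T := sc_map_mem F hT hTD hδ' h2
    show θ ⟨(δ d : D), hDS (δ d).2⟩ = 1
    exact (hker _).mpr h3
  obtain ⟨φ', hφ'⟩ := exists_induced_hom g hg f hkerle
  have hpre : preimageAlong θ ((D.subgroupOf S).map θ) = D := by
    apply le_antisymm
    · rintro _ ⟨s, hs, rfl⟩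
      obtain ⟨d, hd, hds⟩ := hs
      have h1 : θ (d⁻¹ * s) = 1 := by rw [map_mul, map_inv, hds, inv_mul_cancel]
      have h2 : ((d⁻¹ * s : S) : Ω) ∈ T := (hker _).mp h1
      have h3 : (s : Ω) = (d : Ω) * ((d⁻¹ * s : S) : Ω) := by simp
      show (s : Ω) ∈ D
      rw [h3]; exact D.mul_mem (Subgroup.mem_subgroupOf.mp hd) (hTD h2)
    · intro d hd
      exact ⟨⟨d, hDS hd⟩, hmemD' ⟨d, hd⟩, rfl⟩
  have hφ'E : φ' ∈ E.Hom ((D.subgroupOf S).map θ) := by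
    rw [hiff]
    refine ⟨hD'S', (D.subtype.comp δ.toMonoidHom).comp (Subgroup.inclusion hpre.le),
      hom_congr F hpre.symm hδ', ?_⟩
    refine ⟨hpre.le.trans hDS, fun x => hDS (δ _).2, fun x => ?_, fun x => ?_⟩
    · exact hmemD' ⟨x, hpre.le x.2⟩
    · exact hφ' ⟨x, hpre.le x.2⟩
  have hvalD' : ∀ d' : ↥((D.subgroupOf S).map θ), φ' d' ∈ (D.subgroupOf S).map θ := by
    intro d'
    obtain ⟨d, rfl⟩ := hg d'
    rw [hφ']
    exact hmemD' (δ d)
  obtain ⟨δ', hδ'E, hδ'c⟩ := Cfsg.Agent.helper26.exists_mulAut_of_mem E φ' hφ'E hvalD'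
  refine ⟨δ', hδ'E, fun d hd' => ?_⟩
  rw [hδ'c]
  exact hφ' d

/-- an automorphism of `P'` in the factor system lifts to an automorphism of the full preimage. -/
theorem exists_lift_aut {Ω' : Type*} [Group Ω'] {S' : Subgroup Ω'} [Finite S]
    (F : FusionSystem S) {T : Subgroup Ω} (θ : S →* Ω')
    (E : FusionSystem S') (hE : F.IsFactorSystem T θ E)
    {P' : Subgroup Ω'} (hP'S' : P' ≤ S') (α' : MulAut P') (hα' : α' ∈ E.autGroup P') :
    ∃ β : MulAut ↥(preimageAlong θ P'), β ∈ F.autGroup (preimageAlong θ P') ∧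
      ∀ (x : ↥(preimageAlong θ P')) (hx' : θ ⟨x, preimageAlong_le θ P' x.2⟩ ∈ P'),
        ((α' ⟨θ ⟨x, preimageAlong_le θ P' x.2⟩, hx'⟩ : P') : Ω') =
          θ ⟨(β x : ↥(preimageAlong θ P')), preimageAlong_le θ P' (β x).2⟩ := by
  obtain ⟨hTS, hker, hrange, hiff⟩ := hE
  have h1 : P'.subtype.comp α'.toMonoidHom ∈ E.Hom P' := (mem_autGroup_iff E hP'S' α').mp hα'
  obtain ⟨-, φ, hφ, hPS, hφS, hP', hind⟩ := (hiff P' _).mp h1
  haveI : Finite ↥(preimageAlong θ P') := finite_of_le S hPS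
  have hval : ∀ x : ↥(preimageAlong θ P'), φ x ∈ preimageAlong θ P' := by
    intro x
    refine ⟨⟨φ x, hφS x⟩, ?_, rfl⟩
    show θ ⟨φ x, hφS x⟩ ∈ P'
    rw [← hind x]; exact (α' _).2
  obtain ⟨β, hβ, hβc⟩ := Cfsg.Agent.helper26.exists_mulAut_of_mem F φ hφ hval
  refine ⟨β, hβ, fun x hx' => ?_⟩
  have e : (⟨(β x : ↥(preimageAlong θ P')), preimageAlong_le θ P' (β x).2⟩ : S) =
      ⟨φ x, hφS x⟩ := Subtype.ext (hβc x)
  rw [e]
  exact hind x

/-- the automorphisms of `P` moving every element by an element of `K`. -/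
def moveSub {G : Type*} [Group G] (P K : Subgroup G) : Subgroup (MulAut P) where
  carrier := {β | ∀ x : P, (x : G)⁻¹ * ((β x : P) : G) ∈ K}
  one_mem' := by
    intro x
    show (x : G)⁻¹ * (x : G) ∈ K
    rw [inv_mul_cancel]; exact K.one_mem
  mul_mem' := by
    intro β γ hβ hγ x
    have e : (x : G)⁻¹ * (((β * γ) x : P) : G) =
        ((x : G)⁻¹ * ((γ x : P) : G)) * (((γ x : P) : G)⁻¹ * ((β (γ x) : P) : G)) := by
      rw [mul_assoc, mul_inv_cancel_left]; rfl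
    rw [e]
    exact K.mul_mem (hγ x) (hβ _)
  inv_mem' := by
    intro β hβ x
    have h := hβ (β⁻¹ x)
    rw [MulAut.apply_inv_self] at h
    have e : (x : G)⁻¹ * ((β⁻¹ x : P) : G) = (((β⁻¹ x : P) : G)⁻¹ * (x : G))⁻¹ := by
      rw [mul_inv_rev, inv_inv]
    rw [e]
    exact K.inv_mem h

theorem mem_moveSub {G : Type*} [Group G] (P K : Subgroup G) (β : MulAut P) :
    β ∈ moveSub P K ↔ ∀ x : P, (x : G)⁻¹ * ((β x : P) : G) ∈ K := Iff.rfl

/-- to prove that `O^p` of a subgroup `A` of `Aut(P)` moves every element by an element of `K` it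
suffices to treat `p'`-elements. -/
theorem pResidual_le_moveSub {G : Type*} [Group G] (p : ℕ) (P K : Subgroup G)
    (A : Subgroup (MulAut P))
    (h : ∀ β : MulAut P, β ∈ A → Nat.Coprime (orderOf β) p → β ∈ moveSub P K)
    (α : A) (hα : α ∈ Cfsg.pResidual p ↥A) : (α : MulAut P) ∈ moveSub P K := by
  have hle : Cfsg.pResidual p ↥A ≤ (moveSub P K).comap A.subtype := by
    unfold Cfsg.pResidual
    rw [Subgroup.closure_le]
    intro β hβ
    show (β : MulAut P) ∈ moveSub P K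
    refine h β β.2 ?_
    rw [Subgroup.orderOf_coe]; exact hβ
  exact hle hα

end Cfsg.Agent.helper26.ModT
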