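import Cfsg.Agent.Lib_helper26_Factor

set_option autoImplicit false
set_option linter.style.haveILetI false
set_option linter.unusedVariables false

namespace Cfsg.Agent.helper26.ModT

open Cfsg Cfsg.FusionSystem Cfsg.Agent.helper25

variable {Ω : Type*} [Group Ω] {S : Subgroup Ω}

/-- maps of the system fix the elements of a central subgroup. -/
theorem central_fix (F : FusionSystem S) {Q : Subgroup Ω} (hQ : F.IsCentral Q) {P : Subgroup Ω}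
    {φ : P →* Ω} (hφ : φ ∈ F.Hom P) (x : P) (hx : (x : Ω) ∈ Q) : φ x = x := by
  obtain ⟨ψ, hψ, h1, h2⟩ := hQ.2 P φ hφ
  rw [← h1 x]
  exact h2 ⟨x, hx⟩

theorem central_stronglyClosed (F : FusionSystem S) {Q : Subgroup Ω} (hQ : F.IsCentral Q) :
    F.StronglyClosed Q :=
  ⟨hQ.1, fun R hR φ hφ x => by rw [central_fix F hQ hφ x (hR x.2)]; exact hR x.2⟩

/-- a central subgroup commutes with `S`. -/
theorem central_comm (F : FusionSystem S) {Q : Subgroup Ω} (hQ : F.IsCentral Q) {z g : Ω}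
    (hz : z ∈ Q) (hg : g ∈ S) : g * z = z * g := by
  have h := central_fix F hQ (F.conj_mem le_rfl hg) ⟨z, hQ.1 hz⟩ hz
  have h' : g * z * g⁻¹ = z := h
  calc g * z = (g * z * g⁻¹) * g := by group
    _ = z * g := by rw [h']

/-- a map of `F` on `D ≥ T` induces a map of the factor system on the image of `D`. -/
theorem exists_induced_map {Ω' : Type*} [Group Ω'] {S' : Subgroup Ω'}
    (F : FusionSystem S) {T : Subgroup Ω} (hT : F.StronglyClosed T) (θ : S →* Ω')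
    (E : FusionSystem S') (hE : F.IsFactorSystem T θ E)
    {D : Subgroup Ω} (hTD : T ≤ D) (hDS : D ≤ S) (φ : D →* Ω) (hφ : φ ∈ F.Hom D) :
    ∃ φ' ∈ E.Hom ((D.subgroupOf S).map θ),
      ∀ (d : D) (hd' : θ ⟨d, hDS d.2⟩ ∈ (D.subgroupOf S).map θ),
        φ' ⟨θ ⟨d, hDS d.2⟩, hd'⟩ = θ ⟨φ d, (F.le_of_mem hφ).2 d⟩ := by
  obtain ⟨hTS, hker, hrange, hiff⟩ := hE
  have hφS := (F.le_of_mem hφ).2
  have hD'S' : (D.subgroupOf S).map θ ≤ S' := by
    rintro _ ⟨s, -, rfl⟩; rw [← hrange]; exact ⟨s, rfl⟩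
  have hmemD' : ∀ d : D, θ ⟨d, hDS d.2⟩ ∈ (D.subgroupOf S).map θ :=
    fun d => ⟨⟨d, hDS d.2⟩, Subgroup.mem_subgroupOf.mpr d.2, rfl⟩
  let g : D →* ↥((D.subgroupOf S).map θ) :=
    (θ.comp (Subgroup.inclusion hDS)).codRestrict ((D.subgroupOf S).map θ) hmemD'
  have hg : Function.Surjective g := by
    rintro ⟨_, s, hs, rfl⟩
    exact ⟨⟨s, Subgroup.mem_subgroupOf.mp hs⟩, Subtype.ext rfl⟩
  let f : D →* Ω' := θ.comp (φ.codRestrict S hφS)
  have hkerle : g.ker ≤ f.ker := by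
    intro d hd
    rw [MonoidHom.mem_ker] at hd ⊢
    have h1 : θ ⟨d, hDS d.2⟩ = 1 := congrArg Subtype.val hd
    have h2 : (d : Ω) ∈ T := (hker _).mp h1
    have h3 : φ d ∈ T := sc_map_mem F hT hTD hφ h2
    show θ ⟨φ d, hφS d⟩ = 1
    exact (hker _).mpr h3
  obtain ⟨φ', hφ'⟩ := exists_induced_hom g hg f hkerle
  have hpre : preimageAlong θ ((D.subgroupOf S).map θ) = D := by
    apply le_antisymm
    · rintro _ ⟨s, hs, rfl⟩
      obtain ⟨d, hd, hds⟩ := hs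
      have h1 : θ (d⁻¹ * s) = 1 := by rw [map_mul, map_inv, hds, inv_mul_cancel]
      have h2 : ((d⁻¹ * s : S) : Ω) ∈ T := (hker _).mp h1
      have h3 : (s : Ω) = (d : Ω) * ((d⁻¹ * s : S) : Ω) := by simp
      show (s : Ω) ∈ D
      rw [h3]; exact D.mul_mem (Subgroup.mem_subgroupOf.mp hd) (hTD h2)
    · intro d hd
      exact ⟨⟨d, hDS hd⟩, hmemD' ⟨d, hd⟩, rfl⟩
  refine ⟨φ', ?_, fun d hd' => hφ' d⟩
  rw [hiff]
  refine ⟨hD'S', φ.comp (Subgroup.inclusion hpre.le), hom_congr F hpre.symm hφ, ?_⟩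
  refine ⟨hpre.le.trans hDS, fun x => hφS _, fun x => ?_, fun x => ?_⟩
  · exact hmemD' ⟨x, hpre.le x.2⟩
  · exact hφ' ⟨x, hpre.le x.2⟩

theorem comm_calc {G : Type*} [Group G] (a b z₁ z₂ : G) (h1a : Commute z₁ a) (h1b : Commute z₁ b)
    (h2a : Commute z₂ a) (h2b : Commute z₂ b) (h12 : Commute z₁ z₂) :
    (a * z₁)⁻¹ * (b * z₂) * (a * z₁) * (b * z₂)⁻¹ = a⁻¹ * b * a * b⁻¹ := by
  have hB : ∀ u, Commute z₂ u → u⁻¹ * (b * z₂) * u * (b * z₂)⁻¹ = u⁻¹ * b * u * b⁻¹ := by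
    intro u hu
    have h : z₂ * u * z₂⁻¹ = u := by rw [hu.eq, mul_inv_cancel_right]
    calc u⁻¹ * (b * z₂) * u * (b * z₂)⁻¹ = u⁻¹ * b * (z₂ * u * z₂⁻¹) * b⁻¹ := by
          rw [mul_inv_rev]; simp only [mul_assoc]
      _ = _ := by rw [h]
  have hA : ∀ v, Commute z₁ v → (a * z₁)⁻¹ * v * (a * z₁) * v⁻¹ = a⁻¹ * v * a * v⁻¹ := by
    intro v hv
    have hW : Commute z₁ (a⁻¹ * v * a * v⁻¹) :=
      ((h1a.inv_right.mul_right hv).mul_right h1a).mul_right hv.inv_right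
    calc (a * z₁)⁻¹ * v * (a * z₁) * v⁻¹ = z₁⁻¹ * (a⁻¹ * v * a) * (z₁ * v⁻¹) := by
          rw [mul_inv_rev]; simp only [mul_assoc]
      _ = z₁⁻¹ * (a⁻¹ * v * a) * (v⁻¹ * z₁) := by rw [hv.inv_right.eq]
      _ = z₁⁻¹ * ((a⁻¹ * v * a * v⁻¹) * z₁) := by simp only [mul_assoc]
      _ = z₁⁻¹ * (z₁ * (a⁻¹ * v * a * v⁻¹)) := by rw [hW.eq]
      _ = _ := by rw [inv_mul_cancel_left]
  rw [hB (a * z₁) (h2a.mul_right h12.symm), hA b h1b]

end Cfsg.Agent.helper26.ModT
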