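import Mathlib
import Cfsg.Agent.Lib_helper26_S4

set_option autoImplicit false
set_option linter.style.haveILetI false

/-!
# Copies of the symmetric group of degree five generated by a 4-string of involutions
-/

namespace Cfsg.Agent.h26S5

open Cfsg

set_option maxRecDepth 100000 in
theorem s5_central_aux : ∀ g : Equiv.Perm (Fin 5),
    g * Equiv.swap 0 1 = Equiv.swap 0 1 * g → g * Equiv.swap 1 2 = Equiv.swap 1 2 * g →
    g * Equiv.swap 2 3 = Equiv.swap 2 3 * g → g * Equiv.swap 3 4 = Equiv.swap 3 4 * g → g = 1 := by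
  decide +kernel

theorem s5_injective {G : Type*} [Group G] (ψ : Equiv.Perm (Fin 5) →* G)
    (hψ : ψ (Equiv.swap 0 1 * Equiv.swap 2 3) ≠ 1) : Function.Injective ψ := by
  rw [← MonoidHom.ker_eq_bot_iff]
  haveI hN : ψ.ker.Normal := inferInstance
  haveI hNs : (ψ.ker.subgroupOf (alternatingGroup (Fin 5))).Normal := hN.subgroupOf _
  rcases hNs.eq_bot_or_eq_top with h | h
  · rw [Subgroup.subgroupOf_eq_bot] at h
    rw [eq_bot_iff]
    intro g hg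
    rw [Subgroup.mem_bot]
    have hcomm : ∀ k : Equiv.Perm (Fin 5), g * k = k * g := by
      intro k
      have h1 : g * k * g⁻¹ * k⁻¹ ∈ ψ.ker :=
        ψ.ker.mul_mem hg (hN.conj_mem _ (ψ.ker.inv_mem hg) k) |> fun h => by
          have e : g * k * g⁻¹ * k⁻¹ = g * (k * g⁻¹ * k⁻¹) := by group
          rw [e]; exact h
      have h2 : g * k * g⁻¹ * k⁻¹ ∈ alternatingGroup (Fin 5) := by
        rw [Equiv.Perm.mem_alternatingGroup]
        simp only [map_mul, map_inv]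
        rw [mul_comm (Equiv.Perm.sign g) (Equiv.Perm.sign k)]
        group
      have h3 : g * k * g⁻¹ * k⁻¹ = 1 := by
        have := h.le_bot ⟨h1, h2⟩
        exact this
      have : g * k = (g * k * g⁻¹ * k⁻¹) * k * g := by group
      rw [this, h3, one_mul]
    exact s5_central_aux g (hcomm _) (hcomm _) (hcomm _) (hcomm _)
  · rw [Subgroup.subgroupOf_eq_top] at h
    exfalso
    apply hψ
    have hmem : Equiv.swap (0 : Fin 5) 1 * Equiv.swap 2 3 ∈ alternatingGroup (Fin 5) := by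
      rw [Equiv.Perm.mem_alternatingGroup]
      decide
    exact h hmem

theorem exists_injective_S5 {G : Type*} [Group G] (r₁ r₂ r₃ r₄ : G) (h1 : r₁ ^ 2 = 1)
    (h2 : r₂ ^ 2 = 1) (h3 : r₃ ^ 2 = 1) (h4 : r₄ ^ 2 = 1) (h12 : (r₁ * r₂) ^ 3 = 1)
    (h23 : (r₂ * r₃) ^ 3 = 1) (h34 : (r₃ * r₄) ^ 3 = 1) (h13 : (r₁ * r₃) ^ 2 = 1)
    (h14 : (r₁ * r₄) ^ 2 = 1) (h24 : (r₂ * r₄) ^ 2 = 1) (hne : r₁ * r₃ ≠ 1) :
    ∃ ψ : Equiv.Perm (Fin 5) →* G, Function.Injective ψ ∧ ψ (Equiv.swap 0 1) = r₁ ∧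
      ψ (Equiv.swap 1 2) = r₂ ∧ ψ (Equiv.swap 2 3) = r₃ ∧ ψ (Equiv.swap 3 4) = r₄ := by
  obtain ⟨cs, hcs⟩ := Cfsg.Agent.S2530.result 4
  have hinv : ∀ r : G, r ^ 2 = 1 → r⁻¹ = r := by
    intro r hr
    rw [inv_eq_iff_mul_eq_one, ← sq, hr]
  have hrev : ∀ (a b : G) (n : ℕ), a ^ 2 = 1 → b ^ 2 = 1 → (a * b) ^ n = 1 → (b * a) ^ n = 1 := by
    intro a b n ha hb hab
    have : b * a = (a * b)⁻¹ := by rw [mul_inv_rev, hinv a ha, hinv b hb]
    rw [this, inv_pow, hab, inv_one]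
  let f : Fin 4 → G := ![r₁, r₂, r₃, r₄]
  have key : ∀ i j : Fin 4, CoxeterMatrix.A 4 i j
      = (![![1, 3, 2, 2], ![3, 1, 3, 2], ![2, 3, 1, 3], ![2, 2, 3, 1]] : Fin 4 → Fin 4 → ℕ) i j := by
    intro i j
    fin_cases i <;> fin_cases j <;> rfl
  have hf : (CoxeterMatrix.A 4).IsLiftable f := by
    intro i j
    rw [key]
    fin_cases i <;> fin_cases j
    · show (r₁ * r₁) ^ 1 = 1
      rw [pow_one, ← sq, h1]
    · exact h12
    · exact h13
    · exact h14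
    · exact hrev _ _ _ h1 h2 h12
    · show (r₂ * r₂) ^ 1 = 1
      rw [pow_one, ← sq, h2]
    · exact h23
    · exact h24
    · exact hrev _ _ _ h1 h3 h13
    · exact hrev _ _ _ h2 h3 h23
    · show (r₃ * r₃) ^ 1 = 1
      rw [pow_one, ← sq, h3]
    · exact h34
    · exact hrev _ _ _ h1 h4 h14
    · exact hrev _ _ _ h2 h4 h24
    · exact hrev _ _ _ h3 h4 h34
    · show (r₄ * r₄) ^ 1 = 1
      rw [pow_one, ← sq, h4]
  let ψ : Equiv.Perm (Fin 5) →* G := cs.lift ⟨f, hf⟩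
  have hs0 : cs.simple 0 = Equiv.swap (0 : Fin 5) 1 := hcs 0
  have hs1 : cs.simple 1 = Equiv.swap (1 : Fin 5) 2 := hcs 1
  have hs2 : cs.simple 2 = Equiv.swap (2 : Fin 5) 3 := hcs 2
  have hs3 : cs.simple 3 = Equiv.swap (3 : Fin 5) 4 := hcs 3
  have hv0 : ψ (Equiv.swap 0 1) = r₁ := by
    rw [← hs0]
    show cs.lift ⟨f, hf⟩ (cs.simple 0) = _
    rw [cs.lift_apply_simple hf]
    rfl
  have hv1 : ψ (Equiv.swap 1 2) = r₂ := by
    rw [← hs1]
    show cs.lift ⟨f, hf⟩ (cs.simple 1) = _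
    rw [cs.lift_apply_simple hf]
    rfl
  have hv2 : ψ (Equiv.swap 2 3) = r₃ := by
    rw [← hs2]
    show cs.lift ⟨f, hf⟩ (cs.simple 2) = _
    rw [cs.lift_apply_simple hf]
    rfl
  have hv3 : ψ (Equiv.swap 3 4) = r₄ := by
    rw [← hs3]
    show cs.lift ⟨f, hf⟩ (cs.simple 3) = _
    rw [cs.lift_apply_simple hf]
    rfl
  have hψ : ψ (Equiv.swap 0 1 * Equiv.swap 2 3) = r₁ * r₃ := by
    rw [map_mul, hv0, hv2]
  exact ⟨ψ, s5_injective ψ (by rw [hψ]; exact hne), hv0, hv1, hv2, hv3⟩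

end Cfsg.Agent.h26S5
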