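import Mathlib
import Cfsg.Agent.Lib_helper26_S5
import Cfsg.Agent.Lib_helper26_TTW2

set_option autoImplicit false
set_option linter.style.haveILetI false
set_option linter.unusedSectionVars false
set_option linter.unusedVariables false

/-! 3-transposition sets in which the commuting neighbours of each point form a line. -/

open Cfsg

namespace Cfsg.Agent.h26LS3

open Cfsg.Agent.h26TTW

variable {G : Type*} [Group G] {D : Set G}

theorem s3_noncomm : ∀ σ τ : Equiv.Perm (Fin 3), σ * σ = 1 → σ ≠ 1 → τ * τ = 1 → τ ≠ 1 → σ ≠ τ →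
    σ * τ ≠ τ * σ := by decide

theorem s3_inv3 : ∀ σ : Equiv.Perm (Fin 3), σ * σ = 1 → σ ≠ 1 →
    σ = Equiv.swap 0 1 ∨ σ = Equiv.swap 0 2 ∨ σ = Equiv.swap 1 2 := by decide

theorem s3_four : ∀ σ₁ σ₂ σ₃ σ₄ : Equiv.Perm (Fin 3), σ₁ * σ₁ = 1 → σ₁ ≠ 1 → σ₂ * σ₂ = 1 → σ₂ ≠ 1 →
    σ₃ * σ₃ = 1 → σ₃ ≠ 1 → σ₄ * σ₄ = 1 → σ₄ ≠ 1 →
    σ₁ = σ₂ ∨ σ₁ = σ₃ ∨ σ₁ = σ₄ ∨ σ₂ = σ₃ ∨ σ₂ = σ₄ ∨ σ₃ = σ₄ := by
  intro σ₁ σ₂ σ₃ σ₄ a1 a2 b1 b2 c1 c2 d1 d2
  rcases s3_inv3 σ₁ a1 a2 with h1 | h1 | h1 <;> rcases s3_inv3 σ₂ b1 b2 with h2 | h2 | h2 <;>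
    rcases s3_inv3 σ₃ c1 c2 with h3 | h3 | h3 <;> rcases s3_inv3 σ₄ d1 d2 with h4 | h4 | h4 <;>
    subst h1 h2 h3 h4 <;> simp

theorem s3_center : ∀ σ : Equiv.Perm (Fin 3), (∀ τ : Equiv.Perm (Fin 3), σ * τ = τ * σ) → σ = 1 := by
  decide

/-- the combinatorial local hypothesis: the commuting neighbours of each point form a line -/
def LocalS3 (D : Set G) : Prop :=
  ∀ d ∈ D, (∀ x ∈ Dc D d, ∀ y ∈ Dc D d, x ≠ y → ¬ Commute x y) ∧
    (∀ x₁ ∈ Dc D d, ∀ x₂ ∈ Dc D d, ∀ x₃ ∈ Dc D d, ∀ x₄ ∈ Dc D d,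
      x₁ = x₂ ∨ x₁ = x₃ ∨ x₁ = x₄ ∨ x₂ = x₃ ∨ x₂ = x₄ ∨ x₃ = x₄) ∧
    (∃ a ∈ Dc D d, ∃ b ∈ Dc D d, a ≠ b)

theorem ne_one_of_mem (hTS : IsThreeTranspositionSet D) {x : G} (hx : x ∈ D) : x ≠ 1 := by
  intro h
  have := hTS.1 x hx
  rw [h, orderOf_one] at this
  exact absurd this (by norm_num)

theorem img_invol (hTS : IsThreeTranspositionSet D) {d : G}
    (φ : ↥(Subgroup.closure (Dc D d)) ≃* Equiv.Perm (Fin 3)) {x : G} (hx : x ∈ Dc D d) :
    φ ⟨x, Subgroup.subset_closure hx⟩ * φ ⟨x, Subgroup.subset_closure hx⟩ = 1 ∧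
      φ ⟨x, Subgroup.subset_closure hx⟩ ≠ 1 := by
  constructor
  · rw [← map_mul]
    have : (⟨x, Subgroup.subset_closure hx⟩ : ↥(Subgroup.closure (Dc D d))) *
        ⟨x, Subgroup.subset_closure hx⟩ = 1 := by
      apply Subtype.ext
      exact sq_one hTS hx.1
    rw [this, map_one]
  · intro h
    have h1 : (⟨x, Subgroup.subset_closure hx⟩ : ↥(Subgroup.closure (Dc D d))) = 1 := by
      apply φ.injective
      rw [h, map_one]
    exact ne_one_of_mem hTS hx.1 (congrArg Subtype.val h1)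

theorem localS3_of_iso (hTS : IsThreeTranspositionSet D)
    (hiso : ∀ d ∈ D, Nonempty (↥(Subgroup.closure (Dc D d)) ≃* Equiv.Perm (Fin 3))) :
    LocalS3 D := by
  intro d hd
  obtain ⟨φ⟩ := hiso d hd
  have hinj : ∀ {x y : G} (hx : x ∈ Dc D d) (hy : y ∈ Dc D d),
      φ ⟨x, Subgroup.subset_closure hx⟩ = φ ⟨y, Subgroup.subset_closure hy⟩ → x = y := by
    intro x y hx hy h
    exact congrArg Subtype.val (φ.injective h)
  have hP1 : ∀ x ∈ Dc D d, ∀ y ∈ Dc D d, x ≠ y → ¬ Commute x y := by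
    intro x hx y hy hxy hc
    obtain ⟨hx1, hx2⟩ := img_invol hTS φ hx
    obtain ⟨hy1, hy2⟩ := img_invol hTS φ hy
    apply s3_noncomm _ _ hx1 hx2 hy1 hy2 (fun h => hxy (hinj hx hy h))
    rw [← map_mul, ← map_mul]
    congr 1
    apply Subtype.ext
    exact hc.eq
  refine ⟨hP1, ?_, ?_⟩
  · intro x₁ h₁ x₂ h₂ x₃ h₃ x₄ h₄
    obtain ⟨a1, a2⟩ := img_invol hTS φ h₁
    obtain ⟨b1, b2⟩ := img_invol hTS φ h₂
    obtain ⟨c1, c2⟩ := img_invol hTS φ h₃
    obtain ⟨d1, d2⟩ := img_invol hTS φ h₄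
    rcases s3_four _ _ _ _ a1 a2 b1 b2 c1 c2 d1 d2 with h | h | h | h | h | h
    · exact Or.inl (hinj h₁ h₂ h)
    · exact Or.inr (Or.inl (hinj h₁ h₃ h))
    · exact Or.inr (Or.inr (Or.inl (hinj h₁ h₄ h)))
    · exact Or.inr (Or.inr (Or.inr (Or.inl (hinj h₂ h₃ h))))
    · exact Or.inr (Or.inr (Or.inr (Or.inr (Or.inl (hinj h₂ h₄ h)))))
    · exact Or.inr (Or.inr (Or.inr (Or.inr (Or.inr (hinj h₃ h₄ h)))))
  · by_contra hcon
    push Not at hcon
    -- all elements of Dc D d are equal, so the closure is commutative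
    have hsub : Dc D d ⊆ (Subgroup.centralizer (Dc D d) : Set G) := by
      intro x hx
      rw [SetLike.mem_coe, Subgroup.mem_centralizer_iff]
      intro y hy
      rw [hcon x hx y hy]
    have hle : Subgroup.closure (Dc D d) ≤ Subgroup.centralizer (Dc D d) :=
      (Subgroup.closure_le _).mpr hsub
    have hle2 : Subgroup.closure (Dc D d) ≤ Subgroup.centralizer (Subgroup.centralizer (Dc D d) : Set G) :=
      Subgroup.closure_le_centralizer_centralizer _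
    have hcomm : ∀ u v : ↥(Subgroup.closure (Dc D d)), u * v = v * u := by
      intro u v
      apply Subtype.ext
      have h1 := hle2 v.2
      rw [Subgroup.mem_centralizer_iff] at h1
      exact h1 u.1 (hle u.2)
    have : Equiv.swap (0 : Fin 3) 1 * Equiv.swap 1 2 = Equiv.swap 1 2 * Equiv.swap 0 1 := by
      have h := hcomm (φ.symm (Equiv.swap 0 1)) (φ.symm (Equiv.swap 1 2))
      have h' := congrArg φ h
      simpa using h'
    revert this
    decide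

section line

variable (hTS : IsThreeTranspositionSet D) (hconj : ∀ g : G, ∀ y ∈ D, g * y * g⁻¹ ∈ D)
  (hL : LocalS3 D)

include hTS hconj hL

/-- the line structure of the commuting neighbours of a point -/
theorem line_struct {d : G} (hd : d ∈ D) :
    ∃ a b c, a ∈ Dc D d ∧ b ∈ Dc D d ∧ c ∈ Dc D d ∧ a ≠ b ∧ a ≠ c ∧ b ≠ c ∧ c = a * b * a⁻¹ ∧
      ∀ y ∈ Dc D d, y = a ∨ y = b ∨ y = c := by
  obtain ⟨hP1, hP2, a, ha, b, hb, hab⟩ := hL d hd
  have hnc : ¬ Commute a b := hP1 a ha b hb hab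
  have hcD : a * b * a⁻¹ ∈ D := hconj a b hb.1
  have hcd : Commute d (a * b * a⁻¹) := by
    have h1 : Commute d a := ha.2.2
    have h2 : Commute d b := hb.2.2
    exact (h1.mul_right h2).mul_right h1.inv_right
  have hcne : a * b * a⁻¹ ≠ d := by
    intro h
    apply hb.2.1
    have : b = a⁻¹ * (a * b * a⁻¹) * a := by group
    rw [this, h]
    have h1 : Commute d a := ha.2.2
    calc a⁻¹ * d * a = a⁻¹ * (d * a) := by group
      _ = a⁻¹ * (a * d) := by rw [h1.eq]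
      _ = d := by group
  have hc : a * b * a⁻¹ ∈ Dc D d := ⟨hcD, hcne, hcd⟩
  have hac : a ≠ a * b * a⁻¹ := by
    intro h
    apply hab
    have : b = a⁻¹ * (a * b * a⁻¹) * a := by group
    rw [this, ← h]; group
  have hbc : b ≠ a * b * a⁻¹ := by
    intro h
    apply hnc
    show a * b = b * a
    calc a * b = (a * b * a⁻¹) * a := by group
      _ = b * a := by rw [← h]
  refine ⟨a, b, a * b * a⁻¹, ha, hb, hc, hab, hac, hbc, rfl, ?_⟩
  intro y hy
  rcases hP2 y hy a ha b hb _ hc with h | h | h | h | h | h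
  · exact Or.inl h
  · exact Or.inr (Or.inl h)
  · exact Or.inr (Or.inr h)
  · exact absurd h hab
  · exact absurd h hac
  · exact absurd h hbc

/-- two lines sharing three distinct points coincide -/
theorem Dc_eq_of_three {u v x₁ x₂ x₃ : G} (hu : u ∈ D) (hv : v ∈ D)
    (h1u : x₁ ∈ Dc D u) (h2u : x₂ ∈ Dc D u) (h3u : x₃ ∈ Dc D u)
    (h1v : x₁ ∈ Dc D v) (h2v : x₂ ∈ Dc D v) (h3v : x₃ ∈ Dc D v)
    (h12 : x₁ ≠ x₂) (h13 : x₁ ≠ x₃) (h23 : x₂ ≠ x₃) : Dc D u = Dc D v := by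
  have key : ∀ w ∈ D, x₁ ∈ Dc D w → x₂ ∈ Dc D w → x₃ ∈ Dc D w → ∀ y ∈ Dc D w,
      y = x₁ ∨ y = x₂ ∨ y = x₃ := by
    intro w hw a1 a2 a3 y hy
    rcases (hL w hw).2.1 y hy x₁ a1 x₂ a2 x₃ a3 with h | h | h | h | h | h
    · exact Or.inl h
    · exact Or.inr (Or.inl h)
    · exact Or.inr (Or.inr h)
    · exact absurd h h12
    · exact absurd h h13
    · exact absurd h h23
  ext y
  constructor
  · intro hy
    rcases key u hu h1u h2u h3u y hy with h | h | h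
    · rw [h]; exact h1v
    · rw [h]; exact h2v
    · rw [h]; exact h3v
  · intro hy
    rcases key v hv h1v h2v h3v y hy with h | h | h
    · rw [h]; exact h1u
    · rw [h]; exact h2u
    · rw [h]; exact h3u

/-- conjugating a point by the product of two commuting points, both not commuting with it,
gives a commuting neighbour -/
theorem conj_pair_mem {x y e : G} (hx : x ∈ D) (hy : y ∈ D) (he : e ∈ D) (hxy : x ≠ y)
    (hc : Commute x y) (hxe : ¬ Commute x e) (hey : ¬ Commute e y) :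
    (x * y) * e * (x * y)⁻¹ ∈ Dc D e := by
  obtain ⟨ψ, hinj, h01, h12, h23⟩ :=
    Cfsg.Agent.h26S4.exists_S4_of_string hTS hx he hy hxy hc hxe hey
  have key : (x * y) * e * (x * y)⁻¹ = ψ (Equiv.swap 0 3) := by
    have e1 : (Equiv.swap (0 : Fin 4) 1 * Equiv.swap 2 3) * Equiv.swap 1 2 *
        (Equiv.swap (0 : Fin 4) 1 * Equiv.swap 2 3)⁻¹ = Equiv.swap 0 3 := by decide
    rw [← e1, map_mul, map_mul, map_inv, map_mul, h01, h12, h23]
  refine ⟨hconj _ e he, ?_, ?_⟩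
  · rw [key]
    intro h
    have : ψ (Equiv.swap 0 3) = ψ (Equiv.swap 1 2) := by rw [h, h12]
    have h2 := hinj this
    revert h2
    decide
  · rw [key]
    have e2 : Commute (Equiv.swap (1 : Fin 4) 2) (Equiv.swap 0 3) := by
      show _ = _
      decide
    have := e2.map ψ
    rwa [h12] at this

/-- the Klein four-group argument: no point fails to commute with all points of an `S₄`-configuration -/
theorem klein_contra {p q p' q' p'' q'' y : G} (hp : p ∈ D) (hq : q ∈ D) (hp' : p' ∈ D)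
    (hq' : q' ∈ D) (hp'' : p'' ∈ D) (hq'' : q'' ∈ D) (hy : y ∈ D)
    (n1 : p ≠ q) (c1 : Commute p q) (n2 : p' ≠ q') (c2 : Commute p' q')
    (n3 : p'' ≠ q'') (c3 : Commute p'' q'')
    (y1 : ¬ Commute p y) (y2 : ¬ Commute y q) (y3 : ¬ Commute p' y) (y4 : ¬ Commute y q')
    (y5 : ¬ Commute p'' y) (y6 : ¬ Commute y q'')
    (hrel : (p * q) * (p' * q') = p'' * q'') : False := by
  have m1 := conj_pair_mem hTS hconj hL hp hq hy n1 c1 y1 y2
  have m2 := conj_pair_mem hTS hconj hL hp' hq' hy n2 c2 y3 y4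
  have m3 := conj_pair_mem hTS hconj hL hp'' hq'' hy n3 c3 y5 y6
  have e3 : (p'' * q'') * y * (p'' * q'')⁻¹ =
      (p * q) * ((p' * q') * y * (p' * q')⁻¹) * (p * q)⁻¹ := by
    rw [← hrel]; group
  have hne : (p * q) * y * (p * q)⁻¹ ≠ (p'' * q'') * y * (p'' * q'')⁻¹ := by
    intro h
    rw [e3] at h
    apply m2.2.1
    have : (p' * q') * y * (p' * q')⁻¹ =
        (p * q)⁻¹ * ((p * q) * ((p' * q') * y * (p' * q')⁻¹) * (p * q)⁻¹) * (p * q) := by group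
    rw [this, ← h]; group
  have hcm : Commute ((p * q) * y * (p * q)⁻¹) ((p'' * q'') * y * (p'' * q'')⁻¹) := by
    rw [e3]
    exact (conj_comm_iff (p * q) y _).mpr m2.2.2
  exact (hL y hy).1 _ m1 _ m3 hne hcm

end line

end Cfsg.Agent.h26LS3
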