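import Cfsg.Statements.S5350
import Cfsg.Agent.Lib_helper26_TTW
import Cfsg.Agent.Lib_helper26_TTW2

set_option autoImplicit false
open Cfsg

namespace Cfsg.Agent.S5350

set_option linter.style.haveILetI false

/-- Let D be a conjugacy class of 3-transpositions generating the finite group G, with at least two members, and d a member of D. Then the set of members w of D whose commuting partners in D (other than w) are exactly those of d (other than d) coincides with the set of members of D lying in the coset of d modulo the largest normal 3-subgroup of G, and also with the orbit of d under conjugation by that normal 3-subgroup. -/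
theorem result {G : Type*} [Group G] [Finite G] {D : Set G} (hD : Cfsg.IsThreeTranspositionClass D) (hD2 : ∃ a ∈ D, ∃ b ∈ D, a ≠ b) {d : G} (hd : d ∈ D) : {w : G | w ∈ D ∧ {y : G | y ∈ D ∧ y ≠ d ∧ Commute d y} = {y : G | y ∈ D ∧ y ≠ w ∧ Commute w y}} = {w : G | w ∈ D ∧ d⁻¹ * w ∈ Cfsg.pCore 3 G} ∧ {w : G | w ∈ D ∧ {y : G | y ∈ D ∧ y ≠ d ∧ Commute d y} = {y : G | y ∈ D ∧ y ≠ w ∧ Commute w y}} = {w : G | ∃ g ∈ Cfsg.pCore 3 G, w = g * d * g⁻¹} := by
  classical
  obtain ⟨hTS, ⟨d0, hd0, hcls⟩, _hgen⟩ := hD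
  have hconj : ∀ g : G, ∀ y ∈ D, g * y * g⁻¹ ∈ D := by
    intro g y hy
    rw [hcls] at hy ⊢
    obtain ⟨c, hc⟩ := isConj_iff.mp (show IsConj d0 y from hy)
    show IsConj d0 (g * y * g⁻¹)
    rw [isConj_iff]
    exact ⟨g * c, by rw [← hc]; group⟩
  haveI hN : (pCore 3 G).Normal := Cfsg.Agent.helper15.pCore_normal' 3
  -- the three sets
  have h12 : ∀ w : G, (w ∈ D ∧ Cfsg.Agent.h26TTW.Dc D d = Cfsg.Agent.h26TTW.Dc D w) →
      ∃ g ∈ Cfsg.pCore 3 G, w = g * d * g⁻¹ := by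
    rintro w ⟨hwD, hblk⟩
    by_cases hne : d = w
    · exact ⟨1, Subgroup.one_mem _, by rw [← hne]; group⟩
    · have hmem := Cfsg.Agent.h26TTW.mul_mem_pCore_three hTS hconj hd hwD hblk
      have hnc : ¬ Commute d w := Cfsg.Agent.h26TTW.not_comm_of_blk hwD hblk hne
      have h3 := Cfsg.Agent.h26TTW.cube_of_not_comm hTS hd hwD hnc
      refine ⟨d * w, hmem, ?_⟩
      exact (Cfsg.Agent.S5346.conj_of_cube (Cfsg.Agent.h26TTW.sq_one hTS hd)
        (Cfsg.Agent.h26TTW.sq_one hTS hwD) h3).symm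
  have h23 : ∀ w : G, (∃ g ∈ Cfsg.pCore 3 G, w = g * d * g⁻¹) →
      (w ∈ D ∧ d⁻¹ * w ∈ Cfsg.pCore 3 G) := by
    rintro w ⟨g, hg, rfl⟩
    refine ⟨hconj g d hd, ?_⟩
    have e : d⁻¹ * (g * d * g⁻¹) = (d⁻¹ * g * d⁻¹⁻¹) * g⁻¹ := by group
    rw [e]
    exact Subgroup.mul_mem _ (hN.conj_mem g hg d⁻¹) (Subgroup.inv_mem _ hg)
  have h31 : ∀ w : G, (w ∈ D ∧ d⁻¹ * w ∈ Cfsg.pCore 3 G) →
      (w ∈ D ∧ Cfsg.Agent.h26TTW.Dc D d = Cfsg.Agent.h26TTW.Dc D w) := by
    rintro w ⟨hwD, hmem⟩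
    refine ⟨hwD, Set.Subset.antisymm ?_ ?_⟩
    · exact Cfsg.Agent.h26TTW.Dc_sub_of_coset hTS hd hwD hmem
    · apply Cfsg.Agent.h26TTW.Dc_sub_of_coset hTS hwD hd
      have e : w⁻¹ * d = (d⁻¹ * w)⁻¹ := by group
      rw [e]
      exact Subgroup.inv_mem _ hmem
  constructor
  · ext w
    constructor
    · intro hw
      exact h23 w (h12 w hw)
    · intro hw
      exact h31 w hw
  · ext w
    constructor
    · intro hw
      exact h12 w hw
    · intro hw
      exact h31 w (h23 w hw)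

end Cfsg.Agent.S5350
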