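import Mathlib
import Cfsg.Agent.S5347
import Cfsg.Agent.S5348
import Cfsg.Agent.S5349
import Cfsg.Agent.S5350
import Cfsg.Agent.Lib_helper26_S4
import Cfsg.Agent.Lib_helper26_TTW2
import Cfsg.Agent.Lib_helper7_FStar
import Cfsg.Agent.Lib_helper7_Derived
import Cfsg.Agent.Lib_helper7_Extra

set_option autoImplicit false
set_option linter.style.haveILetI false
set_option linter.unusedSectionVars false
set_option linter.unusedVariables false

/-! The Fitting trichotomy for 3-transposition groups. -/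

open Cfsg
open scoped commutatorElement

namespace Cfsg.Agent.h26TTY

open Cfsg.Agent.h26TTW Cfsg.Agent.helper7

variable {G : Type*} [Group G]

theorem le_center_of_gen {D : Set G} (hgen : Subgroup.closure D = ⊤) {N : Subgroup G}
    (h : ∀ d ∈ D, ∀ x ∈ N, Commute d x) : N ≤ Subgroup.center G := by
  intro x hx
  rw [Subgroup.mem_center_iff]
  have hle : Subgroup.closure D ≤ Subgroup.centralizer {x} := by
    rw [Subgroup.closure_le]
    intro y hy
    rw [SetLike.mem_coe, Subgroup.mem_centralizer_iff]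
    intro z hz
    rw [Set.mem_singleton_iff] at hz
    rw [hz]
    exact (h y hy x hx).eq.symm
  intro g
  have hg : g ∈ Subgroup.centralizer {x} := hle (hgen ▸ Subgroup.mem_top g)
  exact (Subgroup.mem_centralizer_iff.mp hg x rfl).symm

theorem mem_normalizer_of_normal (N : Subgroup G) [hN : N.Normal] (d : G) :
    d ∈ Subgroup.normalizer (N : Set G) := by
  rw [Subgroup.mem_normalizer_iff]
  intro h
  constructor
  · intro hh; exact hN.conj_mem h hh d
  · intro hh
    have h1 := hN.conj_mem _ hh d⁻¹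
    have e : d⁻¹ * (d * h * d⁻¹) * d⁻¹⁻¹ = h := by group
    rw [e] at h1
    exact h1

theorem le_normalizer_of_conj {A E : Subgroup G} (h : ∀ x ∈ E, ∀ a ∈ A, x * a * x⁻¹ ∈ A) :
    E ≤ Subgroup.normalizer (A : Set G) := by
  intro x hx
  rw [Subgroup.mem_normalizer_iff]
  intro a
  constructor
  · exact h x hx a
  · intro ha
    have h1 := h x⁻¹ (E.inv_mem hx) _ ha
    have e : x⁻¹ * (x * a * x⁻¹) * x⁻¹⁻¹ = a := by group
    rw [e] at h1
    exact h1

theorem conj_mem_closure {S : Set G} {x : G}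
    (hgen : ∀ s ∈ S, x * s * x⁻¹ ∈ Subgroup.closure S) :
    ∀ a ∈ Subgroup.closure S, x * a * x⁻¹ ∈ Subgroup.closure S := by
  intro a ha
  induction ha using Subgroup.closure_induction with
  | mem z hz => exact hgen z hz
  | one =>
    have : x * 1 * x⁻¹ = 1 := by group
    rw [this]; exact Subgroup.one_mem _
  | mul u v _ _ hu hv =>
    have : x * (u * v) * x⁻¹ = (x * u * x⁻¹) * (x * v * x⁻¹) := by group
    rw [this]; exact Subgroup.mul_mem _ hu hv
  | inv u _ hu =>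
    have : x * u⁻¹ * x⁻¹ = (x * u * x⁻¹)⁻¹ := by group
    rw [this]; exact Subgroup.inv_mem _ hu

theorem closure_abelian {S : Set G} (h : ∀ a ∈ S, ∀ b ∈ S, Commute a b) :
    Subgroup.closure S ≤ Subgroup.centralizer (Subgroup.closure S : Set G) := by
  have h1 : Subgroup.closure S ≤ Subgroup.centralizer S := by
    rw [Subgroup.closure_le]
    intro a ha
    rw [SetLike.mem_coe, Subgroup.mem_centralizer_iff]
    intro b hb
    exact (h b hb a ha).eq
  have h2 : S ⊆ (Subgroup.centralizer (Subgroup.closure S : Set G) : Set G) := by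
    intro a ha
    rw [SetLike.mem_coe, Subgroup.mem_centralizer_iff]
    intro b hb
    have := Subgroup.mem_centralizer_iff.mp (h1 hb) a ha
    exact this.symm
  exact (Subgroup.closure_le _).mpr h2

section Layer

variable [Finite G]

theorem layer_conj_mem {g x : G} (hx : x ∈ layerOf (⊤ : Subgroup G)) :
    g * x * g⁻¹ ∈ layerOf (⊤ : Subgroup G) := by
  have h1 := layerOf_normal (⊤ : Subgroup G) (Subgroup.mem_top g)
  exact (Subgroup.mem_normalizer_iff.mp h1 x).mp hx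

/-- if `[E, d]` is nilpotent then `d` centralizes the layer `E`. -/
theorem centralizes_layer_of_nilpotent (d : G)
    (hA : Group.IsNilpotent ↥(Subgroup.closure
      {c : G | ∃ g ∈ layerOf (⊤ : Subgroup G), c = g * d * g⁻¹ * d⁻¹})) :
    ∀ x ∈ layerOf (⊤ : Subgroup G), Commute d x := by
  set E : Subgroup G := layerOf (⊤ : Subgroup G) with hE
  set S : Set G := {c : G | ∃ g ∈ E, c = g * d * g⁻¹ * d⁻¹} with hS
  set A : Subgroup G := Subgroup.closure S with hAdef
  have hcE : ∀ g ∈ E, g * d * g⁻¹ * d⁻¹ ∈ E := by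
    intro g hg
    have e : g * d * g⁻¹ * d⁻¹ = g * (d * g⁻¹ * d⁻¹) := by group
    rw [e]
    exact E.mul_mem hg (layer_conj_mem (E.inv_mem hg))
  have hAE : A ≤ E := by
    rw [hAdef, Subgroup.closure_le]
    rintro c ⟨g, hg, rfl⟩
    exact hcE g hg
  have hEA : E ≤ Subgroup.normalizer (A : Set G) := by
    apply le_normalizer_of_conj
    intro x hx a ha
    apply conj_mem_closure _ a ha
    rintro s ⟨g, hg, rfl⟩
    have e : x * (g * d * g⁻¹ * d⁻¹) * x⁻¹ =
        ((x * g) * d * (x * g)⁻¹ * d⁻¹) * (x * d * x⁻¹ * d⁻¹)⁻¹ := by group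
    rw [e]
    exact Subgroup.mul_mem _ (Subgroup.subset_closure ⟨x * g, E.mul_mem hx hg, rfl⟩)
      (Subgroup.inv_mem _ (Subgroup.subset_closure ⟨x, hx, rfl⟩))
  have hSN : SN A (⊤ : Subgroup G) := (SN.of_normal hAE hEA).trans (layerOf_sn ⊤)
  have hAF : A ≤ fitOf (⊤ : Subgroup G) := nilpotent_sn_le_fitOf hSN hA
  have hFC : fitOf (⊤ : Subgroup G) ≤ Subgroup.centralizer (E : Set G) :=
    le_centralizer_of_comm_eq_bot (layerOf_comm_fitOf ⊤)
  have hcC : ∀ g ∈ E, ∀ x ∈ E, x * (g * d * g⁻¹ * d⁻¹) = (g * d * g⁻¹ * d⁻¹) * x := by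
    intro g hg x hx
    have h1 : g * d * g⁻¹ * d⁻¹ ∈ Subgroup.centralizer (E : Set G) :=
      hFC (hAF (Subgroup.subset_closure ⟨g, hg, rfl⟩))
    exact Subgroup.mem_centralizer_iff.mp h1 x hx
  -- c (g h) = c h * c g
  have hmul : ∀ g ∈ E, ∀ h ∈ E, (g * h) * d * (g * h)⁻¹ * d⁻¹ =
      (h * d * h⁻¹ * d⁻¹) * (g * d * g⁻¹ * d⁻¹) := by
    intro g hg h hh
    have e : (g * h) * d * (g * h)⁻¹ * d⁻¹ =
        g * (h * d * h⁻¹ * d⁻¹) * g⁻¹ * (g * d * g⁻¹ * d⁻¹) := by group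
    rw [e, hcC h hh g hg, mul_inv_cancel_right]
  have hinv : ∀ g ∈ E, g⁻¹ * d * g⁻¹⁻¹ * d⁻¹ = (g * d * g⁻¹ * d⁻¹)⁻¹ := by
    intro g hg
    have h1 := hmul g⁻¹ (E.inv_mem hg) g hg
    have e : (g⁻¹ * g) * d * (g⁻¹ * g)⁻¹ * d⁻¹ = 1 := by group
    rw [e] at h1
    exact (inv_eq_of_mul_eq_one_right h1.symm).symm
  have hcomm : ∀ g ∈ E, ∀ h ∈ E, ⁅g, h⁆ ∈ Subgroup.centralizer ({d} : Set G) := by
    intro g hg h hh
    have hgi := E.inv_mem hg
    have hhi := E.inv_mem hh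
    have h1 : ⁅g, h⁆ * d * ⁅g, h⁆⁻¹ * d⁻¹ = 1 := by
      rw [commutatorElement_def]
      rw [hmul (g * h * g⁻¹) (E.mul_mem (E.mul_mem hg hh) hgi) h⁻¹ hhi,
        hmul (g * h) (E.mul_mem hg hh) g⁻¹ hgi, hmul g hg h hh, hinv g hg, hinv h hh]
      have hc := hcC g hg _ (hcE h hh)
      -- (ch)⁻¹ * ((cg)⁻¹ * (ch * cg)) = 1
      rw [hc]
      group
    rw [Subgroup.mem_centralizer_iff]
    intro z hz
    rw [Set.mem_singleton_iff] at hz
    rw [hz]
    have e : ⁅g, h⁆ * d = (⁅g, h⁆ * d * ⁅g, h⁆⁻¹ * d⁻¹) * d * ⁅g, h⁆ := by group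
    rw [e, h1, one_mul]
  have hperf : ⁅E, E⁆ = E := layerOf_perfect ⊤
  have hle : E ≤ Subgroup.centralizer ({d} : Set G) := by
    rw [← hperf, Subgroup.commutator_le]
    exact hcomm
  intro x hx
  have := Subgroup.mem_centralizer_iff.mp (hle hx) d rfl
  exact this

theorem layer_eq_bot_of_centralized {D : Set G} (hgen : Subgroup.closure D = ⊤)
    (h : ∀ d ∈ D, ∀ x ∈ layerOf (⊤ : Subgroup G), Commute d x) : Cfsg.layer G = ⊥ := by
  rw [layer_eq_layerOf]
  have h1 : layerOf (⊤ : Subgroup G) ≤ Subgroup.center G := le_center_of_gen hgen h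
  have h2 : layerOf (⊤ : Subgroup G) ≤ Subgroup.centralizer (layerOf (⊤ : Subgroup G) : Set G) := by
    intro x hx
    rw [Subgroup.mem_centralizer_iff]
    intro y _
    exact (Subgroup.mem_center_iff.mp (h1 hx) y)
  have h3 : ⁅layerOf (⊤ : Subgroup G), layerOf (⊤ : Subgroup G)⁆ = ⊥ :=
    Subgroup.commutator_eq_bot_iff_le_centralizer.mpr h2
  rw [← layerOf_perfect (⊤ : Subgroup G)]
  exact h3

end Layer

end Cfsg.Agent.h26TTY
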