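import Mathlib
import Cfsg.Agent.Lib_helper26_TTY

set_option autoImplicit false
set_option linter.style.haveILetI false
set_option linter.unusedSectionVars false
set_option linter.unusedVariables false

/-! The Fitting trichotomy for 3-transposition groups: main theorem. -/

open Cfsg
open scoped commutatorElement

namespace Cfsg.Agent.h26TTY

open Cfsg.Agent.h26TTW Cfsg.Agent.helper7

variable {G : Type*} [Group G] [Finite G]

theorem pCore_le_centralizer_layer {p : ℕ} (hp : p.Prime) :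
    Cfsg.pCore p G ≤ Subgroup.centralizer (layerOf (⊤ : Subgroup G) : Set G) := by
  have hFC : fitOf (⊤ : Subgroup G) ≤ Subgroup.centralizer (layerOf (⊤ : Subgroup G) : Set G) :=
    le_centralizer_of_comm_eq_bot (layerOf_comm_fitOf ⊤)
  rw [pCore_eq hp]
  exact (piCoreIn_le_fitOf hp ⊤).trans hFC

theorem trichotomy {D : Set G} (hD : Cfsg.IsThreeTranspositionClass D)
    (hD2 : ∃ a ∈ D, ∃ b ∈ D, a ≠ b) :
    (∀ p : ℕ, p.Prime → 3 < p → Cfsg.pCore p G ≤ Subgroup.center G) ∧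
    ((¬ Cfsg.pCore 2 G ≤ Subgroup.center G ∧ Cfsg.pCore 3 G ≤ Subgroup.center G ∧
        Cfsg.layer G = ⊥) ∨
      (Cfsg.pCore 2 G ≤ Subgroup.center G ∧ ¬ Cfsg.pCore 3 G ≤ Subgroup.center G ∧
        Cfsg.layer G = ⊥) ∨
      (Cfsg.pCore 2 G ≤ Subgroup.center G ∧ Cfsg.pCore 3 G ≤ Subgroup.center G ∧
        Cfsg.layer G ≠ ⊥)) := by
  classical
  have hDcls := hD
  obtain ⟨hTS, ⟨d0, hd0, hcls⟩, hgen⟩ := hD
  have hconj : ∀ g : G, ∀ y ∈ D, g * y * g⁻¹ ∈ D := by
    intro g y hy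
    rw [hcls] at hy ⊢
    obtain ⟨c, hc⟩ := isConj_iff.mp (show IsConj d0 y from hy)
    show IsConj d0 (g * y * g⁻¹)
    rw [isConj_iff]
    exact ⟨g * c, by rw [← hc]; group⟩
  have htrans : ∀ x ∈ D, ∀ y ∈ D, ∃ g : G, y = g * x * g⁻¹ := by
    intro x hx y hy
    have h1 : IsConj d0 x := by
      have := hx; rw [hcls] at this; exact this
    have h2 : IsConj d0 y := by
      have := hy; rw [hcls] at this; exact this
    obtain ⟨g, hg⟩ := isConj_iff.mp (h1.symm.trans h2)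
    exact ⟨g, hg.symm⟩
  have hTG : IsThreeTranspositionGroup D := ⟨hTS, hconj, hgen⟩
  set E : Subgroup G := layerOf (⊤ : Subgroup G) with hE
  -- (1)
  have h1 : ∀ p : ℕ, p.Prime → 3 < p → Cfsg.pCore p G ≤ Subgroup.center G := by
    intro p hp hp3
    haveI hN : (Cfsg.pCore p G).Normal := Cfsg.Agent.helper15.pCore_normal' p
    apply le_center_of_gen hgen
    intro d hd x hx
    exact Cfsg.Agent.S5347.result hTG hp hp3 (Cfsg.pCore p G)
      (Cfsg.Agent.helper15.pCore_isPGroup' p) hd (mem_normalizer_of_normal _ d) x hx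
  -- noncentral normal subgroups move every member of D
  have hmove : ∀ N : Subgroup G, N.Normal → ¬ N ≤ Subgroup.center G →
      ∀ d ∈ D, ∃ q ∈ N, q * d * q⁻¹ ≠ d := by
    intro N hN hnc d hd
    by_contra hcon
    push Not at hcon
    apply hnc
    apply le_center_of_gen hgen
    intro e he x hx
    obtain ⟨g, rfl⟩ := htrans d hd e he
    have h2 := hcon (g⁻¹ * x * g⁻¹⁻¹) (hN.conj_mem x hx g⁻¹)
    -- (g⁻¹ x g) d (g⁻¹ x g)⁻¹ = d
    show (g * d * g⁻¹) * x = x * (g * d * g⁻¹)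
    have e1 : x * (g * d * g⁻¹) = g * ((g⁻¹ * x * g⁻¹⁻¹) * d * (g⁻¹ * x * g⁻¹⁻¹)⁻¹) * g⁻¹ * x := by
      group
    rw [e1, h2]
  haveI hN2 : (Cfsg.pCore 2 G).Normal := Cfsg.Agent.helper15.pCore_normal' 2
  haveI hN3 : (Cfsg.pCore 3 G).Normal := Cfsg.Agent.helper15.pCore_normal' 3
  obtain ⟨a0, ha0, b0, hb0, hab0⟩ := hD2
  have hD2' : ∃ a ∈ D, ∃ b ∈ D, a ≠ b := ⟨a0, ha0, b0, hb0, hab0⟩
  -- (b1)
  have hX : ¬ (¬ Cfsg.pCore 2 G ≤ Subgroup.center G ∧ ¬ Cfsg.pCore 3 G ≤ Subgroup.center G) := by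
    rintro ⟨hn2, hn3⟩
    obtain ⟨q, hq, hqd⟩ := hmove _ hN2 hn2 a0 ha0
    obtain ⟨r, hr, hrd⟩ := hmove _ hN3 hn3 a0 ha0
    have h49 := Cfsg.Agent.S5349.result hDcls hD2' ha0
    have h50 := Cfsg.Agent.S5350.result hDcls hD2' ha0
    rcases Cfsg.Agent.S5348.result hTG ha0 with hV | hW
    · have : q * a0 * q⁻¹ ∈ {v : G | ∃ g ∈ Cfsg.pCore 2 G, v = g * a0 * g⁻¹} := ⟨q, hq, rfl⟩
      rw [← h49.2, hV] at this
      exact hqd this
    · have : r * a0 * r⁻¹ ∈ {w : G | ∃ g ∈ Cfsg.pCore 3 G, w = g * a0 * g⁻¹} := ⟨r, hr, rfl⟩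
      rw [← h50.2, hW] at this
      exact hrd this
  -- (b2)
  have hY : ¬ Cfsg.pCore 2 G ≤ Subgroup.center G → Cfsg.layer G = ⊥ := by
    intro hn2
    have hclaim : ∀ d ∈ D, ∀ g ∈ E, Commute d (g * d * g⁻¹) := by
      intro d hd g hg
      obtain ⟨q, hq, hqd⟩ := hmove _ hN2 hn2 d hd
      have h49 := Cfsg.Agent.S5349.result hDcls hD2' hd
      have hvV : q * d * q⁻¹ ∈ {v : G | v ∈ D ∧ ∀ e ∈ D, Commute v e ↔ Commute d e} := by
        rw [h49.2]; exact ⟨q, hq, rfl⟩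
      have hvO : q * d * q⁻¹ ∈ {v : G | v ∈ D ∧ d⁻¹ * v ∈ Cfsg.pCore 2 G} := by
        rw [← h49.1]; exact hvV
      set v := q * d * q⁻¹ with hv_def
      obtain ⟨hvD, hsame⟩ := hvV
      have hz : d⁻¹ * v ∈ Subgroup.centralizer (E : Set G) :=
        pCore_le_centralizer_layer Nat.prime_two hvO.2
      have hzg : g * (d⁻¹ * v) = (d⁻¹ * v) * g := Subgroup.mem_centralizer_iff.mp hz g hg
      have heD : g * d * g⁻¹ ∈ D := hconj g d hd
      by_contra hnc
      have hnv : ¬ Commute (g * d * g⁻¹) v := by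
        intro h
        exact hnc ((hsame _ heD).mp h.symm)
      have hdv : Commute d v := ((hsame d hd).mpr (Commute.refl d)).symm
      obtain ⟨φ, hφinj, h01, h12, h23⟩ :=
        Cfsg.Agent.h26S4.exists_S4_of_string hTS hd heD hvD (Ne.symm hqd) hdv hnc hnv
      have hdi := inv_eq hTS hd
      have hei := inv_eq hTS heD
      -- g v g⁻¹ = e d v
      have hgv : g * v * g⁻¹ = (g * d * g⁻¹) * d * v := by
        have e1 : g * v * g⁻¹ = (g * d * g⁻¹) * (g * (d⁻¹ * v) * g⁻¹) := by group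
        rw [e1, hzg, mul_inv_cancel_right, hdi]
        group
      have hinvol : ((g * d * g⁻¹) * d * v) * ((g * d * g⁻¹) * d * v) = 1 := by
        rw [← hgv]
        exact sq_one hTS (hconj g v hvD)
      have hσ : (Equiv.swap (1 : Fin 4) 2 * Equiv.swap 0 1 * Equiv.swap 2 3) *
          (Equiv.swap (1 : Fin 4) 2 * Equiv.swap 0 1 * Equiv.swap 2 3) ≠ 1 := by decide
      apply hσ
      apply hφinj
      rw [map_mul, map_mul, map_mul, h01, h12, h23, map_one]
      exact hinvol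
    apply layer_eq_bot_of_centralized hgen
    intro d hd
    apply centralizes_layer_of_nilpotent d
    apply abelian_nilpotent
    apply closure_abelian
    rintro _ ⟨g, hg, rfl⟩ _ ⟨h, hh, rfl⟩
    have hc2 : Commute (g * d * g⁻¹) d := (hclaim d hd g hg).symm
    have hc3 : Commute d (h * d * h⁻¹) := hclaim d hd h hh
    have hc1 : Commute (g * d * g⁻¹) (h * d * h⁻¹) := by
      have e : h * d * h⁻¹ = (h * g⁻¹) * (g * d * g⁻¹) * (h * g⁻¹)⁻¹ := by group
      rw [e]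
      exact hclaim _ (hconj g d hd) _ (E.mul_mem hh (E.inv_mem hg))
    have hA : Commute (g * d * g⁻¹) (h * d * h⁻¹ * d⁻¹) := hc1.mul_right hc2.inv_right
    have hB : Commute d⁻¹ (h * d * h⁻¹ * d⁻¹) :=
      (hc3.inv_left).mul_right ((Commute.refl d).inv_left.inv_right)
    exact hA.mul_left hB
  -- (b3)
  have hZ : ¬ Cfsg.pCore 3 G ≤ Subgroup.center G → Cfsg.layer G = ⊥ := by
    intro hn3
    have hclaim : ∀ d ∈ D, ∀ g ∈ E, g * d * g⁻¹ = d ∨ ¬ Commute d (g * d * g⁻¹) := by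
      intro d hd g hg
      by_contra hcon
      push Not at hcon
      obtain ⟨hne, hc⟩ := hcon
      obtain ⟨r, hr, hrd⟩ := hmove _ hN3 hn3 d hd
      have h50 := Cfsg.Agent.S5350.result hDcls hD2' hd
      have hwW : r * d * r⁻¹ ∈ {w : G | w ∈ D ∧ {y : G | y ∈ D ∧ y ≠ d ∧ Commute d y} =
          {y : G | y ∈ D ∧ y ≠ w ∧ Commute w y}} := by
        rw [h50.2]; exact ⟨r, hr, rfl⟩
      have hwO : r * d * r⁻¹ ∈ {w : G | w ∈ D ∧ d⁻¹ * w ∈ Cfsg.pCore 3 G} := by
        rw [← h50.1]; exact hwW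
      set w := r * d * r⁻¹ with hw_def
      obtain ⟨hwD, hblk⟩ := hwW
      have hblk' : Dc D d = Dc D w := hblk
      have hz : d⁻¹ * w ∈ Subgroup.centralizer (E : Set G) :=
        pCore_le_centralizer_layer Nat.prime_three hwO.2
      have hzg : g * (d⁻¹ * w) = (d⁻¹ * w) * g := Subgroup.mem_centralizer_iff.mp hz g hg
      have heD : g * d * g⁻¹ ∈ D := hconj g d hd
      have hdi := inv_eq hTS hd
      have hncdw : ¬ Commute d w := not_comm_of_blk hwD hblk' (Ne.symm hrd)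
      have hemem : g * d * g⁻¹ ∈ Dc D d := ⟨heD, hne, hc⟩
      rw [hblk'] at hemem
      have hcw : Commute w (g * d * g⁻¹) := hemem.2.2
      -- e * w' = d * w
      have hew : (g * d * g⁻¹) * (g * w * g⁻¹) = d * w := by
        have e1 : (g * d * g⁻¹) * (g * w * g⁻¹) = g * (d * w) * g⁻¹ := by group
        have hzg' : g * (d * w) = (d * w) * g := by rw [hdi] at hzg; exact hzg
        rw [e1, hzg', mul_inv_cancel_right]
      have h1 : Commute (g * d * g⁻¹) (d * w) := (hc.symm).mul_right hcw.symm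
      rw [← hew] at h1
      have h2 : Commute (g * d * g⁻¹) (g * w * g⁻¹) := by
        have h3 := (Commute.refl (g * d * g⁻¹)).inv_right.mul_right h1
        rw [inv_mul_cancel_left] at h3
        exact h3
      exact hncdw ((conj_comm_iff g d w).mp h2)
    apply layer_eq_bot_of_centralized hgen
    intro d hd
    apply centralizes_layer_of_nilpotent d
    have hYD : {y : G | ∃ g ∈ E, y = g * d * g⁻¹} ⊆ D := by
      rintro _ ⟨g, hg, rfl⟩
      exact hconj g d hd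
    have hTSY := ts_subset hTS hYD
    have hYc : ∀ a ∈ {y : G | ∃ g ∈ E, y = g * d * g⁻¹}, ∀ b ∈ {y : G | ∃ g ∈ E, y = g * d * g⁻¹},
        a * b * a⁻¹ ∈ {y : G | ∃ g ∈ E, y = g * d * g⁻¹} := by
      rintro _ ⟨g, hg, rfl⟩ _ ⟨h, hh, rfl⟩
      refine ⟨g * (d * (g⁻¹ * h) * d⁻¹),
        E.mul_mem hg (layer_conj_mem (E.mul_mem (E.inv_mem hg) hh)), ?_⟩
      group
    have hwY : ∀ a ∈ {y : G | ∃ g ∈ E, y = g * d * g⁻¹}, ∀ b ∈ {y : G | ∃ g ∈ E, y = g * d * g⁻¹},
        Commute a b → a = b := by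
      rintro _ ⟨g, hg, rfl⟩ _ ⟨h, hh, rfl⟩ hab
      have e : h * d * h⁻¹ = (h * g⁻¹) * (g * d * g⁻¹) * (h * g⁻¹)⁻¹ := by group
      rcases hclaim _ (hconj g d hd) _ (E.mul_mem hh (E.inv_mem hg)) with h1 | h1
      · rw [e, h1]
      · exfalso; apply h1; rw [← e]; exact hab
    obtain ⟨Q3, hQ3, hmem⟩ := three_group_of_width_one _ hTSY hYc hwY
    have hdY : d ∈ {y : G | ∃ g ∈ E, y = g * d * g⁻¹} := ⟨1, E.one_mem, by group⟩
    have hle : Subgroup.closure {c : G | ∃ g ∈ layerOf (⊤ : Subgroup G), c = g * d * g⁻¹ * d⁻¹}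
        ≤ Q3 := by
      rw [Subgroup.closure_le]
      rintro c ⟨g, hg, rfl⟩
      have := hmem _ ⟨g, hg, rfl⟩ d hdY
      rw [SetLike.mem_coe, inv_eq hTS hd]
      exact this
    haveI : Fact (Nat.Prime 3) := ⟨Nat.prime_three⟩
    exact (hQ3.to_le hle).isNilpotent
  -- (a)
  have hW : ¬ (Cfsg.pCore 2 G ≤ Subgroup.center G ∧ Cfsg.pCore 3 G ≤ Subgroup.center G ∧
      Cfsg.layer G = ⊥) := by
    rintro ⟨h2, h3, hE0⟩
    have hF : fitOf (⊤ : Subgroup G) ≤ Subgroup.center G := by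
      rw [fitOf_eq_iSup]
      apply iSup_le
      rintro ⟨p, hp⟩
      show piCoreIn {p} ⊤ ≤ Subgroup.center G
      rw [← pCore_eq hp]
      by_cases hp2 : p = 2
      · subst hp2; exact h2
      by_cases hp3 : p = 3
      · subst hp3; exact h3
      exact h1 p hp (by have := hp.two_le; omega)
    have hFs : fstarOf (⊤ : Subgroup G) ≤ Subgroup.center G := by
      unfold fstarOf
      rw [← layer_eq_layerOf, hE0, bot_sup_eq]
      exact hF
    have hcen : Subgroup.centralizer (fstarOf (⊤ : Subgroup G) : Set G) = ⊤ :=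
      Subgroup.centralizer_eq_top_iff_subset.mpr hFs
    have htop := centralizer_fstarOf_le (⊤ : Subgroup G)
    rw [hcen, top_inf_eq] at htop
    have ha0c : a0 ∈ Subgroup.center G := hFs (htop (Subgroup.mem_top a0))
    obtain ⟨g, hg⟩ := htrans a0 ha0 b0 hb0
    apply hab0
    rw [hg]
    have := Subgroup.mem_center_iff.mp ha0c g
    rw [this, mul_inv_cancel_right]
  refine ⟨h1, ?_⟩
  by_cases hA2 : Cfsg.pCore 2 G ≤ Subgroup.center G
  · by_cases hA3 : Cfsg.pCore 3 G ≤ Subgroup.center G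
    · right; right
      exact ⟨hA2, hA3, fun hE0 => hW ⟨hA2, hA3, hE0⟩⟩
    · right; left
      exact ⟨hA2, hA3, hZ hA3⟩
  · by_cases hA3 : Cfsg.pCore 3 G ≤ Subgroup.center G
    · left
      exact ⟨hA2, hA3, hY hA2⟩
    · exact absurd ⟨hA2, hA3⟩ hX

end Cfsg.Agent.h26TTY
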