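import Mathlib
import Cfsg.Agent.S0144
import Cfsg.Agent.Lib_helper26_TTZ

set_option autoImplicit false
set_option linter.style.haveILetI false
set_option linter.unusedSectionVars false
set_option linter.unusedVariables false

/-! 3-transposition groups with central `O_2`, `O_3`: a unique quasisimple normal component. -/

open Cfsg
open scoped commutatorElement

namespace Cfsg.Agent.h26TTQ

open Cfsg.Agent.h26TTW Cfsg.Agent.h26TTY Cfsg.Agent.helper7

variable {G : Type*} [Group G]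

theorem two_three_smooth {n : ℕ} (hn : n ≠ 0) (h : ∀ p : ℕ, p.Prime → p ∣ n → p = 2 ∨ p = 3) :
    ∃ a b : ℕ, n = 2 ^ a * 3 ^ b := by
  obtain ⟨a, m, hm2, hnm⟩ := Nat.exists_eq_pow_mul_and_not_dvd hn 2 (by norm_num)
  have hm0 : m ≠ 0 := by
    rintro rfl
    rw [mul_zero] at hnm
    exact hn hnm
  obtain ⟨b, k, hk3, hmk⟩ := Nat.exists_eq_pow_mul_and_not_dvd hm0 3 (by norm_num)
  have hk1 : k = 1 := by
    by_contra hk
    obtain ⟨p, hp, hpk⟩ := Nat.exists_prime_and_dvd hk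
    have hpn : p ∣ n := by rw [hnm, hmk]; exact (hpk.mul_left _).mul_left _
    rcases h p hp hpn with rfl | rfl
    · exact hm2 (by rw [hmk]; exact hpk.mul_left _)
    · exact hk3 hpk
  exact ⟨a, b, by rw [hnm, hmk, hk1, mul_one]⟩

/-- a quasisimple subgroup has an element whose square and cube are both non-central. -/
theorem exists_large_order [Finite G] {L : Subgroup G} (hqs : QS L) :
    ∃ x ∈ L, x ^ 2 ∉ Subgroup.centralizer (L : Set G) ∧
      x ^ 3 ∉ Subgroup.centralizer (L : Set G) := by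
  by_contra hcon
  push Not at hcon
  have hq : ∀ y : ↥L ⧸ Subgroup.center ↥L, y ^ 2 = 1 ∨ y ^ 3 = 1 := by
    intro y
    obtain ⟨x, rfl⟩ := QuotientGroup.mk_surjective y
    have key : ∀ n : ℕ, (x : G) ^ n ∈ Subgroup.centralizer (L : Set G) →
        (QuotientGroup.mk x : ↥L ⧸ Subgroup.center ↥L) ^ n = 1 := by
      intro n hn
      rw [← QuotientGroup.mk_pow, QuotientGroup.eq_one_iff, Subgroup.mem_center_iff]
      intro k
      apply Subtype.ext
      have := Subgroup.mem_centralizer_iff.mp hn k k.2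
      simpa using this
    by_cases h2 : (x : G) ^ 2 ∈ Subgroup.centralizer (L : Set G)
    · exact Or.inl (key 2 h2)
    · exact Or.inr (key 3 (hcon x x.2 h2))
  have hcard : ∃ a b, Nat.card (↥L ⧸ Subgroup.center ↥L) = 2 ^ a * 3 ^ b := by
    apply two_three_smooth Nat.card_pos.ne'
    intro p hp hpd
    haveI : Fact p.Prime := ⟨hp⟩
    obtain ⟨y, hy⟩ := exists_prime_orderOf_dvd_card' p hpd
    rcases hq y with h | h
    · have := orderOf_dvd_of_pow_eq_one h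
      rw [hy] at this
      left; exact (Nat.prime_dvd_prime_iff_eq hp Nat.prime_two).mp this
    · have := orderOf_dvd_of_pow_eq_one h
      rw [hy] at this
      right; exact (Nat.prime_dvd_prime_iff_eq hp Nat.prime_three).mp this
  obtain ⟨a, b, hab⟩ := hcard
  haveI hsq : Group.IsSolvable (↥L ⧸ Subgroup.center ↥L) :=
    Cfsg.Agent.S0144.result 2 3 a b Nat.prime_two Nat.prime_three hab
  haveI hsc : Group.IsSolvable ↥(Subgroup.center ↥L) :=
    isSolvable_of_comm (fun a b => Subtype.ext (Subgroup.mem_center_iff.mp b.2 a.1))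
  have hsL : Group.IsSolvable ↥L := by
    apply solvable_of_ker_le_range (Subgroup.center ↥L).subtype
      (QuotientGroup.mk' (Subgroup.center ↥L))
    rw [QuotientGroup.ker_mk', Subgroup.range_subtype]
  exact hqs.not_le_solvable hsL le_rfl

/-- if all `[k, d]` (`k ∈ K`) are central in the perfect group `K` then `d` centralizes `K`. -/
theorem comm_hom_argument {K : Subgroup G} (hperf : ⁅K, K⁆ = K) (d : G)
    (hcE : ∀ k ∈ K, k * d * k⁻¹ * d⁻¹ ∈ K)
    (hcen : ∀ k ∈ K, k * d * k⁻¹ * d⁻¹ ∈ Subgroup.centralizer (K : Set G)) :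
    K ≤ Subgroup.centralizer ({d} : Set G) := by
  have hcC : ∀ g ∈ K, ∀ x ∈ K, x * (g * d * g⁻¹ * d⁻¹) = (g * d * g⁻¹ * d⁻¹) * x := by
    intro g hg x hx
    exact Subgroup.mem_centralizer_iff.mp (hcen g hg) x hx
  have hmul : ∀ g ∈ K, ∀ h ∈ K, (g * h) * d * (g * h)⁻¹ * d⁻¹ =
      (h * d * h⁻¹ * d⁻¹) * (g * d * g⁻¹ * d⁻¹) := by
    intro g hg h hh
    have e : (g * h) * d * (g * h)⁻¹ * d⁻¹ =
        g * (h * d * h⁻¹ * d⁻¹) * g⁻¹ * (g * d * g⁻¹ * d⁻¹) := by group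
    rw [e, hcC h hh g hg, mul_inv_cancel_right]
  have hinv : ∀ g ∈ K, g⁻¹ * d * g⁻¹⁻¹ * d⁻¹ = (g * d * g⁻¹ * d⁻¹)⁻¹ := by
    intro g hg
    have h1 := hmul g⁻¹ (K.inv_mem hg) g hg
    have e : (g⁻¹ * g) * d * (g⁻¹ * g)⁻¹ * d⁻¹ = 1 := by group
    rw [e] at h1
    exact (inv_eq_of_mul_eq_one_right h1.symm).symm
  have hcomm : ∀ g ∈ K, ∀ h ∈ K, ⁅g, h⁆ ∈ Subgroup.centralizer ({d} : Set G) := by
    intro g hg h hh
    have hgi := K.inv_mem hg
    have hhi := K.inv_mem hh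
    have h1 : ⁅g, h⁆ * d * ⁅g, h⁆⁻¹ * d⁻¹ = 1 := by
      rw [commutatorElement_def]
      rw [hmul (g * h * g⁻¹) (K.mul_mem (K.mul_mem hg hh) hgi) h⁻¹ hhi,
        hmul (g * h) (K.mul_mem hg hh) g⁻¹ hgi, hmul g hg h hh, hinv g hg, hinv h hh]
      have hc := hcC g hg _ (hcE h hh)
      rw [hc]
      group
    rw [Subgroup.mem_centralizer_iff]
    intro z hz
    rw [Set.mem_singleton_iff] at hz
    rw [hz]
    have e : ⁅g, h⁆ * d = (⁅g, h⁆ * d * ⁅g, h⁆⁻¹ * d⁻¹) * d * ⁅g, h⁆ := by group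
    rw [e, h1, one_mul]
  rw [← hperf, Subgroup.commutator_le]
  exact hcomm

/-- for quasisimple `K` normalized by `d` and not centralized by `d`: `[K, d] = K`. -/
theorem gen_by_comm {K : Subgroup G} (hqs : QS K) (d : G)
    (hdK : ∀ k ∈ K, d * k * d⁻¹ ∈ K) (hnc : ¬ K ≤ Subgroup.centralizer ({d} : Set G)) :
    Subgroup.closure {c : G | ∃ g ∈ K, c = g * d * g⁻¹ * d⁻¹} = K := by
  have hcE : ∀ g ∈ K, g * d * g⁻¹ * d⁻¹ ∈ K := by
    intro g hg
    have e : g * d * g⁻¹ * d⁻¹ = g * (d * g⁻¹ * d⁻¹) := by group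
    rw [e]
    exact K.mul_mem hg (hdK _ (K.inv_mem hg))
  have hAE : Subgroup.closure {c : G | ∃ g ∈ K, c = g * d * g⁻¹ * d⁻¹} ≤ K := by
    rw [Subgroup.closure_le]
    rintro c ⟨g, hg, rfl⟩
    exact hcE g hg
  have hEA : K ≤ Subgroup.normalizer
      ((Subgroup.closure {c : G | ∃ g ∈ K, c = g * d * g⁻¹ * d⁻¹} : Subgroup G) : Set G) := by
    apply le_normalizer_of_conj
    intro x hx a ha
    apply conj_mem_closure _ a ha
    rintro s ⟨g, hg, rfl⟩
    have e : x * (g * d * g⁻¹ * d⁻¹) * x⁻¹ =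
        ((x * g) * d * (x * g)⁻¹ * d⁻¹) * (x * d * x⁻¹ * d⁻¹)⁻¹ := by group
    rw [e]
    exact Subgroup.mul_mem _ (Subgroup.subset_closure ⟨x * g, K.mul_mem hx hg, rfl⟩)
      (Subgroup.inv_mem _ (Subgroup.subset_closure ⟨x, hx, rfl⟩))
  rcases hqs.2.2 _ hAE hEA with h | h
  · exact h
  · exfalso
    apply hnc
    exact comm_hom_argument hqs.1 d hcE (fun k hk => h (Subgroup.subset_closure ⟨k, hk, rfl⟩))

theorem centralizes_of_solvable {K : Subgroup G} (hqs : QS K) (d : G)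
    (hdK : ∀ k ∈ K, d * k * d⁻¹ ∈ K)
    (hA : Group.IsSolvable ↥(Subgroup.closure {c : G | ∃ g ∈ K, c = g * d * g⁻¹ * d⁻¹})) :
    K ≤ Subgroup.centralizer ({d} : Set G) := by
  by_contra hnc
  have h := gen_by_comm hqs d hdK hnc
  exact hqs.not_le_solvable hA h.ge

/-- a member of `D` acting non-trivially on a quasisimple `K` has conjugates under `K` of both kinds. -/
theorem exists_two_three [Finite G] {D : Set G} (hTS : IsThreeTranspositionSet D)
    (hconj : ∀ g : G, ∀ y ∈ D, g * y * g⁻¹ ∈ D) {K : Subgroup G} (hqs : QS K) {d : G}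
    (hd : d ∈ D) (hdK : ∀ k ∈ K, d * k * d⁻¹ ∈ K)
    (hnc : ¬ K ≤ Subgroup.centralizer ({d} : Set G)) :
    (∃ k ∈ K, k * d * k⁻¹ ≠ d ∧ Commute d (k * d * k⁻¹)) ∧
      (∃ k ∈ K, ¬ Commute d (k * d * k⁻¹)) := by
  haveI : Fact (Nat.Prime 3) := ⟨Nat.prime_three⟩
  constructor
  · by_contra hcon
    push Not at hcon
    apply hnc
    apply centralizes_of_solvable hqs d hdK
    have hYD : {y : G | ∃ g ∈ K, y = g * d * g⁻¹} ⊆ D := by
      rintro _ ⟨g, hg, rfl⟩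
      exact hconj g d hd
    have hTSY := ts_subset hTS hYD
    have hYc : ∀ a ∈ {y : G | ∃ g ∈ K, y = g * d * g⁻¹}, ∀ b ∈ {y : G | ∃ g ∈ K, y = g * d * g⁻¹},
        a * b * a⁻¹ ∈ {y : G | ∃ g ∈ K, y = g * d * g⁻¹} := by
      rintro _ ⟨g, hg, rfl⟩ _ ⟨h, hh, rfl⟩
      refine ⟨g * (d * (g⁻¹ * h) * d⁻¹),
        K.mul_mem hg (hdK _ (K.mul_mem (K.inv_mem hg) hh)), ?_⟩
      group
    have hwY : ∀ a ∈ {y : G | ∃ g ∈ K, y = g * d * g⁻¹}, ∀ b ∈ {y : G | ∃ g ∈ K, y = g * d * g⁻¹},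
        Commute a b → a = b := by
      rintro _ ⟨g, hg, rfl⟩ _ ⟨h, hh, rfl⟩ hab
      have e : g⁻¹ * (h * d * h⁻¹) * g⁻¹⁻¹ = (g⁻¹ * h) * d * (g⁻¹ * h)⁻¹ := by group
      have e0 : g⁻¹ * (g * d * g⁻¹) * g⁻¹⁻¹ = d := by group
      have hc : Commute d ((g⁻¹ * h) * d * (g⁻¹ * h)⁻¹) := by
        have := (conj_comm_iff g⁻¹ (g * d * g⁻¹) (h * d * h⁻¹)).mpr hab
        rw [e, e0] at this
        exact this
      by_contra hne
      have hne' : (g⁻¹ * h) * d * (g⁻¹ * h)⁻¹ ≠ d := by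
        intro h1
        apply hne
        have e2 : h * d * h⁻¹ = g * ((g⁻¹ * h) * d * (g⁻¹ * h)⁻¹) * g⁻¹ := by group
        rw [e2, h1]
      exact hcon _ (K.mul_mem (K.inv_mem hg) hh) hne' hc
    obtain ⟨Q3, hQ3, hmem⟩ := three_group_of_width_one _ hTSY hYc hwY
    have hdY : d ∈ {y : G | ∃ g ∈ K, y = g * d * g⁻¹} := ⟨1, K.one_mem, by group⟩
    have hle : Subgroup.closure {c : G | ∃ g ∈ K, c = g * d * g⁻¹ * d⁻¹} ≤ Q3 := by
      rw [Subgroup.closure_le]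
      rintro c ⟨g, hg, rfl⟩
      have := hmem _ ⟨g, hg, rfl⟩ d hdY
      rw [SetLike.mem_coe, inv_eq hTS hd]
      exact this
    haveI := (hQ3.to_le hle).isNilpotent
    infer_instance
  · by_contra hcon
    push Not at hcon
    apply hnc
    apply centralizes_of_solvable hqs d hdK
    haveI : Group.IsNilpotent ↥(Subgroup.closure {c : G | ∃ g ∈ K, c = g * d * g⁻¹ * d⁻¹}) := by
      apply abelian_nilpotent
      apply closure_abelian
      rintro _ ⟨g, hg, rfl⟩ _ ⟨h, hh, rfl⟩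
      have hc2 : Commute (g * d * g⁻¹) d := (hcon g hg).symm
      have hc3 : Commute d (h * d * h⁻¹) := hcon h hh
      have hc1 : Commute (g * d * g⁻¹) (h * d * h⁻¹) := by
        have e : g * ((g⁻¹ * h) * d * (g⁻¹ * h)⁻¹) * g⁻¹ = h * d * h⁻¹ := by group
        have := (conj_comm_iff g d ((g⁻¹ * h) * d * (g⁻¹ * h)⁻¹)).mpr
          (hcon _ (K.mul_mem (K.inv_mem hg) hh))
        rw [e] at this
        exact this
      have hA : Commute (g * d * g⁻¹) (h * d * h⁻¹ * d⁻¹) := hc1.mul_right hc2.inv_right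
      have hB : Commute d⁻¹ (h * d * h⁻¹ * d⁻¹) :=
        (hc3.inv_left).mul_right ((Commute.refl d).inv_left.inv_right)
      exact hA.mul_left hB
    infer_instance

end Cfsg.Agent.h26TTQ
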