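import Mathlib
import Cfsg.Agent.Lib_helper26_TTQ

set_option autoImplicit false
set_option linter.style.haveILetI false
set_option linter.unusedSectionVars false
set_option linter.unusedVariables false

/-! 3-transposition groups with central `O_2`, `O_3`: component structure (main theorem). -/

open Cfsg
open scoped commutatorElement

namespace Cfsg.Agent.h26TTQ

open Cfsg.Agent.h26TTW Cfsg.Agent.h26TTY Cfsg.Agent.helper7

variable {G : Type*} [Group G] [Finite G]

theorem cj_top' (g : G) : cj g (⊤ : Subgroup G) = ⊤ := by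
  rw [eq_top_iff]
  intro x _
  rw [mem_cj]
  exact Subgroup.mem_top _

/-- the data extracted in the central case -/
structure CData (D : Set G) (L : Subgroup G) : Prop where
  comp : Comp L ⊤
  normal : L.Normal
  layer : layerOf (⊤ : Subgroup G) = L
  fit : fitOf (⊤ : Subgroup G) = Subgroup.center G
  ncent : ∀ d ∈ D, ¬ L ≤ Subgroup.centralizer ({d} : Set G)

theorem exists_cdata {D : Set G} (hD : Cfsg.IsThreeTranspositionClass D)
    (hD2 : ∃ a ∈ D, ∃ b ∈ D, a ≠ b) (h2 : Cfsg.pCore 2 G ≤ Subgroup.center G)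
    (h3 : Cfsg.pCore 3 G ≤ Subgroup.center G) : ∃ L : Subgroup G, CData D L := by
  classical
  obtain ⟨h1, htri⟩ := trichotomy hD hD2
  have hE : Cfsg.layer G ≠ ⊥ := by
    rcases htri with ⟨hn2, _, _⟩ | ⟨_, hn3, _⟩ | ⟨_, _, hE⟩
    · exact absurd h2 hn2
    · exact absurd h3 hn3
    · exact hE
  obtain ⟨hTS, ⟨d0, hd0, hcls⟩, hgen⟩ := hD
  have hconj : ∀ g : G, ∀ y ∈ D, g * y * g⁻¹ ∈ D := by
    intro g y hy
    rw [hcls] at hy ⊢
    obtain ⟨c, hc⟩ := isConj_iff.mp (show IsConj d0 y from hy)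
    show IsConj d0 (g * y * g⁻¹)
    rw [isConj_iff]
    exact ⟨g * c, by rw [← hc]; group⟩
  have htrans : ∀ x ∈ D, ∀ y ∈ D, ∃ g : G, y = g * x * g⁻¹ := by
    intro x hx y hy
    have h1 : IsConj d0 x := by
      have := hx; rw [hcls] at this; exact this
    have h2 : IsConj d0 y := by
      have := hy; rw [hcls] at this; exact this
    obtain ⟨g, hg⟩ := isConj_iff.mp (h1.symm.trans h2)
    exact ⟨g, hg.symm⟩
  have hF : fitOf (⊤ : Subgroup G) ≤ Subgroup.center G := by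
    rw [fitOf_eq_iSup]
    apply iSup_le
    rintro ⟨p, hp⟩
    show piCoreIn {p} ⊤ ≤ Subgroup.center G
    rw [← pCore_eq hp]
    by_cases hp2 : p = 2
    · subst hp2; exact h2
    by_cases hp3 : p = 3
    · subst hp3; exact h3
    exact h1 p hp (by have := hp.two_le; omega)
  have hF' : Subgroup.center G ≤ fitOf (⊤ : Subgroup G) := by
    apply le_radOf le_top
    · intro g _
      exact mem_normalizer_of_normal (Subgroup.center G) g
    · apply abelian_nilpotent
      intro x hx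
      rw [Subgroup.mem_centralizer_iff]
      intro y _
      exact Subgroup.mem_center_iff.mp hx y
  have hfit : fitOf (⊤ : Subgroup G) = Subgroup.center G := le_antisymm hF hF'
  -- a component exists
  have hex : ∃ L : Subgroup G, Comp L ⊤ := by
    by_contra hno
    apply hE
    rw [layer_eq_layerOf]
    unfold layerOf
    rw [sSup_eq_bot]
    intro L hL
    exact absurd ⟨L, hL⟩ hno
  -- every member of D normalizes every component
  have hnormD : ∀ L : Subgroup G, Comp L ⊤ → ∀ d ∈ D, cj d L = L := by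
    intro L hL d hd
    by_contra hne
    have hL' : Comp (cj d L) ⊤ := by
      have := hL.conj d
      rwa [cj_top'] at this
    have hcomm : ⁅L, cj d L⁆ = ⊥ := hL.comm_of_ne hL' (fun h => hne h.symm)
    have hL'C : cj d L ≤ Subgroup.centralizer (L : Set G) := le_centralizer_of_comm_eq_bot hcomm
    obtain ⟨x, hx, hx2, hx3⟩ := exists_large_order hL.2
    have hx' : d * x⁻¹ * d⁻¹ ∈ cj d L := cj_mem_cj (L.inv_mem hx)
    have hxx' : Commute x (d * x⁻¹ * d⁻¹) :=
      Subgroup.mem_centralizer_iff.mp (hL'C hx') x hx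
    have hc : x * d * x⁻¹ * d = x * (d * x⁻¹ * d⁻¹) := by
      rw [inv_eq hTS hd]; group
    have key : ∀ n : ℕ, (x * d * x⁻¹ * d) ^ n = 1 → x ^ n ∈ Subgroup.centralizer (L : Set G) := by
      intro n hn
      rw [hc, hxx'.mul_pow] at hn
      have : x ^ n = ((d * x⁻¹ * d⁻¹) ^ n)⁻¹ := eq_inv_of_mul_eq_one_left hn
      rw [this]
      exact hL'C (Subgroup.inv_mem _ (Subgroup.pow_mem _ hx' n))
    rcases hTS.2 _ (hconj x d hd) d hd with h | h
    · exact hx2 (key 2 h)
    · exact hx3 (key 3 h)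
  have hnormal : ∀ L : Subgroup G, Comp L ⊤ → L.Normal := by
    intro L hL
    have hle : Subgroup.closure D ≤ Subgroup.normalizer (L : Set G) := by
      rw [Subgroup.closure_le]
      intro d hd
      exact mem_normalizer_of_cj_eq (hnormD L hL d hd)
    constructor
    intro n hn g
    have hg : g ∈ Subgroup.normalizer (L : Set G) := hle (hgen ▸ Subgroup.mem_top g)
    exact (Subgroup.mem_normalizer_iff.mp hg n).mp hn
  have hncent : ∀ L : Subgroup G, Comp L ⊤ → ∀ d ∈ D,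
      ¬ L ≤ Subgroup.centralizer ({d} : Set G) := by
    intro L hL d hd hcen
    have hN := hnormal L hL
    apply hL.2.not_abelian
    have hLZ : L ≤ Subgroup.center G := by
      apply le_center_of_gen hgen
      intro e he x hx
      obtain ⟨g, rfl⟩ := htrans d hd e he
      have hx' : g⁻¹ * x * g⁻¹⁻¹ ∈ L := hN.conj_mem x hx g⁻¹
      have h4 := Subgroup.mem_centralizer_iff.mp (hcen hx') d rfl
      show (g * d * g⁻¹) * x = x * (g * d * g⁻¹)
      have e1 : (g * d * g⁻¹) * x = g * (d * (g⁻¹ * x * g⁻¹⁻¹)) * g⁻¹ := by group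
      rw [e1, h4]; group
    intro x hx
    rw [Subgroup.mem_centralizer_iff]
    intro y _
    exact Subgroup.mem_center_iff.mp (hLZ hx) y
  -- uniqueness
  have huniq : ∀ L₁ L₂ : Subgroup G, Comp L₁ ⊤ → Comp L₂ ⊤ → L₁ = L₂ := by
    intro L₁ L₂ hL₁ hL₂
    by_contra hne
    have hN₁ := hnormal L₁ hL₁
    have hN₂ := hnormal L₂ hL₂
    have hdi := inv_eq hTS hd0
    have hdd := sq_one hTS hd0
    obtain ⟨⟨k, hk, hkne, hkc⟩, _⟩ := exists_two_three hTS hconj hL₁.2 hd0
      (fun x hx => hN₁.conj_mem x hx d0) (hncent L₁ hL₁ d0 hd0)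
    obtain ⟨_, ⟨l, hl, hlc⟩⟩ := exists_two_three hTS hconj hL₂.2 hd0
      (fun x hx => hN₂.conj_mem x hx d0) (hncent L₂ hL₂ d0 hd0)
    have hcomm : ⁅L₁, L₂⁆ = ⊥ := hL₁.comm_of_ne hL₂ hne
    have hL₂C : L₂ ≤ Subgroup.centralizer (L₁ : Set G) := le_centralizer_of_comm_eq_bot hcomm
    have hkD : k * d0 * k⁻¹ ∈ D := hconj k d0 hd0
    have hlD : l * d0 * l⁻¹ ∈ D := hconj l d0 hd0
    -- t := k d k⁻¹ d ∈ L₁, u := l d l⁻¹ d ∈ L₂
    have htL : k * d0 * k⁻¹ * d0 ∈ L₁ := by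
      have e : k * d0 * k⁻¹ * d0 = k * (d0 * k⁻¹ * d0⁻¹) := by rw [hdi]; group
      rw [e]; exact L₁.mul_mem hk (hN₁.conj_mem _ (L₁.inv_mem hk) d0)
    have huL : l * d0 * l⁻¹ * d0 ∈ L₂ := by
      have e : l * d0 * l⁻¹ * d0 = l * (d0 * l⁻¹ * d0⁻¹) := by rw [hdi]; group
      rw [e]; exact L₂.mul_mem hl (hN₂.conj_mem _ (L₂.inv_mem hl) d0)
    have ht2 : (k * d0 * k⁻¹ * d0) ^ 2 = 1 := by
      rw [hkc.symm.mul_pow, pow_two, pow_two, sq_one hTS hkD, hdd, one_mul]
    have htne : k * d0 * k⁻¹ * d0 ≠ 1 := by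
      intro h
      apply hkne
      have : k * d0 * k⁻¹ = (k * d0 * k⁻¹ * d0) * d0⁻¹ := by group
      rw [this, h, one_mul, hdi]
    have hu3 : (l * d0 * l⁻¹ * d0) ^ 3 = 1 :=
      cube_of_not_comm hTS hlD hd0 (fun h => hlc h.symm)
    have hune : l * d0 * l⁻¹ * d0 ≠ 1 := by
      intro h
      apply hlc
      have : l * d0 * l⁻¹ = (l * d0 * l⁻¹ * d0) * d0⁻¹ := by group
      rw [this, h, one_mul, hdi]
    have hut : Commute (l * d0 * l⁻¹ * d0) (k * d0 * k⁻¹ * d0) :=
      (Subgroup.mem_centralizer_iff.mp (hL₂C huL) _ htL).symm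
    have huk : Commute (l * d0 * l⁻¹ * d0) k :=
      (Subgroup.mem_centralizer_iff.mp (hL₂C huL) _ hk).symm
    have hprod : (k * l) * d0 * (k * l)⁻¹ * d0 = (l * d0 * l⁻¹ * d0) * (k * d0 * k⁻¹ * d0) := by
      have e : (k * l) * d0 * (k * l)⁻¹ * d0 =
          k * (l * d0 * l⁻¹ * d0) * k⁻¹ * (k * d0 * k⁻¹ * d0) := by
        have h1 : d0 * d0 = 1 := hdd
        have : d0 * k⁻¹ * (k * d0 * k⁻¹ * d0) = k⁻¹ * d0 := by
          calc d0 * k⁻¹ * (k * d0 * k⁻¹ * d0) = (d0 * d0) * k⁻¹ * d0 := by group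
            _ = k⁻¹ * d0 := by rw [h1, one_mul]
        calc (k * l) * d0 * (k * l)⁻¹ * d0 = k * (l * d0 * l⁻¹) * (k⁻¹ * d0) := by group
          _ = k * (l * d0 * l⁻¹) * (d0 * k⁻¹ * (k * d0 * k⁻¹ * d0)) := by rw [this]
          _ = k * (l * d0 * l⁻¹ * d0) * k⁻¹ * (k * d0 * k⁻¹ * d0) := by group
      rw [e, ← huk.eq, mul_inv_cancel_right]
    rcases hTS.2 _ (hconj (k * l) d0 hd0) d0 hd0 with h | h
    · rw [hprod, hut.mul_pow, ht2, mul_one] at h
      have h4 := hu3
      rw [pow_succ, h, one_mul] at h4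
      exact hune h4
    · rw [hprod, hut.mul_pow, hu3, one_mul] at h
      rw [pow_succ, ht2, one_mul] at h
      exact htne h
  obtain ⟨L, hL⟩ := hex
  refine ⟨L, hL, hnormal L hL, ?_, hfit, hncent L hL⟩
  unfold layerOf
  exact le_antisymm (sSup_le (fun L' hL' => (huniq L' L hL' hL).le)) (le_sSup hL)

theorem width_one_mod {D : Set G} (hTS : IsThreeTranspositionSet D)
    (hconj : ∀ g : G, ∀ y ∈ D, g * y * g⁻¹ ∈ D) {L : Subgroup G} (hC : CData D L) :
    ∀ a ∈ D, ∀ b ∈ D, a * b * a⁻¹ * b⁻¹ ∈ L → a⁻¹ * b ∈ L := by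
  haveI hN := hC.normal
  intro a ha b hb hab
  have hai := inv_eq hTS ha
  have hbi := inv_eq hTS hb
  rcases comm_or_cube hTS ha hb with hc | h3
  · by_contra hnot
    have hab2 : (a * b) ^ 2 = 1 := by
      rw [hc.mul_pow, pow_two, pow_two, sq_one hTS ha, sq_one hTS hb, one_mul]
    have claim : ∀ x ∈ L, Commute a (x * b * x⁻¹) := by
      intro x hx
      rcases hTS.2 a ha _ (hconj x b hb) with h | h
      · exact Cfsg.Agent.S5346.comm_of_sq (sq_one hTS ha) (sq_one hTS (hconj x b hb)) h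
      · exfalso
        apply hnot
        have hπx : (QuotientGroup.mk x : G ⧸ L) = 1 := (QuotientGroup.eq_one_iff x).mpr hx
        have e : (QuotientGroup.mk (a * (x * b * x⁻¹)) : G ⧸ L) = QuotientGroup.mk (a * b) := by
          simp only [QuotientGroup.mk_mul, QuotientGroup.mk_inv, hπx, one_mul, inv_one, mul_one]
        have h3' : (QuotientGroup.mk (a * b) : G ⧸ L) ^ 3 = 1 := by
          rw [← e, ← QuotientGroup.mk_pow, h, QuotientGroup.mk_one]
        have h2' : (QuotientGroup.mk (a * b) : G ⧸ L) ^ 2 = 1 := by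
          rw [← QuotientGroup.mk_pow, hab2, QuotientGroup.mk_one]
        have h1' : (QuotientGroup.mk (a * b) : G ⧸ L) = 1 := by
          have h4 := h3'
          rw [pow_succ, h2', one_mul] at h4
          exact h4
        rw [hai]
        exact (QuotientGroup.eq_one_iff _).mp h1'
    have hgenL := gen_by_comm hC.comp.2 b (fun x hx => hN.conj_mem x hx b) (hC.ncent b hb)
    apply hC.ncent a ha
    rw [← hgenL, Subgroup.closure_le]
    rintro c ⟨g, hg, rfl⟩
    rw [SetLike.mem_coe, Subgroup.mem_centralizer_iff]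
    intro z hz
    rw [Set.mem_singleton_iff] at hz
    rw [hz]
    exact ((claim g hg).mul_right hc.inv_right).eq
  · have e1 : a * b * a⁻¹ * b⁻¹ = (a * b) * (a * b) := by rw [hai, hbi, mul_assoc (a * b)]
    rw [e1] at hab
    have e3 : a * b * (a * b) * (a * b) = 1 := by rw [← pow_three']; exact h3
    have e2 : a * b = ((a * b) * (a * b)) * ((a * b) * (a * b)) * (a * b * (a * b) * (a * b))⁻¹ := by
      group
    rw [hai, e2, e3, inv_one, mul_one]
    exact L.mul_mem hab hab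

theorem component_structure {D : Set G} (hD : Cfsg.IsThreeTranspositionClass D)
    (hD2 : ∃ a ∈ D, ∃ b ∈ D, a ≠ b) (h2 : Cfsg.pCore 2 G ≤ Subgroup.center G)
    (h3 : Cfsg.pCore 3 G ≤ Subgroup.center G) :
    ∃ L : Subgroup G, L.Normal ∧ Cfsg.IsQuasisimple L ∧
      Cfsg.generalizedFittingSubgroup G = L ⊔ Subgroup.center G ∧
      (L = ⊤ ∨ ∀ a ∈ D, ∀ b ∈ D, a * b * a⁻¹ * b⁻¹ ∈ L → a⁻¹ * b ∈ L) := by
  obtain ⟨L, hC⟩ := exists_cdata hD hD2 h2 h3
  obtain ⟨hTS, ⟨d0, hd0, hcls⟩, hgen⟩ := hD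
  have hconj : ∀ g : G, ∀ y ∈ D, g * y * g⁻¹ ∈ D := by
    intro g y hy
    rw [hcls] at hy ⊢
    obtain ⟨c, hc⟩ := isConj_iff.mp (show IsConj d0 y from hy)
    show IsConj d0 (g * y * g⁻¹)
    rw [isConj_iff]
    exact ⟨g * c, by rw [← hc]; group⟩
  refine ⟨L, hC.normal, (qs_iff_QS L).mpr hC.comp.2, ?_, Or.inr (width_one_mod hTS hconj hC)⟩
  rw [generalizedFittingSubgroup_eq]
  unfold fstarOf
  rw [hC.layer, hC.fit]

end Cfsg.Agent.h26TTQ
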