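import Mathlib
import Cfsg.Agent.Lib_helper26_TTR
import Cfsg.Agent.Lib_helper7_FStar2

set_option autoImplicit false
set_option linter.style.haveILetI false
set_option linter.unusedSectionVars false
set_option linter.unusedVariables false

/-! 3-transposition groups with central `O_2`, `O_3`: primitivity and index of the component. -/

open Cfsg
open scoped commutatorElement

namespace Cfsg.Agent.h26TTQ

open Cfsg.Agent.h26TTW Cfsg.Agent.h26TTY Cfsg.Agent.helper7

variable {G : Type*} [Group G] [Finite G]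

theorem cdata_of_qs {D : Set G} (hD : Cfsg.IsThreeTranspositionClass D)
    (hD2 : ∃ a ∈ D, ∃ b ∈ D, a ≠ b) (h2 : Cfsg.pCore 2 G ≤ Subgroup.center G)
    (h3 : Cfsg.pCore 3 G ≤ Subgroup.center G) (L : Subgroup G) [hLn : L.Normal]
    (hL : Cfsg.IsQuasisimple L) : CData D L := by
  obtain ⟨L', hC'⟩ := exists_cdata hD hD2 h2 h3
  have hqs : QS L := (qs_iff_QS L).mp hL
  have hcomp : Comp L ⊤ :=
    ⟨SN.of_normal le_top (fun g _ => mem_normalizer_of_normal L g), hqs⟩
  have hle : L ≤ L' := by rw [← hC'.layer]; exact comp_le_layerOf hcomp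
  have hEq : L = L' := by
    rcases hC'.comp.2.2.2 L hle (fun g _ => mem_normalizer_of_normal L g) with h | h
    · exact h
    · exfalso
      apply hqs.not_abelian
      exact h.trans (Subgroup.centralizer_le hle)
  rw [hEq]; exact hC'

theorem coset_cover {D : Set G} (hgen : Subgroup.closure D = ⊤) {M : Subgroup G} [hMn : M.Normal]
    {d : G} (hdd : d * d = 1) (hMD : ∀ a ∈ D, a * d ∈ M) : ∀ g : G, g ∈ M ∨ g * d ∈ M := by
  intro g
  have hg : g ∈ Subgroup.closure D := by rw [hgen]; exact Subgroup.mem_top g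
  induction hg using Subgroup.closure_induction with
  | mem x hx => exact Or.inr (hMD x hx)
  | one => exact Or.inl (Subgroup.one_mem _)
  | mul x y _ _ hx hy =>
    rcases hx with hx | hx <;> rcases hy with hy | hy
    · exact Or.inl (M.mul_mem hx hy)
    · right; rw [mul_assoc]; exact M.mul_mem hx hy
    · right
      have e : x * y * d = (x * d) * (d⁻¹ * y * d⁻¹⁻¹) := by group
      rw [e]; exact M.mul_mem hx (hMn.conj_mem y hy d⁻¹)
    · left
      have e : x * y = (x * d) * (d⁻¹ * (y * d) * d⁻¹⁻¹) * (d * d)⁻¹ := by group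
      rw [e, hdd, inv_one, mul_one]
      exact M.mul_mem hx (hMn.conj_mem _ hy d⁻¹)
  | inv x _ hx =>
    rcases hx with hx | hx
    · exact Or.inl (M.inv_mem hx)
    · right
      have e : x⁻¹ * d = (d * (x * d)⁻¹ * d⁻¹) * (d * d) := by group
      rw [e, hdd, mul_one]
      exact hMn.conj_mem _ (M.inv_mem hx) d

theorem index_le_two_of_connected {D : Set G} (hTS : IsThreeTranspositionSet D)
    (hconj : ∀ g : G, ∀ y ∈ D, g * y * g⁻¹ ∈ D) (hgen : Subgroup.closure D = ⊤)
    {L : Subgroup G} (hC : CData D L) (hconn : (Cfsg.commutingGraph D).Connected) :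
    L.index ≤ 2 := by
  haveI hN := hC.normal
  obtain ⟨⟨d, hd⟩⟩ := hconn.nonempty
  have hw := width_one_mod hTS hconj hC
  have key : ∀ u v : D, (Cfsg.commutingGraph D).Reachable u v → (u : G)⁻¹ * (v : G) ∈ L := by
    intro u v huv
    rw [SimpleGraph.reachable_iff_reflTransGen] at huv
    induction huv with
    | refl => rw [inv_mul_cancel]; exact L.one_mem
    | @tail v w _ hvw ih =>
      have hadj : (Cfsg.commutingGraph D).Adj v w := hvw
      unfold Cfsg.commutingGraph at hadj
      rw [SimpleGraph.fromRel_adj] at hadj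
      have hc : Commute (v : G) (w : G) := by
        rcases hadj.2 with h | h
        · exact h
        · exact h.symm
      have h1 : (v : G) * w * (v : G)⁻¹ * (w : G)⁻¹ ∈ L := by
        rw [hc.eq, mul_inv_cancel_right, mul_inv_cancel]; exact L.one_mem
      have h2 := hw v v.2 w w.2 h1
      have e : (u : G)⁻¹ * (w : G) = ((u : G)⁻¹ * v) * ((v : G)⁻¹ * w) := by group
      rw [e]; exact L.mul_mem ih h2
  have hdd := sq_one hTS hd
  have hMD : ∀ a ∈ D, a * d ∈ L := by
    intro a ha
    have := key ⟨a, ha⟩ ⟨d, hd⟩ (hconn.preconnected _ _)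
    rw [inv_eq hTS ha] at this
    exact this
  have hidx := coset_cover hgen hdd hMD
  rw [Subgroup.index_eq_card]
  have hsurj : Function.Surjective
      (fun i : Fin 2 => if i = 0 then (1 : G ⧸ L) else QuotientGroup.mk d) := by
    intro y
    obtain ⟨g, rfl⟩ := QuotientGroup.mk_surjective y
    rcases hidx g with h | h
    · refine ⟨0, ?_⟩
      simp only [if_true]
      exact ((QuotientGroup.eq_one_iff g).mpr h).symm
    · refine ⟨1, ?_⟩
      have h10 : (1 : Fin 2) ≠ 0 := by decide
      simp only [h10, if_false]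
      rw [QuotientGroup.eq]
      have e : d⁻¹ * g = d⁻¹ * (g * d) * d⁻¹⁻¹ * (d * d)⁻¹ := by group
      rw [e, hdd, inv_one, mul_one]
      exact hN.conj_mem _ h d⁻¹
  have := Nat.card_le_card_of_surjective _ hsurj
  rwa [Nat.card_fin] at this

end Cfsg.Agent.h26TTQ
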