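import Mathlib
import Cfsg.Agent.Lib_helper26_TTS

set_option autoImplicit false
set_option linter.style.haveILetI false
set_option linter.unusedSectionVars false
set_option linter.unusedVariables false

/-! 3-transposition groups with central `O_2`, `O_3`: primitivity when `|G : L| ≤ 2`. -/

open Cfsg
open scoped commutatorElement

namespace Cfsg.Agent.h26TTQ

open Cfsg.Agent.h26TTW Cfsg.Agent.h26TTY Cfsg.Agent.helper7

variable {G : Type*} [Group G]

/-- the subgroup fixing every conjugate of the block `B` -/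
def blockKernel (B : Set G) : Subgroup G where
  carrier := {g | ∀ h z : G, h⁻¹ * (g * z * g⁻¹) * h ∈ B ↔ h⁻¹ * z * h ∈ B}
  one_mem' := by
    intro h z
    have : (1 : G) * z * (1 : G)⁻¹ = z := by group
    rw [this]
  mul_mem' := by
    intro a b ha hb h z
    have : (a * b) * z * (a * b)⁻¹ = a * (b * z * b⁻¹) * a⁻¹ := by group
    rw [this, ha h (b * z * b⁻¹), hb h z]
  inv_mem' := by
    intro a ha h z
    have h1 := ha h (a⁻¹ * z * a⁻¹⁻¹)
    have e : a * (a⁻¹ * z * a⁻¹⁻¹) * a⁻¹ = z := by group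
    rw [e] at h1
    exact h1.symm

theorem blockKernel_normal (B : Set G) : (blockKernel B).Normal := by
  constructor
  intro g hg k h z
  have h1 := hg (k⁻¹ * h) (k⁻¹ * z * k)
  have e1 : (k⁻¹ * h)⁻¹ * (g * (k⁻¹ * z * k) * g⁻¹) * (k⁻¹ * h) =
      h⁻¹ * ((k * g * k⁻¹) * z * (k * g * k⁻¹)⁻¹) * h := by group
  have e2 : (k⁻¹ * h)⁻¹ * (k⁻¹ * z * k) * (k⁻¹ * h) = h⁻¹ * z * h := by group
  rw [e1, e2] at h1
  exact h1

variable [Finite G]

theorem primitive_of_index {D : Set G} (hD : Cfsg.IsThreeTranspositionClass D)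
    (hD2 : ∃ a ∈ D, ∃ b ∈ D, a ≠ b) (h2 : Cfsg.pCore 2 G ≤ Subgroup.center G)
    {L : Subgroup G} (hC : CData D L) (hidx : L.index ≤ 2) : Cfsg.IsPrimitiveUnderConj D := by
  classical
  have hDcls := hD
  obtain ⟨hTS, ⟨d0, hd0, hcls⟩, hgen⟩ := hD
  have hconj : ∀ g : G, ∀ y ∈ D, g * y * g⁻¹ ∈ D := by
    intro g y hy
    rw [hcls] at hy ⊢
    obtain ⟨c, hc⟩ := isConj_iff.mp (show IsConj d0 y from hy)
    show IsConj d0 (g * y * g⁻¹)
    rw [isConj_iff]
    exact ⟨g * c, by rw [← hc]; group⟩
  have htrans : ∀ x ∈ D, ∀ y ∈ D, ∃ g : G, g * x * g⁻¹ = y := by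
    intro x hx y hy
    have h1 : IsConj d0 x := by
      have := hx; rw [hcls] at this; exact this
    have h2 : IsConj d0 y := by
      have := hy; rw [hcls] at this; exact this
    obtain ⟨g, hg⟩ := isConj_iff.mp (h1.symm.trans h2)
    exact ⟨g, hg⟩
  haveI hLn := hC.normal
  refine ⟨htrans, hD2, ?_⟩
  intro B hBD hblk
  by_contra hcon
  push Not at hcon
  obtain ⟨hns, hBne⟩ := hcon
  obtain ⟨x, hx, x', hx', hxx'⟩ := hns
  have hxD := hBD hx
  have hx'D := hBD hx'
  -- block property, elementwise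
  have hblk' : ∀ g : G, (∀ y, g⁻¹ * y * g ∈ B ↔ y ∈ B) ∨ (∀ y, g⁻¹ * y * g ∈ B → y ∉ B) := by
    intro g
    have himg : ∀ y, y ∈ (fun x => g * x * g⁻¹) '' B ↔ g⁻¹ * y * g ∈ B := by
      intro y
      constructor
      · rintro ⟨b, hb, rfl⟩
        have : g⁻¹ * (g * b * g⁻¹) * g = b := by group
        rw [this]; exact hb
      · intro h
        exact ⟨g⁻¹ * y * g, h, by group⟩
    rcases hblk g with h | h
    · left
      intro y
      rw [← himg y, h]
    · right
      intro y hy
      exact Set.disjoint_left.mp h ((himg y).mpr hy)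
  -- two conjugate blocks sharing a point coincide
  have hF1 : ∀ h k y : G, h⁻¹ * y * h ∈ B → k⁻¹ * y * k ∈ B →
      ∀ z, h⁻¹ * z * h ∈ B ↔ k⁻¹ * z * k ∈ B := by
    intro h k y hy1 hy2 z
    have e : ∀ w : G, (k⁻¹ * h)⁻¹ * (k⁻¹ * w * k) * (k⁻¹ * h) = h⁻¹ * w * h := by
      intro w; group
    rcases hblk' (k⁻¹ * h) with h1 | h1
    · have := h1 (k⁻¹ * z * k)
      rw [e z] at this
      exact this
    · exfalso
      have := h1 (k⁻¹ * y * k)
      rw [e y] at this
      exact this hy1 hy2
  -- members of B fix B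
  have hF3 : ∀ u ∈ B, ∀ z, u⁻¹ * z * u ∈ B ↔ z ∈ B := by
    intro u hu z
    have h1 : u⁻¹ * u * u ∈ B := by rw [inv_mul_cancel, one_mul]; exact hu
    have h2 : (1 : G)⁻¹ * u * 1 ∈ B := by rw [inv_one, one_mul, mul_one]; exact hu
    have := hF1 u 1 u h1 h2 z
    rw [inv_one, one_mul, mul_one] at this
    exact this
  -- an outside element commuting with one member of B commutes with the other
  have hsym : ∀ u ∈ B, ∀ u' ∈ B, ∀ y ∈ D, y ∉ B → Commute u y → Commute u' y := by
    intro u hu u' hu' y hyD hyB hc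
    have hyfix : ∀ z, y⁻¹ * z * y ∈ B ↔ z ∈ B := by
      intro z
      have h1 : y⁻¹ * u * y ∈ B := by
        have : y⁻¹ * u * y = u := by rw [mul_assoc, hc.eq, inv_mul_cancel_left]
        rw [this]; exact hu
      have h2 : (1 : G)⁻¹ * u * 1 ∈ B := by rw [inv_one, one_mul, mul_one]; exact hu
      have := hF1 y 1 u h1 h2 z
      rw [inv_one, one_mul, mul_one] at this
      exact this
    by_contra hnc
    have hbr := braid hTS (hBD hu') hyD hnc
    have h1 : y * u' * y⁻¹ ∈ B := by
      rw [← hyfix]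
      have : y⁻¹ * (y * u' * y⁻¹) * y = u' := by group
      rw [this]; exact hu'
    rw [← hbr] at h1
    have h3 := (hF3 u' hu' (u' * y * u'⁻¹)).mpr h1
    have : u'⁻¹ * (u' * y * u'⁻¹) * u' = y := by group
    rw [this] at h3
    exact hyB h3
  -- core claim
  have hCC : ∀ h z : G, h⁻¹ * (x⁻¹ * z * x) * h ∈ B ↔ h⁻¹ * (x'⁻¹ * z * x') * h ∈ B := by
    intro h z
    by_cases hint : ∃ y, h⁻¹ * y * h ∈ B ∧ y ∈ B
    · obtain ⟨y, hy1, hy2⟩ := hint
      have hβ : ∀ w, h⁻¹ * w * h ∈ B ↔ w ∈ B := by
        intro w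
        have h2 : (1 : G)⁻¹ * y * 1 ∈ B := by rw [inv_one, one_mul, mul_one]; exact hy2
        have := hF1 h 1 y hy1 h2 w
        rw [inv_one, one_mul, mul_one] at this
        exact this
      rw [hβ, hβ, hF3 x hx, hF3 x' hx']
    · push Not at hint
      -- the block h B h⁻¹ is disjoint from B
      have hfixes : ∀ u ∈ B, ∀ y ∈ D, h⁻¹ * y * h ∈ B → Commute u y →
          ∀ w, h⁻¹ * (u⁻¹ * w * u) * h ∈ B ↔ h⁻¹ * w * h ∈ B := by
        intro u hu y hyD hy1 hc w
        have h1 : (u * h)⁻¹ * y * (u * h) ∈ B := by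
          have : (u * h)⁻¹ * y * (u * h) = h⁻¹ * (u⁻¹ * y * u) * h := by group
          rw [this]
          have : u⁻¹ * y * u = y := by rw [mul_assoc, ← hc.eq, inv_mul_cancel_left]
          rw [this]; exact hy1
        have := hF1 (u * h) h y h1 hy1 w
        have e : (u * h)⁻¹ * w * (u * h) = h⁻¹ * (u⁻¹ * w * u) * h := by group
        rw [e] at this
        exact this
      have hmem_D : ∀ y, h⁻¹ * y * h ∈ B → y ∈ D := by
        intro y hy
        have := hconj h _ (hBD hy)
        have e : h * (h⁻¹ * y * h) * h⁻¹ = y := by group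
        rw [e] at this
        exact this
      by_cases hP : ∃ y, h⁻¹ * y * h ∈ B ∧ Commute x y
      · obtain ⟨y, hy1, hc⟩ := hP
        have hyD := hmem_D y hy1
        have hyB : y ∉ B := hint y hy1
        have hc' : Commute x' y := hsym x hx x' hx' y hyD hyB hc
        rw [hfixes x hx y hyD hy1 hc z, hfixes x' hx' y hyD hy1 hc' z]
      · push Not at hP
        have hP' : ∀ y, h⁻¹ * y * h ∈ B → ¬ Commute x' y := by
          intro y hy1 hc'
          exact hP y hy1 (hsym x' hx' x hx y (hmem_D y hy1) (hint y hy1) hc')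
        -- a point of the block
        have hy1 : h⁻¹ * (h * x * h⁻¹) * h ∈ B := by
          have : h⁻¹ * (h * x * h⁻¹) * h = x := by group
          rw [this]; exact hx
        set y := h * x * h⁻¹ with hy_def
        have hyD := hmem_D y hy1
        have hb1 := braid hTS hxD hyD (hP y hy1)
        have hb2 := braid hTS hx'D hyD (hP' y hy1)
        have hA : ∀ u ∈ B, u * y * u⁻¹ = y * u * y⁻¹ →
            ∀ w, h⁻¹ * (u⁻¹ * w * u) * h ∈ B ↔ y⁻¹ * w * y ∈ B := by
          intro u hu hbr w
          have h1 : (u * h)⁻¹ * (u * y * u⁻¹) * (u * h) ∈ B := by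
            have : (u * h)⁻¹ * (u * y * u⁻¹) * (u * h) = h⁻¹ * y * h := by group
            rw [this]; exact hy1
          have h2' : y⁻¹ * (u * y * u⁻¹) * y ∈ B := by
            rw [hbr]
            have : y⁻¹ * (y * u * y⁻¹) * y = u := by group
            rw [this]; exact hu
          have := hF1 (u * h) y _ h1 h2' w
          have e : (u * h)⁻¹ * w * (u * h) = h⁻¹ * (u⁻¹ * w * u) * h := by group
          rw [e] at this
          exact this
        rw [hA x hx hb1 z, hA x' hx' hb2 z]
  -- x'⁻¹ x lies in the kernel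
  have hg0 : x'⁻¹ * x ∈ blockKernel B := by
    intro h z
    have e : (x'⁻¹ * x) * z * (x'⁻¹ * x)⁻¹ = x'⁻¹ * (x * z * x⁻¹) * x' := by group
    rw [e, ← hCC h (x * z * x⁻¹)]
    have e2 : x⁻¹ * (x * z * x⁻¹) * x = z := by group
    rw [e2]
  haveI hKn := blockKernel_normal B
  have hqs := hC.comp.2
  -- L is not contained in the kernel
  have hLK : ¬ L ≤ blockKernel B := by
    intro hLK
    apply hBne
    apply Set.Subset.antisymm hBD
    intro e he
    obtain ⟨g, rfl⟩ := htrans x hxD e he
    have hex : ∃ l ∈ L, g * x * g⁻¹ = l * x * l⁻¹ := by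
      by_cases hgL : g ∈ L
      · exact ⟨g, hgL, rfl⟩
      · have hxL : x ∉ L := by
          intro hxL
          apply hgL
          have hDL : D ⊆ (L : Set G) := by
            intro e he
            obtain ⟨k, rfl⟩ := htrans x hxD e he
            exact hLn.conj_mem x hxL k
          have : Subgroup.closure D ≤ L := (Subgroup.closure_le L).mpr hDL
          rw [hgen] at this
          exact this (Subgroup.mem_top g)
        have hi2 : L.index = 2 := by
          have h0 : L.index ≠ 0 := Subgroup.index_ne_zero_of_finite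
          have h1 : L.index ≠ 1 := by
            intro h1
            rw [Subgroup.index_eq_one] at h1
            exact hgL (h1 ▸ Subgroup.mem_top g)
          omega
        have hgx : g * x ∈ L := by
          rw [Subgroup.mul_mem_iff_of_index_two hi2]
          exact ⟨fun h => absurd h hgL, fun h => absurd h hxL⟩
        refine ⟨g * x, hgx, ?_⟩
        group
    obtain ⟨l, hl, hle⟩ := hex
    rw [hle]
    have := (hLK hl) 1 x
    rw [inv_one, one_mul, mul_one, one_mul, mul_one] at this
    exact this.mpr hx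
  -- so the kernel is central
  have hKZ : blockKernel B ≤ Subgroup.center G := by
    have hKL : blockKernel B ⊓ L ≤ Subgroup.centralizer (L : Set G) := by
      rcases hqs.2.2 (blockKernel B ⊓ L) inf_le_right (by
        intro g hg
        haveI : (blockKernel B ⊓ L).Normal := Subgroup.normal_inf_normal _ _
        exact mem_normalizer_of_normal _ g) with h | h
      · exfalso
        apply hLK
        rw [← h]; exact inf_le_left
      · exact h
    intro k hk
    have hkL : L ≤ Subgroup.centralizer ({k} : Set G) := by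
      apply comm_hom_argument hqs.1 k
      · intro l hl
        have e : l * k * l⁻¹ * k⁻¹ = l * (k * l⁻¹ * k⁻¹) := by group
        rw [e]; exact L.mul_mem hl (hLn.conj_mem _ (L.inv_mem hl) k)
      · intro l hl
        apply hKL
        refine ⟨?_, ?_⟩
        · exact (blockKernel B).mul_mem (hKn.conj_mem k hk l) ((blockKernel B).inv_mem hk)
        · have e : l * k * l⁻¹ * k⁻¹ = l * (k * l⁻¹ * k⁻¹) := by group
          rw [e]; exact L.mul_mem hl (hLn.conj_mem _ (L.inv_mem hl) k)
    have hkCL : k ∈ Subgroup.centralizer (L : Set G) := by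
      rw [Subgroup.mem_centralizer_iff]
      intro l hl
      exact (Subgroup.mem_centralizer_iff.mp (hkL hl) k rfl).symm
    have hkCZ : k ∈ Subgroup.centralizer ((Subgroup.center G : Subgroup G) : Set G) := by
      rw [Subgroup.mem_centralizer_iff]
      intro z hz
      exact (Subgroup.mem_center_iff.mp hz k).symm
    have hkF : k ∈ Subgroup.centralizer ((fstarOf (⊤ : Subgroup G) : Subgroup G) : Set G) := by
      unfold fstarOf
      rw [hC.layer, hC.fit]
      exact mem_centralizer_sup hkCL hkCZ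
    have hkFs : k ∈ fstarOf (⊤ : Subgroup G) :=
      centralizer_fstarOf_le (⊤ : Subgroup G) ⟨Subgroup.mem_top k, hkF⟩
    unfold fstarOf at hkFs
    rw [hC.layer, hC.fit] at hkFs
    obtain ⟨l, hl, z, hz, hlz⟩ := Subgroup.mem_sup_of_normal_left.mp hkFs
    have hlC : l ∈ Subgroup.centralizer (L : Set G) := by
      have : l = k * z⁻¹ := by rw [← hlz]; group
      rw [this]
      refine Subgroup.mul_mem _ hkCL ?_
      rw [Subgroup.mem_centralizer_iff]
      intro m _
      exact (Subgroup.mem_center_iff.mp (Subgroup.inv_mem _ hz) m)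
    have hlZ : l ∈ Subgroup.center G := by
      have h1 : l ∈ layerOf (⊤ : Subgroup G) ⊓
          Subgroup.centralizer (layerOf (⊤ : Subgroup G) : Set G) := by
        rw [hC.layer]; exact ⟨hl, hlC⟩
      rw [center_layerOf_eq, hC.fit] at h1
      exact h1.1
    rw [← hlz]
    exact Subgroup.mul_mem _ hlZ hz
  -- conclusion
  have hzc : x'⁻¹ * x ∈ Subgroup.center G := hKZ hg0
  have hxz : x = x' * (x'⁻¹ * x) := by group
  have hzcomm : ∀ e : G, e * (x'⁻¹ * x) = (x'⁻¹ * x) * e := Subgroup.mem_center_iff.mp hzc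
  have hsame : ∀ e ∈ D, Commute x e ↔ Commute x' e := by
    intro e _
    constructor
    · intro h
      have h1 : Commute (x * (x'⁻¹ * x)⁻¹) e := by
        apply Commute.mul_left h
        apply Commute.inv_left
        exact (hzcomm e).symm
      have e2 : x * (x'⁻¹ * x)⁻¹ = x' := by group
      rw [e2] at h1
      exact h1
    · intro h
      rw [hxz]
      exact Commute.mul_left h (hzcomm e).symm
  have h49 := Cfsg.Agent.S5349.result hDcls hD2 hx'D
  have hmem : x ∈ {v : G | v ∈ D ∧ ∀ e ∈ D, Commute v e ↔ Commute x' e} := ⟨hxD, hsame⟩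
  rw [h49.2] at hmem
  obtain ⟨q, hq, hqx⟩ := hmem
  apply hxx'
  rw [hqx]
  have := Subgroup.mem_center_iff.mp (h2 hq) x'
  rw [← this, mul_inv_cancel_right]

end Cfsg.Agent.h26TTQ
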