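import Mathlib
import Cfsg.Agent.Lib_helper26_TTS2

set_option autoImplicit false
set_option linter.style.haveILetI false
set_option linter.unusedSectionVars false
set_option linter.unusedVariables false

/-! Primitive 3-transposition groups: consequences of primitivity. -/

open Cfsg
open scoped commutatorElement

namespace Cfsg.Agent.h26TTQ

open Cfsg.Agent.h26TTW Cfsg.Agent.h26TTY Cfsg.Agent.helper7

variable {G : Type*} [Group G]

theorem comm_conj_left (g a b : G) : Commute (g * a * g⁻¹) b ↔ Commute a (g⁻¹ * b * g) := by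
  have e : g * (g⁻¹ * b * g) * g⁻¹ = b := by group
  have := conj_comm_iff g a (g⁻¹ * b * g)
  rw [e] at this
  exact this

theorem le_center_of_fix_one {D : Set G} (hgen : Subgroup.closure D = ⊤)
    (htrans : ∀ x ∈ D, ∀ y ∈ D, ∃ g : G, g * x * g⁻¹ = y) {N : Subgroup G} [hN : N.Normal]
    {d : G} (hd : d ∈ D) (h : ∀ q ∈ N, q * d * q⁻¹ = d) : N ≤ Subgroup.center G := by
  apply le_center_of_gen hgen
  intro e he x hx
  obtain ⟨g, rfl⟩ := htrans d hd e he
  have h2 := h (g⁻¹ * x * g⁻¹⁻¹) (hN.conj_mem x hx g⁻¹)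
  show (g * d * g⁻¹) * x = x * (g * d * g⁻¹)
  have e1 : x * (g * d * g⁻¹) =
      g * ((g⁻¹ * x * g⁻¹⁻¹) * d * (g⁻¹ * x * g⁻¹⁻¹)⁻¹) * g⁻¹ * x := by group
  rw [e1, h2]

/-- a block from an equivalence-like family -/
theorem block_of_family {D : Set G} (B : Set G) (hB : B ⊆ D)
    (hclosed : ∀ g : G, (∃ y, y ∈ (fun x => g * x * g⁻¹) '' B ∧ y ∈ B) →
      (∀ v ∈ B, g * v * g⁻¹ ∈ B) ∧ (∀ v ∈ B, g⁻¹ * v * g ∈ B)) :
    ∀ g : G, (fun x => g * x * g⁻¹) '' B = B ∨ Disjoint ((fun x => g * x * g⁻¹) '' B) B := by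
  intro g
  by_cases hint : ∃ y, y ∈ (fun x => g * x * g⁻¹) '' B ∧ y ∈ B
  · left
    obtain ⟨h1, h2⟩ := hclosed g hint
    apply Set.Subset.antisymm
    · rintro _ ⟨v, hv, rfl⟩
      exact h1 v hv
    · intro v hv
      exact ⟨g⁻¹ * v * g, h2 v hv, by group⟩
  · right
    rw [Set.disjoint_left]
    intro y hy1 hy2
    exact hint ⟨y, hy1, hy2⟩

section Prim

variable {D : Set G} (hTS : IsThreeTranspositionSet D)
  (hconj : ∀ g : G, ∀ y ∈ D, g * y * g⁻¹ ∈ D) (hgen : Subgroup.closure D = ⊤)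
  (hprim : Cfsg.IsPrimitiveUnderConj D)

include hTS hconj hgen hprim

theorem V_trivial_of_primitive {d : G} (hd : d ∈ D) :
    ∀ v ∈ D, (∀ e ∈ D, Commute v e ↔ Commute d e) → v = d := by
  intro v hv hvd
  have hconj' : ∀ g : G, ∀ y ∈ D, g⁻¹ * y * g ∈ D := by
    intro g y hy
    have := hconj g⁻¹ y hy
    rwa [inv_inv] at this
  have hblock := block_of_family (D := D) {v : G | v ∈ D ∧ ∀ e ∈ D, Commute v e ↔ Commute d e}
    (fun v hv => hv.1) (by
      rintro g ⟨y, ⟨w, ⟨hwD, hw⟩, rfl⟩, ⟨hyD, hy⟩⟩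
      have K : ∀ e ∈ D, Commute d (g⁻¹ * e * g) ↔ Commute d e := by
        intro e he
        rw [← hy e he, comm_conj_left, hw _ (hconj' g e he)]
      constructor
      · rintro v' ⟨hv'D, hv'⟩
        refine ⟨hconj g v' hv'D, ?_⟩
        intro e he
        rw [comm_conj_left, hv' _ (hconj' g e he), K e he]
      · rintro v' ⟨hv'D, hv'⟩
        refine ⟨hconj' g v' hv'D, ?_⟩
        intro e he
        have h1 := comm_conj_left g⁻¹ v' e
        rw [inv_inv] at h1
        rw [h1, hv' _ (hconj g e he)]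
        have h2 := K (g * e * g⁻¹) (hconj g e he)
        have e2 : g⁻¹ * (g * e * g⁻¹) * g = e := by group
        rw [e2] at h2
        exact h2.symm)
  rcases hprim.2.2 _ (fun v hv => hv.1) hblock with h | h
  · exact h ⟨hv, hvd⟩ ⟨hd, fun e _ => Iff.rfl⟩
  · exfalso
    obtain ⟨a, ha, b, hb, hab⟩ := hprim.2.1
    have hall : ∀ e ∈ D, Commute d e := by
      intro e he
      have he' : e ∈ {v : G | v ∈ D ∧ ∀ e ∈ D, Commute v e ↔ Commute d e} := by rw [h]; exact he
      exact ((he'.2 d hd).mpr (Commute.refl d)).symm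
    have hcen : ∀ g : G, g * d = d * g := by
      have hle : Subgroup.closure D ≤ Subgroup.centralizer {d} := by
        rw [Subgroup.closure_le]
        intro y hy
        rw [SetLike.mem_coe, Subgroup.mem_centralizer_iff]
        intro z hz
        rw [Set.mem_singleton_iff] at hz
        rw [hz]
        exact (hall y hy).eq
      intro g
      have hg : g ∈ Subgroup.centralizer {d} := hle (hgen ▸ Subgroup.mem_top g)
      exact (Subgroup.mem_centralizer_iff.mp hg d rfl).symm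
    have hone : ∀ e ∈ D, e = d := by
      intro e he
      obtain ⟨g, hg⟩ := hprim.1 d hd e he
      rw [← hg, hcen g, mul_inv_cancel_right]
    exact hab ((hone a ha).trans (hone b hb).symm)

theorem W_trivial_of_primitive {a b : G} (ha : a ∈ D) (hb : b ∈ D) (hab : a ≠ b)
    (hc : Commute a b) : ∀ w ∈ D, Dc D a = Dc D w → w = a := by
  intro w hw hwa
  have hblock := block_of_family (D := D) {w : G | w ∈ D ∧ Dc D a = Dc D w}
    (fun v hv => hv.1) (by
      rintro g ⟨y, ⟨v, ⟨hvD, hv⟩, rfl⟩, ⟨hyD, hy⟩⟩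
      have K : Dc D (g * a * g⁻¹) = Dc D a := (Dc_conj_eq hconj g hv).trans hy.symm
      have K' : Dc D a = Dc D (g⁻¹ * a * g) := by
        have := Dc_conj_eq hconj g⁻¹ K
        have e1 : g⁻¹ * (g * a * g⁻¹) * g⁻¹⁻¹ = a := by group
        rw [e1, inv_inv] at this
        exact this
      constructor
      · rintro v' ⟨hv'D, hv'⟩
        exact ⟨hconj g v' hv'D, K.symm.trans (Dc_conj_eq hconj g hv')⟩
      · rintro v' ⟨hv'D, hv'⟩
        have h1 := hconj g⁻¹ v' hv'D
        rw [inv_inv] at h1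
        refine ⟨h1, ?_⟩
        have h2 := Dc_conj_eq hconj g⁻¹ hv'
        rw [inv_inv] at h2
        exact K'.trans h2)
  rcases hprim.2.2 _ (fun v hv => hv.1) hblock with h | h
  · exact h ⟨hw, hwa⟩ ⟨ha, rfl⟩
  · exfalso
    have hb' : b ∈ {w : G | w ∈ D ∧ Dc D a = Dc D w} := by rw [h]; exact hb
    have h1 : b ∈ Dc D a := ⟨hb, Ne.symm hab, hc⟩
    rw [hb'.2] at h1
    exact h1.2.1 rfl

/-- conjugation as a graph homomorphism of the commuting graph -/
def conjHom (hconj : ∀ g : G, ∀ y ∈ D, g * y * g⁻¹ ∈ D) (g : G) :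
    Cfsg.commutingGraph D →g Cfsg.commutingGraph D where
  toFun y := ⟨g * y.1 * g⁻¹, hconj g y.1 y.2⟩
  map_rel' := by
    intro u v huv
    unfold Cfsg.commutingGraph at huv ⊢
    rw [SimpleGraph.fromRel_adj] at huv ⊢
    refine ⟨?_, ?_⟩
    · intro h
      apply huv.1
      have h1 : g * u.1 * g⁻¹ = g * v.1 * g⁻¹ := congrArg Subtype.val h
      apply Subtype.ext
      have : u.1 = g⁻¹ * (g * u.1 * g⁻¹) * g := by group
      rw [this, h1]; group
    · rcases huv.2 with h | h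
      · left; exact (conj_comm_iff g u.1 v.1).mpr h
      · right; exact (conj_comm_iff g v.1 u.1).mpr h

theorem connected_of_primitive {a b : G} (ha : a ∈ D) (hb : b ∈ D) (hab : a ≠ b)
    (hc : Commute a b) : (Cfsg.commutingGraph D).Connected := by
  have hblock := block_of_family (D := D)
    {y : G | ∃ hy : y ∈ D, (Cfsg.commutingGraph D).Reachable ⟨a, ha⟩ ⟨y, hy⟩}
    (fun v hv => hv.1) (by
      rintro g ⟨y, ⟨v, ⟨hvD, hv⟩, rfl⟩, ⟨hyD, hy⟩⟩
      have h1 : (Cfsg.commutingGraph D).Reachable ⟨g * a * g⁻¹, hconj g a ha⟩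
          ⟨g * v * g⁻¹, hconj g v hvD⟩ := hv.map (conjHom hconj g)
      have K : (Cfsg.commutingGraph D).Reachable ⟨a, ha⟩ ⟨g * a * g⁻¹, hconj g a ha⟩ :=
        hy.trans h1.symm
      have hgi : ∀ y (hy : y ∈ D), g⁻¹ * y * g ∈ D := by
        intro y hy
        have := hconj g⁻¹ y hy
        rwa [inv_inv] at this
      have K' : (Cfsg.commutingGraph D).Reachable ⟨g⁻¹ * a * g, hgi a ha⟩ ⟨a, ha⟩ := by
        have h2 := K.map (conjHom hconj g⁻¹)
        have e1 : (conjHom hconj g⁻¹) ⟨g * a * g⁻¹, hconj g a ha⟩ =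
            (⟨a, ha⟩ : D) := by
          apply Subtype.ext
          show g⁻¹ * (g * a * g⁻¹) * g⁻¹⁻¹ = a
          group
        have e2 : (conjHom hconj g⁻¹) ⟨a, ha⟩ =
            (⟨g⁻¹ * a * g, hgi a ha⟩ : D) := by
          apply Subtype.ext
          show g⁻¹ * a * g⁻¹⁻¹ = g⁻¹ * a * g
          rw [inv_inv]
        rw [e1, e2] at h2
        exact h2
      constructor
      · rintro v' ⟨hv'D, hv'⟩
        refine ⟨hconj g v' hv'D, ?_⟩
        exact K.trans (hv'.map (conjHom hconj g))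
      · rintro v' ⟨hv'D, hv'⟩
        refine ⟨hgi v' hv'D, ?_⟩
        have h3 := hv'.map (conjHom hconj g⁻¹)
        have e2 : (conjHom hconj g⁻¹) ⟨a, ha⟩ =
            (⟨g⁻¹ * a * g, hgi a ha⟩ : D) := by
          apply Subtype.ext
          show g⁻¹ * a * g⁻¹⁻¹ = g⁻¹ * a * g
          rw [inv_inv]
        have e3 : (conjHom hconj g⁻¹) ⟨v', hv'D⟩ =
            (⟨g⁻¹ * v' * g, hgi v' hv'D⟩ : D) := by
          apply Subtype.ext
          show g⁻¹ * v' * g⁻¹⁻¹ = g⁻¹ * v' * g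
          rw [inv_inv]
        rw [e2, e3] at h3
        exact K'.symm.trans h3)
  have hadj : (Cfsg.commutingGraph D).Adj ⟨a, ha⟩ ⟨b, hb⟩ := by
    unfold Cfsg.commutingGraph
    rw [SimpleGraph.fromRel_adj]
    exact ⟨fun h => hab (congrArg Subtype.val h), Or.inl hc⟩
  rcases hprim.2.2 _ (fun v hv => hv.1) hblock with h | h
  · exfalso
    apply hab
    exact h ⟨ha, SimpleGraph.Reachable.refl _⟩ ⟨hb, hadj.reachable⟩
  · haveI : Nonempty D := ⟨⟨a, ha⟩⟩
    refine ⟨?_⟩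
    intro u v
    have hu : u.1 ∈ {y : G | ∃ hy : y ∈ D, (Cfsg.commutingGraph D).Reachable ⟨a, ha⟩ ⟨y, hy⟩} := by
      rw [h]; exact u.2
    have hv : v.1 ∈ {y : G | ∃ hy : y ∈ D, (Cfsg.commutingGraph D).Reachable ⟨a, ha⟩ ⟨y, hy⟩} := by
      rw [h]; exact v.2
    obtain ⟨_, hu'⟩ := hu
    obtain ⟨_, hv'⟩ := hv
    exact hu'.symm.trans hv'

end Prim

end Cfsg.Agent.h26TTQ
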