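import Mathlib
import Cfsg.Agent.Lib_helper26_TTP

set_option autoImplicit false
set_option linter.style.haveILetI false
set_option linter.unusedSectionVars false
set_option linter.unusedVariables false

/-! Primitive 3-transposition groups: simple derived group iff primitive. -/

open Cfsg
open scoped commutatorElement

namespace Cfsg.Agent.h26TTQ

open Cfsg.Agent.h26TTW Cfsg.Agent.h26TTY Cfsg.Agent.helper7

variable {G : Type*} [Group G] [Finite G]

theorem two_three_one' {x : G} {k j : ℕ} (h2 : x ^ (2 ^ k) = 1) (h3 : x ^ (3 ^ j) = 1) :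
    x = 1 := by
  have h1 : orderOf x ∣ 2 ^ k := orderOf_dvd_of_pow_eq_one h2
  have h1' : orderOf x ∣ 3 ^ j := orderOf_dvd_of_pow_eq_one h3
  have hcop : Nat.Coprime (2 ^ k) (3 ^ j) := Nat.Coprime.pow _ _ (by norm_num)
  have := Nat.dvd_gcd h1 h1'
  rw [hcop] at this
  exact orderOf_eq_one_iff.mp (Nat.dvd_one.mp this)

theorem index_le_two_of_cover {M : Subgroup G} [hMn : M.Normal] {d : G} (hdd : d * d = 1)
    (hidx : ∀ g : G, g ∈ M ∨ g * d ∈ M) : M.index ≤ 2 := by
  rw [Subgroup.index_eq_card]
  have hsurj : Function.Surjective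
      (fun i : Fin 2 => if i = 0 then (1 : G ⧸ M) else QuotientGroup.mk d) := by
    intro y
    obtain ⟨g, rfl⟩ := QuotientGroup.mk_surjective y
    rcases hidx g with h | h
    · refine ⟨0, ?_⟩
      simp only [if_true]
      exact ((QuotientGroup.eq_one_iff g).mpr h).symm
    · refine ⟨1, ?_⟩
      have h10 : (1 : Fin 2) ≠ 0 := by decide
      simp only [h10, if_false]
      rw [QuotientGroup.eq]
      have e : d⁻¹ * g = d⁻¹ * (g * d) * d⁻¹⁻¹ * (d * d)⁻¹ := by group
      rw [e, hdd, inv_one, mul_one]
      exact hMn.conj_mem _ h d⁻¹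
  have := Nat.card_le_card_of_surjective _ hsurj
  rwa [Nat.card_fin] at this

theorem simple_iff_primitive {D : Set G} (hD : Cfsg.IsThreeTranspositionClass D)
    (hZ : Subgroup.center G = ⊥) (hw : ∃ a ∈ D, ∃ b ∈ D, a ≠ b ∧ Commute a b) :
    (IsSimpleGroup (commutator G) ↔ Cfsg.IsPrimitiveUnderConj D) ∧
    (Cfsg.IsPrimitiveUnderConj D ↔
      (Cfsg.pCore 2 G = ⊥ ∧ Cfsg.pCore 3 G = ⊥ ∧ (Cfsg.commutingGraph D).Connected)) := by
  classical
  haveI : Fact (Nat.Prime 3) := ⟨Nat.prime_three⟩
  haveI : Fact (Nat.Prime 2) := ⟨Nat.prime_two⟩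
  have hDcls := hD
  obtain ⟨a, ha, b, hb, hab, hcab⟩ := hw
  have hD2 : ∃ a ∈ D, ∃ b ∈ D, a ≠ b := ⟨a, ha, b, hb, hab⟩
  obtain ⟨hTS, ⟨d0, hd0, hcls⟩, hgen⟩ := hD
  have hconj : ∀ g : G, ∀ y ∈ D, g * y * g⁻¹ ∈ D := by
    intro g y hy
    rw [hcls] at hy ⊢
    obtain ⟨c, hc⟩ := isConj_iff.mp (show IsConj d0 y from hy)
    show IsConj d0 (g * y * g⁻¹)
    rw [isConj_iff]
    exact ⟨g * c, by rw [← hc]; group⟩
  have htrans : ∀ x ∈ D, ∀ y ∈ D, ∃ g : G, g * x * g⁻¹ = y := by
    intro x hx y hy
    have h1 : IsConj d0 x := by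
      have := hx; rw [hcls] at this; exact this
    have h2 : IsConj d0 y := by
      have := hy; rw [hcls] at this; exact this
    obtain ⟨g, hg⟩ := isConj_iff.mp (h1.symm.trans h2)
    exact ⟨g, hg⟩
  haveI hN2 : (Cfsg.pCore 2 G).Normal := Cfsg.Agent.helper15.pCore_normal' 2
  haveI hN3 : (Cfsg.pCore 3 G).Normal := Cfsg.Agent.helper15.pCore_normal' 3
  have hp2 : IsPGroup 2 (Cfsg.pCore 2 G) := Cfsg.Agent.helper15.pCore_isPGroup' 2
  have hp3 : IsPGroup 3 (Cfsg.pCore 3 G) := Cfsg.Agent.helper15.pCore_isPGroup' 3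
  have hai := inv_eq hTS ha
  have haa := sq_one hTS ha
  -- (A) primitive ⟹ cores trivial and connected
  have hA : Cfsg.IsPrimitiveUnderConj D →
      (Cfsg.pCore 2 G = ⊥ ∧ Cfsg.pCore 3 G = ⊥ ∧ (Cfsg.commutingGraph D).Connected) := by
    intro hprim
    refine ⟨?_, ?_, connected_of_primitive hTS hconj hgen hprim ha hb hab hcab⟩
    · rw [eq_bot_iff, ← hZ]
      apply le_center_of_fix_one hgen htrans ha
      intro q hq
      have h49 := Cfsg.Agent.S5349.result hDcls hD2 ha
      have hmem : q * a * q⁻¹ ∈ {v : G | ∃ g ∈ Cfsg.pCore 2 G, v = g * a * g⁻¹} := ⟨q, hq, rfl⟩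
      rw [← h49.2] at hmem
      exact V_trivial_of_primitive hTS hconj hgen hprim ha _ hmem.1 hmem.2
    · rw [eq_bot_iff, ← hZ]
      apply le_center_of_fix_one hgen htrans ha
      intro q hq
      have h50 := Cfsg.Agent.S5350.result hDcls hD2 ha
      have hmem : q * a * q⁻¹ ∈ {w : G | ∃ g ∈ Cfsg.pCore 3 G, w = g * a * g⁻¹} := ⟨q, hq, rfl⟩
      rw [← h50.2] at hmem
      exact W_trivial_of_primitive hTS hconj hgen hprim ha hb hab hcab _ hmem.1 hmem.2
  -- (B)
  have hB : (Cfsg.pCore 2 G = ⊥ ∧ Cfsg.pCore 3 G = ⊥ ∧ (Cfsg.commutingGraph D).Connected) →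
      Cfsg.IsPrimitiveUnderConj D := by
    rintro ⟨h2, h3, hconn⟩
    have h2' : Cfsg.pCore 2 G ≤ Subgroup.center G := by rw [h2]; exact bot_le
    have h3' : Cfsg.pCore 3 G ≤ Subgroup.center G := by rw [h3]; exact bot_le
    obtain ⟨L, hC⟩ := exists_cdata hDcls hD2 h2' h3'
    exact primitive_of_index hDcls hD2 h2' hC (index_le_two_of_connected hTS hconj hgen hC hconn)
  -- coset cover by the commutator subgroup
  have hcov : ∀ g : G, g ∈ commutator G ∨ g * a ∈ commutator G := by
    haveI : (commutator G).Normal := inferInstance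
    apply coset_cover hgen haa
    intro e he
    obtain ⟨g, rfl⟩ := htrans a ha e he
    have e1 : g * a * g⁻¹ * a = ⁅g, a⁆ := by rw [commutatorElement_def, hai]
    rw [e1]
    exact Subgroup.commutator_mem_commutator (Subgroup.mem_top g) (Subgroup.mem_top a)
  refine ⟨⟨?_, ?_⟩, ⟨hA, hB⟩⟩
  · -- (D) simple ⟹ primitive
    intro hsimp
    have hcore : ∀ p : ℕ, p.Prime → ∀ N : Subgroup G, N.Normal → IsPGroup p N →
        ¬ commutator G ≤ N → N = ⊥ := by
      intro p hp N hN hNp hnle
      haveI hNs : (N.subgroupOf (commutator G)).Normal := hN.subgroupOf _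
      rcases hNs.eq_bot_or_eq_top with h | h
      · rw [Subgroup.subgroupOf_eq_bot] at h
        rw [eq_bot_iff, ← hZ]
        intro x hx
        rw [Subgroup.mem_center_iff]
        intro g
        have h1 : g * x * g⁻¹ * x⁻¹ ∈ N := N.mul_mem (hN.conj_mem x hx g) (N.inv_mem hx)
        have h2 : g * x * g⁻¹ * x⁻¹ ∈ commutator G := by
          have : g * x * g⁻¹ * x⁻¹ = ⁅g, x⁆ := by rw [commutatorElement_def]
          rw [this]
          exact Subgroup.commutator_mem_commutator (Subgroup.mem_top g) (Subgroup.mem_top x)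
        have h3 : g * x * g⁻¹ * x⁻¹ = 1 := by
          have := h.le_bot ⟨h1, h2⟩
          exact this
        have : g * x = (g * x * g⁻¹ * x⁻¹) * x * g := by group
        rw [this, h3, one_mul]
      · rw [Subgroup.subgroupOf_eq_top] at h
        exact absurd h hnle
    have h2 : Cfsg.pCore 2 G = ⊥ := by
      apply hcore 2 Nat.prime_two _ hN2 hp2
      intro hle
      -- a noncommuting pair gives an element of order 3 in G'
      have hex : ∃ e ∈ D, ¬ Commute a e := by
        by_contra hcon
        push Not at hcon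
        have hcen : a ∈ Subgroup.center G := by
          rw [Subgroup.mem_center_iff]
          have hle' : Subgroup.closure D ≤ Subgroup.centralizer {a} := by
            rw [Subgroup.closure_le]
            intro y hy
            rw [SetLike.mem_coe, Subgroup.mem_centralizer_iff]
            intro z hz
            rw [Set.mem_singleton_iff] at hz
            rw [hz]
            exact (hcon y hy).eq
          intro g
          have hg : g ∈ Subgroup.centralizer {a} := hle' (hgen ▸ Subgroup.mem_top g)
          exact (Subgroup.mem_centralizer_iff.mp hg a rfl).symm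
        rw [hZ, Subgroup.mem_bot] at hcen
        have := hTS.1 a ha
        rw [hcen, orderOf_one] at this
        exact absurd this (by norm_num)
      obtain ⟨e, he, hnc⟩ := hex
      obtain ⟨g, rfl⟩ := htrans a ha e he
      have h3 := cube_of_not_comm hTS (hconj g a ha) ha (fun h => hnc h.symm)
      have hmem : g * a * g⁻¹ * a ∈ Cfsg.pCore 2 G := by
        apply hle
        have e1 : g * a * g⁻¹ * a = ⁅g, a⁆ := by rw [commutatorElement_def, hai]
        rw [e1]
        exact Subgroup.commutator_mem_commutator (Subgroup.mem_top g) (Subgroup.mem_top a)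
      obtain ⟨k, hk⟩ := hp2 ⟨_, hmem⟩
      have hk' : (g * a * g⁻¹ * a) ^ (2 ^ k) = 1 := by simpa using congrArg Subtype.val hk
      have h1 : g * a * g⁻¹ * a = 1 := two_three_one' hk' (by
        show (g * a * g⁻¹ * a) ^ (3 ^ 1) = 1
        rw [pow_one]; exact h3)
      apply hnc
      have : g * a * g⁻¹ = a := by
        have e2 : g * a * g⁻¹ = (g * a * g⁻¹ * a) * a⁻¹ := by group
        rw [e2, h1, one_mul, hai]
      rw [this]
    have h3 : Cfsg.pCore 3 G = ⊥ := by
      apply hcore 3 Nat.prime_three _ hN3 hp3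
      intro hle
      have hbnot : b ∉ commutator G := by
        intro hbm
        obtain ⟨k, hk⟩ := hp3 ⟨b, hle hbm⟩
        have hk' : b ^ (3 ^ k) = 1 := by simpa using congrArg Subtype.val hk
        have hb2 : b ^ (2 ^ 1) = 1 := by rw [pow_one, pow_two]; exact sq_one hTS hb
        have := two_three_one' hb2 hk'
        have ho := hTS.1 b hb
        rw [this, orderOf_one] at ho
        exact absurd ho (by norm_num)
      rcases hcov b with h | h
      · exact hbnot h
      · obtain ⟨k, hk⟩ := hp3 ⟨b * a, hle h⟩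
        have hk' : (b * a) ^ (3 ^ k) = 1 := by simpa using congrArg Subtype.val hk
        have hba2 : (b * a) ^ (2 ^ 1) = 1 := by
          rw [pow_one, hcab.symm.mul_pow, pow_two, pow_two, sq_one hTS hb, haa, one_mul]
        have h1 := two_three_one' hba2 hk'
        apply hab
        have : b = a⁻¹ := eq_inv_of_mul_eq_one_left h1
        rw [this, hai]
    have h2' : Cfsg.pCore 2 G ≤ Subgroup.center G := by rw [h2]; exact bot_le
    have h3' : Cfsg.pCore 3 G ≤ Subgroup.center G := by rw [h3]; exact bot_le
    obtain ⟨L, hC⟩ := exists_cdata hDcls hD2 h2' h3'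
    haveI hLn := hC.normal
    have hqs := hC.comp.2
    have hLle : L ≤ commutator G := by
      rw [← hqs.1, commutator_def]
      exact Subgroup.commutator_mono le_top le_top
    have hLeq : L = commutator G := by
      haveI hLs : (L.subgroupOf (commutator G)).Normal := hLn.subgroupOf _
      rcases hLs.eq_bot_or_eq_top with h | h
      · exfalso
        rw [Subgroup.subgroupOf_eq_bot, disjoint_iff, inf_of_le_left hLle] at h
        exact hqs.2.1 h
      · rw [Subgroup.subgroupOf_eq_top] at h
        exact le_antisymm hLle h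
    apply primitive_of_index hDcls hD2 h2' hC
    apply index_le_two_of_cover haa
    rw [hLeq]
    exact hcov
  · -- (C) primitive ⟹ simple
    intro hprim
    obtain ⟨h2, h3, hconn⟩ := hA hprim
    have h2' : Cfsg.pCore 2 G ≤ Subgroup.center G := by rw [h2]; exact bot_le
    have h3' : Cfsg.pCore 3 G ≤ Subgroup.center G := by rw [h3]; exact bot_le
    obtain ⟨L, hC⟩ := exists_cdata hDcls hD2 h2' h3'
    haveI hLn := hC.normal
    have hqs := hC.comp.2
    have hidx := index_le_two_of_connected hTS hconj hgen hC hconn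
    have hLle : L ≤ commutator G := by
      rw [← hqs.1, commutator_def]
      exact Subgroup.commutator_mono le_top le_top
    -- cover by L
    have hcovL : ∀ g : G, g ∈ L ∨ g * a ∈ L := by
      intro g
      by_cases hgL : g ∈ L
      · exact Or.inl hgL
      · right
        have haL : a ∉ L := by
          intro haL
          apply hgL
          have hDL : D ⊆ (L : Set G) := by
            intro e he
            obtain ⟨k, rfl⟩ := htrans a ha e he
            exact hLn.conj_mem a haL k
          have : Subgroup.closure D ≤ L := (Subgroup.closure_le L).mpr hDL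
          rw [hgen] at this
          exact this (Subgroup.mem_top g)
        have hi2 : L.index = 2 := by
          have h0 : L.index ≠ 0 := Subgroup.index_ne_zero_of_finite
          have h1 : L.index ≠ 1 := by
            intro h1
            rw [Subgroup.index_eq_one] at h1
            exact hgL (h1 ▸ Subgroup.mem_top g)
          omega
        rw [Subgroup.mul_mem_iff_of_index_two hi2]
        exact ⟨fun h => absurd h hgL, fun h => absurd h haL⟩
    have hq : ∀ g : G, (QuotientGroup.mk g : G ⧸ L) = 1 ∨
        (QuotientGroup.mk g : G ⧸ L) = QuotientGroup.mk a := by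
      intro g
      rcases hcovL g with h | h
      · exact Or.inl ((QuotientGroup.eq_one_iff g).mpr h)
      · right
        rw [eq_comm, QuotientGroup.eq]
        have e : a⁻¹ * g = a⁻¹ * (g * a) * a⁻¹⁻¹ * (a * a)⁻¹ := by group
        rw [e, haa, inv_one, mul_one]
        exact hLn.conj_mem _ h a⁻¹
    have hGle : commutator G ≤ L := by
      rw [commutator_def, Subgroup.commutator_le]
      intro g _ h _
      rw [← QuotientGroup.eq_one_iff]
      show (QuotientGroup.mk' L) ⁅g, h⁆ = 1
      rw [map_commutatorElement, commutatorElement_eq_one_iff_commute]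
      rcases hq g with h1 | h1 <;> rcases hq h with h2 | h2
      · show Commute (QuotientGroup.mk g : G ⧸ L) (QuotientGroup.mk h)
        rw [h1]; exact Commute.one_left _
      · show Commute (QuotientGroup.mk g : G ⧸ L) (QuotientGroup.mk h)
        rw [h1]; exact Commute.one_left _
      · show Commute (QuotientGroup.mk g : G ⧸ L) (QuotientGroup.mk h)
        rw [h2]; exact Commute.one_right _
      · show Commute (QuotientGroup.mk g : G ⧸ L) (QuotientGroup.mk h)
        rw [h1, h2]
    have hLeq : L = commutator G := le_antisymm hLle hGle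
    -- center of L trivial
    have hcenL : Subgroup.center ↥L = ⊥ := by
      rw [eq_bot_iff]
      intro x hx
      rw [Subgroup.mem_bot]
      apply Subtype.ext
      have h1 : (x : G) ∈ layerOf (⊤ : Subgroup G) ⊓
          Subgroup.centralizer (layerOf (⊤ : Subgroup G) : Set G) := by
        rw [hC.layer]
        refine Subgroup.mem_inf.mpr ⟨x.2, ?_⟩
        rw [Subgroup.mem_centralizer_iff]
        intro y hy
        have := Subgroup.mem_center_iff.mp hx ⟨y, hy⟩
        exact congrArg Subtype.val this
      rw [center_layerOf_eq, hC.fit, hZ] at h1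
      exact (Subgroup.mem_bot.mp h1.1)
    have hQ : Cfsg.IsQuasisimple ↥L := (qs_iff_QS L).mpr hqs
    haveI hsq : IsSimpleGroup (↥L ⧸ Subgroup.center ↥L) := hQ.2
    have e : ↥L ≃* ↥L ⧸ Subgroup.center ↥L :=
      (QuotientGroup.quotientBot.symm).trans (QuotientGroup.quotientMulEquivOfEq hcenL.symm)
    have hsL : IsSimpleGroup ↥L := e.isSimpleGroup
    rw [← hLeq]
    exact hsL

end Cfsg.Agent.h26TTQ
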