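import Mathlib
import Cfsg.Agent.Lib_helper26_LS3a
import Cfsg.Agent.Lib_helper26_TTY
import Cfsg.Agent.Lib_helper26_TTP2

set_option autoImplicit false
set_option linter.style.haveILetI false
set_option linter.unusedSectionVars false
set_option linter.unusedVariables false

/-! 3-transposition sets in which the commuting neighbours of each point form a line: the two cases. -/

open Cfsg

namespace Cfsg.Agent.h26LS3

open Cfsg.Agent.h26TTW Cfsg.Agent.helper15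

variable {G : Type*} [Group G] {D : Set G}

theorem conj_inj (hTS : IsThreeTranspositionSet D) {u v w : G} (hu : u ∈ D) (hv : v ∈ D)
    (hw : w ∈ D) (huw : ¬ Commute u w) (hvw : ¬ Commute v w)
    (h : u * w * u⁻¹ = v * w * v⁻¹) : u = v := by
  rw [braid hTS hu hw huw, braid hTS hv hw hvw] at h
  exact mul_left_cancel (mul_right_cancel h)

theorem conj_mul_cancel (a u v e : G)
    (h : (a * u) * e * (a * u)⁻¹ = (a * v) * e * (a * v)⁻¹) :
    u * e * u⁻¹ = v * e * v⁻¹ := by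
  have e1 : ∀ t : G, (a * t) * e * (a * t)⁻¹ = a * (t * e * t⁻¹) * a⁻¹ := by intro t; group
  rw [e1, e1] at h
  exact mul_left_cancel (mul_right_cancel h)

theorem conj_mul_cancel' (a b d e : G)
    (h : (a * d) * e * (a * d)⁻¹ = (b * d) * e * (b * d)⁻¹) :
    a * (d * e * d⁻¹) * a⁻¹ = b * (d * e * d⁻¹) * b⁻¹ := by
  have e1 : ∀ t : G, (t * d) * e * (t * d)⁻¹ = t * (d * e * d⁻¹) * t⁻¹ := by intro t; group
  rw [e1, e1] at h
  exact h

theorem not_comm_conj {a d e : G} (cad : Commute a d) (nea : ¬ Commute e a) :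
    ¬ Commute a (d * e * d⁻¹) := by
  intro h
  have h1 : d * a * d⁻¹ = a := by rw [← cad.eq]; group
  rw [← h1] at h
  exact nea ((conj_comm_iff d a e).mp h).symm

theorem mem_cent_singleton (e z : G) :
    z ∈ Subgroup.centralizer ({e} : Set G) ↔ Commute z e := by
  rw [Subgroup.mem_centralizer_iff]
  constructor
  · intro h
    exact (h e (Set.mem_singleton e)).symm
  · intro h x hx
    rw [Set.mem_singleton_iff] at hx
    rw [hx]; exact h.eq.symm

theorem conj_Dc_of_comm (hconj : ∀ g : G, ∀ y ∈ D, g * y * g⁻¹ ∈ D) {g e y : G}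
    (hg : Commute g e) (hy : y ∈ Dc D e) : g * y * g⁻¹ ∈ Dc D e := by
  have h1 : g * e * g⁻¹ = e := by rw [hg.eq]; group
  have := (mem_Dc_conj hconj g e y).mpr hy
  rwa [h1] at this

section line2

variable (hTS : IsThreeTranspositionSet D) (hconj : ∀ g : G, ∀ y ∈ D, g * y * g⁻¹ ∈ D)
  (hL : LocalS3 D)

include hTS hconj hL

theorem in_range_of_comm {ψ : Equiv.Perm (Fin 5) →* G} (hinj : Function.Injective ψ)
    (hsw : ∀ i j : Fin 5, i ≠ j → ψ (Equiv.swap i j) ∈ D) (i j k l m : Fin 5)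
    (hside : i ≠ j ∧ k ≠ l ∧ k ≠ m ∧ l ≠ m ∧ Equiv.swap i j ≠ Equiv.swap k l ∧
      Equiv.swap i j ≠ Equiv.swap k m ∧ Equiv.swap i j ≠ Equiv.swap l m ∧
      Equiv.swap k l ≠ Equiv.swap k m ∧ Equiv.swap k l ≠ Equiv.swap l m ∧
      Equiv.swap k m ≠ Equiv.swap l m ∧
      Equiv.swap i j * Equiv.swap k l = Equiv.swap k l * Equiv.swap i j ∧
      Equiv.swap i j * Equiv.swap k m = Equiv.swap k m * Equiv.swap i j ∧
      Equiv.swap i j * Equiv.swap l m = Equiv.swap l m * Equiv.swap i j)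
    {y : G} (hy : y ∈ D) (hc : Commute (ψ (Equiv.swap i j)) y) : ∃ π, ψ π = y := by
  obtain ⟨hij, hkl, hkm, hlm, n1, n2, n3, n4, n5, n6, c1, c2, c3⟩ := hside
  by_cases hyt : y = ψ (Equiv.swap i j)
  · exact ⟨_, hyt.symm⟩
  have hτ := hsw i j hij
  have hyDc : y ∈ Dc D (ψ (Equiv.swap i j)) := ⟨hy, hyt, hc⟩
  have mk : ∀ σ : Equiv.Perm (Fin 5), ψ σ ∈ D → Equiv.swap i j ≠ σ →
      Equiv.swap i j * σ = σ * Equiv.swap i j → ψ σ ∈ Dc D (ψ (Equiv.swap i j)) := by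
    intro σ h1 h2 h3
    refine ⟨h1, fun h => h2 (hinj h).symm, ?_⟩
    show ψ _ * ψ σ = ψ σ * ψ _
    rw [← map_mul, ← map_mul, h3]
  have m1 := mk _ (hsw k l hkl) n1 c1
  have m2 := mk _ (hsw k m hkm) n2 c2
  have m3 := mk _ (hsw l m hlm) n3 c3
  rcases (hL _ hτ).2.1 y hyDc _ m1 _ m2 _ m3 with h | h | h | h | h | h
  · exact ⟨_, h.symm⟩
  · exact ⟨_, h.symm⟩
  · exact ⟨_, h.symm⟩
  · exact absurd (hinj h) n4
  · exact absurd (hinj h) n5
  · exact absurd (hinj h) n6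

set_option maxRecDepth 100000 in
theorem s5_case {s₁ s₂ s₃ s₄ : G} (h1 : s₁ ∈ D) (h2 : s₂ ∈ D) (h3 : s₃ ∈ D) (h4 : s₄ ∈ D)
    (n12 : ¬ Commute s₁ s₂) (n23 : ¬ Commute s₂ s₃) (n34 : ¬ Commute s₃ s₄)
    (c13 : Commute s₁ s₃) (c14 : Commute s₁ s₄) (c24 : Commute s₂ s₄) (hne : s₁ ≠ s₃) :
    Nonempty (↥(Subgroup.closure D) ≃* Equiv.Perm (Fin 5)) := by
  have hne' : s₁ * s₃ ≠ 1 := by
    intro h
    apply hne
    have : s₁ = s₃⁻¹ := eq_inv_of_mul_eq_one_left h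
    rw [this, inv_eq hTS h3]
  obtain ⟨ψ, hinj, e01, e12, e23, e34⟩ := Cfsg.Agent.h26S5.exists_injective_S5 s₁ s₂ s₃ s₄
    (Cfsg.Agent.h26S4.sq_eq_one_of_mem hTS h1) (Cfsg.Agent.h26S4.sq_eq_one_of_mem hTS h2)
    (Cfsg.Agent.h26S4.sq_eq_one_of_mem hTS h3) (Cfsg.Agent.h26S4.sq_eq_one_of_mem hTS h4)
    (cube_of_not_comm hTS h1 h2 n12) (cube_of_not_comm hTS h2 h3 n23)
    (cube_of_not_comm hTS h3 h4 n34) (Cfsg.Agent.h26S4.sq_of_commute hTS h1 h3 c13)
    (Cfsg.Agent.h26S4.sq_of_commute hTS h1 h4 c14)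
    (Cfsg.Agent.h26S4.sq_of_commute hTS h2 h4 c24) hne'
  have hsw : ∀ i j : Fin 5, i ≠ j → ψ (Equiv.swap i j) ∈ D := by
    intro i j hij
    obtain ⟨c, hc⟩ := isConj_iff.mp
      (Equiv.Perm.isConj_swap (show (0 : Fin 5) ≠ 1 by decide) hij)
    rw [← hc, map_mul, map_mul, map_inv, e01]
    exact hconj _ _ h1
  have hsub : ∀ y ∈ D, ∃ π, ψ π = y := by
    intro y hy
    by_contra hcon
    have k01 : ¬ Commute (ψ (Equiv.swap 0 1)) y := fun h => hcon
      (in_range_of_comm hTS hconj hL hinj hsw 0 1 2 3 4 (by decide +kernel) hy h)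
    have k23 : ¬ Commute (ψ (Equiv.swap 2 3)) y := fun h => hcon
      (in_range_of_comm hTS hconj hL hinj hsw 2 3 0 1 4 (by decide +kernel) hy h)
    have k02 : ¬ Commute (ψ (Equiv.swap 0 2)) y := fun h => hcon
      (in_range_of_comm hTS hconj hL hinj hsw 0 2 1 3 4 (by decide +kernel) hy h)
    have k13 : ¬ Commute (ψ (Equiv.swap 1 3)) y := fun h => hcon
      (in_range_of_comm hTS hconj hL hinj hsw 1 3 0 2 4 (by decide +kernel) hy h)
    have k03 : ¬ Commute (ψ (Equiv.swap 0 3)) y := fun h => hcon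
      (in_range_of_comm hTS hconj hL hinj hsw 0 3 1 2 4 (by decide +kernel) hy h)
    have k12 : ¬ Commute (ψ (Equiv.swap 1 2)) y := fun h => hcon
      (in_range_of_comm hTS hconj hL hinj hsw 1 2 0 3 4 (by decide +kernel) hy h)
    have cc : ∀ σ τ : Equiv.Perm (Fin 5), σ * τ = τ * σ → Commute (ψ σ) (ψ τ) := by
      intro σ τ h
      show ψ σ * ψ τ = ψ τ * ψ σ
      rw [← map_mul, ← map_mul, h]
    have nn : ∀ σ τ : Equiv.Perm (Fin 5), σ ≠ τ → ψ σ ≠ ψ τ := fun σ τ h h' => h (hinj h')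
    have hrel : (ψ (Equiv.swap 0 1) * ψ (Equiv.swap 2 3)) *
        (ψ (Equiv.swap 0 2) * ψ (Equiv.swap 1 3)) = ψ (Equiv.swap 0 3) * ψ (Equiv.swap 1 2) := by
      have h0 : (Equiv.swap (0 : Fin 5) 1 * Equiv.swap 2 3) * (Equiv.swap 0 2 * Equiv.swap 1 3) =
          Equiv.swap 0 3 * Equiv.swap 1 2 := by decide +kernel
      have := congrArg ψ h0
      simpa only [map_mul] using this
    exact klein_contra hTS hconj hL (hsw 0 1 (by decide)) (hsw 2 3 (by decide))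
      (hsw 0 2 (by decide)) (hsw 1 3 (by decide)) (hsw 0 3 (by decide)) (hsw 1 2 (by decide)) hy
      (nn _ _ (by decide +kernel)) (cc _ _ (by decide +kernel))
      (nn _ _ (by decide +kernel)) (cc _ _ (by decide +kernel))
      (nn _ _ (by decide +kernel)) (cc _ _ (by decide +kernel))
      k01 (fun h => k23 h.symm) k02 (fun h => k13 h.symm) k03 (fun h => k12 h.symm) hrel
  have hrange : ψ.range = Subgroup.closure D := by
    apply le_antisymm
    · rw [MonoidHom.range_eq_map, ← Equiv.Perm.closure_isSwap, MonoidHom.map_closure,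
        Subgroup.closure_le]
      rintro _ ⟨σ, ⟨i, j, hij, rfl⟩, rfl⟩
      exact Subgroup.subset_closure (hsw i j hij)
    · rw [Subgroup.closure_le]
      intro y hy
      obtain ⟨π, hπ⟩ := hsub y hy
      exact ⟨π, hπ⟩
  exact ⟨(MulEquiv.subgroupCongr hrange.symm).trans (MonoidHom.ofInjective hinj).symm⟩

end line2

end Cfsg.Agent.h26LS3
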