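import Mathlib
import Cfsg.Agent.Lib_helper26_LS3b

set_option autoImplicit false
set_option linter.style.haveILetI false
set_option linter.unusedSectionVars false
set_option linter.unusedVariables false

/-! 3-transposition sets in which the commuting neighbours of each point form a line: the
complete bipartite case. -/

open Cfsg

namespace Cfsg.Agent.h26LS3

open Cfsg.Agent.h26TTW Cfsg.Agent.helper15

variable {G : Type*} [Group G] {D : Set G}

section line3

variable [Finite G] (hTS : IsThreeTranspositionSet D)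
  (hconj : ∀ g : G, ∀ y ∈ D, g * y * g⁻¹ ∈ D) (hL : LocalS3 D)

include hTS hconj hL

theorem k33_outside_aux {d ci a b e : G} (hd : d ∈ D) (hci : ci ∈ D) (ha : a ∈ D) (hb : b ∈ D)
    (he : e ∈ D) (C : Subgroup G) (hCe : ∀ z : G, z ∈ C ↔ Commute z e)
    (hO3 : Nat.card (pCore 3 ↥C) = 3)
    (hblk1 : Dc D ci = Dc D d) (hblk2 : Dc D a = Dc D b) (hncd : ¬ Commute ci d)
    (cad : Commute a d) (caci : Commute a ci) (cbd : Commute b d) (cbci : Commute b ci)
    (nea : ¬ Commute e a) (ned : ¬ Commute e d) (neci : ¬ Commute e ci)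
    (hE : (b * d) * e * (b * d)⁻¹ = (a * ci) * e * (a * ci)⁻¹) : False := by
  have ia := inv_eq hTS ha
  have ib := inv_eq hTS hb
  have id' := inv_eq hTS hd
  have ici := inv_eq hTS hci
  obtain ⟨x, hx⟩ : ∃ x, x = (ci * d) * (a * b) := ⟨_, rfl⟩
  have hxO : x ∈ pCore 3 G := by
    rw [hx]
    exact Subgroup.mul_mem _ (mul_mem_pCore_three hTS hconj hci hd hblk1)
      (mul_mem_pCore_three hTS hconj ha hb hblk2)
  have hxe : Commute x e := by
    have e1 : x = (a * ci)⁻¹ * (b * d) := by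
      rw [hx, mul_inv_rev, ia, ici]
      calc ci * d * (a * b) = ci * (d * a) * b := by group
        _ = ci * (a * d) * b := by rw [cad.eq]
        _ = ci * a * (d * b) := by group
        _ = ci * a * (b * d) := by rw [cbd.eq]
    show x * e = e * x
    rw [e1]
    have h' : (a * ci)⁻¹ * ((b * d) * e * (b * d)⁻¹) * (a * ci) = e := by rw [hE]; group
    calc (a * ci)⁻¹ * (b * d) * e
        = ((a * ci)⁻¹ * ((b * d) * e * (b * d)⁻¹) * (a * ci)) * ((a * ci)⁻¹ * (b * d)) := by group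
      _ = e * ((a * ci)⁻¹ * (b * d)) := by rw [h']
  have had : a ≠ d := by
    intro h; apply hncd; rw [← h]; exact caci.symm
  have haci : a ≠ ci := by
    intro h; apply hncd; rw [← h]; exact cad
  have hE1 : (a * d) * e * (a * d)⁻¹ ∈ Dc D e :=
    conj_pair_mem hTS hconj hL ha hd he had cad (fun h => nea h.symm) ned
  have hE2 : (a * ci) * e * (a * ci)⁻¹ ∈ Dc D e :=
    conj_pair_mem hTS hconj hL ha hci he haci caci (fun h => nea h.symm) neci
  have hE12 : (a * d) * e * (a * d)⁻¹ ≠ (a * ci) * e * (a * ci)⁻¹ := by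
    intro h
    have := conj_inj hTS hd hci he (fun h => ned h.symm) (fun h => neci h.symm)
      (conj_mul_cancel a d ci e h)
    apply hncd; rw [this]
  -- conjugation by `a * d` inverts `x`
  have hinvx : (a * d) * x * (a * d)⁻¹ = x⁻¹ := by
    have hP : (a * d) * (ci * d) * (a * d)⁻¹ = d * ci := by
      have h1 : Commute a (d * ci) := cad.mul_right caci
      calc (a * d) * (ci * d) * (a * d)⁻¹ = a * (d * ci * (d * d⁻¹)) * a⁻¹ := by group
        _ = a * (d * ci) * a⁻¹ := by rw [mul_inv_cancel, mul_one]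
        _ = (d * ci) * a * a⁻¹ := by rw [h1.eq]
        _ = d * ci := by group
    have hQ : (a * d) * (a * b) * (a * d)⁻¹ = b * a := by
      have h1 : Commute d (a * b) := cad.symm.mul_right cbd.symm
      calc (a * d) * (a * b) * (a * d)⁻¹ = a * (d * (a * b)) * d⁻¹ * a⁻¹ := by group
        _ = a * ((a * b) * d) * d⁻¹ * a⁻¹ := by rw [h1.eq]
        _ = (a * a) * b * a⁻¹ := by group
        _ = b * a := by rw [sq_one hTS ha, one_mul, ia]
    have hPQ : Commute (d * ci) (b * a) :=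
      (cbd.symm.mul_right cad.symm).mul_left (cbci.symm.mul_right caci.symm)
    calc (a * d) * x * (a * d)⁻¹
        = ((a * d) * (ci * d) * (a * d)⁻¹) * ((a * d) * (a * b) * (a * d)⁻¹) := by
          rw [hx]; group
      _ = (d * ci) * (b * a) := by rw [hP, hQ]
      _ = (b * a) * (d * ci) := hPQ.eq
      _ = x⁻¹ := by rw [hx, mul_inv_rev, mul_inv_rev, mul_inv_rev, ia, ib, id', ici]
  obtain ⟨E1, hE1def⟩ : ∃ E1, E1 = (a * d) * e * (a * d)⁻¹ := ⟨_, rfl⟩
  obtain ⟨E2, hE2def⟩ : ∃ E2, E2 = (a * ci) * e * (a * ci)⁻¹ := ⟨_, rfl⟩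
  rw [← hE1def] at hE1 hE12
  rw [← hE2def] at hE2 hE12
  have hxE1 : Commute x E1 := by
    have := (conj_comm_iff (a * d) x e).mpr hxe
    rw [hinvx, ← hE1def] at this
    exact Commute.inv_left_iff.mp this
  have iE1 := inv_eq hTS hE1.1
  have iE2 := inv_eq hTS hE2.1
  obtain ⟨s, hs⟩ : ∃ s, s = E1 * E2 := ⟨_, rfl⟩
  have hs1 : s ≠ 1 := by
    intro h; apply hE12
    rw [hs] at h
    have : E1 = E2⁻¹ := eq_inv_of_mul_eq_one_left h
    rw [this, iE2]
  have hsinv : E1 * s * E1⁻¹ = s⁻¹ := by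
    rw [hs, mul_inv_rev, iE1, iE2, ← mul_assoc, sq_one hTS hE1.1, one_mul]
  have hxC : x ∈ C := (hCe x).mpr hxe
  have hsC : s ∈ C := (hCe s).mpr (by rw [hs]; exact (hE1.2.2.symm).mul_left hE2.2.2.symm)
  -- the normal 3-subgroups of `C`
  have hN1 : (pCore 3 G).subgroupOf C ≤ pCore 3 ↥C := by
    haveI := pCore_normal' (G := G) 3
    exact le_pCore' (Subgroup.Normal.subgroupOf inferInstance C)
      (IsPGroup.comap_subtype (pCore_isPGroup' 3))
  have hYw : ∀ a ∈ Dc D e, ∀ b ∈ Dc D e, Commute a b → a = b := by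
    intro a ha b hb hc
    by_contra hne
    exact (hL e he).1 a ha b hb hne hc
  have hYc : ∀ t ∈ Dc D e, ∀ y ∈ Dc D e, t * y * t⁻¹ ∈ Dc D e := by
    intro t ht y hy
    exact conj_Dc_of_comm hconj ht.2.2.symm hy
  obtain ⟨Q, hQ3, hQmem⟩ := three_group_of_width_one (Dc D e)
    (ts_subset hTS (fun y hy => hy.1)) hYc hYw
  obtain ⟨T, hT⟩ : ∃ T : Subgroup G,
      T = Subgroup.closure {z : G | ∃ u ∈ Dc D e, ∃ v ∈ Dc D e, z = u * v} := ⟨_, rfl⟩
  have hTQ : T ≤ Q := by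
    rw [hT, Subgroup.closure_le]
    rintro z ⟨u, hu, v, hv, rfl⟩
    exact hQmem u hu v hv
  have hT3 : IsPGroup 3 T := hQ3.to_le hTQ
  have hTconj : ∀ g : G, Commute g e → ∀ t ∈ T, g * t * g⁻¹ ∈ T := by
    intro g hg t ht
    rw [hT] at ht ⊢
    apply Cfsg.Agent.h26TTY.conj_mem_closure _ t ht
    rintro z ⟨u, hu, v, hv, rfl⟩
    apply Subgroup.subset_closure
    exact ⟨g * u * g⁻¹, conj_Dc_of_comm hconj hg hu, g * v * g⁻¹, conj_Dc_of_comm hconj hg hv,
      by group⟩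
  have hN2n : (T.subgroupOf C).Normal := by
    constructor
    intro n hn g
    rw [Subgroup.mem_subgroupOf] at hn ⊢
    have := hTconj (g : G) ((hCe _).mp g.2) _ hn
    simpa using this
  have hN2 : T.subgroupOf C ≤ pCore 3 ↥C := le_pCore' hN2n (IsPGroup.comap_subtype hT3)
  have hsT : s ∈ T := by
    rw [hT, hs]; exact Subgroup.subset_closure ⟨E1, hE1, E2, hE2, rfl⟩
  have hxP : (⟨x, hxC⟩ : ↥C) ∈ pCore 3 ↥C :=
    hN1 (by rw [Subgroup.mem_subgroupOf]; exact hxO)
  have hsP : (⟨s, hsC⟩ : ↥C) ∈ pCore 3 ↥C :=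
    hN2 (by rw [Subgroup.mem_subgroupOf]; exact hsT)
  haveI : Fact (Nat.Prime 3) := ⟨Nat.prime_three⟩
  have hz : (⟨⟨x, hxC⟩, hxP⟩ : ↥(pCore 3 ↥C)) ∈
      Subgroup.zpowers (⟨⟨s, hsC⟩, hsP⟩ : ↥(pCore 3 ↥C)) := by
    apply mem_zpowers_of_prime_card hO3
    intro h
    apply hs1
    have := congrArg (fun z : ↥(pCore 3 ↥C) => ((z : ↥C) : G)) h
    simpa using this
  obtain ⟨k, hk⟩ := Subgroup.mem_zpowers_iff.mp hz
  have hk' : s ^ k = x := by
    have := congrArg (fun z : ↥(pCore 3 ↥C) => ((z : ↥C) : G)) hk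
    simpa using this
  have hinv2 : E1 * x * E1⁻¹ = x⁻¹ := by
    rw [← hk', ← conj_zpow, hsinv, inv_zpow]
  have hcomm2 : E1 * x * E1⁻¹ = x := by
    rw [← hxE1.eq]; group
  have hxx : x = x⁻¹ := hcomm2.symm.trans hinv2
  have hx2 : x ^ 2 = 1 := by
    rw [sq]; exact mul_eq_one_iff_eq_inv.mpr hxx
  have hx1 : x = 1 := eq_one_of_sq_of_mem hxO hx2
  have h1 : ci * d = b * a := by
    have : ci * d = (a * b)⁻¹ := by
      rw [hx] at hx1
      exact eq_inv_of_mul_eq_one_left hx1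
    rw [this, mul_inv_rev, ia, ib]
  apply hncd
  have h2 : Commute (ci * d) d := by rw [h1]; exact cbd.mul_left cad
  have h3 : ci = (ci * d) * d⁻¹ := by group
  rw [h3]
  exact h2.mul_left (Commute.refl d).inv_left

theorem k33_outside {d c₁ c₂ a b e : G} (hd : d ∈ D) (hc₁ : c₁ ∈ D) (hc₂ : c₂ ∈ D)
    (ha : a ∈ D) (hb : b ∈ D) (he : e ∈ D)
    (C : Subgroup G) (hCe : ∀ z : G, z ∈ C ↔ Commute z e) (hO3 : Nat.card (pCore 3 ↥C) = 3)
    (hb1 : Dc D c₁ = Dc D d) (hb2 : Dc D c₂ = Dc D d) (hb3 : Dc D a = Dc D b)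
    (n1 : ¬ Commute c₁ d) (n2 : ¬ Commute c₂ d) (n12 : c₁ ≠ c₂) (nab : a ≠ b)
    (cad : Commute a d) (cac₁ : Commute a c₁) (cac₂ : Commute a c₂) (cbd : Commute b d)
    (cbc₁ : Commute b c₁) (cbc₂ : Commute b c₂)
    (nea : ¬ Commute e a) (neb : ¬ Commute e b) (ned : ¬ Commute e d) (nec₁ : ¬ Commute e c₁)
    (nec₂ : ¬ Commute e c₂) : False := by
  have had : a ≠ d := by
    intro h; apply n1; rw [← h]; exact cac₁.symm
  have hac₁ : a ≠ c₁ := by
    intro h; apply n1; rw [← h]; exact cad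
  have hac₂ : a ≠ c₂ := by
    intro h; apply n2; rw [← h]; exact cad
  have hbd : b ≠ d := by
    intro h; apply n1; rw [← h]; exact cbc₁.symm
  have hE1 := conj_pair_mem hTS hconj hL ha hd he had cad (fun h => nea h.symm) ned
  have hE2 := conj_pair_mem hTS hconj hL ha hc₁ he hac₁ cac₁ (fun h => nea h.symm) nec₁
  have hE3 := conj_pair_mem hTS hconj hL ha hc₂ he hac₂ cac₂ (fun h => nea h.symm) nec₂
  have hE4 := conj_pair_mem hTS hconj hL hb hd he hbd cbd (fun h => neb h.symm) ned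
  rcases (hL e he).2.1 _ hE1 _ hE2 _ hE3 _ hE4 with h | h | h | h | h | h
  · have := conj_inj hTS hd hc₁ he (fun h => ned h.symm) (fun h => nec₁ h.symm)
      (conj_mul_cancel a d c₁ e h)
    apply n1; rw [this]
  · have := conj_inj hTS hd hc₂ he (fun h => ned h.symm) (fun h => nec₂ h.symm)
      (conj_mul_cancel a d c₂ e h)
    apply n2; rw [this]
  · have := conj_inj hTS ha hb (hconj d e he) (not_comm_conj cad nea) (not_comm_conj cbd neb)
      (conj_mul_cancel' a b d e h)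
    exact nab this
  · have := conj_inj hTS hc₁ hc₂ he (fun h => nec₁ h.symm) (fun h => nec₂ h.symm)
      (conj_mul_cancel a c₁ c₂ e h)
    exact n12 this
  · exact k33_outside_aux hTS hconj hL hd hc₁ ha hb he C hCe hO3 hb1 hb3 n1 cad cac₁ cbd cbc₁
      nea ned nec₁ h.symm
  · exact k33_outside_aux hTS hconj hL hd hc₂ ha hb he C hCe hO3 hb2 hb3 n2 cad cac₂ cbd cbc₂
      nea ned nec₂ h.symm

end line3

end Cfsg.Agent.h26LS3
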