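import Mathlib
import Cfsg.Agent.Lib_helper26_LS3c

set_option autoImplicit false
set_option linter.style.haveILetI false
set_option linter.unusedSectionVars false
set_option linter.unusedVariables false

/-! 3-transposition sets in which the commuting neighbours of each point form a line: the
classification. -/

open Cfsg

namespace Cfsg.Agent.h26LS3

open Cfsg.Agent.h26TTW Cfsg.Agent.helper15

variable {G : Type*} [Group G] {D : Set G}

section line4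

variable [Finite G] (hTS : IsThreeTranspositionSet D)
  (hconj : ∀ g : G, ∀ y ∈ D, g * y * g⁻¹ ∈ D) (hL : LocalS3 D)

include hTS hconj hL

theorem k33_case {d a b c c₁ c₂ : G} (hd : d ∈ D)
    (hO3 : ∀ e ∈ D, Nat.card (pCore 3 ↥(Subgroup.centralizer ({e} : Set G))) = 3)
    (φ₁ : ↥(Subgroup.closure (Dc D c)) ≃* Equiv.Perm (Fin 3))
    (φ₂ : ↥(Subgroup.closure (Dc D d)) ≃* Equiv.Perm (Fin 3))
    (ha : a ∈ Dc D d) (hb : b ∈ Dc D d) (hc : c ∈ Dc D d) (hab : a ≠ b) (hac : a ≠ c)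
    (hbc : b ≠ c) (hline : ∀ y ∈ Dc D d, y = a ∨ y = b ∨ y = c)
    (hc₁ : c₁ ∈ Dc D c) (hc₂ : c₂ ∈ Dc D c) (h12 : c₁ ≠ c₂) (h1d : c₁ ≠ d) (h2d : c₂ ≠ d)
    (hK : ∀ y ∈ Dc D c, y ≠ d → ∀ x ∈ Dc D d, x ≠ c → Commute y x) :
    Nonempty (↥(Subgroup.closure D) ≃* Equiv.Perm (Fin 3) × Equiv.Perm (Fin 3)) := by
  have hcD : c ∈ D := hc.1
  have hdc : d ∈ Dc D c := ⟨hd, hc.2.1.symm, hc.2.2.symm⟩
  have n1d : ¬ Commute c₁ d := (hL c hcD).1 c₁ hc₁ d hdc h1d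
  have n2d : ¬ Commute c₂ d := (hL c hcD).1 c₂ hc₂ d hdc h2d
  have c1a : Commute c₁ a := hK c₁ hc₁ h1d a ha hac
  have c1b : Commute c₁ b := hK c₁ hc₁ h1d b hb hbc
  have c2a : Commute c₂ a := hK c₂ hc₂ h2d a ha hac
  have c2b : Commute c₂ b := hK c₂ hc₂ h2d b hb hbc
  have c1c : Commute c₁ c := hc₁.2.2.symm
  have c2c : Commute c₂ c := hc₂.2.2.symm
  have a_ne_c1 : a ≠ c₁ := fun h => n1d (by rw [← h]; exact ha.2.2.symm)
  have b_ne_c1 : b ≠ c₁ := fun h => n1d (by rw [← h]; exact hb.2.2.symm)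
  have a_ne_c2 : a ≠ c₂ := fun h => n2d (by rw [← h]; exact ha.2.2.symm)
  have b_ne_c2 : b ≠ c₂ := fun h => n2d (by rw [← h]; exact hb.2.2.symm)
  have hac1 : a ∈ Dc D c₁ := ⟨ha.1, a_ne_c1, c1a⟩
  have hbc1 : b ∈ Dc D c₁ := ⟨hb.1, b_ne_c1, c1b⟩
  have hcc1 : c ∈ Dc D c₁ := ⟨hcD, hc₁.2.1.symm, c1c⟩
  have hac2 : a ∈ Dc D c₂ := ⟨ha.1, a_ne_c2, c2a⟩
  have hbc2 : b ∈ Dc D c₂ := ⟨hb.1, b_ne_c2, c2b⟩
  have hcc2 : c ∈ Dc D c₂ := ⟨hcD, hc₂.2.1.symm, c2c⟩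
  have blk1 : Dc D c₁ = Dc D d :=
    Dc_eq_of_three hTS hconj hL hc₁.1 hd hac1 hbc1 hcc1 ha hb hc hab hac hbc
  have blk2 : Dc D c₂ = Dc D d :=
    Dc_eq_of_three hTS hconj hL hc₂.1 hd hac2 hbc2 hcc2 ha hb hc hab hac hbc
  have hda : d ∈ Dc D a := ⟨hd, ha.2.1.symm, ha.2.2.symm⟩
  have hc1a : c₁ ∈ Dc D a := ⟨hc₁.1, a_ne_c1.symm, c1a.symm⟩
  have hc2a : c₂ ∈ Dc D a := ⟨hc₂.1, a_ne_c2.symm, c2a.symm⟩
  have hdb : d ∈ Dc D b := ⟨hd, hb.2.1.symm, hb.2.2.symm⟩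
  have hc1b : c₁ ∈ Dc D b := ⟨hc₁.1, b_ne_c1.symm, c1b.symm⟩
  have hc2b : c₂ ∈ Dc D b := ⟨hc₂.1, b_ne_c2.symm, c2b.symm⟩
  have blka : Dc D a = Dc D c :=
    Dc_eq_of_three hTS hconj hL ha.1 hcD hda hc1a hc2a hdc hc₁ hc₂ h1d.symm h2d.symm h12
  have blkb : Dc D b = Dc D c :=
    Dc_eq_of_three hTS hconj hL hb.1 hcD hdb hc1b hc2b hdc hc₁ hc₂ h1d.symm h2d.symm h12
  have hsix : ∀ e ∈ D, e ∈ Dc D c ∪ Dc D d := by
    intro e he
    by_contra hcon
    rw [Set.mem_union, not_or] at hcon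
    obtain ⟨hn1, hn2⟩ := hcon
    have key : ∀ t ∈ D, (Dc D t = Dc D c ∨ Dc D t = Dc D d) → (t ∈ Dc D c ∨ t ∈ Dc D d) →
        ¬ Commute e t := by
      intro t ht hblk htm hcomm
      by_cases het : e = t
      · rw [het] at hn1 hn2
        rcases htm with h | h
        · exact hn1 h
        · exact hn2 h
      · have hmem : e ∈ Dc D t := ⟨he, het, hcomm.symm⟩
        rcases hblk with h | h
        · rw [h] at hmem; exact hn1 hmem
        · rw [h] at hmem; exact hn2 hmem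
    have ned := key d hd (Or.inr rfl) (Or.inl hdc)
    have nec₁ := key c₁ hc₁.1 (Or.inr blk1) (Or.inl hc₁)
    have nec₂ := key c₂ hc₂.1 (Or.inr blk2) (Or.inl hc₂)
    have nea := key a ha.1 (Or.inl blka) (Or.inr ha)
    have neb := key b hb.1 (Or.inl blkb) (Or.inr hb)
    exact k33_outside hTS hconj hL hd hc₁.1 hc₂.1 ha.1 hb.1 he _ (mem_cent_singleton e)
      (hO3 e he) blk1 blk2 (blka.trans blkb.symm) n1d n2d h12 hab ha.2.2.symm c1a.symm c2a.symm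
      hb.2.2.symm c1b.symm c2b.symm nea neb ned nec₁ nec₂
  have hcomm0 : ∀ y ∈ Dc D c, ∀ x ∈ Dc D d, Commute y x := by
    intro y hy x hx
    by_cases hxc : x = c
    · rw [hxc]; exact hy.2.2.symm
    by_cases hyd : y = d
    · rw [hyd]; exact hx.2.2
    exact hK y hy hyd x hx hxc
  have hcomm1 : ∀ k₁ ∈ Subgroup.closure (Dc D c), ∀ x ∈ Dc D d, Commute k₁ x := by
    intro k₁ hk₁ x hx
    have : Subgroup.closure (Dc D c) ≤ Subgroup.centralizer ({x} : Set G) := by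
      rw [Subgroup.closure_le]
      intro y hy
      exact (mem_cent_singleton x y).mpr (hcomm0 y hy x hx)
    exact (mem_cent_singleton x k₁).mp (this hk₁)
  have hcomm2 : ∀ k₁ ∈ Subgroup.closure (Dc D c), ∀ k₂ ∈ Subgroup.closure (Dc D d),
      Commute k₁ k₂ := by
    intro k₁ hk₁ k₂ hk₂
    have : Subgroup.closure (Dc D d) ≤ Subgroup.centralizer ({k₁} : Set G) := by
      rw [Subgroup.closure_le]
      intro x hx
      exact (mem_cent_singleton k₁ x).mpr (hcomm1 k₁ hk₁ x hx).symm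
    exact ((mem_cent_singleton k₁ k₂).mp (this hk₂)).symm
  have hcomm3 : ∀ (m : ↥(Subgroup.closure (Dc D c))) (n : ↥(Subgroup.closure (Dc D d))),
      Commute ((Subgroup.closure (Dc D c)).subtype m) ((Subgroup.closure (Dc D d)).subtype n) :=
    fun m n => hcomm2 m m.2 n n.2
  have hdisj : Disjoint (Subgroup.closure (Dc D c)).subtype.range
      (Subgroup.closure (Dc D d)).subtype.range := by
    rw [Subgroup.range_subtype, Subgroup.range_subtype, Subgroup.disjoint_def]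
    intro z hz1 hz2
    have hcen : ∀ τ : Equiv.Perm (Fin 3), φ₁ ⟨z, hz1⟩ * τ = τ * φ₁ ⟨z, hz1⟩ := by
      intro τ
      obtain ⟨w, rfl⟩ := φ₁.surjective τ
      rw [← map_mul, ← map_mul]
      congr 1
      apply Subtype.ext
      exact (hcomm2 w w.2 z hz2).eq.symm
    have h1 := s3_center _ hcen
    have h2 : (⟨z, hz1⟩ : ↥(Subgroup.closure (Dc D c))) = 1 := by
      apply φ₁.injective; rw [h1, map_one]
    exact congrArg Subtype.val h2
  have hinj : Function.Injective (MonoidHom.noncommCoprod (Subgroup.closure (Dc D c)).subtype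
      (Subgroup.closure (Dc D d)).subtype hcomm3) :=
    (MonoidHom.noncommCoprod_injective _ _ _).mpr
      ⟨Subgroup.subtype_injective _, Subgroup.subtype_injective _, hdisj⟩
  have hrange : (MonoidHom.noncommCoprod (Subgroup.closure (Dc D c)).subtype
      (Subgroup.closure (Dc D d)).subtype hcomm3).range = Subgroup.closure D := by
    rw [MonoidHom.noncommCoprod_range, Subgroup.range_subtype, Subgroup.range_subtype,
      ← Subgroup.closure_union]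
    congr 1
    ext e
    constructor
    · rintro (h | h)
      · exact h.1
      · exact h.1
    · exact hsix e
  exact ⟨(MulEquiv.subgroupCongr hrange.symm).trans
    ((MonoidHom.ofInjective hinj).symm.trans (MulEquiv.prodCongr φ₁ φ₂))⟩

theorem main (hne : D.Nonempty)
    (hiso : ∀ d ∈ D, Nonempty (↥(Subgroup.closure (Dc D d)) ≃* Equiv.Perm (Fin 3)))
    (hO3 : ∀ e ∈ D, Nat.card (pCore 3 ↥(Subgroup.centralizer ({e} : Set G))) = 3) :
    Nonempty (↥(Subgroup.closure D) ≃* Equiv.Perm (Fin 5)) ∨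
      Nonempty (↥(Subgroup.closure D) ≃* Equiv.Perm (Fin 3) × Equiv.Perm (Fin 3)) := by
  obtain ⟨d, hd⟩ := hne
  obtain ⟨a, b, c, ha, hb, hc, hab, hac, hbc, -, hline⟩ := line_struct hTS hconj hL hd
  have hcD := hc.1
  have hdc : d ∈ Dc D c := ⟨hd, hc.2.1.symm, hc.2.2.symm⟩
  obtain ⟨c₁, c₂, hc₁, hc₂, h12, h1d, h2d⟩ : ∃ c₁ c₂, c₁ ∈ Dc D c ∧ c₂ ∈ Dc D c ∧ c₁ ≠ c₂ ∧
      c₁ ≠ d ∧ c₂ ≠ d := by
    obtain ⟨a', b', c', ha', hb', hc', hab', hac', hbc', -, hline'⟩ :=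
      line_struct hTS hconj hL hcD
    rcases hline' d hdc with h | h | h
    · exact ⟨b', c', hb', hc', hbc', by rw [h]; exact hab'.symm, by rw [h]; exact hac'.symm⟩
    · exact ⟨a', c', ha', hc', hac', by rw [h]; exact hab', by rw [h]; exact hbc'.symm⟩
    · exact ⟨a', b', ha', hb', hab', by rw [h]; exact hac', by rw [h]; exact hbc'⟩
  by_cases hcase : ∃ y ∈ Dc D c, y ≠ d ∧ ∃ x ∈ Dc D d, x ≠ c ∧ ¬ Commute y x
  · obtain ⟨y, hy, hyd, x, hx, hxc, hnyx⟩ := hcase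
    left
    have n_dy : ¬ Commute d y := (hL c hcD).1 d hdc y hy hyd.symm
    have n_xc : ¬ Commute x c := (hL d hd).1 x hx c hc hxc
    exact s5_case hTS hconj hL hd hy.1 hx.1 hcD n_dy hnyx n_xc hx.2.2 hc.2.2 hy.2.2.symm
      hx.2.1.symm
  · right
    have hK : ∀ y ∈ Dc D c, y ≠ d → ∀ x ∈ Dc D d, x ≠ c → Commute y x := by
      intro y hy hyd x hx hxc
      by_contra hn
      exact hcase ⟨y, hy, hyd, x, hx, hxc, hn⟩
    obtain ⟨φ₁⟩ := hiso c hcD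
    obtain ⟨φ₂⟩ := hiso d hd
    exact k33_case hTS hconj hL hd hO3 φ₁ φ₂ ha hb hc hab hac hbc hline hc₁ hc₂ h12 h1d h2d hK

end line4

end Cfsg.Agent.h26LS3
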