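import Cfsg.Agent.Lib_helper25_AlperinInd

set_option autoImplicit false
set_option linter.style.haveILetI false
set_option linter.unusedVariables false

namespace Cfsg.Agent.helper26.ModT

open Cfsg Cfsg.FusionSystem Cfsg.Agent.helper25

variable {Ω : Type*} [Group Ω] {S : Subgroup Ω}

theorem sup_hom_mem {P T K : Subgroup Ω} (ψ : ↥(P ⊔ T) →* Ω)
    (hP : ∀ (x : Ω) (hx : x ∈ P), ψ ⟨x, (le_sup_left : P ≤ P ⊔ T) hx⟩ ∈ K)
    (hT : ∀ (x : Ω) (hx : x ∈ T), ψ ⟨x, (le_sup_right : T ≤ P ⊔ T) hx⟩ ∈ K) :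
    ∀ y : ↥(P ⊔ T), ψ y ∈ K := by
  have h : (P ⊔ T).subgroupOf (P ⊔ T) ≤ K.comap ψ := by
    rw [Subgroup.subgroupOf_sup le_sup_left le_sup_right]
    apply sup_le
    · intro y hy; exact hP y (Subgroup.mem_subgroupOf.mp hy)
    · intro y hy; exact hT y (Subgroup.mem_subgroupOf.mp hy)
  intro y
  exact h (Subgroup.mem_subgroupOf.mpr y.2)

theorem stronglyClosed_range_eq [Finite S] (F : FusionSystem S) {T : Subgroup Ω}
    (hT : F.StronglyClosed T) {φ : T →* Ω} (hφ : φ ∈ F.Hom T) : φ.range = T := by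
  haveI : Finite T := finite_of_le S hT.1
  have hle : φ.range ≤ T := by rintro _ ⟨x, rfl⟩; exact hT.2 T le_rfl φ hφ x
  apply Subgroup.eq_of_le_of_card_ge hle
  exact (Nat.card_congr (MonoidHom.ofInjective (F.injective_of_mem hφ)).toEquiv).le

theorem sc_map_mem (F : FusionSystem S) {T D : Subgroup Ω} (hT : F.StronglyClosed T) (hTD : T ≤ D)
    {ψ : D →* Ω} (hψ : ψ ∈ F.Hom D) {t : Ω} (ht : t ∈ T) : ψ ⟨t, hTD ht⟩ ∈ T :=
  hT.2 T le_rfl _ (restrict_mem F hTD hψ) ⟨t, ht⟩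

theorem sc_map_surj [Finite S] (F : FusionSystem S) {T D : Subgroup Ω} (hT : F.StronglyClosed T)
    (hTD : T ≤ D) {ψ : D →* Ω} (hψ : ψ ∈ F.Hom D) {t : Ω} (ht : t ∈ T) :
    ∃ (t' : Ω) (ht' : t' ∈ T), ψ ⟨t', hTD ht'⟩ = t := by
  have h := stronglyClosed_range_eq F hT (restrict_mem F hTD hψ)
  have h2 : t ∈ (ψ.comp (Subgroup.inclusion hTD)).range := by rw [h]; exact ht
  obtain ⟨t', ht'⟩ := h2
  exact ⟨t'.1, t'.2, ht'⟩

/-- the maps of `F` that extend, modulo the strongly closed subgroup `T`, to the product with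
`T`. -/
def quotExtSystem [Finite S] (F : FusionSystem S) (T : Subgroup Ω) (hT : F.StronglyClosed T) :
    FusionSystem S where
  Hom P := {φ | φ ∈ F.Hom P ∧ ∃ ψ ∈ F.Hom (P ⊔ T),
    ∀ x : P, (φ x)⁻¹ * ψ (Subgroup.inclusion le_sup_left x) ∈ T}
  le_of_mem h := F.le_of_mem h.1
  injective_of_mem h := F.injective_of_mem h.1
  conj_mem := by
    intro P g hP hg
    refine ⟨F.conj_mem hP hg, conjHom (P ⊔ T) g, F.conj_mem (sup_le hP hT.1) hg, fun x => ?_⟩
    show (g * (x : Ω) * g⁻¹)⁻¹ * (g * (x : Ω) * g⁻¹) ∈ T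
    rw [inv_mul_cancel]; exact T.one_mem
  comp_mem := by
    rintro P Q φ φ' ⟨hφF, ψ, hψ, hψφ⟩ ⟨hφ'F, ψ', hψ', hψ'φ'⟩ h
    refine ⟨F.comp_mem hφF hφ'F h, ?_⟩
    have hval : ∀ y : ↥(P ⊔ T), ψ y ∈ Q ⊔ T := by
      apply sup_hom_mem
      · intro x hx
        have e : ψ ⟨x, (le_sup_left : P ≤ P ⊔ T) hx⟩ = φ ⟨x, hx⟩ *
            ((φ ⟨x, hx⟩)⁻¹ * ψ (Subgroup.inclusion le_sup_left ⟨x, hx⟩)) := by
          rw [mul_inv_cancel_left]; rfl
        rw [e]
        exact Subgroup.mul_mem _ (Subgroup.mem_sup_left (h _)) (Subgroup.mem_sup_right (hψφ _))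
      · intro t ht
        exact Subgroup.mem_sup_right (sc_map_mem F hT le_sup_right hψ ht)
    refine ⟨ψ'.comp (ψ.codRestrict (Q ⊔ T) hval), F.comp_mem hψ hψ' hval, fun x => ?_⟩
    have ht : (φ x)⁻¹ * ψ (Subgroup.inclusion le_sup_left x) ∈ T := hψφ x
    have e : ψ.codRestrict (Q ⊔ T) hval (Subgroup.inclusion le_sup_left x) =
        Subgroup.inclusion le_sup_left (⟨φ x, h x⟩ : Q) *
          (⟨(φ x)⁻¹ * ψ (Subgroup.inclusion le_sup_left x),
            (le_sup_right : T ≤ Q ⊔ T) ht⟩ : ↥(Q ⊔ T)) := by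
      apply Subtype.ext
      show ψ (Subgroup.inclusion le_sup_left x) =
        φ x * ((φ x)⁻¹ * ψ (Subgroup.inclusion le_sup_left x))
      rw [mul_inv_cancel_left]
    show (φ' (φ.codRestrict Q h x))⁻¹ *
      ψ' (ψ.codRestrict (Q ⊔ T) hval (Subgroup.inclusion le_sup_left x)) ∈ T
    rw [e, map_mul, ← mul_assoc]
    exact T.mul_mem (hψ'φ' ⟨φ x, h x⟩) (sc_map_mem F hT le_sup_right hψ' ht)
  inv_mem := by
    rintro P φ ⟨hφF, ψ, hψ, hψφ⟩
    obtain ⟨χ, hχ, hχφ⟩ := F.inv_mem hφF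
    refine ⟨χ, ⟨hχ, ?_⟩, hχφ⟩
    obtain ⟨ω, hω, hωψ⟩ := F.inv_mem hψ
    have key : ∀ x : P, ∃ (t' : Ω) (ht' : t' ∈ T),
        φ x = ψ (Subgroup.inclusion le_sup_left x * ⟨t', (le_sup_right : T ≤ P ⊔ T) ht'⟩) := by
      intro x
      have ht : ((φ x)⁻¹ * ψ (Subgroup.inclusion le_sup_left x))⁻¹ ∈ T := T.inv_mem (hψφ x)
      obtain ⟨t', ht', e⟩ := sc_map_surj F hT le_sup_right hψ ht
      refine ⟨t', ht', ?_⟩
      rw [map_mul, e]; group
    have hrange : φ.range ⊔ T = ψ.range := by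
      apply le_antisymm
      · apply sup_le
        · rintro _ ⟨x, rfl⟩
          obtain ⟨t', ht', e⟩ := key x
          exact ⟨_, e.symm⟩
        · intro t ht
          obtain ⟨t', ht', e⟩ := sc_map_surj F hT le_sup_right hψ ht
          exact ⟨_, e⟩
      · rintro _ ⟨y, rfl⟩
        revert y
        apply sup_hom_mem
        · intro x hx
          have e : ψ ⟨x, (le_sup_left : P ≤ P ⊔ T) hx⟩ = φ ⟨x, hx⟩ *
              ((φ ⟨x, hx⟩)⁻¹ * ψ (Subgroup.inclusion le_sup_left ⟨x, hx⟩)) := by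
            rw [mul_inv_cancel_left]; rfl
          rw [e]
          exact Subgroup.mul_mem _ (Subgroup.mem_sup_left ⟨_, rfl⟩)
            (Subgroup.mem_sup_right (hψφ _))
        · intro t ht
          exact Subgroup.mem_sup_right (sc_map_mem F hT le_sup_right hψ ht)
    refine ⟨ω.comp (Subgroup.inclusion hrange.le), hom_congr F hrange.symm hω, ?_⟩
    rintro ⟨_, x, rfl⟩
    obtain ⟨t', ht', e⟩ := key x
    show (χ ⟨φ x, ⟨x, rfl⟩⟩)⁻¹ * ω (Subgroup.inclusion hrange.le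
      (Subgroup.inclusion le_sup_left (⟨φ x, ⟨x, rfl⟩⟩ : φ.range))) ∈ T
    rw [hχφ x]
    have e2 : Subgroup.inclusion hrange.le
        (Subgroup.inclusion le_sup_left (⟨φ x, ⟨x, rfl⟩⟩ : φ.range)) =
        ⟨ψ (Subgroup.inclusion le_sup_left x * ⟨t', (le_sup_right : T ≤ P ⊔ T) ht'⟩),
          ⟨_, rfl⟩⟩ := Subtype.ext e
    rw [e2, hωψ]
    show (x : Ω)⁻¹ * ((x : Ω) * t') ∈ T
    rw [inv_mul_cancel_left]; exact ht'

theorem quotExtSystem_hom [Finite S] (F : FusionSystem S) (T : Subgroup Ω)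
    (hT : F.StronglyClosed T) (P : Subgroup Ω) (φ : P →* Ω) :
    φ ∈ (quotExtSystem F T hT).Hom P ↔ (φ ∈ F.Hom P ∧ ∃ ψ ∈ F.Hom (P ⊔ T),
      ∀ x : P, (φ x)⁻¹ * ψ (Subgroup.inclusion le_sup_left x) ∈ T) := Iff.rfl

/-- In a saturated system every map extends, modulo a strongly closed subgroup `T`, to the
product of its source with `T`. -/
theorem hom_subset_quotExt [Finite S] {p : ℕ} [Fact p.Prime] (hS : IsPGroup p S)
    (F : FusionSystem S) (hF : F.IsSaturated p) {T : Subgroup Ω} (hT : F.StronglyClosed T) :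
    ∀ P : Subgroup Ω, F.Hom P ⊆ (quotExtSystem F T hT).Hom P := by
  have hN₁ := stronglyClosed_le_normalizer F hT
  apply alperin_ind hS F hF
  intro P hP IH
  have hFA := fullyAutomized_of_top_or_essential hS F hF hP
  have hPS : P ≤ S := hFA.1
  haveI : Finite P := finite_of_le S hPS
  by_cases hTP : T ≤ P
  · intro α hα
    apply Subgroup.subset_closure
    have hα' := (mem_autGroup_iff F hPS α).mp hα
    have heq : P = P ⊔ T := (sup_eq_left.mpr hTP).symm
    refine ⟨hα', (P.subtype.comp α.toMonoidHom).comp (Subgroup.inclusion heq.ge),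
      hom_congr F heq hα', fun x => ?_⟩
    show ((α x : P) : Ω)⁻¹ * ((α x : P) : Ω) ∈ T
    rw [inv_mul_cancel]; exact T.one_mem
  · have hess : F.IsEssential p P := by
      rcases hP with h | h
      · exact absurd (h ▸ hT.1) hTP
      · exact h
    have hPn := hess.2.1
    obtain ⟨hPfc, -⟩ := fullyNormalized_imp hS F hF hPn
    have hPrec := receptive_of_fullyCentralized hS F hF hPfc
    have hnle : ¬ T ⊓ Subgroup.normalizer (P : Set Ω) ≤ P :=
      fun h => hTP (le_of_normalizer_inf_le hS hPS hT.1 hN₁ h)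
    obtain ⟨g, hg, hgP⟩ := SetLike.not_le_iff_exists.mp hnle
    have hmono : Monotone (chain3 (T.subgroupOf P) ⊤) := chain3_mono le_top
    have hHK : autInducedBy S P ≤ F.autGroup P := autInducedBy_le_autGroup F hPS
    have hMK : chainStabSubgroup (chain3 (T.subgroupOf P) ⊤) hmono ⊓ F.autGroup P ≤
        F.autGroup P := inf_le_right
    have hainv : ∀ a ∈ F.autGroup P, ∀ i, ∀ x ∈ chain3 (T.subgroupOf P) ⊤ i,
        a x ∈ chain3 (T.subgroupOf P) ⊤ i := by
      intro a ha i x hx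
      rcases Nat.eq_zero_or_pos i with rfl | hi
      · rw [chain3_zero] at hx ⊢
        exact Subgroup.mem_subgroupOf.mpr
          (stronglyClosed_aut_mem F hT hPS ha (Subgroup.mem_subgroupOf.mp hx))
      · rcases Nat.lt_or_ge i 2 with h2 | h2
        · have : i = 1 := by omega
          subst this
          rw [chain3_one]; exact Subgroup.mem_top _
        · rw [chain3_ge _ _ h2]; exact Subgroup.mem_top _
    have hnorm : F.autGroup P ≤ Subgroup.normalizer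
        ((chainStabSubgroup (chain3 (T.subgroupOf P) ⊤) hmono ⊓ F.autGroup P :
          Subgroup (MulAut P)) : Set (MulAut P)) := by
      apply le_normalizer_of_conj_mem
      intro a ha k hk
      have hai : a⁻¹ ∈ F.autGroup P := Subgroup.inv_mem _ ha
      exact ⟨IsChainStab.conj hk.1 (hainv a ha) (hainv a⁻¹ hai),
        Subgroup.mul_mem _ (Subgroup.mul_mem _ ha hk.2) hai⟩
    have hgN : g ∈ normalizerIn S P := ⟨hT.1 hg.1, hg.2⟩
    have hgH : normAut P g hg.2 ∈ autInducedBy S P := normAut_mem S P hgN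
    have hgM : normAut P g hg.2 ∈
        chainStabSubgroup (chain3 (T.subgroupOf P) ⊤) hmono ⊓ F.autGroup P := by
      refine ⟨?_, hHK hgH⟩
      show IsChainStab _ (normAut P g hg.2)
      rw [isChainStab_chain3_top]
      intro x
      rw [Subgroup.mem_subgroupOf]
      show (x : Ω)⁻¹ * (g * x * g⁻¹) ∈ T
      have h5 : (x : Ω)⁻¹ * g * ((x : Ω)⁻¹)⁻¹ ∈ T :=
        (Subgroup.mem_normalizer_iff.mp (hN₁ (S.inv_mem (hPS x.2))) g).mp hg.1
      have e5 : (x : Ω)⁻¹ * (g * x * g⁻¹) = ((x : Ω)⁻¹ * g * ((x : Ω)⁻¹)⁻¹) * g⁻¹ := by group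
      rw [e5]
      exact T.mul_mem h5 (T.inv_mem hg.1)
    intro α hα
    obtain ⟨c, hc, b, hb, hbn, hcb⟩ := frattini_isSylowIn hHK hFA.2 hMK hnorm hα
    have hcE : c ∈ (quotExtSystem F T hT).autGroup P := by
      apply Subgroup.subset_closure
      refine ⟨(mem_autGroup_iff F hPS c).mp hc.2, (P ⊔ T).subtype,
        subtype_mem F (sup_le hPS hT.1), fun x => ?_⟩
      have h3 : IsChainStab (chain3 (T.subgroupOf P) ⊤) c := hc.1
      rw [isChainStab_chain3_top] at h3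
      have h4 : (x : Ω)⁻¹ * ((c x : P) : Ω) ∈ T := Subgroup.mem_subgroupOf.mp (h3 x)
      show ((c x : P) : Ω)⁻¹ * (x : Ω) ∈ T
      have e : ((c x : P) : Ω)⁻¹ * (x : Ω) = ((x : Ω)⁻¹ * ((c x : P) : Ω))⁻¹ := by group
      rw [e]; exact T.inv_mem h4
    have hbE : b ∈ (quotExtSystem F T hT).autGroup P := by
      refine aut_mem_of_extender F _ hPrec IH hb ?_ hgP
      apply mem_extender_of_aut b hgN
      have h6 : b * normAut P g hg.2 * b⁻¹ ∈ cj b (autInducedBy S P ⊓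
          (chainStabSubgroup (chain3 (T.subgroupOf P) ⊤) hmono ⊓ F.autGroup P)) :=
        conj_mem_cj b _ ⟨hgH, hgM⟩
      rw [hbn] at h6
      exact h6.1
    rw [hcb]
    exact Subgroup.mul_mem _ hcE hbE

/-- usable form. -/
theorem exists_extension_mod [Finite S] {p : ℕ} [Fact p.Prime] (hS : IsPGroup p S)
    (F : FusionSystem S) (hF : F.IsSaturated p) {T : Subgroup Ω} (hT : F.StronglyClosed T)
    {P : Subgroup Ω} {φ : P →* Ω} (hφ : φ ∈ F.Hom P) :
    ∃ ψ ∈ F.Hom (P ⊔ T), ∀ x : P, (φ x)⁻¹ * ψ (Subgroup.inclusion le_sup_left x) ∈ T :=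
  (hom_subset_quotExt hS F hF hT P hφ).2

end Cfsg.Agent.helper26.ModT
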