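import Cfsg.Agent.Lib_helper26_OmegaSeries
import Cfsg.Agent.Lib_helper25_SatEquiv2
import Cfsg.Agent.Lib_helper25_SatRS
import Cfsg.Agent.Lib_helper26_Centric

set_option autoImplicit false
set_option linter.style.haveILetI false
set_option linter.unusedVariables false

/-!
# Centric subgroups meeting a strongly closed subgroup in a non-centric subgroup are not radical
-/

namespace Cfsg.Agent.h26NC

open Cfsg Cfsg.FusionSystem Cfsg.Agent.helper25 Cfsg.Agent.h26Omega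

variable {Ω : Type*} [Group Ω] {S : Subgroup Ω}

/-- if `P` normalizes `Q` and `N_Q(P) ≤ P` then `Q ≤ P` (inside a finite `p`-group). -/
theorem le_of_normalizer_inf_le' [Finite S] {p : ℕ} [Fact p.Prime] (hS : IsPGroup p S)
    {P Q : Subgroup Ω} (hPS : P ≤ S) (hQS : Q ≤ S) (hPN : P ≤ Subgroup.normalizer (Q : Set Ω))
    (hNQ : Q ⊓ Subgroup.normalizer (P : Set Ω) ≤ P) : Q ≤ P := by
  by_contra hQP
  have hlt : P < P ⊔ Q :=
    lt_of_le_of_ne le_sup_left (fun h => hQP (le_sup_right.trans h.ge))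
  have hDS : P ⊔ Q ≤ S := sup_le hPS hQS
  haveI : Finite ↥(P ⊔ Q) := finite_of_le S hDS
  have hD : IsPGroup p ↥(P ⊔ Q) := hS.to_le hDS
  obtain ⟨x, hxN, hxP⟩ := SetLike.exists_of_lt (lt_normalizerIn hD hlt)
  have hxD : x ∈ ((P ⊔ Q : Subgroup Ω) : Set Ω) := hxN.1
  rw [Subgroup.coe_mul_of_left_le_normalizer_right P Q hPN] at hxD
  obtain ⟨a, ha, b, hb, rfl⟩ := hxD
  apply hxP
  have hbN : b ∈ Subgroup.normalizer (P : Set Ω) := by
    have e : b = a⁻¹ * (a * b) := by group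
    rw [e]
    exact mul_mem (inv_mem (Subgroup.le_normalizer ha)) hxN.2
  exact P.mul_mem ha (hNQ ⟨hb, hbN⟩)

/-- an automorphism in `Aut_F(P)` acting trivially on `P ∩ T` and on `P / (P ∩ T)`, `T` strongly
closed, lies in `O_p(Aut_F(P))`. -/
theorem mem_pCore_of_trivial [Finite S] {p : ℕ} [hp : Fact p.Prime] (hS : IsPGroup p S)
    (F : FusionSystem S) {T Ps : Subgroup Ω} (hT : F.StronglyClosed T) (hPs : Ps ≤ S)
    {α : MulAut Ps} (hα : α ∈ F.autGroup Ps)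
    (h1 : ∀ y : Ps, (y : Ω) ∈ T → α y = y)
    (h2 : ∀ y : Ps, (y : Ω)⁻¹ * ((α y : Ps) : Ω) ∈ T) :
    α ∈ (pCore p (F.autGroup Ps)).map (F.autGroup Ps).subtype := by
  haveI : Finite Ps := finite_of_le S hPs
  have hPp : IsPGroup p Ps := hS.to_le hPs
  let X : Bool → Subgroup Ω := fun j => if j then Ps else Ps ⊓ T
  let Y : Bool → Subgroup Ω := fun j => if j then Ps ⊓ T else ⊥
  have hRinv : ∀ δ ∈ F.autGroup Ps, ∀ y : Ps, (y : Ω) ∈ Ps ⊓ T → ((δ y : Ps) : Ω) ∈ Ps ⊓ T := by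
    intro δ hδ y hy
    refine ⟨(δ y).2, ?_⟩
    have hδ' : IsFIso F δ := (mem_autGroup_iff F hPs δ).mp hδ
    have hres := restrict_mem F (inf_le_left : Ps ⊓ T ≤ Ps) hδ'
    exact hT.2 (Ps ⊓ T) inf_le_right _ hres ⟨y, hy⟩
  have hinv : ∀ δ ∈ F.autGroup Ps, ∀ j, ∀ y : Ps, (y : Ω) ∈ X j → ((δ y : Ps) : Ω) ∈ X j := by
    intro δ hδ j y hy
    cases j
    · exact hRinv δ hδ y hy
    · exact (δ y).2
  have hinvY : ∀ δ ∈ F.autGroup Ps, ∀ j, ∀ y : Ps, (y : Ω) ∈ Y j → ((δ y : Ps) : Ω) ∈ Y j := by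
    intro δ hδ j y hy
    cases j
    · have h1 : (y : Ω) = 1 := Subgroup.mem_bot.mp hy
      have h2 : y = 1 := Subtype.ext h1
      rw [h2, map_one]; exact Subgroup.one_mem _
    · exact hRinv δ hδ y hy
  have hnormal := trivSub_normal (F.autGroup Ps) X Y hinv hinvY
  have hpg : IsPGroup p (trivSub (F.autGroup Ps) X Y hinv) := by
    apply isPGroup_of_coprime_trivial
    intro β hβ hcop
    obtain ⟨hβA, hβ2⟩ := hβ
    have hk : β ^ orderOf β = 1 := pow_orderOf_eq_one β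
    have hfixR : ∀ y : Ps, (y : Ω) ∈ Ps ⊓ T → β y = y := by
      intro y hy
      have h1 := hβ2 false y hy
      have h2 : (y : Ω)⁻¹ * ((β y : Ps) : Ω) = 1 := Subgroup.mem_bot.mp h1
      apply Subtype.ext
      rw [inv_mul_eq_one] at h2; exact h2.symm
    ext y
    have h3 := hβ2 true y y.2
    have h4 : β (y⁻¹ * β y) = y⁻¹ * β y := hfixR _ h3
    have := Cfsg.Agent.S0120.fixed_of_comm_fixed hPp β (orderOf β) hcop hk y h4
    rw [this]; rfl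
  have hle := le_pCore_h25 hnormal (isPGroup_subgroupOf _ hpg)
  have hαK : α ∈ trivSub (F.autGroup Ps) X Y hinv := by
    refine ⟨hα, fun j y hy => ?_⟩
    cases j
    · have hyT : (y : Ω) ∈ T := (Subgroup.mem_inf.mp hy).2
      rw [h1 y hyT]
      show (y : Ω)⁻¹ * (y : Ω) ∈ (⊥ : Subgroup Ω)
      rw [inv_mul_cancel]; exact Subgroup.one_mem _
    · exact ⟨Ps.mul_mem (Ps.inv_mem y.2) (α y).2, h2 y⟩
  exact ⟨⟨α, hα⟩, hle (Subgroup.mem_subgroupOf.mpr hαK), rfl⟩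

/-- conjugation by an element of `C_T(P ∩ T) ∩ N_S(P)` lies in `O_p(Aut_F(P))`. -/
theorem normAut_mem_pCore [Finite S] {p : ℕ} [hp : Fact p.Prime] (hS : IsPGroup p S)
    (F : FusionSystem S) {T Ps : Subgroup Ω} (hT : F.StronglyClosed T) (hPs : Ps ≤ S) {x : Ω}
    (hxT : x ∈ T)
    (hxC : x ∈ Subgroup.centralizer ((Ps ⊓ T : Subgroup Ω) : Set Ω))
    (hxN : x ∈ Subgroup.normalizer (Ps : Set Ω)) :
    normAut Ps x hxN ∈ (pCore p (F.autGroup Ps)).map (F.autGroup Ps).subtype := by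
  have hxS : x ∈ S := hT.1 hxT
  apply mem_pCore_of_trivial hS F hT hPs
  · exact autInducedBy_le_autGroup F hPs (normAut_mem S Ps ⟨hxS, hxN⟩)
  · intro y hyT
    apply Subtype.ext
    rw [normAut_coe]
    have := Subgroup.mem_centralizer_iff.mp hxC (y : Ω) ⟨y.2, hyT⟩
    rw [← this, mul_inv_cancel_right]
  · intro y
    rw [normAut_coe]
    have hN := stronglyClosed_le_normalizer F hT (S.inv_mem (hPs y.2))
    have h1 : (y : Ω)⁻¹ * x * ((y : Ω)⁻¹)⁻¹ ∈ T := (Subgroup.mem_normalizer_iff.mp hN x).mp hxT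
    have e : (y : Ω)⁻¹ * (x * (y : Ω) * x⁻¹) = ((y : Ω)⁻¹ * x * ((y : Ω)⁻¹)⁻¹) * x⁻¹ := by group
    rw [e]
    exact T.mul_mem h1 (T.inv_mem hxT)

/-- if some conjugate of `P ∩ T` has centralizer in `T` not contained in it, some conjugate `P*` of
`P` has `C_T(P* ∩ T) ≰ P* ∩ T`. -/
theorem exists_conj_bad [Finite S] {p : ℕ} [Fact p.Prime] (hS : IsPGroup p S) (F : FusionSystem S)
    (hF : F.IsSaturated p) {T : Subgroup Ω} (hT : F.StronglyClosed T) {P Q' : Subgroup Ω}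
    (hPS : P ≤ S) (hconj : F.IsConj (P ⊓ T) Q') (hbad : ¬ centralizerIn T Q' ≤ Q') :
    ∃ φ ∈ F.Hom P, ¬ centralizerIn T (φ.range ⊓ T) ≤ φ.range ⊓ T := by
  have hTS : T ≤ S := hT.1
  have hP₀S : P ⊓ T ≤ S := inf_le_left.trans hPS
  obtain ⟨R, hP₀R, hRn⟩ := exists_fullyNormalized_conj F hP₀S
  obtain ⟨hRc, hRa⟩ := fullyNormalized_imp hS F hF hRn
  have hRr := receptive_of_fullyCentralized hS F hF hRc
  obtain ⟨χ, hχ, hχN, hχP⟩ := exists_normalizer_hom hS F hRa hRr hP₀R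
  have hNT := stronglyClosed_le_normalizer F hT
  have hPN : P ≤ normalizerIn S (P ⊓ T) := by
    intro y hy
    refine ⟨hPS hy, ?_⟩
    have hyT := hNT (hPS hy)
    show y ∈ Subgroup.normalizer ((P ⊓ T : Subgroup Ω) : Set Ω)
    rw [Subgroup.mem_normalizer_iff]
    intro h
    constructor
    · rintro ⟨h1, h2⟩
      exact ⟨P.mul_mem (P.mul_mem hy h1) (P.inv_mem hy), (Subgroup.mem_normalizer_iff.mp hyT h).mp h2⟩
    · rintro ⟨h1, h2⟩
      refine ⟨?_, (Subgroup.mem_normalizer_iff.mp hyT h).mpr h2⟩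
      have e : h = y⁻¹ * (y * h * y⁻¹) * y := by group
      rw [e]
      exact P.mul_mem (P.mul_mem (P.inv_mem hy) h1) hy
  have hφ : χ.comp (Subgroup.inclusion hPN) ∈ F.Hom P := restrict_mem F hPN hχ
  set φ : P →* Ω := χ.comp (Subgroup.inclusion hPN) with hφdef
  refine ⟨φ, hφ, ?_⟩
  -- R ≤ T
  have hRT : R ≤ T := by
    intro r hr
    rw [← hχP] at hr
    obtain ⟨z, hz, rfl⟩ := hr
    have hzP₀ : (z : Ω) ∈ P ⊓ T := Subgroup.mem_subgroupOf.mp hz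
    have hres := restrict_mem F (hPN.trans' inf_le_left : P ⊓ T ≤ normalizerIn S (P ⊓ T)) hχ
    exact hT.2 (P ⊓ T) inf_le_right _ hres ⟨z, hzP₀⟩
  have hrange : φ.range ⊓ T = R := by
    apply le_antisymm
    · rintro y ⟨⟨z, rfl⟩, hyT⟩
      obtain ⟨ψ, hψ, -, hψ1, -⟩ := exists_inv_hom F hφ rfl
      have hres := restrict_mem F (inf_le_left : φ.range ⊓ T ≤ φ.range) hψ
      have h3 := hT.2 (φ.range ⊓ T) inf_le_right _ hres ⟨φ z, ⟨⟨z, rfl⟩, hyT⟩⟩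
      have h4 : ψ ⟨φ z, ⟨z, rfl⟩⟩ = z := hψ1 z ⟨z, rfl⟩
      have hzT : (z : Ω) ∈ T := by rw [← h4]; exact h3
      rw [← hχP]
      exact ⟨Subgroup.inclusion hPN z, Subgroup.mem_subgroupOf.mpr ⟨z.2, hzT⟩, rfl⟩
    · intro r hr
      refine ⟨?_, hRT hr⟩
      rw [← hχP] at hr
      obtain ⟨z, hz, rfl⟩ := hr
      have hzP₀ : (z : Ω) ∈ P ⊓ T := Subgroup.mem_subgroupOf.mp hz
      exact ⟨⟨z, hzP₀.1⟩, rfl⟩
  rw [hrange]
  -- now C_T(R) ≰ R
  have hQ'R : F.IsConj Q' R := isConj_trans F (isConj_symm F hconj) hP₀R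
  obtain ⟨θ, hθ, hθr⟩ := hQ'R
  obtain ⟨ψ, hψ, hψθ⟩ := hRr.2 Q' θ hθ hθr
  obtain ⟨c, hc, hcQ⟩ := SetLike.not_le_iff_exists.mp hbad
  have hcS : c ∈ centralizerIn S Q' := ⟨hTS hc.1, hc.2⟩
  have hcE : c ∈ extender S Q' θ := Cfsg.Agent.helper26.centralizerIn_le_extender S Q' θ hcS
  have hQ'E : Q' ≤ extender S Q' θ := le_extender F hθ
  intro hle
  have hdT : ψ ⟨c, hcE⟩ ∈ T := by
    have hres := restrict_mem F (inf_le_left : extender S Q' θ ⊓ T ≤ extender S Q' θ) hψ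
    exact hT.2 (extender S Q' θ ⊓ T) inf_le_right _ hres ⟨c, ⟨hcE, hc.1⟩⟩
  have hdC : ψ ⟨c, hcE⟩ ∈ Subgroup.centralizer (R : Set Ω) := by
    rw [Subgroup.mem_centralizer_iff]
    intro r hr
    rw [← hθr] at hr
    obtain ⟨q, rfl⟩ := hr
    have h1 := hψθ q q.2 (hQ'E q.2)
    have h2 : θ q = ψ ⟨q, hQ'E q.2⟩ := h1.symm
    rw [h2, ← map_mul, ← map_mul]
    congr 1
    apply Subtype.ext
    exact Subgroup.mem_centralizer_iff.mp hc.2 q q.2
  have hdR := hle ⟨hdT, hdC⟩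
  rw [← hθr] at hdR
  obtain ⟨q, hq⟩ := hdR
  have h1 := hψθ q q.2 (hQ'E q.2)
  have h3 : ψ ⟨q, hQ'E q.2⟩ = ψ ⟨c, hcE⟩ := by rw [h1]; exact hq
  have h4 := F.injective_of_mem hψ h3
  have h5 : (q : Ω) = c := congrArg Subtype.val h4
  exact hcQ (h5 ▸ q.2)

theorem inv_mul_conj_mem (F : FusionSystem S) {T : Subgroup Ω} (hT : F.StronglyClosed T) {x y : Ω}
    (hxT : x ∈ T) (hy : y ∈ S) : y⁻¹ * (x * y * x⁻¹) ∈ T := by
  have hN := stronglyClosed_le_normalizer F hT (S.inv_mem hy)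
  have h1 : y⁻¹ * x * (y⁻¹)⁻¹ ∈ T := (Subgroup.mem_normalizer_iff.mp hN x).mp hxT
  have e : y⁻¹ * (x * y * x⁻¹) = (y⁻¹ * x * (y⁻¹)⁻¹) * x⁻¹ := by group
  rw [e]
  exact T.mul_mem h1 (T.inv_mem hxT)

theorem le_normalizer_centralizerIn (F : FusionSystem S) {T Ps : Subgroup Ω}
    (hT : F.StronglyClosed T) (hPs : Ps ≤ S) :
    Ps ≤ Subgroup.normalizer ((centralizerIn T (Ps ⊓ T) : Subgroup Ω) : Set Ω) := by
  have hNT := stronglyClosed_le_normalizer F hT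
  have key : ∀ y ∈ Ps, ∀ h ∈ centralizerIn T (Ps ⊓ T),
      y * h * y⁻¹ ∈ centralizerIn T (Ps ⊓ T) := by
    intro y hy h hh
    have hyT := hNT (hPs hy)
    refine ⟨(Subgroup.mem_normalizer_iff.mp hyT h).mp hh.1, ?_⟩
    show y * h * y⁻¹ ∈ Subgroup.centralizer ((Ps ⊓ T : Subgroup Ω) : Set Ω)
    rw [Subgroup.mem_centralizer_iff]
    intro r hr
    have hr' : y⁻¹ * r * y ∈ Ps ⊓ T := by
      refine ⟨Ps.mul_mem (Ps.mul_mem (Ps.inv_mem hy) hr.1) hy, ?_⟩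
      have hyT' := hNT (hPs (Ps.inv_mem hy))
      have := (Subgroup.mem_normalizer_iff.mp hyT' r).mp hr.2
      rwa [inv_inv] at this
    have hc := Subgroup.mem_centralizer_iff.mp hh.2 _ hr'
    calc r * (y * h * y⁻¹) = y * ((y⁻¹ * r * y) * h) * y⁻¹ := by group
      _ = y * (h * (y⁻¹ * r * y)) * y⁻¹ := by rw [hc]
      _ = y * h * y⁻¹ * r := by group
  intro y hy
  rw [Subgroup.mem_normalizer_iff]
  intro h
  constructor
  · exact key y hy h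
  · intro hh
    have := key y⁻¹ (Ps.inv_mem hy) _ hh
    have e : y⁻¹ * (y * h * y⁻¹) * y⁻¹⁻¹ = h := by group
    rwa [e] at this

end Cfsg.Agent.h26NC
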