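import Mathlib
import Cfsg.Agent.Lib_helper17_Dedekind

set_option autoImplicit false

/-!
# A `p'`-automorphism of a `p`-group fixing all elements of order `p` (and `4` when `p = 2`) is trivial
-/

namespace Cfsg.Agent.h26OmAut

open scoped commutatorElement

theorem exists_normal_prime_index_comm {G : Type*} [Group G] [Finite G] (h : commutator G ≠ ⊤) :
    ∃ N : Subgroup G, N.Normal ∧ (N.index).Prime ∧ commutator G ≤ N := by
  classical
  have hnt : Nontrivial (Abelianization G) := by
    rw [Abelianization, QuotientGroup.nontrivial_iff]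
    exact h
  have hnt2 : Nontrivial (Subgroup (Abelianization G)) := Subgroup.nontrivial_iff.mpr hnt
  obtain ⟨M, hM⟩ := IsCoatomic.exists_coatom (α := Subgroup (Abelianization G))
  have hMn : M.Normal := Subgroup.normal_of_isMulCommutative M
  have hsimple : IsSimpleGroup (Abelianization G ⧸ M) := by
    have hnt3 : Nontrivial (Abelianization G ⧸ M) := by
      rw [QuotientGroup.nontrivial_iff]
      exact hM.1
    refine ⟨fun H _ => ?_⟩
    have hle : M ≤ H.comap (QuotientGroup.mk' M) := by
      intro x hx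
      rw [Subgroup.mem_comap]
      have : (QuotientGroup.mk' M) x = 1 := (QuotientGroup.eq_one_iff x).mpr hx
      rw [this]
      exact H.one_mem
    rcases hM.le_iff.mp hle with h1 | h1
    · right
      rw [← Subgroup.map_comap_eq_self_of_surjective (QuotientGroup.mk'_surjective M) H, h1,
        Subgroup.map_top_of_surjective _ (QuotientGroup.mk'_surjective M)]
    · left
      apply Subgroup.comap_injective (QuotientGroup.mk'_surjective M)
      rw [h1, MonoidHom.comap_bot, QuotientGroup.ker_mk']
  have hprime : (Nat.card (Abelianization G ⧸ M)).Prime := IsSimpleGroup.prime_card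
  refine ⟨M.comap (Abelianization.of), inferInstance, ?_, ?_⟩
  · have hsurj : Function.Surjective (Abelianization.of : G →* Abelianization G) :=
      QuotientGroup.mk'_surjective (commutator G)
    rw [Subgroup.index_comap_of_surjective _ hsurj]
    exact hprime
  · intro x hx
    rw [Subgroup.mem_comap]
    have : x ∈ (Abelianization.of : G →* Abelianization G).ker := by
      rw [Abelianization.ker_of]; exact hx
    rw [MonoidHom.mem_ker] at this
    rw [this]; exact M.one_mem

variable {E : Type*} [Group E]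

theorem pow_apply_of_fix (α : MulAut E) {x n : E} (h1 : α x = x * n) (h2 : α n = n) (k : ℕ) :
    (α ^ k) x = x * n ^ k := by
  induction k with
  | zero => simp
  | succ k ih =>
    rw [pow_succ', MulAut.mul_apply, ih, map_mul, map_pow, h1, h2, mul_assoc, ← pow_succ']

theorem eq_one_of_pow_coprime {p m : ℕ} (hm : m.Coprime p) {n : E} {k : ℕ}
    (hn : n ^ (p ^ k) = 1) (h : n ^ m = 1) : n = 1 := by
  have h1 := orderOf_dvd_of_pow_eq_one hn
  have h2 := orderOf_dvd_of_pow_eq_one h
  have h3 : orderOf n ∣ Nat.gcd m (p ^ k) := Nat.dvd_gcd h2 h1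
  have h4 : Nat.gcd m (p ^ k) = 1 := Nat.Coprime.pow_right k hm
  rw [h4, Nat.dvd_one] at h3
  exact orderOf_eq_one_iff.mp h3

theorem fix_of_fix_comm (α : MulAut E) {p m : ℕ} (hm : m.Coprime p) (hαm : α ^ m = 1)
    {x : E} {k : ℕ} (hp : (x⁻¹ * α x) ^ (p ^ k) = 1) (hfix : α (x⁻¹ * α x) = x⁻¹ * α x) :
    α x = x := by
  have h1 : α x = x * (x⁻¹ * α x) := by group
  have h2 := pow_apply_of_fix α h1 hfix m
  rw [hαm, MulAut.one_apply] at h2
  have h3 : (x⁻¹ * α x) ^ m = 1 := by
    have h4 : x * 1 = x * (x⁻¹ * α x) ^ m := by rw [mul_one]; exact h2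
    exact (mul_left_cancel h4).symm
  have h4 := eq_one_of_pow_coprime hm hp h3
  calc α x = x * (x⁻¹ * α x) := h1
    _ = x := by rw [h4, mul_one]

/-- class two power identity: if `b * a = e * (a * b)` with `e` commuting with `a`, `b`, and
`b ^ n` commutes with `a`, then `e ^ n = 1`. -/
theorem comm_pow_eq_one {a b e : E} (he : b * a = e * (a * b)) (heb : Commute e b) {n : ℕ}
    (hbn : b ^ n * a = a * b ^ n) : e ^ n = 1 := by
  have h := Cfsg.Agent.helper17.Ded.pow_mul_comm_of he heb n
  rw [hbn] at h
  have h2 : 1 * (a * b ^ n) = e ^ n * (a * b ^ n) := by rw [one_mul]; exact h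
  exact (mul_right_cancel h2).symm

theorem aut_trivial_of_small [Finite E] {p : ℕ} [hp : Fact p.Prime] (α : MulAut E) {m : ℕ}
    (hm : m.Coprime p) (hαm : α ^ m = 1) :
    ∀ (N : ℕ) (P : Subgroup E), Nat.card P ≤ N → IsPGroup p P → (∀ x ∈ P, α x ∈ P) →
      (∀ x ∈ P, (x ^ p = 1 ∨ (p = 2 ∧ x ^ 4 = 1)) → α x = x) → ∀ x ∈ P, α x = x := by
  intro N
  induction N with
  | zero =>
    intro P hc
    have := Nat.card_pos (α := P)
    omega
  | succ N ih =>
    intro P hc hP hinv hsm
    have hpow : ∀ y ∈ P, ∃ k, y ^ (p ^ k) = 1 := by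
      intro y hy
      obtain ⟨k, hk⟩ := hP ⟨y, hy⟩
      exact ⟨k, by simpa using congrArg Subtype.val hk⟩
    set D : Subgroup E := Subgroup.closure {y | ∃ x ∈ P, y = x⁻¹ * α x} with hD
    have hDP : D ≤ P := by
      rw [hD, Subgroup.closure_le]
      rintro y ⟨x, hx, rfl⟩
      exact P.mul_mem (P.inv_mem hx) (hinv x hx)
    have hDinv : ∀ d ∈ D, α d ∈ D := by
      intro d hd
      induction hd using Subgroup.closure_induction with
      | mem y hy =>
        obtain ⟨x, hx, rfl⟩ := hy
        apply Subgroup.subset_closure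
        exact ⟨α x, hinv x hx, by rw [map_mul, map_inv]⟩
      | one => rw [map_one]; exact D.one_mem
      | mul a b _ _ ha hb => rw [map_mul]; exact D.mul_mem ha hb
      | inv a _ ha => rw [map_inv]; exact D.inv_mem ha
    have hred : (∀ d ∈ D, α d = d) → ∀ x ∈ P, α x = x := by
      intro hDfix x hx
      have hn : x⁻¹ * α x ∈ D := Subgroup.subset_closure ⟨x, hx, rfl⟩
      obtain ⟨k, hk⟩ := hpow _ (hDP hn)
      exact fix_of_fix_comm α hm hαm hk (hDfix _ hn)
    by_cases hlt : Nat.card D ≤ N
    · exact hred (ih D hlt (hP.to_le hDP) hDinv (fun x hx => hsm x (hDP hx)))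
    · have hDeq : D = P := by
        apply Subgroup.eq_of_le_of_card_ge hDP
        omega
      by_cases hbot : P = ⊥
      · intro x hx
        rw [hbot, Subgroup.mem_bot] at hx
        rw [hx, map_one]
      haveI : Nontrivial P := (Subgroup.nontrivial_iff_ne_bot P).mpr hbot
      haveI : Group.IsNilpotent P := hP.isNilpotent
      have hcomm : commutator P ≠ ⊤ := (Group.IsSolvable.commutator_lt_top_of_nontrivial P).ne
      obtain ⟨M, hMn, hMp, hMc⟩ := exists_normal_prime_index_comm hcomm
      have hMidx : M.index = p := by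
        have h1 : M.index ∣ Nat.card P := Subgroup.index_dvd_card M
        obtain ⟨k, hk⟩ := hP.exists_card_eq
        rw [hk] at h1
        exact (Nat.prime_dvd_prime_iff_eq hMp hp.out).mp (hMp.dvd_of_dvd_pow h1)
      set Φ : Subgroup E := Subgroup.closure
        ({y | ∃ a ∈ P, ∃ b ∈ P, y = a * b * a⁻¹ * b⁻¹} ∪ {y | ∃ a ∈ P, y = a ^ p}) with hΦ
      have hΦM : Φ ≤ M.map P.subtype := by
        rw [hΦ, Subgroup.closure_le]
        rintro y (⟨a, ha, b, hb, rfl⟩ | ⟨a, ha, rfl⟩)
        · refine ⟨(⟨a, ha⟩ : P) * ⟨b, hb⟩ * (⟨a, ha⟩ : P)⁻¹ * (⟨b, hb⟩ : P)⁻¹, hMc ?_, rfl⟩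
          have := Subgroup.commutator_mem_commutator (Subgroup.mem_top (⟨a, ha⟩ : P))
            (Subgroup.mem_top (⟨b, hb⟩ : P))
          rw [commutator_def]
          exact this
        · refine ⟨(⟨a, ha⟩ : P) ^ p, ?_, rfl⟩
          haveI := hMn
          have := Subgroup.pow_index_mem M (⟨a, ha⟩ : P)
          rwa [hMidx] at this
      have hΦP : Φ ≤ P := hΦM.trans (Subgroup.map_subtype_le M)
      have hΦcard : Nat.card Φ ≤ N := by
        have h1 : Nat.card Φ ≤ Nat.card (M.map P.subtype) := Subgroup.card_le_of_le hΦM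
        have h2 : Nat.card (M.map P.subtype) = Nat.card M :=
          Subgroup.card_map_of_injective P.subtype_injective
        have h3 : Nat.card M * M.index = Nat.card P := Subgroup.card_mul_index M
        have h4 : 2 ≤ p := hp.out.two_le
        have h5 : 0 < Nat.card M := Nat.card_pos
        rw [hMidx] at h3
        nlinarith
      have hΦinv : ∀ y ∈ Φ, α y ∈ Φ := by
        intro y hy
        induction hy using Subgroup.closure_induction with
        | mem y hy =>
          apply Subgroup.subset_closure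
          rcases hy with ⟨a, ha, b, hb, rfl⟩ | ⟨a, ha, rfl⟩
          · left
            exact ⟨α a, hinv a ha, α b, hinv b hb, by simp only [map_mul, map_inv]⟩
          · right
            exact ⟨α a, hinv a ha, by rw [map_pow]⟩
        | one => rw [map_one]; exact Φ.one_mem
        | mul a b _ _ ha hb => rw [map_mul]; exact Φ.mul_mem ha hb
        | inv a _ ha => rw [map_inv]; exact Φ.inv_mem ha
      have hΦfix : ∀ y ∈ Φ, α y = y :=
        ih Φ hΦcard (hP.to_le hΦP) hΦinv (fun x hx => hsm x (hΦP hx))
      have hΦconj : ∀ g ∈ P, ∀ y ∈ Φ, g * y * g⁻¹ ∈ Φ := by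
        intro g hg y hy
        induction hy using Subgroup.closure_induction with
        | mem y hy =>
          apply Subgroup.subset_closure
          rcases hy with ⟨a, ha, b, hb, rfl⟩ | ⟨a, ha, rfl⟩
          · left
            refine ⟨g * a * g⁻¹, P.mul_mem (P.mul_mem hg ha) (P.inv_mem hg),
              g * b * g⁻¹, P.mul_mem (P.mul_mem hg hb) (P.inv_mem hg), by group⟩
          · right
            refine ⟨g * a * g⁻¹, P.mul_mem (P.mul_mem hg ha) (P.inv_mem hg), ?_⟩
            rw [conj_pow]
        | one => simp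
        | mul a b _ _ ha hb =>
          have : g * (a * b) * g⁻¹ = (g * a * g⁻¹) * (g * b * g⁻¹) := by group
          rw [this]; exact Φ.mul_mem ha hb
        | inv a _ ha =>
          have : g * a⁻¹ * g⁻¹ = (g * a * g⁻¹)⁻¹ := by group
          rw [this]; exact Φ.inv_mem ha
      have hcent : ∀ y ∈ Φ, ∀ g ∈ P, g * y = y * g := by
        intro y hy g hg
        rw [← hDeq] at hg
        induction hg using Subgroup.closure_induction with
        | mem g hg =>
          obtain ⟨x, hx, rfl⟩ := hg
          have h1 := hΦfix _ (hΦconj x hx y hy)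
          rw [map_mul, map_mul, map_inv, hΦfix y hy] at h1
          calc x⁻¹ * α x * y = x⁻¹ * (α x * y * (α x)⁻¹) * α x := by group
            _ = x⁻¹ * (x * y * x⁻¹) * α x := by rw [h1]
            _ = y * (x⁻¹ * α x) := by group
        | one => simp
        | mul a b _ _ ha hb => rw [mul_assoc, hb, ← mul_assoc, ha, mul_assoc]
        | inv a _ ha =>
          calc a⁻¹ * y = a⁻¹ * (y * a) * a⁻¹ := by group
            _ = a⁻¹ * (a * y) * a⁻¹ := by rw [ha]
            _ = y * a⁻¹ := by group
      -- final step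
      intro x hx
      have hxi : x⁻¹ ∈ P := P.inv_mem hx
      have hax : α x ∈ P := hinv x hx
      set e : E := α x * x⁻¹ * (α x)⁻¹ * x⁻¹⁻¹ with he_def
      have heΦ : e ∈ Φ := Subgroup.subset_closure (Or.inl ⟨α x, hax, x⁻¹, hxi, rfl⟩)
      have he : α x * x⁻¹ = e * (x⁻¹ * α x) := by rw [he_def]; group
      have hea : Commute e x⁻¹ := (hcent e heΦ _ hxi).symm
      have heb : Commute e (α x) := (hcent e heΦ _ hax).symm
      have hppow : ∀ a ∈ P, a ^ p ∈ Φ := fun a ha => Subgroup.subset_closure (Or.inr ⟨a, ha, rfl⟩)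
      have hep : e ^ p = 1 := by
        apply comm_pow_eq_one he heb
        exact (hcent _ (hppow _ hax) _ hxi).symm
      have hformula := fun n => Cfsg.Agent.helper17.Ded.mul_pow_of he hea heb n
      have hnP : x⁻¹ * α x ∈ P := P.mul_mem hxi hax
      by_cases h2 : p = 2
      · -- exponent 4
        have h6 : e ^ (∑ i ∈ Finset.range 4, i) = 1 := by
          have : (∑ i ∈ Finset.range 4, i) = 2 * 3 := by decide
          rw [this, pow_mul, ← h2, hep, one_pow]
        have h4 : (x⁻¹ * α x) ^ 4 = 1 := by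
          rw [hformula 4, h6, one_mul, inv_pow, ← map_pow]
          have hx4 : x ^ 4 ∈ Φ := by
            have : x ^ 4 = (x ^ p) ^ p := by rw [h2, ← pow_mul]
            rw [this]
            exact hppow _ (hΦP (hppow x hx))
          rw [hΦfix _ hx4, inv_mul_cancel]
        have hfix := hsm _ hnP (Or.inr ⟨h2, h4⟩)
        have h4' : (x⁻¹ * α x) ^ (p ^ 2) = 1 := by rw [h2]; exact h4
        exact fix_of_fix_comm α hm hαm h4' hfix
      · have hodd : p ∣ ∑ i ∈ Finset.range p, i := by
          have h1 : (∑ i ∈ Finset.range p, i) * 2 = p * (p - 1) := Finset.sum_range_id_mul_two p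
          have h3 : Nat.Coprime p 2 :=
            (Nat.coprime_primes hp.out Nat.prime_two).mpr h2
          exact h3.dvd_of_dvd_mul_right (h1 ▸ Dvd.intro _ rfl)
        obtain ⟨c, hc⟩ := hodd
        have h6 : e ^ (∑ i ∈ Finset.range p, i) = 1 := by rw [hc, pow_mul, hep, one_pow]
        have hpp : (x⁻¹ * α x) ^ p = 1 := by
          rw [hformula p, h6, one_mul, inv_pow, ← map_pow, hΦfix _ (hppow x hx), inv_mul_cancel]
        have hfix := hsm _ hnP (Or.inl hpp)
        have hpp' : (x⁻¹ * α x) ^ (p ^ 1) = 1 := by rw [pow_one]; exact hpp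
        exact fix_of_fix_comm α hm hαm hpp' hfix

end Cfsg.Agent.h26OmAut
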