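import Mathlib
import Cfsg.Agent.Lib_helper26_OmAut
import Cfsg.Agent.Lib_helper25_NormalChar
import Cfsg.Agent.Lib_helper25_SatEquiv
import Cfsg.Agent.Lib_helper26_EssGen

set_option autoImplicit false
set_option linter.style.haveILetI false
set_option linter.unusedVariables false

/-!
# If `S` normalizes every small cyclic subgroup of the focal subgroup there are no essential subgroups
-/

namespace Cfsg.Agent.h26OmAut

open Cfsg Cfsg.FusionSystem Cfsg.Agent.helper25

variable {Ω : Type*} [Group Ω] {S : Subgroup Ω}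

/-- small elements of `E` in the focal subgroup -/
def Sm (F : FusionSystem S) (p : ℕ) (E : Subgroup Ω) (x : E) : Prop :=
  (x : Ω) ∈ F.focalSubgroup ∧ (x ^ p = 1 ∨ (p = 2 ∧ x ^ 4 = 1))

/-- automorphisms in `Aut_F(E)` fixing all small elements. -/
def fixSub (F : FusionSystem S) (p : ℕ) (E : Subgroup Ω) : Subgroup (F.autGroup E) where
  carrier := {g | ∀ x : E, Sm F p E x → (g : MulAut E) x = x}
  one_mem' := fun x _ => rfl
  mul_mem' := by
    intro a b ha hb x hx
    show ((a : MulAut E) * (b : MulAut E)) x = x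
    rw [MulAut.mul_apply, hb x hx, ha x hx]
  inv_mem' := by
    intro a ha x hx
    show ((a : MulAut E)⁻¹) x = x
    have := ha x hx
    conv_lhs => rw [← this]
    rw [MulAut.inv_apply_self]

/-- automorphisms in `Aut_F(E)` normalizing all small cyclic subgroups. -/
def normSub (F : FusionSystem S) (p : ℕ) (E : Subgroup Ω) : Subgroup (F.autGroup E) where
  carrier := {g | ∀ x : E, Sm F p E x → ∀ y ∈ Subgroup.zpowers x,
    (g : MulAut E) y ∈ Subgroup.zpowers x ∧ (g : MulAut E)⁻¹ y ∈ Subgroup.zpowers x}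
  one_mem' := fun x _ y hy => ⟨hy, by simpa using hy⟩
  mul_mem' := by
    intro a b ha hb x hx y hy
    constructor
    · show ((a : MulAut E) * (b : MulAut E)) y ∈ _
      rw [MulAut.mul_apply]
      exact (ha x hx _ (hb x hx y hy).1).1
    · show ((a : MulAut E) * (b : MulAut E))⁻¹ y ∈ _
      rw [mul_inv_rev, MulAut.mul_apply]
      exact (hb x hx _ (ha x hx y hy).2).2
  inv_mem' := by
    intro a ha x hx y hy
    refine ⟨(ha x hx y hy).2, ?_⟩
    show ((a : MulAut E)⁻¹)⁻¹ y ∈ _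
    rw [inv_inv]; exact (ha x hx y hy).1

theorem map_mem_zpowers {E : Type*} [Group E] (b : MulAut E) {x y : E}
    (hy : y ∈ Subgroup.zpowers x) : b y ∈ Subgroup.zpowers (b x) := by
  obtain ⟨j, rfl⟩ := Subgroup.mem_zpowers_iff.mp hy
  rw [map_zpow]
  exact Subgroup.zpow_mem_zpowers _ _

theorem sm_map (F : FusionSystem S) (p : ℕ) {E : Subgroup Ω} (hES : E ≤ S) (a : F.autGroup E)
    {x : E} (hx : Sm F p E x) : Sm F p E ((a : MulAut E) x) := by
  have hfoc : ((x : Ω))⁻¹ * (((a : MulAut E) x : E) : Ω) ∈ F.focalSubgroup := by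
    apply Subgroup.subset_closure
    exact ⟨E, E.subtype.comp (a : MulAut E).toMonoidHom, x, (mem_autGroup_iff F hES _).mp a.2, rfl⟩
  refine ⟨?_, ?_⟩
  · have := F.focalSubgroup.mul_mem hx.1 hfoc
    rwa [mul_inv_cancel_left] at this
  · rcases hx.2 with h | ⟨h2, h4⟩
    · left; rw [← map_pow, h, map_one]
    · right; exact ⟨h2, by rw [← map_pow, h4, map_one]⟩

theorem fixSub_normal (F : FusionSystem S) (p : ℕ) {E : Subgroup Ω} (hES : E ≤ S) :
    (fixSub F p E).Normal := by
  constructor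
  intro g hg a x hx
  show ((a : MulAut E) * (g : MulAut E) * (a : MulAut E)⁻¹) x = x
  rw [MulAut.mul_apply, MulAut.mul_apply]
  have h1 : Sm F p E ((a : MulAut E)⁻¹ x) := sm_map F p hES a⁻¹ hx
  rw [hg _ h1, MulAut.apply_inv_self]

theorem normSub_normal (F : FusionSystem S) (p : ℕ) {E : Subgroup Ω} (hES : E ≤ S) :
    (normSub F p E).Normal := by
  constructor
  intro g hg a x hx y hy
  have h1 : Sm F p E ((a : MulAut E)⁻¹ x) := sm_map F p hES a⁻¹ hx
  have h2 : (a : MulAut E)⁻¹ y ∈ Subgroup.zpowers ((a : MulAut E)⁻¹ x) := map_mem_zpowers _ hy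
  have h3 := hg _ h1 _ h2
  constructor
  · show ((a : MulAut E) * (g : MulAut E) * (a : MulAut E)⁻¹) y ∈ _
    rw [MulAut.mul_apply, MulAut.mul_apply]
    have := map_mem_zpowers (a : MulAut E) h3.1
    rwa [MulAut.apply_inv_self] at this
  · show ((a : MulAut E) * (g : MulAut E) * (a : MulAut E)⁻¹)⁻¹ y ∈ _
    rw [mul_inv_rev, mul_inv_rev, inv_inv, ← mul_assoc, MulAut.mul_apply, MulAut.mul_apply]
    have := map_mem_zpowers (a : MulAut E) h3.2
    rwa [MulAut.apply_inv_self] at this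

/-- elements of `normSub` commute modulo `fixSub`. -/
theorem comm_mem_fixSub (F : FusionSystem S) (p : ℕ) {E : Subgroup Ω}
    {g h : F.autGroup E} (hg : g ∈ normSub F p E) (hh : h ∈ normSub F p E) :
    g * h * g⁻¹ * h⁻¹ ∈ fixSub F p E := by
  intro x hx
  show ((g : MulAut E) * (h : MulAut E) * (g : MulAut E)⁻¹ * (h : MulAut E)⁻¹) x = x
  rw [MulAut.mul_apply, MulAut.mul_apply, MulAut.mul_apply]
  have hxx : x ∈ Subgroup.zpowers x := Subgroup.mem_zpowers x
  -- commutation on zpowers x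
  have hcomm : ∀ y ∈ Subgroup.zpowers x, (g : MulAut E) ((h : MulAut E) y) =
      (h : MulAut E) ((g : MulAut E) y) := by
    obtain ⟨a, ha⟩ := Subgroup.mem_zpowers_iff.mp (hg x hx x hxx).1
    obtain ⟨b, hb⟩ := Subgroup.mem_zpowers_iff.mp (hh x hx x hxx).1
    have e1 : (g : MulAut E) ((h : MulAut E) x) = (h : MulAut E) ((g : MulAut E) x) := by
      rw [← hb, ← ha, map_zpow, map_zpow, ← hb, ← ha, ← zpow_mul, ← zpow_mul, mul_comm]
    intro y hy
    obtain ⟨c, rfl⟩ := Subgroup.mem_zpowers_iff.mp hy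
    simp only [map_zpow, e1]
  have h1 : (h : MulAut E)⁻¹ x ∈ Subgroup.zpowers x := (hh x hx x hxx).2
  have h2 : (g : MulAut E)⁻¹ ((h : MulAut E)⁻¹ x) ∈ Subgroup.zpowers x := (hg x hx _ h1).2
  rw [hcomm _ h2, MulAut.apply_inv_self, MulAut.apply_inv_self]

theorem fixSub_isPGroup [Finite S] {p : ℕ} [hp : Fact p.Prime] (hS : IsPGroup p S)
    (F : FusionSystem S) {E : Subgroup Ω} (hES : E ≤ S) : IsPGroup p (fixSub F p E) := by
  haveI : Finite E := finite_of_le S hES
  have hEp : IsPGroup p E := hS.to_le hES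
  intro g
  set γ : MulAut E := ((g : F.autGroup E) : MulAut E) with hγ
  have hn : orderOf γ ≠ 0 := (orderOf_pos γ).ne'
  obtain ⟨e, m, hm, hnm⟩ := Nat.exists_eq_pow_mul_and_not_dvd hn p hp.out.ne_one
  have hcop : m.Coprime p := ((Nat.Prime.coprime_iff_not_dvd hp.out).mpr hm).symm
  set b : F.autGroup E := (g : F.autGroup E) ^ (p ^ e) with hb
  have hbC : b ∈ fixSub F p E := Subgroup.pow_mem _ g.2 _
  have hbm : (b : MulAut E) ^ m = 1 := by
    have : (b : MulAut E) = γ ^ (p ^ e) := by rw [hb, hγ]; rfl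
    rw [this, ← pow_mul, ← hnm, pow_orderOf_eq_one]
  -- the focal part of E
  set R : Subgroup E := F.focalSubgroup.subgroupOf E with hR
  have hRinv : ∀ x ∈ R, (b : MulAut E) x ∈ R := by
    intro x hx
    rw [hR, Subgroup.mem_subgroupOf] at hx ⊢
    have hfoc : ((x : Ω))⁻¹ * (((b : MulAut E) x : E) : Ω) ∈ F.focalSubgroup := by
      apply Subgroup.subset_closure
      exact ⟨E, E.subtype.comp (b : MulAut E).toMonoidHom, x,
        (mem_autGroup_iff F hES _).mp b.2, rfl⟩
    have := F.focalSubgroup.mul_mem hx hfoc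
    rwa [mul_inv_cancel_left] at this
  have hRfix : ∀ x ∈ R, (b : MulAut E) x = x :=
    aut_trivial_of_small (b : MulAut E) hcop hbm (Nat.card R) R le_rfl (hEp.to_subgroup R) hRinv
      (fun x hx hsm => hbC x ⟨Subgroup.mem_subgroupOf.mp hx, hsm⟩)
  have hall : ∀ x : E, (b : MulAut E) x = x := by
    intro x
    have hnR : x⁻¹ * (b : MulAut E) x ∈ R := by
      rw [hR, Subgroup.mem_subgroupOf]
      apply Subgroup.subset_closure
      exact ⟨E, E.subtype.comp (b : MulAut E).toMonoidHom, x,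
        (mem_autGroup_iff F hES _).mp b.2, rfl⟩
    obtain ⟨k, hk⟩ := hEp (x⁻¹ * (b : MulAut E) x)
    exact fix_of_fix_comm (b : MulAut E) hcop hbm hk (hRfix _ hnR)
  refine ⟨e, ?_⟩
  apply Subtype.ext
  apply Subtype.ext
  ext x
  have := hall x
  exact congrArg Subtype.val this

theorem no_essential_of_normal_small [Finite S] {p : ℕ} [hp : Fact p.Prime] (hS : IsPGroup p S)
    (F : FusionSystem S) (hF : F.IsSaturated p)
    (hnorm : ∀ x ∈ F.focalSubgroup, (x ^ p = 1 ∨ (p = 2 ∧ x ^ 4 = 1)) → ∀ s ∈ S,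
      s * x * s⁻¹ ∈ Subgroup.zpowers x)
    (E : Subgroup Ω) (hE : F.IsEssential p E) : False := by
  have hEc := hE.1
  have hES : E ≤ S := hEc.1
  have hrad := isRadical_of_isEssential hS F hE
  obtain ⟨_, hfa⟩ := fullyNormalized_imp hS F hF hE.2.1
  obtain ⟨T, hT⟩ := hfa.2
  haveI : Finite E := finite_of_le S hES
  have hEp : IsPGroup p E := hS.to_le hES
  haveI hC₀n := fixSub_normal F p hES
  haveI hKn := normSub_normal F p hES
  have hC₀p := fixSub_isPGroup hS F hES
  -- T ≤ K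
  have hTK1 : ∀ t : F.autGroup E, t ∈ (T : Subgroup (F.autGroup E)) → ∀ x : E, Sm F p E x →
      ∀ y ∈ Subgroup.zpowers x, (t : MulAut E) y ∈ Subgroup.zpowers x := by
    intro t ht x hx y hy
    rw [hT, Subgroup.mem_subgroupOf] at ht
    obtain ⟨s, hs, hts⟩ := (mem_autInducedBy_iff S E _).mp ht
    obtain ⟨j, rfl⟩ := Subgroup.mem_zpowers_iff.mp hy
    rw [map_zpow]
    apply Subgroup.zpow_mem
    have hcond : ((x : Ω) ^ p = 1 ∨ (p = 2 ∧ (x : Ω) ^ 4 = 1)) := by
      rcases hx.2 with h | ⟨h2, h4⟩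
      · left; exact_mod_cast congrArg Subtype.val h
      · right; exact ⟨h2, by exact_mod_cast congrArg Subtype.val h4⟩
    have h1 := hnorm (x : Ω) hx.1 hcond s hs
    obtain ⟨i, hi⟩ := Subgroup.mem_zpowers_iff.mp h1
    rw [Subgroup.mem_zpowers_iff]
    refine ⟨i, ?_⟩
    apply Subtype.ext
    rw [hts x]
    rw [← hi]
    simp
  have hTK : (T : Subgroup (F.autGroup E)) ≤ normSub F p E := by
    intro t ht x hx y hy
    exact ⟨hTK1 t ht x hx y hy, hTK1 t⁻¹ (Subgroup.inv_mem _ ht) x hx y hy⟩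
  -- C₀ ≤ T
  have hC₀T : fixSub F p E ≤ (T : Subgroup (F.autGroup E)) := by
    have h1 : IsPGroup p ((T : Subgroup (F.autGroup E)) ⊔ fixSub F p E : Subgroup (F.autGroup E)) :=
      IsPGroup.to_sup_of_normal_right T.2 hC₀p
    have h2 := T.is_maximal' h1 le_sup_left
    rw [← h2]; exact le_sup_right
  -- K normalizes T
  have hKT : ∀ k ∈ normSub F p E, ∀ t ∈ (T : Subgroup (F.autGroup E)),
      k * t * k⁻¹ ∈ (T : Subgroup (F.autGroup E)) := by
    intro k hk t ht
    have h1 := hC₀T (comm_mem_fixSub F p hk (hTK ht))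
    have h2 := Subgroup.mul_mem _ h1 ht
    have h3 : k * t * k⁻¹ * t⁻¹ * t = k * t * k⁻¹ := by group
    rwa [h3] at h2
  have hKN : normSub F p E ≤ Subgroup.normalizer ((T : Subgroup (F.autGroup E)) : Set (F.autGroup E)) := by
    intro k hk
    rw [Subgroup.mem_normalizer_iff]
    intro t
    constructor
    · exact hKT k hk t
    · intro h
      have := hKT k⁻¹ (Subgroup.inv_mem _ hk) _ h
      have h3 : k⁻¹ * (k * t * k⁻¹) * k⁻¹⁻¹ = t := by group
      rwa [h3] at this
  -- T normal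
  have hTn : (T : Subgroup (F.autGroup E)).Normal := by
    constructor
    intro t ht a
    set Q : Subgroup (F.autGroup E) :=
      (T : Subgroup (F.autGroup E)).map (MulAut.conj a).toMonoidHom with hQ
    have hQp : IsPGroup p Q := T.2.map _
    have hQK : Q ≤ normSub F p E := by
      rintro _ ⟨u, hu, rfl⟩
      exact hKn.conj_mem u (hTK hu) a
    have h1 : IsPGroup p (Q ⊔ (T : Subgroup (F.autGroup E)) : Subgroup (F.autGroup E)) :=
      IsPGroup.to_sup_of_normal_right' hQp T.2 (hQK.trans hKN)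
    have h2 := T.is_maximal' h1 le_sup_right
    have h3 : a * t * a⁻¹ ∈ Q := ⟨t, ht, rfl⟩
    rw [← h2]; exact (le_sup_left : Q ≤ _) h3
  have hle := le_pCore_h25 hTn T.2
  -- conclude N_S(E) ≤ E
  have hNE : S ⊓ Subgroup.normalizer (E : Set Ω) ≤ E := by
    intro g hg
    have hgN : g ∈ normalizerIn S E := hg
    have h1 : normAut E g hg.2 ∈ autInducedBy S E := normAut_mem S E hgN
    have h2 : normAut E g hg.2 ∈ F.autGroup E := autInducedBy_le_autGroup F hES h1
    have h3 : normAut E g hg.2 ∈ Inn E := by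
      rw [← hrad.2]
      refine ⟨⟨_, h2⟩, hle ?_, rfl⟩
      rw [hT, Subgroup.mem_subgroupOf]
      exact h1
    exact mem_of_normAut_mem_inn F hEc hgN h3
  have hSE : S ≤ E := le_of_normalizer_inf_le hS hES le_rfl Subgroup.le_normalizer hNE
  have hEq : E = S := le_antisymm hES hSE
  rw [hEq] at hE
  exact Cfsg.Agent.h26EssGen.essential_ne_top hS F hF hE

end Cfsg.Agent.h26OmAut
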