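import Mathlib
import Cfsg.Agent.Lib_helper26_OmAut

set_option autoImplicit false

/-!
# A `p'`-automorphism moving small elements down a filtration is trivial
-/

namespace Cfsg.Agent.h26OmAut

open scoped commutatorElement

variable {E : Type*} [Group E]

theorem aut_trivial_of_filtration [Finite E] {p : ℕ} [hp : Fact p.Prime] (α : MulAut E) {m : ℕ}
    (hm : m.Coprime p) (hαm : α ^ m = 1) (Λ : ℕ → Subgroup E) (hΛ0 : Λ 0 = ⊥) :
    ∀ (N : ℕ) (P : Subgroup E), Nat.card P ≤ N → IsPGroup p P → (∀ x ∈ P, α x ∈ P) →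
      (∃ n, P ≤ Λ n) →
      (∀ i, ∀ x ∈ P, (x ^ p = 1 ∨ (p = 2 ∧ x ^ 4 = 1)) → x ∈ Λ (i + 1) → x⁻¹ * α x ∈ Λ i) →
      ∀ x ∈ P, α x = x := by
  intro N
  induction N with
  | zero =>
    intro P hc
    have := Nat.card_pos (α := P)
    omega
  | succ N ih =>
    intro P hc hP hinv hΛn hsm
    have hpow : ∀ y ∈ P, ∃ k, y ^ (p ^ k) = 1 := by
      intro y hy
      obtain ⟨k, hk⟩ := hP ⟨y, hy⟩
      exact ⟨k, by simpa using congrArg Subtype.val hk⟩
    set D : Subgroup E := Subgroup.closure {y | ∃ x ∈ P, y = x⁻¹ * α x} with hD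
    have hDP : D ≤ P := by
      rw [hD, Subgroup.closure_le]
      rintro y ⟨x, hx, rfl⟩
      exact P.mul_mem (P.inv_mem hx) (hinv x hx)
    have hDinv : ∀ d ∈ D, α d ∈ D := by
      intro d hd
      induction hd using Subgroup.closure_induction with
      | mem y hy =>
        obtain ⟨x, hx, rfl⟩ := hy
        apply Subgroup.subset_closure
        exact ⟨α x, hinv x hx, by rw [map_mul, map_inv]⟩
      | one => rw [map_one]; exact D.one_mem
      | mul a b _ _ ha hb => rw [map_mul]; exact D.mul_mem ha hb
      | inv a _ ha => rw [map_inv]; exact D.inv_mem ha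
    have hred : (∀ d ∈ D, α d = d) → ∀ x ∈ P, α x = x := by
      intro hDfix x hx
      have hn : x⁻¹ * α x ∈ D := Subgroup.subset_closure ⟨x, hx, rfl⟩
      obtain ⟨k, hk⟩ := hpow _ (hDP hn)
      exact fix_of_fix_comm α hm hαm hk (hDfix _ hn)
    by_cases hlt : Nat.card D ≤ N
    · exact hred (ih D hlt (hP.to_le hDP) hDinv (hΛn.imp fun n h => hDP.trans h)
        (fun i x hx => hsm i x (hDP hx)))
    · have hDeq : D = P := by
        apply Subgroup.eq_of_le_of_card_ge hDP
        omega
      by_cases hbot : P = ⊥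
      · intro x hx
        rw [hbot, Subgroup.mem_bot] at hx
        rw [hx, map_one]
      haveI : Nontrivial P := (Subgroup.nontrivial_iff_ne_bot P).mpr hbot
      haveI : Group.IsNilpotent P := hP.isNilpotent
      have hcomm : commutator P ≠ ⊤ := (Group.IsSolvable.commutator_lt_top_of_nontrivial P).ne
      obtain ⟨M, hMn, hMp, hMc⟩ := exists_normal_prime_index_comm hcomm
      have hMidx : M.index = p := by
        have h1 : M.index ∣ Nat.card P := Subgroup.index_dvd_card M
        obtain ⟨k, hk⟩ := hP.exists_card_eq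
        rw [hk] at h1
        exact (Nat.prime_dvd_prime_iff_eq hMp hp.out).mp (hMp.dvd_of_dvd_pow h1)
      set Φ : Subgroup E := Subgroup.closure
        ({y | ∃ a ∈ P, ∃ b ∈ P, y = a * b * a⁻¹ * b⁻¹} ∪ {y | ∃ a ∈ P, y = a ^ p}) with hΦ
      have hΦM : Φ ≤ M.map P.subtype := by
        rw [hΦ, Subgroup.closure_le]
        rintro y (⟨a, ha, b, hb, rfl⟩ | ⟨a, ha, rfl⟩)
        · refine ⟨(⟨a, ha⟩ : P) * ⟨b, hb⟩ * (⟨a, ha⟩ : P)⁻¹ * (⟨b, hb⟩ : P)⁻¹, hMc ?_, rfl⟩
          have := Subgroup.commutator_mem_commutator (Subgroup.mem_top (⟨a, ha⟩ : P))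
            (Subgroup.mem_top (⟨b, hb⟩ : P))
          rw [commutator_def]
          exact this
        · refine ⟨(⟨a, ha⟩ : P) ^ p, ?_, rfl⟩
          haveI := hMn
          have := Subgroup.pow_index_mem M (⟨a, ha⟩ : P)
          rwa [hMidx] at this
      have hΦP : Φ ≤ P := hΦM.trans (Subgroup.map_subtype_le M)
      have hΦcard : Nat.card Φ ≤ N := by
        have h1 : Nat.card Φ ≤ Nat.card (M.map P.subtype) := Subgroup.card_le_of_le hΦM
        have h2 : Nat.card (M.map P.subtype) = Nat.card M :=
          Subgroup.card_map_of_injective P.subtype_injective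
        have h3 : Nat.card M * M.index = Nat.card P := Subgroup.card_mul_index M
        have h4 : 2 ≤ p := hp.out.two_le
        have h5 : 0 < Nat.card M := Nat.card_pos
        rw [hMidx] at h3
        nlinarith
      have hΦinv : ∀ y ∈ Φ, α y ∈ Φ := by
        intro y hy
        induction hy using Subgroup.closure_induction with
        | mem y hy =>
          apply Subgroup.subset_closure
          rcases hy with ⟨a, ha, b, hb, rfl⟩ | ⟨a, ha, rfl⟩
          · left
            exact ⟨α a, hinv a ha, α b, hinv b hb, by simp only [map_mul, map_inv]⟩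
          · right
            exact ⟨α a, hinv a ha, by rw [map_pow]⟩
        | one => rw [map_one]; exact Φ.one_mem
        | mul a b _ _ ha hb => rw [map_mul]; exact Φ.mul_mem ha hb
        | inv a _ ha => rw [map_inv]; exact Φ.inv_mem ha
      have hΦfix : ∀ y ∈ Φ, α y = y :=
        ih Φ hΦcard (hP.to_le hΦP) hΦinv (hΛn.imp fun n h => hΦP.trans h)
          (fun i x hx => hsm i x (hΦP hx))
      have hΦconj : ∀ g ∈ P, ∀ y ∈ Φ, g * y * g⁻¹ ∈ Φ := by
        intro g hg y hy
        induction hy using Subgroup.closure_induction with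
        | mem y hy =>
          apply Subgroup.subset_closure
          rcases hy with ⟨a, ha, b, hb, rfl⟩ | ⟨a, ha, rfl⟩
          · left
            refine ⟨g * a * g⁻¹, P.mul_mem (P.mul_mem hg ha) (P.inv_mem hg),
              g * b * g⁻¹, P.mul_mem (P.mul_mem hg hb) (P.inv_mem hg), by group⟩
          · right
            refine ⟨g * a * g⁻¹, P.mul_mem (P.mul_mem hg ha) (P.inv_mem hg), ?_⟩
            rw [conj_pow]
        | one => simp
        | mul a b _ _ ha hb =>
          have : g * (a * b) * g⁻¹ = (g * a * g⁻¹) * (g * b * g⁻¹) := by group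
          rw [this]; exact Φ.mul_mem ha hb
        | inv a _ ha =>
          have : g * a⁻¹ * g⁻¹ = (g * a * g⁻¹)⁻¹ := by group
          rw [this]; exact Φ.inv_mem ha
      have hcent : ∀ y ∈ Φ, ∀ g ∈ P, g * y = y * g := by
        intro y hy g hg
        rw [← hDeq] at hg
        induction hg using Subgroup.closure_induction with
        | mem g hg =>
          obtain ⟨x, hx, rfl⟩ := hg
          have h1 := hΦfix _ (hΦconj x hx y hy)
          rw [map_mul, map_mul, map_inv, hΦfix y hy] at h1
          calc x⁻¹ * α x * y = x⁻¹ * (α x * y * (α x)⁻¹) * α x := by group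
            _ = x⁻¹ * (x * y * x⁻¹) * α x := by rw [h1]
            _ = y * (x⁻¹ * α x) := by group
        | one => simp
        | mul a b _ _ ha hb => rw [mul_assoc, hb, ← mul_assoc, ha, mul_assoc]
        | inv a _ ha =>
          calc a⁻¹ * y = a⁻¹ * (y * a) * a⁻¹ := by group
            _ = a⁻¹ * (a * y) * a⁻¹ := by rw [ha]
            _ = y * a⁻¹ := by group
      -- final step: every element of `P` is small
      have hppow : ∀ a ∈ P, a ^ p ∈ Φ := fun a ha => Subgroup.subset_closure (Or.inr ⟨a, ha, rfl⟩)
      have hmulpow : ∀ a ∈ P, ∀ b ∈ P, ∃ e : E, e ^ p = 1 ∧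
          ∀ n, (a * b) ^ n = e ^ (∑ i ∈ Finset.range n, i) * (a ^ n * b ^ n) := by
        intro a ha b hb
        have heΦ : b * a * b⁻¹ * a⁻¹ ∈ Φ := Subgroup.subset_closure (Or.inl ⟨b, hb, a, ha, rfl⟩)
        have he : b * a = (b * a * b⁻¹ * a⁻¹) * (a * b) := by group
        have hea : Commute (b * a * b⁻¹ * a⁻¹) a := (hcent _ heΦ _ ha).symm
        have heb : Commute (b * a * b⁻¹ * a⁻¹) b := (hcent _ heΦ _ hb).symm
        refine ⟨b * a * b⁻¹ * a⁻¹, ?_, fun n => Cfsg.Agent.helper17.Ded.mul_pow_of he hea heb n⟩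
        apply comm_pow_eq_one he heb
        exact (hcent _ (hppow _ hb) _ ha).symm
      have hsmall : ∀ y ∈ P, (y ^ p = 1 ∨ (p = 2 ∧ y ^ 4 = 1)) := by
        by_cases h2 : p = 2
        · have hq : ∀ a ∈ P, ∀ b ∈ P, (a * b) ^ 4 = a ^ 4 * b ^ 4 := by
            intro a ha b hb
            obtain ⟨e, hep, hf⟩ := hmulpow a ha b hb
            have h6 : e ^ (∑ i ∈ Finset.range 4, i) = 1 := by
              have : (∑ i ∈ Finset.range 4, i) = 2 * 3 := by decide
              rw [this, pow_mul, ← h2, hep, one_pow]
            rw [hf 4, h6, one_mul]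
          have hall : ∀ y ∈ D, y ^ 4 = 1 := by
            intro y hy
            induction hy using Subgroup.closure_induction with
            | mem y hy =>
              obtain ⟨x, hx, rfl⟩ := hy
              rw [hq _ (P.inv_mem hx) _ (hinv x hx), inv_pow, ← map_pow]
              have hx4 : x ^ 4 ∈ Φ := by
                have : x ^ 4 = (x ^ p) ^ p := by rw [h2, ← pow_mul]
                rw [this]
                exact hppow _ (hΦP (hppow x hx))
              rw [hΦfix _ hx4, inv_mul_cancel]
            | one => exact one_pow 4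
            | mul a b ha hb iha ihb => rw [hq a (hDP ha) b (hDP hb), iha, ihb, one_mul]
            | inv a _ iha => rw [inv_pow, iha, inv_one]
          intro y hy
          exact Or.inr ⟨h2, hall y (hDeq ▸ hy)⟩
        · have hodd : p ∣ ∑ i ∈ Finset.range p, i := by
            have h1 : (∑ i ∈ Finset.range p, i) * 2 = p * (p - 1) := Finset.sum_range_id_mul_two p
            have h3 : Nat.Coprime p 2 :=
              (Nat.coprime_primes hp.out Nat.prime_two).mpr h2
            exact h3.dvd_of_dvd_mul_right (h1 ▸ Dvd.intro _ rfl)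
          obtain ⟨c, hc⟩ := hodd
          have hq : ∀ a ∈ P, ∀ b ∈ P, (a * b) ^ p = a ^ p * b ^ p := by
            intro a ha b hb
            obtain ⟨e, hep, hf⟩ := hmulpow a ha b hb
            have h6 : e ^ (∑ i ∈ Finset.range p, i) = 1 := by rw [hc, pow_mul, hep, one_pow]
            rw [hf p, h6, one_mul]
          have hall : ∀ y ∈ D, y ^ p = 1 := by
            intro y hy
            induction hy using Subgroup.closure_induction with
            | mem y hy =>
              obtain ⟨x, hx, rfl⟩ := hy
              rw [hq _ (P.inv_mem hx) _ (hinv x hx), inv_pow, ← map_pow, hΦfix _ (hppow x hx),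
                inv_mul_cancel]
            | one => exact one_pow p
            | mul a b ha hb iha ihb => rw [hq a (hDP ha) b (hDP hb), iha, ihb, one_mul]
            | inv a _ iha => rw [inv_pow, iha, inv_one]
          intro y hy
          exact Or.inl (hall y (hDeq ▸ hy))
      -- induction along the filtration
      have hfil : ∀ i, ∀ y ∈ P, y ∈ Λ i → α y = y := by
        intro i
        induction i with
        | zero =>
          intro y _ hy
          rw [hΛ0, Subgroup.mem_bot] at hy
          rw [hy, map_one]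
        | succ i ihi =>
          intro y hy hyΛ
          have hw := hsm i y hy (hsmall y hy) hyΛ
          have hwP : y⁻¹ * α y ∈ P := P.mul_mem (P.inv_mem hy) (hinv y hy)
          obtain ⟨k, hk⟩ := hpow _ hwP
          exact fix_of_fix_comm α hm hαm hk (ihi _ hwP hw)
      obtain ⟨n, hn⟩ := hΛn
      intro x hx
      exact hfil n x hx (hn hx)

end Cfsg.Agent.h26OmAut
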