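import Mathlib
import Cfsg.Agent.Lib_helper26_OmAut3
import Cfsg.Agent.Lib_helper25_SatBasic
import Cfsg.Prelude.Def_FusionSystem

set_option autoImplicit false
set_option linter.style.haveILetI false

/-!
# Automorphisms of order prime to `p` acting by `S`-conjugation on small hyperfocal elements
-/

namespace Cfsg.Agent.h26OmAut

open Cfsg Cfsg.FusionSystem Cfsg.Agent.helper25
open scoped commutatorElement

variable {Ω : Type*} [Group Ω] {S : Subgroup Ω}

theorem aut_eq_one_of_conj [Finite S] {p : ℕ} [hp : Fact p.Prime] (hS : IsPGroup p S)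
    (F : FusionSystem S) {R : Subgroup Ω} (hRS : R ≤ S) (α : MulAut R) (hα : α ∈ F.autGroup R)
    {m : ℕ} (hm : m.Coprime p) (hαm : α ^ m = 1)
    (hconj : ∀ x : R, (x : Ω) ∈ F.hyperfocalSubgroup p → (x ^ p = 1 ∨ (p = 2 ∧ x ^ 4 = 1)) →
      ∃ s ∈ S, ((α x : R) : Ω) = s * x * s⁻¹) : α = 1 := by
  haveI : Finite R := finite_of_le S hRS
  have hRp : IsPGroup p R := hS.to_le hRS
  -- α lies in the p-residual
  have hαres : (⟨α, hα⟩ : F.autGroup R) ∈ pResidual p (F.autGroup R) := by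
    apply Subgroup.subset_closure
    show Nat.Coprime (orderOf (⟨α, hα⟩ : F.autGroup R)) p
    have h1 : orderOf (⟨α, hα⟩ : F.autGroup R) = orderOf α := Subgroup.orderOf_mk α hα
    rw [h1]
    exact Nat.Coprime.coprime_dvd_left (orderOf_dvd_of_pow_eq_one hαm) hm
  have hcomm : ∀ x : R, ((x⁻¹ * α x : R) : Ω) ∈ F.hyperfocalSubgroup p := by
    intro x
    apply Subgroup.subset_closure
    exact ⟨R, ⟨α, hα⟩, x, hRS, hαres, rfl⟩
  set P : Subgroup R := (F.hyperfocalSubgroup p).subgroupOf R with hP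
  have hPinv : ∀ x ∈ P, α x ∈ P := by
    intro x hx
    rw [hP, Subgroup.mem_subgroupOf] at hx ⊢
    have := (F.hyperfocalSubgroup p).mul_mem hx (hcomm x)
    have e : (x : Ω) * ((x⁻¹ * α x : R) : Ω) = ((α x : R) : Ω) := by
      push_cast
      group
    rwa [e] at this
  -- nilpotency of S
  haveI : Group.IsNilpotent S := hS.isNilpotent
  obtain ⟨n, hn⟩ := (Subgroup.isNilpotent_iff_lowerCentralSeries S).mp inferInstance
  let Λ : ℕ → Subgroup R := fun i => (S.lowerCentralSeries (n - i)).subgroupOf R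
  have hΛ0 : Λ 0 = ⊥ := by
    show (S.lowerCentralSeries (n - 0)).subgroupOf R = ⊥
    rw [Nat.sub_zero, hn]
    exact Subgroup.bot_subgroupOf R
  have hPn : ∃ k, P ≤ Λ k := by
    refine ⟨n, fun x _ => ?_⟩
    show (x : Ω) ∈ S.lowerCentralSeries (n - n)
    rw [Nat.sub_self, Subgroup.lowerCentralSeries_zero]
    exact hRS x.2
  have hstep : ∀ i, ∀ x ∈ P, (x ^ p = 1 ∨ (p = 2 ∧ x ^ 4 = 1)) → x ∈ Λ (i + 1) →
      x⁻¹ * α x ∈ Λ i := by
    intro i x hx hsm hxΛ
    obtain ⟨s, hs, hsx⟩ := hconj x (Subgroup.mem_subgroupOf.mp hx) hsm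
    show ((x⁻¹ * α x : R) : Ω) ∈ S.lowerCentralSeries (n - i)
    have hxΛ' : (x : Ω) ∈ S.lowerCentralSeries (n - (i + 1)) := hxΛ
    have e : ((x⁻¹ * α x : R) : Ω) = ⁅(x : Ω)⁻¹, s⁆ := by
      push_cast
      rw [hsx, commutatorElement_def]
      group
    rw [e]
    by_cases hin : i + 1 ≤ n
    · have e2 : n - i = (n - (i + 1)) + 1 := by omega
      rw [e2, Subgroup.lowerCentralSeries_succ]
      exact Subgroup.commutator_mem_commutator (Subgroup.inv_mem _ hxΛ') hs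
    · have e2 : n - i = 0 := by omega
      rw [e2, Subgroup.lowerCentralSeries_zero]
      rw [commutatorElement_def]
      have hxS : (x : Ω) ∈ S := hRS x.2
      exact S.mul_mem (S.mul_mem (S.mul_mem (S.inv_mem hxS) hs) (S.inv_mem (S.inv_mem hxS)))
        (S.inv_mem hs)
  have hPfix := aut_trivial_of_filtration α hm hαm Λ hΛ0 (Nat.card P) P le_rfl
    (hRp.to_subgroup P) hPinv hPn hstep
  ext x
  have hxP : x⁻¹ * α x ∈ P := Subgroup.mem_subgroupOf.mpr (hcomm x)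
  obtain ⟨k, hk⟩ := hRp (x⁻¹ * α x)
  have := fix_of_fix_comm α hm hαm hk (hPfix _ hxP)
  rw [this]; rfl

theorem card_zpowers_small {G : Type*} [Group G] {p : ℕ} [hp : Fact p.Prime] {x : G} (hx1 : x ≠ 1)
    (hsm : x ^ p = 1 ∨ (p = 2 ∧ x ^ 4 = 1)) :
    Nat.card (Subgroup.zpowers x) = p ∨ Nat.card (Subgroup.zpowers x) = 4 := by
  rw [Nat.card_zpowers]
  rcases hsm with h | ⟨h2, h4⟩
  · left; exact orderOf_eq_prime h hx1
  · have hd : orderOf x ∣ 2 ^ 2 := orderOf_dvd_of_pow_eq_one h4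
    obtain ⟨k, hk, hk'⟩ := (Nat.dvd_prime_pow Nat.prime_two).mp hd
    interval_cases k
    · exfalso
      rw [pow_zero, orderOf_eq_one_iff] at hk'
      exact hx1 hk'
    · left; rw [hk', h2]; rfl
    · right; rw [hk']; rfl

theorem aut_eq_one_of_homSet [Finite S] {p : ℕ} [hp : Fact p.Prime] (hS : IsPGroup p S)
    (F : FusionSystem S)
    (h : ∀ A B : Subgroup Ω, A ≤ (F.hyperfocalSubgroup p) → B ≤ (F.hyperfocalSubgroup p) →
      IsCyclic ↥A → (Nat.card ↥A = p ∨ Nat.card ↥A = 4) → IsCyclic ↥B →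
      (Nat.card ↥B = p ∨ Nat.card ↥B = 4) → F.homSet A B ⊆ (Cfsg.innerFusionSystem S).Hom A)
    {R : Subgroup Ω} (hRS : R ≤ S) (α : MulAut R) (hα : α ∈ F.autGroup R)
    {m : ℕ} (hm : m.Coprime p) (hαm : α ^ m = 1) : α = 1 := by
  apply aut_eq_one_of_conj hS F hRS α hα hm hαm
  intro x hxhyp hsm
  by_cases hx1 : x = 1
  · exact ⟨1, S.one_mem, by rw [hx1, map_one]; simp⟩
  have hxΩ1 : (x : Ω) ≠ 1 := fun h' => hx1 (Subtype.ext h')
  have hsmΩ : ((x : Ω) ^ p = 1 ∨ (p = 2 ∧ (x : Ω) ^ 4 = 1)) := by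
    rcases hsm with h1 | ⟨h2, h4⟩
    · left; exact_mod_cast congrArg Subtype.val h1
    · right; exact ⟨h2, by exact_mod_cast congrArg Subtype.val h4⟩
  have hαres : (⟨α, hα⟩ : F.autGroup R) ∈ pResidual p (F.autGroup R) := by
    apply Subgroup.subset_closure
    show Nat.Coprime (orderOf (⟨α, hα⟩ : F.autGroup R)) p
    have h1 : orderOf (⟨α, hα⟩ : F.autGroup R) = orderOf α := Subgroup.orderOf_mk α hα
    rw [h1]
    exact Nat.Coprime.coprime_dvd_left (orderOf_dvd_of_pow_eq_one hαm) hm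
  have hαx : ((α x : R) : Ω) ∈ F.hyperfocalSubgroup p := by
    have h1 : ((x⁻¹ * α x : R) : Ω) ∈ F.hyperfocalSubgroup p := by
      apply Subgroup.subset_closure
      exact ⟨R, ⟨α, hα⟩, x, hRS, hαres, rfl⟩
    have := (F.hyperfocalSubgroup p).mul_mem hxhyp h1
    have e : (x : Ω) * ((x⁻¹ * α x : R) : Ω) = ((α x : R) : Ω) := by
      push_cast
      group
    rwa [e] at this
  have hαx1 : ((α x : R) : Ω) ≠ 1 := by
    intro h'
    apply hx1
    have : α x = 1 := Subtype.ext h'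
    exact (map_eq_one_iff α α.injective).mp this
  have hsmα : (((α x : R) : Ω) ^ p = 1 ∨ (p = 2 ∧ ((α x : R) : Ω) ^ 4 = 1)) := by
    rcases hsm with h1 | ⟨h2, h4⟩
    · left
      have : (α x) ^ p = 1 := by rw [← map_pow, h1, map_one]
      exact_mod_cast congrArg Subtype.val this
    · right
      have : (α x) ^ 4 = 1 := by rw [← map_pow, h4, map_one]
      exact ⟨h2, by exact_mod_cast congrArg Subtype.val this⟩
  have hAR : Subgroup.zpowers (x : Ω) ≤ R := Subgroup.zpowers_le.mpr x.2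
  have hA : Subgroup.zpowers (x : Ω) ≤ F.hyperfocalSubgroup p := Subgroup.zpowers_le.mpr hxhyp
  have hB : Subgroup.zpowers ((α x : R) : Ω) ≤ F.hyperfocalSubgroup p := Subgroup.zpowers_le.mpr hαx
  have hφ : (R.subtype.comp α.toMonoidHom).comp (Subgroup.inclusion hAR) ∈
      F.Hom (Subgroup.zpowers (x : Ω)) :=
    restrict_mem F hAR ((mem_autGroup_iff F hRS α).mp hα)
  have hφB : ∀ a : Subgroup.zpowers (x : Ω),
      ((R.subtype.comp α.toMonoidHom).comp (Subgroup.inclusion hAR)) a ∈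
        Subgroup.zpowers ((α x : R) : Ω) := by
    rintro ⟨a, ha⟩
    obtain ⟨k, rfl⟩ := Subgroup.mem_zpowers_iff.mp ha
    have e : Subgroup.inclusion hAR ⟨(x : Ω) ^ k, ha⟩ = x ^ k := Subtype.ext (by simp)
    show ((α (Subgroup.inclusion hAR ⟨(x : Ω) ^ k, ha⟩) : R) : Ω) ∈ _
    rw [e, map_zpow]
    push_cast
    exact Subgroup.zpow_mem_zpowers _ _
  have hin := h _ _ hA hB inferInstance (card_zpowers_small hxΩ1 hsmΩ) inferInstance
    (card_zpowers_small hαx1 hsmα) ⟨hφ, hφB⟩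
  obtain ⟨-, s, hs, hsφ⟩ := hin
  refine ⟨s, hs, ?_⟩
  exact hsφ ⟨(x : Ω), Subgroup.mem_zpowers _⟩

end Cfsg.Agent.h26OmAut
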