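import Cfsg.Agent.Lib_helper25_NormalChar
import Cfsg.Agent.Lib_helper25_ChainNormal2
import Cfsg.Agent.Lib_helper25_Radical
import Cfsg.Agent.S0120
import Cfsg.Prelude.Def_PLocal

set_option autoImplicit false

namespace Cfsg.Agent.h26Omega

open Cfsg Cfsg.FusionSystem Cfsg.Agent.helper25
open scoped commutatorElement

/-- a subgroup of a finite group all of whose elements of order prime to `p` are trivial is a
`p`-group. -/
theorem isPGroup_of_coprime_trivial {G : Type*} [Group G] [Finite G] {p : ℕ} [hp : Fact p.Prime]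
    (K : Subgroup G) (h : ∀ g ∈ K, (orderOf g).Coprime p → g = 1) : IsPGroup p K := by
  rintro ⟨g, hg⟩
  obtain ⟨k, m, hm, hkm⟩ :=
    Nat.exists_eq_pow_mul_and_not_dvd (orderOf_pos g).ne' p hp.out.ne_one
  refine ⟨k, ?_⟩
  apply Subtype.ext
  show g ^ p ^ k = 1
  apply h _ (K.pow_mem hg _)
  have hpk : 0 < p ^ k := pow_pos hp.out.pos k
  have h1 : orderOf (g ^ p ^ k) = m := by
    rw [orderOf_pow' g hpk.ne', hkm, Nat.gcd_mul_right_left]
    exact Nat.mul_div_cancel_left m hpk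
  rw [h1]
  exact ((Nat.Prime.coprime_iff_not_dvd hp.out).mpr hm).symm

/-- an automorphism of order prime to `p` of a finite `p`-group `G`, `p` odd, acting trivially on
`G / P'` and on the factors of a series from `1` up to a subgroup containing the elements of order
`p` of `P'`, is trivial. -/
theorem aut_trivial_of_series {G : Type*} [Group G] [Finite G] {p : ℕ} [Fact p.Prime]
    (hp : p ≠ 2) (hG : IsPGroup p G) (β : MulAut G) (hβ : (orderOf β).Coprime p)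
    (P' : Subgroup G) (n : ℕ) (Q' : Fin (n + 1) → Subgroup G) (h0 : Q' 0 = ⊥)
    (hΩ : ∀ x ∈ P', x ^ p = 1 → x ∈ Q' (Fin.last n))
    (hstep : ∀ i : Fin n, ∀ x ∈ Q' i.succ, x⁻¹ * β x ∈ Q' i.castSucc)
    (hP : ∀ x, x⁻¹ * β x ∈ P') : β = 1 := by
  have hk : β ^ orderOf β = 1 := pow_orderOf_eq_one β
  have hA : ∀ i : Fin (n + 1), ∀ x ∈ Q' i, β x = x := by
    intro i
    induction i using Fin.induction with
    | zero =>
      intro x hx
      rw [h0, Subgroup.mem_bot] at hx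
      rw [hx, map_one]
    | succ i ih =>
      intro x hx
      exact Cfsg.Agent.S0120.fixed_of_comm_fixed hG β (orderOf β) hβ hk x (ih _ (hstep i x hx))
  have hB : ∀ x ∈ P', x ^ p = 1 → β x = x := fun x hx hxp => hA _ x (hΩ x hx hxp)
  have h1 : ∀ x ∈ P', β x ∈ P' := by
    intro x hx
    have e : β x = x * (x⁻¹ * β x) := by group
    rw [e]
    exact P'.mul_mem hx (hP x)
  have h2 := Cfsg.Agent.S0120.symm_mem_of_invariant β (orderOf β) (orderOf_pos β).ne' hk P' h1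
  have hγk : (Cfsg.Agent.S0120.resAut β P' h1 h2) ^ orderOf β = 1 := by
    ext x
    rw [Cfsg.Agent.S0120.resAut_pow, hk]
    rfl
  have hγ : (orderOf (Cfsg.Agent.S0120.resAut β P' h1 h2)).Coprime p :=
    Nat.Coprime.coprime_dvd_left (orderOf_dvd_of_pow_eq_one hγk) hβ
  have hγ1 := Cfsg.Agent.S0120.result hp (hG.to_subgroup P') _ hγ
    (fun x hx => Subtype.ext (hB x x.2 (by
      have := congrArg Subtype.val hx
      simpa using this)))
  have hC : ∀ x ∈ P', β x = x := by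
    intro x hx
    have := congrArg (fun f : MulAut P' => ((f ⟨x, hx⟩ : P') : G)) hγ1
    exact this
  ext x
  exact Cfsg.Agent.S0120.fixed_of_comm_fixed hG β (orderOf β) hβ hk x (hC _ (hP x))


variable {Ω : Type*} [Group Ω]

/-- automorphisms in `A` acting trivially on each section `X j / Y j`. -/
def trivSub {R : Subgroup Ω} {J : Type*} (A : Subgroup (MulAut R)) (X Y : J → Subgroup Ω)
    (hinv : ∀ δ ∈ A, ∀ j, ∀ x : R, (x : Ω) ∈ X j → ((δ x : R) : Ω) ∈ X j) :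
    Subgroup (MulAut R) where
  carrier := {α | α ∈ A ∧ ∀ j, ∀ x : R, (x : Ω) ∈ X j → (x : Ω)⁻¹ * ((α x : R) : Ω) ∈ Y j}
  one_mem' := ⟨A.one_mem, fun j x _ => by simp [(Y j).one_mem]⟩
  mul_mem' := by
    rintro α β ⟨hαA, hα⟩ ⟨hβA, hβ⟩
    refine ⟨A.mul_mem hαA hβA, fun j x hx => ?_⟩
    have hβx : ((β x : R) : Ω) ∈ X j := hinv β hβA j x hx
    have e : (x : Ω)⁻¹ * (((α * β) x : R) : Ω) =
        ((x : Ω)⁻¹ * ((β x : R) : Ω)) * (((β x : R) : Ω)⁻¹ * ((α (β x) : R) : Ω)) := by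
      rw [MulAut.mul_apply]; group
    rw [e]
    exact (Y j).mul_mem (hβ j x hx) (hα j (β x) hβx)
  inv_mem' := by
    rintro α ⟨hαA, hα⟩
    refine ⟨A.inv_mem hαA, fun j x hx => ?_⟩
    have hy : ((α⁻¹ x : R) : Ω) ∈ X j := hinv α⁻¹ (A.inv_mem hαA) j x hx
    have h := hα j (α⁻¹ x) hy
    rw [MulAut.apply_inv_self] at h
    have e : (x : Ω)⁻¹ * ((α⁻¹ x : R) : Ω) = (((α⁻¹ x : R) : Ω)⁻¹ * (x : Ω))⁻¹ := by group
    rw [e]
    exact (Y j).inv_mem h

theorem mem_trivSub {R : Subgroup Ω} {J : Type*} (A : Subgroup (MulAut R)) (X Y : J → Subgroup Ω)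
    (hinv : ∀ δ ∈ A, ∀ j, ∀ x : R, (x : Ω) ∈ X j → ((δ x : R) : Ω) ∈ X j) (α : MulAut R) :
    α ∈ trivSub A X Y hinv ↔
      (α ∈ A ∧ ∀ j, ∀ x : R, (x : Ω) ∈ X j → (x : Ω)⁻¹ * ((α x : R) : Ω) ∈ Y j) := Iff.rfl

theorem trivSub_normal {R : Subgroup Ω} {J : Type*} (A : Subgroup (MulAut R))
    (X Y : J → Subgroup Ω)
    (hinv : ∀ δ ∈ A, ∀ j, ∀ x : R, (x : Ω) ∈ X j → ((δ x : R) : Ω) ∈ X j)
    (hinvY : ∀ δ ∈ A, ∀ j, ∀ x : R, (x : Ω) ∈ Y j → ((δ x : R) : Ω) ∈ Y j) :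
    ((trivSub A X Y hinv).subgroupOf A).Normal := by
  have key : ∀ g ∈ A, ∀ n ∈ trivSub A X Y hinv, g * n * g⁻¹ ∈ trivSub A X Y hinv := by
    rintro g hg n ⟨hnA, hn⟩
    refine ⟨A.mul_mem (A.mul_mem hg hnA) (A.inv_mem hg), fun j x hx => ?_⟩
    have hy : ((g⁻¹ x : R) : Ω) ∈ X j := hinv g⁻¹ (A.inv_mem hg) j x hx
    have h := hn j (g⁻¹ x) hy
    have h2 := hinvY g hg j ((g⁻¹ x)⁻¹ * n (g⁻¹ x)) h
    rw [map_mul, map_inv, MulAut.apply_inv_self] at h2
    exact h2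
  refine ⟨fun n hn g => ?_⟩
  rw [Subgroup.mem_subgroupOf] at hn ⊢
  exact key g g.2 n hn

/-- `Ω₁(P)` as the image of a characteristic subgroup of `↥P`. -/
theorem omegaOne_eq_map (p : ℕ) (P : Subgroup Ω) :
    Cfsg.omegaOne p P = (Cfsg.omegaOne p (⊤ : Subgroup P)).map P.subtype := by
  unfold Cfsg.omegaOne
  rw [MonoidHom.map_closure]
  congr 1
  ext x
  constructor
  · rintro ⟨hx, hxp⟩
    exact ⟨⟨x, hx⟩, ⟨Subgroup.mem_top _, Subtype.ext hxp⟩, rfl⟩
  · rintro ⟨y, ⟨-, hy⟩, rfl⟩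
    exact ⟨y.2, by simpa using congrArg Subtype.val hy⟩

instance omegaOne_top_characteristic (p : ℕ) (G : Type*) [Group G] :
    (Cfsg.omegaOne p (⊤ : Subgroup G)).Characteristic := by
  rw [Subgroup.characteristic_iff_le_comap]
  intro φ
  unfold Cfsg.omegaOne
  rw [Subgroup.closure_le]
  rintro x ⟨-, hx⟩
  apply Subgroup.subset_closure
  refine ⟨Subgroup.mem_top _, ?_⟩
  show φ x ^ p = 1
  rw [← map_pow, hx, map_one]

theorem omegaOne_le (p : ℕ) (P : Subgroup Ω) : Cfsg.omegaOne p P ≤ P := by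
  unfold Cfsg.omegaOne
  rw [Subgroup.closure_le]
  rintro x ⟨hx, -⟩
  exact hx

variable {S : Subgroup Ω}

theorem stronglyClosed_inf (F : FusionSystem S) {A B : Subgroup Ω} (hA : F.StronglyClosed A)
    (hB : F.StronglyClosed B) : F.StronglyClosed (A ⊓ B) :=
  ⟨inf_le_left.trans hA.1, fun P hP φ hφ x =>
    ⟨hA.2 P (hP.trans inf_le_left) φ hφ x, hB.2 P (hP.trans inf_le_right) φ hφ x⟩⟩

theorem stronglyClosed_bot' (F : FusionSystem S) : F.StronglyClosed ⊥ :=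
  isNormal_stronglyClosed F (isNormal_bot F)

/-- necessity. -/
theorem series_of_isNormal [Finite S] {p : ℕ} [Fact p.Prime] (hS : IsPGroup p S)
    (F : FusionSystem S) {P : Subgroup Ω} (hP : F.IsNormal P) :
    ∃ (n : ℕ) (Q : Fin (n + 1) → Subgroup Ω), Q 0 = ⊥ ∧ Q (Fin.last n) = Cfsg.omegaOne p P ∧
      Monotone Q ∧ (∀ i : Fin (n + 1), F.StronglyClosed (Q i)) ∧
      ∀ i : Fin n, ⁅Q i.succ, P⁆ ≤ Q i.castSucc := by
  have hW : F.IsNormal (Cfsg.omegaOne p P) := by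
    rw [omegaOne_eq_map]
    exact isNormal_map_of_characteristic F hP _
  have hWsc := isNormal_stronglyClosed F hW
  have hSNW := isNormal_le_normalizer F hW
  obtain ⟨n, Qs, h0, hlast, hmono, hstep⟩ := exists_chain_of_isNormal hS F hP
  have hsc : ∀ i : Fin (n + 1), F.StronglyClosed (Qs i) := by
    intro i
    induction i using Fin.cases with
    | zero => rw [h0]; exact stronglyClosed_bot' F
    | succ i => exact (hstep i).1
  refine ⟨n, fun i => Qs i ⊓ Cfsg.omegaOne p P, ?_, ?_, ?_, ?_, ?_⟩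
  · show Qs 0 ⊓ _ = ⊥
    rw [h0, bot_inf_eq]
  · show Qs (Fin.last n) ⊓ _ = _
    rw [hlast]
    exact inf_eq_right.mpr (omegaOne_le p P)
  · intro i j hij
    exact inf_le_inf_right _ (hmono hij)
  · intro i
    exact stronglyClosed_inf F (hsc i) hWsc
  · intro i
    show ⁅Qs i.succ ⊓ Cfsg.omegaOne p P, P⁆ ≤ Qs i.castSucc ⊓ Cfsg.omegaOne p P
    apply le_inf
    · refine le_trans (Subgroup.commutator_mono inf_le_left le_rfl) ?_
      rw [Subgroup.commutator_comm]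
      exact (hstep i).2
    · rw [Subgroup.commutator_le]
      rintro g₁ ⟨-, hg₁⟩ g₂ hg₂
      have h2 : g₂ * g₁⁻¹ * g₂⁻¹ ∈ Cfsg.omegaOne p P :=
        (Subgroup.mem_normalizer_iff.mp (hSNW (hP.1 hg₂)) _).mp (inv_mem hg₁)
      have e : ⁅g₁, g₂⁆ = g₁ * (g₂ * g₁⁻¹ * g₂⁻¹) := by
        rw [commutatorElement_def]; group
      rw [e]
      exact mul_mem hg₁ h2

/-- sufficiency. -/
theorem isNormal_of_series [Finite S] {p : ℕ} [Fact p.Prime] (hS : IsPGroup p S)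
    (F : FusionSystem S) (hF : F.IsSaturated p) (hp : p ≠ 2) {P : Subgroup Ω}
    (hP : F.StronglyClosed P) (n : ℕ) (Q : Fin (n + 1) → Subgroup Ω) (h0 : Q 0 = ⊥)
    (hlast : Q (Fin.last n) = Cfsg.omegaOne p P) (hmono : Monotone Q)
    (hsc : ∀ i : Fin (n + 1), F.StronglyClosed (Q i))
    (hstep : ∀ i : Fin n, ⁅Q i.succ, P⁆ ≤ Q i.castSucc) : F.IsNormal P := by
  rw [isNormal_iff_stronglyClosed hS F hF]
  refine ⟨hP, fun R hRc hRr => ?_⟩
  have hRS : R ≤ S := hRc.1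
  have hPS : P ≤ S := hP.1
  have : Finite R := finite_of_le S hRS
  have hSNP := stronglyClosed_le_normalizer F hP
  apply le_of_normalizer_inf_le hS hRS hPS hSNP
  rintro y ⟨hyP, hyN⟩
  have hyS : y ∈ S := hPS hyP
  have hyNS : y ∈ normalizerIn S R := ⟨hyS, hyN⟩
  have hαF : normAut R y hyN ∈ F.autGroup R :=
    autInducedBy_le_autGroup F hRS (normAut_mem S R hyNS)
  -- the sections
  let X : Option (Fin n) → Subgroup Ω := fun j => j.elim ⊤ (fun i => Q i.succ)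
  let Y : Option (Fin n) → Subgroup Ω := fun j => j.elim P (fun i => Q i.castSucc)
  have hinvX : ∀ δ ∈ F.autGroup R, ∀ j, ∀ x : R, (x : Ω) ∈ X j → ((δ x : R) : Ω) ∈ X j := by
    intro δ hδ j x hx
    cases j with
    | none => exact Subgroup.mem_top _
    | some i => exact stronglyClosed_aut_mem F (hsc i.succ) hRS hδ hx
  have hinvY : ∀ δ ∈ F.autGroup R, ∀ j, ∀ x : R, (x : Ω) ∈ Y j → ((δ x : R) : Ω) ∈ Y j := by
    intro δ hδ j x hx
    cases j with
    | none => exact stronglyClosed_aut_mem F hP hRS hδ hx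
    | some i => exact stronglyClosed_aut_mem F (hsc i.castSucc) hRS hδ hx
  have hKn := trivSub_normal (F.autGroup R) X Y hinvX hinvY
  have hKp : IsPGroup p ((trivSub (F.autGroup R) X Y hinvX).subgroupOf (F.autGroup R)) := by
    apply isPGroup_subgroupOf
    apply isPGroup_of_coprime_trivial
    rintro β ⟨hβA, hβ⟩ hcop
    apply aut_trivial_of_series hp (hS.to_le hRS) β hcop (P.subgroupOf R) n
      (fun i => (Q i).subgroupOf R)
    · show (Q 0).subgroupOf R = ⊥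
      rw [h0, Subgroup.bot_subgroupOf]
    · intro x hx hxp
      show x ∈ (Q (Fin.last n)).subgroupOf R
      rw [hlast, Subgroup.mem_subgroupOf]
      apply Subgroup.subset_closure
      exact ⟨Subgroup.mem_subgroupOf.mp hx, by simpa using congrArg Subtype.val hxp⟩
    · intro i x hx
      exact Subgroup.mem_subgroupOf.mpr (hβ (some i) x (Subgroup.mem_subgroupOf.mp hx))
    · intro x
      exact Subgroup.mem_subgroupOf.mpr (hβ none x (Subgroup.mem_top _))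
  have hαK : normAut R y hyN ∈ trivSub (F.autGroup R) X Y hinvX := by
    refine ⟨hαF, fun j x hx => ?_⟩
    have hxS : (x : Ω) ∈ S := hRS x.2
    cases j with
    | none =>
      show (x : Ω)⁻¹ * (y * (x : Ω) * y⁻¹) ∈ P
      have h1 : (x : Ω)⁻¹ * y * (x : Ω)⁻¹⁻¹ ∈ P :=
        (Subgroup.mem_normalizer_iff.mp (hSNP (S.inv_mem hxS)) y).mp hyP
      have e : (x : Ω)⁻¹ * (y * (x : Ω) * y⁻¹) = ((x : Ω)⁻¹ * y * (x : Ω)⁻¹⁻¹) * y⁻¹ := by
        group
      rw [e]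
      exact P.mul_mem h1 (P.inv_mem hyP)
    | some i =>
      show (x : Ω)⁻¹ * (y * (x : Ω) * y⁻¹) ∈ Q i.castSucc
      have hx' : (x : Ω) ∈ Q i.succ := hx
      have h1 : ⁅(x : Ω)⁻¹, y⁆ ∈ ⁅Q i.succ, P⁆ :=
        Subgroup.commutator_mem_commutator (inv_mem hx') hyP
      have e : (x : Ω)⁻¹ * (y * (x : Ω) * y⁻¹) = ⁅(x : Ω)⁻¹, y⁆ := by
        rw [commutatorElement_def]; group
      rw [e]
      exact hstep i h1
  have hKle : (trivSub (F.autGroup R) X Y hinvX).subgroupOf (F.autGroup R) ≤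
      pCore p (F.autGroup R) := le_sSup ⟨hKn, hKp⟩
  have hmem : (⟨normAut R y hyN, hαF⟩ : F.autGroup R) ∈ pCore p (F.autGroup R) :=
    hKle (Subgroup.mem_subgroupOf.mpr hαK)
  have hinn : normAut R y hyN ∈ Inn R := by
    rw [← hRr.2]
    exact ⟨_, hmem, rfl⟩
  exact mem_of_normAut_mem_inn F hRc hyNS hinn

end Cfsg.Agent.h26Omega
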