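import Cfsg.Agent.Lib_helper26_SubnConstr

set_option autoImplicit false

namespace Cfsg.Agent.h26Tr

open Cfsg Cfsg.FusionSystem Cfsg.Agent.helper25 Cfsg.Agent.h26Constr

section Fus

variable {Ω : Type*} [Group Ω] {S : Subgroup Ω}

/-- the elements of `S` centralizing `R` and acting trivially on `Q / R`. -/
def stabY (S Q R : Subgroup Ω) (hSNQ : S ≤ Subgroup.normalizer (Q : Set Ω)) : Subgroup Ω where
  carrier := {y | y ∈ S ∧ (∀ r ∈ R, y * r = r * y) ∧ ∀ q ∈ Q, q⁻¹ * (y * q * y⁻¹) ∈ R}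
  one_mem' := ⟨S.one_mem, fun r _ => by simp, fun q _ => by simp [R.one_mem]⟩
  mul_mem' := by
    rintro a b ⟨haS, haR, haQ⟩ ⟨hbS, hbR, hbQ⟩
    refine ⟨S.mul_mem haS hbS, fun r hr => ?_, fun q hq => ?_⟩
    · rw [mul_assoc, hbR r hr, ← mul_assoc, haR r hr, mul_assoc]
    · have h1 := hbQ q hq
      have h2 := haQ q hq
      have h3 := haR _ h1
      have e : q⁻¹ * (a * b * q * (a * b)⁻¹) =
          (q⁻¹ * (a * q * a⁻¹)) * (a * (q⁻¹ * (b * q * b⁻¹)) * a⁻¹) := by group
      rw [e, h3]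
      have e2 : q⁻¹ * (b * q * b⁻¹) * a * a⁻¹ = q⁻¹ * (b * q * b⁻¹) := by group
      rw [e2]
      exact R.mul_mem h2 h1
  inv_mem' := by
    rintro a ⟨haS, haR, haQ⟩
    refine ⟨S.inv_mem haS, fun r hr => ?_, fun q hq => ?_⟩
    · have := haR r hr
      calc a⁻¹ * r = a⁻¹ * (r * a) * a⁻¹ := by group
        _ = a⁻¹ * (a * r) * a⁻¹ := by rw [this]
        _ = r * a⁻¹ := by group
    · have hq' : a⁻¹ * q * a⁻¹⁻¹ ∈ Q :=
        (Subgroup.mem_normalizer_iff.mp (hSNQ (S.inv_mem haS)) q).mp hq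
      have h := haQ _ hq'
      have e : (a⁻¹ * q * a⁻¹⁻¹)⁻¹ * (a * (a⁻¹ * q * a⁻¹⁻¹) * a⁻¹) =
          (q⁻¹ * (a⁻¹ * q * a⁻¹⁻¹))⁻¹ := by group
      rw [e] at h
      have := R.inv_mem h
      rwa [inv_inv] at this

theorem mem_stabY {S Q R : Subgroup Ω} (hSNQ : S ≤ Subgroup.normalizer (Q : Set Ω)) (y : Ω) :
    y ∈ stabY S Q R hSNQ ↔
      (y ∈ S ∧ (∀ r ∈ R, y * r = r * y) ∧ ∀ q ∈ Q, q⁻¹ * (y * q * y⁻¹) ∈ R) := Iff.rfl

/-- in a saturated system whose core `Q` is self-centralizing, an element of `S` centralizing a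
strongly closed `R ≤ Q` and acting trivially on `Q / R` lies in `Q`. -/
theorem stab_le_core [Finite S] {p : ℕ} [Fact p.Prime] (hS : IsPGroup p S)
    (F : FusionSystem S) (hF : F.IsSaturated p) (hQc : centralizerIn S F.core ≤ F.core)
    {R : Subgroup Ω} (hR : F.StronglyClosed R) (hRQ : R ≤ F.core) {y : Ω} (hyS : y ∈ S)
    (hyR : ∀ r ∈ R, y * r = r * y) (hyQ : ∀ q ∈ F.core, q⁻¹ * (y * q * y⁻¹) ∈ R) :
    y ∈ F.core := by
  have hQ : F.IsNormal F.core := isNormal_core F
  have hQsc := isNormal_stronglyClosed F hQ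
  have hQS : F.core ≤ S := hQ.1
  have hSNQ := isNormal_le_normalizer F hQ
  have hSNR := stronglyClosed_le_normalizer F hR
  have hYS : stabY S F.core R hSNQ ≤ S := fun y hy => hy.1
  have hSNY : S ≤ Subgroup.normalizer ((stabY S F.core R hSNQ : Subgroup Ω) : Set Ω) := by
    intro s hs
    rw [Subgroup.mem_normalizer_iff]
    have key : ∀ t ∈ S, ∀ y ∈ stabY S F.core R hSNQ, t * y * t⁻¹ ∈ stabY S F.core R hSNQ := by
      rintro t ht y ⟨hy1, hy2, hy3⟩
      refine ⟨S.mul_mem (S.mul_mem ht hy1) (S.inv_mem ht), fun r hr => ?_, fun q hq => ?_⟩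
      · have hr' : t⁻¹ * r * t⁻¹⁻¹ ∈ R :=
          (Subgroup.mem_normalizer_iff.mp (hSNR (S.inv_mem ht)) r).mp hr
        have hc := hy2 _ hr'
        have e1 : t * y * t⁻¹ * r = t * (y * (t⁻¹ * r * t⁻¹⁻¹)) * t⁻¹ := by group
        rw [e1, hc]; group
      · have hq' : t⁻¹ * q * t⁻¹⁻¹ ∈ F.core :=
          (Subgroup.mem_normalizer_iff.mp (hSNQ (S.inv_mem ht)) q).mp hq
        have h := hy3 _ hq'
        have h2 : t * ((t⁻¹ * q * t⁻¹⁻¹)⁻¹ * (y * (t⁻¹ * q * t⁻¹⁻¹) * y⁻¹)) * t⁻¹ ∈ R :=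
          (Subgroup.mem_normalizer_iff.mp (hSNR ht) _).mp h
        have e : q⁻¹ * (t * y * t⁻¹ * q * (t * y * t⁻¹)⁻¹) =
            t * ((t⁻¹ * q * t⁻¹⁻¹)⁻¹ * (y * (t⁻¹ * q * t⁻¹⁻¹) * y⁻¹)) * t⁻¹ := by group
        rw [e]; exact h2
    intro y
    constructor
    · exact key s hs y
    · intro hy
      have := key s⁻¹ (S.inv_mem hs) _ hy
      have e : s⁻¹ * (s * y * s⁻¹) * s⁻¹⁻¹ = y := by group
      rwa [e] at this
  have hnormal : F.IsNormal (F.core ⊔ stabY S F.core R hSNQ) := by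
    rw [isNormal_iff_essential hS F hF]
    intro P hP
    have hPS : P ≤ S := by
      rcases hP with rfl | hP
      · exact le_rfl
      · exact hP.1.1
    have : Finite P := finite_of_le S hPS
    obtain ⟨hQP, -⟩ := (isNormal_iff_essential hS F hF F.core).mp hQ P hP
    have hYP : stabY S F.core R hSNQ ≤ P := by
      rcases hP with rfl | hess
      · exact hYS
      · have hrad := isRadical_of_isEssential hS F hess
        apply le_of_normalizer_inf_le hS hPS hYS hSNY
        rintro y ⟨hyY, hyN⟩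
        have hyS : y ∈ S := hYS hyY
        have hyNS : y ∈ normalizerIn S P := ⟨hyS, hyN⟩
        have hαF : normAut P y hyN ∈ F.autGroup P :=
          autInducedBy_le_autGroup F hPS (normAut_mem S P hyNS)
        have hαst : normAut P y hyN ∈ stab2 P F.core R := by
          refine ⟨fun x hx => ?_, fun x hx => ?_⟩
          · apply Subtype.ext
            show y * (x : Ω) * y⁻¹ = x
            rw [hyY.2.1 _ hx]; group
          · exact hyY.2.2 _ hx
        have hKn : ((stab2 P F.core R).subgroupOf (F.autGroup P)).Normal :=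
          stab2_normal (F.autGroup P)
            (fun δ hδ x hx => stronglyClosed_aut_mem F hQsc hPS hδ hx)
            (fun δ hδ x hx => stronglyClosed_aut_mem F hR hPS hδ hx)
        have hKp : IsPGroup p ((stab2 P F.core R).subgroupOf (F.autGroup P)) := by
          apply isPGroup_subgroupOf
          apply stab2_isPGroup (hS.to_le hPS) hRQ hQP (hPS.trans hSNQ)
          intro z hz
          apply hQc
          refine ⟨hPS z.2, Subgroup.mem_centralizer_iff.mpr ?_⟩
          intro q hq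
          exact (congrArg Subtype.val (hz ⟨q, hQP hq⟩ hq)).symm
        have hKle : (stab2 P F.core R).subgroupOf (F.autGroup P) ≤
            pCore p (F.autGroup P) := le_sSup ⟨hKn, hKp⟩
        have hmem : (⟨normAut P y hyN, hαF⟩ : F.autGroup P) ∈ pCore p (F.autGroup P) :=
          hKle (Subgroup.mem_subgroupOf.mpr hαst)
        have hinn : normAut P y hyN ∈ Inn P := by
          rw [← hrad.2]
          exact ⟨_, hmem, rfl⟩
        exact mem_of_normAut_mem_inn F hess.1 hyNS hinn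
    refine ⟨sup_le hQP hYP, ?_⟩
    intro α hα
    apply map_aut_eq_of_forall (F.autGroup P) _ _ hα
    intro β hβ z hz
    have hz' : (z : Ω) ∈ F.core ⊔ stabY S F.core R hSNQ := Subgroup.mem_subgroupOf.mp hz
    have hle : F.core ⊔ stabY S F.core R hSNQ ≤
        (((F.core ⊔ stabY S F.core R hSNQ).subgroupOf P).comap β.toMonoidHom).map
          P.subtype := by
      apply sup_le
      · intro x hx
        refine ⟨⟨x, hQP hx⟩, ?_, rfl⟩
        show ((β ⟨x, hQP hx⟩ : P) : Ω) ∈ F.core ⊔ stabY S F.core R hSNQ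
        exact (le_sup_left : F.core ≤ _) (stronglyClosed_aut_mem F hQsc hPS hβ hx)
      · rintro y hy
        refine ⟨⟨y, hYP hy⟩, ?_, rfl⟩
        show ((β ⟨y, hYP hy⟩ : P) : Ω) ∈ F.core ⊔ stabY S F.core R hSNQ
        apply (le_sup_right : stabY S F.core R hSNQ ≤ _)
        obtain ⟨hy1, hy2, hy3⟩ := hy
        refine ⟨hPS (β ⟨y, hYP ⟨hy1, hy2, hy3⟩⟩).2, fun r hr => ?_, fun q hq => ?_⟩
        · have hrP : r ∈ P := hQP (hRQ hr)
          have hr' : ((β⁻¹ ⟨r, hrP⟩ : P) : Ω) ∈ R :=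
            stronglyClosed_aut_mem F hR hPS (inv_mem hβ) hr
          have hc := hy2 _ hr'
          have hc' : (⟨y, hYP ⟨hy1, hy2, hy3⟩⟩ : P) * β⁻¹ ⟨r, hrP⟩ =
              β⁻¹ ⟨r, hrP⟩ * ⟨y, hYP ⟨hy1, hy2, hy3⟩⟩ := Subtype.ext hc
          have h2 := congrArg β hc'
          rw [map_mul, map_mul, MulAut.apply_inv_self] at h2
          exact congrArg Subtype.val h2
        · have hqP : q ∈ P := hQP hq
          have hq' : ((β⁻¹ ⟨q, hqP⟩ : P) : Ω) ∈ F.core :=
            stronglyClosed_aut_mem F hQsc hPS (inv_mem hβ) hq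
          have h := hy3 _ hq'
          have h2 : ((β ((β⁻¹ ⟨q, hqP⟩)⁻¹ * (⟨y, hYP ⟨hy1, hy2, hy3⟩⟩ * β⁻¹ ⟨q, hqP⟩ *
              (⟨y, hYP ⟨hy1, hy2, hy3⟩⟩ : P)⁻¹)) : P) : Ω) ∈ R :=
            stronglyClosed_aut_mem F hR hPS hβ h
          rw [map_mul, map_inv, map_mul, map_mul, map_inv, MulAut.apply_inv_self] at h2
          exact h2
    obtain ⟨z', hz'm, hz'z⟩ := hle hz'
    have : z' = z := Subtype.ext hz'z
    rw [this] at hz'm
    exact hz'm
  have hle : F.core ⊔ stabY S F.core R hSNQ ≤ F.core := le_sSup hnormal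
  exact hle ((le_sup_right : stabY S F.core R hSNQ ≤ _) ⟨hyS, hyR, hyQ⟩)

/-- the core of a constrained system is self-centralizing. -/
theorem centralizerIn_core_le {p : ℕ} (F : FusionSystem S) (hFc : F.IsConstrained p) :
    centralizerIn S F.core ≤ F.core := by
  obtain ⟨hF, Q₀, hQ₀n, hQ₀c⟩ := hFc
  have hQ₀le : Q₀ ≤ F.core := le_sSup hQ₀n
  intro x hx
  apply hQ₀le
  apply hQ₀c.2 Q₀ (isConj_refl F hQ₀c.1)
  exact ⟨hx.1, Subgroup.centralizer_le (SetLike.coe_subset_coe.mpr hQ₀le) hx.2⟩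

end Fus

section Grp

variable {K : Type*} [Group K]

theorem map_cj {K' : Type*} [Group K'] (f : K →* K') (g : K) (X : Subgroup K) :
    (cj g X).map f = cj (f g) (X.map f) := by
  ext y
  constructor
  · rintro ⟨_, ⟨x, hx, rfl⟩, rfl⟩
    refine ⟨f x, ⟨x, hx, rfl⟩, ?_⟩
    show f g * f x * (f g)⁻¹ = f (g * x * g⁻¹)
    rw [map_mul, map_mul, map_inv]
  · rintro ⟨_, ⟨x, hx, rfl⟩, rfl⟩
    refine ⟨g * x * g⁻¹, ⟨x, hx, rfl⟩, ?_⟩
    show f (g * x * g⁻¹) = f g * f x * (f g)⁻¹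
    rw [map_mul, map_mul, map_inv]

theorem im_subtype_eq {T Q : Subgroup K} (hQ : Q ≤ T) : im T.subtype Q = Q := by
  ext y
  rw [mem_im_iff]
  constructor
  · rintro ⟨s, hs, rfl⟩; exact hs
  · intro hy; exact ⟨⟨y, hQ hy⟩, hy, rfl⟩

/-- a `p`-subgroup whose image modulo a central subgroup lies in the image of the Sylow
subgroup `T` lies in `T`. -/
theorem le_sylow_of_map_le [Finite K] {p : ℕ} [Fact p.Prime] (T : Sylow p K) (Z : Subgroup K)
    [Z.Normal] (hZ : Z ≤ Subgroup.center K) {A : Subgroup K} (hA : IsPGroup p A)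
    (h : A.map (QuotientGroup.mk' Z) ≤ (T : Subgroup K).map (QuotientGroup.mk' Z)) :
    A ≤ T := by
  have hAN : A ≤ Subgroup.normalizer ((T : Subgroup K) : Set K) := by
    intro a ha
    obtain ⟨t, ht, hta⟩ := h ⟨a, ha, rfl⟩
    have hz : t⁻¹ * a ∈ Z := by
      apply (QuotientGroup.eq_one_iff (N := Z) (t⁻¹ * a)).mp
      have h1 : ((t⁻¹ * a : K) : K ⧸ Z) = (QuotientGroup.mk' Z t)⁻¹ * QuotientGroup.mk' Z a := rfl
      rw [h1, hta, inv_mul_cancel]
    have hzc := Subgroup.mem_center_iff.mp (hZ hz)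
    have e : ∀ x : K, a * x * a⁻¹ = t * x * t⁻¹ := by
      intro x
      have h2 := hzc x
      calc a * x * a⁻¹ = t * ((t⁻¹ * a) * x) * (t⁻¹ * a)⁻¹ * t⁻¹ := by group
        _ = t * (x * (t⁻¹ * a)) * (t⁻¹ * a)⁻¹ * t⁻¹ := by rw [h2]
        _ = t * x * t⁻¹ := by group
    rw [Subgroup.mem_normalizer_iff]
    intro x
    rw [e x]
    constructor
    · intro hx
      exact Subgroup.mul_mem _ (Subgroup.mul_mem _ ht hx) (Subgroup.inv_mem _ ht)
    · intro hx
      have : x = t⁻¹ * (t * x * t⁻¹) * t := by group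
      rw [this]
      exact Subgroup.mul_mem _ (Subgroup.mul_mem _ (Subgroup.inv_mem _ ht) hx) ht
  have hsup : IsPGroup p (A ⊔ (T : Subgroup K) : Subgroup K) :=
    hA.to_sup_of_normal_right' T.isPGroup' hAN
  have := T.is_maximal' hsup le_sup_right
  exact le_sup_left.trans this.le

/-- the fusion system of a central quotient of a group with constrained system is
constrained. -/
theorem constrained_quotient_central [Finite K] {p : ℕ} [Fact p.Prime] (T : Sylow p K)
    (hF : (groupFusionSystem (T : Subgroup K)).IsConstrained p) (Z : Subgroup K) [hZn : Z.Normal]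
    (hZ : Z ≤ Subgroup.center K) :
    (groupFusionSystem ((T : Subgroup K).map (QuotientGroup.mk' Z))).IsConstrained p := by
  have hR := groupFS_isRealizedBy (T : Subgroup K)
  have hS : IsPGroup p (T : Subgroup K) := T.isPGroup'
  have hQc := centralizerIn_core_le _ hF
  have hQn : (groupFusionSystem (T : Subgroup K)).IsNormal (groupFusionSystem (T : Subgroup K)).core :=
    isNormal_core _
  have hQT : (groupFusionSystem (T : Subgroup K)).core ≤ T := hQn.1
  have hgn : GNormal (T : Subgroup K) (groupFusionSystem (T : Subgroup K)).core := by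
    have := gNormal_of_isNormal hR hQn
    rwa [Subgroup.range_subtype, im_subtype_eq hQT] at this
  have hsurj : Function.Surjective (QuotientGroup.mk' Z) := QuotientGroup.mk'_surjective Z
  -- the central `p`-part
  have hRsc : (groupFusionSystem (T : Subgroup K)).StronglyClosed (Z ⊓ (T : Subgroup K)) := by
    refine ⟨inf_le_right, fun P hP φ hφ x => ?_⟩
    obtain ⟨-, -, g, hg⟩ := hφ
    have hx := hP x.2
    have hxc := Subgroup.mem_center_iff.mp (hZ hx.1)
    rw [hg x, hxc g]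
    have : (x : K) * g * g⁻¹ = x := by group
    rw [this]; exact hx
  have hRn : (groupFusionSystem (T : Subgroup K)).IsNormal (Z ⊓ (T : Subgroup K)) := by
    apply isNormal_of_abelian_stronglyClosed hS _ hF.1 hRsc
    intro a ha b hb
    exact (Subgroup.mem_center_iff.mp (hZ hb.1) a)
  have hRQ : Z ⊓ (T : Subgroup K) ≤ (groupFusionSystem (T : Subgroup K)).core := le_sSup hRn
  have hgnq : GNormal ((T : Subgroup K).map (QuotientGroup.mk' Z))
      ((groupFusionSystem (T : Subgroup K)).core.map (QuotientGroup.mk' Z)) := by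
    refine ⟨Subgroup.map_mono hQT, ?_⟩
    intro A' g' hA' hg'
    obtain ⟨g, rfl⟩ := hsurj g'
    have hAT : A'.comap (QuotientGroup.mk' Z) ⊓ (T : Subgroup K) ≤ T := inf_le_right
    have hAmap : (A'.comap (QuotientGroup.mk' Z) ⊓ (T : Subgroup K)).map (QuotientGroup.mk' Z) = A' := by
      apply le_antisymm
      · rintro _ ⟨a, ha, rfl⟩
        exact ha.1
      · intro a' ha'
        obtain ⟨t, ht, rfl⟩ := hA' ha'
        exact ⟨t, ⟨ha', ht⟩, rfl⟩
    have hgA : cj g (A'.comap (QuotientGroup.mk' Z) ⊓ (T : Subgroup K)) ≤ T := by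
      apply le_sylow_of_map_le T Z hZ (IsPGroup_cj g (hS.to_le hAT))
      rw [map_cj, hAmap]
      exact hg'
    obtain ⟨k, h1, h2, h3⟩ := hgn.2 _ g hAT hgA
    refine ⟨QuotientGroup.mk' Z k, ?_, ?_, ?_⟩
    · intro a' ha'
      rw [← hAmap] at ha'
      obtain ⟨a, ha, rfl⟩ := ha'
      rw [← map_inv, ← map_mul, ← map_mul, h1 a ha, map_mul, map_mul, map_inv]
    · rw [← hAmap, ← Subgroup.map_sup, ← map_cj]
      exact Subgroup.map_mono h2
    · rw [← map_cj, h3]
  have hgcq : GCentric ((T : Subgroup K).map (QuotientGroup.mk' Z))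
      ((groupFusionSystem (T : Subgroup K)).core.map (QuotientGroup.mk' Z)) := by
    refine ⟨Subgroup.map_mono hQT, ?_⟩
    intro g' hg'
    obtain ⟨k, h1, h2, h3⟩ := hgnq.2 _ g' (Subgroup.map_mono hQT) hg'
    have hcj : cj g' ((groupFusionSystem (T : Subgroup K)).core.map (QuotientGroup.mk' Z)) =
        (groupFusionSystem (T : Subgroup K)).core.map (QuotientGroup.mk' Z) := by
      refine Eq.trans ?_ h3
      apply le_antisymm
      · rintro _ ⟨q, hq, rfl⟩
        exact ⟨q, hq, h1 q hq⟩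
      · rintro _ ⟨q, hq, rfl⟩
        exact ⟨q, hq, (h1 q hq).symm⟩
    rw [hcj]
    rintro y ⟨⟨t, ht, rfl⟩, hyC⟩
    have htc : t ∈ (groupFusionSystem (T : Subgroup K)).core := by
      apply stab_le_core hS _ hF.1 hQc hRsc hRQ ht
      · intro r hr
        exact Subgroup.mem_center_iff.mp (hZ hr.1) t
      · intro q hq
        refine ⟨?_, Subgroup.mul_mem _ (Subgroup.inv_mem _ (hQT hq)) (Subgroup.mul_mem _ (Subgroup.mul_mem _ ht (hQT hq)) (Subgroup.inv_mem _ ht))⟩
        apply (QuotientGroup.eq_one_iff (N := Z) _).mp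
        have hc := Subgroup.mem_centralizer_iff.mp hyC (QuotientGroup.mk' Z q) ⟨q, hq, rfl⟩
        have h5 : ((q⁻¹ * (t * q * t⁻¹) : K) : K ⧸ Z) =
            (QuotientGroup.mk' Z q)⁻¹ * (QuotientGroup.mk' Z t * QuotientGroup.mk' Z q *
              (QuotientGroup.mk' Z t)⁻¹) := rfl
        rw [h5, ← hc]
        group
    exact ⟨t, htc, rfl⟩
  have h₂ := groupFS_isRealizedBy ((T : Subgroup K).map (QuotientGroup.mk' Z))
  have hr2 : ((T : Subgroup K).map (QuotientGroup.mk' Z)).subtype.range =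
      (T : Subgroup K).map (QuotientGroup.mk' Z) := Subgroup.range_subtype _
  rw [← hr2] at hgnq hgcq
  exact ⟨groupFS_isSaturated (T.mapSurjective hsurj),
    ⟨_, isNormal_of_gNormal h₂ hgnq, isCentric_of_gCentric h₂ hgcq⟩⟩

end Grp

end Cfsg.Agent.h26Tr
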