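import Mathlib
import Cfsg.Agent.Lib_helper26_TTP2

set_option autoImplicit false
set_option linter.style.haveILetI false
set_option linter.unusedSectionVars false
set_option linter.unusedVariables false

/-! Modules of the commuting graph; maximality of the subgroup generated by `C_D(d)`. -/

open Cfsg
open scoped commutatorElement

namespace Cfsg.Agent.h26TTQ

open Cfsg.Agent.h26TTW Cfsg.Agent.h26TTY Cfsg.Agent.helper7

variable {G : Type*} [Group G]

/-- a module (homogeneous set) of the commuting graph on `D` -/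
def IsMod (D M : Set G) : Prop :=
  M ⊆ D ∧ ∀ y ∈ D, y ∉ M → (∀ m ∈ M, Commute y m) ∨ (∀ m ∈ M, ¬ Commute y m)

theorem IsMod.inter {D M N : Set G} (hM : IsMod D M) (hN : IsMod D N) : IsMod D (M ∩ N) := by
  refine ⟨fun x hx => hM.1 hx.1, ?_⟩
  intro y hy hyn
  by_cases h1 : y ∈ M
  · have h2 : y ∉ N := fun h => hyn ⟨h1, h⟩
    rcases hN.2 y hy h2 with h | h
    · left; exact fun m hm => h m hm.2
    · right; exact fun m hm => h m hm.2
  · rcases hM.2 y hy h1 with h | h
    · left; exact fun m hm => h m hm.1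
    · right; exact fun m hm => h m hm.1

theorem IsMod.diff {D M N : Set G} (hM : IsMod D M) (hN : IsMod D N) {z : G} (hzN : z ∈ N)
    (hzM : z ∉ M) : IsMod D (M \ N) := by
  refine ⟨fun x hx => hM.1 hx.1, ?_⟩
  intro y hy hyn
  by_cases h1 : y ∈ M
  · have h2 : y ∈ N := by
      by_contra h; exact hyn ⟨h1, h⟩
    have hzD : z ∈ D := hN.1 hzN
    have key : ∀ m ∈ M \ N, (Commute y m ↔ Commute z m) := by
      intro m hm
      have hmD := hM.1 hm.1
      rcases hN.2 m hmD hm.2 with h | h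
      · exact ⟨fun _ => (h z hzN).symm, fun _ => (h y h2).symm⟩
      · exact ⟨fun hc => absurd hc.symm (h y h2), fun hc => absurd hc.symm (h z hzN)⟩
    rcases hM.2 z hzD hzM with h | h
    · left; intro m hm; exact (key m hm).mpr (h m hm.1)
    · right; intro m hm hc; exact h m hm.1 ((key m hm).mp hc)
  · rcases hM.2 y hy h1 with h | h
    · left; exact fun m hm => h m hm.1
    · right; exact fun m hm => h m hm.1

theorem IsMod.conj {D M : Set G} (hconj : ∀ g : G, ∀ y ∈ D, g * y * g⁻¹ ∈ D) (hM : IsMod D M)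
    (g : G) : IsMod D ((fun x => g * x * g⁻¹) '' M) := by
  refine ⟨?_, ?_⟩
  · rintro _ ⟨m, hm, rfl⟩; exact hconj g m (hM.1 hm)
  · intro y hy hyn
    have hy' : g⁻¹ * y * g ∈ D := by
      have := hconj g⁻¹ y hy; rwa [inv_inv] at this
    have hyn' : g⁻¹ * y * g ∉ M := by
      intro h; apply hyn; exact ⟨_, h, by group⟩
    rcases hM.2 _ hy' hyn' with h | h
    · left; rintro _ ⟨m, hm, rfl⟩
      have := h m hm
      exact ((comm_conj_left g m y).mpr this.symm).symm
    · right; rintro _ ⟨m, hm, rfl⟩ hc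
      exact h m hm ((comm_conj_left g m y).mp hc.symm).symm

section Prim

variable [Finite G] {D : Set G} (hTS : IsThreeTranspositionSet D)
  (hconj : ∀ g : G, ∀ y ∈ D, g * y * g⁻¹ ∈ D) (hgen : Subgroup.closure D = ⊤)
  (hprim : Cfsg.IsPrimitiveUnderConj D)

include hTS hconj hgen hprim

theorem no_twins {a b : G} (ha : a ∈ D) (hb : b ∈ D) (hab : a ≠ b) (hc : Commute a b)
    {p q : G} (hp : p ∈ D) (hq : q ∈ D) (hpq : p ≠ q)
    (hmod : ∀ y ∈ D, y ≠ p → y ≠ q → (Commute y p ↔ Commute y q)) : False := by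
  by_cases hcpq : Commute p q
  · apply hpq
    symm
    apply V_trivial_of_primitive hTS hconj hgen hprim hp q hq
    intro e he
    by_cases h1 : e = p
    · rw [h1]; exact ⟨fun _ => Commute.refl p, fun _ => hcpq.symm⟩
    by_cases h2 : e = q
    · rw [h2]; exact ⟨fun _ => hcpq, fun _ => Commute.refl q⟩
    have := hmod e he h1 h2
    exact ⟨fun h => (this.mpr h.symm).symm, fun h => (this.mp h.symm).symm⟩
  · obtain ⟨g, hg⟩ := hprim.1 a ha p hp
    have hb' : g * b * g⁻¹ ∈ D := hconj g b hb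
    have hne : p ≠ g * b * g⁻¹ := by
      rw [← hg]
      intro h
      apply hab
      have : a = g⁻¹ * (g * a * g⁻¹) * g := by group
      rw [this, h]; group
    have hcm : Commute p (g * b * g⁻¹) := by
      rw [← hg]; exact (conj_comm_iff g a b).mpr hc
    apply hpq
    symm
    apply W_trivial_of_primitive hTS hconj hgen hprim hp hb' hne hcm q hq
    ext y
    unfold Dc
    simp only [Set.mem_setOf_eq]
    by_cases h1 : y = p
    · rw [h1]
      constructor
      · intro h; exact absurd rfl h.2.1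
      · intro h; exact absurd h.2.2.symm hcpq
    by_cases h2 : y = q
    · rw [h2]
      constructor
      · intro h; exact absurd h.2.2 hcpq
      · intro h; exact absurd rfl h.2.1
    constructor
    · rintro ⟨hy, _, h⟩
      exact ⟨hy, h2, ((hmod y hy h1 h2).mp h.symm).symm⟩
    · rintro ⟨hy, _, h⟩
      exact ⟨hy, h1, ((hmod y hy h1 h2).mpr h.symm).symm⟩

theorem no_module_of_primitive {a b : G} (ha : a ∈ D) (hb : b ∈ D) (hab : a ≠ b)
    (hc : Commute a b) :
    ∀ n : ℕ, ∀ M : Set G, IsMod D M → M.ncard = n → 2 ≤ n → M ≠ D → False := by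
  intro n
  induction n using Nat.strong_induction_on with
  | _ n ih =>
  intro M hM hn h2 hMD
  have hfin : ∀ S : Set G, S.Finite := fun S => Set.toFinite S
  have hblock : ∀ g : G, (fun x => g * x * g⁻¹) '' M = M ∨
      Disjoint ((fun x => g * x * g⁻¹) '' M) M := by
    intro g
    by_contra hcon
    push Not at hcon
    obtain ⟨hne, hnd⟩ := hcon
    have hMgmod : IsMod D ((fun x => g * x * g⁻¹) '' M) := hM.conj hconj g
    have hcard : ((fun x => g * x * g⁻¹) '' M).ncard = M.ncard :=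
      Set.ncard_image_of_injective M (fun x y h => by simpa using h)
    generalize hMg : (fun x => g * x * g⁻¹) '' M = Mg at *
    rw [Set.not_disjoint_iff] at hnd
    obtain ⟨c, hcMg, hcM⟩ := hnd
    have h1 : ¬ Mg ⊆ M := by
      intro hsub
      exact hne (Set.eq_of_subset_of_ncard_le hsub hcard.ge (hfin M))
    have h2' : ¬ M ⊆ Mg := by
      intro hsub
      exact hne (Set.eq_of_subset_of_ncard_le hsub hcard.le (hfin Mg)).symm
    obtain ⟨z, hzMg, hzM⟩ := Set.not_subset.mp h1
    obtain ⟨a', haM, haMg⟩ := Set.not_subset.mp h2'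
    have hI : IsMod D (M ∩ Mg) := hM.inter hMgmod
    have hIlt : (M ∩ Mg).ncard < n := by
      rw [← hn]
      apply Set.ncard_lt_ncard _ (hfin M)
      exact ⟨Set.inter_subset_left, fun h => haMg (h haM).2⟩
    have hI1 : (M ∩ Mg).ncard < 2 := by
      by_contra h
      push Not at h
      exact ih _ hIlt (M ∩ Mg) hI rfl h (by
        intro hD'
        apply hMD
        apply Set.Subset.antisymm hM.1
        rw [← hD']; exact Set.inter_subset_left)
    have hDf : IsMod D (M \ Mg) := hM.diff hMgmod hzMg hzM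
    have hDlt : (M \ Mg).ncard < n := by
      rw [← hn]
      apply Set.ncard_lt_ncard _ (hfin M)
      exact ⟨Set.diff_subset, fun h => (h hcM).2 hcMg⟩
    have hD1 : (M \ Mg).ncard < 2 := by
      by_contra h
      push Not at h
      exact ih _ hDlt (M \ Mg) hDf rfl h (by
        intro hD'
        apply hMD
        apply Set.Subset.antisymm hM.1
        rw [← hD']; exact Set.diff_subset)
    have e1 : M ∩ Mg = {c} := by
      have h0 : 0 < (M ∩ Mg).ncard := (Set.ncard_pos (hfin _)).mpr ⟨c, hcM, hcMg⟩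
      have h1' : (M ∩ Mg).ncard = 1 := by omega
      obtain ⟨w, hw⟩ := Set.ncard_eq_one.mp h1'
      have hcw : c ∈ M ∩ Mg := ⟨hcM, hcMg⟩
      rw [hw] at hcw ⊢
      rw [Set.mem_singleton_iff.mp hcw]
    have e2 : M \ Mg = {a'} := by
      have h0 : 0 < (M \ Mg).ncard := (Set.ncard_pos (hfin _)).mpr ⟨a', haM, haMg⟩
      have h1' : (M \ Mg).ncard = 1 := by omega
      obtain ⟨w, hw⟩ := Set.ncard_eq_one.mp h1'
      have hcw : a' ∈ M \ Mg := ⟨haM, haMg⟩
      rw [hw] at hcw ⊢
      rw [Set.mem_singleton_iff.mp hcw]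
    have hMeq : ∀ y, y ∈ M ↔ (y = a' ∨ y = c) := by
      intro y
      constructor
      · intro hy
        by_cases hyg : y ∈ Mg
        · right
          have : y ∈ M ∩ Mg := ⟨hy, hyg⟩
          rw [e1] at this; exact this
        · left
          have : y ∈ M \ Mg := ⟨hy, hyg⟩
          rw [e2] at this; exact this
      · rintro (rfl | rfl)
        · exact haM
        · exact hcM
    have hac : a' ≠ c := fun h => haMg (h ▸ hcMg)
    apply no_twins hTS hconj hgen hprim ha hb hab hc (hM.1 haM) (hM.1 hcM) hac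
    intro y hy hya hyc
    have hyM : y ∉ M := by
      intro h
      rcases (hMeq y).mp h with h | h
      · exact hya h
      · exact hyc h
    rcases hM.2 y hy hyM with h | h
    · exact ⟨fun _ => h c hcM, fun _ => h a' haM⟩
    · exact ⟨fun hh => absurd hh (h a' haM), fun hh => absurd hh (h c hcM)⟩
  rcases hprim.2.2 M hM.1 hblock with h | h
  · rcases h.eq_empty_or_singleton with h' | ⟨w, h'⟩
    · rw [h', Set.ncard_empty] at hn; omega
    · rw [h', Set.ncard_singleton] at hn; omega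
  · exact hMD h

theorem Md_maximal {a b : G} (ha : a ∈ D) (hb : b ∈ D) (hab : a ≠ b)
    (hc : Commute a b) {d : G} (hd : d ∈ D) (H : Subgroup G) (hH : Cfsg.IsDSubgroup D H)
    (hle : Subgroup.closure {y : G | y ∈ D ∧ Commute d y} ≤ H) :
    H = Subgroup.closure {y : G | y ∈ D ∧ Commute d y} ∨ H = ⊤ := by
  by_contra hcon
  push Not at hcon
  obtain ⟨hne, hnt⟩ := hcon
  have hex : ∃ e, e ∈ D ∧ e ∈ H ∧ ¬ Commute d e := by
    by_contra h
    push Not at h
    apply hne
    apply le_antisymm _ hle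
    have hH' : H = Subgroup.closure {d : G | d ∈ D ∧ d ∈ H} := hH.symm
    rw [hH']
    apply Subgroup.closure_mono
    intro y hy
    exact ⟨hy.1, h y hy.1 (hH' ▸ hy.2)⟩
  obtain ⟨e, heD, heH, hnc⟩ := hex
  have hdH : d ∈ H := hle (Subgroup.subset_closure ⟨hd, Commute.refl d⟩)
  have hΩD : {x | ∃ h ∈ H, x = h * d * h⁻¹} ⊆ D := by
    rintro _ ⟨h, hh, rfl⟩; exact hconj h d hd
  have hΩH : ∀ x ∈ {x | ∃ h ∈ H, x = h * d * h⁻¹}, x ∈ H := by
    rintro _ ⟨h, hh, rfl⟩; exact H.mul_mem (H.mul_mem hh hdH) (H.inv_mem hh)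
  have hΩcl : ∀ x ∈ {x | ∃ h ∈ H, x = h * d * h⁻¹}, ∀ k ∈ H,
      k * x * k⁻¹ ∈ {x | ∃ h ∈ H, x = h * d * h⁻¹} := by
    rintro _ ⟨h, hh, rfl⟩ k hk
    exact ⟨k * h, H.mul_mem hk hh, by group⟩
  have hdΩ : d ∈ {x | ∃ h ∈ H, x = h * d * h⁻¹} := ⟨1, H.one_mem, by group⟩
  generalize hΩ : {x | ∃ h ∈ H, x = h * d * h⁻¹} = Ω at *
  have hstep : ∀ x ∈ Ω, ∀ y ∈ D, y ∈ H → ¬ Commute y x → y ∈ Ω := by
    intro x hx y hy hyH hnc
    have hbr : y * x * y⁻¹ = x * y * x⁻¹ := braid hTS hy (hΩD hx) hnc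
    have hxx := sq_one hTS (hΩD hx)
    have e1 : (x * y) * x * (x * y)⁻¹ = y := by
      calc (x * y) * x * (x * y)⁻¹ = x * (y * x * y⁻¹) * x⁻¹ := by group
        _ = x * (x * y * x⁻¹) * x⁻¹ := by rw [hbr]
        _ = (x * x) * y * (x * x)⁻¹ := by group
        _ = y := by rw [hxx]; group
    rw [← e1]
    exact hΩcl x hx (x * y) (H.mul_mem (hΩH x hx) hyH)
  have hmod : IsMod D Ω := by
    refine ⟨hΩD, ?_⟩
    intro y hy hyΩ
    by_cases hyH : y ∈ H
    · left
      intro x hx
      by_contra hnc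
      exact hyΩ (hstep x hx y hy hyH hnc)
    · right
      intro x hx hcm
      rw [← hΩ] at hx
      obtain ⟨h, hh, rfl⟩ := hx
      apply hyH
      have h1 : Commute d (h⁻¹ * y * h) := (comm_conj_left h d y).mp hcm.symm
      have h2 : h⁻¹ * y * h ∈ H := hle (Subgroup.subset_closure
        ⟨by have := hconj h⁻¹ y hy; rwa [inv_inv] at this, h1⟩)
      have : y = h * (h⁻¹ * y * h) * h⁻¹ := by group
      rw [this]
      exact H.mul_mem (H.mul_mem hh h2) (H.inv_mem hh)
  have hΩne : Ω ≠ D := by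
    intro hΩD'
    apply hnt
    rw [eq_top_iff, ← hgen, Subgroup.closure_le]
    intro y hy
    rw [← hΩD'] at hy
    exact hΩH y hy
  have heΩ : e ∈ Ω := hstep d hdΩ e heD heH (fun h => hnc h.symm)
  have hcard : 2 ≤ Ω.ncard := by
    have : 1 < Ω.ncard := by
      rw [Set.one_lt_ncard_iff (Set.toFinite Ω)]
      exact ⟨d, e, hdΩ, heΩ, fun h => hnc (h ▸ Commute.refl d)⟩
    omega
  exact no_module_of_primitive hTS hconj hgen hprim ha hb hab hc _ Ω hmod rfl hcard hΩne

end Prim

theorem Md_ne_top {D : Set G} (htrans : ∀ x ∈ D, ∀ y ∈ D, ∃ g : G, g * x * g⁻¹ = y) {a b d : G}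
    (ha : a ∈ D) (hb : b ∈ D) (hab : a ≠ b) (hd : d ∈ D) :
    Subgroup.closure {y : G | y ∈ D ∧ Commute d y} ≠ ⊤ := by
  intro htop
  have hle : Subgroup.closure {y : G | y ∈ D ∧ Commute d y} ≤ Subgroup.centralizer {d} := by
    rw [Subgroup.closure_le]
    intro y hy
    rw [SetLike.mem_coe, Subgroup.mem_centralizer_iff]
    intro z hz
    rw [Set.mem_singleton_iff] at hz
    rw [hz]
    exact hy.2.eq
  have hcen : ∀ g : G, d * g = g * d := by
    intro g
    have hg : g ∈ Subgroup.closure {y : G | y ∈ D ∧ Commute d y} := htop ▸ Subgroup.mem_top g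
    exact Subgroup.mem_centralizer_iff.mp (hle hg) d rfl
  have hone : ∀ x ∈ D, x = d := by
    intro x hx
    obtain ⟨g, hg⟩ := htrans d hd x hx
    rw [← hg, ← hcen g, mul_inv_cancel_right]
  exact hab ((hone a ha).trans (hone b hb).symm)

end Cfsg.Agent.h26TTQ
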