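import Cfsg.Statements.S5357
import Cfsg.Agent.Lib_helper13_F3Refl

set_option autoImplicit false
open scoped MatrixGroups
open Cfsg

namespace Cfsg.Agent.S5357

open Matrix QuadraticMap Module Cfsg.Agent.helper13


/-- Let Q be a non-degenerate quadratic form on the n-dimensional coordinate space over the field with three elements, n ≥ 5, and c a non-zero scalar. In the subgroup of the isometry group of Q generated by the reflections in vectors v with Q(v) = c, these reflections form a single conjugacy class of 3-transpositions generating that subgroup. -/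
theorem result (n : ℕ) (hn : 5 ≤ n) (Q : QuadraticForm (ZMod 3) (Fin n → ZMod 3)) (hQ : (QuadraticMap.polarBilin Q).Nondegenerate) (c : ZMod 3) (hc : c ≠ 0) : Cfsg.IsThreeTranspositionClass {g : ↥(Cfsg.reflectionSubgroup (⇑Q) c) | (g : ↥(Cfsg.isometryGroup (ZMod 3) (⇑Q))) ∈ Cfsg.reflectionsOfNorm (⇑Q) c} := by
  classical
  have hn' : 5 ≤ Fintype.card (Fin n) := by rw [Fintype.card_fin]; exact hn
  obtain ⟨v₀, hv₀⟩ := exists_Q_eq Q z3_two_ne hQ (by omega) c hc
  have hv₀0 : Q v₀ ≠ 0 := by rw [hv₀]; exact hc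
  refine ⟨⟨?_, ?_⟩, ⟨⟨reflG Q v₀ hv₀0, reflG_mem_N Q c v₀ hv₀0 hv₀⟩,
    reflG_mem_norm Q c v₀ hv₀0 hv₀, ?_⟩, ?_⟩
  · rintro ⟨d, hdN⟩ hd
    obtain ⟨v, hv0, hv, rfl⟩ := exists_of_mem_norm Q c hc d hd
    rw [← Subgroup.orderOf_coe]
    exact orderOf_reflG Q hQ v hv0
  · rintro ⟨d, hdN⟩ hd ⟨e, heN⟩ he
    obtain ⟨u, hu0, hu, rfl⟩ := exists_of_mem_norm Q c hc d hd
    obtain ⟨v, hv0, hv, rfl⟩ := exists_of_mem_norm Q c hc e he
    rcases three_transp_pair Q u v hu0 hv0 (by rw [hu, hv]) with h | h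
    · left
      apply Subtype.ext
      simpa using h
    · right
      apply Subtype.ext
      simpa using h
  · ext ⟨x, hxN⟩
    show _ ↔ IsConj _ _
    rw [isConj_iff]
    constructor
    · intro hx
      obtain ⟨v, hv0, hv, rfl⟩ := exists_of_mem_norm Q c hc x hx
      obtain ⟨g, hg, hgv⟩ := refl_conj_N Q c hQ hn' hc v₀ v hv₀0 hv0 hv₀ hv
      refine ⟨⟨g, hg⟩, ?_⟩
      apply Subtype.ext
      simpa using hgv
    · rintro ⟨⟨g, hg⟩, hgx⟩
      have h1 : g * reflG Q v₀ hv₀0 * g⁻¹ = x := by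
        have := congrArg Subtype.val hgx
        simpa using this
      show x ∈ Cfsg.reflectionsOfNorm (⇑Q) c
      rw [← h1, reflG_conj]
      exact reflG_mem_norm Q c _ _ (by rw [Q_iact]; exact hv₀)
  · exact Subgroup.closure_closure_coe_preimage

end Cfsg.Agent.S5357
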