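import Mathlib
import Cfsg.Agent.S5357
import Cfsg.Agent.Lib_helper13_SimpA
import Cfsg.Agent.Lib_helper13_C2D
import Cfsg.Agent.Lib_helper26_TTM

set_option autoImplicit false
set_option linter.style.haveILetI false
set_option linter.unusedSectionVars false
set_option linter.unusedVariables false

/-! Reflection groups over the field with three elements: primitivity. -/

namespace Cfsg.Agent.h26RFL

open Matrix QuadraticMap Module Cfsg.Agent.helper13

theorem commutator_le_of_index_le_two {G : Type*} [Group G] [Finite G] (L : Subgroup G)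
    [L.Normal] (h : L.index ≤ 2) : commutator G ≤ L := by
  apply Subgroup.Normal.quotient_commutative_iff_commutator_le.mp
  have hcard : Nat.card (G ⧸ L) ≤ 2 := by rw [← Subgroup.index_eq_card]; exact h
  have hpos : 0 < Nat.card (G ⧸ L) := Nat.card_pos
  refine ⟨⟨fun x y => ?_⟩⟩
  by_cases h1 : Nat.card (G ⧸ L) = 1
  · haveI : Subsingleton (G ⧸ L) := (Nat.card_eq_one_iff_unique.mp h1).1
    exact Subsingleton.elim _ _
  · have h2 : Nat.card (G ⧸ L) = 2 := by omega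
    haveI : Fact (Nat.Prime 2) := ⟨Nat.prime_two⟩
    haveI : IsCyclic (G ⧸ L) := isCyclic_of_prime_card h2
    exact (IsCyclic.commGroup (α := G ⧸ L)).mul_comm x y

theorem comm_coe {K : Type*} [Group K] {H : Subgroup K} (a b : H) :
    Commute a b ↔ Commute (a : K) (b : K) := by
  constructor
  · intro h
    have := congrArg Subtype.val h.eq
    show (a : K) * b = b * a
    simpa using this
  · intro h
    apply Subtype.ext
    simpa using h.eq

section
variable {ι : Type} [Fintype ι] [DecidableEq ι]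
variable (Q : QuadraticForm (ZMod 3) (ι → ZMod 3)) (c : ZMod 3)

theorem comm_of_perp (u v : ι → ZMod 3) (hu0 : Q u ≠ 0) (hv0 : Q v ≠ 0)
    (h : polar (⇑Q) u v = 0) : Commute (reflG Q u hu0) (reflG Q v hv0) := by
  have h1 := refl_comm_of_perp Q u v hu0 hv0 h
  have haa := reflG_mul_self Q u hu0
  show reflG Q u hu0 * reflG Q v hv0 = reflG Q v hv0 * reflG Q u hu0
  calc reflG Q u hu0 * reflG Q v hv0
      = reflG Q u hu0 * reflG Q v hv0 * (reflG Q u hu0 * reflG Q u hu0) := by rw [haa, mul_one]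
    _ = (reflG Q u hu0 * reflG Q v hv0 * reflG Q u hu0) * reflG Q u hu0 := by group
    _ = reflG Q v hv0 * reflG Q u hu0 := by rw [h1]

theorem perp_of_comm (u v : ι → ZMod 3) (hu0 : Q u ≠ 0) (hv0 : Q v ≠ 0) (hQuv : Q u = Q v)
    (hc : Commute (reflG Q u hu0) (reflG Q v hv0)) (hne : reflG Q u hu0 ≠ reflG Q v hv0) :
    polar (⇑Q) u v = 0 := by
  by_contra hβ
  have h1 := refl_braid Q u v hu0 hv0 hQuv hβ
  apply hne
  have haa := reflG_mul_self Q u hu0
  have hbb := reflG_mul_self Q v hv0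
  have e1 : reflG Q u hu0 * reflG Q v hv0 * reflG Q u hu0 = reflG Q v hv0 := by
    rw [hc.eq, mul_assoc, haa, mul_one]
  have e2 : reflG Q v hv0 * reflG Q u hu0 * reflG Q v hv0 = reflG Q u hu0 := by
    rw [← hc.eq, mul_assoc, hbb, mul_one]
  rw [e1, e2] at h1
  exact h1.symm

theorem two_smul_eq_zero {x : ι → ZMod 3} (h : x + x = 0) : x = 0 := by
  have h2 : (2 : ZMod 3) • x = 0 := by rw [two_smul]; exact h
  exact (smul_eq_zero.mp h2).resolve_left z3_two_ne

theorem reflG_ne_of_perp (u w : ι → ZMod 3) (hu0 : Q u ≠ 0) (hw0 : Q w ≠ 0)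
    (h : polar (⇑Q) u w = 0) : reflG Q u hu0 ≠ reflG Q w hw0 := by
  intro he
  have h1 : iact (reflG Q u hu0) u = -u := iact_reflG_self Q u hu0
  have h2 : iact (reflG Q w hw0) u = u :=
    iact_reflG_of_polar Q w hw0 u (by rw [polar_comm]; exact h)
  rw [he, h2] at h1
  have h3 : u + u = 0 := by
    nth_rewrite 1 [h1]; exact neg_add_cancel u
  have := two_smul_eq_zero h3
  apply hu0
  rw [this, QuadraticMap.map_zero]

/-- a nonzero singular vector orthogonal to two orthogonal nonsingular vectors -/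
theorem exists_V (hQ : (polarBilin Q).Nondegenerate) (hn : 5 ≤ Fintype.card ι)
    (u v : ι → ZMod 3) (hu0 : Q u ≠ 0) (hv0 : Q v ≠ 0) (huv : polar (⇑Q) u v = 0) :
    ∃ d : ι → ZMod 3, d ≠ 0 ∧ Q d = 0 ∧ polar (⇑Q) u d = 0 ∧ polar (⇑Q) v d = 0 := by
  classical
  have hX1 := nonsing_compl_nondeg Q z3_two_ne ⊤ (nondegOn_top Q hQ) u Submodule.mem_top hu0
  have hvX1 : v ∈ (⊤ : Submodule (ZMod 3) (ι → ZMod 3)) ⊓ orthQ Q (Submodule.span (ZMod 3) {u}) :=
    Submodule.mem_inf.mpr ⟨Submodule.mem_top, (mem_orth_singleton_iff Q u v).mpr huv⟩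
  have hX2 := nonsing_compl_nondeg Q z3_two_ne _ hX1 v hvX1 hv0
  have r1 := finrank_inf_orth_singleton Q hQ ⊤ u
  have r2 := finrank_inf_orth_singleton Q hQ
    ((⊤ : Submodule (ZMod 3) (ι → ZMod 3)) ⊓ orthQ Q (Submodule.span (ZMod 3) {u})) v
  rw [finrank_top, Module.finrank_fintype_fun_eq_card] at r1
  have r3 : 3 ≤ finrank (ZMod 3)
      ↥(((⊤ : Submodule (ZMod 3) (ι → ZMod 3)) ⊓ orthQ Q (Submodule.span (ZMod 3) {u})) ⊓
        orthQ Q (Submodule.span (ZMod 3) {v})) := by omega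
  have hpos : 0 < finrank (ZMod 3)
      ↥(((⊤ : Submodule (ZMod 3) (ι → ZMod 3)) ⊓ orthQ Q (Submodule.span (ZMod 3) {u})) ⊓
        orthQ Q (Submodule.span (ZMod 3) {v})) := by omega
  obtain ⟨⟨p, hp⟩, hp0⟩ := Module.finrank_pos_iff_exists_ne_zero.mp hpos
  have hp0' : p ≠ 0 := fun h => hp0 (Subtype.ext h)
  obtain ⟨d, hd, hQd, hpd⟩ := exists_sing_polar_ne_all Q hQ _ hX2 r3 p hp hp0'
  refine ⟨d, ?_, hQd, ?_, ?_⟩
  · intro h
    apply hpd
    rw [h, polar_zero_right]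
  · exact (mem_orth_singleton_iff Q u d).mp (Submodule.mem_inf.mp (Submodule.mem_inf.mp hd).1).2
  · exact (mem_orth_singleton_iff Q v d).mp (Submodule.mem_inf.mp hd).2

theorem z3_key : ∀ c β i : ZMod 3, i * (2 * c) = 1 → β ≠ 0 →
    c + (-(i * β)) * (-(i * β)) * c + (-(i * β)) * β = 0 := by decide

theorem z3_key2 : ∀ c β i : ZMod 3, i * (2 * c) = 1 → β + (-(i * β)) * (2 * c) = 0 := by decide

/-- a vector of norm `c` orthogonal to `u` but not to `v`, when `u`, `v` are not orthogonal -/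
theorem exists_W (hQ : (polarBilin Q).Nondegenerate) (hc : c ≠ 0)
    (u v : ι → ZMod 3) (hu0 : Q u ≠ 0) (hv0 : Q v ≠ 0) (hu : Q u = c) (hv : Q v = c)
    (huv : polar (⇑Q) u v ≠ 0) (hne : reflG Q u hu0 ≠ reflG Q v hv0) :
    ∃ w : ι → ZMod 3, Q w = c ∧ polar (⇑Q) u w = 0 ∧ polar (⇑Q) v w ≠ 0 := by
  obtain ⟨i, hi⟩ : ∃ i : ZMod 3, i * (2 * c) = 1 :=
    ⟨(2 * c)⁻¹, inv_mul_cancel₀ (mul_ne_zero z3_two_ne hc)⟩
  have hi0 : i ≠ 0 := by
    intro h; rw [h, zero_mul] at hi; exact zero_ne_one hi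
  obtain ⟨β, hβ⟩ : ∃ β, β = polar (⇑Q) u v := ⟨_, rfl⟩
  rw [← hβ] at huv
  obtain ⟨l, hl⟩ : ∃ l : ZMod 3, l = -(i * β) := ⟨_, rfl⟩
  obtain ⟨v', hv'⟩ : ∃ v' : ι → ZMod 3, v' = v + l • u := ⟨_, rfl⟩
  have h1 : polar (⇑Q) u v' = 0 := by
    rw [hv', polar_add_right, polar_smul_right, polar_self', hu, smul_eq_mul, ← hβ, hl]
    exact z3_key2 c β i hi
  have hQv' : Q v' = 0 := by
    rw [hv', Q_add_polar, QuadraticMap.map_smul, polar_smul_right, polar_comm (⇑Q) v u, ← hβ, hu,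
      hv, smul_eq_mul, smul_eq_mul, hl]
    have := z3_key c β i hi huv
    linear_combination this
  have hl0 : l ≠ 0 := by
    rw [hl]
    exact neg_ne_zero.mpr (mul_ne_zero hi0 huv)
  have hv'0 : v' ≠ 0 := by
    intro h
    apply hne
    have e : v = (-l) • u := by
      have h' : v + l • u = 0 := by rw [← hv']; exact h
      rw [neg_smul]
      exact eq_neg_of_add_eq_zero_left h'
    have hq : Q ((-l) • u) ≠ 0 := by rw [← e]; exact hv0
    rw [reflG_congr Q v ((-l) • u) e hv0 hq]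
    exact (reflG_smul Q u hu0 (-l) (neg_ne_zero.mpr hl0) hq).symm
  obtain ⟨y₀, hy₀⟩ : ∃ y₀, polar (⇑Q) v' y₀ ≠ 0 := by
    by_contra hcon
    push Not at hcon
    apply hv'0
    apply hQ.1 v'
    intro y
    simpa using hcon y
  obtain ⟨m, hm⟩ : ∃ m : ZMod 3, m = -(i * polar (⇑Q) u y₀) := ⟨_, rfl⟩
  obtain ⟨y, hy⟩ : ∃ y : ι → ZMod 3, y = y₀ + m • u := ⟨_, rfl⟩
  have h2 : polar (⇑Q) u y = 0 := by
    rw [hy, polar_add_right, polar_smul_right, polar_self', hu, smul_eq_mul, hm]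
    exact z3_key2 c _ i hi
  have h3 : polar (⇑Q) v' y = polar (⇑Q) v' y₀ := by
    rw [hy, polar_add_right, polar_smul_right, polar_comm (⇑Q) v' u, h1, smul_zero, add_zero]
  obtain ⟨γ, hγ⟩ : ∃ γ, γ = polar (⇑Q) v' y := ⟨_, rfl⟩
  have hγ0 : γ ≠ 0 := by rw [hγ, h3]; exact hy₀
  obtain ⟨ν, hν⟩ : ∃ ν : ZMod 3, ν = (c - Q y) * γ⁻¹ := ⟨_, rfl⟩
  have hνγ : ν * γ = c - Q y := by
    rw [hν, mul_assoc, inv_mul_cancel₀ hγ0, mul_one]
  have h4 : polar (⇑Q) u (y + ν • v') = 0 := by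
    rw [polar_add_right, polar_smul_right, h1, h2, smul_zero, add_zero]
  have h5 : polar (⇑Q) v' (y + ν • v') = γ := by
    rw [polar_add_right, polar_smul_right, polar_self', hQv', mul_zero, smul_zero, add_zero, hγ]
  refine ⟨y + ν • v', ?_, h4, ?_⟩
  · rw [Q_add_polar, QuadraticMap.map_smul, hQv', smul_zero, add_zero, polar_smul_right,
      polar_comm (⇑Q) y v', ← hγ, smul_eq_mul, hνγ]
    ring
  · have e : v = v' + (-l) • u := by rw [hv', neg_smul]; abel
    rw [e, polar_add_left, polar_smul_left, h4, h5, smul_zero, add_zero]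
    exact hγ0

end

end Cfsg.Agent.h26RFL
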