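import Mathlib
import Cfsg.Agent.Lib_helper26_RFL

set_option autoImplicit false
set_option linter.style.haveILetI false
set_option linter.unusedSectionVars false
set_option linter.unusedVariables false

/-! Reflection groups over the field with three elements: primitivity (group level). -/

namespace Cfsg.Agent.h26RFL

open Matrix QuadraticMap Module Cfsg.Agent.helper13 Cfsg.Agent.h26TTW Cfsg.Agent.h26TTQ

section
variable {ι : Type} [Fintype ι] [DecidableEq ι]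
variable (Q : QuadraticForm (ZMod 3) (ι → ZMod 3)) (c : ZMod 3)

theorem V_triv (hQ : (polarBilin Q).Nondegenerate) (hn : 5 ≤ Fintype.card ι) (hc : c ≠ 0)
    (x y : ↥(Cfsg.reflectionSubgroup (⇑Q) c))
    (hx : (x : ↥(Cfsg.isometryGroup (ZMod 3) (⇑Q))) ∈ Cfsg.reflectionsOfNorm (⇑Q) c)
    (hy : (y : ↥(Cfsg.isometryGroup (ZMod 3) (⇑Q))) ∈ Cfsg.reflectionsOfNorm (⇑Q) c)
    (h : ∀ e : ↥(Cfsg.reflectionSubgroup (⇑Q) c),
      (e : ↥(Cfsg.isometryGroup (ZMod 3) (⇑Q))) ∈ Cfsg.reflectionsOfNorm (⇑Q) c →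
      (Commute y e ↔ Commute x e)) : y = x := by
  obtain ⟨u, hu0, hu, hxu⟩ := exists_of_mem_norm Q c hc x.1 hx
  obtain ⟨v, hv0, hv, hyv⟩ := exists_of_mem_norm Q c hc y.1 hy
  by_contra hne
  have hne' : reflG Q v hv0 ≠ reflG Q u hu0 := fun e => hne (Subtype.ext (by rw [hyv, hxu, e]))
  have hcyx : Commute y x := (h x hx).mpr (Commute.refl x)
  have hcyx' : Commute (reflG Q v hv0) (reflG Q u hu0) := by
    rw [← hyv, ← hxu]; exact (comm_coe y x).mp hcyx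
  have huv : polar (⇑Q) v u = 0 := perp_of_comm Q v u hv0 hu0 (by rw [hu, hv]) hcyx' hne'
  have huv' : polar (⇑Q) u v = 0 := by rw [polar_comm]; exact huv
  obtain ⟨d, hd0, hQd, hud, hvd⟩ := exists_V Q hQ hn u v hu0 hv0 huv'
  have hw : Q (v + d) = c := by rw [Q_add_polar, hv, hQd, hvd, add_zero, add_zero]
  have hw0 : Q (v + d) ≠ 0 := by rw [hw]; exact hc
  have huw : polar (⇑Q) u (v + d) = 0 := by rw [polar_add_right, huv', hud, add_zero]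
  have hzmem : reflG Q (v + d) hw0 ∈ Cfsg.reflectionSubgroup (⇑Q) c := reflG_mem_N Q c _ hw0 hw
  have hz : ((⟨reflG Q (v + d) hw0, hzmem⟩ : ↥(Cfsg.reflectionSubgroup (⇑Q) c)) :
      ↥(Cfsg.isometryGroup (ZMod 3) (⇑Q))) ∈ Cfsg.reflectionsOfNorm (⇑Q) c :=
    reflG_mem_norm Q c _ hw0 hw
  have hcxz : Commute x ⟨reflG Q (v + d) hw0, hzmem⟩ := by
    rw [comm_coe]
    show Commute (x : ↥(Cfsg.isometryGroup (ZMod 3) (⇑Q))) (reflG Q (v + d) hw0)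
    rw [hxu]
    exact comm_of_perp Q u (v + d) hu0 hw0 huw
  have hcyz : Commute y ⟨reflG Q (v + d) hw0, hzmem⟩ := (h _ hz).mpr hcxz
  have hcyz' : Commute (reflG Q v hv0) (reflG Q (v + d) hw0) := by
    have := (comm_coe y _).mp hcyz
    rw [hyv] at this
    exact this
  have hvwv : polar (⇑Q) v (v + d) = 2 * c := by
    rw [polar_add_right, polar_self', hv, hvd, add_zero]
  have hvw : polar (⇑Q) v (v + d) ≠ 0 := by rw [hvwv]; exact mul_ne_zero z3_two_ne hc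
  have heq : reflG Q v hv0 = reflG Q (v + d) hw0 := by
    by_contra hne2
    exact hvw (perp_of_comm Q v (v + d) hv0 hw0 (by rw [hv, hw]) hcyz' hne2)
  have e1 : iact (reflG Q v hv0) v = -v := iact_reflG_self Q v hv0
  have e2 : iact (reflG Q (v + d) hw0) v =
      v - ((Q (v + d))⁻¹ * polar (⇑Q) (v + d) v) • (v + d) := iact_reflG Q (v + d) hw0 v
  have e3 : (Q (v + d))⁻¹ * polar (⇑Q) (v + d) v = 2 := by
    rw [hw, polar_comm, hvwv, mul_comm 2 c, ← mul_assoc, inv_mul_cancel₀ hc, one_mul]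
  rw [heq, e2, e3] at e1
  have hdd : d + d = 0 := by
    calc d + d = (v - (v - (2 : ZMod 3) • (v + d))) - (v + v) := by rw [two_smul]; abel
      _ = (v - (-v)) - (v + v) := by rw [e1]
      _ = 0 := by abel
  exact hd0 (two_smul_eq_zero hdd)

theorem W_triv (hQ : (polarBilin Q).Nondegenerate) (hc : c ≠ 0)
    (x y : ↥(Cfsg.reflectionSubgroup (⇑Q) c))
    (hx : x ∈ {g : ↥(Cfsg.reflectionSubgroup (⇑Q) c) |
      (g : ↥(Cfsg.isometryGroup (ZMod 3) (⇑Q))) ∈ Cfsg.reflectionsOfNorm (⇑Q) c})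
    (hy : y ∈ {g : ↥(Cfsg.reflectionSubgroup (⇑Q) c) |
      (g : ↥(Cfsg.isometryGroup (ZMod 3) (⇑Q))) ∈ Cfsg.reflectionsOfNorm (⇑Q) c})
    (h : Dc {g : ↥(Cfsg.reflectionSubgroup (⇑Q) c) |
      (g : ↥(Cfsg.isometryGroup (ZMod 3) (⇑Q))) ∈ Cfsg.reflectionsOfNorm (⇑Q) c} x =
      Dc {g : ↥(Cfsg.reflectionSubgroup (⇑Q) c) |
      (g : ↥(Cfsg.isometryGroup (ZMod 3) (⇑Q))) ∈ Cfsg.reflectionsOfNorm (⇑Q) c} y) : y = x := by
  obtain ⟨u, hu0, hu, hxu⟩ := exists_of_mem_norm Q c hc x.1 hx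
  obtain ⟨v, hv0, hv, hyv⟩ := exists_of_mem_norm Q c hc y.1 hy
  by_contra hne
  have hnc : ¬ Commute x y := not_comm_of_blk hy h (Ne.symm hne)
  have hne' : reflG Q u hu0 ≠ reflG Q v hv0 :=
    fun e => hne (Subtype.ext (by rw [hyv, hxu, e]))
  have huv : polar (⇑Q) u v ≠ 0 := by
    intro h0
    apply hnc
    rw [comm_coe, hxu, hyv]
    exact comm_of_perp Q u v hu0 hv0 h0
  obtain ⟨w, hw, huw, hvw⟩ := exists_W Q c hQ hc u v hu0 hv0 hu hv huv hne'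
  have hw0 : Q w ≠ 0 := by rw [hw]; exact hc
  have hzmem : reflG Q w hw0 ∈ Cfsg.reflectionSubgroup (⇑Q) c := reflG_mem_N Q c _ hw0 hw
  have hz : (⟨reflG Q w hw0, hzmem⟩ : ↥(Cfsg.reflectionSubgroup (⇑Q) c)) ∈
      {g : ↥(Cfsg.reflectionSubgroup (⇑Q) c) |
      (g : ↥(Cfsg.isometryGroup (ZMod 3) (⇑Q))) ∈ Cfsg.reflectionsOfNorm (⇑Q) c} :=
    reflG_mem_norm Q c _ hw0 hw
  have hzx : (⟨reflG Q w hw0, hzmem⟩ : ↥(Cfsg.reflectionSubgroup (⇑Q) c)) ≠ x := by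
    intro e
    have e' := congrArg Subtype.val e
    rw [hxu] at e'
    exact reflG_ne_of_perp Q u w hu0 hw0 huw e'.symm
  have hcxz : Commute x ⟨reflG Q w hw0, hzmem⟩ := by
    rw [comm_coe]
    show Commute (x : ↥(Cfsg.isometryGroup (ZMod 3) (⇑Q))) (reflG Q w hw0)
    rw [hxu]
    exact comm_of_perp Q u w hu0 hw0 huw
  have hz1 : (⟨reflG Q w hw0, hzmem⟩ : ↥(Cfsg.reflectionSubgroup (⇑Q) c)) ∈
      Dc {g : ↥(Cfsg.reflectionSubgroup (⇑Q) c) |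
      (g : ↥(Cfsg.isometryGroup (ZMod 3) (⇑Q))) ∈ Cfsg.reflectionsOfNorm (⇑Q) c} x :=
    ⟨hz, hzx, hcxz⟩
  rw [h] at hz1
  have hcyz' : Commute (reflG Q v hv0) (reflG Q w hw0) := by
    have := (comm_coe y _).mp hz1.2.2
    rw [hyv] at this
    exact this
  have hne2 : reflG Q v hv0 ≠ reflG Q w hw0 := by
    intro e
    apply hz1.2.1
    apply Subtype.ext
    show reflG Q w hw0 = (y : ↥(Cfsg.isometryGroup (ZMod 3) (⇑Q)))
    rw [hyv, e]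
  exact hvw (perp_of_comm Q v w hv0 hw0 (by rw [hv, hw]) hcyz' hne2)

theorem conn (hQ : (polarBilin Q).Nondegenerate) (hn : 5 ≤ Fintype.card ι) (hc : c ≠ 0) :
    (Cfsg.commutingGraph {g : ↥(Cfsg.reflectionSubgroup (⇑Q) c) |
      (g : ↥(Cfsg.isometryGroup (ZMod 3) (⇑Q))) ∈ Cfsg.reflectionsOfNorm (⇑Q) c}).Connected := by
  classical
  obtain ⟨v₀, hv₀⟩ := exists_Q_eq Q z3_two_ne hQ (by omega) c hc
  have hv₀0 : Q v₀ ≠ 0 := by rw [hv₀]; exact hc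
  rw [SimpleGraph.connected_iff]
  refine ⟨?_, ⟨⟨⟨reflG Q v₀ hv₀0, reflG_mem_N Q c v₀ hv₀0 hv₀⟩, reflG_mem_norm Q c v₀ hv₀0 hv₀⟩⟩⟩
  rintro ⟨x, hx⟩ ⟨y, hy⟩
  obtain ⟨u, hu0, hu, hxu⟩ := exists_of_mem_norm Q c hc x.1 hx
  obtain ⟨v, hv0, hv, hyv⟩ := exists_of_mem_norm Q c hc y.1 hy
  obtain ⟨w, hw, huw, hvw⟩ := exists_perp_norm Q hQ hn u v hu0 c hc
  have hw0 : Q w ≠ 0 := by rw [hw]; exact hc
  have hzmem : reflG Q w hw0 ∈ Cfsg.reflectionSubgroup (⇑Q) c := reflG_mem_N Q c _ hw0 hw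
  have hz : (⟨reflG Q w hw0, hzmem⟩ : ↥(Cfsg.reflectionSubgroup (⇑Q) c)) ∈
      {g : ↥(Cfsg.reflectionSubgroup (⇑Q) c) |
      (g : ↥(Cfsg.isometryGroup (ZMod 3) (⇑Q))) ∈ Cfsg.reflectionsOfNorm (⇑Q) c} :=
    reflG_mem_norm Q c _ hw0 hw
  have a1 : (Cfsg.commutingGraph {g : ↥(Cfsg.reflectionSubgroup (⇑Q) c) |
      (g : ↥(Cfsg.isometryGroup (ZMod 3) (⇑Q))) ∈ Cfsg.reflectionsOfNorm (⇑Q) c}).Adj
      ⟨x, hx⟩ ⟨⟨reflG Q w hw0, hzmem⟩, hz⟩ := by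
    unfold Cfsg.commutingGraph
    rw [SimpleGraph.fromRel_adj]
    refine ⟨?_, Or.inl ?_⟩
    · intro e
      have e' : (x : ↥(Cfsg.isometryGroup (ZMod 3) (⇑Q))) = reflG Q w hw0 :=
        congrArg (fun t => ((t : ↥(Cfsg.reflectionSubgroup (⇑Q) c)) :
          ↥(Cfsg.isometryGroup (ZMod 3) (⇑Q)))) (congrArg Subtype.val e)
      rw [hxu] at e'
      exact reflG_ne_of_perp Q u w hu0 hw0 huw e'
    · show Commute x ⟨reflG Q w hw0, hzmem⟩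
      rw [comm_coe]
      show Commute (x : ↥(Cfsg.isometryGroup (ZMod 3) (⇑Q))) (reflG Q w hw0)
      rw [hxu]
      exact comm_of_perp Q u w hu0 hw0 huw
  have a2 : (Cfsg.commutingGraph {g : ↥(Cfsg.reflectionSubgroup (⇑Q) c) |
      (g : ↥(Cfsg.isometryGroup (ZMod 3) (⇑Q))) ∈ Cfsg.reflectionsOfNorm (⇑Q) c}).Adj
      ⟨⟨reflG Q w hw0, hzmem⟩, hz⟩ ⟨y, hy⟩ := by
    unfold Cfsg.commutingGraph
    rw [SimpleGraph.fromRel_adj]
    refine ⟨?_, Or.inr ?_⟩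
    · intro e
      have e' : reflG Q w hw0 = (y : ↥(Cfsg.isometryGroup (ZMod 3) (⇑Q))) :=
        congrArg (fun t => ((t : ↥(Cfsg.reflectionSubgroup (⇑Q) c)) :
          ↥(Cfsg.isometryGroup (ZMod 3) (⇑Q)))) (congrArg Subtype.val e)
      rw [hyv] at e'
      exact reflG_ne_of_perp Q v w hv0 hw0 hvw e'.symm
    · show Commute y ⟨reflG Q w hw0, hzmem⟩
      rw [comm_coe]
      show Commute (y : ↥(Cfsg.isometryGroup (ZMod 3) (⇑Q))) (reflG Q w hw0)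
      rw [hyv]
      exact comm_of_perp Q v w hv0 hw0 hvw
  exact a1.reachable.trans a2.reachable

theorem exists_pair (hQ : (polarBilin Q).Nondegenerate) (hn : 5 ≤ Fintype.card ι) (hc : c ≠ 0) :
    ∃ a ∈ {g : ↥(Cfsg.reflectionSubgroup (⇑Q) c) |
      (g : ↥(Cfsg.isometryGroup (ZMod 3) (⇑Q))) ∈ Cfsg.reflectionsOfNorm (⇑Q) c},
    ∃ b ∈ {g : ↥(Cfsg.reflectionSubgroup (⇑Q) c) |
      (g : ↥(Cfsg.isometryGroup (ZMod 3) (⇑Q))) ∈ Cfsg.reflectionsOfNorm (⇑Q) c},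
      a ≠ b ∧ Commute a b := by
  classical
  obtain ⟨u, hu⟩ := exists_Q_eq Q z3_two_ne hQ (by omega) c hc
  have hu0 : Q u ≠ 0 := by rw [hu]; exact hc
  obtain ⟨w, hw, huw, _⟩ := exists_perp_norm Q hQ hn u u hu0 c hc
  have hw0 : Q w ≠ 0 := by rw [hw]; exact hc
  refine ⟨⟨reflG Q u hu0, reflG_mem_N Q c u hu0 hu⟩, reflG_mem_norm Q c u hu0 hu,
    ⟨reflG Q w hw0, reflG_mem_N Q c w hw0 hw⟩, reflG_mem_norm Q c w hw0 hw, ?_, ?_⟩
  · intro e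
    exact reflG_ne_of_perp Q u w hu0 hw0 huw (congrArg Subtype.val e)
  · rw [comm_coe]
    exact comm_of_perp Q u w hu0 hw0 huw

end

end Cfsg.Agent.h26RFL
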