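import Cfsg.Agent.Lib_helper26_NormSub

set_option autoImplicit false

namespace Cfsg.Agent.helper26.NS

open Cfsg Cfsg.FusionSystem Cfsg.Agent.helper25

variable {Ω : Type*} [Group Ω] {S : Subgroup Ω} {G : Type*} [Group G]

/-- the subsystem over `pre ι N` of conjugations by elements of `N`. -/
def subSystem {F : FusionSystem S} {ι : S →* G} (hF : F.IsRealizedBy ι) (N : Subgroup G)
    [hN : N.Normal] : FusionSystem (pre ι N) where
  Hom P := {φ | ∃ (hP : P ≤ pre ι N) (hφ : ∀ x : P, φ x ∈ pre ι N), ∃ g ∈ N,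
    ∀ x : P, ι ⟨φ x, pre_le ι N (hφ x)⟩ = g * ι ⟨x, pre_le ι N (hP x.2)⟩ * g⁻¹}
  le_of_mem := fun ⟨hP, hφ, _⟩ => ⟨hP, hφ⟩
  injective_of_mem := by
    rintro P φ ⟨hP, hφ, g, _, hx⟩ a b hab
    have h1 : ι ⟨φ a, pre_le ι N (hφ a)⟩ = ι ⟨φ b, pre_le ι N (hφ b)⟩ := iota_congr ι _ _ hab
    rw [hx a, hx b] at h1
    have h2 := hF.1 (mul_left_cancel (mul_right_cancel h1))
    exact Subtype.ext (congrArg (fun s : S => (s : Ω)) h2)
  conj_mem := by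
    intro P g hP hg
    refine ⟨hP, fun x => ?_, ι ⟨g, pre_le ι N hg⟩, ((mem_pre_iff ι N g).mp hg).2, fun x => ?_⟩
    · show g * (x : Ω) * g⁻¹ ∈ pre ι N
      exact (pre ι N).mul_mem ((pre ι N).mul_mem hg (hP x.2)) ((pre ι N).inv_mem hg)
    · have e : (⟨conjHom P g x, pre_le ι N ((pre ι N).mul_mem ((pre ι N).mul_mem hg (hP x.2))
          ((pre ι N).inv_mem hg))⟩ : S) =
          ⟨g, pre_le ι N hg⟩ * ⟨x, pre_le ι N (hP x.2)⟩ * ⟨g, pre_le ι N hg⟩⁻¹ := rfl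
      rw [e, map_mul, map_mul, map_inv]
  comp_mem := by
    rintro P Q φ ψ ⟨hP, hφ, g, hg, hgx⟩ ⟨hQ, hψ, k, hk, hkx⟩ h
    refine ⟨hP, fun x => hψ _, k * g, N.mul_mem hk hg, fun x => ?_⟩
    have e1 := hkx ⟨φ x, h x⟩
    have e2 := hgx x
    have e3 : ι ⟨(ψ.comp (φ.codRestrict Q h)) x, pre_le ι N (hψ _)⟩ =
        k * ι ⟨φ x, pre_le ι N (hφ x)⟩ * k⁻¹ := e1
    rw [e3, e2]; group
  inv_mem := by
    rintro P φ ⟨hP, hφ, g, hg, hgx⟩
    have hφF : φ ∈ F.Hom P :=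
      (hF.2 P (hP.trans (pre_le ι N)) φ (fun x => pre_le ι N (hφ x))).mpr ⟨g, hgx⟩
    obtain ⟨ψ, hψ, hψx⟩ := F.inv_mem hφF
    have hr : φ.range ≤ pre ι N := by rintro _ ⟨x, rfl⟩; exact hφ x
    have hval : ∀ y : φ.range, ψ y ∈ pre ι N := by
      rintro ⟨_, x, rfl⟩
      rw [hψx x]; exact hP x.2
    refine ⟨ψ, ⟨hr, hval, g⁻¹, N.inv_mem hg, ?_⟩, hψx⟩
    rintro ⟨_, x, rfl⟩
    have e : ι ⟨ψ ⟨φ x, ⟨x, rfl⟩⟩, pre_le ι N (hval _)⟩ = ι ⟨x, pre_le ι N (hP x.2)⟩ :=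
      iota_congr ι _ _ (hψx x)
    rw [e]
    have e2 : ι ⟨((⟨φ x, ⟨x, rfl⟩⟩ : φ.range) : Ω), pre_le ι N (hr (⟨φ x, ⟨x, rfl⟩⟩ : φ.range).2)⟩ =
        g * ι ⟨x, pre_le ι N (hP x.2)⟩ * g⁻¹ := hgx x
    rw [e2]; group

theorem nData_subSystem {p : ℕ} {F : FusionSystem S} {ι : S →* G} (hF : F.IsRealizedBy ι)
    (hsyl : ∃ R : Sylow p G, (R : Subgroup G) = ι.range) (N : Subgroup G) [hN : N.Normal] :
    NData p F ι N (pre ι N) (subSystem hF N) :=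
  { real := hF
    syl := hsyl
    nor := hN
    le := pre_le ι N
    mem := fun s => ⟨fun h => ((mem_pre_iff ι N _).mp h).2, fun h => (mem_pre_iff ι N _).mpr ⟨s.2, h⟩⟩
    hom := fun _ _ => Iff.rfl }

/-- a group realizing `F` modulo a normal `p'`-subgroup still realizes `F`. -/
theorem realized_quotient [Finite G] {p : ℕ} [Fact p.Prime] {F : FusionSystem S} {ι : S →* G}
    (hF : F.IsRealizedBy ι) (R : Sylow p G) (hR : (R : Subgroup G) = ι.range) (N : Subgroup G)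
    [hN : N.Normal] (hcop : (Nat.card N).Coprime p) :
    F.IsRealizedBy ((QuotientGroup.mk' N).comp ι) ∧
      ∃ R' : Sylow p (G ⧸ N), (R' : Subgroup (G ⧸ N)) = ((QuotientGroup.mk' N).comp ι).range := by
  have hp : p.Prime := Fact.out
  have hRp : IsPGroup p ι.range := hR ▸ R.isPGroup'
  -- a `p`-subgroup meets `N` trivially
  have hdisj : ∀ A : Subgroup G, IsPGroup p A → A ⊓ N = ⊥ := by
    intro A hA
    apply disjoint_iff.mp
    apply Subgroup.disjoint_of_coprime_natCard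
    obtain ⟨k, hk⟩ := IsPGroup.iff_card.mp hA
    rw [hk]
    exact (Nat.Coprime.pow_right k hcop).symm
  refine ⟨⟨?_, ?_⟩, ?_⟩
  · intro s t hst
    have h1 : (ι s)⁻¹ * ι t ∈ N := QuotientGroup.eq.mp hst
    have h2 : (ι s)⁻¹ * ι t ∈ ι.range ⊓ N :=
      ⟨ι.range.mul_mem (ι.range.inv_mem ⟨s, rfl⟩) ⟨t, rfl⟩, h1⟩
    rw [hdisj _ hRp, Subgroup.mem_bot] at h2
    exact hF.1 (inv_mul_eq_one.mp h2)
  · intro P hP φ hφ
    rw [hF.2 P hP φ hφ]
    constructor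
    · rintro ⟨g, hg⟩
      refine ⟨QuotientGroup.mk' N g, fun x => ?_⟩
      show QuotientGroup.mk' N (ι ⟨φ x, hφ x⟩) = _
      rw [hg x, map_mul, map_mul, map_inv]
      rfl
    · rintro ⟨gbar, hg⟩
      obtain ⟨g, rfl⟩ := QuotientGroup.mk'_surjective N gbar
      have hgN : ∀ x : P, (ι ⟨φ x, hφ x⟩)⁻¹ * (g * ι ⟨x, hP x.2⟩ * g⁻¹) ∈ N := by
        intro x
        apply QuotientGroup.eq.mp
        have := hg x
        show QuotientGroup.mk' N (ι ⟨φ x, hφ x⟩) = QuotientGroup.mk' N (g * ι ⟨x, hP x.2⟩ * g⁻¹)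
        rw [map_mul, map_mul, map_inv]
        exact this
      -- `A = ι(φ P)`, `B = (ι P)^g`
      have hAr : im ι φ.range ≤ ι.range := im_le_range ι _
      have hAp : IsPGroup p (im ι φ.range) := hRp.to_le hAr
      have hBp : IsPGroup p (cj g (im ι P)) := IsPGroup_cj g (hRp.to_le (im_le_range ι P))
      have hAmem : ∀ x : P, ι ⟨φ x, hφ x⟩ ∈ im ι φ.range := fun x => mem_im ι (MonoidHom.mem_range.mpr ⟨x, rfl⟩) (hφ x)
      have hBL : cj g (im ι P) ≤ im ι φ.range ⊔ N := by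
        rintro _ ⟨y, hy, rfl⟩
        obtain ⟨s, hs, rfl⟩ := (mem_im_iff ι P y).mp hy
        show g * ι s * g⁻¹ ∈ im ι φ.range ⊔ N
        have e : g * ι s * g⁻¹ = ι ⟨φ ⟨s, hs⟩, hφ _⟩ * ((ι ⟨φ ⟨s, hs⟩, hφ _⟩)⁻¹ * (g * ι s * g⁻¹)) := by
          group
        rw [e]
        exact Subgroup.mul_mem_sup (hAmem ⟨s, hs⟩) (hgN ⟨s, hs⟩)
      -- `A` is Sylow in `A ⊔ N`
      have hsyl : IsSylowIn p (im ι φ.range) (im ι φ.range ⊔ N) := by
        obtain ⟨R₁, hAR, hRL, hR₁p, hR₁c⟩ := exists_sylow_ge (le_sup_left : im ι φ.range ≤ _ ⊔ N) hAp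
        have hRA : R₁ = im ι φ.range := by
          apply le_antisymm _ hAR
          intro r hr
          obtain ⟨a, ha, n, hn, rfl⟩ := Subgroup.mem_sup_of_normal_right.mp (hRL hr)
          have hn' : n ∈ R₁ ⊓ N := by
            refine ⟨?_, hn⟩
            have e : n = a⁻¹ * (a * n) := by group
            rw [e]
            exact R₁.mul_mem (R₁.inv_mem (hAR ha)) hr
          rw [hdisj _ hR₁p, Subgroup.mem_bot] at hn'
          rw [hn', mul_one]; exact ha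
        rw [isSylowIn_iff_card le_sup_left]
        rw [hRA] at hR₁c
        exact hR₁c
      obtain ⟨l, hl, hlB⟩ := exists_cj_le_of_isSylowIn hsyl hBL hBp
      obtain ⟨a, ha, m, hm, rfl⟩ := Subgroup.mem_sup_of_normal_right.mp hl
      have hmB : cj m (cj g (im ι P)) ≤ im ι φ.range := by
        have h6 := cj_mono a⁻¹ hlB
        rw [cj_cj, cj_of_mem ((im ι φ.range).inv_mem ha)] at h6
        have e : a⁻¹ * (a * m) = m := by group
        rwa [e] at h6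
      refine ⟨m * g, fun x => ?_⟩
      have hu : (m * g) * ι ⟨x, hP x.2⟩ * (m * g)⁻¹ ∈ im ι φ.range := by
        apply hmB
        have e : (m * g) * ι ⟨x, hP x.2⟩ * (m * g)⁻¹ = m * (g * ι ⟨x, hP x.2⟩ * g⁻¹) * m⁻¹ := by
          group
        rw [e]
        exact conj_mem_cj m _ (conj_mem_cj g _ (mem_im ι x.2 (hP x.2)))
      have hvu : (ι ⟨φ x, hφ x⟩)⁻¹ * ((m * g) * ι ⟨x, hP x.2⟩ * (m * g)⁻¹) ∈ im ι φ.range ⊓ N := by
        refine ⟨(im ι φ.range).mul_mem ((im ι φ.range).inv_mem (hAmem x)) hu, ?_⟩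
        have e : (ι ⟨φ x, hφ x⟩)⁻¹ * ((m * g) * ι ⟨x, hP x.2⟩ * (m * g)⁻¹) =
            ((ι ⟨φ x, hφ x⟩)⁻¹ * m * (ι ⟨φ x, hφ x⟩)⁻¹⁻¹) *
              ((ι ⟨φ x, hφ x⟩)⁻¹ * (g * ι ⟨x, hP x.2⟩ * g⁻¹)) * m⁻¹ := by group
        rw [e]
        exact N.mul_mem (N.mul_mem (hN.conj_mem m hm _) (hgN x)) (N.inv_mem hm)
      rw [hdisj _ hAp, Subgroup.mem_bot] at hvu
      exact inv_mul_eq_one.mp hvu
  · refine ⟨R.mapSurjective (QuotientGroup.mk'_surjective N), ?_⟩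
    rw [Sylow.coe_mapSurjective, hR, MonoidHom.map_range]

/-- a subgroup containing `ι(S)` and inducing all of `F` realizes `F`. -/
theorem realized_subgroup [Finite G] {p : ℕ} [Fact p.Prime] {F : FusionSystem S} {ι : S →* G}
    (hF : F.IsRealizedBy ι) (R : Sylow p G) (hR : (R : Subgroup G) = ι.range) (H : Subgroup G)
    (hle : ∀ s : S, ι s ∈ H)
    (hH : ∀ (P : Subgroup Ω) (hP : P ≤ S) (φ : P →* Ω) (hφ : ∀ x : P, φ x ∈ S), φ ∈ F.Hom P →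
      ∃ g ∈ H, ∀ x : P, ι ⟨φ x, hφ x⟩ = g * ι ⟨x, hP x.2⟩ * g⁻¹) :
    F.IsRealizedBy (ι.codRestrict H hle) ∧
      ∃ R' : Sylow p H, (R' : Subgroup H) = (ι.codRestrict H hle).range := by
  refine ⟨⟨?_, ?_⟩, ?_⟩
  · intro s t hst
    exact hF.1 (congrArg Subtype.val hst)
  · intro P hP φ hφ
    constructor
    · intro h
      obtain ⟨g, hg, hx⟩ := hH P hP φ hφ h
      exact ⟨⟨g, hg⟩, fun x => Subtype.ext (hx x)⟩
    · rintro ⟨g, hx⟩
      exact (hF.2 P hP φ hφ).mpr ⟨g.1, fun x => congrArg Subtype.val (hx x)⟩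
  · have hrH : ι.range ≤ H := by rintro _ ⟨s, rfl⟩; exact hle s
    have h1 : IsSylowIn p ι.range H := isSylowIn_of_le hrH le_top (hR ▸ isSylowIn_top R)
    obtain ⟨R', hR'⟩ := h1
    refine ⟨R', ?_⟩
    rw [hR']
    ext ⟨y, hy⟩
    rw [Subgroup.mem_subgroupOf, MonoidHom.mem_range]
    constructor
    · rintro ⟨s, hs⟩
      exact ⟨s, Subtype.ext hs⟩
    · rintro ⟨s, hs⟩
      exact ⟨s, congrArg Subtype.val hs⟩

end Cfsg.Agent.helper26.NS
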