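import Mathlib
import Cfsg.Agent.Lib_helper26_S2645x

set_option autoImplicit false

namespace Cfsg.Agent.helper26.S2645x

theorem exists_reps {α : Type*} [DecidableEq α] (S : Finset α) (ρ : α → α)
    (hρS : ∀ g ∈ S, ρ g ∈ S) (hρρ : ∀ g ∈ S, ρ (ρ g) = g) (hfix : ∀ g ∈ S, ρ g ≠ g) :
    ∃ R : Finset α, R ⊆ S ∧ (∀ g ∈ S, (ρ g ∈ R ↔ g ∉ R)) := by
  classical
  obtain ⟨e, he⟩ := Set.countable_iff_exists_injOn.1 S.countable_toSet
  refine ⟨S.filter (fun g => e g < e (ρ g)), Finset.filter_subset _ _, ?_⟩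
  intro g hg
  have hne : e (ρ g) ≠ e g := fun h =>
    hfix g hg (he (Finset.mem_coe.2 (hρS g hg)) (Finset.mem_coe.2 hg) h)
  simp only [Finset.mem_filter, hρS g hg, hg, true_and, hρρ g hg]
  omega

theorem rho_not_mem {α : Type*} (S R : Finset α) (ρ : α → α)
    (hρS : ∀ g ∈ S, ρ g ∈ S) (hρρ : ∀ g ∈ S, ρ (ρ g) = g)
    (hRS : R ⊆ S) (hR : ∀ g ∈ S, (ρ g ∈ R ↔ g ∉ R)) (g : α) (hg : g ∈ R) : ρ g ∉ R := by
  have hgS := hRS hg
  have h := hR (ρ g) (hρS g hgS)
  rw [hρρ g hgS] at h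
  exact h.1 hg

theorem card_reps {α : Type*} [DecidableEq α] (S R : Finset α) (ρ : α → α)
    (hρS : ∀ g ∈ S, ρ g ∈ S) (hρρ : ∀ g ∈ S, ρ (ρ g) = g)
    (hRS : R ⊆ S) (hR : ∀ g ∈ S, (ρ g ∈ R ↔ g ∉ R)) : S.card = 2 * R.card := by
  have h1 : R.card = (S \ R).card := by
    apply Finset.card_bij (fun g _ => ρ g)
    · intro g hg
      rw [Finset.mem_sdiff]
      exact ⟨hρS g (hRS hg), rho_not_mem S R ρ hρS hρρ hRS hR g hg⟩
    · intro a ha b hb hab
      have := congrArg ρ hab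
      rwa [hρρ a (hRS ha), hρρ b (hRS hb)] at this
    · intro h hh
      rw [Finset.mem_sdiff] at hh
      exact ⟨ρ h, (hR h hh.1).2 hh.2, hρρ h hh.1⟩
  have h2 := Finset.card_sdiff_add_card_eq_card hRS
  omega

/-- PIECE D2 -/
theorem pieceD2 {α : Type*} [DecidableEq α] (S : Finset α) (ρ : α → α)
    (hρS : ∀ g ∈ S, ρ g ∈ S) (hρρ : ∀ g ∈ S, ρ (ρ g) = g) (hfix : ∀ g ∈ S, ρ g ≠ g) (N : ℕ) :
    Nat.card {M : Multiset α // (∀ g ∈ M, g ∈ S) ∧ M.map ρ = M ∧ Multiset.card M ≤ N} =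
      Nat.choose (N / 2 + S.card / 2) (S.card / 2) := by
  classical
  obtain ⟨R, hRS, hR⟩ := exists_reps S ρ hρS hρρ hfix
  have hcard : S.card / 2 = R.card := by
    rw [card_reps S R ρ hρS hρρ hRS hR]; omega
  rw [hcard, ← pieceD1 R (N / 2)]
  symm
  -- (M'.map ρ).map ρ = M' for M' on R
  have hmm : ∀ M' : Multiset α, (∀ g ∈ M', g ∈ S) → (M'.map ρ).map ρ = M' := by
    intro M' hM'
    rw [Multiset.map_map]
    conv_rhs => rw [← Multiset.map_id' M']
    exact Multiset.map_congr rfl (fun g hg => hρρ g (hM' g hg))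
  let f : {M : Multiset α // (∀ g ∈ M, g ∈ R) ∧ Multiset.card M ≤ N / 2} →
      {M : Multiset α // (∀ g ∈ M, g ∈ S) ∧ M.map ρ = M ∧ Multiset.card M ≤ N} :=
    fun M => ⟨M.1 + M.1.map ρ, by
      intro g hg
      rcases Multiset.mem_add.1 hg with h | h
      · exact hRS (M.2.1 g h)
      · obtain ⟨x, hx, rfl⟩ := Multiset.mem_map.1 h
        exact hρS x (hRS (M.2.1 x hx)), by
      rw [Multiset.map_add, hmm M.1 (fun g hg => hRS (M.2.1 g hg)), add_comm], by
      rw [Multiset.card_add, Multiset.card_map]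
      have := M.2.2
      omega⟩
  have hfilter : ∀ M' : Multiset α, (∀ g ∈ M', g ∈ R) →
      Multiset.filter (· ∈ R) (M' + M'.map ρ) = M' := by
    intro M' hM'
    rw [Multiset.filter_add, Multiset.filter_eq_self.2 hM', Multiset.filter_eq_nil.2, add_zero]
    intro x hx
    obtain ⟨g, hg, rfl⟩ := Multiset.mem_map.1 hx
    exact rho_not_mem S R ρ hρS hρρ hRS hR g (hM' g hg)
  apply Nat.card_eq_of_bijective f
  constructor
  · intro M M' h
    apply Subtype.ext
    have h1 : M.1 + M.1.map ρ = M'.1 + M'.1.map ρ := congrArg Subtype.val h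
    rw [← hfilter M.1 M.2.1, ← hfilter M'.1 M'.2.1, h1]
  · rintro ⟨M, hMS, hMρ, hMN⟩
    have hsplit : M = Multiset.filter (· ∈ R) M + (Multiset.filter (· ∈ R) M).map ρ := by
      have h1 : Multiset.filter (fun g => ¬ g ∈ R) M = (Multiset.filter (· ∈ R) M).map ρ := by
        conv_lhs => rw [← hMρ]
        rw [Multiset.filter_map]
        congr 1
        apply Multiset.filter_congr
        intro g hg
        simp only [Function.comp_apply]
        rw [hR g (hMS g hg), not_not]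
      conv_lhs => rw [← Multiset.filter_add_not (· ∈ R) M]
      rw [h1]
    have hc : Multiset.card (Multiset.filter (· ∈ R) M) ≤ N / 2 := by
      have h2 := congrArg Multiset.card hsplit
      rw [Multiset.card_add, Multiset.card_map] at h2
      omega
    refine ⟨⟨Multiset.filter (· ∈ R) M, fun g hg => (Multiset.mem_filter.1 hg).2, hc⟩, ?_⟩
    apply Subtype.ext
    exact hsplit.symm

end Cfsg.Agent.helper26.S2645x
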