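import Mathlib
import Cfsg.Agent.Lib_helper3_S2670x
import Cfsg.Agent.Lib_helper9_S2670x

set_option autoImplicit false

open Polynomial

namespace Cfsg.Agent.helper26.S2670t

variable {F : Type*} [Field F]

/-- the scaling `f ↦ μ^n f(X/μ)` -/
noncomputable def sc (n : ℕ) (μ : F) (f : F[X]) : F[X] := C (μ ^ n) * f.comp (C μ⁻¹ * X)

theorem sc_sc_inv (n : ℕ) (μ : F) (hμ : μ ≠ 0) (f : F[X]) : sc n μ (sc n μ⁻¹ f) = f := by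
  have h := (Cfsg.Agent.helper9.S2670x.pieceS2b n f).2 μ μ⁻¹ hμ (inv_ne_zero hμ)
  rw [mul_inv_cancel₀ hμ, (Cfsg.Agent.helper9.S2670x.pieceS2b n f).1] at h
  exact h.symm

theorem sc_inv_sc (n : ℕ) (μ : F) (hμ : μ ≠ 0) (f : F[X]) : sc n μ⁻¹ (sc n μ f) = f := by
  have h := sc_sc_inv n μ⁻¹ (inv_ne_zero hμ) f
  rwa [inv_inv] at h

theorem sc_monic (n r : ℕ) (μ : F) (hμ : μ ≠ 0) (f : F[X]) (hf : f.Monic)
    (hd : f.natDegree = n) : (sc n μ f).Monic :=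
  (Cfsg.Agent.helper3.S2670x.pieceS2 n r μ hμ f hf hd).1

theorem sc_natDegree (n r : ℕ) (μ : F) (hμ : μ ≠ 0) (f : F[X]) (hf : f.Monic)
    (hd : f.natDegree = n) : (sc n μ f).natDegree = n :=
  (Cfsg.Agent.helper3.S2670x.pieceS2 n r μ hμ f hf hd).2.1

theorem sc_dvd (n r : ℕ) (μ : F) (hμ : μ ≠ 0) (f : F[X]) (hf : f.Monic)
    (hd : f.natDegree = n) (c : F) (h : f ∣ (X ^ r - C c) ^ n) :
    sc n μ f ∣ (X ^ r - C (μ ^ r * c)) ^ n :=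
  (Cfsg.Agent.helper3.S2670x.pieceS2 n r μ hμ f hf hd).2.2.1 c h

theorem sc_scalar (n r : ℕ) (μ : F) (hμ : μ ≠ 0) (a : F) :
    sc n μ ((X - C a) ^ n) = (X - C (μ * a)) ^ n := by
  have hm : ((X - C a : F[X]) ^ n).Monic := (monic_X_sub_C a).pow n
  have hdeg : ((X - C a : F[X]) ^ n).natDegree = n := by
    rw [natDegree_pow, natDegree_X_sub_C, mul_one]
  exact (Cfsg.Agent.helper3.S2670x.pieceS2 n r μ hμ _ hm hdeg).2.2.2.1 a rfl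

theorem sc_not_scalar (n r : ℕ) (μ : F) (hμ : μ ≠ 0) (f : F[X])
    (h : ¬ ∃ a : F, f = (X - C a) ^ n) : ¬ ∃ a : F, sc n μ f = (X - C a) ^ n := by
  rintro ⟨a, ha⟩
  apply h
  refine ⟨μ⁻¹ * a, ?_⟩
  rw [← sc_inv_sc n μ hμ f, ha]
  exact sc_scalar n r μ⁻¹ (inv_ne_zero hμ) a

/-- PIECE T2: scaling bijection between the fibre over `ν ^ r` and the fibre over `1` -/
theorem pieceT2 {F : Type*} [Field F] (n r : ℕ) (hn : 1 ≤ n) (hr : r.Prime) (ν : F) (hν : ν ≠ 0) :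
    Nat.card {f : F[X] // f.Monic ∧ f.natDegree = n ∧ f ∣ (X ^ r - C (ν ^ r)) ^ n ∧
        ¬ ∃ a : F, f = (X - C a) ^ n} =
    Nat.card {f : F[X] // f.Monic ∧ f.natDegree = n ∧ f ∣ (X ^ r - C 1) ^ n ∧
        ¬ ∃ a : F, f = (X - C a) ^ n} := by
  have hν' : ν⁻¹ ≠ 0 := inv_ne_zero hν
  apply Nat.card_congr
  refine ⟨fun f => ⟨sc n ν⁻¹ f.1, sc_monic n r ν⁻¹ hν' f.1 f.2.1 f.2.2.1,
      sc_natDegree n r ν⁻¹ hν' f.1 f.2.1 f.2.2.1, ?_, sc_not_scalar n r ν⁻¹ hν' f.1 f.2.2.2.2⟩,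
    fun g => ⟨sc n ν g.1, sc_monic n r ν hν g.1 g.2.1 g.2.2.1,
      sc_natDegree n r ν hν g.1 g.2.1 g.2.2.1, ?_, sc_not_scalar n r ν hν g.1 g.2.2.2.2⟩, ?_, ?_⟩
  · have h1 := sc_dvd n r ν⁻¹ hν' f.1 f.2.1 f.2.2.1 (ν ^ r) f.2.2.2.1
    rwa [inv_pow, inv_mul_cancel₀ (pow_ne_zero r hν)] at h1
  · have h1 := sc_dvd n r ν hν g.1 g.2.1 g.2.2.1 1 g.2.2.2.1
    rwa [mul_one] at h1
  · intro f
    apply Subtype.ext
    exact sc_sc_inv n ν hν f.1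
  · intro g
    apply Subtype.ext
    exact sc_inv_sc n ν hν g.1

end Cfsg.Agent.helper26.S2670t
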