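import Mathlib
import Cfsg.Agent.Lib_helper26_S2670t
import Cfsg.Agent.Lib_helper16_S2670t

set_option autoImplicit false

open Polynomial

namespace Cfsg.Agent.helper26.S2672p

/-- PIECE P4a1: the count for `c = b ^ r` an `r`-th power. -/
theorem pieceP4a1 {K : Type*} [Field K] [Fintype K] (n r : ℕ) (hn : 2 ≤ n) (hr : r.Prime)
    (hrq : r ∣ Fintype.card K - 1) (b : K) (hb : b ≠ 0) :
    Nat.card {f : K[X] // f.Monic ∧ f.natDegree = n ∧ f ∣ (X ^ r - C (b ^ r)) ^ n ∧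
      ¬ ∃ a : K, f = (X - C a) ^ n} = Nat.choose (n + r - 1) (r - 1) - r := by
  have hn1 : 1 ≤ n := by omega
  rw [Cfsg.Agent.helper26.S2670t.pieceT2 n r hn1 hr b hb]
  have h3 := Cfsg.Agent.helper16.S2670t.pieceT3 (F := K) n r hn1 hr hrq
  omega

end Cfsg.Agent.helper26.S2672p
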