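import Mathlib

set_option autoImplicit false

open Polynomial

namespace Cfsg.Agent.helper26.S2672x

variable {K : Type*} [Field K]

/-- reverse form of the unitary symmetry -/
def USymR (σ : K ≃+* K) (g : K[X]) : Prop :=
  g.reverse = C (g.coeff 0) * g.map (σ : K →+* K)

theorem rev_one : (1 : K[X]).reverse = 1 := by
  have h2 := reverse_C (1 : K)
  rwa [C_1] at h2

theorem usymR_one (σ : K ≃+* K) : USymR σ (1 : K[X]) := by
  unfold USymR
  rw [rev_one, Polynomial.map_one, coeff_one_zero, C_1, one_mul]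

theorem usymR_mul (σ : K ≃+* K) {g h : K[X]} (hg : USymR σ g) (hh : USymR σ h) :
    USymR σ (g * h) := by
  unfold USymR at *
  rw [reverse_mul_of_domain, hg, hh, mul_coeff_zero, Polynomial.map_mul, C_mul]
  ring

theorem usymR_pow (σ : K ≃+* K) {g : K[X]} (hg : USymR σ g) (k : ℕ) : USymR σ (g ^ k) := by
  induction k with
  | zero => rw [pow_zero]; exact usymR_one σ
  | succ k ih => rw [pow_succ]; exact usymR_mul σ ih hg

theorem usymR_X_pow_sub_C (σ : K ≃+* K) (r : ℕ) (hr : 0 < r) (c : K) (hc : c * σ c = 1) :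
    USymR σ (X ^ r - C c : K[X]) := by
  unfold USymR
  have hX : ((X : K[X]) ^ r).reverse = 1 := by
    have h3 := reverse_mul_X_pow (1 : K[X]) r
    rw [one_mul] at h3
    rw [h3]
    exact rev_one
  have h1 : (X ^ r - C c : K[X]) = X ^ r + C (-c) := by
    rw [C_neg, sub_eq_add_neg]
  have h0 : (X ^ r - C c : K[X]).coeff 0 = -c := by
    rw [coeff_sub, coeff_X_pow, coeff_C_zero, if_neg (Nat.ne_of_lt hr), zero_sub]
  rw [h0, h1, reverse_add_C, hX, natDegree_X_pow, Polynomial.map_add, Polynomial.map_pow,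
    Polynomial.map_X, Polynomial.map_C, C_neg,
    show ((σ : K →+* K) (-c)) = -(σ c) from map_neg _ _, C_neg]
  have h2 : C c * C (σ c) = (1 : K[X]) := by
    rw [← C_mul, hc, C_1]
  linear_combination (-1 : K[X]) * h2

theorem usymR_X_sub_C (σ : K ≃+* K) (a : K) (ha : a * σ a = 1) :
    USymR σ (X - C a : K[X]) := by
  have h := usymR_X_pow_sub_C σ 1 Nat.one_pos a ha
  rwa [pow_one] at h

theorem usymR_multiset_prod (σ : K ≃+* K) (M : Multiset K) (hM : ∀ a ∈ M, a * σ a = 1) :
    USymR σ (M.map (fun a => X - C a)).prod := by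
  induction M using Multiset.induction_on with
  | empty => rw [Multiset.map_zero, Multiset.prod_zero]; exact usymR_one σ
  | cons a s ih =>
    rw [Multiset.map_cons, Multiset.prod_cons]
    exact usymR_mul σ (usymR_X_sub_C σ a (hM a (Multiset.mem_cons_self a s)))
      (ih (fun b hb => hM b (Multiset.mem_cons_of_mem hb)))

/-- from the reverse form to the coefficient form -/
theorem coeff_of_usymR (σ : K ≃+* K) (n : ℕ) (f : K[X]) (hd : f.natDegree = n)
    (h : USymR σ f) : ∀ k, k ≤ n → f.coeff (n - k) = f.coeff 0 * σ (f.coeff k) := by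
  intro k hk
  have h5 : f.reverse.coeff k = f.coeff (n - k) := by
    rw [coeff_reverse, hd, revAt_le hk]
  rw [← h5, h, coeff_C_mul, coeff_map]
  rfl

/-- a split monic polynomial all of whose roots have norm one is unitary-symmetric -/
theorem usym_of_roots (σ : K ≃+* K) (n : ℕ) (f : K[X]) (hf : f.Monic) (hd : f.natDegree = n)
    (hcard : f.roots.card = f.natDegree) (hroots : ∀ a ∈ f.roots, a * σ a = 1) :
    ∀ k, k ≤ n → f.coeff (n - k) = f.coeff 0 * σ (f.coeff k) := by
  apply coeff_of_usymR σ n f hd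
  rw [← prod_multiset_X_sub_C_of_monic_of_roots_card_eq hf hcard]
  exact usymR_multiset_prod σ f.roots hroots

/-- powers of `X^r - c` with `c` of norm one are unitary-symmetric -/
theorem usym_pow (σ : K ≃+* K) (r k : ℕ) (hr : 0 < r) (c : K) (hc : c * σ c = 1) :
    ∀ j, j ≤ r * k → ((X ^ r - C c : K[X]) ^ k).coeff (r * k - j) =
      ((X ^ r - C c : K[X]) ^ k).coeff 0 * σ (((X ^ r - C c : K[X]) ^ k).coeff j) := by
  apply coeff_of_usymR σ (r * k) _ _ (usymR_pow σ (usymR_X_pow_sub_C σ r hr c hc) k)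
  rw [natDegree_pow, natDegree_X_pow_sub_C, mul_comm]

/-- divisors of `(X^r - a^r)^n`, `a` of norm one, `r ∣ q + 1`, are unitary-symmetric -/
theorem usym_of_dvd (σ : K ≃+* K) (q : ℕ) (hσq : ∀ x, σ x = x ^ q) (n r : ℕ) (hr : r.Prime)
    (hrq : r ∣ q + 1) (ω : K) (hω : ω ^ r = 1) (hω1 : ω ≠ 1) (a : K) (ha : a ^ (q + 1) = 1)
    (f : K[X]) (hf : f.Monic) (hd : f.natDegree = n) (h : f ∣ (X ^ r - C (a ^ r)) ^ n) :
    ∀ k, k ≤ n → f.coeff (n - k) = f.coeff 0 * σ (f.coeff k) := by
  classical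
  haveI : Fact r.Prime := ⟨hr⟩
  have hrpos : 0 < r := hr.pos
  have hord : orderOf ω = r := orderOf_eq_prime hω hω1
  have hprim : IsPrimitiveRoot ω r := hord ▸ IsPrimitiveRoot.orderOf ω
  have hf0 : f ≠ 0 := hf.ne_zero
  set g : K[X] := X ^ r - C (a ^ r) with hg
  have hgm : g.Monic := monic_X_pow_sub_C _ hr.ne_zero
  have hgd : g.natDegree = r := natDegree_X_pow_sub_C
  have hgroots : g.roots = nthRoots r (a ^ r) := rfl
  have hgcard : g.roots.card = r := by
    rw [hgroots, hprim.card_nthRoots, if_pos ⟨a, rfl⟩]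
  obtain ⟨s, hs⟩ := h
  have hs0 : f * s ≠ 0 := by rw [← hs]; exact pow_ne_zero _ hgm.ne_zero
  have hroots_sum : (g ^ n).roots = f.roots + s.roots := by rw [hs]; exact roots_mul hs0
  have hcard_gn : (g ^ n).roots.card = n * r := by
    rw [roots_pow, Multiset.card_nsmul, hgcard]
  have hdeg_sum : f.natDegree + s.natDegree = n * r := by
    have h1 := congrArg natDegree hs
    rw [natDegree_pow, hgd, natDegree_mul hf0 (right_ne_zero_of_mul hs0)] at h1
    omega
  have hfcard : f.roots.card = f.natDegree := by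
    have h1 := card_roots' f
    have h2 := card_roots' s
    have h3 : f.roots.card + s.roots.card = n * r := by
      rw [← Multiset.card_add, ← hroots_sum, hcard_gn]
    omega
  apply usym_of_roots σ n f hf hd hfcard
  intro x hx
  have hx1 : x ∈ (g ^ n).roots := by
    rw [hroots_sum]; exact Multiset.mem_add.2 (Or.inl hx)
  rw [roots_pow] at hx1
  have hx2 : x ∈ g.roots := (Multiset.mem_nsmul.1 hx1).2
  rw [hgroots, mem_nthRoots hrpos] at hx2
  obtain ⟨m, hm⟩ := hrq
  rw [hσq, ← pow_succ', hm, pow_mul, hx2, ← pow_mul, ← hm, ha]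

end Cfsg.Agent.helper26.S2672x
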