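import Mathlib
import Cfsg.Agent.Lib_helper26_S2672x
import Cfsg.Agent.Lib_helper6_S2670x

set_option autoImplicit false

open Polynomial

namespace Cfsg.Agent.helper26.S2672u

open Cfsg.Agent.helper26.S2672x

/-- a nontrivial `r`-th root of unity in a field with `q^2` elements, `r ∣ q + 1` -/
theorem exists_root_of_unity {K : Type*} [Field K] [Fintype K] {q : ℕ}
    (hK : Fintype.card K = q ^ 2) (r : ℕ) (hr : r.Prime) (hrq : r ∣ q + 1) :
    ∃ ω : K, ω ^ r = 1 ∧ ω ≠ 1 := by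
  classical
  haveI : Fact r.Prime := ⟨hr⟩
  have hcard : Fintype.card Kˣ = q ^ 2 - 1 := by rw [Fintype.card_units, hK]
  have hq : 1 ≤ q := by
    rcases Nat.eq_zero_or_pos q with h0 | h0
    · rw [h0] at hK
      have : 0 < Fintype.card K := Fintype.card_pos
      rw [hK] at this
      simp at this
    · exact h0
  have hdvd : r ∣ Fintype.card Kˣ := by
    rw [hcard]
    have h1 : q ^ 2 - 1 = (q + 1) * (q - 1) := by
      obtain ⟨k, rfl⟩ : ∃ k, q = k + 1 := ⟨q - 1, by omega⟩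
      simp only [Nat.add_sub_cancel]
      ring_nf
      omega
    rw [h1]
    exact Dvd.dvd.mul_right hrq _
  obtain ⟨u, hu⟩ := exists_prime_orderOf_dvd_card r hdvd
  refine ⟨(u : K), ?_, ?_⟩
  · have h1 : u ^ r = 1 := by rw [← hu]; exact pow_orderOf_eq_one u
    have h2 := congrArg Units.val h1
    simpa using h2
  · intro h1
    have h2 : u = 1 := Units.ext (by simpa using h1)
    rw [h2, orderOf_one] at hu
    exact hr.one_lt.ne hu

/-- PIECE U1: divisors of `(X^r - c)^n`, `c` of norm one, are "unitary-symmetric". -/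
theorem pieceU1 {K : Type*} [Field K] [Fintype K] {q : ℕ} (hK : Fintype.card K = q ^ 2)
    (σ : K ≃+* K) (hσq : ∀ a, σ a = a ^ q) (n r : ℕ) (hr : r.Prime) (hrq : r ∣ q + 1)
    (hU : ∀ c : K, c ^ (q + 1) = 1 → (∃ b : K, b ^ r = c) → ∃ b : K, b ^ (q + 1) = 1 ∧ b ^ r = c)
    (f : K[X]) (hf : f.Monic) (hd : f.natDegree = n) (c : K) (hc : c ^ (q + 1) = 1)
    (h : f ∣ (X ^ r - C c) ^ n) :
    ∀ i, i ≤ n → f.coeff (n - i) = f.coeff 0 * σ (f.coeff i) := by
  by_cases hex : ∃ b : K, b ^ r = c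
  · obtain ⟨b, hb1, hbr⟩ := hU c hc hex
    obtain ⟨ω, hω, hω1⟩ := exists_root_of_unity hK r hr hrq
    subst hbr
    exact usym_of_dvd σ q hσq n r hr hrq ω hω hω1 b hb1 f hf hd h
  · have hno : ∀ b : K, b ^ r ≠ c := fun b hb => hex ⟨b, hb⟩
    obtain ⟨hdiv, hfeq⟩ := Cfsg.Agent.helper6.S2670x.pieceS4 n r hr c hno f hf hd h
    have hcσ : c * σ c = 1 := by rw [hσq, ← pow_succ']; exact hc
    have hn : r * (n / r) = n := Nat.mul_div_cancel' hdiv
    intro i hi
    have h1 := usym_pow σ r (n / r) hr.pos c hcσ i (by rw [hn]; exact hi)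
    rw [hn, ← hfeq] at h1
    exact h1

end Cfsg.Agent.helper26.S2672u
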