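import Cfsg.Agent.Lib_helper22_FS
import Cfsg.Agent.Lib_helper24_CharCount

set_option autoImplicit false

namespace Cfsg.Agent.helper26.S4871d

open scoped ComplexConjugate
open Cfsg

universe u
variable {G : Type u} [Group G]

/-- number of square roots of `g` -/
noncomputable def rootCount (g : G) : ℂ := (Nat.card {h : G // h * h = g} : ℂ)

theorem rootCount_classFunction : IsClassFunction G (rootCount (G := G)) := by
  intro g x
  unfold rootCount
  congr 1
  apply Nat.card_congr
  refine ⟨fun h => ⟨x⁻¹ * h.1 * x, ?_⟩, fun h => ⟨x * h.1 * x⁻¹, ?_⟩, ?_, ?_⟩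
  · have := h.2
    calc x⁻¹ * h.1 * x * (x⁻¹ * h.1 * x) = x⁻¹ * (h.1 * h.1) * x := by group
      _ = x⁻¹ * (x * g * x⁻¹) * x := by rw [this]
      _ = g := by group
  · have := h.2
    calc x * h.1 * x⁻¹ * (x * h.1 * x⁻¹) = x * (h.1 * h.1) * x⁻¹ := by group
      _ = x * g * x⁻¹ := by rw [this]
  · intro h; apply Subtype.ext; simp only; group
  · intro h; apply Subtype.ext; simp only; group

variable [Fintype G]

theorem rootCount_eq_sum [DecidableEq G] (g : G) :
    rootCount g = ∑ h : G, if h * h = g then (1 : ℂ) else 0 := by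
  unfold rootCount
  rw [Nat.card_eq_fintype_card, Fintype.card_subtype, Finset.sum_boole]

theorem sum_rootCount_mul (φ : G → ℂ) :
    ∑ g : G, rootCount g * φ g = ∑ h : G, φ (h * h) := by
  classical
  simp only [rootCount_eq_sum, Finset.sum_mul]
  rw [Finset.sum_comm]
  refine Finset.sum_congr rfl (fun h _ => ?_)
  simp only [ite_mul, one_mul, zero_mul]
  rw [Finset.sum_ite_eq]
  simp

theorem fsInd_conj {χ : G → ℂ} (hχ : IsIrrCharacter G χ) :
    conj (helper22.fsInd χ) = helper22.fsInd χ := by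
  rcases helper22.fsInd_cases hχ with h | h | h <;> rw [h] <;> simp

theorem classInner_rootCount {χ : G → ℂ} (hχ : IsIrrCharacter G χ) :
    classInner (rootCount (G := G)) χ = helper22.fsInd χ := by
  unfold classInner
  rw [sum_rootCount_mul (fun g => conj (χ g))]
  rw [← fsInd_conj hχ]
  unfold helper22.fsInd
  rw [map_mul, map_inv₀, Complex.conj_natCast, map_sum]

theorem rootCount_expansion [Fintype (IrrCharacter G)] (g : G) :
    rootCount g = ∑ χ : IrrCharacter G, helper22.fsInd (χ : G → ℂ) * (χ : G → ℂ) g := by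
  have h := congrFun (helper24.classFunction_expansion (rootCount_classFunction (G := G))) g
  rw [Finset.sum_apply] at h
  rw [h]
  refine Finset.sum_congr rfl (fun χ _ => ?_)
  rw [Pi.smul_apply, smul_eq_mul, classInner_rootCount χ.2]

theorem card_sq_mem (F : Subgroup G) :
    (Nat.card {h : G // h * h ∈ F} : ℂ) = ∑ᶠ f : F, rootCount (f : G) := by
  classical
  have : Fintype F := Fintype.ofFinite F
  rw [finsum_eq_sum_of_fintype]
  unfold rootCount
  rw [← Nat.cast_sum]
  congr 1
  rw [← Nat.card_sigma]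
  apply Nat.card_congr
  refine ⟨fun h => ⟨⟨h.1 * h.1, h.2⟩, ⟨h.1, rfl⟩⟩, fun p => ⟨p.2.1, ?_⟩, ?_, ?_⟩
  · rw [p.2.2]; exact p.1.2
  · intro h; rfl
  · rintro ⟨⟨f, hf⟩, ⟨h, hh⟩⟩
    have hh' : h * h = f := hh
    subst hh'
    rfl

theorem pieceD [Fintype (Cfsg.IrrCharacter G)] (F : Subgroup G) :
    ∑ χ : Cfsg.IrrCharacter G, Cfsg.Agent.helper22.fsInd (χ : G → ℂ) * ∑ᶠ f : F, (χ : G → ℂ) f =
      (Nat.card {h : G // h * h ∈ F} : ℂ) := by
  classical
  have : Fintype F := Fintype.ofFinite F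
  rw [card_sq_mem]
  simp only [finsum_eq_sum_of_fintype, rootCount_expansion, Finset.mul_sum]
  rw [Finset.sum_comm]

end Cfsg.Agent.helper26.S4871d
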