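import Mathlib

set_option autoImplicit false

namespace Cfsg.Agent.helper26.Spread

/-- A subring of `End V` (V finite, nontrivial) all of whose nonzero members are injective is
commutative (finite domain => field). -/
theorem subring_comm {k V : Type*} [CommRing k] [AddCommGroup V] [Module k V] [Finite V]
    [Nontrivial V] (S : Subring (Module.End k V))
    (hinj : ∀ φ ∈ S, φ ≠ 0 → Function.Injective φ) :
    ∀ φ ∈ S, ∀ ψ ∈ S, φ * ψ = ψ * φ := by
  haveI : Finite (Module.End k V) :=
    Finite.of_injective (fun f : Module.End k V => (f : V → V)) DFunLike.coe_injective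
  haveI : Finite S := inferInstance
  haveI : Nontrivial S := by
    refine ⟨⟨0, 1, ?_⟩⟩
    intro h
    obtain ⟨v, hv⟩ := exists_ne (0 : V)
    apply hv
    have h2 : ((0 : S) : Module.End k V) v = ((1 : S) : Module.End k V) v := by rw [h]
    simpa using h2.symm
  haveI : NoZeroDivisors S := ⟨by
    intro a b hab
    by_contra h
    push Not at h
    obtain ⟨ha, hb⟩ := h
    have hbi : Function.Injective (b : Module.End k V) :=
      hinj b b.2 (by intro h0; exact hb (Subtype.ext h0))
    have hbs : Function.Surjective (b : Module.End k V) := Finite.surjective_of_injective hbi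
    apply ha
    apply Subtype.ext
    apply LinearMap.ext
    intro v
    obtain ⟨u, rfl⟩ := hbs v
    have h2 : ((a * b : S) : Module.End k V) u = ((0 : S) : Module.End k V) u := by rw [hab]
    simpa using h2⟩
  haveI : IsDomain S := NoZeroDivisors.to_isDomain S
  have hF := Finite.isDomain_to_isField S
  intro φ hφ ψ hψ
  have := hF.mul_comm ⟨φ, hφ⟩ ⟨ψ, hψ⟩
  exact congrArg Subtype.val this

variable {p : ℕ} [Fact p.Prime] {V : Type*} [AddCommGroup V] [Module (ZMod p) V]

/-- application of a member of `H` to a vector -/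
abbrev ap (H : Subgroup (V ≃ₗ[ZMod p] V)) (g : H) (v : V) : V := (g : V ≃ₗ[ZMod p] V) v

theorem ap_mul (H : Subgroup (V ≃ₗ[ZMod p] V)) (g h : H) (v : V) :
    ap H (g * h) v = ap H g (ap H h v) := rfl

theorem ap_one (H : Subgroup (V ≃ₗ[ZMod p] V)) (v : V) : ap H 1 v = v := rfl

theorem ap_inv_ap (H : Subgroup (V ≃ₗ[ZMod p] V)) (g : H) (v : V) :
    ap H g⁻¹ (ap H g v) = v := by
  rw [← ap_mul, inv_mul_cancel, ap_one]

theorem ap_ap_inv (H : Subgroup (V ≃ₗ[ZMod p] V)) (g : H) (v : V) :
    ap H g (ap H g⁻¹ v) = v := by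
  rw [← ap_mul, mul_inv_cancel, ap_one]

/-- The translate `h W` of a submodule. -/
def Cm (H : Subgroup (V ≃ₗ[ZMod p] V)) (W : Submodule (ZMod p) V) (h : H) :
    Submodule (ZMod p) V :=
  W.comap (((h⁻¹ : H) : V ≃ₗ[ZMod p] V) : V →ₗ[ZMod p] V)

theorem mem_Cm (H : Subgroup (V ≃ₗ[ZMod p] V)) (W : Submodule (ZMod p) V) (h : H) (x : V) :
    x ∈ Cm H W h ↔ ap H h⁻¹ x ∈ W := Iff.rfl

/-- invariance of a submodule under a subgroup `N` of `H` -/
def Inv (H : Subgroup (V ≃ₗ[ZMod p] V)) (N : Subgroup H) (U : Submodule (ZMod p) V) : Prop :=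
  ∀ n ∈ N, ∀ v ∈ U, ap H n v ∈ U

theorem Cm_inv (H : Subgroup (V ≃ₗ[ZMod p] V)) (N : Subgroup H) [hNn : N.Normal]
    (W : Submodule (ZMod p) V) (hW : Inv H N W) (h : H) : Inv H N (Cm H W h) := by
  intro n hn x hx
  rw [mem_Cm] at hx ⊢
  have h1 : ap H h⁻¹ (ap H n x) = ap H (h⁻¹ * n * h⁻¹⁻¹) (ap H h⁻¹ x) := by
    rw [← ap_mul, ← ap_mul]
    congr 1
    group
  rw [h1]
  exact hW _ (hNn.conj_mem n hn h⁻¹) _ hx

theorem Cm_le_of_meet (H : Subgroup (V ≃ₗ[ZMod p] V)) (N : Subgroup H) [hNn : N.Normal]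
    (W : Submodule (ZMod p) V) (hW : Inv H N W)
    (hmin : ∀ U : Submodule (ZMod p) V, U ≤ W → U ≠ ⊥ → Inv H N U → U = W)
    (h h' : H) (x : V) (hx0 : x ≠ 0) (hx : x ∈ Cm H W h) (hx' : x ∈ Cm H W h') :
    Cm H W h ≤ Cm H W h' := by
  set U : Submodule (ZMod p) V :=
    W ⊓ (Cm H W h').comap (((h : H) : V ≃ₗ[ZMod p] V) : V →ₗ[ZMod p] V) with hU
  have hUmem : ∀ w : V, w ∈ U ↔ w ∈ W ∧ ap H h w ∈ Cm H W h' := by
    intro w
    rw [hU, Submodule.mem_inf, Submodule.mem_comap]
    rfl
  have hUW : U = W := by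
    apply hmin U inf_le_left
    · intro hbot
      have hw : ap H h⁻¹ x ∈ U := by
        rw [hUmem]
        refine ⟨hx, ?_⟩
        rw [ap_ap_inv]
        exact hx'
      rw [hbot, Submodule.mem_bot] at hw
      apply hx0
      have := congrArg (ap H h) hw
      rw [ap_ap_inv] at this
      rw [this]
      exact map_zero _
    · intro n hn w hw
      rw [hUmem] at hw ⊢
      refine ⟨hW n hn w hw.1, ?_⟩
      have h1 : ap H h (ap H n w) = ap H (h * n * h⁻¹) (ap H h w) := by
        rw [← ap_mul, ← ap_mul]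
        congr 1
        group
      rw [h1]
      exact Cm_inv H N W hW h' _ (hNn.conj_mem n hn h) _ hw.2
  intro y hy
  have hy' : ap H h⁻¹ y ∈ U := by rw [hUW]; exact hy
  rw [hUmem] at hy'
  have := hy'.2
  rwa [ap_ap_inv] at this

/-- In a linear group transitive on nonzero vectors, a normal subgroup which leaves a proper
nonzero subspace invariant is commutative. -/
theorem normal_reducible_comm [Finite V] (H : Subgroup (V ≃ₗ[ZMod p] V))
    (htr : ∀ v w : V, v ≠ 0 → w ≠ 0 → ∃ h : H, ap H h v = w)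
    (N : Subgroup H) [hNn : N.Normal]
    (W : Submodule (ZMod p) V) (hW0 : W ≠ ⊥) (hW1 : W ≠ ⊤) (hW : Inv H N W)
    (hmin : ∀ U : Submodule (ZMod p) V, U ≤ W → U ≠ ⊥ → Inv H N U → U = W) :
    ∀ a ∈ N, ∀ b ∈ N, a * b = b * a := by
  obtain ⟨w0, hw0W, hw0⟩ := Submodule.exists_mem_ne_zero_of_ne_bot hW0
  haveI : Nontrivial V := ⟨⟨w0, 0, hw0⟩⟩
  -- covering
  have hcov : ∀ v : V, v ≠ 0 → ∃ h : H, v ∈ Cm H W h := by
    intro v hv
    obtain ⟨h, hh⟩ := htr w0 v hw0 hv
    refine ⟨h, ?_⟩
    rw [mem_Cm, ← hh, ap_inv_ap]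
    exact hw0W
  -- components are proper
  have hprop : ∀ h : H, ∃ u : V, u ∉ Cm H W h := by
    intro h
    by_contra hc
    push Not at hc
    apply hW1
    rw [eq_top_iff]
    intro y _
    have := hc (ap H h y)
    rwa [mem_Cm, ap_inv_ap] at this
  -- the kernel subring
  let K : Subring (Module.End (ZMod p) V) :=
    { carrier := {φ | ∀ h : H, ∀ x ∈ Cm H W h, φ x ∈ Cm H W h}
      mul_mem' := by
        intro a b ha hb h x hx
        exact ha h _ (hb h x hx)
      one_mem' := by
        intro h x hx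
        exact hx
      add_mem' := by
        intro a b ha hb h x hx
        exact (Cm H W h).add_mem (ha h x hx) (hb h x hx)
      zero_mem' := by
        intro h x _
        exact (Cm H W h).zero_mem
      neg_mem' := by
        intro a ha h x hx
        exact (Cm H W h).neg_mem (ha h x hx) }
  have hKmem : ∀ φ : Module.End (ZMod p) V, φ ∈ K ↔ ∀ h : H, ∀ x ∈ Cm H W h, φ x ∈ Cm H W h :=
    fun φ => Iff.rfl
  have hKinj : ∀ φ ∈ K, φ ≠ 0 → Function.Injective φ := by
    intro φ hφ hφ0
    rw [← LinearMap.ker_eq_bot, Submodule.eq_bot_iff]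
    intro v hv
    rw [LinearMap.mem_ker] at hv
    by_contra hv0
    apply hφ0
    obtain ⟨hv', hvC⟩ := hcov v hv0
    -- φ vanishes off the component of v
    have hoff : ∀ u : V, u ∉ Cm H W hv' → φ u = 0 := by
      intro u hu
      have hu0 : u ≠ 0 := by
        intro h0; apply hu; rw [h0]; exact (Cm H W hv').zero_mem
      obtain ⟨hu', huC⟩ := hcov u hu0
      have huv0 : u + v ≠ 0 := by
        intro h0
        apply hu
        have : u = -v := eq_neg_of_add_eq_zero_left h0
        rw [this]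
        exact (Cm H W hv').neg_mem hvC
      obtain ⟨hs, hsC⟩ := hcov (u + v) huv0
      have h1 : φ u ∈ Cm H W hu' := hφ hu' u huC
      have h2 : φ u ∈ Cm H W hs := by
        have := hφ hs (u + v) hsC
        rwa [map_add, hv, add_zero] at this
      by_contra hne
      -- then the components of u and u+v coincide
      have hle : Cm H W hu' ≤ Cm H W hs :=
        Cm_le_of_meet H N W hW hmin hu' hs (φ u) hne h1 h2
      have hvs : v ∈ Cm H W hs := by
        have : v = (u + v) - u := by abel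
        rw [this]
        exact (Cm H W hs).sub_mem hsC (hle huC)
      have hle2 : Cm H W hs ≤ Cm H W hv' :=
        Cm_le_of_meet H N W hW hmin hs hv' v hv0 hvs hvC
      exact hu (hle2 (hle huC))
    obtain ⟨u, hu⟩ := hprop hv'
    apply LinearMap.ext
    intro x
    by_cases hx : x ∈ Cm H W hv'
    · have hxu : x + u ∉ Cm H W hv' := by
        intro hc
        apply hu
        have : u = (x + u) - x := by abel
        rw [this]
        exact (Cm H W hv').sub_mem hc hx
      have h1 := hoff _ hxu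
      rw [map_add, hoff u hu, add_zero] at h1
      rw [h1]; rfl
    · rw [hoff x hx]; rfl
  have hcomm := subring_comm K hKinj
  -- members of N lie in K
  have hNK : ∀ n ∈ N, (((n : H) : V ≃ₗ[ZMod p] V) : Module.End (ZMod p) V) ∈ K := by
    intro n hn
    rw [hKmem]
    intro h x hx
    exact Cm_inv H N W hW h n hn x hx
  intro a ha b hb
  have h1 := hcomm _ (hNK a ha) _ (hNK b hb)
  apply Subtype.ext
  apply LinearEquiv.ext
  intro v
  have h2 := congrArg (fun f : Module.End (ZMod p) V => f v) h1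
  exact h2

end Cfsg.Agent.helper26.Spread
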