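import Cfsg.Agent.Lib_helper26_Transport
import Cfsg.Agent.Lib_helper26_NormSub

set_option autoImplicit false

namespace Cfsg.Agent.h26Tr

open Cfsg Cfsg.FusionSystem Cfsg.Agent.helper25 Cfsg.Agent.helper26.NS

/-- transport of constrainedness of group fusion systems along a group isomorphism. -/
theorem groupFS_constrained_of_equiv {G₁ G₂ : Type*} [Group G₁] [Group G₂] [Finite G₂] {p : ℕ}
    [Fact p.Prime] (S₁ : Subgroup G₁) (S₂ : Subgroup G₂) (e : G₁ ≃* G₂)
    (he : S₁.map e.toMonoidHom = S₂) (hs : ∃ R : Sylow p G₂, (R : Subgroup G₂) = S₂)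
    (h : (groupFusionSystem S₁).IsConstrained p) : (groupFusionSystem S₂).IsConstrained p := by
  refine ⟨?_, ?_⟩
  · obtain ⟨R, rfl⟩ := hs
    exact groupFS_isSaturated R
  · apply exists_centric_normal_of_same_range
      (realizedBy_comp_equiv (groupFS_isRealizedBy S₁) e) (groupFS_isRealizedBy S₂) ?_ h.2
    rw [MonoidHom.range_comp, Subgroup.range_subtype, Subgroup.range_subtype, he]

theorem sylow_subgroupOf_normal {G : Type*} [Group G] [Finite G] {p : ℕ} [Fact p.Prime]
    (S : Sylow p G) (N : Subgroup G) [hN : N.Normal] :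
    ∃ R : Sylow p N, (R : Subgroup N) = (S : Subgroup G).subgroupOf N := by
  have h := isSylowIn_inf_of_normal (le_top : (S : Subgroup G) ≤ ⊤) (isSylowIn_top S)
    (le_top : N ≤ ⊤) (by rw [Subgroup.normalizer_eq_top]; )
  obtain ⟨R, hR⟩ := h
  exact ⟨R, by rw [hR, Subgroup.inf_subgroupOf_right]⟩

/-- the system of a normal subgroup of a group with constrained system is constrained. -/
theorem constrained_normal {G : Type*} [Group G] [Finite G] {p : ℕ} [Fact p.Prime] (S : Sylow p G)
    (hF : (groupFusionSystem (S : Subgroup G)).IsConstrained p) (N : Subgroup G) [hN : N.Normal] :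
    (groupFusionSystem ((S : Subgroup G).subgroupOf N)).IsConstrained p := by
  have hR := groupFS_isRealizedBy (S : Subgroup G)
  have hsyl : ∃ R : Sylow p G, (R : Subgroup G) = (S : Subgroup G).subtype.range :=
    ⟨S, (Subgroup.range_subtype _).symm⟩
  have nd := nData_subSystem hR hsyl N
  have hEn := nd.isNormalIn
  have hEc := Cfsg.Agent.h26Constr.isConstrained_of_isNormalIn S.isPGroup' _ hF _ hEn
  have hmemN : ∀ x : ↥(pre (S : Subgroup G).subtype N), (x : G) ∈ N := by
    intro x
    obtain ⟨h, hN⟩ := (mem_pre_iff _ N _).mp x.2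
    exact hN
  have hmemS : ∀ x : ↥(pre (S : Subgroup G).subtype N), (x : G) ∈ (S : Subgroup G) := by
    intro x
    obtain ⟨h, hN⟩ := (mem_pre_iff _ N _).mp x.2
    exact h
  have hE : (subSystem hR N).IsRealizedBy
      ((Subgroup.subtype (pre (S : Subgroup G).subtype N)).codRestrict N hmemN) := by
    refine ⟨?_, ?_⟩
    · intro x y hxy
      have h1 : (((Subgroup.subtype (pre (S : Subgroup G).subtype N)).codRestrict N hmemN x : N) : G)
          = (((Subgroup.subtype (pre (S : Subgroup G).subtype N)).codRestrict N hmemN y : N) : G) :=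
        congrArg Subtype.val hxy
      exact Subtype.ext h1
    · intro P hP φ hφ
      constructor
      · rintro ⟨_, _, g, hgN, hx⟩
        exact ⟨⟨g, hgN⟩, fun x => Subtype.ext (hx x)⟩
      · rintro ⟨g, hg⟩
        exact ⟨hP, hφ, g.1, g.2, fun x => congrArg Subtype.val (hg x)⟩
  obtain ⟨SN, hSN⟩ := sylow_subgroupOf_normal S N
  refine ⟨hSN ▸ groupFS_isSaturated SN, ?_⟩
  apply exists_centric_normal_of_same_range hE (groupFS_isRealizedBy _) ?_ hEc.2
  rw [Subgroup.range_subtype]
  ext y
  constructor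
  · rintro ⟨x, rfl⟩
    exact Subgroup.mem_subgroupOf.mpr (hmemS x)
  · intro hy
    have hy' : (y : G) ∈ (S : Subgroup G) := Subgroup.mem_subgroupOf.mp hy
    refine ⟨⟨(y : G), (mem_pre_iff _ N _).mpr ⟨hy', y.2⟩⟩, ?_⟩
    exact Subtype.ext rfl

/-- subnormal subgroups. -/
theorem constrained_subnormal {G : Type*} [Group G] [Finite G] {p : ℕ} [Fact p.Prime]
    (S : Sylow p G) (hF : (groupFusionSystem (S : Subgroup G)).IsConstrained p) (H : Subgroup G)
    (hH : H.IsSubnormal) :
    IsSylowIn p (S : Subgroup G) H ∧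
      (groupFusionSystem ((S : Subgroup G).subgroupOf H)).IsConstrained p := by
  induction hH with
  | top =>
    refine ⟨isSylowIn_top S, ?_⟩
    apply groupFS_constrained_of_equiv (S : Subgroup G) _ Subgroup.topEquiv.symm ?_
      (isSylowIn_top S) hF
    ext x
    constructor
    · rintro ⟨y, hy, rfl⟩
      exact Subgroup.mem_subgroupOf.mpr hy
    · intro hx
      exact ⟨(x : G), Subgroup.mem_subgroupOf.mp hx, Subtype.ext rfl⟩
  | step H K hle hK hN ih =>
    obtain ⟨⟨R, hR⟩, hKc⟩ := ih
    have hn : K ≤ Subgroup.normalizer (H : Set G) :=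
      (Subgroup.normal_subgroupOf_iff_le_normalizer hle).mp hN
    have hsK : IsSylowIn p ((S : Subgroup G) ⊓ K) K :=
      ⟨R, by rw [hR, Subgroup.inf_subgroupOf_right]⟩
    have hsH' := isSylowIn_inf_of_normal inf_le_right hsK hle hn
    have hsH : IsSylowIn p (S : Subgroup G) H := by
      obtain ⟨R', hR'⟩ := hsH'
      refine ⟨R', ?_⟩
      rw [hR']
      ext x
      simp only [Subgroup.mem_subgroupOf, Subgroup.mem_inf]
      constructor
      · rintro ⟨⟨h, -⟩, -⟩; exact h
      · intro h; exact ⟨⟨h, hle x.2⟩, x.2⟩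
    refine ⟨hsH, ?_⟩
    rw [← hR] at hKc
    have hc := constrained_normal R hKc (H.subgroupOf K)
    apply groupFS_constrained_of_equiv _ _ (Subgroup.subgroupOfEquivOfLe hle) ?_ hsH hc
    ext y
    constructor
    · rintro ⟨x, hx, rfl⟩
      have hx' : (x : K) ∈ (R : Subgroup K) := Subgroup.mem_subgroupOf.mp hx
      rw [hR] at hx'
      exact Subgroup.mem_subgroupOf.mpr (Subgroup.mem_subgroupOf.mp hx')
    · intro hy
      have hy' : (y : G) ∈ (S : Subgroup G) := Subgroup.mem_subgroupOf.mp hy
      refine ⟨(Subgroup.subgroupOfEquivOfLe hle).symm y, ?_, ?_⟩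
      · apply Subgroup.mem_subgroupOf.mpr
        rw [hR]
        exact Subgroup.mem_subgroupOf.mpr hy'
      · exact (Subgroup.subgroupOfEquivOfLe hle).apply_symm_apply y

end Cfsg.Agent.h26Tr
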