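import Mathlib

set_option autoImplicit false
set_option linter.style.haveILetI false
set_option linter.unusedVariables false

namespace Cfsg.Agent.helper26.Trace

variable {G V : Type*} [Group G] [CommGroup V]

/-- fixed points of a subgroup `P` of `G` acting on `V` through `ρ`. -/
def fixSub (ρ : G →* MulAut V) (P : Subgroup G) : Subgroup V where
  carrier := {v | ∀ g ∈ P, ρ g v = v}
  one_mem' := fun g _ => map_one _
  mul_mem' := fun {a b} ha hb g hg => by rw [map_mul, ha g hg, hb g hg]
  inv_mem' := fun {a} ha g hg => by rw [map_inv, ha g hg]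

theorem mem_fixSub (ρ : G →* MulAut V) (P : Subgroup G) (v : V) :
    v ∈ fixSub ρ P ↔ ∀ g ∈ P, ρ g v = v := Iff.rfl

theorem fixSub_anti (ρ : G →* MulAut V) {P P' : Subgroup G} (h : P ≤ P') :
    fixSub ρ P' ≤ fixSub ρ P := fun v hv g hg => hv g (h hg)

/-- the trace (norm) map relative to `P`. -/
noncomputable def tr [Finite G] (ρ : G →* MulAut V) (P : Subgroup G) : V →* V :=
  letI := Fintype.ofFinite (G ⧸ P)
  ∏ q : G ⧸ P, (ρ (Quotient.out q)).toMonoidHom

theorem tr_apply [Finite G] (ρ : G →* MulAut V) (P : Subgroup G) (v : V) :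
    tr ρ P v = (letI := Fintype.ofFinite (G ⧸ P); ∏ q : G ⧸ P, ρ (Quotient.out q) v) := by
  unfold tr
  rw [MonoidHom.finset_prod_apply]
  rfl

theorem out_smul_mem [Finite G] (P : Subgroup G) (g : G) (q : G ⧸ P) :
    (Quotient.out (g • q))⁻¹ * (g * Quotient.out q) ∈ P := by
  rw [← QuotientGroup.eq]
  rw [QuotientGroup.out_eq']
  have : ((g * Quotient.out q : G) : G ⧸ P) = g • ((Quotient.out q : G) : G ⧸ P) := rfl
  rw [this, QuotientGroup.out_eq']

theorem tr_fixed [Finite G] (ρ : G →* MulAut V) (P : Subgroup G) {v : V} (hv : v ∈ fixSub ρ P)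
    (g : G) : ρ g (tr ρ P v) = tr ρ P v := by
  letI := Fintype.ofFinite (G ⧸ P)
  rw [tr_apply, map_prod]
  have key : ∀ q : G ⧸ P, ρ g (ρ (Quotient.out q) v) = ρ (Quotient.out (g • q)) v := by
    intro q
    have h1 : ρ g (ρ (Quotient.out q) v) = ρ (g * Quotient.out q) v := by
      rw [map_mul]; rfl
    rw [h1]
    have h2 : g * Quotient.out q =
        Quotient.out (g • q) * ((Quotient.out (g • q))⁻¹ * (g * Quotient.out q)) := by group
    rw [h2, map_mul]
    show ρ (Quotient.out (g • q)) (ρ _ v) = _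
    rw [hv _ (out_smul_mem P g q)]
  calc ∏ q : G ⧸ P, ρ g (ρ (Quotient.out q) v)
      = ∏ q : G ⧸ P, ρ (Quotient.out (g • q)) v := Finset.prod_congr rfl (fun q _ => key q)
    _ = ∏ q : G ⧸ P, ρ (Quotient.out q) v :=
        Equiv.prod_comp (MulAction.toPerm g) (fun q : G ⧸ P => ρ (Quotient.out q) v)

theorem tr_of_fixed [Finite G] (ρ : G →* MulAut V) (P : Subgroup G) {v : V}
    (hv : v ∈ fixSub ρ ⊤) : tr ρ P v = v ^ P.index := by
  letI := Fintype.ofFinite (G ⧸ P)
  rw [tr_apply]
  have : ∀ q : G ⧸ P, ρ (Quotient.out q) v = v := fun q => hv _ (Subgroup.mem_top _)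
  rw [Finset.prod_congr rfl (fun q _ => this q), Finset.prod_const, Finset.card_univ,
    Subgroup.index_eq_card, Nat.card_eq_fintype_card]

/-- the fixed points of `G` are a direct factor of the fixed points of a subgroup whose index is
prime to the order of `V`. -/
theorem exists_complement [Finite G] [Finite V] (ρ : G →* MulAut V) (P : Subgroup G)
    (hcop : Nat.Coprime P.index (Nat.card V)) :
    ∃ K : Subgroup V, K ≤ fixSub ρ P ∧ fixSub ρ ⊤ ⊓ K = ⊥ ∧ fixSub ρ ⊤ ⊔ K = fixSub ρ P := by
  refine ⟨fixSub ρ P ⊓ (tr ρ P).ker, inf_le_left, ?_, ?_⟩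
  · rw [eq_bot_iff]
    rintro v ⟨hvG, -, hvK⟩
    rw [Subgroup.mem_bot]
    have h1 : v ^ P.index = 1 := by
      rw [← tr_of_fixed ρ P hvG]; exact hvK
    have h2 : v ^ Nat.card V = 1 := pow_card_eq_one'
    have h3 : orderOf v ∣ Nat.gcd P.index (Nat.card V) :=
      Nat.dvd_gcd (orderOf_dvd_of_pow_eq_one h1) (orderOf_dvd_of_pow_eq_one h2)
    rw [hcop, Nat.dvd_one, orderOf_eq_one_iff] at h3
    exact h3
  · apply le_antisymm (sup_le (fixSub_anti ρ le_top) inf_le_left)
    intro v hv
    have htG : tr ρ P v ∈ fixSub ρ ⊤ := fun g _ => tr_fixed ρ P hv g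
    obtain ⟨w, hw⟩ := (powCoprime hcop.symm).surjective (tr ρ P v)
    have hw' : w ^ P.index = tr ρ P v := hw
    have hwG : w ∈ fixSub ρ ⊤ := by
      intro g _
      apply (powCoprime hcop.symm).injective
      show (ρ g w) ^ P.index = w ^ P.index
      rw [← map_pow, hw', htG g (Subgroup.mem_top _)]
    have htr : tr ρ P (w⁻¹ * v) = 1 := by
      rw [map_mul, map_inv, tr_of_fixed ρ P hwG, hw', inv_mul_cancel]
    have hwP : w ∈ fixSub ρ P := fixSub_anti ρ le_top hwG
    have e : v = w * (w⁻¹ * v) := (mul_inv_cancel_left w v).symm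
    rw [e]
    exact Subgroup.mul_mem_sup hwG ⟨(fixSub ρ P).mul_mem ((fixSub ρ P).inv_mem hwP) hv, htr⟩

/-- restriction of automorphisms to the centre. -/
def centerAut (Q : Type*) [Group Q] : MulAut Q →* MulAut (Subgroup.center Q) where
  toFun g :=
    { toFun := fun v => ⟨g v, by
        rw [Subgroup.mem_center_iff]
        intro x
        have h := (Subgroup.mem_center_iff.mp v.2) (g⁻¹ x)
        have h2 := congrArg g h
        rw [map_mul, map_mul, MulAut.apply_inv_self] at h2
        exact h2⟩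
      invFun := fun v => ⟨g⁻¹ v, by
        rw [Subgroup.mem_center_iff]
        intro x
        have h := (Subgroup.mem_center_iff.mp v.2) (g x)
        have h2 := congrArg (⇑(g⁻¹ : MulAut Q)) h
        rw [map_mul, map_mul, MulAut.inv_apply_self] at h2
        exact h2⟩
      left_inv := fun v => Subtype.ext (MulAut.inv_apply_self _ g v)
      right_inv := fun v => Subtype.ext (MulAut.apply_inv_self _ g v)
      map_mul' := fun a b => Subtype.ext (map_mul g (a : Q) (b : Q)) }
  map_one' := by ext; rfl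
  map_mul' := by intros; ext; rfl

theorem centerAut_coe (Q : Type*) [Group Q] (g : MulAut Q) (v : Subgroup.center Q) :
    ((centerAut Q g v : Subgroup.center Q) : Q) = g v := rfl

end Cfsg.Agent.helper26.Trace
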