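import Cfsg.Agent.Lib_helper25_Model
import Cfsg.Agent.Lib_helper26_Realize
import Cfsg.Agent.Lib_helper26_Constr

set_option autoImplicit false

namespace Cfsg.Agent.h26Tr

open Cfsg Cfsg.FusionSystem Cfsg.Agent.helper25

variable {Ω : Type*} [Group Ω] {S : Subgroup Ω} {G : Type*} [Group G]

/-- group-level normality of `N` relative to `R`. -/
def GNormal (R N : Subgroup G) : Prop :=
  N ≤ R ∧ ∀ (A : Subgroup G) (g : G), A ≤ R → cj g A ≤ R →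
    ∃ g' : G, (∀ a ∈ A, g' * a * g'⁻¹ = g * a * g⁻¹) ∧ cj g' (A ⊔ N) ≤ R ∧ cj g' N = N

/-- group-level centricity of `N` relative to `R`. -/
def GCentric (R N : Subgroup G) : Prop :=
  N ≤ R ∧ ∀ g : G, cj g N ≤ R → R ⊓ Subgroup.centralizer ((cj g N : Subgroup G) : Set G) ≤ cj g N

theorem im_sup (ι : S →* G) {P Q : Subgroup Ω} (hP : P ≤ S) (hQ : Q ≤ S) :
    im ι (P ⊔ Q) = im ι P ⊔ im ι Q := by
  unfold im
  rw [Subgroup.subgroupOf_sup hP hQ, Subgroup.map_sup]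

theorem gNormal_of_isNormal {F : FusionSystem S} {ι : S →* G} (hF : F.IsRealizedBy ι)
    {Q : Subgroup Ω} (hQ : F.IsNormal Q) : GNormal ι.range (im ι Q) := by
  refine ⟨im_le_range ι Q, ?_⟩
  intro A g hA hgA
  have hPS : pre ι A ≤ S := pre_le ι A
  have himP : im ι (pre ι A) = A := im_pre ι hA
  obtain ⟨φ, hφS, hφ, hφι⟩ := exists_hom_of_cj_le hF hPS (g := g) (by rw [himP]; exact hgA)
  obtain ⟨ψ, hψ, hψ1, hψ2⟩ := hQ.2 _ φ hφ
  obtain ⟨hPQ, hψS, g', hg'⟩ := exists_of_mem_hom hF hψ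
  refine ⟨g', ?_, ?_, ?_⟩
  · intro a ha
    rw [← himP] at ha
    obtain ⟨s, hs, rfl⟩ := (mem_im_iff ι _ a).mp ha
    have h1 := hg' (Subgroup.inclusion le_sup_left ⟨(s : Ω), hs⟩)
    have h2 := hφι ⟨(s : Ω), hs⟩
    have h3 : ι ⟨ψ (Subgroup.inclusion le_sup_left ⟨(s : Ω), hs⟩), hψS _⟩ =
        ι ⟨φ ⟨(s : Ω), hs⟩, hφS _⟩ := Cfsg.Agent.helper26.NS.iota_congr ι _ _ (hψ1 _)
    rw [h1, h2] at h3
    exact h3
  · have hle : A ⊔ im ι Q ≤ im ι (pre ι A ⊔ Q) := by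
      rw [im_sup ι hPS hQ.1, himP]
    rintro _ ⟨y, hy, rfl⟩
    obtain ⟨s, hs, rfl⟩ := (mem_im_iff ι _ y).mp (hle hy)
    show g' * ι s * g'⁻¹ ∈ ι.range
    have h1 := hg' ⟨(s : Ω), hs⟩
    exact ⟨_, h1⟩
  · apply le_antisymm
    · rintro _ ⟨y, hy, rfl⟩
      obtain ⟨s, hs, rfl⟩ := (mem_im_iff ι _ y).mp hy
      show g' * ι s * g'⁻¹ ∈ im ι Q
      have hsPQ : (s : Ω) ∈ pre ι A ⊔ Q := (le_sup_right : Q ≤ _) hs
      have h1 := hg' ⟨(s : Ω), hsPQ⟩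
      have h2 : ψ ⟨(s : Ω), hsPQ⟩ ∈ Q :=
        hψ2.le ⟨_, Subgroup.mem_subgroupOf.mpr hs, rfl⟩
      have h3 : g' * ι s * g'⁻¹ = ι ⟨ψ ⟨(s : Ω), hsPQ⟩, hψS _⟩ := h1.symm
      rw [h3]
      exact mem_im ι h2 _
    · intro y hy
      obtain ⟨s, hs, rfl⟩ := (mem_im_iff ι _ y).mp hy
      obtain ⟨z, hz, hzs⟩ := hψ2.ge hs
      have hz' : (z : Ω) ∈ Q := Subgroup.mem_subgroupOf.mp hz
      have h1 := hg' z
      have h2 : ι ⟨ψ z, hψS z⟩ = ι s := Cfsg.Agent.helper26.NS.iota_congr ι _ _ hzs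
      rw [h1] at h2
      rw [← h2]
      exact conj_mem_cj g' _ (mem_im ι hz' _)

theorem isNormal_of_gNormal {F : FusionSystem S} {ι : S →* G} (hF : F.IsRealizedBy ι)
    {N : Subgroup G} (hN : GNormal ι.range N) : F.IsNormal (pre ι N) := by
  refine ⟨pre_le ι N, ?_⟩
  intro P φ hφ
  obtain ⟨hP, hφS, g, hg⟩ := exists_of_mem_hom hF hφ
  have hA : im ι P ≤ ι.range := im_le_range ι P
  have hgA : cj g (im ι P) ≤ ι.range := by
    rintro _ ⟨y, hy, rfl⟩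
    obtain ⟨s, hs, rfl⟩ := (mem_im_iff ι _ y).mp hy
    exact ⟨_, hg ⟨(s : Ω), hs⟩⟩
  obtain ⟨g', hg'1, hg'2, hg'3⟩ := hN.2 (im ι P) g hA hgA
  have hPQ : P ⊔ pre ι N ≤ S := sup_le hP (pre_le ι N)
  have hle : cj g' (im ι (P ⊔ pre ι N)) ≤ ι.range := by
    rw [im_sup ι hP (pre_le ι N), im_pre ι hN.1]
    exact hg'2
  obtain ⟨ψ, hψS, hψ, hψι⟩ := exists_hom_of_cj_le hF hPQ hle
  refine ⟨ψ, hψ, ?_, ?_⟩
  · intro x
    have h1 := hψι (Subgroup.inclusion le_sup_left x)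
    have h2 := hg x
    have h3 : ι ⟨ψ (Subgroup.inclusion le_sup_left x), hψS _⟩ = ι ⟨φ x, hφS x⟩ := by
      rw [h1, h2]
      exact hg'1 _ (mem_im ι x.2 (hP x.2))
    exact congrArg Subtype.val (hF.1 h3)
  · apply le_antisymm
    · rintro _ ⟨y, hy, rfl⟩
      have hy' : (y : Ω) ∈ pre ι N := Subgroup.mem_subgroupOf.mp hy
      obtain ⟨hyS, hyN⟩ := (mem_pre_iff ι N _).mp hy'
      refine (mem_pre_iff ι N _).mpr ⟨hψS y, ?_⟩
      rw [hψι y]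
      have h5 := conj_mem_cj g' N hyN
      rw [hg'3] at h5
      exact h5
    · intro r hr
      obtain ⟨hrS, hrN⟩ := (mem_pre_iff ι N r).mp hr
      have h1 : g'⁻¹ * ι ⟨r, hrS⟩ * g' ∈ N := by
        rw [← hg'3] at hrN
        exact (mem_cj_iff g' N _).mp hrN
      obtain ⟨s, hs⟩ := hN.1 h1
      have hsN : (s : Ω) ∈ pre ι N := (mem_pre_iff ι N _).mpr ⟨s.2, by rw [hs]; exact h1⟩
      have hsPQ : (s : Ω) ∈ P ⊔ pre ι N := (le_sup_right : pre ι N ≤ P ⊔ pre ι N) hsN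
      refine ⟨⟨s, hsPQ⟩, Subgroup.mem_subgroupOf.mpr hsN, ?_⟩
      have h2 := hψι ⟨s, hsPQ⟩
      have h3 : ι ⟨ψ ⟨s, hsPQ⟩, hψS _⟩ = ι ⟨r, hrS⟩ := by
        rw [h2]
        have : ι ⟨(s : Ω), hPQ hsPQ⟩ = g'⁻¹ * ι ⟨r, hrS⟩ * g' := hs
        rw [this]; group
      exact congrArg Subtype.val (hF.1 h3)

theorem gCentric_of_isCentric {F : FusionSystem S} {ι : S →* G} (hF : F.IsRealizedBy ι)
    {Q : Subgroup Ω} (hQ : F.IsCentric Q) : GCentric ι.range (im ι Q) := by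
  refine ⟨im_le_range ι Q, ?_⟩
  intro g hg
  obtain ⟨φ, hφS, hφ, hφι⟩ := exists_hom_of_cj_le hF hQ.1 hg
  have him : im ι φ.range = cj g (im ι Q) := im_range hQ.1 hφS hφι
  have hc := hQ.2 φ.range ⟨φ, hφ, rfl⟩
  rintro y ⟨⟨s, rfl⟩, hyC⟩
  rw [← him] at hyC ⊢
  have hs : (s : Ω) ∈ centralizerIn S φ.range := by
    refine ⟨s.2, Subgroup.mem_centralizer_iff.mpr ?_⟩
    rintro _ ⟨x, rfl⟩
    have h1 : ι ⟨φ x, hφS x⟩ ∈ im ι φ.range := mem_im ι (show φ x ∈ φ.range from ⟨x, rfl⟩) _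
    have h2 := Subgroup.mem_centralizer_iff.mp hyC _ h1
    rw [← map_mul, ← map_mul] at h2
    exact congrArg Subtype.val (hF.1 h2)
  exact mem_im ι (hc hs) s.2

theorem isCentric_of_gCentric {F : FusionSystem S} {ι : S →* G} (hF : F.IsRealizedBy ι)
    {N : Subgroup G} (hN : GCentric ι.range N) : F.IsCentric (pre ι N) := by
  refine ⟨pre_le ι N, ?_⟩
  rintro Q' ⟨φ, hφ, rfl⟩
  obtain ⟨hP, hφS, g, hg⟩ := exists_of_mem_hom hF hφ
  have him : im ι φ.range = cj g N := by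
    rw [im_range hP hφS hg, im_pre ι hN.1]
  have hle : cj g N ≤ ι.range := by
    rw [← him]; exact im_le_range ι _
  have hc := hN.2 g hle
  rintro x ⟨hxS, hxC⟩
  have h1 : ι ⟨x, hxS⟩ ∈ cj g N := by
    apply hc
    refine ⟨⟨_, rfl⟩, Subgroup.mem_centralizer_iff.mpr ?_⟩
    intro y hy
    rw [← him] at hy
    obtain ⟨s, hs, rfl⟩ := (mem_im_iff ι _ y).mp hy
    have h3 : (s : Ω) * x = x * s := Subgroup.mem_centralizer_iff.mp hxC _ hs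
    rw [← map_mul, ← map_mul]
    congr 1
    exact Subtype.ext h3
  rw [← him] at h1
  exact mem_of_mem_im hF.1 h1

/-- two systems realized in the same group with the same image: a centric normal subgroup
transports. -/
theorem exists_centric_normal_of_same_range {Ω₁ Ω₂ : Type*} [Group Ω₁] [Group Ω₂]
    {S₁ : Subgroup Ω₁} {S₂ : Subgroup Ω₂} {F₁ : FusionSystem S₁} {F₂ : FusionSystem S₂}
    {ι₁ : S₁ →* G} {ι₂ : S₂ →* G} (h₁ : F₁.IsRealizedBy ι₁) (h₂ : F₂.IsRealizedBy ι₂)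
    (hR : ι₁.range = ι₂.range) (h : ∃ Q, F₁.IsNormal Q ∧ F₁.IsCentric Q) :
    ∃ Q, F₂.IsNormal Q ∧ F₂.IsCentric Q := by
  obtain ⟨Q, hQn, hQc⟩ := h
  have hn := gNormal_of_isNormal h₁ hQn
  have hc := gCentric_of_isCentric h₁ hQc
  rw [hR] at hn hc
  exact ⟨pre ι₂ (im ι₁ Q), isNormal_of_gNormal h₂ hn, isCentric_of_gCentric h₂ hc⟩

theorem realizedBy_comp_equiv {G' : Type*} [Group G'] {F : FusionSystem S} {ι : S →* G}
    (hF : F.IsRealizedBy ι) (e : G ≃* G') : F.IsRealizedBy (e.toMonoidHom.comp ι) := by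
  refine ⟨e.injective.comp hF.1, ?_⟩
  intro P hP φ hφ
  rw [hF.2 P hP φ hφ]
  constructor
  · rintro ⟨g, hg⟩
    refine ⟨e g, fun x => ?_⟩
    show e (ι ⟨φ x, hφ x⟩) = e g * e (ι ⟨x, hP x.2⟩) * (e g)⁻¹
    rw [hg x, map_mul, map_mul, map_inv]
  · rintro ⟨g, hg⟩
    refine ⟨e.symm g, fun x => ?_⟩
    have h1 : e (ι ⟨φ x, hφ x⟩) = g * e (ι ⟨x, hP x.2⟩) * g⁻¹ := hg x
    apply e.injective
    rw [h1, map_mul, map_mul, map_inv, e.apply_symm_apply]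

end Cfsg.Agent.h26Tr
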