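import Mathlib

set_option autoImplicit false

namespace Cfsg.Agent.helper26.Tv

variable {Γ V : Type*} [Group Γ] [AddCommGroup V] [DistribMulAction Γ V]

/-- `a` is an involutory transvection-like element with centre `c`. -/
def IsTv (a : Γ) (c : V) : Prop :=
  a * a = 1 ∧ (∀ v : V, a • v = v ∨ a • v = v + c) ∧ a • c = c

theorem IsTv.conj {a : Γ} {c : V} (h : IsTv a c) (g : Γ) : IsTv (g * a * g⁻¹) (g • c) := by
  refine ⟨?_, ?_, ?_⟩
  · have e : g * a * g⁻¹ * (g * a * g⁻¹) = g * (a * a) * g⁻¹ := by group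
    rw [e, h.1, mul_one, mul_inv_cancel]
  · intro v
    rw [mul_smul, mul_smul]
    rcases h.2.1 (g⁻¹ • v) with h1 | h1
    · left; rw [h1, smul_inv_smul]
    · right; rw [h1, smul_add, smul_inv_smul]
  · rw [mul_smul, mul_smul, inv_smul_smul, h.2.2]

theorem tv_commute (hf : ∀ g h : Γ, (∀ v : V, g • v = h • v) → g = h)
    {b b' : Γ} {c : V} (hb : IsTv b c) (hb' : IsTv b' c) : b * b' = b' * b := by
  apply hf
  intro v
  rw [mul_smul, mul_smul]
  rcases hb.2.1 v with h1 | h1 <;> rcases hb'.2.1 v with h3 | h3 <;>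
    simp only [smul_add, h1, h3, hb.2.2, hb'.2.2]

/-- Main abstract lemma: a transvection `t` acting nontrivially on a normal subgroup `R` without
involutions has no square root normalizing... (any `P` with `P * P = t`). -/
theorem no_sqrt_transvection
    (hf : ∀ g h : Γ, (∀ v : V, g • v = h • v) → g = h) (h2 : ∀ v : V, v + v = 0)
    (R : Subgroup Γ) [hRn : R.Normal] (hR : ∀ g ∈ R, g * g = 1 → g = 1)
    (t P : Γ) (hP : P * P = t) (c₀ : V) (ht : IsTv t c₀)
    (x : Γ) (hx : x ∈ R) (hxt : x * t ≠ t * x) : False := by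
  have hti : t⁻¹ = t := inv_eq_of_mul_eq_one_right ht.1
  -- the class D
  let InD : Γ → Prop := fun a => ∃ g ∈ R, a = g * t * g⁻¹
  have hsq : ∀ a, InD a → a * a = 1 := by
    rintro a ⟨g, -, rfl⟩
    exact (ht.conj g).1
  have hinv : ∀ a, InD a → a⁻¹ = a := fun a ha => inv_eq_of_mul_eq_one_right (hsq a ha)
  -- G1
  have G1 : ∀ a b, InD a → InD b → a * b = b * a → a = b := by
    intro a b ha hb hab
    have hm : a * b ∈ R := by
      obtain ⟨g, hg, rfl⟩ := ha
      obtain ⟨h, hh, rfl⟩ := hb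
      have e : g * t * g⁻¹ * (h * t * h⁻¹) = g * (t * (g⁻¹ * h) * t⁻¹) * h⁻¹ := by
        rw [hti]; group
      rw [e]
      exact R.mul_mem (R.mul_mem hg (hRn.conj_mem _ (R.mul_mem (R.inv_mem hg) hh) t))
        (R.inv_mem hh)
    have hmm : a * b * (a * b) = 1 := by
      calc a * b * (a * b) = a * (b * a) * b := by group
        _ = a * (a * b) * b := by rw [hab]
        _ = (a * a) * (b * b) := by group
        _ = 1 := by rw [hsq a ha, hsq b hb, mul_one]
    have h1 : a * b = 1 := hR _ hm hmm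
    have h3 : a = b⁻¹ := eq_inv_of_mul_eq_one_left h1
    rw [h3, hinv b hb]
  -- D closed under conjugation by D
  have Dconj : ∀ a b, InD a → InD b → InD (a * b * a⁻¹) := by
    rintro a b ⟨g, hg, rfl⟩ ⟨h, hh, rfl⟩
    refine ⟨g * (t * (g⁻¹ * h) * t⁻¹), ?_, ?_⟩
    · exact R.mul_mem hg (hRn.conj_mem _ (R.mul_mem (R.inv_mem hg) hh) t)
    · group
  have DconjP : ∀ b, InD b → InD (P * b * P⁻¹) := by
    rintro b ⟨h, hh, rfl⟩
    refine ⟨P * h * P⁻¹, hRn.conj_mem _ hh P, ?_⟩
    rw [← hP]; group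
  -- every member of D is a transvection
  have Dtv : ∀ a, InD a → ∃ c : V, IsTv a c := by
    rintro a ⟨g, -, rfl⟩
    exact ⟨_, ht.conj g⟩
  -- (3')
  have K3 : ∀ a b, InD a → InD b → ∀ c : V, IsTv b c → a • c = c → a = b := by
    intro a b ha hb c hbc hac
    have hb' : IsTv (a * b * a⁻¹) c := by
      have := hbc.conj a
      rwa [hac] at this
    have hcomm := tv_commute hf hbc hb'
    have hbb : b = a * b * a⁻¹ := G1 _ _ hb (Dconj a b ha hb) hcomm
    have hab : a * b = b * a := by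
      calc a * b = (a * b * a⁻¹) * a := by group
        _ = b * a := by rw [← hbb]
    exact G1 a b ha hb hab
  have htD : InD t := ⟨1, R.one_mem, by group⟩
  obtain ⟨b, hbdef⟩ : ∃ b, b = x * t * x⁻¹ := ⟨_, rfl⟩
  have hbD : InD b := ⟨x, hx, hbdef⟩
  obtain ⟨cb, hcbdef⟩ : ∃ cb : V, cb = x • c₀ := ⟨_, rfl⟩
  have hbtv : IsTv b cb := by rw [hbdef, hcbdef]; exact ht.conj x
  have hbt : b ≠ t := by
    intro h
    apply hxt
    calc x * t = (x * t * x⁻¹) * x := by group
      _ = t * x := by rw [← hbdef, h]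
  have hbi : b⁻¹ = b := hinv b hbD
  have h_t_cb : t • cb = cb + c₀ := by
    rcases ht.2.1 cb with h | h
    · exact absurd (K3 t b htD hbD cb hbtv h).symm hbt
    · exact h
  have h_b_c0 : b • c₀ = c₀ + cb := by
    rcases hbtv.2.1 c₀ with h | h
    · exact absurd (K3 b t hbD htD c₀ ht h) hbt
    · exact h
  have hsD : InD (b * t * b⁻¹) := Dconj b t hbD htD
  -- claim (4)
  have K4 : ∀ d, InD d → d = t ∨ d = b ∨ d = b * t * b⁻¹ := by
    intro d hd
    by_contra hcon
    push Not at hcon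
    obtain ⟨hdt, hdb, hds⟩ := hcon
    obtain ⟨cd, hdtv⟩ := Dtv d hd
    have h1 : t • cd = cd + c₀ := by
      rcases ht.2.1 cd with h | h
      · exact absurd (K3 t d htD hd cd hdtv h).symm hdt
      · exact h
    have h3 : b • cd = cd + cb := by
      rcases hbtv.2.1 cd with h | h
      · exact absurd (K3 b d hbD hd cd hdtv h).symm hdb
      · exact h
    have h4 : (b * t * b⁻¹) • cd = cd := by
      rw [hbi, mul_smul, mul_smul, h3, smul_add, h1, h_t_cb]
      have e : cd + c₀ + (cb + c₀) = cd + cb + (c₀ + c₀) := by abel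
      rw [e, h2, add_zero, smul_add, h3, hbtv.2.2]
      have e2 : cd + cb + cb = cd + (cb + cb) := by abel
      rw [e2, h2, add_zero]
    exact hds (K3 _ d hsD hd cd hdtv h4).symm
  -- (5)
  have hbtne : b * t ≠ t * b := fun h => hbt (G1 b t hbD htD h)
  have h_aba : t * b * t⁻¹ = b * t * b⁻¹ := by
    rcases K4 _ (Dconj t b htD hbD) with h | h | h
    · exfalso
      apply hbt
      calc b = t⁻¹ * (t * b * t⁻¹) * t := by group
        _ = t := by rw [h]; group
    · exfalso
      apply hbtne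
      calc b * t = (t * b * t⁻¹) * t := by rw [h]
        _ = t * b := by group
    · exact h
  have hPt : P * t = t * P := by rw [← hP]; group
  rcases K4 _ (DconjP b hbD) with h | h | h
  · apply hbt
    calc b = P⁻¹ * (P * b * P⁻¹) * P := by group
      _ = P⁻¹ * t * P := by rw [h]
      _ = P⁻¹ * (t * P) := by group
      _ = P⁻¹ * (P * t) := by rw [hPt]
      _ = t := by group
  · -- P commutes with b
    have hPb : P * b = b * P := by
      calc P * b = (P * b * P⁻¹) * P := by group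
        _ = b * P := by rw [h]
    apply hbtne
    rw [← hP]
    calc b * (P * P) = (b * P) * P := by group
      _ = (P * b) * P := by rw [hPb]
      _ = P * (b * P) := by group
      _ = P * (P * b) := by rw [hPb]
      _ = P * P * b := by group
  · -- P b P⁻¹ = s
    have hs2 : P * (b * t * b⁻¹) * P⁻¹ = b := by
      have e : P * (b * t * b⁻¹) * P⁻¹ = (P * b * P⁻¹) * (P * t * P⁻¹) * (P * b * P⁻¹)⁻¹ := by
        group
      have e2 : P * t * P⁻¹ = t := by rw [hPt]; group
      rw [e, e2, h]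
      -- (b t b⁻¹) t (b t b⁻¹)⁻¹ = b, using t b t⁻¹ = b t b⁻¹
      rw [← h_aba]
      have e3 : t * b * t⁻¹ * t * (t * b * t⁻¹)⁻¹ = t * (b * t * b⁻¹) * t⁻¹ := by group
      rw [e3, ← h_aba, hti]
      calc t * (t * b * t) * t = (t * t) * b * (t * t) := by group
        _ = b := by rw [ht.1, one_mul, mul_one]
    apply hbtne
    have e4 : t * b * t⁻¹ = b := by
      calc t * b * t⁻¹ = P * (P * b * P⁻¹) * P⁻¹ := by rw [← hP]; group
        _ = b := by rw [h, hs2]
    calc b * t = (t * b * t⁻¹) * t := by rw [e4]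
      _ = t * b := by group

end Cfsg.Agent.helper26.Tv
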