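import Mathlib
import Cfsg.Prelude.Def_FusionSystem
import Cfsg.Agent.Lib_helper25_Saturated
import Cfsg.Agent.Lib_helper25_ChainNormal2
import Cfsg.Agent.Lib_helper26_Fusion

set_option autoImplicit false
set_option linter.style.haveILetI false
set_option linter.unusedVariables false

namespace Cfsg.Agent.helper26

open Cfsg Cfsg.FusionSystem

variable {Ω : Type*} [Group Ω] {S : Subgroup Ω}

/-- the inner fusion system of `Q` is realized by the identity of `Q`. -/
theorem inner_isRealizedBy_id (Q : Subgroup Ω) :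
    (innerFusionSystem Q).IsRealizedBy (MonoidHom.id Q) := by
  refine ⟨fun a b h => h, ?_⟩
  intro P hP φ hφ
  constructor
  · rintro ⟨-, g, hg, h⟩
    exact ⟨⟨g, hg⟩, fun x => Subtype.ext (h x)⟩
  · rintro ⟨g, h⟩
    exact ⟨hP, g.1, g.2, fun x => congrArg Subtype.val (h x)⟩

/-- the inner fusion system of a finite `p`-group is saturated. -/
theorem inner_isSaturated (p : ℕ) [Fact p.Prime] (Q : Subgroup Ω) [Finite Q] (hQ : IsPGroup p Q) :
    (innerFusionSystem Q).IsSaturated p := by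
  have htop : IsPGroup p (⊤ : Subgroup Q) := hQ.to_subgroup ⊤
  obtain ⟨T, hT⟩ := htop.exists_le_sylow
  have hTtop : (T : Subgroup Q) = ⊤ := top_le_iff.mp hT
  refine helper25.realized_isSaturated (inner_isRealizedBy_id Q) T ?_
  rw [hTtop, eq_comm, MonoidHom.range_eq_top]
  exact fun x => ⟨x, rfl⟩

/-- With the Frattini property: a subgroup `U ≤ T` that is strongly closed in `E` and invariant
under `Aut_F(T)` is strongly closed in `F`. -/
theorem stronglyClosed_of_frattini (F : FusionSystem S) {T : Subgroup Ω} (E : FusionSystem T)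
    (hTS : T ≤ S)
    (hFr : ∀ (P : Subgroup Ω), P ≤ T → ∀ (φ : P →* Ω), φ ∈ F.Hom P →
      ∃ α ∈ F.autGroup T, ∃ φ₀ ∈ E.Hom P, ∀ (x : P) (hx : φ₀ x ∈ T),
        φ x = ((α ⟨φ₀ x, hx⟩ : T) : Ω))
    {U : Subgroup Ω} (hU : E.StronglyClosed U)
    (hinv : ∀ α ∈ F.autGroup T, ∀ (u : Ω) (hu : u ∈ U) (huT : u ∈ T),
      ((α ⟨u, huT⟩ : T) : Ω) ∈ U) :
    F.StronglyClosed U := by
  refine ⟨hU.1.trans hTS, ?_⟩
  intro R hRU φ hφ x
  obtain ⟨α, hα, φ₀, hφ₀, h⟩ := hFr R (hRU.trans hU.1) φ hφ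
  have h1 : φ₀ x ∈ U := hU.2 R hRU φ₀ hφ₀ x
  have h2 : φ₀ x ∈ T := hU.1 h1
  rw [h x h2]
  exact hinv α hα _ h1 h2

end Cfsg.Agent.helper26
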