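import Cfsg.Agent.Lib_helper26_WN

set_option autoImplicit false
set_option linter.style.haveILetI false
set_option linter.unusedVariables false

namespace Cfsg.Agent.helper26

open Cfsg Cfsg.FusionSystem
open scoped commutatorElement

variable {Ω : Type*} [Group Ω] {S : Subgroup Ω}

/-- a subgroup all of whose upper central terms are strongly closed is normal in the system. -/
theorem isNormal_of_ucs [Finite S] (p : ℕ) [Fact p.Prime]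
    (hS : IsPGroup p S) (F : Cfsg.FusionSystem S) (hF : F.IsSaturated p)
    (Q : Subgroup Ω) (hQ : Q ≤ S)
    (hstr : ∀ k, F.StronglyClosed ((Subgroup.upperCentralSeries Q k).map Q.subtype)) :
    F.IsNormal Q := by
  haveI : Finite Q := Cfsg.Agent.helper25.finite_of_le S hQ
  have hQp : IsPGroup p Q := hS.to_le hQ
  haveI : Group.IsNilpotent Q := hQp.isNilpotent
  apply Cfsg.Agent.helper25.isNormal_of_chain hS F hF Q (Group.nilpotencyClass Q)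
    (fun i => (Subgroup.upperCentralSeries Q i).map Q.subtype)
  · show (Subgroup.upperCentralSeries Q 0).map Q.subtype = ⊥
    rw [Subgroup.upperCentralSeries_zero, Subgroup.map_bot]
  · show (Subgroup.upperCentralSeries Q (Group.nilpotencyClass Q)).map Q.subtype = Q
    rw [Subgroup.upperCentralSeries_nilpotencyClass, ← MonoidHom.range_eq_map,
      Subgroup.range_subtype]
  · intro i j hij
    exact Subgroup.map_mono (Subgroup.upperCentralSeries_mono Q hij)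
  · intro i
    refine ⟨hstr _, ?_⟩
    rw [Subgroup.commutator_le]
    rintro g₁ hg₁ _ ⟨z, hz, rfl⟩
    have hz' : z ∈ Subgroup.upperCentralSeries Q ((i : ℕ) + 1) := hz
    have h1 := Subgroup.mem_upperCentralSeries_succ_iff.mp hz' ⟨g₁, hg₁⟩
    have h2 : ⁅(⟨g₁, hg₁⟩ : Q), z⁆ ∈ Subgroup.upperCentralSeries Q (i : ℕ) := by
      rw [← commutatorElement_inv]; exact inv_mem h1
    refine ⟨⁅(⟨g₁, hg₁⟩ : Q), z⁆, h2, ?_⟩
    rw [map_commutatorElement]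
    rfl

/-- the image of `P ≤ T` under an automorphism of `T`. -/
def autMap {T : Subgroup Ω} (α : MulAut T) (P : Subgroup Ω) : Subgroup Ω :=
  (P.subgroupOf T).map (T.subtype.comp α.toMonoidHom)

theorem mem_autMap {T : Subgroup Ω} (α : MulAut T) (P : Subgroup Ω) (y : Ω) :
    y ∈ autMap α P ↔ ∃ t : T, (t : Ω) ∈ P ∧ ((α t : T) : Ω) = y := by
  constructor
  · rintro ⟨t, ht, rfl⟩; exact ⟨t, Subgroup.mem_subgroupOf.mp ht, rfl⟩
  · rintro ⟨t, ht, rfl⟩; exact ⟨t, Subgroup.mem_subgroupOf.mpr ht, rfl⟩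

theorem autMap_le {T : Subgroup Ω} (α : MulAut T) (P : Subgroup Ω) : autMap α P ≤ T := by
  rintro _ ⟨t, -, rfl⟩; exact (α t).2

theorem autMap_inv_autMap {T : Subgroup Ω} (α : MulAut T) {P : Subgroup Ω} (hP : P ≤ T) :
    autMap α (autMap α⁻¹ P) = P := by
  ext y; rw [mem_autMap]; constructor
  · rintro ⟨t, ht, rfl⟩
    obtain ⟨s, hs, hst⟩ := (mem_autMap _ _ _).mp ht
    have : t = α⁻¹ s := Subtype.ext hst.symm
    rw [this]
    show ((α (α⁻¹ s) : T) : Ω) ∈ P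
    rw [MulAut.apply_inv_self]; exact hs
  · intro hy
    refine ⟨α⁻¹ ⟨y, hP hy⟩, (mem_autMap _ _ _).mpr ⟨⟨y, hP hy⟩, hy, rfl⟩, ?_⟩
    show ((α (α⁻¹ ⟨y, hP hy⟩) : T) : Ω) = y
    rw [MulAut.apply_inv_self]

theorem autMap_sup {T : Subgroup Ω} (α : MulAut T) {P Q : Subgroup Ω} (hP : P ≤ T) (hQ : Q ≤ T) :
    autMap α (P ⊔ Q) = autMap α P ⊔ autMap α Q := by
  unfold autMap
  rw [Subgroup.subgroupOf_sup hP hQ, Subgroup.map_sup]

/-- the invariance condition of `IsInvariantIn`, in a form convenient to apply. -/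
theorem invariance_apply (F : FusionSystem S) {T : Subgroup Ω} (E : FusionSystem T)
    (hinvt : ∀ (P : Subgroup Ω) (hPT : P ≤ T) (φ : P →* Ω), φ ∈ E.Hom P → ∀ α ∈ F.autGroup T,
      ∃ χ ∈ E.Hom ((P.subgroupOf T).map (T.subtype.comp α.toMonoidHom)),
        ∀ (x : P) (hφx : φ x ∈ T)
          (hαx : ((α ⟨x, hPT x.2⟩ : T) : Ω) ∈ (P.subgroupOf T).map (T.subtype.comp α.toMonoidHom)),
          χ ⟨(α ⟨x, hPT x.2⟩ : T), hαx⟩ = ((α ⟨φ x, hφx⟩ : T) : Ω))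
    {P : Subgroup Ω} (hPT : P ≤ T) {φ : P →* Ω} (hφ : φ ∈ E.Hom P) {α : MulAut T}
    (hα : α ∈ F.autGroup T) :
    ∃ χ ∈ E.Hom (autMap α P), ∀ (y : autMap α P) (t : T) (ht : (t : Ω) ∈ P)
      (hφt : φ ⟨t, ht⟩ ∈ T), ((α t : T) : Ω) = y → χ y = ((α ⟨φ ⟨t, ht⟩, hφt⟩ : T) : Ω) := by
  obtain ⟨χ, hχ, h⟩ := hinvt P hPT φ hφ α hα
  refine ⟨χ, hχ, ?_⟩
  intro y t ht hφt hy
  have hm : ((α t : T) : Ω) ∈ autMap α P := hy ▸ y.2
  have key : y = ⟨((α t : T) : Ω), hm⟩ := Subtype.ext hy.symm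
  rw [key]
  exact h ⟨t, ht⟩ hφt hm

/-- the image of a subgroup normal in `E` under an element of `Aut_F(T)` is normal in `E`. -/
theorem isNormal_autMap (F : FusionSystem S) {T : Subgroup Ω} (E : FusionSystem T)
    (hinvt : ∀ (P : Subgroup Ω) (hPT : P ≤ T) (φ : P →* Ω), φ ∈ E.Hom P → ∀ α ∈ F.autGroup T,
      ∃ χ ∈ E.Hom ((P.subgroupOf T).map (T.subtype.comp α.toMonoidHom)),
        ∀ (x : P) (hφx : φ x ∈ T)
          (hαx : ((α ⟨x, hPT x.2⟩ : T) : Ω) ∈ (P.subgroupOf T).map (T.subtype.comp α.toMonoidHom)),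
          χ ⟨(α ⟨x, hPT x.2⟩ : T), hαx⟩ = ((α ⟨φ x, hφx⟩ : T) : Ω))
    {R : Subgroup Ω} (hR : E.IsNormal R) {α : MulAut T} (hα : α ∈ F.autGroup T) :
    E.IsNormal (autMap α R) := by
  have hRT := hR.1
  refine ⟨autMap_le α R, ?_⟩
  intro P' φ' hφ'
  have hP'T : P' ≤ T := (E.le_of_mem hφ').1
  have hφ'T : ∀ x, φ' x ∈ T := (E.le_of_mem hφ').2
  obtain ⟨χ, hχ, hχ1⟩ := invariance_apply F E hinvt hP'T hφ' (inv_mem hα)
  have hPT : autMap α⁻¹ P' ≤ T := autMap_le _ _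
  obtain ⟨ψ, hψ, hψ1, hψ2⟩ := hR.2 (autMap α⁻¹ P') χ hχ
  have hψT : ∀ x, ψ x ∈ T := (E.le_of_mem hψ).2
  have hPRT : autMap α⁻¹ P' ⊔ R ≤ T := sup_le hPT hRT
  obtain ⟨χ', hχ', hχ'1⟩ := invariance_apply F E hinvt hPRT hψ hα
  have heq : autMap α (autMap α⁻¹ P' ⊔ R) = P' ⊔ autMap α R := by
    rw [autMap_sup α hPT hRT, autMap_inv_autMap α hP'T]
  refine ⟨χ'.comp (Subgroup.inclusion heq.ge), helper25.hom_congr E heq hχ', ?_, ?_⟩
  · intro x'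
    have hwP : ((α⁻¹ ⟨x', hP'T x'.2⟩ : T) : Ω) ∈ autMap α⁻¹ P' :=
      (mem_autMap _ _ _).mpr ⟨⟨x', hP'T x'.2⟩, x'.2, rfl⟩
    have hwPR : ((α⁻¹ ⟨x', hP'T x'.2⟩ : T) : Ω) ∈ autMap α⁻¹ P' ⊔ R :=
      (le_sup_left : autMap α⁻¹ P' ≤ autMap α⁻¹ P' ⊔ R) hwP
    have h1 := hχ'1 (Subgroup.inclusion heq.ge (Subgroup.inclusion le_sup_left x'))
      (α⁻¹ ⟨x', hP'T x'.2⟩) hwPR (hψT _) (by
        show ((α (α⁻¹ ⟨x', hP'T x'.2⟩) : T) : Ω) = x'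
        rw [MulAut.apply_inv_self])
    show χ' (Subgroup.inclusion heq.ge (Subgroup.inclusion le_sup_left x')) = φ' x'
    rw [h1]
    have h2 : ψ ⟨((α⁻¹ ⟨x', hP'T x'.2⟩ : T) : Ω), hwPR⟩ = χ ⟨_, hwP⟩ := hψ1 ⟨_, hwP⟩
    have h3 := hχ1 ⟨_, hwP⟩ ⟨x', hP'T x'.2⟩ x'.2 (hφ'T _) rfl
    have h4 : (⟨ψ ⟨((α⁻¹ ⟨x', hP'T x'.2⟩ : T) : Ω), hwPR⟩, hψT _⟩ : T)
        = α⁻¹ ⟨φ' x', hφ'T x'⟩ := Subtype.ext (h2.trans h3)
    rw [h4, MulAut.apply_inv_self]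
  · apply le_antisymm
    · rintro _ ⟨y, hy, rfl⟩
      obtain ⟨r, hr, hry⟩ := (mem_autMap _ _ _).mp (Subgroup.mem_subgroupOf.mp hy)
      have hrPR : (r : Ω) ∈ autMap α⁻¹ P' ⊔ R := (le_sup_right : R ≤ _) hr
      have h1 := hχ'1 (Subgroup.inclusion heq.ge y) r hrPR (hψT _) hry
      show χ' (Subgroup.inclusion heq.ge y) ∈ autMap α R
      rw [h1]
      refine (mem_autMap _ _ _).mpr ⟨_, ?_, rfl⟩
      exact hψ2.le ⟨⟨r, hrPR⟩, Subgroup.mem_subgroupOf.mpr hr, rfl⟩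
    · intro z hz
      obtain ⟨r₀, hr₀, rfl⟩ := (mem_autMap _ _ _).mp hz
      obtain ⟨w, hw, hwr⟩ := hψ2.ge hr₀
      have hwR : (w : Ω) ∈ R := Subgroup.mem_subgroupOf.mp hw
      have hαw : ((α ⟨w, hPRT w.2⟩ : T) : Ω) ∈ autMap α R :=
        (mem_autMap _ _ _).mpr ⟨⟨w, hPRT w.2⟩, hwR, rfl⟩
      have hαw' : ((α ⟨w, hPRT w.2⟩ : T) : Ω) ∈ P' ⊔ autMap α R :=
        (le_sup_right : autMap α R ≤ _) hαw
      refine ⟨⟨_, hαw'⟩, Subgroup.mem_subgroupOf.mpr hαw, ?_⟩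
      have h1 := hχ'1 (Subgroup.inclusion heq.ge ⟨_, hαw'⟩) ⟨w, hPRT w.2⟩ w.2 (hψT _) rfl
      show χ' (Subgroup.inclusion heq.ge ⟨_, hαw'⟩) = _
      rw [h1]
      have h4 : (⟨ψ ⟨((⟨w, hPRT w.2⟩ : T) : Ω), w.2⟩, hψT _⟩ : T) = r₀ := Subtype.ext hwr
      rw [h4]

end Cfsg.Agent.helper26
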