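import Cfsg.Agent.Lib_helper26_AutSys
import Cfsg.Agent.Lib_helper26_EssGen
import Cfsg.Agent.Lib_helper26_OmAut
import Cfsg.Agent.Lib_helper25_NormalChar
import Cfsg.Agent.Lib_helper25_Radical
import Cfsg.Agent.S5083

set_option autoImplicit false
set_option linter.style.haveILetI false

namespace Cfsg.Agent.h26XSparse

open Cfsg Cfsg.FusionSystem Cfsg.Agent.helper25 Cfsg.Agent.h26AutSys

variable {Ω : Type*} [Group Ω] {S : Subgroup Ω}

/-- the hypothesis: every saturated subsystem is the whole system or inner. -/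
def XS (F : FusionSystem S) (p : ℕ) : Prop :=
  ∀ (T : Subgroup Ω) (E : FusionSystem T), E.IsSaturated p → E.IsSubsystemOf F →
    (T = S ∧ ∀ P : Subgroup Ω, E.Hom P = F.Hom P) ∨
      (∀ P : Subgroup Ω, E.Hom P = (innerFusionSystem T).Hom P)

theorem exists_prime_ne_of_not_isPGroup {G : Type*} [Group G] [Finite G] {p : ℕ} [hp : Fact p.Prime]
    (h : ¬ IsPGroup p G) : ∃ q : ℕ, q.Prime ∧ q ≠ p ∧ q ∣ Nat.card G := by
  by_contra hcon
  push Not at hcon
  apply h
  have h1 : Nat.card G = p ^ (Nat.card G).primeFactorsList.length := by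
    apply Nat.eq_prime_pow_of_unique_prime_dvd Nat.card_pos.ne'
    intro d hd hdvd
    by_contra hne
    exact hcon d hd hne hdvd
  exact IsPGroup.of_card h1

/-- the subsystem generated by `Inn P` and a `p'`-automorphism of `F` is a saturated subsystem. -/
theorem autSys_sub [Finite S] {p : ℕ} [hp : Fact p.Prime] (hS : IsPGroup p S) (F : FusionSystem S)
    {P : Subgroup Ω} (hPS : P ≤ S) {β : MulAut P} (hβ : β ∈ F.autGroup P) :
    (autSys P (Inn P ⊔ Subgroup.zpowers β) le_sup_left).IsSubsystemOf F := by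
  intro R φ hφ
  obtain ⟨hR, γ, hγ, h⟩ := hφ
  have hInnF : Inn P ≤ F.autGroup P :=
    (inn_le_autInducedBy hPS).trans (autInducedBy_le_autGroup F hPS)
  have hγF : γ ∈ F.autGroup P := (sup_le hInnF ((Subgroup.zpowers_le).mpr hβ)) hγ
  have h1 : IsFIso F γ := (mem_autGroup_iff F hPS γ).mp hγF
  have h2 := restrict_mem F hR h1
  have e : φ = (P.subtype.comp γ.toMonoidHom).comp (Subgroup.inclusion hR) := by
    ext x
    exact h x
  rw [e]; exact h2

theorem not_inner_of_prime_order {p q : ℕ} [hp : Fact p.Prime] (hq : q.Prime) (hqp : q ≠ p)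
    {P : Subgroup Ω} [Finite P] (hP : IsPGroup p P) {β : MulAut P} (hord : orderOf β = q)
    (h : ∀ R : Subgroup Ω, (autSys P (Inn P ⊔ Subgroup.zpowers β) le_sup_left).Hom R =
      (innerFusionSystem P).Hom R) : False := by
  have h1 : P.subtype.comp β.toMonoidHom ∈
      (autSys P (Inn P ⊔ Subgroup.zpowers β) le_sup_left).Hom P :=
    ⟨le_rfl, β, Subgroup.mem_sup_right (Subgroup.mem_zpowers β), fun x => rfl⟩
  rw [h P] at h1
  obtain ⟨-, g, hg, hx⟩ := h1
  have h2 : β = MulAut.conj (⟨g, hg⟩ : ↥P) := by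
    ext x
    exact hx x
  have h3 : β ∈ Inn P := ⟨⟨g, hg⟩, h2.symm⟩
  obtain ⟨k, hk⟩ := (isPGroup_inn hP) ⟨β, h3⟩
  have hk' : β ^ p ^ k = 1 := by
    have h4 := congrArg Subtype.val hk
    rw [Subgroup.coe_pow, Subgroup.coe_one] at h4
    exact h4
  have h5 : q ∣ p ^ k := hord ▸ orderOf_dvd_of_pow_eq_one hk'
  have h6 := (Nat.prime_dvd_prime_iff_eq hq hp.out).mp (hq.dvd_of_dvd_pow h5)
  exact hqp h6

/-- Under `XS`, proper subgroups have `p`-group automizers. -/
theorem isPGroup_autGroup_of_ne [Finite S] {p : ℕ} [hp : Fact p.Prime] (hS : IsPGroup p S)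
    (F : FusionSystem S) (hxs : XS F p) {P : Subgroup Ω} (hPS : P ≤ S) (hne : P ≠ S) :
    IsPGroup p (F.autGroup P) := by
  haveI : Finite P := finite_of_le S hPS
  have hPp : IsPGroup p P := hS.to_le hPS
  by_contra hcon
  obtain ⟨q, hq, hqp, hdvd⟩ := exists_prime_ne_of_not_isPGroup hcon
  haveI : Fact q.Prime := ⟨hq⟩
  obtain ⟨β, hβ⟩ := exists_prime_orderOf_dvd_card' q hdvd
  have hord : orderOf (β : MulAut P) = q := by rw [← hβ]; exact (Subgroup.orderOf_coe β)
  have hC : (Nat.card (Subgroup.zpowers (β : MulAut P))).Coprime p := by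
    rw [Nat.card_zpowers, hord]
    exact (Nat.coprime_primes hq hp.out).mpr hqp
  have hsat := autSys_saturated P hPp (Subgroup.zpowers (β : MulAut P)) hC
  have hsub := autSys_sub hS F hPS β.2
  rcases hxs P _ hsat hsub with ⟨h1, -⟩ | h2
  · exact hne h1
  · exact not_inner_of_prime_order hq hqp hPp hord h2

theorem isNormal_top [Finite S] {p : ℕ} [hp : Fact p.Prime] (hS : IsPGroup p S)
    (F : FusionSystem S) (hF : F.IsSaturated p) (hxs : XS F p) : F.IsNormal S := by
  rw [isNormal_iff_essential hS F hF]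
  intro P hP
  rcases hP with rfl | hP
  · refine ⟨le_rfl, fun α _ => ?_⟩
    rw [Subgroup.subgroupOf_self]
    exact Subgroup.map_top_of_surjective _ α.surjective
  · exfalso
    have hPS : P ≤ S := hP.1.1
    haveI : Finite P := finite_of_le S hPS
    have hne : P ≠ S := by rintro rfl; exact Cfsg.Agent.h26EssGen.essential_ne_top hS F hF hP
    have hpg := isPGroup_autGroup_of_ne hS F hxs hPS hne
    have hrad := isRadical_of_isEssential hS F hP
    obtain ⟨-, -, hnorm, Y, hdvd, -, -⟩ := hP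
    have h1 : (⊤ : Subgroup (F.autGroup P)) ≤ Cfsg.pCore p (F.autGroup P) :=
      le_pCore_h25 inferInstance (hpg.to_subgroup ⊤)
    have h2 : (Inn P).subgroupOf (F.autGroup P) = ⊤ := by
      rw [eq_top_iff]
      intro a _
      rw [Subgroup.mem_subgroupOf, ← hrad.2]
      exact ⟨a, h1 (Subgroup.mem_top a), rfl⟩
    have h3 : Nat.card (↥(F.autGroup P) ⧸ (Inn P).subgroupOf (F.autGroup P)) = 1 := by
      rw [← Subgroup.index_eq_card, h2, Subgroup.index_top]
    rw [h3] at hdvd
    exact hp.out.one_lt.ne' (Nat.dvd_one.mp hdvd)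

theorem main [Finite S] {p : ℕ} [hp : Fact p.Prime] (hS : IsPGroup p S)
    (F : FusionSystem S) (hF : F.IsSaturated p)
    (hni : ¬ (∀ P : Subgroup Ω, F.Hom P = (innerFusionSystem S).Hom P)) (hxs : XS F p) :
    F.IsNormal S ∧ F.focalSubgroup = S ∧ F.hyperfocalSubgroup p = S ∧
      ∃ (q : ℕ) (β : MulAut ↥S), q.Prime ∧ q ≠ p ∧ β ∈ F.autGroup S ∧ orderOf β = q ∧
        (F.autGroup S : Subgroup (MulAut ↥S)) = Cfsg.Inn ↥S ⊔ Subgroup.zpowers β := by
  have hnorm := isNormal_top hS F hF hxs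
  -- Aut_F(S) is not a p-group
  have hnp : ¬ IsPGroup p (F.autGroup S) := by
    intro h1
    apply hni
    have h2 : F = innerFusionSystem S := by
      apply Cfsg.Agent.S5083.result p hS F hF
      intro P hPS
      by_cases hPe : P = S
      · rw [hPe]; exact h1
      · exact isPGroup_autGroup_of_ne hS F hxs hPS hPe
    intro P
    rw [← h2]
  obtain ⟨q, hq, hqp, hdvd⟩ := exists_prime_ne_of_not_isPGroup hnp
  haveI : Fact q.Prime := ⟨hq⟩
  obtain ⟨β', hβ'⟩ := exists_prime_orderOf_dvd_card' q hdvd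
  set β : MulAut ↥S := (β' : MulAut ↥S) with hβdef
  have hβF : β ∈ F.autGroup S := β'.2
  have hord : orderOf β = q := by rw [← hβ']; exact (Subgroup.orderOf_coe β')
  have hqcop : q.Coprime p := (Nat.coprime_primes hq hp.out).mpr hqp
  have hC : (Nat.card (Subgroup.zpowers β)).Coprime p := by
    rw [Nat.card_zpowers, hord]; exact hqcop
  have hsat := autSys_saturated S hS (Subgroup.zpowers β) hC
  have hsub := autSys_sub hS F le_rfl hβF
  have hEF : ∀ P : Subgroup Ω,
      (autSys S (Inn S ⊔ Subgroup.zpowers β) le_sup_left).Hom P = F.Hom P := by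
    rcases hxs S _ hsat hsub with ⟨-, h1⟩ | h2
    · exact h1
    · exact (not_inner_of_prime_order hq hqp hS hord h2).elim
  have hAut : F.autGroup S = Inn ↥S ⊔ Subgroup.zpowers β := by
    rw [← autGroup_autSys S (Inn S ⊔ Subgroup.zpowers β) le_sup_left]
    unfold FusionSystem.autGroup
    rw [hEF S]
  -- hyperfocal subgroup
  have hHS : F.hyperfocalSubgroup p ≤ S := by
    unfold FusionSystem.hyperfocalSubgroup
    rw [Subgroup.closure_le]
    rintro y ⟨P, α, x, hPS, -, rfl⟩
    exact S.mul_mem (S.inv_mem (hPS x.2)) (hPS ((α : MulAut P) x).2)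
  have hβres : (⟨β, hβF⟩ : ↥(F.autGroup S)) ∈ pResidual p (F.autGroup S) := by
    apply Subgroup.subset_closure
    show Nat.Coprime (orderOf (⟨β, hβF⟩ : ↥(F.autGroup S))) p
    rw [Subgroup.orderOf_mk, hord]; exact hqcop
  have hgen : ∀ x : ↥S, (x : Ω)⁻¹ * ((β x : ↥S) : Ω) ∈ F.hyperfocalSubgroup p := by
    intro x
    apply Subgroup.subset_closure
    exact ⟨S, ⟨β, hβF⟩, x, le_rfl, hβres, rfl⟩
  have hhyp : F.hyperfocalSubgroup p = S := by
    by_contra hne
    set H := F.hyperfocalSubgroup p with hH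
    haveI : Finite H := finite_of_le S hHS
    have hpg := isPGroup_autGroup_of_ne hS F hxs hHS hne
    have hβH : ∀ h : ↥S, (h : Ω) ∈ H → ((β h : ↥S) : Ω) ∈ H := by
      intro h hh
      have : ((β h : ↥S) : Ω) = (h : Ω) * ((h : Ω)⁻¹ * ((β h : ↥S) : Ω)) := by group
      rw [this]
      exact H.mul_mem hh (hgen h)
    let f : ↥H →* ↥H :=
      { toFun := fun h => ⟨β ⟨h.1, hHS h.2⟩, hβH _ h.2⟩
        map_one' := by
          apply Subtype.ext
          show ((β ⟨((1 : ↥H) : Ω), _⟩ : ↥S) : Ω) = 1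
          have : (⟨((1 : ↥H) : Ω), hHS (1 : ↥H).2⟩ : ↥S) = 1 := rfl
          rw [this, map_one]; rfl
        map_mul' := by
          intro a b
          apply Subtype.ext
          show ((β ⟨((a * b : ↥H) : Ω), _⟩ : ↥S) : Ω) = _
          have : (⟨((a * b : ↥H) : Ω), hHS (a * b).2⟩ : ↥S) =
              ⟨a.1, hHS a.2⟩ * ⟨b.1, hHS b.2⟩ := rfl
          rw [this, map_mul]; rfl }
    have finj : Function.Injective f := by
      intro a b hab
      have h1 : ((β ⟨a.1, hHS a.2⟩ : ↥S) : Ω) = ((β ⟨b.1, hHS b.2⟩ : ↥S) : Ω) :=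
        congrArg (fun t : ↥H => (t : Ω)) hab
      have h2 := β.injective (Subtype.ext h1)
      exact Subtype.ext (congrArg (fun t : ↥S => (t : Ω)) h2)
    have fbij : Function.Bijective f := Finite.injective_iff_bijective.mp finj
    let βH : MulAut ↥H := MulEquiv.ofBijective f fbij
    have hβHapp : ∀ h : ↥H, ((βH h : ↥H) : Ω) = ((β ⟨h.1, hHS h.2⟩ : ↥S) : Ω) := fun h => rfl
    have hβHF : βH ∈ F.autGroup H := by
      rw [mem_autGroup_iff F hHS]
      have h1 : IsFIso F β := (mem_autGroup_iff F le_rfl β).mp hβF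
      have h2 := restrict_mem F hHS h1
      have e : H.subtype.comp βH.toMonoidHom =
          (S.subtype.comp β.toMonoidHom).comp (Subgroup.inclusion hHS) := by
        ext h
        rfl
      unfold IsFIso
      rw [e]; exact h2
    have hpow : ∀ (k : ℕ) (h : ↥H), (((βH ^ k) h : ↥H) : Ω) = (((β ^ k) ⟨h.1, hHS h.2⟩ : ↥S) : Ω) := by
      intro k
      induction k with
      | zero => intro h; rfl
      | succ k ih =>
        intro h
        have e : (⟨((βH ^ k) h : ↥H), hHS ((βH ^ k) h).2⟩ : ↥S) = (β ^ k) ⟨h.1, hHS h.2⟩ :=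
          Subtype.ext (ih h)
        rw [pow_succ', pow_succ', MulAut.mul_apply, MulAut.mul_apply, hβHapp, e]
    have hβq : β ^ q = 1 := by rw [← hord]; exact pow_orderOf_eq_one β
    have hβHq : βH ^ q = 1 := by
      ext h
      rw [hpow, hβq]; rfl
    obtain ⟨k, hk⟩ := hpg ⟨βH, hβHF⟩
    have hk' : βH ^ p ^ k = 1 := by
      have h4 := congrArg Subtype.val hk
      rw [Subgroup.coe_pow, Subgroup.coe_one] at h4
      exact h4
    have hβH1 : βH = 1 := Cfsg.Agent.h26OmAut.eq_one_of_pow_coprime hqcop hk' hβHq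
    have hfix : ∀ h : ↥S, (h : Ω) ∈ H → β h = h := by
      intro h hh
      have h1 := hβHapp ⟨h.1, hh⟩
      rw [hβH1] at h1
      exact Subtype.ext h1.symm
    obtain ⟨n, hn⟩ := IsPGroup.iff_card.mp hS
    have hβ1 : β = 1 := by
      ext x
      have h1 : β (x⁻¹ * β x) = x⁻¹ * β x := hfix _ (hgen x)
      have h2 : (x⁻¹ * β x) ^ p ^ n = 1 := by rw [← hn]; exact pow_card_eq_one'
      have := Cfsg.Agent.h26OmAut.fix_of_fix_comm β hqcop hβq h2 h1
      rw [this]; rfl
    rw [hβ1, orderOf_one] at hord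
    exact hq.one_lt.ne hord
  refine ⟨hnorm, ?_, hhyp, q, β, hq, hqp, hβF, hord, hAut⟩
  -- focal subgroup
  apply le_antisymm
  · unfold FusionSystem.focalSubgroup
    rw [Subgroup.closure_le]
    rintro y ⟨P, φ, x, hφ, rfl⟩
    obtain ⟨hPS, hval⟩ := F.le_of_mem hφ
    exact S.mul_mem (S.inv_mem (hPS x.2)) (hval x)
  · refine le_of_eq_of_le hhyp.symm ?_
    unfold FusionSystem.hyperfocalSubgroup FusionSystem.focalSubgroup
    apply Subgroup.closure_mono
    rintro y ⟨P, α, x, hPS, -, rfl⟩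
    have h1 : IsFIso F (α : MulAut P) := (mem_autGroup_iff F hPS _).mp α.2
    exact ⟨P, P.subtype.comp (α : MulAut P).toMonoidHom, x, h1, rfl⟩

end Cfsg.Agent.h26XSparse
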