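import Mathlib

set_option autoImplicit false

namespace Cfsg.Agent.helper27.Abs

open Matrix

variable (B : Matrix (Fin 24) (Fin 24) ℤ)

/-- the quadratic form -/
def Q (x : Fin 24 → ℤ) : ℤ := x ⬝ᵥ (B *ᵥ x)
/-- the bilinear form -/
def bf (x y : Fin 24 → ℤ) : ℤ := x ⬝ᵥ (B *ᵥ y)

theorem bf_self (x : Fin 24 → ℤ) : bf B x x = Q B x := rfl

theorem bf_add_left (x y z : Fin 24 → ℤ) : bf B (x + y) z = bf B x z + bf B y z := by
  unfold bf
  rw [add_dotProduct]

theorem bf_add_right (x y z : Fin 24 → ℤ) : bf B x (y + z) = bf B x y + bf B x z := by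
  unfold bf
  rw [mulVec_add, dotProduct_add]

theorem bf_neg_right (x y : Fin 24 → ℤ) : bf B x (-y) = -bf B x y := by
  unfold bf
  rw [mulVec_neg, dotProduct_neg]

theorem bf_neg_left (x y : Fin 24 → ℤ) : bf B (-x) y = -bf B x y := by
  unfold bf
  rw [neg_dotProduct]

theorem bf_comm (hsymm : B.IsSymm) (x y : Fin 24 → ℤ) : bf B x y = bf B y x := by
  unfold bf
  rw [dotProduct_mulVec, ← vecMul_transpose, hsymm.eq]
  exact dotProduct_comm _ _

theorem Q_add (hsymm : B.IsSymm) (x y : Fin 24 → ℤ) :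
    Q B (x + y) = Q B x + Q B y + 2 * bf B x y := by
  rw [← bf_self, bf_add_left, bf_add_right, bf_add_right, bf_comm B hsymm y x, bf_self, bf_self]
  ring

theorem Q_neg (x : Fin 24 → ℤ) : Q B (-x) = Q B x := by
  rw [← bf_self, bf_neg_left, bf_neg_right, neg_neg, bf_self]

theorem Q_sub (hsymm : B.IsSymm) (x y : Fin 24 → ℤ) :
    Q B (x - y) = Q B x + Q B y - 2 * bf B x y := by
  rw [sub_eq_add_neg, Q_add B hsymm, Q_neg, bf_neg_right]
  ring

theorem Q_two_smul (hsymm : B.IsSymm) (z : Fin 24 → ℤ) : Q B (2 • z) = 4 * Q B z := by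
  rw [two_smul, Q_add B hsymm, bf_self]
  ring

theorem Q_zero : Q B 0 = 0 := by
  unfold Q
  rw [zero_dotProduct]

/-- the hypotheses on the form -/
structure Hyp : Prop where
  hsymm : B.IsSymm
  hpos : ∀ x : Fin 24 → ℤ, x ≠ 0 → 0 < Q B x
  heven : ∀ x : Fin 24 → ℤ, (2 : ℤ) ∣ Q B x
  h2 : ∀ x : Fin 24 → ℤ, Q B x ≠ 2
  h4 : {x : Fin 24 → ℤ | Q B x = 4}.ncard = 196560
  h6 : {x : Fin 24 → ℤ | Q B x = 6}.ncard = 16773120
  h8 : {x : Fin 24 → ℤ | Q B x = 8}.ncard = 398034000

variable {B}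

theorem min_Q (h : Hyp B) {z : Fin 24 → ℤ} (hz : z ≠ 0) : 4 ≤ Q B z := by
  have h1 := h.hpos z hz
  have h2 := h.heven z
  have h3 := h.h2 z
  omega

theorem Q_eq_zero_iff (h : Hyp B) (x : Fin 24 → ℤ) : Q B x = 0 ↔ x = 0 := by
  constructor
  · intro hq
    by_contra hx
    have := h.hpos x hx
    omega
  · rintro rfl
    exact Q_zero B

theorem Q_parallelogram (h : Hyp B) (v w : Fin 24 → ℤ) :
    Q B (v - w) + Q B (v + w) = 2 * Q B v + 2 * Q B w := by
  rw [Q_sub B h.hsymm, Q_add B h.hsymm]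
  ring

theorem short_mod_two (h : Hyp B) (v w : Fin 24 → ℤ) (hvn : Q B v ≤ 8) (hwn : Q B w ≤ 8)
    (hc : ∀ i, (2 : ℤ) ∣ (v - w) i) :
    w = v ∨ w = -v ∨ (Q B v = 8 ∧ Q B w = 8 ∧ bf B v w = 0) := by
  by_cases h1 : w = v
  · exact Or.inl h1
  by_cases h2 : w = -v
  · exact Or.inr (Or.inl h2)
  refine Or.inr (Or.inr ?_)
  have hvz : v - w = 2 • (fun i => (v - w) i / 2) := by
    funext i
    have := hc i
    simp only [Pi.smul_apply, two_nsmul]
    omega
  set z : Fin 24 → ℤ := fun i => (v - w) i / 2 with hzdef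
  have hz0 : z ≠ 0 := by
    intro hz
    apply h1
    have : v - w = 0 := by rw [hvz, hz]; simp
    exact (sub_eq_zero.mp this).symm
  have hvz' : v + w = 2 • (z + w) := by
    have : v = 2 • z + w := by rw [← hvz]; abel
    rw [this]
    simp only [smul_add, two_smul]
    abel
  have hz0' : z + w ≠ 0 := by
    intro hh
    apply h2
    have : v + w = 0 := by rw [hvz', hh]; simp
    exact (neg_eq_of_add_eq_zero_right this).symm
  have n1 := min_Q h hz0
  have n2 := min_Q h hz0'
  have e1 : Q B (v - w) = 4 * Q B z := by rw [hvz, Q_two_smul B h.hsymm]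
  have e2 : Q B (v + w) = 4 * Q B (z + w) := by rw [hvz', Q_two_smul B h.hsymm]
  have e3 := Q_parallelogram h v w
  have e4 := Q_sub B h.hsymm v w
  refine ⟨by omega, by omega, by omega⟩

theorem bf_sum_left {ι : Type*} (s : Finset ι) (c : ι → ℤ) (v : ι → Fin 24 → ℤ)
    (w : Fin 24 → ℤ) : bf B (∑ i ∈ s, c i • v i) w = ∑ i ∈ s, c i * bf B (v i) w := by
  unfold bf
  rw [sum_dotProduct]
  exact Finset.sum_congr rfl (fun i _ => by rw [smul_dotProduct, smul_eq_mul])

theorem orth_family_card_le (h : Hyp B) {ι : Type*} [Fintype ι] (v : ι → Fin 24 → ℤ)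
    (h0 : ∀ i, v i ≠ 0) (horth : ∀ i j, i ≠ j → bf B (v i) (v j) = 0) :
    Fintype.card ι ≤ 24 := by
  classical
  have hli : LinearIndependent ℤ v := by
    rw [linearIndependent_iff']
    intro s c hs j hj
    have h1 : bf B (∑ i ∈ s, c i • v i) (v j) = 0 := by
      rw [hs]
      unfold bf
      rw [zero_dotProduct]
    rw [bf_sum_left, Finset.sum_eq_single_of_mem j hj] at h1
    · rw [bf_self] at h1
      rcases mul_eq_zero.mp h1 with h2 | h2
      · exact h2
      · exact absurd ((Q_eq_zero_iff h _).mp h2) (h0 j)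
    · intro i _ hij
      rw [horth i j hij, mul_zero]
  have := hli.fintype_card_le_finrank
  rw [Module.finrank_fintype_fun_eq_card, Fintype.card_fin] at this
  exact this

theorem card_le_of_orth (h : Hyp B) (T : Finset (Fin 24 → ℤ)) (h0 : ∀ x ∈ T, x ≠ 0)
    (ho : ∀ x ∈ T, ∀ y ∈ T, y = x ∨ y = -x ∨ bf B x y = 0) : T.card ≤ 48 := by
  classical
  let f : (Fin 24 → ℤ) → Finset (Fin 24 → ℤ) := fun y => {y, -y}
  have hf : ∀ x y, f x = f y → x = y ∨ x = -y := by
    intro x y hxy
    have : x ∈ f y := by rw [← hxy]; exact Finset.mem_insert_self _ _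
    simpa [f] using this
  have h1 : T.card ≤ 2 * (T.image f).card := by
    apply Finset.card_le_mul_card_image
    intro a ha
    obtain ⟨y, _, rfl⟩ := Finset.mem_image.mp ha
    have : T.filter (fun x => f x = f y) ⊆ {y, -y} := by
      intro x hx
      rw [Finset.mem_filter] at hx
      have := hf x y hx.2
      simpa using this
    exact (Finset.card_le_card this).trans Finset.card_le_two
  have hR : ∀ a : (T.image f : Finset _), ∃ y ∈ T, f y = a.1 := fun a => Finset.mem_image.mp a.2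
  choose g hgT hga using hR
  have h2 : Fintype.card (T.image f : Finset _) ≤ 24 := by
    apply orth_family_card_le h (fun a => g a)
    · intro a
      exact h0 _ (hgT a)
    · intro a b hab
      rcases ho (g a) (hgT a) (g b) (hgT b) with h' | h' | h'
      · exfalso
        apply hab
        apply Subtype.ext
        rw [← hga a, ← hga b, h']
      · exfalso
        apply hab
        apply Subtype.ext
        rw [← hga a, ← hga b, h']
        show ({g a, -g a} : Finset _) = {-g a, - -g a}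
        rw [neg_neg, Finset.pair_comm]
      · exact h'
  rw [Fintype.card_coe] at h2
  omega

/-- reduction modulo 2 -/
def cl2 (x : Fin 24 → ℤ) : Fin 24 → ZMod 2 := fun i => ((x i : ℤ) : ZMod 2)

theorem cl2_eq_iff (x y : Fin 24 → ℤ) : cl2 x = cl2 y ↔ ∀ i, (2 : ℤ) ∣ (x - y) i := by
  constructor
  · intro hxy i
    have := congrFun hxy i
    unfold cl2 at this
    rw [← sub_eq_zero, ← Int.cast_sub, ZMod.intCast_zmod_eq_zero_iff_dvd] at this
    exact this
  · intro hxy
    funext i
    unfold cl2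
    rw [← sub_eq_zero, ← Int.cast_sub, ZMod.intCast_zmod_eq_zero_iff_dvd]
    exact hxy i

/-- vectors of a given norm, as a finset -/
noncomputable def normFin (B : Matrix (Fin 24) (Fin 24) ℤ) (n : ℤ) : Finset (Fin 24 → ℤ) := by
  classical
  exact if hf : {x : Fin 24 → ℤ | Q B x = n}.Finite then hf.toFinset else ∅

theorem normFin_card {n : ℤ} {k : ℕ} (hk : k ≠ 0)
    (hc : {x : Fin 24 → ℤ | Q B x = n}.ncard = k) : (normFin B n).card = k := by
  have hfin : {x : Fin 24 → ℤ | Q B x = n}.Finite :=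
    Set.finite_of_ncard_ne_zero (by rw [hc]; exact hk)
  unfold normFin
  rw [dif_pos hfin, ← hc, Set.ncard_eq_toFinset_card _ hfin]

theorem mem_normFin {n : ℤ} {k : ℕ} (hk : k ≠ 0)
    (hc : {x : Fin 24 → ℤ | Q B x = n}.ncard = k) (x : Fin 24 → ℤ) :
    x ∈ normFin B n ↔ Q B x = n := by
  have hfin : {x : Fin 24 → ℤ | Q B x = n}.Finite :=
    Set.finite_of_ncard_ne_zero (by rw [hc]; exact hk)
  unfold normFin
  rw [dif_pos hfin, Set.Finite.mem_toFinset, Set.mem_ofPred_eq]

/-- the weight of a short vector -/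
noncomputable def wt (B : Matrix (Fin 24) (Fin 24) ℤ) (x : Fin 24 → ℤ) : ℕ := by
  classical
  exact if x = 0 then 48 else if Q B x = 8 then 1 else 24

theorem wt_zero : wt B 0 = 48 := by
  unfold wt
  simp

theorem wt_of_norm8 {x : Fin 24 → ℤ} (hx : Q B x = 8) : wt B x = 1 := by
  unfold wt
  have : x ≠ 0 := by
    rintro rfl
    rw [Q_zero] at hx
    norm_num at hx
  rw [if_neg this, if_pos hx]

theorem wt_of_other {x : Fin 24 → ℤ} (h0 : x ≠ 0) (hx : Q B x ≠ 8) : wt B x = 24 := by
  unfold wt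
  rw [if_neg h0, if_neg hx]

/-- the short vectors -/
noncomputable def shortFin (B : Matrix (Fin 24) (Fin 24) ℤ) : Finset (Fin 24 → ℤ) := by
  classical
  exact {0} ∪ (normFin B 4 ∪ (normFin B 6 ∪ normFin B 8))

theorem norm_cases_of_short (h : Hyp B) {x : Fin 24 → ℤ} (hn : Q B x ≤ 8) :
    x = 0 ∨ Q B x = 4 ∨ Q B x = 6 ∨ Q B x = 8 := by
  by_cases h0 : x = 0
  · exact Or.inl h0
  · right
    have h1 := min_Q h h0
    have h2 := h.heven x
    omega

theorem mem_shortFin (h : Hyp B) (x : Fin 24 → ℤ) : x ∈ shortFin B ↔ Q B x ≤ 8 := by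
  classical
  unfold shortFin
  rw [Finset.mem_union, Finset.mem_union, Finset.mem_union, Finset.mem_singleton,
    mem_normFin (by norm_num) h.h4, mem_normFin (by norm_num) h.h6, mem_normFin (by norm_num) h.h8]
  constructor
  · rintro (rfl | hn | hn | hn)
    · rw [Q_zero]; norm_num
    · omega
    · omega
    · omega
  · intro hn
    exact norm_cases_of_short h hn

theorem sum_wt_shortFin (h : Hyp B) : ∑ x ∈ shortFin B, wt B x = 48 * 2 ^ 24 := by
  classical
  unfold shortFin
  have m4 := mem_normFin (B := B) (by norm_num) h.h4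
  have m6 := mem_normFin (B := B) (by norm_num) h.h6
  have m8 := mem_normFin (B := B) (by norm_num) h.h8
  have d3 : Disjoint (normFin B 6) (normFin B 8) := by
    rw [Finset.disjoint_left]
    intro x h1 h2
    rw [m6] at h1
    rw [m8] at h2
    omega
  have d2 : Disjoint (normFin B 4) (normFin B 6 ∪ normFin B 8) := by
    rw [Finset.disjoint_left]
    intro x h1 h2
    rw [m4] at h1
    rw [Finset.mem_union, m6, m8] at h2
    omega
  have d1 : Disjoint ({0} : Finset (Fin 24 → ℤ)) (normFin B 4 ∪ (normFin B 6 ∪ normFin B 8)) := by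
    rw [Finset.disjoint_left]
    intro x h1 h2
    rw [Finset.mem_singleton] at h1
    rw [Finset.mem_union, Finset.mem_union, m4, m6, m8] at h2
    have : Q B x = 0 := by rw [h1]; exact Q_zero B
    omega
  rw [Finset.sum_union d1, Finset.sum_union d2, Finset.sum_union d3, Finset.sum_singleton, wt_zero]
  have s4 : ∑ x ∈ normFin B 4, wt B x = 196560 * 24 := by
    rw [← normFin_card (B := B) (by norm_num) h.h4, ← smul_eq_mul, ← Finset.sum_const]
    apply Finset.sum_congr rfl
    intro x hx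
    rw [m4] at hx
    apply wt_of_other
    · rintro rfl
      rw [Q_zero] at hx
      norm_num at hx
    · omega
  have s6 : ∑ x ∈ normFin B 6, wt B x = 16773120 * 24 := by
    rw [← normFin_card (B := B) (by norm_num) h.h6, ← smul_eq_mul, ← Finset.sum_const]
    apply Finset.sum_congr rfl
    intro x hx
    rw [m6] at hx
    apply wt_of_other
    · rintro rfl
      rw [Q_zero] at hx
      norm_num at hx
    · omega
  have s8 : ∑ x ∈ normFin B 8, wt B x = 398034000 * 1 := by
    rw [← normFin_card (B := B) (by norm_num) h.h8, ← smul_eq_mul, ← Finset.sum_const]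
    apply Finset.sum_congr rfl
    intro x hx
    rw [m8] at hx
    exact wt_of_norm8 hx
  rw [s4, s6, s8]
  norm_num

/-- the fibre of the reduction on short vectors -/
noncomputable def fib (B : Matrix (Fin 24) (Fin 24) ℤ) (q : Fin 24 → ZMod 2) :
    Finset (Fin 24 → ℤ) := by
  classical
  exact (shortFin B).filter (fun y => cl2 y = q)

theorem mem_fib (h : Hyp B) (q : Fin 24 → ZMod 2) (y : Fin 24 → ℤ) :
    y ∈ fib B q ↔ Q B y ≤ 8 ∧ cl2 y = q := by
  classical
  unfold fib
  rw [Finset.mem_filter, mem_shortFin h]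

theorem fib_sum_le (h : Hyp B) (q : Fin 24 → ZMod 2) : ∑ y ∈ fib B q, wt B y ≤ 48 := by
  classical
  by_cases hF : fib B q = ∅
  · rw [hF]; simp
  obtain ⟨x0, hx0⟩ := Finset.nonempty_iff_ne_empty.mpr hF
  obtain ⟨hx0n, hx0q⟩ := (mem_fib h q x0).mp hx0
  have hcong : ∀ y ∈ fib B q, ∀ y' ∈ fib B q, ∀ i, (2 : ℤ) ∣ (y - y') i := by
    intro y hy y' hy'
    obtain ⟨_, hq⟩ := (mem_fib h q y).mp hy
    obtain ⟨_, hq'⟩ := (mem_fib h q y').mp hy'
    exact (cl2_eq_iff y y').mp (hq.trans hq'.symm)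
  by_cases h64 : Q B x0 = 8
  · have hall : ∀ y ∈ fib B q, Q B y = 8 := by
      intro y hy
      obtain ⟨hn, _⟩ := (mem_fib h q y).mp hy
      rcases short_mod_two h x0 y hx0n hn (hcong x0 hx0 y hy) with h' | h' | h'
      · rw [h']; exact h64
      · rw [h', Q_neg]; exact h64
      · exact h'.2.1
    have hsum : ∑ y ∈ fib B q, wt B y = (fib B q).card := by
      rw [Finset.card_eq_sum_ones]
      exact Finset.sum_congr rfl (fun y hy => wt_of_norm8 (hall y hy))
    rw [hsum]
    apply card_le_of_orth h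
    · intro y hy
      rintro rfl
      have := hall 0 hy
      rw [Q_zero] at this
      norm_num at this
    · intro y hy y' hy'
      obtain ⟨hn, _⟩ := (mem_fib h q y).mp hy
      obtain ⟨hn', _⟩ := (mem_fib h q y').mp hy'
      rcases short_mod_two h y y' hn hn' (hcong y hy y' hy') with h' | h' | h'
      · exact Or.inl h'
      · exact Or.inr (Or.inl h')
      · exact Or.inr (Or.inr h'.2.2)
  · have hsub : fib B q ⊆ {x0, -x0} := by
      intro y hy
      obtain ⟨hn, _⟩ := (mem_fib h q y).mp hy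
      rcases short_mod_two h x0 y hx0n hn (hcong x0 hx0 y hy) with h' | h' | h'
      · rw [h']; simp
      · rw [h']; simp
      · exact absurd h'.1 h64
    refine (Finset.sum_le_sum_of_subset hsub).trans ?_
    by_cases h0 : x0 = 0
    · rw [h0, neg_zero, Finset.pair_eq_singleton, Finset.sum_singleton, wt_zero]
    · have hne : x0 ≠ -x0 := by
        intro hh
        apply h0
        funext i
        have := congrFun hh i
        simp only [Pi.neg_apply, Pi.zero_apply] at this ⊢
        omega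
      rw [Finset.sum_pair hne, wt_of_other h0 h64,
        wt_of_other (neg_ne_zero.mpr h0) (by rw [Q_neg]; exact h64)]

theorem fib_sum_eq (h : Hyp B) (q : Fin 24 → ZMod 2) : ∑ y ∈ fib B q, wt B y = 48 := by
  classical
  have h1 : ∑ q : Fin 24 → ZMod 2, ∑ y ∈ fib B q, wt B y = ∑ y ∈ shortFin B, wt B y := by
    unfold fib
    exact Finset.sum_fiberwise _ _ _
  have h2 : ∑ _q : Fin 24 → ZMod 2, (48 : ℕ) = 48 * 2 ^ 24 := by
    rw [Finset.sum_const, Finset.card_univ, Fintype.card_fun, ZMod.card, Fintype.card_fin,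
      smul_eq_mul, mul_comm]
  have h3 := (Finset.sum_eq_sum_iff_of_le (fun q _ => fib_sum_le h q)).mp
    (by rw [h1, h2, sum_wt_shortFin h])
  exact h3 q (Finset.mem_univ q)

/-- the class of a vector of norm 8 has 48 members -/
theorem class_ncard (h : Hyp B) (x : Fin 24 → ℤ) (hx : Q B x = 8) :
    {y : Fin 24 → ℤ | Q B y = 8 ∧ ∀ i, (2 : ℤ) ∣ (x - y) i}.ncard = 48 := by
  have hall : ∀ y ∈ fib B (cl2 x), Q B y = 8 := by
    intro y hy
    obtain ⟨hn, hq⟩ := (mem_fib h _ y).mp hy
    rcases short_mod_two h x y (by omega) hn ((cl2_eq_iff x y).mp hq.symm) with h' | h' | h'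
    · rw [h']; exact hx
    · rw [h', Q_neg]; exact hx
    · exact h'.2.1
  have hc : {y : Fin 24 → ℤ | Q B y = 8 ∧ ∀ i, (2 : ℤ) ∣ (x - y) i} = ↑(fib B (cl2 x)) := by
    ext y
    rw [Finset.mem_coe, mem_fib h, Set.mem_ofPred_eq]
    constructor
    · rintro ⟨hn, hz⟩
      exact ⟨by omega, ((cl2_eq_iff x y).mpr hz).symm⟩
    · rintro ⟨hn, hq⟩
      have hy : y ∈ fib B (cl2 x) := (mem_fib h _ y).mpr ⟨hn, hq⟩
      exact ⟨hall y hy, (cl2_eq_iff x y).mp hq.symm⟩
  rw [hc, Set.ncard_coe_finset, Finset.card_eq_sum_ones, ← fib_sum_eq h (cl2 x)]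
  exact Finset.sum_congr rfl (fun y hy => (wt_of_norm8 (hall y hy)).symm)

end Cfsg.Agent.helper27.Abs
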