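import Mathlib
import Cfsg.Prelude.Def_Solvable
import Cfsg.Prelude.Def_Transfer

set_option autoImplicit false

namespace Cfsg.Agent.helper27

open Cfsg

theorem pCore_normal (p : ℕ) (G : Type*) [Group G] : (Cfsg.pCore p G).Normal :=
  Subgroup.sSup_normal _ (fun _ hN => hN.1)

theorem pCore_le_sylow {p : ℕ} {G : Type*} [Group G] (P : Sylow p G) :
    Cfsg.pCore p G ≤ (P : Subgroup G) := by
  apply sSup_le
  rintro N ⟨hN, hp⟩
  have := hN
  exact hp.le_sylow_of_normal P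

theorem pCore_isPGroup {p : ℕ} {G : Type*} [Group G] :
    IsPGroup p (Cfsg.pCore p G) := by
  obtain ⟨P⟩ : Nonempty (Sylow p G) := inferInstance
  exact P.2.to_le (pCore_le_sylow P)

theorem odd_inf_twoGroup_eq_bot {G : Type*} [Group G] [Finite G] (K P : Subgroup G)
    (hK : Odd (Nat.card K)) (hP : IsPGroup 2 P) : K ⊓ P = ⊥ := by
  rw [eq_bot_iff]
  intro x hx
  rw [Subgroup.mem_bot]
  obtain ⟨k, hk⟩ := hP ⟨x, hx.2⟩
  have h1 : orderOf (⟨x, hx.1⟩ : K) ∣ Nat.card K := orderOf_dvd_natCard _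
  have h2 : orderOf x ∣ 2 ^ k := by
    apply orderOf_dvd_of_pow_eq_one
    have := congrArg Subtype.val hk
    simpa using this
  have h3 : orderOf x = orderOf (⟨x, hx.1⟩ : K) := by
    rw [← Subgroup.orderOf_coe]
  rw [← h3] at h1
  have h4 : orderOf x ∣ Nat.gcd (Nat.card K) (2 ^ k) := Nat.dvd_gcd h1 h2
  have h5 : Nat.Coprime (Nat.card K) (2 ^ k) := by
    apply Nat.Coprime.pow_right
    exact Nat.coprime_two_right.2 hK
  rw [h5] at h4
  exact orderOf_eq_one_iff.1 (Nat.dvd_one.1 h4)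

end Cfsg.Agent.helper27
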