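import Mathlib
import Cfsg.Prelude.Def_Sporadic_a

set_option autoImplicit false

namespace Cfsg.Agent.helper27

open Cfsg
open scoped Pointwise

/-- action of a coordinate permutation on binary words -/
def wperm (σ : Equiv.Perm GolayPt) (w : GolayPt → ZMod 2) : GolayPt → ZMod 2 :=
  fun p => w (σ.symm p)

theorem wperm_one (w : GolayPt → ZMod 2) : wperm 1 w = w := rfl

theorem wperm_mul (σ τ : Equiv.Perm GolayPt) (w : GolayPt → ZMod 2) :
    wperm (σ * τ) w = wperm σ (wperm τ w) := rfl

theorem wperm_add (σ : Equiv.Perm GolayPt) (v w : GolayPt → ZMod 2) :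
    wperm σ (v + w) = wperm σ v + wperm σ w := rfl

theorem wperm_smul (σ : Equiv.Perm GolayPt) (c : ZMod 2) (w : GolayPt → ZMod 2) :
    wperm σ (c • w) = c • wperm σ w := rfl

theorem wperm_zero (σ : Equiv.Perm GolayPt) : wperm σ 0 = 0 := rfl

theorem wperm_ones (σ : Equiv.Perm GolayPt) : wperm σ 1 = 1 := rfl

theorem support_wperm (σ : Equiv.Perm GolayPt) (w : GolayPt → ZMod 2) :
    support₂ (wperm σ w) = σ • support₂ w := by
  ext p
  rw [Finset.mem_smul_finset]
  unfold support₂ wperm
  simp only [Finset.mem_filter, Finset.mem_univ, true_and]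
  constructor
  · intro h
    exact ⟨σ.symm p, h, by simp⟩
  · rintro ⟨q, hq, rfl⟩
    simpa using hq

/-- a permutation preserving the code in both directions lies in `M24` -/
theorem mem_M24_of_preserves (σ : Equiv.Perm GolayPt)
    (h1 : ∀ w ∈ golayCode, wperm σ w ∈ golayCode)
    (h2 : ∀ w ∈ golayCode, wperm σ⁻¹ w ∈ golayCode) : σ ∈ M24 := by
  rw [MulAction.mem_stabilizer_iff]
  ext b
  rw [Set.mem_smul_set]
  unfold supports
  constructor
  · rintro ⟨c, ⟨w, hw, rfl⟩, rfl⟩
    exact ⟨wperm σ w, h1 w hw, support_wperm σ w⟩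
  · rintro ⟨w, hw, rfl⟩
    refine ⟨support₂ (wperm σ⁻¹ w), ⟨_, h2 w hw, rfl⟩, ?_⟩
    rw [← support_wperm, ← wperm_mul, mul_inv_cancel, wperm_one]

theorem ones_mem_golayCode : (1 : GolayPt → ZMod 2) ∈ golayCode :=
  Submodule.subset_span (Or.inr rfl)

theorem qrWord_mem_golayCode (t : ZMod 23) : qrWord t ∈ golayCode :=
  Submodule.subset_span (Or.inl ⟨t, rfl⟩)

/-- to show a permutation maps the code into itself it suffices to check the generators -/
theorem wperm_mem_of_gens (σ : Equiv.Perm GolayPt)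
    (h1 : ∀ t, wperm σ (qrWord t) ∈ golayCode) :
    ∀ w ∈ golayCode, wperm σ w ∈ golayCode := by
  intro w hw
  unfold golayCode at hw
  induction hw using Submodule.span_induction with
  | mem x hx =>
    rcases hx with ⟨t, rfl⟩ | hx
    · exact h1 t
    · rw [Set.mem_singleton_iff] at hx
      rw [hx, wperm_ones]; exact ones_mem_golayCode
  | zero => rw [wperm_zero]; exact Submodule.zero_mem _
  | add x y _ _ hx hy => rw [wperm_add]; exact Submodule.add_mem _ hx hy
  | smul c x _ hx => rw [wperm_smul]; exact Submodule.smul_mem _ c hx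

/-! ### the shift `x ↦ x + 1` -/

def shiftFun : GolayPt → GolayPt
  | none => none
  | some x => some (x + 1)

def unshiftFun : GolayPt → GolayPt
  | none => none
  | some x => some (x - 1)

def gshift : Equiv.Perm GolayPt where
  toFun := shiftFun
  invFun := unshiftFun
  left_inv := by
    rintro (_ | x)
    · rfl
    · show some (x + 1 - 1) = some x
      rw [add_sub_cancel_right]
  right_inv := by
    rintro (_ | x)
    · rfl
    · show some (x - 1 + 1) = some x
      rw [sub_add_cancel]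

theorem gshift_some (x : ZMod 23) : gshift (some x) = some (x + 1) := rfl
theorem gshift_none : gshift none = none := rfl
theorem gshift_symm_some (x : ZMod 23) : gshift.symm (some x) = some (x - 1) := rfl
theorem gshift_symm_none : gshift.symm none = none := rfl

theorem wperm_gshift_qrWord (t : ZMod 23) : wperm gshift (qrWord t) = qrWord (t + 1) := by
  funext p
  rcases p with _ | x
  · rfl
  · show qrWord t (some (x - 1)) = qrWord (t + 1) (some x)
    unfold qrWord
    simp only
    have : (∃ r : ZMod 23, x - 1 = r ^ 2 + t) ↔ (∃ r : ZMod 23, x = r ^ 2 + (t + 1)) := by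
      constructor
      · rintro ⟨r, hr⟩
        exact ⟨r, by rw [← add_assoc, ← hr]; ring⟩
      · rintro ⟨r, hr⟩
        exact ⟨r, by rw [hr]; ring⟩
    rw [if_congr this rfl rfl]

theorem wperm_gshift_inv_qrWord (t : ZMod 23) :
    wperm gshift⁻¹ (qrWord t) = qrWord (t - 1) := by
  have h := wperm_gshift_qrWord (t - 1)
  rw [sub_add_cancel] at h
  rw [← h, ← wperm_mul, inv_mul_cancel, wperm_one]

theorem gshift_mem_M24 : gshift ∈ M24 := by
  apply mem_M24_of_preserves
  · apply wperm_mem_of_gens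
    intro t
    rw [wperm_gshift_qrWord]; exact qrWord_mem_golayCode _
  · apply wperm_mem_of_gens
    intro t
    rw [wperm_gshift_inv_qrWord]; exact qrWord_mem_golayCode _

theorem gshift_pow_some (k : ℕ) (x : ZMod 23) : (gshift ^ k) (some x) = some (x + k) := by
  induction k with
  | zero => simp
  | succ k ih =>
    rw [pow_succ', Equiv.Perm.mul_apply, ih, gshift_some]
    congr 1
    push_cast
    ring

theorem gshift_pow_none (k : ℕ) : (gshift ^ k) none = none := by
  induction k with
  | zero => simp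
  | succ k ih => rw [pow_succ', Equiv.Perm.mul_apply, ih, gshift_none]

theorem gshift_pow_23 : gshift ^ 23 = 1 := by
  ext p
  rcases p with _ | x
  · rw [gshift_pow_none]; rfl
  · rw [gshift_pow_some]
    have : ((23 : ℕ) : ZMod 23) = 0 := by decide
    rw [this, add_zero]; rfl

theorem gshift_ne_one : gshift ≠ 1 := by
  intro h
  have h1 : gshift (some 0) = some 0 := by rw [h]; rfl
  rw [gshift_some] at h1
  have h2 : (0 : ZMod 23) + 1 = 0 := Option.some.inj h1
  exact absurd h2 (by decide)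

theorem orderOf_gshift : orderOf gshift = 23 := by
  haveI : Fact (Nat.Prime 23) := ⟨by norm_num⟩
  exact orderOf_eq_prime gshift_pow_23 gshift_ne_one

/-! ### even weight -/

theorem qrWord_sum (t : ZMod 23) : ∑ p, qrWord t p = 0 := by
  revert t
  decide

theorem golayCode_sum_eq_zero (w : GolayPt → ZMod 2) (hw : w ∈ golayCode) : ∑ p, w p = 0 := by
  unfold golayCode at hw
  induction hw using Submodule.span_induction with
  | mem x hx =>
    rcases hx with ⟨t, rfl⟩ | hx
    · exact qrWord_sum t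
    · rw [Set.mem_singleton_iff] at hx
      rw [hx]
      decide
  | zero => simp
  | add x y _ _ hx hy =>
    simp only [Pi.add_apply, Finset.sum_add_distrib, hx, hy, add_zero]
  | smul c x _ hx =>
    simp only [Pi.smul_apply, smul_eq_mul, ← Finset.mul_sum, hx, mul_zero]

/-! ### dimension at most 12 -/

/-- twelve spanning words -/
def gbasis : Fin 12 → (GolayPt → ZMod 2) :=
  ![qrWord 0, qrWord 1, qrWord 2, qrWord 3, qrWord 4, qrWord 5, qrWord 6, qrWord 7, qrWord 8,
    qrWord 9, qrWord 10, 1]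

theorem gbasis_mem (i : Fin 12) :
    gbasis i ∈ Submodule.span (ZMod 2) (Set.range gbasis) :=
  Submodule.subset_span ⟨i, rfl⟩

theorem qr_cert_11 : qrWord 11 = qrWord 0 + qrWord 1 + qrWord 5 + qrWord 6 + qrWord 7 + qrWord 9 := by
  decide

theorem qr_cert_12 : qrWord 12 = qrWord 1 + qrWord 2 + qrWord 6 + qrWord 7 + qrWord 8 + qrWord 10 := by
  decide

theorem qr_cert_13 : qrWord 13 = qrWord 0 + qrWord 1 + qrWord 2 + qrWord 3 + qrWord 5 + qrWord 6 + qrWord 8 := by
  decide

theorem qr_cert_14 : qrWord 14 = qrWord 1 + qrWord 2 + qrWord 3 + qrWord 4 + qrWord 6 + qrWord 7 + qrWord 9 := by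
  decide

theorem qr_cert_15 : qrWord 15 = qrWord 2 + qrWord 3 + qrWord 4 + qrWord 5 + qrWord 7 + qrWord 8 + qrWord 10 := by
  decide

theorem qr_cert_16 : qrWord 16 = qrWord 0 + qrWord 1 + qrWord 3 + qrWord 4 + qrWord 7 + qrWord 8 := by
  decide

theorem qr_cert_17 : qrWord 17 = qrWord 1 + qrWord 2 + qrWord 4 + qrWord 5 + qrWord 8 + qrWord 9 := by
  decide

theorem qr_cert_18 : qrWord 18 = qrWord 2 + qrWord 3 + qrWord 5 + qrWord 6 + qrWord 9 + qrWord 10 := by
  decide

theorem qr_cert_19 : qrWord 19 = qrWord 0 + qrWord 1 + qrWord 3 + qrWord 4 + qrWord 5 + qrWord 9 + qrWord 10 := by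
  decide

theorem qr_cert_20 : qrWord 20 = qrWord 0 + qrWord 2 + qrWord 4 + qrWord 7 + qrWord 9 + qrWord 10 := by
  decide

theorem qr_cert_21 : qrWord 21 = qrWord 0 + qrWord 3 + qrWord 6 + qrWord 7 + qrWord 8 + qrWord 9 + qrWord 10 := by
  decide

theorem qr_cert_22 : qrWord 22 = qrWord 0 + qrWord 4 + qrWord 5 + qrWord 6 + qrWord 8 + qrWord 10 := by
  decide

theorem qrWord_mem_span (t : ZMod 23) :
    qrWord t ∈ Submodule.span (ZMod 2) (Set.range gbasis) := by
  have hb : ∀ i : Fin 12, gbasis i ∈ Submodule.span (ZMod 2) (Set.range gbasis) := gbasis_mem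
  have h0 : qrWord 0 ∈ Submodule.span (ZMod 2) (Set.range gbasis) := hb 0
  have h1 : qrWord 1 ∈ Submodule.span (ZMod 2) (Set.range gbasis) := hb 1
  have h2 : qrWord 2 ∈ Submodule.span (ZMod 2) (Set.range gbasis) := hb 2
  have h3 : qrWord 3 ∈ Submodule.span (ZMod 2) (Set.range gbasis) := hb 3
  have h4 : qrWord 4 ∈ Submodule.span (ZMod 2) (Set.range gbasis) := hb 4
  have h5 : qrWord 5 ∈ Submodule.span (ZMod 2) (Set.range gbasis) := hb 5
  have h6 : qrWord 6 ∈ Submodule.span (ZMod 2) (Set.range gbasis) := hb 6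
  have h7 : qrWord 7 ∈ Submodule.span (ZMod 2) (Set.range gbasis) := hb 7
  have h8 : qrWord 8 ∈ Submodule.span (ZMod 2) (Set.range gbasis) := hb 8
  have h9 : qrWord 9 ∈ Submodule.span (ZMod 2) (Set.range gbasis) := hb 9
  have h10 : qrWord 10 ∈ Submodule.span (ZMod 2) (Set.range gbasis) := hb 10
  have hcases : t = 0 ∨ t = 1 ∨ t = 2 ∨ t = 3 ∨ t = 4 ∨ t = 5 ∨ t = 6 ∨ t = 7 ∨ t = 8 ∨ t = 9 ∨ t = 10 ∨ t = 11 ∨ t = 12 ∨ t = 13 ∨ t = 14 ∨ t = 15 ∨ t = 16 ∨ t = 17 ∨ t = 18 ∨ t = 19 ∨ t = 20 ∨ t = 21 ∨ t = 22 := by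
    revert t; decide
  rcases hcases with rfl | rfl | rfl | rfl | rfl | rfl | rfl | rfl | rfl | rfl | rfl | rfl | rfl | rfl | rfl | rfl | rfl | rfl | rfl | rfl | rfl | rfl | rfl
  · exact h0
  · exact h1
  · exact h2
  · exact h3
  · exact h4
  · exact h5
  · exact h6
  · exact h7
  · exact h8
  · exact h9
  · exact h10
  · rw [qr_cert_11]; exact (Submodule.add_mem _ (Submodule.add_mem _ (Submodule.add_mem _ (Submodule.add_mem _ (Submodule.add_mem _ h0 h1) h5) h6) h7) h9)
  · rw [qr_cert_12]; exact (Submodule.add_mem _ (Submodule.add_mem _ (Submodule.add_mem _ (Submodule.add_mem _ (Submodule.add_mem _ h1 h2) h6) h7) h8) h10)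
  · rw [qr_cert_13]; exact (Submodule.add_mem _ (Submodule.add_mem _ (Submodule.add_mem _ (Submodule.add_mem _ (Submodule.add_mem _ (Submodule.add_mem _ h0 h1) h2) h3) h5) h6) h8)
  · rw [qr_cert_14]; exact (Submodule.add_mem _ (Submodule.add_mem _ (Submodule.add_mem _ (Submodule.add_mem _ (Submodule.add_mem _ (Submodule.add_mem _ h1 h2) h3) h4) h6) h7) h9)
  · rw [qr_cert_15]; exact (Submodule.add_mem _ (Submodule.add_mem _ (Submodule.add_mem _ (Submodule.add_mem _ (Submodule.add_mem _ (Submodule.add_mem _ h2 h3) h4) h5) h7) h8) h10)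
  · rw [qr_cert_16]; exact (Submodule.add_mem _ (Submodule.add_mem _ (Submodule.add_mem _ (Submodule.add_mem _ (Submodule.add_mem _ h0 h1) h3) h4) h7) h8)
  · rw [qr_cert_17]; exact (Submodule.add_mem _ (Submodule.add_mem _ (Submodule.add_mem _ (Submodule.add_mem _ (Submodule.add_mem _ h1 h2) h4) h5) h8) h9)
  · rw [qr_cert_18]; exact (Submodule.add_mem _ (Submodule.add_mem _ (Submodule.add_mem _ (Submodule.add_mem _ (Submodule.add_mem _ h2 h3) h5) h6) h9) h10)
  · rw [qr_cert_19]; exact (Submodule.add_mem _ (Submodule.add_mem _ (Submodule.add_mem _ (Submodule.add_mem _ (Submodule.add_mem _ (Submodule.add_mem _ h0 h1) h3) h4) h5) h9) h10)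
  · rw [qr_cert_20]; exact (Submodule.add_mem _ (Submodule.add_mem _ (Submodule.add_mem _ (Submodule.add_mem _ (Submodule.add_mem _ h0 h2) h4) h7) h9) h10)
  · rw [qr_cert_21]; exact (Submodule.add_mem _ (Submodule.add_mem _ (Submodule.add_mem _ (Submodule.add_mem _ (Submodule.add_mem _ (Submodule.add_mem _ h0 h3) h6) h7) h8) h9) h10)
  · rw [qr_cert_22]; exact (Submodule.add_mem _ (Submodule.add_mem _ (Submodule.add_mem _ (Submodule.add_mem _ (Submodule.add_mem _ h0 h4) h5) h6) h8) h10)

theorem golayCode_le_span : golayCode ≤ Submodule.span (ZMod 2) (Set.range gbasis) := by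
  unfold golayCode
  rw [Submodule.span_le]
  rintro x (⟨t, rfl⟩ | hx)
  · exact qrWord_mem_span t
  · rw [Set.mem_singleton_iff] at hx
    rw [hx]
    exact gbasis_mem 11

theorem finrank_golayCode_le : Module.finrank (ZMod 2) golayCode ≤ 12 := by
  have h1 : Module.finrank (ZMod 2) golayCode
      ≤ Module.finrank (ZMod 2) (Submodule.span (ZMod 2) (Set.range gbasis)) :=
    Submodule.finrank_mono golayCode_le_span
  have h2 := finrank_range_le_card (R := ZMod 2) gbasis
  have h3 : Fintype.card (Fin 12) = 12 := by simp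
  rw [h3] at h2
  exact h1.trans h2

end Cfsg.Agent.helper27
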