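import Mathlib
import Cfsg.Agent.Lib_helper27_Golay

set_option autoImplicit false

namespace Cfsg.Agent.helper27

open Cfsg

/-- index of a point as a bit position -/
def idx : GolayPt → ℕ
  | none => 23
  | some x => x.val

/-- the word encoded by a bitmask -/
def toWord (n : ℕ) : GolayPt → ZMod 2 := fun p => if n.testBit (idx p) then 1 else 0

theorem toWord_xor (a b : ℕ) : toWord (a ^^^ b) = toWord a + toWord b := by
  funext p
  simp only [toWord, Pi.add_apply, Nat.testBit_xor]
  cases a.testBit (idx p) <;> cases b.testBit (idx p) <;> decide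

theorem toWord_zero : toWord 0 = 0 := by
  funext p
  simp [toWord]

def encN (k : ℕ) : ℕ :=
  (k % 2 * 13062145) ^^^ (k / 2 % 2 * 4845570) ^^^
  (k / 4 % 2 * 13938692) ^^^ (k / 8 % 2 * 7221256) ^^^
  (k / 16 % 2 * 10170384) ^^^ (k / 32 % 2 * 11952160) ^^^
  (k / 64 % 2 * 15515712) ^^^ (k / 128 % 2 * 2019456) ^^^
  (k / 256 % 2 * 4038912) ^^^ (k / 512 % 2 * 8077824) ^^^
  (k / 1024 % 2 * 11654144) ^^^ (k / 2048 % 2 * 14919680)

def popc (n : ℕ) : ℕ :=
  n % 2 + n / 2 % 2 + n / 4 % 2 + n / 8 % 2 + n / 16 % 2 + n / 32 % 2 + n / 64 % 2 + n / 128 % 2 +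
  n / 256 % 2 + n / 512 % 2 + n / 1024 % 2 + n / 2048 % 2 + n / 4096 % 2 + n / 8192 % 2 +
  n / 16384 % 2 + n / 32768 % 2 + n / 65536 % 2 + n / 131072 % 2 + n / 262144 % 2 +
  n / 524288 % 2 + n / 1048576 % 2 + n / 2097152 % 2 + n / 4194304 % 2 + n / 8388608 % 2

theorem div_mod_two_eq (k i : ℕ) : k / 2 ^ i % 2 = (k.testBit i).toNat := by
  rw [Nat.toNat_testBit]

theorem xor_bit_mul (a b : Bool) (m : ℕ) :
    (a ^^ b).toNat * m = (a.toNat * m) ^^^ (b.toNat * m) := by
  cases a <;> cases b <;> simp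

theorem encN_eq (k : ℕ) : encN k =
  ((k.testBit 0).toNat * 13062145) ^^^ ((k.testBit 1).toNat * 4845570) ^^^
  ((k.testBit 2).toNat * 13938692) ^^^ ((k.testBit 3).toNat * 7221256) ^^^
  ((k.testBit 4).toNat * 10170384) ^^^ ((k.testBit 5).toNat * 11952160) ^^^
  ((k.testBit 6).toNat * 15515712) ^^^ ((k.testBit 7).toNat * 2019456) ^^^
  ((k.testBit 8).toNat * 4038912) ^^^ ((k.testBit 9).toNat * 8077824) ^^^
  ((k.testBit 10).toNat * 11654144) ^^^ ((k.testBit 11).toNat * 14919680) := by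
  have h := fun i => div_mod_two_eq k i
  have h0 : k % 2 = (k.testBit 0).toNat := by rw [Nat.toNat_testBit, pow_zero, Nat.div_one]
  have h1 := h 1; have h2 := h 2; have h3 := h 3; have h4 := h 4; have h5 := h 5
  have h6 := h 6; have h7 := h 7; have h8 := h 8; have h9 := h 9; have h10 := h 10; have h11 := h 11
  norm_num at h1 h2 h3 h4 h5 h6 h7 h8 h9 h10 h11
  unfold encN
  rw [h0, h1, h2, h3, h4, h5, h6, h7, h8, h9, h10, h11]

theorem encN_xor (j k : ℕ) : encN (j ^^^ k) = encN j ^^^ encN k := by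
  simp only [encN_eq, Nat.testBit_xor, xor_bit_mul]
  ac_rfl


theorem rb_cert_0 : toWord 13062145 = qrWord 0 + qrWord 3 + qrWord 5 + qrWord 7 + qrWord 9 + qrWord 10 + 1 := by decide

theorem rb_mem_0 : toWord 13062145 ∈ golayCode := by
  rw [rb_cert_0]; exact Submodule.add_mem _ (Submodule.add_mem _ (Submodule.add_mem _ (Submodule.add_mem _ (Submodule.add_mem _ (Submodule.add_mem _ (qrWord_mem_golayCode 0) (qrWord_mem_golayCode 3)) (qrWord_mem_golayCode 5)) (qrWord_mem_golayCode 7)) (qrWord_mem_golayCode 9)) (qrWord_mem_golayCode 10)) (ones_mem_golayCode)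

theorem rb_cert_1 : toWord 4845570 = qrWord 3 + qrWord 4 + qrWord 8 := by decide

theorem rb_mem_1 : toWord 4845570 ∈ golayCode := by
  rw [rb_cert_1]; exact Submodule.add_mem _ (Submodule.add_mem _ (qrWord_mem_golayCode 3) (qrWord_mem_golayCode 4)) (qrWord_mem_golayCode 8)

theorem rb_cert_2 : toWord 13938692 = qrWord 0 + qrWord 3 + qrWord 4 + qrWord 7 + qrWord 10 + 1 := by decide

theorem rb_mem_2 : toWord 13938692 ∈ golayCode := by
  rw [rb_cert_2]; exact Submodule.add_mem _ (Submodule.add_mem _ (Submodule.add_mem _ (Submodule.add_mem _ (Submodule.add_mem _ (qrWord_mem_golayCode 0) (qrWord_mem_golayCode 3)) (qrWord_mem_golayCode 4)) (qrWord_mem_golayCode 7)) (qrWord_mem_golayCode 10)) (ones_mem_golayCode)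

theorem rb_cert_3 : toWord 7221256 = qrWord 3 + qrWord 4 + qrWord 5 + qrWord 6 + qrWord 8 + qrWord 10 := by decide

theorem rb_mem_3 : toWord 7221256 ∈ golayCode := by
  rw [rb_cert_3]; exact Submodule.add_mem _ (Submodule.add_mem _ (Submodule.add_mem _ (Submodule.add_mem _ (Submodule.add_mem _ (qrWord_mem_golayCode 3) (qrWord_mem_golayCode 4)) (qrWord_mem_golayCode 5)) (qrWord_mem_golayCode 6)) (qrWord_mem_golayCode 8)) (qrWord_mem_golayCode 10)

theorem rb_cert_4 : toWord 10170384 = qrWord 1 + qrWord 3 + qrWord 4 + qrWord 5 + qrWord 7 + qrWord 9 + qrWord 10 + 1 := by decide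

theorem rb_mem_4 : toWord 10170384 ∈ golayCode := by
  rw [rb_cert_4]; exact Submodule.add_mem _ (Submodule.add_mem _ (Submodule.add_mem _ (Submodule.add_mem _ (Submodule.add_mem _ (Submodule.add_mem _ (Submodule.add_mem _ (qrWord_mem_golayCode 1) (qrWord_mem_golayCode 3)) (qrWord_mem_golayCode 4)) (qrWord_mem_golayCode 5)) (qrWord_mem_golayCode 7)) (qrWord_mem_golayCode 9)) (qrWord_mem_golayCode 10)) (ones_mem_golayCode)

theorem rb_cert_5 : toWord 11952160 = qrWord 0 + qrWord 1 + qrWord 2 + qrWord 4 + qrWord 7 + qrWord 8 + qrWord 9 + qrWord 10 + 1 := by decide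

theorem rb_mem_5 : toWord 11952160 ∈ golayCode := by
  rw [rb_cert_5]; exact Submodule.add_mem _ (Submodule.add_mem _ (Submodule.add_mem _ (Submodule.add_mem _ (Submodule.add_mem _ (Submodule.add_mem _ (Submodule.add_mem _ (Submodule.add_mem _ (qrWord_mem_golayCode 0) (qrWord_mem_golayCode 1)) (qrWord_mem_golayCode 2)) (qrWord_mem_golayCode 4)) (qrWord_mem_golayCode 7)) (qrWord_mem_golayCode 8)) (qrWord_mem_golayCode 9)) (qrWord_mem_golayCode 10)) (ones_mem_golayCode)

theorem rb_cert_6 : toWord 15515712 = qrWord 0 + qrWord 2 + qrWord 3 + qrWord 6 + qrWord 7 + qrWord 8 + qrWord 10 + 1 := by decide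

theorem rb_mem_6 : toWord 15515712 ∈ golayCode := by
  rw [rb_cert_6]; exact Submodule.add_mem _ (Submodule.add_mem _ (Submodule.add_mem _ (Submodule.add_mem _ (Submodule.add_mem _ (Submodule.add_mem _ (Submodule.add_mem _ (qrWord_mem_golayCode 0) (qrWord_mem_golayCode 2)) (qrWord_mem_golayCode 3)) (qrWord_mem_golayCode 6)) (qrWord_mem_golayCode 7)) (qrWord_mem_golayCode 8)) (qrWord_mem_golayCode 10)) (ones_mem_golayCode)

theorem rb_cert_7 : toWord 2019456 = qrWord 4 + qrWord 6 + qrWord 7 + qrWord 8 + qrWord 9 + qrWord 10 := by decide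

theorem rb_mem_7 : toWord 2019456 ∈ golayCode := by
  rw [rb_cert_7]; exact Submodule.add_mem _ (Submodule.add_mem _ (Submodule.add_mem _ (Submodule.add_mem _ (Submodule.add_mem _ (qrWord_mem_golayCode 4) (qrWord_mem_golayCode 6)) (qrWord_mem_golayCode 7)) (qrWord_mem_golayCode 8)) (qrWord_mem_golayCode 9)) (qrWord_mem_golayCode 10)

theorem rb_cert_8 : toWord 4038912 = qrWord 0 + qrWord 1 + qrWord 6 + qrWord 8 + qrWord 10 := by decide

theorem rb_mem_8 : toWord 4038912 ∈ golayCode := by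
  rw [rb_cert_8]; exact Submodule.add_mem _ (Submodule.add_mem _ (Submodule.add_mem _ (Submodule.add_mem _ (qrWord_mem_golayCode 0) (qrWord_mem_golayCode 1)) (qrWord_mem_golayCode 6)) (qrWord_mem_golayCode 8)) (qrWord_mem_golayCode 10)

theorem rb_cert_9 : toWord 8077824 = qrWord 0 + qrWord 2 + qrWord 5 + qrWord 6 := by decide

theorem rb_mem_9 : toWord 8077824 ∈ golayCode := by
  rw [rb_cert_9]; exact Submodule.add_mem _ (Submodule.add_mem _ (Submodule.add_mem _ (qrWord_mem_golayCode 0) (qrWord_mem_golayCode 2)) (qrWord_mem_golayCode 5)) (qrWord_mem_golayCode 6)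

theorem rb_cert_10 : toWord 11654144 = qrWord 0 + qrWord 1 + qrWord 5 + qrWord 6 + qrWord 9 + qrWord 10 + 1 := by decide

theorem rb_mem_10 : toWord 11654144 ∈ golayCode := by
  rw [rb_cert_10]; exact Submodule.add_mem _ (Submodule.add_mem _ (Submodule.add_mem _ (Submodule.add_mem _ (Submodule.add_mem _ (Submodule.add_mem _ (qrWord_mem_golayCode 0) (qrWord_mem_golayCode 1)) (qrWord_mem_golayCode 5)) (qrWord_mem_golayCode 6)) (qrWord_mem_golayCode 9)) (qrWord_mem_golayCode 10)) (ones_mem_golayCode)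

theorem rb_cert_11 : toWord 14919680 = qrWord 0 + qrWord 2 + qrWord 5 + qrWord 9 + qrWord 10 + 1 := by decide

theorem rb_mem_11 : toWord 14919680 ∈ golayCode := by
  rw [rb_cert_11]; exact Submodule.add_mem _ (Submodule.add_mem _ (Submodule.add_mem _ (Submodule.add_mem _ (Submodule.add_mem _ (qrWord_mem_golayCode 0) (qrWord_mem_golayCode 2)) (qrWord_mem_golayCode 5)) (qrWord_mem_golayCode 9)) (qrWord_mem_golayCode 10)) (ones_mem_golayCode)

theorem toWord_bit_mul_mem (b : Bool) (m : ℕ) (h : toWord m ∈ golayCode) :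
    toWord (b.toNat * m) ∈ golayCode := by
  cases b
  · simp only [Bool.toNat_false, zero_mul, toWord_zero]; exact Submodule.zero_mem _
  · simpa using h

theorem toWord_encN_mem (k : ℕ) : toWord (encN k) ∈ golayCode := by
  rw [encN_eq]
  simp only [toWord_xor]
  refine Submodule.add_mem _ (Submodule.add_mem _ (Submodule.add_mem _ (Submodule.add_mem _
    (Submodule.add_mem _ (Submodule.add_mem _ (Submodule.add_mem _ (Submodule.add_mem _
    (Submodule.add_mem _ (Submodule.add_mem _ (Submodule.add_mem _ ?_ ?_) ?_) ?_) ?_) ?_) ?_) ?_)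
    ?_) ?_) ?_) ?_
  · exact toWord_bit_mul_mem _ _ rb_mem_0
  · exact toWord_bit_mul_mem _ _ rb_mem_1
  · exact toWord_bit_mul_mem _ _ rb_mem_2
  · exact toWord_bit_mul_mem _ _ rb_mem_3
  · exact toWord_bit_mul_mem _ _ rb_mem_4
  · exact toWord_bit_mul_mem _ _ rb_mem_5
  · exact toWord_bit_mul_mem _ _ rb_mem_6
  · exact toWord_bit_mul_mem _ _ rb_mem_7
  · exact toWord_bit_mul_mem _ _ rb_mem_8
  · exact toWord_bit_mul_mem _ _ rb_mem_9
  · exact toWord_bit_mul_mem _ _ rb_mem_10
  · exact toWord_bit_mul_mem _ _ rb_mem_11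

def qrK (t : ZMod 23) : ℕ :=
  (![863, 1726, 3452, 2808, 1520, 3041, 1986, 3973, 3850, 3604, 3113, 2131, 166, 332, 665, 1331,
    2662, 1229, 2458, 821, 1643, 3287, 2479] : Fin 23 → ℕ) t

theorem qrWord_eq_toWord (t : ZMod 23) : qrWord t = toWord (encN (qrK t)) := by
  revert t
  decide

theorem ones_eq_toWord : (1 : GolayPt → ZMod 2) = toWord (encN 4095) := by
  decide

theorem encN_mod (k : ℕ) : encN (k % 4096) = encN k := by
  have h : (4096 : ℕ) = 2 ^ 12 := by norm_num
  rw [encN_eq, encN_eq, h]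
  simp only [Nat.testBit_mod_two_pow]
  simp

theorem exists_encN_of_mem (w : GolayPt → ZMod 2) (hw : w ∈ golayCode) :
    ∃ k, k < 4096 ∧ w = toWord (encN k) := by
  suffices h : ∃ k, w = toWord (encN k) by
    obtain ⟨k, hk⟩ := h
    exact ⟨k % 4096, Nat.mod_lt _ (by norm_num), by rw [encN_mod]; exact hk⟩
  unfold golayCode at hw
  induction hw using Submodule.span_induction with
  | mem x hx =>
    rcases hx with ⟨t, rfl⟩ | hx
    · exact ⟨_, qrWord_eq_toWord t⟩
    · rw [Set.mem_singleton_iff] at hx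
      exact ⟨_, hx.trans ones_eq_toWord⟩
  | zero => exact ⟨0, by rw [show encN 0 = 0 from rfl, toWord_zero]⟩
  | add x y _ _ hx hy =>
    obtain ⟨j, rfl⟩ := hx
    obtain ⟨k, rfl⟩ := hy
    exact ⟨j ^^^ k, by rw [encN_xor, toWord_xor]⟩
  | smul c x _ hx =>
    obtain ⟨j, rfl⟩ := hx
    have hc : c = 0 ∨ c = 1 := by revert c; decide
    rcases hc with rfl | rfl
    · exact ⟨0, by rw [zero_smul, show encN 0 = 0 from rfl, toWord_zero]⟩
    · exact ⟨j, by rw [one_smul]⟩

theorem mem_golayCode_iff (w : GolayPt → ZMod 2) :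
    w ∈ golayCode ↔ ∃ k, k < 4096 ∧ w = toWord (encN k) :=
  ⟨exists_encN_of_mem w, by rintro ⟨k, _, rfl⟩; exact toWord_encN_mem k⟩



theorem popc_eq (n : ℕ) : popc n = ∑ i ∈ Finset.range 24, (n.testBit i).toNat := by
  simp only [Finset.sum_range_succ, Finset.sum_range_zero, Nat.toNat_testBit]
  unfold popc
  norm_num

theorem toWord_ne_zero_iff (n : ℕ) (p : GolayPt) : toWord n p ≠ 0 ↔ n.testBit (idx p) = true := by
  unfold toWord
  cases n.testBit (idx p) <;> simp

theorem card_support_toWord (n : ℕ) : (support₂ (toWord n)).card = popc n := by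
  rw [popc_eq]
  unfold support₂
  simp only [toWord_ne_zero_iff]
  rw [Finset.card_filter, Fintype.sum_option]
  have h1 : ∑ a : ZMod 23, (if n.testBit (idx (some a)) = true then 1 else 0)
      = ∑ i ∈ Finset.range 23, (n.testBit i).toNat := by
    rw [← Fin.sum_univ_eq_sum_range (fun i => (n.testBit i).toNat) 23]
    refine Finset.sum_congr rfl ?_
    intro a _
    show (if n.testBit (ZMod.val a) = true then 1 else 0) = _
    have : ZMod.val a = Fin.val a := rfl
    rw [this]
    cases n.testBit (Fin.val a) <;> simp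
  have h2 : ∑ i ∈ Finset.range 24, (n.testBit i).toNat
      = ∑ i ∈ Finset.range 23, (n.testBit i).toNat + (n.testBit 23).toNat :=
    Finset.sum_range_succ _ 23
  have h3 : (if n.testBit (idx none) = true then 1 else 0) = (n.testBit 23).toNat := by
    show (if n.testBit 23 = true then 1 else 0) = _
    cases n.testBit 23 <;> simp
  exact (congrArg₂ (· + ·) h3 h1).trans ((Nat.add_comm _ _).trans h2.symm)

def goodW (n : ℕ) : Bool := n == 0 || n == 8 || n == 12 || n == 16 || n == 24

set_option maxRecDepth 100000 in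
theorem weights_ok_aux : (List.range 4096).all (fun k => goodW (popc (encN k))) = true := by
  decide +kernel

set_option maxRecDepth 100000 in
theorem enc_inj_aux : (List.range 4096).all (fun k => encN k % 4096 == k) = true := by
  decide +kernel

theorem weights_ok (k : ℕ) (hk : k < 4096) :
    popc (encN k) = 0 ∨ popc (encN k) = 8 ∨ popc (encN k) = 12 ∨ popc (encN k) = 16 ∨
      popc (encN k) = 24 := by
  have h := List.all_eq_true.mp weights_ok_aux k (List.mem_range.mpr hk)
  simpa only [goodW, Bool.or_eq_true, beq_iff_eq, or_assoc] using h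

theorem encN_mod_eq (k : ℕ) (hk : k < 4096) : encN k % 4096 = k := by
  have h := List.all_eq_true.mp enc_inj_aux k (List.mem_range.mpr hk)
  simpa using h

theorem encN_lt (k : ℕ) : encN k < 2 ^ 24 := by
  rw [encN_eq]
  have hb : ∀ (b : Bool) (m : ℕ), m < 2 ^ 24 → b.toNat * m < 2 ^ 24 := by
    intro b m hm
    cases b
    · simp
    · simpa using hm
  refine Nat.xor_lt_two_pow (Nat.xor_lt_two_pow (Nat.xor_lt_two_pow (Nat.xor_lt_two_pow
    (Nat.xor_lt_two_pow (Nat.xor_lt_two_pow (Nat.xor_lt_two_pow (Nat.xor_lt_two_pow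
    (Nat.xor_lt_two_pow (Nat.xor_lt_two_pow (Nat.xor_lt_two_pow ?_ ?_) ?_) ?_) ?_) ?_) ?_) ?_) ?_)
    ?_) ?_) ?_ <;> exact hb _ _ (by norm_num)



set_option maxRecDepth 100000 in
theorem count8 : ((Finset.range 4096).filter (fun k => popc (encN k) = 8)).card = 759 := by
  decide +kernel

set_option maxRecDepth 100000 in
theorem count12 : ((Finset.range 4096).filter (fun k => popc (encN k) = 12)).card = 2576 := by
  decide +kernel

set_option maxRecDepth 100000 in
theorem count16 : ((Finset.range 4096).filter (fun k => popc (encN k) = 16)).card = 759 := by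
  decide +kernel

end Cfsg.Agent.helper27
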