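import Mathlib
import Cfsg.Agent.Lib_helper27_Golay2

set_option autoImplicit false

namespace Cfsg.Agent.helper27

open Cfsg

/-! ### supports of binary words -/

theorem zmod2_ne_zero_iff (a : ZMod 2) : a ≠ 0 ↔ a = 1 := by
  revert a; decide

theorem zmod2_cases (a : ZMod 2) : a = 0 ∨ a = 1 := by
  revert a; decide

theorem mem_support₂ {α : Type*} [Fintype α] (w : α → ZMod 2) (p : α) :
    p ∈ support₂ w ↔ w p ≠ 0 := by
  unfold support₂
  simp

theorem mem_support₂' {α : Type*} [Fintype α] (w : α → ZMod 2) (p : α) :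
    p ∈ support₂ w ↔ w p = 1 := by
  rw [mem_support₂, zmod2_ne_zero_iff]

theorem support₂_injective {α : Type*} [Fintype α] :
    Function.Injective (support₂ : (α → ZMod 2) → Finset α) := by
  intro v w h
  funext p
  have h1 : p ∈ support₂ v ↔ p ∈ support₂ w := by rw [h]
  rw [mem_support₂', mem_support₂'] at h1
  rcases zmod2_cases (v p) with hv | hv <;> rcases zmod2_cases (w p) with hw | hw
  · rw [hv, hw]
  · exact absurd (h1.mpr hw) (by rw [hv]; decide)
  · exact absurd (h1.mp hv) (by rw [hw]; decide)
  · rw [hv, hw]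

theorem support₂_zero {α : Type*} [Fintype α] : support₂ (0 : α → ZMod 2) = ∅ := by
  ext p
  rw [mem_support₂]
  simp

theorem support₂_one {α : Type*} [Fintype α] : support₂ (1 : α → ZMod 2) = Finset.univ := by
  ext p
  rw [mem_support₂]
  simp

theorem support₂_eq_empty_iff {α : Type*} [Fintype α] (w : α → ZMod 2) :
    support₂ w = ∅ ↔ w = 0 := by
  constructor
  · intro h
    apply support₂_injective
    rw [h, support₂_zero]
  · rintro rfl
    exact support₂_zero

theorem support₂_add {α : Type*} [Fintype α] [DecidableEq α] (v w : α → ZMod 2) :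
    support₂ (v + w) = symmDiff (support₂ v) (support₂ w) := by
  ext p
  rw [Finset.mem_symmDiff, mem_support₂', mem_support₂', mem_support₂', Pi.add_apply]
  generalize v p = a
  generalize w p = b
  revert a b
  decide

theorem support₂_mul {α : Type*} [Fintype α] [DecidableEq α] (v w : α → ZMod 2) :
    support₂ (v * w) = support₂ v ∩ support₂ w := by
  ext p
  rw [Finset.mem_inter, mem_support₂', mem_support₂', mem_support₂', Pi.mul_apply]
  generalize v p = a
  generalize w p = b
  revert a b
  decide

theorem support₂_one_add {α : Type*} [Fintype α] [DecidableEq α] (w : α → ZMod 2) :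
    support₂ (1 + w) = (support₂ w)ᶜ := by
  ext p
  rw [Finset.mem_compl, mem_support₂', mem_support₂', Pi.add_apply, Pi.one_apply]
  generalize w p = b
  revert b
  decide

theorem card_symmDiff_add {α : Type*} [DecidableEq α] (s t : Finset α) :
    (symmDiff s t).card + 2 * (s ∩ t).card = s.card + t.card := by
  have h1 : symmDiff s t = (s \ t) ∪ (t \ s) := rfl
  have h2 : Disjoint (s \ t) (t \ s) := by
    rw [Finset.disjoint_left]
    intro x hx hx'
    exact (Finset.mem_sdiff.mp hx).2 (Finset.mem_sdiff.mp hx').1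
  rw [h1, Finset.card_union_of_disjoint h2]
  have h3 := Finset.card_sdiff_add_card_inter s t
  have h4 := Finset.card_sdiff_add_card_inter t s
  rw [Finset.inter_comm t s] at h4
  omega

theorem card_support₂_add {α : Type*} [Fintype α] [DecidableEq α] (v w : α → ZMod 2) :
    (support₂ (v + w)).card + 2 * (support₂ v ∩ support₂ w).card
      = (support₂ v).card + (support₂ w).card := by
  rw [support₂_add]
  exact card_symmDiff_add _ _

theorem hammingNorm_eq_card_support₂ {α : Type*} [Fintype α] (w : α → ZMod 2) :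
    hammingNorm w = (support₂ w).card := by
  unfold hammingNorm support₂
  rfl

/-! ### the code via masks -/

theorem testBit_eq_of_toWord_eq {a b : ℕ} (h : toWord a = toWord b) (p : GolayPt) :
    a.testBit (idx p) = b.testBit (idx p) := by
  have h1 := congrFun h p
  unfold toWord at h1
  revert h1
  cases a.testBit (idx p) <;> cases b.testBit (idx p) <;> simp

theorem exists_idx_eq (i : ℕ) (hi : i < 24) : ∃ p : GolayPt, idx p = i := by
  by_cases h : i < 23
  · exact ⟨some ((⟨i, h⟩ : Fin 23) : ZMod 23), rfl⟩
  · exact ⟨none, by show 23 = i; omega⟩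

theorem toWord_injOn {a b : ℕ} (ha : a < 2 ^ 24) (hb : b < 2 ^ 24) (h : toWord a = toWord b) :
    a = b := by
  apply Nat.eq_of_testBit_eq
  intro i
  by_cases hi : i < 24
  · obtain ⟨p, rfl⟩ := exists_idx_eq i hi
    exact testBit_eq_of_toWord_eq h p
  · have h24 : 2 ^ 24 ≤ 2 ^ i := Nat.pow_le_pow_right (by norm_num) (by omega)
    rw [Nat.testBit_eq_false_of_lt (lt_of_lt_of_le ha h24),
      Nat.testBit_eq_false_of_lt (lt_of_lt_of_le hb h24)]

/-- the support of the `k`-th code word -/
def cw (k : ℕ) : Finset GolayPt := support₂ (toWord (encN k))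

theorem cw_card (k : ℕ) : (cw k).card = popc (encN k) := card_support_toWord _

theorem cw_injOn {j k : ℕ} (hj : j < 4096) (hk : k < 4096) (h : cw j = cw k) : j = k := by
  have h1 : toWord (encN j) = toWord (encN k) := support₂_injective h
  have h2 : encN j = encN k := toWord_injOn (encN_lt j) (encN_lt k) h1
  rw [← encN_mod_eq j hj, ← encN_mod_eq k hk, h2]

theorem supports_golayCode_eq :
    supports (golayCode : Set (GolayPt → ZMod 2)) = cw '' (Finset.range 4096 : Finset ℕ) := by
  ext b
  unfold supports
  constructor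
  · rintro ⟨w, hw, rfl⟩
    obtain ⟨k, hk, rfl⟩ := (mem_golayCode_iff w).mp hw
    exact ⟨k, by simpa using hk, rfl⟩
  · rintro ⟨k, _, rfl⟩
    exact ⟨toWord (encN k), toWord_encN_mem k, rfl⟩

theorem mem_supports_golayCode_iff (b : Finset GolayPt) :
    b ∈ supports (golayCode : Set (GolayPt → ZMod 2)) ↔ ∃ k, k < 4096 ∧ b = cw k := by
  rw [supports_golayCode_eq]
  constructor
  · rintro ⟨k, hk, rfl⟩
    exact ⟨k, by simpa using hk, rfl⟩
  · rintro ⟨k, hk, rfl⟩
    exact ⟨k, by simpa using hk, rfl⟩

/-- the possible weights -/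
theorem golayCode_weight (w : GolayPt → ZMod 2) (hw : w ∈ golayCode) :
    (support₂ w).card = 0 ∨ (support₂ w).card = 8 ∨ (support₂ w).card = 12 ∨
      (support₂ w).card = 16 ∨ (support₂ w).card = 24 := by
  obtain ⟨k, hk, rfl⟩ := (mem_golayCode_iff w).mp hw
  rw [card_support_toWord]
  exact weights_ok k hk

theorem ncard_wordsOfWeight (n : ℕ) :
    (wordsOfWeight (golayCode : Set (GolayPt → ZMod 2)) n).ncard
      = ((Finset.range 4096).filter (fun k => popc (encN k) = n)).card := by
  have h : wordsOfWeight (golayCode : Set (GolayPt → ZMod 2)) n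
      = cw '' (((Finset.range 4096).filter (fun k => popc (encN k) = n) : Finset ℕ) : Set ℕ) := by
    ext b
    unfold wordsOfWeight
    rw [Set.mem_ofPred_eq, mem_supports_golayCode_iff]
    constructor
    · rintro ⟨⟨k, hk, rfl⟩, hc⟩
      refine ⟨k, ?_, rfl⟩
      rw [cw_card] at hc
      simpa using ⟨hk, hc⟩
    · rintro ⟨k, hk, rfl⟩
      have hk' : k < 4096 ∧ popc (encN k) = n := by simpa using hk
      exact ⟨⟨k, hk'.1, rfl⟩, by rw [cw_card]; exact hk'.2⟩
  rw [h, Set.InjOn.ncard_image, Set.ncard_coe_finset]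
  intro j hj k hk hjk
  have hj' : j < 4096 ∧ popc (encN j) = n := by simpa using hj
  have hk' : k < 4096 ∧ popc (encN k) = n := by simpa using hk
  exact cw_injOn hj'.1 hk'.1 hjk

theorem octads_ncard : octads.ncard = 759 := by
  unfold octads
  rw [ncard_wordsOfWeight, count8]

theorem dodecads_ncard : dodecads.ncard = 2576 := by
  unfold dodecads
  rw [ncard_wordsOfWeight, count12]

theorem golayCode_natCard : Nat.card golayCode = 4096 := by
  have h : Nat.card golayCode = Nat.card (Fin 4096) := by
    apply Nat.card_congr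
    symm
    refine Equiv.ofBijective (fun k => ⟨toWord (encN k.val), toWord_encN_mem _⟩) ⟨?_, ?_⟩
    · intro j k hjk
      have h1 : toWord (encN j.val) = toWord (encN k.val) := congrArg Subtype.val hjk
      have h2 : encN j.val = encN k.val := toWord_injOn (encN_lt _) (encN_lt _) h1
      apply Fin.ext
      rw [← encN_mod_eq j.val j.isLt, ← encN_mod_eq k.val k.isLt, h2]
    · rintro ⟨w, hw⟩
      obtain ⟨k, hk, rfl⟩ := (mem_golayCode_iff w).mp hw
      exact ⟨⟨k, hk⟩, rfl⟩
  rw [h, Nat.card_fin]

theorem finrank_golayCode : Module.finrank (ZMod 2) golayCode = 12 := by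
  have h1 := Module.natCard_eq_pow_finrank (K := ZMod 2) (V := golayCode)
  rw [golayCode_natCard, Nat.card_zmod] at h1
  have h2 : (2 : ℕ) ^ 12 = 2 ^ Module.finrank (ZMod 2) golayCode := by
    rw [← h1]; norm_num
  exact (Nat.pow_right_injective (le_refl 2) h2).symm



/-! ### self-orthogonality -/

theorem qrWord_dot_qrWord (s t : ZMod 23) : ∑ i, qrWord s i * qrWord t i = 0 := by
  revert s t
  decide

theorem golayCode_dot (v w : GolayPt → ZMod 2) (hv : v ∈ golayCode) (hw : w ∈ golayCode) :
    ∑ i, v i * w i = 0 := by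
  have key : ∀ t : ZMod 23, ∀ w ∈ golayCode, ∑ i, qrWord t i * w i = 0 := by
    intro t w hw
    unfold golayCode at hw
    induction hw using Submodule.span_induction with
    | mem x hx =>
      rcases hx with ⟨s, rfl⟩ | hx
      · exact qrWord_dot_qrWord t s
      · rw [Set.mem_singleton_iff] at hx
        rw [hx]
        simp only [Pi.one_apply, mul_one]
        exact qrWord_sum t
    | zero => simp
    | add x y _ _ hx hy =>
      simp only [Pi.add_apply, mul_add, Finset.sum_add_distrib, hx, hy, add_zero]
    | smul c x _ hx =>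
      have : ∀ i, qrWord t i * (c • x) i = c * (qrWord t i * x i) := by
        intro i
        simp only [Pi.smul_apply, smul_eq_mul]
        ring
      simp only [this, ← Finset.mul_sum, hx, mul_zero]
  unfold golayCode at hv
  induction hv using Submodule.span_induction with
  | mem x hx =>
    rcases hx with ⟨s, rfl⟩ | hx
    · exact key s w hw
    · rw [Set.mem_singleton_iff] at hx
      rw [hx]
      simp only [Pi.one_apply, one_mul]
      exact golayCode_sum_eq_zero w hw
  | zero => simp
  | add x y _ _ hx hy =>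
    simp only [Pi.add_apply, add_mul, Finset.sum_add_distrib, hx, hy, add_zero]
  | smul c x _ hx =>
    have : ∀ i, (c • x) i * w i = c * (x i * w i) := by
      intro i
      simp only [Pi.smul_apply, smul_eq_mul]
      ring
    simp only [this, ← Finset.mul_sum, hx, mul_zero]

/-! ### closure properties of the family of supports -/

theorem symmDiff_mem_supports {a b : Finset GolayPt}
    (ha : a ∈ supports (golayCode : Set (GolayPt → ZMod 2)))
    (hb : b ∈ supports (golayCode : Set (GolayPt → ZMod 2))) :
    symmDiff a b ∈ supports (golayCode : Set (GolayPt → ZMod 2)) := by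
  obtain ⟨v, hv, rfl⟩ := ha
  obtain ⟨w, hw, rfl⟩ := hb
  exact ⟨v + w, Submodule.add_mem _ hv hw, support₂_add v w⟩

theorem compl_mem_supports {a : Finset GolayPt}
    (ha : a ∈ supports (golayCode : Set (GolayPt → ZMod 2))) :
    aᶜ ∈ supports (golayCode : Set (GolayPt → ZMod 2)) := by
  obtain ⟨v, hv, rfl⟩ := ha
  exact ⟨1 + v, Submodule.add_mem _ ones_mem_golayCode hv, support₂_one_add v⟩

theorem supports_card {a : Finset GolayPt}
    (ha : a ∈ supports (golayCode : Set (GolayPt → ZMod 2))) :
    a.card = 0 ∨ a.card = 8 ∨ a.card = 12 ∨ a.card = 16 ∨ a.card = 24 := by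
  obtain ⟨v, hv, rfl⟩ := ha
  exact golayCode_weight v hv

theorem octads_subset_supports {o : Finset GolayPt} (ho : o ∈ octads) :
    o ∈ supports (golayCode : Set (GolayPt → ZMod 2)) := ho.1

theorem octads_card {o : Finset GolayPt} (ho : o ∈ octads) : o.card = 8 := ho.2

theorem dodecads_subset_supports {o : Finset GolayPt} (ho : o ∈ dodecads) :
    o ∈ supports (golayCode : Set (GolayPt → ZMod 2)) := ho.1

theorem dodecads_card {o : Finset GolayPt} (ho : o ∈ dodecads) : o.card = 12 := ho.2

/-- two octads meet in 0, 2, 4 or 8 points -/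
theorem octads_inter_card {o o' : Finset GolayPt} (ho : o ∈ octads) (ho' : o' ∈ octads) :
    (o ∩ o').card = 0 ∨ (o ∩ o').card = 2 ∨ (o ∩ o').card = 4 ∨ (o ∩ o').card = 8 := by
  have h1 := card_symmDiff_add o o'
  rw [ho.2, ho'.2] at h1
  have h2 := supports_card (symmDiff_mem_supports ho.1 ho'.1)
  omega

/-- two octads sharing five points are equal -/
theorem octads_eq_of_inter {o o' : Finset GolayPt} (ho : o ∈ octads) (ho' : o' ∈ octads)
    (h : 5 ≤ (o ∩ o').card) : o = o' := by
  have h1 := octads_inter_card ho ho'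
  have h2 : (o ∩ o').card = 8 := by omega
  have h3 : o ∩ o' = o := Finset.eq_of_subset_of_card_le Finset.inter_subset_left (by rw [h2, ho.2])
  have h4 : o ∩ o' = o' :=
    Finset.eq_of_subset_of_card_le Finset.inter_subset_right (by rw [h2, ho'.2])
  exact h3.symm.trans h4

/-! ### the Steiner system -/

theorem octads_steiner : IsSteinerSystem 5 8 octads := by
  classical
  refine ⟨fun b hb => hb.2, ?_⟩
  have hfin : octads.Finite := Set.toFinite _
  set O : Finset (Finset GolayPt) := hfin.toFinset with hO
  have hOmem : ∀ o, o ∈ O ↔ o ∈ octads := fun o => Set.Finite.mem_toFinset hfin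
  have hOcard : O.card = 759 := by
    rw [← octads_ncard, Set.ncard_eq_toFinset_card _ hfin]
  have huniq : ∀ s : Finset GolayPt, s.card = 5 → ∀ o ∈ octads, ∀ o' ∈ octads,
      s ⊆ o → s ⊆ o' → o = o' := by
    intro s hs o ho o' ho' hso hso'
    apply octads_eq_of_inter ho ho'
    rw [← hs]
    exact Finset.card_le_card (Finset.subset_inter hso hso')
  have hdisj : ∀ x ∈ O, ∀ y ∈ O, x ≠ y →
      Disjoint (x.powersetCard 5) (y.powersetCard 5) := by
    intro x hx y hy hxy
    rw [Finset.disjoint_left]
    intro s hsx hsy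
    rw [Finset.mem_powersetCard] at hsx hsy
    exact hxy (huniq s hsx.2 x ((hOmem x).mp hx) y ((hOmem y).mp hy) hsx.1 hsy.1)
  have hcard : (O.biUnion (fun o => o.powersetCard 5)).card = 42504 := by
    rw [Finset.card_biUnion hdisj]
    have : ∀ o ∈ O, (o.powersetCard 5).card = 56 := by
      intro o ho
      rw [Finset.card_powersetCard, ((hOmem o).mp ho).2]
      rfl
    rw [Finset.sum_congr rfl this, Finset.sum_const, hOcard]
    rfl
  have hsub : O.biUnion (fun o => o.powersetCard 5)
      ⊆ (Finset.univ : Finset GolayPt).powersetCard 5 := by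
    intro s hs
    rw [Finset.mem_biUnion] at hs
    obtain ⟨o, _, hso⟩ := hs
    rw [Finset.mem_powersetCard] at hso ⊢
    exact ⟨Finset.subset_univ _, hso.2⟩
  have hcard2 : ((Finset.univ : Finset GolayPt).powersetCard 5).card = 42504 := by
    rw [Finset.card_powersetCard]
    rfl
  have heq : O.biUnion (fun o => o.powersetCard 5)
      = (Finset.univ : Finset GolayPt).powersetCard 5 :=
    Finset.eq_of_subset_of_card_le hsub (by rw [hcard, hcard2])
  intro s hs
  have hs' : s ∈ (Finset.univ : Finset GolayPt).powersetCard 5 := by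
    rw [Finset.mem_powersetCard]
    exact ⟨Finset.subset_univ _, hs⟩
  rw [← heq, Finset.mem_biUnion] at hs'
  obtain ⟨o, ho, hso⟩ := hs'
  rw [Finset.mem_powersetCard] at hso
  refine ⟨o, ⟨(hOmem o).mp ho, hso.1⟩, ?_⟩
  rintro o' ⟨ho', hso'⟩
  exact huniq s hs o' ho' o ((hOmem o).mp ho) hso' hso.1

end Cfsg.Agent.helper27
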