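import Mathlib
import Cfsg.Agent.Lib_helper27_Golay3
import Cfsg.Prelude.Def_Spor_Conway

set_option autoImplicit false

namespace Cfsg.Agent.helper27

open Cfsg

/-- the set of positions where `x` is congruent to `k` modulo 4 -/
def cls (k : ℤ) (x : GolayPt → ℤ) : Finset GolayPt :=
  Finset.univ.filter fun i => x i ≡ k [ZMOD 4]

theorem mem_cls (k : ℤ) (x : GolayPt → ℤ) (i : GolayPt) : i ∈ cls k x ↔ x i % 4 = k % 4 := by
  unfold cls
  rw [Finset.mem_filter]
  exact ⟨fun h => h.2, fun h => ⟨Finset.mem_univ _, h⟩⟩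

/-- the family of supports of code words -/
abbrev GS : Set (Finset GolayPt) := supports (golayCode : Set (GolayPt → ZMod 2))

theorem empty_mem_GS : (∅ : Finset GolayPt) ∈ GS := Spor.empty_mem_supports_golayCode
theorem univ_mem_GS : (Finset.univ : Finset GolayPt) ∈ GS := Spor.univ_mem_supports_golayCode

/-- simplified membership criterion for `leechSet` -/
theorem mem_leechSet_iff (x : GolayPt → ℤ) :
    x ∈ leechSet ↔ ∃ m : ℤ, (∀ i, x i % 2 = m % 2) ∧ ((∑ i, x i) % 8 = (4 * m) % 8) ∧
      cls (m + 2) x ∈ GS := by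
  constructor
  · rintro ⟨m, h1, h2, h3⟩
    exact ⟨m, h1, h2, h3 (m + 2)⟩
  · rintro ⟨m, h1, h2, h3⟩
    refine ⟨m, h1, h2, fun k => ?_⟩
    show cls k x ∈ GS
    have hk : (k - m) % 4 = 0 ∨ (k - m) % 4 = 1 ∨ (k - m) % 4 = 2 ∨ (k - m) % 4 = 3 := by omega
    rcases hk with hk | hk | hk | hk
    · have : cls k x = (cls (m + 2) x)ᶜ := by
        ext i
        rw [Finset.mem_compl, mem_cls, mem_cls]
        have := h1 i
        omega
      rw [this]
      exact compl_mem_supports h3
    · have : cls k x = ∅ := by
        ext i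
        rw [mem_cls]
        have := h1 i
        simp only [Finset.notMem_empty, iff_false]
        omega
      rw [this]
      exact empty_mem_GS
    · have : cls k x = cls (m + 2) x := by
        ext i
        rw [mem_cls, mem_cls]
        omega
      rw [this]
      exact h3
    · have : cls k x = ∅ := by
        ext i
        rw [mem_cls]
        have := h1 i
        simp only [Finset.notMem_empty, iff_false]
        omega
      rw [this]
      exact empty_mem_GS

theorem zero_mem_leechSet : (0 : GolayPt → ℤ) ∈ leechSet := by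
  rw [mem_leechSet_iff]
  refine ⟨0, fun i => rfl, by simp, ?_⟩
  have : cls (0 + 2) (0 : GolayPt → ℤ) = ∅ := by
    ext i
    rw [mem_cls]
    simp
  rw [this]
  exact empty_mem_GS

theorem neg_mem_leechSet {x : GolayPt → ℤ} (hx : x ∈ leechSet) : -x ∈ leechSet := by
  rw [mem_leechSet_iff] at hx ⊢
  obtain ⟨m, h1, h2, h3⟩ := hx
  refine ⟨-m, fun i => ?_, ?_, ?_⟩
  · have := h1 i
    simp only [Pi.neg_apply]
    omega
  · simp only [Pi.neg_apply, Finset.sum_neg_distrib]
    omega
  · have : cls (-m + 2) (-x) = cls (m + 2) x := by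
      ext i
      rw [mem_cls, mem_cls]
      simp only [Pi.neg_apply]
      omega
    rw [this]
    exact h3

theorem add_mem_leechSet {x y : GolayPt → ℤ} (hx : x ∈ leechSet) (hy : y ∈ leechSet) :
    x + y ∈ leechSet := by
  rw [mem_leechSet_iff] at hx hy ⊢
  obtain ⟨m, h1, h2, h3⟩ := hx
  obtain ⟨m', h1', h2', h3'⟩ := hy
  refine ⟨m + m', fun i => ?_, ?_, ?_⟩
  · have := h1 i
    have := h1' i
    simp only [Pi.add_apply]
    omega
  · simp only [Pi.add_apply, Finset.sum_add_distrib]
    omega
  · have : cls (m + m' + 2) (x + y) = symmDiff (cls (m + 2) x) (cls (m' + 2) y) := by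
      ext i
      rw [Finset.mem_symmDiff, mem_cls, mem_cls, mem_cls]
      have := h1 i
      have := h1' i
      simp only [Pi.add_apply]
      omega
    rw [this]
    exact symmDiff_mem_supports h3 h3'

/-- `leechSet` as an additive subgroup -/
def leechSub : AddSubgroup (GolayPt → ℤ) where
  carrier := leechSet
  zero_mem' := zero_mem_leechSet
  add_mem' := add_mem_leechSet
  neg_mem' := neg_mem_leechSet

theorem leechLattice_eq : leechLattice = leechSub := by
  unfold leechLattice
  exact AddSubgroup.closure_eq leechSub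

theorem mem_leechLattice_iff (x : GolayPt → ℤ) : x ∈ leechLattice ↔ x ∈ leechSet := by
  rw [leechLattice_eq]
  rfl

end Cfsg.Agent.helper27
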