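import Mathlib
import Cfsg.Agent.Lib_helper27_Leech

set_option autoImplicit false

namespace Cfsg.Agent.helper27

open Cfsg

theorem card_golayPt : Fintype.card GolayPt = 24 := by
  simp [GolayPt]

theorem sq_even_dvd (x : ℤ) (h : x % 2 = 0) :
    (16 : ℤ) ∣ x ^ 2 - 4 * (if x % 4 = 2 % 4 then 1 else 0) := by
  have h4 : x % 4 = 0 ∨ x % 4 = 2 := by omega
  rcases h4 with h4 | h4
  · obtain ⟨b, rfl⟩ : ∃ b, x = 4 * b := ⟨x / 4, by omega⟩
    rw [if_neg (by omega)]
    exact ⟨b ^ 2, by ring⟩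
  · obtain ⟨b, rfl⟩ : ∃ b, x = 4 * b + 2 := ⟨x / 4, by omega⟩
    rw [if_pos (by omega)]
    exact ⟨b ^ 2 + b, by ring⟩

theorem sq_odd_dvd (x : ℤ) (h : x % 2 = 1) :
    (16 : ℤ) ∣ x ^ 2 - 2 * x + 4 * (if x % 4 = 1 % 4 then 1 else 0) - 3 := by
  have h4 : x % 4 = 1 ∨ x % 4 = 3 := by omega
  rcases h4 with h4 | h4
  · obtain ⟨b, rfl⟩ : ∃ b, x = 4 * b + 1 := ⟨x / 4, by omega⟩
    rw [if_pos (by omega)]
    exact ⟨b ^ 2, by ring⟩
  · obtain ⟨b, rfl⟩ : ∃ b, x = 4 * b + 3 := ⟨x / 4, by omega⟩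
    rw [if_neg (by omega)]
    exact ⟨b ^ 2 + b, by ring⟩

theorem card_cls_eq_sum (k : ℤ) (x : GolayPt → ℤ) :
    ((cls k x).card : ℤ) = ∑ i, (if x i % 4 = k % 4 then (1 : ℤ) else 0) := by
  unfold cls
  rw [Finset.card_filter]
  push_cast
  rfl

theorem sqNorm_even_aux (x : GolayPt → ℤ) (h : ∀ i, x i % 2 = 0) :
    (16 : ℤ) ∣ sqNorm x - 4 * (cls 2 x).card := by
  have h1 : sqNorm x - 4 * (cls 2 x).card
      = ∑ i, (x i ^ 2 - 4 * (if x i % 4 = 2 % 4 then 1 else 0)) := by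
    rw [card_cls_eq_sum, Finset.sum_sub_distrib, ← Finset.mul_sum]
    rfl
  rw [h1]
  exact Finset.dvd_sum (fun i _ => sq_even_dvd (x i) (h i))

theorem sqNorm_odd_aux (x : GolayPt → ℤ) (h : ∀ i, x i % 2 = 1) :
    (16 : ℤ) ∣ sqNorm x - 2 * (∑ i, x i) + 4 * (cls 1 x).card - 72 := by
  have h1 : sqNorm x - 2 * (∑ i, x i) + 4 * (cls 1 x).card - 72
      = ∑ i, (x i ^ 2 - 2 * x i + 4 * (if x i % 4 = 1 % 4 then 1 else 0) - 3) := by
    rw [card_cls_eq_sum, Finset.sum_sub_distrib, Finset.sum_add_distrib, Finset.sum_sub_distrib,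
      ← Finset.mul_sum, ← Finset.mul_sum, Finset.sum_const, Finset.card_univ, card_golayPt]
    simp only [sqNorm]
    norm_num
  rw [h1]
  exact Finset.dvd_sum (fun i _ => sq_odd_dvd (x i) (h i))

theorem card_cls_mod_four {x : GolayPt → ℤ} (hx : x ∈ leechSet) (k : ℤ) :
    (cls k x).card % 4 = 0 := by
  obtain ⟨m, h1, h2, h3⟩ := hx
  have := supports_card (h3 k)
  have h : (cls k x).card = (Finset.univ.filter fun i => x i ≡ k [ZMOD 4]).card := rfl
  omega

theorem sixteen_dvd_sqNorm {x : GolayPt → ℤ} (hx : x ∈ leechSet) : (16 : ℤ) ∣ sqNorm x := by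
  have hc1 := card_cls_mod_four hx 1
  have hc2 := card_cls_mod_four hx 2
  obtain ⟨m, h1, h2, h3⟩ := hx
  have hm : m % 2 = 0 ∨ m % 2 = 1 := by omega
  rcases hm with hm | hm
  · have ha := sqNorm_even_aux x (fun i => by have := h1 i; unfold Int.ModEq at this; omega)
    omega
  · have ha := sqNorm_odd_aux x (fun i => by have := h1 i; unfold Int.ModEq at this; omega)
    unfold Int.ModEq at h2
    omega



theorem sqNorm_nonneg (x : GolayPt → ℤ) : 0 ≤ sqNorm x :=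
  Finset.sum_nonneg (fun i _ => sq_nonneg (x i))

theorem sqNorm_pos {x : GolayPt → ℤ} (h0 : x ≠ 0) : 0 < sqNorm x := by
  have : ∃ j, x j ≠ 0 := by
    by_contra hcon
    simp only [not_exists, not_not] at hcon
    exact h0 (funext hcon)
  obtain ⟨j, hj⟩ := this
  have h1 : x j ^ 2 ≤ sqNorm x :=
    Finset.single_le_sum (f := fun i => x i ^ 2) (fun i _ => sq_nonneg (x i)) (Finset.mem_univ j)
  have h2 : 0 < x j ^ 2 := by positivity
  omega

theorem sqNorm_eq_zero_iff (x : GolayPt → ℤ) : sqNorm x = 0 ↔ x = 0 := by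
  constructor
  · intro h
    by_contra h0
    have := sqNorm_pos h0
    omega
  · rintro rfl
    simp [sqNorm]

theorem sq_ge_four_of_mod (a : ℤ) : 4 * (if a % 4 = 2 % 4 then 1 else 0) ≤ a ^ 2 := by
  split_ifs with h
  · have h1 : a ≥ 2 ∨ a ≤ -2 := by omega
    rcases h1 with h1 | h1 <;> nlinarith
  · have := sq_nonneg a
    omega

theorem sq_ge_one_of_odd (a : ℤ) (h : a % 2 = 1) : 1 ≤ a ^ 2 := by
  have h1 : a ≥ 1 ∨ a ≤ -1 := by omega
  rcases h1 with h1 | h1 <;> nlinarith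

theorem sq_sub_dvd_of_mod_four (a : ℤ) (h : a % 4 = 0) : (32 : ℤ) ∣ a ^ 2 - 4 * a := by
  have h8 : a % 8 = 0 ∨ a % 8 = 4 := by omega
  rcases h8 with h8 | h8
  · obtain ⟨c, rfl⟩ : ∃ c, a = 8 * c := ⟨a / 8, by omega⟩
    exact ⟨2 * c ^ 2 - c, by ring⟩
  · obtain ⟨c, rfl⟩ : ∃ c, a = 8 * c + 4 := ⟨a / 8, by omega⟩
    exact ⟨2 * c ^ 2 + c, by ring⟩

theorem four_card_cls_le (x : GolayPt → ℤ) : 4 * ((cls 2 x).card : ℤ) ≤ sqNorm x := by
  rw [card_cls_eq_sum, Finset.mul_sum]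
  exact Finset.sum_le_sum (fun i _ => sq_ge_four_of_mod (x i))

theorem sqNorm_ge_of_odd (x : GolayPt → ℤ) (h : ∀ i, x i % 2 = 1) : 24 ≤ sqNorm x := by
  have h1 : ∑ _i : GolayPt, (1 : ℤ) ≤ sqNorm x :=
    Finset.sum_le_sum (fun i _ => sq_ge_one_of_odd (x i) (h i))
  rw [Finset.sum_const, Finset.card_univ, card_golayPt] at h1
  simpa using h1

theorem sqNorm_mod_four_aux (x : GolayPt → ℤ) (h : ∀ i, x i % 4 = 0) :
    (32 : ℤ) ∣ sqNorm x - 4 * ∑ i, x i := by
  have h1 : sqNorm x - 4 * ∑ i, x i = ∑ i, (x i ^ 2 - 4 * x i) := by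
    rw [Finset.sum_sub_distrib, ← Finset.mul_sum]
    rfl
  rw [h1]
  exact Finset.dvd_sum (fun i _ => sq_sub_dvd_of_mod_four (x i) (h i))

/-- the minimal norm -/
theorem min_sqNorm {x : GolayPt → ℤ} (hx : x ∈ leechSet) (h0 : x ≠ 0) : 32 ≤ sqNorm x := by
  have h16 := sixteen_dvd_sqNorm hx
  have hpos := sqNorm_pos h0
  have hc2 := card_cls_mod_four hx 2
  obtain ⟨m, h1, h2, h3⟩ := hx
  unfold Int.ModEq at h2
  have hm : m % 2 = 0 ∨ m % 2 = 1 := by omega
  rcases hm with hm | hm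
  · by_cases hc : (cls 2 x).card = 0
    · have h4 : ∀ i, x i % 4 = 0 := by
        intro i
        have hi : i ∉ cls 2 x := by
          rw [Finset.card_eq_zero] at hc
          rw [hc]
          exact Finset.notMem_empty i
        rw [mem_cls] at hi
        have := h1 i
        unfold Int.ModEq at this
        omega
      have := sqNorm_mod_four_aux x h4
      omega
    · have hcard := supports_card (h3 2)
      have hh : (cls 2 x).card = (Finset.univ.filter fun i => x i ≡ 2 [ZMOD 4]).card := rfl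
      have := four_card_cls_le x
      omega
  · have := sqNorm_ge_of_odd x (fun i => by have := h1 i; unfold Int.ModEq at this; omega)
    omega



theorem min_sqNorm_lattice {x : GolayPt → ℤ} (hx : x ∈ leechLattice) (h0 : x ≠ 0) :
    32 ≤ sqNorm x :=
  min_sqNorm ((mem_leechLattice_iff x).mp hx) h0

theorem sixteen_dvd_sqNorm_lattice {x : GolayPt → ℤ} (hx : x ∈ leechLattice) :
    (16 : ℤ) ∣ sqNorm x :=
  sixteen_dvd_sqNorm ((mem_leechLattice_iff x).mp hx)

theorem sqNorm_two_smul (z : GolayPt → ℤ) : sqNorm (2 • z) = 4 * sqNorm z := by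
  unfold sqNorm
  rw [Finset.mul_sum]
  refine Finset.sum_congr rfl (fun i _ => ?_)
  simp only [Pi.smul_apply, smul_eq_mul]
  ring

theorem sqNorm_neg (z : GolayPt → ℤ) : sqNorm (-z) = sqNorm z := by
  unfold sqNorm
  refine Finset.sum_congr rfl (fun i _ => ?_)
  simp only [Pi.neg_apply]
  ring

theorem sqNorm_parallelogram (v w : GolayPt → ℤ) :
    sqNorm (v - w) + sqNorm (v + w) = 2 * sqNorm v + 2 * sqNorm w := by
  unfold sqNorm
  rw [Finset.mul_sum, Finset.mul_sum, ← Finset.sum_add_distrib, ← Finset.sum_add_distrib]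
  refine Finset.sum_congr rfl (fun i _ => ?_)
  simp only [Pi.sub_apply, Pi.add_apply]
  ring

/-- short vectors congruent modulo `2Λ` -/
theorem short_vectors_mod_two (v w : GolayPt → ℤ) (hv : v ∈ leechLattice) (hw : w ∈ leechLattice)
    (hvn : sqNorm v ≤ 64) (hwn : sqNorm w ≤ 64)
    (hc : ∃ z ∈ leechLattice, v - w = 2 • z) :
    w = v ∨ w = -v ∨ (sqNorm v = 64 ∧ sqNorm w = 64) := by
  by_cases h1 : w = v
  · exact Or.inl h1
  by_cases h2 : w = -v
  · exact Or.inr (Or.inl h2)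
  refine Or.inr (Or.inr ?_)
  obtain ⟨z, hz, hvz⟩ := hc
  have hz0 : z ≠ 0 := by
    rintro rfl
    apply h1
    have : v - w = 0 := by rw [hvz]; simp
    exact (sub_eq_zero.mp this).symm
  have hz' : z + w ∈ leechLattice := leechLattice.add_mem hz hw
  have hvz' : v + w = 2 • (z + w) := by
    have : v = 2 • z + w := by rw [← hvz]; abel
    rw [this]
    simp only [smul_add, two_smul]
    abel
  have hz0' : z + w ≠ 0 := by
    intro h
    apply h2
    have : v + w = 0 := by rw [hvz', h]; simp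
    exact (neg_eq_of_add_eq_zero_right this).symm
  have n1 := min_sqNorm_lattice hz hz0
  have n2 := min_sqNorm_lattice hz' hz0'
  have e1 : sqNorm (v - w) = 4 * sqNorm z := by rw [hvz, sqNorm_two_smul]
  have e2 : sqNorm (v + w) = 4 * sqNorm (z + w) := by rw [hvz', sqNorm_two_smul]
  have e3 := sqNorm_parallelogram v w
  omega

end Cfsg.Agent.helper27
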