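import Mathlib
import Cfsg.Agent.Lib_helper27_Leech2

set_option autoImplicit false

namespace Cfsg.Agent.helper27

open Cfsg
open scoped Pointwise

theorem smul_mem_GS {σ : Equiv.Perm GolayPt} (hσ : σ ∈ M24) {b : Finset GolayPt} (hb : b ∈ GS) :
    σ • b ∈ GS := by
  have h : σ • GS = GS := hσ
  rw [← h]
  exact Set.smul_mem_smul_set hb

theorem cls_comp_perm (σ : Equiv.Perm GolayPt) (k : ℤ) (x : GolayPt → ℤ) :
    cls k (fun i => x (σ i)) = σ⁻¹ • cls k x := by
  ext i
  rw [Finset.mem_inv_smul_finset_iff, mem_cls, mem_cls]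
  rfl

/-- coordinate permutations from `M24` preserve the lattice -/
theorem perm_mem_leechSet {σ : Equiv.Perm GolayPt} (hσ : σ ∈ M24) {x : GolayPt → ℤ}
    (hx : x ∈ leechSet) : (fun i => x (σ i)) ∈ leechSet := by
  rw [mem_leechSet_iff] at hx ⊢
  obtain ⟨m, h1, h2, h3⟩ := hx
  refine ⟨m, fun i => h1 (σ i), ?_, ?_⟩
  · rw [Equiv.sum_comp σ x]
    exact h2
  · rw [cls_comp_perm]
    exact smul_mem_GS (inv_mem hσ) h3

theorem inter_card_even_of_GS {a b : Finset GolayPt} (ha : a ∈ GS) (hb : b ∈ GS) :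
    (a ∩ b).card % 2 = 0 := by
  have h1 := card_symmDiff_add a b
  have h2 := supports_card ha
  have h3 := supports_card hb
  have h4 := supports_card (symmDiff_mem_supports ha hb)
  omega

theorem sum_on_GS_mod_four {x : GolayPt → ℤ} {m : ℤ} (h1 : ∀ i, x i % 2 = m % 2)
    (h3 : cls (m + 2) x ∈ GS) {c : Finset GolayPt} (hc : c ∈ GS) :
    (∑ i ∈ c, x i) % 4 = 0 := by
  classical
  have hpt : ∀ i, (4 : ℤ) ∣ x i - (m + 2 * (if i ∈ cls (m + 2) x then 1 else 0)) := by
    intro i
    have := h1 i
    by_cases hi : i ∈ cls (m + 2) x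
    · rw [if_pos hi]
      rw [mem_cls] at hi
      omega
    · rw [if_neg hi]
      rw [mem_cls] at hi
      omega
  have hd : (4 : ℤ) ∣ ∑ i ∈ c, (x i - (m + 2 * (if i ∈ cls (m + 2) x then 1 else 0))) :=
    Finset.dvd_sum (fun i _ => hpt i)
  rw [Finset.sum_sub_distrib, Finset.sum_add_distrib, Finset.sum_const, ← Finset.mul_sum,
    Finset.sum_boole] at hd
  have he : (c.filter fun i => i ∈ cls (m + 2) x) = c ∩ cls (m + 2) x := by
    ext i
    simp
  rw [he] at hd
  have hc4 := supports_card hc
  have hev := inter_card_even_of_GS hc h3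
  simp only [nsmul_eq_mul] at hd
  have hc4' : (4 : ℤ) ∣ (c.card : ℤ) * m := by
    have : (4 : ℤ) ∣ (c.card : ℤ) := by omega
    exact Dvd.dvd.mul_right this m
  have hev' : (4 : ℤ) ∣ 2 * ((c ∩ cls (m + 2) x).card : ℤ) := by omega
  obtain ⟨d, hd'⟩ := hd
  obtain ⟨a, ha⟩ := hc4'
  obtain ⟨b, hb⟩ := hev'
  omega



/-- sign changes on the support of a code word preserve the lattice -/
theorem signchange_mem_leechSet {c : Finset GolayPt} (hc : c ∈ GS) {x : GolayPt → ℤ}
    (hx : x ∈ leechSet) : (fun i => if i ∈ c then -x i else x i) ∈ leechSet := by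
  classical
  rw [mem_leechSet_iff] at hx ⊢
  obtain ⟨m, h1, h2, h3⟩ := hx
  have hsum4 := sum_on_GS_mod_four h1 h3 hc
  have hsum : ∑ i, (if i ∈ c then -x i else x i) = ∑ i, x i - 2 * ∑ i ∈ c, x i := by
    have : ∀ i, (if i ∈ c then -x i else x i) = x i - 2 * (if i ∈ c then x i else 0) := by
      intro i
      split_ifs <;> ring
    rw [Finset.sum_congr rfl (fun i _ => this i), Finset.sum_sub_distrib, ← Finset.mul_sum,
      Finset.sum_ite_mem, Finset.univ_inter]
  refine ⟨m, fun i => ?_, ?_, ?_⟩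
  · have := h1 i
    show (if i ∈ c then -x i else x i) % 2 = m % 2
    split_ifs <;> omega
  · rw [hsum]
    omega
  · have hm : m % 2 = 0 ∨ m % 2 = 1 := by omega
    rcases hm with hm | hm
    · have : cls (m + 2) (fun i => if i ∈ c then -x i else x i) = cls (m + 2) x := by
        ext i
        rw [mem_cls, mem_cls]
        have := h1 i
        show (if i ∈ c then -x i else x i) % 4 = (m + 2) % 4 ↔ _
        split_ifs <;> omega
      rw [this]
      exact h3
    · have : cls (m + 2) (fun i => if i ∈ c then -x i else x i)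
          = symmDiff (cls (m + 2) x) c := by
        ext i
        rw [Finset.mem_symmDiff, mem_cls, mem_cls]
        have := h1 i
        show (if i ∈ c then -x i else x i) % 4 = (m + 2) % 4 ↔ _
        by_cases hi : i ∈ c
        · rw [if_pos hi]
          simp only [hi, not_true_eq_false, and_false, true_and, false_or]
          omega
        · rw [if_neg hi]
          simp only [hi, not_false_eq_true, and_true, false_and, or_false]
      rw [this]
      exact symmDiff_mem_supports h3 hc

theorem perm_mem_leechLattice {σ : Equiv.Perm GolayPt} (hσ : σ ∈ M24) {x : GolayPt → ℤ}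
    (hx : x ∈ leechLattice) : (fun i => x (σ i)) ∈ leechLattice := by
  rw [mem_leechLattice_iff] at hx ⊢
  exact perm_mem_leechSet hσ hx

theorem signchange_mem_leechLattice {c : Finset GolayPt} (hc : c ∈ GS) {x : GolayPt → ℤ}
    (hx : x ∈ leechLattice) : (fun i => if i ∈ c then -x i else x i) ∈ leechLattice := by
  rw [mem_leechLattice_iff] at hx ⊢
  exact signchange_mem_leechSet hc hx

end Cfsg.Agent.helper27
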