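import Mathlib
import Cfsg.Agent.Lib_helper27_Leech3

set_option autoImplicit false

namespace Cfsg.Agent.helper27

open Cfsg

theorem intCast_zmod2_eq_zero_iff (n : ℤ) : ((n : ℤ) : ZMod 2) = 0 ↔ n % 2 = 0 := by
  rw [ZMod.intCast_zmod_eq_zero_iff_dvd]
  constructor
  · intro h; omega
  · intro h; omega

theorem intCast_zmod2_eq_one_iff (n : ℤ) : ((n : ℤ) : ZMod 2) = 1 ↔ n % 2 = 1 := by
  have h1 := intCast_zmod2_eq_zero_iff n
  rcases zmod2_cases ((n : ℤ) : ZMod 2) with h | h
  · rw [h]
    have := h1.mp h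
    constructor
    · intro h'; exact absurd h' (by decide)
    · intro h'; omega
  · rw [h]
    constructor
    · intro _
      by_contra hcon
      have : n % 2 = 0 := by omega
      rw [h1.mpr this] at h
      exact absurd h (by decide)
    · intro _; rfl

/-- the word of "second bits" of a vector, normalised at the point at infinity -/
def uword (x : GolayPt → ℤ) : GolayPt → ZMod 2 := fun i => (((x i - x none) / 2 : ℤ) : ZMod 2)

def theta (x : GolayPt → ℤ) : GolayPt → ZMod 2 := fun i => uword x i + ((x none : ℤ) : ZMod 2)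

theorem theta_add {x y : GolayPt → ℤ} (hx : ∀ i, x i % 2 = x none % 2)
    (hy : ∀ i, y i % 2 = y none % 2) : theta (x + y) = theta x + theta y := by
  funext i
  simp only [theta, uword, Pi.add_apply]
  have h1 : (x i + y i - (x none + y none)) / 2 = (x i - x none) / 2 + (y i - y none) / 2 := by
    have := hx i
    have := hy i
    omega
  rw [h1]
  push_cast
  ring

theorem support₂_uword {x : GolayPt → ℤ} (hx : ∀ i, x i % 2 = x none % 2) :
    support₂ (uword x) = cls (x none + 2) x := by
  ext i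
  rw [mem_support₂', mem_cls]
  unfold uword
  rw [intCast_zmod2_eq_one_iff]
  have := hx i
  omega

theorem const_mem_golayCode (a : ZMod 2) : (fun _ : GolayPt => a) ∈ golayCode := by
  have : (fun _ : GolayPt => a) = a • (1 : GolayPt → ZMod 2) := by
    funext i
    simp
  rw [this]
  exact Submodule.smul_mem _ _ ones_mem_golayCode

theorem parity_of_mem_leechSet {x : GolayPt → ℤ} (hx : x ∈ leechSet) :
    ∀ i, x i % 2 = x none % 2 := by
  obtain ⟨m, h1, _, _⟩ := hx
  intro i
  have := h1 i
  have := h1 none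
  unfold Int.ModEq at *
  omega

theorem uword_mem {x : GolayPt → ℤ} (hx : x ∈ leechSet) : uword x ∈ golayCode := by
  have hp := parity_of_mem_leechSet hx
  obtain ⟨m, h1, h2, h3⟩ := hx
  obtain ⟨w, hw, hws⟩ := h3 (x none + 2)
  have : w = uword x := by
    apply support₂_injective
    rw [hws, support₂_uword hp]
    rfl
  rw [← this]
  exact hw

theorem theta_mem {x : GolayPt → ℤ} (hx : x ∈ leechSet) : theta x ∈ golayCode := by
  have : theta x = uword x + fun _ => ((x none : ℤ) : ZMod 2) := rfl
  rw [this]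
  exact Submodule.add_mem _ (uword_mem hx) (const_mem_golayCode _)

theorem theta_eq_zero_iff {x : GolayPt → ℤ} (hx : ∀ i, x i % 2 = x none % 2) :
    theta x = 0 ↔ x none % 2 = 0 ∧ ∀ i, x i % 4 = x none % 4 := by
  constructor
  · intro h
    have h0 : x none % 2 = 0 := by
      have := congrFun h none
      simp only [theta, uword, sub_self, Pi.zero_apply] at this
      norm_num at this
      exact (intCast_zmod2_eq_zero_iff _).mp this
    refine ⟨h0, fun i => ?_⟩
    have := congrFun h i
    simp only [theta, uword, Pi.zero_apply] at this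
    rw [(intCast_zmod2_eq_zero_iff (x none)).mpr h0, add_zero, intCast_zmod2_eq_zero_iff] at this
    have := hx i
    omega
  · rintro ⟨h0, h4⟩
    funext i
    simp only [theta, uword, Pi.zero_apply]
    rw [(intCast_zmod2_eq_zero_iff (x none)).mpr h0, add_zero, intCast_zmod2_eq_zero_iff]
    have := h4 i
    omega



/-- twice the integer lift of a binary word -/
def lift2 (c : GolayPt → ZMod 2) : GolayPt → ℤ := fun i => 2 * ((c i).val : ℤ)

theorem zmod2_val_cases (a : ZMod 2) : (a = 0 ∧ a.val = 0) ∨ (a = 1 ∧ a.val = 1) := by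
  revert a; decide

theorem sum_val_eq_card (c : GolayPt → ZMod 2) :
    ∑ i, ((c i).val : ℤ) = (support₂ c).card := by
  unfold support₂
  rw [Finset.card_filter]
  push_cast
  refine Finset.sum_congr rfl (fun i _ => ?_)
  rcases zmod2_val_cases (c i) with ⟨h1, h2⟩ | ⟨h1, h2⟩ <;> rw [h2] <;> simp [h1]

theorem cls_two_lift2 (c : GolayPt → ZMod 2) : cls 2 (lift2 c) = support₂ c := by
  ext i
  rw [mem_cls, mem_support₂']
  unfold lift2
  rcases zmod2_val_cases (c i) with ⟨h1, h2⟩ | ⟨h1, h2⟩ <;> rw [h2] <;> simp [h1]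

theorem lift2_mem_leechSet {c : GolayPt → ZMod 2} (hc : c ∈ golayCode) :
    lift2 c ∈ leechSet := by
  rw [mem_leechSet_iff]
  refine ⟨0, fun i => ?_, ?_, ?_⟩
  · unfold lift2; omega
  · have h1 : ∑ i, lift2 c i = 2 * ∑ i, ((c i).val : ℤ) := by
      unfold lift2
      rw [Finset.mul_sum]
    rw [h1, sum_val_eq_card]
    have := golayCode_weight c hc
    omega
  · rw [zero_add, cls_two_lift2]
    exact ⟨c, hc, rfl⟩

theorem theta_lift2 {c : GolayPt → ZMod 2} (h0 : c none = 0) : theta (lift2 c) = c := by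
  funext i
  simp only [theta, uword, lift2, h0, ZMod.val_zero, Nat.cast_zero, mul_zero, sub_zero,
    Int.cast_zero, add_zero]
  rw [Int.mul_ediv_cancel_left _ (by norm_num : (2 : ℤ) ≠ 0)]
  simp

theorem theta_vecV : theta Spor.vecV = 1 := by
  funext i
  simp only [theta, uword, Spor.vecV, Pi.one_apply]
  rcases i with _ | a
  · simp
    decide
  · simp
    decide



theorem parity_of_mem_leechLattice {x : GolayPt → ℤ} (hx : x ∈ leechLattice) :
    ∀ i, x i % 2 = x none % 2 :=
  parity_of_mem_leechSet ((mem_leechLattice_iff x).mp hx)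

/-- the homomorphism from the lattice onto the code with kernel `2Λ + 4D₂₄` -/
noncomputable def thetaHom : leechLattice →+ golayCode :=
  AddMonoidHom.mk' (fun x => ⟨theta x.1, theta_mem ((mem_leechLattice_iff _).mp x.2)⟩) (by
    intro x y
    apply Subtype.ext
    exact theta_add (parity_of_mem_leechLattice x.2) (parity_of_mem_leechLattice y.2))

theorem thetaHom_apply (x : leechLattice) : (thetaHom x : GolayPt → ZMod 2) = theta x.1 := rfl

theorem thetaHom_surjective : Function.Surjective thetaHom := by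
  rintro ⟨c, hc⟩
  rcases zmod2_cases (c none) with h0 | h1
  · refine ⟨⟨lift2 c, (mem_leechLattice_iff _).mpr (lift2_mem_leechSet hc)⟩, ?_⟩
    apply Subtype.ext
    exact theta_lift2 h0
  · have hc' : c + 1 ∈ golayCode := Submodule.add_mem _ hc ones_mem_golayCode
    have h0' : (c + 1) none = 0 := by
      rw [Pi.add_apply, h1]
      decide
    refine ⟨⟨Spor.vecV + lift2 (c + 1), leechLattice.add_mem
      ((mem_leechLattice_iff _).mpr Spor.vecV_mem_leechSet)
      ((mem_leechLattice_iff _).mpr (lift2_mem_leechSet hc'))⟩, ?_⟩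
    apply Subtype.ext
    show theta (Spor.vecV + lift2 (c + 1)) = c
    rw [theta_add (parity_of_mem_leechSet Spor.vecV_mem_leechSet)
      (parity_of_mem_leechSet (lift2_mem_leechSet hc')), theta_vecV, theta_lift2 h0']
    funext i
    simp only [Pi.add_apply, Pi.one_apply]
    generalize c i = a
    revert a
    decide

theorem mem_ker_thetaHom_iff (x : leechLattice) :
    x ∈ thetaHom.ker ↔ x.1 none % 2 = 0 ∧ ∀ i, x.1 i % 4 = x.1 none % 4 := by
  rw [AddMonoidHom.mem_ker, ← theta_eq_zero_iff (parity_of_mem_leechLattice x.2)]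
  constructor
  · intro h
    have := congrArg Subtype.val h
    exact this
  · intro h
    apply Subtype.ext
    exact h

theorem sq_mod_of_two (a : ℤ) (h : a % 4 = 2) : (32 : ℤ) ∣ a ^ 2 - 4 := by
  obtain ⟨b, rfl⟩ : ∃ b, a = 4 * b + 2 := ⟨a / 4, by omega⟩
  have h2 : b % 2 = 0 ∨ b % 2 = 1 := by omega
  rcases h2 with h2 | h2
  · obtain ⟨c, rfl⟩ : ∃ c, b = 2 * c := ⟨b / 2, by omega⟩
    exact ⟨2 * c ^ 2 + c, by ring⟩
  · obtain ⟨c, rfl⟩ : ∃ c, b = 2 * c + 1 := ⟨b / 2, by omega⟩
    exact ⟨2 * c ^ 2 + 3 * c + 1, by ring⟩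

theorem sqNorm_mod_two_aux (x : GolayPt → ℤ) (h : ∀ i, x i % 4 = 2) :
    (32 : ℤ) ∣ sqNorm x - 96 := by
  have h1 : sqNorm x - 96 = ∑ i, (x i ^ 2 - 4) := by
    rw [Finset.sum_sub_distrib, Finset.sum_const, Finset.card_univ, card_golayPt]
    simp only [sqNorm]
    norm_num
  rw [h1]
  exact Finset.dvd_sum (fun i _ => sq_mod_of_two (x i) (h i))

theorem exists_index_two_pow_twelve : ∃ A : AddSubgroup (GolayPt → ℤ), A ≤ leechLattice ∧
    (∀ v ∈ leechLattice, (2 : ℤ) • v ∈ A) ∧
    (A.addSubgroupOf leechLattice).index = 2 ^ 12 ∧ ∀ v ∈ A, (32 : ℤ) ∣ sqNorm v := by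
  refine ⟨thetaHom.ker.map leechLattice.subtype, AddSubgroup.map_subtype_le _, ?_, ?_, ?_⟩
  · intro v hv
    have h2v : (2 : ℤ) • v ∈ leechLattice := leechLattice.zsmul_mem hv 2
    refine ⟨⟨(2 : ℤ) • v, h2v⟩, ?_, rfl⟩
    rw [SetLike.mem_coe, mem_ker_thetaHom_iff]
    have hp := parity_of_mem_leechLattice hv
    constructor
    · show ((2 : ℤ) • v) none % 2 = 0
      simp only [Pi.smul_apply, smul_eq_mul]
      omega
    · intro i
      show ((2 : ℤ) • v) i % 4 = ((2 : ℤ) • v) none % 4
      simp only [Pi.smul_apply, smul_eq_mul]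
      have := hp i
      omega
  · have h1 : (thetaHom.ker.map leechLattice.subtype).addSubgroupOf leechLattice
        = thetaHom.ker :=
      AddSubgroup.comap_map_eq_self_of_injective (AddSubgroup.subtype_injective _) _
    rw [h1, AddSubgroup.index_ker]
    have h2 : (thetaHom.range : Set golayCode) = Set.univ := by
      ext c
      simp only [AddMonoidHom.coe_range, Set.mem_range, Set.mem_univ, iff_true]
      exact thetaHom_surjective c
    have h3 : Nat.card thetaHom.range = Nat.card golayCode := by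
      rw [← SetLike.coe_sort_coe, h2, Nat.card_congr (Equiv.Set.univ _)]
    rw [h3, golayCode_natCard]
    norm_num
  · rintro v ⟨x, hx, rfl⟩
    rw [SetLike.mem_coe, mem_ker_thetaHom_iff] at hx
    obtain ⟨h0, h4⟩ := hx
    have hxl : x.1 ∈ leechSet := (mem_leechLattice_iff _).mp x.2
    show (32 : ℤ) ∣ sqNorm x.1
    have hcase : x.1 none % 4 = 0 ∨ x.1 none % 4 = 2 := by omega
    rcases hcase with hc | hc
    · have h5 := sqNorm_mod_four_aux x.1 (fun i => by rw [h4 i, hc])
      obtain ⟨m, h1, h2, h3⟩ := hxl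
      have := h1 none
      unfold Int.ModEq at *
      omega
    · have h5 := sqNorm_mod_two_aux x.1 (fun i => by rw [h4 i, hc])
      omega

end Cfsg.Agent.helper27
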