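import Mathlib
import Cfsg.Agent.Lib_helper27_Leech4

set_option autoImplicit false

namespace Cfsg.Agent.helper27

open Cfsg

theorem index_ker_of_surjective {G H : Type*} [AddGroup G] [AddGroup H] (f : G →+ H)
    (hf : Function.Surjective f) : f.ker.index = Nat.card H := by
  rw [AddSubgroup.index_ker]
  have h2 : (f.range : Set H) = Set.univ := by
    ext c
    simp only [AddMonoidHom.coe_range, Set.mem_range, Set.mem_univ, iff_true]
    exact hf c
  rw [← SetLike.coe_sort_coe, h2, Nat.card_congr (Equiv.Set.univ _)]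

/-! ### step 1: vectors with all coordinates of the same parity -/

/-- parity differences -/
def parHom : (GolayPt → ℤ) →+ (ZMod 23 → ZMod 2) :=
  AddMonoidHom.mk' (fun x a => (((x (some a) - x none : ℤ)) : ZMod 2)) (by
    intro x y
    funext a
    simp only [Pi.add_apply]
    push_cast
    ring)

theorem parHom_surjective : Function.Surjective parHom := by
  intro w
  refine ⟨fun p => match p with | none => 0 | some a => ((w a).val : ℤ), ?_⟩
  funext a
  show ((((w a).val : ℤ) - 0 : ℤ) : ZMod 2) = w a
  simp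

/-- the vectors all of whose coordinates have the same parity -/
def evenOdd : AddSubgroup (GolayPt → ℤ) := parHom.ker

theorem mem_evenOdd_iff (x : GolayPt → ℤ) : x ∈ evenOdd ↔ ∀ i, x i % 2 = x none % 2 := by
  unfold evenOdd
  rw [AddMonoidHom.mem_ker]
  constructor
  · intro h i
    rcases i with _ | a
    · rfl
    · have := congrFun h a
      have h2 : (((x (some a) - x none : ℤ)) : ZMod 2) = 0 := this
      rw [intCast_zmod2_eq_zero_iff] at h2
      omega
  · intro h
    funext a
    show (((x (some a) - x none : ℤ)) : ZMod 2) = 0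
    rw [intCast_zmod2_eq_zero_iff]
    have := h (some a)
    omega

theorem evenOdd_index : evenOdd.index = 2 ^ 23 := by
  unfold evenOdd
  rw [index_ker_of_surjective parHom parHom_surjective, Nat.card_eq_fintype_card,
    Fintype.card_fun, ZMod.card, ZMod.card]

/-! ### step 2 -/

/-- `theta` as a homomorphism on `evenOdd` -/
noncomputable def thetaE : evenOdd →+ (GolayPt → ZMod 2) :=
  AddMonoidHom.mk' (fun x => theta x.1) (by
    intro x y
    exact theta_add ((mem_evenOdd_iff _).mp x.2) ((mem_evenOdd_iff _).mp y.2))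

theorem theta_ones : theta (1 : GolayPt → ℤ) = 1 := by
  funext i
  simp [theta, uword]

theorem lift2_mem_evenOdd (c : GolayPt → ZMod 2) : lift2 c ∈ evenOdd := by
  rw [mem_evenOdd_iff]
  intro i
  unfold lift2
  omega

theorem ones_mem_evenOdd : (1 : GolayPt → ℤ) ∈ evenOdd := by
  rw [mem_evenOdd_iff]
  intro i
  rfl

theorem thetaE_surjective : Function.Surjective thetaE := by
  intro w
  rcases zmod2_cases (w none) with h0 | h1
  · exact ⟨⟨lift2 w, lift2_mem_evenOdd w⟩, theta_lift2 h0⟩
  · have h0' : (w + 1) none = 0 := by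
      rw [Pi.add_apply, h1]
      decide
    refine ⟨⟨lift2 (w + 1) + 1, evenOdd.add_mem (lift2_mem_evenOdd _) ones_mem_evenOdd⟩, ?_⟩
    show theta (lift2 (w + 1) + 1) = w
    rw [theta_add ((mem_evenOdd_iff _).mp (lift2_mem_evenOdd _))
      ((mem_evenOdd_iff _).mp ones_mem_evenOdd), theta_lift2 h0', theta_ones]
    funext i
    simp only [Pi.add_apply, Pi.one_apply]
    generalize w i = a
    revert a
    decide

theorem golayCode_index : golayCode.toAddSubgroup.index = 2 ^ 12 := by
  have h1 := AddSubgroup.index_mul_card golayCode.toAddSubgroup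
  have h2 : Nat.card golayCode.toAddSubgroup = 2 ^ 12 := by
    have : Nat.card golayCode.toAddSubgroup = Nat.card golayCode := rfl
    rw [this, golayCode_natCard]
    norm_num
  have h3 : Nat.card (GolayPt → ZMod 2) = 2 ^ 24 := by
    rw [Nat.card_eq_fintype_card, Fintype.card_fun, ZMod.card, card_golayPt]
  rw [h2, h3] at h1
  have : (2 : ℕ) ^ 24 = 2 ^ 12 * 2 ^ 12 := by norm_num
  rw [this] at h1
  exact Nat.eq_of_mul_eq_mul_right (by norm_num) h1

/-- the vectors of `evenOdd` whose word of second bits is a code word -/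
noncomputable def preLeechE : AddSubgroup evenOdd := golayCode.toAddSubgroup.comap thetaE

theorem preLeechE_index : preLeechE.index = 2 ^ 12 := by
  unfold preLeechE
  rw [AddSubgroup.index_comap_of_surjective _ thetaE_surjective, golayCode_index]

noncomputable def preLeech : AddSubgroup (GolayPt → ℤ) := preLeechE.map evenOdd.subtype

theorem preLeech_le : preLeech ≤ evenOdd := AddSubgroup.map_subtype_le _

theorem mem_preLeech_iff (x : GolayPt → ℤ) :
    x ∈ preLeech ↔ (∀ i, x i % 2 = x none % 2) ∧ theta x ∈ golayCode := by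
  constructor
  · rintro ⟨y, hy, rfl⟩
    exact ⟨(mem_evenOdd_iff _).mp y.2, hy⟩
  · rintro ⟨h1, h2⟩
    exact ⟨⟨x, (mem_evenOdd_iff _).mpr h1⟩, h2, rfl⟩

theorem preLeech_relIndex : preLeech.relIndex evenOdd = 2 ^ 12 := by
  have h1 : preLeech.addSubgroupOf evenOdd = preLeechE :=
    AddSubgroup.comap_map_eq_self_of_injective (AddSubgroup.subtype_injective _) _
  unfold AddSubgroup.relIndex
  rw [h1, preLeechE_index]



/-! ### step 3 -/

theorem theta_mem_iff_uword_mem (x : GolayPt → ℤ) :
    theta x ∈ golayCode ↔ uword x ∈ golayCode := by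
  have h : theta x = uword x + fun _ => ((x none : ℤ) : ZMod 2) := rfl
  rw [h]
  constructor
  · intro h1
    have := Submodule.sub_mem _ h1 (const_mem_golayCode ((x none : ℤ) : ZMod 2))
    simpa using this
  · intro h1
    exact Submodule.add_mem _ h1 (const_mem_golayCode _)

theorem cls_mem_GS_of_mem_preLeech {x : GolayPt → ℤ} (hx : x ∈ preLeech) :
    cls (x none + 2) x ∈ GS := by
  rw [mem_preLeech_iff, theta_mem_iff_uword_mem] at hx
  rw [← support₂_uword hx.1]
  exact ⟨uword x, hx.2, rfl⟩

theorem sum_mod_four_of_mem_preLeech {x : GolayPt → ℤ} (hx : x ∈ preLeech) :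
    (∑ i, x i) % 4 = 0 :=
  sum_on_GS_mod_four ((mem_preLeech_iff x).mp hx).1 (cls_mem_GS_of_mem_preLeech hx) univ_mem_GS

/-- the last bit of the coordinate sum -/
noncomputable def sumHom : preLeech →+ ZMod 2 :=
  AddMonoidHom.mk' (fun x => ((((∑ i, x.1 i) - 4 * x.1 none) / 4 : ℤ) : ZMod 2)) (by
    intro x y
    have hx := sum_mod_four_of_mem_preLeech x.2
    have hy := sum_mod_four_of_mem_preLeech y.2
    have h1 : ∑ i, (x + y).1 i = ∑ i, x.1 i + ∑ i, y.1 i := by
      rw [← Finset.sum_add_distrib]
      rfl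
    have h2 : (x + y).1 none = x.1 none + y.1 none := rfl
    have h3 : ((∑ i, x.1 i + ∑ i, y.1 i) - 4 * (x.1 none + y.1 none)) / 4
        = ((∑ i, x.1 i) - 4 * x.1 none) / 4 + ((∑ i, y.1 i) - 4 * y.1 none) / 4 := by
      omega
    rw [h1, h2, h3]
    push_cast
    rfl)

theorem sumHom_apply (x : preLeech) :
    sumHom x = ((((∑ i, x.1 i) - 4 * x.1 none) / 4 : ℤ) : ZMod 2) := rfl

theorem leechLattice_le_preLeech : leechLattice ≤ preLeech := by
  intro x hx
  rw [mem_leechLattice_iff] at hx
  rw [mem_preLeech_iff]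
  exact ⟨parity_of_mem_leechSet hx, theta_mem hx⟩

theorem mem_leechSet_iff_sumHom (x : preLeech) : x.1 ∈ leechSet ↔ sumHom x = 0 := by
  rw [sumHom_apply, intCast_zmod2_eq_zero_iff]
  have h4 := sum_mod_four_of_mem_preLeech x.2
  have hp := ((mem_preLeech_iff x.1).mp x.2).1
  constructor
  · rintro ⟨m, h1, h2, _⟩
    have := h1 none
    unfold Int.ModEq at *
    omega
  · intro h
    rw [mem_leechSet_iff]
    refine ⟨x.1 none, hp, ?_, cls_mem_GS_of_mem_preLeech x.2⟩
    omega

def fourInf : GolayPt → ℤ := fun p => if p = none then 4 else 0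

theorem fourInf_mem_preLeech : fourInf ∈ preLeech := by
  rw [mem_preLeech_iff]
  refine ⟨fun i => ?_, ?_⟩
  · unfold fourInf
    split_ifs <;> rfl
  · have : theta fourInf = 0 := by
      funext i
      simp only [theta, uword, fourInf, Pi.zero_apply]
      rcases i with _ | a
      · simp
        decide
      · simp
        decide
    rw [this]
    exact Submodule.zero_mem _

theorem sumHom_fourInf : sumHom ⟨fourInf, fourInf_mem_preLeech⟩ = 1 := by
  rw [sumHom_apply]
  have h1 : ∑ i, fourInf i = 4 := by
    unfold fourInf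
    rw [Finset.sum_ite_eq' Finset.univ none (fun _ => (4 : ℤ))]
    simp
  show ((((∑ i, fourInf i) - 4 * fourInf none) / 4 : ℤ) : ZMod 2) = 1
  rw [h1]
  simp only [fourInf, if_true]
  decide

theorem sumHom_surjective : Function.Surjective sumHom := by
  intro a
  rcases zmod2_cases a with rfl | rfl
  · exact ⟨0, map_zero _⟩
  · exact ⟨_, sumHom_fourInf⟩

theorem leechLattice_relIndex : leechLattice.relIndex preLeech = 2 := by
  have h1 : leechLattice.addSubgroupOf preLeech = sumHom.ker := by
    ext x
    rw [AddSubgroup.mem_addSubgroupOf, AddMonoidHom.mem_ker, mem_leechLattice_iff]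
    exact mem_leechSet_iff_sumHom x
  unfold AddSubgroup.relIndex
  rw [h1, index_ker_of_surjective sumHom sumHom_surjective, Nat.card_zmod]

theorem leechLattice_index : leechLattice.index = 2 ^ 36 := by
  rw [← AddSubgroup.relIndex_mul_index leechLattice_le_preLeech,
    ← AddSubgroup.relIndex_mul_index preLeech_le, leechLattice_relIndex, preLeech_relIndex,
    evenOdd_index]
  norm_num

end Cfsg.Agent.helper27
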