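import Mathlib
import Cfsg.Agent.Lib_helper27_Leech5

set_option autoImplicit false

namespace Cfsg.Agent.helper27

open Cfsg

/-! ### induction over the code: generated by octads under symmetric difference -/

theorem support₂_toWord_xor (a b : ℕ) :
    support₂ (toWord (a ^^^ b)) = symmDiff (support₂ (toWord a)) (support₂ (toWord b)) := by
  rw [toWord_xor, support₂_add]

theorem GS_induction (T : Finset GolayPt → Prop) (h0 : T ∅) (ho : ∀ o ∈ octads, T o)
    (hs : ∀ a b, T a → T b → T (symmDiff a b)) : ∀ b ∈ GS, T b := by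
  have hbit : ∀ (bit : Bool) (m : ℕ), toWord m ∈ golayCode → popc m = 8 →
      T (support₂ (toWord (bit.toNat * m))) := by
    intro bit m hm hp
    cases bit
    · simp only [Bool.toNat_false, zero_mul, toWord_zero, support₂_zero]
      exact h0
    · simp only [Bool.toNat_true, one_mul]
      exact ho _ ⟨⟨_, hm, rfl⟩, by rw [card_support_toWord, hp]⟩
  intro b hb
  obtain ⟨k, _, rfl⟩ := (mem_supports_golayCode_iff b).mp hb
  unfold cw
  rw [encN_eq]
  simp only [support₂_toWord_xor]
  refine hs _ _ (hs _ _ (hs _ _ (hs _ _ (hs _ _ (hs _ _ (hs _ _ (hs _ _ (hs _ _ (hs _ _ (hs _ _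
    ?_ ?_) ?_) ?_) ?_) ?_) ?_) ?_) ?_) ?_) ?_) ?_
  · exact hbit _ _ rb_mem_0 (by decide)
  · exact hbit _ _ rb_mem_1 (by decide)
  · exact hbit _ _ rb_mem_2 (by decide)
  · exact hbit _ _ rb_mem_3 (by decide)
  · exact hbit _ _ rb_mem_4 (by decide)
  · exact hbit _ _ rb_mem_5 (by decide)
  · exact hbit _ _ rb_mem_6 (by decide)
  · exact hbit _ _ rb_mem_7 (by decide)
  · exact hbit _ _ rb_mem_8 (by decide)
  · exact hbit _ _ rb_mem_9 (by decide)
  · exact hbit _ _ rb_mem_10 (by decide)
  · exact hbit _ _ rb_mem_11 (by decide)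



/-! ### explicit minimal vectors -/

theorem sqNorm_add (v w : GolayPt → ℤ) :
    sqNorm (v + w) = sqNorm v + sqNorm w + 2 * dotInt v w := by
  unfold sqNorm dotInt
  rw [Finset.mul_sum, ← Finset.sum_add_distrib, ← Finset.sum_add_distrib]
  refine Finset.sum_congr rfl (fun i _ => ?_)
  simp only [Pi.add_apply]
  ring

theorem sqNorm_sub (v w : GolayPt → ℤ) :
    sqNorm (v - w) = sqNorm v + sqNorm w - 2 * dotInt v w := by
  unfold sqNorm dotInt
  rw [Finset.mul_sum, ← Finset.sum_add_distrib, ← Finset.sum_sub_distrib]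
  refine Finset.sum_congr rfl (fun i _ => ?_)
  simp only [Pi.sub_apply]
  ring


/-- the vector with 2 on a set and 0 elsewhere -/
def twoOn (o : Finset GolayPt) : GolayPt → ℤ := fun i => if i ∈ o then 2 else 0

theorem sum_twoOn (o : Finset GolayPt) : ∑ i, twoOn o i = 2 * o.card := by
  unfold twoOn
  rw [Finset.sum_ite_mem, Finset.univ_inter, Finset.sum_const]
  simp [mul_comm]

theorem sqNorm_twoOn (o : Finset GolayPt) : sqNorm (twoOn o) = 4 * o.card := by
  unfold sqNorm twoOn
  have : ∀ i : GolayPt, (if i ∈ o then (2 : ℤ) else 0) ^ 2 = if i ∈ o then 4 else 0 := by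
    intro i
    split_ifs <;> norm_num
  rw [Finset.sum_congr rfl (fun i _ => this i), Finset.sum_ite_mem, Finset.univ_inter,
    Finset.sum_const]
  simp [mul_comm]

theorem cls_two_twoOn (o : Finset GolayPt) : cls 2 (twoOn o) = o := by
  ext i
  rw [mem_cls]
  unfold twoOn
  split_ifs with h <;> simp [h]

theorem twoOn_mem_leechSet {o : Finset GolayPt} (ho : o ∈ octads) : twoOn o ∈ leechSet := by
  rw [mem_leechSet_iff]
  refine ⟨0, fun i => ?_, ?_, ?_⟩
  · unfold twoOn
    split_ifs <;> rfl
  · rw [sum_twoOn, ho.2]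
    rfl
  · rw [zero_add, cls_two_twoOn]
    exact ho.1

/-- the vector `(-3, 1, ..., 1)` -/
def vec3 : GolayPt → ℤ := fun p => if p = none then -3 else 1

theorem vec3_mem_leechSet : vec3 ∈ leechSet :=
  Spor.mem_leechSet_of_const_mod_four vec3 1 1 (by decide) (by decide) (by decide)

theorem sqNorm_vec3 : sqNorm vec3 = 32 := by decide

theorem sqNorm_single (i : GolayPt) (c : ℤ) : sqNorm (Pi.single i c) = c ^ 2 := by
  unfold sqNorm
  have : ∀ p : GolayPt, (Pi.single i c : GolayPt → ℤ) p ^ 2 = if p = i then c ^ 2 else 0 := by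
    intro p
    rw [Pi.single_apply]
    split_ifs <;> simp
  rw [Finset.sum_congr rfl (fun p _ => this p), Finset.sum_ite_eq' Finset.univ i]
  simp

theorem dotInt_single_single {i j : GolayPt} (h : i ≠ j) (a b : ℤ) :
    dotInt (Pi.single i a) (Pi.single j b) = 0 := by
  unfold dotInt
  apply Finset.sum_eq_zero
  intro p _
  rw [Pi.single_apply, Pi.single_apply]
  by_cases hp : p = i
  · have : p ≠ j := fun hj => h (hp.symm.trans hj)
    simp [this]
  · simp [hp]

/-- the vector with `a` at `i`, `b` at `j` -/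
def pair4 (i j : GolayPt) (a b : ℤ) : GolayPt → ℤ := Pi.single i a + Pi.single j b

theorem sqNorm_pair4 {i j : GolayPt} (h : i ≠ j) (a b : ℤ) :
    sqNorm (pair4 i j a b) = a ^ 2 + b ^ 2 := by
  unfold pair4
  rw [sqNorm_add, sqNorm_single, sqNorm_single, dotInt_single_single h]
  ring

theorem sum_single (i : GolayPt) (c : ℤ) : ∑ p, (Pi.single i c : GolayPt → ℤ) p = c := by
  rw [Finset.sum_pi_single']
  simp

theorem pair4_mem_leechSet (i j : GolayPt) {a b : ℤ} (ha : a % 4 = 0) (hb : b % 4 = 0)
    (hab : (a + b) % 8 = 0) : pair4 i j a b ∈ leechSet := by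
  apply Spor.mem_leechSet_of_const_mod_four _ 0 0 rfl
  · intro p
    unfold pair4
    simp only [Pi.add_apply, Pi.single_apply]
    unfold Int.ModEq
    split_ifs <;> omega
  · unfold pair4
    simp only [Pi.add_apply, Finset.sum_add_distrib, sum_single]
    unfold Int.ModEq
    omega



/-! ### the lattice is generated by its minimal vectors -/

/-- the subgroup generated by the minimal vectors -/
def minGen : AddSubgroup (GolayPt → ℤ) :=
  AddSubgroup.closure {x | x ∈ leechLattice ∧ sqNorm x = 32}

theorem minGen_le : minGen ≤ leechLattice :=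
  (AddSubgroup.closure_le _).mpr (fun _ hx => hx.1)

theorem mem_minGen_of {x : GolayPt → ℤ} (hx : x ∈ leechSet) (hn : sqNorm x = 32) :
    x ∈ minGen :=
  AddSubgroup.subset_closure ⟨(mem_leechLattice_iff x).mpr hx, hn⟩

theorem pair4_mem_minGen {i j : GolayPt} (h : i ≠ j) {a b : ℤ} (ha : a = 4 ∨ a = -4)
    (hb : b = 4 ∨ b = -4) : pair4 i j a b ∈ minGen := by
  apply mem_minGen_of
  · apply pair4_mem_leechSet <;> rcases ha with rfl | rfl <;> rcases hb with rfl | rfl <;> rfl
  · rw [sqNorm_pair4 h]
    rcases ha with rfl | rfl <;> rcases hb with rfl | rfl <;> rfl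

theorem single_diff_mem (p : GolayPt) :
    (Pi.single p 4 - Pi.single none 4 : GolayPt → ℤ) ∈ minGen := by
  by_cases hp : p = none
  · rw [hp, sub_self]
    exact minGen.zero_mem
  · have h := pair4_mem_minGen hp (Or.inl rfl) (Or.inr rfl) (a := 4) (b := -4)
    unfold pair4 at h
    rw [Pi.single_neg, ← sub_eq_add_neg] at h
    exact h

theorem eight_mem : (Pi.single none 8 : GolayPt → ℤ) ∈ minGen := by
  have hne : (none : GolayPt) ≠ some 0 := by decide
  have h1 := pair4_mem_minGen hne (Or.inl rfl) (Or.inl rfl) (a := 4) (b := 4)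
  have h2 := pair4_mem_minGen hne (Or.inl rfl) (Or.inr rfl) (a := 4) (b := -4)
  have h3 := minGen.add_mem h1 h2
  have : pair4 none (some 0) 4 4 + pair4 none (some 0) 4 (-4) = Pi.single none 8 := by
    unfold pair4
    rw [Pi.single_neg]
    have : (Pi.single none 8 : GolayPt → ℤ) = Pi.single none 4 + Pi.single none 4 := by
      rw [← Pi.single_add]
      norm_num
    rw [this]
    abel
  rw [this] at h3
  exact h3

theorem mem_minGen_of_mod_four {x : GolayPt → ℤ} (h4 : ∀ i, x i % 4 = 0)
    (h8 : (∑ i, x i) % 8 = 0) : x ∈ minGen := by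
  have hsum : ∑ p, x p = 4 * ∑ p, x p / 4 := by
    rw [Finset.mul_sum]
    refine Finset.sum_congr rfl (fun p _ => ?_)
    have := h4 p
    omega
  have hdec : x = ∑ p, (x p / 4) • (Pi.single p 4 - Pi.single none 4 : GolayPt → ℤ)
      + ((∑ p, x p / 4) / 2) • (Pi.single none 8 : GolayPt → ℤ) := by
    funext q
    simp only [Pi.add_apply, Finset.sum_apply, Pi.smul_apply, Pi.sub_apply, Pi.single_apply,
      smul_eq_mul, mul_sub, Finset.sum_sub_distrib, mul_ite, mul_zero, Finset.sum_ite_eq,
      Finset.mem_univ, if_true]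
    have hq := h4 q
    by_cases hqn : q = none
    · simp only [hqn, if_true]
      rw [← Finset.sum_mul]
      subst hqn
      omega
    · simp only [hqn, if_false, Finset.sum_const_zero]
      omega
  rw [hdec]
  refine minGen.add_mem (minGen.sum_mem (fun p _ => ?_)) ?_
  · exact minGen.zsmul_mem (single_diff_mem p) _
  · exact minGen.zsmul_mem eight_mem _



theorem exists_even_minGen {b : Finset GolayPt} (hb : b ∈ GS) :
    ∃ g ∈ minGen, (∀ i, g i % 2 = 0) ∧ cls 2 g = b := by
  refine GS_induction (fun b => ∃ g ∈ minGen, (∀ i, g i % 2 = 0) ∧ cls 2 g = b) ?_ ?_ ?_ b hb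
  · refine ⟨0, minGen.zero_mem, fun i => rfl, ?_⟩
    ext i
    rw [mem_cls]
    simp
  · intro o ho
    refine ⟨twoOn o, mem_minGen_of (twoOn_mem_leechSet ho) ?_, fun i => ?_, cls_two_twoOn o⟩
    · rw [sqNorm_twoOn, ho.2]
      rfl
    · unfold twoOn
      split_ifs <;> rfl
  · rintro a b ⟨g, hg, hge, rfl⟩ ⟨g', hg', hge', rfl⟩
    refine ⟨g + g', minGen.add_mem hg hg', fun i => ?_, ?_⟩
    · have := hge i
      have := hge' i
      simp only [Pi.add_apply]
      omega
    · ext i
      rw [Finset.mem_symmDiff, mem_cls, mem_cls, mem_cls]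
      have := hge i
      have := hge' i
      simp only [Pi.add_apply]
      omega

theorem mem_minGen_of_even {x : GolayPt → ℤ} (hx : x ∈ leechSet) (he : ∀ i, x i % 2 = 0) :
    x ∈ minGen := by
  have hx' := hx
  obtain ⟨m, h1, h2, h3⟩ := hx
  obtain ⟨g, hg, hge, hgc⟩ := exists_even_minGen (h3 2)
  have hgl : g ∈ leechSet := (mem_leechLattice_iff g).mp (minGen_le hg)
  obtain ⟨m', h1', h2', _⟩ := hgl
  have hd : x - g ∈ minGen := by
    apply mem_minGen_of_mod_four
    · intro i
      have hi : i ∈ cls 2 g ↔ i ∈ cls 2 x := by rw [hgc]; rfl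
      rw [mem_cls, mem_cls] at hi
      have := he i
      have := hge i
      simp only [Pi.sub_apply]
      omega
    · simp only [Pi.sub_apply, Finset.sum_sub_distrib]
      have := h1 none
      have := h1' none
      have := he none
      have := hge none
      unfold Int.ModEq at *
      omega
  have : x = (x - g) + g := by abel
  rw [this]
  exact minGen.add_mem hd hg

theorem minGen_eq : minGen = leechLattice := by
  apply le_antisymm minGen_le
  intro x hx
  rw [mem_leechLattice_iff] at hx
  have hp := parity_of_mem_leechSet hx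
  have hcase : x none % 2 = 0 ∨ x none % 2 = 1 := by omega
  rcases hcase with hc | hc
  · exact mem_minGen_of_even hx (fun i => by rw [hp i, hc])
  · have hv : vec3 ∈ minGen := mem_minGen_of vec3_mem_leechSet sqNorm_vec3
    have hd : x - vec3 ∈ leechSet := by
      have := add_mem_leechSet hx (neg_mem_leechSet vec3_mem_leechSet)
      rwa [← sub_eq_add_neg] at this
    have he : ∀ i, (x - vec3) i % 2 = 0 := by
      intro i
      have := hp i
      simp only [Pi.sub_apply, vec3]
      split_ifs <;> omega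
    have : x = (x - vec3) + vec3 := by abel
    rw [this]
    exact minGen.add_mem (mem_minGen_of_even hd he) hv

end Cfsg.Agent.helper27
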