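import Mathlib
import Cfsg.Agent.Lib_helper27_Golay3

set_option autoImplicit false

namespace Cfsg.Agent.helper27

open Cfsg

theorem wperm_injective (σ : Equiv.Perm GolayPt) : Function.Injective (wperm σ) := by
  intro v w h
  have h1 : wperm σ⁻¹ (wperm σ v) = wperm σ⁻¹ (wperm σ w) := by rw [h]
  rwa [← wperm_mul, ← wperm_mul, inv_mul_cancel, wperm_one, wperm_one] at h1

/-- a permutation mapping the code into itself lies in `M24` -/
theorem mem_M24_of_preserves_one (σ : Equiv.Perm GolayPt)
    (h : ∀ w ∈ golayCode, wperm σ w ∈ golayCode) : σ ∈ M24 := by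
  apply mem_M24_of_preserves σ h
  let f : golayCode → golayCode := fun w => ⟨wperm σ w.1, h w.1 w.2⟩
  have hinj : Function.Injective f := by
    intro v w hvw
    apply Subtype.ext
    exact wperm_injective σ (congrArg Subtype.val hvw)
  have hsurj : Function.Surjective f := Finite.injective_iff_surjective.mp hinj
  intro w hw
  obtain ⟨v, hv⟩ := hsurj ⟨w, hw⟩
  have h1 : wperm σ v.1 = w := congrArg Subtype.val hv
  rw [← h1, ← wperm_mul, inv_mul_cancel, wperm_one]
  exact v.2

/-- the information bits of a word, as a number below 4096 -/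
def infoK (w : GolayPt → ZMod 2) : ℕ :=
  (w (some 0)).val + (w (some 1)).val * 2 + (w (some 2)).val * 4 + (w (some 3)).val * 8 +
  (w (some 4)).val * 16 + (w (some 5)).val * 32 + (w (some 6)).val * 64 +
  (w (some 7)).val * 128 + (w (some 8)).val * 256 + (w (some 9)).val * 512 +
  (w (some 10)).val * 1024 + (w (some 11)).val * 2048

/-- a sufficient (and computable) membership criterion -/
theorem mem_golayCode_of_reenc (w : GolayPt → ZMod 2) (h : w = toWord (encN (infoK w))) :
    w ∈ golayCode := by
  rw [h]
  exact toWord_encN_mem _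

theorem projInv_qrWord (t : ZMod 23) :
    wperm projInv (qrWord t) = toWord (encN (infoK (wperm projInv (qrWord t)))) := by
  revert t
  decide

theorem projInv_mem_M24 : projInv ∈ M24 := by
  apply mem_M24_of_preserves_one
  apply wperm_mem_of_gens
  intro t
  exact mem_golayCode_of_reenc _ (projInv_qrWord t)

theorem cubeTwist_qrWord (t : ZMod 23) :
    (fun p => qrWord t (cubeTwistFun p))
      = toWord (encN (infoK (fun p => qrWord t (cubeTwistFun p)))) := by
  revert t
  decide

theorem cubeTwist_mem_M24 : cubeTwist ∈ M24 := by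
  rw [← inv_mem_iff]
  apply mem_M24_of_preserves_one
  apply wperm_mem_of_gens
  intro t
  have h : wperm cubeTwist⁻¹ (qrWord t) = fun p => qrWord t (cubeTwistFun p) := by
    funext p
    show qrWord t ((cubeTwist⁻¹).symm p) = _
    rfl
  rw [h]
  exact mem_golayCode_of_reenc _ (cubeTwist_qrWord t)

end Cfsg.Agent.helper27
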