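import Mathlib
import Cfsg.Agent.Lib_helper27_Leech5
import Cfsg.Agent.Lib_helper27_M24
import Cfsg.Prelude.Def_SporadicCombinatorics
import Cfsg.Prelude.Def_Spor_Mathieu

set_option autoImplicit false

namespace Cfsg.Agent.helper27

open Cfsg
open scoped Pointwise

/-- inverse of a signed permutation -/
def signedPermInv (σ : Equiv.Perm GolayPt) (c : Finset GolayPt) (y : GolayPt → ℤ) :
    GolayPt → ℤ :=
  fun j => if σ j ∈ c then -y (σ j) else y (σ j)

theorem signedPermInv_signedPerm (σ : Equiv.Perm GolayPt) (c : Finset GolayPt)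
    (x : GolayPt → ℤ) : signedPermInv σ c (signedPerm σ c x) = x := by
  funext j
  unfold signedPermInv signedPerm
  split_ifs <;> simp

theorem signedPerm_signedPermInv (σ : Equiv.Perm GolayPt) (c : Finset GolayPt)
    (y : GolayPt → ℤ) : signedPerm σ c (signedPermInv σ c y) = y := by
  funext j
  unfold signedPermInv signedPerm
  simp only [Equiv.apply_symm_apply]
  split_ifs <;> simp

theorem signedPerm_mem {σ : Equiv.Perm GolayPt} (hσ : σ ∈ M24) {c : Finset GolayPt}
    (hc : c ∈ GS) {x : GolayPt → ℤ} (hx : x ∈ leechLattice) :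
    signedPerm σ c x ∈ leechLattice := by
  have h1 : (fun i => x (σ⁻¹ i)) ∈ leechLattice := perm_mem_leechLattice (inv_mem hσ) hx
  exact signchange_mem_leechLattice hc h1

theorem signedPermInv_mem {σ : Equiv.Perm GolayPt} (hσ : σ ∈ M24) {c : Finset GolayPt}
    (hc : c ∈ GS) {y : GolayPt → ℤ} (hy : y ∈ leechLattice) :
    signedPermInv σ c y ∈ leechLattice := by
  have h1 := signchange_mem_leechLattice hc hy
  exact perm_mem_leechLattice hσ h1

theorem signedPerm_add (σ : Equiv.Perm GolayPt) (c : Finset GolayPt) (x y : GolayPt → ℤ) :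
    signedPerm σ c (x + y) = signedPerm σ c x + signedPerm σ c y := by
  funext i
  unfold signedPerm
  simp only [Pi.add_apply]
  split_ifs <;> ring

theorem sqNorm_signedPerm (σ : Equiv.Perm GolayPt) (c : Finset GolayPt) (x : GolayPt → ℤ) :
    sqNorm (signedPerm σ c x) = sqNorm x := by
  unfold sqNorm
  have h : ∀ i, signedPerm σ c x i ^ 2 = (fun j => x j ^ 2) (σ.symm i) := by
    intro i
    unfold signedPerm
    split_ifs <;> ring
  rw [Finset.sum_congr rfl (fun i _ => h i)]
  exact Equiv.sum_comp σ.symm (fun j => x j ^ 2)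

/-- the element of `Co0` given by a signed permutation from the monomial group -/
def monoPerm (σ : Equiv.Perm GolayPt) (hσ : σ ∈ M24) (c : Finset GolayPt) (hc : c ∈ GS) :
    Equiv.Perm leechLattice where
  toFun x := ⟨signedPerm σ c x.1, signedPerm_mem hσ hc x.2⟩
  invFun y := ⟨signedPermInv σ c y.1, signedPermInv_mem hσ hc y.2⟩
  left_inv x := Subtype.ext (signedPermInv_signedPerm σ c x.1)
  right_inv y := Subtype.ext (signedPerm_signedPermInv σ c y.1)

theorem monoPerm_mem_Co0 (σ : Equiv.Perm GolayPt) (hσ : σ ∈ M24) (c : Finset GolayPt)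
    (hc : c ∈ GS) : monoPerm σ hσ c hc ∈ Co0 := by
  refine ⟨fun v w => ?_, fun v => ?_⟩
  · apply Subtype.ext
    exact signedPerm_add σ c v.1 w.1
  · exact sqNorm_signedPerm σ c v.1

theorem monoPerm_apply (σ : Equiv.Perm GolayPt) (hσ : σ ∈ M24) (c : Finset GolayPt)
    (hc : c ∈ GS) (x : leechLattice) :
    ((monoPerm σ hσ c hc x : leechLattice) : GolayPt → ℤ) = signedPerm σ c x.1 := rfl

/-- negation as an element of `Co0` -/
def negPerm : Equiv.Perm leechLattice := Equiv.neg _

theorem negPerm_mem_Co0 : negPerm ∈ Co0 := by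
  refine ⟨fun v w => ?_, fun v => ?_⟩
  · show -(v + w) = -v + -w
    abel
  · show sqNorm (-(v : GolayPt → ℤ)) = _
    exact sqNorm_neg _



/-! ### `Co0` does not split over its centre -/

theorem squareDodecad_mem_GS : Spor.squareDodecad ∈ GS :=
  ⟨qrWord 0, qrWord_mem_golayCode 0, rfl⟩

theorem projInv_squareDodecad (i : GolayPt) :
    projInv i ∈ Spor.squareDodecad ↔ ¬ i ∈ Spor.squareDodecad := by
  revert i
  unfold Spor.squareDodecad support₂
  decide

theorem projInv_projInv (i : GolayPt) : projInv (projInv i) = i := projInv.left_inv i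

/-- an element of order four squaring to `-1` -/
def quarter : Equiv.Perm leechLattice :=
  monoPerm projInv projInv_mem_M24 Spor.squareDodecad squareDodecad_mem_GS

theorem quarter_mem_Co0 : quarter ∈ Co0 := monoPerm_mem_Co0 _ _ _ _

theorem quarter_sq : quarter * quarter = negPerm := by
  ext v : 1
  apply Subtype.ext
  funext i
  show signedPerm projInv Spor.squareDodecad (signedPerm projInv Spor.squareDodecad v.1) i = -v.1 i
  unfold signedPerm
  have h1 : projInv.symm i = projInv i := rfl
  have h2 : projInv.symm (projInv i) = i := projInv_projInv i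
  rw [h1, h2]
  have h3 := projInv_squareDodecad i
  by_cases hi : i ∈ Spor.squareDodecad
  · have : ¬ projInv i ∈ Spor.squareDodecad := fun h => (h3.mp h) hi
    rw [if_pos hi, if_neg this]
  · have : projInv i ∈ Spor.squareDodecad := h3.mpr hi
    rw [if_neg hi, if_pos this]

theorem negPerm_ne_one : negPerm ≠ 1 := by
  intro h
  have h1 : negPerm Spor.leechU = Spor.leechU := by rw [h]; rfl
  have h2 : -(Spor.leechU : GolayPt → ℤ) = Spor.leechU := congrArg Subtype.val h1
  have h3 := congrFun h2 none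
  simp only [Spor.leechU, Pi.neg_apply, Spor.vecU] at h3
  norm_num at h3

theorem negPerm_sq : negPerm * negPerm = 1 := by
  ext v : 1
  show - -v = v
  simp

theorem negPerm_comm (f : Equiv.Perm leechLattice) (hf : f ∈ Co0) :
    f * negPerm = negPerm * f := by
  ext v : 1
  show f (-v) = -(f v)
  have h := hf.1 v (-v)
  rw [add_neg_cancel] at h
  have h0 : f 0 = 0 := by
    have := hf.1 0 0
    rw [add_zero] at this
    exact left_eq_add.mp this
  rw [h0] at h
  exact (neg_eq_of_add_eq_zero_right h.symm).symm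

theorem no_complement :
    ∃ n : Co0, (∀ v : leechLattice, ((n • v : leechLattice) : GolayPt → ℤ) = -(v : GolayPt → ℤ)) ∧
      ∀ K : Subgroup Co0, ¬ (Subgroup.zpowers n).IsComplement' K := by
  refine ⟨⟨negPerm, negPerm_mem_Co0⟩, fun v => rfl, ?_⟩
  intro K hK
  set n : Co0 := ⟨negPerm, negPerm_mem_Co0⟩ with hn
  set g : Co0 := ⟨quarter, quarter_mem_Co0⟩ with hg
  have hgg : g * g = n := Subtype.ext quarter_sq
  have hnn : n * n = 1 := Subtype.ext negPerm_sq
  have hn1 : n ≠ 1 := fun h => negPerm_ne_one (congrArg Subtype.val h)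
  have hcomm : ∀ f : Co0, f * n = n * f := fun f => Subtype.ext (negPerm_comm f.1 f.2)
  obtain ⟨⟨⟨h, hh⟩, ⟨k, hk⟩⟩, hhk⟩ := hK.2 g
  simp only at hhk
  -- h is a power of n, hence h * h = 1 and h central
  obtain ⟨a, rfl⟩ := Subgroup.mem_zpowers_iff.mp hh
  have hc : ∀ f : Co0, f * n ^ a = n ^ a * f := by
    intro f
    have : Commute f n := hcomm f
    exact (this.zpow_right a)
  have hsq : n ^ a * n ^ a = 1 := by
    rw [← zpow_add, ← two_mul, zpow_mul, zpow_two, hnn, one_zpow]
  have hkk : k * k = n := by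
    rw [← hgg, ← hhk]
    calc k * k = (n ^ a * n ^ a) * (k * k) := by rw [hsq, one_mul]
      _ = n ^ a * (n ^ a * k) * k := by group
      _ = n ^ a * (k * n ^ a) * k := by rw [hc k]
      _ = n ^ a * k * (n ^ a * k) := by group
  have hnK : n ∈ K := by
    rw [← hkk]
    exact K.mul_mem hk hk
  have hdisj := hK.disjoint
  have : n ∈ (Subgroup.zpowers n) ⊓ K := ⟨Subgroup.mem_zpowers n, hnK⟩
  rw [hdisj.eq_bot, Subgroup.mem_bot] at this
  exact hn1 this

end Cfsg.Agent.helper27
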