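import Mathlib
import Cfsg.Prelude.Def_Sporadic_a

set_option autoImplicit false

namespace Cfsg.Agent.helper2.Golay

open Cfsg

/-- Index of a point: residues `0..22`, the extra point is `23`. -/
def idx : GolayPt → ℕ
  | none => 23
  | some x => x.val

/-- The point of a given index. -/
def pt (i : ℕ) : GolayPt := if i = 23 then none else some (i : ZMod 23)

theorem idx_pt : ∀ i < 24, idx (pt i) = i := by decide

theorem pt_idx : ∀ p : GolayPt, pt (idx p) = p := by decide

theorem idx_lt : ∀ p : GolayPt, idx p < 24 := by decide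

/-- The word attached to a bit mask. -/
def toWord (n : ℕ) : GolayPt → ZMod 2 := fun p => if n.testBit (idx p) then 1 else 0

theorem toWord_xor (a b : ℕ) : toWord (a ^^^ b) = toWord a + toWord b := by
  funext p
  simp only [toWord, Nat.testBit_xor, Pi.add_apply]
  cases a.testBit (idx p) <;> cases b.testBit (idx p) <;> simp
  decide

theorem toWord_zero : toWord 0 = 0 := by
  funext p
  simp [toWord]

/-- xor of the entries of the list selected by the bits of `m`. -/
def xorSel : List ℕ → ℕ → ℕ
  | [], _ => 0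
  | g :: gs, m => (if m % 2 = 1 then g else 0) ^^^ xorSel gs (m / 2)

theorem xorSel_zero (gs : List ℕ) : xorSel gs 0 = 0 := by
  induction gs with
  | nil => rfl
  | cons g gs ih => simp [xorSel, ih]

theorem xorSel_xor (gs : List ℕ) (m m' : ℕ) :
    xorSel gs (m ^^^ m') = xorSel gs m ^^^ xorSel gs m' := by
  induction gs generalizing m m' with
  | nil => simp [xorSel]
  | cons g gs ih =>
    simp only [xorSel]
    rw [Nat.xor_div_two, ih]
    have h : (m ^^^ m') % 2 = (m + m') % 2 := Nat.xor_mod_two_eq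
    apply Nat.eq_of_testBit_eq
    intro i
    rcases Nat.mod_two_eq_zero_or_one m with hm | hm <;>
      rcases Nat.mod_two_eq_zero_or_one m' with hm' | hm'
    · have h2 : (m ^^^ m') % 2 = 0 := by omega
      simp only [h2, hm, hm', Nat.testBit_xor]
      simp
    · have h2 : (m ^^^ m') % 2 = 1 := by omega
      simp only [h2, hm, hm', Nat.testBit_xor]
      cases g.testBit i <;> cases (xorSel gs (m / 2)).testBit i <;>
        cases (xorSel gs (m' / 2)).testBit i <;> simp
    · have h2 : (m ^^^ m') % 2 = 1 := by omega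
      simp only [h2, hm, hm', Nat.testBit_xor]
      cases g.testBit i <;> cases (xorSel gs (m / 2)).testBit i <;>
        cases (xorSel gs (m' / 2)).testBit i <;> simp
    · have h2 : (m ^^^ m') % 2 = 0 := by omega
      simp only [h2, hm, hm', Nat.testBit_xor]
      cases g.testBit i <;> cases (xorSel gs (m / 2)).testBit i <;>
        cases (xorSel gs (m' / 2)).testBit i <;> simp

theorem toWord_xorSel_mem {C : Submodule (ZMod 2) (GolayPt → ZMod 2)} {gs : List ℕ}
    (h : ∀ g ∈ gs, toWord g ∈ C) (m : ℕ) : toWord (xorSel gs m) ∈ C := by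
  induction gs generalizing m with
  | nil =>
    simp only [xorSel, toWord_zero]
    exact C.zero_mem
  | cons g gs ih =>
    simp only [xorSel, toWord_xor]
    apply C.add_mem
    · split_ifs
      · exact h g (by simp)
      · rw [toWord_zero]
        exact C.zero_mem
    · exact ih (fun g' hg' => h g' (by simp [hg'])) _

/-- Masks of the translates of the squares modulo 23. -/
def qrTable : List ℕ := [0x5335f, 0xa66be, 0x14cd7c, 0x299af8, 0x5335f0, 0x266be1, 0x4cd7c2,
  0x19af85, 0x335f0a, 0x66be14, 0x4d7c29, 0x1af853, 0x35f0a6, 0x6be14c, 0x57c299, 0x2f8533,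
  0x5f0a66, 0x3e14cd, 0x7c299a, 0x785335, 0x70a66b, 0x614cd7, 0x4299af]

def qrMask (t : ℕ) : ℕ := qrTable.getD t 0

theorem qrWord_eq : ∀ t : ZMod 23, qrWord t = toWord (qrMask t.val) := by decide +kernel

theorem one_eq : (1 : GolayPt → ZMod 2) = toWord 0xFFFFFF := by decide +kernel

/-- The generators as masks. -/
def genMasks : List ℕ := 0xFFFFFF :: (List.range 23).map qrMask

theorem gen_mem : ∀ g ∈ genMasks, toWord g ∈ golayCode := by
  intro g hg
  unfold genMasks at hg
  rcases List.mem_cons.mp hg with rfl | hg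
  · rw [← one_eq]
    exact Submodule.subset_span (Or.inr rfl)
  · obtain ⟨t, ht, rfl⟩ := List.mem_map.mp hg
    rw [List.mem_range] at ht
    have : qrWord ((t : ℕ) : ZMod 23) = toWord (qrMask t) := by
      rw [qrWord_eq, ZMod.val_natCast, Nat.mod_eq_of_lt ht]
    rw [← this]
    exact Submodule.subset_span (Or.inl ⟨_, rfl⟩)

/-- A basis of the code in reduced echelon form (pivots `0..11`). -/
def rr : List ℕ := [0xc75001, 0x49f002, 0xd4b004, 0x6e3008, 0x9b3010, 0xb66020, 0xecc040,
  0x1ed080, 0x3da100, 0x7b4200, 0xb1d400, 0xe3a800]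

def certs : List ℕ := [3411, 560, 2355, 2800, 3445, 3887, 2971, 4000, 2694, 202, 3271, 3147]

theorem rr_cert : rr = certs.map (xorSel genMasks) := by decide +kernel

theorem rr_mem : ∀ r ∈ rr, toWord r ∈ golayCode := by
  intro r hr
  rw [rr_cert] at hr
  obtain ⟨c, _, rfl⟩ := List.mem_map.mp hr
  exact toWord_xorSel_mem gen_mem c

/-- The code word with information bits `m`. -/
def cw (m : ℕ) : ℕ := xorSel rr m

theorem cw_mem (m : ℕ) : toWord (cw m) ∈ golayCode := toWord_xorSel_mem rr_mem m

theorem cw_qr : ∀ t < 23, cw (qrMask t % 4096) = qrMask t := by decide +kernel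

theorem cw_ones : cw (0xFFFFFF % 4096) = 0xFFFFFF := by decide +kernel

theorem cw_xor (m m' : ℕ) : cw (m ^^^ m') = cw m ^^^ cw m' := xorSel_xor rr m m'

theorem exists_of_mem {w : GolayPt → ZMod 2} (hw : w ∈ golayCode) :
    ∃ m < 4096, w = toWord (cw m) := by
  unfold golayCode at hw
  induction hw using Submodule.span_induction with
  | mem x hx =>
    rcases hx with ⟨t, rfl⟩ | hx
    · refine ⟨qrMask t.val % 4096, Nat.mod_lt _ (by norm_num), ?_⟩
      rw [qrWord_eq t, cw_qr t.val (ZMod.val_lt t)]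
    · rw [Set.mem_singleton_iff] at hx
      subst hx
      exact ⟨0xFFFFFF % 4096, Nat.mod_lt _ (by norm_num), by rw [one_eq, cw_ones]⟩
  | zero => exact ⟨0, by norm_num, by rw [cw, xorSel_zero, toWord_zero]⟩
  | add x y _ _ hx hy =>
    obtain ⟨m, hm, rfl⟩ := hx
    obtain ⟨m', hm', rfl⟩ := hy
    exact ⟨m ^^^ m', Nat.xor_lt_two_pow (n := 12) hm hm', by rw [cw_xor, toWord_xor]⟩
  | smul c x _ hx =>
    obtain ⟨m, hm, rfl⟩ := hx
    rcases (by decide : ∀ c : ZMod 2, c = 0 ∨ c = 1) c with rfl | rfl
    · exact ⟨0, by norm_num, by rw [zero_smul, cw, xorSel_zero, toWord_zero]⟩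
    · exact ⟨m, hm, by rw [one_smul]⟩

theorem mem_iff {w : GolayPt → ZMod 2} : w ∈ golayCode ↔ ∃ m < 4096, w = toWord (cw m) :=
  ⟨exists_of_mem, fun ⟨m, _, h⟩ => h ▸ cw_mem m⟩

end Cfsg.Agent.helper2.Golay
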