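import Mathlib
import Cfsg.Agent.Lib_helper2_Golay

set_option autoImplicit false

namespace Cfsg.Agent.helper2.Golay

open Cfsg

/-- The set of points of a mask. -/
def pts (n : ℕ) : Finset GolayPt := Finset.univ.filter (fun p => n.testBit (idx p) = true)

theorem mem_pts {n : ℕ} {p : GolayPt} : p ∈ pts n ↔ n.testBit (idx p) = true := by
  simp [pts]

theorem support₂_toWord (n : ℕ) : support₂ (toWord n) = pts n := by
  ext p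
  simp only [support₂, pts, Finset.mem_filter, Finset.mem_univ, true_and, toWord]
  by_cases h : n.testBit (idx p) = true <;> simp [h]

/-- Number of set bits among the lowest `k`. -/
def pc : ℕ → ℕ → ℕ
  | 0, _ => 0
  | k + 1, n => n % 2 + pc k (n / 2)

/-- The weight of a mask (number of set bits among the low 24). -/
def wt (n : ℕ) : ℕ := pc 24 n

theorem length_filter_testBit (k n : ℕ) :
    ((List.range k).filter (fun i => decide (n.testBit i = true))).length = pc k n := by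
  induction k generalizing n with
  | zero => rfl
  | succ k ih =>
    rw [List.range_succ_eq_map, List.filter_cons, pc]
    have h0 : n.testBit 0 = decide (n % 2 = 1) := Nat.testBit_zero n
    have hmap : ((List.map Nat.succ (List.range k)).filter
        (fun i => decide (n.testBit i = true))).length = pc k (n / 2) := by
      rw [List.filter_map, List.length_map, ← ih (n / 2)]
      congr 1
      apply List.filter_congr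
      intro i _
      simp only [Function.comp, Nat.succ_eq_add_one, Nat.testBit_add_one]
    rcases Nat.mod_two_eq_zero_or_one n with hm | hm
    · have : decide (n.testBit 0 = true) = false := by rw [h0, hm]; rfl
      rw [this]
      simp only [Bool.false_eq_true, if_false]
      rw [hmap, hm, Nat.zero_add]
    · have : decide (n.testBit 0 = true) = true := by rw [h0, hm]; rfl
      rw [this]
      simp only [if_true, List.length_cons]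
      rw [hmap, hm, Nat.add_comm]

theorem card_pts (n : ℕ) : (pts n).card = wt n := by
  have h1 : (pts n).card = ((Finset.range 24).filter (fun i => n.testBit i = true)).card := by
    apply Finset.card_nbij' idx pt
    · intro p hp
      rw [Finset.mem_coe, mem_pts] at hp
      rw [Finset.mem_coe, Finset.mem_filter, Finset.mem_range]
      exact ⟨idx_lt p, hp⟩
    · intro i hi
      rw [Finset.mem_coe, Finset.mem_filter, Finset.mem_range] at hi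
      rw [Finset.mem_coe, mem_pts, idx_pt i hi.1]
      exact hi.2
    · intro p _
      exact pt_idx p
    · intro i hi
      rw [Finset.mem_coe, Finset.mem_filter, Finset.mem_range] at hi
      exact idx_pt i hi.1
  rw [h1]
  exact length_filter_testBit 24 n

theorem hammingNorm_toWord (n : ℕ) : hammingNorm (toWord n) = wt n := by
  rw [← card_pts, ← support₂_toWord]
  rfl

theorem testBit_eq_of_pts_eq {a b : ℕ} (h : pts a = pts b) :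
    ∀ i < 24, a.testBit i = b.testBit i := by
  intro i hi
  have h1 : pt i ∈ pts a ↔ pt i ∈ pts b := by rw [h]
  rw [mem_pts, mem_pts, idx_pt i hi] at h1
  cases ha : a.testBit i <;> cases hb : b.testBit i <;> simp_all

theorem mod_eq_of_testBit_eq {a b : ℕ} (h : ∀ i < 24, a.testBit i = b.testBit i) :
    a % 4096 = b % 4096 := by
  apply Nat.eq_of_testBit_eq
  intro i
  have e : (4096 : ℕ) = 2 ^ 12 := by norm_num
  rw [e, Nat.testBit_mod_two_pow, Nat.testBit_mod_two_pow]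
  by_cases hi : i < 12
  · simp [hi, h i (by omega)]
  · simp [hi]

theorem forall_lt_4096 {P : ℕ → Prop} (h : ∀ a < 64, ∀ b < 64, P (a * 64 + b)) :
    ∀ m < 4096, P m := by
  intro m hm
  have := h (m / 64) (by omega) (m % 64) (Nat.mod_lt _ (by norm_num))
  rwa [Nat.div_add_mod' m 64] at this

theorem cw_low : ∀ m < 4096, cw m % 4096 = m :=
  forall_lt_4096 (by decide +kernel)

theorem cw_injOn {m m' : ℕ} (hm : m < 4096) (hm' : m' < 4096) (h : pts (cw m) = pts (cw m')) :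
    m = m' := by
  have := mod_eq_of_testBit_eq (testBit_eq_of_pts_eq h)
  rwa [cw_low m hm, cw_low m' hm'] at this

theorem toWord_inj_pts {a b : ℕ} (h : toWord a = toWord b) : pts a = pts b := by
  rw [← support₂_toWord, ← support₂_toWord, h]

/-- The table of weights of the code words, in 64 rows of 64. -/
def wtsRows : List (List ℕ) := [
  [0, 8, 8, 8, 8, 8, 8, 8, 8, 8, 8, 8, 8, 12, 12, 8, 8, 8, 8, 8, 8, 8, 8, 8, 8, 8, 12, 12, 8, 12, 8, 12, 8, 8, 12, 8, 8, 8, 8, 12, 8, 8, 8, 12, 8, 12, 8, 8, 8, 8, 8, 12, 12, 12, 8, 12, 8, 8, 8, 12, 12, 8, 12, 12],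
  [8, 8, 8, 8, 8, 12, 8, 12, 8, 8, 8, 8, 8, 8, 12, 12, 12, 8, 8, 12, 8, 8, 12, 12, 8, 12, 8, 12, 12, 8, 8, 12, 8, 12, 8, 8, 8, 8, 12, 8, 8, 12, 12, 12, 8, 12, 12, 12, 8, 8, 8, 12, 8, 12, 12, 12, 12, 12, 12, 8, 12, 12, 12, 16],
  [8, 8, 8, 8, 8, 8, 8, 8, 8, 12, 8, 12, 8, 8, 12, 12, 8, 8, 8, 8, 8, 8, 8, 16, 12, 8, 8, 12, 12, 12, 12, 12, 8, 12, 8, 8, 8, 12, 12, 12, 8, 8, 12, 8, 8, 12, 12, 12, 8, 12, 12, 12, 12, 8, 12, 12, 12, 12, 8, 12, 8, 12, 12, 12],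
  [8, 8, 12, 12, 8, 12, 12, 8, 8, 12, 12, 8, 8, 12, 8, 12, 8, 12, 8, 12, 12, 12, 12, 12, 8, 8, 12, 12, 12, 12, 12, 12, 8, 8, 8, 12, 8, 12, 12, 12, 8, 12, 12, 12, 16, 12, 12, 12, 12, 8, 12, 12, 12, 12, 8, 12, 12, 12, 12, 16, 12, 12, 12, 16],
  [8, 12, 8, 8, 8, 8, 8, 12, 8, 8, 8, 12, 8, 8, 12, 8, 8, 8, 12, 8, 8, 12, 12, 12, 8, 12, 8, 8, 8, 12, 12, 12, 8, 8, 8, 8, 12, 8, 8, 12, 12, 8, 8, 12, 8, 12, 12, 16, 8, 12, 8, 12, 8, 8, 12, 12, 12, 12, 12, 12, 12, 12, 12, 12],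
  [8, 8, 8, 12, 8, 8, 8, 12, 12, 8, 12, 12, 12, 12, 8, 12, 8, 8, 8, 12, 12, 12, 12, 8, 8, 12, 12, 12, 12, 12, 12, 16, 8, 8, 12, 12, 12, 12, 12, 12, 8, 12, 8, 12, 12, 12, 12, 12, 12, 12, 12, 12, 8, 16, 12, 12, 8, 12, 16, 12, 12, 12, 12, 12],
  [8, 8, 8, 12, 12, 8, 12, 12, 8, 8, 8, 12, 12, 12, 8, 12, 8, 12, 12, 12, 12, 12, 8, 12, 12, 8, 12, 12, 8, 12, 12, 12, 8, 8, 12, 12, 8, 12, 8, 12, 12, 12, 12, 12, 12, 12, 12, 12, 8, 12, 12, 8, 12, 12, 12, 12, 8, 12, 12, 16, 12, 16, 16, 12],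
  [12, 8, 8, 8, 8, 12, 12, 12, 8, 12, 12, 12, 12, 12, 12, 16, 8, 12, 12, 12, 8, 12, 12, 12, 12, 16, 12, 12, 12, 12, 16, 12, 12, 12, 8, 16, 12, 12, 12, 12, 12, 12, 12, 12, 12, 8, 12, 16, 12, 12, 12, 12, 12, 12, 16, 16, 12, 12, 12, 12, 12, 16, 12, 16],
  [8, 8, 8, 12, 12, 8, 8, 8, 8, 8, 8, 12, 8, 8, 8, 12, 8, 8, 8, 12, 8, 12, 12, 12, 8, 8, 12, 8, 12, 12, 8, 12, 8, 8, 8, 8, 8, 12, 8, 12, 8, 8, 12, 12, 12, 12, 12, 12, 8, 8, 12, 12, 8, 12, 12, 8, 8, 16, 12, 12, 12, 12, 12, 12],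
  [8, 8, 12, 8, 8, 8, 8, 12, 12, 12, 8, 12, 8, 12, 12, 12, 8, 12, 8, 8, 8, 12, 12, 12, 8, 12, 12, 12, 12, 12, 16, 12, 8, 12, 8, 12, 12, 8, 12, 16, 12, 8, 8, 12, 12, 12, 12, 12, 12, 12, 12, 12, 12, 12, 12, 12, 12, 12, 12, 12, 8, 12, 12, 16],
  [8, 8, 8, 12, 8, 12, 12, 12, 8, 12, 8, 8, 12, 8, 12, 12, 12, 12, 12, 8, 8, 12, 12, 12, 8, 12, 12, 12, 8, 12, 12, 12, 12, 8, 8, 12, 8, 8, 12, 12, 12, 12, 12, 12, 12, 12, 8, 16, 8, 12, 8, 12, 12, 12, 12, 12, 12, 12, 12, 12, 12, 12, 16, 16],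
  [8, 8, 8, 12, 12, 12, 8, 12, 12, 8, 12, 12, 12, 12, 12, 16, 8, 12, 12, 12, 12, 8, 12, 12, 12, 12, 12, 16, 12, 16, 12, 12, 12, 12, 12, 12, 12, 12, 12, 12, 8, 12, 12, 16, 12, 12, 12, 12, 8, 12, 16, 12, 12, 16, 12, 16, 12, 12, 12, 12, 12, 16, 16, 12],
  [8, 8, 8, 8, 8, 8, 12, 12, 8, 12, 8, 12, 12, 12, 12, 12, 12, 8, 8, 12, 8, 12, 8, 12, 12, 12, 12, 12, 12, 8, 12, 16, 8, 12, 12, 12, 8, 12, 12, 12, 12, 12, 12, 8, 8, 12, 12, 12, 12, 12, 8, 12, 12, 12, 16, 12, 8, 12, 12, 12, 12, 12, 12, 16],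
  [8, 12, 12, 8, 12, 12, 12, 12, 8, 8, 12, 12, 8, 16, 12, 12, 8, 12, 12, 16, 12, 12, 12, 12, 12, 12, 12, 12, 12, 12, 12, 12, 8, 12, 12, 12, 12, 12, 8, 12, 12, 12, 12, 16, 12, 12, 16, 12, 12, 8, 12, 12, 12, 12, 12, 16, 12, 12, 12, 16, 16, 16, 12, 16],
  [8, 12, 8, 12, 8, 12, 12, 8, 8, 12, 16, 12, 12, 12, 12, 12, 8, 8, 12, 12, 12, 12, 12, 12, 12, 12, 12, 12, 12, 16, 12, 16, 12, 8, 12, 12, 12, 16, 12, 12, 8, 12, 12, 12, 12, 12, 12, 16, 12, 12, 12, 16, 12, 12, 12, 16, 12, 12, 12, 16, 16, 12, 12, 12],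
  [12, 12, 12, 12, 8, 12, 12, 16, 12, 12, 12, 12, 12, 12, 12, 12, 12, 12, 12, 12, 16, 12, 12, 16, 12, 12, 8, 16, 12, 12, 16, 16, 8, 12, 12, 12, 12, 12, 16, 12, 12, 16, 12, 12, 12, 16, 16, 16, 12, 16, 12, 12, 12, 12, 12, 16, 16, 12, 16, 16, 12, 16, 16, 16],
  [8, 8, 8, 12, 8, 8, 8, 12, 12, 8, 8, 8, 8, 8, 8, 12, 8, 12, 8, 8, 12, 8, 12, 12, 8, 8, 8, 12, 8, 12, 12, 12, 8, 8, 8, 8, 8, 8, 12, 12, 8, 12, 8, 12, 12, 12, 12, 12, 8, 12, 12, 8, 8, 12, 8, 12, 12, 12, 12, 12, 8, 12, 16, 12],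
  [8, 8, 8, 12, 8, 12, 8, 8, 8, 12, 12, 12, 12, 8, 12, 12, 8, 8, 12, 8, 8, 12, 12, 12, 8, 12, 12, 12, 12, 16, 12, 12, 12, 8, 8, 12, 12, 12, 12, 12, 8, 8, 12, 12, 12, 12, 8, 16, 8, 12, 12, 16, 12, 12, 12, 12, 12, 12, 12, 12, 12, 12, 12, 12],
  [8, 8, 12, 8, 12, 12, 8, 12, 8, 8, 8, 12, 8, 12, 12, 12, 8, 12, 12, 12, 8, 12, 12, 12, 8, 12, 12, 12, 12, 12, 12, 8, 8, 12, 8, 12, 12, 8, 8, 12, 12, 8, 12, 16, 12, 12, 12, 12, 8, 8, 12, 12, 12, 12, 12, 12, 12, 12, 12, 12, 12, 16, 12, 16],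
  [8, 8, 8, 12, 12, 8, 12, 12, 12, 12, 8, 12, 12, 12, 12, 16, 12, 12, 8, 12, 8, 12, 12, 12, 12, 12, 16, 12, 12, 12, 12, 16, 12, 12, 12, 12, 8, 12, 12, 16, 12, 12, 12, 12, 12, 12, 12, 12, 12, 12, 12, 12, 12, 16, 16, 12, 8, 16, 12, 12, 12, 12, 16, 16],
  [8, 8, 8, 8, 8, 12, 8, 12, 8, 8, 12, 12, 12, 12, 12, 12, 8, 8, 12, 12, 12, 8, 8, 12, 12, 12, 8, 16, 12, 12, 12, 12, 8, 12, 12, 12, 12, 12, 12, 8, 8, 12, 12, 12, 8, 12, 12, 12, 8, 12, 12, 12, 12, 12, 12, 16, 12, 8, 12, 12, 12, 16, 12, 12],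
  [8, 12, 8, 12, 8, 12, 16, 12, 8, 12, 12, 8, 12, 12, 12, 12, 12, 12, 12, 12, 12, 12, 12, 12, 12, 12, 12, 12, 8, 12, 12, 16, 12, 8, 12, 12, 8, 12, 12, 12, 12, 16, 12, 12, 12, 12, 12, 16, 12, 12, 8, 12, 12, 12, 12, 16, 12, 12, 12, 16, 16, 12, 16, 16],
  [8, 12, 12, 8, 8, 8, 12, 12, 12, 12, 12, 12, 8, 16, 12, 12, 8, 12, 8, 12, 12, 12, 12, 12, 12, 12, 12, 12, 12, 12, 16, 16, 8, 12, 12, 12, 12, 12, 12, 16, 12, 12, 8, 12, 12, 12, 16, 12, 16, 12, 12, 12, 12, 12, 12, 16, 12, 12, 12, 16, 12, 12, 12, 16],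
  [12, 12, 12, 12, 12, 12, 12, 12, 8, 12, 12, 16, 12, 12, 12, 12, 12, 8, 12, 16, 12, 16, 12, 16, 12, 12, 12, 12, 16, 12, 12, 16, 8, 12, 12, 12, 12, 16, 12, 12, 12, 12, 16, 12, 12, 16, 16, 16, 12, 12, 12, 16, 12, 12, 16, 12, 12, 16, 16, 16, 16, 16, 12, 16],
  [8, 8, 8, 8, 8, 12, 12, 8, 8, 12, 12, 8, 8, 12, 12, 16, 8, 12, 8, 12, 8, 8, 12, 12, 12, 12, 12, 12, 12, 12, 12, 12, 12, 12, 8, 12, 8, 12, 12, 12, 8, 12, 12, 12, 12, 8, 12, 12, 12, 8, 12, 12, 12, 12, 12, 16, 12, 12, 8, 12, 12, 12, 12, 16],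
  [8, 8, 12, 12, 12, 12, 12, 12, 8, 12, 8, 12, 12, 12, 12, 12, 12, 12, 12, 12, 12, 12, 8, 16, 12, 8, 12, 16, 12, 12, 12, 12, 8, 12, 12, 12, 8, 12, 12, 12, 12, 12, 16, 12, 12, 16, 12, 12, 8, 12, 12, 12, 16, 12, 12, 12, 12, 12, 12, 16, 12, 16, 16, 16],
  [8, 8, 12, 12, 8, 12, 8, 12, 12, 12, 12, 12, 12, 12, 12, 12, 12, 8, 8, 12, 12, 12, 12, 12, 8, 12, 12, 16, 16, 12, 12, 16, 8, 12, 12, 12, 12, 12, 16, 12, 8, 12, 12, 12, 12, 16, 12, 12, 12, 12, 12, 16, 12, 16, 12, 12, 12, 12, 16, 12, 12, 12, 12, 16],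
  [8, 16, 12, 12, 12, 12, 12, 12, 12, 12, 12, 12, 8, 12, 16, 12, 12, 12, 12, 12, 12, 12, 16, 16, 12, 12, 12, 12, 12, 16, 12, 16, 12, 12, 12, 8, 12, 12, 12, 16, 12, 12, 12, 16, 12, 16, 16, 16, 12, 12, 12, 16, 12, 12, 12, 16, 16, 16, 12, 16, 16, 12, 16, 16],
  [12, 8, 12, 12, 8, 12, 12, 12, 8, 12, 12, 12, 12, 12, 8, 12, 8, 12, 12, 12, 12, 16, 12, 12, 8, 12, 12, 12, 12, 12, 16, 12, 8, 8, 8, 16, 12, 12, 12, 12, 12, 12, 12, 12, 16, 12, 12, 16, 12, 12, 12, 12, 12, 12, 12, 12, 12, 12, 16, 16, 12, 16, 12, 16],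
  [12, 12, 8, 12, 12, 8, 12, 12, 12, 12, 12, 16, 12, 12, 12, 16, 8, 12, 12, 12, 12, 12, 12, 16, 16, 12, 12, 12, 12, 16, 16, 16, 12, 12, 12, 12, 12, 16, 12, 16, 12, 12, 12, 12, 12, 12, 16, 16, 12, 16, 16, 12, 12, 12, 16, 16, 12, 16, 12, 16, 12, 16, 16, 12],
  [12, 12, 8, 12, 12, 12, 12, 16, 12, 8, 12, 12, 12, 12, 12, 16, 12, 12, 12, 16, 12, 12, 16, 12, 12, 16, 12, 12, 12, 12, 12, 16, 12, 12, 12, 12, 12, 12, 12, 12, 12, 16, 12, 16, 12, 12, 16, 16, 12, 12, 12, 12, 8, 16, 16, 16, 12, 16, 16, 12, 16, 16, 16, 16],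
  [8, 12, 12, 12, 12, 12, 12, 16, 12, 12, 12, 16, 16, 16, 16, 12, 12, 12, 16, 12, 12, 16, 12, 12, 12, 16, 16, 16, 12, 16, 16, 16, 12, 12, 16, 16, 16, 12, 12, 16, 16, 12, 12, 16, 12, 16, 12, 16, 12, 16, 12, 16, 16, 16, 16, 16, 12, 12, 16, 16, 16, 16, 16, 16],
  [8, 8, 8, 8, 8, 8, 12, 12, 8, 8, 8, 8, 8, 12, 8, 12, 8, 12, 8, 12, 8, 12, 12, 8, 8, 12, 12, 8, 8, 8, 12, 12, 8, 8, 8, 12, 8, 8, 8, 12, 12, 12, 8, 12, 12, 8, 12, 12, 12, 8, 8, 8, 8, 12, 12, 12, 8, 12, 12, 12, 12, 12, 12, 16],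
  [8, 8, 8, 8, 12, 8, 8, 12, 8, 8, 8, 16, 12, 12, 12, 12, 8, 8, 12, 12, 8, 12, 8, 12, 12, 12, 12, 12, 12, 12, 12, 12, 8, 12, 12, 12, 12, 12, 8, 12, 12, 8, 12, 12, 8, 12, 12, 12, 8, 12, 12, 12, 12, 12, 16, 12, 8, 12, 12, 12, 12, 16, 12, 12],
  [12, 8, 8, 12, 8, 12, 8, 12, 8, 8, 12, 12, 12, 8, 8, 12, 8, 8, 12, 12, 12, 12, 12, 12, 8, 12, 8, 12, 12, 12, 12, 12, 8, 8, 8, 12, 12, 12, 12, 8, 8, 12, 12, 12, 12, 12, 12, 16, 8, 12, 12, 12, 8, 12, 12, 12, 12, 12, 16, 12, 12, 16, 12, 12],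
  [8, 12, 8, 12, 8, 8, 12, 12, 12, 12, 12, 12, 12, 12, 12, 12, 8, 12, 12, 8, 12, 12, 12, 12, 12, 12, 12, 12, 8, 16, 16, 16, 12, 8, 12, 12, 12, 12, 12, 16, 12, 12, 8, 12, 12, 12, 12, 16, 12, 16, 12, 12, 12, 12, 12, 16, 12, 12, 12, 16, 12, 12, 16, 12],
  [8, 8, 12, 8, 8, 12, 8, 8, 8, 12, 12, 12, 8, 12, 12, 12, 8, 8, 8, 12, 8, 12, 12, 12, 8, 12, 12, 12, 16, 12, 12, 12, 8, 12, 8, 12, 12, 12, 12, 12, 8, 8, 12, 12, 12, 12, 12, 12, 12, 8, 12, 16, 12, 12, 12, 12, 12, 12, 12, 12, 12, 12, 8, 16],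
  [8, 12, 12, 12, 12, 8, 12, 12, 12, 12, 8, 12, 8, 12, 12, 12, 12, 12, 8, 12, 12, 12, 12, 16, 12, 8, 12, 12, 12, 12, 12, 16, 8, 12, 12, 8, 8, 12, 12, 16, 12, 12, 12, 12, 12, 16, 16, 12, 12, 12, 12, 12, 12, 12, 12, 12, 12, 16, 12, 16, 12, 12, 16, 16],
  [8, 8, 8, 12, 8, 12, 12, 12, 12, 12, 12, 8, 12, 12, 12, 16, 12, 12, 8, 12, 12, 8, 12, 12, 12, 12, 12, 16, 12, 12, 12, 16, 12, 12, 12, 12, 8, 12, 16, 12, 8, 16, 12, 12, 12, 12, 12, 12, 12, 12, 12, 12, 12, 16, 12, 16, 12, 12, 12, 12, 12, 12, 16, 16],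
  [8, 12, 12, 12, 12, 16, 12, 12, 8, 12, 12, 12, 12, 12, 16, 12, 12, 12, 16, 12, 12, 12, 12, 16, 12, 12, 12, 16, 12, 16, 12, 12, 12, 12, 12, 12, 12, 12, 12, 12, 12, 12, 16, 16, 12, 16, 12, 16, 8, 12, 12, 16, 16, 12, 12, 16, 16, 12, 12, 16, 16, 16, 16, 16],
  [8, 12, 8, 8, 8, 8, 8, 12, 12, 8, 12, 12, 8, 12, 12, 12, 8, 8, 8, 12, 12, 8, 12, 12, 12, 12, 8, 12, 12, 12, 12, 16, 8, 12, 12, 8, 12, 12, 12, 12, 8, 12, 8, 12, 8, 12, 16, 12, 12, 12, 12, 12, 8, 12, 12, 16, 12, 12, 12, 12, 12, 12, 12, 12],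
  [8, 12, 12, 12, 8, 12, 12, 12, 8, 12, 12, 12, 12, 12, 12, 8, 12, 8, 12, 12, 12, 16, 12, 12, 8, 12, 12, 12, 12, 12, 12, 16, 8, 8, 12, 12, 12, 12, 12, 12, 12, 12, 12, 12, 12, 16, 12, 16, 12, 12, 8, 16, 12, 12, 12, 12, 12, 12, 16, 16, 16, 12, 12, 16],
  [8, 8, 12, 8, 8, 12, 12, 12, 8, 12, 12, 12, 12, 16, 12, 12, 8, 12, 12, 12, 12, 12, 8, 12, 12, 12, 12, 16, 12, 12, 16, 12, 8, 12, 12, 16, 12, 12, 12, 12, 12, 12, 12, 12, 12, 12, 12, 12, 12, 12, 12, 12, 16, 12, 12, 16, 12, 8, 12, 16, 12, 16, 12, 16],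
  [12, 12, 8, 12, 12, 12, 16, 12, 8, 12, 12, 12, 12, 12, 12, 16, 12, 12, 12, 16, 12, 12, 12, 16, 16, 12, 12, 12, 12, 12, 12, 16, 12, 12, 12, 12, 8, 16, 12, 12, 12, 16, 16, 12, 12, 12, 16, 16, 12, 12, 12, 12, 12, 12, 16, 16, 12, 16, 12, 16, 16, 16, 16, 16],
  [8, 8, 12, 12, 12, 12, 8, 16, 12, 8, 8, 12, 12, 12, 12, 12, 12, 12, 12, 12, 12, 12, 12, 12, 8, 12, 12, 16, 12, 12, 12, 12, 8, 12, 12, 12, 12, 8, 12, 12, 12, 12, 12, 16, 12, 16, 12, 12, 8, 12, 12, 12, 12, 16, 12, 12, 12, 12, 16, 12, 12, 16, 16, 16],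
  [8, 12, 8, 12, 12, 12, 12, 12, 12, 12, 12, 12, 12, 12, 16, 16, 12, 12, 12, 12, 8, 12, 16, 12, 12, 16, 16, 12, 12, 16, 12, 16, 16, 12, 12, 12, 12, 12, 12, 16, 12, 12, 12, 16, 12, 12, 12, 16, 12, 12, 12, 16, 12, 16, 16, 16, 12, 16, 12, 12, 16, 12, 16, 16],
  [12, 12, 12, 12, 12, 12, 12, 12, 12, 12, 12, 12, 8, 12, 12, 16, 8, 16, 12, 12, 12, 12, 16, 16, 12, 12, 12, 12, 12, 16, 16, 12, 12, 12, 8, 12, 12, 12, 12, 16, 12, 12, 12, 16, 16, 12, 16, 16, 12, 12, 16, 12, 12, 12, 12, 16, 16, 16, 12, 16, 12, 16, 16, 16],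
  [12, 8, 12, 16, 12, 12, 12, 12, 12, 16, 12, 16, 16, 12, 12, 16, 12, 12, 12, 12, 12, 16, 12, 16, 12, 12, 16, 16, 16, 16, 16, 16, 12, 12, 12, 16, 12, 16, 16, 16, 12, 12, 16, 12, 16, 16, 12, 16, 12, 16, 16, 16, 16, 16, 16, 12, 12, 16, 16, 16, 12, 16, 16, 16],
  [8, 8, 8, 12, 8, 8, 12, 8, 8, 12, 12, 12, 12, 12, 8, 12, 8, 8, 8, 12, 12, 12, 8, 12, 12, 8, 12, 12, 12, 12, 12, 16, 8, 8, 12, 12, 8, 16, 12, 12, 8, 12, 12, 8, 12, 12, 12, 12, 12, 12, 12, 12, 12, 12, 12, 12, 8, 12, 12, 16, 12, 12, 12, 12],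
  [12, 12, 12, 8, 8, 12, 12, 12, 8, 12, 12, 12, 8, 12, 12, 12, 8, 12, 12, 12, 12, 12, 12, 16, 12, 12, 8, 12, 12, 12, 16, 12, 8, 12, 8, 12, 12, 12, 12, 12, 12, 12, 12, 12, 12, 12, 16, 16, 12, 12, 12, 12, 12, 8, 12, 16, 16, 12, 12, 16, 12, 16, 12, 16],
  [8, 12, 8, 8, 8, 12, 12, 12, 8, 12, 12, 12, 12, 12, 16, 12, 12, 8, 12, 12, 8, 12, 12, 12, 12, 16, 12, 12, 12, 12, 12, 16, 12, 12, 12, 12, 12, 12, 12, 12, 12, 12, 12, 12, 8, 12, 12, 16, 12, 12, 8, 16, 12, 12, 16, 16, 12, 12, 12, 12, 16, 12, 12, 16],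
  [8, 12, 12, 12, 12, 12, 12, 16, 12, 8, 12, 12, 12, 16, 12, 12, 12, 12, 12, 16, 16, 12, 12, 12, 12, 12, 12, 16, 12, 12, 12, 16, 8, 12, 16, 12, 12, 12, 12, 12, 12, 16, 12, 16, 12, 16, 16, 12, 12, 12, 12, 12, 12, 16, 12, 16, 12, 12, 16, 16, 16, 16, 16, 16],
  [12, 8, 8, 12, 12, 12, 12, 12, 8, 12, 8, 12, 12, 8, 12, 16, 12, 12, 12, 12, 8, 12, 12, 16, 12, 12, 12, 12, 12, 12, 12, 12, 12, 12, 8, 12, 8, 12, 12, 12, 12, 12, 16, 12, 12, 12, 12, 16, 8, 12, 12, 12, 12, 12, 16, 12, 12, 16, 12, 12, 12, 16, 16, 16],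
  [8, 8, 12, 12, 12, 12, 12, 12, 12, 12, 12, 12, 12, 16, 12, 16, 8, 16, 12, 12, 12, 12, 12, 12, 12, 12, 16, 16, 12, 16, 16, 12, 12, 12, 12, 16, 12, 12, 12, 16, 12, 12, 12, 16, 16, 12, 12, 12, 12, 12, 16, 12, 16, 16, 12, 16, 12, 12, 12, 16, 12, 16, 16, 16],
  [8, 12, 12, 16, 12, 12, 12, 12, 12, 12, 12, 12, 12, 12, 12, 12, 12, 12, 12, 12, 12, 16, 16, 12, 8, 12, 16, 12, 12, 16, 12, 16, 12, 8, 12, 12, 12, 12, 12, 16, 12, 12, 12, 16, 16, 16, 12, 16, 12, 12, 12, 16, 12, 16, 12, 12, 12, 16, 16, 16, 16, 12, 16, 16],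
  [12, 12, 12, 12, 12, 12, 8, 16, 16, 12, 12, 16, 12, 12, 16, 16, 12, 12, 12, 12, 12, 12, 16, 16, 12, 16, 12, 16, 16, 16, 16, 16, 12, 16, 12, 12, 16, 12, 16, 16, 12, 12, 12, 16, 12, 16, 16, 16, 12, 16, 16, 16, 12, 16, 16, 16, 16, 16, 16, 12, 12, 16, 16, 16],
  [8, 12, 8, 12, 12, 12, 12, 12, 8, 8, 12, 12, 12, 12, 12, 12, 8, 12, 16, 12, 12, 12, 12, 12, 12, 12, 12, 12, 8, 16, 12, 12, 12, 8, 12, 12, 12, 12, 8, 12, 12, 12, 12, 16, 12, 12, 12, 16, 8, 12, 12, 12, 12, 12, 12, 16, 12, 12, 12, 16, 16, 16, 16, 12],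
  [12, 8, 8, 12, 8, 12, 12, 16, 12, 12, 12, 12, 16, 12, 12, 16, 12, 12, 12, 12, 12, 12, 12, 12, 12, 16, 12, 16, 12, 12, 16, 16, 12, 12, 12, 16, 12, 12, 16, 12, 12, 16, 12, 12, 12, 12, 12, 16, 12, 16, 12, 12, 12, 16, 16, 16, 12, 12, 16, 12, 12, 16, 16, 16],
  [12, 12, 12, 12, 12, 8, 12, 16, 12, 12, 8, 16, 12, 12, 12, 12, 12, 12, 12, 12, 12, 16, 12, 16, 12, 12, 12, 12, 12, 12, 16, 16, 8, 12, 12, 12, 12, 12, 12, 16, 16, 12, 12, 12, 12, 16, 16, 16, 12, 16, 12, 12, 12, 12, 16, 12, 12, 16, 16, 16, 12, 16, 16, 16],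
  [12, 12, 12, 12, 12, 12, 12, 12, 12, 12, 16, 16, 12, 16, 12, 16, 8, 12, 12, 16, 12, 16, 16, 12, 12, 16, 16, 12, 16, 16, 16, 16, 12, 12, 12, 16, 16, 16, 12, 16, 12, 12, 12, 16, 16, 12, 16, 16, 16, 12, 16, 16, 12, 16, 16, 16, 12, 16, 16, 16, 16, 16, 12, 16],
  [8, 12, 12, 12, 8, 12, 12, 12, 12, 16, 12, 12, 12, 12, 16, 12, 12, 12, 12, 8, 12, 12, 12, 16, 12, 12, 12, 16, 12, 16, 16, 16, 12, 12, 12, 12, 12, 12, 16, 16, 12, 12, 12, 12, 12, 16, 12, 16, 12, 16, 12, 16, 16, 12, 12, 16, 16, 12, 12, 16, 12, 12, 16, 16],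
  [12, 12, 12, 16, 12, 16, 12, 12, 12, 12, 16, 12, 12, 12, 12, 16, 12, 12, 12, 16, 16, 12, 16, 16, 12, 12, 12, 16, 16, 16, 12, 16, 12, 12, 12, 12, 12, 16, 16, 12, 8, 16, 16, 16, 16, 16, 16, 16, 12, 12, 16, 16, 12, 16, 12, 16, 16, 16, 16, 16, 16, 16, 16, 16],
  [8, 12, 12, 12, 16, 12, 12, 12, 12, 12, 12, 16, 12, 16, 16, 16, 12, 12, 12, 16, 12, 12, 12, 16, 16, 12, 16, 16, 16, 16, 12, 16, 12, 16, 16, 12, 12, 16, 12, 16, 12, 12, 16, 16, 12, 16, 16, 12, 12, 12, 16, 16, 16, 16, 16, 16, 12, 16, 12, 16, 16, 16, 16, 16],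
  [12, 12, 16, 12, 12, 16, 16, 16, 12, 16, 12, 12, 12, 16, 16, 16, 16, 16, 12, 16, 12, 16, 16, 16, 12, 16, 16, 16, 16, 12, 16, 16, 12, 16, 12, 16, 12, 12, 16, 16, 16, 16, 16, 16, 16, 16, 16, 16, 16, 12, 12, 16, 16, 16, 16, 16, 16, 16, 16, 16, 16, 16, 16, 24]]

theorem wts_eq : ∀ a < 64, (List.range 64).map (fun b => wt (cw (a * 64 + b))) = wtsRows.getD a [] := by
  decide +kernel

theorem card_filter_eq_count (f : ℕ → ℕ) (n k : ℕ) :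
    ((Finset.range n).filter (fun m => f m = k)).card = ((List.range n).map f).count k := by
  rw [List.count, List.countP_map, List.countP_eq_length_filter]
  rfl

set_option linter.constructorNameAsVariable false in
theorem card_filter_4096 (P : ℕ → Prop) [DecidablePred P] :
    ((Finset.range 4096).filter P).card
      = ∑ a ∈ Finset.range 64, ((Finset.range 64).filter (fun b => P (a * 64 + b))).card := by
  rw [Finset.card_filter]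
  have h : ∀ a ∈ Finset.range 64, ((Finset.range 64).filter (fun b => P (a * 64 + b))).card
      = ∑ b ∈ Finset.range 64, if P (a * 64 + b) then 1 else 0 := by
    intro a _
    rw [Finset.card_filter]
  rw [Finset.sum_congr rfl h, ← Finset.sum_product']
  symm
  refine Finset.sum_bij' (fun x _ => x.1 * 64 + x.2) (fun m _ => (m / 64, m % 64)) ?hi ?hj ?li ?ri ?h
  case hi =>
    intro x hx
    rw [Finset.mem_product, Finset.mem_range, Finset.mem_range] at hx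
    rw [Finset.mem_range]
    omega
  case hj =>
    intro m hm
    rw [Finset.mem_range] at hm
    rw [Finset.mem_product, Finset.mem_range, Finset.mem_range]
    exact ⟨by omega, Nat.mod_lt _ (by norm_num)⟩
  case li =>
    intro x hx
    rw [Finset.mem_product, Finset.mem_range, Finset.mem_range] at hx
    ext
    · show (x.1 * 64 + x.2) / 64 = x.1
      omega
    · show (x.1 * 64 + x.2) % 64 = x.2
      omega
  case ri =>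
    intro m _
    show m / 64 * 64 + m % 64 = m
    omega
  case h =>
    intro x _
    rfl

theorem count_wt (k : ℕ) :
    ((Finset.range 4096).filter (fun m => wt (cw m) = k)).card
      = ∑ a ∈ Finset.range 64, (wtsRows.getD a []).count k := by
  rw [card_filter_4096]
  apply Finset.sum_congr rfl
  intro a ha
  rw [Finset.mem_range] at ha
  rw [card_filter_eq_count (fun b => wt (cw (a * 64 + b))), wts_eq a ha]

theorem wt_mem (m : ℕ) (hm : m < 4096) : wt (cw m) ∈ wtsRows.getD (m / 64) [] := by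
  rw [← wts_eq (m / 64) (by omega)]
  refine List.mem_map.mpr ⟨m % 64, List.mem_range.mpr (Nat.mod_lt _ (by norm_num)), ?_⟩
  show wt (cw (m / 64 * 64 + m % 64)) = wt (cw m)
  rw [Nat.div_add_mod' m 64]

theorem weights (m : ℕ) (hm : m < 4096) : wt (cw m) = 0 ∨ wt (cw m) = 8 ∨ wt (cw m) = 12 ∨
    wt (cw m) = 16 ∨ wt (cw m) = 24 := by
  have h : ∀ a < 64, ∀ x ∈ wtsRows.getD a [], x = 0 ∨ x = 8 ∨ x = 12 ∨ x = 16 ∨ x = 24 := by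
    decide +kernel
  exact h (m / 64) (by omega) _ (wt_mem m hm)

theorem count8 : ((Finset.range 4096).filter (fun m => wt (cw m) = 8)).card = 759 := by
  rw [count_wt]
  decide +kernel

theorem count12 : ((Finset.range 4096).filter (fun m => wt (cw m) = 12)).card = 2576 := by
  rw [count_wt]
  decide +kernel

theorem count0 : ((Finset.range 4096).filter (fun m => wt (cw m) = 0)).card = 1 := by
  rw [count_wt]
  decide +kernel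

theorem wt_pos (m : ℕ) (hm : m < 4096) (hm0 : m ≠ 0) : 8 ≤ wt (cw m) := by
  have h0 : wt (cw m) ≠ 0 := by
    intro h0
    have hcard := count0
    rw [Finset.card_eq_one] at hcard
    obtain ⟨a, ha⟩ := hcard
    have h1 : m ∈ (Finset.range 4096).filter (fun m => wt (cw m) = 0) := by
      rw [Finset.mem_filter, Finset.mem_range]
      exact ⟨hm, h0⟩
    have h2 : 0 ∈ (Finset.range 4096).filter (fun m => wt (cw m) = 0) := by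
      rw [Finset.mem_filter, Finset.mem_range]
      exact ⟨by norm_num, by decide⟩
    rw [ha, Finset.mem_singleton] at h1 h2
    exact hm0 (h1.trans h2.symm)
  rcases weights m hm with h | h | h | h | h <;> omega

/-- The supports of code words of weight `k`, as a finset. -/
def weightFinset (k : ℕ) : Finset (Finset GolayPt) :=
  Finset.image (fun m => pts (cw m)) ((Finset.range 4096).filter (fun m => wt (cw m) = k))

theorem mem_supports {b : Finset GolayPt} :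
    b ∈ supports (golayCode : Set (GolayPt → ZMod 2)) ↔ ∃ m < 4096, b = pts (cw m) := by
  unfold supports
  constructor
  · rintro ⟨w, hw, rfl⟩
    obtain ⟨m, hm, rfl⟩ := exists_of_mem hw
    exact ⟨m, hm, support₂_toWord _⟩
  · rintro ⟨m, _, rfl⟩
    exact ⟨toWord (cw m), cw_mem m, support₂_toWord _⟩

theorem mem_weightFinset {k : ℕ} {b : Finset GolayPt} :
    b ∈ weightFinset k ↔ ∃ m < 4096, wt (cw m) = k ∧ b = pts (cw m) := by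
  unfold weightFinset
  simp only [Finset.mem_image, Finset.mem_filter, Finset.mem_range]
  constructor
  · rintro ⟨m, ⟨hm, hw⟩, rfl⟩
    exact ⟨m, hm, hw, rfl⟩
  · rintro ⟨m, hm, hw, rfl⟩
    exact ⟨m, ⟨hm, hw⟩, rfl⟩

theorem wordsOfWeight_eq (k : ℕ) :
    wordsOfWeight (golayCode : Set (GolayPt → ZMod 2)) k = ↑(weightFinset k) := by
  ext b
  rw [Finset.mem_coe, mem_weightFinset]
  unfold wordsOfWeight
  constructor
  · rintro ⟨hb, hcard⟩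
    obtain ⟨m, hm, rfl⟩ := mem_supports.mp hb
    exact ⟨m, hm, by rw [← card_pts]; exact hcard, rfl⟩
  · rintro ⟨m, hm, hw, rfl⟩
    exact ⟨mem_supports.mpr ⟨m, hm, rfl⟩, by rw [card_pts]; exact hw⟩

theorem card_weightFinset (k : ℕ) :
    (weightFinset k).card = ((Finset.range 4096).filter (fun m => wt (cw m) = k)).card := by
  unfold weightFinset
  apply Finset.card_image_of_injOn
  intro m hm m' hm' h
  rw [Finset.mem_coe, Finset.mem_filter, Finset.mem_range] at hm hm'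
  exact cw_injOn hm.1 hm'.1 h

theorem ncard_wordsOfWeight (k : ℕ) :
    (wordsOfWeight (golayCode : Set (GolayPt → ZMod 2)) k).ncard
      = ((Finset.range 4096).filter (fun m => wt (cw m) = k)).card := by
  rw [wordsOfWeight_eq, Set.ncard_coe_finset, card_weightFinset]

end Cfsg.Agent.helper2.Golay
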