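import Mathlib
import Cfsg.Agent.Lib_helper2_Golay2

set_option autoImplicit false
set_option linter.constructorNameAsVariable false

namespace Cfsg.Agent.helper2.Golay

open Cfsg

/-- Dot product of the words of two masks. -/
def D (a b : ℕ) : ZMod 2 := ∑ p, toWord a p * toWord b p

theorem D_xor_left (a a' b : ℕ) : D (a ^^^ a') b = D a b + D a' b := by
  simp only [D, toWord_xor, Pi.add_apply, add_mul, Finset.sum_add_distrib]

theorem D_xor_right (a b b' : ℕ) : D a (b ^^^ b') = D a b + D a b' := by
  simp only [D, toWord_xor, Pi.add_apply, mul_add, Finset.sum_add_distrib]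

theorem D_zero_left (b : ℕ) : D 0 b = 0 := by
  simp [D, toWord_zero]

theorem D_zero_right (a : ℕ) : D a 0 = 0 := by
  simp [D, toWord_zero]

theorem D_xorSel_left {gs : List ℕ} {b : ℕ} (h : ∀ g ∈ gs, D g b = 0) (m : ℕ) :
    D (xorSel gs m) b = 0 := by
  induction gs generalizing m with
  | nil => exact D_zero_left b
  | cons g gs ih =>
    simp only [xorSel, D_xor_left]
    rw [ih (fun g' hg' => h g' (by simp [hg'])), add_zero]
    split_ifs
    · exact h g (by simp)
    · exact D_zero_left b

theorem D_xorSel_right {gs : List ℕ} {a : ℕ} (h : ∀ g ∈ gs, D a g = 0) (m : ℕ) :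
    D a (xorSel gs m) = 0 := by
  induction gs generalizing m with
  | nil => exact D_zero_right a
  | cons g gs ih =>
    simp only [xorSel, D_xor_right]
    rw [ih (fun g' hg' => h g' (by simp [hg'])), add_zero]
    split_ifs
    · exact h g (by simp)
    · exact D_zero_right a

theorem D_rr : ∀ g ∈ rr, ∀ g' ∈ rr, D g g' = 0 := by decide +kernel

theorem D_cw (m m' : ℕ) : D (cw m) (cw m') = 0 := by
  apply D_xorSel_left
  intro g hg
  apply D_xorSel_right
  intro g' hg'
  exact D_rr g hg g' hg'

theorem dot_eq_zero {v w : GolayPt → ZMod 2} (hv : v ∈ golayCode) (hw : w ∈ golayCode) :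
    ∑ i, v i * w i = 0 := by
  obtain ⟨m, _, rfl⟩ := exists_of_mem hv
  obtain ⟨m', _, rfl⟩ := exists_of_mem hw
  exact D_cw m m'

theorem pts_xor (a b : ℕ) : pts (a ^^^ b) = symmDiff (pts a) (pts b) := by
  ext p
  rw [Finset.mem_symmDiff, mem_pts, mem_pts, mem_pts, Nat.testBit_xor]
  cases a.testBit (idx p) <;> cases b.testBit (idx p) <;> simp

theorem card_symmDiff_add {α : Type*} [DecidableEq α] (s t : Finset α) :
    (symmDiff s t).card + 2 * (s ∩ t).card = s.card + t.card := by
  have hD : symmDiff s t = (s \ t) ∪ (t \ s) := rfl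
  have hdisj : Disjoint (s \ t) (t \ s) := disjoint_sdiff_sdiff
  rw [hD, Finset.card_union_of_disjoint hdisj]
  have h1 := Finset.card_sdiff_add_card_inter s t
  have h2 := Finset.card_sdiff_add_card_inter t s
  rw [Finset.inter_comm t s] at h2
  omega

/-- The intersection formula for code words. -/
theorem card_inter_cw (m m' : ℕ) :
    wt (cw (m ^^^ m')) + 2 * (pts (cw m) ∩ pts (cw m')).card = wt (cw m) + wt (cw m') := by
  rw [cw_xor, ← card_pts, ← card_pts, ← card_pts, pts_xor]
  exact card_symmDiff_add _ _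

theorem xor_ne_zero {m m' : ℕ} (h : m ≠ m') : m ^^^ m' ≠ 0 := by
  intro h0
  exact h (Nat.xor_eq_zero_iff.mp h0)

/-- Two distinct octads share at most four points. -/
theorem octad_inter_le {o o' : Finset GolayPt} (ho : o ∈ weightFinset 8) (ho' : o' ∈ weightFinset 8)
    (hne : o ≠ o') : (o ∩ o').card ≤ 4 := by
  obtain ⟨m, hm, hw, rfl⟩ := mem_weightFinset.mp ho
  obtain ⟨m', hm', hw', rfl⟩ := mem_weightFinset.mp ho'
  have hmm : m ≠ m' := fun h => hne (by rw [h])
  have h1 := card_inter_cw m m'
  have h2 := wt_pos (m ^^^ m') (Nat.xor_lt_two_pow (n := 12) hm hm') (xor_ne_zero hmm)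
  omega

theorem card_weightFinset8 : (weightFinset 8).card = 759 := by
  rw [card_weightFinset, count8]

theorem card_of_mem_weightFinset {k : ℕ} {o : Finset GolayPt} (ho : o ∈ weightFinset k) :
    o.card = k := by
  obtain ⟨m, _, hw, rfl⟩ := mem_weightFinset.mp ho
  rw [card_pts, hw]

theorem card_golayPt : Fintype.card GolayPt = 24 := by decide

/-- The octads form a Steiner system `S(5, 8, 24)`. -/
theorem octads_steiner : IsSteinerSystem 5 8 octads := by
  have hoct : octads = ↑(weightFinset 8) := wordsOfWeight_eq 8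
  rw [hoct]
  refine ⟨fun b hb => card_of_mem_weightFinset hb, ?_⟩
  -- pairwise disjointness of the families of 5-subsets
  have hpd : ((weightFinset 8 : Finset (Finset GolayPt)) : Set (Finset GolayPt)).PairwiseDisjoint
      (fun o => o.powersetCard 5) := by
    intro o ho o' ho' hne
    rw [Function.onFun, Finset.disjoint_left]
    intro s hs hs'
    rw [Finset.mem_powersetCard] at hs hs'
    have h1 : s ⊆ o ∩ o' := Finset.subset_inter hs.1 hs'.1
    have h2 := Finset.card_le_card h1
    have h3 := octad_inter_le ho ho' hne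
    omega
  have hcardU : ((weightFinset 8).biUnion (fun o => o.powersetCard 5)).card = 42504 := by
    rw [Finset.card_biUnion hpd]
    have : ∀ o ∈ weightFinset 8, (o.powersetCard 5).card = 56 := by
      intro o ho
      rw [Finset.card_powersetCard, card_of_mem_weightFinset ho]
      decide
    rw [Finset.sum_congr rfl this, Finset.sum_const, card_weightFinset8]
    rfl
  have hsub : (weightFinset 8).biUnion (fun o => o.powersetCard 5)
      ⊆ (Finset.univ : Finset GolayPt).powersetCard 5 := by
    intro s hs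
    rw [Finset.mem_biUnion] at hs
    obtain ⟨o, _, hso⟩ := hs
    rw [Finset.mem_powersetCard] at hso ⊢
    exact ⟨Finset.subset_univ _, hso.2⟩
  have hall : ((Finset.univ : Finset GolayPt).powersetCard 5).card = 42504 := by
    rw [Finset.card_powersetCard, Finset.card_univ, card_golayPt]
    decide
  have heq : (weightFinset 8).biUnion (fun o => o.powersetCard 5)
      = (Finset.univ : Finset GolayPt).powersetCard 5 :=
    Finset.eq_of_subset_of_card_le hsub (by rw [hall, hcardU])
  intro s hs
  have hmem : s ∈ (Finset.univ : Finset GolayPt).powersetCard 5 := by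
    rw [Finset.mem_powersetCard]
    exact ⟨Finset.subset_univ _, hs⟩
  rw [← heq, Finset.mem_biUnion] at hmem
  obtain ⟨o, ho, hso⟩ := hmem
  rw [Finset.mem_powersetCard] at hso
  refine ⟨o, ⟨ho, hso.1⟩, ?_⟩
  rintro o' ⟨ho', hso'⟩
  by_contra hne
  have h1 : s ⊆ o' ∩ o := Finset.subset_inter hso' hso.1
  have h2 := Finset.card_le_card h1
  have h3 := octad_inter_le ho' ho hne
  omega

/-- An octad and a dodecad meet in 2, 4 or 6 points. -/
theorem octad_dodecad_inter {o d : Finset GolayPt} (ho : o ∈ weightFinset 8)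
    (hd : d ∈ weightFinset 12) : (o ∩ d).card = 2 ∨ (o ∩ d).card = 4 ∨ (o ∩ d).card = 6 := by
  obtain ⟨m, hm, hw, rfl⟩ := mem_weightFinset.mp ho
  obtain ⟨m', hm', hw', rfl⟩ := mem_weightFinset.mp hd
  have h1 := card_inter_cw m m'
  have h2 := weights (m ^^^ m') (Nat.xor_lt_two_pow (n := 12) hm hm')
  have hle : (pts (cw m) ∩ pts (cw m')).card ≤ 8 := by
    have := Finset.card_le_card (Finset.inter_subset_left : pts (cw m) ∩ pts (cw m') ⊆ pts (cw m))
    rw [card_pts, hw] at this
    exact this
  rcases h2 with h | h | h | h | h <;> omega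

/-- The minimum weight of the code is 8. -/
theorem min_weight {w : GolayPt → ZMod 2} (hw : w ∈ golayCode) (hne : w ≠ 0) :
    8 ≤ hammingNorm w := by
  obtain ⟨m, hm, rfl⟩ := exists_of_mem hw
  rw [hammingNorm_toWord]
  apply wt_pos m hm
  rintro rfl
  apply hne
  rw [cw, xorSel_zero, toWord_zero]

theorem finrank_golayCode : Module.finrank (ZMod 2) golayCode = 12 := by
  have hcard : Nat.card golayCode = 4096 := by
    have hset : (golayCode : Set (GolayPt → ZMod 2))
        = ↑(Finset.image (fun m => toWord (cw m)) (Finset.range 4096)) := by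
      ext w
      rw [SetLike.mem_coe, mem_iff, Finset.mem_coe, Finset.mem_image]
      constructor
      · rintro ⟨m, hm, rfl⟩
        exact ⟨m, Finset.mem_range.mpr hm, rfl⟩
      · rintro ⟨m, hm, rfl⟩
        exact ⟨m, Finset.mem_range.mp hm, rfl⟩
    have h1 : Nat.card golayCode = (golayCode : Set (GolayPt → ZMod 2)).ncard := rfl
    rw [h1, hset, Set.ncard_coe_finset, Finset.card_image_of_injOn, Finset.card_range]
    intro m hm m' hm' h
    rw [Finset.mem_coe, Finset.mem_range] at hm hm'
    exact cw_injOn hm hm' (toWord_inj_pts h)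
  have h2 := Module.natCard_eq_pow_finrank (K := ZMod 2) (V := golayCode)
  rw [hcard, Nat.card_zmod] at h2
  have h3 : (2 : ℕ) ^ 12 = 2 ^ Module.finrank (ZMod 2) golayCode := by
    rw [← h2]
    norm_num
  exact (Nat.pow_right_injective (le_refl 2) h3).symm

end Cfsg.Agent.helper2.Golay
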