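import Mathlib
import Cfsg.Agent.Lib_helper2_Golay3
import Cfsg.Agent.Lib_helper27_Golay

set_option autoImplicit false
set_option linter.constructorNameAsVariable false

namespace Cfsg.Agent.helper2.Golay

open Cfsg Cfsg.Agent.helper27

/-- The number with bits `f j, f (j+1), ..., f (j+k-1)`. -/
def mkBits (f : ℕ → Bool) : ℕ → ℕ → ℕ
  | _, 0 => 0
  | j, k + 1 => Nat.bit (f j) (mkBits f (j + 1) k)

theorem testBit_mkBits (f : ℕ → Bool) (j k i : ℕ) :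
    (mkBits f j k).testBit i = (decide (i < k) && f (j + i)) := by
  induction k generalizing i j with
  | zero => simp [mkBits]
  | succ k ih =>
    cases i with
    | zero => simp [mkBits]
    | succ i =>
      rw [mkBits, Nat.testBit_bit_succ, ih]
      have : j + 1 + i = j + (i + 1) := by omega
      rw [this]
      simp

/-- The mask whose bit `j` is bit `f j` of `a`. -/
def pull (f : ℕ → ℕ) (a : ℕ) : ℕ := mkBits (fun j => a.testBit (f j)) 0 24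

theorem toWord_pull (f : ℕ → ℕ) (a : ℕ) (p : GolayPt) (hf : f (idx p) < 24) :
    toWord (pull f a) p = toWord a (pt (f (idx p))) := by
  unfold toWord pull
  rw [testBit_mkBits, idx_pt _ hf]
  simp [idx_lt p]

/-- Table lookup. -/
def tb (L : List ℕ) (i : ℕ) : ℕ := L.getD i 0

/-- The two tables are mutually inverse permutations of `0..23`. -/
def tablesOK (L Li : List ℕ) : Bool :=
  (List.range 24).all (fun i => decide (tb L i < 24) && decide (tb Li i < 24) &&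
    (tb Li (tb L i) == i) && (tb L (tb Li i) == i))

theorem tablesOK_spec {L Li : List ℕ} (h : tablesOK L Li = true) :
    ∀ i < 24, tb L i < 24 ∧ tb Li i < 24 ∧ tb Li (tb L i) = i ∧ tb L (tb Li i) = i := by
  intro i hi
  unfold tablesOK at h
  rw [List.all_eq_true] at h
  have := h i (List.mem_range.mpr hi)
  simp only [Bool.and_eq_true, decide_eq_true_eq, beq_iff_eq] at this
  tauto

/-- The permutation attached to a pair of mutually inverse tables. -/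
def permOf (L Li : List ℕ) (h : tablesOK L Li = true) : Equiv.Perm GolayPt where
  toFun p := pt (tb L (idx p))
  invFun p := pt (tb Li (idx p))
  left_inv p := by
    have h1 := tablesOK_spec h (idx p) (idx_lt p)
    show pt (tb Li (idx (pt (tb L (idx p))))) = p
    rw [idx_pt _ h1.1, h1.2.2.1, pt_idx]
  right_inv p := by
    have h1 := tablesOK_spec h (idx p) (idx_lt p)
    show pt (tb L (idx (pt (tb Li (idx p))))) = p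
    rw [idx_pt _ h1.2.1, h1.2.2.2, pt_idx]

theorem permOf_apply (L Li : List ℕ) (h : tablesOK L Li = true) (p : GolayPt) :
    permOf L Li h p = pt (tb L (idx p)) := rfl

theorem permOf_symm_apply (L Li : List ℕ) (h : tablesOK L Li = true) (p : GolayPt) :
    (permOf L Li h).symm p = pt (tb Li (idx p)) := rfl

/-- The inverse table maps the basis of the code into the code. -/
def codeOK (Li : List ℕ) : Bool :=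
  rr.all (fun r => cw (pull (tb Li) r % 4096) == pull (tb Li) r)

theorem wperm_permOf_toWord (L Li : List ℕ) (h : tablesOK L Li = true) (a : ℕ) :
    wperm (permOf L Li h) (toWord a) = toWord (pull (tb Li) a) := by
  funext p
  unfold wperm
  rw [permOf_symm_apply, toWord_pull]
  exact (tablesOK_spec h (idx p) (idx_lt p)).2.1

theorem wperm_xorSel_mem (σ : Equiv.Perm GolayPt) {gs : List ℕ}
    (hg : ∀ g ∈ gs, wperm σ (toWord g) ∈ golayCode) (m : ℕ) :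
    wperm σ (toWord (xorSel gs m)) ∈ golayCode := by
  induction gs generalizing m with
  | nil =>
    simp only [xorSel, toWord_zero, wperm_zero]
    exact Submodule.zero_mem _
  | cons g gs ih =>
    simp only [xorSel, toWord_xor, wperm_add]
    apply Submodule.add_mem
    · split_ifs
      · exact hg g (by simp)
      · rw [toWord_zero, wperm_zero]
        exact Submodule.zero_mem _
    · exact ih (fun g' hg' => hg g' (by simp [hg'])) _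

theorem mem_M24_of_preserves_one (σ : Equiv.Perm GolayPt)
    (h1 : ∀ w ∈ golayCode, wperm σ w ∈ golayCode) : σ ∈ M24 := by
  apply mem_M24_of_preserves σ h1
  let φ : golayCode → golayCode := fun w => ⟨wperm σ w.1, h1 w.1 w.2⟩
  have hinj : Function.Injective φ := by
    intro v w hvw
    have h2 : wperm σ v.1 = wperm σ w.1 := congrArg Subtype.val hvw
    have h3 := congrArg (wperm σ⁻¹) h2
    rw [← wperm_mul, ← wperm_mul, inv_mul_cancel, wperm_one, wperm_one] at h3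
    exact Subtype.ext h3
  have hsurj : Function.Surjective φ := Finite.surjective_of_injective hinj
  intro w hw
  obtain ⟨w', hw'⟩ := hsurj ⟨w, hw⟩
  have h2 : wperm σ w'.1 = w := congrArg Subtype.val hw'
  rw [← h2, ← wperm_mul, inv_mul_cancel, wperm_one]
  exact w'.2

theorem permOf_mem (L Li : List ℕ) (h : tablesOK L Li = true) (hc : codeOK Li = true) :
    permOf L Li h ∈ M24 := by
  apply mem_M24_of_preserves_one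
  intro w hw
  obtain ⟨m, _, rfl⟩ := exists_of_mem hw
  apply wperm_xorSel_mem
  intro r hr
  rw [wperm_permOf_toWord]
  unfold codeOK at hc
  rw [List.all_eq_true] at hc
  have := hc r hr
  rw [beq_iff_eq] at this
  rw [← this]
  exact cw_mem _

/-- The base points. -/
def bs : ℕ → ℕ
  | 0 => 23
  | 1 => 0
  | 2 => 1
  | 3 => 2
  | 4 => 3
  | _ => 0

theorem bs_lt : ∀ k < 5, bs k < 24 := by decide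

/-- Data check for level `k` of the stabiliser chain. -/
def levelOK (k : ℕ) (data : List (List ℕ × List ℕ)) : Bool :=
  (List.range 24).all (fun i =>
    ((List.range k).any (fun j => i == bs j)) ||
      (tablesOK (data.getD i ([], [])).1 (data.getD i ([], [])).2 &&
        codeOK (data.getD i ([], [])).2 &&
        (List.range k).all (fun j => tb (data.getD i ([], [])).1 (bs j) == bs j) &&
        (tb (data.getD i ([], [])).1 i == bs k)))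

theorem level_spec (k : ℕ) (hk : k < 5) (data : List (List ℕ × List ℕ))
    (h : levelOK k data = true) (q : GolayPt) (hq : ∀ j < k, idx q ≠ bs j) :
    ∃ g ∈ M24, (∀ j < k, g (pt (bs j)) = pt (bs j)) ∧ g q = pt (bs k) := by
  unfold levelOK at h
  rw [List.all_eq_true] at h
  have h1 := h (idx q) (List.mem_range.mpr (idx_lt q))
  rw [Bool.or_eq_true] at h1
  rcases h1 with h1 | h1
  · exfalso
    rw [List.any_eq_true] at h1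
    obtain ⟨j, hj, hjq⟩ := h1
    rw [List.mem_range] at hj
    rw [beq_iff_eq] at hjq
    exact hq j hj hjq
  · simp only [Bool.and_eq_true] at h1
    obtain ⟨⟨⟨ht, hc⟩, hfix⟩, himg⟩ := h1
    refine ⟨permOf _ _ ht, permOf_mem _ _ ht hc, ?_, ?_⟩
    · intro j hj
      rw [List.all_eq_true] at hfix
      have := hfix j (List.mem_range.mpr hj)
      rw [beq_iff_eq] at this
      rw [permOf_apply, idx_pt _ (bs_lt j (by omega)), this]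
    · rw [beq_iff_eq] at himg
      rw [permOf_apply, himg]

def lvl0 : List (List ℕ × List ℕ) := [
  ([23, 22, 11, 15, 17, 9, 19, 13, 20, 5, 16, 2, 21, 7, 18, 3, 10, 4, 14, 6, 8, 12, 1, 0], [23, 22, 11, 15, 17, 9, 19, 13, 20, 5, 16, 2, 21, 7, 18, 3, 10, 4, 14, 6, 8, 12, 1, 0]),
  ([1, 23, 22, 11, 15, 17, 9, 19, 13, 20, 5, 16, 2, 21, 7, 18, 3, 10, 4, 14, 6, 8, 12, 0], [23, 0, 12, 16, 18, 10, 20, 14, 21, 6, 17, 3, 22, 8, 19, 4, 11, 5, 15, 7, 9, 13, 2, 1]),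
  ([12, 1, 23, 22, 11, 15, 17, 9, 19, 13, 20, 5, 16, 2, 21, 7, 18, 3, 10, 4, 14, 6, 8, 0], [23, 1, 13, 17, 19, 11, 21, 15, 22, 7, 18, 4, 0, 9, 20, 5, 12, 6, 16, 8, 10, 14, 3, 2]),
  ([8, 12, 1, 23, 22, 11, 15, 17, 9, 19, 13, 20, 5, 16, 2, 21, 7, 18, 3, 10, 4, 14, 6, 0], [23, 2, 14, 18, 20, 12, 22, 16, 0, 8, 19, 5, 1, 10, 21, 6, 13, 7, 17, 9, 11, 15, 4, 3]),
  ([6, 8, 12, 1, 23, 22, 11, 15, 17, 9, 19, 13, 20, 5, 16, 2, 21, 7, 18, 3, 10, 4, 14, 0], [23, 3, 15, 19, 21, 13, 0, 17, 1, 9, 20, 6, 2, 11, 22, 7, 14, 8, 18, 10, 12, 16, 5, 4]),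
  ([14, 6, 8, 12, 1, 23, 22, 11, 15, 17, 9, 19, 13, 20, 5, 16, 2, 21, 7, 18, 3, 10, 4, 0], [23, 4, 16, 20, 22, 14, 1, 18, 2, 10, 21, 7, 3, 12, 0, 8, 15, 9, 19, 11, 13, 17, 6, 5]),
  ([4, 14, 6, 8, 12, 1, 23, 22, 11, 15, 17, 9, 19, 13, 20, 5, 16, 2, 21, 7, 18, 3, 10, 0], [23, 5, 17, 21, 0, 15, 2, 19, 3, 11, 22, 8, 4, 13, 1, 9, 16, 10, 20, 12, 14, 18, 7, 6]),
  ([12, 19, 15, 9, 22, 2, 11, 23, 21, 7, 10, 0, 17, 13, 20, 8, 14, 5, 6, 3, 4, 18, 1, 16], [11, 22, 5, 19, 20, 17, 18, 9, 15, 3, 10, 6, 0, 13, 16, 2, 23, 12, 21, 1, 14, 8, 4, 7]),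
  ([1, 12, 19, 15, 9, 22, 2, 11, 23, 21, 7, 10, 0, 17, 13, 20, 8, 14, 5, 6, 3, 4, 18, 16], [12, 0, 6, 20, 21, 18, 19, 10, 16, 4, 11, 7, 1, 14, 17, 3, 23, 13, 22, 2, 15, 9, 5, 8]),
  ([0, 4, 19, 16, 21, 17, 18, 20, 3, 23, 2, 8, 10, 11, 7, 12, 9, 1, 5, 22, 15, 13, 6, 14], [0, 17, 10, 8, 1, 18, 22, 14, 11, 16, 12, 13, 15, 21, 23, 20, 3, 5, 6, 2, 7, 4, 19, 9]),
  ([8, 5, 7, 3, 13, 4, 2, 14, 15, 18, 23, 6, 9, 10, 22, 20, 11, 21, 17, 19, 16, 1, 0, 12], [22, 21, 6, 3, 5, 1, 11, 2, 0, 12, 13, 16, 23, 4, 7, 8, 20, 18, 9, 19, 15, 17, 14, 10]),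
  ([0, 8, 5, 7, 3, 13, 4, 2, 14, 15, 18, 23, 6, 9, 10, 22, 20, 11, 21, 17, 19, 16, 1, 12], [0, 22, 7, 4, 6, 2, 12, 3, 1, 13, 14, 17, 23, 5, 8, 9, 21, 19, 10, 20, 16, 18, 15, 11]),
  ([1, 0, 8, 5, 7, 3, 13, 4, 2, 14, 15, 18, 23, 6, 9, 10, 22, 20, 11, 21, 17, 19, 16, 12], [1, 0, 8, 5, 7, 3, 13, 4, 2, 14, 15, 18, 23, 6, 9, 10, 22, 20, 11, 21, 17, 19, 16, 12]),
  ([16, 1, 0, 8, 5, 7, 3, 13, 4, 2, 14, 15, 18, 23, 6, 9, 10, 22, 20, 11, 21, 17, 19, 12], [2, 1, 9, 6, 8, 4, 14, 5, 3, 15, 16, 19, 23, 7, 10, 11, 0, 21, 12, 22, 18, 20, 17, 13]),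
  ([19, 16, 1, 0, 8, 5, 7, 3, 13, 4, 2, 14, 15, 18, 23, 6, 9, 10, 22, 20, 11, 21, 17, 12], [3, 2, 10, 7, 9, 5, 15, 6, 4, 16, 17, 20, 23, 8, 11, 12, 1, 22, 13, 0, 19, 21, 18, 14]),
  ([0, 6, 20, 21, 18, 19, 10, 16, 4, 11, 7, 1, 14, 17, 3, 23, 13, 22, 2, 15, 9, 5, 12, 8], [0, 11, 18, 14, 8, 21, 1, 10, 23, 20, 6, 9, 22, 16, 12, 19, 7, 13, 4, 5, 2, 3, 17, 15]),
  ([12, 0, 6, 20, 21, 18, 19, 10, 16, 4, 11, 7, 1, 14, 17, 3, 23, 13, 22, 2, 15, 9, 5, 8], [1, 12, 19, 15, 9, 22, 2, 11, 23, 21, 7, 10, 0, 17, 13, 20, 8, 14, 5, 6, 3, 4, 18, 16]),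
  ([0, 14, 13, 2, 7, 9, 3, 5, 10, 22, 21, 12, 4, 15, 18, 1, 19, 23, 16, 11, 17, 20, 8, 6], [0, 15, 3, 6, 12, 7, 23, 4, 22, 5, 8, 19, 11, 2, 1, 13, 18, 20, 14, 16, 21, 10, 9, 17]),
  ([8, 0, 14, 13, 2, 7, 9, 3, 5, 10, 22, 21, 12, 4, 15, 18, 1, 19, 23, 16, 11, 17, 20, 6], [1, 16, 4, 7, 13, 8, 23, 5, 0, 6, 9, 20, 12, 3, 2, 14, 19, 21, 15, 17, 22, 11, 10, 18]),
  ([0, 10, 9, 5, 2, 15, 7, 13, 18, 1, 16, 6, 3, 22, 21, 8, 17, 12, 20, 23, 11, 19, 14, 4], [0, 9, 4, 12, 23, 3, 11, 6, 15, 2, 1, 20, 17, 7, 22, 5, 10, 16, 8, 21, 18, 14, 13, 19]),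
  ([14, 0, 10, 9, 5, 2, 15, 7, 13, 18, 1, 16, 6, 3, 22, 21, 8, 17, 12, 20, 23, 11, 19, 4], [1, 10, 5, 13, 23, 4, 12, 7, 16, 3, 2, 21, 18, 8, 0, 6, 11, 17, 9, 22, 19, 15, 14, 20]),
  ([12, 16, 18, 10, 20, 14, 21, 6, 17, 3, 22, 8, 19, 4, 11, 5, 15, 7, 9, 13, 2, 23, 0, 1], [22, 23, 20, 9, 13, 15, 7, 17, 11, 18, 3, 14, 0, 19, 5, 16, 1, 8, 2, 12, 4, 6, 10, 21]),
  ([0, 12, 16, 18, 10, 20, 14, 21, 6, 17, 3, 22, 8, 19, 4, 11, 5, 15, 7, 9, 13, 2, 23, 1], [0, 23, 21, 10, 14, 16, 8, 18, 12, 19, 4, 15, 1, 20, 6, 17, 2, 9, 3, 13, 5, 7, 11, 22]),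
  ([0, 1, 2, 3, 4, 5, 6, 7, 8, 9, 10, 11, 12, 13, 14, 15, 16, 17, 18, 19, 20, 21, 22, 23], [0, 1, 2, 3, 4, 5, 6, 7, 8, 9, 10, 11, 12, 13, 14, 15, 16, 17, 18, 19, 20, 21, 22, 23])]

def lvl1 : List (List ℕ × List ℕ) := [
  ([0, 1, 2, 3, 4, 5, 6, 7, 8, 9, 10, 11, 12, 13, 14, 15, 16, 17, 18, 19, 20, 21, 22, 23], [0, 1, 2, 3, 4, 5, 6, 7, 8, 9, 10, 11, 12, 13, 14, 15, 16, 17, 18, 19, 20, 21, 22, 23]),
  ([22, 0, 1, 2, 3, 4, 5, 6, 7, 8, 9, 10, 11, 12, 13, 14, 15, 16, 17, 18, 19, 20, 21, 23], [1, 2, 3, 4, 5, 6, 7, 8, 9, 10, 11, 12, 13, 14, 15, 16, 17, 18, 19, 20, 21, 22, 0, 23]),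
  ([21, 22, 0, 1, 2, 3, 4, 5, 6, 7, 8, 9, 10, 11, 12, 13, 14, 15, 16, 17, 18, 19, 20, 23], [2, 3, 4, 5, 6, 7, 8, 9, 10, 11, 12, 13, 14, 15, 16, 17, 18, 19, 20, 21, 22, 0, 1, 23]),
  ([20, 21, 22, 0, 1, 2, 3, 4, 5, 6, 7, 8, 9, 10, 11, 12, 13, 14, 15, 16, 17, 18, 19, 23], [3, 4, 5, 6, 7, 8, 9, 10, 11, 12, 13, 14, 15, 16, 17, 18, 19, 20, 21, 22, 0, 1, 2, 23]),
  ([19, 20, 21, 22, 0, 1, 2, 3, 4, 5, 6, 7, 8, 9, 10, 11, 12, 13, 14, 15, 16, 17, 18, 23], [4, 5, 6, 7, 8, 9, 10, 11, 12, 13, 14, 15, 16, 17, 18, 19, 20, 21, 22, 0, 1, 2, 3, 23]),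
  ([18, 19, 20, 21, 22, 0, 1, 2, 3, 4, 5, 6, 7, 8, 9, 10, 11, 12, 13, 14, 15, 16, 17, 23], [5, 6, 7, 8, 9, 10, 11, 12, 13, 14, 15, 16, 17, 18, 19, 20, 21, 22, 0, 1, 2, 3, 4, 23]),
  ([17, 18, 19, 20, 21, 22, 0, 1, 2, 3, 4, 5, 6, 7, 8, 9, 10, 11, 12, 13, 14, 15, 16, 23], [6, 7, 8, 9, 10, 11, 12, 13, 14, 15, 16, 17, 18, 19, 20, 21, 22, 0, 1, 2, 3, 4, 5, 23]),
  ([16, 17, 18, 19, 20, 21, 22, 0, 1, 2, 3, 4, 5, 6, 7, 8, 9, 10, 11, 12, 13, 14, 15, 23], [7, 8, 9, 10, 11, 12, 13, 14, 15, 16, 17, 18, 19, 20, 21, 22, 0, 1, 2, 3, 4, 5, 6, 23]),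
  ([15, 16, 17, 18, 19, 20, 21, 22, 0, 1, 2, 3, 4, 5, 6, 7, 8, 9, 10, 11, 12, 13, 14, 23], [8, 9, 10, 11, 12, 13, 14, 15, 16, 17, 18, 19, 20, 21, 22, 0, 1, 2, 3, 4, 5, 6, 7, 23]),
  ([14, 15, 16, 17, 18, 19, 20, 21, 22, 0, 1, 2, 3, 4, 5, 6, 7, 8, 9, 10, 11, 12, 13, 23], [9, 10, 11, 12, 13, 14, 15, 16, 17, 18, 19, 20, 21, 22, 0, 1, 2, 3, 4, 5, 6, 7, 8, 23]),
  ([13, 14, 15, 16, 17, 18, 19, 20, 21, 22, 0, 1, 2, 3, 4, 5, 6, 7, 8, 9, 10, 11, 12, 23], [10, 11, 12, 13, 14, 15, 16, 17, 18, 19, 20, 21, 22, 0, 1, 2, 3, 4, 5, 6, 7, 8, 9, 23]),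
  ([12, 13, 14, 15, 16, 17, 18, 19, 20, 21, 22, 0, 1, 2, 3, 4, 5, 6, 7, 8, 9, 10, 11, 23], [11, 12, 13, 14, 15, 16, 17, 18, 19, 20, 21, 22, 0, 1, 2, 3, 4, 5, 6, 7, 8, 9, 10, 23]),
  ([11, 12, 13, 14, 15, 16, 17, 18, 19, 20, 21, 22, 0, 1, 2, 3, 4, 5, 6, 7, 8, 9, 10, 23], [12, 13, 14, 15, 16, 17, 18, 19, 20, 21, 22, 0, 1, 2, 3, 4, 5, 6, 7, 8, 9, 10, 11, 23]),
  ([10, 11, 12, 13, 14, 15, 16, 17, 18, 19, 20, 21, 22, 0, 1, 2, 3, 4, 5, 6, 7, 8, 9, 23], [13, 14, 15, 16, 17, 18, 19, 20, 21, 22, 0, 1, 2, 3, 4, 5, 6, 7, 8, 9, 10, 11, 12, 23]),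
  ([9, 10, 11, 12, 13, 14, 15, 16, 17, 18, 19, 20, 21, 22, 0, 1, 2, 3, 4, 5, 6, 7, 8, 23], [14, 15, 16, 17, 18, 19, 20, 21, 22, 0, 1, 2, 3, 4, 5, 6, 7, 8, 9, 10, 11, 12, 13, 23]),
  ([8, 9, 10, 11, 12, 13, 14, 15, 16, 17, 18, 19, 20, 21, 22, 0, 1, 2, 3, 4, 5, 6, 7, 23], [15, 16, 17, 18, 19, 20, 21, 22, 0, 1, 2, 3, 4, 5, 6, 7, 8, 9, 10, 11, 12, 13, 14, 23]),
  ([7, 8, 9, 10, 11, 12, 13, 14, 15, 16, 17, 18, 19, 20, 21, 22, 0, 1, 2, 3, 4, 5, 6, 23], [16, 17, 18, 19, 20, 21, 22, 0, 1, 2, 3, 4, 5, 6, 7, 8, 9, 10, 11, 12, 13, 14, 15, 23]),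
  ([6, 7, 8, 9, 10, 11, 12, 13, 14, 15, 16, 17, 18, 19, 20, 21, 22, 0, 1, 2, 3, 4, 5, 23], [17, 18, 19, 20, 21, 22, 0, 1, 2, 3, 4, 5, 6, 7, 8, 9, 10, 11, 12, 13, 14, 15, 16, 23]),
  ([5, 6, 7, 8, 9, 10, 11, 12, 13, 14, 15, 16, 17, 18, 19, 20, 21, 22, 0, 1, 2, 3, 4, 23], [18, 19, 20, 21, 22, 0, 1, 2, 3, 4, 5, 6, 7, 8, 9, 10, 11, 12, 13, 14, 15, 16, 17, 23]),
  ([4, 5, 6, 7, 8, 9, 10, 11, 12, 13, 14, 15, 16, 17, 18, 19, 20, 21, 22, 0, 1, 2, 3, 23], [19, 20, 21, 22, 0, 1, 2, 3, 4, 5, 6, 7, 8, 9, 10, 11, 12, 13, 14, 15, 16, 17, 18, 23]),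
  ([3, 4, 5, 6, 7, 8, 9, 10, 11, 12, 13, 14, 15, 16, 17, 18, 19, 20, 21, 22, 0, 1, 2, 23], [20, 21, 22, 0, 1, 2, 3, 4, 5, 6, 7, 8, 9, 10, 11, 12, 13, 14, 15, 16, 17, 18, 19, 23]),
  ([2, 3, 4, 5, 6, 7, 8, 9, 10, 11, 12, 13, 14, 15, 16, 17, 18, 19, 20, 21, 22, 0, 1, 23], [21, 22, 0, 1, 2, 3, 4, 5, 6, 7, 8, 9, 10, 11, 12, 13, 14, 15, 16, 17, 18, 19, 20, 23]),
  ([1, 2, 3, 4, 5, 6, 7, 8, 9, 10, 11, 12, 13, 14, 15, 16, 17, 18, 19, 20, 21, 22, 0, 23], [22, 0, 1, 2, 3, 4, 5, 6, 7, 8, 9, 10, 11, 12, 13, 14, 15, 16, 17, 18, 19, 20, 21, 23]),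
  ([], [])]

def lvl2 : List (List ℕ × List ℕ) := [
  ([], []),
  ([0, 1, 2, 3, 4, 5, 6, 7, 8, 9, 10, 11, 12, 13, 14, 15, 16, 17, 18, 19, 20, 21, 22, 23], [0, 1, 2, 3, 4, 5, 6, 7, 8, 9, 10, 11, 12, 13, 14, 15, 16, 17, 18, 19, 20, 21, 22, 23]),
  ([0, 4, 1, 3, 6, 20, 18, 21, 13, 8, 5, 22, 16, 12, 11, 15, 9, 19, 2, 14, 7, 10, 17, 23], [0, 2, 18, 3, 1, 10, 4, 20, 9, 16, 21, 14, 13, 8, 19, 15, 12, 22, 6, 17, 5, 7, 11, 23]),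
  ([0, 6, 21, 1, 10, 19, 15, 20, 14, 18, 11, 8, 12, 16, 2, 17, 22, 7, 5, 13, 3, 4, 9, 23], [0, 3, 14, 20, 21, 18, 1, 17, 11, 22, 4, 10, 12, 19, 8, 6, 13, 15, 9, 5, 7, 2, 16, 23]),
  ([0, 2, 18, 3, 1, 10, 4, 20, 9, 16, 21, 14, 13, 8, 19, 15, 12, 22, 6, 17, 5, 7, 11, 23], [0, 4, 1, 3, 6, 20, 18, 21, 13, 8, 5, 22, 16, 12, 11, 15, 9, 19, 2, 14, 7, 10, 17, 23]),
  ([0, 15, 6, 11, 3, 1, 10, 12, 21, 17, 8, 13, 4, 19, 14, 22, 5, 16, 20, 7, 2, 18, 9, 23], [0, 5, 20, 4, 12, 16, 2, 19, 10, 22, 6, 3, 7, 11, 14, 1, 17, 9, 21, 13, 18, 8, 15, 23]),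
  ([0, 18, 6, 3, 2, 21, 1, 5, 16, 12, 7, 19, 8, 9, 17, 15, 13, 11, 4, 22, 10, 20, 14, 23], [0, 6, 4, 3, 18, 7, 2, 10, 12, 13, 20, 17, 9, 16, 22, 15, 8, 14, 1, 11, 21, 5, 19, 23]),
  ([0, 3, 4, 5, 6, 13, 20, 1, 10, 2, 21, 15, 16, 7, 18, 8, 14, 12, 17, 19, 9, 11, 22, 23], [0, 7, 9, 1, 2, 3, 4, 13, 15, 20, 8, 21, 17, 5, 16, 11, 12, 18, 14, 19, 6, 10, 22, 23]),
  ([0, 5, 7, 6, 2, 17, 20, 3, 1, 19, 18, 4, 8, 22, 16, 14, 9, 13, 15, 10, 11, 21, 12, 23], [0, 8, 4, 7, 11, 1, 3, 2, 12, 16, 19, 20, 22, 17, 15, 18, 14, 5, 10, 9, 6, 21, 13, 23]),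
  ([0, 2, 5, 6, 20, 11, 15, 21, 22, 1, 17, 12, 9, 8, 4, 14, 19, 10, 7, 16, 3, 18, 13, 23], [0, 9, 1, 20, 14, 2, 3, 18, 13, 12, 17, 5, 11, 22, 15, 6, 19, 10, 21, 16, 4, 7, 8, 23]),
  ([0, 17, 20, 5, 4, 11, 3, 13, 14, 16, 1, 19, 10, 2, 12, 8, 7, 15, 6, 22, 21, 9, 18, 23], [0, 10, 13, 6, 4, 3, 18, 16, 15, 21, 12, 5, 14, 7, 8, 17, 9, 1, 22, 11, 2, 20, 19, 23]),
  ([0, 10, 20, 4, 18, 22, 5, 3, 2, 17, 6, 1, 9, 11, 12, 19, 16, 8, 15, 21, 14, 7, 13, 23], [0, 11, 8, 7, 3, 6, 10, 21, 17, 12, 1, 13, 14, 22, 20, 18, 16, 9, 4, 15, 2, 19, 5, 23]),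
  ([0, 15, 20, 6, 7, 21, 5, 17, 9, 8, 3, 10, 1, 19, 13, 14, 22, 4, 2, 12, 18, 11, 16, 23], [0, 12, 18, 10, 17, 6, 3, 4, 9, 8, 11, 21, 19, 14, 15, 1, 22, 7, 20, 13, 2, 5, 16, 23]),
  ([0, 19, 7, 20, 6, 22, 3, 12, 11, 9, 4, 14, 5, 1, 16, 13, 21, 15, 18, 17, 10, 8, 2, 23], [0, 13, 22, 6, 10, 12, 4, 2, 21, 9, 20, 8, 7, 15, 11, 17, 14, 19, 18, 1, 3, 16, 5, 23]),
  ([0, 18, 10, 4, 5, 14, 15, 7, 11, 2, 22, 13, 16, 9, 1, 19, 17, 21, 20, 12, 3, 6, 8, 23], [0, 14, 9, 20, 3, 4, 21, 7, 22, 13, 2, 8, 19, 11, 5, 6, 12, 16, 1, 15, 18, 17, 10, 23]),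
  ([0, 10, 14, 15, 3, 13, 19, 6, 8, 18, 21, 16, 2, 11, 5, 1, 12, 22, 7, 17, 4, 20, 9, 23], [0, 15, 12, 4, 20, 14, 7, 18, 8, 22, 1, 13, 16, 5, 2, 3, 11, 19, 9, 6, 21, 10, 17, 23]),
  ([0, 18, 3, 20, 7, 8, 19, 22, 21, 5, 12, 17, 11, 9, 15, 13, 1, 14, 6, 2, 4, 10, 16, 23], [0, 16, 19, 2, 20, 9, 18, 4, 5, 13, 21, 12, 10, 15, 17, 14, 22, 11, 1, 6, 3, 8, 7, 23]),
  ([0, 15, 5, 4, 20, 7, 10, 22, 16, 9, 3, 21, 2, 17, 8, 19, 11, 1, 18, 13, 6, 14, 12, 23], [0, 17, 12, 10, 3, 2, 20, 5, 14, 9, 6, 16, 22, 19, 21, 1, 8, 13, 18, 15, 4, 11, 7, 23]),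
  ([0, 6, 4, 3, 18, 7, 2, 10, 12, 13, 20, 17, 9, 16, 22, 15, 8, 14, 1, 11, 21, 5, 19, 23], [0, 18, 6, 3, 2, 21, 1, 5, 16, 12, 7, 19, 8, 9, 17, 15, 13, 11, 4, 22, 10, 20, 14, 23]),
  ([0, 2, 3, 7, 21, 13, 14, 17, 10, 20, 16, 19, 22, 8, 15, 12, 4, 11, 18, 1, 6, 5, 9, 23], [0, 19, 1, 2, 16, 21, 20, 3, 13, 22, 8, 17, 15, 5, 6, 14, 10, 7, 18, 11, 9, 4, 12, 23]),
  ([0, 6, 3, 5, 20, 9, 17, 11, 7, 10, 13, 22, 14, 16, 15, 8, 2, 19, 4, 18, 1, 21, 12, 23], [0, 20, 16, 2, 18, 3, 1, 8, 15, 5, 9, 7, 22, 10, 12, 14, 13, 6, 19, 17, 4, 21, 11, 23]),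
  ([0, 4, 7, 2, 21, 17, 15, 5, 19, 6, 14, 9, 13, 12, 18, 22, 11, 20, 10, 8, 3, 1, 16, 23], [0, 21, 3, 20, 1, 7, 9, 2, 19, 11, 18, 16, 13, 12, 10, 6, 22, 5, 14, 8, 17, 4, 15, 23]),
  ([0, 15, 18, 2, 17, 16, 14, 3, 4, 7, 12, 22, 9, 19, 5, 10, 13, 21, 11, 8, 6, 20, 1, 23], [0, 22, 3, 7, 8, 14, 20, 9, 19, 12, 15, 18, 10, 16, 6, 1, 5, 4, 2, 13, 21, 17, 11, 23]),
  ([], [])]

def lvl3 : List (List ℕ × List ℕ) := [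
  ([], []),
  ([], []),
  ([0, 1, 2, 3, 4, 5, 6, 7, 8, 9, 10, 11, 12, 13, 14, 15, 16, 17, 18, 19, 20, 21, 22, 23], [0, 1, 2, 3, 4, 5, 6, 7, 8, 9, 10, 11, 12, 13, 14, 15, 16, 17, 18, 19, 20, 21, 22, 23]),
  ([0, 1, 18, 2, 19, 8, 16, 9, 22, 10, 4, 6, 5, 13, 11, 14, 15, 12, 20, 7, 21, 3, 17, 23], [0, 1, 3, 21, 10, 12, 11, 19, 5, 7, 9, 14, 17, 13, 15, 16, 6, 22, 2, 4, 18, 20, 8, 23]),
  ([0, 1, 16, 14, 2, 11, 19, 12, 8, 7, 9, 17, 21, 22, 15, 18, 13, 6, 20, 5, 3, 10, 4, 23], [0, 1, 4, 20, 22, 19, 17, 9, 8, 10, 21, 5, 7, 16, 3, 14, 2, 11, 15, 6, 18, 12, 13, 23]),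
  ([0, 1, 3, 17, 7, 2, 13, 6, 19, 12, 15, 11, 20, 18, 5, 21, 9, 14, 4, 10, 22, 8, 16, 23], [0, 1, 5, 2, 18, 14, 7, 4, 21, 16, 19, 11, 9, 6, 17, 10, 22, 3, 13, 8, 12, 15, 20, 23]),
  ([0, 1, 12, 7, 15, 14, 2, 11, 6, 10, 19, 4, 9, 21, 13, 16, 22, 20, 17, 8, 5, 18, 3, 23], [0, 1, 6, 22, 11, 20, 8, 3, 19, 12, 9, 7, 2, 14, 5, 4, 15, 18, 21, 10, 17, 13, 16, 23]),
  ([0, 1, 10, 3, 7, 6, 15, 2, 21, 5, 12, 18, 4, 22, 13, 19, 17, 8, 14, 9, 16, 20, 11, 23], [0, 1, 7, 3, 12, 9, 5, 4, 17, 19, 2, 22, 10, 14, 18, 6, 20, 16, 11, 15, 21, 8, 13, 23]),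
  ([0, 1, 19, 18, 10, 15, 11, 20, 2, 22, 8, 21, 7, 12, 13, 9, 5, 17, 6, 4, 14, 3, 16, 23], [0, 1, 8, 21, 19, 16, 18, 12, 10, 15, 4, 6, 13, 14, 20, 5, 22, 17, 3, 2, 7, 11, 9, 23]),
  ([0, 1, 3, 20, 12, 4, 18, 9, 6, 2, 5, 13, 8, 22, 19, 17, 15, 11, 10, 7, 14, 16, 21, 23], [0, 1, 9, 2, 5, 10, 8, 19, 12, 7, 18, 17, 4, 11, 20, 16, 21, 15, 6, 14, 3, 22, 13, 23]),
  ([0, 1, 7, 3, 12, 9, 5, 4, 17, 19, 2, 22, 10, 14, 18, 6, 20, 16, 11, 15, 21, 8, 13, 23], [0, 1, 10, 3, 7, 6, 15, 2, 21, 5, 12, 18, 4, 22, 13, 19, 17, 8, 14, 9, 16, 20, 11, 23]),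
  ([0, 1, 17, 12, 8, 6, 22, 10, 3, 19, 15, 2, 14, 21, 4, 13, 16, 9, 5, 11, 18, 7, 20, 23], [0, 1, 11, 8, 14, 18, 5, 21, 4, 17, 7, 19, 3, 15, 12, 10, 16, 2, 20, 9, 22, 13, 6, 23]),
  ([0, 1, 4, 3, 10, 19, 9, 12, 16, 15, 7, 13, 2, 18, 11, 5, 21, 20, 22, 6, 8, 17, 14, 23], [0, 1, 12, 3, 2, 15, 19, 10, 20, 6, 4, 14, 7, 11, 22, 9, 8, 21, 13, 5, 17, 16, 18, 23]),
  ([0, 1, 10, 21, 9, 4, 7, 17, 6, 16, 19, 13, 3, 2, 14, 12, 20, 18, 8, 11, 5, 22, 15, 23], [0, 1, 13, 12, 5, 20, 8, 6, 18, 4, 2, 19, 15, 11, 14, 22, 9, 7, 17, 10, 16, 3, 21, 23]),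
  ([0, 1, 8, 12, 15, 11, 19, 14, 16, 13, 10, 21, 17, 5, 2, 6, 7, 18, 20, 22, 3, 9, 4, 23], [0, 1, 14, 20, 22, 13, 15, 16, 2, 21, 10, 5, 3, 9, 7, 4, 8, 12, 17, 6, 18, 11, 19, 23]),
  ([0, 1, 18, 5, 10, 20, 13, 15, 9, 8, 11, 16, 3, 21, 22, 2, 4, 6, 7, 19, 12, 17, 14, 23], [0, 1, 15, 12, 16, 3, 17, 18, 9, 8, 4, 10, 20, 6, 22, 7, 11, 21, 2, 19, 5, 13, 14, 23]),
  ([0, 1, 7, 18, 19, 9, 4, 8, 14, 11, 10, 13, 20, 21, 16, 22, 2, 3, 12, 15, 17, 5, 6, 23], [0, 1, 16, 17, 6, 21, 22, 2, 7, 5, 10, 9, 18, 11, 8, 19, 14, 20, 3, 4, 12, 13, 15, 23]),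
  ([0, 1, 9, 20, 7, 10, 19, 22, 11, 6, 4, 13, 21, 3, 15, 17, 18, 2, 5, 14, 12, 8, 16, 23], [0, 1, 17, 13, 10, 18, 9, 4, 21, 2, 5, 8, 20, 11, 19, 14, 22, 15, 16, 6, 3, 12, 7, 23]),
  ([0, 1, 3, 21, 10, 12, 11, 19, 5, 7, 9, 14, 17, 13, 15, 16, 6, 22, 2, 4, 18, 20, 8, 23], [0, 1, 18, 2, 19, 8, 16, 9, 22, 10, 4, 6, 5, 13, 11, 14, 15, 12, 20, 7, 21, 3, 17, 23]),
  ([0, 1, 14, 10, 9, 21, 17, 5, 11, 12, 7, 15, 6, 22, 18, 13, 19, 4, 16, 2, 20, 3, 8, 23], [0, 1, 19, 21, 17, 7, 12, 10, 22, 4, 3, 8, 9, 15, 2, 11, 18, 6, 14, 16, 20, 5, 13, 23]),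
  ([0, 1, 21, 20, 9, 17, 14, 4, 12, 19, 7, 15, 22, 13, 16, 6, 11, 8, 3, 10, 2, 18, 5, 23], [0, 1, 20, 18, 7, 22, 15, 10, 17, 4, 19, 16, 8, 13, 6, 11, 14, 5, 21, 9, 3, 2, 12, 23]),
  ([0, 1, 20, 18, 7, 22, 15, 10, 17, 4, 19, 16, 8, 13, 6, 11, 14, 5, 21, 9, 3, 2, 12, 23], [0, 1, 21, 20, 9, 17, 14, 4, 12, 19, 7, 15, 22, 13, 16, 6, 11, 8, 3, 10, 2, 18, 5, 23]),
  ([0, 1, 8, 22, 12, 14, 5, 7, 20, 10, 6, 21, 16, 18, 9, 13, 11, 19, 17, 15, 3, 4, 2, 23], [0, 1, 22, 20, 21, 6, 10, 7, 2, 14, 9, 16, 4, 15, 5, 19, 12, 18, 13, 17, 8, 11, 3, 23]),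
  ([], [])]

def lvl4 : List (List ℕ × List ℕ) := [
  ([], []),
  ([], []),
  ([], []),
  ([0, 1, 2, 3, 4, 5, 6, 7, 8, 9, 10, 11, 12, 13, 14, 15, 16, 17, 18, 19, 20, 21, 22, 23], [0, 1, 2, 3, 4, 5, 6, 7, 8, 9, 10, 11, 12, 13, 14, 15, 16, 17, 18, 19, 20, 21, 22, 23]),
  ([0, 1, 2, 10, 3, 15, 11, 12, 22, 19, 7, 13, 4, 17, 9, 21, 5, 20, 16, 8, 6, 18, 14, 23], [0, 1, 2, 4, 12, 16, 20, 10, 19, 14, 3, 6, 7, 11, 22, 5, 18, 13, 21, 9, 17, 15, 8, 23]),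
  ([0, 1, 2, 14, 21, 3, 8, 12, 22, 20, 9, 4, 16, 19, 5, 15, 7, 17, 13, 18, 10, 11, 6, 23], [0, 1, 2, 5, 11, 14, 22, 16, 6, 10, 20, 21, 7, 18, 3, 15, 12, 17, 19, 13, 9, 4, 8, 23]),
  ([0, 1, 2, 15, 18, 10, 3, 14, 21, 16, 22, 19, 7, 12, 20, 4, 11, 9, 6, 17, 13, 5, 8, 23], [0, 1, 2, 6, 15, 21, 18, 12, 22, 17, 5, 16, 13, 20, 7, 3, 9, 19, 4, 11, 14, 8, 10, 23]),
  ([0, 1, 2, 15, 19, 20, 5, 3, 4, 12, 8, 13, 16, 7, 9, 11, 21, 10, 22, 17, 18, 14, 6, 23], [0, 1, 2, 7, 8, 6, 22, 13, 10, 14, 17, 15, 9, 11, 21, 3, 12, 19, 20, 4, 5, 16, 18, 23]),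
  ([0, 1, 2, 10, 19, 20, 8, 11, 3, 22, 13, 5, 14, 6, 15, 4, 7, 9, 17, 12, 16, 18, 21, 23], [0, 1, 2, 8, 15, 11, 13, 16, 6, 17, 3, 7, 19, 10, 12, 14, 20, 18, 21, 4, 5, 22, 9, 23]),
  ([0, 1, 2, 16, 6, 22, 8, 18, 20, 3, 17, 15, 10, 21, 4, 5, 7, 13, 9, 11, 14, 12, 19, 23], [0, 1, 2, 9, 14, 15, 4, 16, 6, 18, 12, 19, 21, 17, 20, 11, 3, 10, 7, 22, 8, 13, 5, 23]),
  ([0, 1, 2, 4, 12, 16, 20, 10, 19, 14, 3, 6, 7, 11, 22, 5, 18, 13, 21, 9, 17, 15, 8, 23], [0, 1, 2, 10, 3, 15, 11, 12, 22, 19, 7, 13, 4, 17, 9, 21, 5, 20, 16, 8, 6, 18, 14, 23]),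
  ([0, 1, 2, 18, 7, 11, 13, 22, 17, 20, 15, 3, 14, 19, 8, 10, 6, 12, 5, 16, 9, 4, 21, 23], [0, 1, 2, 11, 21, 18, 16, 4, 14, 20, 15, 5, 17, 6, 12, 10, 19, 8, 3, 13, 9, 22, 7, 23]),
  ([0, 1, 2, 20, 13, 9, 6, 21, 5, 8, 18, 14, 3, 22, 15, 11, 16, 10, 17, 7, 12, 19, 4, 23], [0, 1, 2, 12, 22, 8, 6, 19, 9, 5, 17, 15, 20, 4, 11, 14, 16, 18, 10, 21, 3, 7, 13, 23]),
  ([0, 1, 2, 22, 17, 13, 21, 19, 15, 8, 12, 10, 20, 3, 4, 18, 14, 16, 9, 7, 11, 6, 5, 23], [0, 1, 2, 13, 14, 22, 21, 19, 9, 18, 11, 20, 10, 5, 16, 8, 17, 4, 15, 7, 12, 6, 3, 23]),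
  ([0, 1, 2, 5, 11, 14, 22, 16, 6, 10, 20, 21, 7, 18, 3, 15, 12, 17, 19, 13, 9, 4, 8, 23], [0, 1, 2, 14, 21, 3, 8, 12, 22, 20, 9, 4, 16, 19, 5, 15, 7, 17, 13, 18, 10, 11, 6, 23]),
  ([0, 1, 2, 6, 15, 21, 18, 12, 22, 17, 5, 16, 13, 20, 7, 3, 9, 19, 4, 11, 14, 8, 10, 23], [0, 1, 2, 15, 18, 10, 3, 14, 21, 16, 22, 19, 7, 12, 20, 4, 11, 9, 6, 17, 13, 5, 8, 23]),
  ([0, 1, 2, 9, 14, 15, 4, 16, 6, 18, 12, 19, 21, 17, 20, 11, 3, 10, 7, 22, 8, 13, 5, 23], [0, 1, 2, 16, 6, 22, 8, 18, 20, 3, 17, 15, 10, 21, 4, 5, 7, 13, 9, 11, 14, 12, 19, 23]),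
  ([0, 1, 2, 14, 22, 5, 12, 18, 20, 21, 7, 9, 15, 13, 17, 6, 4, 3, 10, 8, 19, 11, 16, 23], [0, 1, 2, 17, 16, 5, 15, 10, 19, 11, 18, 21, 6, 13, 3, 12, 22, 14, 7, 20, 8, 9, 4, 23]),
  ([0, 1, 2, 4, 6, 22, 15, 20, 5, 11, 8, 17, 14, 7, 13, 18, 19, 16, 3, 9, 12, 10, 21, 23], [0, 1, 2, 18, 3, 8, 4, 13, 10, 19, 21, 9, 20, 14, 12, 6, 17, 11, 15, 16, 7, 22, 5, 23]),
  ([0, 1, 2, 13, 10, 4, 5, 14, 21, 12, 11, 6, 19, 9, 22, 18, 20, 16, 7, 3, 8, 17, 15, 23], [0, 1, 2, 19, 5, 6, 11, 18, 20, 13, 4, 10, 9, 3, 7, 22, 17, 21, 15, 12, 16, 8, 14, 23]),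
  ([0, 1, 2, 22, 15, 4, 19, 7, 8, 17, 14, 12, 18, 9, 16, 5, 10, 13, 11, 21, 3, 6, 20, 23], [0, 1, 2, 20, 5, 15, 21, 7, 8, 13, 16, 18, 11, 17, 10, 4, 14, 9, 12, 6, 22, 19, 3, 23]),
  ([0, 1, 2, 8, 4, 18, 17, 14, 21, 9, 20, 7, 6, 16, 11, 10, 22, 12, 19, 5, 15, 3, 13, 23], [0, 1, 2, 21, 4, 19, 12, 11, 3, 9, 15, 14, 17, 22, 7, 20, 13, 6, 5, 18, 10, 8, 16, 23]),
  ([0, 1, 2, 20, 5, 15, 21, 7, 8, 13, 16, 18, 11, 17, 10, 4, 14, 9, 12, 6, 22, 19, 3, 23], [0, 1, 2, 22, 15, 4, 19, 7, 8, 17, 14, 12, 18, 9, 16, 5, 10, 13, 11, 21, 3, 6, 20, 23]),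
  ([], [])]



theorem lvl0_ok : levelOK 0 lvl0 = true := by decide +kernel
theorem lvl1_ok : levelOK 1 lvl1 = true := by decide +kernel
theorem lvl2_ok : levelOK 2 lvl2 = true := by decide +kernel
theorem lvl3_ok : levelOK 3 lvl3 = true := by decide +kernel
theorem lvl4_ok : levelOK 4 lvl4 = true := by decide +kernel

theorem level_any (k : ℕ) (hk : k < 5) (q : GolayPt) (hq : ∀ j < k, idx q ≠ bs j) :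
    ∃ g ∈ M24, (∀ j < k, g (pt (bs j)) = pt (bs j)) ∧ g q = pt (bs k) := by
  interval_cases k
  · exact level_spec 0 (by norm_num) lvl0 lvl0_ok q hq
  · exact level_spec 1 (by norm_num) lvl1 lvl1_ok q hq
  · exact level_spec 2 (by norm_num) lvl2 lvl2_ok q hq
  · exact level_spec 3 (by norm_num) lvl3 lvl3_ok q hq
  · exact level_spec 4 (by norm_num) lvl4 lvl4_ok q hq

theorem exists_map_to_base (x : Fin 5 ↪ GolayPt) :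
    ∀ k ≤ 5, ∃ g ∈ M24, ∀ j : Fin 5, j.val < k → g (x j) = pt (bs j.val) := by
  intro k
  induction k with
  | zero =>
    intro _
    exact ⟨1, Subgroup.one_mem _, fun j hj => absurd hj (Nat.not_lt_zero _)⟩
  | succ k ih =>
    intro hk
    obtain ⟨g, hg, hgx⟩ := ih (by omega)
    have hq : ∀ j < k, idx (g (x ⟨k, by omega⟩)) ≠ bs j := by
      intro j hj hcon
      have h1 := hgx ⟨j, by omega⟩ hj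
      have h2 : g (x ⟨k, by omega⟩) = pt (bs j) := by
        rw [← hcon, pt_idx]
      have h3 : x ⟨k, by omega⟩ = x ⟨j, by omega⟩ := g.injective (h2.trans h1.symm)
      have h4 := x.injective h3
      rw [Fin.mk.injEq] at h4
      omega
    obtain ⟨h, hh, hfix, himg⟩ := level_any k (by omega) (g (x ⟨k, by omega⟩)) hq
    refine ⟨h * g, Subgroup.mul_mem _ hh hg, ?_⟩
    intro j hj
    rw [Equiv.Perm.mul_apply]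
    by_cases hjk : j.val < k
    · rw [hgx j hjk]
      exact hfix j.val hjk
    · have : j = ⟨k, by omega⟩ := by
        apply Fin.ext
        show j.val = k
        omega
      rw [this]
      exact himg

/-- `M24` is 5-transitive. -/
theorem m24_five_transitive : MulAction.IsMultiplyPretransitive M24 GolayPt 5 := by
  rw [MulAction.isMultiplyPretransitive_iff]
  intro x y
  obtain ⟨g, hg, hgx⟩ := exists_map_to_base x 5 le_rfl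
  obtain ⟨g', hg', hgy⟩ := exists_map_to_base y 5 le_rfl
  refine ⟨⟨g'⁻¹ * g, Subgroup.mul_mem _ (Subgroup.inv_mem _ hg') hg⟩, ?_⟩
  apply Function.Embedding.ext
  intro i
  show (g'⁻¹ * g) (x i) = y i
  rw [Equiv.Perm.mul_apply, hgx i i.2, ← hgy i i.2]
  exact Equiv.symm_apply_apply g' (y i)

end Cfsg.Agent.helper2.Golay
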