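import Mathlib
import Cfsg.Agent.Lib_helper2_M24

set_option autoImplicit false
set_option linter.constructorNameAsVariable false

namespace Cfsg.Agent.helper2.Golay

open Cfsg Cfsg.Agent.helper27
open scoped Pointwise

theorem smul_mem_wordsOfWeight {g : Equiv.Perm GolayPt} (hg : g ∈ M24) {k : ℕ}
    {o : Finset GolayPt} (ho : o ∈ wordsOfWeight (golayCode : Set (GolayPt → ZMod 2)) k) :
    g • o ∈ wordsOfWeight (golayCode : Set (GolayPt → ZMod 2)) k := by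
  obtain ⟨hs, hc⟩ := ho
  have hg' : g • supports (golayCode : Set (GolayPt → ZMod 2))
      = supports (golayCode : Set (GolayPt → ZMod 2)) := MulAction.mem_stabilizer_iff.mp hg
  refine ⟨?_, ?_⟩
  · rw [← hg']
    exact Set.smul_mem_smul_set hs
  · show (g • o).card = k
    rw [Finset.card_smul_finset]
    exact hc

theorem smul_mem_octads' {g : Equiv.Perm GolayPt} (hg : g ∈ M24) {o : Finset GolayPt}
    (ho : o ∈ octads) : g • o ∈ octads := smul_mem_wordsOfWeight hg ho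

theorem smul_mem_dodecads' {g : Equiv.Perm GolayPt} (hg : g ∈ M24) {o : Finset GolayPt}
    (ho : o ∈ dodecads) : g • o ∈ dodecads := smul_mem_wordsOfWeight hg ho

theorem pts_mem_octads {m : ℕ} (hm : m < 4096) (hw : wt (cw m) = 8) : pts (cw m) ∈ octads := by
  show pts (cw m) ∈ wordsOfWeight (golayCode : Set (GolayPt → ZMod 2)) 8
  rw [wordsOfWeight_eq, Finset.mem_coe, mem_weightFinset]
  exact ⟨m, hm, hw, rfl⟩

theorem pts_mem_dodecads {m : ℕ} (hm : m < 4096) (hw : wt (cw m) = 12) :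
    pts (cw m) ∈ dodecads := by
  show pts (cw m) ∈ wordsOfWeight (golayCode : Set (GolayPt → ZMod 2)) 12
  rw [wordsOfWeight_eq, Finset.mem_coe, mem_weightFinset]
  exact ⟨m, hm, hw, rfl⟩

theorem exists_of_mem_dodecads {d : Finset GolayPt} (hd : d ∈ dodecads) :
    ∃ m < 4096, wt (cw m) = 12 ∧ d = pts (cw m) := by
  have : d ∈ wordsOfWeight (golayCode : Set (GolayPt → ZMod 2)) 12 := hd
  rw [wordsOfWeight_eq, Finset.mem_coe, mem_weightFinset] at this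
  exact this

theorem exists_of_mem_octads {d : Finset GolayPt} (hd : d ∈ octads) :
    ∃ m < 4096, wt (cw m) = 8 ∧ d = pts (cw m) := by
  have : d ∈ wordsOfWeight (golayCode : Set (GolayPt → ZMod 2)) 8 := hd
  rw [wordsOfWeight_eq, Finset.mem_coe, mem_weightFinset] at this
  exact this

/-! ### Fixed points and invariant masks -/

/-- `g` fixes every point of the mask `F`. -/
def FixM (g : Equiv.Perm GolayPt) (F : ℕ) : Prop := ∀ p, F.testBit (idx p) = true → g p = p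

/-- `g` maps the set of the mask `a` onto itself. -/
def InvM (g : Equiv.Perm GolayPt) (a : ℕ) : Prop :=
  ∀ p, a.testBit (idx (g p)) = a.testBit (idx p)

theorem InvM.and {g : Equiv.Perm GolayPt} {a b : ℕ} (ha : InvM g a) (hb : InvM g b) :
    InvM g (a &&& b) := by
  intro p
  rw [Nat.testBit_and, Nat.testBit_and, ha p, hb p]

theorem InvM.xor {g : Equiv.Perm GolayPt} {a b : ℕ} (ha : InvM g a) (hb : InvM g b) :
    InvM g (a ^^^ b) := by
  intro p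
  rw [Nat.testBit_xor, Nat.testBit_xor, ha p, hb p]

theorem full_testBit : ∀ p : GolayPt, (0xFFFFFF : ℕ).testBit (idx p) = true := by decide

theorem InvM_full (g : Equiv.Perm GolayPt) : InvM g 0xFFFFFF := by
  intro p
  rw [full_testBit, full_testBit]

theorem fix_of_inv_single {g : Equiv.Perm GolayPt} {i : ℕ} (h : InvM g (2 ^ i)) (hi : i < 24) :
    g (pt i) = pt i := by
  have h1 := h (pt i)
  rw [idx_pt i hi, Nat.testBit_two_pow, Nat.testBit_two_pow] at h1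
  simp only [decide_true, decide_eq_true_eq] at h1
  have h2 := congrArg pt h1
  rw [pt_idx] at h2
  exact h2.symm

theorem FixM.or {g : Equiv.Perm GolayPt} {F i : ℕ} (hF : FixM g F) (hi : g (pt i) = pt i) :
    FixM g (F ||| 2 ^ i) := by
  intro p hp
  rw [Nat.testBit_or, Bool.or_eq_true] at hp
  rcases hp with hp | hp
  · exact hF p hp
  · rw [Nat.testBit_two_pow, decide_eq_true_eq] at hp
    rw [hp, pt_idx] at hi
    exact hi

theorem inv_octad {g : Equiv.Perm GolayPt} (hg : g ∈ M24) {F : ℕ} (hF : FixM g F) {m : ℕ}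
    (hm : m < 4096) (hw : wt (cw m) = 8) (h5 : 5 ≤ wt (cw m &&& F)) : InvM g (cw m) := by
  have ho : pts (cw m) ∈ octads := pts_mem_octads hm hw
  have hgo : g • pts (cw m) ∈ octads := smul_mem_octads' hg ho
  have hS : 5 ≤ (pts (cw m &&& F)).card := by rw [card_pts]; exact h5
  obtain ⟨S', hS'sub, hS'card⟩ := Finset.exists_subset_card_eq hS
  obtain ⟨b, _, huniq⟩ := octads_steiner.2 S' hS'card
  have hsub : ∀ p ∈ S', p ∈ pts (cw m) ∧ g p = p := by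
    intro p hp
    have := hS'sub hp
    rw [mem_pts, Nat.testBit_and, Bool.and_eq_true] at this
    exact ⟨mem_pts.mpr this.1, hF p this.2⟩
  have h1 : pts (cw m) = b := huniq _ ⟨ho, fun p hp => (hsub p hp).1⟩
  have h2 : g • pts (cw m) = b := by
    apply huniq
    refine ⟨hgo, fun p hp => ?_⟩
    have := hsub p hp
    rw [← this.2]
    exact Finset.smul_mem_smul_finset this.1
  have h3 : g • pts (cw m) = pts (cw m) := h2.trans h1.symm
  intro p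
  have h4 : g p ∈ pts (cw m) ↔ p ∈ pts (cw m) := by
    conv_lhs => rw [← h3]
    exact Finset.smul_mem_smul_finset_iff g
  rw [mem_pts, mem_pts] at h4
  exact Bool.eq_iff_iff.mpr h4

/-- A mask or its complement. -/
def sgn (o : ℕ) (b : Bool) : ℕ := if b then o else o ^^^ 0xFFFFFF

/-- One step of the rigidity certificate: the signed octads (each meeting `F` in at least five
points) intersect in the single point `q`. -/
def stepOK (F q : ℕ) (cert : List (ℕ × Bool)) : Bool :=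
  decide (q < 24) &&
  cert.all (fun c => decide (c.1 < 4096) && decide (wt (cw c.1) = 8) &&
    decide (5 ≤ wt (cw c.1 &&& F))) &&
  (cert.foldl (fun acc c => acc &&& sgn (cw c.1) c.2) 0xFFFFFF == 2 ^ q)

/-- The whole certificate. -/
def chainOK : ℕ → List (ℕ × List (ℕ × Bool)) → Bool
  | F, [] => F == 0xFFFFFF
  | F, s :: rest => stepOK F s.1 s.2 && chainOK (F ||| 2 ^ s.1) rest

theorem inv_foldl {g : Equiv.Perm GolayPt} (cert : List (ℕ × Bool))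
    (h : ∀ c ∈ cert, InvM g (cw c.1)) (acc : ℕ) (hacc : InvM g acc) :
    InvM g (cert.foldl (fun acc c => acc &&& sgn (cw c.1) c.2) acc) := by
  induction cert generalizing acc with
  | nil => exact hacc
  | cons c cs ih =>
    rw [List.foldl_cons]
    apply ih (fun c' hc' => h c' (List.mem_cons_of_mem _ hc'))
    apply InvM.and hacc
    unfold sgn
    split_ifs
    · exact h c (List.mem_cons_self ..)
    · exact (h c (List.mem_cons_self ..)).xor (InvM_full g)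

theorem chain_sound {g : Equiv.Perm GolayPt} (hg : g ∈ M24) :
    ∀ (steps : List (ℕ × List (ℕ × Bool))) (F : ℕ), chainOK F steps = true → FixM g F →
      g = 1 := by
  intro steps
  induction steps with
  | nil =>
    intro F h hF
    simp only [chainOK, beq_iff_eq] at h
    subst h
    apply Equiv.ext
    intro p
    exact hF p (full_testBit p)
  | cons s rest ih =>
    intro F h hF
    simp only [chainOK, Bool.and_eq_true] at h
    obtain ⟨hstep, hrest⟩ := h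
    apply ih _ hrest
    unfold stepOK at hstep
    simp only [Bool.and_eq_true, decide_eq_true_eq, List.all_eq_true, beq_iff_eq] at hstep
    obtain ⟨⟨hq, hall⟩, hfold⟩ := hstep
    apply FixM.or hF
    apply fix_of_inv_single _ hq
    rw [← hfold]
    apply inv_foldl _ _ _ (InvM_full g)
    intro c hc
    obtain ⟨⟨h1, h2⟩, h3⟩ := hall c hc
    exact inv_octad hg hF h1 h2 h3

def rigidSteps : List (ℕ × List (ℕ × Bool)) :=
  [(6, [(94, true), (23, false), (3189, true)]),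
    (7, [(188, true), (23, false), (617, false)]),
    (8, [(343, true), (23, false), (228, false)]),
    (9, [(567, true), (936, true), (47, false)]),
    (10, [(1134, true), (1413, true), (23, false)]),
    (11, [(2075, true), (2468, true), (23, false)]),
    (12, [(54, true), (393, true), (23, false)]),
    (13, [(23, true), (172, true), (21, false)]),
    (14, [(21, true), (186, true), (23, false)]),
    (15, [(11, true), (44, true), (9, false)]),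
    (16, [(2, true), (37, true), (3, false)]),
    (17, [(1, true), (38, true), (2, false)]),
    (18, [(1, true), (15, true), (4, true)]),
    (19, [(2, true), (12, true), (4, false)]),
    (20, [(4, true), (25, true), (1, false)]),
    (21, [(8, true), (35, true), (2, false)]),
    (22, [(1, true), (30, true), (4, true)])]

theorem rigid_ok : chainOK 0x80003F rigidSteps = true := by decide +kernel

theorem base_testBit : ∀ p : GolayPt, (0x80003F : ℕ).testBit (idx p) = true →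
    idx p ∈ [23, 0, 1, 2, 3, 4, 5] := by decide

/-- An element of `M24` fixing the seven base points is the identity. -/
theorem rigid {g : Equiv.Perm GolayPt} (hg : g ∈ M24)
    (h : ∀ i ∈ [23, 0, 1, 2, 3, 4, 5], g (pt i) = pt i) : g = 1 := by
  apply chain_sound hg rigidSteps 0x80003F rigid_ok
  intro p hp
  have := h _ (base_testBit p hp)
  rwa [pt_idx] at this

/-! ### Explicit permutations from table pairs -/

/-- The permutation of a table pair (the identity if the tables are bad). -/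
noncomputable def gperm (d : List ℕ × List ℕ) : Equiv.Perm GolayPt :=
  if h : tablesOK d.1 d.2 = true then permOf d.1 d.2 h else 1

theorem gperm_apply {d : List ℕ × List ℕ} (h : tablesOK d.1 d.2 = true) (p : GolayPt) :
    gperm d p = pt (tb d.1 (idx p)) := by
  unfold gperm
  rw [dif_pos h]
  rfl

theorem gperm_pt {d : List ℕ × List ℕ} (h : tablesOK d.1 d.2 = true) {i : ℕ} (hi : i < 24) :
    gperm d (pt i) = pt (tb d.1 i) := by
  rw [gperm_apply h, idx_pt i hi]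

theorem gperm_mem {d : List ℕ × List ℕ} (h : tablesOK d.1 d.2 = true)
    (hc : codeOK d.2 = true) : gperm d ∈ M24 := by
  unfold gperm
  rw [dif_pos h]
  exact permOf_mem _ _ h hc

theorem smul_pts_eq (σ : Equiv.Perm GolayPt) (a b : ℕ) (h : wperm σ (toWord a) = toWord b) :
    σ • pts a = pts b := by
  rw [← support₂_toWord, ← support_wperm, h, support₂_toWord]

theorem gperm_smul_pts {d : List ℕ × List ℕ} (h : tablesOK d.1 d.2 = true) (a : ℕ) :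
    gperm d • pts a = pts (pull (tb d.2) a) := by
  apply smul_pts_eq
  unfold gperm
  rw [dif_pos h]
  exact wperm_permOf_toWord _ _ h a

/-- The 48 elements of the pointwise stabiliser of the five base points. -/
def hs : List (List ℕ × List ℕ) := [
  ([0, 1, 2, 3, 4, 5, 6, 7, 8, 9, 10, 11, 12, 13, 14, 15, 16, 17, 18, 19, 20, 21, 22, 23], [0, 1, 2, 3, 4, 5, 6, 7, 8, 9, 10, 11, 12, 13, 14, 15, 16, 17, 18, 19, 20, 21, 22, 23]),
  ([0, 1, 2, 3, 4, 14, 15, 10, 21, 8, 12, 19, 7, 22, 17, 18, 13, 5, 6, 20, 11, 9, 16, 23], [0, 1, 2, 3, 4, 17, 18, 12, 9, 21, 7, 20, 10, 16, 5, 6, 22, 14, 15, 11, 19, 8, 13, 23]),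
  ([0, 1, 2, 3, 4, 17, 18, 12, 9, 21, 7, 20, 10, 16, 5, 6, 22, 14, 15, 11, 19, 8, 13, 23], [0, 1, 2, 3, 4, 14, 15, 10, 21, 8, 12, 19, 7, 22, 17, 18, 13, 5, 6, 20, 11, 9, 16, 23]),
  ([0, 1, 2, 3, 6, 5, 4, 22, 20, 12, 11, 10, 9, 19, 14, 18, 21, 17, 15, 13, 8, 16, 7, 23], [0, 1, 2, 3, 6, 5, 4, 22, 20, 12, 11, 10, 9, 19, 14, 18, 21, 17, 15, 13, 8, 16, 7, 23]),
  ([0, 1, 2, 3, 6, 14, 18, 11, 16, 20, 9, 13, 22, 7, 17, 15, 19, 5, 4, 8, 10, 12, 21, 23], [0, 1, 2, 3, 18, 17, 4, 13, 19, 10, 20, 7, 21, 11, 5, 15, 8, 14, 6, 16, 9, 22, 12, 23]),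
  ([0, 1, 2, 3, 6, 17, 15, 9, 12, 16, 22, 8, 11, 21, 5, 4, 7, 14, 18, 10, 13, 20, 19, 23], [0, 1, 2, 3, 15, 14, 4, 16, 11, 7, 19, 12, 8, 20, 17, 6, 9, 5, 18, 22, 21, 13, 10, 23]),
  ([0, 1, 2, 3, 7, 5, 22, 4, 15, 11, 12, 9, 10, 21, 14, 8, 19, 17, 20, 16, 18, 13, 6, 23], [0, 1, 2, 3, 7, 5, 22, 4, 15, 11, 12, 9, 10, 21, 14, 8, 19, 17, 20, 16, 18, 13, 6, 23]),
  ([0, 1, 2, 3, 7, 14, 8, 12, 13, 15, 10, 16, 4, 6, 17, 20, 21, 5, 22, 18, 9, 11, 19, 23], [0, 1, 2, 3, 12, 17, 13, 4, 6, 20, 10, 21, 7, 8, 5, 9, 11, 14, 19, 22, 15, 16, 18, 23]),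
  ([0, 1, 2, 3, 7, 17, 20, 10, 11, 13, 4, 18, 12, 19, 5, 22, 6, 14, 8, 9, 16, 15, 21, 23], [0, 1, 2, 3, 10, 14, 16, 4, 18, 19, 7, 8, 12, 9, 17, 21, 20, 5, 11, 13, 6, 22, 15, 23]),
  ([0, 1, 2, 3, 8, 5, 20, 15, 4, 21, 19, 13, 16, 11, 14, 7, 12, 17, 22, 10, 6, 9, 18, 23], [0, 1, 2, 3, 8, 5, 20, 15, 4, 21, 19, 13, 16, 11, 14, 7, 12, 17, 22, 10, 6, 9, 18, 23]),
  ([0, 1, 2, 3, 8, 14, 7, 19, 9, 4, 16, 10, 15, 18, 17, 22, 11, 5, 20, 6, 13, 21, 12, 23], [0, 1, 2, 3, 9, 17, 19, 6, 4, 8, 11, 16, 22, 20, 5, 12, 10, 14, 13, 7, 18, 21, 15, 23]),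
  ([0, 1, 2, 3, 8, 17, 22, 16, 21, 9, 15, 6, 19, 12, 5, 20, 18, 14, 7, 13, 10, 4, 11, 23], [0, 1, 2, 3, 21, 14, 11, 18, 4, 9, 20, 22, 13, 19, 17, 10, 7, 5, 16, 12, 15, 8, 6, 23]),
  ([0, 1, 2, 3, 9, 5, 12, 11, 21, 4, 22, 7, 6, 15, 14, 13, 20, 17, 19, 18, 16, 8, 10, 23], [0, 1, 2, 3, 9, 5, 12, 11, 21, 4, 22, 7, 6, 15, 14, 13, 20, 17, 19, 18, 16, 8, 10, 23]),
  ([0, 1, 2, 3, 9, 14, 13, 22, 8, 21, 6, 18, 11, 10, 17, 19, 15, 5, 12, 16, 7, 4, 20, 23], [0, 1, 2, 3, 21, 17, 10, 20, 8, 4, 13, 12, 18, 6, 5, 16, 19, 14, 11, 15, 22, 9, 7, 23]),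
  ([0, 1, 2, 3, 9, 17, 19, 6, 4, 8, 11, 16, 22, 20, 5, 12, 10, 14, 13, 7, 18, 21, 15, 23], [0, 1, 2, 3, 8, 14, 7, 19, 9, 4, 16, 10, 15, 18, 17, 22, 11, 5, 20, 6, 13, 21, 12, 23]),
  ([0, 1, 2, 3, 10, 5, 11, 12, 19, 22, 4, 6, 7, 20, 14, 16, 15, 17, 21, 8, 13, 18, 9, 23], [0, 1, 2, 3, 10, 5, 11, 12, 19, 22, 4, 6, 7, 20, 14, 16, 15, 17, 21, 8, 13, 18, 9, 23]),
  ([0, 1, 2, 3, 10, 14, 16, 4, 18, 19, 7, 8, 12, 9, 17, 21, 20, 5, 11, 13, 6, 22, 15, 23], [0, 1, 2, 3, 7, 17, 20, 10, 11, 13, 4, 18, 12, 19, 5, 22, 6, 14, 8, 9, 16, 15, 21, 23]),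
  ([0, 1, 2, 3, 10, 17, 21, 7, 22, 18, 12, 13, 4, 15, 5, 11, 9, 14, 16, 6, 8, 19, 20, 23], [0, 1, 2, 3, 12, 14, 19, 7, 20, 16, 4, 15, 10, 11, 17, 13, 18, 5, 9, 21, 22, 6, 8, 23]),
  ([0, 1, 2, 3, 11, 5, 10, 9, 13, 7, 6, 4, 22, 8, 14, 21, 18, 17, 16, 20, 19, 15, 12, 23], [0, 1, 2, 3, 11, 5, 10, 9, 13, 7, 6, 4, 22, 8, 14, 21, 18, 17, 16, 20, 19, 15, 12, 23]),
  ([0, 1, 2, 3, 11, 14, 21, 6, 15, 13, 22, 20, 9, 12, 17, 16, 8, 5, 10, 19, 4, 7, 18, 23], [0, 1, 2, 3, 20, 17, 7, 21, 16, 12, 18, 4, 13, 9, 5, 8, 15, 14, 22, 19, 11, 6, 10, 23]),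
  ([0, 1, 2, 3, 11, 17, 16, 22, 7, 15, 9, 19, 6, 18, 5, 10, 12, 14, 21, 4, 20, 13, 8, 23], [0, 1, 2, 3, 19, 14, 12, 8, 22, 10, 15, 4, 16, 21, 17, 9, 6, 5, 13, 11, 20, 18, 7, 23]),
  ([0, 1, 2, 3, 12, 5, 9, 10, 16, 6, 7, 22, 4, 18, 14, 19, 8, 17, 13, 15, 21, 20, 11, 23], [0, 1, 2, 3, 12, 5, 9, 10, 16, 6, 7, 22, 4, 18, 14, 19, 8, 17, 13, 15, 21, 20, 11, 23]),
  ([0, 1, 2, 3, 12, 14, 19, 7, 20, 16, 4, 15, 10, 11, 17, 13, 18, 5, 9, 21, 22, 6, 8, 23], [0, 1, 2, 3, 10, 17, 21, 7, 22, 18, 12, 13, 4, 15, 5, 11, 9, 14, 16, 6, 8, 19, 20, 23]),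
  ([0, 1, 2, 3, 12, 17, 13, 4, 6, 20, 10, 21, 7, 8, 5, 9, 11, 14, 19, 22, 15, 16, 18, 23], [0, 1, 2, 3, 7, 14, 8, 12, 13, 15, 10, 16, 4, 6, 17, 20, 21, 5, 22, 18, 9, 11, 19, 23]),
  ([0, 1, 2, 3, 13, 5, 19, 21, 11, 15, 20, 8, 18, 4, 14, 9, 22, 17, 12, 6, 10, 7, 16, 23], [0, 1, 2, 3, 13, 5, 19, 21, 11, 15, 20, 8, 18, 4, 14, 9, 22, 17, 12, 6, 10, 7, 16, 23]),
  ([0, 1, 2, 3, 13, 14, 9, 20, 7, 11, 18, 6, 21, 16, 17, 12, 4, 5, 19, 10, 8, 15, 22, 23], [0, 1, 2, 3, 16, 17, 11, 8, 20, 6, 19, 9, 15, 4, 5, 21, 13, 14, 10, 18, 7, 12, 22, 23]),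
  ([0, 1, 2, 3, 13, 17, 12, 18, 15, 7, 21, 10, 20, 22, 5, 19, 16, 14, 9, 8, 6, 11, 4, 23], [0, 1, 2, 3, 22, 14, 20, 9, 19, 18, 11, 21, 6, 4, 17, 8, 16, 5, 7, 15, 12, 10, 13, 23]),
  ([0, 1, 2, 3, 15, 5, 18, 8, 7, 13, 16, 21, 19, 9, 14, 4, 10, 17, 6, 12, 22, 11, 20, 23], [0, 1, 2, 3, 15, 5, 18, 8, 7, 13, 16, 21, 19, 9, 14, 4, 10, 17, 6, 12, 22, 11, 20, 23]),
  ([0, 1, 2, 3, 15, 14, 4, 16, 11, 7, 19, 12, 8, 20, 17, 6, 9, 5, 18, 22, 21, 13, 10, 23], [0, 1, 2, 3, 6, 17, 15, 9, 12, 16, 22, 8, 11, 21, 5, 4, 7, 14, 18, 10, 13, 20, 19, 23]),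
  ([0, 1, 2, 3, 15, 17, 6, 19, 13, 11, 8, 22, 16, 10, 5, 18, 20, 14, 4, 21, 12, 7, 9, 23], [0, 1, 2, 3, 18, 14, 6, 21, 10, 22, 13, 9, 20, 8, 17, 4, 12, 5, 15, 7, 16, 19, 11, 23]),
  ([0, 1, 2, 3, 16, 5, 21, 19, 12, 20, 15, 18, 8, 22, 14, 10, 4, 17, 11, 7, 9, 6, 13, 23], [0, 1, 2, 3, 16, 5, 21, 19, 12, 20, 15, 18, 8, 22, 14, 10, 4, 17, 11, 7, 9, 6, 13, 23]),
  ([0, 1, 2, 3, 16, 14, 10, 15, 6, 12, 8, 7, 19, 13, 17, 11, 22, 5, 21, 9, 18, 20, 4, 23], [0, 1, 2, 3, 22, 17, 8, 11, 10, 19, 6, 15, 9, 13, 5, 7, 4, 14, 20, 12, 21, 18, 16, 23]),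
  ([0, 1, 2, 3, 16, 17, 11, 8, 20, 6, 19, 9, 15, 4, 5, 21, 13, 14, 10, 18, 7, 12, 22, 23], [0, 1, 2, 3, 13, 14, 9, 20, 7, 11, 18, 6, 21, 16, 17, 12, 4, 5, 19, 10, 8, 15, 22, 23]),
  ([0, 1, 2, 3, 18, 5, 15, 20, 22, 19, 21, 16, 13, 12, 14, 6, 11, 17, 4, 9, 7, 10, 8, 23], [0, 1, 2, 3, 18, 5, 15, 20, 22, 19, 21, 16, 13, 12, 14, 6, 11, 17, 4, 9, 7, 10, 8, 23]),
  ([0, 1, 2, 3, 18, 14, 6, 21, 10, 22, 13, 9, 20, 8, 17, 4, 12, 5, 15, 7, 16, 19, 11, 23], [0, 1, 2, 3, 15, 17, 6, 19, 13, 11, 8, 22, 16, 10, 5, 18, 20, 14, 4, 21, 12, 7, 9, 23]),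
  ([0, 1, 2, 3, 18, 17, 4, 13, 19, 10, 20, 7, 21, 11, 5, 15, 8, 14, 6, 16, 9, 22, 12, 23], [0, 1, 2, 3, 6, 14, 18, 11, 16, 20, 9, 13, 22, 7, 17, 15, 19, 5, 4, 8, 10, 12, 21, 23]),
  ([0, 1, 2, 3, 19, 5, 13, 16, 10, 18, 8, 20, 15, 6, 14, 12, 7, 17, 9, 4, 11, 22, 21, 23], [0, 1, 2, 3, 19, 5, 13, 16, 10, 18, 8, 20, 15, 6, 14, 12, 7, 17, 9, 4, 11, 22, 21, 23]),
  ([0, 1, 2, 3, 19, 14, 12, 8, 22, 10, 15, 4, 16, 21, 17, 9, 6, 5, 13, 11, 20, 18, 7, 23], [0, 1, 2, 3, 11, 17, 16, 22, 7, 15, 9, 19, 6, 18, 5, 10, 12, 14, 21, 4, 20, 13, 8, 23]),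
  ([0, 1, 2, 3, 19, 17, 9, 15, 18, 22, 16, 11, 8, 7, 5, 13, 21, 14, 12, 20, 4, 10, 6, 23], [0, 1, 2, 3, 20, 14, 22, 13, 12, 6, 21, 11, 18, 15, 17, 7, 10, 5, 8, 4, 19, 16, 9, 23]),
  ([0, 1, 2, 3, 20, 5, 8, 18, 6, 16, 13, 19, 21, 10, 14, 22, 9, 17, 7, 11, 4, 12, 15, 23], [0, 1, 2, 3, 20, 5, 8, 18, 6, 16, 13, 19, 21, 10, 14, 22, 9, 17, 7, 11, 4, 12, 15, 23]),
  ([0, 1, 2, 3, 20, 14, 22, 13, 12, 6, 21, 11, 18, 15, 17, 7, 10, 5, 8, 4, 19, 16, 9, 23], [0, 1, 2, 3, 19, 17, 9, 15, 18, 22, 16, 11, 8, 7, 5, 13, 21, 14, 12, 20, 4, 10, 6, 23]),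
  ([0, 1, 2, 3, 20, 17, 7, 21, 16, 12, 18, 4, 13, 9, 5, 8, 15, 14, 22, 19, 11, 6, 10, 23], [0, 1, 2, 3, 11, 14, 21, 6, 15, 13, 22, 20, 9, 12, 17, 16, 8, 5, 10, 19, 4, 7, 18, 23]),
  ([0, 1, 2, 3, 21, 5, 16, 13, 9, 8, 18, 15, 20, 7, 14, 11, 6, 17, 10, 22, 12, 4, 19, 23], [0, 1, 2, 3, 21, 5, 16, 13, 9, 8, 18, 15, 20, 7, 14, 11, 6, 17, 10, 22, 12, 4, 19, 23]),
  ([0, 1, 2, 3, 21, 14, 11, 18, 4, 9, 20, 22, 13, 19, 17, 10, 7, 5, 16, 12, 15, 8, 6, 23], [0, 1, 2, 3, 8, 17, 22, 16, 21, 9, 15, 6, 19, 12, 5, 20, 18, 14, 7, 13, 10, 4, 11, 23]),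
  ([0, 1, 2, 3, 21, 17, 10, 20, 8, 4, 13, 12, 18, 6, 5, 16, 19, 14, 11, 15, 22, 9, 7, 23], [0, 1, 2, 3, 9, 14, 13, 22, 8, 21, 6, 18, 11, 10, 17, 19, 15, 5, 12, 16, 7, 4, 20, 23]),
  ([0, 1, 2, 3, 22, 5, 7, 6, 18, 10, 9, 12, 11, 16, 14, 20, 13, 17, 8, 21, 15, 19, 4, 23], [0, 1, 2, 3, 22, 5, 7, 6, 18, 10, 9, 12, 11, 16, 14, 20, 13, 17, 8, 21, 15, 19, 4, 23]),
  ([0, 1, 2, 3, 22, 14, 20, 9, 19, 18, 11, 21, 6, 4, 17, 8, 16, 5, 7, 15, 12, 10, 13, 23], [0, 1, 2, 3, 13, 17, 12, 18, 15, 7, 21, 10, 20, 22, 5, 19, 16, 14, 9, 8, 6, 11, 4, 23]),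
  ([0, 1, 2, 3, 22, 17, 8, 11, 10, 19, 6, 15, 9, 13, 5, 7, 4, 14, 20, 12, 21, 18, 16, 23], [0, 1, 2, 3, 16, 14, 10, 15, 6, 12, 8, 7, 19, 13, 17, 11, 22, 5, 21, 9, 18, 20, 4, 23])]

def hsA : List ℕ := [4, 6, 7, 8, 9, 10, 11, 12, 13, 15, 16, 18, 19, 20, 21, 22]
def hsB : List ℕ := [5, 14, 17]

def hsD (k : ℕ) : List ℕ × List ℕ := hs.getD k ([], [])

def hsEntryOK (k : ℕ) : Bool :=
  tablesOK (hsD k).1 (hsD k).2 && codeOK (hsD k).2 &&
    (List.range 5).all (fun j => tb (hsD k).1 (bs j) == bs j) &&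
    (tb (hsD k).1 4 == hsA.getD (k / 3) 0) && (tb (hsD k).1 5 == hsB.getD (k % 3) 0)

theorem hs_ok : ∀ k < 48, hsEntryOK k = true := by decide +kernel

/-- The `k`-th element of the pointwise stabiliser of the base points. -/
noncomputable def hperm (k : ℕ) : Equiv.Perm GolayPt := gperm (hsD k)

theorem hs_tables {k : ℕ} (hk : k < 48) : tablesOK (hsD k).1 (hsD k).2 = true := by
  have := hs_ok k hk
  unfold hsEntryOK at this
  simp only [Bool.and_eq_true] at this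
  exact this.1.1.1.1

theorem hperm_mem {k : ℕ} (hk : k < 48) : hperm k ∈ M24 := by
  have := hs_ok k hk
  unfold hsEntryOK at this
  simp only [Bool.and_eq_true] at this
  exact gperm_mem this.1.1.1.1 this.1.1.1.2

theorem hperm_fix {k : ℕ} (hk : k < 48) : ∀ j < 5, hperm k (pt (bs j)) = pt (bs j) := by
  intro j hj
  have := hs_ok k hk
  unfold hsEntryOK at this
  simp only [Bool.and_eq_true, List.all_eq_true, List.mem_range, beq_iff_eq] at this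
  unfold hperm
  rw [gperm_pt this.1.1.1.1 (bs_lt j hj), this.1.1.2 j hj]

theorem hperm_four {k : ℕ} (hk : k < 48) : hperm k (pt 4) = pt (hsA.getD (k / 3) 0) := by
  have := hs_ok k hk
  unfold hsEntryOK at this
  simp only [Bool.and_eq_true, beq_iff_eq] at this
  unfold hperm
  rw [gperm_pt this.1.1.1.1 (by norm_num), this.1.2]

theorem hperm_five {k : ℕ} (hk : k < 48) : hperm k (pt 5) = pt (hsB.getD (k % 3) 0) := by
  have := hs_ok k hk
  unfold hsEntryOK at this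
  simp only [Bool.and_eq_true, beq_iff_eq] at this
  unfold hperm
  rw [gperm_pt this.1.1.1.1 (by norm_num), this.2]

theorem hperm_smul_pts {k : ℕ} (hk : k < 48) (a : ℕ) :
    hperm k • pts a = pts (pull (tb (hsD k).2) a) :=
  gperm_smul_pts (hs_tables hk) a

theorem fixM_base {g : Equiv.Perm GolayPt} (hfix : ∀ j < 5, g (pt (bs j)) = pt (bs j)) :
    FixM g 0x80000F := by
  intro p hp
  have h1 : ∀ p : GolayPt, (0x80000F : ℕ).testBit (idx p) = true → ∃ j < 5, idx p = bs j := by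
    decide
  obtain ⟨j, hj, hjp⟩ := h1 p hp
  have := hfix j hj
  rwa [← hjp, pt_idx] at this

theorem hsA_of : ∀ a < 24, (cw 47).testBit a = false → a ∈ hsA := by decide +kernel

theorem hsB_of : ∀ b < 24, (cw 47).testBit b = true → (∀ j < 5, b ≠ bs j) → b ∈ hsB := by
  decide +kernel

theorem hs_index : ∀ a ∈ hsA, ∀ b ∈ hsB, ∃ k < 48, hsA.getD (k / 3) 0 = a ∧ hsB.getD (k % 3) 0 = b := by
  decide +kernel

/-- Every element of `M24` fixing the five base points is one of the 48. -/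
theorem H_classify {g : Equiv.Perm GolayPt} (hg : g ∈ M24)
    (hfix : ∀ j < 5, g (pt (bs j)) = pt (bs j)) : ∃ k < 48, g = hperm k := by
  have hF := fixM_base hfix
  have hinv : InvM g (cw 47) := inv_octad hg hF (by norm_num) (by decide +kernel) (by decide +kernel)
  have ha : idx (g (pt 4)) ∈ hsA := by
    apply hsA_of _ (idx_lt _)
    rw [hinv (pt 4)]
    decide +kernel
  have hb : idx (g (pt 5)) ∈ hsB := by
    apply hsB_of _ (idx_lt _)
    · rw [hinv (pt 5)]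
      decide +kernel
    · intro j hj hcon
      have h1 : g (pt 5) = g (pt (bs j)) := by
        rw [hfix j hj, ← hcon, pt_idx]
      have h2 := g.injective h1
      have h3 : ∀ j < 5, pt 5 ≠ pt (bs j) := by decide
      exact h3 j hj h2
  obtain ⟨k, hk, hka, hkb⟩ := hs_index _ ha _ hb
  refine ⟨k, hk, ?_⟩
  have h1 : (hperm k)⁻¹ * g = 1 := by
    apply rigid (Subgroup.mul_mem _ (Subgroup.inv_mem _ (hperm_mem hk)) hg)
    have hkey : ∀ p : GolayPt, g p = hperm k p → ((hperm k)⁻¹ * g) p = p := by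
      intro p hp
      rw [Equiv.Perm.mul_apply, hp]
      exact Equiv.symm_apply_apply _ _
    have hb5 : ∀ j < 5, ((hperm k)⁻¹ * g) (pt (bs j)) = pt (bs j) := by
      intro j hj
      apply hkey
      rw [hfix j hj, hperm_fix hk j hj]
    intro i hi
    simp only [List.mem_cons, List.not_mem_nil, or_false] at hi
    rcases hi with rfl | rfl | rfl | rfl | rfl | rfl | rfl
    · exact hb5 0 (by norm_num)
    · exact hb5 1 (by norm_num)
    · exact hb5 2 (by norm_num)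
    · exact hb5 3 (by norm_num)
    · exact hb5 4 (by norm_num)
    · apply hkey
      rw [hperm_four hk, hka, pt_idx]
    · apply hkey
      rw [hperm_five hk, hkb, pt_idx]
  have h2 : g = hperm k * ((hperm k)⁻¹ * g) := by group
  rw [h2, h1, mul_one]

theorem hperm_inj : ∀ k < 48, ∀ k' < 48, hperm k = hperm k' → k = k' := by
  intro k hk k' hk' h
  have h4 : hsA.getD (k / 3) 0 = hsA.getD (k' / 3) 0 := by
    have := congrArg (fun σ : Equiv.Perm GolayPt => idx (σ (pt 4))) h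
    simp only [hperm_four hk, hperm_four hk'] at this
    have hlt : ∀ k < 48, hsA.getD (k / 3) 0 < 24 := by decide
    rwa [idx_pt _ (hlt k hk), idx_pt _ (hlt k' hk')] at this
  have h5 : hsB.getD (k % 3) 0 = hsB.getD (k' % 3) 0 := by
    have := congrArg (fun σ : Equiv.Perm GolayPt => idx (σ (pt 5))) h
    simp only [hperm_five hk, hperm_five hk'] at this
    have hlt : ∀ k < 48, hsB.getD (k % 3) 0 < 24 := by decide
    rwa [idx_pt _ (hlt k hk), idx_pt _ (hlt k' hk')] at this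
  have hdec : ∀ k < 48, ∀ k' < 48, hsA.getD (k / 3) 0 = hsA.getD (k' / 3) 0 →
      hsB.getD (k % 3) 0 = hsB.getD (k' % 3) 0 → k = k' := by decide +kernel
  exact hdec k hk k' hk' h4 h5

/-- The base embedding. -/
def x0 : Fin 5 ↪ GolayPt := ⟨fun i => pt (bs i.val), by decide⟩

theorem x0_apply (i : Fin 5) : x0 i = pt (bs i.val) := rfl

theorem mem_stab_x0 (g : M24) : g ∈ MulAction.stabilizer M24 x0 ↔
    ∀ j < 5, (g : Equiv.Perm GolayPt) (pt (bs j)) = pt (bs j) := by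
  rw [MulAction.mem_stabilizer_iff]
  constructor
  · intro h j hj
    have := DFunLike.congr_fun h (⟨j, hj⟩ : Fin 5)
    exact this
  · intro h
    apply Function.Embedding.ext
    intro i
    exact h i.val i.2

/-- The finite set of the 48 elements. -/
noncomputable def Hset : Finset (Equiv.Perm GolayPt) := (Finset.range 48).image hperm

theorem card_Hset : Hset.card = 48 := by
  unfold Hset
  rw [Finset.card_image_of_injOn, Finset.card_range]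
  intro k hk k' hk' h
  exact hperm_inj k (Finset.mem_range.mp hk) k' (Finset.mem_range.mp hk') h

theorem card_stab_x0 : Nat.card (MulAction.stabilizer M24 x0) = 48 := by
  have h1 : Nat.card (MulAction.stabilizer M24 x0) = Nat.card Hset := by
    apply Nat.card_congr
    refine Equiv.ofBijective (fun g => ⟨(g.1 : Equiv.Perm GolayPt), ?_⟩) ⟨?_, ?_⟩
    · obtain ⟨k, hk, hgk⟩ := H_classify g.1.2 ((mem_stab_x0 g.1).mp g.2)
      unfold Hset
      rw [Finset.mem_image]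
      exact ⟨k, Finset.mem_range.mpr hk, hgk.symm⟩
    · intro g g' h
      have h' : (g.1 : Equiv.Perm GolayPt) = g'.1 := by
        simpa using congrArg Subtype.val h
      exact Subtype.ext (Subtype.ext h')
    · rintro ⟨σ, hσ⟩
      unfold Hset at hσ
      rw [Finset.mem_image] at hσ
      obtain ⟨k, hk, rfl⟩ := hσ
      rw [Finset.mem_range] at hk
      refine ⟨⟨⟨hperm k, hperm_mem hk⟩, ?_⟩, rfl⟩
      rw [mem_stab_x0]
      exact hperm_fix hk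
  rw [h1, Nat.card_eq_fintype_card, Fintype.card_coe, card_Hset]

/-- The order of `M24`. -/
theorem card_M24 : Nat.card M24 = 244823040 := by
  have h1 : (MulAction.stabilizer M24 x0).index = Nat.card (Fin 5 ↪ GolayPt) :=
    @MulAction.index_stabilizer_of_transitive M24 _ _ _ x0 m24_five_transitive
  have h2 := Subgroup.index_mul_card (MulAction.stabilizer M24 x0)
  rw [h1, card_stab_x0, Nat.card_eq_fintype_card, Fintype.card_embedding_eq, card_golayPt,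
    Fintype.card_fin] at h2
  rw [← h2]
  rfl

end Cfsg.Agent.helper2.Golay
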