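import Mathlib
import Cfsg.Agent.Lib_helper27_Leech6
import Cfsg.Agent.Lib_helper27_Mono
import Cfsg.Agent.Lib_helper2_M24b

set_option autoImplicit false

namespace Cfsg.Agent.helper27

open Cfsg
open scoped Pointwise

theorem single_mem_leechLattice (i : GolayPt) {s : ℤ} (hs : s % 8 = 0) :
    (Pi.single i s : GolayPt → ℤ) ∈ leechLattice := by
  rw [mem_leechLattice_iff]
  apply Spor.mem_leechSet_of_const_mod_four _ 0 0 rfl
  · intro p
    rw [Pi.single_apply]
    unfold Int.ModEq
    split_ifs <;> omega
  · rw [sum_single]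
    unfold Int.ModEq
    omega

/-- `8 e_i` as a lattice vector -/
def e8 (i : GolayPt) : leechLattice := ⟨Pi.single i 8, single_mem_leechLattice i rfl⟩

/-- an element of `Co0` as an additive map into the ambient space -/
def coHom (g : Equiv.Perm leechLattice) (hg : g ∈ Co0) : leechLattice →+ (GolayPt → ℤ) :=
  leechLattice.subtype.comp (AddMonoidHom.mk' g hg.1)

theorem coHom_apply (g : Equiv.Perm leechLattice) (hg : g ∈ Co0) (x : leechLattice) :
    coHom g hg x = (g x : GolayPt → ℤ) := rfl

theorem eight_smul_eq (x : leechLattice) : (8 : ℤ) • x = ∑ i, (x.1 i) • e8 i := by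
  apply Subtype.ext
  rw [AddSubgroup.val_finsetSum]
  funext j
  simp only [AddSubgroup.coe_zsmul, Pi.smul_apply, smul_eq_mul, Finset.sum_apply, e8,
    Pi.single_apply, mul_ite, mul_zero, Finset.sum_ite_eq, Finset.mem_univ, if_true]
  ring

/-- the action of `g` on a vector in terms of the images of the `8 e_i` -/
theorem eight_mul_apply (g : Equiv.Perm leechLattice) (hg : g ∈ Co0) (x : leechLattice)
    (j : GolayPt) : 8 * (g x).1 j = ∑ i, x.1 i * (g (e8 i)).1 j := by
  have h1 : coHom g hg ((8 : ℤ) • x) = (8 : ℤ) • coHom g hg x := map_zsmul _ _ _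
  rw [eight_smul_eq, map_sum] at h1
  have h2 := congrFun h1 j
  simp only [Finset.sum_apply, map_zsmul, Pi.smul_apply, smul_eq_mul, coHom_apply] at h2
  exact h2.symm



theorem e8_apply (i j : GolayPt) : (e8 i).1 j = if j = i then 8 else 0 := by
  show (Pi.single i (8 : ℤ) : GolayPt → ℤ) j = _
  rw [Pi.single_apply]

/-- structure of an element of `Co0` preserving the standard cross -/
theorem cross_stabilizer_structure (g : Equiv.Perm leechLattice) (hg : g ∈ Co0)
    (h : ∀ v : leechLattice, (v : GolayPt → ℤ) ∈ stdCross →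
      ((g v : leechLattice) : GolayPt → ℤ) ∈ stdCross) :
    ∃ σ : Equiv.Perm GolayPt, ∃ c : Finset GolayPt,
      ∀ x : leechLattice, ((g x : leechLattice) : GolayPt → ℤ) = signedPerm σ c x.1 := by
  classical
  have h8 : ∀ i, ∃ j s, (s = 8 ∨ s = -8) ∧ (g (e8 i)).1 = Pi.single j s :=
    fun i => h (e8 i) ⟨i, 8, Or.inl rfl, rfl⟩
  choose π s hs hπ using h8
  have hinj : Function.Injective π := by
    intro i j hij
    by_contra hne
    have hsi := hs i
    have hsj := hs j
    have hcases : s i = s j ∨ s i = -s j := by omega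
    rcases hcases with hc | hc
    · have : g (e8 i) = g (e8 j) := by
        apply Subtype.ext
        rw [hπ i, hπ j, hij, hc]
      have h2 := g.injective this
      have h3 := congrFun (congrArg Subtype.val h2) i
      rw [e8_apply, e8_apply, if_pos rfl, if_neg hne] at h3
      omega
    · have : g (e8 i) = g (-(e8 j)) := by
        have hneg : g (-(e8 j)) = -g (e8 j) := by
          have := negPerm_comm g hg
          have h4 := congrFun (congrArg (fun f : Equiv.Perm leechLattice => (f : leechLattice → leechLattice)) this) (e8 j)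
          exact h4
        rw [hneg]
        apply Subtype.ext
        show (g (e8 i)).1 = -(g (e8 j)).1
        rw [hπ i, hπ j, hij, hc, Pi.single_neg]
      have h2 := g.injective this
      have h3 := congrFun (congrArg Subtype.val h2) i
      have h4 : (-(e8 j)).1 i = -((e8 j).1 i) := rfl
      rw [h4, e8_apply, e8_apply, if_pos rfl, if_neg hne] at h3
      omega
  have hbij : Function.Bijective π := Finite.injective_iff_bijective.mp hinj
  let σ : Equiv.Perm GolayPt := Equiv.ofBijective π hbij
  have hσ : ∀ i, σ i = π i := fun i => rfl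
  refine ⟨σ, Finset.univ.filter (fun j => s (σ.symm j) = -8), ?_⟩
  intro x
  funext j
  have h1 := eight_mul_apply g hg x j
  have h2 : ∑ i, x.1 i * (g (e8 i)).1 j = x.1 (σ.symm j) * s (σ.symm j) := by
    rw [Finset.sum_eq_single (σ.symm j)]
    · rw [hπ, Pi.single_apply, if_pos]
      rw [← hσ, Equiv.apply_symm_apply]
    · intro i _ hi
      rw [hπ, Pi.single_apply, if_neg, mul_zero]
      intro hj
      apply hi
      rw [hj, ← hσ, Equiv.symm_apply_apply]
    · intro hcon
      exact absurd (Finset.mem_univ _) hcon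
  rw [h2] at h1
  unfold signedPerm
  have hsj := hs (σ.symm j)
  by_cases hc : s (σ.symm j) = -8
  · rw [if_pos (by simp [hc])]
    rw [hc] at h1
    omega
  · rw [if_neg (by simp [hc])]
    have : s (σ.symm j) = 8 := by omega
    rw [this] at h1
    omega



theorem mem_M24_of_smul_GS (σ : Equiv.Perm GolayPt) (h : ∀ b ∈ GS, σ • b ∈ GS) : σ ∈ M24 := by
  rw [MulAction.mem_stabilizer_iff]
  have hsub : σ • GS ⊆ GS := by
    rintro _ ⟨b, hb, rfl⟩
    exact h b hb
  have hcard : GS.ncard ≤ (σ • GS).ncard := by
    have : σ • GS = (fun b => σ • b) '' GS := rfl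
    rw [this, Set.ncard_image_of_injective _ (MulAction.injective σ)]
  exact Set.eq_of_subset_of_ncard_le hsub hcard (Set.toFinite GS)

/-- a signed permutation mapping the lattice into itself is in the monomial group -/
theorem monomial_of_preserves (σ : Equiv.Perm GolayPt) (c : Finset GolayPt)
    (h : ∀ x ∈ leechLattice, signedPerm σ c x ∈ leechLattice) : σ ∈ M24 ∧ c ∈ GS := by
  constructor
  · apply mem_M24_of_smul_GS
    rintro b ⟨w, hw, rfl⟩
    have h1 := h (lift2 w) ((mem_leechLattice_iff _).mpr (lift2_mem_leechSet hw))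
    rw [mem_leechLattice_iff] at h1
    obtain ⟨m, _, _, h3⟩ := h1
    have h4 : cls 2 (signedPerm σ c (lift2 w)) = σ • support₂ w := by
      ext j
      rw [← Finset.inv_smul_mem_iff, mem_cls, ← cls_two_lift2, mem_cls]
      have hj : σ⁻¹ • j = σ.symm j := rfl
      rw [hj]
      unfold signedPerm
      split_ifs <;> omega
    rw [← h4]
    exact h3 2
  · have h1 := h Spor.vecV ((mem_leechLattice_iff _).mpr Spor.vecV_mem_leechSet)
    rw [mem_leechLattice_iff] at h1
    obtain ⟨m, _, _, h3⟩ := h1
    have h4 : cls 1 (signedPerm σ c Spor.vecV) = c := by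
      ext j
      rw [mem_cls]
      unfold signedPerm Spor.vecV
      split_ifs with h5 h6 h6 <;> simp [h5]
    rw [← h4]
    exact h3 1



theorem signedPerm_single (σ : Equiv.Perm GolayPt) (c : Finset GolayPt) (i : GolayPt) (s : ℤ) :
    signedPerm σ c (Pi.single i s) = Pi.single (σ i) (if σ i ∈ c then -s else s) := by
  funext j
  unfold signedPerm
  rw [Pi.single_apply, Pi.single_apply]
  by_cases hj : j = σ i
  · subst hj
    simp
  · have : σ.symm j ≠ i := by
      intro h
      apply hj
      rw [← h, Equiv.apply_symm_apply]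
    simp [hj, this]

theorem signedPerm_mem_stdCross (σ : Equiv.Perm GolayPt) (c : Finset GolayPt) {v : GolayPt → ℤ}
    (hv : v ∈ stdCross) : signedPerm σ c v ∈ stdCross := by
  obtain ⟨i, s, hs, rfl⟩ := hv
  rw [signedPerm_single]
  refine ⟨σ i, _, ?_, rfl⟩
  split_ifs <;> omega

theorem GS_natCard : Nat.card GS = 4096 := by
  have : (GS : Set (Finset GolayPt)) = support₂ '' (golayCode : Set (GolayPt → ZMod 2)) := rfl
  rw [this, Nat.card_image_of_injective support₂_injective]
  exact golayCode_natCard

/-- the stabiliser of the standard cross is the monomial group: statement of `S1571` -/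
theorem cross_stabilizer :
    (∀ g : Co0, (∀ v : leechLattice, (v : GolayPt → ℤ) ∈ stdCross →
        ((g • v : leechLattice) : GolayPt → ℤ) ∈ stdCross) →
      ∃ f ∈ golayMonomialMaps, ∀ v : leechLattice,
        ((g • v : leechLattice) : GolayPt → ℤ) = f (v : GolayPt → ℤ)) ∧
    Nat.card {g : Co0 // (∀ v : leechLattice, (v : GolayPt → ℤ) ∈ stdCross →
        ((g • v : leechLattice) : GolayPt → ℤ) ∈ stdCross)} = 4096 * 244823040 := by
  have part1 : ∀ g : Co0, (∀ v : leechLattice, (v : GolayPt → ℤ) ∈ stdCross →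
        ((g • v : leechLattice) : GolayPt → ℤ) ∈ stdCross) →
      ∃ σ ∈ M24, ∃ c ∈ GS, ∀ v : leechLattice,
        ((g • v : leechLattice) : GolayPt → ℤ) = signedPerm σ c (v : GolayPt → ℤ) := by
    intro g hgc
    obtain ⟨σ, c, hσc⟩ := cross_stabilizer_structure g.1 g.2 hgc
    have hpres : ∀ x ∈ leechLattice, signedPerm σ c x ∈ leechLattice := by
      intro x hx
      rw [← hσc ⟨x, hx⟩]
      exact (g.1 ⟨x, hx⟩).2
    obtain ⟨h1, h2⟩ := monomial_of_preserves σ c hpres
    exact ⟨σ, h1, c, h2, hσc⟩
  refine ⟨?_, ?_⟩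
  · intro g hgc
    obtain ⟨σ, h1, c, h2, hσc⟩ := part1 g hgc
    exact ⟨signedPerm σ c, ⟨σ, h1, c, h2, rfl⟩, hσc⟩
  · let Φ : M24 × GS → {g : Co0 // (∀ v : leechLattice, (v : GolayPt → ℤ) ∈ stdCross →
        ((g • v : leechLattice) : GolayPt → ℤ) ∈ stdCross)} := fun p =>
      ⟨⟨monoPerm p.1.1 p.1.2 p.2.1 p.2.2, monoPerm_mem_Co0 _ _ _ _⟩,
        fun v hv => signedPerm_mem_stdCross p.1.1 p.2.1 hv⟩
    have hΦ : Function.Bijective Φ := by
      constructor
      · rintro ⟨⟨σ, hσ⟩, ⟨c, hc⟩⟩ ⟨⟨σ', hσ'⟩, ⟨c', hc'⟩⟩ heq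
        have h1 : ∀ x : leechLattice, signedPerm σ c x.1 = signedPerm σ' c' x.1 := by
          intro x
          have h2 := congrArg (fun t => ((t.1.1 x : leechLattice) : GolayPt → ℤ)) heq
          exact h2
        have h3 : ∀ i, σ i = σ' i ∧ (σ i ∈ c ↔ σ i ∈ c') := by
          intro i
          have h4 := h1 (e8 i)
          have h5 : (e8 i).1 = Pi.single i 8 := rfl
          rw [h5, signedPerm_single, signedPerm_single] at h4
          have h6 := congrFun h4 (σ i)
          rw [Pi.single_apply, Pi.single_apply, if_pos rfl] at h6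
          have h7 : σ i = σ' i := by
            by_contra hne
            rw [if_neg hne] at h6
            split_ifs at h6 <;> omega
          refine ⟨h7, ?_⟩
          rw [if_pos h7, ← h7] at h6
          by_cases ha : σ i ∈ c <;> by_cases hb : σ i ∈ c' <;> simp [ha, hb] at h6 ⊢
        have hσσ : σ = σ' := Equiv.ext (fun i => (h3 i).1)
        have hcc : c = c' := by
          ext j
          have := (h3 (σ.symm j)).2
          rwa [Equiv.apply_symm_apply] at this
        subst hσσ
        subst hcc
        rfl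
      · rintro ⟨g, hgc⟩
        obtain ⟨σ, h1, c, h2, hσc⟩ := part1 g hgc
        refine ⟨⟨⟨σ, h1⟩, ⟨c, h2⟩⟩, ?_⟩
        apply Subtype.ext
        apply Subtype.ext
        apply Equiv.ext
        intro v
        apply Subtype.ext
        exact (hσc v).symm
    rw [← Nat.card_congr (Equiv.ofBijective Φ hΦ), Nat.card_prod, GS_natCard,
      Cfsg.Agent.helper2.Golay.card_M24]

end Cfsg.Agent.helper27
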