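import Mathlib
import Cfsg.Agent.Lib_helper27_Leech6

set_option autoImplicit false

namespace Cfsg.Agent.helper27

open Cfsg

theorem card_symmDiff_singleton {α : Type*} [DecidableEq α] (s : Finset α) (a : α) :
    (symmDiff s {a}).card + 1 = s.card ∨ (symmDiff s {a}).card = s.card + 1 := by
  by_cases ha : a ∈ s
  · left
    have : symmDiff s {a} = s.erase a := by
      ext x
      simp only [Finset.mem_symmDiff, Finset.mem_singleton, Finset.mem_erase]
      constructor
      · rintro (⟨h1, h2⟩ | ⟨h1, h2⟩)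
        · exact ⟨h2, h1⟩
        · exact absurd (h1 ▸ ha) h2
      · rintro ⟨h1, h2⟩
        exact Or.inl ⟨h2, h1⟩
    rw [this, Finset.card_erase_of_mem ha]
    have := Finset.card_pos.mpr ⟨a, ha⟩
    omega
  · right
    have : symmDiff s {a} = insert a s := by
      ext x
      simp only [Finset.mem_symmDiff, Finset.mem_singleton, Finset.mem_insert]
      constructor
      · rintro (⟨h1, h2⟩ | ⟨h1, h2⟩)
        · exact Or.inr h1
        · exact Or.inl h1
      · rintro (h1 | h1)
        · exact Or.inr ⟨h1, h1 ▸ ha⟩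
        · exact Or.inl ⟨h1, fun h => ha (h ▸ h1)⟩
    rw [this, Finset.card_insert_of_notMem ha]

/-- the number of subsets of even cardinality of a nonempty finite set -/
theorem two_mul_card_even_subsets {α : Type*} [DecidableEq α] (o : Finset α) (ho : o.Nonempty) :
    2 * (o.powerset.filter (fun s => Even s.card)).card = 2 ^ o.card := by
  obtain ⟨a, ha⟩ := ho
  have h1 := Finset.card_filter_add_card_filter_not (s := o.powerset)
    (fun s => Even s.card)
  rw [Finset.card_powerset] at h1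
  have h2 : (o.powerset.filter (fun s => Even s.card)).card
      = (o.powerset.filter (fun s => ¬ Even s.card)).card := by
    refine Finset.card_bij' (fun s _ => symmDiff s {a}) (fun s _ => symmDiff s {a}) ?_ ?_ ?_ ?_
    · intro s hs
      rw [Finset.mem_filter, Finset.mem_powerset] at hs ⊢
      refine ⟨?_, ?_⟩
      · intro x hx
        rw [Finset.mem_symmDiff] at hx
        rcases hx with ⟨h, _⟩ | ⟨h, _⟩
        · exact hs.1 h
        · rw [Finset.mem_singleton] at h
          exact h ▸ ha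
      · have := card_symmDiff_singleton s a
        have h3 := hs.2
        rw [Nat.even_iff] at h3 ⊢
        omega
    · intro s hs
      rw [Finset.mem_filter, Finset.mem_powerset] at hs ⊢
      refine ⟨?_, ?_⟩
      · intro x hx
        rw [Finset.mem_symmDiff] at hx
        rcases hx with ⟨h, _⟩ | ⟨h, _⟩
        · exact hs.1 h
        · rw [Finset.mem_singleton] at h
          exact h ▸ ha
      · have := card_symmDiff_singleton s a
        have h3 := hs.2
        rw [Nat.even_iff] at h3 ⊢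
        omega
    · intro s _
      exact symmDiff_symmDiff_cancel_right {a} s
    · intro s _
      exact symmDiff_symmDiff_cancel_right {a} s
  omega

theorem card_even_subsets_of_card_eight {α : Type*} [DecidableEq α] (o : Finset α)
    (ho : o.card = 8) : (o.powerset.filter (fun s => Even s.card)).card = 128 := by
  have h := two_mul_card_even_subsets o (Finset.card_pos.mp (by omega))
  rw [ho] at h
  omega

theorem sq_eq_one_or_ge_nine (a : ℤ) (h : a % 2 = 1) : a ^ 2 = 1 ∨ 9 ≤ a ^ 2 := by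
  have h1 : a = 1 ∨ a = -1 ∨ a ≥ 3 ∨ a ≤ -3 := by omega
  rcases h1 with rfl | rfl | h1 | h1
  · left; rfl
  · left; rfl
  · right; nlinarith
  · right; nlinarith

theorem eq_of_sq_eq_nine (a : ℤ) (h : a ^ 2 = 9) : a = 3 ∨ a = -3 := by
  have h2 : (a - 3) * (a + 3) = 0 := by ring_nf; omega
  rcases mul_eq_zero.mp h2 with h | h
  · left; omega
  · right; omega

theorem eq_of_sq_eq_one (a : ℤ) (h : a ^ 2 = 1) : a = 1 ∨ a = -1 := by
  have h2 : (a - 1) * (a + 1) = 0 := by ring_nf; omega
  rcases mul_eq_zero.mp h2 with h | h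
  · left; omega
  · right; omega

theorem eq_of_sq_eq_four (a : ℤ) (h : a ^ 2 = 4) : a = 2 ∨ a = -2 := by
  have h2 : (a - 2) * (a + 2) = 0 := by ring_nf; omega
  rcases mul_eq_zero.mp h2 with h | h
  · left; omega
  · right; omega

theorem eq_of_sq_eq_sixteen (a : ℤ) (h : a ^ 2 = 16) : a = 4 ∨ a = -4 := by
  have h2 : (a - 4) * (a + 4) = 0 := by ring_nf; omega
  rcases mul_eq_zero.mp h2 with h | h
  · left; omega
  · right; omega

/-- a sum of terms each at least `c` that equals `c * card` has all terms equal to `c` -/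
theorem eq_of_sum_eq_card_mul {ι : Type*} (s : Finset ι) (f : ι → ℤ) (c : ℤ)
    (h : ∀ i ∈ s, c ≤ f i) (hs : ∑ i ∈ s, f i = c * s.card) : ∀ i ∈ s, f i = c := by
  have h1 : ∑ i ∈ s, (fun _ => c) i = ∑ i ∈ s, f i := by
    rw [hs, Finset.sum_const, nsmul_eq_mul, mul_comm]
  have := (Finset.sum_eq_sum_iff_of_le h).mp h1
  intro i hi
  exact (this i hi).symm

theorem card_mul_le_sum {ι : Type*} (s : Finset ι) (f : ι → ℤ) (c : ℤ)
    (h : ∀ i ∈ s, c ≤ f i) : c * s.card ≤ ∑ i ∈ s, f i := by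
  have := Finset.card_nsmul_le_sum s f c h
  rw [nsmul_eq_mul, mul_comm] at this
  exact this

/-- shape of the odd vectors of norm 32 -/
theorem odd_norm32 (x : GolayPt → ℤ) (hodd : ∀ i, x i % 2 = 1) (hn : sqNorm x = 32) :
    ∃ j, (x j = 3 ∨ x j = -3) ∧ ∀ i, i ≠ j → (x i = 1 ∨ x i = -1) := by
  classical
  have h1 : ∀ i, 1 ≤ x i ^ 2 := fun i => sq_ge_one_of_odd (x i) (hodd i)
  have hex : ∃ j, 9 ≤ x j ^ 2 := by
    by_contra hcon
    simp only [not_exists, not_le] at hcon
    have hall : ∀ i ∈ (Finset.univ : Finset GolayPt), x i ^ 2 = 1 := by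
      intro i _
      rcases sq_eq_one_or_ge_nine (x i) (hodd i) with h | h
      · exact h
      · have := hcon i; omega
    have : sqNorm x = 24 := by
      unfold sqNorm
      rw [Finset.sum_congr rfl hall, Finset.sum_const, Finset.card_univ, card_golayPt]
      rfl
    omega
  obtain ⟨j, hj⟩ := hex
  have hsplit : x j ^ 2 + ∑ i ∈ Finset.univ.erase j, x i ^ 2 = 32 := by
    rw [Finset.add_sum_erase _ (fun i => x i ^ 2) (Finset.mem_univ j)]
    exact hn
  have hcard : (Finset.univ.erase j : Finset GolayPt).card = 23 := by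
    rw [Finset.card_erase_of_mem (Finset.mem_univ j), Finset.card_univ, card_golayPt]
  have hge := card_mul_le_sum (Finset.univ.erase j) (fun i => x i ^ 2) 1 (fun i _ => h1 i)
  rw [hcard] at hge
  have hj9 : x j ^ 2 = 9 := by
    have : ((23 : ℕ) : ℤ) = 23 := rfl
    omega
  have hrest : ∑ i ∈ Finset.univ.erase j, x i ^ 2 = 1 * ((Finset.univ.erase j : Finset GolayPt).card : ℤ) := by
    rw [hcard]
    have : ((23 : ℕ) : ℤ) = 23 := rfl
    omega
  have hall := eq_of_sum_eq_card_mul (Finset.univ.erase j) (fun i => x i ^ 2) 1 (fun i _ => h1 i) hrest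
  refine ⟨j, eq_of_sq_eq_nine _ hj9, fun i hi => ?_⟩
  exact eq_of_sq_eq_one _ (hall i (Finset.mem_erase.mpr ⟨hi, Finset.mem_univ i⟩))

/-- shape of the even vectors of norm 32 with an octad of coordinates `2 mod 4` -/
theorem octad_norm32 (x : GolayPt → ℤ) (hcard : (cls 2 x).card = 8)
    (hn : sqNorm x = 32) :
    ∀ i, (i ∈ cls 2 x → (x i = 2 ∨ x i = -2)) ∧ (i ∉ cls 2 x → x i = 0) := by
  classical
  have hsplit : ∑ i ∈ cls 2 x, x i ^ 2 + ∑ i ∈ (cls 2 x)ᶜ, x i ^ 2 = 32 := by
    rw [Finset.sum_add_sum_compl]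
    exact hn
  have h4 : ∀ i ∈ cls 2 x, 4 ≤ x i ^ 2 := by
    intro i hi
    have := sq_ge_four_of_mod (x i)
    rw [mem_cls] at hi
    rw [if_pos hi] at this
    omega
  have hge := card_mul_le_sum (cls 2 x) (fun i => x i ^ 2) 4 h4
  rw [hcard] at hge
  have hnn : 0 ≤ ∑ i ∈ (cls 2 x)ᶜ, x i ^ 2 := Finset.sum_nonneg (fun i _ => sq_nonneg (x i))
  have h8 : ((8 : ℕ) : ℤ) = 8 := rfl
  have hzero : ∑ i ∈ (cls 2 x)ᶜ, x i ^ 2 = 0 := by omega
  have hon : ∑ i ∈ cls 2 x, x i ^ 2 = 4 * ((cls 2 x).card : ℤ) := by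
    rw [hcard]; omega
  have hall := eq_of_sum_eq_card_mul (cls 2 x) (fun i => x i ^ 2) 4 h4 hon
  have hoff := (Finset.sum_eq_zero_iff_of_nonneg (fun i _ => sq_nonneg (x i))).mp hzero
  intro i
  refine ⟨fun hi => eq_of_sq_eq_four _ (hall i hi), fun hi => ?_⟩
  have := hoff i (Finset.mem_compl.mpr hi)
  exact pow_eq_zero_iff (by norm_num) |>.mp this



theorem eq_zero_or_sq_ge_sixteen (a : ℤ) (h : a % 4 = 0) : a = 0 ∨ 16 ≤ a ^ 2 := by
  have h1 : a = 0 ∨ a ≥ 4 ∨ a ≤ -4 := by omega
  rcases h1 with h1 | h1 | h1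
  · left; exact h1
  · right; nlinarith
  · right; nlinarith

/-- shape of the vectors of norm 32 with all coordinates divisible by 4 -/
theorem mod4_norm32 (x : GolayPt → ℤ) (h4 : ∀ i, x i % 4 = 0) (hn : sqNorm x = 32) :
    ∃ i j, i ≠ j ∧ (x i = 4 ∨ x i = -4) ∧ (x j = 4 ∨ x j = -4) ∧
      ∀ k, k ≠ i → k ≠ j → x k = 0 := by
  classical
  have hex : ∃ i, x i ≠ 0 := by
    by_contra hcon
    simp only [not_exists, not_not] at hcon
    have : sqNorm x = 0 := by
      unfold sqNorm
      apply Finset.sum_eq_zero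
      intro i _
      rw [hcon i]
      rfl
    omega
  obtain ⟨i, hi⟩ := hex
  have hi16 : 16 ≤ x i ^ 2 := by
    rcases eq_zero_or_sq_ge_sixteen (x i) (h4 i) with h | h
    · exact absurd h hi
    · exact h
  have hsplit : x i ^ 2 + ∑ k ∈ Finset.univ.erase i, x k ^ 2 = 32 := by
    rw [Finset.add_sum_erase _ (fun k => x k ^ 2) (Finset.mem_univ i)]
    exact hn
  have hex2 : ∃ j ∈ Finset.univ.erase i, x j ≠ 0 := by
    by_contra hcon
    simp only [not_exists, not_and, not_not] at hcon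
    have : ∑ k ∈ Finset.univ.erase i, x k ^ 2 = 0 := by
      apply Finset.sum_eq_zero
      intro k hk
      rw [hcon k hk]
      rfl
    have h32 : x i ^ 2 = 32 := by omega
    have hb1 : x i ≤ 5 := by nlinarith
    have hb2 : -5 ≤ x i := by nlinarith
    have h4i := h4 i
    have hc : x i = 4 ∨ x i = 0 ∨ x i = -4 := by omega
    rcases hc with hc | hc | hc <;> rw [hc] at h32 <;> omega
  obtain ⟨j, hj, hj0⟩ := hex2
  have hj16 : 16 ≤ x j ^ 2 := by
    rcases eq_zero_or_sq_ge_sixteen (x j) (h4 j) with h | h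
    · exact absurd h hj0
    · exact h
  have hsplit2 : x j ^ 2 + ∑ k ∈ (Finset.univ.erase i).erase j, x k ^ 2
      = ∑ k ∈ Finset.univ.erase i, x k ^ 2 :=
    Finset.add_sum_erase _ (fun k => x k ^ 2) hj
  have hnn : 0 ≤ ∑ k ∈ (Finset.univ.erase i).erase j, x k ^ 2 :=
    Finset.sum_nonneg (fun k _ => sq_nonneg (x k))
  have hzero : ∑ k ∈ (Finset.univ.erase i).erase j, x k ^ 2 = 0 := by omega
  have hoff := (Finset.sum_eq_zero_iff_of_nonneg (fun k _ => sq_nonneg (x k))).mp hzero
  refine ⟨i, j, (Finset.ne_of_mem_erase hj).symm, eq_of_sq_eq_sixteen _ (by omega),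
    eq_of_sq_eq_sixteen _ (by omega), fun k hki hkj => ?_⟩
  have := hoff k (Finset.mem_erase.mpr ⟨hkj, Finset.mem_erase.mpr ⟨hki, Finset.mem_univ k⟩⟩)
  exact pow_eq_zero_iff (by norm_num) |>.mp this

end Cfsg.Agent.helper27
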