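import Mathlib
import Cfsg.Agent.Lib_helper27_Min1
import Cfsg.Agent.Lib_helper27_Cross

set_option autoImplicit false

namespace Cfsg.Agent.helper27

open Cfsg

/-! ### family C: the odd minimal vectors -/

/-- `(-3, 1, ..., 1)` with the `-3` at position `j` -/
def v3 (j : GolayPt) : GolayPt → ℤ := fun i => if i = j then -3 else 1

theorem sum_v3 (j : GolayPt) : ∑ i, v3 j i = 20 := by
  have : ∀ i, v3 j i = 1 + (if i = j then -4 else 0) := by
    intro i
    unfold v3
    split_ifs <;> rfl
  rw [Finset.sum_congr rfl (fun i _ => this i), Finset.sum_add_distrib, Finset.sum_const,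
    Finset.card_univ, card_golayPt, Finset.sum_ite_eq' Finset.univ j]
  simp

theorem v3_mem_leechSet (j : GolayPt) : v3 j ∈ leechSet := by
  apply Spor.mem_leechSet_of_const_mod_four (v3 j) 1 1 rfl
  · intro i
    unfold v3
    split_ifs <;> decide
  · rw [sum_v3]
    decide

/-- the odd minimal vector with `±3` at `j` and sign pattern `b` -/
def vC (j : GolayPt) (b : Finset GolayPt) : GolayPt → ℤ :=
  fun i => if i ∈ b then (if i = j then 3 else -1) else (if i = j then -3 else 1)

theorem vC_eq_signchange (j : GolayPt) (b : Finset GolayPt) :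
    vC j b = fun i => if i ∈ b then -(v3 j i) else v3 j i := by
  funext i
  unfold vC v3
  split_ifs <;> rfl

theorem vC_mem_leechSet (j : GolayPt) {b : Finset GolayPt} (hb : b ∈ GS) :
    vC j b ∈ leechSet := by
  rw [vC_eq_signchange]
  exact signchange_mem_leechSet hb (v3_mem_leechSet j)

theorem sqNorm_vC (j : GolayPt) (b : Finset GolayPt) : sqNorm (vC j b) = 32 := by
  unfold sqNorm
  have : ∀ i, vC j b i ^ 2 = 1 + (if i = j then 8 else 0) := by
    intro i
    unfold vC
    split_ifs <;> rfl
  rw [Finset.sum_congr rfl (fun i _ => this i), Finset.sum_add_distrib, Finset.sum_const,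
    Finset.card_univ, card_golayPt, Finset.sum_ite_eq' Finset.univ j]
  simp

theorem vC_odd (j : GolayPt) (b : Finset GolayPt) (i : GolayPt) : vC j b i % 2 = 1 := by
  unfold vC
  split_ifs <;> rfl

theorem cls_three_vC (j : GolayPt) (b : Finset GolayPt) : cls 3 (vC j b) = b := by
  ext i
  rw [mem_cls]
  unfold vC
  split_ifs with h1 h2 h2 <;> simp [h1]

theorem vC_apply_self (j : GolayPt) (b : Finset GolayPt) : vC j b j = 3 ∨ vC j b j = -3 := by
  unfold vC
  simp only [if_true]
  split_ifs <;> simp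

theorem vC_apply_ne {i j : GolayPt} (h : i ≠ j) (b : Finset GolayPt) :
    vC j b i = 1 ∨ vC j b i = -1 := by
  unfold vC
  split_ifs <;> simp

theorem vC_injective {j j' : GolayPt} {b b' : Finset GolayPt} (h : vC j b = vC j' b') :
    j = j' ∧ b = b' := by
  constructor
  · by_contra hne
    have h1 := vC_apply_self j b
    have h2 := vC_apply_ne hne b'
    rw [h] at h1
    omega
  · rw [← cls_three_vC j b, h, cls_three_vC]

/-- every odd minimal vector is of the form `vC` -/
theorem eq_vC_of_odd {x : GolayPt → ℤ} (hodd : ∀ i, x i % 2 = 1) (hn : sqNorm x = 32) :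
    ∃ j, x = vC j (cls 3 x) := by
  obtain ⟨j, hj, hrest⟩ := odd_norm32 x hodd hn
  refine ⟨j, ?_⟩
  funext i
  unfold vC
  by_cases hi : i = j
  · subst hi
    by_cases hb : i ∈ cls 3 x
    · rw [if_pos hb, if_pos rfl]
      rw [mem_cls] at hb
      omega
    · rw [if_neg hb, if_pos rfl]
      rw [mem_cls] at hb
      omega
  · have := hrest i hi
    by_cases hb : i ∈ cls 3 x
    · rw [if_pos hb, if_neg hi]
      rw [mem_cls] at hb
      omega
    · rw [if_neg hb, if_neg hi]
      rw [mem_cls] at hb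
      omega

/-- the set of odd minimal vectors -/
def minC : Set (GolayPt → ℤ) := {x | x ∈ leechSet ∧ sqNorm x = 32 ∧ x none % 2 = 1}

theorem minC_eq : minC = (fun p : GolayPt × GS => vC p.1 p.2.1) '' Set.univ := by
  ext x
  constructor
  · rintro ⟨hx, hn, hodd⟩
    have hp := parity_of_mem_leechSet hx
    have hodd' : ∀ i, x i % 2 = 1 := fun i => by rw [hp i, hodd]
    obtain ⟨j, hj⟩ := eq_vC_of_odd hodd' hn
    obtain ⟨m, _, _, h3⟩ := hx
    exact ⟨⟨j, ⟨cls 3 x, h3 3⟩⟩, Set.mem_univ _, hj.symm⟩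
  · rintro ⟨⟨j, ⟨b, hb⟩⟩, _, rfl⟩
    exact ⟨vC_mem_leechSet j hb, sqNorm_vC j b, vC_odd j b none⟩

theorem minC_ncard : minC.ncard = 98304 := by
  rw [minC_eq, Set.ncard_image_of_injective, Set.ncard_univ, Nat.card_prod, GS_natCard,
    Nat.card_eq_fintype_card, card_golayPt]
  rintro ⟨j, ⟨b, hb⟩⟩ ⟨j', ⟨b', hb'⟩⟩ h
  obtain ⟨h1, h2⟩ := vC_injective h
  subst h1
  subst h2
  rfl



/-! ### family B: `±2` on an octad -/

/-- `-2` on `s`, `2` on the rest of `o`, `0` elsewhere -/
def vB (o s : Finset GolayPt) : GolayPt → ℤ :=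
  fun i => if i ∈ s then -2 else if i ∈ o then 2 else 0

theorem vB_eq (o s : Finset GolayPt) (hs : s ⊆ o) (i : GolayPt) :
    vB o s i = twoOn o i - (if i ∈ s then 4 else 0) := by
  unfold vB twoOn
  by_cases h1 : i ∈ s
  · rw [if_pos h1, if_pos (hs h1), if_pos h1]; rfl
  · rw [if_neg h1, if_neg h1, sub_zero]

theorem sum_vB (o s : Finset GolayPt) (hs : s ⊆ o) :
    ∑ i, vB o s i = 2 * o.card - 4 * s.card := by
  rw [Finset.sum_congr rfl (fun i _ => vB_eq o s hs i), Finset.sum_sub_distrib, sum_twoOn,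
    Finset.sum_ite_mem, Finset.univ_inter, Finset.sum_const]
  simp [mul_comm]

theorem sqNorm_vB (o s : Finset GolayPt) (hs : s ⊆ o) : sqNorm (vB o s) = 4 * o.card := by
  rw [← sqNorm_twoOn]
  unfold sqNorm
  refine Finset.sum_congr rfl (fun i _ => ?_)
  unfold vB twoOn
  by_cases h1 : i ∈ s
  · rw [if_pos h1, if_pos (hs h1)]; rfl
  · rw [if_neg h1]

theorem cls_two_vB (o s : Finset GolayPt) (hs : s ⊆ o) : cls 2 (vB o s) = o := by
  ext i
  rw [mem_cls]
  unfold vB
  by_cases h1 : i ∈ s
  · rw [if_pos h1]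
    simp [hs h1]
  · rw [if_neg h1]
    split_ifs with h2 <;> simp [h2]

theorem neg_vB (o s : Finset GolayPt) :
    (Finset.univ.filter fun i => vB o s i = -2) = s := by
  ext i
  rw [Finset.mem_filter]
  unfold vB
  by_cases h1 : i ∈ s
  · simp [h1]
  · rw [if_neg h1]
    split_ifs <;> simp [h1]

theorem vB_mem_leechSet {o s : Finset GolayPt} (ho : o ∈ octads) (hs : s ⊆ o)
    (he : Even s.card) : vB o s ∈ leechSet := by
  rw [mem_leechSet_iff]
  refine ⟨0, fun i => ?_, ?_, ?_⟩
  · unfold vB
    split_ifs <;> rfl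
  · rw [sum_vB o s hs, ho.2]
    rw [Nat.even_iff] at he
    omega
  · rw [zero_add, cls_two_vB o s hs]
    exact ho.1

theorem vB_injective {o o' s s' : Finset GolayPt} (hs : s ⊆ o) (hs' : s' ⊆ o')
    (h : vB o s = vB o' s') : o = o' ∧ s = s' := by
  constructor
  · rw [← cls_two_vB o s hs, h, cls_two_vB o' s' hs']
  · rw [← neg_vB o s, h, neg_vB]

/-- the set of even minimal vectors with some coordinate `2 mod 4` -/
def minB : Set (GolayPt → ℤ) :=
  {x | x ∈ leechSet ∧ sqNorm x = 32 ∧ x none % 2 = 0 ∧ (cls 2 x).Nonempty}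

theorem eq_vB_of_mem_minB {x : GolayPt → ℤ} (hx : x ∈ minB) :
    cls 2 x ∈ octads ∧ (Finset.univ.filter fun i => x i = -2) ⊆ cls 2 x ∧
      Even (Finset.univ.filter fun i => x i = -2).card ∧
      x = vB (cls 2 x) (Finset.univ.filter fun i => x i = -2) := by
  obtain ⟨hl, hn, hev, hne⟩ := hx
  have hp := parity_of_mem_leechSet hl
  have hl' := hl
  obtain ⟨m, h1, h2, h3⟩ := hl
  have hGS : cls 2 x ∈ GS := h3 2
  have hcard := supports_card hGS
  have hle := four_card_cls_le x
  have hpos : 0 < (cls 2 x).card := Finset.card_pos.mpr hne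
  have h8 : (cls 2 x).card = 8 := by omega
  have hshape := octad_norm32 x h8 hn
  have hsub : (Finset.univ.filter fun i => x i = -2) ⊆ cls 2 x := by
    intro i hi
    rw [Finset.mem_filter] at hi
    rw [mem_cls, hi.2]
    rfl
  have hxeq : x = vB (cls 2 x) (Finset.univ.filter fun i => x i = -2) := by
    funext i
    unfold vB
    by_cases hi : x i = -2
    · rw [if_pos (by simp [hi])]
      exact hi
    · rw [if_neg (by simp [hi])]
      by_cases hc : i ∈ cls 2 x
      · rw [if_pos hc]
        rcases (hshape i).1 hc with h | h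
        · exact h
        · exact absurd h hi
      · rw [if_neg hc]
        exact (hshape i).2 hc
  refine ⟨⟨hGS, h8⟩, hsub, ?_, hxeq⟩
  have hs := sum_vB (cls 2 x) (Finset.univ.filter fun i => x i = -2) hsub
  rw [← hxeq, h8] at hs
  have := h1 none
  unfold Int.ModEq at *
  rw [Nat.even_iff]
  omega



theorem minB_ncard : minB.ncard = 97152 := by
  classical
  have hfin : octads.Finite := Set.toFinite _
  have hOmem : ∀ o, o ∈ hfin.toFinset ↔ o ∈ octads := fun o => Set.Finite.mem_toFinset hfin
  have hOcard : hfin.toFinset.card = 759 := by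
    rw [← octads_ncard, Set.ncard_eq_toFinset_card _ hfin]
  have himg : minB = (fun p : (Σ _ : Finset GolayPt, Finset GolayPt) => vB p.1 p.2) ''
      ((hfin.toFinset.sigma (fun o => o.powerset.filter (fun s => Even s.card)) :
        Finset (Σ _ : Finset GolayPt, Finset GolayPt)) : Set _) := by
    ext x
    constructor
    · intro hx
      obtain ⟨h1, h2, h3, h4⟩ := eq_vB_of_mem_minB hx
      refine ⟨⟨cls 2 x, Finset.univ.filter fun i => x i = -2⟩, ?_, h4.symm⟩
      rw [Finset.mem_coe, Finset.mem_sigma]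
      exact ⟨(hOmem _).mpr h1, Finset.mem_filter.mpr ⟨Finset.mem_powerset.mpr h2, h3⟩⟩
    · rintro ⟨⟨o, s⟩, hp, rfl⟩
      rw [Finset.mem_coe, Finset.mem_sigma] at hp
      obtain ⟨ho, hs⟩ := hp
      rw [Finset.mem_filter, Finset.mem_powerset] at hs
      have ho' := (hOmem o).mp ho
      refine ⟨vB_mem_leechSet ho' hs.1 hs.2, ?_, ?_, ?_⟩
      · show sqNorm (vB o s) = 32
        rw [sqNorm_vB o s hs.1, ho'.2]
        rfl
      · show vB o s none % 2 = 0
        unfold vB
        split_ifs <;> rfl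
      · show (cls 2 (vB o s)).Nonempty
        rw [cls_two_vB o s hs.1]
        apply Finset.card_pos.mp
        rw [ho'.2]
        norm_num
  rw [himg, Set.InjOn.ncard_image, Set.ncard_coe_finset, Finset.card_sigma]
  · have : ∀ o ∈ hfin.toFinset, (o.powerset.filter (fun s => Even s.card)).card = 128 :=
      fun o ho => card_even_subsets_of_card_eight o ((hOmem o).mp ho).2
    rw [Finset.sum_congr rfl this, Finset.sum_const, hOcard]
    rfl
  · rintro ⟨o, s⟩ hp ⟨o', s'⟩ hp' h
    rw [Finset.mem_coe, Finset.mem_sigma] at hp hp'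
    have hs := (Finset.mem_powerset.mp (Finset.mem_filter.mp hp.2).1)
    have hs' := (Finset.mem_powerset.mp (Finset.mem_filter.mp hp'.2).1)
    obtain ⟨h1, h2⟩ := vB_injective hs hs' h
    subst h1
    subst h2
    rfl



/-! ### family A: `(±4, ±4, 0, ..., 0)` -/

theorem idx_injective : Function.Injective idx := by
  intro p q h
  rcases p with _ | a <;> rcases q with _ | b
  · rfl
  · exfalso
    have : (23 : ℕ) = b.val := h
    have := ZMod.val_lt b
    omega
  · exfalso
    have : a.val = (23 : ℕ) := h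
    have := ZMod.val_lt a
    omega
  · have : a.val = b.val := h
    rw [ZMod.val_injective 23 this]

theorem pair4_apply_left {i j : GolayPt} (h : i ≠ j) (a b : ℤ) : pair4 i j a b i = a := by
  unfold pair4
  simp [h]

theorem pair4_apply_right {i j : GolayPt} (h : i ≠ j) (a b : ℤ) : pair4 i j a b j = b := by
  unfold pair4
  simp [h.symm]

theorem pair4_apply_other {i j k : GolayPt} (hi : k ≠ i) (hj : k ≠ j) (a b : ℤ) :
    pair4 i j a b k = 0 := by
  unfold pair4
  simp [hi, hj]

theorem pair4_comm (i j : GolayPt) (a b : ℤ) : pair4 i j a b = pair4 j i b a := by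
  unfold pair4
  rw [add_comm]

theorem pair4_mod_four (i j : GolayPt) {a b : ℤ} (ha : a % 4 = 0) (hb : b % 4 = 0)
    (k : GolayPt) : pair4 i j a b k % 4 = 0 := by
  unfold pair4
  simp only [Pi.add_apply, Pi.single_apply]
  split_ifs <;> omega

/-- the set of minimal vectors with all coordinates divisible by 4 -/
def minA : Set (GolayPt → ℤ) :=
  {x | x ∈ leechSet ∧ sqNorm x = 32 ∧ x none % 2 = 0 ∧ cls 2 x = ∅}

/-- parameters for family A -/
def domA : Finset (GolayPt × GolayPt × Bool × Bool) :=
  Finset.univ.filter fun p => idx p.1 < idx p.2.1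

def sgn4 (b : Bool) : ℤ := if b then 4 else -4

theorem sgn4_cases (b : Bool) : sgn4 b = 4 ∨ sgn4 b = -4 := by
  cases b <;> simp [sgn4]

theorem sgn4_injective : Function.Injective sgn4 := by
  intro a b h
  cases a <;> cases b <;> simp [sgn4] at h ⊢

def fA (p : GolayPt × GolayPt × Bool × Bool) : GolayPt → ℤ :=
  pair4 p.1 p.2.1 (sgn4 p.2.2.1) (sgn4 p.2.2.2)

set_option maxRecDepth 100000 in
theorem domA_card : domA.card = 1104 := by
  unfold domA
  decide +kernel

theorem exists_sgn4 {a : ℤ} (h : a = 4 ∨ a = -4) : ∃ b, sgn4 b = a := by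
  rcases h with rfl | rfl
  · exact ⟨true, rfl⟩
  · exact ⟨false, rfl⟩

theorem minA_eq : minA = fA '' (domA : Set (GolayPt × GolayPt × Bool × Bool)) := by
  ext x
  constructor
  · rintro ⟨hl, hn, hev, hcls⟩
    have hp := parity_of_mem_leechSet hl
    have h4 : ∀ i, x i % 4 = 0 := by
      intro i
      have hi : i ∉ cls 2 x := by rw [hcls]; exact Finset.notMem_empty i
      rw [mem_cls] at hi
      have := hp i
      omega
    obtain ⟨i, j, hij, hi, hj, hrest⟩ := mod4_norm32 x h4 hn
    have hx : x = pair4 i j (x i) (x j) := by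
      funext k
      by_cases hki : k = i
      · rw [hki, pair4_apply_left hij]
      · by_cases hkj : k = j
        · rw [hkj, pair4_apply_right hij]
        · rw [pair4_apply_other hki hkj, hrest k hki hkj]
    obtain ⟨bi, hbi⟩ := exists_sgn4 hi
    obtain ⟨bj, hbj⟩ := exists_sgn4 hj
    have hidx : idx i ≠ idx j := fun h => hij (idx_injective h)
    rcases Nat.lt_or_gt_of_ne hidx with hlt | hgt
    · refine ⟨(i, j, bi, bj), ?_, ?_⟩
      · simp only [domA, Finset.coe_filter, Finset.mem_univ, true_and, Set.mem_ofPred_eq]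
        exact hlt
      · show pair4 i j (sgn4 bi) (sgn4 bj) = x
        rw [hbi, hbj, ← hx]
    · refine ⟨(j, i, bj, bi), ?_, ?_⟩
      · simp only [domA, Finset.coe_filter, Finset.mem_univ, true_and, Set.mem_ofPred_eq]
        exact hgt
      · show pair4 j i (sgn4 bj) (sgn4 bi) = x
        rw [hbi, hbj, pair4_comm, ← hx]
  · rintro ⟨⟨i, j, bi, bj⟩, hp, rfl⟩
    simp only [domA, Finset.coe_filter, Finset.mem_univ, true_and, Set.mem_ofPred_eq] at hp
    have hij : i ≠ j := fun h => by rw [h] at hp; exact lt_irrefl _ hp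
    have ha : sgn4 bi % 4 = 0 := by rcases sgn4_cases bi with h | h <;> rw [h] <;> rfl
    have hb : sgn4 bj % 4 = 0 := by rcases sgn4_cases bj with h | h <;> rw [h] <;> rfl
    have hab : (sgn4 bi + sgn4 bj) % 8 = 0 := by
      rcases sgn4_cases bi with h | h <;> rcases sgn4_cases bj with h' | h' <;> rw [h, h'] <;> rfl
    refine ⟨pair4_mem_leechSet i j ha hb hab, ?_, ?_, ?_⟩
    · show sqNorm (pair4 i j (sgn4 bi) (sgn4 bj)) = 32
      rw [sqNorm_pair4 hij]
      rcases sgn4_cases bi with h | h <;> rcases sgn4_cases bj with h' | h' <;> rw [h, h'] <;> rfl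
    · show pair4 i j (sgn4 bi) (sgn4 bj) none % 2 = 0
      have := pair4_mod_four i j ha hb none
      omega
    · show cls 2 (pair4 i j (sgn4 bi) (sgn4 bj)) = ∅
      ext k
      rw [mem_cls]
      have := pair4_mod_four i j ha hb k
      simp only [Finset.notMem_empty, iff_false]
      omega

theorem fA_injOn : Set.InjOn fA (domA : Set (GolayPt × GolayPt × Bool × Bool)) := by
  rintro ⟨i, j, bi, bj⟩ hp ⟨i', j', bi', bj'⟩ hp' h
  simp only [domA, Finset.coe_filter, Finset.mem_univ, true_and, Set.mem_ofPred_eq] at hp hp'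
  have hij : i ≠ j := fun h => by rw [h] at hp; exact lt_irrefl _ hp
  have hij' : i' ≠ j' := fun h => by rw [h] at hp'; exact lt_irrefl _ hp'
  have hne : ∀ b, sgn4 b ≠ 0 := fun b => by rcases sgn4_cases b with h | h <;> rw [h] <;> decide
  have h1 : fA (i, j, bi, bj) = pair4 i j (sgn4 bi) (sgn4 bj) := rfl
  have h2 : fA (i', j', bi', bj') = pair4 i' j' (sgn4 bi') (sgn4 bj') := rfl
  rw [h1, h2] at h
  -- i lies in {i', j'} and j lies in {i', j'}
  have hi : i = i' ∨ i = j' := by
    by_contra hcon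
    simp only [not_or] at hcon
    have := congrFun h i
    rw [pair4_apply_left hij, pair4_apply_other hcon.1 hcon.2] at this
    exact hne bi this
  have hj : j = i' ∨ j = j' := by
    by_contra hcon
    simp only [not_or] at hcon
    have := congrFun h j
    rw [pair4_apply_right hij, pair4_apply_other hcon.1 hcon.2] at this
    exact hne bj this
  have hii : i = i' := by
    rcases hi with hi | hi
    · exact hi
    · rcases hj with hj | hj
      · exfalso
        rw [hi, hj] at hp
        omega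
      · exact absurd (hi.trans hj.symm) hij
  have hjj : j = j' := by
    rcases hj with hj | hj
    · exact absurd (hii.trans hj.symm) hij
    · exact hj
  subst hii
  subst hjj
  have e1 := congrFun h i
  have e2 := congrFun h j
  rw [pair4_apply_left hij, pair4_apply_left hij] at e1
  rw [pair4_apply_right hij, pair4_apply_right hij] at e2
  rw [sgn4_injective e1, sgn4_injective e2]

theorem minA_ncard : minA.ncard = 1104 := by
  rw [minA_eq, Set.InjOn.ncard_image fA_injOn, Set.ncard_coe_finset, domA_card]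



/-- the number of minimal vectors -/
theorem min_vectors_ncard :
    {x : GolayPt → ℤ | x ∈ leechLattice ∧ sqNorm x = 32}.ncard = 196560 := by
  have hA : minA.Finite := Set.finite_of_ncard_ne_zero (by rw [minA_ncard]; norm_num)
  have hB : minB.Finite := Set.finite_of_ncard_ne_zero (by rw [minB_ncard]; norm_num)
  have hC : minC.Finite := Set.finite_of_ncard_ne_zero (by rw [minC_ncard]; norm_num)
  have hAB : Disjoint minA minB := by
    rw [Set.disjoint_left]
    rintro x ⟨_, _, _, h1⟩ ⟨_, _, _, h2⟩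
    rw [h1] at h2
    exact Finset.not_nonempty_empty h2
  have hABC : Disjoint (minA ∪ minB) minC := by
    rw [Set.disjoint_left]
    rintro x (⟨_, _, h1, _⟩ | ⟨_, _, h1, _⟩) ⟨_, _, h2⟩ <;> omega
  have heq : {x : GolayPt → ℤ | x ∈ leechLattice ∧ sqNorm x = 32} = (minA ∪ minB) ∪ minC := by
    ext x
    constructor
    · rintro ⟨hx, hn⟩
      rw [mem_leechLattice_iff] at hx
      have hpar : x none % 2 = 0 ∨ x none % 2 = 1 := by omega
      rcases hpar with hp | hp
      · left
        by_cases hc : cls 2 x = ∅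
        · left; exact ⟨hx, hn, hp, hc⟩
        · right; exact ⟨hx, hn, hp, Finset.nonempty_iff_ne_empty.mpr hc⟩
      · right; exact ⟨hx, hn, hp⟩
    · rintro ((⟨hx, hn, _, _⟩ | ⟨hx, hn, _, _⟩) | ⟨hx, hn, _⟩) <;>
        exact ⟨(mem_leechLattice_iff x).mpr hx, hn⟩
  rw [heq, Set.ncard_union_eq hABC (hA.union hB) hC, Set.ncard_union_eq hAB hA hB, minA_ncard,
    minB_ncard, minC_ncard]

end Cfsg.Agent.helper27
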