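import Mathlib
import Cfsg.Agent.Lib_helper27_Min2

set_option autoImplicit false

namespace Cfsg.Agent.helper27

open Cfsg

/-! ### sign changes -/

/-- sign change on a set of coordinates -/
def sc (b : Finset GolayPt) (x : GolayPt → ℤ) : GolayPt → ℤ :=
  fun i => if i ∈ b then -x i else x i

theorem sc_sc (b : Finset GolayPt) (x : GolayPt → ℤ) : sc b (sc b x) = x := by
  funext i
  unfold sc
  split_ifs <;> simp

theorem sc_mem_leechSet {b : Finset GolayPt} (hb : b ∈ GS) {x : GolayPt → ℤ}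
    (hx : x ∈ leechSet) : sc b x ∈ leechSet :=
  signchange_mem_leechSet hb hx

theorem sc_sq (b : Finset GolayPt) (x : GolayPt → ℤ) (i : GolayPt) :
    sc b x i ^ 2 = x i ^ 2 := by
  unfold sc
  split_ifs <;> ring

theorem sc_abs (b : Finset GolayPt) (x : GolayPt → ℤ) (i : GolayPt) :
    |sc b x i| = |x i| := by
  unfold sc
  split_ifs <;> simp

theorem sqNorm_sc (b : Finset GolayPt) (x : GolayPt → ℤ) : sqNorm (sc b x) = sqNorm x := by
  unfold sqNorm
  exact Finset.sum_congr rfl (fun i _ => sc_sq b x i)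

theorem cls_three_sc {b : Finset GolayPt} {y : GolayPt → ℤ} (hy : ∀ i, y i % 4 = 1) :
    cls 3 (sc b y) = b := by
  ext i
  rw [mem_cls]
  unfold sc
  have := hy i
  split_ifs with h <;> simp [h] <;> omega

theorem sc_cls_three_mod {x : GolayPt → ℤ} (hodd : ∀ i, x i % 2 = 1) (i : GolayPt) :
    sc (cls 3 x) x i % 4 = 1 := by
  unfold sc
  have := hodd i
  by_cases h : i ∈ cls 3 x
  · rw [if_pos h]
    rw [mem_cls] at h
    omega
  · rw [if_neg h]
    rw [mem_cls] at h
    omega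

/-- the family of odd lattice vectors obtained from a set `Y` of base vectors (all of whose
coordinates are `1 mod 4`) by code sign changes -/
def oddFam (Y : Set (GolayPt → ℤ)) : Set (GolayPt → ℤ) :=
  (fun p : GS × Y => sc p.1.1 p.2.1) '' Set.univ

theorem mem_oddFam_iff (Y : Set (GolayPt → ℤ)) (x : GolayPt → ℤ) :
    x ∈ oddFam Y ↔ ∃ b ∈ GS, ∃ y ∈ Y, x = sc b y := by
  constructor
  · rintro ⟨⟨⟨b, hb⟩, ⟨y, hy⟩⟩, _, rfl⟩
    exact ⟨b, hb, y, hy, rfl⟩
  · rintro ⟨b, hb, y, hy, rfl⟩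
    exact ⟨⟨⟨b, hb⟩, ⟨y, hy⟩⟩, Set.mem_univ _, rfl⟩

theorem oddFam_ncard (Y : Set (GolayPt → ℤ)) (hY : ∀ y ∈ Y, ∀ i, y i % 4 = 1) :
    (oddFam Y).ncard = 4096 * Y.ncard := by
  unfold oddFam
  rw [Set.ncard_image_of_injective, Set.ncard_univ, Nat.card_prod, GS_natCard,
    Nat.card_coe_set_eq]
  rintro ⟨⟨b, hb⟩, ⟨y, hy⟩⟩ ⟨⟨b', hb'⟩, ⟨y', hy'⟩⟩ h
  have h' : sc b y = sc b' y' := h
  have hbb : b = b' := by
    rw [← cls_three_sc (hY y hy) (b := b), h', cls_three_sc (hY y' hy')]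
  subst hbb
  have hyy : y = y' := by
    rw [← sc_sc b y, h', sc_sc]
  subst hyy
  rfl

/-- an odd lattice vector lies in the family of its normalised vector -/
theorem mem_oddFam_of_odd {x : GolayPt → ℤ} (hx : x ∈ leechSet)
    {Y : Set (GolayPt → ℤ)} (hY : sc (cls 3 x) x ∈ Y) : x ∈ oddFam Y := by
  rw [mem_oddFam_iff]
  obtain ⟨m, _, _, h3⟩ := hx
  exact ⟨cls 3 x, h3 3, _, hY, (sc_sc _ _).symm⟩



/-! ### base vectors for the odd shapes -/

/-- `5` on `T5`, `-3` on `T3`, `1` elsewhere -/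
def base35 (T3 T5 : Finset GolayPt) : GolayPt → ℤ :=
  fun i => if i ∈ T5 then 5 else if i ∈ T3 then -3 else 1

theorem base35_mod (T3 T5 : Finset GolayPt) (i : GolayPt) : base35 T3 T5 i % 4 = 1 := by
  unfold base35
  split_ifs <;> rfl

theorem base35_eq {T3 T5 : Finset GolayPt} (h : Disjoint T3 T5) (i : GolayPt) :
    base35 T3 T5 i = 1 + (if i ∈ T5 then 4 else 0) + (if i ∈ T3 then -4 else 0) := by
  unfold base35
  by_cases h5 : i ∈ T5
  · have h3 : i ∉ T3 := fun h3 => (Finset.disjoint_left.mp h) h3 h5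
    rw [if_pos h5, if_pos h5, if_neg h3]; rfl
  · rw [if_neg h5, if_neg h5]
    split_ifs <;> rfl

theorem base35_sq {T3 T5 : Finset GolayPt} (h : Disjoint T3 T5) (i : GolayPt) :
    base35 T3 T5 i ^ 2 = 1 + (if i ∈ T5 then 24 else 0) + (if i ∈ T3 then 8 else 0) := by
  unfold base35
  by_cases h5 : i ∈ T5
  · have h3 : i ∉ T3 := fun h3 => (Finset.disjoint_left.mp h) h3 h5
    rw [if_pos h5, if_pos h5, if_neg h3]; rfl
  · rw [if_neg h5, if_neg h5]
    split_ifs <;> rfl

theorem sum_ite_mem_const (T : Finset GolayPt) (c : ℤ) :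
    ∑ i, (if i ∈ T then c else 0) = c * T.card := by
  rw [Finset.sum_ite_mem, Finset.univ_inter, Finset.sum_const, nsmul_eq_mul, mul_comm]

theorem sum_base35 {T3 T5 : Finset GolayPt} (h : Disjoint T3 T5) :
    ∑ i, base35 T3 T5 i = 24 + 4 * T5.card - 4 * T3.card := by
  rw [Finset.sum_congr rfl (fun i _ => base35_eq h i), Finset.sum_add_distrib,
    Finset.sum_add_distrib, Finset.sum_const, Finset.card_univ, card_golayPt, sum_ite_mem_const,
    sum_ite_mem_const]
  simp only [nsmul_eq_mul, Nat.cast_ofNat, mul_one]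
  ring

theorem sqNorm_base35 {T3 T5 : Finset GolayPt} (h : Disjoint T3 T5) :
    sqNorm (base35 T3 T5) = 24 + 24 * T5.card + 8 * T3.card := by
  unfold sqNorm
  rw [Finset.sum_congr rfl (fun i _ => base35_sq h i), Finset.sum_add_distrib,
    Finset.sum_add_distrib, Finset.sum_const, Finset.card_univ, card_golayPt, sum_ite_mem_const,
    sum_ite_mem_const]
  simp only [nsmul_eq_mul, Nat.cast_ofNat, mul_one]

theorem base35_mem_leechSet {T3 T5 : Finset GolayPt} (h : Disjoint T3 T5)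
    (hodd : (T3.card + T5.card) % 2 = 1) : base35 T3 T5 ∈ leechSet := by
  apply Spor.mem_leechSet_of_const_mod_four _ 1 1 rfl
  · intro i
    exact base35_mod T3 T5 i
  · rw [sum_base35 h]
    unfold Int.ModEq
    omega

theorem filter_base35_five (T3 T5 : Finset GolayPt) :
    (Finset.univ.filter fun i => base35 T3 T5 i = 5) = T5 := by
  ext i
  rw [Finset.mem_filter]
  unfold base35
  by_cases h5 : i ∈ T5
  · simp [h5]
  · rw [if_neg h5]
    split_ifs <;> simp [h5]

theorem filter_base35_three {T3 T5 : Finset GolayPt} (h : Disjoint T3 T5) :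
    (Finset.univ.filter fun i => base35 T3 T5 i = -3) = T3 := by
  ext i
  rw [Finset.mem_filter]
  unfold base35
  by_cases h5 : i ∈ T5
  · have h3 : i ∉ T3 := fun h3 => (Finset.disjoint_left.mp h) h3 h5
    simp [h5, h3]
  · rw [if_neg h5]
    split_ifs with h3 <;> simp [h3]

/-- the base vectors of shape `(5^c, 3^a, 1^(24-a-c))` -/
def baseSet (a c : ℕ) : Set (GolayPt → ℤ) :=
  {y | ∃ T3 T5 : Finset GolayPt, Disjoint T3 T5 ∧ T3.card = a ∧ T5.card = c ∧ y = base35 T3 T5}

theorem baseSet_ncard (a c : ℕ) : (baseSet a c).ncard = Nat.choose 24 c * Nat.choose (24 - c) a := by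
  classical
  have himg : baseSet a c = (fun p : (Σ _ : Finset GolayPt, Finset GolayPt) => base35 p.2 p.1) ''
      (((Finset.univ : Finset GolayPt).powersetCard c).sigma
        (fun T5 => (Finset.univ \ T5).powersetCard a) :
        Finset (Σ _ : Finset GolayPt, Finset GolayPt)) := by
    ext y
    constructor
    · rintro ⟨T3, T5, hd, h3, h5, rfl⟩
      refine ⟨⟨T5, T3⟩, ?_, rfl⟩
      rw [Finset.mem_coe, Finset.mem_sigma, Finset.mem_powersetCard, Finset.mem_powersetCard]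
      refine ⟨⟨Finset.subset_univ _, h5⟩, ?_, h3⟩
      intro i hi
      rw [Finset.mem_sdiff]
      exact ⟨Finset.mem_univ _, fun h => (Finset.disjoint_left.mp hd) hi h⟩
    · rintro ⟨⟨T5, T3⟩, hp, rfl⟩
      rw [Finset.mem_coe, Finset.mem_sigma, Finset.mem_powersetCard, Finset.mem_powersetCard] at hp
      refine ⟨T3, T5, ?_, hp.2.2, hp.1.2, rfl⟩
      rw [Finset.disjoint_left]
      intro i hi h5
      exact (Finset.mem_sdiff.mp (hp.2.1 hi)).2 h5
  rw [himg, Set.InjOn.ncard_image, Set.ncard_coe_finset, Finset.card_sigma]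
  · have : ∀ T5 ∈ (Finset.univ : Finset GolayPt).powersetCard c,
        ((Finset.univ \ T5).powersetCard a).card = Nat.choose (24 - c) a := by
      intro T5 hT5
      rw [Finset.mem_powersetCard] at hT5
      rw [Finset.card_powersetCard, Finset.card_sdiff_of_subset hT5.1, Finset.card_univ,
        card_golayPt, hT5.2]
    rw [Finset.sum_congr rfl this, Finset.sum_const, Finset.card_powersetCard, Finset.card_univ,
      card_golayPt, smul_eq_mul]
  · rintro ⟨T5, T3⟩ hp ⟨T5', T3'⟩ hp' h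
    rw [Finset.mem_coe, Finset.mem_sigma, Finset.mem_powersetCard, Finset.mem_powersetCard] at hp hp'
    have hd : Disjoint T3 T5 := by
      rw [Finset.disjoint_left]
      intro i hi h5
      exact (Finset.mem_sdiff.mp (hp.2.1 hi)).2 h5
    have hd' : Disjoint T3' T5' := by
      rw [Finset.disjoint_left]
      intro i hi h5
      exact (Finset.mem_sdiff.mp (hp'.2.1 hi)).2 h5
    have h' : base35 T3 T5 = base35 T3' T5' := h
    have e5 : T5 = T5' := by rw [← filter_base35_five T3 T5, h', filter_base35_five]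
    have e3 : T3 = T3' := by rw [← filter_base35_three hd, h', filter_base35_three hd']
    subst e5
    subst e3
    rfl



/-! ### the odd shapes -/

/-- positions with `x_i ^ 2 = 9` -/
def T3of (x : GolayPt → ℤ) : Finset GolayPt := Finset.univ.filter fun i => x i ^ 2 = 9
/-- positions with `x_i ^ 2 = 25` -/
def T5of (x : GolayPt → ℤ) : Finset GolayPt := Finset.univ.filter fun i => x i ^ 2 = 25

theorem mem_T3of (x : GolayPt → ℤ) (i : GolayPt) : i ∈ T3of x ↔ x i ^ 2 = 9 := by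
  unfold T3of; simp
theorem mem_T5of (x : GolayPt → ℤ) (i : GolayPt) : i ∈ T5of x ↔ x i ^ 2 = 25 := by
  unfold T5of; simp

theorem T3of_T5of_disjoint (x : GolayPt → ℤ) : Disjoint (T3of x) (T5of x) := by
  rw [Finset.disjoint_left]
  intro i h3 h5
  rw [mem_T3of] at h3
  rw [mem_T5of] at h5
  omega

theorem T3of_sc (b : Finset GolayPt) (x : GolayPt → ℤ) : T3of (sc b x) = T3of x := by
  ext i; rw [mem_T3of, mem_T3of, sc_sq]
theorem T5of_sc (b : Finset GolayPt) (x : GolayPt → ℤ) : T5of (sc b x) = T5of x := by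
  ext i; rw [mem_T5of, mem_T5of, sc_sq]

theorem eq_of_sq_eq_twentyfive (a : ℤ) (h : a ^ 2 = 25) : a = 5 ∨ a = -5 := by
  have h2 : (a - 5) * (a + 5) = 0 := by ring_nf; omega
  rcases mul_eq_zero.mp h2 with h | h
  · left; omega
  · right; omega

theorem T3of_base35 {T3 T5 : Finset GolayPt} (h : Disjoint T3 T5) : T3of (base35 T3 T5) = T3 := by
  ext i
  rw [mem_T3of, base35_sq h]
  by_cases h5 : i ∈ T5
  · have h3 : i ∉ T3 := fun h3 => (Finset.disjoint_left.mp h) h3 h5
    simp [h5, h3]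
  · by_cases h3 : i ∈ T3 <;> simp [h5, h3]

theorem T5of_base35 {T3 T5 : Finset GolayPt} (h : Disjoint T3 T5) : T5of (base35 T3 T5) = T5 := by
  ext i
  rw [mem_T5of, base35_sq h]
  by_cases h5 : i ∈ T5
  · have h3 : i ∉ T3 := fun h3 => (Finset.disjoint_left.mp h) h3 h5
    simp [h5, h3]
  · by_cases h3 : i ∈ T3 <;> simp [h5, h3]

/-- normal form of an odd vector with small coordinates -/
theorem sc_eq_base35 {x : GolayPt → ℤ} (hsq : ∀ i, x i ^ 2 = 1 ∨ x i ^ 2 = 9 ∨ x i ^ 2 = 25) :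
    sc (cls 3 x) x = base35 (T3of x) (T5of x) := by
  have hodd : ∀ i, x i % 2 = 1 := by
    intro i
    rcases hsq i with h | h | h
    · rcases eq_of_sq_eq_one _ h with h | h <;> rw [h] <;> rfl
    · rcases eq_of_sq_eq_nine _ h with h | h <;> rw [h] <;> rfl
    · rcases eq_of_sq_eq_twentyfive _ h with h | h <;> rw [h] <;> rfl
  funext i
  have hm := sc_cls_three_mod hodd i
  have hs := sc_sq (cls 3 x) x i
  unfold base35
  rcases hsq i with h | h | h
  · have h5 : i ∉ T5of x := by rw [mem_T5of, h]; norm_num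
    have h3 : i ∉ T3of x := by rw [mem_T3of, h]; norm_num
    rw [if_neg h5, if_neg h3]
    rw [h] at hs
    rcases eq_of_sq_eq_one _ hs with h' | h' <;> omega
  · have h5 : i ∉ T5of x := by rw [mem_T5of, h]; norm_num
    have h3 : i ∈ T3of x := by rw [mem_T3of, h]
    rw [if_neg h5, if_pos h3]
    rw [h] at hs
    rcases eq_of_sq_eq_nine _ hs with h' | h' <;> omega
  · have h5 : i ∈ T5of x := by rw [mem_T5of, h]
    rw [if_pos h5]
    rw [h] at hs
    rcases eq_of_sq_eq_twentyfive _ hs with h' | h' <;> omega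

/-- the odd lattice vectors with `a` coordinates `±3`, `c` coordinates `±5`, the rest `±1` -/
def oddShape (a c : ℕ) : Set (GolayPt → ℤ) := oddFam (baseSet a c)

theorem oddShape_ncard (a c : ℕ) :
    (oddShape a c).ncard = 4096 * (Nat.choose 24 c * Nat.choose (24 - c) a) := by
  unfold oddShape
  rw [oddFam_ncard, baseSet_ncard]
  rintro y ⟨T3, T5, _, _, _, rfl⟩ i
  exact base35_mod T3 T5 i

theorem mem_oddShape_iff (a c : ℕ) (hac : (a + c) % 2 = 1) (x : GolayPt → ℤ) :
    x ∈ oddShape a c ↔ x ∈ leechSet ∧ (∀ i, x i ^ 2 = 1 ∨ x i ^ 2 = 9 ∨ x i ^ 2 = 25) ∧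
      (T3of x).card = a ∧ (T5of x).card = c := by
  unfold oddShape
  rw [mem_oddFam_iff]
  constructor
  · rintro ⟨b, hb, y, ⟨T3, T5, hd, h3, h5, rfl⟩, rfl⟩
    refine ⟨sc_mem_leechSet hb (base35_mem_leechSet hd (by rw [h3, h5]; exact hac)), ?_, ?_, ?_⟩
    · intro i
      rw [sc_sq, base35_sq hd]
      by_cases h5' : i ∈ T5
      · have h3' : i ∉ T3 := fun h3' => (Finset.disjoint_left.mp hd) h3' h5'
        simp [h5', h3']
      · by_cases h3' : i ∈ T3 <;> simp [h5', h3']
    · rw [T3of_sc, T3of_base35 hd, h3]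
    · rw [T5of_sc, T5of_base35 hd, h5]
  · rintro ⟨hx, hsq, h3, h5⟩
    obtain ⟨m, _, _, hcls⟩ := hx
    exact ⟨cls 3 x, hcls 3, _, ⟨T3of x, T5of x, T3of_T5of_disjoint x, h3, h5, sc_eq_base35 hsq⟩,
      (sc_sc _ _).symm⟩

theorem sqNorm_of_mem_oddShape {a c : ℕ} {x : GolayPt → ℤ} (hx : x ∈ oddShape a c) :
    sqNorm x = 24 + 24 * c + 8 * a := by
  unfold oddShape at hx
  rw [mem_oddFam_iff] at hx
  obtain ⟨b, _, y, ⟨T3, T5, hd, h3, h5, rfl⟩, rfl⟩ := hx
  rw [sqNorm_sc, sqNorm_base35 hd, h3, h5]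

/-- squares of the coordinates of an odd vector of norm at most 64 -/
theorem odd_sq_cases {x : GolayPt → ℤ} (hodd : ∀ i, x i % 2 = 1) (hn : sqNorm x ≤ 64)
    (i : GolayPt) : x i ^ 2 = 1 ∨ x i ^ 2 = 9 ∨ x i ^ 2 = 25 := by
  classical
  have h1 : ∀ j, 1 ≤ x j ^ 2 := fun j => sq_ge_one_of_odd (x j) (hodd j)
  have hsplit : x i ^ 2 + ∑ k ∈ Finset.univ.erase i, x k ^ 2 = sqNorm x :=
    Finset.add_sum_erase _ (fun k => x k ^ 2) (Finset.mem_univ i)
  have hcard : (Finset.univ.erase i : Finset GolayPt).card = 23 := by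
    rw [Finset.card_erase_of_mem (Finset.mem_univ i), Finset.card_univ, card_golayPt]
  have hge := card_mul_le_sum (Finset.univ.erase i) (fun k => x k ^ 2) 1 (fun k _ => h1 k)
  rw [hcard] at hge
  have h23 : ((23 : ℕ) : ℤ) = 23 := rfl
  have hle : x i ^ 2 ≤ 41 := by omega
  have hb1 : x i ≤ 6 := by nlinarith
  have hb2 : -6 ≤ x i := by nlinarith
  have ho := hodd i
  have hc : x i = 1 ∨ x i = -1 ∨ x i = 3 ∨ x i = -3 ∨ x i = 5 ∨ x i = -5 := by omega
  rcases hc with h | h | h | h | h | h <;> rw [h] <;> norm_num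

/-- every odd lattice vector of norm at most 64 belongs to one of the odd shapes -/
theorem mem_oddShape_of_odd {x : GolayPt → ℤ} (hx : x ∈ leechSet) (hodd : x none % 2 = 1)
    (hn : sqNorm x ≤ 64) :
    x ∈ oddShape (T3of x).card (T5of x).card ∧
      sqNorm x = 24 + 24 * (T5of x).card + 8 * (T3of x).card := by
  have hp := parity_of_mem_leechSet hx
  have hodd' : ∀ i, x i % 2 = 1 := fun i => by rw [hp i, hodd]
  have hsq := odd_sq_cases hodd' hn
  have hmem : x ∈ oddFam (baseSet (T3of x).card (T5of x).card) := by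
    obtain ⟨m, _, _, hcls⟩ := hx
    rw [mem_oddFam_iff]
    exact ⟨cls 3 x, hcls 3, _, ⟨T3of x, T5of x, T3of_T5of_disjoint x, rfl, rfl, sc_eq_base35 hsq⟩,
      (sc_sc _ _).symm⟩
  exact ⟨hmem, sqNorm_of_mem_oddShape hmem⟩

end Cfsg.Agent.helper27
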