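import Mathlib
import Cfsg.Agent.Lib_helper27_Odd

set_option autoImplicit false

namespace Cfsg.Agent.helper27

open Cfsg

/-! ### even vectors -/

/-- the even vector with coordinates `±2`, `±6` on `P` (6 in absolute value on `T6`, residue
`6 mod 8` on `N`) and `±4` on `Z` (negative on `Zm`), zero elsewhere -/
def evenVec (P N T6 Z Zm : Finset GolayPt) : GolayPt → ℤ := fun i =>
  if i ∈ P then (if i ∈ T6 then (if i ∈ N then 6 else -6) else (if i ∈ N then -2 else 2))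
  else (if i ∈ Zm then -4 else if i ∈ Z then 4 else 0)

/-- admissible parameters -/
structure EvenGood (P N T6 Z Zm : Finset GolayPt) : Prop where
  hN : N ⊆ P
  hT : T6 ⊆ P
  hZ : Disjoint Z P
  hZm : Zm ⊆ Z

variable {P N T6 Z Zm : Finset GolayPt}

theorem evenVec_mod8 (h : EvenGood P N T6 Z Zm) (i : GolayPt) :
    (8 : ℤ) ∣ evenVec P N T6 Z Zm i - ((if i ∈ P then 2 else 0) + (if i ∈ N then 4 else 0)
      + (if i ∈ Z then 4 else 0)) := by
  unfold evenVec
  by_cases hP : i ∈ P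
  · have hZ : i ∉ Z := fun hz => (Finset.disjoint_left.mp h.hZ) hz hP
    rw [if_pos hP, if_pos hP, if_neg hZ]
    by_cases hN : i ∈ N <;> by_cases hT : i ∈ T6 <;> simp only [hN, hT, if_true, if_false] <;>
      norm_num
  · have hN : i ∉ N := fun hn => hP (h.hN hn)
    rw [if_neg hP, if_neg hP, if_neg hN]
    by_cases hZm : i ∈ Zm
    · have hZ : i ∈ Z := h.hZm hZm
      rw [if_pos hZm, if_pos hZ]
      norm_num
    · rw [if_neg hZm]
      by_cases hZ : i ∈ Z <;> simp only [hZ, if_true, if_false] <;> norm_num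

theorem evenVec_sq (h : EvenGood P N T6 Z Zm) (i : GolayPt) :
    evenVec P N T6 Z Zm i ^ 2 = (if i ∈ P then 4 else 0) + (if i ∈ T6 then 32 else 0)
      + (if i ∈ Z then 16 else 0) := by
  unfold evenVec
  by_cases hP : i ∈ P
  · have hZ : i ∉ Z := fun hz => (Finset.disjoint_left.mp h.hZ) hz hP
    rw [if_pos hP, if_pos hP, if_neg hZ]
    by_cases hN : i ∈ N <;> by_cases hT : i ∈ T6 <;> simp only [hN, hT, if_true, if_false] <;>
      norm_num
  · have hT : i ∉ T6 := fun ht => hP (h.hT ht)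
    rw [if_neg hP, if_neg hP, if_neg hT]
    by_cases hZm : i ∈ Zm
    · have hZ : i ∈ Z := h.hZm hZm
      rw [if_pos hZm, if_pos hZ]
      norm_num
    · rw [if_neg hZm]
      by_cases hZ : i ∈ Z <;> simp only [hZ, if_true, if_false] <;> norm_num

theorem sqNorm_evenVec (h : EvenGood P N T6 Z Zm) :
    sqNorm (evenVec P N T6 Z Zm) = 4 * P.card + 32 * T6.card + 16 * Z.card := by
  unfold sqNorm
  rw [Finset.sum_congr rfl (fun i _ => evenVec_sq h i), Finset.sum_add_distrib,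
    Finset.sum_add_distrib, sum_ite_mem_const, sum_ite_mem_const, sum_ite_mem_const]

theorem sum_evenVec_mod8 (h : EvenGood P N T6 Z Zm) :
    (8 : ℤ) ∣ (∑ i, evenVec P N T6 Z Zm i) - (2 * P.card + 4 * N.card + 4 * Z.card) := by
  have h1 : (∑ i, evenVec P N T6 Z Zm i) - (2 * (P.card : ℤ) + 4 * N.card + 4 * Z.card)
      = ∑ i, (evenVec P N T6 Z Zm i - ((if i ∈ P then 2 else 0) + (if i ∈ N then 4 else 0)
      + (if i ∈ Z then 4 else 0))) := by
    rw [Finset.sum_sub_distrib, Finset.sum_add_distrib, Finset.sum_add_distrib,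
      sum_ite_mem_const, sum_ite_mem_const, sum_ite_mem_const]
  rw [h1]
  exact Finset.dvd_sum (fun i _ => evenVec_mod8 h i)

theorem cls_two_evenVec (h : EvenGood P N T6 Z Zm) : cls 2 (evenVec P N T6 Z Zm) = P := by
  ext i
  rw [mem_cls]
  have h8 := evenVec_mod8 h i
  by_cases hP : i ∈ P
  · have hZ : i ∉ Z := fun hz => (Finset.disjoint_left.mp h.hZ) hz hP
    rw [if_pos hP, if_neg hZ] at h8
    simp only [hP, iff_true]
    split_ifs at h8 <;> omega
  · have hN : i ∉ N := fun hn => hP (h.hN hn)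
    rw [if_neg hP, if_neg hN] at h8
    simp only [hP, iff_false]
    split_ifs at h8 <;> omega

theorem evenVec_even (P N T6 Z Zm : Finset GolayPt) (i : GolayPt) :
    evenVec P N T6 Z Zm i % 2 = 0 := by
  unfold evenVec
  split_ifs <;> rfl

theorem evenVec_mem_leechSet (h : EvenGood P N T6 Z Zm) (hP : P ∈ GS)
    (hpar : (N.card + Z.card) % 2 = 0) : evenVec P N T6 Z Zm ∈ leechSet := by
  rw [mem_leechSet_iff]
  refine ⟨0, fun i => evenVec_even P N T6 Z Zm i, ?_, ?_⟩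
  · have h8 := sum_evenVec_mod8 h
    have hc := supports_card hP
    omega
  · rw [zero_add, cls_two_evenVec h]
    exact hP



/-! ### recovering the parameters -/

def Nof (x : GolayPt → ℤ) : Finset GolayPt := Finset.univ.filter fun i => x i % 8 = 6
def T6of (x : GolayPt → ℤ) : Finset GolayPt := Finset.univ.filter fun i => x i ^ 2 = 36
def Zof (x : GolayPt → ℤ) : Finset GolayPt := Finset.univ.filter fun i => x i ^ 2 = 16
def Zmof (x : GolayPt → ℤ) : Finset GolayPt := Finset.univ.filter fun i => x i = -4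

theorem mem_Nof (x : GolayPt → ℤ) (i : GolayPt) : i ∈ Nof x ↔ x i % 8 = 6 := by
  unfold Nof; simp
theorem mem_T6of (x : GolayPt → ℤ) (i : GolayPt) : i ∈ T6of x ↔ x i ^ 2 = 36 := by
  unfold T6of; simp
theorem mem_Zof (x : GolayPt → ℤ) (i : GolayPt) : i ∈ Zof x ↔ x i ^ 2 = 16 := by
  unfold Zof; simp
theorem mem_Zmof (x : GolayPt → ℤ) (i : GolayPt) : i ∈ Zmof x ↔ x i = -4 := by
  unfold Zmof; simp

theorem evenVec_cases (h : EvenGood P N T6 Z Zm) (i : GolayPt) :
    (i ∈ P ∧ i ∈ T6 ∧ i ∈ N ∧ evenVec P N T6 Z Zm i = 6) ∨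
    (i ∈ P ∧ i ∈ T6 ∧ i ∉ N ∧ evenVec P N T6 Z Zm i = -6) ∨
    (i ∈ P ∧ i ∉ T6 ∧ i ∈ N ∧ evenVec P N T6 Z Zm i = -2) ∨
    (i ∈ P ∧ i ∉ T6 ∧ i ∉ N ∧ evenVec P N T6 Z Zm i = 2) ∨
    (i ∉ P ∧ i ∉ T6 ∧ i ∉ N ∧ i ∈ Zm ∧ i ∈ Z ∧ evenVec P N T6 Z Zm i = -4) ∨
    (i ∉ P ∧ i ∉ T6 ∧ i ∉ N ∧ i ∉ Zm ∧ i ∈ Z ∧ evenVec P N T6 Z Zm i = 4) ∨
    (i ∉ P ∧ i ∉ T6 ∧ i ∉ N ∧ i ∉ Zm ∧ i ∉ Z ∧ evenVec P N T6 Z Zm i = 0) := by
  unfold evenVec
  by_cases hP : i ∈ P
  · by_cases hT : i ∈ T6 <;> by_cases hN : i ∈ N <;> simp [hP, hT, hN]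
  · have hT : i ∉ T6 := fun ht => hP (h.hT ht)
    have hN : i ∉ N := fun hn => hP (h.hN hn)
    by_cases hZm : i ∈ Zm
    · have hZ : i ∈ Z := h.hZm hZm
      simp [hP, hT, hN, hZm, hZ]
    · by_cases hZ : i ∈ Z <;> simp [hP, hT, hN, hZm, hZ]

theorem Nof_evenVec (h : EvenGood P N T6 Z Zm) : Nof (evenVec P N T6 Z Zm) = N := by
  ext i
  rw [mem_Nof]
  rcases evenVec_cases h i with ⟨_, _, h3, h4⟩ | ⟨_, _, h3, h4⟩ | ⟨_, _, h3, h4⟩ |
    ⟨_, _, h3, h4⟩ | ⟨_, _, h3, _, _, h4⟩ | ⟨_, _, h3, _, _, h4⟩ | ⟨_, _, h3, _, _, h4⟩ <;>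
    rw [h4] <;> simp [h3]

theorem T6of_evenVec (h : EvenGood P N T6 Z Zm) : T6of (evenVec P N T6 Z Zm) = T6 := by
  ext i
  rw [mem_T6of]
  rcases evenVec_cases h i with ⟨_, h3, _, h4⟩ | ⟨_, h3, _, h4⟩ | ⟨_, h3, _, h4⟩ |
    ⟨_, h3, _, h4⟩ | ⟨_, h3, _, _, _, h4⟩ | ⟨_, h3, _, _, _, h4⟩ | ⟨_, h3, _, _, _, h4⟩ <;>
    rw [h4] <;> simp [h3]

theorem Zof_evenVec (h : EvenGood P N T6 Z Zm) : Zof (evenVec P N T6 Z Zm) = Z := by
  ext i
  rw [mem_Zof]
  have hd := h.hZ
  rcases evenVec_cases h i with ⟨h1, _, _, h4⟩ | ⟨h1, _, _, h4⟩ | ⟨h1, _, _, h4⟩ |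
    ⟨h1, _, _, h4⟩ | ⟨_, _, _, _, h3, h4⟩ | ⟨_, _, _, _, h3, h4⟩ | ⟨_, _, _, _, h3, h4⟩
  all_goals first
    | (have hZ : i ∉ Z := fun hz => (Finset.disjoint_left.mp hd) hz h1
       rw [h4]; simp [hZ])
    | (rw [h4]; simp [h3])

theorem Zmof_evenVec (h : EvenGood P N T6 Z Zm) : Zmof (evenVec P N T6 Z Zm) = Zm := by
  ext i
  rw [mem_Zmof]
  have hd := h.hZ
  rcases evenVec_cases h i with ⟨h1, _, _, h4⟩ | ⟨h1, _, _, h4⟩ | ⟨h1, _, _, h4⟩ |
    ⟨h1, _, _, h4⟩ | ⟨_, _, _, h3, _, h4⟩ | ⟨_, _, _, h3, _, h4⟩ | ⟨_, _, _, h3, _, h4⟩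
  all_goals first
    | (have hZm : i ∉ Zm := fun hz => (Finset.disjoint_left.mp hd) (h.hZm hz) h1
       rw [h4]; simp [hZm])
    | (rw [h4]; simp [h3])

/-- normal form of an even vector with small coordinates -/
theorem eq_evenVec {x : GolayPt → ℤ}
    (hsq : ∀ i, x i ^ 2 = 0 ∨ x i ^ 2 = 4 ∨ x i ^ 2 = 16 ∨ x i ^ 2 = 36) :
    EvenGood (cls 2 x) (Nof x) (T6of x) (Zof x) (Zmof x) ∧
      x = evenVec (cls 2 x) (Nof x) (T6of x) (Zof x) (Zmof x) := by
  have hval : ∀ i, x i = 0 ∨ x i = 2 ∨ x i = -2 ∨ x i = 4 ∨ x i = -4 ∨ x i = 6 ∨ x i = -6 := by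
    intro i
    rcases hsq i with h | h | h | h
    · left; exact pow_eq_zero_iff (by norm_num) |>.mp h
    · rcases eq_of_sq_eq_four _ h with h | h <;> simp [h]
    · rcases eq_of_sq_eq_sixteen _ h with h | h <;> simp [h]
    · have h2 : (x i - 6) * (x i + 6) = 0 := by ring_nf; omega
      rcases mul_eq_zero.mp h2 with h | h
      · have : x i = 6 := by omega
        simp [this]
      · have : x i = -6 := by omega
        simp [this]
  refine ⟨⟨?_, ?_, ?_, ?_⟩, ?_⟩
  · intro i hi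
    rw [mem_Nof] at hi
    rw [mem_cls]
    rcases hval i with h | h | h | h | h | h | h <;> rw [h] at hi ⊢ <;> omega
  · intro i hi
    rw [mem_T6of] at hi
    rw [mem_cls]
    rcases hval i with h | h | h | h | h | h | h <;> rw [h] at hi ⊢ <;> omega
  · rw [Finset.disjoint_left]
    intro i hi hc
    rw [mem_Zof] at hi
    rw [mem_cls] at hc
    rcases hval i with h | h | h | h | h | h | h <;> rw [h] at hi hc <;> omega
  · intro i hi
    rw [mem_Zmof] at hi
    rw [mem_Zof, hi]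
    rfl
  · funext i
    unfold evenVec
    simp only [mem_cls, mem_Nof, mem_T6of, mem_Zof, mem_Zmof]
    rcases hval i with h | h | h | h | h | h | h <;> rw [h] <;> norm_num


/-- subsets of prescribed parity of a nonempty finite set -/
theorem card_parity_subsets {α : Type*} [DecidableEq α] (o : Finset α) (ho : o.Nonempty) (t : ℕ) :
    (o.powerset.filter (fun s => (s.card + t) % 2 = 0)).card = 2 ^ (o.card - 1) := by
  have h1 := Finset.card_filter_add_card_filter_not (s := o.powerset)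
    (fun s => Even s.card)
  rw [Finset.card_powerset] at h1
  have h2 := two_mul_card_even_subsets o ho
  have hpos : 1 ≤ o.card := Finset.card_pos.mpr ho
  have hpow : 2 ^ o.card = 2 * 2 ^ (o.card - 1) := by
    rw [← pow_succ']
    congr 1
    omega
  rcases Nat.mod_two_eq_zero_or_one t with ht | ht
  · have : (o.powerset.filter (fun s => (s.card + t) % 2 = 0))
        = o.powerset.filter (fun s => Even s.card) := by
      apply Finset.filter_congr
      intro s _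
      rw [Nat.even_iff]
      omega
    rw [this]
    omega
  · have : (o.powerset.filter (fun s => (s.card + t) % 2 = 0))
        = o.powerset.filter (fun s => ¬ Even s.card) := by
      apply Finset.filter_congr
      intro s _
      rw [Nat.even_iff]
      omega
    rw [this]
    omega


/-- code supports of weight `n`, as a finset -/
noncomputable def GSw (n : ℕ) : Finset (Finset GolayPt) :=
  (Set.toFinite (wordsOfWeight (golayCode : Set (GolayPt → ZMod 2)) n)).toFinset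

theorem mem_GSw (n : ℕ) (P : Finset GolayPt) : P ∈ GSw n ↔ P ∈ GS ∧ P.card = n := by
  unfold GSw
  rw [Set.Finite.mem_toFinset]
  unfold wordsOfWeight
  rw [Set.mem_ofPred_eq]

theorem GSw_card (n : ℕ) :
    (GSw n).card = (wordsOfWeight (golayCode : Set (GolayPt → ZMod 2)) n).ncard :=
  (Set.ncard_eq_toFinset_card _ _).symm

theorem GSw_card_eight : (GSw 8).card = 759 := by
  rw [GSw_card]; exact octads_ncard
theorem GSw_card_twelve : (GSw 12).card = 2576 := by
  rw [GSw_card]; exact dodecads_ncard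
theorem GSw_card_sixteen : (GSw 16).card = 759 := by
  rw [GSw_card, ncard_wordsOfWeight, count16]

theorem GSw_zero : GSw 0 = {∅} := by
  ext P
  rw [mem_GSw, Finset.mem_singleton, Finset.card_eq_zero]
  constructor
  · exact fun h => h.2
  · rintro rfl
    exact ⟨empty_mem_GS, rfl⟩

/-- index type of the even vectors -/
abbrev EvenIdx := Σ _ : Finset GolayPt, (Finset GolayPt × Finset GolayPt ×
  (Σ _ : Finset GolayPt, Finset GolayPt))

/-- the parameter sets of shape `(w, t6, t)` -/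
noncomputable def evenDom (w t6 t : ℕ) : Finset EvenIdx :=
  (GSw w).sigma (fun P => (P.powerset.filter (fun N => (N.card + t) % 2 = 0)) ×ˢ
    ((P.powersetCard t6) ×ˢ ((Pᶜ.powersetCard t).sigma (fun Z => Z.powerset))))

theorem mem_evenDom (w t6 t : ℕ) (p : EvenIdx) : p ∈ evenDom w t6 t ↔
    (p.1 ∈ GS ∧ p.1.card = w) ∧ (p.2.1 ⊆ p.1 ∧ (p.2.1.card + t) % 2 = 0) ∧
      (p.2.2.1 ⊆ p.1 ∧ p.2.2.1.card = t6) ∧ (p.2.2.2.1 ⊆ p.1ᶜ ∧ p.2.2.2.1.card = t) ∧
      p.2.2.2.2 ⊆ p.2.2.2.1 := by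
  unfold evenDom
  rw [Finset.mem_sigma, Finset.mem_product, Finset.mem_product, Finset.mem_sigma, mem_GSw,
    Finset.mem_filter, Finset.mem_powerset, Finset.mem_powersetCard, Finset.mem_powersetCard,
    Finset.mem_powerset]

/-- the even vector of an index -/
def evenOf (p : EvenIdx) : GolayPt → ℤ := evenVec p.1 p.2.1 p.2.2.1 p.2.2.2.1 p.2.2.2.2

theorem evenDom_card (w t6 t : ℕ) : (evenDom w t6 t).card =
    ∑ P ∈ GSw w, (P.powerset.filter (fun N => (N.card + t) % 2 = 0)).card *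
      (Nat.choose w t6 * (Nat.choose (24 - w) t * 2 ^ t)) := by
  unfold evenDom
  rw [Finset.card_sigma]
  apply Finset.sum_congr rfl
  intro P hP
  rw [mem_GSw] at hP
  rw [Finset.card_product, Finset.card_product, Finset.card_sigma, Finset.card_powersetCard, hP.2]
  have : ∀ Z ∈ Pᶜ.powersetCard t, Z.powerset.card = 2 ^ t := by
    intro Z hZ
    rw [Finset.mem_powersetCard] at hZ
    rw [Finset.card_powerset, hZ.2]
  rw [Finset.sum_congr rfl this, Finset.sum_const, Finset.card_powersetCard, Finset.card_compl,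
    card_golayPt, hP.2, smul_eq_mul]


theorem evenGood_of_mem_evenDom {w t6 t : ℕ} {p : EvenIdx} (hp : p ∈ evenDom w t6 t) :
    EvenGood p.1 p.2.1 p.2.2.1 p.2.2.2.1 p.2.2.2.2 := by
  rw [mem_evenDom] at hp
  obtain ⟨_, ⟨hN, _⟩, ⟨hT, _⟩, ⟨hZ, _⟩, hZm⟩ := hp
  refine ⟨hN, hT, ?_, hZm⟩
  rw [Finset.disjoint_left]
  intro i hi hP
  exact (Finset.mem_compl.mp (hZ hi)) hP

theorem evenOf_injOn (w t6 t : ℕ) : Set.InjOn evenOf (evenDom w t6 t : Set EvenIdx) := by
  intro p hp q hq h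
  have gp := evenGood_of_mem_evenDom hp
  have gq := evenGood_of_mem_evenDom hq
  obtain ⟨P, N, T6, Z, Zm⟩ := p
  obtain ⟨P', N', T6', Z', Zm'⟩ := q
  have h' : evenVec P N T6 Z Zm = evenVec P' N' T6' Z' Zm' := h
  have gp' : EvenGood P N T6 Z Zm := gp
  have gq' : EvenGood P' N' T6' Z' Zm' := gq
  have e1 : P = P' := by rw [← cls_two_evenVec gp', h', cls_two_evenVec gq']
  have e2 : N = N' := by rw [← Nof_evenVec gp', h', Nof_evenVec gq']
  have e3 : T6 = T6' := by rw [← T6of_evenVec gp', h', T6of_evenVec gq']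
  have e4 : Z = Z' := by rw [← Zof_evenVec gp', h', Zof_evenVec gq']
  have e5 : Zm = Zm' := by rw [← Zmof_evenVec gp', h', Zmof_evenVec gq']
  subst e1 e2 e3 e4 e5
  rfl

/-- the even lattice vectors of shape `(w, t6, t)` -/
def evenShape (w t6 t : ℕ) : Set (GolayPt → ℤ) := evenOf '' (evenDom w t6 t : Set EvenIdx)

theorem evenShape_finite (w t6 t : ℕ) : (evenShape w t6 t).Finite :=
  (Finset.finite_toSet _).image _

theorem evenShape_ncard_sum (w t6 t : ℕ) : (evenShape w t6 t).ncard =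
    ∑ P ∈ GSw w, (P.powerset.filter (fun N => (N.card + t) % 2 = 0)).card *
      (Nat.choose w t6 * (Nat.choose (24 - w) t * 2 ^ t)) := by
  unfold evenShape
  rw [Set.InjOn.ncard_image (evenOf_injOn w t6 t), Set.ncard_coe_finset, evenDom_card]

theorem evenShape_ncard (w t6 t : ℕ) (hw : 1 ≤ w) : (evenShape w t6 t).ncard =
    (GSw w).card * (2 ^ (w - 1) * (Nat.choose w t6 * (Nat.choose (24 - w) t * 2 ^ t))) := by
  rw [evenShape_ncard_sum]
  have : ∀ P ∈ GSw w, (P.powerset.filter (fun N => (N.card + t) % 2 = 0)).card *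
      (Nat.choose w t6 * (Nat.choose (24 - w) t * 2 ^ t))
      = 2 ^ (w - 1) * (Nat.choose w t6 * (Nat.choose (24 - w) t * 2 ^ t)) := by
    intro P hP
    rw [mem_GSw] at hP
    rw [card_parity_subsets P (Finset.card_pos.mp (by omega)), hP.2]
  rw [Finset.sum_congr rfl this, Finset.sum_const, smul_eq_mul]

theorem evenShape_zero_ncard (t : ℕ) (ht : t % 2 = 0) :
    (evenShape 0 0 t).ncard = Nat.choose 24 t * 2 ^ t := by
  rw [evenShape_ncard_sum, GSw_zero, Finset.sum_singleton]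
  have : ((∅ : Finset GolayPt).powerset.filter (fun N => (N.card + t) % 2 = 0)).card = 1 := by
    rw [Finset.powerset_empty, Finset.filter_singleton, if_pos (by simpa using ht)]
    rfl
  rw [this]
  simp

theorem mem_evenShape_iff (w t6 t : ℕ) (x : GolayPt → ℤ) :
    x ∈ evenShape w t6 t ↔ x ∈ leechSet ∧
      (∀ i, x i ^ 2 = 0 ∨ x i ^ 2 = 4 ∨ x i ^ 2 = 16 ∨ x i ^ 2 = 36) ∧
      (cls 2 x).card = w ∧ (T6of x).card = t6 ∧ (Zof x).card = t := by
  unfold evenShape
  constructor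
  · rintro ⟨p, hp, rfl⟩
    have hp' : p ∈ evenDom w t6 t := hp
    have g := evenGood_of_mem_evenDom hp'
    rw [mem_evenDom] at hp'
    obtain ⟨⟨hGS, hw⟩, ⟨_, hpar⟩, ⟨_, h6⟩, ⟨_, ht⟩, _⟩ := hp'
    unfold evenOf
    refine ⟨evenVec_mem_leechSet g hGS (by rw [ht]; exact hpar), ?_, ?_, ?_, ?_⟩
    · intro i
      rw [evenVec_sq g]
      by_cases hP : i ∈ p.1
      · have hZ : i ∉ p.2.2.2.1 := fun hz => (Finset.disjoint_left.mp g.hZ) hz hP
        by_cases hT : i ∈ p.2.2.1 <;> simp [hP, hZ, hT]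
      · have hT : i ∉ p.2.2.1 := fun ht => hP (g.hT ht)
        by_cases hZ : i ∈ p.2.2.2.1 <;> simp [hP, hZ, hT]
    · rw [cls_two_evenVec g, hw]
    · rw [T6of_evenVec g, h6]
    · rw [Zof_evenVec g, ht]
  · rintro ⟨hx, hsq, hw, h6, ht⟩
    obtain ⟨g, he⟩ := eq_evenVec hsq
    refine ⟨⟨cls 2 x, Nof x, T6of x, Zof x, Zmof x⟩, ?_, he.symm⟩
    rw [Finset.mem_coe, mem_evenDom]
    have hGS : cls 2 x ∈ GS := by
      obtain ⟨m, _, _, hcls⟩ := hx
      exact hcls 2
    refine ⟨⟨hGS, hw⟩, ⟨g.hN, ?_⟩, ⟨g.hT, h6⟩, ⟨?_, ht⟩, g.hZm⟩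
    · -- parity
      have hsum := sum_evenVec_mod8 g
      rw [← he] at hsum
      have hc := supports_card hGS
      have hm : (∑ i, x i) % 8 = 0 := by
        obtain ⟨m, h1, h2, _⟩ := hx
        have hev : x none % 2 = 0 := by
          rcases hsq none with h | h | h | h
          · have : x none = 0 := pow_eq_zero_iff (by norm_num) |>.mp h
            omega
          · rcases eq_of_sq_eq_four _ h with h | h <;> omega
          · rcases eq_of_sq_eq_sixteen _ h with h | h <;> omega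
          · have h2 : (x none - 6) * (x none + 6) = 0 := by ring_nf; omega
            rcases mul_eq_zero.mp h2 with h | h <;> omega
        have := h1 none
        unfold Int.ModEq at *
        omega
      show ((Nof x).card + t) % 2 = 0
      rw [← ht]
      omega
    · intro i hi
      rw [Finset.mem_compl]
      exact fun hP => (Finset.disjoint_left.mp g.hZ) hi hP

end Cfsg.Agent.helper27
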