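import Mathlib
import Cfsg.Agent.Lib_helper27_Even

set_option autoImplicit false

namespace Cfsg.Agent.helper27

open Cfsg

theorem sq_le_sqNorm (x : GolayPt → ℤ) (i : GolayPt) : x i ^ 2 ≤ sqNorm x := by
  unfold sqNorm
  exact Finset.single_le_sum (f := fun k => x k ^ 2) (fun k _ => sq_nonneg (x k))
    (Finset.mem_univ i)

theorem eq_of_sq_eq_thirtysix (a : ℤ) (h : a ^ 2 = 36) : a = 6 ∨ a = -6 := by
  have h2 : (a - 6) * (a + 6) = 0 := by ring_nf; omega
  rcases mul_eq_zero.mp h2 with h | h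
  · left; omega
  · right; omega

theorem eq_of_sq_eq_sixtyfour (a : ℤ) (h : a ^ 2 = 64) : a = 8 ∨ a = -8 := by
  have h2 : (a - 8) * (a + 8) = 0 := by ring_nf; omega
  rcases mul_eq_zero.mp h2 with h | h
  · left; omega
  · right; omega

theorem even_sq_cases {x : GolayPt → ℤ} (hev : ∀ i, x i % 2 = 0) (hn : sqNorm x ≤ 64)
    (i : GolayPt) :
    x i ^ 2 = 0 ∨ x i ^ 2 = 4 ∨ x i ^ 2 = 16 ∨ x i ^ 2 = 36 ∨ x i ^ 2 = 64 := by
  have h := sq_le_sqNorm x i
  have hb1 : x i ≤ 8 := by nlinarith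
  have hb2 : -8 ≤ x i := by nlinarith
  have := hev i
  have hc : x i = 0 ∨ x i = 2 ∨ x i = -2 ∨ x i = 4 ∨ x i = -4 ∨ x i = 6 ∨ x i = -6 ∨
      x i = 8 ∨ x i = -8 := by omega
  rcases hc with h | h | h | h | h | h | h | h | h <;> rw [h] <;> norm_num

/-! ### the standard cross -/

theorem sqNorm_of_mem_stdCross {x : GolayPt → ℤ} (hx : x ∈ stdCross) : sqNorm x = 64 := by
  obtain ⟨i, s, hs, rfl⟩ := hx
  rw [sqNorm_single]
  rcases hs with rfl | rfl <;> norm_num

theorem mem_leechSet_of_mem_stdCross {x : GolayPt → ℤ} (hx : x ∈ stdCross) : x ∈ leechSet := by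
  obtain ⟨i, s, hs, rfl⟩ := hx
  rw [← mem_leechLattice_iff]
  apply single_mem_leechLattice
  rcases hs with rfl | rfl <;> rfl

theorem even_of_mem_stdCross {x : GolayPt → ℤ} (hx : x ∈ stdCross) : x none % 2 = 0 := by
  obtain ⟨i, s, hs, rfl⟩ := hx
  rw [Pi.single_apply]
  split_ifs
  · rcases hs with rfl | rfl <;> rfl
  · rfl

theorem sq_of_mem_stdCross {x : GolayPt → ℤ} (hx : x ∈ stdCross) :
    ∃ i, x i ^ 2 = 64 := by
  obtain ⟨i, s, hs, rfl⟩ := hx
  refine ⟨i, ?_⟩
  rw [Pi.single_eq_same]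
  rcases hs with rfl | rfl <;> norm_num

theorem mem_stdCross_of_sq {x : GolayPt → ℤ} (hn : sqNorm x ≤ 64) {i : GolayPt}
    (hi : x i ^ 2 = 64) : x ∈ stdCross := by
  classical
  have hsplit : x i ^ 2 + ∑ k ∈ Finset.univ.erase i, x k ^ 2 = sqNorm x :=
    Finset.add_sum_erase _ (fun k => x k ^ 2) (Finset.mem_univ i)
  have hnn : 0 ≤ ∑ k ∈ Finset.univ.erase i, x k ^ 2 :=
    Finset.sum_nonneg (fun k _ => sq_nonneg (x k))
  have h0 : ∑ k ∈ Finset.univ.erase i, x k ^ 2 = 0 := by omega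
  have hz := (Finset.sum_eq_zero_iff_of_nonneg (fun k _ => sq_nonneg (x k))).mp h0
  refine ⟨i, x i, eq_of_sq_eq_sixtyfour _ hi, ?_⟩
  funext k
  rw [Pi.single_apply]
  split_ifs with hk
  · rw [hk]
  · have := hz k (Finset.mem_erase.mpr ⟨hk, Finset.mem_univ k⟩)
    exact pow_eq_zero_iff (by norm_num) |>.mp this

theorem stdCross_ncard : stdCross.ncard = 48 := by
  have h : stdCross = (fun p : GolayPt × Bool => (Pi.single p.1 (if p.2 then 8 else -8) :
      GolayPt → ℤ)) '' Set.univ := by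
    ext y
    constructor
    · rintro ⟨i, s, hs, rfl⟩
      rcases hs with rfl | rfl
      · exact ⟨(i, true), Set.mem_univ _, by simp⟩
      · exact ⟨(i, false), Set.mem_univ _, by simp⟩
    · rintro ⟨⟨i, b⟩, _, rfl⟩
      refine ⟨i, _, ?_, rfl⟩
      cases b <;> simp
  rw [h, Set.ncard_image_of_injective, Set.ncard_univ, Nat.card_prod, Nat.card_eq_fintype_card,
    card_golayPt, Nat.card_eq_fintype_card, Fintype.card_bool]
  rintro ⟨i, b⟩ ⟨j, c⟩ hij
  have hij' : (Pi.single i (if b then 8 else -8) : GolayPt → ℤ)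
      = Pi.single j (if c then 8 else -8) := hij
  have h1 := congrFun hij' i
  rw [Pi.single_eq_same, Pi.single_apply] at h1
  have e : i = j := by
    by_contra hne
    rw [if_neg hne] at h1
    cases b <;> simp at h1
  subst e
  rw [if_pos rfl] at h1
  cases b <;> cases c <;> simp at h1 <;> rfl

theorem stdCross_finite : stdCross.Finite :=
  Set.finite_of_ncard_ne_zero (by rw [stdCross_ncard]; norm_num)

/-! ### parameters of a member of a shape -/

theorem sqNorm_of_mem_evenShape {w t6 t : ℕ} {x : GolayPt → ℤ} (hx : x ∈ evenShape w t6 t) :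
    sqNorm x = 4 * w + 32 * t6 + 16 * t := by
  obtain ⟨p, hp, rfl⟩ := hx
  have hp' : p ∈ evenDom w t6 t := hp
  have g := evenGood_of_mem_evenDom hp'
  rw [mem_evenDom] at hp'
  obtain ⟨⟨_, hw⟩, _, ⟨_, h6⟩, ⟨_, ht⟩, _⟩ := hp'
  unfold evenOf
  rw [sqNorm_evenVec g, hw, h6, ht]

theorem evenShape_zero {t6 t : ℕ} {x : GolayPt → ℤ} (hx : x ∈ evenShape 0 t6 t) :
    t6 = 0 ∧ t % 2 = 0 := by
  obtain ⟨p, hp, rfl⟩ := hx
  have hp' : p ∈ evenDom 0 t6 t := hp
  rw [mem_evenDom] at hp'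
  obtain ⟨⟨_, hw⟩, ⟨hN, hpar⟩, ⟨hT, h6⟩, _, _⟩ := hp'
  rw [Finset.card_eq_zero] at hw
  rw [hw, Finset.subset_empty] at hN hT
  rw [hN] at hpar
  rw [hT] at h6
  simp only [Finset.card_empty, zero_add] at hpar h6
  exact ⟨h6.symm, hpar⟩

theorem even_of_mem_evenShape {w t6 t : ℕ} {x : GolayPt → ℤ} (hx : x ∈ evenShape w t6 t) :
    x none % 2 = 0 := by
  obtain ⟨p, hp, rfl⟩ := hx
  exact evenVec_even _ _ _ _ _ _

theorem odd_of_mem_oddShape {a c : ℕ} {x : GolayPt → ℤ} (hx : x ∈ oddShape a c) :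
    x none % 2 = 1 := by
  unfold oddShape at hx
  rw [mem_oddFam_iff] at hx
  obtain ⟨b, _, y, ⟨T3, T5, hd, h3, h5, rfl⟩, rfl⟩ := hx
  have h := sc_sq b (base35 T3 T5) none
  have h4 := base35_mod T3 T5 none
  have h2 : base35 T3 T5 none % 2 = 1 := by omega
  have h5 : (base35 T3 T5 none ^ 2) % 2 = 1 := by
    rw [pow_two, Int.mul_emod, h2]; rfl
  rw [← h] at h5
  rcases Int.emod_two_eq_zero_or_one (sc b (base35 T3 T5) none) with h0 | h1
  · rw [pow_two, Int.mul_emod, h0] at h5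
    norm_num at h5
  · exact h1

theorem params_of_mem_oddShape {a c : ℕ} {x : GolayPt → ℤ} (hx : x ∈ oddShape a c) :
    (T3of x).card = a ∧ (T5of x).card = c := by
  unfold oddShape at hx
  rw [mem_oddFam_iff] at hx
  obtain ⟨b, _, y, ⟨T3, T5, hd, h3, h5, rfl⟩, rfl⟩ := hx
  rw [T3of_sc, T5of_sc, T3of_base35 hd, T5of_base35 hd]
  exact ⟨h3, h5⟩

theorem mem_leechSet_of_mem_oddShape {a c : ℕ} (hac : (a + c) % 2 = 1) {x : GolayPt → ℤ}
    (hx : x ∈ oddShape a c) : x ∈ leechSet :=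
  ((mem_oddShape_iff a c hac x).mp hx).1

theorem oddShape_finite (a c : ℕ) (hac : Nat.choose 24 c * Nat.choose (24 - c) a ≠ 0) :
    (oddShape a c).Finite := by
  apply Set.finite_of_ncard_ne_zero
  rw [oddShape_ncard]
  omega

/-- every even lattice vector of norm at most 64 is in the standard cross or in an even shape -/
theorem mem_evenShape_of_even {x : GolayPt → ℤ} (hx : x ∈ leechSet) (hev : x none % 2 = 0)
    (hn : sqNorm x ≤ 64) : x ∈ stdCross ∨
      (x ∈ evenShape (cls 2 x).card (T6of x).card (Zof x).card ∧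
        sqNorm x = 4 * (cls 2 x).card + 32 * (T6of x).card + 16 * (Zof x).card ∧
        ((cls 2 x).card = 0 ∨ (cls 2 x).card = 8 ∨ (cls 2 x).card = 12 ∨ (cls 2 x).card = 16 ∨
          (cls 2 x).card = 24)) := by
  have hp := parity_of_mem_leechSet hx
  have hev' : ∀ i, x i % 2 = 0 := fun i => by rw [hp i, hev]
  have hsq := even_sq_cases hev' hn
  by_cases h8 : ∃ i, x i ^ 2 = 64
  · obtain ⟨i, hi⟩ := h8
    exact Or.inl (mem_stdCross_of_sq hn hi)
  · right
    have hsq' : ∀ i, x i ^ 2 = 0 ∨ x i ^ 2 = 4 ∨ x i ^ 2 = 16 ∨ x i ^ 2 = 36 := by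
      intro i
      rcases hsq i with h | h | h | h | h
      · exact Or.inl h
      · exact Or.inr (Or.inl h)
      · exact Or.inr (Or.inr (Or.inl h))
      · exact Or.inr (Or.inr (Or.inr h))
      · exact absurd ⟨i, h⟩ h8
    have hmem : x ∈ evenShape (cls 2 x).card (T6of x).card (Zof x).card := by
      rw [mem_evenShape_iff]
      exact ⟨hx, hsq', rfl, rfl, rfl⟩
    refine ⟨hmem, sqNorm_of_mem_evenShape hmem, ?_⟩
    have hGS : cls 2 x ∈ GS := by
      obtain ⟨m, _, _, hcls⟩ := hx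
      exact hcls 2
    exact supports_card hGS

/-! ### counting a disjoint union -/

theorem ncard_biUnion_finset {ι α : Type*} (s : Finset ι) (f : ι → Set α)
    (hf : ∀ i ∈ s, (f i).Finite)
    (hd : ∀ i ∈ s, ∀ j ∈ s, i ≠ j → Disjoint (f i) (f j)) :
    (⋃ i ∈ s, f i).ncard = ∑ i ∈ s, (f i).ncard := by
  classical
  induction s using Finset.induction_on with
  | empty => simp
  | insert a s ha ih =>
    have hfa := hf a (Finset.mem_insert_self a s)
    have hfs : (⋃ i ∈ s, f i).Finite := Set.Finite.biUnion (Finset.finite_toSet s)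
      (fun i hi => hf i (Finset.mem_insert_of_mem hi))
    have hdis : Disjoint (f a) (⋃ i ∈ s, f i) := by
      rw [Set.disjoint_iUnion₂_right]
      intro i hi
      exact hd a (Finset.mem_insert_self a s) i (Finset.mem_insert_of_mem hi)
        (fun h => ha (h ▸ hi))
    rw [Finset.set_biUnion_insert, Finset.sum_insert ha, Set.ncard_union_eq hdis hfa hfs, ih]
    · exact fun i hi => hf i (Finset.mem_insert_of_mem hi)
    · exact fun i hi j hj hij => hd i (Finset.mem_insert_of_mem hi) j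
        (Finset.mem_insert_of_mem hj) hij


/-- index of a shape: even `(w, t6, t)` or odd `(a, c)` -/
abbrev ShapeIdx := (ℕ × ℕ × ℕ) ⊕ (ℕ × ℕ)

/-- the set of vectors of a shape -/
def shapeSet : ShapeIdx → Set (GolayPt → ℤ)
  | Sum.inl p => evenShape p.1 p.2.1 p.2.2
  | Sum.inr p => oddShape p.1 p.2

theorem params_of_mem_evenShape {w t6 t : ℕ} {x : GolayPt → ℤ} (hx : x ∈ evenShape w t6 t) :
    (cls 2 x).card = w ∧ (T6of x).card = t6 ∧ (Zof x).card = t :=
  ((mem_evenShape_iff w t6 t x).mp hx).2.2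

theorem shapeSet_disjoint (i j : ShapeIdx) (hij : i ≠ j) :
    Disjoint (shapeSet i) (shapeSet j) := by
  rw [Set.disjoint_left]
  intro x hi hj
  apply hij
  rcases i with ⟨w, t6, t⟩ | ⟨a, c⟩ <;> rcases j with ⟨w', t6', t'⟩ | ⟨a', c'⟩
  · have h1 := params_of_mem_evenShape hi
    have h2 := params_of_mem_evenShape hj
    simp only at h1 h2
    obtain ⟨e1, e2, e3⟩ := h1
    obtain ⟨f1, f2, f3⟩ := h2
    rw [← e1, ← e2, ← e3, ← f1, ← f2, ← f3]
  · have h1 := even_of_mem_evenShape hi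
    have h2 := odd_of_mem_oddShape hj
    omega
  · have h1 := odd_of_mem_oddShape hi
    have h2 := even_of_mem_evenShape hj
    omega
  · have h1 := params_of_mem_oddShape hi
    have h2 := params_of_mem_oddShape hj
    simp only at h1 h2
    obtain ⟨e1, e2⟩ := h1
    obtain ⟨f1, f2⟩ := h2
    rw [← e1, ← e2, ← f1, ← f2]

theorem stdCross_disjoint_shapeSet (i : ShapeIdx) : Disjoint stdCross (shapeSet i) := by
  rw [Set.disjoint_left]
  intro x hx hi
  rcases i with ⟨w, t6, t⟩ | ⟨a, c⟩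
  · obtain ⟨k, hk⟩ := sq_of_mem_stdCross hx
    have := ((mem_evenShape_iff w t6 t x).mp hi).2.1 k
    omega
  · have h1 := even_of_mem_stdCross hx
    have h2 := odd_of_mem_oddShape hi
    omega

/-- the shapes of norm 48 -/
def shapes48 : Finset ShapeIdx :=
  {Sum.inl (12, 0, 0), Sum.inl (8, 0, 1), Sum.inr (3, 0), Sum.inr (0, 1)}

/-- the shapes of norm 64 (apart from the standard cross) -/
def shapes64 : Finset ShapeIdx :=
  {Sum.inl (0, 0, 4), Sum.inl (8, 0, 2), Sum.inl (8, 1, 0), Sum.inl (12, 0, 1),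
    Sum.inl (16, 0, 0), Sum.inr (5, 0), Sum.inr (2, 1)}

theorem norm48_cases {x : GolayPt → ℤ} (hx : x ∈ leechSet) (hn : sqNorm x = 48) :
    x ∈ evenShape 12 0 0 ∨ x ∈ evenShape 8 0 1 ∨ x ∈ oddShape 3 0 ∨ x ∈ oddShape 0 1 := by
  rcases Int.emod_two_eq_zero_or_one (x none) with hev | hodd
  · rcases mem_evenShape_of_even hx hev (by omega) with hc | ⟨hm, hs, hw⟩
    · have := sqNorm_of_mem_stdCross hc
      omega
    · have hz : (cls 2 x).card = 0 → (T6of x).card = 0 ∧ (Zof x).card % 2 = 0 := by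
        intro h0
        rw [h0] at hm
        exact evenShape_zero hm
      have hcases : ((cls 2 x).card = 12 ∧ (T6of x).card = 0 ∧ (Zof x).card = 0) ∨
          ((cls 2 x).card = 8 ∧ (T6of x).card = 0 ∧ (Zof x).card = 1) := by omega
      rcases hcases with ⟨e1, e2, e3⟩ | ⟨e1, e2, e3⟩
      · rw [e1, e2, e3] at hm
        exact Or.inl hm
      · rw [e1, e2, e3] at hm
        exact Or.inr (Or.inl hm)
  · obtain ⟨hm, hs⟩ := mem_oddShape_of_odd hx hodd (by omega)
    have hcases : ((T3of x).card = 3 ∧ (T5of x).card = 0) ∨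
        ((T3of x).card = 0 ∧ (T5of x).card = 1) := by omega
    rcases hcases with ⟨e1, e2⟩ | ⟨e1, e2⟩
    · rw [e1, e2] at hm
      exact Or.inr (Or.inr (Or.inl hm))
    · rw [e1, e2] at hm
      exact Or.inr (Or.inr (Or.inr hm))

theorem norm64_cases {x : GolayPt → ℤ} (hx : x ∈ leechSet) (hn : sqNorm x = 64) :
    x ∈ stdCross ∨ x ∈ evenShape 0 0 4 ∨ x ∈ evenShape 8 0 2 ∨ x ∈ evenShape 8 1 0 ∨
      x ∈ evenShape 12 0 1 ∨ x ∈ evenShape 16 0 0 ∨ x ∈ oddShape 5 0 ∨ x ∈ oddShape 2 1 := by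
  rcases Int.emod_two_eq_zero_or_one (x none) with hev | hodd
  · rcases mem_evenShape_of_even hx hev (by omega) with hc | ⟨hm, hs, hw⟩
    · exact Or.inl hc
    · have hz : (cls 2 x).card = 0 → (T6of x).card = 0 ∧ (Zof x).card % 2 = 0 := by
        intro h0
        rw [h0] at hm
        exact evenShape_zero hm
      have hcases : ((cls 2 x).card = 0 ∧ (T6of x).card = 0 ∧ (Zof x).card = 4) ∨
          ((cls 2 x).card = 8 ∧ (T6of x).card = 0 ∧ (Zof x).card = 2) ∨
          ((cls 2 x).card = 8 ∧ (T6of x).card = 1 ∧ (Zof x).card = 0) ∨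
          ((cls 2 x).card = 12 ∧ (T6of x).card = 0 ∧ (Zof x).card = 1) ∨
          ((cls 2 x).card = 16 ∧ (T6of x).card = 0 ∧ (Zof x).card = 0) := by omega
      rcases hcases with ⟨e1, e2, e3⟩ | ⟨e1, e2, e3⟩ | ⟨e1, e2, e3⟩ | ⟨e1, e2, e3⟩ | ⟨e1, e2, e3⟩ <;>
        rw [e1, e2, e3] at hm <;> simp only [hm, true_or, or_true]
  · obtain ⟨hm, hs⟩ := mem_oddShape_of_odd hx hodd (by omega)
    have hcases : ((T3of x).card = 5 ∧ (T5of x).card = 0) ∨
        ((T3of x).card = 2 ∧ (T5of x).card = 1) := by omega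
    rcases hcases with ⟨e1, e2⟩ | ⟨e1, e2⟩ <;>
      rw [e1, e2] at hm <;> simp only [hm, true_or, or_true]


theorem mem_leechSet_of_mem_evenShape {w t6 t : ℕ} {x : GolayPt → ℤ}
    (hx : x ∈ evenShape w t6 t) : x ∈ leechSet :=
  ((mem_evenShape_iff w t6 t x).mp hx).1

theorem norm48_set_eq : {x : GolayPt → ℤ | x ∈ leechLattice ∧ sqNorm x = 48}
    = ⋃ i ∈ shapes48, shapeSet i := by
  ext x
  rw [Set.mem_iUnion₂, Set.mem_ofPred_eq, mem_leechLattice_iff]
  unfold shapes48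
  constructor
  · rintro ⟨hx, hn⟩
    rcases norm48_cases hx hn with h | h | h | h
    · exact ⟨Sum.inl (12, 0, 0), by simp, h⟩
    · exact ⟨Sum.inl (8, 0, 1), by simp, h⟩
    · exact ⟨Sum.inr (3, 0), by simp, h⟩
    · exact ⟨Sum.inr (0, 1), by simp, h⟩
  · rintro ⟨i, hi, hx⟩
    simp only [Finset.mem_insert, Finset.mem_singleton] at hi
    rcases hi with rfl | rfl | rfl | rfl
    · exact ⟨mem_leechSet_of_mem_evenShape hx, by rw [sqNorm_of_mem_evenShape hx]; norm_num⟩
    · exact ⟨mem_leechSet_of_mem_evenShape hx, by rw [sqNorm_of_mem_evenShape hx]; norm_num⟩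
    · exact ⟨mem_leechSet_of_mem_oddShape (by norm_num) hx,
        by rw [sqNorm_of_mem_oddShape hx]; norm_num⟩
    · exact ⟨mem_leechSet_of_mem_oddShape (by norm_num) hx,
        by rw [sqNorm_of_mem_oddShape hx]; norm_num⟩

theorem shapeSet_finite_of_ncard {i : ShapeIdx} (h : (shapeSet i).ncard ≠ 0) :
    (shapeSet i).Finite := Set.finite_of_ncard_ne_zero h

theorem ncard_e_12_0_0 : (evenShape 12 0 0).ncard = 5275648 := by
  rw [evenShape_ncard _ _ _ (by norm_num), GSw_card_twelve]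
  norm_num [Nat.choose]
theorem ncard_e_8_0_1 : (evenShape 8 0 1).ncard = 3108864 := by
  rw [evenShape_ncard _ _ _ (by norm_num), GSw_card_eight]
  norm_num [Nat.choose]
theorem ncard_o_3_0 : (oddShape 3 0).ncard = 8290304 := by
  rw [oddShape_ncard]
  norm_num [Nat.choose]
theorem ncard_o_0_1 : (oddShape 0 1).ncard = 98304 := by
  rw [oddShape_ncard]
  norm_num [Nat.choose]

theorem ncard_e_0_0_4 : (evenShape 0 0 4).ncard = 170016 := by
  rw [evenShape_zero_ncard _ (by norm_num)]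
  norm_num [Nat.choose]
theorem ncard_e_8_0_2 : (evenShape 8 0 2).ncard = 46632960 := by
  rw [evenShape_ncard _ _ _ (by norm_num), GSw_card_eight]
  norm_num [Nat.choose]
theorem ncard_e_8_1_0 : (evenShape 8 1 0).ncard = 777216 := by
  rw [evenShape_ncard _ _ _ (by norm_num), GSw_card_eight]
  norm_num [Nat.choose]
theorem ncard_e_12_0_1 : (evenShape 12 0 1).ncard = 126615552 := by
  rw [evenShape_ncard _ _ _ (by norm_num), GSw_card_twelve]
  norm_num [Nat.choose]
theorem ncard_e_16_0_0 : (evenShape 16 0 0).ncard = 24870912 := by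
  rw [evenShape_ncard _ _ _ (by norm_num), GSw_card_sixteen]
  norm_num [Nat.choose]
theorem ncard_o_5_0 : (oddShape 5 0).ncard = 174096384 := by
  rw [oddShape_ncard]
  norm_num [Nat.choose]
theorem ncard_o_2_1 : (oddShape 2 1).ncard = 24870912 := by
  rw [oddShape_ncard]
  norm_num [Nat.choose]

theorem norm48_ncard : {x : GolayPt → ℤ | x ∈ leechLattice ∧ sqNorm x = 48}.ncard = 16773120 := by
  rw [norm48_set_eq, ncard_biUnion_finset]
  · unfold shapes48
    rw [Finset.sum_insert (by decide), Finset.sum_insert (by decide), Finset.sum_insert (by decide),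
      Finset.sum_singleton]
    show (evenShape 12 0 0).ncard + ((evenShape 8 0 1).ncard + ((oddShape 3 0).ncard +
      (oddShape 0 1).ncard)) = 16773120
    rw [ncard_e_12_0_0, ncard_e_8_0_1, ncard_o_3_0, ncard_o_0_1]
  · intro i hi
    apply Set.finite_of_ncard_ne_zero
    unfold shapes48 at hi
    simp only [Finset.mem_insert, Finset.mem_singleton] at hi
    rcases hi with rfl | rfl | rfl | rfl
    · show (evenShape 12 0 0).ncard ≠ 0
      rw [ncard_e_12_0_0]; norm_num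
    · show (evenShape 8 0 1).ncard ≠ 0
      rw [ncard_e_8_0_1]; norm_num
    · show (oddShape 3 0).ncard ≠ 0
      rw [ncard_o_3_0]; norm_num
    · show (oddShape 0 1).ncard ≠ 0
      rw [ncard_o_0_1]; norm_num
  · intro i _ j _ hij
    exact shapeSet_disjoint i j hij

end Cfsg.Agent.helper27
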