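import Mathlib
import Cfsg.Agent.Lib_helper27_Census

set_option autoImplicit false

namespace Cfsg.Agent.helper27

open Cfsg

theorem norm64_set_eq : {x : GolayPt → ℤ | x ∈ leechLattice ∧ sqNorm x = 64}
    = stdCross ∪ ⋃ i ∈ shapes64, shapeSet i := by
  ext x
  rw [Set.mem_union, Set.mem_iUnion₂, Set.mem_ofPred_eq, mem_leechLattice_iff]
  unfold shapes64
  constructor
  · rintro ⟨hx, hn⟩
    rcases norm64_cases hx hn with h | h | h | h | h | h | h | h
    · exact Or.inl h
    · exact Or.inr ⟨Sum.inl (0, 0, 4), by simp, h⟩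
    · exact Or.inr ⟨Sum.inl (8, 0, 2), by simp, h⟩
    · exact Or.inr ⟨Sum.inl (8, 1, 0), by simp, h⟩
    · exact Or.inr ⟨Sum.inl (12, 0, 1), by simp, h⟩
    · exact Or.inr ⟨Sum.inl (16, 0, 0), by simp, h⟩
    · exact Or.inr ⟨Sum.inr (5, 0), by simp, h⟩
    · exact Or.inr ⟨Sum.inr (2, 1), by simp, h⟩
  · rintro (hx | ⟨i, hi, hx⟩)
    · exact ⟨mem_leechSet_of_mem_stdCross hx, sqNorm_of_mem_stdCross hx⟩
    · simp only [Finset.mem_insert, Finset.mem_singleton] at hi
      rcases hi with rfl | rfl | rfl | rfl | rfl | rfl | rfl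
      · exact ⟨mem_leechSet_of_mem_evenShape hx, by rw [sqNorm_of_mem_evenShape hx]; norm_num⟩
      · exact ⟨mem_leechSet_of_mem_evenShape hx, by rw [sqNorm_of_mem_evenShape hx]; norm_num⟩
      · exact ⟨mem_leechSet_of_mem_evenShape hx, by rw [sqNorm_of_mem_evenShape hx]; norm_num⟩
      · exact ⟨mem_leechSet_of_mem_evenShape hx, by rw [sqNorm_of_mem_evenShape hx]; norm_num⟩
      · exact ⟨mem_leechSet_of_mem_evenShape hx, by rw [sqNorm_of_mem_evenShape hx]; norm_num⟩
      · exact ⟨mem_leechSet_of_mem_oddShape (by norm_num) hx,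
          by rw [sqNorm_of_mem_oddShape hx]; norm_num⟩
      · exact ⟨mem_leechSet_of_mem_oddShape (by norm_num) hx,
          by rw [sqNorm_of_mem_oddShape hx]; norm_num⟩

theorem shapes64_finite : ∀ i ∈ shapes64, (shapeSet i).Finite := by
  intro i hi
  apply Set.finite_of_ncard_ne_zero
  unfold shapes64 at hi
  simp only [Finset.mem_insert, Finset.mem_singleton] at hi
  rcases hi with rfl | rfl | rfl | rfl | rfl | rfl | rfl
  · show (evenShape 0 0 4).ncard ≠ 0
    rw [ncard_e_0_0_4]; norm_num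
  · show (evenShape 8 0 2).ncard ≠ 0
    rw [ncard_e_8_0_2]; norm_num
  · show (evenShape 8 1 0).ncard ≠ 0
    rw [ncard_e_8_1_0]; norm_num
  · show (evenShape 12 0 1).ncard ≠ 0
    rw [ncard_e_12_0_1]; norm_num
  · show (evenShape 16 0 0).ncard ≠ 0
    rw [ncard_e_16_0_0]; norm_num
  · show (oddShape 5 0).ncard ≠ 0
    rw [ncard_o_5_0]; norm_num
  · show (oddShape 2 1).ncard ≠ 0
    rw [ncard_o_2_1]; norm_num

theorem shapes64_ncard : (⋃ i ∈ shapes64, shapeSet i).ncard = 398033952 := by
  rw [ncard_biUnion_finset _ _ shapes64_finite (fun i _ j _ hij => shapeSet_disjoint i j hij)]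
  unfold shapes64
  rw [Finset.sum_insert (by decide), Finset.sum_insert (by decide), Finset.sum_insert (by decide),
    Finset.sum_insert (by decide), Finset.sum_insert (by decide), Finset.sum_insert (by decide),
    Finset.sum_singleton]
  show (evenShape 0 0 4).ncard + ((evenShape 8 0 2).ncard + ((evenShape 8 1 0).ncard +
    ((evenShape 12 0 1).ncard + ((evenShape 16 0 0).ncard + ((oddShape 5 0).ncard +
    (oddShape 2 1).ncard))))) = 398033952
  rw [ncard_e_0_0_4, ncard_e_8_0_2, ncard_e_8_1_0, ncard_e_12_0_1, ncard_e_16_0_0, ncard_o_5_0,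
    ncard_o_2_1]

theorem norm64_ncard : {x : GolayPt → ℤ | x ∈ leechLattice ∧ sqNorm x = 64}.ncard = 398034000 := by
  have hfin : (⋃ i ∈ shapes64, shapeSet i).Finite := by
    have := Set.Finite.biUnion (Finset.finite_toSet shapes64) shapes64_finite
    simpa using this
  have hdis : Disjoint stdCross (⋃ i ∈ shapes64, shapeSet i) := by
    rw [Set.disjoint_iUnion₂_right]
    intro i _
    exact stdCross_disjoint_shapeSet i
  rw [norm64_set_eq, Set.ncard_union_eq hdis stdCross_finite hfin, stdCross_ncard, shapes64_ncard]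


theorem abs_eq_of_sq_eq {a : ℤ} {n m : ℤ} (hn : 0 ≤ n) (hm : n ^ 2 = m) (h : a ^ 2 = m) :
    |a| = n := by
  have h1 : |a| ^ 2 = n ^ 2 := by rw [sq_abs, h, hm]
  have h2 := abs_nonneg a
  nlinarith [sq_nonneg (|a| - n), sq_nonneg (|a| + n)]

theorem sq_eq_of_abs_eq {a n : ℤ} (h : |a| = n) : a ^ 2 = n ^ 2 := by
  rw [← h, sq_abs]

theorem parity_of_abs_eq {a n : ℤ} (h : |a| = n) : a % 2 = n % 2 := by
  rcases abs_choice a with h' | h' <;> rw [h'] at h <;> omega

theorem norm48_set_a : {x : GolayPt → ℤ | x ∈ leechLattice ∧ sqNorm x = 48 ∧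
    ∀ i, x i = 0 ∨ x i = 2 ∨ x i = -2} = evenShape 12 0 0 := by
  ext x
  rw [Set.mem_ofPred_eq, mem_leechLattice_iff]
  constructor
  · rintro ⟨hx, hn, hv⟩
    have hsq : ∀ i, x i ^ 2 = 0 ∨ x i ^ 2 = 4 := by
      intro i
      rcases hv i with h | h | h <;> rw [h] <;> norm_num
    rcases norm48_cases hx hn with h | h | h | h
    · exact h
    · exfalso
      have hp := (params_of_mem_evenShape h).2.2
      obtain ⟨i, hi⟩ := Finset.card_eq_one.mp hp
      have : i ∈ Zof x := by rw [hi]; exact Finset.mem_singleton_self i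
      rw [mem_Zof] at this
      rcases hsq i with h' | h' <;> omega
    · exfalso
      have := odd_of_mem_oddShape h
      rcases hv none with h' | h' | h' <;> omega
    · exfalso
      have := odd_of_mem_oddShape h
      rcases hv none with h' | h' | h' <;> omega
  · intro h
    have hm := (mem_evenShape_iff 12 0 0 x).mp h
    obtain ⟨hx, hsq, _, h6, hz⟩ := hm
    refine ⟨hx, by rw [sqNorm_of_mem_evenShape h]; norm_num, ?_⟩
    intro i
    rw [Finset.card_eq_zero] at h6 hz
    have h6' : ¬ x i ^ 2 = 36 := by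
      rw [← mem_T6of, h6]; exact Finset.notMem_empty i
    have hz' : ¬ x i ^ 2 = 16 := by
      rw [← mem_Zof, hz]; exact Finset.notMem_empty i
    rcases hsq i with h' | h' | h' | h'
    · left; exact pow_eq_zero_iff (by norm_num) |>.mp h'
    · right; exact eq_of_sq_eq_four _ h'
    · exact absurd h' hz'
    · exact absurd h' h6'

theorem norm48_set_b : {x : GolayPt → ℤ | x ∈ leechLattice ∧ sqNorm x = 48 ∧
    ∃ i j k, i ≠ j ∧ j ≠ k ∧ i ≠ k ∧ |x i| = 3 ∧ |x j| = 3 ∧ |x k| = 3} = oddShape 3 0 := by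
  ext x
  rw [Set.mem_ofPred_eq, mem_leechLattice_iff]
  constructor
  · rintro ⟨hx, hn, i, j, k, _, _, _, hi, _, _⟩
    have hpar := parity_of_mem_leechSet hx i
    have hi2 := parity_of_abs_eq hi
    have hi3 := sq_eq_of_abs_eq hi
    rcases norm48_cases hx hn with h | h | h | h
    · exfalso
      have := even_of_mem_evenShape h
      omega
    · exfalso
      have := even_of_mem_evenShape h
      omega
    · exact h
    · exfalso
      have hp := (params_of_mem_oddShape h).1
      rw [Finset.card_eq_zero] at hp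
      have : i ∈ T3of x := by rw [mem_T3of, hi3]; norm_num
      rw [hp] at this
      exact Finset.notMem_empty i this
  · intro h
    refine ⟨mem_leechSet_of_mem_oddShape (by norm_num) h,
      by rw [sqNorm_of_mem_oddShape h]; norm_num, ?_⟩
    have hp := (params_of_mem_oddShape h).1
    obtain ⟨i, j, k, hij, hik, hjk, he⟩ := Finset.card_eq_three.mp hp
    have hi : i ∈ T3of x := by rw [he]; simp
    have hj : j ∈ T3of x := by rw [he]; simp
    have hk : k ∈ T3of x := by rw [he]; simp
    rw [mem_T3of] at hi hj hk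
    exact ⟨i, j, k, hij, hjk, hik, abs_eq_of_sq_eq (by norm_num) (by norm_num) hi,
      abs_eq_of_sq_eq (by norm_num) (by norm_num) hj,
      abs_eq_of_sq_eq (by norm_num) (by norm_num) hk⟩

theorem norm48_set_c : {x : GolayPt → ℤ | x ∈ leechLattice ∧ sqNorm x = 48 ∧
    ∃ i, |x i| = 4} = evenShape 8 0 1 := by
  ext x
  rw [Set.mem_ofPred_eq, mem_leechLattice_iff]
  constructor
  · rintro ⟨hx, hn, i, hi⟩
    have hpar := parity_of_mem_leechSet hx i
    have hi2 := parity_of_abs_eq hi
    have hi3 := sq_eq_of_abs_eq hi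
    rcases norm48_cases hx hn with h | h | h | h
    · exfalso
      have hp := (params_of_mem_evenShape h).2.2
      rw [Finset.card_eq_zero] at hp
      have : i ∈ Zof x := by rw [mem_Zof, hi3]; norm_num
      rw [hp] at this
      exact Finset.notMem_empty i this
    · exact h
    · exfalso
      have := odd_of_mem_oddShape h
      omega
    · exfalso
      have := odd_of_mem_oddShape h
      omega
  · intro h
    refine ⟨mem_leechSet_of_mem_evenShape h,
      by rw [sqNorm_of_mem_evenShape h]; norm_num, ?_⟩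
    have hp := (params_of_mem_evenShape h).2.2
    obtain ⟨i, he⟩ := Finset.card_eq_one.mp hp
    have hi : i ∈ Zof x := by rw [he]; simp
    rw [mem_Zof] at hi
    exact ⟨i, abs_eq_of_sq_eq (by norm_num) (by norm_num) hi⟩

theorem norm48_set_d : {x : GolayPt → ℤ | x ∈ leechLattice ∧ sqNorm x = 48 ∧
    ∃ i, |x i| = 5} = oddShape 0 1 := by
  ext x
  rw [Set.mem_ofPred_eq, mem_leechLattice_iff]
  constructor
  · rintro ⟨hx, hn, i, hi⟩
    have hpar := parity_of_mem_leechSet hx i
    have hi2 := parity_of_abs_eq hi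
    have hi3 := sq_eq_of_abs_eq hi
    rcases norm48_cases hx hn with h | h | h | h
    · exfalso
      have := even_of_mem_evenShape h
      omega
    · exfalso
      have := even_of_mem_evenShape h
      omega
    · exfalso
      have hp := (params_of_mem_oddShape h).2
      rw [Finset.card_eq_zero] at hp
      have : i ∈ T5of x := by rw [mem_T5of, hi3]; norm_num
      rw [hp] at this
      exact Finset.notMem_empty i this
    · exact h
  · intro h
    refine ⟨mem_leechSet_of_mem_oddShape (by norm_num) h,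
      by rw [sqNorm_of_mem_oddShape h]; norm_num, ?_⟩
    have hp := (params_of_mem_oddShape h).2
    obtain ⟨i, he⟩ := Finset.card_eq_one.mp hp
    have hi : i ∈ T5of x := by rw [he]; simp
    rw [mem_T5of] at hi
    exact ⟨i, abs_eq_of_sq_eq (by norm_num) (by norm_num) hi⟩

theorem norm48_shape_counts : {x : GolayPt → ℤ | x ∈ leechLattice ∧ sqNorm x = 48 ∧
      ∀ i, x i = 0 ∨ x i = 2 ∨ x i = -2}.ncard = 5275648 ∧
    {x : GolayPt → ℤ | x ∈ leechLattice ∧ sqNorm x = 48 ∧
      ∃ i j k, i ≠ j ∧ j ≠ k ∧ i ≠ k ∧ |x i| = 3 ∧ |x j| = 3 ∧ |x k| = 3}.ncard = 8290304 ∧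
    {x : GolayPt → ℤ | x ∈ leechLattice ∧ sqNorm x = 48 ∧ ∃ i, |x i| = 4}.ncard = 3108864 ∧
    {x : GolayPt → ℤ | x ∈ leechLattice ∧ sqNorm x = 48 ∧ ∃ i, |x i| = 5}.ncard = 98304 := by
  rw [norm48_set_a, norm48_set_b, norm48_set_c, norm48_set_d]
  exact ⟨ncard_e_12_0_0, ncard_o_3_0, ncard_e_8_0_1, ncard_o_0_1⟩

end Cfsg.Agent.helper27
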