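import Mathlib
import Cfsg.Agent.Lib_helper27_Cross

set_option autoImplicit false

namespace Cfsg.Agent.helper27

open Cfsg
open scoped Pointwise

/-- two distinct points are separated by a generator word or its complement -/
theorem separating_qrWord (i j : GolayPt) (h : i ≠ j) :
    ∃ t : ZMod 23, qrWord t i ≠ qrWord t j := by
  revert i j
  decide

theorem exists_GS_separating (i j : GolayPt) (h : i ≠ j) : ∃ c ∈ GS, i ∈ c ∧ j ∉ c := by
  obtain ⟨t, ht⟩ := separating_qrWord i j h
  rcases zmod2_cases (qrWord t i) with hi | hi <;> rcases zmod2_cases (qrWord t j) with hj | hj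
  · exact absurd (hi.trans hj.symm) ht
  · refine ⟨support₂ (1 + qrWord t), ⟨_, Submodule.add_mem _ ones_mem_golayCode
      (qrWord_mem_golayCode t), rfl⟩, ?_, ?_⟩
    · rw [mem_support₂', Pi.add_apply, Pi.one_apply, hi]; decide
    · rw [mem_support₂', Pi.add_apply, Pi.one_apply, hj]; decide
  · refine ⟨support₂ (qrWord t), ⟨_, qrWord_mem_golayCode t, rfl⟩, ?_, ?_⟩
    · rw [mem_support₂']; exact hi
    · rw [mem_support₂', hj]; decide
  · exact absurd (hi.trans hj.symm) ht



theorem co0_map_neg (z : Equiv.Perm leechLattice) (hz : z ∈ Co0) (v : leechLattice) :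
    z (-v) = -z v := by
  have := negPerm_comm z hz
  exact congrFun (congrArg (fun f : Equiv.Perm leechLattice => (f : leechLattice → leechLattice))
    this) v

theorem sqNorm_e8 (i : GolayPt) : sqNorm (e8 i).1 = 64 := by
  show sqNorm (Pi.single i (8 : ℤ)) = 64
  rw [sqNorm_single]
  rfl

theorem exists_M24_none_to (p : GolayPt) : ∃ π ∈ M24, π none = p := by
  rcases p with _ | x
  · exact ⟨1, one_mem _, rfl⟩
  · refine ⟨gshift ^ x.val * projInv, mul_mem (pow_mem gshift_mem_M24 _) projInv_mem_M24, ?_⟩
    rw [Equiv.Perm.mul_apply]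
    have : projInv none = some 0 := rfl
    rw [this, gshift_pow_some, zero_add]
    simp

/-- an element of `Co0` commuting with the monomial group is `±1` -/
theorem central_eq (z : Equiv.Perm leechLattice) (hz : z ∈ Co0)
    (hcomm : ∀ (σ : Equiv.Perm GolayPt) (hσ : σ ∈ M24) (c : Finset GolayPt) (hc : c ∈ GS),
      z * monoPerm σ hσ c hc = monoPerm σ hσ c hc * z) :
    z = 1 ∨ z = negPerm := by
  classical
  -- step 1: z (e8 i) is supported at i
  have hsupp : ∀ i j, j ≠ i → (z (e8 i)).1 j = 0 := by
    intro i j hji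
    obtain ⟨c, hc, hic, hjc⟩ := exists_GS_separating i j (Ne.symm hji)
    have h1 := hcomm 1 (one_mem _) c hc
    have h2 : z (monoPerm 1 (one_mem _) c hc (e8 i)) = monoPerm 1 (one_mem _) c hc (z (e8 i)) :=
      congrFun (congrArg (fun f : Equiv.Perm leechLattice => (f : leechLattice → leechLattice))
        h1) (e8 i)
    have h3 : monoPerm 1 (one_mem _) c hc (e8 i) = -(e8 i) := by
      apply Subtype.ext
      show signedPerm 1 c (Pi.single i (8 : ℤ)) = -(Pi.single i (8 : ℤ))
      rw [signedPerm_single]
      have : (1 : Equiv.Perm GolayPt) i = i := rfl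
      rw [this, if_pos hic, Pi.single_neg]
    rw [h3, co0_map_neg z hz] at h2
    have h4 := congrFun (congrArg Subtype.val h2) j
    have h5 : (monoPerm 1 (one_mem _) c hc (z (e8 i))).1 j = (z (e8 i)).1 j := by
      show signedPerm 1 c (z (e8 i)).1 j = _
      unfold signedPerm
      rw [if_neg hjc]
      rfl
    rw [h5] at h4
    have h6 : (-(z (e8 i))).1 j = -((z (e8 i)).1 j) := rfl
    rw [h6] at h4
    omega
  have hsingle : ∀ i, (z (e8 i)).1 = Pi.single i ((z (e8 i)).1 i) := by
    intro i
    funext j
    rw [Pi.single_apply]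
    by_cases hj : j = i
    · rw [if_pos hj, hj]
    · rw [if_neg hj, hsupp i j hj]
  have hval : ∀ i, (z (e8 i)).1 i = 8 ∨ (z (e8 i)).1 i = -8 := by
    intro i
    have h1 : sqNorm (z (e8 i)).1 = 64 := by rw [hz.2, sqNorm_e8]
    rw [hsingle i, sqNorm_single] at h1
    have h2 : ((z (e8 i)).1 i - 8) * ((z (e8 i)).1 i + 8) = 0 := by ring_nf; omega
    rcases mul_eq_zero.mp h2 with h | h
    · left; omega
    · right; omega
  -- step 2: formula for z
  have hform : ∀ (x : leechLattice) (j : GolayPt),
      8 * (z x).1 j = x.1 j * (z (e8 j)).1 j := by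
    intro x j
    rw [eight_mul_apply z hz x j, Finset.sum_eq_single j]
    · intro i _ hij
      rw [hsupp i j (Ne.symm hij), mul_zero]
    · intro hcon
      exact absurd (Finset.mem_univ _) hcon
  -- step 3: the sign is constant
  have hconst : ∀ p, (z (e8 p)).1 p = (z (e8 none)).1 none := by
    intro p
    obtain ⟨π, hπ, hπp⟩ := exists_M24_none_to p
    have h1 := hcomm π hπ ∅ empty_mem_GS
    have h2 : z (monoPerm π hπ ∅ empty_mem_GS (e8 none))
        = monoPerm π hπ ∅ empty_mem_GS (z (e8 none)) :=
      congrFun (congrArg (fun f : Equiv.Perm leechLattice => (f : leechLattice → leechLattice))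
        h1) (e8 none)
    have h3 : monoPerm π hπ ∅ empty_mem_GS (e8 none) = e8 p := by
      apply Subtype.ext
      show signedPerm π ∅ (Pi.single none (8 : ℤ)) = Pi.single p (8 : ℤ)
      rw [signedPerm_single, hπp, if_neg (Finset.notMem_empty _)]
    rw [h3] at h2
    have h4 := congrFun (congrArg Subtype.val h2) p
    have h5 : (monoPerm π hπ ∅ empty_mem_GS (z (e8 none))).1 p = (z (e8 none)).1 none := by
      show signedPerm π ∅ (z (e8 none)).1 p = _
      unfold signedPerm
      rw [if_neg (Finset.notMem_empty _), ← hπp, Equiv.symm_apply_apply]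
    rw [h5] at h4
    exact h4
  rcases hval none with h8 | h8
  · left
    apply Equiv.ext
    intro x
    apply Subtype.ext
    funext j
    have := hform x j
    rw [hconst j, h8] at this
    show (z x).1 j = x.1 j
    omega
  · right
    apply Equiv.ext
    intro x
    apply Subtype.ext
    funext j
    have := hform x j
    rw [hconst j, h8] at this
    show (z x).1 j = -(x.1 j)
    omega

theorem card_center_Co0 : Nat.card (Subgroup.center Co0) = 2 := by
  have hn : (⟨negPerm, negPerm_mem_Co0⟩ : Co0) ∈ Subgroup.center Co0 := by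
    rw [Subgroup.mem_center_iff]
    intro g
    apply Subtype.ext
    exact negPerm_comm g.1 g.2
  rw [Nat.card_eq_two_iff]
  refine ⟨1, ⟨⟨negPerm, negPerm_mem_Co0⟩, hn⟩, ?_, ?_⟩
  · intro h
    have h1 : (1 : Co0) = ⟨negPerm, negPerm_mem_Co0⟩ := congrArg Subtype.val h
    exact negPerm_ne_one (congrArg Subtype.val h1).symm
  · ext ⟨⟨z, hz⟩, hzc⟩
    simp only [Set.mem_insert_iff, Set.mem_singleton_iff, Set.mem_univ, iff_true]
    have hcomm : ∀ (σ : Equiv.Perm GolayPt) (hσ : σ ∈ M24) (c : Finset GolayPt) (hc : c ∈ GS),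
        z * monoPerm σ hσ c hc = monoPerm σ hσ c hc * z := by
      intro σ hσ c hc
      rw [Subgroup.mem_center_iff] at hzc
      have := hzc ⟨monoPerm σ hσ c hc, monoPerm_mem_Co0 σ hσ c hc⟩
      exact (congrArg Subtype.val this).symm
    rcases central_eq z hz hcomm with h | h
    · left
      apply Subtype.ext
      apply Subtype.ext
      exact h
    · right
      apply Subtype.ext
      apply Subtype.ext
      exact h

end Cfsg.Agent.helper27
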