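import Mathlib
import Cfsg.Agent.Lib_helper27_Census2

set_option autoImplicit false

namespace Cfsg.Agent.helper27

open Cfsg

/-- doubling -/
def twoHom : (GolayPt → ℤ) →+ (GolayPt → ℤ) := nsmulAddMonoidHom 2

theorem twoHom_apply (x : GolayPt → ℤ) : twoHom x = 2 • x := rfl

theorem twoHom_injective : Function.Injective twoHom := by
  intro x y h
  rw [twoHom_apply, twoHom_apply] at h
  funext i
  have := congrFun h i
  simp only [Pi.smul_apply, two_nsmul] at this
  omega

/-- reduction modulo 2 -/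
def red2 : (GolayPt → ℤ) →+ (GolayPt → ZMod 2) :=
  AddMonoidHom.compLeft (Int.castAddHom (ZMod 2)) GolayPt

theorem red2_apply (x : GolayPt → ℤ) (i : GolayPt) : red2 x i = ((x i : ℤ) : ZMod 2) := rfl

theorem red2_surjective : Function.Surjective red2 := by
  intro c
  refine ⟨fun i => ((c i).val : ℤ), ?_⟩
  funext i
  rw [red2_apply]
  simp

theorem twoHom_range : twoHom.range = red2.ker := by
  ext x
  rw [AddMonoidHom.mem_range, AddMonoidHom.mem_ker]
  constructor
  · rintro ⟨z, rfl⟩
    funext i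
    rw [red2_apply, twoHom_apply]
    simp only [Pi.smul_apply, two_nsmul, Pi.zero_apply]
    rw [ZMod.intCast_zmod_eq_zero_iff_dvd]
    exact ⟨z i, by push_cast; ring⟩
  · intro h
    refine ⟨fun i => x i / 2, ?_⟩
    funext i
    have hi := congrFun h i
    rw [red2_apply, Pi.zero_apply, ZMod.intCast_zmod_eq_zero_iff_dvd] at hi
    rw [twoHom_apply]
    simp only [Pi.smul_apply, two_nsmul]
    have : ((2 : ℕ) : ℤ) = 2 := rfl
    omega

theorem twoHom_range_index : twoHom.range.index = 2 ^ 24 := by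
  rw [twoHom_range, index_ker_of_surjective red2 red2_surjective, Nat.card_eq_fintype_card,
    Fintype.card_fun, card_golayPt, ZMod.card]

/-- twice the lattice -/
def twoLeech : AddSubgroup (GolayPt → ℤ) := leechLattice.map twoHom

theorem mem_twoLeech_iff (x : GolayPt → ℤ) : x ∈ twoLeech ↔ ∃ z ∈ leechLattice, x = 2 • z := by
  unfold twoLeech
  rw [AddSubgroup.mem_map]
  constructor
  · rintro ⟨z, hz, rfl⟩
    exact ⟨z, hz, rfl⟩
  · rintro ⟨z, hz, rfl⟩
    exact ⟨z, hz, rfl⟩

theorem twoLeech_le : twoLeech ≤ leechLattice := by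
  intro x hx
  rw [mem_twoLeech_iff] at hx
  obtain ⟨z, hz, rfl⟩ := hx
  rw [two_smul]
  exact leechLattice.add_mem hz hz

theorem twoLeech_index : twoLeech.index = 2 ^ 36 * 2 ^ 24 := by
  unfold twoLeech
  rw [AddSubgroup.index_map, (AddMonoidHom.ker_eq_bot_iff twoHom).mpr twoHom_injective, sup_bot_eq,
    leechLattice_index, twoHom_range_index]

theorem twoLeech_relIndex : twoLeech.relIndex leechLattice = 2 ^ 24 := by
  have h := AddSubgroup.relIndex_mul_index twoLeech_le
  rw [twoLeech_index, leechLattice_index] at h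
  have h36 : 0 < 2 ^ 36 := by norm_num
  rw [mul_comm] at h
  exact Nat.eq_of_mul_eq_mul_left h36 h

/-- the lattice modulo twice the lattice -/
abbrev LeechMod2 := leechLattice ⧸ twoLeech.addSubgroupOf leechLattice

theorem card_leechMod2 : Nat.card LeechMod2 = 2 ^ 24 := by
  have h := twoLeech_relIndex
  unfold AddSubgroup.relIndex AddSubgroup.index at h
  exact h

theorem leechMod2_eq_iff (x y : leechLattice) :
    (QuotientAddGroup.mk x : LeechMod2) = QuotientAddGroup.mk y ↔
      ∃ z ∈ leechLattice, (x : GolayPt → ℤ) - y = 2 • z := by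
  rw [QuotientAddGroup.eq, AddSubgroup.mem_addSubgroupOf, mem_twoLeech_iff]
  constructor
  · rintro ⟨z, hz, he⟩
    refine ⟨-z, leechLattice.neg_mem hz, ?_⟩
    have he' : -(x : GolayPt → ℤ) + y = 2 • z := he
    rw [smul_neg, ← he']
    abel
  · rintro ⟨z, hz, he⟩
    refine ⟨-z, leechLattice.neg_mem hz, ?_⟩
    show -(x : GolayPt → ℤ) + y = 2 • -z
    rw [smul_neg, ← he]
    abel


theorem dotInt_self (x : GolayPt → ℤ) : dotInt x x = sqNorm x := by
  unfold dotInt sqNorm
  exact Finset.sum_congr rfl (fun i _ => (pow_two (x i)).symm)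

/-- short vectors congruent modulo `2Λ`, with orthogonality -/
theorem short_vectors_mod_two_orth (v w : GolayPt → ℤ) (hv : v ∈ leechLattice)
    (hw : w ∈ leechLattice) (hvn : sqNorm v ≤ 64) (hwn : sqNorm w ≤ 64)
    (hc : ∃ z ∈ leechLattice, v - w = 2 • z) :
    w = v ∨ w = -v ∨ (sqNorm v = 64 ∧ sqNorm w = 64 ∧ dotInt v w = 0) := by
  by_cases h1 : w = v
  · exact Or.inl h1
  by_cases h2 : w = -v
  · exact Or.inr (Or.inl h2)
  refine Or.inr (Or.inr ?_)
  obtain ⟨z, hz, hvz⟩ := hc
  have hz0 : z ≠ 0 := by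
    rintro rfl
    apply h1
    have : v - w = 0 := by rw [hvz]; simp
    exact (sub_eq_zero.mp this).symm
  have hz' : z + w ∈ leechLattice := leechLattice.add_mem hz hw
  have hvz' : v + w = 2 • (z + w) := by
    have : v = 2 • z + w := by rw [← hvz]; abel
    rw [this]
    simp only [smul_add, two_smul]
    abel
  have hz0' : z + w ≠ 0 := by
    intro h
    apply h2
    have : v + w = 0 := by rw [hvz', h]; simp
    exact (neg_eq_of_add_eq_zero_right this).symm
  have n1 := min_sqNorm_lattice hz hz0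
  have n2 := min_sqNorm_lattice hz' hz0'
  have e1 : sqNorm (v - w) = 4 * sqNorm z := by rw [hvz, sqNorm_two_smul]
  have e2 : sqNorm (v + w) = 4 * sqNorm (z + w) := by rw [hvz', sqNorm_two_smul]
  have e3 := sqNorm_parallelogram v w
  have e4 := sqNorm_sub v w
  refine ⟨by omega, by omega, by omega⟩

/-- rational version of an integer vector -/
def toQ (x : GolayPt → ℤ) : GolayPt → ℚ := fun i => (x i : ℚ)

theorem dot_toQ (x y : GolayPt → ℤ) : toQ x ⬝ᵥ toQ y = (dotInt x y : ℚ) := by
  unfold dotProduct dotInt toQ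
  push_cast
  rfl

theorem orth_family_card_le {ι : Type*} [Fintype ι] (v : ι → GolayPt → ℤ) (h0 : ∀ i, v i ≠ 0)
    (horth : ∀ i j, i ≠ j → dotInt (v i) (v j) = 0) : Fintype.card ι ≤ 24 := by
  have hli : LinearIndependent ℚ (fun i => toQ (v i)) := by
    apply LinearMap.BilinForm.linearIndependent_of_iIsOrtho (B := dotProductBilin ℚ ℚ)
    · rw [LinearMap.BilinForm.iIsOrtho_def]
      intro i j hij
      show toQ (v i) ⬝ᵥ toQ (v j) = 0
      rw [dot_toQ, horth i j hij]
      simp
    · intro i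
      show toQ (v i) ⬝ᵥ toQ (v i) ≠ 0
      rw [dot_toQ, dotInt_self]
      intro h
      have : sqNorm (v i) = 0 := by exact_mod_cast h
      exact h0 i ((sqNorm_eq_zero_iff _).mp this)
  have := hli.fintype_card_le_finrank
  rw [Module.finrank_fintype_fun_eq_card, card_golayPt] at this
  exact this

theorem card_le_of_orth (T : Finset (GolayPt → ℤ)) (h0 : ∀ x ∈ T, x ≠ 0)
    (h : ∀ x ∈ T, ∀ y ∈ T, y = x ∨ y = -x ∨ dotInt x y = 0) : T.card ≤ 48 := by
  classical
  let f : (GolayPt → ℤ) → Finset (GolayPt → ℤ) := fun y => {y, -y}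
  have hf : ∀ x y, f x = f y → x = y ∨ x = -y := by
    intro x y hxy
    have : x ∈ f y := by rw [← hxy]; exact Finset.mem_insert_self _ _
    simpa [f] using this
  have h1 : T.card ≤ 2 * (T.image f).card := by
    apply Finset.card_le_mul_card_image
    intro a ha
    obtain ⟨y, _, rfl⟩ := Finset.mem_image.mp ha
    have : T.filter (fun x => f x = f y) ⊆ {y, -y} := by
      intro x hx
      rw [Finset.mem_filter] at hx
      have := hf x y hx.2
      simpa using this
    exact (Finset.card_le_card this).trans Finset.card_le_two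
  have hR : ∀ a : (T.image f : Finset _), ∃ y ∈ T, f y = a.1 := fun a => Finset.mem_image.mp a.2
  choose g hgT hga using hR
  have h2 : Fintype.card (T.image f : Finset _) ≤ 24 := by
    apply orth_family_card_le (fun a => g a)
    · intro a
      exact h0 _ (hgT a)
    · intro a b hab
      rcases h (g a) (hgT a) (g b) (hgT b) with h' | h' | h'
      · exfalso
        apply hab
        apply Subtype.ext
        rw [← hga a, ← hga b, h']
      · exfalso
        apply hab
        apply Subtype.ext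
        rw [← hga a, ← hga b, h']
        show ({g a, -g a} : Finset _) = {-g a, - -g a}
        rw [neg_neg, Finset.pair_comm]
      · exact h'
  rw [Fintype.card_coe] at h2
  omega


/-- the class of a vector modulo twice the lattice (zero outside the lattice) -/
noncomputable def cl2 (x : GolayPt → ℤ) : LeechMod2 := by
  classical
  exact if h : x ∈ leechLattice then QuotientAddGroup.mk ⟨x, h⟩ else 0

theorem cl2_eq_iff {x y : GolayPt → ℤ} (hx : x ∈ leechLattice) (hy : y ∈ leechLattice) :
    cl2 x = cl2 y ↔ ∃ z ∈ leechLattice, x - y = 2 • z := by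
  unfold cl2
  rw [dif_pos hx, dif_pos hy, leechMod2_eq_iff]

/-- lattice vectors of a given norm, as a finset -/
noncomputable def normFin (n : ℤ) : Finset (GolayPt → ℤ) := by
  classical
  exact if h : {x : GolayPt → ℤ | x ∈ leechLattice ∧ sqNorm x = n}.Finite then h.toFinset else ∅

theorem normFin_card {n : ℤ} {k : ℕ} (hk : k ≠ 0)
    (h : {x : GolayPt → ℤ | x ∈ leechLattice ∧ sqNorm x = n}.ncard = k) :
    (normFin n).card = k := by
  have hfin : {x : GolayPt → ℤ | x ∈ leechLattice ∧ sqNorm x = n}.Finite :=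
    Set.finite_of_ncard_ne_zero (by rw [h]; exact hk)
  unfold normFin
  rw [dif_pos hfin, ← h, Set.ncard_eq_toFinset_card _ hfin]

theorem mem_normFin {n : ℤ} {k : ℕ} (hk : k ≠ 0)
    (h : {x : GolayPt → ℤ | x ∈ leechLattice ∧ sqNorm x = n}.ncard = k) (x : GolayPt → ℤ) :
    x ∈ normFin n ↔ x ∈ leechLattice ∧ sqNorm x = n := by
  have hfin : {x : GolayPt → ℤ | x ∈ leechLattice ∧ sqNorm x = n}.Finite :=
    Set.finite_of_ncard_ne_zero (by rw [h]; exact hk)
  unfold normFin
  rw [dif_pos hfin, Set.Finite.mem_toFinset, Set.mem_ofPred_eq]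

theorem card_normFin_32 : (normFin 32).card = 196560 := normFin_card (by norm_num) min_vectors_ncard
theorem card_normFin_48 : (normFin 48).card = 16773120 := normFin_card (by norm_num) norm48_ncard
theorem card_normFin_64 : (normFin 64).card = 398034000 := normFin_card (by norm_num) norm64_ncard

theorem mem_normFin_32 (x : GolayPt → ℤ) : x ∈ normFin 32 ↔ x ∈ leechLattice ∧ sqNorm x = 32 :=
  mem_normFin (by norm_num) min_vectors_ncard x
theorem mem_normFin_48 (x : GolayPt → ℤ) : x ∈ normFin 48 ↔ x ∈ leechLattice ∧ sqNorm x = 48 :=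
  mem_normFin (by norm_num) norm48_ncard x
theorem mem_normFin_64 (x : GolayPt → ℤ) : x ∈ normFin 64 ↔ x ∈ leechLattice ∧ sqNorm x = 64 :=
  mem_normFin (by norm_num) norm64_ncard x

/-- the weight of a short vector -/
noncomputable def wt (x : GolayPt → ℤ) : ℕ := by
  classical
  exact if x = 0 then 48 else if sqNorm x = 64 then 1 else 24

theorem wt_zero : wt 0 = 48 := by
  unfold wt
  simp

theorem wt_of_norm64 {x : GolayPt → ℤ} (h : sqNorm x = 64) : wt x = 1 := by
  unfold wt
  have : x ≠ 0 := by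
    rintro rfl
    rw [(sqNorm_eq_zero_iff 0).mpr rfl] at h
    norm_num at h
  rw [if_neg this, if_pos h]

theorem wt_of_other {x : GolayPt → ℤ} (h0 : x ≠ 0) (h : sqNorm x ≠ 64) : wt x = 24 := by
  unfold wt
  rw [if_neg h0, if_neg h]

/-- the short vectors -/
noncomputable def shortFin : Finset (GolayPt → ℤ) := by
  classical
  exact {0} ∪ (normFin 32 ∪ (normFin 48 ∪ normFin 64))

theorem norm_cases_of_short {x : GolayPt → ℤ} (hx : x ∈ leechLattice) (hn : sqNorm x ≤ 64) :
    x = 0 ∨ sqNorm x = 32 ∨ sqNorm x = 48 ∨ sqNorm x = 64 := by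
  by_cases h0 : x = 0
  · exact Or.inl h0
  · right
    have h1 := min_sqNorm_lattice hx h0
    have h2 := sixteen_dvd_sqNorm_lattice hx
    omega

theorem mem_shortFin (x : GolayPt → ℤ) : x ∈ shortFin ↔ x ∈ leechLattice ∧ sqNorm x ≤ 64 := by
  classical
  unfold shortFin
  rw [Finset.mem_union, Finset.mem_union, Finset.mem_union, Finset.mem_singleton, mem_normFin_32,
    mem_normFin_48, mem_normFin_64]
  constructor
  · rintro (rfl | ⟨h, hn⟩ | ⟨h, hn⟩ | ⟨h, hn⟩)
    · refine ⟨leechLattice.zero_mem, ?_⟩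
      rw [(sqNorm_eq_zero_iff 0).mpr rfl]
      norm_num
    · exact ⟨h, by omega⟩
    · exact ⟨h, by omega⟩
    · exact ⟨h, by omega⟩
  · rintro ⟨hx, hn⟩
    rcases norm_cases_of_short hx hn with h | h | h | h
    · exact Or.inl h
    · exact Or.inr (Or.inl ⟨hx, h⟩)
    · exact Or.inr (Or.inr (Or.inl ⟨hx, h⟩))
    · exact Or.inr (Or.inr (Or.inr ⟨hx, h⟩))

theorem sum_wt_shortFin : ∑ x ∈ shortFin, wt x = 48 * 2 ^ 24 := by
  classical
  unfold shortFin
  have d3 : Disjoint (normFin 48) (normFin 64) := by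
    rw [Finset.disjoint_left]
    intro x h1 h2
    rw [mem_normFin_48] at h1
    rw [mem_normFin_64] at h2
    omega
  have d2 : Disjoint (normFin 32) (normFin 48 ∪ normFin 64) := by
    rw [Finset.disjoint_left]
    intro x h1 h2
    rw [mem_normFin_32] at h1
    rw [Finset.mem_union, mem_normFin_48, mem_normFin_64] at h2
    omega
  have d1 : Disjoint ({0} : Finset (GolayPt → ℤ)) (normFin 32 ∪ (normFin 48 ∪ normFin 64)) := by
    rw [Finset.disjoint_left]
    intro x h1 h2
    rw [Finset.mem_singleton] at h1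
    rw [Finset.mem_union, Finset.mem_union, mem_normFin_32, mem_normFin_48, mem_normFin_64] at h2
    have : sqNorm x = 0 := (sqNorm_eq_zero_iff x).mpr h1
    omega
  rw [Finset.sum_union d1, Finset.sum_union d2, Finset.sum_union d3, Finset.sum_singleton, wt_zero]
  have s32 : ∑ x ∈ normFin 32, wt x = 196560 * 24 := by
    rw [← card_normFin_32, ← smul_eq_mul, ← Finset.sum_const]
    apply Finset.sum_congr rfl
    intro x hx
    rw [mem_normFin_32] at hx
    apply wt_of_other
    · rintro rfl
      have : sqNorm (0 : GolayPt → ℤ) = 0 := (sqNorm_eq_zero_iff 0).mpr rfl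
      omega
    · omega
  have s48 : ∑ x ∈ normFin 48, wt x = 16773120 * 24 := by
    rw [← card_normFin_48, ← smul_eq_mul, ← Finset.sum_const]
    apply Finset.sum_congr rfl
    intro x hx
    rw [mem_normFin_48] at hx
    apply wt_of_other
    · rintro rfl
      have : sqNorm (0 : GolayPt → ℤ) = 0 := (sqNorm_eq_zero_iff 0).mpr rfl
      omega
    · omega
  have s64 : ∑ x ∈ normFin 64, wt x = 398034000 * 1 := by
    rw [← card_normFin_64, ← smul_eq_mul, ← Finset.sum_const]
    apply Finset.sum_congr rfl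
    intro x hx
    rw [mem_normFin_64] at hx
    exact wt_of_norm64 hx.2
  rw [s32, s48, s64]
  norm_num


/-- the fibre of the reduction on short vectors -/
noncomputable def fib (q : LeechMod2) : Finset (GolayPt → ℤ) := by
  classical
  exact shortFin.filter (fun y => cl2 y = q)

theorem mem_fib (q : LeechMod2) (y : GolayPt → ℤ) :
    y ∈ fib q ↔ (y ∈ leechLattice ∧ sqNorm y ≤ 64) ∧ cl2 y = q := by
  classical
  unfold fib
  rw [Finset.mem_filter, mem_shortFin]

theorem fib_sum_le (q : LeechMod2) : ∑ y ∈ fib q, wt y ≤ 48 := by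
  classical
  by_cases hF : fib q = ∅
  · rw [hF]; simp
  obtain ⟨x0, hx0⟩ := Finset.nonempty_iff_ne_empty.mpr hF
  obtain ⟨⟨hx0L, hx0n⟩, hx0q⟩ := (mem_fib q x0).mp hx0
  have hcong : ∀ y ∈ fib q, ∀ y' ∈ fib q, ∃ z ∈ leechLattice, y - y' = 2 • z := by
    intro y hy y' hy'
    obtain ⟨⟨hL, _⟩, hq⟩ := (mem_fib q y).mp hy
    obtain ⟨⟨hL', _⟩, hq'⟩ := (mem_fib q y').mp hy'
    exact (cl2_eq_iff hL hL').mp (hq.trans hq'.symm)
  by_cases h64 : sqNorm x0 = 64
  · have hall : ∀ y ∈ fib q, sqNorm y = 64 := by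
      intro y hy
      obtain ⟨⟨hL, hn⟩, _⟩ := (mem_fib q y).mp hy
      rcases short_vectors_mod_two x0 y hx0L hL hx0n hn (hcong x0 hx0 y hy) with h | h | h
      · rw [h]; exact h64
      · rw [h, sqNorm_neg]; exact h64
      · exact h.2
    have hsum : ∑ y ∈ fib q, wt y = (fib q).card := by
      rw [Finset.card_eq_sum_ones]
      exact Finset.sum_congr rfl (fun y hy => wt_of_norm64 (hall y hy))
    rw [hsum]
    apply card_le_of_orth
    · intro y hy
      rintro rfl
      have := hall 0 hy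
      rw [(sqNorm_eq_zero_iff 0).mpr rfl] at this
      norm_num at this
    · intro y hy y' hy'
      obtain ⟨⟨hL, hn⟩, _⟩ := (mem_fib q y).mp hy
      obtain ⟨⟨hL', hn'⟩, _⟩ := (mem_fib q y').mp hy'
      rcases short_vectors_mod_two_orth y y' hL hL' hn hn' (hcong y hy y' hy') with h | h | h
      · exact Or.inl h
      · exact Or.inr (Or.inl h)
      · exact Or.inr (Or.inr h.2.2)
  · have hsub : fib q ⊆ {x0, -x0} := by
      intro y hy
      obtain ⟨⟨hL, hn⟩, _⟩ := (mem_fib q y).mp hy
      rcases short_vectors_mod_two x0 y hx0L hL hx0n hn (hcong x0 hx0 y hy) with h | h | h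
      · rw [h]; simp
      · rw [h]; simp
      · exact absurd h.1 h64
    refine (Finset.sum_le_sum_of_subset hsub).trans ?_
    by_cases h0 : x0 = 0
    · rw [h0, neg_zero, Finset.pair_eq_singleton, Finset.sum_singleton, wt_zero]
    · have hne : x0 ≠ -x0 := by
        intro h
        apply h0
        funext i
        have := congrFun h i
        simp only [Pi.neg_apply, Pi.zero_apply] at this ⊢
        omega
      rw [Finset.sum_pair hne, wt_of_other h0 h64,
        wt_of_other (neg_ne_zero.mpr h0) (by rw [sqNorm_neg]; exact h64)]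

theorem fib_sum_eq (q : LeechMod2) : ∑ y ∈ fib q, wt y = 48 := by
  classical
  have : Finite LeechMod2 := Nat.finite_of_card_ne_zero (by rw [card_leechMod2]; norm_num)
  let _ : Fintype LeechMod2 := Fintype.ofFinite _
  have h1 : ∑ q : LeechMod2, ∑ y ∈ fib q, wt y = ∑ y ∈ shortFin, wt y := by
    unfold fib
    exact Finset.sum_fiberwise _ _ _
  have h2 : ∑ _q : LeechMod2, (48 : ℕ) = 48 * 2 ^ 24 := by
    rw [Finset.sum_const, Finset.card_univ, ← Nat.card_eq_fintype_card, card_leechMod2,
      smul_eq_mul, mul_comm]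
  have h3 := (Finset.sum_eq_sum_iff_of_le (fun q _ => fib_sum_le q)).mp
    (by rw [h1, h2, sum_wt_shortFin])
  exact h3 q (Finset.mem_univ q)

/-- every class modulo twice the lattice contains a short vector -/
theorem exists_short_rep (x : GolayPt → ℤ) (hx : x ∈ leechLattice) :
    ∃ y ∈ leechLattice, sqNorm y ≤ 64 ∧ ∃ z ∈ leechLattice, x - y = 2 • z := by
  have h := fib_sum_eq (cl2 x)
  have hne : (fib (cl2 x)).Nonempty := by
    by_contra hc
    rw [Finset.not_nonempty_iff_eq_empty] at hc
    rw [hc] at h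
    simp at h
  obtain ⟨y, hy⟩ := hne
  obtain ⟨⟨hL, hn⟩, hq⟩ := (mem_fib _ y).mp hy
  exact ⟨y, hL, hn, (cl2_eq_iff hx hL).mp hq.symm⟩

/-- the cross through a vector of norm 64 has 48 members -/
theorem cross_ncard (x : GolayPt → ℤ) (hx : x ∈ leechLattice) (hxn : sqNorm x = 64) :
    (cross x).ncard = 48 := by
  have hall : ∀ y ∈ fib (cl2 x), sqNorm y = 64 := by
    intro y hy
    obtain ⟨⟨hL, hn⟩, hq⟩ := (mem_fib _ y).mp hy
    rcases short_vectors_mod_two x y hx hL (by omega) hn ((cl2_eq_iff hx hL).mp hq.symm)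
      with h | h | h
    · rw [h]; exact hxn
    · rw [h, sqNorm_neg]; exact hxn
    · exact h.2
  have hc : cross x = ↑(fib (cl2 x)) := by
    ext y
    rw [Finset.mem_coe, mem_fib]
    unfold cross
    rw [Set.mem_ofPred_eq]
    constructor
    · rintro ⟨hL, hn, hz⟩
      exact ⟨⟨hL, by omega⟩, ((cl2_eq_iff hx hL).mpr hz).symm⟩
    · rintro ⟨⟨hL, hn⟩, hq⟩
      have hy : y ∈ fib (cl2 x) := (mem_fib _ y).mpr ⟨⟨hL, hn⟩, hq⟩
      exact ⟨hL, by rw [hall y hy, hxn], (cl2_eq_iff hx hL).mp hq.symm⟩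
  rw [hc, Set.ncard_coe_finset, Finset.card_eq_sum_ones, ← fib_sum_eq (cl2 x)]
  exact Finset.sum_congr rfl (fun y hy => (wt_of_norm64 (hall y hy)).symm)

end Cfsg.Agent.helper27
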