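import Mathlib
import Cfsg.Agent.Lib_helper27_Mod2

set_option autoImplicit false

namespace Cfsg.Agent.helper27

open Cfsg

/-- the twelve basis rows of the code -/
def rbList : List ℕ := [13062145, 4845570, 13938692, 7221256, 10170384, 11952160, 15515712,
  2019456, 4038912, 8077824, 11654144, 14919680]

theorem GS_induction_rows (T : Finset GolayPt → Prop) (h0 : T ∅)
    (hr : ∀ m ∈ rbList, T (support₂ (toWord m)))
    (hs : ∀ a b, T a → T b → T (symmDiff a b)) : ∀ b ∈ GS, T b := by
  have hbit : ∀ (bit : Bool) (m : ℕ), m ∈ rbList →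
      T (support₂ (toWord (bit.toNat * m))) := by
    intro bit m hm
    cases bit
    · simp only [Bool.toNat_false, zero_mul, toWord_zero, support₂_zero]
      exact h0
    · simp only [Bool.toNat_true, one_mul]
      exact hr m hm
  intro b hb
  obtain ⟨k, _, rfl⟩ := (mem_supports_golayCode_iff b).mp hb
  unfold cw
  rw [encN_eq]
  simp only [support₂_toWord_xor]
  refine hs _ _ (hs _ _ (hs _ _ (hs _ _ (hs _ _ (hs _ _ (hs _ _ (hs _ _ (hs _ _ (hs _ _ (hs _ _
    ?_ ?_) ?_) ?_) ?_) ?_) ?_) ?_) ?_) ?_) ?_) ?_ <;> exact hbit _ _ (by decide)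

/-- the vector with 2 at the bits of `m` -/
def twoBits (m : ℕ) : GolayPt → ℤ := fun p => if m.testBit (idx p) then 2 else 0

theorem twoOn_support_toWord (m : ℕ) : twoOn (support₂ (toWord m)) = twoBits m := by
  funext p
  unfold twoOn twoBits
  have h : p ∈ support₂ (toWord m) ↔ m.testBit (idx p) = true := by
    rw [mem_support₂, toWord_ne_zero_iff]
  by_cases hb : m.testBit (idx p) = true
  · rw [if_pos (h.mpr hb), if_pos hb]
  · rw [if_neg (fun hh => hb (h.mp hh)), if_neg hb]

theorem leech_le_of_gens (M : AddSubgroup (GolayPt → ℤ)) (h3 : vec3 ∈ M)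
    (hrow : ∀ m ∈ rbList, twoBits m ∈ M)
    (hd : ∀ p : GolayPt, (Pi.single p 4 - Pi.single none 4 : GolayPt → ℤ) ∈ M)
    (h8 : (Pi.single none 8 : GolayPt → ℤ) ∈ M) : leechLattice ≤ M := by
  -- vectors divisible by four
  have hmod4 : ∀ x : GolayPt → ℤ, (∀ i, x i % 4 = 0) → (∑ i, x i) % 8 = 0 → x ∈ M := by
    intro x h4 h8'
    have hsum : ∑ p, x p = 4 * ∑ p, x p / 4 := by
      rw [Finset.mul_sum]
      refine Finset.sum_congr rfl (fun p _ => ?_)
      have := h4 p
      omega
    have hdec : x = ∑ p, (x p / 4) • (Pi.single p 4 - Pi.single none 4 : GolayPt → ℤ)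
        + ((∑ p, x p / 4) / 2) • (Pi.single none 8 : GolayPt → ℤ) := by
      funext q
      simp only [Pi.add_apply, Finset.sum_apply, Pi.smul_apply, Pi.sub_apply, Pi.single_apply,
        smul_eq_mul, mul_sub, Finset.sum_sub_distrib, mul_ite, mul_zero, Finset.sum_ite_eq,
        Finset.mem_univ, if_true]
      have hq := h4 q
      by_cases hqn : q = none
      · simp only [hqn, if_true]
        rw [← Finset.sum_mul]
        subst hqn
        omega
      · simp only [hqn, if_false, Finset.sum_const_zero]
        omega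
    rw [hdec]
    refine M.add_mem (M.sum_mem (fun p _ => ?_)) ?_
    · exact M.zsmul_mem (hd p) _
    · exact M.zsmul_mem h8 _
  -- even representatives of the code words
  have heven : ∀ b ∈ GS, ∃ g ∈ M, (∀ i, g i % 2 = 0) ∧ cls 2 g = b ∧ (∑ i, g i) % 8 = 0 := by
    refine GS_induction_rows (fun b => ∃ g ∈ M, (∀ i, g i % 2 = 0) ∧ cls 2 g = b ∧
      (∑ i, g i) % 8 = 0) ?_ ?_ ?_
    · refine ⟨0, M.zero_mem, fun i => rfl, ?_, by simp⟩
      ext i
      rw [mem_cls]
      simp
    · intro m hm
      refine ⟨twoOn (support₂ (toWord m)), ?_, fun i => ?_, cls_two_twoOn _, ?_⟩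
      · rw [twoOn_support_toWord]
        exact hrow m hm
      · unfold twoOn
        split_ifs <;> rfl
      · rw [sum_twoOn, card_support_toWord]
        have : popc m = 8 := by
          simp only [rbList, List.mem_cons, List.not_mem_nil, or_false] at hm
          rcases hm with rfl | rfl | rfl | rfl | rfl | rfl | rfl | rfl | rfl | rfl | rfl | rfl <;>
            decide
        rw [this]
        rfl
    · rintro a b ⟨g, hg, hge, rfl, hgs⟩ ⟨g', hg', hge', rfl, hgs'⟩
      refine ⟨g + g', M.add_mem hg hg', fun i => ?_, ?_, ?_⟩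
      · have := hge i
        have := hge' i
        simp only [Pi.add_apply]
        omega
      · ext i
        rw [Finset.mem_symmDiff, mem_cls, mem_cls, mem_cls]
        have := hge i
        have := hge' i
        simp only [Pi.add_apply]
        omega
      · simp only [Pi.add_apply, Finset.sum_add_distrib]
        omega
  -- even lattice vectors
  have hev : ∀ x : GolayPt → ℤ, x ∈ leechSet → (∀ i, x i % 2 = 0) → x ∈ M := by
    intro x hx he
    obtain ⟨m, h1, h2, h3⟩ := hx
    obtain ⟨g, hg, hge, hgc, hgs⟩ := heven _ (h3 2)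
    have hd' : x - g ∈ M := by
      apply hmod4
      · intro i
        have hi : i ∈ cls 2 g ↔ i ∈ cls 2 x := by rw [hgc]; rfl
        rw [mem_cls, mem_cls] at hi
        have := he i
        have := hge i
        simp only [Pi.sub_apply]
        omega
      · simp only [Pi.sub_apply, Finset.sum_sub_distrib]
        have := h1 none
        have := he none
        unfold Int.ModEq at *
        omega
    have : x = (x - g) + g := by abel
    rw [this]
    exact M.add_mem hd' hg
  intro x hx
  rw [mem_leechLattice_iff] at hx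
  have hp := parity_of_mem_leechSet hx
  have hcase : x none % 2 = 0 ∨ x none % 2 = 1 := by omega
  rcases hcase with hc | hc
  · exact hev x hx (fun i => by rw [hp i, hc])
  · have hd' : x - vec3 ∈ leechSet := by
      have := add_mem_leechSet hx (neg_mem_leechSet vec3_mem_leechSet)
      rwa [← sub_eq_add_neg] at this
    have he : ∀ i, (x - vec3) i % 2 = 0 := by
      intro i
      have := hp i
      simp only [Pi.sub_apply, vec3]
      split_ifs <;> omega
    have : x = (x - vec3) + vec3 := by abel
    rw [this]
    exact M.add_mem (hev _ hd' he) h3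

end Cfsg.Agent.helper27
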