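import Mathlib
import Cfsg.Agent.Lib_helper27_Gens

set_option autoImplicit false

namespace Cfsg.Agent.helper27

open Cfsg

/-- the point with a given index -/
def ptOf (n : ℕ) : GolayPt := if n = 23 then none else some (n : ZMod 23)

/-- the tetrads of the standard sextet, by indices -/
def tetTbl : List (List ℕ) :=
  [[23, 0, 1, 2], [3, 5, 14, 17], [4, 13, 16, 22], [6, 7, 19, 21], [8, 11, 12, 18],
    [9, 10, 15, 20]]

/-- position of each point: tetrad and place -/
def posTbl : List (ℕ × ℕ) :=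
  [(0, 1), (0, 2), (0, 3), (1, 0), (2, 0), (1, 1), (3, 0), (3, 1), (4, 0), (5, 0), (5, 1), (4, 1),
    (4, 2), (2, 1), (1, 2), (5, 2), (2, 2), (1, 3), (4, 3), (3, 2), (5, 3), (3, 3), (2, 3), (0, 0)]

def blkFun (a : Fin 6 × Fin 4) : GolayPt := ptOf ((tetTbl.getD a.1.val []).getD a.2.val 0)

def blkInv (p : GolayPt) : Fin 6 × Fin 4 :=
  (Fin.ofNat 6 (posTbl.getD (idx p) (0, 0)).1, Fin.ofNat 4 (posTbl.getD (idx p) (0, 0)).2)

/-- the points as six blocks of four -/
def blk : Fin 6 × Fin 4 ≃ GolayPt where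
  toFun := blkFun
  invFun := blkInv
  left_inv := by decide
  right_inv := by decide

theorem sum_blk (f : GolayPt → ℤ) : ∑ p, f p = ∑ t : Fin 6, ∑ k : Fin 4, f (blk (t, k)) := by
  rw [← Equiv.sum_comp blk f, Fintype.sum_prod_type]

/-- sign attached to a tetrad: minus on the first one -/
def sg (t : Fin 6) : ℤ := if t = 0 then -1 else 1

theorem sg_sq (t : Fin 6) : sg t * sg t = 1 := by
  unfold sg
  split_ifs <;> norm_num

/-- the sum over the tetrad `t` -/
def tetSum (x : GolayPt → ℤ) (t : Fin 6) : ℤ := ∑ k : Fin 4, x (blk (t, k))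

/-- twice Conway's extra automorphism -/
def Dmap (x : GolayPt → ℤ) : GolayPt → ℤ := fun p =>
  sg (blk.symm p).1 * (2 * x p - tetSum x (blk.symm p).1)

theorem Dmap_blk (x : GolayPt → ℤ) (t : Fin 6) (k : Fin 4) :
    Dmap x (blk (t, k)) = sg t * (2 * x (blk (t, k)) - tetSum x t) := by
  unfold Dmap
  rw [Equiv.symm_apply_apply]

theorem tetSum_add (x y : GolayPt → ℤ) (t : Fin 6) :
    tetSum (x + y) t = tetSum x t + tetSum y t := by
  unfold tetSum
  simp only [Pi.add_apply, Finset.sum_add_distrib]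

theorem Dmap_add (x y : GolayPt → ℤ) : Dmap (x + y) = Dmap x + Dmap y := by
  funext p
  unfold Dmap
  simp only [Pi.add_apply, tetSum_add]
  ring

/-- `Dmap` as an additive map -/
def DHom : (GolayPt → ℤ) →+ (GolayPt → ℤ) := AddMonoidHom.mk' Dmap Dmap_add

theorem DHom_apply (x : GolayPt → ℤ) : DHom x = Dmap x := rfl

theorem sqNorm_Dmap (x : GolayPt → ℤ) : sqNorm (Dmap x) = 4 * sqNorm x := by
  unfold sqNorm
  rw [sum_blk, sum_blk, Finset.mul_sum]
  apply Finset.sum_congr rfl
  intro t _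
  simp only [Dmap_blk]
  unfold tetSum
  simp only [Fin.sum_univ_four]
  have h := sg_sq t
  generalize sg t = s at h
  generalize x (blk (t, 0)) = a
  generalize x (blk (t, 1)) = b
  generalize x (blk (t, 2)) = c
  generalize x (blk (t, 3)) = d
  have : (s * (2 * a - (a + b + c + d))) ^ 2 + (s * (2 * b - (a + b + c + d))) ^ 2
      + (s * (2 * c - (a + b + c + d))) ^ 2 + (s * (2 * d - (a + b + c + d))) ^ 2
      = (s * s) * (4 * (a ^ 2 + b ^ 2 + c ^ 2 + d ^ 2)) := by ring
  rw [this, h]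
  ring

theorem Dmap_Dmap (x : GolayPt → ℤ) : Dmap (Dmap x) = 4 • x := by
  funext p
  obtain ⟨⟨t, k⟩, rfl⟩ := blk.surjective p
  rw [Dmap_blk]
  unfold tetSum
  simp only [Dmap_blk]
  unfold tetSum
  simp only [Fin.sum_univ_four, Pi.smul_apply, smul_eq_mul]
  have h := sg_sq t
  generalize sg t = s at h
  have key : ∀ a b c d e : ℤ, a = e ∨ b = e ∨ c = e ∨ d = e →
      s * (2 * (s * (2 * e - (a + b + c + d))) - (s * (2 * a - (a + b + c + d))
        + s * (2 * b - (a + b + c + d)) + s * (2 * c - (a + b + c + d))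
        + s * (2 * d - (a + b + c + d)))) = (s * s) * (4 * e) := by
    intro a b c d e _
    ring
  rw [key _ _ _ _ _ (by fin_cases k <;> simp), h]
  simp

end Cfsg.Agent.helper27
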