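import Mathlib
import Cfsg.Agent.Lib_helper27_Xi

set_option autoImplicit false

namespace Cfsg.Agent.helper27

open Cfsg

/-- certificate: `Dmap g` is twice a lattice vector -/
def genChk (g : GolayPt → ℤ) (m : ℤ) (k : ℕ) : Prop :=
  (∀ p, Dmap g p % 2 = 0) ∧ (∀ p, (Dmap g p / 2) % 2 = m % 2) ∧
    ((∑ p, Dmap g p / 2) % 8 = (4 * m) % 8) ∧
    (∀ p, ((Dmap g p / 2) % 4 = (m + 2) % 4) ↔ (encN k).testBit (idx p) = true)

instance (g : GolayPt → ℤ) (m : ℤ) (k : ℕ) : Decidable (genChk g m k) := by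
  unfold genChk
  infer_instance

theorem Dmap_mem_twoLeech_of_chk {g : GolayPt → ℤ} {m : ℤ} {k : ℕ} (hk : k < 4096)
    (h : genChk g m k) : Dmap g ∈ twoLeech := by
  obtain ⟨h1, h2, h3, h4⟩ := h
  rw [mem_twoLeech_iff]
  refine ⟨fun p => Dmap g p / 2, ?_, ?_⟩
  · rw [mem_leechLattice_iff, mem_leechSet_iff]
    refine ⟨m, h2, h3, ?_⟩
    have : cls (m + 2) (fun p => Dmap g p / 2) = cw k := by
      ext p
      rw [mem_cls]
      unfold cw
      rw [mem_support₂, toWord_ne_zero_iff]
      exact h4 p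
    rw [this]
    exact (mem_supports_golayCode_iff _).mpr ⟨k, hk, rfl⟩
  · funext p
    have := h1 p
    simp only [Pi.smul_apply, two_nsmul]
    omega

theorem chk_vec3 : genChk vec3 1 4095 := by decide

/-- certificates for the basis rows -/
def rowCert : List (ℕ × ℤ × ℕ) :=
  [(13062145, 0, 2366), (4845570, 1, 4074), (13938692, 0, 3859), (7221256, 0, 2544),
    (10170384, 1, 4088), (11952160, 1, 4080), (15515712, 1, 3960), (2019456, 0, 3944),
    (4038912, 0, 3792), (8077824, 0, 1272), (11654144, 1, 3576), (14919680, 1, 2024)]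

theorem chk_rows : ∀ c ∈ rowCert, genChk (twoBits c.1) c.2.1 c.2.2 ∧ c.2.2 < 4096 := by decide

/-- certificates for the differences -/
def diffCert : List ℕ :=
  [0, 0, 0, 47, 23, 47, 199, 199, 2311, 1543, 1543, 2311, 2311, 23, 47, 1543, 23, 47, 2311, 199,
    1543, 199, 23, 0]

theorem chk_diffs : ∀ p : GolayPt,
    genChk (Pi.single p 4 - Pi.single none 4) 0 (diffCert.getD (idx p) 0) ∧
      diffCert.getD (idx p) 0 < 4096 := by decide

theorem chk_eight : genChk (Pi.single none 8) 0 0 := by decide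

theorem Dmap_mem_twoLeech {x : GolayPt → ℤ} (hx : x ∈ leechLattice) : Dmap x ∈ twoLeech := by
  have hle : leechLattice ≤ twoLeech.comap DHom := by
    apply leech_le_of_gens
    · exact Dmap_mem_twoLeech_of_chk (by norm_num) chk_vec3
    · intro m hm
      have : ∃ c ∈ rowCert, c.1 = m := by
        simp only [rbList, List.mem_cons, List.not_mem_nil, or_false] at hm
        rcases hm with rfl | rfl | rfl | rfl | rfl | rfl | rfl | rfl | rfl | rfl | rfl | rfl <;>
          decide
      obtain ⟨c, hc, rfl⟩ := this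
      obtain ⟨h1, h2⟩ := chk_rows c hc
      exact Dmap_mem_twoLeech_of_chk h2 h1
    · intro p
      obtain ⟨h1, h2⟩ := chk_diffs p
      exact Dmap_mem_twoLeech_of_chk h2 h1
    · exact Dmap_mem_twoLeech_of_chk (by norm_num) chk_eight
  exact hle hx

/-- Conway's extra automorphism on vectors -/
def xiFun (x : GolayPt → ℤ) : GolayPt → ℤ := fun p => Dmap x p / 2

theorem two_smul_xiFun {x : GolayPt → ℤ} (hx : x ∈ leechLattice) : 2 • xiFun x = Dmap x := by
  obtain ⟨z, _, hz⟩ := (mem_twoLeech_iff _).mp (Dmap_mem_twoLeech hx)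
  funext p
  have := congrFun hz p
  simp only [Pi.smul_apply, two_nsmul] at this ⊢
  unfold xiFun
  omega

theorem xiFun_mem {x : GolayPt → ℤ} (hx : x ∈ leechLattice) : xiFun x ∈ leechLattice := by
  obtain ⟨z, hzL, hz⟩ := (mem_twoLeech_iff _).mp (Dmap_mem_twoLeech hx)
  have : xiFun x = z := by
    funext p
    have := congrFun hz p
    simp only [Pi.smul_apply, two_nsmul] at this
    unfold xiFun
    omega
  rw [this]
  exact hzL

theorem two_smul_injective {x y : GolayPt → ℤ} (h : 2 • x = 2 • y) : x = y := by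
  funext p
  have := congrFun h p
  simp only [Pi.smul_apply, two_nsmul] at this
  omega

theorem xiFun_add {x y : GolayPt → ℤ} (hx : x ∈ leechLattice) (hy : y ∈ leechLattice) :
    xiFun (x + y) = xiFun x + xiFun y := by
  apply two_smul_injective
  rw [two_smul_xiFun (leechLattice.add_mem hx hy), smul_add, two_smul_xiFun hx, two_smul_xiFun hy,
    Dmap_add]

theorem sqNorm_xiFun {x : GolayPt → ℤ} (hx : x ∈ leechLattice) : sqNorm (xiFun x) = sqNorm x := by
  have h1 := sqNorm_two_smul (xiFun x)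
  rw [two_smul_xiFun hx, sqNorm_Dmap] at h1
  omega

theorem Dmap_two_smul (z : GolayPt → ℤ) : Dmap (2 • z) = 2 • Dmap z := by
  rw [two_smul, Dmap_add, two_smul]

theorem xiFun_xiFun {x : GolayPt → ℤ} (hx : x ∈ leechLattice) : xiFun (xiFun x) = x := by
  apply two_smul_injective
  apply two_smul_injective
  rw [two_smul_xiFun (xiFun_mem hx), ← Dmap_two_smul, two_smul_xiFun hx, Dmap_Dmap]
  funext p
  simp only [Pi.smul_apply, smul_eq_mul]
  ring

/-- Conway's extra automorphism of the lattice -/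
def xiPerm : Equiv.Perm leechLattice where
  toFun v := ⟨xiFun v.1, xiFun_mem v.2⟩
  invFun v := ⟨xiFun v.1, xiFun_mem v.2⟩
  left_inv v := Subtype.ext (xiFun_xiFun v.2)
  right_inv v := Subtype.ext (xiFun_xiFun v.2)

theorem xiPerm_apply (v : leechLattice) : (xiPerm v : GolayPt → ℤ) = xiFun v.1 := rfl

theorem xiPerm_mem_Co0 : xiPerm ∈ Co0 := by
  refine ⟨fun v w => ?_, fun v => ?_⟩
  · apply Subtype.ext
    exact xiFun_add v.2 w.2
  · exact sqNorm_xiFun v.2

end Cfsg.Agent.helper27
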