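import Mathlib
import Cfsg.Agent.Lib_helper2_M24b

set_option autoImplicit false
set_option linter.constructorNameAsVariable false

namespace Cfsg.Agent.helper2.Golay

open Cfsg Cfsg.Agent.helper27
open scoped Pointwise

theorem m24_k_transitive {k : ℕ} (hk : k ≤ 5) : MulAction.IsMultiplyPretransitive M24 GolayPt k :=
  @MulAction.isMultiplyPretransitive_of_le M24 GolayPt _ _ k 5 m24_five_transitive hk
    (by rw [Nat.card_eq_fintype_card, card_golayPt]; norm_num) _

theorem m24_transitive : MulAction.IsPretransitive M24 GolayPt :=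
  MulAction.is_one_pretransitive_iff.mp (m24_k_transitive (by norm_num))

theorem card_stab_point (p : GolayPt) : Nat.card (MulAction.stabilizer M24 p) = 10200960 := by
  have h1 : (MulAction.stabilizer M24 p).index = Nat.card GolayPt :=
    @MulAction.index_stabilizer_of_transitive M24 _ _ _ p m24_transitive
  have h2 := Subgroup.index_mul_card (MulAction.stabilizer M24 p)
  rw [h1, card_M24, Nat.card_eq_fintype_card, card_golayPt] at h2
  omega

theorem card_stab_two (p q : GolayPt) (hpq : p ≠ q) :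
    Nat.card ↥(MulAction.stabilizer M24 p ⊓ MulAction.stabilizer M24 q) = 443520 := by
  have heq : MulAction.stabilizer M24 p ⊓ MulAction.stabilizer M24 q
      = MulAction.stabilizer M24 (Function.Embedding.embFinTwo hpq) := by
    ext g
    rw [Subgroup.mem_inf, MulAction.mem_stabilizer_iff, MulAction.mem_stabilizer_iff,
      MulAction.mem_stabilizer_iff]
    constructor
    · rintro ⟨h1, h2⟩
      apply Function.Embedding.ext
      intro i
      fin_cases i
      · exact h1
      · exact h2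
    · intro h
      exact ⟨DFunLike.congr_fun h 0, DFunLike.congr_fun h 1⟩
  rw [heq]
  have h1 : (MulAction.stabilizer M24 (Function.Embedding.embFinTwo hpq)).index
      = Nat.card (Fin 2 ↪ GolayPt) :=
    @MulAction.index_stabilizer_of_transitive M24 _ _ _ _ (m24_k_transitive (by norm_num))
  have h2 := Subgroup.index_mul_card (MulAction.stabilizer M24 (Function.Embedding.embFinTwo hpq))
  rw [h1, card_M24, Nat.card_eq_fintype_card, Fintype.card_embedding_eq, card_golayPt,
    Fintype.card_fin] at h2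
  have h3 : Nat.descFactorial 24 2 = 552 := rfl
  rw [h3] at h2
  omega

/-! ### Dodecads -/

/-- The base dodecad. -/
def d0m : ℕ := 0xaf101f

theorem d0m_cw : cw (d0m % 4096) = d0m ∧ wt (cw (d0m % 4096)) = 12 := by decide +kernel

theorem d0_mem : pts d0m ∈ dodecads := by
  rw [← d0m_cw.1]
  exact pts_mem_dodecads (Nat.mod_lt _ (by norm_num)) d0m_cw.2

theorem dods_all : ∀ m < 4096, wt (cw m) = 12 →
    (List.range 5).all (fun j => (cw m).testBit (bs j)) = true →
    (List.range 48).any (fun k => pull (tb (hsD k).2) d0m == cw m) = true :=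
  forall_lt_4096 (by decide +kernel)

theorem dods_stab : ∀ k < 48,
    (∀ i < 24, (pull (tb (hsD k).2) d0m).testBit i = d0m.testBit i) → k = 0 := by
  decide +kernel

theorem hsD_zero : ∀ p : GolayPt, pt (tb (hsD 0).1 (idx p)) = p := by decide +kernel

theorem hperm_zero : hperm 0 = 1 := by
  apply Equiv.ext
  intro p
  unfold hperm
  rw [gperm_apply (hs_tables (by norm_num))]
  exact hsD_zero p

theorem exists_hperm_dodecad {d : Finset GolayPt} (hd : d ∈ dodecads)
    (hF : ∀ j < 5, pt (bs j) ∈ d) : ∃ k < 48, hperm k • pts d0m = d := by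
  obtain ⟨m, hm, hw, rfl⟩ := exists_of_mem_dodecads hd
  have h1 : (List.range 5).all (fun j => (cw m).testBit (bs j)) = true := by
    rw [List.all_eq_true]
    intro j hj
    rw [List.mem_range] at hj
    have := mem_pts.mp (hF j hj)
    rwa [idx_pt _ (bs_lt j hj)] at this
  have h2 := dods_all m hm hw h1
  rw [List.any_eq_true] at h2
  obtain ⟨k, hk, hkm⟩ := h2
  rw [List.mem_range] at hk
  rw [beq_iff_eq] at hkm
  exact ⟨k, hk, by rw [hperm_smul_pts hk, hkm]⟩

/-- Any dodecad with five chosen points can be moved to the base dodecad with the base points. -/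
theorem dodecad_to_base {d : Finset GolayPt} (hd : d ∈ dodecads) (x : Fin 5 ↪ GolayPt)
    (hx : ∀ i, x i ∈ d) :
    ∃ g ∈ M24, (∀ i : Fin 5, g (x i) = pt (bs i.val)) ∧ g • d = pts d0m := by
  obtain ⟨g1, hg1, hg1x⟩ := exists_map_to_base x 5 le_rfl
  have hd1 : g1 • d ∈ dodecads := smul_mem_dodecads' hg1 hd
  have hF : ∀ j < 5, pt (bs j) ∈ g1 • d := by
    intro j hj
    rw [← hg1x ⟨j, hj⟩ hj]
    exact Finset.smul_mem_smul_finset (hx _)
  obtain ⟨k, hk, hkd⟩ := exists_hperm_dodecad hd1 hF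
  refine ⟨(hperm k)⁻¹ * g1, Subgroup.mul_mem _ (Subgroup.inv_mem _ (hperm_mem hk)) hg1, ?_, ?_⟩
  · intro i
    rw [Equiv.Perm.mul_apply, hg1x i i.2, Equiv.Perm.inv_eq_iff_eq]
    exact (hperm_fix hk i.val i.2).symm
  · rw [mul_smul, ← hkd, inv_smul_smul]

theorem exists_emb_of_le_card {s : Finset GolayPt} {k : ℕ} (hk : k ≤ s.card) :
    ∃ x : Fin k ↪ GolayPt, ∀ i, x i ∈ s := by
  let e : s ≃ Fin s.card := s.equivFin
  exact ⟨(Fin.castLEEmb hk).trans (e.symm.toEmbedding.trans (Function.Embedding.subtype _)),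
    fun i => (e.symm _).2⟩

theorem exists_emb_through {s : Finset GolayPt} (hs : 5 ≤ s.card) {p : GolayPt} (hp : p ∈ s)
    (i0 : Fin 5) : ∃ x : Fin 5 ↪ GolayPt, (∀ i, x i ∈ s) ∧ x i0 = p := by
  obtain ⟨T, hpT, hTs, hTc⟩ := Finset.exists_subsuperset_card_eq
    (Finset.singleton_subset_iff.mpr hp) (by rw [Finset.card_singleton]; norm_num) hs
  let e : T ≃ Fin 5 := T.equivFinOfCardEq hTc
  let j0 : Fin 5 := e ⟨p, hpT (Finset.mem_singleton_self p)⟩
  refine ⟨(Equiv.swap i0 j0).toEmbedding.trans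
    (e.symm.toEmbedding.trans (Function.Embedding.subtype _)), fun i => hTs (e.symm _).2, ?_⟩
  show ((e.symm (Equiv.swap i0 j0 i0) : T) : GolayPt) = p
  rw [Equiv.swap_apply_left]
  show ((e.symm (e ⟨p, _⟩) : T) : GolayPt) = p
  rw [Equiv.symm_apply_apply]

theorem card_of_mem_dodecads {d : Finset GolayPt} (hd : d ∈ dodecads) : d.card = 12 := hd.2

/-- `M24` is transitive on dodecads. -/
theorem dodecads_transitive {d d' : Finset GolayPt} (hd : d ∈ dodecads) (hd' : d' ∈ dodecads) :
    ∃ g ∈ M24, g • d = d' := by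
  obtain ⟨x, hx⟩ := exists_emb_of_le_card (s := d) (k := 5)
    (by rw [card_of_mem_dodecads hd]; norm_num)
  obtain ⟨y, hy⟩ := exists_emb_of_le_card (s := d') (k := 5)
    (by rw [card_of_mem_dodecads hd']; norm_num)
  obtain ⟨g, hg, -, hgd⟩ := dodecad_to_base hd x hx
  obtain ⟨g', hg', -, hgd'⟩ := dodecad_to_base hd' y hy
  refine ⟨g'⁻¹ * g, Subgroup.mul_mem _ (Subgroup.inv_mem _ hg') hg, ?_⟩
  rw [mul_smul, hgd, ← hgd', inv_smul_smul]

theorem stab_d0_trivial {t : Equiv.Perm GolayPt} (ht : t ∈ M24)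
    (hfix : ∀ j < 5, t (pt (bs j)) = pt (bs j)) (hd : t • pts d0m = pts d0m) : t = 1 := by
  obtain ⟨k, hk, rfl⟩ := H_classify ht hfix
  rw [hperm_smul_pts hk] at hd
  have := dods_stab k hk (testBit_eq_of_pts_eq hd)
  rw [this, hperm_zero]

/-- An element of `M24` stabilising a dodecad and fixing five of its points is trivial. -/
theorem dodecad_sharp {d : Finset GolayPt} (hd : d ∈ dodecads) (x : Fin 5 ↪ GolayPt)
    (hx : ∀ i, x i ∈ d) {k : Equiv.Perm GolayPt} (hk : k ∈ M24) (hkd : k • d = d)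
    (hkx : ∀ i, k (x i) = x i) : k = 1 := by
  obtain ⟨g, hg, hgx, hgd⟩ := dodecad_to_base hd x hx
  have h1 : g * k * g⁻¹ = 1 := by
    apply stab_d0_trivial (Subgroup.mul_mem _ (Subgroup.mul_mem _ hg hk) (Subgroup.inv_mem _ hg))
    · intro j hj
      have h2 : g⁻¹ (pt (bs j)) = x ⟨j, hj⟩ := by
        rw [Equiv.Perm.inv_eq_iff_eq]
        exact (hgx ⟨j, hj⟩).symm
      rw [Equiv.Perm.mul_apply, Equiv.Perm.mul_apply, h2, hkx, hgx]
    · rw [mul_smul, mul_smul, ← hgd, inv_smul_smul, hkd]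
  have h2 : k = g⁻¹ * (g * k * g⁻¹) * g := by group
  rw [h2, h1]
  group

/-- Moving a dodecad with five points to another dodecad with five points. -/
theorem dodecad_five_transitive {d d' : Finset GolayPt} (hd : d ∈ dodecads)
    (hd' : d' ∈ dodecads) (x y : Fin 5 ↪ GolayPt) (hx : ∀ i, x i ∈ d) (hy : ∀ i, y i ∈ d') :
    ∃ g ∈ M24, g • d = d' ∧ ∀ i, g (x i) = y i := by
  obtain ⟨g, hg, hgx, hgd⟩ := dodecad_to_base hd x hx
  obtain ⟨g', hg', hgy, hgd'⟩ := dodecad_to_base hd' y hy
  refine ⟨g'⁻¹ * g, Subgroup.mul_mem _ (Subgroup.inv_mem _ hg') hg, ?_, ?_⟩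
  · rw [mul_smul, hgd, ← hgd', inv_smul_smul]
  · intro i
    rw [Equiv.Perm.mul_apply, hgx, Equiv.Perm.inv_eq_iff_eq, hgy]

theorem orbit_dodecad {d : Finset GolayPt} (hd : d ∈ dodecads) :
    MulAction.orbit M24 d = dodecads := by
  ext d'
  constructor
  · rintro ⟨g, rfl⟩
    exact smul_mem_dodecads' g.2 hd
  · intro hd'
    obtain ⟨g, hg, hgd⟩ := dodecads_transitive hd hd'
    exact ⟨⟨g, hg⟩, hgd⟩

theorem ncard_dodecads : (dodecads : Set (Finset GolayPt)).ncard = 2576 := by
  show (wordsOfWeight (golayCode : Set (GolayPt → ZMod 2)) 12).ncard = 2576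
  rw [ncard_wordsOfWeight, count12]

theorem card_stab_dodecad {d : Finset GolayPt} (hd : d ∈ dodecads) :
    Nat.card (MulAction.stabilizer M24 d) = 95040 := by
  have h1 := MulAction.index_stabilizer M24 d
  rw [orbit_dodecad hd, ncard_dodecads] at h1
  have h2 := Subgroup.index_mul_card (MulAction.stabilizer M24 d)
  rw [h1, card_M24] at h2
  omega

end Cfsg.Agent.helper2.Golay
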