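import Mathlib
import Cfsg.Agent.Lib_helper2_M24c

set_option autoImplicit false
set_option linter.constructorNameAsVariable false

namespace Cfsg.Agent.helper2.Golay

open Cfsg Cfsg.Agent.helper27
open scoped Pointwise

/-! ### Flags (dodecad, point) -/

theorem stab_pair_eq (d : Finset GolayPt) (p : GolayPt) :
    MulAction.stabilizer M24 d ⊓ MulAction.stabilizer M24 p
      = MulAction.stabilizer M24 (d, p) := by
  ext g
  rw [Subgroup.mem_inf, MulAction.mem_stabilizer_iff, MulAction.mem_stabilizer_iff,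
    MulAction.mem_stabilizer_iff, Prod.smul_mk, Prod.mk.injEq]

/-- The flags: a dodecad and a point on it. -/
def flagSet : Set (Finset GolayPt × GolayPt) := {x | x.1 ∈ dodecads ∧ x.2 ∈ x.1}

theorem orbit_flag {d : Finset GolayPt} (hd : d ∈ dodecads) {p : GolayPt} (hp : p ∈ d) :
    MulAction.orbit M24 (d, p) = flagSet := by
  ext ⟨d', p'⟩
  rw [MulAction.mem_orbit_iff]
  constructor
  · rintro ⟨g, hg⟩
    rw [Prod.smul_mk, Prod.mk.injEq] at hg
    obtain ⟨rfl, rfl⟩ := hg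
    exact ⟨smul_mem_dodecads' g.2 hd, Finset.smul_mem_smul_finset hp⟩
  · rintro ⟨hd', hp'⟩
    change d' ∈ dodecads at hd'
    change p' ∈ d' at hp'
    obtain ⟨x, hx, hx0⟩ := exists_emb_through (s := d)
      (by rw [card_of_mem_dodecads hd]; norm_num) hp 0
    obtain ⟨y, hy, hy0⟩ := exists_emb_through (s := d')
      (by rw [card_of_mem_dodecads hd']; norm_num) hp' 0
    obtain ⟨g, hg, hgd, hgx⟩ := dodecad_five_transitive hd hd' x y hx hy
    refine ⟨⟨g, hg⟩, ?_⟩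
    rw [Prod.smul_mk, Prod.mk.injEq]
    refine ⟨hgd, ?_⟩
    show g p = p'
    rw [← hx0, hgx, hy0]

theorem ncard_flagSet : flagSet.ncard = 30912 := by
  have h : flagSet = ↑(((weightFinset 12).sigma (fun d' => d')).map
      (Equiv.sigmaEquivProd (Finset GolayPt) GolayPt).toEmbedding) := by
    ext ⟨d', p'⟩
    rw [Finset.mem_coe, Finset.mem_map_equiv, Finset.mem_sigma]
    show (d' ∈ wordsOfWeight (golayCode : Set (GolayPt → ZMod 2)) 12 ∧ p' ∈ d') ↔ _
    rw [wordsOfWeight_eq, Finset.mem_coe]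
    rfl
  rw [h, Set.ncard_coe_finset, Finset.card_map, Finset.card_sigma,
    Finset.sum_congr rfl (fun d' hd' => card_of_mem_weightFinset hd'), Finset.sum_const,
    card_weightFinset, count12]
  rfl

theorem card_stab_flag {d : Finset GolayPt} (hd : d ∈ dodecads) {p : GolayPt} (hp : p ∈ d) :
    Nat.card ↥(MulAction.stabilizer M24 d ⊓ MulAction.stabilizer M24 p) = 7920 := by
  rw [stab_pair_eq]
  have h1 := MulAction.index_stabilizer M24 (d, p)
  rw [orbit_flag hd hp, ncard_flagSet] at h1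
  have h2 := Subgroup.index_mul_card (MulAction.stabilizer M24 (d, p))
  rw [h1, card_M24] at h2
  omega

/-! ### `M24` as the automorphism group of the octads -/

theorem eq_of_support₂_eq {v w : GolayPt → ZMod 2} (h : support₂ v = support₂ w) : v = w := by
  funext p
  have h1 : p ∈ support₂ v ↔ p ∈ support₂ w := by rw [h]
  simp only [support₂, Finset.mem_filter, Finset.mem_univ, true_and] at h1
  have key : ∀ a b : ZMod 2, (a ≠ 0 ↔ b ≠ 0) → a = b := by decide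
  exact key _ _ h1

theorem rr_oct : ∀ r ∈ rr, cw (r % 4096) = r ∧ wt (cw (r % 4096)) = 8 := by decide +kernel

theorem M24_eq_aut_octads : M24 = setSystemAut octads := by
  ext g
  constructor
  · intro hg
    rw [MulAction.mem_stabilizer_iff]
    apply Set.Subset.antisymm
    · rintro _ ⟨o, ho, rfl⟩
      exact smul_mem_octads' hg ho
    · intro o ho
      exact ⟨g⁻¹ • o, smul_mem_octads' (Subgroup.inv_mem _ hg) ho, smul_inv_smul g o⟩
  · intro hg
    have hg' : g • octads = octads := MulAction.mem_stabilizer_iff.mp hg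
    apply mem_M24_of_preserves_one
    intro w hw
    obtain ⟨m, _, rfl⟩ := exists_of_mem hw
    apply wperm_xorSel_mem
    intro r hr
    obtain ⟨hr1, hr2⟩ := rr_oct r hr
    have ho : pts r ∈ octads := by
      rw [← hr1]
      exact pts_mem_octads (Nat.mod_lt _ (by norm_num)) hr2
    have hgo : g • pts r ∈ octads := by
      rw [← hg']
      exact Set.smul_mem_smul_set ho
    obtain ⟨m', _, _, hm'⟩ := exists_of_mem_octads hgo
    have : wperm g (toWord r) = toWord (cw m') := by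
      apply eq_of_support₂_eq
      rw [support_wperm, support₂_toWord, support₂_toWord, hm']
    rw [this]
    exact cw_mem m'

/-! ### The pointwise stabiliser of an octad -/

theorem octads_transitive {o o' : Finset GolayPt} (ho : o ∈ octads) (ho' : o' ∈ octads) :
    ∃ g ∈ M24, g • o = o' := by
  have hSt := octads_steiner
  obtain ⟨x, hx⟩ := exists_emb_of_le_card (s := o) (k := 5) (by rw [hSt.1 o ho]; norm_num)
  obtain ⟨y, hy⟩ := exists_emb_of_le_card (s := o') (k := 5) (by rw [hSt.1 o' ho']; norm_num)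
  obtain ⟨g1, hg1, hg1x⟩ := exists_map_to_base x 5 le_rfl
  obtain ⟨g2, hg2, hg2y⟩ := exists_map_to_base y 5 le_rfl
  refine ⟨g2⁻¹ * g1, Subgroup.mul_mem _ (Subgroup.inv_mem _ hg2) hg1, ?_⟩
  have hs : (Finset.univ.map x0).card = 5 := by
    rw [Finset.card_map, Finset.card_univ, Fintype.card_fin]
  obtain ⟨b, _, huniq⟩ := hSt.2 _ hs
  have h1 : g1 • o = b := by
    apply huniq
    refine ⟨smul_mem_octads' hg1 ho, ?_⟩
    intro p hp
    rw [Finset.mem_map] at hp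
    obtain ⟨i, _, rfl⟩ := hp
    rw [x0_apply, ← hg1x i i.2]
    exact Finset.smul_mem_smul_finset (hx i)
  have h2 : g2 • o' = b := by
    apply huniq
    refine ⟨smul_mem_octads' hg2 ho', ?_⟩
    intro p hp
    rw [Finset.mem_map] at hp
    obtain ⟨i, _, rfl⟩ := hp
    rw [x0_apply, ← hg2y i i.2]
    exact Finset.smul_mem_smul_finset (hy i)
  rw [mul_smul, h1, ← h2, inv_smul_smul]

/-- The pointwise stabiliser of a set of points in `M24`. -/
abbrev fixM24 (o : Finset GolayPt) : Subgroup (Equiv.Perm GolayPt) :=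
  M24 ⊓ fixingSubgroup (Equiv.Perm GolayPt) (o : Set GolayPt)

theorem mem_fixM24 {o : Finset GolayPt} {g : Equiv.Perm GolayPt} :
    g ∈ fixM24 o ↔ g ∈ M24 ∧ ∀ p ∈ o, g p = p := by
  rw [Subgroup.mem_inf, mem_fixingSubgroup_iff]
  rfl

theorem o0_testBit : ∀ p : GolayPt, p ∈ pts (cw 47) ↔ idx p ∈ [0, 1, 2, 3, 5, 14, 17, 23] := by
  decide +kernel

theorem k0_ok : ∀ k < 48, k % 3 = 0 →
    (∀ i ∈ [0, 1, 2, 3, 5, 14, 17, 23], tb (hsD k).1 i = i) ∧
    (∀ i < 24, tb (hsD k).1 (tb (hsD k).1 i) = i) := by decide +kernel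

theorem k0_five : ∀ k < 48, hsB.getD (k % 3) 0 = 5 → k % 3 = 0 := by decide

theorem hperm_apply {k : ℕ} (hk : k < 48) (p : GolayPt) :
    hperm k p = pt (tb (hsD k).1 (idx p)) := gperm_apply (hs_tables hk) p

theorem mem_fixM24_o0 {g : Equiv.Perm GolayPt} :
    g ∈ fixM24 (pts (cw 47)) ↔ ∃ k < 48, k % 3 = 0 ∧ g = hperm k := by
  rw [mem_fixM24]
  constructor
  · rintro ⟨hg, hfix⟩
    have hb : ∀ j < 5, g (pt (bs j)) = pt (bs j) := by
      intro j hj
      apply hfix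
      have : ∀ j < 5, pt (bs j) ∈ pts (cw 47) := by decide +kernel
      exact this j hj
    obtain ⟨k, hk, rfl⟩ := H_classify hg hb
    refine ⟨k, hk, ?_, rfl⟩
    apply k0_five k hk
    have h5 := hfix (pt 5) (by decide +kernel)
    rw [hperm_five hk] at h5
    have hlt : ∀ k < 48, hsB.getD (k % 3) 0 < 24 := by decide
    have := congrArg idx h5
    rwa [idx_pt _ (hlt k hk), idx_pt _ (by norm_num)] at this
  · rintro ⟨k, hk, hk3, rfl⟩
    refine ⟨hperm_mem hk, ?_⟩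
    intro p hp
    rw [o0_testBit] at hp
    rw [hperm_apply hk, (k0_ok k hk hk3).1 _ hp, pt_idx]

theorem sq_of_mem_fixM24_o0 {g : Equiv.Perm GolayPt} (hg : g ∈ fixM24 (pts (cw 47))) :
    g * g = 1 := by
  obtain ⟨k, hk, hk3, rfl⟩ := mem_fixM24_o0.mp hg
  apply Equiv.ext
  intro p
  have h1 := tablesOK_spec (hs_tables hk) (idx p) (idx_lt p)
  rw [Equiv.Perm.mul_apply, hperm_apply hk, hperm_apply hk, idx_pt _ h1.1,
    (k0_ok k hk hk3).2 _ (idx_lt p), pt_idx]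
  rfl

/-- The sixteen elements. -/
noncomputable def K0set : Finset (Equiv.Perm GolayPt) :=
  (Finset.range 16).image (fun j => hperm (3 * j))

theorem card_K0set : K0set.card = 16 := by
  unfold K0set
  rw [Finset.card_image_of_injOn, Finset.card_range]
  intro j hj j' hj' h
  rw [Finset.coe_range, Set.mem_Iio] at hj hj'
  have := hperm_inj (3 * j) (by omega) (3 * j') (by omega) h
  omega

theorem card_fixM24_o0 : Nat.card (fixM24 (pts (cw 47))) = 16 := by
  have h1 : Nat.card (fixM24 (pts (cw 47))) = Nat.card K0set := by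
    apply Nat.card_congr
    refine Equiv.subtypeEquivRight ?_
    intro g
    rw [mem_fixM24_o0]
    unfold K0set
    rw [Finset.mem_image]
    constructor
    · rintro ⟨k, hk, hk3, rfl⟩
      exact ⟨k / 3, Finset.mem_range.mpr (by omega), by
        show hperm (3 * (k / 3)) = hperm k
        congr 1
        omega⟩
    · rintro ⟨j, hj, rfl⟩
      rw [Finset.mem_range] at hj
      exact ⟨3 * j, by omega, by omega, rfl⟩
  rw [h1, Nat.card_eq_fintype_card, Fintype.card_coe, card_K0set]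

theorem conj_mem_fixM24 {g : Equiv.Perm GolayPt} (hg : g ∈ M24) (o : Finset GolayPt)
    (t : Equiv.Perm GolayPt) : t ∈ fixM24 (g • o) ↔ g⁻¹ * t * g ∈ fixM24 o := by
  rw [mem_fixM24, mem_fixM24]
  constructor
  · rintro ⟨ht, hfix⟩
    refine ⟨Subgroup.mul_mem _ (Subgroup.mul_mem _ (Subgroup.inv_mem _ hg) ht) hg, ?_⟩
    intro p hp
    rw [Equiv.Perm.mul_apply, Equiv.Perm.mul_apply, Equiv.Perm.inv_eq_iff_eq]
    exact hfix (g p) (Finset.smul_mem_smul_finset hp)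
  · rintro ⟨ht, hfix⟩
    constructor
    · have : t = g * (g⁻¹ * t * g) * g⁻¹ := by group
      rw [this]
      exact Subgroup.mul_mem _ (Subgroup.mul_mem _ hg ht) (Subgroup.inv_mem _ hg)
    · intro p hp
      rw [Finset.mem_smul_finset] at hp
      obtain ⟨q, hq, rfl⟩ := hp
      have := hfix q hq
      rw [Equiv.Perm.mul_apply, Equiv.Perm.mul_apply, Equiv.Perm.inv_eq_iff_eq] at this
      exact this

theorem fixM24_octad {o : Finset GolayPt} (ho : o ∈ octads) :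
    Nat.card (fixM24 o) = 16 ∧ ∀ g ∈ fixM24 o, g * g = 1 := by
  have ho0 : pts (cw 47) ∈ octads := pts_mem_octads (by norm_num) (by decide +kernel)
  obtain ⟨g, hg, rfl⟩ := octads_transitive ho0 ho
  constructor
  · rw [← card_fixM24_o0]
    apply Nat.card_congr
    exact Equiv.subtypeEquiv (MulAut.conj g⁻¹).toEquiv (fun t => by
      rw [conj_mem_fixM24 hg]
      show _ ↔ g⁻¹ * t * g⁻¹⁻¹ ∈ _
      rw [inv_inv])
  · intro t ht
    rw [conj_mem_fixM24 hg] at ht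
    have h1 := sq_of_mem_fixM24_o0 ht
    have h2 : t * t = g * ((g⁻¹ * t * g) * (g⁻¹ * t * g)) * g⁻¹ := by group
    rw [h2, h1]
    group

/-! ### The stabiliser of a dodecad and a point acts 3-transitively on the complement -/

theorem smul_compl (g : Equiv.Perm GolayPt) (s : Finset GolayPt) : g • sᶜ = (g • s)ᶜ := by
  ext q
  rw [Finset.mem_compl, ← Finset.inv_smul_mem_iff, ← Finset.inv_smul_mem_iff, Finset.mem_compl]

theorem compl_mem_dodecads {d : Finset GolayPt} (hd : d ∈ dodecads) : dᶜ ∈ dodecads := by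
  obtain ⟨m, hm, hw, rfl⟩ := exists_of_mem_dodecads hd
  have h1 : (pts (cw m))ᶜ = pts (cw (m ^^^ 4095)) := by
    ext p
    rw [Finset.mem_compl, cw_xor, mem_pts, mem_pts, Nat.testBit_xor]
    have h2 : (cw 4095).testBit (idx p) = true := by
      have : cw 4095 = 0xFFFFFF := cw_ones
      rw [this]
      exact full_testBit p
    rw [h2]
    cases (cw m).testBit (idx p) <;> simp
  have hlt : m ^^^ 4095 < 4096 := Nat.xor_lt_two_pow (n := 12) hm (by norm_num)
  rw [h1]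
  apply pts_mem_dodecads hlt
  rw [← card_pts, ← h1, Finset.card_compl, card_golayPt, card_pts, hw]

theorem extend_emb {s : Finset GolayPt} (hs : 5 ≤ s.card) (x : Fin 3 ↪ GolayPt)
    (hx : ∀ i, x i ∈ s) : ∃ x5 : Fin 5 ↪ GolayPt, (∀ i, x5 i ∈ s) ∧
      ∀ i : Fin 3, x5 (Fin.castLE (by norm_num) i) = x i := by
  let x' : Fin 3 ↪ s := ⟨fun i => ⟨x i, hx i⟩, fun i j h => x.injective (Subtype.ext_iff.mp h)⟩
  have hcard : 5 ≤ Nat.card s := by
    rw [Nat.card_eq_fintype_card, Fintype.card_coe]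
    exact hs
  obtain ⟨x5', hx5'⟩ := Fin.Embedding.restrictSurjective_of_le_natCard
    (by norm_num : 3 ≤ 5) hcard x'
  refine ⟨x5'.trans (Function.Embedding.subtype _), fun i => (x5' i).2, ?_⟩
  intro i
  have := DFunLike.congr_fun hx5' i
  exact congrArg Subtype.val this

def es : List (List ℕ × List ℕ) := [
  ([0, 1, 2, 3, 4, 5, 6, 7, 8, 9, 10, 11, 12, 13, 14, 15, 16, 17, 18, 19, 20, 21, 22, 23], [0, 1, 2, 3, 4, 5, 6, 7, 8, 9, 10, 11, 12, 13, 14, 15, 16, 17, 18, 19, 20, 21, 22, 23]),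
  ([0, 1, 2, 19, 18, 6, 14, 5, 22, 10, 9, 13, 4, 8, 7, 20, 12, 21, 16, 17, 15, 3, 11, 23], [0, 1, 2, 21, 12, 7, 5, 14, 13, 10, 9, 22, 16, 11, 6, 20, 18, 19, 4, 3, 15, 17, 8, 23]),
  ([0, 1, 2, 21, 12, 7, 5, 14, 13, 10, 9, 22, 16, 11, 6, 20, 18, 19, 4, 3, 15, 17, 8, 23], [0, 1, 2, 19, 18, 6, 14, 5, 22, 10, 9, 13, 4, 8, 7, 20, 12, 21, 16, 17, 15, 3, 11, 23]),
  ([0, 1, 2, 12, 19, 8, 13, 22, 14, 15, 20, 5, 17, 7, 11, 9, 21, 18, 3, 16, 10, 4, 6, 23], [0, 1, 2, 18, 21, 11, 22, 13, 5, 15, 20, 14, 3, 6, 8, 9, 19, 12, 17, 4, 10, 16, 7, 23]),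
  ([0, 1, 3, 18, 19, 9, 5, 14, 22, 10, 6, 15, 12, 20, 7, 8, 4, 16, 21, 17, 13, 2, 11, 23], [0, 1, 21, 2, 16, 6, 10, 14, 15, 5, 9, 22, 12, 20, 7, 11, 17, 19, 3, 4, 13, 18, 8, 23]),
  ([0, 1, 4, 18, 2, 10, 6, 9, 20, 7, 5, 11, 19, 22, 14, 15, 16, 21, 3, 12, 8, 17, 13, 23], [0, 1, 4, 18, 2, 10, 6, 9, 20, 7, 5, 11, 19, 22, 14, 15, 16, 21, 3, 12, 8, 17, 13, 23]),
  ([0, 1, 2, 18, 21, 11, 22, 13, 5, 15, 20, 14, 3, 6, 8, 9, 19, 12, 17, 4, 10, 16, 7, 23], [0, 1, 2, 12, 19, 8, 13, 22, 14, 15, 20, 5, 17, 7, 11, 9, 21, 18, 3, 16, 10, 4, 6, 23]),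
  ([0, 1, 2, 16, 3, 13, 11, 8, 6, 20, 15, 7, 19, 14, 22, 10, 17, 4, 21, 18, 9, 12, 5, 23], [0, 1, 2, 4, 17, 22, 8, 11, 7, 20, 15, 6, 21, 5, 13, 10, 3, 16, 19, 12, 9, 18, 14, 23]),
  ([0, 1, 2, 17, 16, 14, 7, 6, 11, 9, 10, 8, 18, 22, 5, 15, 4, 3, 12, 21, 20, 19, 13, 23], [0, 1, 2, 17, 16, 14, 7, 6, 11, 9, 10, 8, 18, 22, 5, 15, 4, 3, 12, 21, 20, 19, 13, 23]),
  ([0, 1, 3, 21, 2, 15, 11, 20, 9, 8, 13, 7, 18, 5, 22, 10, 17, 12, 16, 19, 6, 4, 14, 23], [0, 1, 4, 2, 21, 13, 20, 11, 9, 8, 15, 6, 17, 10, 22, 5, 18, 16, 12, 19, 7, 3, 14, 23]),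
  ([0, 1, 3, 4, 18, 20, 15, 22, 5, 13, 8, 14, 17, 7, 11, 6, 16, 19, 2, 21, 10, 12, 9, 23], [0, 1, 18, 2, 3, 8, 15, 13, 10, 22, 20, 14, 21, 9, 11, 6, 16, 12, 4, 17, 5, 19, 7, 23]),
  ([0, 1, 2, 4, 17, 22, 8, 11, 7, 20, 15, 6, 21, 5, 13, 10, 3, 16, 19, 12, 9, 18, 14, 23], [0, 1, 2, 16, 3, 13, 11, 8, 6, 20, 15, 7, 19, 14, 22, 10, 17, 4, 21, 18, 9, 12, 5, 23])]

def esA : List ℕ := [5, 6, 7, 8, 9, 10, 11, 13, 14, 15, 20, 22]

def esD (k : ℕ) : List ℕ × List ℕ := es.getD k ([], [])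

def esEntryOK (k : ℕ) : Bool :=
  tablesOK (esD k).1 (esD k).2 && codeOK (esD k).2 &&
    (List.range 3).all (fun j => tb (esD k).1 (bs j) == bs j) &&
    (tb (esD k).1 5 == esA.getD k 0) && (pull (tb (esD k).2) d0m == d0m)

theorem es_ok : ∀ k < 12, esEntryOK k = true := by decide +kernel

noncomputable def eperm (k : ℕ) : Equiv.Perm GolayPt := gperm (esD k)

theorem eperm_spec {k : ℕ} (hk : k < 12) :
    eperm k ∈ M24 ∧ (∀ j < 3, eperm k (pt (bs j)) = pt (bs j)) ∧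
      eperm k (pt 5) = pt (esA.getD k 0) ∧ eperm k • pts d0m = pts d0m := by
  have := es_ok k hk
  unfold esEntryOK at this
  simp only [Bool.and_eq_true, List.all_eq_true, List.mem_range, beq_iff_eq] at this
  obtain ⟨⟨⟨⟨ht, hc⟩, hfix⟩, h5⟩, hd⟩ := this
  refine ⟨gperm_mem ht hc, ?_, ?_, ?_⟩
  · intro j hj
    unfold eperm
    rw [gperm_pt ht (bs_lt j (by omega)), hfix j hj]
  · unfold eperm
    rw [gperm_pt ht (by norm_num), h5]
  · unfold eperm
    rw [gperm_smul_pts ht, hd]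

theorem esA_of : ∀ a < 24, d0m.testBit a = false → ∃ k < 12, esA.getD k 0 = a := by
  decide +kernel

/-- Moving one point outside the base dodecad to another, fixing the first three base points and
the base dodecad. -/
theorem exists_move_compl {a b : GolayPt} (ha : a ∉ pts d0m) (hb : b ∉ pts d0m) :
    ∃ E ∈ M24, (∀ j < 3, E (pt (bs j)) = pt (bs j)) ∧ E a = b ∧ E • pts d0m = pts d0m := by
  have ha' : d0m.testBit (idx a) = false := by
    rw [mem_pts] at ha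
    simpa using ha
  have hb' : d0m.testBit (idx b) = false := by
    rw [mem_pts] at hb
    simpa using hb
  obtain ⟨ka, hka, hkaa⟩ := esA_of _ (idx_lt a) ha'
  obtain ⟨kb, hkb, hkbb⟩ := esA_of _ (idx_lt b) hb'
  obtain ⟨h1, h2, h3, h4⟩ := eperm_spec hka
  obtain ⟨h1', h2', h3', h4'⟩ := eperm_spec hkb
  rw [hkaa, pt_idx] at h3
  rw [hkbb, pt_idx] at h3'
  refine ⟨eperm kb * (eperm ka)⁻¹, Subgroup.mul_mem _ h1' (Subgroup.inv_mem _ h1), ?_, ?_, ?_⟩
  · intro j hj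
    rw [Equiv.Perm.mul_apply]
    have : (eperm ka)⁻¹ (pt (bs j)) = pt (bs j) := by
      rw [Equiv.Perm.inv_eq_iff_eq]
      exact (h2 j hj).symm
    rw [this, h2' j hj]
  · rw [Equiv.Perm.mul_apply]
    have : (eperm ka)⁻¹ a = pt 5 := by
      rw [Equiv.Perm.inv_eq_iff_eq]
      exact h3.symm
    rw [this, h3']
  · rw [mul_smul]
    have : (eperm ka)⁻¹ • pts d0m = pts d0m := by
      rw [inv_smul_eq_iff]
      exact h4.symm
    rw [this, h4']

theorem flag_three_transitive {d : Finset GolayPt} (hd : d ∈ dodecads) {p : GolayPt} (hp : p ∈ d)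
    (x y : Fin 3 ↪ GolayPt) (hx : ∀ i, x i ∉ d) (hy : ∀ i, y i ∉ d) :
    ∃ g ∈ M24, g • d = d ∧ g p = p ∧ ∀ i, g (x i) = y i := by
  have hd' := compl_mem_dodecads hd
  have h5 : 5 ≤ dᶜ.card := by rw [card_of_mem_dodecads hd']; norm_num
  obtain ⟨x5, hx5, hx5x⟩ := extend_emb h5 x (fun i => Finset.mem_compl.mpr (hx i))
  obtain ⟨y5, hy5, hy5y⟩ := extend_emb h5 y (fun i => Finset.mem_compl.mpr (hy i))
  obtain ⟨k1, hk1, hk1x, hk1d⟩ := dodecad_to_base hd' x5 hx5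
  obtain ⟨k2, hk2, hk2y, hk2d⟩ := dodecad_to_base hd' y5 hy5
  have hnot : ∀ k : Equiv.Perm GolayPt, k • dᶜ = pts d0m → k p ∉ pts d0m := by
    intro k hk hcon
    rw [← hk] at hcon
    have : p ∈ dᶜ := (Finset.smul_mem_smul_finset_iff k).mp hcon
    exact Finset.mem_compl.mp this hp
  obtain ⟨E, hE, hEfix, hEab, hEd⟩ := exists_move_compl (hnot k1 hk1d) (hnot k2 hk2d)
  refine ⟨k2⁻¹ * E * k1,
    Subgroup.mul_mem _ (Subgroup.mul_mem _ (Subgroup.inv_mem _ hk2) hE) hk1, ?_, ?_, ?_⟩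
  · have h1 : (k2⁻¹ * E * k1) • dᶜ = dᶜ := by
      rw [mul_smul, mul_smul, hk1d, hEd, ← hk2d, inv_smul_smul]
    rw [smul_compl] at h1
    exact compl_injective h1
  · rw [Equiv.Perm.mul_apply, Equiv.Perm.mul_apply, hEab, Equiv.Perm.inv_eq_iff_eq]
  · intro i
    rw [Equiv.Perm.mul_apply, Equiv.Perm.mul_apply, ← hx5x i, hk1x, Equiv.Perm.inv_eq_iff_eq,
      ← hy5y i, hk2y]
    exact hEfix i.val i.2

end Cfsg.Agent.helper2.Golay
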