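import Mathlib
import Cfsg.Agent.Lib_helper27_Xi2
import Cfsg.Agent.Lib_helper2_M24d
import Cfsg.Agent.Lib_helper27_Center

set_option autoImplicit false

namespace Cfsg.Agent.helper27

open Cfsg
open scoped Pointwise

/-- two lattice vectors in the same orbit of the automorphism group -/
def Conn (x y : GolayPt → ℤ) : Prop :=
  ∃ (hx : x ∈ leechLattice) (g : Equiv.Perm leechLattice), g ∈ Co0 ∧
    ((g ⟨x, hx⟩ : leechLattice) : GolayPt → ℤ) = y

theorem Conn.refl {x : GolayPt → ℤ} (hx : x ∈ leechLattice) : Conn x x :=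
  ⟨hx, 1, Co0.one_mem, rfl⟩

theorem Conn.mem_left {x y : GolayPt → ℤ} (h : Conn x y) : x ∈ leechLattice := h.1

theorem Conn.mem_right {x y : GolayPt → ℤ} (h : Conn x y) : y ∈ leechLattice := by
  obtain ⟨hx, g, _, rfl⟩ := h
  exact (g ⟨x, hx⟩).2

theorem Conn.symm {x y : GolayPt → ℤ} (h : Conn x y) : Conn y x := by
  have hy := h.mem_right
  obtain ⟨hx, g, hg, he⟩ := h
  refine ⟨hy, g⁻¹, Co0.inv_mem hg, ?_⟩
  have : (⟨y, hy⟩ : leechLattice) = g ⟨x, hx⟩ := Subtype.ext he.symm
  rw [this]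
  simp

theorem Conn.trans {x y z : GolayPt → ℤ} (h1 : Conn x y) (h2 : Conn y z) : Conn x z := by
  obtain ⟨hx, g, hg, he⟩ := h1
  obtain ⟨hy, g', hg', he'⟩ := h2
  refine ⟨hx, g' * g, Co0.mul_mem hg' hg, ?_⟩
  have : g ⟨x, hx⟩ = (⟨y, hy⟩ : leechLattice) := Subtype.ext he
  rw [Equiv.Perm.mul_apply, this]
  exact he'

theorem conn_signedPerm {σ : Equiv.Perm GolayPt} (hσ : σ ∈ M24) {c : Finset GolayPt}
    (hc : c ∈ GS) {x : GolayPt → ℤ} (hx : x ∈ leechLattice) : Conn x (signedPerm σ c x) :=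
  ⟨hx, monoPerm σ hσ c hc, monoPerm_mem_Co0 σ hσ c hc, rfl⟩

theorem conn_xi {x : GolayPt → ℤ} (hx : x ∈ leechLattice) : Conn x (xiFun x) :=
  ⟨hx, xiPerm, xiPerm_mem_Co0, rfl⟩

theorem Conn.exists_smul {v w : leechLattice} (h : Conn v.1 w.1) : ∃ g : Co0, g • v = w := by
  obtain ⟨hx, g, hg, he⟩ := h
  exact ⟨⟨g, hg⟩, Subtype.ext he⟩

/-! ### the odd minimal vectors form one orbit -/

theorem signedPerm_empty (σ : Equiv.Perm GolayPt) (x : GolayPt → ℤ) :
    signedPerm σ ∅ x = fun i => x (σ.symm i) := by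
  funext i
  unfold signedPerm
  simp

theorem signedPerm_one (c : Finset GolayPt) (x : GolayPt → ℤ) :
    signedPerm 1 c x = fun i => if i ∈ c then -x i else x i := by
  funext i
  rfl

theorem conn_vec3_of_odd {x : GolayPt → ℤ} (hx : x ∈ leechLattice) (hodd : x none % 2 = 1)
    (hn : sqNorm x = 32) : Conn vec3 x := by
  have hxs := (mem_leechLattice_iff x).mp hx
  have hp := parity_of_mem_leechSet hxs
  have hodd' : ∀ i, x i % 2 = 1 := fun i => by rw [hp i, hodd]
  obtain ⟨j, hj⟩ := eq_vC_of_odd hodd' hn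
  have hb : cls 3 x ∈ GS := by
    obtain ⟨m, _, _, hcls⟩ := hxs
    exact hcls 3
  obtain ⟨π, hπ, hπj⟩ := exists_M24_none_to j
  have hv3 : vec3 ∈ leechLattice := (mem_leechLattice_iff _).mpr vec3_mem_leechSet
  have h1 : Conn vec3 (v3 j) := by
    have := conn_signedPerm hπ empty_mem_GS hv3
    have he : signedPerm π ∅ vec3 = v3 j := by
      rw [signedPerm_empty]
      funext i
      unfold vec3 v3
      have : π.symm i = none ↔ i = j := by
        rw [← hπj]
        constructor
        · intro h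
          rw [← h]
          simp
        · intro h
          rw [h]
          simp
      by_cases hi : i = j
      · rw [if_pos (this.mpr hi), if_pos hi]
      · rw [if_neg (fun h => hi (this.mp h)), if_neg hi]
    rwa [he] at this
  have h2 : Conn (v3 j) x := by
    have := conn_signedPerm (Subgroup.one_mem M24) hb h1.mem_right
    have he : signedPerm 1 (cls 3 x) (v3 j) = x := by
      rw [signedPerm_one, ← vC_eq_signchange, ← hj]
    rwa [he] at this
  exact h1.trans h2

/-! ### from the even minimal vectors with an octad to the odd ones -/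

/-- the reference octad: it meets each tetrad of the sextet in an odd number of points -/
def goodOctad : Finset GolayPt := cw 2

theorem goodOctad_mem : goodOctad ∈ octads := by
  refine ⟨(mem_supports_golayCode_iff _).mpr ⟨2, by norm_num, rfl⟩, ?_⟩
  unfold goodOctad
  rw [cw_card]
  decide

theorem goodOctad_odd : ∀ t : Fin 6,
    (Finset.univ.filter (fun k : Fin 4 => blk (t, k) ∈ goodOctad)).card % 2 = 1 := by
  decide

theorem even_mod_four {y : GolayPt → ℤ} (hev : ∀ i, y i % 2 = 0) (p : GolayPt) :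
    (4 : ℤ) ∣ y p - (if p ∈ cls 2 y then 2 else 0) := by
  have := hev p
  by_cases hp : p ∈ cls 2 y
  · rw [if_pos hp]
    rw [mem_cls] at hp
    omega
  · rw [if_neg hp]
    rw [mem_cls] at hp
    omega

theorem tetSum_mod_four {y : GolayPt → ℤ} (hev : ∀ i, y i % 2 = 0) (t : Fin 6) :
    (4 : ℤ) ∣ tetSum y t -
      2 * ((Finset.univ.filter (fun k : Fin 4 => blk (t, k) ∈ cls 2 y)).card : ℤ) := by
  have h1 : (2 : ℤ) * ((Finset.univ.filter (fun k : Fin 4 => blk (t, k) ∈ cls 2 y)).card : ℤ)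
      = ∑ k : Fin 4, (if blk (t, k) ∈ cls 2 y then 2 else 0) := by
    rw [Finset.sum_ite, Finset.sum_const, Finset.sum_const_zero, add_zero, nsmul_eq_mul, mul_comm]
  unfold tetSum
  rw [h1, ← Finset.sum_sub_distrib]
  exact Finset.dvd_sum (fun k _ => even_mod_four hev _)

theorem xiFun_odd_of_cls {y : GolayPt → ℤ} (hev : ∀ i, y i % 2 = 0)
    (hc : cls 2 y = goodOctad) (p : GolayPt) : xiFun y p % 2 = 1 := by
  obtain ⟨⟨t, k⟩, rfl⟩ := blk.surjective p
  unfold xiFun
  rw [Dmap_blk]
  have h1 := tetSum_mod_four hev t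
  rw [hc] at h1
  have h2 := goodOctad_odd t
  have h3 := hev (blk (t, k))
  have hs : sg t = 1 ∨ sg t = -1 := by
    unfold sg
    split_ifs
    · right; rfl
    · left; rfl
  generalize (Finset.univ.filter (fun k : Fin 4 => blk (t, k) ∈ goodOctad)).card = n at h1 h2
  generalize tetSum y t = S at h1
  generalize y (blk (t, k)) = a at h3
  have hn : ((n : ℕ) : ℤ) % 2 = 1 := by omega
  generalize (n : ℤ) = n' at h1 hn
  rcases hs with hs | hs <;> rw [hs] <;> omega

theorem conn_odd_of_octad {x : GolayPt → ℤ} (hx : x ∈ leechLattice) (hev : ∀ i, x i % 2 = 0)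
    (ho : cls 2 x ∈ octads) (hn : sqNorm x = 32) :
    ∃ z, Conn x z ∧ z none % 2 = 1 ∧ sqNorm z = 32 := by
  obtain ⟨σ, hσ, hσo⟩ := helper2.Golay.octads_transitive ho goodOctad_mem
  have h1 := conn_signedPerm hσ empty_mem_GS hx
  rw [signedPerm_empty] at h1
  set y : GolayPt → ℤ := fun i => x (σ.symm i) with hy
  have hyc : cls 2 y = goodOctad := by
    rw [hy, cls_comp_perm σ.symm 2 x, ← hσo]
    rfl
  have hyev : ∀ i, y i % 2 = 0 := fun i => hev _
  have h2 := conn_xi h1.mem_right
  refine ⟨xiFun y, h1.trans h2, xiFun_odd_of_cls hyev hyc none, ?_⟩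
  rw [sqNorm_xiFun h1.mem_right]
  have := sqNorm_signedPerm σ ∅ x
  rw [signedPerm_empty] at this
  rw [this, hn]

/-! ### from the minimal vectors divisible by four to the others -/

theorem conn_octad_of_mod_four {x : GolayPt → ℤ} (hx : x ∈ leechLattice) (h4 : ∀ i, x i % 4 = 0)
    (hn : sqNorm x = 32) :
    ∃ z, Conn x z ∧ (∀ i, z i % 2 = 0) ∧ (∃ q, z q % 4 = 2) ∧ sqNorm z = 32 := by
  obtain ⟨i, j, hij, hi, hj, hrest⟩ := mod4_norm32 x h4 hn
  have h2t : ∀ {a b c d : GolayPt}, a ≠ b → c ≠ d → ∃ g : M24, g • a = c ∧ g • b = d :=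
    MulAction.is_two_pretransitive_iff.mp (helper2.Golay.m24_k_transitive (by norm_num))
  have hne : blk (1, 0) ≠ blk (2, 0) := by decide
  obtain ⟨⟨σ, hσ⟩, hσi, hσj⟩ := h2t hij hne
  have hσi' : σ i = blk (1, 0) := hσi
  have hσj' : σ j = blk (2, 0) := hσj
  have h1 := conn_signedPerm hσ empty_mem_GS hx
  rw [signedPerm_empty] at h1
  set y : GolayPt → ℤ := fun p => x (σ.symm p) with hy
  have hy4 : ∀ p, y p % 4 = 0 := fun p => h4 _
  have hyi : y (blk (1, 0)) = 4 ∨ y (blk (1, 0)) = -4 := by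
    rw [hy, ← hσi']
    simpa using hi
  have hy0 : ∀ p, p ≠ blk (1, 0) → p ≠ blk (2, 0) → y p = 0 := by
    intro p hp1 hp2
    rw [hy]
    apply hrest
    · intro h
      apply hp1
      rw [← hσi', ← h]
      simp
    · intro h
      apply hp2
      rw [← hσj', ← h]
      simp
  have h2 := conn_xi h1.mem_right
  refine ⟨xiFun y, h1.trans h2, ?_, ⟨blk (1, 1), ?_⟩, ?_⟩
  · intro p
    obtain ⟨⟨t, k⟩, rfl⟩ := blk.surjective p
    unfold xiFun
    rw [Dmap_blk]
    have hS : (4 : ℤ) ∣ tetSum y t := by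
      unfold tetSum
      exact Finset.dvd_sum (fun k _ => Int.dvd_of_emod_eq_zero (hy4 _))
    have h3 := hy4 (blk (t, k))
    have hs : sg t = 1 ∨ sg t = -1 := by
      unfold sg
      split_ifs
      · right; rfl
      · left; rfl
    generalize tetSum y t = S at hS
    generalize y (blk (t, k)) = a at h3
    rcases hs with hs | hs <;> rw [hs] <;> omega
  · unfold xiFun
    rw [Dmap_blk]
    have hS : tetSum y 1 = y (blk (1, 0)) := by
      unfold tetSum
      rw [Fin.sum_univ_four, hy0 (blk (1, 1)) (by decide) (by decide),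
        hy0 (blk (1, 2)) (by decide) (by decide), hy0 (blk (1, 3)) (by decide) (by decide)]
      ring
    rw [hS, hy0 (blk (1, 1)) (by decide) (by decide)]
    have : sg 1 = 1 := by decide
    rw [this]
    rcases hyi with h | h <;> rw [h] <;> decide
  · rw [sqNorm_xiFun h1.mem_right]
    have := sqNorm_signedPerm σ ∅ x
    rw [signedPerm_empty] at this
    rw [this, hn]

/-- all minimal vectors are in the orbit of `vec3` -/
theorem conn_vec3_of_min {x : GolayPt → ℤ} (hx : x ∈ leechLattice) (hn : sqNorm x = 32) :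
    Conn vec3 x := by
  have hxs := (mem_leechLattice_iff x).mp hx
  have hp := parity_of_mem_leechSet hxs
  rcases Int.emod_two_eq_zero_or_one (x none) with hev | hodd
  · have hev' : ∀ i, x i % 2 = 0 := fun i => by rw [hp i, hev]
    -- reduce to the case of an octad
    have hoct : ∀ z : GolayPt → ℤ, z ∈ leechLattice → (∀ i, z i % 2 = 0) → (∃ q, z q % 4 = 2) →
        sqNorm z = 32 → Conn vec3 z := by
      intro z hz hzev ⟨q, hq⟩ hzn
      have hzs := (mem_leechLattice_iff z).mp hz
      have hGS : cls 2 z ∈ GS := by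
        obtain ⟨m, _, _, hcls⟩ := hzs
        exact hcls 2
      have hcard := supports_card hGS
      have hle := four_card_cls_le z
      have hpos : 0 < (cls 2 z).card := Finset.card_pos.mpr ⟨q, by rw [mem_cls]; exact hq⟩
      have h8 : (cls 2 z).card = 8 := by omega
      obtain ⟨w, hw, hwodd, hwn⟩ := conn_odd_of_octad hz hzev ⟨hGS, h8⟩ hzn
      exact (conn_vec3_of_odd hw.mem_right hwodd hwn).trans hw.symm
    by_cases h2 : ∃ q, x q % 4 = 2
    · exact hoct x hx hev' h2 hn
    · have h4 : ∀ i, x i % 4 = 0 := by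
        intro i
        have := hev' i
        by_contra hc
        exact h2 ⟨i, by omega⟩
      obtain ⟨z, hz, hzev, hzq, hzn⟩ := conn_octad_of_mod_four hx h4 hn
      exact (hoct z hz.mem_right hzev hzq hzn).trans hz.symm
  · exact conn_vec3_of_odd hx hodd hn

/-- the automorphism group is transitive on the minimal vectors -/
theorem co0_transitive_min (v w : leechLattice) (hv : sqNorm (v : GolayPt → ℤ) = 32)
    (hw : sqNorm (w : GolayPt → ℤ) = 32) : ∃ g : Co0, g • v = w :=
  ((conn_vec3_of_min v.2 hv).symm.trans (conn_vec3_of_min w.2 hw)).exists_smul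

end Cfsg.Agent.helper27
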