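import Mathlib
import Cfsg.Agent.Lib_helper27_Trans
import Cfsg.Agent.Lib_helper2_M24d

set_option autoImplicit false

namespace Cfsg.Agent.helper27

open Cfsg
open scoped Pointwise

/-- transitivity of `M24` on the subsets of a given size at most 5 -/
theorem m24_subset_transitive {k : ℕ} (hk : k ≤ 5) {T T' : Finset GolayPt} (hT : T.card = k)
    (hT' : T'.card = k) : ∃ σ ∈ M24, σ • T = T' := by
  have emb : ∀ S : Finset GolayPt, S.card = k →
      ∃ x : Fin k ↪ GolayPt, ∀ p, p ∈ S ↔ ∃ i, x i = p := by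
    intro S hS
    let e : S ≃ Fin k := S.equivFinOfCardEq hS
    refine ⟨e.symm.toEmbedding.trans (Function.Embedding.subtype _), fun p => ?_⟩
    constructor
    · intro hp
      exact ⟨e ⟨p, hp⟩, by simp⟩
    · rintro ⟨i, rfl⟩
      exact (e.symm i).2
  obtain ⟨x, hx⟩ := emb T hT
  obtain ⟨y, hy⟩ := emb T' hT'
  have := helper2.Golay.m24_k_transitive hk
  obtain ⟨g, hg⟩ := MulAction.exists_smul_eq M24 x y
  refine ⟨g.1, g.2, ?_⟩
  ext p
  rw [hy]
  constructor
  · intro hp
    obtain ⟨q, hq, rfl⟩ := Finset.mem_smul_finset.mp hp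
    obtain ⟨i, rfl⟩ := (hx q).mp hq
    refine ⟨i, ?_⟩
    rw [← hg]
    rfl
  · rintro ⟨i, rfl⟩
    rw [← hg]
    exact Finset.smul_mem_smul_finset ((hx _).mpr ⟨i, rfl⟩)

theorem signedPerm_base35 (σ : Equiv.Perm GolayPt) (T3 T5 : Finset GolayPt) :
    signedPerm σ ∅ (base35 T3 T5) = base35 (σ • T3) (σ • T5) := by
  rw [signedPerm_empty]
  funext i
  unfold base35
  have h : ∀ T : Finset GolayPt, σ.symm i ∈ T ↔ i ∈ σ • T := by
    intro T
    rw [← Finset.inv_smul_mem_iff]
    rfl
  simp only [h]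

theorem conn_base35_smul {σ : Equiv.Perm GolayPt} (hσ : σ ∈ M24) {T3 T5 : Finset GolayPt}
    (hmem : base35 T3 T5 ∈ leechLattice) :
    Conn (base35 T3 T5) (base35 (σ • T3) (σ • T5)) := by
  have := conn_signedPerm hσ empty_mem_GS hmem
  rwa [signedPerm_base35] at this

theorem signedPerm_one_eq_sc (b : Finset GolayPt) (x : GolayPt → ℤ) : signedPerm 1 b x = sc b x :=
  rfl

theorem conn_sc {b : Finset GolayPt} (hb : b ∈ GS) {x : GolayPt → ℤ} (hx : x ∈ leechLattice) :
    Conn x (sc b x) := by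
  have := conn_signedPerm (Subgroup.one_mem M24) hb hx
  rwa [signedPerm_one_eq_sc] at this

theorem conn_neg {x : GolayPt → ℤ} (hx : x ∈ leechLattice) : Conn x (-x) := by
  have := conn_sc univ_mem_GS hx
  have h : sc Finset.univ x = -x := by
    funext i
    unfold sc
    simp
  rwa [h] at this

/-! ### parity change under the extra automorphism -/

theorem xiFun_odd_of_meets {y : GolayPt → ℤ} (hev : ∀ i, y i % 2 = 0)
    (hodd : ∀ t : Fin 6,
      (Finset.univ.filter (fun k : Fin 4 => blk (t, k) ∈ cls 2 y)).card % 2 = 1)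
    (p : GolayPt) : xiFun y p % 2 = 1 := by
  obtain ⟨⟨t, k⟩, rfl⟩ := blk.surjective p
  unfold xiFun
  rw [Dmap_blk]
  have h1 := tetSum_mod_four hev t
  have h2 := hodd t
  have h3 := hev (blk (t, k))
  have hs : sg t = 1 ∨ sg t = -1 := by
    unfold sg
    split_ifs
    · right; rfl
    · left; rfl
  generalize (Finset.univ.filter (fun k : Fin 4 => blk (t, k) ∈ cls 2 y)).card = n at h1 h2
  generalize tetSum y t = S at h1
  generalize y (blk (t, k)) = a at h3
  have hn : ((n : ℕ) : ℤ) % 2 = 1 := by omega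
  generalize (n : ℤ) = n' at h1 hn
  rcases hs with hs | hs <;> rw [hs] <;> omega

/-- a set meeting every tetrad of the sextet in an odd number of points -/
def OddMeets (G : Finset GolayPt) : Prop :=
  ∀ t : Fin 6, (Finset.univ.filter (fun k : Fin 4 => blk (t, k) ∈ G)).card % 2 = 1

instance (G : Finset GolayPt) : Decidable (OddMeets G) := by
  unfold OddMeets
  infer_instance

theorem conn_odd_of_good {x : GolayPt → ℤ} (hx : x ∈ leechLattice) (hev : ∀ i, x i % 2 = 0)
    {G : Finset GolayPt} (hG : OddMeets G) {σ : Equiv.Perm GolayPt} (hσ : σ ∈ M24)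
    (hσG : σ • cls 2 x = G) : ∃ z, Conn x z ∧ z none % 2 = 1 ∧ sqNorm z = sqNorm x := by
  have h1 := conn_signedPerm hσ empty_mem_GS hx
  rw [signedPerm_empty] at h1
  set y : GolayPt → ℤ := fun i => x (σ.symm i) with hy
  have hyc : cls 2 y = G := by
    rw [hy, cls_comp_perm σ.symm 2 x, ← hσG]
    rfl
  have hyev : ∀ i, y i % 2 = 0 := fun i => hev _
  have h2 := conn_xi h1.mem_right
  refine ⟨xiFun y, h1.trans h2, xiFun_odd_of_meets hyev (by rw [hyc]; exact hG) none, ?_⟩
  rw [sqNorm_xiFun h1.mem_right]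
  have := sqNorm_signedPerm σ ∅ x
  rw [signedPerm_empty] at this
  exact this

/-- the reference dodecad -/
def goodDodecad : Finset GolayPt := cw 14

theorem goodDodecad_mem : goodDodecad ∈ dodecads := by
  refine ⟨(mem_supports_golayCode_iff _).mpr ⟨14, by norm_num, rfl⟩, ?_⟩
  unfold goodDodecad
  rw [cw_card]
  decide

theorem goodDodecad_odd : OddMeets goodDodecad := by decide

theorem goodOctad_oddMeets : OddMeets goodOctad := goodOctad_odd

/-! ### vectors of norm 48 -/

theorem conn_odd_of_even48 {x : GolayPt → ℤ} (hx : x ∈ leechLattice) (hev : x none % 2 = 0)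
    (hn : sqNorm x = 48) : ∃ z, Conn x z ∧ z none % 2 = 1 ∧ sqNorm z = 48 := by
  have hxs := (mem_leechLattice_iff x).mp hx
  have hp := parity_of_mem_leechSet hxs
  have hev' : ∀ i, x i % 2 = 0 := fun i => by rw [hp i, hev]
  have hGS : cls 2 x ∈ GS := by
    obtain ⟨m, _, _, hcls⟩ := hxs
    exact hcls 2
  rcases norm48_cases hxs hn with h | h | h | h
  · have hc := (params_of_mem_evenShape h).1
    obtain ⟨σ, hσ, hσG⟩ := helper2.Golay.dodecads_transitive ⟨hGS, hc⟩ goodDodecad_mem
    obtain ⟨z, hz1, hz2, hz3⟩ := conn_odd_of_good hx hev' goodDodecad_odd hσ hσG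
    exact ⟨z, hz1, hz2, by rw [hz3, hn]⟩
  · have hc := (params_of_mem_evenShape h).1
    obtain ⟨σ, hσ, hσG⟩ := helper2.Golay.octads_transitive ⟨hGS, hc⟩ goodOctad_mem
    obtain ⟨z, hz1, hz2, hz3⟩ := conn_odd_of_good hx hev' goodOctad_oddMeets hσ hσG
    exact ⟨z, hz1, hz2, by rw [hz3, hn]⟩
  · have := odd_of_mem_oddShape h
    omega
  · have := odd_of_mem_oddShape h
    omega

/-- the vector `(5, 1, ..., 1)` -/
def u5 : GolayPt → ℤ := base35 ∅ {none}

theorem u5_mem : u5 ∈ leechLattice := by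
  rw [mem_leechLattice_iff]
  exact base35_mem_leechSet (Finset.disjoint_empty_left _) (by simp)

/-- the reference triple -/
def T3ref : Finset GolayPt := {some 0, some 1, some 2}

theorem xiFun_u5 : xiFun u5 = -base35 T3ref ∅ := by decide

theorem exists_sc_base35 {a c : ℕ} {x : GolayPt → ℤ} (hx : x ∈ oddShape a c) :
    ∃ b ∈ GS, ∃ T3 T5 : Finset GolayPt, Disjoint T3 T5 ∧ T3.card = a ∧ T5.card = c ∧
      x = sc b (base35 T3 T5) := by
  unfold oddShape at hx
  rw [mem_oddFam_iff] at hx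
  obtain ⟨b, hb, y, ⟨T3, T5, hd, h3, h5, rfl⟩, rfl⟩ := hx
  exact ⟨b, hb, T3, T5, hd, h3, h5, rfl⟩

theorem conn_u5_of_odd48 {x : GolayPt → ℤ} (hx : x ∈ leechLattice) (hodd : x none % 2 = 1)
    (hn : sqNorm x = 48) : Conn u5 x := by
  have hxs := (mem_leechLattice_iff x).mp hx
  have hsh : x ∈ oddShape 3 0 ∨ x ∈ oddShape 0 1 := by
    rcases norm48_cases hxs hn with h | h | h | h
    · have := even_of_mem_evenShape h
      omega
    · have := even_of_mem_evenShape h
      omega
    · exact Or.inl h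
    · exact Or.inr h
  rcases hsh with h | h
  · obtain ⟨b, hb, T3, T5, hd, h3, h5, rfl⟩ := exists_sc_base35 h
    rw [Finset.card_eq_zero] at h5
    subst h5
    have hT : T3ref.card = 3 := by decide
    obtain ⟨σ, hσ, hσT⟩ := m24_subset_transitive (by norm_num) hT h3
    have c1 := conn_xi u5_mem
    rw [xiFun_u5] at c1
    have c2 := conn_neg c1.mem_right
    rw [neg_neg] at c2
    have c3 := conn_base35_smul hσ c2.mem_right
    rw [hσT, Finset.smul_finset_empty] at c3
    have c4 := conn_sc hb c3.mem_right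
    exact ((c1.trans c2).trans c3).trans c4
  · obtain ⟨b, hb, T3, T5, hd, h3, h5, rfl⟩ := exists_sc_base35 h
    rw [Finset.card_eq_zero] at h3
    subst h3
    have hT : ({none} : Finset GolayPt).card = 1 := Finset.card_singleton _
    obtain ⟨σ, hσ, hσT⟩ := m24_subset_transitive (by norm_num) hT h5
    have c3 := conn_base35_smul (T3 := ∅) (T5 := {none}) hσ u5_mem
    rw [hσT, Finset.smul_finset_empty] at c3
    have c4 := conn_sc hb c3.mem_right
    exact c3.trans c4

theorem conn_u5_of_48 {x : GolayPt → ℤ} (hx : x ∈ leechLattice) (hn : sqNorm x = 48) :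
    Conn u5 x := by
  rcases Int.emod_two_eq_zero_or_one (x none) with hev | hodd
  · obtain ⟨z, hz, hzodd, hzn⟩ := conn_odd_of_even48 hx hev hn
    exact (conn_u5_of_odd48 hz.mem_right hzodd hzn).trans hz.symm
  · exact conn_u5_of_odd48 hx hodd hn

/-- the automorphism group is transitive on the vectors of norm 48 -/
theorem co0_transitive_48 (v w : leechLattice) (hv : sqNorm (v : GolayPt → ℤ) = 48)
    (hw : sqNorm (w : GolayPt → ℤ) = 48) : ∃ g : Co0, g • v = w :=
  ((conn_u5_of_48 v.2 hv).symm.trans (conn_u5_of_48 w.2 hw)).exists_smul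

end Cfsg.Agent.helper27
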