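import Mathlib
import Cfsg.Agent.Lib_helper27_Trans2

set_option autoImplicit false

namespace Cfsg.Agent.helper27

open Cfsg
open scoped Pointwise

/-- congruence modulo twice the lattice -/
def Cong (x y : GolayPt → ℤ) : Prop := ∃ z ∈ leechLattice, x - y = 2 • z

/-- equivalence under the automorphism group up to congruence modulo twice the lattice -/
def EQ (x y : GolayPt → ℤ) : Prop :=
  ∃ (hx : x ∈ leechLattice) (g : Equiv.Perm leechLattice), g ∈ Co0 ∧
    Cong ((g ⟨x, hx⟩ : leechLattice) : GolayPt → ℤ) y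

theorem EQ.of_conn {x y : GolayPt → ℤ} (h : Conn x y) : EQ x y := by
  obtain ⟨hx, g, hg, rfl⟩ := h
  exact ⟨hx, g, hg, 0, leechLattice.zero_mem, by simp⟩

theorem EQ.of_cong {x y : GolayPt → ℤ} (hx : x ∈ leechLattice) (h : Cong x y) : EQ x y :=
  ⟨hx, 1, Co0.one_mem, h⟩

theorem EQ.mem_left {x y : GolayPt → ℤ} (h : EQ x y) : x ∈ leechLattice := h.1

theorem EQ.mem_right {x y : GolayPt → ℤ} (h : EQ x y) : y ∈ leechLattice := by
  obtain ⟨hx, g, _, z, hz, he⟩ := h
  have : y = (g ⟨x, hx⟩ : leechLattice).1 - 2 • z := by rw [← he]; abel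
  rw [this]
  exact leechLattice.sub_mem (g ⟨x, hx⟩).2 (leechLattice.nsmul_mem hz 2)

theorem co0_map_two_smul {g : Equiv.Perm leechLattice} (hg : g ∈ Co0) (z : leechLattice) :
    g (2 • z) = 2 • g z := by
  rw [two_smul, hg.1, two_smul]

theorem co0_map_sub {g : Equiv.Perm leechLattice} (hg : g ∈ Co0) (a b : leechLattice) :
    g (a - b) = g a - g b := by
  have h := hg.1 (a - b) b
  rw [sub_add_cancel] at h
  rw [h, add_sub_cancel_right]

theorem EQ.trans {x y w : GolayPt → ℤ} (h1 : EQ x y) (h2 : EQ y w) : EQ x w := by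
  obtain ⟨hx, g, hg, z, hz, he⟩ := h1
  obtain ⟨hy, g', hg', z', hz', he'⟩ := h2
  refine ⟨hx, g' * g, Co0.mul_mem hg' hg, (g' ⟨z, hz⟩ : leechLattice).1 + z',
    leechLattice.add_mem (g' ⟨z, hz⟩).2 hz', ?_⟩
  have h3 : g ⟨x, hx⟩ - (⟨y, hy⟩ : leechLattice) = 2 • (⟨z, hz⟩ : leechLattice) :=
    Subtype.ext he
  have h4 : g' (g ⟨x, hx⟩) - g' ⟨y, hy⟩ = 2 • g' ⟨z, hz⟩ := by
    rw [← co0_map_sub hg', h3, co0_map_two_smul hg']
  have h5 : ((g' (g ⟨x, hx⟩) : leechLattice) : GolayPt → ℤ) - (g' ⟨y, hy⟩ : leechLattice).1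
      = 2 • (g' ⟨z, hz⟩ : leechLattice).1 := congrArg Subtype.val h4
  rw [Equiv.Perm.mul_apply, smul_add, ← h5, ← he']
  abel

theorem EQ.symm {x y : GolayPt → ℤ} (h : EQ x y) : EQ y x := by
  have hy := h.mem_right
  obtain ⟨hx, g, hg, z, hz, he⟩ := h
  have hg' := Co0.inv_mem hg
  refine ⟨hy, g⁻¹, hg', -(g⁻¹ ⟨z, hz⟩ : leechLattice).1,
    leechLattice.neg_mem (g⁻¹ ⟨z, hz⟩).2, ?_⟩
  have h3 : g ⟨x, hx⟩ - (⟨y, hy⟩ : leechLattice) = 2 • (⟨z, hz⟩ : leechLattice) :=
    Subtype.ext he
  have h4 : g⁻¹ (g ⟨x, hx⟩) - g⁻¹ ⟨y, hy⟩ = 2 • g⁻¹ ⟨z, hz⟩ := by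
    rw [← co0_map_sub hg', h3, co0_map_two_smul hg']
  have h6 : g⁻¹ (g ⟨x, hx⟩) = ⟨x, hx⟩ := by simp
  rw [h6] at h4
  have h5 : x - (g⁻¹ ⟨y, hy⟩ : leechLattice).1 = 2 • (g⁻¹ ⟨z, hz⟩ : leechLattice).1 :=
    congrArg Subtype.val h4
  rw [smul_neg, ← h5]
  abel

theorem EQ.exists_smul {v w : leechLattice} (h : EQ v.1 w.1) :
    ∃ g : Co0, ∃ z ∈ leechLattice, ((g • v : leechLattice) : GolayPt → ℤ) - w.1 = 2 • z := by
  obtain ⟨hx, g, hg, z, hz, he⟩ := h
  exact ⟨⟨g, hg⟩, z, hz, he⟩

/-! ### the odd vectors of norm 64 -/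

/-- the reference five points -/
def T5ref : Finset GolayPt := {some 0, some 1, some 2, some 3, some 4}

/-- the reference odd vector of norm 64 -/
def g0 : GolayPt → ℤ := base35 T5ref ∅

theorem g0_mem : g0 ∈ leechLattice := by
  rw [mem_leechLattice_iff]
  exact base35_mem_leechSet (Finset.disjoint_empty_right _) (by decide)

theorem conn_g0_of_shape50 {x : GolayPt → ℤ} (h : x ∈ oddShape 5 0) : Conn g0 x := by
  obtain ⟨b, hb, T3, T5, hd, h3, h5, rfl⟩ := exists_sc_base35 h
  rw [Finset.card_eq_zero] at h5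
  subst h5
  have hT : T5ref.card = 5 := by decide
  obtain ⟨σ, hσ, hσT⟩ := m24_subset_transitive (by norm_num) hT h3
  have c3 := conn_base35_smul (T3 := T5ref) (T5 := ∅) hσ g0_mem
  rw [hσT, Finset.smul_finset_empty] at c3
  exact c3.trans (conn_sc hb c3.mem_right)

theorem sc_sub (b : Finset GolayPt) (x y : GolayPt → ℤ) : sc b (x - y) = sc b x - sc b y := by
  funext i
  unfold sc
  simp only [Pi.sub_apply]
  split_ifs <;> ring

theorem sc_two_smul (b : Finset GolayPt) (z : GolayPt → ℤ) : sc b (2 • z) = 2 • sc b z := by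
  funext i
  unfold sc
  simp only [Pi.smul_apply]
  split_ifs <;> simp

theorem Cong.signchange {x y : GolayPt → ℤ} (h : Cong x y) {b : Finset GolayPt} (hb : b ∈ GS) :
    Cong (sc b x) (sc b y) := by
  obtain ⟨z, hz, he⟩ := h
  refine ⟨sc b z, ?_, ?_⟩
  · rw [mem_leechLattice_iff] at hz ⊢
    exact sc_mem_leechSet hb hz
  · rw [← sc_sub, he, sc_two_smul]

/-- an odd vector of shape `(5, 3², 1²¹)` is congruent to minus one of shape `(3⁵, 1¹⁹)` -/
theorem cong_base35_21 {T3 T5 : Finset GolayPt} (hd : Disjoint T3 T5) (h3 : T3.card = 2)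
    (h5 : T5.card = 1) :
    ∃ F : Finset GolayPt, F.card = 5 ∧ Cong (base35 T3 T5) (-base35 F ∅) := by
  classical
  obtain ⟨j, rfl⟩ := Finset.card_eq_one.mp h5
  have hj : j ∉ T3 := fun h => (Finset.disjoint_left.mp hd) h (Finset.mem_singleton_self j)
  have hc : (T3 ∪ {j}).card = 3 := by
    rw [Finset.card_union_of_disjoint hd, h3, Finset.card_singleton]
  obtain ⟨S, hS1, hS2⟩ := Finset.exists_superset_card_eq (s := T3 ∪ {j}) (n := 5)
    (by rw [hc]; norm_num) (by rw [card_golayPt]; norm_num)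
  obtain ⟨o, ⟨ho, hSo⟩, _⟩ := octads_steiner.2 S hS2
  have hsub : T3 ∪ {j} ⊆ o := hS1.trans hSo
  have hjo : j ∈ o := hsub (Finset.mem_union_right _ (Finset.mem_singleton_self j))
  have hT3o : T3 ⊆ o := fun i hi => hsub (Finset.mem_union_left _ hi)
  refine ⟨o \ (T3 ∪ {j}), ?_, vC j o, ?_, ?_⟩
  · rw [Finset.card_sdiff_of_subset hsub, hc, ho.2]
  · rw [mem_leechLattice_iff]
    exact vC_mem_leechSet j ho.1
  · funext i
    simp only [Pi.sub_apply, Pi.neg_apply, Pi.smul_apply, two_nsmul]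
    unfold base35 vC
    simp only [Finset.notMem_empty, if_false, Finset.mem_singleton, Finset.mem_sdiff,
      Finset.mem_union]
    by_cases hij : i = j
    · subst hij
      simp [hjo, hj]
    · by_cases hi3 : i ∈ T3
      · have hio : i ∈ o := hT3o hi3
        simp [hij, hi3, hio]
      · by_cases hio : i ∈ o
        · simp [hij, hi3, hio]
        · simp [hij, hi3, hio]

theorem EQ_g0_of_shape21 {x : GolayPt → ℤ} (h : x ∈ oddShape 2 1) : EQ g0 x := by
  have hxL : x ∈ leechLattice :=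
    (mem_leechLattice_iff x).mpr (mem_leechSet_of_mem_oddShape (by norm_num) h)
  obtain ⟨b, hb, T3, T5, hd, h3, h5, rfl⟩ := exists_sc_base35 h
  obtain ⟨F, hF, hc⟩ := cong_base35_21 hd h3 h5
  have hc' := hc.signchange hb
  have e1 : EQ (sc b (base35 T3 T5)) (sc b (-base35 F ∅)) := EQ.of_cong hxL hc'
  -- the right-hand side is of shape (3⁵, 1¹⁹)
  have hFm : base35 F ∅ ∈ leechLattice := by
    rw [mem_leechLattice_iff]
    exact base35_mem_leechSet (Finset.disjoint_empty_right _) (by rw [hF]; rfl)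
  have hsh : base35 F ∅ ∈ oddShape 5 0 := by
    unfold oddShape
    rw [mem_oddFam_iff]
    refine ⟨∅, empty_mem_GS, base35 F ∅, ⟨F, ∅, Finset.disjoint_empty_right _, hF, rfl, rfl⟩, ?_⟩
    funext i
    unfold sc
    simp
  have c1 := conn_g0_of_shape50 hsh
  have c2 := conn_neg c1.mem_right
  have c3 := conn_sc hb c2.mem_right
  exact (EQ.of_conn ((c1.trans c2).trans c3)).trans e1.symm

theorem EQ_g0_of_odd64 {x : GolayPt → ℤ} (hx : x ∈ leechLattice) (hodd : x none % 2 = 1)
    (hn : sqNorm x = 64) : EQ g0 x := by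
  have hxs := (mem_leechLattice_iff x).mp hx
  rcases norm64_cases hxs hn with h | h | h | h | h | h | h | h
  · have := even_of_mem_stdCross h
    omega
  · have := even_of_mem_evenShape h
    omega
  · have := even_of_mem_evenShape h
    omega
  · have := even_of_mem_evenShape h
    omega
  · have := even_of_mem_evenShape h
    omega
  · have := even_of_mem_evenShape h
    omega
  · exact EQ.of_conn (conn_g0_of_shape50 h)
  · exact EQ_g0_of_shape21 h

/-! ### the even vectors of norm 64 -/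

theorem goodOctad_compl_odd : OddMeets goodOctadᶜ := by decide

/-- even vectors of norm 64 with a coordinate `2 mod 4` are connected to odd vectors -/
theorem conn_odd_of_even64 {x : GolayPt → ℤ} (hx : x ∈ leechLattice) (hev : x none % 2 = 0)
    (hq : ∃ q, x q % 4 = 2) (hn : sqNorm x = 64) :
    ∃ z, Conn x z ∧ z none % 2 = 1 ∧ sqNorm z = 64 := by
  have hxs := (mem_leechLattice_iff x).mp hx
  have hp := parity_of_mem_leechSet hxs
  have hev' : ∀ i, x i % 2 = 0 := fun i => by rw [hp i, hev]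
  have hGS : cls 2 x ∈ GS := by
    obtain ⟨m, _, _, hcls⟩ := hxs
    exact hcls 2
  obtain ⟨q, hq⟩ := hq
  have hpos : 0 < (cls 2 x).card := Finset.card_pos.mpr ⟨q, by rw [mem_cls]; exact hq⟩
  have oct : (cls 2 x).card = 8 → ∃ z, Conn x z ∧ z none % 2 = 1 ∧ sqNorm z = 64 := by
    intro hc
    obtain ⟨σ, hσ, hσG⟩ := helper2.Golay.octads_transitive ⟨hGS, hc⟩ goodOctad_mem
    obtain ⟨z, hz1, hz2, hz3⟩ := conn_odd_of_good hx hev' goodOctad_oddMeets hσ hσG
    exact ⟨z, hz1, hz2, by rw [hz3, hn]⟩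
  rcases norm64_cases hxs hn with h | h | h | h | h | h | h | h
  · obtain ⟨k, hk⟩ := sq_of_mem_stdCross h
    have h1 := sq_le_sqNorm x q
    have h2 : x = Pi.single k (x k) := by
      obtain ⟨i, s, _, rfl⟩ := h
      funext p
      by_cases hpk : p = k
      · subst hpk; simp
      · rw [Pi.single_apply, Pi.single_apply] at *
        by_cases hpi : p = i
        · subst hpi
          rw [if_neg (fun h => hpk h.symm)] at hk
          simp at hk
        · simp [hpi, hpk]
    exfalso
    by_cases hqk : q = k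
    · subst hqk
      rcases eq_of_sq_eq_sixtyfour _ hk with h' | h' <;> omega
    · rw [h2, Pi.single_apply, if_neg hqk] at hq
      omega
  · have hc := (params_of_mem_evenShape h).1
    omega
  · exact oct (params_of_mem_evenShape h).1
  · exact oct (params_of_mem_evenShape h).1
  · have hc := (params_of_mem_evenShape h).1
    obtain ⟨σ, hσ, hσG⟩ := helper2.Golay.dodecads_transitive ⟨hGS, hc⟩ goodDodecad_mem
    obtain ⟨z, hz1, hz2, hz3⟩ := conn_odd_of_good hx hev' goodDodecad_odd hσ hσG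
    exact ⟨z, hz1, hz2, by rw [hz3, hn]⟩
  · have hc := (params_of_mem_evenShape h).1
    have hco : (cls 2 x)ᶜ ∈ octads := by
      refine ⟨compl_mem_supports hGS, ?_⟩
      rw [Finset.card_compl, card_golayPt, hc]
    obtain ⟨σ, hσ, hσG⟩ := helper2.Golay.octads_transitive hco goodOctad_mem
    have hσG' : σ • cls 2 x = goodOctadᶜ := by
      rw [← hσG, helper2.Golay.smul_compl, compl_compl]
    obtain ⟨z, hz1, hz2, hz3⟩ := conn_odd_of_good hx hev' goodOctad_compl_odd hσ hσG'
    exact ⟨z, hz1, hz2, by rw [hz3, hn]⟩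
  · have := odd_of_mem_oddShape h
    omega
  · have := odd_of_mem_oddShape h
    omega

theorem xiFun_even_of_mod_four {y : GolayPt → ℤ} (hy4 : ∀ p, y p % 4 = 0) (p : GolayPt) :
    xiFun y p % 2 = 0 := by
  obtain ⟨⟨t, k⟩, rfl⟩ := blk.surjective p
  unfold xiFun
  rw [Dmap_blk]
  have hS : (4 : ℤ) ∣ tetSum y t := by
    unfold tetSum
    exact Finset.dvd_sum (fun k _ => Int.dvd_of_emod_eq_zero (hy4 _))
  have h3 := hy4 (blk (t, k))
  have hs : sg t = 1 ∨ sg t = -1 := by
    unfold sg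
    split_ifs
    · right; rfl
    · left; rfl
  generalize tetSum y t = S at hS
  generalize y (blk (t, k)) = a at h3
  rcases hs with hs | hs <;> rw [hs] <;> omega

/-- the reference four points: three in one tetrad, one in another -/
def F0ref : Finset GolayPt := {blk (1, 0), blk (1, 1), blk (1, 2), blk (2, 0)}

/-- vectors of shape `(4⁴, 0²⁰)` are connected to even vectors with a coordinate `2 mod 4` -/
theorem conn_of_shape004 {x : GolayPt → ℤ} (h : x ∈ evenShape 0 0 4) :
    ∃ z, Conn x z ∧ z none % 2 = 0 ∧ (∃ q, z q % 4 = 2) ∧ sqNorm z = 64 := by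
  have hm := (mem_evenShape_iff 0 0 4 x).mp h
  obtain ⟨hxs, hsq, hc, _, hZ⟩ := hm
  have hx : x ∈ leechLattice := (mem_leechLattice_iff x).mpr hxs
  have hn : sqNorm x = 64 := by rw [sqNorm_of_mem_evenShape h]; norm_num
  rw [Finset.card_eq_zero] at hc
  have hval : ∀ i, (i ∈ Zof x → (x i = 4 ∨ x i = -4)) ∧ (i ∉ Zof x → x i = 0) := by
    intro i
    have hi2 : ¬ x i % 4 = 2 := by
      intro h2
      have : i ∈ cls 2 x := by rw [mem_cls]; exact h2
      rw [hc] at this
      exact Finset.notMem_empty i this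
    constructor
    · intro hi
      rw [mem_Zof] at hi
      exact eq_of_sq_eq_sixteen _ hi
    · intro hi
      rw [mem_Zof] at hi
      rcases hsq i with h' | h' | h' | h'
      · exact pow_eq_zero_iff (by norm_num) |>.mp h'
      · rcases eq_of_sq_eq_four _ h' with h'' | h'' <;> omega
      · exact absurd h' hi
      · rcases eq_of_sq_eq_thirtysix _ h' with h'' | h'' <;> omega
  have hF0 : F0ref.card = 4 := by decide
  obtain ⟨σ, hσ, hσF⟩ := m24_subset_transitive (by norm_num) hZ hF0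
  have h1 := conn_signedPerm hσ empty_mem_GS hx
  rw [signedPerm_empty] at h1
  set y : GolayPt → ℤ := fun p => x (σ.symm p) with hy
  have hmemF : ∀ p, σ.symm p ∈ Zof x ↔ p ∈ F0ref := by
    intro p
    rw [← hσF, ← Finset.inv_smul_mem_iff]
    rfl
  have hy4 : ∀ p, y p % 4 = 0 := by
    intro p
    by_cases hp : σ.symm p ∈ Zof x
    · rcases (hval _).1 hp with h' | h' <;> rw [hy] <;> simp only [h'] <;> rfl
    · rw [hy]
      simp only [(hval _).2 hp]
      rfl
  have hy0 : ∀ p, p ∉ F0ref → y p = 0 := by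
    intro p hp
    exact (hval _).2 (fun h' => hp ((hmemF p).mp h'))
  have hy1 : y (blk (2, 0)) = 4 ∨ y (blk (2, 0)) = -4 :=
    (hval _).1 ((hmemF _).mpr (by decide))
  have h2 := conn_xi h1.mem_right
  refine ⟨xiFun y, h1.trans h2, xiFun_even_of_mod_four hy4 none, ⟨blk (2, 1), ?_⟩, ?_⟩
  · unfold xiFun
    rw [Dmap_blk]
    have hS : tetSum y 2 = y (blk (2, 0)) := by
      unfold tetSum
      rw [Fin.sum_univ_four, hy0 (blk (2, 1)) (by decide), hy0 (blk (2, 2)) (by decide),
        hy0 (blk (2, 3)) (by decide)]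
      ring
    rw [hS, hy0 (blk (2, 1)) (by decide)]
    have : sg 2 = 1 := by decide
    rw [this]
    rcases hy1 with h' | h' <;> rw [h'] <;> decide
  · rw [sqNorm_xiFun h1.mem_right]
    have := sqNorm_signedPerm σ ∅ x
    rw [signedPerm_empty] at this
    rw [this, hn]

theorem xiFun_single8 : xiFun (Pi.single (blk (1, 0)) 8) ∈ evenShape 0 0 4 := by
  rw [mem_evenShape_iff]
  refine ⟨?_, by decide, by decide, by decide, by decide⟩
  rw [← mem_leechLattice_iff]
  exact xiFun_mem (single_mem_leechLattice _ rfl)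

theorem conn_shape004_of_stdCross {x : GolayPt → ℤ} (h : x ∈ stdCross) :
    ∃ z, Conn x z ∧ z ∈ evenShape 0 0 4 := by
  obtain ⟨i, s, hs, rfl⟩ := h
  have hT : ({i} : Finset GolayPt).card = 1 := Finset.card_singleton _
  have hT' : ({blk (1, 0)} : Finset GolayPt).card = 1 := Finset.card_singleton _
  obtain ⟨σ, hσ, hσT⟩ := m24_subset_transitive (by norm_num) hT hT'
  have hσi : σ i = blk (1, 0) := by
    have : σ • i ∈ σ • ({i} : Finset GolayPt) :=
      Finset.smul_mem_smul_finset (Finset.mem_singleton_self i)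
    rw [hσT, Finset.mem_singleton] at this
    exact this
  have hx : (Pi.single i s : GolayPt → ℤ) ∈ leechLattice :=
    single_mem_leechLattice i (by rcases hs with rfl | rfl <;> rfl)
  have h1 := conn_signedPerm hσ empty_mem_GS hx
  have he : signedPerm σ ∅ (Pi.single i s) = Pi.single (blk (1, 0)) s := by
    rw [signedPerm_empty]
    funext p
    rw [Pi.single_apply, Pi.single_apply, ← hσi]
    by_cases hp : p = σ i
    · rw [if_pos hp, if_pos (by rw [hp]; simp)]
    · rw [if_neg hp, if_neg (fun h' => hp (by rw [← h']; simp))]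
  rw [he] at h1
  rcases hs with rfl | rfl
  · exact ⟨_, h1.trans (conn_xi h1.mem_right), xiFun_single8⟩
  · have h2 := conn_neg h1.mem_right
    have h3 : -(Pi.single (blk (1, 0)) (-8) : GolayPt → ℤ) = Pi.single (blk (1, 0)) 8 := by
      rw [← Pi.single_neg]
      simp
    rw [h3] at h2
    exact ⟨_, (h1.trans h2).trans (conn_xi h2.mem_right), xiFun_single8⟩

/-- every lattice vector of norm 64 is equivalent to the reference vector -/
theorem EQ_g0_of_64 {x : GolayPt → ℤ} (hx : x ∈ leechLattice) (hn : sqNorm x = 64) :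
    EQ g0 x := by
  have hxs := (mem_leechLattice_iff x).mp hx
  have hp := parity_of_mem_leechSet hxs
  -- even vectors with a coordinate `2 mod 4`
  have step1 : ∀ z : GolayPt → ℤ, z ∈ leechLattice → z none % 2 = 0 → (∃ q, z q % 4 = 2) →
      sqNorm z = 64 → EQ g0 z := by
    intro z hz hzev hzq hzn
    obtain ⟨w, hw, hwodd, hwn⟩ := conn_odd_of_even64 hz hzev hzq hzn
    exact (EQ_g0_of_odd64 hw.mem_right hwodd hwn).trans (EQ.of_conn hw.symm)
  -- shape (4⁴, 0²⁰)
  have step2 : ∀ z : GolayPt → ℤ, z ∈ evenShape 0 0 4 → EQ g0 z := by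
    intro z hz
    obtain ⟨w, hw, hwev, hwq, hwn⟩ := conn_of_shape004 hz
    exact (step1 w hw.mem_right hwev hwq hwn).trans (EQ.of_conn hw.symm)
  rcases Int.emod_two_eq_zero_or_one (x none) with hev | hodd
  · by_cases hq : ∃ q, x q % 4 = 2
    · exact step1 x hx hev hq hn
    · rcases norm64_cases hxs hn with h | h | h | h | h | h | h | h
      · obtain ⟨w, hw, hw4⟩ := conn_shape004_of_stdCross h
        exact (step2 w hw4).trans (EQ.of_conn hw.symm)
      · exact step2 x h
      all_goals first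
        | (exfalso
           have hc := (params_of_mem_evenShape h).1
           have hne : (cls 2 x).Nonempty := Finset.card_pos.mp (by omega)
           obtain ⟨q, hq'⟩ := hne
           rw [mem_cls] at hq'
           exact hq ⟨q, hq'⟩)
        | (exfalso
           have := odd_of_mem_oddShape h
           omega)
  · exact EQ_g0_of_odd64 hx hodd hn

/-- the automorphism group is transitive on the classes of vectors of norm 64 -/
theorem co0_transitive_crosses (v w : leechLattice) (hv : sqNorm (v : GolayPt → ℤ) = 64)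
    (hw : sqNorm (w : GolayPt → ℤ) = 64) :
    ∃ g : Co0, ∃ z ∈ leechLattice, ((g • v : leechLattice) : GolayPt → ℤ) - w.1 = 2 • z :=
  ((EQ_g0_of_64 v.2 hv).symm.trans (EQ_g0_of_64 w.2 hw)).exists_smul

end Cfsg.Agent.helper27
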