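import Mathlib
import Cfsg.Agent.Lib_helper27_Crosses
import Cfsg.Agent.Lib_helper2_M24c

set_option autoImplicit false

namespace Cfsg.Agent.helper27

open Cfsg
open scoped Pointwise

/-- `8 e_∞` -/
def eInf : GolayPt → ℤ := Pi.single none 8

theorem eInf_mem : eInf ∈ leechLattice := single_mem_leechLattice none rfl

theorem sqNorm_eInf : sqNorm eInf = 64 := by
  unfold eInf
  rw [sqNorm_single]
  norm_num

theorem stdCross_subset_cross : stdCross ⊆ cross eInf := by
  rintro y ⟨i, s, hs, rfl⟩
  refine ⟨single_mem_leechLattice i (by rcases hs with rfl | rfl <;> rfl), ?_, ?_⟩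
  · rw [sqNorm_eInf, sqNorm_single]
    rcases hs with rfl | rfl <;> norm_num
  · refine ⟨Pi.single none 4 - Pi.single i (s / 2), ?_, ?_⟩
    · rw [mem_leechLattice_iff]
      by_cases hi : i = none
      · subst hi
        rw [← Pi.single_sub]
        rw [← mem_leechLattice_iff]
        apply single_mem_leechLattice
        rcases hs with rfl | rfl <;> rfl
      · have := pair4_mem_leechSet none i (a := 4) (b := -(s / 2)) rfl
          (by rcases hs with rfl | rfl <;> rfl) (by rcases hs with rfl | rfl <;> rfl)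
        unfold pair4 at this
        rw [Pi.single_neg, ← sub_eq_add_neg] at this
        exact this
    · unfold eInf
      rw [smul_sub, ← Pi.single_smul, ← Pi.single_smul]
      rcases hs with rfl | rfl <;> norm_num

theorem cross_eInf : cross eInf = stdCross := by
  have hfin : (cross eInf).Finite :=
    Set.finite_of_ncard_ne_zero (by rw [cross_ncard eInf eInf_mem sqNorm_eInf]; norm_num)
  refine (Set.eq_of_subset_of_ncard_le stdCross_subset_cross ?_ hfin).symm
  rw [cross_ncard eInf eInf_mem sqNorm_eInf, stdCross_ncard]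

theorem mem_stdCross_of_cong {y : GolayPt → ℤ} (hy : y ∈ leechLattice) (hn : sqNorm y = 64)
    (hc : Cong y eInf) : y ∈ stdCross := by
  rw [← cross_eInf]
  obtain ⟨z, hz, he⟩ := hc
  refine ⟨hy, by rw [hn, sqNorm_eInf], -z, leechLattice.neg_mem hz, ?_⟩
  rw [smul_neg, ← he]
  abel

/-- the automorphism group is transitive on the vectors of norm 64 -/
theorem conn_eInf_of_64 {x : GolayPt → ℤ} (hx : x ∈ leechLattice) (hn : sqNorm x = 64) :
    Conn x eInf := by
  have h1 : EQ x eInf := (EQ_g0_of_64 hx hn).symm.trans (EQ_g0_of_64 eInf_mem sqNorm_eInf)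
  obtain ⟨hx', g, hg, hc⟩ := h1
  have c1 : Conn x (g ⟨x, hx'⟩ : leechLattice).1 := ⟨hx', g, hg, rfl⟩
  have hn' : sqNorm (g ⟨x, hx'⟩ : leechLattice).1 = 64 := by rw [hg.2, hn]
  have hs := mem_stdCross_of_cong (g ⟨x, hx'⟩).2 hn' hc
  obtain ⟨i, s, hs', he⟩ := hs
  rw [he] at c1
  have hT : ({i} : Finset GolayPt).card = 1 := Finset.card_singleton _
  have hT' : ({none} : Finset GolayPt).card = 1 := Finset.card_singleton _
  obtain ⟨σ, hσ, hσT⟩ := m24_subset_transitive (by norm_num) hT hT'
  have hσi : σ i = none := by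
    have : σ • i ∈ σ • ({i} : Finset GolayPt) :=
      Finset.smul_mem_smul_finset (Finset.mem_singleton_self i)
    rw [hσT, Finset.mem_singleton] at this
    exact this
  have c2 := conn_signedPerm hσ empty_mem_GS c1.mem_right
  have he2 : signedPerm σ ∅ (Pi.single i s) = Pi.single none s := by
    rw [signedPerm_single, hσi]
    simp
  rw [he2] at c2
  rcases hs' with rfl | rfl
  · exact c1.trans c2
  · have c3 := conn_neg c2.mem_right
    have h3 : -(Pi.single none (-8) : GolayPt → ℤ) = eInf := by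
      unfold eInf
      rw [← Pi.single_neg]
      simp
    rw [h3] at c3
    exact (c1.trans c2).trans c3

/-! ### the order of the automorphism group -/

/-- `8 e_∞` as a lattice vector -/
def eInfL : leechLattice := ⟨eInf, eInf_mem⟩

theorem orbit_eInfL : MulAction.orbit Co0 eInfL = {v : leechLattice | sqNorm v.1 = 64} := by
  ext v
  rw [MulAction.mem_orbit_iff, Set.mem_ofPred_eq]
  constructor
  · rintro ⟨g, rfl⟩
    have := g.2.2 eInfL
    rw [show ((g • eInfL : leechLattice) : GolayPt → ℤ) = (g.1 eInfL : leechLattice).1 from rfl,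
      this]
    exact sqNorm_eInf
  · intro hn
    obtain ⟨g, hg⟩ := (conn_eInf_of_64 v.2 hn).exists_smul (v := v) (w := eInfL)
    refine ⟨g⁻¹, ?_⟩
    rw [← hg, inv_smul_smul]

theorem card_orbit_eInfL : Nat.card (MulAction.orbit Co0 eInfL) = 398034000 := by
  rw [orbit_eInfL, Nat.card_coe_set_eq, ← norm64_ncard]
  have : {x : GolayPt → ℤ | x ∈ leechLattice ∧ sqNorm x = 64}
      = Subtype.val '' {v : leechLattice | sqNorm v.1 = 64} := by
    ext x
    constructor
    · rintro ⟨hx, hn⟩
      exact ⟨⟨x, hx⟩, hn, rfl⟩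
    · rintro ⟨v, hn, rfl⟩
      exact ⟨v.2, hn⟩
  rw [this, Set.ncard_image_of_injective _ Subtype.val_injective]

theorem monoPerm_injective {σ σ' : Equiv.Perm GolayPt} {hσ : σ ∈ M24} {hσ' : σ' ∈ M24}
    {c c' : Finset GolayPt} {hc : c ∈ GS} {hc' : c' ∈ GS}
    (heq : monoPerm σ hσ c hc = monoPerm σ' hσ' c' hc') : σ = σ' ∧ c = c' := by
  have h1 : ∀ x : leechLattice, signedPerm σ c x.1 = signedPerm σ' c' x.1 := by
    intro x
    have h2 := congrArg (fun t : Equiv.Perm leechLattice => ((t x : leechLattice) : GolayPt → ℤ)) heq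
    exact h2
  have h3 : ∀ i, σ i = σ' i ∧ (σ i ∈ c ↔ σ i ∈ c') := by
    intro i
    have h4 := h1 (e8 i)
    have h5 : (e8 i).1 = Pi.single i 8 := rfl
    rw [h5, signedPerm_single, signedPerm_single] at h4
    have h6 := congrFun h4 (σ i)
    rw [Pi.single_apply, Pi.single_apply, if_pos rfl] at h6
    have h7 : σ i = σ' i := by
      by_contra hne
      rw [if_neg hne] at h6
      split_ifs at h6 <;> omega
    refine ⟨h7, ?_⟩
    rw [if_pos h7, ← h7] at h6
    by_cases ha : σ i ∈ c <;> by_cases hb : σ i ∈ c' <;> simp [ha, hb] at h6 ⊢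
  have hσσ : σ = σ' := Equiv.ext (fun i => (h3 i).1)
  have hcc : c = c' := by
    ext j
    have := (h3 (σ.symm j)).2
    rwa [Equiv.apply_symm_apply] at this
  exact ⟨hσσ, hcc⟩

theorem card_GS_avoiding : Nat.card {c : GS // (none : GolayPt) ∉ c.1} = 2048 := by
  classical
  have : Finite GS := Nat.finite_of_card_ne_zero (by rw [GS_natCard]; norm_num)
  let _ : Fintype GS := Fintype.ofFinite _
  have e : {c : GS // (none : GolayPt) ∉ c.1} ≃ {c : GS // ¬ (none : GolayPt) ∉ c.1} :=
    { toFun := fun c => ⟨⟨c.1.1ᶜ, compl_mem_supports c.1.2⟩, by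
        simp only [Finset.mem_compl, not_not]
        exact c.2⟩
      invFun := fun c => ⟨⟨c.1.1ᶜ, compl_mem_supports c.1.2⟩, by
        simp only [Finset.mem_compl, not_not]
        exact not_not.mp c.2⟩
      left_inv := fun c => by
        apply Subtype.ext
        apply Subtype.ext
        simp
      right_inv := fun c => by
        apply Subtype.ext
        apply Subtype.ext
        simp }
  have h1 := Nat.card_congr e
  have h2 : Fintype.card {c : GS // ¬ (none : GolayPt) ∉ c.1}
      = Fintype.card GS - Fintype.card {c : GS // (none : GolayPt) ∉ c.1} :=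
    Fintype.card_subtype_compl _
  have h3 : Fintype.card {c : GS // (none : GolayPt) ∉ c.1} ≤ Fintype.card GS :=
    Fintype.card_subtype_le _
  rw [Nat.card_eq_fintype_card, Nat.card_eq_fintype_card] at h1
  have h4 : Fintype.card GS = 4096 := by rw [← Nat.card_eq_fintype_card, GS_natCard]
  rw [Nat.card_eq_fintype_card]
  omega

theorem stab_preserves_stdCross (g : Co0) (hg : g • eInfL = eInfL) (v : leechLattice)
    (hv : (v : GolayPt → ℤ) ∈ stdCross) : ((g • v : leechLattice) : GolayPt → ℤ) ∈ stdCross := by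
  obtain ⟨hvL, hvn, z, hz, he⟩ := stdCross_subset_cross hv
  have h3 : eInfL - v = 2 • (⟨z, hz⟩ : leechLattice) := Subtype.ext he
  have h4 : g.1 eInfL - g.1 v = 2 • g.1 ⟨z, hz⟩ := by
    rw [← co0_map_sub g.2, h3, co0_map_two_smul g.2]
  have hg' : g.1 eInfL = eInfL := hg
  rw [hg'] at h4
  have h5 : eInf - (g.1 v : leechLattice).1 = 2 • (g.1 ⟨z, hz⟩ : leechLattice).1 :=
    congrArg Subtype.val h4
  apply mem_stdCross_of_cong (g.1 v).2
  · rw [g.2.2 v, hvn, sqNorm_eInf]
  · refine ⟨-(g.1 ⟨z, hz⟩ : leechLattice).1, leechLattice.neg_mem (g.1 ⟨z, hz⟩).2, ?_⟩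
    rw [smul_neg, ← h5]
    abel

theorem card_stab_eInfL : Nat.card (MulAction.stabilizer Co0 eInfL) = 10200960 * 2048 := by
  let Ψ : (MulAction.stabilizer M24 (none : GolayPt)) × {c : GS // (none : GolayPt) ∉ c.1} →
      MulAction.stabilizer Co0 eInfL := fun p =>
    ⟨⟨monoPerm p.1.1.1 p.1.1.2 p.2.1.1 p.2.1.2, monoPerm_mem_Co0 _ _ _ _⟩, by
      rw [MulAction.mem_stabilizer_iff]
      apply Subtype.ext
      show signedPerm p.1.1.1 p.2.1.1 eInf = eInf
      unfold eInf
      rw [signedPerm_single]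
      have h1 : p.1.1.1 none = none := p.1.2
      rw [h1, if_neg p.2.2]⟩
  have hΨ : Function.Bijective Ψ := by
    constructor
    · rintro ⟨⟨⟨σ, hσ⟩, hσs⟩, ⟨⟨c, hc⟩, hcn⟩⟩ ⟨⟨⟨σ', hσ'⟩, hσs'⟩, ⟨⟨c', hc'⟩, hcn'⟩⟩ heq
      have h1 : monoPerm σ hσ c hc = monoPerm σ' hσ' c' hc' :=
        congrArg (fun t : MulAction.stabilizer Co0 eInfL => t.1.1) heq
      obtain ⟨e1, e2⟩ := monoPerm_injective h1
      subst e1
      subst e2
      rfl
    · rintro ⟨g, hg⟩
      rw [MulAction.mem_stabilizer_iff] at hg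
      obtain ⟨f, ⟨σ, hσ, c, hc, rfl⟩, hf⟩ :=
        cross_stabilizer.1 g (stab_preserves_stdCross g hg)
      have h1 := hf eInfL
      rw [hg] at h1
      have h2 : eInf = signedPerm σ c eInf := h1
      unfold eInf at h2
      rw [signedPerm_single] at h2
      have h3 := congrFun h2 none
      rw [Pi.single_eq_same, Pi.single_apply] at h3
      have h4 : σ none = none := by
        by_contra hne
        rw [if_neg (fun h => hne h.symm)] at h3
        norm_num at h3
      rw [h4, if_pos rfl] at h3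
      have h5 : (none : GolayPt) ∉ c := by
        intro hmem
        rw [if_pos hmem] at h3
        norm_num at h3
      refine ⟨⟨⟨⟨σ, hσ⟩, h4⟩, ⟨⟨c, hc⟩, h5⟩⟩, ?_⟩
      apply Subtype.ext
      apply Subtype.ext
      apply Equiv.ext
      intro v
      apply Subtype.ext
      exact (hf v).symm
  rw [← Nat.card_congr (Equiv.ofBijective Ψ hΨ), Nat.card_prod, helper2.Golay.card_stab_point,
    card_GS_avoiding]

/-- the order of the automorphism group of the Leech lattice -/
theorem card_Co0 : Nat.card Co0 = 8315553613086720000 := by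
  rw [Subgroup.card_eq_card_quotient_mul_card_subgroup (MulAction.stabilizer Co0 eInfL),
    ← Nat.card_congr (MulAction.orbitEquivQuotientStabilizer Co0 eInfL), card_orbit_eInfL,
    card_stab_eInfL]

end Cfsg.Agent.helper27
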