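import Mathlib
import Cfsg.Agent.Lib_helper27_Co0Order

set_option autoImplicit false

namespace Cfsg.Agent.helper27

open Cfsg
open scoped Pointwise

theorem co0_dot {g : Equiv.Perm leechLattice} (hg : g ∈ Co0) (a b : leechLattice) :
    dotInt (g a).1 (g b).1 = dotInt a.1 b.1 := by
  have h1 := hg.2 (a + b)
  rw [hg.1] at h1
  have h2 : ((g a + g b : leechLattice) : GolayPt → ℤ) = (g a).1 + (g b).1 := rfl
  have h3 : ((a + b : leechLattice) : GolayPt → ℤ) = a.1 + b.1 := rfl
  rw [h2, h3, sqNorm_add, sqNorm_add, hg.2, hg.2] at h1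
  omega

theorem dotInt_single_left (i : GolayPt) (s : ℤ) (y : GolayPt → ℤ) :
    dotInt (Pi.single i s) y = s * y i := by
  unfold dotInt
  rw [Finset.sum_eq_single i]
  · rw [Pi.single_eq_same]
  · intro j _ hj
    rw [Pi.single_eq_of_ne hj, zero_mul]
  · intro h
    exact absurd (Finset.mem_univ i) h

theorem dotInt_neg_left' (x y : GolayPt → ℤ) : dotInt (-x) y = -dotInt x y := by
  unfold dotInt
  simp only [Pi.neg_apply, neg_mul, Finset.sum_neg_distrib]

theorem dotInt_neg_right' (x y : GolayPt → ℤ) : dotInt x (-y) = -dotInt x y := by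
  unfold dotInt
  simp only [Pi.neg_apply, mul_neg, Finset.sum_neg_distrib]

/-- an automorphism acting trivially modulo twice the lattice is `±1` -/
theorem trivial_mod_two (g : Equiv.Perm leechLattice) (hg : g ∈ Co0)
    (h : ∀ v : leechLattice, Cong (g v).1 v.1) : g = 1 ∨ g = negPerm := by
  classical
  -- images of minimal vectors
  have hmin : ∀ v : leechLattice, sqNorm v.1 = 32 → (g v).1 = v.1 ∨ (g v).1 = -v.1 := by
    intro v hv
    obtain ⟨z, hz, he⟩ := h v
    have hc : ∃ z ∈ leechLattice, v.1 - (g v).1 = 2 • z := by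
      refine ⟨-z, leechLattice.neg_mem hz, ?_⟩
      rw [smul_neg, ← he]
      abel
    rcases short_vectors_mod_two v.1 (g v).1 v.2 (g v).2 (by omega) (by rw [hg.2]; omega) hc
      with h' | h' | h'
    · exact Or.inl h'
    · exact Or.inr h'
    · omega
  -- images of the vectors 8 e_i
  have hstd : ∀ i, (g (e8 i)).1 ∈ stdCross := by
    intro i
    have h1 : (e8 i).1 ∈ stdCross := ⟨i, 8, Or.inl rfl, rfl⟩
    obtain ⟨_, _, z, hz, he⟩ := stdCross_subset_cross h1
    obtain ⟨z', hz', he'⟩ := h (e8 i)
    apply mem_stdCross_of_cong (g (e8 i)).2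
    · rw [hg.2, sqNorm_e8]
    · refine ⟨z' - z, leechLattice.sub_mem hz' hz, ?_⟩
      rw [smul_sub, ← he, ← he']
      abel
  have hA : ∀ i j : GolayPt, i ≠ j → ∃ a : leechLattice, a.1 = pair4 i j 4 4 ∧ sqNorm a.1 = 32 := by
    intro i j hij
    refine ⟨⟨pair4 i j 4 4, ?_⟩, rfl, ?_⟩
    · rw [mem_leechLattice_iff]
      exact pair4_mem_leechSet i j rfl rfl rfl
    · show sqNorm (pair4 i j 4 4) = 32
      rw [sqNorm_pair4 hij]
      norm_num
  -- the image of 8 e_i is ± 8 e_i, with the sign of the image of 4 e_i + 4 e_j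
  have key : ∀ i j : GolayPt, i ≠ j → ∀ a : leechLattice, a.1 = pair4 i j 4 4 →
      ∀ k s, (g (e8 i)).1 = Pi.single k s → (s = 8 ∨ s = -8) →
      (k = i ∨ k = j) := by
    intro i j hij a ha k s hk hs
    have hd := co0_dot hg (e8 i) a
    have h1 : dotInt (e8 i).1 a.1 = 32 := by
      show dotInt (Pi.single i 8) a.1 = 32
      rw [dotInt_single_left, ha, pair4_apply_left hij]
      norm_num
    rw [h1, hk, dotInt_single_left] at hd
    by_contra hne
    rw [not_or] at hne
    have hn32 : sqNorm a.1 = 32 := by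
      rw [ha, sqNorm_pair4 hij]
      norm_num
    rcases hmin a hn32 with h' | h'
    · rw [h', ha, pair4_apply_other hne.1 hne.2] at hd
      omega
    · rw [h', ha, Pi.neg_apply, pair4_apply_other hne.1 hne.2] at hd
      omega
  have hdiag : ∀ i, (g (e8 i)).1 = (e8 i).1 ∨ (g (e8 i)).1 = -(e8 i).1 := by
    intro i
    obtain ⟨k, s, hs, hk⟩ := hstd i
    -- two points different from i
    obtain ⟨j1, j2, h1, h2, h12⟩ : ∃ j1 j2 : GolayPt, i ≠ j1 ∧ i ≠ j2 ∧ j1 ≠ j2 := by
      by_cases c0 : i = none
      · exact ⟨some 0, some 1, by rw [c0]; decide, by rw [c0]; decide, by decide⟩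
      · by_cases c1 : i = some 0
        · exact ⟨none, some 1, c0, by rw [c1]; decide, by decide⟩
        · exact ⟨none, some 0, c0, c1, by decide⟩
    obtain ⟨a1, ha1, _⟩ := hA i j1 h1
    obtain ⟨a2, ha2, _⟩ := hA i j2 h2
    have k1 := key i j1 h1 a1 ha1 k s hk hs
    have k2 := key i j2 h2 a2 ha2 k s hk hs
    have hki : k = i := by
      rcases k1 with k1 | k1
      · exact k1
      · rcases k2 with k2 | k2
        · exact k2
        · exact absurd (k1.symm.trans k2) h12
    subst hki
    rcases hs with rfl | rfl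
    · left; exact hk
    · right
      rw [hk]
      show (Pi.single k (-8) : GolayPt → ℤ) = -(Pi.single k 8)
      rw [← Pi.single_neg]
  -- the sign is the same everywhere
  have hsign : ∀ i j : GolayPt, i ≠ j → ((g (e8 i)).1 = (e8 i).1 ↔ (g (e8 j)).1 = (e8 j).1) := by
    have half : ∀ i j : GolayPt, i ≠ j → (g (e8 i)).1 = (e8 i).1 → (g (e8 j)).1 = (e8 j).1 := by
      intro i j hij hi
      obtain ⟨a, ha, hn32⟩ := hA i j hij
      have hdi := co0_dot hg (e8 i) a
      have hdj := co0_dot hg (e8 j) a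
      have e1 : dotInt (e8 i).1 a.1 = 32 := by
        show dotInt (Pi.single i 8) a.1 = 32
        rw [dotInt_single_left, ha, pair4_apply_left hij]
        norm_num
      have e2 : dotInt (e8 j).1 a.1 = 32 := by
        show dotInt (Pi.single j 8) a.1 = 32
        rw [dotInt_single_left, ha, pair4_apply_right hij]
        norm_num
      rw [e1, hi] at hdi
      rw [e2] at hdj
      rcases hmin a hn32 with h' | h'
      · rcases hdiag j with hj | hj
        · exact hj
        · rw [hj, h', dotInt_neg_left', e2] at hdj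
          omega
      · rw [h', dotInt_neg_right', e1] at hdi
        omega
    intro i j hij
    exact ⟨half i j hij, half j i hij.symm⟩
  rcases hdiag none with h0 | h0
  · left
    have hall : ∀ i, (g (e8 i)).1 = (e8 i).1 := by
      intro i
      by_cases hi : i = none
      · rw [hi]; exact h0
      · exact (hsign none i (fun h' => hi h'.symm)).mp h0
    ext v : 1
    apply Subtype.ext
    funext j
    have h8 := eight_mul_apply g hg v j
    simp only [hall, e8_apply, mul_ite, mul_zero, Finset.sum_ite_eq, Finset.mem_univ, if_true] at h8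
    show (g v).1 j = v.1 j
    omega
  · right
    have hall : ∀ i, (g (e8 i)).1 = -(e8 i).1 := by
      intro i
      by_cases hi : i = none
      · rw [hi]; exact h0
      · rcases hdiag i with h' | h'
        · have := (hsign none i (fun h'' => hi h''.symm)).mpr h'
          rw [this] at h0
          have h1 := congrFun h0 none
          rw [Pi.neg_apply, e8_apply, if_pos rfl] at h1
          omega
        · exact h'
    ext v : 1
    apply Subtype.ext
    funext j
    have h8 := eight_mul_apply g hg v j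
    simp only [hall, Pi.neg_apply, e8_apply, mul_neg, mul_ite, mul_zero, neg_zero,
      Finset.sum_ite_eq, Finset.mem_univ, if_true] at h8
    show (g v).1 j = (negPerm v).1 j
    have : (negPerm v).1 j = -v.1 j := rfl
    rw [this]
    rw [Finset.sum_neg_distrib, Finset.sum_ite_eq Finset.univ j, if_pos (Finset.mem_univ j)] at h8
    omega

theorem mem_center_of_pm (g : Co0) (h : g.1 = 1 ∨ g.1 = negPerm) : g ∈ Subgroup.center Co0 := by
  rw [Subgroup.mem_center_iff]
  intro k
  apply Subtype.ext
  show k.1 * g.1 = g.1 * k.1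
  rcases h with h | h
  · rw [h, mul_one, one_mul]
  · rw [h]
    exact negPerm_comm k.1 k.2

/-- an invariant subgroup containing a minimal vector is the whole lattice -/
theorem eq_top_of_min_mem (M : AddSubgroup (GolayPt → ℤ)) (hle : M ≤ leechLattice)
    (hinv : ∀ g : Co0, ∀ v : leechLattice, v.1 ∈ M → ((g • v : leechLattice) : GolayPt → ℤ) ∈ M)
    {y : GolayPt → ℤ} (hy : y ∈ M) (hn : sqNorm y = 32) : M = leechLattice := by
  apply le_antisymm hle
  rw [← minGen_eq]
  unfold minGen
  rw [AddSubgroup.closure_le]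
  rintro w ⟨hw, hwn⟩
  obtain ⟨g, hg⟩ := co0_transitive_min ⟨y, hle hy⟩ ⟨w, hw⟩ hn hwn
  have := hinv g ⟨y, hle hy⟩ hy
  rw [hg] at this
  exact this

theorem irreducible_mod_two (M : AddSubgroup (GolayPt → ℤ))
    (h2 : ∀ v ∈ leechLattice, (2 : ℤ) • v ∈ M) (hle : M ≤ leechLattice)
    (hinv : ∀ g : Co0, ∀ v : leechLattice, v.1 ∈ M → ((g • v : leechLattice) : GolayPt → ℤ) ∈ M) :
    (∀ x ∈ M, ∃ w ∈ leechLattice, x = (2 : ℤ) • w) ∨ M = leechLattice := by
  by_cases hall : ∀ x ∈ M, ∃ w ∈ leechLattice, x = (2 : ℤ) • w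
  · exact Or.inl hall
  right
  push Not at hall
  obtain ⟨x, hxM, hx⟩ := hall
  have h2' : ∀ v ∈ leechLattice, (2 : ℕ) • v ∈ M := by
    intro v hv
    have := h2 v hv
    rw [two_smul] at this
    rw [two_smul]
    exact this
  obtain ⟨y, hyL, hyn, z, hz, he⟩ := exists_short_rep x (hle hxM)
  have hyM : y ∈ M := by
    have : y = x - 2 • z := by rw [← he]; abel
    rw [this]
    exact M.sub_mem hxM (h2' z hz)
  have hy0 : y ≠ 0 := by
    rintro rfl
    apply hx z hz
    rw [sub_zero] at he
    rw [he, two_smul, two_smul]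
  -- a minimal vector in M
  have hmin : ∃ m ∈ M, sqNorm m = 32 := by
    rcases norm_cases_of_short hyL hyn with h | h | h | h
    · exact absurd h hy0
    · exact ⟨y, hyM, h⟩
    · -- norm 48: two vectors (5, 1, ..., 1) differing by a minimal vector
      have hall48 : ∀ w ∈ leechLattice, sqNorm w = 48 → w ∈ M := by
        intro w hw hwn
        obtain ⟨g, hg⟩ := co0_transitive_48 ⟨y, hyL⟩ ⟨w, hw⟩ h hwn
        have := hinv g ⟨y, hyL⟩ hyM
        rw [hg] at this
        exact this
      have hb : ∀ j : GolayPt, base35 ∅ {j} ∈ leechLattice ∧ sqNorm (base35 ∅ {j}) = 48 := by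
        intro j
        refine ⟨?_, ?_⟩
        · rw [mem_leechLattice_iff]
          exact base35_mem_leechSet (Finset.disjoint_empty_left _) (by simp)
        · rw [sqNorm_base35 (Finset.disjoint_empty_left _)]
          simp
      have m1 := hall48 _ (hb none).1 (hb none).2
      have m2 := hall48 _ (hb (some 0)).1 (hb (some 0)).2
      refine ⟨base35 ∅ {none} - base35 ∅ {some 0}, M.sub_mem m1 m2, ?_⟩
      decide
    · -- norm 64
      have hall64 : ∀ w ∈ leechLattice, sqNorm w = 64 → w ∈ M := by
        intro w hw hwn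
        obtain ⟨g, z', hz', he'⟩ := co0_transitive_crosses ⟨y, hyL⟩ ⟨w, hw⟩ h hwn
        have h1 := hinv g ⟨y, hyL⟩ hyM
        have : w = ((g • (⟨y, hyL⟩ : leechLattice) : leechLattice) : GolayPt → ℤ) - 2 • z' := by
          rw [← he']
          show w = _ - (_ - w)
          abel
        rw [this]
        exact M.sub_mem h1 (h2' z' hz')
      let u1 : GolayPt → ℤ := fun p => if p = none ∨ p = some 0 ∨ p = some 1 ∨ p = some 2 then 4 else 0
      let u2 : GolayPt → ℤ := fun p => if p = some 3 ∨ p = some 0 ∨ p = some 1 ∨ p = some 2 then 4 else 0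
      have hu1 : u1 ∈ leechLattice := by
        rw [mem_leechLattice_iff]
        exact Spor.mem_leechSet_of_const_mod_four u1 0 0 rfl (by decide) (by decide)
      have hu2 : u2 ∈ leechLattice := by
        rw [mem_leechLattice_iff]
        exact Spor.mem_leechSet_of_const_mod_four u2 0 0 rfl (by decide) (by decide)
      have m1 := hall64 u1 hu1 (by decide)
      have m2 := hall64 u2 hu2 (by decide)
      refine ⟨u1 - u2, M.sub_mem m1 m2, ?_⟩
      decide
  obtain ⟨m, hmM, hmn⟩ := hmin
  exact eq_top_of_min_mem M hle hinv hmM hmn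

/-- statement of `S5392` -/
theorem leech_mod_two_faithful_irreducible :
    (∀ g : Co0, (∀ v : leechLattice, ∃ w : leechLattice,
        ((g • v : leechLattice) : GolayPt → ℤ) - (v : GolayPt → ℤ) = 2 • (w : GolayPt → ℤ)) →
      g ∈ Subgroup.center Co0) ∧
    ∀ M : AddSubgroup (GolayPt → ℤ), (∀ v ∈ leechLattice, (2 : ℤ) • v ∈ M) → M ≤ leechLattice →
      (∀ g : Co0, ∀ v : leechLattice, (v : GolayPt → ℤ) ∈ M →
        ((g • v : leechLattice) : GolayPt → ℤ) ∈ M) →
      (∀ x ∈ M, ∃ w ∈ leechLattice, x = (2 : ℤ) • w) ∨ M = leechLattice := by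
  refine ⟨fun g hg => ?_, irreducible_mod_two⟩
  apply mem_center_of_pm
  apply trivial_mod_two g.1 g.2
  intro v
  obtain ⟨w, hw⟩ := hg v
  exact ⟨w.1, w.2, hw⟩

end Cfsg.Agent.helper27
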