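import Mathlib
import Cfsg.Agent.Lib_helper27_Mod2Irr

set_option autoImplicit false

namespace Cfsg.Agent.helper27

open Cfsg
open scoped Pointwise

/-- a vector given by the list of its coordinates -/
def ofList (l : List ℤ) : GolayPt → ℤ := fun p => l.getD (idx p) 0

/-- certificate of membership in the lattice -/
def vecChk (y : GolayPt → ℤ) (m : ℤ) (k : ℕ) : Prop :=
  (∀ p, y p % 2 = m % 2) ∧ ((∑ p, y p) % 8 = (4 * m) % 8) ∧
    (∀ p, (y p % 4 = (m + 2) % 4) ↔ (encN k).testBit (idx p) = true)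

instance (y : GolayPt → ℤ) (m : ℤ) (k : ℕ) : Decidable (vecChk y m k) := by
  unfold vecChk
  infer_instance

theorem mem_of_vecChk {y : GolayPt → ℤ} {m : ℤ} {k : ℕ} (hk : k < 4096) (h : vecChk y m k) :
    y ∈ leechLattice := by
  obtain ⟨h2, h3, h4⟩ := h
  rw [mem_leechLattice_iff, mem_leechSet_iff]
  refine ⟨m, h2, h3, ?_⟩
  have : cls (m + 2) y = cw k := by
    ext p
    rw [mem_cls]
    unfold cw
    rw [mem_support₂, toWord_ne_zero_iff]
    exact h4 p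
  rw [this]
  exact (mem_supports_golayCode_iff _).mpr ⟨k, hk, rfl⟩

theorem eight_dvd_dotInt {x y : GolayPt → ℤ} (hx : x ∈ leechLattice) (hy : y ∈ leechLattice) :
    (8 : ℤ) ∣ dotInt x y := by
  have h1 := sixteen_dvd_sqNorm_lattice hx
  have h2 := sixteen_dvd_sqNorm_lattice hy
  have h3 := sixteen_dvd_sqNorm_lattice (leechLattice.add_mem hx hy)
  rw [sqNorm_add] at h3
  omega

theorem dotInt_two_smul_right (x z : GolayPt → ℤ) : dotInt x (2 • z) = 2 * dotInt x z := by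
  unfold dotInt
  rw [Finset.mul_sum]
  apply Finset.sum_congr rfl
  intro i _
  simp only [Pi.smul_apply, two_nsmul]
  ring

/-- the parity of the norm divided by 16 only depends on the class modulo twice the lattice -/
theorem norm_parity_of_cong {x y : GolayPt → ℤ} (hy : y ∈ leechLattice)
    (h : Cong x y) : (sqNorm x / 16) % 2 = (sqNorm y / 16) % 2 := by
  obtain ⟨z, hz, he⟩ := h
  have hx : x = y + 2 • z := by rw [← he]; abel
  have h1 := sixteen_dvd_sqNorm_lattice hy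
  have h2 := sixteen_dvd_sqNorm_lattice hz
  have h3 := eight_dvd_dotInt hy hz
  rw [hx, sqNorm_add, sqNorm_two_smul, dotInt_two_smul_right]
  omega

def qu : GolayPt → ℤ := pair4 none (some 0) 4 4
def qv : GolayPt → ℤ :=
  ofList [0, 0, -2, 0, 0, 0, 0, 0, 0, 0, 0, 0, 2, 2, 0, 2, 0, 0, 2, 0, 2, 0, 2, -2]
def qw : GolayPt → ℤ :=
  ofList [-2, 0, 2, 0, 0, 0, 0, 0, 0, 0, 0, 0, 0, -2, -2, -2, 2, 2, 0, 0, 2, 0, 0, 0]

theorem qu_mem : qu ∈ leechLattice := by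
  rw [mem_leechLattice_iff]
  exact pair4_mem_leechSet _ _ rfl rfl rfl
theorem qv_mem : qv ∈ leechLattice := mem_of_vecChk (m := 0) (k := 4) (by norm_num) (by decide)
theorem qw_mem : qw ∈ leechLattice := mem_of_vecChk (m := 0) (k := 5) (by norm_num) (by decide)

theorem q_norms : sqNorm qu = 32 ∧ sqNorm qv = 32 ∧ sqNorm qw = 32 ∧ sqNorm (qu + qv) = 48 ∧
    sqNorm (qu + qw) = 48 ∧ sqNorm (qv + qw) = 48 ∧ sqNorm (qu + qv + qw) = 48 := by decide

/-- vectors for the norm-64 relation -/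
def ru : GolayPt → ℤ := pair4 none (some 0) 4 4
def rv : GolayPt → ℤ := pair4 none (some 0) 4 (-4)
def rw' : GolayPt → ℤ := pair4 (some 1) (some 2) 4 4
def rr : GolayPt → ℤ := pair4 (some 1) (some 2) (-4) 4
def rz : GolayPt → ℤ := pair4 none (some 1) 4 4

theorem r_mems : ru ∈ leechLattice ∧ rv ∈ leechLattice ∧ rw' ∈ leechLattice ∧ rr ∈ leechLattice ∧
    rz ∈ leechLattice := by
  refine ⟨?_, ?_, ?_, ?_, ?_⟩ <;> rw [mem_leechLattice_iff] <;>
    exact pair4_mem_leechSet _ _ rfl rfl rfl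

theorem r_norms : sqNorm ru = 32 ∧ sqNorm rv = 32 ∧ sqNorm rw' = 32 ∧ sqNorm rr = 32 ∧
    sqNorm (ru + rv) = 64 ∧ sqNorm (ru + rw') = 64 ∧ sqNorm (rv + rw') = 64 ∧
    ru + rv + rw' - rr = 2 • rz := by decide

theorem zmod2_add_self (a : ZMod 2) : a + a = 0 := CharTwo.add_self_eq_zero a

theorem zmod2_l1 : ∀ a : ZMod 2, a + a + a + a = a + a + a → a = 0 := by decide
theorem zmod2_l2 : ∀ a x : ZMod 2, a + a + a + a = x + x + x → x = 0 := by decide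
theorem zmod2_l3 : ∀ b x : ZMod 2, b + x + x + x = b + b + b → x = 0 := by decide

/-- statement of `S5552` -/
theorem quad_form_unique (Q : leechLattice → ZMod 2)
    (hcoset : ∀ v w : leechLattice, Q (v + (w + w)) = Q v)
    (hquad : ∀ u v w : leechLattice,
      Q (u + v + w) + Q u + Q v + Q w = Q (u + v) + Q (u + w) + Q (v + w))
    (hinv : ∀ (g : Co0) (v : leechLattice), Q (g • v) = Q v)
    (hne : ∃ v : leechLattice, Q v ≠ 0) (v : leechLattice) :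
    Q v = ((sqNorm (v : GolayPt → ℤ) / 16 : ℤ) : ZMod 2) := by
  -- value at zero
  have hQ0 : Q 0 = 0 := by
    have h := hquad 0 0 0
    simp only [add_zero] at h
    exact zmod2_l1 _ h
  -- congruent vectors have the same value
  have hcong : ∀ x y : leechLattice, Cong x.1 y.1 → Q x = Q y := by
    intro x y ⟨z, hz, he⟩
    have : x = y + ((⟨z, hz⟩ : leechLattice) + ⟨z, hz⟩) := by
      apply Subtype.ext
      show x.1 = y.1 + (z + z)
      rw [← two_smul ℕ z, ← he]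
      abel
    rw [this, hcoset]
  have h32 : ∀ x y : leechLattice, sqNorm x.1 = 32 → sqNorm y.1 = 32 → Q x = Q y := by
    intro x y hx hy
    obtain ⟨g, hg⟩ := co0_transitive_min x y hx hy
    rw [← hg, hinv]
  have h48 : ∀ x y : leechLattice, sqNorm x.1 = 48 → sqNorm y.1 = 48 → Q x = Q y := by
    intro x y hx hy
    obtain ⟨g, hg⟩ := co0_transitive_48 x y hx hy
    rw [← hg, hinv]
  have h64 : ∀ x y : leechLattice, sqNorm x.1 = 64 → sqNorm y.1 = 64 → Q x = Q y := by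
    intro x y hx hy
    obtain ⟨g, z, hz, he⟩ := co0_transitive_crosses x y hx hy
    rw [← hinv g x]
    exact hcong _ _ ⟨z, hz, he⟩
  -- the value on norm 64 is zero
  obtain ⟨m1, m2, m3, m4, m5⟩ := r_mems
  obtain ⟨n1, n2, n3, n4, n5, n6, n7, n8⟩ := r_norms
  have hc : ∀ x : leechLattice, sqNorm x.1 = 64 → Q x = 0 := by
    intro x hx
    have e := hquad ⟨ru, m1⟩ ⟨rv, m2⟩ ⟨rw', m3⟩
    have e1 : Q (⟨ru, m1⟩ + ⟨rv, m2⟩ + ⟨rw', m3⟩) = Q ⟨rr, m4⟩ := hcong _ _ ⟨rz, m5, n8⟩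
    have e2 : Q ⟨rv, m2⟩ = Q ⟨ru, m1⟩ := h32 _ _ n2 n1
    have e3 : Q ⟨rw', m3⟩ = Q ⟨ru, m1⟩ := h32 _ _ n3 n1
    have e4 : Q ⟨rr, m4⟩ = Q ⟨ru, m1⟩ := h32 _ _ n4 n1
    have e5 : Q (⟨ru, m1⟩ + ⟨rv, m2⟩) = Q x := h64 _ _ n5 hx
    have e6 : Q (⟨ru, m1⟩ + ⟨rw', m3⟩) = Q x := h64 _ _ n6 hx
    have e7 : Q (⟨rv, m2⟩ + ⟨rw', m3⟩) = Q x := h64 _ _ n7 hx
    rw [e1, e2, e3, e4, e5, e6, e7] at e
    exact zmod2_l2 _ _ e
  -- the value on norm 32 is zero
  obtain ⟨k1, k2, k3, k4, k5, k6, k7⟩ := q_norms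
  have ha : ∀ x : leechLattice, sqNorm x.1 = 32 → Q x = 0 := by
    intro x hx
    have e := hquad ⟨qu, qu_mem⟩ ⟨qv, qv_mem⟩ ⟨qw, qw_mem⟩
    have e1 : Q (⟨qu, qu_mem⟩ + ⟨qv, qv_mem⟩ + ⟨qw, qw_mem⟩) = Q (⟨qu, qu_mem⟩ + ⟨qv, qv_mem⟩) :=
      h48 _ _ k7 k4
    have e2 : Q ⟨qu, qu_mem⟩ = Q x := h32 _ _ k1 hx
    have e3 : Q ⟨qv, qv_mem⟩ = Q x := h32 _ _ k2 hx
    have e4 : Q ⟨qw, qw_mem⟩ = Q x := h32 _ _ k3 hx
    have e6 : Q (⟨qu, qu_mem⟩ + ⟨qw, qw_mem⟩) = Q (⟨qu, qu_mem⟩ + ⟨qv, qv_mem⟩) := h48 _ _ k5 k4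
    have e7 : Q (⟨qv, qv_mem⟩ + ⟨qw, qw_mem⟩) = Q (⟨qu, qu_mem⟩ + ⟨qv, qv_mem⟩) := h48 _ _ k6 k4
    rw [e1, e2, e3, e4, e6, e7] at e
    exact zmod2_l3 _ _ e
  -- reduce to a short representative
  have hred : ∀ x : leechLattice, ∃ y : leechLattice, sqNorm y.1 ≤ 64 ∧ Q x = Q y ∧
      (sqNorm x.1 / 16) % 2 = (sqNorm y.1 / 16) % 2 := by
    intro x
    obtain ⟨y, hy, hyn, z, hz, he⟩ := exists_short_rep x.1 x.2
    exact ⟨⟨y, hy⟩, hyn, hcong x ⟨y, hy⟩ ⟨z, hz, he⟩, norm_parity_of_cong hy ⟨z, hz, he⟩⟩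
  -- the value on norm 48 is one
  have hb : ∀ x : leechLattice, sqNorm x.1 = 48 → Q x = 1 := by
    intro x hx
    obtain ⟨w, hw⟩ := hne
    obtain ⟨y, hyn, hQ, _⟩ := hred w
    rw [hQ] at hw
    rcases norm_cases_of_short y.2 hyn with h | h | h | h
    · exfalso
      apply hw
      have : y = 0 := Subtype.ext h
      rw [this, hQ0]
    · exact absurd (ha y h) hw
    · rw [h48 x y hx h]
      have := zmod2_cases (Q y)
      rcases this with h' | h'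
      · exact absurd h' hw
      · exact h'
    · exact absurd (hc y h) hw
  obtain ⟨y, hyn, hQ, hpar⟩ := hred v
  rw [hQ, (ZMod.intCast_eq_intCast_iff' _ _ 2).mpr hpar]
  rcases norm_cases_of_short y.2 hyn with h | h | h | h
  · have : y = 0 := Subtype.ext h
    rw [this, hQ0]
    have : sqNorm ((0 : leechLattice) : GolayPt → ℤ) = 0 := (sqNorm_eq_zero_iff _).mpr rfl
    rw [this]
    rfl
  · rw [ha y h, h]
    rfl
  · rw [hb y h, h]
    rfl
  · rw [hc y h, h]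
    rfl

end Cfsg.Agent.helper27
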