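import Mathlib
import Cfsg.Agent.Lib_helper27_QuadForm
import Cfsg.Agent.Lib_helper2_M24c

set_option autoImplicit false

namespace Cfsg.Agent.helper27

open Cfsg
open scoped Pointwise

/-! ### algebra of the inner product -/

theorem dotInt_comm (x y : GolayPt → ℤ) : dotInt x y = dotInt y x := by
  unfold dotInt
  exact Finset.sum_congr rfl (fun i _ => mul_comm _ _)

theorem dotInt_add_left' (x y z : GolayPt → ℤ) : dotInt (x + y) z = dotInt x z + dotInt y z := by
  simp only [dotInt, Pi.add_apply, add_mul, Finset.sum_add_distrib]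

theorem dotInt_add_right (x y z : GolayPt → ℤ) : dotInt x (y + z) = dotInt x y + dotInt x z := by
  rw [dotInt_comm, dotInt_add_left', dotInt_comm y, dotInt_comm z]

theorem dotInt_sub_left (x y z : GolayPt → ℤ) : dotInt (x - y) z = dotInt x z - dotInt y z := by
  rw [sub_eq_add_neg, dotInt_add_left', dotInt_neg_left']
  ring

theorem dotInt_sub_right (x y z : GolayPt → ℤ) : dotInt x (y - z) = dotInt x y - dotInt x z := by
  rw [dotInt_comm, dotInt_sub_left, dotInt_comm y, dotInt_comm z]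

theorem dotInt_single_right (i : GolayPt) (s : ℤ) (y : GolayPt → ℤ) :
    dotInt y (Pi.single i s) = s * y i := by
  rw [dotInt_comm, dotInt_single_left]

/-! ### the three shapes of minimal vectors -/

theorem min_cases {x : GolayPt → ℤ} (hx : x ∈ leechLattice) (hn : sqNorm x = 32) :
    (∃ i j : GolayPt, i ≠ j ∧ ∃ a b : ℤ, (a = 4 ∨ a = -4) ∧ (b = 4 ∨ b = -4) ∧ x = pair4 i j a b) ∨
    (∃ o ∈ octads, ∃ s : Finset GolayPt, s ⊆ o ∧ Even s.card ∧ x = vB o s) ∨
    (∃ j : GolayPt, ∃ b ∈ GS, x = vC j b) := by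
  rw [mem_leechLattice_iff] at hx
  have hpar : x none % 2 = 0 ∨ x none % 2 = 1 := by omega
  rcases hpar with hp | hp
  · by_cases hc : cls 2 x = ∅
    · left
      have hA : x ∈ minA := ⟨hx, hn, hp, hc⟩
      rw [minA_eq] at hA
      obtain ⟨p, hp', rfl⟩ := hA
      have hlt : idx p.1 < idx p.2.1 := by
        have := hp'
        simp only [domA, Finset.coe_filter, Finset.mem_univ, true_and] at this
        exact this
      refine ⟨p.1, p.2.1, fun h => ?_, sgn4 p.2.2.1, sgn4 p.2.2.2, sgn4_cases _, sgn4_cases _, rfl⟩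
      rw [h] at hlt
      exact lt_irrefl _ hlt
    · right; left
      have hB : x ∈ minB := ⟨hx, hn, hp, Finset.nonempty_iff_ne_empty.mpr hc⟩
      obtain ⟨h1, h2, h3, h4⟩ := eq_vB_of_mem_minB hB
      exact ⟨_, h1, _, h2, h3, h4⟩
  · right; right
    have hC : x ∈ minC := ⟨hx, hn, hp⟩
    rw [minC_eq] at hC
    obtain ⟨⟨j, ⟨b, hb⟩⟩, _, rfl⟩ := hC
    exact ⟨j, b, hb, rfl⟩

/-! ### double transitivity of the permutation group -/

theorem exists_M24_two {a b a' b' : GolayPt} (hab : a ≠ b) (hab' : a' ≠ b') :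
    ∃ σ ∈ M24, σ a = a' ∧ σ b = b' := by
  have h2 := helper2.Golay.m24_k_transitive (k := 2) (by norm_num)
  let x : Fin 2 ↪ GolayPt := ⟨![a, b], by
    intro i j h
    fin_cases i <;> fin_cases j <;> simp_all⟩
  let y : Fin 2 ↪ GolayPt := ⟨![a', b'], by
    intro i j h
    fin_cases i <;> fin_cases j <;> simp_all⟩
  obtain ⟨g, hg⟩ := h2.exists_smul_eq x y
  refine ⟨g.1, g.2, ?_, ?_⟩
  · have := congrArg (fun f => f 0) hg
    exact this
  · have := congrArg (fun f => f 1) hg
    exact this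

end Cfsg.Agent.helper27
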