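import Mathlib
import Cfsg.Agent.Lib_helper27_Pairs0

set_option autoImplicit false

namespace Cfsg.Agent.helper27

open Cfsg
open scoped Pointwise

/-- shape of a decomposition of `8 e_∞` into two minimal vectors -/
theorem eInf_decomp {a b : GolayPt → ℤ} (ha : a ∈ leechLattice) (hna : sqNorm a = 32)
    (hnb : sqNorm b = 32) (hab : a + b = eInf) :
    ∃ j : GolayPt, j ≠ none ∧ ∃ β : ℤ, (β = 4 ∨ β = -4) ∧ a = pair4 none j 4 β ∧
      b = pair4 none j 4 (-β) := by
  have hb : b = eInf - a := by rw [← hab]; abel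
  have h4 : a none = 4 := by
    rw [hb, sqNorm_sub, sqNorm_eInf, hna] at hnb
    have : dotInt eInf a = 8 * a none := dotInt_single_left none 8 a
    omega
  have key : ∃ j : GolayPt, j ≠ none ∧ ∃ β : ℤ, (β = 4 ∨ β = -4) ∧ a = pair4 none j 4 β := by
    rcases min_cases ha hna with ⟨i, j, hij, α, β, hα, hβ, rfl⟩ | ⟨o, ho, s, hs, hev, rfl⟩ |
      ⟨j, c, hc, rfl⟩
    · by_cases hi : i = none
      · subst hi
        rw [pair4_apply_left hij] at h4
        subst h4
        exact ⟨j, fun h => hij h.symm, β, hβ, rfl⟩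
      · by_cases hj : j = none
        · subst hj
          rw [pair4_apply_right hij] at h4
          subst h4
          exact ⟨i, hi, α, hα, pair4_comm _ _ _ _⟩
        · rw [pair4_apply_other (fun h => hi h.symm) (fun h => hj h.symm)] at h4
          omega
    · exfalso
      unfold vB at h4
      split_ifs at h4 <;> omega
    · exfalso
      unfold vC at h4
      split_ifs at h4 <;> omega
  obtain ⟨j, hj, β, hβ, rfl⟩ := key
  refine ⟨j, hj, β, hβ, rfl, ?_⟩
  rw [hb]
  funext k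
  unfold pair4 eInf
  simp only [Pi.sub_apply, Pi.add_apply, Pi.single_apply]
  split_ifs <;> omega

/-- moving a standard orthogonal pair to the reference pair -/
theorem std_pair_conn {j : GolayPt} (hj : j ≠ none) {β : ℤ} (hβ : β = 4 ∨ β = -4) :
    ∃ g : Equiv.Perm leechLattice, g ∈ Co0 ∧ ∀ (x y : leechLattice),
      x.1 = pair4 none j 4 β → y.1 = pair4 none j 4 (-β) →
      (g x).1 = pair4 none (some 0) 4 4 ∧ (g y).1 = pair4 none (some 0) 4 (-4) := by
  obtain ⟨σ, hσ, h1, h2⟩ := exists_M24_two (a := none) (b := j) (a' := none) (b' := some 0)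
    (fun h => hj h.symm) (by decide)
  have hform : ∀ (c : Finset GolayPt) (γ : ℤ), signedPerm σ c (pair4 none j 4 γ)
      = pair4 none (some 0) (if none ∈ c then -4 else 4) (if some 0 ∈ c then -γ else γ) := by
    intro c γ
    unfold pair4
    rw [signedPerm_add, signedPerm_single, signedPerm_single, h1, h2]
  rcases hβ with rfl | rfl
  · refine ⟨monoPerm σ hσ ∅ empty_mem_GS, monoPerm_mem_Co0 _ _ _ _, fun x y hx hy => ?_⟩
    rw [monoPerm_apply, monoPerm_apply, hx, hy, hform, hform]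
    simp
  · obtain ⟨c, hc, hc0, hcn⟩ := exists_GS_separating (some 0) none (by decide)
    refine ⟨monoPerm σ hσ c hc, monoPerm_mem_Co0 _ _ _ _, fun x y hx hy => ?_⟩
    rw [monoPerm_apply, monoPerm_apply, hx, hy, hform, hform]
    simp [hc0, hcn]

/-- the automorphism group is transitive on ordered pairs of orthogonal minimal vectors -/
theorem orth_pair_conn (v w : leechLattice) (hv : sqNorm v.1 = 32) (hw : sqNorm w.1 = 32)
    (hd : dotInt v.1 w.1 = 0) :
    ∃ g : Co0, (g • v).1 = pair4 none (some 0) 4 4 ∧ (g • w).1 = pair4 none (some 0) 4 (-4) := by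
  have hn : sqNorm (v + w : leechLattice).1 = 64 := by
    show sqNorm (v.1 + w.1) = 64
    rw [sqNorm_add, hv, hw, hd]
    rfl
  obtain ⟨hx, g1, hg1, he⟩ := conn_eInf_of_64 (v + w).2 hn
  have hsum : (g1 v).1 + (g1 w).1 = eInf := by
    rw [← he]
    have : g1 (v + w) = g1 v + g1 w := hg1.1 v w
    exact (congrArg Subtype.val this).symm
  obtain ⟨j, hj, β, hβ, ea, eb⟩ := eInf_decomp (g1 v).2 (by rw [hg1.2, hv]) (by rw [hg1.2, hw]) hsum
  obtain ⟨g2, hg2, h⟩ := std_pair_conn hj hβ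
  obtain ⟨r1, r2⟩ := h (g1 v) (g1 w) ea eb
  exact ⟨⟨g2 * g1, Co0.mul_mem hg2 hg1⟩, r1, r2⟩

/-- statement of `S1576` -/
theorem stab_min_transitive_orth (v w w' : leechLattice) (hv : sqNorm v.1 = 32)
    (hw : sqNorm w.1 = 32) (hw' : sqNorm w'.1 = 32) (hd : dotInt v.1 w.1 = 0)
    (hd' : dotInt v.1 w'.1 = 0) : ∃ g : Co0, g • v = v ∧ (g • w = w' ∨ g • w = -w') := by
  obtain ⟨g1, a1, b1⟩ := orth_pair_conn v w hv hw hd
  obtain ⟨g2, a2, b2⟩ := orth_pair_conn v w' hv hw' hd'
  refine ⟨g2⁻¹ * g1, ?_, Or.inl ?_⟩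
  · rw [mul_smul, inv_smul_eq_iff]
    exact Subtype.ext (a1.trans a2.symm)
  · rw [mul_smul, inv_smul_eq_iff]
    exact Subtype.ext (b1.trans b2.symm)

end Cfsg.Agent.helper27
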