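import Mathlib
import Cfsg.Agent.Lib_helper27_Pairs1

set_option autoImplicit false

namespace Cfsg.Agent.helper27

open Cfsg
open scoped Pointwise

/-! ### counting code words by their masks -/

theorem mem_cw_iff (k : ℕ) (p : GolayPt) : p ∈ cw k ↔ (encN k).testBit (idx p) = true := by
  unfold cw
  rw [mem_support₂']
  unfold toWord
  split_ifs with h
  · simp [h]
  · simp [h]

theorem ncard_GS_mask (P : Finset GolayPt → Prop) (Q : ℕ → Prop) [DecidablePred Q]
    (h : ∀ k, k < 4096 → (P (cw k) ↔ Q (encN k))) :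
    {b : Finset GolayPt | b ∈ GS ∧ P b}.ncard
      = ((Finset.range 4096).filter (fun k => Q (encN k))).card := by
  have hs : {b : Finset GolayPt | b ∈ GS ∧ P b}
      = cw '' (((Finset.range 4096).filter (fun k => Q (encN k)) : Finset ℕ) : Set ℕ) := by
    ext b
    rw [Set.mem_ofPred_eq, mem_supports_golayCode_iff]
    constructor
    · rintro ⟨⟨k, hk, rfl⟩, hP⟩
      refine ⟨k, ?_, rfl⟩
      simpa using ⟨hk, (h k hk).mp hP⟩
    · rintro ⟨k, hk, rfl⟩
      have hk' : k < 4096 ∧ Q (encN k) := by simpa using hk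
      exact ⟨⟨k, hk'.1, rfl⟩, (h k hk'.1).mpr hk'.2⟩
  rw [hs, Set.InjOn.ncard_image, Set.ncard_coe_finset]
  intro j hj k hk hjk
  have hj' : j < 4096 ∧ Q (encN j) := by simpa using hj
  have hk' : k < 4096 ∧ Q (encN k) := by simpa using hk
  exact cw_injOn hj'.1 hk'.1 hjk

set_option maxRecDepth 100000 in
theorem count8_none : ((Finset.range 4096).filter
    (fun k => popc (encN k) = 8 ∧ (encN k).testBit 23 = true)).card = 253 := by
  decide +kernel

/-- the octads through the point at infinity -/
def octInf : Set (Finset GolayPt) := {o | o ∈ octads ∧ none ∈ o}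

theorem octInf_ncard : octInf.ncard = 253 := by
  have h := ncard_GS_mask (fun b => b.card = 8 ∧ none ∈ b)
    (fun m => popc m = 8 ∧ m.testBit 23 = true) (fun k _ => by
      rw [cw_card, mem_cw_iff]
      rfl)
  rw [count8_none] at h
  rw [← h]
  congr 1
  ext o
  unfold octInf octads wordsOfWeight
  simp only [Set.mem_ofPred_eq]
  tauto

end Cfsg.Agent.helper27
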