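import Mathlib
import Cfsg.Agent.Lib_helper27_Count0

set_option autoImplicit false

namespace Cfsg.Agent.helper27

open Cfsg
open scoped Pointwise

/-! ### coordinate sums of the minimal vectors -/

theorem sum_pair4 (i j : GolayPt) (a b : ℤ) : ∑ p, pair4 i j a b p = a + b := by
  unfold pair4
  simp only [Pi.add_apply, Finset.sum_add_distrib, sum_single]

theorem vC_eq' (j : GolayPt) (b : Finset GolayPt) (i : GolayPt) :
    vC j b i = (if i ∈ b then -1 else 1) + (if i = j then (if j ∈ b then 4 else -4) else 0) := by
  unfold vC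
  by_cases h1 : i = j
  · subst h1
    by_cases h2 : i ∈ b
    · simp [h2]
    · simp [h2]
  · by_cases h2 : i ∈ b
    · simp [h1, h2]
    · simp [h1, h2]

theorem sum_vC (j : GolayPt) (b : Finset GolayPt) :
    ∑ i, vC j b i = 24 - 2 * b.card + (if j ∈ b then 4 else -4) := by
  rw [Finset.sum_congr rfl (fun i _ => vC_eq' j b i), Finset.sum_add_distrib,
    Finset.sum_ite_eq' Finset.univ j, if_pos (Finset.mem_univ j)]
  congr 1
  have h : ∀ i : GolayPt, (if i ∈ b then (-1 : ℤ) else 1) = 1 - (if i ∈ b then 2 else 0) := by
    intro i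
    split_ifs <;> rfl
  rw [Finset.sum_congr rfl (fun i _ => h i), Finset.sum_sub_distrib, Finset.sum_ite_mem,
    Finset.univ_inter, Finset.sum_const, Finset.sum_const, Finset.card_univ, card_golayPt]
  simp [mul_comm]

theorem vB_empty (o : Finset GolayPt) : vB o ∅ = twoOn o := by
  funext i
  unfold vB twoOn
  simp

theorem vC_empty (j : GolayPt) : vC j ∅ = v3 j := by
  funext i
  unfold vC v3
  simp

/-! ### the partners of the standard vector of norm 48 -/

theorem u5_apply (i : GolayPt) : u5 i = if i = none then 5 else 1 := by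
  unfold u5 base35
  simp

theorem dotInt_u5 (x : GolayPt → ℤ) : dotInt u5 x = (∑ i, x i) + 4 * x none := by
  unfold dotInt
  have h : ∀ i, u5 i * x i = x i + (if i = none then 4 * x none else 0) := by
    intro i
    rw [u5_apply]
    by_cases hi : i = none
    · subst hi
      simp
      ring
    · simp [hi]
  rw [Finset.sum_congr rfl (fun i _ => h i), Finset.sum_add_distrib,
    Finset.sum_ite_eq' Finset.univ none, if_pos (Finset.mem_univ _)]

def famA : Set (GolayPt → ℤ) := (fun j => pair4 none j 4 4) '' {j | j ≠ none}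
def famB : Set (GolayPt → ℤ) := (fun o => vB o ∅) '' octInf
def famB' : Set (GolayPt → ℤ) := (fun o => vC none o) '' octInf
def famA' : Set (GolayPt → ℤ) := (fun j => vC j ∅) '' {j | j ≠ none}

/-- the minimal vectors `x` with `u5 - x` minimal -/
def partners5 : Set (GolayPt → ℤ) := {x | x ∈ leechLattice ∧ sqNorm x = 32 ∧ dotInt u5 x = 24}

theorem partners5_subset : partners5 ⊆ famA ∪ famB ∪ famB' ∪ famA' := by
  rintro x ⟨hx, hn, hd⟩
  rw [dotInt_u5] at hd
  rcases min_cases hx hn with ⟨i, j, hij, a, b, ha, hb, rfl⟩ | ⟨o, ho, s, hs, hev, rfl⟩ |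
    ⟨j, b, hb, rfl⟩
  · left; left; left
    rw [sum_pair4] at hd
    by_cases hi : i = none
    · subst hi
      rw [pair4_apply_left hij] at hd
      have h4 : a = 4 ∧ b = 4 := by
        rcases ha with rfl | rfl <;> rcases hb with rfl | rfl <;> omega
      obtain ⟨rfl, rfl⟩ := h4
      exact ⟨j, fun h => hij h.symm, rfl⟩
    · by_cases hj : j = none
      · subst hj
        rw [pair4_apply_right hij] at hd
        have h4 : a = 4 ∧ b = 4 := by
          rcases ha with rfl | rfl <;> rcases hb with rfl | rfl <;> omega
        obtain ⟨rfl, rfl⟩ := h4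
        exact ⟨i, hi, pair4_comm _ _ _ _⟩
      · rw [pair4_apply_other (fun h => hi h.symm) (fun h => hj h.symm)] at hd
        exfalso
        rcases ha with rfl | rfl <;> rcases hb with rfl | rfl <;> omega
  · left; left; right
    rw [sum_vB o s hs, octads_card ho] at hd
    have hv : vB o s none = if none ∈ s then -2 else if none ∈ o then 2 else 0 := rfl
    rw [hv] at hd
    by_cases h1 : none ∈ s
    · rw [if_pos h1] at hd
      exfalso
      omega
    · rw [if_neg h1] at hd
      by_cases h2 : none ∈ o
      · rw [if_pos h2] at hd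
        have h0 : s.card = 0 := by omega
        rw [Finset.card_eq_zero] at h0
        subst h0
        exact ⟨o, ⟨ho, h2⟩, rfl⟩
      · rw [if_neg h2] at hd
        exfalso
        omega
  · rw [sum_vC] at hd
    have hcard := supports_card hb
    have hv : vC j b none = if none ∈ b then (if none = j then 3 else -1)
        else (if none = j then -3 else 1) := rfl
    rw [hv] at hd
    by_cases h1 : none ∈ b
    · have hpos : 0 < b.card := Finset.card_pos.mpr ⟨none, h1⟩
      rw [if_pos h1] at hd
      by_cases h2 : none = j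
      · subst h2
        rw [if_pos h1, if_pos rfl] at hd
        left; right
        have h8 : b.card = 8 := by omega
        exact ⟨b, ⟨⟨hb, h8⟩, h1⟩, rfl⟩
      · rw [if_neg h2] at hd
        exfalso
        split_ifs at hd <;> omega
    · rw [if_neg h1] at hd
      by_cases h2 : none = j
      · subst h2
        rw [if_neg h1, if_pos rfl] at hd
        exfalso
        omega
      · rw [if_neg h2] at hd
        by_cases h3 : j ∈ b
        · rw [if_pos h3] at hd
          exfalso
          rcases hcard with h | h | h | h | h <;> omega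
        · rw [if_neg h3] at hd
          right
          have h0 : b.card = 0 := by omega
          rw [Finset.card_eq_zero] at h0
          subst h0
          exact ⟨j, fun h => h2 h.symm, rfl⟩


theorem famA_subset : famA ⊆ partners5 := by
  rintro x ⟨j, hj, rfl⟩
  have hj' : (none : GolayPt) ≠ j := fun h => hj h.symm
  refine ⟨(mem_leechLattice_iff _).mpr (pair4_mem_leechSet _ _ rfl rfl rfl), ?_, ?_⟩
  · rw [sqNorm_pair4 hj']
    rfl
  · show dotInt u5 (pair4 none j 4 4) = 24
    rw [dotInt_u5, sum_pair4, pair4_apply_left hj']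
    rfl

theorem famB_subset : famB ⊆ partners5 := by
  rintro x ⟨o, ⟨ho, hn⟩, rfl⟩
  refine ⟨(mem_leechLattice_iff _).mpr (by
    show vB o ∅ ∈ leechSet
    rw [vB_empty]; exact twoOn_mem_leechSet ho), ?_, ?_⟩
  · show sqNorm (vB o ∅) = 32
    rw [sqNorm_vB o ∅ (Finset.empty_subset _), octads_card ho]
    rfl
  · show dotInt u5 (vB o ∅) = 24
    rw [dotInt_u5, sum_vB o ∅ (Finset.empty_subset _), octads_card ho]
    have hv : vB o ∅ none = 2 := by
      unfold vB
      simp [hn]
    rw [hv]
    rfl

theorem famB'_subset : famB' ⊆ partners5 := by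
  rintro x ⟨o, ⟨ho, hn⟩, rfl⟩
  refine ⟨(mem_leechLattice_iff _).mpr (vC_mem_leechSet none (octads_subset_supports ho)),
    sqNorm_vC _ _, ?_⟩
  show dotInt u5 (vC none o) = 24
  rw [dotInt_u5, sum_vC, octads_card ho, if_pos hn]
  have hv : vC none o none = 3 := by
    unfold vC
    simp [hn]
  rw [hv]
  rfl

theorem famA'_subset : famA' ⊆ partners5 := by
  rintro x ⟨j, hj, rfl⟩
  refine ⟨(mem_leechLattice_iff _).mpr (vC_mem_leechSet j empty_mem_GS), sqNorm_vC _ _, ?_⟩
  show dotInt u5 (vC j ∅) = 24
  rw [dotInt_u5, sum_vC]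
  have hv : vC j ∅ none = 1 := by
    unfold vC
    have : (none : GolayPt) ≠ j := fun h => hj h.symm
    simp [this]
  rw [hv]
  simp

theorem partners5_eq : partners5 = famA ∪ famB ∪ famB' ∪ famA' := by
  apply Set.Subset.antisymm partners5_subset
  intro x hx
  rcases hx with ((hx | hx) | hx) | hx
  · exact famA_subset hx
  · exact famB_subset hx
  · exact famB'_subset hx
  · exact famA'_subset hx

theorem ncard_ne_none : {j : GolayPt | j ≠ none}.ncard = 23 := by
  have : {j : GolayPt | j ≠ none} = ((Finset.univ.erase none : Finset GolayPt) : Set GolayPt) := by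
    ext j
    simp
  rw [this, Set.ncard_coe_finset]
  decide

theorem famA_ncard : famA.ncard = 23 := by
  unfold famA
  rw [Set.InjOn.ncard_image, ncard_ne_none]
  intro j hj j' hj' h
  by_contra hne
  have h1 := congrFun h j
  simp only at h1
  rw [pair4_apply_right (fun h => hj h.symm), pair4_apply_other hj hne] at h1
  omega

theorem famB_ncard : famB.ncard = 253 := by
  unfold famB
  rw [Set.InjOn.ncard_image, octInf_ncard]
  intro o _ o' _ h
  have h1 := cls_two_vB o ∅ (Finset.empty_subset _)
  have h2 := cls_two_vB o' ∅ (Finset.empty_subset _)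
  simp only at h
  rw [← h1, ← h2, h]

theorem famB'_ncard : famB'.ncard = 253 := by
  unfold famB'
  rw [Set.InjOn.ncard_image, octInf_ncard]
  intro o _ o' _ h
  exact (vC_injective h).2

theorem famA'_ncard : famA'.ncard = 23 := by
  unfold famA'
  rw [Set.InjOn.ncard_image, ncard_ne_none]
  intro j _ j' _ h
  exact (vC_injective h).1

theorem famA_none {x : GolayPt → ℤ} (h : x ∈ famA) : x none = 4 := by
  obtain ⟨j, hj, rfl⟩ := h
  exact pair4_apply_left (fun h => hj h.symm) _ _

theorem famB_none {x : GolayPt → ℤ} (h : x ∈ famB) : x none = 2 := by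
  obtain ⟨o, ⟨ho, hn⟩, rfl⟩ := h
  show vB o ∅ none = 2
  unfold vB
  simp [hn]

theorem famB'_none {x : GolayPt → ℤ} (h : x ∈ famB') : x none = 3 := by
  obtain ⟨o, ⟨ho, hn⟩, rfl⟩ := h
  show vC none o none = 3
  unfold vC
  simp [hn]

theorem famA'_none {x : GolayPt → ℤ} (h : x ∈ famA') : x none = 1 := by
  obtain ⟨j, hj, rfl⟩ := h
  show vC j ∅ none = 1
  unfold vC
  have : (none : GolayPt) ≠ j := fun h => hj h.symm
  simp [this]

theorem partners5_ncard : partners5.ncard = 552 := by
  have fA : famA.Finite := Set.finite_of_ncard_ne_zero (by rw [famA_ncard]; norm_num)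
  have fB : famB.Finite := Set.finite_of_ncard_ne_zero (by rw [famB_ncard]; norm_num)
  have fB' : famB'.Finite := Set.finite_of_ncard_ne_zero (by rw [famB'_ncard]; norm_num)
  have fA' : famA'.Finite := Set.finite_of_ncard_ne_zero (by rw [famA'_ncard]; norm_num)
  have d1 : Disjoint famA famB := by
    rw [Set.disjoint_left]
    intro x h1 h2
    have := famA_none h1
    have := famB_none h2
    omega
  have d2 : Disjoint (famA ∪ famB) famB' := by
    rw [Set.disjoint_left]
    rintro x (h1 | h1) h2
    · have := famA_none h1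
      have := famB'_none h2
      omega
    · have := famB_none h1
      have := famB'_none h2
      omega
  have d3 : Disjoint (famA ∪ famB ∪ famB') famA' := by
    rw [Set.disjoint_left]
    rintro x ((h1 | h1) | h1) h2
    · have := famA_none h1
      have := famA'_none h2
      omega
    · have := famB_none h1
      have := famA'_none h2
      omega
    · have := famB'_none h1
      have := famA'_none h2
      omega
  rw [partners5_eq, Set.ncard_union_eq d3 ((fA.union fB).union fB') fA',
    Set.ncard_union_eq d2 (fA.union fB) fB', Set.ncard_union_eq d1 fA fB, famA_ncard, famB_ncard,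
    famB'_ncard, famA'_ncard]

end Cfsg.Agent.helper27
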