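import Mathlib
import Cfsg.Agent.Lib_helper27_Count1

set_option autoImplicit false

namespace Cfsg.Agent.helper27

open Cfsg
open scoped Pointwise

/-! ### basic facts on the action -/

theorem co0_smul_val (g : Co0) (v : leechLattice) : g • v = g.1 v := rfl

theorem co0_sqNorm (g : Co0) (v : leechLattice) : sqNorm (g • v).1 = sqNorm v.1 := g.2.2 v

theorem co0_smul_sub (g : Co0) (a b : leechLattice) : g • (a - b) = g • a - g • b :=
  co0_map_sub g.2 a b

theorem co0_smul_add (g : Co0) (a b : leechLattice) : g • (a + b) = g • a + g • b :=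
  g.2.1 a b

theorem co0_smul_dot (g : Co0) (a b : leechLattice) :
    dotInt (g • a).1 (g • b).1 = dotInt a.1 b.1 := co0_dot g.2 a b

/-- the minimal vectors whose difference with `u` is minimal -/
def partnersOf (u : leechLattice) : Set leechLattice :=
  {v | sqNorm v.1 = 32 ∧ sqNorm (u.1 - v.1) = 32}

theorem partnersOf_smul (g : Co0) (u : leechLattice) :
    partnersOf (g • u) = (fun v => g • v) '' partnersOf u := by
  ext v
  constructor
  · rintro ⟨h1, h2⟩
    refine ⟨g⁻¹ • v, ⟨?_, ?_⟩, smul_inv_smul g v⟩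
    · rw [co0_sqNorm, h1]
    · have : u - g⁻¹ • v = g⁻¹ • (g • u - v) := by
        rw [co0_smul_sub, inv_smul_smul]
      have h3 : sqNorm (u - g⁻¹ • v : leechLattice).1 = 32 := by
        rw [this, co0_sqNorm]
        exact h2
      exact h3
  · rintro ⟨w, ⟨h1, h2⟩, rfl⟩
    refine ⟨?_, ?_⟩
    · show sqNorm (g • w).1 = 32
      rw [co0_sqNorm, h1]
    · have h3 : sqNorm (g • u - g • w : leechLattice).1 = 32 := by
        rw [← co0_smul_sub, co0_sqNorm]
        exact h2
      exact h3

theorem partnersOf_ncard_smul (g : Co0) (u : leechLattice) :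
    (partnersOf (g • u)).ncard = (partnersOf u).ncard := by
  rw [partnersOf_smul, Set.ncard_image_of_injective _ (MulAction.injective g)]

theorem partnersOf_u5 : (partnersOf ⟨u5, u5_mem⟩).ncard = 552 := by
  rw [← partners5_ncard, ← Set.ncard_image_of_injective _ Subtype.val_injective]
  congr 1
  ext x
  constructor
  · rintro ⟨v, ⟨h1, h2⟩, rfl⟩
    refine ⟨v.2, h1, ?_⟩
    have h3 : sqNorm (u5 - v.1) = 32 := h2
    rw [sqNorm_sub, h1] at h3
    have : sqNorm u5 = 48 := by decide
    omega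
  · rintro ⟨hx, hn, hd⟩
    refine ⟨⟨x, hx⟩, ⟨hn, ?_⟩, rfl⟩
    show sqNorm (u5 - x) = 32
    rw [sqNorm_sub, hn, hd]
    have : sqNorm u5 = 48 := by decide
    omega

/-- statement of `S1578` -/
theorem partners_ncard (u : leechLattice) (hu : sqNorm (u : GolayPt → ℤ) = 48) :
    {v : leechLattice | sqNorm (v : GolayPt → ℤ) = 32 ∧
      sqNorm ((u - v : GolayPt → ℤ)) = 32}.ncard = 552 := by
  have h48 : sqNorm ((⟨u5, u5_mem⟩ : leechLattice) : GolayPt → ℤ) = 48 := by decide
  obtain ⟨g, hg⟩ := co0_transitive_48 ⟨u5, u5_mem⟩ u h48 hu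
  have := partnersOf_ncard_smul g ⟨u5, u5_mem⟩
  rw [hg, partnersOf_u5] at this
  exact this

end Cfsg.Agent.helper27
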