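import Mathlib

set_option autoImplicit false

namespace Cfsg.Agent.helper27

/-- double counting for an invariant relation between two orbits -/
theorem double_count_orbits {α : Type*} {G : Type*} [Group G] [MulAction G α] (A B : Set α)
    (hA : A.Finite) (hB : B.Finite) (R : α → α → Prop)
    (hR : ∀ (g : G) (a b : α), R a b → R (g • a) (g • b))
    (hAinv : ∀ (g : G), ∀ a ∈ A, g • a ∈ A) (hBinv : ∀ (g : G), ∀ b ∈ B, g • b ∈ B)
    (hAt : ∀ a ∈ A, ∀ a' ∈ A, ∃ g : G, g • a = a') (hBt : ∀ b ∈ B, ∀ b' ∈ B, ∃ g : G, g • b = b')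
    (a0 : α) (ha0 : a0 ∈ A) (b0 : α) (hb0 : b0 ∈ B) :
    A.ncard * {b | b ∈ B ∧ R a0 b}.ncard = B.ncard * {a | a ∈ A ∧ R a b0}.ncard := by
  classical
  -- fibres over `A`
  have fibA : ∀ a ∈ A, {b | b ∈ B ∧ R a b}.ncard = {b | b ∈ B ∧ R a0 b}.ncard := by
    intro a ha
    obtain ⟨g, hg⟩ := hAt a0 ha0 a ha
    have : {b | b ∈ B ∧ R a b} = (fun b => g • b) '' {b | b ∈ B ∧ R a0 b} := by
      ext b
      constructor
      · rintro ⟨h1, h2⟩
        refine ⟨g⁻¹ • b, ⟨hBinv _ _ h1, ?_⟩, smul_inv_smul g b⟩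
        have := hR g⁻¹ a b h2
        rwa [← hg, inv_smul_smul] at this
      · rintro ⟨b', ⟨h1, h2⟩, rfl⟩
        refine ⟨hBinv _ _ h1, ?_⟩
        rw [← hg]
        exact hR g a0 b' h2
    rw [this, Set.ncard_image_of_injective _ (MulAction.injective g)]
  have fibB : ∀ b ∈ B, {a | a ∈ A ∧ R a b}.ncard = {a | a ∈ A ∧ R a b0}.ncard := by
    intro b hb
    obtain ⟨g, hg⟩ := hBt b0 hb0 b hb
    have : {a | a ∈ A ∧ R a b} = (fun a => g • a) '' {a | a ∈ A ∧ R a b0} := by
      ext a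
      constructor
      · rintro ⟨h1, h2⟩
        refine ⟨g⁻¹ • a, ⟨hAinv _ _ h1, ?_⟩, smul_inv_smul g a⟩
        have := hR g⁻¹ a b h2
        rwa [← hg, inv_smul_smul] at this
      · rintro ⟨a', ⟨h1, h2⟩, rfl⟩
        refine ⟨hAinv _ _ h1, ?_⟩
        rw [← hg]
        exact hR g a' b0 h2
    rw [this, Set.ncard_image_of_injective _ (MulAction.injective g)]
  have key := Finset.sum_card_bipartiteAbove_eq_sum_card_bipartiteBelow (s := hA.toFinset)
    (t := hB.toFinset) R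
  have e1 : ∀ a ∈ hA.toFinset, (hB.toFinset.bipartiteAbove R a).card
      = {b | b ∈ B ∧ R a0 b}.ncard := by
    intro a ha
    rw [← fibA a ((Set.Finite.mem_toFinset hA).mp ha), ← Set.ncard_coe_finset]
    congr 1
    ext b
    simp [Finset.bipartiteAbove]
  have e2 : ∀ b ∈ hB.toFinset, (hA.toFinset.bipartiteBelow R b).card
      = {a | a ∈ A ∧ R a b0}.ncard := by
    intro b hb
    rw [← fibB b ((Set.Finite.mem_toFinset hB).mp hb), ← Set.ncard_coe_finset]
    congr 1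
    ext a
    simp [Finset.bipartiteBelow]
  rw [Finset.sum_congr rfl e1, Finset.sum_congr rfl e2, Finset.sum_const, Finset.sum_const,
    smul_eq_mul, smul_eq_mul, ← Set.ncard_eq_toFinset_card A hA,
    ← Set.ncard_eq_toFinset_card B hB] at key
  exact key

end Cfsg.Agent.helper27
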