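import Mathlib
import Cfsg.Agent.Lib_helper27_Count2
import Cfsg.Agent.Lib_helper27_DoubleCount
import Cfsg.Agent.Lib_helper27_Census2

set_option autoImplicit false

namespace Cfsg.Agent.helper27

open Cfsg
open scoped Pointwise

/-- lattice vectors of a given norm -/
def LN (n : ℤ) : Set leechLattice := {v | sqNorm v.1 = n}

theorem LN_image (n : ℤ) :
    Subtype.val '' LN n = {x : GolayPt → ℤ | x ∈ leechLattice ∧ sqNorm x = n} := by
  ext x
  constructor
  · rintro ⟨v, hv, rfl⟩
    exact ⟨v.2, hv⟩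
  · rintro ⟨hx, hn⟩
    exact ⟨⟨x, hx⟩, hn, rfl⟩

theorem LN_ncard_32 : (LN 32).ncard = 196560 := by
  rw [← Set.ncard_image_of_injective _ Subtype.val_injective, LN_image, min_vectors_ncard]

theorem LN_ncard_48 : (LN 48).ncard = 16773120 := by
  rw [← Set.ncard_image_of_injective _ Subtype.val_injective, LN_image, norm48_ncard]

theorem LN_ncard_64 : (LN 64).ncard = 398034000 := by
  rw [← Set.ncard_image_of_injective _ Subtype.val_injective, LN_image, norm64_ncard]

theorem LN_finite_32 : (LN 32).Finite :=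
  Set.finite_of_ncard_ne_zero (by rw [LN_ncard_32]; norm_num)

theorem LN_finite_48 : (LN 48).Finite :=
  Set.finite_of_ncard_ne_zero (by rw [LN_ncard_48]; norm_num)

theorem LN_finite_64 : (LN 64).Finite :=
  Set.finite_of_ncard_ne_zero (by rw [LN_ncard_64]; norm_num)

theorem LN_inv (n : ℤ) (g : Co0) (v : leechLattice) (hv : v ∈ LN n) : g • v ∈ LN n := by
  show sqNorm (g • v).1 = n
  rw [co0_sqNorm]
  exact hv

theorem co0_transitive_64 (v w : leechLattice) (hv : sqNorm v.1 = 64) (hw : sqNorm w.1 = 64) :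
    ∃ g : Co0, g • v = w :=
  ((conn_eInf_of_64 v.2 hv).trans (conn_eInf_of_64 w.2 hw).symm).exists_smul

/-- the relation `b - a` is minimal -/
def RelMin (a b : leechLattice) : Prop := sqNorm (b.1 - a.1) = 32

theorem RelMin_smul (g : Co0) (a b : leechLattice) (h : RelMin a b) : RelMin (g • a) (g • b) := by
  have h1 : sqNorm (g • b - g • a : leechLattice).1 = 32 := by
    rw [← co0_smul_sub, co0_sqNorm]
    exact h
  exact h1

/-- minimal vectors with a given inner product with `v` -/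
def Dset (v : leechLattice) (c : ℤ) : Set leechLattice :=
  {w | sqNorm w.1 = 32 ∧ dotInt v.1 w.1 = c}

theorem fibre_eq_Dset (v : leechLattice) (hv : sqNorm v.1 = 32) (n c : ℤ) (hn : n = 64 + 2 * c) :
    {u | u ∈ LN n ∧ RelMin v u}.ncard = (Dset v c).ncard := by
  have : {u | u ∈ LN n ∧ RelMin v u} = (fun w => v + w) '' Dset v c := by
    ext u
    constructor
    · rintro ⟨h1, h2⟩
      refine ⟨u - v, ⟨h2, ?_⟩, add_sub_cancel v u⟩
      have h3 : sqNorm u.1 = n := h1
      have h4 : sqNorm (u.1 - v.1) = 32 := h2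
      show dotInt v.1 (u.1 - v.1) = c
      rw [dotInt_sub_right, dotInt_self, hv]
      rw [sqNorm_sub, h3, hv, dotInt_comm] at h4
      omega
    · rintro ⟨w, ⟨h1, h2⟩, rfl⟩
      refine ⟨?_, ?_⟩
      · show sqNorm (v.1 + w.1) = n
        rw [sqNorm_add, hv, h1, h2, hn]
        ring
      · show sqNorm (v.1 + w.1 - v.1) = 32
        rw [add_sub_cancel_left]
        exact h1
  rw [this, Set.ncard_image_of_injective _ (add_right_injective v)]

theorem Dset_m8 (v : leechLattice) (hv : sqNorm v.1 = 32) : (Dset v (-8)).ncard = 47104 := by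
  have h48 : sqNorm ((⟨u5, u5_mem⟩ : leechLattice) : GolayPt → ℤ) = 48 := by decide
  have key := double_count_orbits (G := Co0) (LN 32) (LN 48) LN_finite_32 LN_finite_48 RelMin
    RelMin_smul (LN_inv 32) (LN_inv 48) (fun a ha a' ha' => co0_transitive_min a a' ha ha')
    (fun a ha a' ha' => co0_transitive_48 a a' ha ha') v hv ⟨u5, u5_mem⟩ h48
  rw [fibre_eq_Dset v hv 48 (-8) (by norm_num), LN_ncard_32, LN_ncard_48] at key
  have : {a | a ∈ LN 32 ∧ RelMin a ⟨u5, u5_mem⟩} = partnersOf ⟨u5, u5_mem⟩ := rfl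
  rw [this, partnersOf_u5] at key
  omega

/-! ### decompositions of a vector of the standard cross -/

def fam46 : Set (GolayPt → ℤ) :=
  (fun p : GolayPt × Bool => pair4 none p.1 4 (sgn4 p.2)) '' {p | p.1 ≠ none}

theorem fam46_ncard : fam46.ncard = 46 := by
  unfold fam46
  rw [Set.InjOn.ncard_image]
  · have : {p : GolayPt × Bool | p.1 ≠ none}
        = ((Finset.univ.filter (fun p : GolayPt × Bool => p.1 ≠ none) :
          Finset (GolayPt × Bool)) : Set (GolayPt × Bool)) := by
      ext p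
      simp
    rw [this, Set.ncard_coe_finset]
    decide
  · rintro ⟨j, s⟩ hj ⟨j', s'⟩ hj' h
    simp only at h
    have hj0 : (none : GolayPt) ≠ j := fun h => hj h.symm
    have hj0' : (none : GolayPt) ≠ j' := fun h => hj' h.symm
    have e1 : j = j' := by
      by_contra hne
      have h1 := congrFun h j
      rw [pair4_apply_right hj0, pair4_apply_other hj hne] at h1
      rcases sgn4_cases s with h2 | h2 <;> omega
    subst e1
    have h1 := congrFun h j
    rw [pair4_apply_right hj0, pair4_apply_right hj0] at h1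
    rw [sgn4_injective h1]

theorem partners_eInf :
    Subtype.val '' {a | a ∈ LN 32 ∧ RelMin a eInfL} = fam46 := by
  ext x
  constructor
  · rintro ⟨a, ⟨h1, h2⟩, rfl⟩
    have h3 : sqNorm (eInf - a.1) = 32 := h2
    obtain ⟨j, hj, β, hβ, ea, _⟩ := eInf_decomp (a := a.1) (b := eInf - a.1) a.2 h1 h3
      (add_sub_cancel _ _)
    obtain ⟨s, hs⟩ := exists_sgn4 hβ
    refine ⟨(j, s), hj, ?_⟩
    show pair4 none j 4 (sgn4 s) = a.1
    rw [ea, hs]
  · rintro ⟨⟨j, s⟩, hj, rfl⟩
    have hj0 : (none : GolayPt) ≠ j := fun h => hj h.symm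
    have hmem : pair4 none j 4 (sgn4 s) ∈ leechLattice :=
      (mem_leechLattice_iff _).mpr (pair4_mem_leechSet _ _ rfl
        (by rcases sgn4_cases s with h | h <;> rw [h] <;> rfl)
        (by rcases sgn4_cases s with h | h <;> rw [h] <;> rfl))
    have hn : sqNorm (pair4 none j 4 (sgn4 s)) = 32 := by
      rw [sqNorm_pair4 hj0]
      rcases sgn4_cases s with h | h <;> rw [h] <;> rfl
    refine ⟨⟨_, hmem⟩, ⟨hn, ?_⟩, rfl⟩
    show sqNorm (eInf - pair4 none j 4 (sgn4 s)) = 32
    rw [sqNorm_sub, sqNorm_eInf, hn]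
    have : dotInt eInf (pair4 none j 4 (sgn4 s)) = 8 * pair4 none j 4 (sgn4 s) none :=
      dotInt_single_left none 8 _
    rw [this, pair4_apply_left hj0]
    rfl

theorem Dset_zero (v : leechLattice) (hv : sqNorm v.1 = 32) : (Dset v 0).ncard = 93150 := by
  have h64 : sqNorm (eInfL : leechLattice).1 = 64 := sqNorm_eInf
  have key := double_count_orbits (G := Co0) (LN 32) (LN 64) LN_finite_32 LN_finite_64 RelMin
    RelMin_smul (LN_inv 32) (LN_inv 64) (fun a ha a' ha' => co0_transitive_min a a' ha ha')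
    (fun a ha a' ha' => co0_transitive_64 a a' ha ha') v hv eInfL h64
  rw [fibre_eq_Dset v hv 64 0 (by norm_num), LN_ncard_32, LN_ncard_64,
    ← Set.ncard_image_of_injective {a | a ∈ LN 32 ∧ RelMin a eInfL} Subtype.val_injective,
    partners_eInf, fam46_ncard] at key
  omega


/-! ### the remaining inner products -/

theorem dot_values (v w : leechLattice) (hv : sqNorm v.1 = 32) (hw : sqNorm w.1 = 32) :
    dotInt v.1 w.1 ∈ ({-32, -16, -8, 0, 8, 16, 32} : Finset ℤ) := by
  have h8 := eight_dvd_dotInt v.2 w.2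
  have h1 : sqNorm (v.1 - w.1) = 0 ∨ 32 ≤ sqNorm (v.1 - w.1) := by
    by_cases h : v.1 - w.1 = 0
    · left; exact (sqNorm_eq_zero_iff _).mpr h
    · right; exact min_sqNorm_lattice (leechLattice.sub_mem v.2 w.2) h
  have h2 : sqNorm (v.1 + w.1) = 0 ∨ 32 ≤ sqNorm (v.1 + w.1) := by
    by_cases h : v.1 + w.1 = 0
    · left; exact (sqNorm_eq_zero_iff _).mpr h
    · right; exact min_sqNorm_lattice (leechLattice.add_mem v.2 w.2) h
  rw [sqNorm_sub, hv, hw] at h1
  rw [sqNorm_add, hv, hw] at h2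
  have : dotInt v.1 w.1 = -32 ∨ dotInt v.1 w.1 = -16 ∨ dotInt v.1 w.1 = -8 ∨ dotInt v.1 w.1 = 0 ∨
      dotInt v.1 w.1 = 8 ∨ dotInt v.1 w.1 = 16 ∨ dotInt v.1 w.1 = 32 := by omega
  simp only [Finset.mem_insert, Finset.mem_singleton]
  exact this

theorem Dset_32 (v : leechLattice) (hv : sqNorm v.1 = 32) : Dset v 32 = {v} := by
  ext w
  constructor
  · rintro ⟨h1, h2⟩
    have h3 : sqNorm (v.1 - w.1) = 0 := by
      rw [sqNorm_sub, hv, h1, h2]
      rfl
    have h4 := (sqNorm_eq_zero_iff _).mp h3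
    have : v.1 = w.1 := sub_eq_zero.mp h4
    exact (Subtype.ext this).symm
  · rintro rfl
    exact ⟨hv, by rw [dotInt_self, hv]⟩

theorem Dset_neg (v : leechLattice) (c : ℤ) : (Dset v (-c)).ncard = (Dset v c).ncard := by
  have : Dset v (-c) = (fun w => -w) '' Dset v c := by
    ext w
    constructor
    · rintro ⟨h1, h2⟩
      refine ⟨-w, ⟨?_, ?_⟩, neg_neg w⟩
      · show sqNorm (-w.1) = 32
        rw [sqNorm_neg, h1]
      · show dotInt v.1 (-w.1) = c
        rw [dotInt_neg_right', h2, neg_neg]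
    · rintro ⟨w', ⟨h1, h2⟩, rfl⟩
      refine ⟨?_, ?_⟩
      · show sqNorm (-w'.1) = 32
        rw [sqNorm_neg, h1]
      · show dotInt v.1 (-w'.1) = -c
        rw [dotInt_neg_right', h2]
  rw [this, Set.ncard_image_of_injective _ neg_injective]

theorem Dset_m32 (v : leechLattice) (hv : sqNorm v.1 = 32) : (Dset v (-32)).ncard = 1 := by
  rw [Dset_neg, Dset_32 v hv, Set.ncard_singleton]

theorem Dset_m16 (v : leechLattice) (hv : sqNorm v.1 = 32) : (Dset v (-16)).ncard = 4600 := by
  classical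
  have hcard : LN_finite_32.toFinset.card = 196560 := by
    rw [← Set.ncard_eq_toFinset_card (LN 32) LN_finite_32, LN_ncard_32]
  have hfib := Finset.card_eq_sum_card_fiberwise (s := LN_finite_32.toFinset)
    (t := ({-32, -16, -8, 0, 8, 16, 32} : Finset ℤ)) (f := fun w => dotInt v.1 w.1)
    (fun w hw => dot_values v w hv ((Set.Finite.mem_toFinset LN_finite_32).mp hw))
  have hD : ∀ c : ℤ, (LN_finite_32.toFinset.filter (fun w => dotInt v.1 w.1 = c)).card
      = (Dset v c).ncard := by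
    intro c
    rw [← Set.ncard_coe_finset]
    congr 1
    ext w
    simp [Dset, LN]
  simp only [hD] at hfib
  rw [hcard, Finset.sum_insert (by decide), Finset.sum_insert (by decide),
    Finset.sum_insert (by decide), Finset.sum_insert (by decide), Finset.sum_insert (by decide),
    Finset.sum_insert (by decide), Finset.sum_singleton] at hfib
  have e1 := Dset_m32 v hv
  have e2 : (Dset v 32).ncard = 1 := by rw [Dset_32 v hv, Set.ncard_singleton]
  have e3 := Dset_m8 v hv
  have e4 : (Dset v 8).ncard = 47104 := by rw [← Dset_neg, e3]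
  have e5 := Dset_zero v hv
  have e6 : (Dset v 16).ncard = (Dset v (-16)).ncard := (Dset_neg v 16).symm
  omega

theorem Dset_image (v : leechLattice) (c : ℤ) :
    Subtype.val '' Dset v c
      = {w : GolayPt → ℤ | w ∈ leechLattice ∧ sqNorm w = 32 ∧ dotInt v.1 w = c} := by
  ext x
  constructor
  · rintro ⟨w, ⟨h1, h2⟩, rfl⟩
    exact ⟨w.2, h1, h2⟩
  · rintro ⟨hx, h1, h2⟩
    exact ⟨⟨x, hx⟩, ⟨h1, h2⟩, rfl⟩

/-- statement of `S1573` -/
theorem inner_product_census (v : GolayPt → ℤ) (hv : v ∈ leechLattice) (hvn : sqNorm v = 32) :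
    {w : GolayPt → ℤ | w ∈ leechLattice ∧ sqNorm w = 32 ∧ dotInt v w = -16}.ncard = 4600 ∧
    {w : GolayPt → ℤ | w ∈ leechLattice ∧ sqNorm w = 32 ∧ dotInt v w = -8}.ncard = 47104 ∧
    {w : GolayPt → ℤ | w ∈ leechLattice ∧ sqNorm w = 32 ∧ dotInt v w = 0}.ncard = 93150 := by
  have h := Dset_image ⟨v, hv⟩
  refine ⟨?_, ?_, ?_⟩
  · rw [← h, Set.ncard_image_of_injective _ Subtype.val_injective]
    exact Dset_m16 ⟨v, hv⟩ hvn
  · rw [← h, Set.ncard_image_of_injective _ Subtype.val_injective]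
    exact Dset_m8 ⟨v, hv⟩ hvn
  · rw [← h, Set.ncard_image_of_injective _ Subtype.val_injective]
    exact Dset_zero ⟨v, hv⟩ hvn

end Cfsg.Agent.helper27
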