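import Mathlib
import Cfsg.Agent.Lib_helper27_Count3

set_option autoImplicit false

namespace Cfsg.Agent.helper27

open Cfsg
open scoped Pointwise

/-! ### pairs of lattice vectors related by an automorphism -/

/-- the pair `(x, y)` is mapped to `(x', y')` by some automorphism -/
def Conn2 (x y x' y' : GolayPt → ℤ) : Prop :=
  ∃ (hx : x ∈ leechLattice) (hy : y ∈ leechLattice) (g : Equiv.Perm leechLattice), g ∈ Co0 ∧
    ((g ⟨x, hx⟩ : leechLattice) : GolayPt → ℤ) = x' ∧ ((g ⟨y, hy⟩ : leechLattice) : GolayPt → ℤ) = y'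

theorem Conn2.refl {x y : GolayPt → ℤ} (hx : x ∈ leechLattice) (hy : y ∈ leechLattice) :
    Conn2 x y x y := ⟨hx, hy, 1, Co0.one_mem, rfl, rfl⟩

theorem Conn2.mem {x y x' y' : GolayPt → ℤ} (h : Conn2 x y x' y') :
    x ∈ leechLattice ∧ y ∈ leechLattice ∧ x' ∈ leechLattice ∧ y' ∈ leechLattice := by
  obtain ⟨hx, hy, g, _, rfl, rfl⟩ := h
  exact ⟨hx, hy, (g ⟨x, hx⟩).2, (g ⟨y, hy⟩).2⟩

theorem Conn2.symm {x y x' y' : GolayPt → ℤ} (h : Conn2 x y x' y') : Conn2 x' y' x y := by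
  obtain ⟨_, _, hx', hy'⟩ := h.mem
  obtain ⟨hx, hy, g, hg, e1, e2⟩ := h
  refine ⟨hx', hy', g⁻¹, Co0.inv_mem hg, ?_, ?_⟩
  · have : (⟨x', hx'⟩ : leechLattice) = g ⟨x, hx⟩ := Subtype.ext e1.symm
    rw [this]
    simp
  · have : (⟨y', hy'⟩ : leechLattice) = g ⟨y, hy⟩ := Subtype.ext e2.symm
    rw [this]
    simp

theorem Conn2.trans {x y x' y' x'' y'' : GolayPt → ℤ} (h1 : Conn2 x y x' y')
    (h2 : Conn2 x' y' x'' y'') : Conn2 x y x'' y'' := by
  obtain ⟨hx, hy, g, hg, e1, e2⟩ := h1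
  obtain ⟨hx', hy', g', hg', e1', e2'⟩ := h2
  refine ⟨hx, hy, g' * g, Co0.mul_mem hg' hg, ?_, ?_⟩
  · have : g ⟨x, hx⟩ = (⟨x', hx'⟩ : leechLattice) := Subtype.ext e1
    rw [Equiv.Perm.mul_apply, this, e1']
  · have : g ⟨y, hy⟩ = (⟨y', hy'⟩ : leechLattice) := Subtype.ext e2
    rw [Equiv.Perm.mul_apply, this, e2']

theorem Conn2.mono {σ : Equiv.Perm GolayPt} (hσ : σ ∈ M24) {c : Finset GolayPt} (hc : c ∈ GS)
    {x y : GolayPt → ℤ} (hx : x ∈ leechLattice) (hy : y ∈ leechLattice) :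
    Conn2 x y (signedPerm σ c x) (signedPerm σ c y) :=
  ⟨hx, hy, monoPerm σ hσ c hc, monoPerm_mem_Co0 σ hσ c hc, rfl, rfl⟩

theorem Conn2.xi {x y : GolayPt → ℤ} (hx : x ∈ leechLattice) (hy : y ∈ leechLattice) :
    Conn2 x y (xiFun x) (xiFun y) :=
  ⟨hx, hy, xiPerm, xiPerm_mem_Co0, rfl, rfl⟩

theorem Conn2.exists_smul {u v u' v' : leechLattice} (h : Conn2 u.1 v.1 u'.1 v'.1) :
    ∃ g : Co0, g • u = u' ∧ g • v = v' := by
  obtain ⟨hx, hy, g, hg, e1, e2⟩ := h
  exact ⟨⟨g, hg⟩, Subtype.ext e1, Subtype.ext e2⟩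

theorem Conn2.of_smul (g : Co0) (u v : leechLattice) : Conn2 u.1 v.1 (g • u).1 (g • v).1 :=
  ⟨u.2, v.2, g.1, g.2, rfl, rfl⟩

/-- the difference is transported along -/
theorem Conn2.sub_right {x y x' y' : GolayPt → ℤ} (h : Conn2 x y x' y') :
    Conn2 x (x - y) x' (x' - y') := by
  obtain ⟨hx, hy, g, hg, e1, e2⟩ := h
  refine ⟨hx, leechLattice.sub_mem hx hy, g, hg, e1, ?_⟩
  have : (⟨x - y, leechLattice.sub_mem hx hy⟩ : leechLattice) = ⟨x, hx⟩ - ⟨y, hy⟩ := rfl
  rw [this, co0_map_sub hg, ← e1, ← e2]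
  rfl

/-! ### permutations given by tables -/

/-- the map of the points given by a table of indices -/
def tblFun (l : List ℕ) (p : GolayPt) : GolayPt := ptOf (l.getD (idx p) 0)

/-- a sufficient criterion for a permutation to preserve the code -/
theorem mem_M24_of_reenc (σ : Equiv.Perm GolayPt)
    (h : ∀ t : ZMod 23, wperm σ (qrWord t) = toWord (encN (infoK (wperm σ (qrWord t))))) :
    σ ∈ M24 := by
  apply mem_M24_of_preserves_one
  apply wperm_mem_of_gens
  intro t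
  exact mem_golayCode_of_reenc _ (h t)

/-! ### transitivity on flags -/

theorem extend_emb5 {s : Finset GolayPt} {k : ℕ} (hk : k ≤ 5) (hs : 5 ≤ s.card)
    (x : Fin k ↪ GolayPt) (hx : ∀ i, x i ∈ s) : ∃ x5 : Fin 5 ↪ GolayPt, (∀ i, x5 i ∈ s) ∧
      ∀ i : Fin k, x5 (Fin.castLE hk i) = x i := by
  let x' : Fin k ↪ s := ⟨fun i => ⟨x i, hx i⟩, fun i j h => x.injective (Subtype.ext_iff.mp h)⟩
  have hcard : 5 ≤ Nat.card s := by
    rw [Nat.card_eq_fintype_card, Fintype.card_coe]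
    exact hs
  obtain ⟨x5', hx5'⟩ := Fin.Embedding.restrictSurjective_of_le_natCard hk hcard x'
  refine ⟨x5'.trans (Function.Embedding.subtype _), fun i => (x5' i).2, ?_⟩
  intro i
  have := DFunLike.congr_fun hx5' i
  exact congrArg Subtype.val this

theorem exists_M24_flag {o o' : Finset GolayPt} (ho : o ∈ octads) (ho' : o' ∈ octads)
    {p p' : GolayPt} (hp : p ∈ o) (hp' : p' ∈ o') : ∃ σ ∈ M24, σ p = p' ∧ σ • o = o' := by
  have h5 := helper2.Golay.m24_k_transitive (k := 5) le_rfl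
  let x : Fin 1 ↪ GolayPt := ⟨fun _ => p, fun i j _ => Subsingleton.elim i j⟩
  let y : Fin 1 ↪ GolayPt := ⟨fun _ => p', fun i j _ => Subsingleton.elim i j⟩
  obtain ⟨x5, hx5, hx0⟩ := extend_emb5 (k := 1) (by norm_num)
    (by rw [octads_card ho]; norm_num) x (fun _ => hp)
  obtain ⟨y5, hy5, hy0⟩ := extend_emb5 (k := 1) (by norm_num)
    (by rw [octads_card ho']; norm_num) y (fun _ => hp')
  obtain ⟨g, hg⟩ := h5.exists_smul_eq x5 y5
  have hgi : ∀ i, g.1 (x5 i) = y5 i := fun i => DFunLike.congr_fun hg i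
  refine ⟨g.1, g.2, ?_, ?_⟩
  · have h1 := hx0 0
    have h2 := hy0 0
    have h3 := hgi (Fin.castLE (n := 1) (by norm_num) 0)
    rw [h1, h2] at h3
    exact h3
  · apply octads_eq_of_inter (helper2.Golay.smul_mem_octads' g.2 ho) ho'
    have hsub : Finset.univ.map y5 ⊆ g.1 • o ∩ o' := by
      intro q hq
      rw [Finset.mem_map] at hq
      obtain ⟨i, _, rfl⟩ := hq
      rw [Finset.mem_inter]
      refine ⟨?_, hy5 i⟩
      rw [← hgi i]
      exact Finset.smul_mem_smul_finset (hx5 i)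
    have := Finset.card_le_card hsub
    rw [Finset.card_map, Finset.card_univ, Fintype.card_fin] at this
    exact this

/-- the point stabiliser is transitive on the octads through the point -/
theorem exists_M23_octInf {o o' : Finset GolayPt} (ho : o ∈ octInf) (ho' : o' ∈ octInf) :
    ∃ σ ∈ M24, σ none = none ∧ σ • o = o' :=
  exists_M24_flag ho.1 ho'.1 ho.2 ho'.2

theorem exists_M23_point {j : GolayPt} (hj : j ≠ none) :
    ∃ σ ∈ M24, σ none = none ∧ σ j = some 0 :=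
  exists_M24_two (a := none) (b := j) (a' := none) (b' := some 0) (fun h => hj h.symm) (by decide)

/-! ### permuting the standard shapes -/

theorem symm_mem_iff (σ : Equiv.Perm GolayPt) (T : Finset GolayPt) (i : GolayPt) :
    σ.symm i ∈ T ↔ i ∈ σ • T := by
  rw [← Finset.inv_smul_mem_iff]
  rfl

theorem signedPerm_vB (σ : Equiv.Perm GolayPt) (o s : Finset GolayPt) :
    signedPerm σ ∅ (vB o s) = vB (σ • o) (σ • s) := by
  rw [signedPerm_empty]
  funext i
  unfold vB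
  simp only [symm_mem_iff]

theorem signedPerm_vC (σ : Equiv.Perm GolayPt) (j : GolayPt) (b : Finset GolayPt) :
    signedPerm σ ∅ (vC j b) = vC (σ j) (σ • b) := by
  rw [signedPerm_empty]
  funext i
  unfold vC
  have h : σ.symm i = j ↔ i = σ j := by
    constructor
    · intro h; rw [← h]; simp
    · intro h; rw [h]; simp
  simp only [symm_mem_iff, h]

theorem signedPerm_u5 {σ : Equiv.Perm GolayPt} (h : σ none = none) : signedPerm σ ∅ u5 = u5 := by
  rw [signedPerm_empty]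
  funext i
  rw [u5_apply, u5_apply]
  have : σ.symm i = none ↔ i = none := by
    constructor
    · intro h'; rw [← h, ← h']; simp
    · intro h'; rw [h']; exact (Equiv.symm_apply_eq σ).mpr h.symm
  simp only [this]

theorem signedPerm_pair4 (σ : Equiv.Perm GolayPt) (i j : GolayPt) (a b : ℤ) :
    signedPerm σ ∅ (pair4 i j a b) = pair4 (σ i) (σ j) a b := by
  unfold pair4
  rw [signedPerm_add, signedPerm_single, signedPerm_single]
  simp

end Cfsg.Agent.helper27
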