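import Mathlib
import Cfsg.Agent.Lib_helper27_Conn2

set_option autoImplicit false

namespace Cfsg.Agent.helper27

open Cfsg
open scoped Pointwise

def piA_l : List ℕ := [23, 2, 14, 18, 20, 12, 22, 16, 0, 8, 19, 5, 1, 10, 21, 6, 13, 7, 17, 9, 11, 15, 4, 3]
def piA_r : List ℕ := [8, 12, 1, 23, 22, 11, 15, 17, 9, 19, 13, 20, 5, 16, 2, 21, 7, 18, 3, 10, 4, 14, 6, 0]
def piB_l : List ℕ := [12, 19, 20, 17, 7, 0, 3, 14, 21, 6, 18, 11, 15, 13, 1, 10, 8, 2, 4, 5, 16, 23, 9, 22]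
def piB_r : List ℕ := [5, 14, 17, 6, 18, 19, 9, 4, 16, 22, 15, 11, 0, 13, 7, 12, 20, 3, 10, 1, 2, 8, 23, 21]

def piA : Equiv.Perm GolayPt where
  toFun := tblFun piA_l
  invFun := tblFun piA_r
  left_inv := by decide
  right_inv := by decide

def piB : Equiv.Perm GolayPt where
  toFun := tblFun piB_l
  invFun := tblFun piB_r
  left_inv := by decide
  right_inv := by decide

theorem piA_mem : piA ∈ M24 := mem_M24_of_reenc piA (by decide)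

theorem piB_mem : piB ∈ M24 := mem_M24_of_reenc piB (by decide)


theorem cw_mem_GS {k : ℕ} (hk : k < 4096) : cw k ∈ GS :=
  (mem_supports_golayCode_iff _).mpr ⟨k, hk, rfl⟩

/-- an automorphism fixing `(5, 1, ..., 1)` that is not monomial -/
def hmap (x : GolayPt → ℤ) : GolayPt → ℤ :=
  xiFun (signedPerm piB (cw 7) (xiFun (signedPerm piA ∅ x)))

theorem conn2_hmap {x y : GolayPt → ℤ} (hx : x ∈ leechLattice) (hy : y ∈ leechLattice) :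
    Conn2 x y (hmap x) (hmap y) := by
  have s1 := Conn2.mono piA_mem empty_mem_GS hx hy
  have m1 := s1.mem
  have s2 := Conn2.xi m1.2.2.1 m1.2.2.2
  have m2 := s2.mem
  have s3 := Conn2.mono piB_mem (cw_mem_GS (by norm_num : 7 < 4096)) m2.2.2.1 m2.2.2.2
  have m3 := s3.mem
  have s4 := Conn2.xi m3.2.2.1 m3.2.2.2
  exact ((s1.trans s2).trans s3).trans s4

theorem hmap_chain (c0 c1 c2 c3 c4 : List ℤ) (h1 : signedPerm piA ∅ (ofList c0) = ofList c1)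
    (h2 : xiFun (ofList c1) = ofList c2) (h3 : signedPerm piB (cw 7) (ofList c2) = ofList c3)
    (h4 : xiFun (ofList c3) = ofList c4) : hmap (ofList c0) = ofList c4 := by
  unfold hmap
  rw [h1, h2, h3, h4]

theorem hmap_u5 : hmap u5 = u5 := by
  have e : u5 = ofList [1, 1, 1, 1, 1, 1, 1, 1, 1, 1, 1, 1, 1, 1, 1, 1, 1, 1, 1, 1, 1, 1, 1, 5] := by
    decide
  rw [e]
  exact hmap_chain _
    [1, 1, 1, 5, 1, 1, 1, 1, 1, 1, 1, 1, 1, 1, 1, 1, 1, 1, 1, 1, 1, 1, 1, 1]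
    [1, 1, 1, 1, -1, -3, -1, -1, -1, -1, -1, -1, -1, -1, -3, -1, -1, -3, -1, -1, -1, -1, -1, 1]
    [3, 3, 3, -1, -1, -1, -1, -1, -1, -1, -1, -1, -1, -1, -1, -1, -1, -1, -1, -1, -1, -1, -1, -1]
    _ (by decide) (by decide) (by decide) (by decide)

theorem hmap_a1 : hmap (pair4 none (some 0) 4 4) = vC none (cw 16) := by
  have e : pair4 none (some 0) 4 4
      = ofList [4, 0, 0, 0, 0, 0, 0, 0, 0, 0, 0, 0, 0, 0, 0, 0, 0, 0, 0, 0, 0, 0, 0, 4] := by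
    decide
  have e' : vC none (cw 16) = ofList [1, 1, 1, 1, -1, 1, 1, 1, 1, 1, 1, 1, -1, -1, 1, 1, -1, -1,
      1, -1, -1, 1, 1, 3] := by
    decide
  rw [e, e']
  exact hmap_chain _
    [0, 0, 0, 4, 0, 0, 0, 0, 0, 0, 0, 0, 0, 0, 0, 0, 0, 0, 0, 0, 0, 0, 0, 4]
    [2, 2, 2, 2, 0, -2, 0, 0, 0, 0, 0, 0, 0, 0, -2, 0, 0, -2, 0, 0, 0, 0, 0, -2]
    [2, 2, 2, 0, 0, 0, 0, 0, 0, 0, 0, 0, -2, 0, 0, 0, 0, -2, 0, -2, -2, 0, 2, 0]
    _ (by decide) (by decide) (by decide) (by decide)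

theorem hmap_a2 : hmap (pair4 none (some 14) 4 4) = vB (cw 47) ∅ := by
  have e : pair4 none (some 14) 4 4
      = ofList [0, 0, 0, 0, 0, 0, 0, 0, 0, 0, 0, 0, 0, 0, 4, 0, 0, 0, 0, 0, 0, 0, 0, 4] := by
    decide
  have e' : vB (cw 47) ∅ = ofList [2, 2, 2, 2, 0, 2, 0, 0, 0, 0, 0, 0, 0, 0, 2, 0, 0, 2, 0, 0, 0,
      0, 0, 2] := by
    decide
  rw [e, e']
  exact hmap_chain _
    [0, 0, 0, 4, 0, 0, 0, 0, 0, 0, 0, 0, 0, 0, 0, 0, 0, 0, 0, 0, 0, 4, 0, 0]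
    [0, 0, 0, 2, 0, -2, -2, -2, 0, 0, 0, 0, 0, 0, -2, 0, 0, -2, 0, -2, 0, 2, 0, 0]
    [2, 2, 2, -2, 0, -2, 0, 0, 0, 0, 0, 0, 0, 0, -2, 0, 0, -2, 0, 0, 0, 0, 0, 2]
    _ (by decide) (by decide) (by decide) (by decide)

theorem hmap_a3 : hmap (vC (some 0) ∅) = vB (cw 16) ∅ := by
  have e : vC (some 0) ∅
      = ofList [-3, 1, 1, 1, 1, 1, 1, 1, 1, 1, 1, 1, 1, 1, 1, 1, 1, 1, 1, 1, 1, 1, 1, 1] := by
    decide
  have e' : vB (cw 16) ∅ = ofList [0, 0, 0, 0, 2, 0, 0, 0, 0, 0, 0, 0, 2, 2, 0, 0, 2, 2, 0, 2, 2,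
      0, 0, 2] := by
    decide
  rw [e, e']
  exact hmap_chain _
    [1, 1, 1, 1, 1, 1, 1, 1, 1, 1, 1, 1, 1, 1, 1, 1, 1, 1, 1, 1, 1, 1, 1, -3]
    [-1, -1, -1, -1, -1, -1, -1, -1, -1, -1, -1, -1, -1, -1, -1, -1, -1, -1, -1, -1, -1, -1, -1, 3]
    [1, 1, 1, -1, -1, -1, -1, -1, -1, -1, -1, -1, 1, -1, -1, -1, -1, 1, -1, 1, 1, -1, -3, -1]
    _ (by decide) (by decide) (by decide) (by decide)

end Cfsg.Agent.helper27
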