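import Mathlib
import Cfsg.Agent.Lib_helper27_Fuse1

set_option autoImplicit false

namespace Cfsg.Agent.helper27

open Cfsg
open scoped Pointwise

/-- the reference partner of `(5, 1, ..., 1)` -/
def a0 : GolayPt → ℤ := pair4 none (some 0) 4 4

theorem cw47_octInf : cw 47 ∈ octInf := by
  refine ⟨⟨cw_mem_GS (by norm_num), ?_⟩, ?_⟩
  · rw [cw_card]; decide
  · rw [mem_cw_iff]; decide

theorem cw16_octInf : cw 16 ∈ octInf := by
  refine ⟨⟨cw_mem_GS (by norm_num), ?_⟩, ?_⟩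
  · rw [cw_card]; decide
  · rw [mem_cw_iff]; decide

theorem partners5_mem {x : GolayPt → ℤ} (hx : x ∈ partners5) : x ∈ leechLattice := hx.1

theorem conn2_famA {x : GolayPt → ℤ} (hx : x ∈ famA) : Conn2 u5 x u5 a0 := by
  have hm := partners5_mem (famA_subset hx)
  obtain ⟨j, hj, rfl⟩ := hx
  obtain ⟨σ, hσ, h1, h2⟩ := exists_M23_point hj
  have := Conn2.mono hσ empty_mem_GS u5_mem hm
  rw [signedPerm_u5 h1] at this
  simp only at this
  rw [signedPerm_pair4, h1, h2] at this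
  exact this

theorem conn2_famB {x : GolayPt → ℤ} (hx : x ∈ famB) : Conn2 u5 x u5 a0 := by
  have hm := partners5_mem (famB_subset hx)
  obtain ⟨o, ho, rfl⟩ := hx
  obtain ⟨σ, hσ, h1, h2⟩ := exists_M23_octInf ho cw47_octInf
  have s1 := Conn2.mono hσ empty_mem_GS u5_mem hm
  rw [signedPerm_u5 h1] at s1
  simp only at s1
  rw [signedPerm_vB, h2, Finset.smul_finset_empty] at s1
  have hA : pair4 none (some 14) 4 4 ∈ famA := ⟨some 14, by decide, rfl⟩
  have s2 := conn2_hmap u5_mem (partners5_mem (famA_subset hA))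
  rw [hmap_u5, hmap_a2] at s2
  exact (s1.trans s2.symm).trans (conn2_famA hA)

theorem conn2_famB' {x : GolayPt → ℤ} (hx : x ∈ famB') : Conn2 u5 x u5 a0 := by
  have hm := partners5_mem (famB'_subset hx)
  obtain ⟨o, ho, rfl⟩ := hx
  obtain ⟨σ, hσ, h1, h2⟩ := exists_M23_octInf ho cw16_octInf
  have s1 := Conn2.mono hσ empty_mem_GS u5_mem hm
  rw [signedPerm_u5 h1] at s1
  simp only at s1
  rw [signedPerm_vC, h1, h2] at s1
  have hA : pair4 none (some 0) 4 4 ∈ famA := ⟨some 0, by decide, rfl⟩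
  have s2 := conn2_hmap u5_mem (partners5_mem (famA_subset hA))
  rw [hmap_u5, hmap_a1] at s2
  exact s1.trans s2.symm

theorem conn2_famA' {x : GolayPt → ℤ} (hx : x ∈ famA') : Conn2 u5 x u5 a0 := by
  have hm := partners5_mem (famA'_subset hx)
  obtain ⟨j, hj, rfl⟩ := hx
  obtain ⟨σ, hσ, h1, h2⟩ := exists_M23_point hj
  have s1 := Conn2.mono hσ empty_mem_GS u5_mem hm
  rw [signedPerm_u5 h1] at s1
  simp only at s1
  rw [signedPerm_vC, h2, Finset.smul_finset_empty] at s1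
  have s2 := conn2_hmap u5_mem s1.mem.2.2.2
  rw [hmap_u5, hmap_a3] at s2
  have hB : vB (cw 16) ∅ ∈ famB := ⟨cw 16, cw16_octInf, rfl⟩
  exact (s1.trans s2).trans (conn2_famB hB)

theorem conn2_partners5 {x : GolayPt → ℤ} (hx : x ∈ partners5) : Conn2 u5 x u5 a0 := by
  rw [partners5_eq] at hx
  rcases hx with ((hx | hx) | hx) | hx
  · exact conn2_famA hx
  · exact conn2_famB hx
  · exact conn2_famB' hx
  · exact conn2_famA' hx

theorem mem_partners5_of {v : leechLattice} (hv : v ∈ partnersOf ⟨u5, u5_mem⟩) :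
    v.1 ∈ partners5 := by
  obtain ⟨h1, h2⟩ := hv
  refine ⟨v.2, h1, ?_⟩
  have h3 : sqNorm (u5 - v.1) = 32 := h2
  rw [sqNorm_sub, h1] at h3
  have : sqNorm u5 = 48 := by decide
  omega

/-- every pair (norm 48 vector, partner) is equivalent to the reference pair -/
theorem conn2_pair_std (u v : leechLattice) (hu : sqNorm u.1 = 48) (hv : v ∈ partnersOf u) :
    Conn2 u.1 v.1 u5 a0 := by
  have h48 : sqNorm ((⟨u5, u5_mem⟩ : leechLattice) : GolayPt → ℤ) = 48 := by decide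
  obtain ⟨g, hg⟩ := co0_transitive_48 u ⟨u5, u5_mem⟩ hu h48
  have hv' : g • v ∈ partnersOf ⟨u5, u5_mem⟩ := by
    rw [← hg, partnersOf_smul]
    exact ⟨v, hv, rfl⟩
  have s1 := Conn2.of_smul g u v
  rw [hg] at s1
  exact s1.trans (conn2_partners5 (mem_partners5_of hv'))

/-- statement of `S1579` -/
theorem stab48_transitive_partners (u v v' : leechLattice) (hu : sqNorm (u : GolayPt → ℤ) = 48)
    (hv : sqNorm (v : GolayPt → ℤ) = 32 ∧ sqNorm ((u - v : GolayPt → ℤ)) = 32)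
    (hv' : sqNorm (v' : GolayPt → ℤ) = 32 ∧ sqNorm ((u - v' : GolayPt → ℤ)) = 32) :
    ∃ g : Co0, g • u = u ∧ g • v = v' := by
  have s1 := conn2_pair_std u v hu hv
  have s2 := conn2_pair_std u v' hu hv'
  exact (s1.trans s2.symm).exists_smul

/-- statement of `S1575` -/
theorem stab_min_transitive_m8 (v w w' : leechLattice) (hv : sqNorm (v : GolayPt → ℤ) = 32)
    (hw : sqNorm (w : GolayPt → ℤ) = 32) (hw' : sqNorm (w' : GolayPt → ℤ) = 32)
    (hd : dotInt (v : GolayPt → ℤ) (w : GolayPt → ℤ) = -8)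
    (hd' : dotInt (v : GolayPt → ℤ) (w' : GolayPt → ℤ) = -8) :
    ∃ g : Co0, g • v = v ∧ g • w = w' := by
  have key : ∀ z : leechLattice, sqNorm z.1 = 32 → dotInt v.1 z.1 = -8 →
      Conn2 (v + z : leechLattice).1 v.1 u5 a0 := by
    intro z hz hdz
    apply conn2_pair_std
    · show sqNorm (v.1 + z.1) = 48
      rw [sqNorm_add, hv, hz, hdz]
      rfl
    · refine ⟨hv, ?_⟩
      show sqNorm (v.1 + z.1 - v.1) = 32
      rw [add_sub_cancel_left]
      exact hz
  obtain ⟨g, h1, h2⟩ := ((key w hw hd).trans (key w' hw' hd').symm).exists_smul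
  refine ⟨g, h2, ?_⟩
  have h3 : g • (v + w) = g • v + g • w := co0_smul_add g v w
  rw [h1, h2] at h3
  exact (add_left_cancel h3).symm

end Cfsg.Agent.helper27
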