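import Mathlib
import Cfsg.Agent.Lib_helper2_M24d

set_option autoImplicit false
set_option linter.constructorNameAsVariable false

namespace Cfsg.Agent.helper2.Golay

open Cfsg Cfsg.Agent.helper27
open scoped Pointwise

theorem pts_and (a b : ℕ) : pts (a &&& b) = pts a ∩ pts b := by
  ext p
  rw [Finset.mem_inter, mem_pts, mem_pts, mem_pts, Nat.testBit_and, Bool.and_eq_true]

theorem count_rows (f : ℕ → ℕ) (k : ℕ) : ((Finset.range 4096).filter (fun m => f m = k)).card
    = ∑ a ∈ Finset.range 64, ((List.range 64).map (fun b => f (a * 64 + b))).count k := by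
  rw [card_filter_4096]
  apply Finset.sum_congr rfl
  intro a _
  rw [card_filter_eq_count (fun b => f (a * 64 + b))]

/-- Intersection size with the base dodecad, for dodecads (99 otherwise). -/
def ixd (m : ℕ) : ℕ := if wt (cw m) = 12 then wt (d0m &&& cw m) else 99

theorem ixd_count4 : ((Finset.range 4096).filter (fun m => ixd m = 4)).card = 495 := by
  rw [count_rows]
  decide +kernel

theorem ixd_count6 : ((Finset.range 4096).filter (fun m => ixd m = 6)).card = 1584 := by
  rw [count_rows]
  decide +kernel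

theorem ixd_count8 : ((Finset.range 4096).filter (fun m => ixd m = 8)).card = 495 := by
  rw [count_rows]
  decide +kernel

theorem inter_count_d0 (k : ℕ) (hk : k ≠ 99) :
    {d' | d' ∈ dodecads ∧ (pts d0m ∩ d').card = k}.ncard
      = ((Finset.range 4096).filter (fun m => ixd m = k)).card := by
  have h : {d' | d' ∈ dodecads ∧ (pts d0m ∩ d').card = k}
      = ↑(Finset.image (fun m => pts (cw m)) ((Finset.range 4096).filter (fun m => ixd m = k))) := by
    ext d'
    rw [Finset.mem_coe, Finset.mem_image]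
    constructor
    · rintro ⟨hd', hc⟩
      obtain ⟨m, hm, hw, rfl⟩ := exists_of_mem_dodecads hd'
      refine ⟨m, ?_, rfl⟩
      rw [Finset.mem_filter, Finset.mem_range]
      refine ⟨hm, ?_⟩
      unfold ixd
      rw [if_pos hw, ← card_pts, pts_and]
      exact hc
    · rintro ⟨m, hm, rfl⟩
      rw [Finset.mem_filter, Finset.mem_range] at hm
      obtain ⟨hm, hix⟩ := hm
      unfold ixd at hix
      split_ifs at hix with hw
      · refine ⟨pts_mem_dodecads hm hw, ?_⟩
        rw [← pts_and, card_pts]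
        exact hix
      · exact absurd hix.symm hk
  rw [h, Set.ncard_coe_finset, Finset.card_image_of_injOn]
  intro m hm m' hm' hmm
  rw [Finset.coe_filter, Set.mem_ofPred_eq, Finset.mem_range] at hm hm'
  exact cw_injOn hm.1 hm'.1 hmm

theorem inter_count {d : Finset GolayPt} (hd : d ∈ dodecads) (k : ℕ) :
    {d' | d' ∈ dodecads ∧ (d ∩ d').card = k}.ncard
      = {d' | d' ∈ dodecads ∧ (pts d0m ∩ d').card = k}.ncard := by
  obtain ⟨g, hg, hgd⟩ := dodecads_transitive hd d0_mem
  have h : {d' | d' ∈ dodecads ∧ (d ∩ d').card = k}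
      = (fun d'' => g⁻¹ • d'') '' {d' | d' ∈ dodecads ∧ (pts d0m ∩ d').card = k} := by
    ext d'
    constructor
    · rintro ⟨hd', hc⟩
      refine ⟨g • d', ⟨smul_mem_dodecads' hg hd', ?_⟩, inv_smul_smul g d'⟩
      rw [← hgd, ← Finset.smul_finset_inter, Finset.card_smul_finset]
      exact hc
    · rintro ⟨d'', ⟨hd'', hc⟩, rfl⟩
      refine ⟨smul_mem_dodecads' (Subgroup.inv_mem _ hg) hd'', ?_⟩
      rw [← hc, ← hgd]
      have : g • d ∩ d'' = g • (d ∩ g⁻¹ • d'') := by
        rw [Finset.smul_finset_inter, smul_inv_smul]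
      rw [this, Finset.card_smul_finset]
  rw [h, Set.ncard_image_of_injective _ (MulAction.injective g⁻¹)]

theorem dodecad_inter_cases {d d' : Finset GolayPt} (hd : d ∈ dodecads) (hd' : d' ∈ dodecads)
    (hne : d' ≠ d) :
    (d ∩ d').card = 0 ∨ (d ∩ d').card = 4 ∨ (d ∩ d').card = 6 ∨ (d ∩ d').card = 8 := by
  obtain ⟨m, hm, hw, rfl⟩ := exists_of_mem_dodecads hd
  obtain ⟨m', hm', hw', rfl⟩ := exists_of_mem_dodecads hd'
  have hmm : m ≠ m' := by
    rintro rfl
    exact hne rfl
  have h1 := card_inter_cw m m'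
  have hlt : m ^^^ m' < 4096 := Nat.xor_lt_two_pow (n := 12) hm hm'
  have h2 := weights (m ^^^ m') hlt
  have h3 := wt_pos (m ^^^ m') hlt (xor_ne_zero hmm)
  rw [hw, hw'] at h1
  omega

end Cfsg.Agent.helper2.Golay
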