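import Mathlib
import Cfsg.Agent.Lib_helper2_M24e

set_option autoImplicit false
set_option linter.constructorNameAsVariable false

namespace Cfsg.Agent.helper2.Golay

open Cfsg Cfsg.Agent.helper27
open scoped Pointwise

/-- The setwise stabiliser of a set of points in `M24`. -/
abbrev stabM24 (o : Finset GolayPt) : Subgroup (Equiv.Perm GolayPt) :=
  M24 ⊓ MulAction.stabilizer (Equiv.Perm GolayPt) o

theorem mem_stabM24 {o : Finset GolayPt} {g : Equiv.Perm GolayPt} :
    g ∈ stabM24 o ↔ g ∈ M24 ∧ g • o = o :=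
  Subgroup.mem_inf.trans (and_congr Iff.rfl MulAction.mem_stabilizer_iff)

theorem perm_apply_inv (f : Equiv.Perm GolayPt) (x : GolayPt) : f (f⁻¹ x) = x :=
  Equiv.apply_symm_apply f x

theorem perm_inv_apply (f : Equiv.Perm GolayPt) (x : GolayPt) : f⁻¹ (f x) = x :=
  Equiv.symm_apply_apply f x

theorem inv_iff_of_smul_eq {g : Equiv.Perm GolayPt} {o : Finset GolayPt} (h : g • o = o) :
    ∀ x, g x ∈ o ↔ x ∈ o := by
  intro x
  conv_lhs => rw [← h]
  exact Finset.smul_mem_smul_finset_iff g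

theorem smul_eq_of_inv_iff {g : Equiv.Perm GolayPt} {o : Finset GolayPt}
    (h : ∀ x, g x ∈ o ↔ x ∈ o) : g • o = o := by
  ext y
  rw [← Finset.inv_smul_mem_iff, ← h (g⁻¹ • y)]
  show g (g⁻¹ y) ∈ o ↔ y ∈ o
  rw [perm_apply_inv]

theorem fixM24_le_stabM24 (o : Finset GolayPt) : fixM24 o ≤ stabM24 o := by
  intro g hg
  rw [mem_fixM24] at hg
  rw [mem_stabM24]
  refine ⟨hg.1, smul_eq_of_inv_iff ?_⟩
  intro x
  constructor
  · intro hx
    have := hg.2 _ hx
    have h2 := g.injective this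
    rwa [h2] at hx
  · intro hx
    rw [hg.2 x hx]
    exact hx

theorem ncard_octads : (octads : Set (Finset GolayPt)).ncard = 759 := by
  show (wordsOfWeight (golayCode : Set (GolayPt → ZMod 2)) 8).ncard = 759
  rw [ncard_wordsOfWeight, count8]

theorem orbit_octad {o : Finset GolayPt} (ho : o ∈ octads) :
    MulAction.orbit M24 o = octads := by
  ext o'
  constructor
  · rintro ⟨g, rfl⟩
    exact smul_mem_octads' g.2 ho
  · intro ho'
    obtain ⟨g, hg, hgo⟩ := octads_transitive ho ho'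
    exact ⟨⟨g, hg⟩, hgo⟩

theorem card_stab_octad {o : Finset GolayPt} (ho : o ∈ octads) :
    Nat.card (MulAction.stabilizer M24 o) = 322560 := by
  have h1 := MulAction.index_stabilizer M24 o
  rw [orbit_octad ho, ncard_octads] at h1
  have h2 := Subgroup.index_mul_card (MulAction.stabilizer M24 o)
  rw [h1, card_M24] at h2
  omega

theorem card_stabM24 {o : Finset GolayPt} (ho : o ∈ octads) : Nat.card (stabM24 o) = 322560 := by
  rw [← card_stab_octad ho]
  apply Nat.card_congr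
  refine Equiv.ofBijective
    (fun g => ⟨⟨g.1, (mem_stabM24.mp g.2).1⟩,
      MulAction.mem_stabilizer_iff.mpr (mem_stabM24.mp g.2).2⟩) ⟨?_, ?_⟩
  · intro g g' h
    have h' : (g : Equiv.Perm GolayPt) = g' := by
      simpa using congrArg (fun t => ((t : MulAction.stabilizer M24 o) : M24).1) h
    exact Subtype.ext h'
  · rintro ⟨⟨g, hg⟩, hgo⟩
    exact ⟨⟨g, mem_stabM24.mpr ⟨hg, MulAction.mem_stabilizer_iff.mp hgo⟩⟩, rfl⟩

/-- Restriction of the stabiliser of `o` to `o`. -/
noncomputable def resHom (o : Finset GolayPt) : stabM24 o →* Equiv.Perm ↥o where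
  toFun g := g.1.subtypePerm (inv_iff_of_smul_eq (mem_stabM24.mp g.2).2)
  map_one' := by
    ext x
    rfl
  map_mul' g g' := by
    ext x
    rfl

theorem resHom_apply (o : Finset GolayPt) (g : stabM24 o) (x : ↥o) :
    ((resHom o g x : ↥o) : GolayPt) = g.1 x := rfl

theorem mem_ker_resHom {o : Finset GolayPt} (g : stabM24 o) :
    g ∈ (resHom o).ker ↔ g.1 ∈ fixM24 o := by
  rw [MonoidHom.mem_ker, mem_fixM24]
  constructor
  · intro h
    refine ⟨(mem_stabM24.mp g.2).1, fun p hp => ?_⟩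
    have := DFunLike.congr_fun h ⟨p, hp⟩
    exact congrArg Subtype.val this
  · rintro ⟨_, hfix⟩
    apply Equiv.ext
    intro x
    apply Subtype.ext
    exact hfix x.1 x.2

theorem card_ker_resHom {o : Finset GolayPt} (ho : o ∈ octads) :
    Nat.card (resHom o).ker = 16 := by
  rw [← (fixM24_octad ho).1]
  apply Nat.card_congr
  refine Equiv.ofBijective (fun g => ⟨g.1.1, (mem_ker_resHom g.1).mp g.2⟩) ⟨?_, ?_⟩
  · intro g g' h
    have h' : (g.1 : Equiv.Perm GolayPt) = g'.1 := by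
      simpa using congrArg Subtype.val h
    exact Subtype.ext (Subtype.ext h')
  · rintro ⟨t, ht⟩
    exact ⟨⟨⟨t, fixM24_le_stabM24 o ht⟩, (mem_ker_resHom _).mpr ht⟩, rfl⟩

theorem card_range_resHom {o : Finset GolayPt} (ho : o ∈ octads) :
    Nat.card (resHom o).range = 20160 := by
  have h1 := Subgroup.index_ker (resHom o)
  have h2 := Subgroup.index_mul_card (resHom o).ker
  rw [h1, card_ker_resHom ho, card_stabM24 ho] at h2
  omega

theorem range_resHom {o : Finset GolayPt} (ho : o ∈ octads) :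
    (resHom o).range = alternatingGroup ↥o := by
  apply Equiv.Perm.eq_alternatingGroup_of_index_eq_two
  have h1 := Subgroup.index_mul_card (resHom o).range
  have h8 : o.card = 8 := octads_steiner.1 o ho
  rw [card_range_resHom ho, Nat.card_eq_fintype_card, Fintype.card_perm, Fintype.card_coe, h8]
    at h1
  have h3 : Nat.factorial 8 = 40320 := rfl
  rw [h3] at h1
  omega

/-- The permutations of an octad induced by `M24` are exactly the even ones. -/
theorem induced_eq_alternating {o : Finset GolayPt} (ho : o ∈ octads) :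
    {e : Equiv.Perm ↥o | ∃ g : Equiv.Perm GolayPt, g ∈ M24 ∧
      ∃ h : (∀ x, g x ∈ o ↔ x ∈ o), g.subtypePerm h = e}
      = (alternatingGroup ↥o : Set (Equiv.Perm ↥o)) := by
  rw [← range_resHom ho]
  ext e
  constructor
  · rintro ⟨g, hg, h, rfl⟩
    exact ⟨⟨g, mem_stabM24.mpr ⟨hg, smul_eq_of_inv_iff h⟩⟩, rfl⟩
  · rintro ⟨g, rfl⟩
    exact ⟨g.1, (mem_stabM24.mp g.2).1, inv_iff_of_smul_eq (mem_stabM24.mp g.2).2, rfl⟩

/-! ### Regular action of the pointwise stabiliser on the complement -/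

theorem k0_free : ∀ k < 48, k % 3 = 0 → ∀ i < 24, (cw 47).testBit i = false →
    tb (hsD k).1 i = i → k = 0 := by decide +kernel

theorem k0_trans : ∀ a < 24, ∀ b < 24, (cw 47).testBit a = false → (cw 47).testBit b = false →
    ∃ k < 48, k % 3 = 0 ∧ tb (hsD k).1 a = b := by decide +kernel

theorem o0_mem : pts (cw 47) ∈ octads := pts_mem_octads (by norm_num) (by decide +kernel)

theorem not_mem_pts_iff {a : ℕ} {p : GolayPt} : p ∉ pts a ↔ a.testBit (idx p) = false := by
  rw [mem_pts]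
  simp

theorem fix_outside_trivial {o : Finset GolayPt} (ho : o ∈ octads) {t : Equiv.Perm GolayPt}
    (ht : t ∈ fixM24 o) {p : GolayPt} (hp : p ∉ o) (htp : t p = p) : t = 1 := by
  obtain ⟨g, hg, rfl⟩ := octads_transitive o0_mem ho
  rw [conj_mem_fixM24 hg] at ht
  obtain ⟨k, hk, hk3, hkt⟩ := mem_fixM24_o0.mp ht
  have hp' : g⁻¹ p ∉ pts (cw 47) := by
    intro hcon
    apply hp
    rw [← Finset.inv_smul_mem_iff]
    exact hcon
  have h1 : (g⁻¹ * t * g) (g⁻¹ p) = g⁻¹ p := by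
    rw [Equiv.Perm.mul_apply, Equiv.Perm.mul_apply, perm_apply_inv, htp]
  rw [hkt, hperm_apply hk] at h1
  have h2 := congrArg idx h1
  have hlt := (tablesOK_spec (hs_tables hk) (idx (g⁻¹ p)) (idx_lt _)).1
  rw [idx_pt _ hlt] at h2
  have hk0 := k0_free k hk hk3 _ (idx_lt _) (not_mem_pts_iff.mp hp') h2
  rw [hk0, hperm_zero] at hkt
  have : t = g * (g⁻¹ * t * g) * g⁻¹ := by group
  rw [this, hkt]
  group

theorem fix_transitive_outside {o : Finset GolayPt} (ho : o ∈ octads) {p q : GolayPt}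
    (hp : p ∉ o) (hq : q ∉ o) : ∃ t ∈ fixM24 o, t p = q := by
  obtain ⟨g, hg, rfl⟩ := octads_transitive o0_mem ho
  have hp' : g⁻¹ p ∉ pts (cw 47) := by
    intro hcon
    apply hp
    rw [← Finset.inv_smul_mem_iff]
    exact hcon
  have hq' : g⁻¹ q ∉ pts (cw 47) := by
    intro hcon
    apply hq
    rw [← Finset.inv_smul_mem_iff]
    exact hcon
  obtain ⟨k, hk, hk3, hkab⟩ := k0_trans _ (idx_lt (g⁻¹ p)) _ (idx_lt (g⁻¹ q))
    (not_mem_pts_iff.mp hp') (not_mem_pts_iff.mp hq')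
  refine ⟨g * hperm k * g⁻¹, ?_, ?_⟩
  · rw [conj_mem_fixM24 hg]
    have : g⁻¹ * (g * hperm k * g⁻¹) * g = hperm k := by group
    rw [this]
    exact mem_fixM24_o0.mpr ⟨k, hk, hk3, rfl⟩
  · rw [Equiv.Perm.mul_apply, Equiv.Perm.mul_apply, hperm_apply hk, hkab, pt_idx,
      perm_apply_inv]

/-- The stabiliser of an octad and a point outside it. -/
abbrev stabM24p (o : Finset GolayPt) (p : GolayPt) : Subgroup (Equiv.Perm GolayPt) :=
  M24 ⊓ MulAction.stabilizer (Equiv.Perm GolayPt) o ⊓ MulAction.stabilizer (Equiv.Perm GolayPt) p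

theorem mem_stabM24p {o : Finset GolayPt} {p : GolayPt} {g : Equiv.Perm GolayPt} :
    g ∈ stabM24p o p ↔ g ∈ stabM24 o ∧ g p = p := by
  rw [Subgroup.mem_inf, MulAction.mem_stabilizer_iff]
  rfl

theorem fix_inf_stab {o : Finset GolayPt} (ho : o ∈ octads) {p : GolayPt} (hp : p ∉ o) :
    fixM24 o ⊓ stabM24p o p = ⊥ := by
  rw [eq_bot_iff]
  intro t ht
  rw [Subgroup.mem_inf] at ht
  rw [Subgroup.mem_bot]
  exact fix_outside_trivial ho ht.1 hp (mem_stabM24p.mp ht.2).2

theorem stab_decomp {o : Finset GolayPt} (ho : o ∈ octads) {p : GolayPt} (hp : p ∉ o)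
    {s : Equiv.Perm GolayPt} (hs : s ∈ stabM24 o) :
    ∃ k ∈ fixM24 o, ∃ c ∈ stabM24p o p, s = k * c := by
  have hsp : s p ∉ o := by
    intro hcon
    exact hp ((inv_iff_of_smul_eq (mem_stabM24.mp hs).2 p).mp hcon)
  obtain ⟨k, hk, hkp⟩ := fix_transitive_outside ho hp hsp
  refine ⟨k, hk, k⁻¹ * s, ?_, by group⟩
  rw [mem_stabM24p]
  refine ⟨Subgroup.mul_mem _ (Subgroup.inv_mem _ (fixM24_le_stabM24 o hk)) hs, ?_⟩
  rw [Equiv.Perm.mul_apply, Equiv.Perm.inv_eq_iff_eq, hkp]

theorem fix_sup_stab {o : Finset GolayPt} (ho : o ∈ octads) {p : GolayPt} (hp : p ∉ o) :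
    fixM24 o ⊔ stabM24p o p = stabM24 o := by
  apply le_antisymm
  · apply sup_le (fixM24_le_stabM24 o)
    intro g hg
    exact (mem_stabM24p.mp hg).1
  · intro s hs
    obtain ⟨k, hk, c, hc, rfl⟩ := stab_decomp ho hp hs
    exact Subgroup.mul_mem_sup hk hc

theorem stabM24p_le (o : Finset GolayPt) (p : GolayPt) : stabM24p o p ≤ stabM24 o :=
  fun _ hg => (mem_stabM24p.mp hg).1

/-- The complement is isomorphic to the alternating group of the octad. -/
theorem stabM24p_iso {o : Finset GolayPt} (ho : o ∈ octads) {p : GolayPt} (hp : p ∉ o) :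
    Nonempty (↥(stabM24p o p) ≃* alternatingGroup (Fin 8)) := by
  let φ : ↥(stabM24p o p) →* Equiv.Perm ↥o :=
    (resHom o).comp (Subgroup.inclusion (stabM24p_le o p))
  have hinj : Function.Injective φ := by
    rw [injective_iff_map_eq_one]
    intro c hc
    have h1 : (Subgroup.inclusion (stabM24p_le o p) c) ∈ (resHom o).ker := hc
    rw [mem_ker_resHom] at h1
    have h2 : (c : Equiv.Perm GolayPt) ∈ fixM24 o ⊓ stabM24p o p := ⟨h1, c.2⟩
    rw [fix_inf_stab ho hp, Subgroup.mem_bot] at h2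
    exact Subtype.ext h2
  have hrange : φ.range = alternatingGroup ↥o := by
    rw [← range_resHom ho]
    apply le_antisymm
    · rintro _ ⟨c, rfl⟩
      exact ⟨_, rfl⟩
    · rintro _ ⟨s, rfl⟩
      obtain ⟨k, hk, c, hc, hskc⟩ := stab_decomp ho hp s.2
      refine ⟨⟨c, hc⟩, ?_⟩
      have hk' : (⟨k, fixM24_le_stabM24 o hk⟩ : stabM24 o) ∈ (resHom o).ker :=
        (mem_ker_resHom _).mpr hk
      have hs' : s = ⟨k, fixM24_le_stabM24 o hk⟩ * ⟨c, stabM24p_le o p hc⟩ := Subtype.ext hskc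
      rw [hs', map_mul, MonoidHom.mem_ker.mp hk', one_mul]
      rfl
  have h8 : o.card = 8 := octads_steiner.1 o ho
  exact ⟨((MonoidHom.ofInjective hinj).trans (MulEquiv.subgroupCongr hrange)).trans
    (Equiv.altCongrHom (o.equivFinOfCardEq h8))⟩

end Cfsg.Agent.helper2.Golay
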