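import Mathlib
import Cfsg.Agent.Lib_helper27_Fuse2
import Cfsg.Agent.Lib_helper2_M24f

set_option autoImplicit false

namespace Cfsg.Agent.helper27

open Cfsg
open scoped Pointwise

/-! ### transitivity of the permutation group on decorated octads -/

theorem exists_M24_octad_emb {k : ℕ} (hk : k ≤ 5) {o o' : Finset GolayPt} (ho : o ∈ octads)
    (ho' : o' ∈ octads) (x y : Fin k ↪ GolayPt) (hx : ∀ i, x i ∈ o) (hy : ∀ i, y i ∈ o') :
    ∃ σ ∈ M24, σ • o = o' ∧ ∀ i, σ (x i) = y i := by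
  have h5 := helper2.Golay.m24_k_transitive (k := 5) le_rfl
  obtain ⟨x5, hx5, hx0⟩ := extend_emb5 hk (by rw [octads_card ho]; norm_num) x hx
  obtain ⟨y5, hy5, hy0⟩ := extend_emb5 hk (by rw [octads_card ho']; norm_num) y hy
  obtain ⟨g, hg⟩ := h5.exists_smul_eq x5 y5
  have hgi : ∀ i, g.1 (x5 i) = y5 i := fun i => DFunLike.congr_fun hg i
  refine ⟨g.1, g.2, ?_, ?_⟩
  · apply octads_eq_of_inter (helper2.Golay.smul_mem_octads' g.2 ho) ho'
    have hsub : Finset.univ.map y5 ⊆ g.1 • o ∩ o' := by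
      intro q hq
      rw [Finset.mem_map] at hq
      obtain ⟨i, _, rfl⟩ := hq
      rw [Finset.mem_inter]
      refine ⟨?_, hy5 i⟩
      rw [← hgi i]
      exact Finset.smul_mem_smul_finset (hx5 i)
    have := Finset.card_le_card hsub
    rw [Finset.card_map, Finset.card_univ, Fintype.card_fin] at this
    exact this
  · intro i
    have h3 := hgi (Fin.castLE hk i)
    rw [hx0 i, hy0 i] at h3
    exact h3

theorem exists_M24_octad_emb_out {k : ℕ} (hk : k ≤ 5) {o o' : Finset GolayPt} (ho : o ∈ octads)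
    (ho' : o' ∈ octads) (x y : Fin k ↪ GolayPt) (hx : ∀ i, x i ∈ o) (hy : ∀ i, y i ∈ o')
    {q q' : GolayPt} (hq : q ∉ o) (hq' : q' ∉ o') :
    ∃ σ ∈ M24, σ • o = o' ∧ (∀ i, σ (x i) = y i) ∧ σ q = q' := by
  obtain ⟨σ0, hσ0, h1, h2⟩ := exists_M24_octad_emb hk ho ho' x y hx hy
  have hq0 : σ0 q ∉ o' := by
    intro hcon
    apply hq
    rw [← h1] at hcon
    have := (Finset.smul_mem_smul_finset_iff σ0).mp hcon
    exact this
  obtain ⟨t, ht, htq⟩ := helper2.Golay.fix_transitive_outside ho' hq0 hq'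
  obtain ⟨htm, htf⟩ := helper2.Golay.mem_fixM24.mp ht
  have hto : t • o' = o' := by
    have := helper2.Golay.fixM24_le_stabM24 o' ht
    exact (helper2.Golay.mem_stabM24.mp this).2
  refine ⟨t * σ0, mul_mem htm hσ0, ?_, ?_, ?_⟩
  · rw [mul_smul, h1, hto]
  · intro i
    rw [Equiv.Perm.mul_apply, h2 i]
    exact htf _ (hy i)
  · rw [Equiv.Perm.mul_apply]
    exact htq

/-- embedding given by two distinct points -/
def emb2 {a b : GolayPt} (hab : a ≠ b) : Fin 2 ↪ GolayPt :=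
  ⟨![a, b], by
    intro i j h
    fin_cases i <;> fin_cases j <;> simp_all⟩

def emb1 (a : GolayPt) : Fin 1 ↪ GolayPt := ⟨fun _ => a, fun i j _ => Subsingleton.elim i j⟩

theorem exists_M24_three {a b c a' b' c' : GolayPt} (hab : a ≠ b) (hac : a ≠ c) (hbc : b ≠ c)
    (hab' : a' ≠ b') (hac' : a' ≠ c') (hbc' : b' ≠ c') :
    ∃ σ ∈ M24, σ a = a' ∧ σ b = b' ∧ σ c = c' := by
  have h3 := helper2.Golay.m24_k_transitive (k := 3) (by norm_num)
  let x : Fin 3 ↪ GolayPt := ⟨![a, b, c], by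
    intro i j h
    fin_cases i <;> fin_cases j <;> simp_all⟩
  let y : Fin 3 ↪ GolayPt := ⟨![a', b', c'], by
    intro i j h
    fin_cases i <;> fin_cases j <;> simp_all⟩
  obtain ⟨g, hg⟩ := h3.exists_smul_eq x y
  exact ⟨g.1, g.2, congrArg (fun f => f 0) hg, congrArg (fun f => f 1) hg,
    congrArg (fun f => f 2) hg⟩

end Cfsg.Agent.helper27
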