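import Mathlib
import Cfsg.Agent.Lib_helper27_M24T

set_option autoImplicit false

namespace Cfsg.Agent.helper27

open Cfsg
open scoped Pointwise

/-! ### maps induced by automorphisms, orbits of pointwise stabilisers -/

/-- maps of vectors induced by lattice automorphisms -/
def IsCoMap (f : (GolayPt → ℤ) → (GolayPt → ℤ)) : Prop :=
  ∃ g : Co0, ∀ v : leechLattice, ((g • v : leechLattice) : GolayPt → ℤ) = f v.1

theorem IsCoMap.mono {σ : Equiv.Perm GolayPt} (hσ : σ ∈ M24) {c : Finset GolayPt} (hc : c ∈ GS) :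
    IsCoMap (signedPerm σ c) :=
  ⟨⟨monoPerm σ hσ c hc, monoPerm_mem_Co0 σ hσ c hc⟩, fun _ => rfl⟩

theorem IsCoMap.xi : IsCoMap xiFun := ⟨⟨xiPerm, xiPerm_mem_Co0⟩, fun _ => rfl⟩

theorem IsCoMap.comp {f f' : (GolayPt → ℤ) → (GolayPt → ℤ)} (h : IsCoMap f) (h' : IsCoMap f') :
    IsCoMap (fun x => f' (f x)) := by
  obtain ⟨g, hg⟩ := h
  obtain ⟨g', hg'⟩ := h'
  exact ⟨g' * g, fun v => by rw [mul_smul, hg', hg]⟩

theorem isCoMap_hmap : IsCoMap hmap :=
  ((((IsCoMap.mono piA_mem empty_mem_GS).comp IsCoMap.xi).comp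
    (IsCoMap.mono piB_mem (cw_mem_GS (by norm_num : 7 < 4096)))).comp IsCoMap.xi)

/-- `x` and `y` lie in one orbit of the pointwise stabiliser of `F` -/
def FixOrb (F : Set leechLattice) (x y : leechLattice) : Prop :=
  ∃ g : Co0, (∀ w ∈ F, g • w = w) ∧ g • x = y

theorem FixOrb.refl (F : Set leechLattice) (x : leechLattice) : FixOrb F x x :=
  ⟨1, fun _ _ => one_smul _ _, one_smul _ _⟩

theorem FixOrb.symm {F : Set leechLattice} {x y : leechLattice} (h : FixOrb F x y) :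
    FixOrb F y x := by
  obtain ⟨g, hg, rfl⟩ := h
  refine ⟨g⁻¹, fun w hw => ?_, inv_smul_smul g x⟩
  rw [inv_smul_eq_iff, hg w hw]

theorem FixOrb.trans {F : Set leechLattice} {x y z : leechLattice} (h1 : FixOrb F x y)
    (h2 : FixOrb F y z) : FixOrb F x z := by
  obtain ⟨g, hg, rfl⟩ := h1
  obtain ⟨g', hg', rfl⟩ := h2
  exact ⟨g' * g, fun w hw => by rw [mul_smul, hg w hw, hg' w hw], mul_smul _ _ _⟩

theorem FixOrb.of_map {F : Set leechLattice} {f : (GolayPt → ℤ) → (GolayPt → ℤ)} (hf : IsCoMap f)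
    (hfix : ∀ w ∈ F, f w.1 = w.1) {x y : leechLattice} (hxy : f x.1 = y.1) : FixOrb F x y := by
  obtain ⟨g, hg⟩ := hf
  refine ⟨g, fun w hw => ?_, ?_⟩
  · apply Subtype.ext
    rw [hg, hfix w hw]
  · apply Subtype.ext
    rw [hg, hxy]

/-- transport along an automorphism -/
theorem FixOrb.transport {F F' : Set leechLattice} (g0 : Co0) (hF : ∀ w ∈ F, g0 • w ∈ F')
    {x y : leechLattice} (h : FixOrb F' (g0 • x) (g0 • y)) : FixOrb F x y := by
  obtain ⟨s, hs, hxy⟩ := h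
  refine ⟨g0⁻¹ * s * g0, fun w hw => ?_, ?_⟩
  · rw [mul_smul, mul_smul, hs _ (hF w hw), inv_smul_smul]
  · rw [mul_smul, mul_smul, hxy, inv_smul_smul]

end Cfsg.Agent.helper27
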