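import Mathlib
import Cfsg.Agent.Lib_helper27_FixOrb

set_option autoImplicit false

namespace Cfsg.Agent.helper27

open Cfsg
open scoped Pointwise

/-! ### the 275 points -/

theorem a0_mem : a0 ∈ leechLattice :=
  (mem_leechLattice_iff _).mpr (pair4_mem_leechSet _ _ rfl rfl rfl)

theorem dotInt_a0 (x : GolayPt → ℤ) : dotInt a0 x = 4 * x none + 4 * x (some 0) := by
  unfold a0 pair4
  rw [dotInt_add_left', dotInt_single_left, dotInt_single_left]

set_option maxRecDepth 100000 in
theorem count8_two : ((Finset.range 4096).filter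
    (fun k => popc (encN k) = 8 ∧ (encN k).testBit 23 = true ∧ (encN k).testBit 0 = true)).card
      = 77 := by
  decide +kernel

set_option maxRecDepth 100000 in
theorem count8_one : ((Finset.range 4096).filter
    (fun k => popc (encN k) = 8 ∧ (encN k).testBit 23 = true ∧ (encN k).testBit 0 = false)).card
      = 176 := by
  decide +kernel

/-- octads through the two base points -/
def oct2 : Set (Finset GolayPt) := {o | o ∈ octads ∧ none ∈ o ∧ some 0 ∈ o}

/-- octads through the first base point only -/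
def oct1 : Set (Finset GolayPt) := {o | o ∈ octads ∧ none ∈ o ∧ some 0 ∉ o}

theorem oct2_ncard : oct2.ncard = 77 := by
  have h := ncard_GS_mask (fun b => b.card = 8 ∧ none ∈ b ∧ some 0 ∈ b)
    (fun m => popc m = 8 ∧ m.testBit 23 = true ∧ m.testBit 0 = true) (fun k _ => by
      rw [cw_card, mem_cw_iff, mem_cw_iff]
      rfl)
  rw [count8_two] at h
  rw [← h]
  congr 1
  ext o
  unfold oct2 octads wordsOfWeight
  simp only [Set.mem_ofPred_eq]
  tauto

theorem oct1_ncard : oct1.ncard = 176 := by
  have h := ncard_GS_mask (fun b => b.card = 8 ∧ none ∈ b ∧ some 0 ∉ b)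
    (fun m => popc m = 8 ∧ m.testBit 23 = true ∧ m.testBit 0 = false) (fun k _ => by
      rw [cw_card, mem_cw_iff, mem_cw_iff]
      have : idx (some (0 : ZMod 23)) = 0 := rfl
      have h23 : idx (none : GolayPt) = 23 := rfl
      rw [this, h23]
      simp)
  rw [count8_one] at h
  rw [← h]
  congr 1
  ext o
  unfold oct1 octads wordsOfWeight
  simp only [Set.mem_ofPred_eq]
  tauto

def mclA : Set (GolayPt → ℤ) := (fun j => pair4 none j 4 4) '' {j | j ≠ none ∧ j ≠ some 0}
def mclB : Set (GolayPt → ℤ) := (fun o => vB o ∅) '' oct2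
def mclB' : Set (GolayPt → ℤ) := (fun o => vC none o) '' oct1

/-- the configuration relative to the reference pair -/
def mcl0 : Set (GolayPt → ℤ) := {x | x ∈ partners5 ∧ dotInt a0 x = 16}

theorem mcl0_eq : mcl0 = mclA ∪ mclB ∪ mclB' := by
  ext x
  constructor
  · rintro ⟨hx, hd⟩
    rw [dotInt_a0] at hd
    rw [partners5_eq] at hx
    rcases hx with ((hx | hx) | hx) | hx
    · left; left
      obtain ⟨j, hj, rfl⟩ := hx
      refine ⟨j, ⟨hj, fun h0 => ?_⟩, rfl⟩
      subst h0
      beta_reduce at hd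
      rw [pair4_apply_left (by decide), pair4_apply_right (by decide)] at hd
      omega
    · left; right
      obtain ⟨o, ⟨ho, hn⟩, rfl⟩ := hx
      refine ⟨o, ⟨ho, hn, ?_⟩, rfl⟩
      by_contra h0
      simp only [vB, Finset.notMem_empty, if_false, hn, h0, if_true] at hd
      omega
    · right
      obtain ⟨o, ⟨ho, hn⟩, rfl⟩ := hx
      refine ⟨o, ⟨ho, hn, ?_⟩, rfl⟩
      intro h0
      have h1 : (some (0 : ZMod 23) : GolayPt) ≠ none := by decide
      simp only [vC, hn, h0, if_true, h1, if_false] at hd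
      omega
    · exfalso
      obtain ⟨j, hj, rfl⟩ := hx
      have h1 : (none : GolayPt) ≠ j := fun h => hj h.symm
      simp only [vC, Finset.notMem_empty, if_false, h1] at hd
      split_ifs at hd <;> omega
  · rintro ((hx | hx) | hx)
    · obtain ⟨j, ⟨hj, hj0⟩, rfl⟩ := hx
      refine ⟨famA_subset ⟨j, hj, rfl⟩, ?_⟩
      show dotInt a0 (pair4 none j 4 4) = 16
      rw [dotInt_a0, pair4_apply_left (fun h => hj h.symm),
        pair4_apply_other (by decide) (fun h => hj0 h.symm)]
      rfl
    · obtain ⟨o, ⟨ho, hn, h0⟩, rfl⟩ := hx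
      refine ⟨famB_subset ⟨o, ⟨ho, hn⟩, rfl⟩, ?_⟩
      rw [dotInt_a0]
      simp only [vB, Finset.notMem_empty, if_false, hn, h0, if_true]
      rfl
    · obtain ⟨o, ⟨ho, hn, h0⟩, rfl⟩ := hx
      refine ⟨famB'_subset ⟨o, ⟨ho, hn⟩, rfl⟩, ?_⟩
      rw [dotInt_a0]
      have h1 : (some (0 : ZMod 23) : GolayPt) ≠ none := by decide
      simp only [vC, hn, h0, if_true, h1, if_false]
      rfl

theorem mclA_ncard : mclA.ncard = 22 := by
  unfold mclA
  rw [Set.InjOn.ncard_image]
  · have : {j : GolayPt | j ≠ none ∧ j ≠ some 0}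
        = (((Finset.univ.erase none).erase (some 0) : Finset GolayPt) : Set GolayPt) := by
      ext j
      simp
    rw [this, Set.ncard_coe_finset]
    decide
  · intro j hj j' hj' h
    by_contra hne
    have h1 := congrFun h j
    simp only at h1
    rw [pair4_apply_right (fun h => hj.1 h.symm), pair4_apply_other hj.1 hne] at h1
    omega

theorem mclB_ncard : mclB.ncard = 77 := by
  unfold mclB
  rw [Set.InjOn.ncard_image, oct2_ncard]
  intro o _ o' _ h
  have h1 := cls_two_vB o ∅ (Finset.empty_subset _)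
  have h2 := cls_two_vB o' ∅ (Finset.empty_subset _)
  simp only at h
  rw [← h1, ← h2, h]

theorem mclB'_ncard : mclB'.ncard = 176 := by
  unfold mclB'
  rw [Set.InjOn.ncard_image, oct1_ncard]
  intro o _ o' _ h
  exact (vC_injective h).2

theorem mcl0_ncard : mcl0.ncard = 275 := by
  have fA : mclA.Finite := Set.finite_of_ncard_ne_zero (by rw [mclA_ncard]; norm_num)
  have fB : mclB.Finite := Set.finite_of_ncard_ne_zero (by rw [mclB_ncard]; norm_num)
  have fB' : mclB'.Finite := Set.finite_of_ncard_ne_zero (by rw [mclB'_ncard]; norm_num)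
  have sA : mclA ⊆ famA := by
    rintro x ⟨j, hj, rfl⟩
    exact ⟨j, hj.1, rfl⟩
  have sB : mclB ⊆ famB := by
    rintro x ⟨o, ho, rfl⟩
    exact ⟨o, ⟨ho.1, ho.2.1⟩, rfl⟩
  have sB' : mclB' ⊆ famB' := by
    rintro x ⟨o, ho, rfl⟩
    exact ⟨o, ⟨ho.1, ho.2.1⟩, rfl⟩
  have d1 : Disjoint mclA mclB := by
    rw [Set.disjoint_left]
    intro x h1 h2
    have := famA_none (sA h1)
    have := famB_none (sB h2)
    omega
  have d2 : Disjoint (mclA ∪ mclB) mclB' := by
    rw [Set.disjoint_left]
    rintro x (h1 | h1) h2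
    · have := famA_none (sA h1)
      have := famB'_none (sB' h2)
      omega
    · have := famB_none (sB h1)
      have := famB'_none (sB' h2)
      omega
  rw [mcl0_eq, Set.ncard_union_eq d2 (fA.union fB) fB', Set.ncard_union_eq d1 fA fB, mclA_ncard,
    mclB_ncard, mclB'_ncard]

end Cfsg.Agent.helper27
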