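import Mathlib
import Cfsg.Agent.Lib_helper27_McL0

set_option autoImplicit false

namespace Cfsg.Agent.helper27

open Cfsg
open scoped Pointwise

def sg1_l : List ℕ := [2, 5, 6, 13, 4, 21, 14, 20, 12, 8, 16, 17, 18, 11, 3, 1, 0, 22, 19, 15, 9, 7, 10, 23]
def sg1_r : List ℕ := [16, 15, 0, 14, 4, 1, 2, 21, 9, 20, 22, 13, 8, 3, 6, 19, 10, 11, 12, 18, 7, 5, 17, 23]
def sg2_l : List ℕ := [21, 0, 7, 2, 4, 19, 20, 5, 22, 15, 14, 8, 13, 11, 1, 17, 16, 6, 18, 3, 9, 10, 12, 23]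
def sg2_r : List ℕ := [1, 14, 3, 19, 4, 7, 17, 2, 11, 20, 21, 13, 22, 12, 10, 9, 16, 15, 18, 5, 6, 0, 8, 23]

def sg1 : Equiv.Perm GolayPt where
  toFun := tblFun sg1_l
  invFun := tblFun sg1_r
  left_inv := by decide
  right_inv := by decide

def sg2 : Equiv.Perm GolayPt where
  toFun := tblFun sg2_l
  invFun := tblFun sg2_r
  left_inv := by decide
  right_inv := by decide

theorem sg1_mem : sg1 ∈ M24 := mem_M24_of_reenc sg1 (by decide)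
theorem sg2_mem : sg2 ∈ M24 := mem_M24_of_reenc sg2 (by decide)

/-- an automorphism fixing the reference pair that is not monomial -/
def gmap (x : GolayPt → ℤ) : GolayPt → ℤ := signedPerm sg2 ∅ (hmap (signedPerm sg1 ∅ x))

theorem isCoMap_gmap : IsCoMap gmap :=
  ((IsCoMap.mono sg1_mem empty_mem_GS).comp isCoMap_hmap).comp (IsCoMap.mono sg2_mem empty_mem_GS)

theorem gmap_chain (d0 d1 d2 d3 d4 d5 d6 : List ℤ)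
    (h0 : signedPerm sg1 ∅ (ofList d0) = ofList d1)
    (h1 : signedPerm piA ∅ (ofList d1) = ofList d2)
    (h2 : xiFun (ofList d2) = ofList d3) (h3 : signedPerm piB (cw 7) (ofList d3) = ofList d4)
    (h4 : xiFun (ofList d4) = ofList d5) (h5 : signedPerm sg2 ∅ (ofList d5) = ofList d6) :
    gmap (ofList d0) = ofList d6 := by
  unfold gmap
  rw [h0, hmap_chain d1 d2 d3 d4 d5 h1 h2 h3 h4, h5]

theorem gmap_u5 : gmap u5 = u5 := by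
  have e : u5 = ofList [1, 1, 1, 1, 1, 1, 1, 1, 1, 1, 1, 1, 1, 1, 1, 1, 1, 1, 1, 1, 1, 1, 1, 5] := by
    decide
  rw [e]
  exact gmap_chain _
    [1, 1, 1, 1, 1, 1, 1, 1, 1, 1, 1, 1, 1, 1, 1, 1, 1, 1, 1, 1, 1, 1, 1, 5]
    [1, 1, 1, 5, 1, 1, 1, 1, 1, 1, 1, 1, 1, 1, 1, 1, 1, 1, 1, 1, 1, 1, 1, 1]
    [1, 1, 1, 1, -1, -3, -1, -1, -1, -1, -1, -1, -1, -1, -3, -1, -1, -3, -1, -1, -1, -1, -1, 1]
    [3, 3, 3, -1, -1, -1, -1, -1, -1, -1, -1, -1, -1, -1, -1, -1, -1, -1, -1, -1, -1, -1, -1, -1]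
    [1, 1, 1, 1, 1, 1, 1, 1, 1, 1, 1, 1, 1, 1, 1, 1, 1, 1, 1, 1, 1, 1, 1, 5]
    _ (by decide) (by decide) (by decide) (by decide) (by decide) (by decide)

theorem gmap_a0 : gmap a0 = a0 := by
  have e : a0 = ofList [4, 0, 0, 0, 0, 0, 0, 0, 0, 0, 0, 0, 0, 0, 0, 0, 0, 0, 0, 0, 0, 0, 0, 4] := by
    decide
  rw [e]
  exact gmap_chain _
    [0, 0, 4, 0, 0, 0, 0, 0, 0, 0, 0, 0, 0, 0, 0, 0, 0, 0, 0, 0, 0, 0, 0, 4]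
    [0, 0, 0, 4, 0, 0, 0, 0, 0, 0, 0, 0, 0, 0, 4, 0, 0, 0, 0, 0, 0, 0, 0, 0]
    [0, 0, 0, 0, 0, -4, 0, 0, 0, 0, 0, 0, 0, 0, 0, 0, 0, -4, 0, 0, 0, 0, 0, 0]
    [4, 0, 4, 0, 0, 0, 0, 0, 0, 0, 0, 0, 0, 0, 0, 0, 0, 0, 0, 0, 0, 0, 0, 0]
    [0, 4, 0, 0, 0, 0, 0, 0, 0, 0, 0, 0, 0, 0, 0, 0, 0, 0, 0, 0, 0, 0, 0, 4]
    _ (by decide) (by decide) (by decide) (by decide) (by decide) (by decide)

theorem gmap_xa1 : gmap (pair4 none (some 1) 4 4) = vC none (cw 1872) := by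
  have e : pair4 none (some 1) 4 4
      = ofList [0, 4, 0, 0, 0, 0, 0, 0, 0, 0, 0, 0, 0, 0, 0, 0, 0, 0, 0, 0, 0, 0, 0, 4] := by
    decide
  have e' : vC none (cw 1872) = ofList [1, 1, 1, 1, -1, 1, -1, 1, -1, -1, -1, 1, 1, 1, -1, -1, 1,
      1, 1, 1, 1, 1, 1, 3] := by
    decide
  rw [e, e']
  exact gmap_chain _
    [0, 0, 0, 0, 0, 4, 0, 0, 0, 0, 0, 0, 0, 0, 0, 0, 0, 0, 0, 0, 0, 0, 0, 4]
    [0, 0, 0, 4, 0, 0, 0, 0, 0, 0, 0, 0, 4, 0, 0, 0, 0, 0, 0, 0, 0, 0, 0, 0]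
    [0, 0, 0, 2, 0, -2, 0, 0, -2, 0, 0, -2, 2, 0, -2, 0, 0, -2, -2, 0, 0, 0, 0, 0]
    [2, 2, 2, 0, -2, 0, 0, 0, 0, 0, 0, -2, 0, 0, 0, 2, 0, -2, 0, 0, 0, -2, 0, 0]
    [1, 1, 1, 1, -1, 1, 1, 1, 1, -1, -1, -1, 1, 1, 1, 1, 1, -1, 1, 1, -1, -1, 1, 3]
    _ (by decide) (by decide) (by decide) (by decide) (by decide) (by decide)

theorem gmap_xa2 : gmap (pair4 none (some 6) 4 4) = vB (cw 199) ∅ := by
  have e : pair4 none (some 6) 4 4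
      = ofList [0, 0, 0, 0, 0, 0, 4, 0, 0, 0, 0, 0, 0, 0, 0, 0, 0, 0, 0, 0, 0, 0, 0, 4] := by
    decide
  have e' : vB (cw 199) ∅ = ofList [2, 2, 2, 0, 0, 0, 2, 2, 0, 0, 0, 0, 0, 0, 0, 0, 0, 0, 0, 2, 0,
      2, 0, 2] := by
    decide
  rw [e, e']
  exact gmap_chain _
    [0, 0, 0, 0, 0, 0, 0, 0, 0, 0, 0, 0, 0, 0, 4, 0, 0, 0, 0, 0, 0, 0, 0, 4]
    [0, 0, 0, 4, 0, 0, 0, 0, 0, 0, 0, 0, 0, 0, 0, 0, 0, 0, 0, 0, 0, 4, 0, 0]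
    [0, 0, 0, 2, 0, -2, -2, -2, 0, 0, 0, 0, 0, 0, -2, 0, 0, -2, 0, -2, 0, 2, 0, 0]
    [2, 2, 2, -2, 0, -2, 0, 0, 0, 0, 0, 0, 0, 0, -2, 0, 0, -2, 0, 0, 0, 0, 0, 2]
    [2, 2, 2, 2, 0, 2, 0, 0, 0, 0, 0, 0, 0, 0, 2, 0, 0, 2, 0, 0, 0, 0, 0, 2]
    _ (by decide) (by decide) (by decide) (by decide) (by decide) (by decide)

end Cfsg.Agent.helper27
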