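import Mathlib
import Cfsg.Agent.Lib_helper27_McL1

set_option autoImplicit false

namespace Cfsg.Agent.helper27

open Cfsg
open scoped Pointwise

theorem emb2_mem {a b : GolayPt} (hab : a ≠ b) {s : Finset GolayPt} (ha : a ∈ s) (hb : b ∈ s) :
    ∀ i, emb2 hab i ∈ s := by
  intro i
  fin_cases i
  · exact ha
  · exact hb

def u5L : leechLattice := ⟨u5, u5_mem⟩
def a0L : leechLattice := ⟨a0, a0_mem⟩

/-- the fixed pair -/
def F2 : Set leechLattice := {u5L, a0L}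

theorem fixorb_gmap {x y : leechLattice} (hxy : gmap x.1 = y.1) : FixOrb F2 x y := by
  apply FixOrb.of_map isCoMap_gmap _ hxy
  intro w hw
  rcases hw with rfl | rfl
  · exact gmap_u5
  · exact gmap_a0

theorem fixorb_m22 {σ : Equiv.Perm GolayPt} (hσ : σ ∈ M24) (h1 : σ none = none)
    (h2 : σ (some 0) = some 0) {x y : leechLattice} (hxy : signedPerm σ ∅ x.1 = y.1) :
    FixOrb F2 x y := by
  apply FixOrb.of_map (IsCoMap.mono hσ empty_mem_GS) _ hxy
  intro w hw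
  rcases hw with rfl | rfl
  · exact signedPerm_u5 h1
  · show signedPerm σ ∅ (pair4 none (some 0) 4 4) = pair4 none (some 0) 4 4
    rw [signedPerm_pair4, h1, h2]

theorem cw199_oct2 : cw 199 ∈ oct2 := by
  refine ⟨⟨cw_mem_GS (by norm_num), ?_⟩, ?_, ?_⟩
  · rw [cw_card]; decide
  · rw [mem_cw_iff]; decide
  · rw [mem_cw_iff]; decide

theorem cw1872_oct1 : cw 1872 ∈ oct1 := by
  refine ⟨⟨cw_mem_GS (by norm_num), ?_⟩, ?_, ?_⟩
  · rw [cw_card]; decide
  · rw [mem_cw_iff]; decide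
  · rw [mem_cw_iff]; decide

theorem mcl0_mem {x : GolayPt → ℤ} (hx : x ∈ mcl0) : x ∈ leechLattice := hx.1.1

/-- the reference point of the configuration -/
def xref : GolayPt → ℤ := pair4 none (some 1) 4 4

theorem xref_mclA : xref ∈ mclA := ⟨some 1, by decide, rfl⟩

theorem xref_mcl0 : xref ∈ mcl0 := by
  rw [mcl0_eq]; exact Or.inl (Or.inl xref_mclA)

def xrefL : leechLattice := ⟨xref, mcl0_mem xref_mcl0⟩

theorem fixorb_mclA {x : leechLattice} (hx : x.1 ∈ mclA) : FixOrb F2 x xrefL := by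
  obtain ⟨j, ⟨hj, hj0⟩, hxj⟩ := hx
  obtain ⟨σ, hσ, h1, h2, h3⟩ := exists_M24_three (a := none) (b := some 0) (c := j) (a' := none)
    (b' := some 0) (c' := some 1) (by decide) (fun h => hj h.symm) (fun h => hj0 h.symm)
    (by decide) (by decide) (by decide)
  apply fixorb_m22 hσ h1 h2
  rw [← hxj]
  show signedPerm σ ∅ (pair4 none j 4 4) = pair4 none (some 1) 4 4
  rw [signedPerm_pair4, h1, h3]

theorem fixorb_mclB {x : leechLattice} (hx : x.1 ∈ mclB) : FixOrb F2 x xrefL := by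
  obtain ⟨o, ⟨ho, hn, h0⟩, hxo⟩ := hx
  obtain ⟨ho', hn', h0'⟩ := cw199_oct2
  obtain ⟨σ, hσ, h1, h2⟩ := exists_M24_octad_emb (k := 2) (by norm_num) ho ho'
    (emb2 (a := none) (b := some 0) (by decide)) (emb2 (a := none) (b := some 0) (by decide))
    (emb2_mem _ hn h0) (emb2_mem _ hn' h0')
  have e1 : σ none = none := h2 0
  have e2 : σ (some 0) = some 0 := h2 1
  have hA : pair4 none (some 6) 4 4 ∈ mclA := ⟨some 6, by decide, rfl⟩
  have hA0 : pair4 none (some 6) 4 4 ∈ mcl0 := by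
    rw [mcl0_eq]; exact Or.inl (Or.inl hA)
  have hB0 : vB (cw 199) ∅ ∈ mcl0 := by
    rw [mcl0_eq]; exact Or.inl (Or.inr ⟨cw 199, cw199_oct2, rfl⟩)
  have s1 : FixOrb F2 x ⟨vB (cw 199) ∅, mcl0_mem hB0⟩ := by
    apply fixorb_m22 hσ e1 e2
    rw [← hxo]
    show signedPerm σ ∅ (vB o ∅) = vB (cw 199) ∅
    rw [signedPerm_vB, h1, Finset.smul_finset_empty]
  have s2 : FixOrb F2 ⟨pair4 none (some 6) 4 4, mcl0_mem hA0⟩ ⟨vB (cw 199) ∅, mcl0_mem hB0⟩ :=
    fixorb_gmap gmap_xa2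
  exact (s1.trans s2.symm).trans (fixorb_mclA hA)

theorem fixorb_mclB' {x : leechLattice} (hx : x.1 ∈ mclB') : FixOrb F2 x xrefL := by
  obtain ⟨o, ⟨ho, hn, h0⟩, hxo⟩ := hx
  obtain ⟨ho', hn', h0'⟩ := cw1872_oct1
  obtain ⟨σ, hσ, h1, h2, h3⟩ := exists_M24_octad_emb_out (k := 1) (by norm_num) ho ho'
    (emb1 none) (emb1 none) (fun _ => hn) (fun _ => hn') h0 h0'
  have e1 : σ none = none := h2 0
  have hB0 : vC none (cw 1872) ∈ mcl0 := by
    rw [mcl0_eq]; exact Or.inr ⟨cw 1872, cw1872_oct1, rfl⟩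
  have s1 : FixOrb F2 x ⟨vC none (cw 1872), mcl0_mem hB0⟩ := by
    apply fixorb_m22 hσ e1 h3
    rw [← hxo]
    show signedPerm σ ∅ (vC none o) = vC none (cw 1872)
    rw [signedPerm_vC, e1, h1]
  have s2 : FixOrb F2 xrefL ⟨vC none (cw 1872), mcl0_mem hB0⟩ := fixorb_gmap gmap_xa1
  exact s1.trans s2.symm

theorem fixorb_mcl0 {x : leechLattice} (hx : x.1 ∈ mcl0) : FixOrb F2 x xrefL := by
  rw [mcl0_eq] at hx
  rcases hx with (hx | hx) | hx
  · exact fixorb_mclA hx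
  · exact fixorb_mclB hx
  · exact fixorb_mclB' hx

/-- the McLaughlin configuration attached to `u` and `v` -/
def mclSet (u v : leechLattice) : Set leechLattice :=
  {x | sqNorm x.1 = 32 ∧ sqNorm (u.1 - x.1) = 32 ∧ dotInt v.1 x.1 = 16}

theorem mclSet_smul (g : Co0) (u v x : leechLattice) :
    g • x ∈ mclSet (g • u) (g • v) ↔ x ∈ mclSet u v := by
  have h1 : sqNorm (g • x).1 = sqNorm x.1 := co0_sqNorm g x
  have h2 : sqNorm ((g • u).1 - (g • x).1) = sqNorm (u.1 - x.1) := by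
    have : sqNorm (g • u - g • x : leechLattice).1 = sqNorm (u - x : leechLattice).1 := by
      rw [← co0_smul_sub, co0_sqNorm]
    exact this
  have h3 : dotInt (g • v).1 (g • x).1 = dotInt v.1 x.1 := co0_smul_dot g v x
  unfold mclSet
  simp only [Set.mem_ofPred_eq, h1, h2, h3]

theorem mclSet_std (x : leechLattice) : x ∈ mclSet u5L a0L ↔ x.1 ∈ mcl0 := by
  have h48 : sqNorm u5 = 48 := by decide
  constructor
  · rintro ⟨h1, h2, h3⟩
    refine ⟨⟨x.2, h1, ?_⟩, h3⟩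
    have h4 : sqNorm (u5 - x.1) = 32 := h2
    rw [sqNorm_sub, h1, h48] at h4
    omega
  · rintro ⟨⟨_, h1, h2⟩, h3⟩
    refine ⟨h1, ?_, h3⟩
    show sqNorm (u5 - x.1) = 32
    rw [sqNorm_sub, h1, h48, h2]
    rfl

theorem mclSet_std_ncard : (mclSet u5L a0L).ncard = 275 := by
  rw [← mcl0_ncard, ← Set.ncard_image_of_injective _ Subtype.val_injective]
  congr 1
  ext x
  constructor
  · rintro ⟨v, hv, rfl⟩
    exact (mclSet_std v).mp hv
  · intro hx
    exact ⟨⟨x, mcl0_mem hx⟩, (mclSet_std _).mpr hx, rfl⟩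

/-- statement of `S1580` -/
theorem mcl_configuration (u v : leechLattice) (hu : sqNorm (u : GolayPt → ℤ) = 48)
    (hv : sqNorm (v : GolayPt → ℤ) = 32 ∧ sqNorm ((u - v : GolayPt → ℤ)) = 32) :
    {x : leechLattice | sqNorm (x : GolayPt → ℤ) = 32 ∧ sqNorm ((u - x : GolayPt → ℤ)) = 32 ∧
      dotInt (v : GolayPt → ℤ) (x : GolayPt → ℤ) = 16}.ncard = 275 ∧
    ∀ x ∈ {x : leechLattice | sqNorm (x : GolayPt → ℤ) = 32 ∧
      sqNorm ((u - x : GolayPt → ℤ)) = 32 ∧ dotInt (v : GolayPt → ℤ) (x : GolayPt → ℤ) = 16},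
    ∀ x' ∈ {x : leechLattice | sqNorm (x : GolayPt → ℤ) = 32 ∧
      sqNorm ((u - x : GolayPt → ℤ)) = 32 ∧ dotInt (v : GolayPt → ℤ) (x : GolayPt → ℤ) = 16},
    ∃ g : Co0, g • u = u ∧ g • v = v ∧ g • x = x' := by
  obtain ⟨g0, hg1, hg2⟩ := (conn2_pair_std u v hu hv).exists_smul (u' := u5L) (v' := a0L)
  have hS : mclSet u v = (fun x => g0⁻¹ • x) '' mclSet u5L a0L := by
    ext x
    constructor
    · intro hx
      refine ⟨g0 • x, ?_, inv_smul_smul g0 x⟩
      rw [← hg1, ← hg2, mclSet_smul]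
      exact hx
    · rintro ⟨y, hy, rfl⟩
      rw [← mclSet_smul g0, smul_inv_smul, hg1, hg2]
      exact hy
  refine ⟨?_, ?_⟩
  · show (mclSet u v).ncard = 275
    rw [hS, Set.ncard_image_of_injective _ (MulAction.injective g0⁻¹), mclSet_std_ncard]
  · intro x hx x' hx'
    have hx1 : g0 • x ∈ mclSet u5L a0L := by
      rw [← hg1, ← hg2, mclSet_smul]; exact hx
    have hx2 : g0 • x' ∈ mclSet u5L a0L := by
      rw [← hg1, ← hg2, mclSet_smul]; exact hx'
    have s1 := fixorb_mcl0 ((mclSet_std _).mp hx1)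
    have s2 := fixorb_mcl0 ((mclSet_std _).mp hx2)
    have s3 : FixOrb ({u, v} : Set leechLattice) x x' := by
      apply FixOrb.transport g0 (F' := F2) _ (s1.trans s2.symm)
      intro w hw
      rcases hw with rfl | rfl
      · rw [hg1]; exact Or.inl rfl
      · rw [hg2]; exact Or.inr rfl
    obtain ⟨g, hg, hgx⟩ := s3
    exact ⟨g, hg u (Or.inl rfl), hg v (Or.inr rfl), hgx⟩

end Cfsg.Agent.helper27
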