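import Mathlib
import Cfsg.Agent.Lib_helper27_McL2

set_option autoImplicit false

namespace Cfsg.Agent.helper27

open Cfsg
open scoped Pointwise

/-! ### minimal vectors of inner product `-16` with `(5, 1, ..., 1)` -/

theorem ncard_union_sep {α : Type*} (S T : Set α) (P : α → Prop) (hS : ∀ x ∈ S, P x)
    (hT : ∀ x ∈ T, ¬ P x) (fS : S.Finite) (fT : T.Finite) :
    (S ∪ T).ncard = S.ncard + T.ncard := by
  apply Set.ncard_union_eq _ fS fT
  rw [Set.disjoint_left]
  intro x h1 h2
  exact hT x h2 (hS x h1)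

/-- octads missing the point at infinity -/
def octOff : Set (Finset GolayPt) := {o | o ∈ octads ∧ none ∉ o}

/-- dodecads missing the point at infinity -/
def dodOff : Set (Finset GolayPt) := {b | b ∈ dodecads ∧ none ∉ b}

set_option maxRecDepth 100000 in
theorem count8_off : ((Finset.range 4096).filter
    (fun k => popc (encN k) = 8 ∧ (encN k).testBit 23 = false)).card = 506 := by
  decide +kernel

set_option maxRecDepth 100000 in
theorem count12_off : ((Finset.range 4096).filter
    (fun k => popc (encN k) = 12 ∧ (encN k).testBit 23 = false)).card = 1288 := by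
  decide +kernel

theorem octOff_ncard : octOff.ncard = 506 := by
  have h := ncard_GS_mask (fun b => b.card = 8 ∧ none ∉ b)
    (fun m => popc m = 8 ∧ m.testBit 23 = false) (fun k _ => by
      rw [cw_card, mem_cw_iff]
      have h23 : idx (none : GolayPt) = 23 := rfl
      rw [h23]
      simp)
  rw [count8_off] at h
  rw [← h]
  congr 1
  ext o
  unfold octOff octads wordsOfWeight
  simp only [Set.mem_ofPred_eq]
  tauto

theorem dodOff_ncard : dodOff.ncard = 1288 := by
  have h := ncard_GS_mask (fun b => b.card = 12 ∧ none ∉ b)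
    (fun m => popc m = 12 ∧ m.testBit 23 = false) (fun k _ => by
      rw [cw_card, mem_cw_iff]
      have h23 : idx (none : GolayPt) = 23 := rfl
      rw [h23]
      simp)
  rw [count12_off] at h
  rw [← h]
  congr 1
  ext o
  unfold dodOff dodecads wordsOfWeight
  simp only [Set.mem_ofPred_eq]
  tauto

def hsA : Set (GolayPt → ℤ) := (fun j => pair4 none j (-4) 4) '' {j | j ≠ none}

def hsB1 : Set (GolayPt → ℤ) :=
  {x | ∃ o ∈ octInf, ∃ t : Finset GolayPt, t ⊆ o.erase none ∧ t.card = 2 ∧ x = vB o (o \ t)}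

def hsB2 : Set (GolayPt → ℤ) := (fun o => vB o o) '' octOff

def hsC1 : Set (GolayPt → ℤ) := (fun b => vC none b) '' dodOff

def hsC2 : Set (GolayPt → ℤ) := {x | ∃ o ∈ octOff, ∃ j ∈ o, x = vC j oᶜ}

/-- the minimal vectors of inner product `-16` with `(5, 1, ..., 1)` -/
def hs5 : Set (GolayPt → ℤ) := {x | x ∈ leechLattice ∧ sqNorm x = 32 ∧ dotInt u5 x = -16}

theorem hs5_subset : hs5 ⊆ hsA ∪ hsB1 ∪ hsB2 ∪ hsC1 ∪ hsC2 := by
  rintro x ⟨hx, hn, hd⟩
  rw [dotInt_u5] at hd
  rcases min_cases hx hn with ⟨i, j, hij, a, b, ha, hb, rfl⟩ | ⟨o, ho, s, hs, hev, rfl⟩ |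
    ⟨j, b, hb, rfl⟩
  · left; left; left; left
    rw [sum_pair4] at hd
    by_cases hi : i = none
    · subst hi
      rw [pair4_apply_left hij] at hd
      have h4 : a = -4 ∧ b = 4 := by
        rcases ha with rfl | rfl <;> rcases hb with rfl | rfl <;> omega
      obtain ⟨rfl, rfl⟩ := h4
      exact ⟨j, fun h => hij h.symm, rfl⟩
    · by_cases hj : j = none
      · subst hj
        rw [pair4_apply_right hij] at hd
        have h4 : a = 4 ∧ b = -4 := by
          rcases ha with rfl | rfl <;> rcases hb with rfl | rfl <;> omega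
        obtain ⟨rfl, rfl⟩ := h4
        exact ⟨i, hi, pair4_comm _ _ _ _⟩
      · rw [pair4_apply_other (fun h => hi h.symm) (fun h => hj h.symm)] at hd
        exfalso
        rcases ha with rfl | rfl <;> rcases hb with rfl | rfl <;> omega
  · rw [sum_vB o s hs, octads_card ho] at hd
    have hv : vB o s none = if none ∈ s then -2 else if none ∈ o then 2 else 0 := rfl
    rw [hv] at hd
    have hsc : s.card ≤ 8 := by
      rw [← octads_card ho]; exact Finset.card_le_card hs
    by_cases h1 : none ∈ s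
    · rw [if_pos h1] at hd
      left; left; left; right
      have h6 : s.card = 6 := by omega
      refine ⟨o, ⟨ho, hs h1⟩, o \ s, ?_, ?_, ?_⟩
      · intro p hp
        rw [Finset.mem_sdiff] at hp
        rw [Finset.mem_erase]
        exact ⟨fun h => hp.2 (h ▸ h1), hp.1⟩
      · rw [Finset.card_sdiff_of_subset hs, octads_card ho, h6]
      · rw [Finset.sdiff_sdiff_eq_self hs]
    · rw [if_neg h1] at hd
      by_cases h2 : none ∈ o
      · rw [if_pos h2] at hd
        exfalso
        omega
      · rw [if_neg h2] at hd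
        left; left; right
        have h8 : s.card = 8 := by omega
        have hso : s = o := Finset.eq_of_subset_of_card_le hs (by rw [octads_card ho, h8])
        subst hso
        exact ⟨s, ⟨ho, h2⟩, rfl⟩
  · rw [sum_vC] at hd
    have hcard := supports_card hb
    have hv : vC j b none = if none ∈ b then (if none = j then 3 else -1)
        else (if none = j then -3 else 1) := rfl
    rw [hv] at hd
    by_cases h1 : none ∈ b
    · rw [if_pos h1] at hd
      by_cases h2 : none = j
      · subst h2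
        rw [if_pos h1, if_pos rfl] at hd
        exfalso
        rcases hcard with h | h | h | h | h <;> omega
      · rw [if_neg h2] at hd
        by_cases h3 : j ∈ b
        · rw [if_pos h3] at hd
          exfalso
          rcases hcard with h | h | h | h | h <;> omega
        · rw [if_neg h3] at hd
          right
          have h16 : b.card = 16 := by omega
          have hc : bᶜ ∈ octads := by
            refine ⟨compl_mem_supports hb, ?_⟩
            rw [Finset.card_compl, card_golayPt, h16]
          refine ⟨bᶜ, ⟨hc, fun h => (Finset.mem_compl.mp h) h1⟩, j, Finset.mem_compl.mpr h3, ?_⟩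
          rw [compl_compl]
    · rw [if_neg h1] at hd
      by_cases h2 : none = j
      · subst h2
        rw [if_neg h1, if_pos rfl] at hd
        left; right
        have h12 : b.card = 12 := by omega
        exact ⟨b, ⟨⟨hb, h12⟩, h1⟩, rfl⟩
      · rw [if_neg h2] at hd
        exfalso
        have hlt : b.card ≤ 23 := by
          have := Finset.card_le_card (Finset.subset_univ (insert none b))
          rw [Finset.card_insert_of_notMem h1, Finset.card_univ, card_golayPt] at this
          omega
        split_ifs at hd <;> rcases hcard with h | h | h | h | h <;> omega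


theorem hsA_subset : hsA ⊆ hs5 := by
  rintro x ⟨j, hj, rfl⟩
  have hj' : (none : GolayPt) ≠ j := fun h => hj h.symm
  refine ⟨(mem_leechLattice_iff _).mpr (pair4_mem_leechSet _ _ rfl rfl rfl), ?_, ?_⟩
  · show sqNorm (pair4 none j (-4) 4) = 32
    rw [sqNorm_pair4 hj']
    rfl
  · show dotInt u5 (pair4 none j (-4) 4) = -16
    rw [dotInt_u5, sum_pair4, pair4_apply_left hj']
    rfl

theorem hsB1_subset : hsB1 ⊆ hs5 := by
  rintro x ⟨o, ⟨ho, hn⟩, t, ht, ht2, rfl⟩
  have hto : t ⊆ o := fun p hp => Finset.mem_of_mem_erase (ht hp)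
  have hsub : o \ t ⊆ o := Finset.sdiff_subset
  have hc : (o \ t).card = 6 := by
    rw [Finset.card_sdiff_of_subset hto, octads_card ho, ht2]
  refine ⟨(mem_leechLattice_iff _).mpr (vB_mem_leechSet ho hsub (by rw [hc]; decide)), ?_, ?_⟩
  · rw [sqNorm_vB o _ hsub, octads_card ho]
    rfl
  · rw [dotInt_u5, sum_vB o _ hsub, octads_card ho, hc]
    have hnt : none ∉ t := fun h => (Finset.mem_erase.mp (ht h)).1 rfl
    have hv : vB o (o \ t) none = -2 := by
      unfold vB
      rw [if_pos (Finset.mem_sdiff.mpr ⟨hn, hnt⟩)]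
    rw [hv]
    rfl

theorem hsB2_subset : hsB2 ⊆ hs5 := by
  rintro x ⟨o, ⟨ho, hn⟩, rfl⟩
  have hc := octads_card ho
  refine ⟨(mem_leechLattice_iff _).mpr (vB_mem_leechSet ho (Finset.Subset.refl _)
    (by rw [hc]; decide)), ?_, ?_⟩
  · show sqNorm (vB o o) = 32
    rw [sqNorm_vB o o (Finset.Subset.refl _), hc]
    rfl
  · show dotInt u5 (vB o o) = -16
    rw [dotInt_u5, sum_vB o o (Finset.Subset.refl _), hc]
    have hv : vB o o none = 0 := by
      unfold vB
      rw [if_neg hn, if_neg hn]
    rw [hv]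
    rfl

theorem hsC1_subset : hsC1 ⊆ hs5 := by
  rintro x ⟨b, ⟨hb, hn⟩, rfl⟩
  refine ⟨(mem_leechLattice_iff _).mpr (vC_mem_leechSet none (dodecads_subset_supports hb)),
    sqNorm_vC _ _, ?_⟩
  show dotInt u5 (vC none b) = -16
  rw [dotInt_u5, sum_vC, dodecads_card hb, if_neg hn]
  have hv : vC none b none = -3 := by
    unfold vC
    rw [if_neg hn, if_pos rfl]
  rw [hv]
  rfl

theorem hsC2_subset : hsC2 ⊆ hs5 := by
  rintro x ⟨o, ⟨ho, hn⟩, j, hj, rfl⟩
  have hbc : (oᶜ).card = 16 := by
    rw [Finset.card_compl, card_golayPt, octads_card ho]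
  have hjn : (none : GolayPt) ≠ j := fun h => hn (h ▸ hj)
  refine ⟨(mem_leechLattice_iff _).mpr (vC_mem_leechSet j
    (compl_mem_supports (octads_subset_supports ho))), sqNorm_vC _ _, ?_⟩
  rw [dotInt_u5, sum_vC, hbc, if_neg (fun h => (Finset.mem_compl.mp h) hj)]
  have hv : vC j oᶜ none = -1 := by
    unfold vC
    rw [if_pos (Finset.mem_compl.mpr hn), if_neg hjn]
  rw [hv]
  rfl

theorem hs5_eq : hs5 = hsA ∪ hsB1 ∪ hsB2 ∪ hsC1 ∪ hsC2 := by
  apply Set.Subset.antisymm hs5_subset
  intro x hx
  rcases hx with (((hx | hx) | hx) | hx) | hx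
  · exact hsA_subset hx
  · exact hsB1_subset hx
  · exact hsB2_subset hx
  · exact hsC1_subset hx
  · exact hsC2_subset hx

/-! ### counting -/

theorem hsA_ncard : hsA.ncard = 23 := by
  unfold hsA
  rw [Set.InjOn.ncard_image, ncard_ne_none]
  intro j hj j' hj' h
  by_contra hne
  have h1 := congrFun h j
  simp only at h1
  rw [pair4_apply_right (fun h => hj h.symm), pair4_apply_other hj hne] at h1
  omega

theorem octInf_finite : octInf.Finite :=
  Set.finite_of_ncard_ne_zero (by rw [octInf_ncard]; norm_num)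

theorem octOff_finite : octOff.Finite :=
  Set.finite_of_ncard_ne_zero (by rw [octOff_ncard]; norm_num)

theorem hsB1_ncard : hsB1.ncard = 5313 := by
  classical
  have himg : hsB1 = (fun p : (Σ _ : Finset GolayPt, Finset GolayPt) => vB p.1 (p.1 \ p.2)) ''
      ((octInf_finite.toFinset.sigma (fun o => (o.erase none).powersetCard 2) :
        Finset (Σ _ : Finset GolayPt, Finset GolayPt)) : Set _) := by
    ext x
    constructor
    · rintro ⟨o, ho, t, ht, ht2, rfl⟩
      refine ⟨⟨o, t⟩, ?_, rfl⟩
      rw [Finset.mem_coe, Finset.mem_sigma, Set.Finite.mem_toFinset, Finset.mem_powersetCard]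
      exact ⟨ho, ht, ht2⟩
    · rintro ⟨⟨o, t⟩, hp, rfl⟩
      rw [Finset.mem_coe, Finset.mem_sigma, Set.Finite.mem_toFinset,
        Finset.mem_powersetCard] at hp
      exact ⟨o, hp.1, t, hp.2.1, hp.2.2, rfl⟩
  rw [himg, Set.InjOn.ncard_image, Set.ncard_coe_finset, Finset.card_sigma]
  · have : ∀ o ∈ octInf_finite.toFinset, ((o.erase none).powersetCard 2).card = 21 := by
      intro o ho
      rw [Set.Finite.mem_toFinset] at ho
      rw [Finset.card_powersetCard, Finset.card_erase_of_mem ho.2, octads_card ho.1]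
      rfl
    rw [Finset.sum_congr rfl this, Finset.sum_const, smul_eq_mul,
      ← Set.ncard_eq_toFinset_card octInf octInf_finite, octInf_ncard]
  · rintro ⟨o, t⟩ hp ⟨o', t'⟩ hp' h
    rw [Finset.mem_coe, Finset.mem_sigma, Set.Finite.mem_toFinset,
      Finset.mem_powersetCard] at hp hp'
    simp only at h
    have hto : t ⊆ o := fun p hp2 => Finset.mem_of_mem_erase (hp.2.1 hp2)
    have hto' : t' ⊆ o' := fun p hp2 => Finset.mem_of_mem_erase (hp'.2.1 hp2)
    obtain ⟨e1, e2⟩ := vB_injective Finset.sdiff_subset Finset.sdiff_subset h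
    subst e1
    have : t = t' := by
      rw [← Finset.sdiff_sdiff_eq_self hto, e2, Finset.sdiff_sdiff_eq_self hto']
    subst this
    rfl

theorem hsB2_ncard : hsB2.ncard = 506 := by
  unfold hsB2
  rw [Set.InjOn.ncard_image, octOff_ncard]
  intro o _ o' _ h
  exact (vB_injective (Finset.Subset.refl _) (Finset.Subset.refl _) h).1

theorem hsC1_ncard : hsC1.ncard = 1288 := by
  unfold hsC1
  rw [Set.InjOn.ncard_image, dodOff_ncard]
  intro o _ o' _ h
  exact (vC_injective h).2

theorem hsC2_ncard : hsC2.ncard = 4048 := by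
  classical
  have himg : hsC2 = (fun p : (Σ _ : Finset GolayPt, GolayPt) => vC p.2 p.1ᶜ) ''
      ((octOff_finite.toFinset.sigma (fun o => o) : Finset (Σ _ : Finset GolayPt, GolayPt)) :
        Set _) := by
    ext x
    constructor
    · rintro ⟨o, ho, j, hj, rfl⟩
      refine ⟨⟨o, j⟩, ?_, rfl⟩
      rw [Finset.mem_coe, Finset.mem_sigma, Set.Finite.mem_toFinset]
      exact ⟨ho, hj⟩
    · rintro ⟨⟨o, j⟩, hp, rfl⟩
      rw [Finset.mem_coe, Finset.mem_sigma, Set.Finite.mem_toFinset] at hp
      exact ⟨o, hp.1, j, hp.2, rfl⟩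
  rw [himg, Set.InjOn.ncard_image, Set.ncard_coe_finset, Finset.card_sigma]
  · have : ∀ o ∈ octOff_finite.toFinset, o.card = 8 := by
      intro o ho
      rw [Set.Finite.mem_toFinset] at ho
      exact octads_card ho.1
    rw [Finset.sum_congr rfl this, Finset.sum_const, smul_eq_mul,
      ← Set.ncard_eq_toFinset_card octOff octOff_finite, octOff_ncard]
  · rintro ⟨o, j⟩ _ ⟨o', j'⟩ _ h
    simp only at h
    obtain ⟨e1, e2⟩ := vC_injective h
    have e3 : o = o' := compl_injective e2
    subst e1
    subst e3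
    rfl

theorem hsA_none {x : GolayPt → ℤ} (h : x ∈ hsA) : x none = -4 := by
  obtain ⟨j, hj, rfl⟩ := h
  exact pair4_apply_left (fun h => hj h.symm) _ _

theorem hsB1_none {x : GolayPt → ℤ} (h : x ∈ hsB1) : x none = -2 := by
  obtain ⟨o, ⟨ho, hn⟩, t, ht, ht2, rfl⟩ := h
  have hnt : none ∉ t := fun h => (Finset.mem_erase.mp (ht h)).1 rfl
  unfold vB
  rw [if_pos (Finset.mem_sdiff.mpr ⟨hn, hnt⟩)]

theorem hsB2_none {x : GolayPt → ℤ} (h : x ∈ hsB2) : x none = 0 := by
  obtain ⟨o, ⟨ho, hn⟩, rfl⟩ := h
  show vB o o none = 0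
  unfold vB
  rw [if_neg hn, if_neg hn]

theorem hsC1_none {x : GolayPt → ℤ} (h : x ∈ hsC1) : x none = -3 := by
  obtain ⟨b, ⟨hb, hn⟩, rfl⟩ := h
  show vC none b none = -3
  unfold vC
  rw [if_neg hn, if_pos rfl]

theorem hsC2_none {x : GolayPt → ℤ} (h : x ∈ hsC2) : x none = -1 := by
  obtain ⟨o, ⟨ho, hn⟩, j, hj, rfl⟩ := h
  have hjn : (none : GolayPt) ≠ j := fun h => hn (h ▸ hj)
  unfold vC
  rw [if_pos (Finset.mem_compl.mpr hn), if_neg hjn]

theorem hs5_ncard : hs5.ncard = 11178 := by
  have fA : hsA.Finite := Set.finite_of_ncard_ne_zero (by rw [hsA_ncard]; norm_num)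
  have fB1 : hsB1.Finite := Set.finite_of_ncard_ne_zero (by rw [hsB1_ncard]; norm_num)
  have fB2 : hsB2.Finite := Set.finite_of_ncard_ne_zero (by rw [hsB2_ncard]; norm_num)
  have fC1 : hsC1.Finite := Set.finite_of_ncard_ne_zero (by rw [hsC1_ncard]; norm_num)
  have fC2 : hsC2.Finite := Set.finite_of_ncard_ne_zero (by rw [hsC2_ncard]; norm_num)
  have e1 := ncard_union_sep hsA hsB1 (fun x => x none = -4) (fun x hx => hsA_none hx)
    (fun x hx => by rw [hsB1_none hx]; decide) fA fB1
  have e2 := ncard_union_sep (hsA ∪ hsB1) hsB2 (fun x => x none ≠ 0)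
    (fun x hx => by
      rcases hx with hx | hx
      · rw [hsA_none hx]; decide
      · rw [hsB1_none hx]; decide)
    (fun x hx => by rw [hsB2_none hx]; decide) (fA.union fB1) fB2
  have e3 := ncard_union_sep (hsA ∪ hsB1 ∪ hsB2) hsC1 (fun x => x none ≠ -3)
    (fun x hx => by
      rcases hx with (hx | hx) | hx
      · rw [hsA_none hx]; decide
      · rw [hsB1_none hx]; decide
      · rw [hsB2_none hx]; decide)
    (fun x hx => by rw [hsC1_none hx]; decide) ((fA.union fB1).union fB2) fC1
  have e4 := ncard_union_sep (hsA ∪ hsB1 ∪ hsB2 ∪ hsC1) hsC2 (fun x => x none ≠ -1)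
    (fun x hx => by
      rcases hx with ((hx | hx) | hx) | hx
      · rw [hsA_none hx]; decide
      · rw [hsB1_none hx]; decide
      · rw [hsB2_none hx]; decide
      · rw [hsC1_none hx]; decide)
    (fun x hx => by rw [hsC2_none hx]; decide) (((fA.union fB1).union fB2).union fC1) fC2
  rw [hs5_eq, e4, e3, e2, e1, hsA_ncard, hsB1_ncard, hsB2_ncard, hsC1_ncard, hsC2_ncard]

end Cfsg.Agent.helper27
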