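import Mathlib
import Cfsg.Agent.Lib_helper27_HS0

set_option autoImplicit false

namespace Cfsg.Agent.helper27

open Cfsg
open scoped Pointwise

/-! ### orbits on raw vectors -/

/-- orbit relation of the pointwise stabiliser of `F`, on raw vectors -/
def ROrb (F : Set leechLattice) (x y : GolayPt → ℤ) : Prop :=
  ∃ (hx : x ∈ leechLattice) (hy : y ∈ leechLattice), FixOrb F ⟨x, hx⟩ ⟨y, hy⟩

theorem ROrb.symm {F : Set leechLattice} {x y : GolayPt → ℤ} (h : ROrb F x y) : ROrb F y x := by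
  obtain ⟨hx, hy, h⟩ := h
  exact ⟨hy, hx, h.symm⟩

theorem ROrb.trans {F : Set leechLattice} {x y z : GolayPt → ℤ} (h1 : ROrb F x y)
    (h2 : ROrb F y z) : ROrb F x z := by
  obtain ⟨hx, hy, h1⟩ := h1
  obtain ⟨_, hz, h2⟩ := h2
  exact ⟨hx, hz, h1.trans h2⟩

theorem ROrb.of_map {F : Set leechLattice} {f : (GolayPt → ℤ) → (GolayPt → ℤ)} (hf : IsCoMap f)
    (hfix : ∀ w ∈ F, f w.1 = w.1) {x : GolayPt → ℤ} (hx : x ∈ leechLattice) :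
    ROrb F x (f x) := by
  have hy : f x ∈ leechLattice := by
    obtain ⟨g, hg⟩ := hf
    rw [← hg ⟨x, hx⟩]
    exact (g • (⟨x, hx⟩ : leechLattice)).2
  exact ⟨hx, hy, FixOrb.of_map hf hfix rfl⟩

theorem ROrb.fixOrb {F : Set leechLattice} {x y : leechLattice} (h : ROrb F x.1 y.1) :
    FixOrb F x y := by
  obtain ⟨_, _, h⟩ := h
  exact h

/-- the single fixed vector -/
def F1 : Set leechLattice := {u5L}

theorem rorb1_hmap {x : GolayPt → ℤ} (hx : x ∈ leechLattice) : ROrb F1 x (hmap x) := by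
  apply ROrb.of_map isCoMap_hmap _ hx
  intro w hw
  rw [Set.mem_singleton_iff.mp hw]
  exact hmap_u5

theorem rorb1_m23 {σ : Equiv.Perm GolayPt} (hσ : σ ∈ M24) (h1 : σ none = none)
    {x : GolayPt → ℤ} (hx : x ∈ leechLattice) : ROrb F1 x (signedPerm σ ∅ x) := by
  apply ROrb.of_map (IsCoMap.mono hσ empty_mem_GS) _ hx
  intro w hw
  rw [Set.mem_singleton_iff.mp hw]
  exact signedPerm_u5 h1

/-! ### certificates -/

theorem hmap_h1 : hmap (pair4 none (some 2) (-4) 4)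
    = vB (cw 47) (cw 47 \ {some 1, some 17}) := by
  have e : pair4 none (some 2) (-4) 4
      = ofList [0, 0, 4, 0, 0, 0, 0, 0, 0, 0, 0, 0, 0, 0, 0, 0, 0, 0, 0, 0, 0, 0, 0, -4] := by
    decide
  have e' : vB (cw 47) (cw 47 \ {some 1, some 17}) = ofList [-2, 2, -2, -2, 0, -2, 0, 0, 0, 0, 0,
      0, 0, 0, -2, 0, 0, 2, 0, 0, 0, 0, 0, -2] := by
    decide
  rw [e, e']
  exact hmap_chain _
    [0, 0, 0, -4, 0, 0, 0, 0, 0, 0, 0, 0, 0, 0, 4, 0, 0, 0, 0, 0, 0, 0, 0, 0]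
    [0, 0, 0, -4, 0, 0, 0, 0, 0, 0, 0, 0, 0, 0, 4, 0, 0, 0, 0, 0, 0, 0, 0, 0]
    [0, -4, 0, 0, 0, 0, 0, 0, 0, 0, 0, 0, 0, 0, 0, 0, 0, 4, 0, 0, 0, 0, 0, 0]
    _ (by decide) (by decide) (by decide) (by decide)

theorem hmap_h2 : hmap (pair4 none (some 0) (-4) 4) = vC none (cw 63) := by
  have e : pair4 none (some 0) (-4) 4
      = ofList [4, 0, 0, 0, 0, 0, 0, 0, 0, 0, 0, 0, 0, 0, 0, 0, 0, 0, 0, 0, 0, 0, 0, -4] := by
    decide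
  have e' : vC none (cw 63) = ofList [-1, -1, -1, -1, -1, -1, 1, 1, 1, 1, 1, 1, -1, -1, -1, 1, -1,
      1, 1, -1, -1, 1, 1, -3] := by
    decide
  rw [e, e']
  exact hmap_chain _
    [0, 0, 0, -4, 0, 0, 0, 0, 0, 0, 0, 0, 0, 0, 0, 0, 0, 0, 0, 0, 0, 0, 0, 4]
    [2, 2, 2, -2, 0, 2, 0, 0, 0, 0, 0, 0, 0, 0, 2, 0, 0, 2, 0, 0, 0, 0, 0, -2]
    [-2, -2, -2, 0, 0, 0, 0, 0, 0, 0, 0, 0, -2, 0, 0, 0, 0, 2, 0, -2, -2, 0, 2, 0]
    _ (by decide) (by decide) (by decide) (by decide)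

theorem hmap_h3 : hmap (vB (cw 20) (cw 20))
    = vB (cw 2081) (cw 2081 \ {some 0, some 5}) := by
  have e : vB (cw 20) (cw 20)
      = ofList [0, 0, -2, 0, -2, 0, 0, 0, 0, 0, 0, 0, 0, 0, 0, -2, -2, -2, -2, -2, 0, 0, -2, 0] := by
    decide
  have e' : vB (cw 2081) (cw 2081 \ {some 0, some 5}) = ofList [2, 0, 0, 0, 0, 2, 0, 0, 0, 0, 0,
      -2, -2, 0, 0, -2, 0, -2, 0, 0, -2, 0, 0, -2] := by
    decide
  rw [e, e']
  exact hmap_chain _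
    [0, 0, 0, 0, -2, 0, -2, -2, 0, -2, 0, 0, 0, -2, -2, 0, 0, -2, 0, 0, -2, 0, 0, 0]
    [0, 0, 0, 2, 0, 2, 0, 0, 0, 0, 2, 0, 0, 0, 0, 2, 2, 0, 0, 2, 0, 2, 2, 0]
    [-2, 0, 0, 0, 0, 2, 0, 0, 2, 2, 2, 0, 0, 0, 0, 0, 0, -2, 2, 0, 0, 0, 0, 2]
    _ (by decide) (by decide) (by decide) (by decide)

theorem hmap_h4 : hmap (vC (some 10) (cw 3968)ᶜ)
    = vB (cw 2209) (cw 2209 \ {some 0, some 14}) := by
  have e : vC (some 10) (cw 3968)ᶜ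
      = ofList [-1, -1, -1, -1, -1, -1, -1, 1, 1, 1, -3, 1, -1, -1, 1, -1, -1, 1, -1, 1, -1, -1,
        -1, -1] := by
    decide
  have e' : vB (cw 2209) (cw 2209 \ {some 0, some 14}) = ofList [2, 0, 0, 0, 0, -2, 0, -2, 0, 0,
      0, -2, 0, 0, 2, 0, 0, 0, -2, -2, 0, 0, 0, -2] := by
    decide
  rw [e, e']
  exact hmap_chain _
    [1, -1, -1, -1, -1, 1, -1, 1, 1, 1, -1, -1, -1, -1, -1, -1, 1, -1, -1, -3, -1, 1, -1, -1]
    [-2, 0, 0, 0, 0, 2, 0, 2, 2, 2, 0, 0, 0, 0, 0, 0, 2, 0, 0, -2, 0, 2, 0, 0]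
    [-2, 0, 0, 0, 0, -2, 2, 0, 2, 0, 0, 0, 2, 0, 2, 0, 0, 0, 0, 0, 0, 2, 0, 2]
    _ (by decide) (by decide) (by decide) (by decide)

end Cfsg.Agent.helper27
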