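import Mathlib
import Cfsg.Agent.Lib_helper27_HS1

set_option autoImplicit false

namespace Cfsg.Agent.helper27

open Cfsg
open scoped Pointwise

theorem hs5_mem {x : GolayPt → ℤ} (hx : x ∈ hs5) : x ∈ leechLattice := hx.1

/-- embedding given by three distinct points -/
def emb3 {a b c : GolayPt} (hab : a ≠ b) (hac : a ≠ c) (hbc : b ≠ c) : Fin 3 ↪ GolayPt :=
  ⟨![a, b, c], by
    intro i j h
    fin_cases i <;> fin_cases j <;> simp_all⟩

theorem emb3_mem {a b c : GolayPt} (hab : a ≠ b) (hac : a ≠ c) (hbc : b ≠ c)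
    {s : Finset GolayPt} (ha : a ∈ s) (hb : b ∈ s) (hc : c ∈ s) :
    ∀ i, emb3 hab hac hbc i ∈ s := by
  intro i
  fin_cases i
  · exact ha
  · exact hb
  · exact hc

/-- the reference vector -/
def href : GolayPt → ℤ := pair4 none (some 0) (-4) 4

theorem href_hsA : href ∈ hsA := ⟨some 0, by decide, rfl⟩

theorem rorb1_hsA {x : GolayPt → ℤ} (hx : x ∈ hsA) : ROrb F1 x href := by
  have hm := hs5_mem (hsA_subset hx)
  obtain ⟨j, hj, rfl⟩ := hx
  obtain ⟨σ, hσ, h1, h2⟩ := exists_M23_point hj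
  have := rorb1_m23 hσ h1 hm
  simp only at this
  rw [signedPerm_pair4, h1, h2] at this
  exact this

theorem cw2081_octInf : cw 2081 ∈ octInf := by
  refine ⟨⟨cw_mem_GS (by norm_num), ?_⟩, ?_⟩
  · rw [cw_card]; decide
  · rw [mem_cw_iff]; decide

theorem cw2209_octInf : cw 2209 ∈ octInf := by
  refine ⟨⟨cw_mem_GS (by norm_num), ?_⟩, ?_⟩
  · rw [cw_card]; decide
  · rw [mem_cw_iff]; decide

theorem cw20_octOff : cw 20 ∈ octOff := by
  refine ⟨⟨cw_mem_GS (by norm_num), ?_⟩, ?_⟩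
  · rw [cw_card]; decide
  · rw [mem_cw_iff]; decide

theorem cw3968_octOff : cw 3968 ∈ octOff := by
  refine ⟨⟨cw_mem_GS (by norm_num), ?_⟩, ?_⟩
  · rw [cw_card]; decide
  · rw [mem_cw_iff]; decide

theorem cw63_dodOff : cw 63 ∈ dodOff := by
  refine ⟨⟨cw_mem_GS (by norm_num), ?_⟩, ?_⟩
  · rw [cw_card]; decide
  · rw [mem_cw_iff]; decide

/-- the reference vector of the second family -/
def hrefB1 : GolayPt → ℤ := vB (cw 47) (cw 47 \ {some 1, some 17})

theorem hrefB1_mem : hrefB1 ∈ hsB1 :=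
  ⟨cw 47, cw47_octInf, {some 1, some 17}, by decide, by decide, rfl⟩

theorem rorb1_hrefB1 : ROrb F1 hrefB1 href := by
  have hA : pair4 none (some 2) (-4) 4 ∈ hsA := ⟨some 2, by decide, rfl⟩
  have s1 := rorb1_hmap (hs5_mem (hsA_subset hA))
  rw [hmap_h1] at s1
  exact s1.symm.trans (rorb1_hsA hA)

theorem smul_pair (σ : Equiv.Perm GolayPt) (p q : GolayPt) :
    σ • ({p, q} : Finset GolayPt) = {σ p, σ q} := by
  rw [Finset.smul_finset_insert, Finset.smul_finset_singleton]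
  rfl

theorem rorb1_hsB1 {x : GolayPt → ℤ} (hx : x ∈ hsB1) : ROrb F1 x href := by
  have hm := hs5_mem (hsB1_subset hx)
  obtain ⟨o, ⟨ho, hn⟩, t, ht, ht2, rfl⟩ := hx
  obtain ⟨p, q, hpq, rfl⟩ := Finset.card_eq_two.mp ht2
  have hp := Finset.mem_erase.mp (ht (Finset.mem_insert_self p _))
  have hq := Finset.mem_erase.mp (ht (Finset.mem_insert_of_mem (Finset.mem_singleton_self q)))
  obtain ⟨ho', hn'⟩ := cw47_octInf
  have h1' : (some 1 : GolayPt) ∈ cw 47 := by rw [mem_cw_iff]; decide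
  have h17' : (some 17 : GolayPt) ∈ cw 47 := by rw [mem_cw_iff]; decide
  obtain ⟨σ, hσ, h1, h2⟩ := exists_M24_octad_emb (k := 3) (by norm_num) ho ho'
    (emb3 (a := none) (b := p) (c := q) (fun h => hp.1 h.symm) (fun h => hq.1 h.symm) hpq)
    (emb3 (a := none) (b := some 1) (c := some 17) (by decide) (by decide) (by decide))
    (emb3_mem _ _ _ hn hp.2 hq.2) (emb3_mem _ _ _ hn' h1' h17')
  have e0 : σ none = none := h2 0
  have e1 : σ p = some 1 := h2 1
  have e2 : σ q = some 17 := h2 2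
  have s1 := rorb1_m23 hσ e0 hm
  rw [signedPerm_vB, Finset.smul_finset_sdiff, h1, smul_pair, e1, e2] at s1
  exact s1.trans rorb1_hrefB1

theorem rorb1_hsC1 {x : GolayPt → ℤ} (hx : x ∈ hsC1) : ROrb F1 x href := by
  have hm := hs5_mem (hsC1_subset hx)
  obtain ⟨b, ⟨hb, hn⟩, rfl⟩ := hx
  obtain ⟨hb', hn'⟩ := cw63_dodOff
  have hfl : ((cw 63)ᶜ, (none : GolayPt)) ∈ helper2.Golay.flagSet :=
    ⟨helper2.Golay.compl_mem_dodecads hb', Finset.mem_compl.mpr hn'⟩
  rw [← helper2.Golay.orbit_flag (helper2.Golay.compl_mem_dodecads hb)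
    (Finset.mem_compl.mpr hn), MulAction.mem_orbit_iff] at hfl
  obtain ⟨g, hg⟩ := hfl
  rw [Prod.smul_mk, Prod.mk.injEq] at hg
  obtain ⟨hg1, hg2⟩ := hg
  have e0 : g.1 none = none := hg2
  have e1 : g.1 • b = cw 63 := by
    have : g.1 • bᶜ = (cw 63)ᶜ := hg1
    rw [helper2.Golay.smul_compl] at this
    exact compl_injective this
  have s1 := rorb1_m23 g.2 e0 hm
  simp only at s1
  rw [signedPerm_vC, e0, e1] at s1
  have s2 := rorb1_hmap (hs5_mem (hsA_subset href_hsA))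
  have : hmap href = vC none (cw 63) := hmap_h2
  rw [this] at s2
  exact s1.trans s2.symm

theorem rorb1_hsB2 {x : GolayPt → ℤ} (hx : x ∈ hsB2) : ROrb F1 x href := by
  have hm := hs5_mem (hsB2_subset hx)
  obtain ⟨o, ⟨ho, hn⟩, rfl⟩ := hx
  obtain ⟨ho', hn'⟩ := cw20_octOff
  obtain ⟨σ, hσ, h1, _, h3⟩ := exists_M24_octad_emb_out (k := 0) (by norm_num) ho ho'
    (Function.Embedding.ofIsEmpty) (Function.Embedding.ofIsEmpty) (fun i => i.elim0)
    (fun i => i.elim0) hn hn'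
  have s1 := rorb1_m23 hσ h3 hm
  simp only at s1
  rw [signedPerm_vB, h1] at s1
  have s2 := rorb1_hmap s1.symm.1
  rw [hmap_h3] at s2
  have hB : vB (cw 2081) (cw 2081 \ {some 0, some 5}) ∈ hsB1 :=
    ⟨cw 2081, cw2081_octInf, {some 0, some 5}, by decide, by decide, rfl⟩
  exact (s1.trans s2).trans (rorb1_hsB1 hB)

theorem rorb1_hsC2 {x : GolayPt → ℤ} (hx : x ∈ hsC2) : ROrb F1 x href := by
  have hm := hs5_mem (hsC2_subset hx)
  obtain ⟨o, ⟨ho, hn⟩, j, hj, rfl⟩ := hx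
  obtain ⟨ho', hn'⟩ := cw3968_octOff
  have hj' : (some 10 : GolayPt) ∈ cw 3968 := by rw [mem_cw_iff]; decide
  obtain ⟨σ, hσ, h1, h2, h3⟩ := exists_M24_octad_emb_out (k := 1) (by norm_num) ho ho'
    (emb1 j) (emb1 (some 10)) (fun _ => hj) (fun _ => hj') hn hn'
  have e1 : σ j = some 10 := h2 0
  have s1 := rorb1_m23 hσ h3 hm
  rw [signedPerm_vC, e1, helper2.Golay.smul_compl, h1] at s1
  have s2 := rorb1_hmap s1.symm.1
  rw [hmap_h4] at s2
  have hB : vB (cw 2209) (cw 2209 \ {some 0, some 14}) ∈ hsB1 :=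
    ⟨cw 2209, cw2209_octInf, {some 0, some 14}, by decide, by decide, rfl⟩
  exact (s1.trans s2).trans (rorb1_hsB1 hB)

theorem rorb1_hs5 {x : GolayPt → ℤ} (hx : x ∈ hs5) : ROrb F1 x href := by
  rw [hs5_eq] at hx
  rcases hx with (((hx | hx) | hx) | hx) | hx
  · exact rorb1_hsA hx
  · exact rorb1_hsB1 hx
  · exact rorb1_hsB2 hx
  · exact rorb1_hsC1 hx
  · exact rorb1_hsC2 hx

/-- minimal vectors of inner product `-16` with `u` -/
def hsSet (u : leechLattice) : Set leechLattice :=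
  {x | sqNorm x.1 = 32 ∧ dotInt u.1 x.1 = -16}

theorem hsSet_smul (g : Co0) (u x : leechLattice) : g • x ∈ hsSet (g • u) ↔ x ∈ hsSet u := by
  unfold hsSet
  simp only [Set.mem_ofPred_eq, co0_sqNorm, co0_smul_dot]

theorem hsSet_std (x : leechLattice) : x ∈ hsSet u5L ↔ x.1 ∈ hs5 :=
  ⟨fun h => ⟨x.2, h.1, h.2⟩, fun h => ⟨h.2.1, h.2.2⟩⟩

theorem hsSet_std_ncard : (hsSet u5L).ncard = 11178 := by
  rw [← hs5_ncard, ← Set.ncard_image_of_injective _ Subtype.val_injective]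
  congr 1
  ext x
  constructor
  · rintro ⟨v, hv, rfl⟩
    exact (hsSet_std v).mp hv
  · intro hx
    exact ⟨⟨x, hs5_mem hx⟩, (hsSet_std _).mpr hx, rfl⟩

/-- transitivity of the stabiliser of `u` on `hsSet u` -/
theorem hsSet_transitive (u : leechLattice) (hu : sqNorm u.1 = 48) (x x' : leechLattice)
    (hx : x ∈ hsSet u) (hx' : x' ∈ hsSet u) : ∃ g : Co0, g • u = u ∧ g • x = x' := by
  have h48 : sqNorm u5L.1 = 48 := by decide
  obtain ⟨g0, hg0⟩ := co0_transitive_48 u u5L hu h48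
  have hx1 : g0 • x ∈ hsSet u5L := by rw [← hg0, hsSet_smul]; exact hx
  have hx2 : g0 • x' ∈ hsSet u5L := by rw [← hg0, hsSet_smul]; exact hx'
  have s1 := (rorb1_hs5 ((hsSet_std _).mp hx1)).trans (rorb1_hs5 ((hsSet_std _).mp hx2)).symm
  have s3 : FixOrb ({u} : Set leechLattice) x x' := by
    apply FixOrb.transport g0 (F' := F1) _ s1.fixOrb
    intro w hw
    rw [Set.mem_singleton_iff.mp hw, hg0]
    exact rfl
  obtain ⟨g, hg, hgx⟩ := s3
  exact ⟨g, hg u rfl, hgx⟩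

/-- statement of `S1640` -/
theorem co3_on_11178 (u : leechLattice) (hu : sqNorm (u : GolayPt → ℤ) = 48) :
    {x : leechLattice | sqNorm (x : GolayPt → ℤ) = 32 ∧
      dotInt (u : GolayPt → ℤ) (x : GolayPt → ℤ) = -16}.ncard = 11178 ∧
    ∀ x ∈ {x : leechLattice | sqNorm (x : GolayPt → ℤ) = 32 ∧
      dotInt (u : GolayPt → ℤ) (x : GolayPt → ℤ) = -16},
    ∀ x' ∈ {x : leechLattice | sqNorm (x : GolayPt → ℤ) = 32 ∧
      dotInt (u : GolayPt → ℤ) (x : GolayPt → ℤ) = -16},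
    ∃ g : Co0, g • u = u ∧ g • x = x' := by
  refine ⟨?_, fun x hx x' hx' => hsSet_transitive u hu x x' hx hx'⟩
  have h48 : sqNorm u5L.1 = 48 := by decide
  obtain ⟨g0, hg0⟩ := co0_transitive_48 u u5L hu h48
  have hS : hsSet u = (fun x => g0⁻¹ • x) '' hsSet u5L := by
    ext x
    constructor
    · intro hx
      refine ⟨g0 • x, ?_, inv_smul_smul g0 x⟩
      rw [← hg0, hsSet_smul]
      exact hx
    · rintro ⟨y, hy, rfl⟩
      rw [← hsSet_smul g0, smul_inv_smul, hg0]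
      exact hy
  show (hsSet u).ncard = 11178
  rw [hS, Set.ncard_image_of_injective _ (MulAction.injective g0⁻¹), hsSet_std_ncard]

/-- statement of `S1585` -/
theorem exchange_48 (v w : leechLattice) (hv : sqNorm (v : GolayPt → ℤ) = 48)
    (hw : sqNorm (w : GolayPt → ℤ) = 48)
    (hvw : dotInt (v : GolayPt → ℤ) (w : GolayPt → ℤ) = -32) :
    ∃ g : Co0, g • v = w ∧ g • w = v := by
  -- the minimal vector `x = -(v + w)`
  have hx : -(v + w) ∈ hsSet v := by
    constructor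
    · show sqNorm (-(v.1 + w.1)) = 32
      rw [sqNorm_neg, sqNorm_add, hv, hw, hvw]
      rfl
    · show dotInt v.1 (-(v.1 + w.1)) = -16
      rw [dotInt_neg_right', dotInt_add_right, dotInt_self, hv, hvw]
      rfl
  have hxw : -(v + w) ∈ hsSet w := by
    constructor
    · exact hx.1
    · show dotInt w.1 (-(v.1 + w.1)) = -16
      rw [dotInt_neg_right', dotInt_add_right, dotInt_self, hw, dotInt_comm, hvw]
      rfl
  obtain ⟨g1, hg1⟩ := co0_transitive_48 v w hv hw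
  have hx1 : g1 • -(v + w) ∈ hsSet w := by
    have := (hsSet_smul g1 v (-(v + w))).mpr hx
    rw [hg1] at this
    exact this
  obtain ⟨g2, hg2, hg3⟩ := hsSet_transitive w hw _ _ hx1 hxw
  refine ⟨g2 * g1, by rw [mul_smul, hg1, hg2], ?_⟩
  have e1 : (g2 * g1) • v = w := by rw [mul_smul, hg1, hg2]
  have e2 : (g2 * g1) • -(v + w) = -(v + w) := by rw [mul_smul, hg3]
  have e4 : (g2 * g1) • (v + w) = v + w := by
    have : (g2 * g1) • -(v + w) = -((g2 * g1) • (v + w)) := by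
      have h0 := co0_smul_add (g2 * g1) (-(v + w)) (v + w)
      rw [neg_add_cancel] at h0
      have hz : (g2 * g1) • (0 : leechLattice) = 0 := by
        have := co0_smul_add (g2 * g1) 0 0
        rw [add_zero] at this
        exact left_eq_add.mp this
      rw [hz] at h0
      exact eq_neg_of_add_eq_zero_left h0.symm
    rw [this] at e2
    exact neg_injective e2
  have e5 := co0_smul_add (g2 * g1) v w
  rw [e4, e1] at e5
  have : (g2 * g1) • w = v + w - w := by rw [e5]; abel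
  rw [this]
  abel

end Cfsg.Agent.helper27
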