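import Mathlib
import Cfsg.Agent.Lib_helper27_HS2

set_option autoImplicit false

namespace Cfsg.Agent.helper27

open Cfsg
open scoped Pointwise

/-! ### the 100 points -/

theorem dotInt_href (x : GolayPt → ℤ) : dotInt href x = -4 * x none + 4 * x (some 0) := by
  unfold href pair4
  rw [dotInt_add_left', dotInt_single_left, dotInt_single_left]

def hsA' : Set (GolayPt → ℤ) := (fun j => vC j ∅) '' {j | j ≠ none ∧ j ≠ some 0}

/-- the configuration relative to the reference vectors -/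
def hs100 : Set (GolayPt → ℤ) := {x | x ∈ partners5 ∧ dotInt href x = 0}

theorem a0_partners5 : a0 ∈ partners5 := famA_subset ⟨some 0, by decide, rfl⟩

theorem hs100_eq : hs100 = {a0} ∪ mclB ∪ hsA' := by
  ext x
  constructor
  · rintro ⟨hx, hd⟩
    rw [dotInt_href] at hd
    rw [partners5_eq] at hx
    rcases hx with ((hx | hx) | hx) | hx
    · left; left
      obtain ⟨j, hj, rfl⟩ := hx
      beta_reduce at hd
      rw [pair4_apply_left (fun h => hj h.symm)] at hd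
      by_cases h0 : j = some 0
      · subst h0; rfl
      · exfalso
        rw [pair4_apply_other (by decide) (fun h => h0 h.symm)] at hd
        omega
    · left; right
      obtain ⟨o, ⟨ho, hn⟩, rfl⟩ := hx
      refine ⟨o, ⟨ho, hn, ?_⟩, rfl⟩
      by_contra h0
      simp only [vB, Finset.notMem_empty, if_false, hn, h0, if_true] at hd
      omega
    · exfalso
      obtain ⟨o, ⟨ho, hn⟩, rfl⟩ := hx
      have h1 : (some (0 : ZMod 23) : GolayPt) ≠ none := by decide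
      simp only [vC, hn, if_true, h1, if_false] at hd
      split_ifs at hd <;> omega
    · right
      obtain ⟨j, hj, rfl⟩ := hx
      refine ⟨j, ⟨hj, fun h0 => ?_⟩, rfl⟩
      subst h0
      have h1 : (none : GolayPt) ≠ some 0 := by decide
      simp only [vC, Finset.notMem_empty, if_false, h1, if_true] at hd
      omega
  · rintro ((hx | hx) | hx)
    · rw [Set.mem_singleton_iff.mp hx]
      refine ⟨a0_partners5, ?_⟩
      rw [dotInt_href]
      show -4 * pair4 none (some 0) 4 4 none + 4 * pair4 none (some 0) 4 4 (some 0) = 0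
      rw [pair4_apply_left (by decide), pair4_apply_right (by decide)]
      rfl
    · obtain ⟨o, ⟨ho, hn, h0⟩, rfl⟩ := hx
      refine ⟨famB_subset ⟨o, ⟨ho, hn⟩, rfl⟩, ?_⟩
      rw [dotInt_href]
      simp only [vB, Finset.notMem_empty, if_false, hn, h0, if_true]
      rfl
    · obtain ⟨j, ⟨hj, hj0⟩, rfl⟩ := hx
      refine ⟨famA'_subset ⟨j, hj, rfl⟩, ?_⟩
      rw [dotInt_href]
      have h1 : (none : GolayPt) ≠ j := fun h => hj h.symm
      have h2 : (some (0 : ZMod 23) : GolayPt) ≠ j := fun h => hj0 h.symm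
      simp only [vC, Finset.notMem_empty, if_false, h1, h2]
      rfl

theorem ncard_ne_two : {j : GolayPt | j ≠ none ∧ j ≠ some 0}.ncard = 22 := by
  have : {j : GolayPt | j ≠ none ∧ j ≠ some 0}
      = (((Finset.univ.erase none).erase (some 0) : Finset GolayPt) : Set GolayPt) := by
    ext j
    simp
  rw [this, Set.ncard_coe_finset]
  decide

theorem hsA'_ncard : hsA'.ncard = 22 := by
  unfold hsA'
  rw [Set.InjOn.ncard_image, ncard_ne_two]
  intro j _ j' _ h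
  exact (vC_injective h).1

theorem hs100_ncard : hs100.ncard = 100 := by
  have fB : mclB.Finite := Set.finite_of_ncard_ne_zero (by rw [mclB_ncard]; norm_num)
  have fA' : hsA'.Finite := Set.finite_of_ncard_ne_zero (by rw [hsA'_ncard]; norm_num)
  have hB : ∀ x ∈ mclB, x none = 2 := by
    rintro x ⟨o, ho, rfl⟩
    exact famB_none ⟨o, ⟨ho.1, ho.2.1⟩, rfl⟩
  have hA' : ∀ x ∈ hsA', x none = 1 := by
    rintro x ⟨j, hj, rfl⟩
    exact famA'_none ⟨j, hj.1, rfl⟩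
  have ha0 : a0 none = 4 := pair4_apply_left (by decide) _ _
  have e1 := ncard_union_sep {a0} mclB (fun x => x none = 4)
    (fun x hx => by rw [Set.mem_singleton_iff.mp hx]; exact ha0)
    (fun x hx => by rw [hB x hx]; decide) (Set.finite_singleton _) fB
  have e2 := ncard_union_sep ({a0} ∪ mclB) hsA' (fun x => x none ≠ 1)
    (fun x hx => by
      rcases hx with hx | hx
      · rw [Set.mem_singleton_iff.mp hx, ha0]; decide
      · rw [hB x hx]; decide)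
    (fun x hx => by rw [hA' x hx]; decide) ((Set.finite_singleton _).union fB) fA'
  rw [hs100_eq, e2, e1, Set.ncard_singleton, mclB_ncard, hsA'_ncard]

/-! ### the fusing element -/

def sg3_l : List ℕ := [14, 8, 16, 3, 22, 1, 5, 19, 9, 2, 7, 21, 18, 13, 12, 0, 6, 4, 11, 17, 10, 15, 20, 23]
def sg3_r : List ℕ := [15, 5, 9, 3, 17, 6, 16, 10, 1, 8, 20, 18, 14, 13, 0, 21, 2, 19, 12, 7, 22, 11, 4, 23]
def sg4_l : List ℕ := [20, 4, 7, 2, 21, 18, 15, 3, 16, 13, 11, 1, 6, 8, 17, 22, 14, 0, 10, 12, 5, 9, 19, 23]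
def sg4_r : List ℕ := [17, 11, 3, 7, 1, 20, 12, 2, 13, 21, 18, 10, 19, 9, 16, 6, 8, 14, 5, 22, 0, 4, 15, 23]

def sg3 : Equiv.Perm GolayPt where
  toFun := tblFun sg3_l
  invFun := tblFun sg3_r
  left_inv := by decide
  right_inv := by decide

def sg4 : Equiv.Perm GolayPt where
  toFun := tblFun sg4_l
  invFun := tblFun sg4_r
  left_inv := by decide
  right_inv := by decide

theorem sg3_mem : sg3 ∈ M24 := mem_M24_of_reenc sg3 (by decide)
theorem sg4_mem : sg4 ∈ M24 := mem_M24_of_reenc sg4 (by decide)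

/-- an automorphism fixing the two reference vectors that is not monomial -/
def g2map (x : GolayPt → ℤ) : GolayPt → ℤ := signedPerm sg4 ∅ (hmap (signedPerm sg3 ∅ x))

theorem isCoMap_g2map : IsCoMap g2map :=
  ((IsCoMap.mono sg3_mem empty_mem_GS).comp isCoMap_hmap).comp (IsCoMap.mono sg4_mem empty_mem_GS)

theorem g2map_chain (d0 d1 d2 d3 d4 d5 d6 : List ℤ)
    (h0 : signedPerm sg3 ∅ (ofList d0) = ofList d1)
    (h1 : signedPerm piA ∅ (ofList d1) = ofList d2)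
    (h2 : xiFun (ofList d2) = ofList d3) (h3 : signedPerm piB (cw 7) (ofList d3) = ofList d4)
    (h4 : xiFun (ofList d4) = ofList d5) (h5 : signedPerm sg4 ∅ (ofList d5) = ofList d6) :
    g2map (ofList d0) = ofList d6 := by
  unfold g2map
  rw [h0, hmap_chain d1 d2 d3 d4 d5 h1 h2 h3 h4, h5]

theorem g2map_u5 : g2map u5 = u5 := by
  have e : u5 = ofList [1, 1, 1, 1, 1, 1, 1, 1, 1, 1, 1, 1, 1, 1, 1, 1, 1, 1, 1, 1, 1, 1, 1, 5] := by
    decide
  rw [e]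
  exact g2map_chain _
    [1, 1, 1, 1, 1, 1, 1, 1, 1, 1, 1, 1, 1, 1, 1, 1, 1, 1, 1, 1, 1, 1, 1, 5]
    [1, 1, 1, 5, 1, 1, 1, 1, 1, 1, 1, 1, 1, 1, 1, 1, 1, 1, 1, 1, 1, 1, 1, 1]
    [1, 1, 1, 1, -1, -3, -1, -1, -1, -1, -1, -1, -1, -1, -3, -1, -1, -3, -1, -1, -1, -1, -1, 1]
    [3, 3, 3, -1, -1, -1, -1, -1, -1, -1, -1, -1, -1, -1, -1, -1, -1, -1, -1, -1, -1, -1, -1, -1]
    [1, 1, 1, 1, 1, 1, 1, 1, 1, 1, 1, 1, 1, 1, 1, 1, 1, 1, 1, 1, 1, 1, 1, 5]
    _ (by decide) (by decide) (by decide) (by decide) (by decide) (by decide)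

theorem g2map_href : g2map href = href := by
  have e : href
      = ofList [4, 0, 0, 0, 0, 0, 0, 0, 0, 0, 0, 0, 0, 0, 0, 0, 0, 0, 0, 0, 0, 0, 0, -4] := by
    decide
  rw [e]
  exact g2map_chain _
    [0, 0, 0, 0, 0, 0, 0, 0, 0, 0, 0, 0, 0, 0, 4, 0, 0, 0, 0, 0, 0, 0, 0, -4]
    [0, 0, 0, -4, 0, 0, 0, 0, 0, 0, 0, 0, 0, 0, 0, 0, 0, 0, 0, 0, 0, 4, 0, 0]
    [0, 0, 0, -2, 0, 2, -2, -2, 0, 0, 0, 0, 0, 0, 2, 0, 0, 2, 0, -2, 0, 2, 0, 0]
    [-2, -2, -2, -2, 0, -2, 0, 0, 0, 0, 0, 0, 0, 0, -2, 0, 0, 2, 0, 0, 0, 0, 0, 2]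
    [0, 0, 0, 0, 0, 0, 0, 0, 0, 0, 0, 0, 0, 0, 0, 0, 0, 4, 0, 0, 0, 0, 0, -4]
    _ (by decide) (by decide) (by decide) (by decide) (by decide) (by decide)

theorem g2map_a0 : g2map a0 = vB (cw 149) ∅ := by
  have e : a0 = ofList [4, 0, 0, 0, 0, 0, 0, 0, 0, 0, 0, 0, 0, 0, 0, 0, 0, 0, 0, 0, 0, 0, 0, 4] := by
    decide
  have e' : vB (cw 149) ∅ = ofList [2, 0, 2, 0, 2, 0, 0, 2, 0, 0, 0, 0, 0, 0, 0, 0, 0, 2, 2, 0, 2,
      0, 0, 2] := by
    decide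
  rw [e, e']
  exact g2map_chain _
    [0, 0, 0, 0, 0, 0, 0, 0, 0, 0, 0, 0, 0, 0, 4, 0, 0, 0, 0, 0, 0, 0, 0, 4]
    [0, 0, 0, 4, 0, 0, 0, 0, 0, 0, 0, 0, 0, 0, 0, 0, 0, 0, 0, 0, 0, 4, 0, 0]
    [0, 0, 0, 2, 0, -2, -2, -2, 0, 0, 0, 0, 0, 0, -2, 0, 0, -2, 0, -2, 0, 2, 0, 0]
    [2, 2, 2, -2, 0, -2, 0, 0, 0, 0, 0, 0, 0, 0, -2, 0, 0, -2, 0, 0, 0, 0, 0, 2]
    [2, 2, 2, 2, 0, 2, 0, 0, 0, 0, 0, 0, 0, 0, 2, 0, 0, 2, 0, 0, 0, 0, 0, 2]
    _ (by decide) (by decide) (by decide) (by decide) (by decide) (by decide)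

theorem g2map_a1 : g2map (vC (some 1) ∅) = vB (cw 1059) ∅ := by
  have e : vC (some 1) ∅
      = ofList [1, -3, 1, 1, 1, 1, 1, 1, 1, 1, 1, 1, 1, 1, 1, 1, 1, 1, 1, 1, 1, 1, 1, 1] := by
    decide
  have e' : vB (cw 1059) ∅ = ofList [2, 2, 0, 0, 0, 2, 0, 0, 0, 0, 2, 0, 2, 0, 0, 0, 2, 0, 0, 2, 0,
      0, 0, 2] := by
    decide
  rw [e, e']
  exact g2map_chain _
    [1, 1, 1, 1, 1, 1, 1, 1, -3, 1, 1, 1, 1, 1, 1, 1, 1, 1, 1, 1, 1, 1, 1, 1]
    [-3, 1, 1, 1, 1, 1, 1, 1, 1, 1, 1, 1, 1, 1, 1, 1, 1, 1, 1, 1, 1, 1, 1, 1]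
    [3, -1, -1, -1, -1, -1, -1, -1, -1, -1, -1, -1, -1, -1, -1, -1, -1, -1, -1, -1, -1, -1, -1, -1]
    [1, 1, 1, -1, -1, -1, -1, -1, -1, -1, -1, -1, -3, -1, -1, -1, -1, 1, -1, 1, 1, -1, 1, -1]
    [0, 0, 0, 0, 0, 0, 0, 0, 2, 0, 0, 2, 0, 0, 0, 0, 0, 2, 2, 2, 2, 0, 2, 2]
    _ (by decide) (by decide) (by decide) (by decide) (by decide) (by decide)

end Cfsg.Agent.helper27
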