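import Mathlib
import Cfsg.Agent.Lib_helper27_HS3

set_option autoImplicit false

namespace Cfsg.Agent.helper27

open Cfsg
open scoped Pointwise

def hrefL : leechLattice := ⟨href, hs5_mem (hsA_subset href_hsA)⟩

/-- the fixed pair for the Higman–Sims configuration -/
def F3 : Set leechLattice := {u5L, hrefL}

theorem rorb3_g2map {x : GolayPt → ℤ} (hx : x ∈ leechLattice) : ROrb F3 x (g2map x) := by
  apply ROrb.of_map isCoMap_g2map _ hx
  intro w hw
  rcases hw with rfl | rfl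
  · exact g2map_u5
  · exact g2map_href

theorem rorb3_m22 {σ : Equiv.Perm GolayPt} (hσ : σ ∈ M24) (h1 : σ none = none)
    (h2 : σ (some 0) = some 0) {x : GolayPt → ℤ} (hx : x ∈ leechLattice) :
    ROrb F3 x (signedPerm σ ∅ x) := by
  apply ROrb.of_map (IsCoMap.mono hσ empty_mem_GS) _ hx
  intro w hw
  rcases hw with rfl | rfl
  · exact signedPerm_u5 h1
  · show signedPerm σ ∅ (pair4 none (some 0) (-4) 4) = pair4 none (some 0) (-4) 4
    rw [signedPerm_pair4, h1, h2]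

theorem cw149_oct2 : cw 149 ∈ oct2 := by
  refine ⟨⟨cw_mem_GS (by norm_num), ?_⟩, ?_, ?_⟩
  · rw [cw_card]; decide
  · rw [mem_cw_iff]; decide
  · rw [mem_cw_iff]; decide

theorem cw1059_oct2 : cw 1059 ∈ oct2 := by
  refine ⟨⟨cw_mem_GS (by norm_num), ?_⟩, ?_, ?_⟩
  · rw [cw_card]; decide
  · rw [mem_cw_iff]; decide
  · rw [mem_cw_iff]; decide

theorem hs100_mem {x : GolayPt → ℤ} (hx : x ∈ hs100) : x ∈ leechLattice := hx.1.1

theorem mclB_hs100 {x : GolayPt → ℤ} (hx : x ∈ mclB) : x ∈ hs100 := by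
  rw [hs100_eq]; exact Or.inl (Or.inr hx)

theorem hsA'_hs100 {x : GolayPt → ℤ} (hx : x ∈ hsA') : x ∈ hs100 := by
  rw [hs100_eq]; exact Or.inr hx

theorem rorb3_mclB {x : GolayPt → ℤ} (hx : x ∈ mclB) : ROrb F3 x a0 := by
  have hxL := hs100_mem (mclB_hs100 hx)
  obtain ⟨o, ⟨ho, hn, h0⟩, rfl⟩ := hx
  obtain ⟨ho', hn', h0'⟩ := cw149_oct2
  obtain ⟨σ, hσ, h1, h2⟩ := exists_M24_octad_emb (k := 2) (by norm_num) ho ho'
    (emb2 (a := none) (b := some 0) (by decide)) (emb2 (a := none) (b := some 0) (by decide))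
    (emb2_mem _ hn h0) (emb2_mem _ hn' h0')
  have e1 : σ none = none := h2 0
  have e2 : σ (some 0) = some 0 := h2 1
  have s1 := rorb3_m22 hσ e1 e2 hxL
  beta_reduce at s1
  rw [signedPerm_vB, h1, Finset.smul_finset_empty] at s1
  have s2 := rorb3_g2map a0_mem
  rw [g2map_a0] at s2
  exact s1.trans s2.symm

theorem rorb3_hsA' {x : GolayPt → ℤ} (hx : x ∈ hsA') : ROrb F3 x a0 := by
  have hxL := hs100_mem (hsA'_hs100 hx)
  obtain ⟨j, ⟨hj, hj0⟩, rfl⟩ := hx
  obtain ⟨σ, hσ, h1, h2, h3⟩ := exists_M24_three (a := none) (b := some 0) (c := j) (a' := none)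
    (b' := some 0) (c' := some 1) (by decide) (fun h => hj h.symm) (fun h => hj0 h.symm)
    (by decide) (by decide) (by decide)
  have s1 := rorb3_m22 hσ h1 h2 hxL
  beta_reduce at s1
  rw [signedPerm_vC, h3, Finset.smul_finset_empty] at s1
  have s2 := rorb3_g2map s1.2.1
  rw [g2map_a1] at s2
  exact (s1.trans s2).trans (rorb3_mclB ⟨cw 1059, cw1059_oct2, rfl⟩)

theorem rorb3_hs100 {x : GolayPt → ℤ} (hx : x ∈ hs100) : ROrb F3 x a0 := by
  have hxL := hs100_mem hx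
  rw [hs100_eq] at hx
  rcases hx with (hx | hx) | hx
  · rw [Set.mem_singleton_iff.mp hx]
    exact ⟨a0_mem, a0_mem, FixOrb.refl _ _⟩
  · exact rorb3_mclB hx
  · exact rorb3_hsA' hx

/-- the configuration attached to `v` and the minimal vector `m` -/
def hsT (v m : leechLattice) : Set leechLattice :=
  {x | sqNorm x.1 = 32 ∧ dotInt v.1 x.1 = 24 ∧ dotInt m.1 x.1 = 0}

theorem hsT_smul (g : Co0) (v m x : leechLattice) :
    g • x ∈ hsT (g • v) (g • m) ↔ x ∈ hsT v m := by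
  unfold hsT
  simp only [Set.mem_ofPred_eq, co0_sqNorm, co0_smul_dot]

theorem hsT_std (x : leechLattice) : x ∈ hsT u5L hrefL ↔ x.1 ∈ hs100 :=
  ⟨fun h => ⟨⟨x.2, h.1, h.2.1⟩, h.2.2⟩, fun h => ⟨h.1.2.1, h.1.2.2, h.2⟩⟩

theorem hsT_std_ncard : (hsT u5L hrefL).ncard = 100 := by
  rw [← hs100_ncard, ← Set.ncard_image_of_injective _ Subtype.val_injective]
  congr 1
  ext x
  constructor
  · rintro ⟨v, hv, rfl⟩
    exact (hsT_std v).mp hv
  · intro hx
    exact ⟨⟨x, hs100_mem hx⟩, (hsT_std _).mpr hx, rfl⟩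

theorem co0_smul_zero (g : Co0) : g • (0 : leechLattice) = 0 := by
  have := co0_smul_add g 0 0
  rw [add_zero] at this
  exact left_eq_add.mp this

theorem co0_smul_neg (g : Co0) (a : leechLattice) : g • (-a) = -(g • a) := by
  have h0 := co0_smul_add g (-a) a
  rw [neg_add_cancel, co0_smul_zero] at h0
  exact eq_neg_of_add_eq_zero_left h0.symm

/-- statement of `S1583` -/
theorem hs_configuration (v w : leechLattice) (hv : sqNorm (v : GolayPt → ℤ) = 48)
    (hw : sqNorm (w : GolayPt → ℤ) = 48)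
    (hvw : dotInt (v : GolayPt → ℤ) (w : GolayPt → ℤ) = -32) :
    {x : leechLattice | sqNorm (x : GolayPt → ℤ) = 32 ∧
      dotInt (v : GolayPt → ℤ) (x : GolayPt → ℤ) = 24 ∧
      dotInt (w : GolayPt → ℤ) (x : GolayPt → ℤ) = -24}.ncard = 100 ∧
    ∀ x ∈ {x : leechLattice | sqNorm (x : GolayPt → ℤ) = 32 ∧
      dotInt (v : GolayPt → ℤ) (x : GolayPt → ℤ) = 24 ∧
      dotInt (w : GolayPt → ℤ) (x : GolayPt → ℤ) = -24},
    ∀ x' ∈ {x : leechLattice | sqNorm (x : GolayPt → ℤ) = 32 ∧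
      dotInt (v : GolayPt → ℤ) (x : GolayPt → ℤ) = 24 ∧
      dotInt (w : GolayPt → ℤ) (x : GolayPt → ℤ) = -24},
    ∃ g : Co0, g • v = v ∧ g • w = w ∧ g • x = x' := by
  -- the minimal vector `m = -(v + w)`
  have hm : -(v + w) ∈ hsSet v := by
    constructor
    · show sqNorm (-(v.1 + w.1)) = 32
      rw [sqNorm_neg, sqNorm_add, hv, hw, hvw]
      rfl
    · show dotInt v.1 (-(v.1 + w.1)) = -16
      rw [dotInt_neg_right', dotInt_add_right, dotInt_self, hv, hvw]
      rfl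
  have hST : {x : leechLattice | sqNorm (x : GolayPt → ℤ) = 32 ∧
      dotInt (v : GolayPt → ℤ) (x : GolayPt → ℤ) = 24 ∧
      dotInt (w : GolayPt → ℤ) (x : GolayPt → ℤ) = -24} = hsT v (-(v + w)) := by
    ext x
    have e : dotInt (-(v + w) : leechLattice).1 x.1 = -(dotInt v.1 x.1 + dotInt w.1 x.1) := by
      show dotInt (-(v.1 + w.1)) x.1 = _
      rw [dotInt_neg_left', dotInt_add_left']
    constructor
    · rintro ⟨h1, h2, h3⟩
      refine ⟨h1, h2, ?_⟩
      rw [e, h2, h3]; rfl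
    · rintro ⟨h1, h2, h3⟩
      refine ⟨h1, h2, ?_⟩
      rw [e, h2] at h3
      omega
  rw [hST]
  have h48 : sqNorm u5L.1 = 48 := by decide
  obtain ⟨g1, hg1⟩ := co0_transitive_48 v u5L hv h48
  have hm1 : g1 • -(v + w) ∈ hsSet u5L := by
    rw [← hg1, hsSet_smul]; exact hm
  have hrefS : hrefL ∈ hsSet u5L := (hsSet_std _).mpr (hsA_subset href_hsA)
  obtain ⟨g2, hg2, hg3⟩ := hsSet_transitive u5L h48 _ _ hm1 hrefS
  have hgv : (g2 * g1) • v = u5L := by rw [mul_smul, hg1, hg2]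
  have hgm : (g2 * g1) • -(v + w) = hrefL := by rw [mul_smul, hg3]
  generalize g2 * g1 = g0 at hgv hgm
  have hS : hsT v (-(v + w)) = (fun x => g0⁻¹ • x) '' hsT u5L hrefL := by
    ext x
    constructor
    · intro hx
      refine ⟨g0 • x, ?_, inv_smul_smul g0 x⟩
      rw [← hgv, ← hgm, hsT_smul]
      exact hx
    · rintro ⟨y, hy, rfl⟩
      rw [← hsT_smul g0, smul_inv_smul, hgv, hgm]
      exact hy
  refine ⟨?_, ?_⟩
  · rw [hS, Set.ncard_image_of_injective _ (MulAction.injective g0⁻¹), hsT_std_ncard]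
  · intro x hx x' hx'
    have hx1 : g0 • x ∈ hsT u5L hrefL := by
      rw [← hgv, ← hgm, hsT_smul]; exact hx
    have hx2 : g0 • x' ∈ hsT u5L hrefL := by
      rw [← hgv, ← hgm, hsT_smul]; exact hx'
    have s1 := (rorb3_hs100 ((hsT_std _).mp hx1)).trans (rorb3_hs100 ((hsT_std _).mp hx2)).symm
    have s3 : FixOrb ({v, -(v + w)} : Set leechLattice) x x' := by
      apply FixOrb.transport g0 (F' := F3) _ s1.fixOrb
      intro z hz
      rcases hz with rfl | rfl
      · rw [hgv]; exact Or.inl rfl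
      · rw [hgm]; exact Or.inr rfl
    obtain ⟨g, hg, hgx⟩ := s3
    have e1 : g • v = v := hg v (Or.inl rfl)
    have e2 : g • -(v + w) = -(v + w) := hg _ (Or.inr rfl)
    refine ⟨g, e1, ?_, hgx⟩
    rw [co0_smul_neg, co0_smul_add, e1] at e2
    have e3 := neg_injective e2
    exact add_left_cancel e3

end Cfsg.Agent.helper27
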