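import Mathlib
import Cfsg.Agent.Lib_helper27_HS4

set_option autoImplicit false

namespace Cfsg.Agent.helper27

open Cfsg
open scoped Pointwise

/-- the fixed triple for the rank 3 action -/
def F4 : Set leechLattice := {u5L, hrefL, a0L}

theorem rorb4_m22 {σ : Equiv.Perm GolayPt} (hσ : σ ∈ M24) (h1 : σ none = none)
    (h2 : σ (some 0) = some 0) {x : GolayPt → ℤ} (hx : x ∈ leechLattice) :
    ROrb F4 x (signedPerm σ ∅ x) := by
  apply ROrb.of_map (IsCoMap.mono hσ empty_mem_GS) _ hx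
  intro w hw
  rcases hw with rfl | rfl | rfl
  · exact signedPerm_u5 h1
  · show signedPerm σ ∅ (pair4 none (some 0) (-4) 4) = pair4 none (some 0) (-4) 4
    rw [signedPerm_pair4, h1, h2]
  · show signedPerm σ ∅ (pair4 none (some 0) 4 4) = pair4 none (some 0) 4 4
    rw [signedPerm_pair4, h1, h2]

theorem rorb4_mclB {x x' : GolayPt → ℤ} (hx : x ∈ mclB) (hx' : x' ∈ mclB) : ROrb F4 x x' := by
  have hxL := hs100_mem (mclB_hs100 hx)
  obtain ⟨o, ⟨ho, hn, h0⟩, rfl⟩ := hx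
  obtain ⟨o', ⟨ho', hn', h0'⟩, rfl⟩ := hx'
  obtain ⟨σ, hσ, h1, h2⟩ := exists_M24_octad_emb (k := 2) (by norm_num) ho ho'
    (emb2 (a := none) (b := some 0) (by decide)) (emb2 (a := none) (b := some 0) (by decide))
    (emb2_mem _ hn h0) (emb2_mem _ hn' h0')
  have e1 : σ none = none := h2 0
  have e2 : σ (some 0) = some 0 := h2 1
  have s1 := rorb4_m22 hσ e1 e2 hxL
  beta_reduce at s1
  rw [signedPerm_vB, h1, Finset.smul_finset_empty] at s1
  exact s1

theorem rorb4_hsA' {x x' : GolayPt → ℤ} (hx : x ∈ hsA') (hx' : x' ∈ hsA') : ROrb F4 x x' := by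
  have hxL := hs100_mem (hsA'_hs100 hx)
  obtain ⟨j, ⟨hj, hj0⟩, rfl⟩ := hx
  obtain ⟨j', ⟨hj', hj0'⟩, rfl⟩ := hx'
  obtain ⟨σ, hσ, h1, h2, h3⟩ := exists_M24_three (a := none) (b := some 0) (c := j) (a' := none)
    (b' := some 0) (c' := j') (by decide) (fun h => hj h.symm) (fun h => hj0 h.symm)
    (by decide) (fun h => hj' h.symm) (fun h => hj0' h.symm)
  have s1 := rorb4_m22 hσ h1 h2 hxL
  beta_reduce at s1
  rw [signedPerm_vC, h3, Finset.smul_finset_empty] at s1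
  exact s1

theorem dot_a0_mclB {x : GolayPt → ℤ} (hx : x ∈ mclB) : dotInt a0 x = 16 := by
  obtain ⟨o, ⟨ho, hn, h0⟩, rfl⟩ := hx
  rw [dotInt_a0]
  simp only [vB, Finset.notMem_empty, if_false, hn, h0, if_true]
  rfl

theorem dot_a0_hsA' {x : GolayPt → ℤ} (hx : x ∈ hsA') : dotInt a0 x = 8 := by
  obtain ⟨j, ⟨hj, hj0⟩, rfl⟩ := hx
  rw [dotInt_a0]
  have h1 : (none : GolayPt) ≠ j := fun h => hj h.symm
  have h2 : (some (0 : ZMod 23) : GolayPt) ≠ j := fun h => hj0 h.symm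
  simp only [vC, Finset.notMem_empty, if_false, h1, h2]
  rfl

theorem dot_a0_a0 : dotInt a0 a0 = 32 := by decide

/-- the neighbours of `x` in the configuration -/
def hsQ (v m x : leechLattice) : Set leechLattice :=
  {y | y ∈ hsT v m ∧ dotInt x.1 y.1 = 8}

/-- the non-neighbours of `x` in the configuration -/
def hsR (v m x : leechLattice) : Set leechLattice :=
  {y | y ∈ hsT v m ∧ y ≠ x ∧ dotInt x.1 y.1 ≠ 8}

theorem hsQ_smul (g : Co0) (v m x y : leechLattice) :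
    g • y ∈ hsQ (g • v) (g • m) (g • x) ↔ y ∈ hsQ v m x := by
  unfold hsQ
  simp only [Set.mem_ofPred_eq, hsT_smul, co0_smul_dot]

theorem hsR_smul (g : Co0) (v m x y : leechLattice) :
    g • y ∈ hsR (g • v) (g • m) (g • x) ↔ y ∈ hsR v m x := by
  unfold hsR
  simp only [Set.mem_ofPred_eq, hsT_smul, co0_smul_dot, ne_eq, smul_left_cancel_iff]

theorem hsQ_std (y : leechLattice) : y ∈ hsQ u5L hrefL a0L ↔ y.1 ∈ hsA' := by
  constructor
  · rintro ⟨h1, h2⟩
    have h3 := (hsT_std y).mp h1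
    rw [hs100_eq] at h3
    rcases h3 with (h3 | h3) | h3
    · exfalso
      rw [Set.mem_singleton_iff.mp h3] at h2
      have : dotInt a0 a0 = 8 := h2
      rw [dot_a0_a0] at this
      omega
    · exfalso
      have : dotInt a0 y.1 = 8 := h2
      rw [dot_a0_mclB h3] at this
      omega
    · exact h3
  · intro h
    exact ⟨(hsT_std y).mpr (hsA'_hs100 h), dot_a0_hsA' h⟩

theorem hsR_std (y : leechLattice) : y ∈ hsR u5L hrefL a0L ↔ y.1 ∈ mclB := by
  constructor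
  · rintro ⟨h1, h2, h4⟩
    have h3 := (hsT_std y).mp h1
    rw [hs100_eq] at h3
    rcases h3 with (h3 | h3) | h3
    · exfalso
      exact h2 (Subtype.ext (Set.mem_singleton_iff.mp h3))
    · exact h3
    · exfalso
      exact h4 (dot_a0_hsA' h3)
  · intro h
    refine ⟨(hsT_std y).mpr (mclB_hs100 h), ?_, ?_⟩
    · rintro rfl
      have := dot_a0_mclB h
      have e : dotInt a0 a0 = 16 := this
      rw [dot_a0_a0] at e
      omega
    · intro h8
      have e : dotInt a0 y.1 = 8 := h8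
      rw [dot_a0_mclB h] at e
      omega

theorem hsQ_std_ncard : (hsQ u5L hrefL a0L).ncard = 22 := by
  rw [← hsA'_ncard, ← Set.ncard_image_of_injective _ Subtype.val_injective]
  congr 1
  ext x
  constructor
  · rintro ⟨v, hv, rfl⟩
    exact (hsQ_std v).mp hv
  · intro hx
    exact ⟨⟨x, hs100_mem (hsA'_hs100 hx)⟩, (hsQ_std _).mpr hx, rfl⟩

theorem hsR_std_ncard : (hsR u5L hrefL a0L).ncard = 77 := by
  rw [← mclB_ncard, ← Set.ncard_image_of_injective _ Subtype.val_injective]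
  congr 1
  ext x
  constructor
  · rintro ⟨v, hv, rfl⟩
    exact (hsR_std v).mp hv
  · intro hx
    exact ⟨⟨x, hs100_mem (mclB_hs100 hx)⟩, (hsR_std _).mpr hx, rfl⟩

theorem hsT_eq (v w : leechLattice) :
    {x : leechLattice | sqNorm (x : GolayPt → ℤ) = 32 ∧
      dotInt (v : GolayPt → ℤ) (x : GolayPt → ℤ) = 24 ∧
      dotInt (w : GolayPt → ℤ) (x : GolayPt → ℤ) = -24} = hsT v (-(v + w)) := by
  ext x
  have e : dotInt (-(v + w) : leechLattice).1 x.1 = -(dotInt v.1 x.1 + dotInt w.1 x.1) := by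
    show dotInt (-(v.1 + w.1)) x.1 = _
    rw [dotInt_neg_left', dotInt_add_left']
  constructor
  · rintro ⟨h1, h2, h3⟩
    refine ⟨h1, h2, ?_⟩
    rw [e, h2, h3]; rfl
  · rintro ⟨h1, h2, h3⟩
    refine ⟨h1, h2, ?_⟩
    rw [e, h2] at h3
    omega

theorem hs_frame (v w : leechLattice) (hv : sqNorm (v : GolayPt → ℤ) = 48)
    (hw : sqNorm (w : GolayPt → ℤ) = 48)
    (hvw : dotInt (v : GolayPt → ℤ) (w : GolayPt → ℤ) = -32) :
    ∃ g0 : Co0, g0 • v = u5L ∧ g0 • -(v + w) = hrefL := by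
  have hm : -(v + w) ∈ hsSet v := by
    constructor
    · show sqNorm (-(v.1 + w.1)) = 32
      rw [sqNorm_neg, sqNorm_add, hv, hw, hvw]
      rfl
    · show dotInt v.1 (-(v.1 + w.1)) = -16
      rw [dotInt_neg_right', dotInt_add_right, dotInt_self, hv, hvw]
      rfl
  have h48 : sqNorm u5L.1 = 48 := by decide
  obtain ⟨g1, hg1⟩ := co0_transitive_48 v u5L hv h48
  have hm1 : g1 • -(v + w) ∈ hsSet u5L := by
    rw [← hg1, hsSet_smul]; exact hm
  have hrefS : hrefL ∈ hsSet u5L := (hsSet_std _).mpr (hsA_subset href_hsA)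
  obtain ⟨g2, hg2, hg3⟩ := hsSet_transitive u5L h48 _ _ hm1 hrefS
  exact ⟨g2 * g1, by rw [mul_smul, hg1, hg2], by rw [mul_smul, hg3]⟩

theorem hs_frame3 (v w x : leechLattice) (hv : sqNorm (v : GolayPt → ℤ) = 48)
    (hw : sqNorm (w : GolayPt → ℤ) = 48)
    (hvw : dotInt (v : GolayPt → ℤ) (w : GolayPt → ℤ) = -32) (hx : x ∈ hsT v (-(v + w))) :
    ∃ g0 : Co0, g0 • v = u5L ∧ g0 • -(v + w) = hrefL ∧ g0 • x = a0L := by
  obtain ⟨g1, hg1, hg2⟩ := hs_frame v w hv hw hvw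
  have hx1 : g1 • x ∈ hsT u5L hrefL := by
    rw [← hg1, ← hg2, hsT_smul]; exact hx
  obtain ⟨g2, hg, hgx⟩ := (rorb3_hs100 ((hsT_std _).mp hx1)).fixOrb (y := a0L)
  refine ⟨g2 * g1, ?_, ?_, ?_⟩
  · rw [mul_smul, hg1]; exact hg _ (Or.inl rfl)
  · rw [mul_smul, hg2]; exact hg _ (Or.inr rfl)
  · rw [mul_smul, hgx]

/-- statement of `S1584` -/
theorem hs_rank3 (v w x : leechLattice) (hv : sqNorm (v : GolayPt → ℤ) = 48)
    (hw : sqNorm (w : GolayPt → ℤ) = 48)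
    (hvw : dotInt (v : GolayPt → ℤ) (w : GolayPt → ℤ) = -32)
    (hx : x ∈ {x : leechLattice | sqNorm (x : GolayPt → ℤ) = 32 ∧
      dotInt (v : GolayPt → ℤ) (x : GolayPt → ℤ) = 24 ∧
      dotInt (w : GolayPt → ℤ) (x : GolayPt → ℤ) = -24}) :
    {y : leechLattice | y ∈ {x : leechLattice | sqNorm (x : GolayPt → ℤ) = 32 ∧
      dotInt (v : GolayPt → ℤ) (x : GolayPt → ℤ) = 24 ∧
      dotInt (w : GolayPt → ℤ) (x : GolayPt → ℤ) = -24} ∧
      dotInt (x : GolayPt → ℤ) (y : GolayPt → ℤ) = 8}.ncard = 22 ∧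
    {y : leechLattice | y ∈ {x : leechLattice | sqNorm (x : GolayPt → ℤ) = 32 ∧
      dotInt (v : GolayPt → ℤ) (x : GolayPt → ℤ) = 24 ∧
      dotInt (w : GolayPt → ℤ) (x : GolayPt → ℤ) = -24} ∧ y ≠ x ∧
      dotInt (x : GolayPt → ℤ) (y : GolayPt → ℤ) ≠ 8}.ncard = 77 ∧
    ∀ y ∈ {x : leechLattice | sqNorm (x : GolayPt → ℤ) = 32 ∧
      dotInt (v : GolayPt → ℤ) (x : GolayPt → ℤ) = 24 ∧
      dotInt (w : GolayPt → ℤ) (x : GolayPt → ℤ) = -24},
    ∀ y' ∈ {x : leechLattice | sqNorm (x : GolayPt → ℤ) = 32 ∧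
      dotInt (v : GolayPt → ℤ) (x : GolayPt → ℤ) = 24 ∧
      dotInt (w : GolayPt → ℤ) (x : GolayPt → ℤ) = -24},
    y ≠ x → y' ≠ x →
    (dotInt (x : GolayPt → ℤ) (y : GolayPt → ℤ) = 8 ↔
      dotInt (x : GolayPt → ℤ) (y' : GolayPt → ℤ) = 8) →
    ∃ g : Co0, g • v = v ∧ g • w = w ∧ g • x = x ∧ g • y = y' := by
  rw [hsT_eq] at hx ⊢
  obtain ⟨g0, hgv, hgm, hgx⟩ := hs_frame3 v w x hv hw hvw hx
  have hQ : hsQ v (-(v + w)) x = (fun y => g0⁻¹ • y) '' hsQ u5L hrefL a0L := by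
    ext y
    constructor
    · intro hy
      refine ⟨g0 • y, ?_, inv_smul_smul g0 y⟩
      rw [← hgv, ← hgm, ← hgx, hsQ_smul]
      exact hy
    · rintro ⟨z, hz, rfl⟩
      rw [← hsQ_smul g0, smul_inv_smul, hgv, hgm, hgx]
      exact hz
  have hR : hsR v (-(v + w)) x = (fun y => g0⁻¹ • y) '' hsR u5L hrefL a0L := by
    ext y
    constructor
    · intro hy
      refine ⟨g0 • y, ?_, inv_smul_smul g0 y⟩
      rw [← hgv, ← hgm, ← hgx, hsR_smul]
      exact hy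
    · rintro ⟨z, hz, rfl⟩
      rw [← hsR_smul g0, smul_inv_smul, hgv, hgm, hgx]
      exact hz
  refine ⟨?_, ?_, ?_⟩
  · show (hsQ v (-(v + w)) x).ncard = 22
    rw [hQ, Set.ncard_image_of_injective _ (MulAction.injective g0⁻¹), hsQ_std_ncard]
  · show (hsR v (-(v + w)) x).ncard = 77
    rw [hR, Set.ncard_image_of_injective _ (MulAction.injective g0⁻¹), hsR_std_ncard]
  · intro y hy y' hy' hyx hyx' hiff
    have key : ROrb F4 (g0 • y).1 (g0 • y').1 := by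
      by_cases h8 : dotInt x.1 y.1 = 8
      · have h8' := hiff.mp h8
        have q1 : g0 • y ∈ hsQ u5L hrefL a0L := by
          rw [← hgv, ← hgm, ← hgx, hsQ_smul]; exact ⟨hy, h8⟩
        have q2 : g0 • y' ∈ hsQ u5L hrefL a0L := by
          rw [← hgv, ← hgm, ← hgx, hsQ_smul]; exact ⟨hy', h8'⟩
        exact rorb4_hsA' ((hsQ_std _).mp q1) ((hsQ_std _).mp q2)
      · have h8' : ¬ dotInt x.1 y'.1 = 8 := fun h => h8 (hiff.mpr h)
        have q1 : g0 • y ∈ hsR u5L hrefL a0L := by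
          rw [← hgv, ← hgm, ← hgx, hsR_smul]; exact ⟨hy, hyx, h8⟩
        have q2 : g0 • y' ∈ hsR u5L hrefL a0L := by
          rw [← hgv, ← hgm, ← hgx, hsR_smul]; exact ⟨hy', hyx', h8'⟩
        exact rorb4_mclB ((hsR_std _).mp q1) ((hsR_std _).mp q2)
    have s3 : FixOrb ({v, -(v + w), x} : Set leechLattice) y y' := by
      apply FixOrb.transport g0 (F' := F4) _ key.fixOrb
      intro z hz
      rcases hz with rfl | rfl | rfl
      · rw [hgv]; exact Or.inl rfl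
      · rw [hgm]; exact Or.inr (Or.inl rfl)
      · rw [hgx]; exact Or.inr (Or.inr rfl)
    obtain ⟨g, hg, hgy⟩ := s3
    have e1 : g • v = v := hg v (Or.inl rfl)
    have e2 : g • -(v + w) = -(v + w) := hg _ (Or.inr (Or.inl rfl))
    have e3 : g • x = x := hg _ (Or.inr (Or.inr rfl))
    refine ⟨g, e1, ?_, e3, hgy⟩
    rw [co0_smul_neg, co0_smul_add, e1] at e2
    exact add_left_cancel (neg_injective e2)

end Cfsg.Agent.helper27
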