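import Mathlib
import Cfsg.Agent.Lib_helper27_HS5

set_option autoImplicit false

namespace Cfsg.Agent.helper27

open Cfsg
open scoped Pointwise

/-! ### a frame in which a sign change acts without fixed points -/

theorem twoOn_mem_of_dodecad {D : Finset GolayPt} (hD : D ∈ dodecads) :
    twoOn D ∈ leechLattice := by
  rw [mem_leechLattice_iff, mem_leechSet_iff]
  refine ⟨0, fun i => ?_, ?_, ?_⟩
  · unfold twoOn
    split_ifs <;> rfl
  · rw [sum_twoOn, hD.2]
    rfl
  · rw [zero_add, cls_two_twoOn]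
    exact hD.1

theorem hs_frame' (v m : leechLattice) (hv : sqNorm (v : GolayPt → ℤ) = 48)
    (hm : m ∈ hsSet v) : ∃ g0 : Co0, g0 • v = u5L ∧ g0 • m = hrefL := by
  have h48 : sqNorm u5L.1 = 48 := by decide
  obtain ⟨g1, hg1⟩ := co0_transitive_48 v u5L hv h48
  have hm1 : g1 • m ∈ hsSet u5L := by
    rw [← hg1, hsSet_smul]; exact hm
  have hrefS : hrefL ∈ hsSet u5L := (hsSet_std _).mpr (hsA_subset href_hsA)
  obtain ⟨g2, hg2, hg3⟩ := hsSet_transitive u5L h48 _ _ hm1 hrefS
  exact ⟨g2 * g1, by rw [mul_smul, hg1, hg2], by rw [mul_smul, hg3]⟩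

theorem neg_add_mem_hsSet (v w : leechLattice) (hv : sqNorm (v : GolayPt → ℤ) = 48)
    (hw : sqNorm (w : GolayPt → ℤ) = 48)
    (hvw : dotInt (v : GolayPt → ℤ) (w : GolayPt → ℤ) = -32) : -(v + w) ∈ hsSet v := by
  constructor
  · show sqNorm (-(v.1 + w.1)) = 32
    rw [sqNorm_neg, sqNorm_add, hv, hw, hvw]
    rfl
  · show dotInt v.1 (-(v.1 + w.1)) = -16
    rw [dotInt_neg_right', dotInt_add_right, dotInt_self, hv, hvw]
    rfl

/-- the sign change on the complement of a dodecad -/
def dodFlip {D : Finset GolayPt} (hD : D ∈ dodecads) : Co0 :=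
  ⟨monoPerm 1 (one_mem _) Dᶜ (compl_mem_supports hD.1), monoPerm_mem_Co0 _ _ _ _⟩

theorem dodFlip_val {D : Finset GolayPt} (hD : D ∈ dodecads) (x : leechLattice) :
    ((dodFlip hD • x : leechLattice) : GolayPt → ℤ) = fun i => if i ∈ Dᶜ then -x.1 i else x.1 i :=
  signedPerm_one _ _

theorem dodFlip_sq {D : Finset GolayPt} (hD : D ∈ dodecads) : dodFlip hD * dodFlip hD = 1 := by
  apply Subtype.ext
  apply Equiv.ext
  intro x
  apply Subtype.ext
  show ((dodFlip hD • (dodFlip hD • x) : leechLattice) : GolayPt → ℤ) = x.1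
  have h1 := dodFlip_val hD (dodFlip hD • x)
  rw [h1]
  funext i
  have h2 := congrFun (dodFlip_val hD x) i
  beta_reduce at h2 ⊢
  rw [h2]
  split_ifs <;> simp

theorem dodFlip_fix {D : Finset GolayPt} (hD : D ∈ dodecads) {x : leechLattice}
    (hx : ∀ i, i ∉ D → x.1 i = 0) : dodFlip hD • x = x := by
  apply Subtype.ext
  rw [dodFlip_val]
  funext i
  split_ifs with h
  · rw [hx i (Finset.mem_compl.mp h)]; rfl
  · rfl

theorem dodFlip_fixed {D : Finset GolayPt} (hD : D ∈ dodecads) {x : leechLattice}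
    (hx : dodFlip hD • x = x) : ∀ i, i ∉ D → x.1 i = 0 := by
  intro i hi
  have h := congrArg (fun y : leechLattice => y.1 i) hx
  beta_reduce at h
  rw [dodFlip_val] at h
  beta_reduce at h
  rw [if_pos (Finset.mem_compl.mpr hi)] at h
  omega

theorem dodFlip_ne_one {D : Finset GolayPt} (hD : D ∈ dodecads) : dodFlip hD ≠ 1 := by
  intro h
  have h1 : dodFlip hD • u5L = u5L := by rw [h, one_smul]
  have hne : Dᶜ.Nonempty := by
    rw [← Finset.card_pos, Finset.card_compl, hD.2]
    decide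
  obtain ⟨i, hi⟩ := hne
  have h2 := dodFlip_fixed hD h1 i (Finset.mem_compl.mp hi)
  have h3 : u5 i = 0 := h2
  rw [u5_apply] at h3
  split_ifs at h3 <;> omega

/-- no minimal vector supported on a dodecad has inner product 24 with `twoOn D` -/
theorem no_fixed_min {D : Finset GolayPt} (hD : D ∈ dodecads) {x : GolayPt → ℤ}
    (hx : x ∈ leechLattice) (hn : sqNorm x = 32) (hsupp : ∀ i, i ∉ D → x i = 0)
    (hd : dotInt (twoOn D) x = 24) : False := by
  have hne : Dᶜ.Nonempty := by
    rw [← Finset.card_pos, Finset.card_compl, hD.2]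
    decide
  obtain ⟨p, hp⟩ := hne
  have hp0 := hsupp p (Finset.mem_compl.mp hp)
  rcases min_cases hx hn with ⟨i, j, hij, a, b, ha, hb, rfl⟩ | ⟨o, ho, s, hs, _, rfl⟩ |
    ⟨j, b, hb, rfl⟩
  · unfold pair4 at hd
    rw [dotInt_add_right, dotInt_single_right, dotInt_single_right] at hd
    have h1 : twoOn D i = 2 ∨ twoOn D i = 0 := by unfold twoOn; split_ifs <;> simp
    have h2 : twoOn D j = 2 ∨ twoOn D j = 0 := by unfold twoOn; split_ifs <;> simp
    rcases ha with rfl | rfl <;> rcases hb with rfl | rfl <;> rcases h1 with h1 | h1 <;>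
      rcases h2 with h2 | h2 <;> rw [h1, h2] at hd <;> omega
  · have hsub : o ∩ Dᶜ = ∅ := by
      rw [Finset.eq_empty_iff_forall_notMem]
      intro i hi
      rw [Finset.mem_inter] at hi
      have h0 := hsupp i (Finset.mem_compl.mp hi.2)
      unfold vB at h0
      split_ifs at h0 with h1 h2
      all_goals first | omega | exact absurd hi.1 (by assumption)
    have ho' : o ∈ helper2.Golay.weightFinset 8 := by
      have := helper2.Golay.wordsOfWeight_eq 8
      have h2 : o ∈ wordsOfWeight (golayCode : Set (GolayPt → ZMod 2)) 8 := ho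
      rw [this] at h2
      exact Finset.mem_coe.mp h2
    have hD' : Dᶜ ∈ helper2.Golay.weightFinset 12 := by
      have := helper2.Golay.wordsOfWeight_eq 12
      have h2 : Dᶜ ∈ wordsOfWeight (golayCode : Set (GolayPt → ZMod 2)) 12 :=
        helper2.Golay.compl_mem_dodecads hD
      rw [this] at h2
      exact Finset.mem_coe.mp h2
    have h3 := helper2.Golay.octad_dodecad_inter ho' hD'
    rw [hsub, Finset.card_empty] at h3
    omega
  · unfold vC at hp0
    split_ifs at hp0 <;> omega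

theorem cw63_dodecad : cw 63 ∈ dodecads := cw63_dodOff.1

theorem some0_mem_cw63 : (some 0 : GolayPt) ∈ cw 63 := by rw [mem_cw_iff]; decide

theorem some1_mem_cw63 : (some 1 : GolayPt) ∈ cw 63 := by rw [mem_cw_iff]; decide

/-- the frame vector of shape `(2^12, 0^12)` -/
def dodV : leechLattice := ⟨twoOn (cw 63), twoOn_mem_of_dodecad cw63_dodecad⟩

/-- the minimal vector of the frame -/
def dodM : leechLattice := ⟨pair4 (some 0) (some 1) (-4) (-4),
  (mem_leechLattice_iff _).mpr (pair4_mem_leechSet _ _ (by norm_num) (by norm_num) (by norm_num))⟩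

theorem sqNorm_dodV : sqNorm dodV.1 = 48 := by
  show sqNorm (twoOn (cw 63)) = 48
  rw [sqNorm_twoOn, cw63_dodecad.2]
  rfl

theorem dodM_mem : dodM ∈ hsSet dodV := by
  constructor
  · show sqNorm (pair4 (some 0) (some 1) (-4) (-4)) = 32
    rw [sqNorm_pair4 (by decide)]
    norm_num
  · show dotInt (twoOn (cw 63)) (pair4 (some 0) (some 1) (-4) (-4)) = -16
    unfold pair4
    rw [dotInt_add_right, dotInt_single_right, dotInt_single_right]
    unfold twoOn
    rw [if_pos some0_mem_cw63, if_pos some1_mem_cw63]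
    rfl

theorem dodFlip_dodV : dodFlip cw63_dodecad • dodV = dodV :=
  dodFlip_fix _ (fun i hi => by
    show twoOn (cw 63) i = 0
    unfold twoOn
    rw [if_neg hi])

theorem dodFlip_dodM : dodFlip cw63_dodecad • dodM = dodM :=
  dodFlip_fix _ (fun i hi => by
    show pair4 (some 0) (some 1) (-4) (-4) i = 0
    apply pair4_apply_other
    · rintro rfl; exact hi some0_mem_cw63
    · rintro rfl; exact hi some1_mem_cw63)

theorem dodFlip_fpf (x : leechLattice) (hx : x ∈ hsT dodV dodM) :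
    dodFlip cw63_dodecad • x ≠ x := by
  intro h
  exact no_fixed_min cw63_dodecad x.2 hx.1 (dodFlip_fixed _ h) hx.2.1

/-- statement of `S1642` -/
theorem hs_fpf_involution (v w : leechLattice) (hv : sqNorm (v : GolayPt → ℤ) = 48)
    (hw : sqNorm (w : GolayPt → ℤ) = 48)
    (hvw : dotInt (v : GolayPt → ℤ) (w : GolayPt → ℤ) = -32) :
    ∃ g : Co0, g • v = v ∧ g • w = w ∧ orderOf g = 2 ∧
    ∀ x ∈ {x : leechLattice | sqNorm (x : GolayPt → ℤ) = 32 ∧
      dotInt (v : GolayPt → ℤ) (x : GolayPt → ℤ) = 24 ∧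
      dotInt (w : GolayPt → ℤ) (x : GolayPt → ℤ) = -24}, g • x ≠ x := by
  rw [hsT_eq]
  obtain ⟨g1, hg1, hg2⟩ := hs_frame' v (-(v + w)) hv (neg_add_mem_hsSet v w hv hw hvw)
  obtain ⟨g2, hg3, hg4⟩ := hs_frame' dodV dodM sqNorm_dodV dodM_mem
  have hgv : (g2⁻¹ * g1) • v = dodV := by rw [mul_smul, hg1, ← hg3, inv_smul_smul]
  have hgm : (g2⁻¹ * g1) • -(v + w) = dodM := by rw [mul_smul, hg2, ← hg4, inv_smul_smul]
  generalize g2⁻¹ * g1 = g0 at hgv hgm
  have e1 : (g0⁻¹ * dodFlip cw63_dodecad * g0) • v = v := by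
    rw [mul_smul, mul_smul, hgv, dodFlip_dodV, ← hgv, inv_smul_smul]
  have e2 : (g0⁻¹ * dodFlip cw63_dodecad * g0) • -(v + w) = -(v + w) := by
    rw [mul_smul, mul_smul, hgm, dodFlip_dodM, ← hgm, inv_smul_smul]
  refine ⟨g0⁻¹ * dodFlip cw63_dodecad * g0, e1, ?_, ?_, ?_⟩
  · rw [co0_smul_neg, co0_smul_add, e1] at e2
    exact add_left_cancel (neg_injective e2)
  · apply orderOf_eq_prime
    · rw [pow_two]
      have : g0⁻¹ * dodFlip cw63_dodecad * g0 * (g0⁻¹ * dodFlip cw63_dodecad * g0)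
          = g0⁻¹ * (dodFlip cw63_dodecad * dodFlip cw63_dodecad) * g0 := by group
      rw [this, dodFlip_sq]
      group
    · intro h1
      apply dodFlip_ne_one cw63_dodecad
      have : dodFlip cw63_dodecad = g0 * (g0⁻¹ * dodFlip cw63_dodecad * g0) * g0⁻¹ := by group
      rw [this, h1]
      group
  · intro x hx h
    have hx1 : g0 • x ∈ hsT dodV dodM := by
      rw [← hgv, ← hgm, hsT_smul]; exact hx
    apply dodFlip_fpf _ hx1
    have h2 := congrArg (fun y => g0 • y) h
    simp only [mul_smul, smul_inv_smul] at h2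
    exact h2

end Cfsg.Agent.helper27
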