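import Mathlib
import Cfsg.Agent.Lib_helper27_HS6

set_option autoImplicit false

namespace Cfsg.Agent.helper27

open Cfsg
open scoped Pointwise

/-! ### a minimal vector fixed by the extra automorphism -/

/-- the minimal vector `4 e_3 - 4 e_5` -/
def v35 : GolayPt → ℤ := pair4 (some 3) (some 5) 4 (-4)

theorem v35_mem : v35 ∈ leechLattice :=
  (mem_leechLattice_iff _).mpr (pair4_mem_leechSet _ _ (by norm_num) (by norm_num) (by norm_num))

def v35L : leechLattice := ⟨v35, v35_mem⟩

theorem sqNorm_v35 : sqNorm v35 = 32 := by decide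

theorem dotInt_v35 (x : GolayPt → ℤ) : dotInt v35 x = 4 * x (some 3) + -4 * x (some 5) := by
  unfold v35 pair4
  rw [dotInt_add_left', dotInt_single_left, dotInt_single_left]

/-- the fixed vector -/
def Fv : Set leechLattice := {v35L}

theorem xiFun_v35 : xiFun v35 = v35 := by
  have e : v35 = ofList [0, 0, 0, 4, 0, -4, 0, 0, 0, 0, 0, 0, 0, 0, 0, 0, 0, 0, 0, 0, 0, 0, 0, 0] := by
    decide
  rw [e]
  decide

theorem rorbv_xi {x : GolayPt → ℤ} (hx : x ∈ leechLattice) : ROrb Fv x (xiFun x) := by
  apply ROrb.of_map IsCoMap.xi _ hx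
  intro w hw
  rw [Set.mem_singleton_iff.mp hw]
  exact xiFun_v35

theorem rorbv_m22 {σ : Equiv.Perm GolayPt} (hσ : σ ∈ M24) (h3 : σ (some 3) = some 3)
    (h5 : σ (some 5) = some 5) {x : GolayPt → ℤ} (hx : x ∈ leechLattice) :
    ROrb Fv x (signedPerm σ ∅ x) := by
  apply ROrb.of_map (IsCoMap.mono hσ empty_mem_GS) _ hx
  intro w hw
  rw [Set.mem_singleton_iff.mp hw]
  show signedPerm σ ∅ (pair4 (some 3) (some 5) 4 (-4)) = pair4 (some 3) (some 5) 4 (-4)
  rw [signedPerm_pair4, h3, h5]

theorem rorbv_sign {c : Finset GolayPt} (hc : c ∈ GS) (h3 : some 3 ∉ c) (h5 : some 5 ∉ c)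
    {x : GolayPt → ℤ} (hx : x ∈ leechLattice) : ROrb Fv x (signedPerm 1 c x) := by
  apply ROrb.of_map (IsCoMap.mono (one_mem _) hc) _ hx
  intro w hw
  rw [Set.mem_singleton_iff.mp hw]
  show signedPerm 1 c v35 = v35
  rw [signedPerm_one]
  funext i
  by_cases hi : i ∈ c
  · rw [if_pos hi]
    have h1 : i ≠ some 3 := fun h => h3 (h ▸ hi)
    have h2 : i ≠ some 5 := fun h => h5 (h ▸ hi)
    unfold v35
    rw [pair4_apply_other h1 h2]
    rfl
  · rw [if_neg hi]

/-! ### the classes -/

def cA3 (β : ℤ) : Set (GolayPt → ℤ) :=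
  (fun j => pair4 (some 3) j (-4) β) '' {j | j ≠ some 3 ∧ j ≠ some 5}

def cA5 (β : ℤ) : Set (GolayPt → ℤ) :=
  (fun j => pair4 (some 5) j 4 β) '' {j | j ≠ some 3 ∧ j ≠ some 5}

def cB (n : ℕ) : Set (GolayPt → ℤ) :=
  {x | ∃ o ∈ octads, ∃ s : Finset GolayPt, s ⊆ o ∧ some 3 ∈ s ∧ some 5 ∈ o ∧ some 5 ∉ s ∧
    s.card = n ∧ x = vB o s}

def cC3 : Set (GolayPt → ℤ) :=
  {x | ∃ b ∈ GS, some 3 ∉ b ∧ some 5 ∉ b ∧ x = vC (some 3) b}

def cC5 : Set (GolayPt → ℤ) :=
  {x | ∃ b ∈ GS, some 3 ∈ b ∧ some 5 ∈ b ∧ x = vC (some 5) b}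

theorem pair4_apply (i j : GolayPt) (a b : ℤ) (k : GolayPt) :
    pair4 i j a b k = (if k = i then a else 0) + (if k = j then b else 0) := by
  unfold pair4
  simp only [Pi.add_apply, Pi.single_apply]

theorem classes_cover {x : GolayPt → ℤ} (hx : x ∈ leechLattice) (hn : sqNorm x = 32)
    (hd : dotInt v35 x = -16) :
    x ∈ cA3 4 ∨ x ∈ cA3 (-4) ∨ x ∈ cA5 4 ∨ x ∈ cA5 (-4) ∨ x ∈ cB 2 ∨ x ∈ cB 4 ∨ x ∈ cB 6 ∨
      x ∈ cC3 ∨ x ∈ cC5 := by
  rw [dotInt_v35] at hd
  rcases min_cases hx hn with ⟨i, j, hij, a, b, ha, hb, rfl⟩ | ⟨o, ho, s, hs, hev, rfl⟩ |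
    ⟨j, b, hb, rfl⟩
  · rw [pair4_apply, pair4_apply] at hd
    have h35 : (some 3 : GolayPt) ≠ some 5 := by decide
    by_cases hi3 : i = some 3
    · subst hi3
      have hj3 : j ≠ some 3 := fun h => hij h.symm
      have hj5 : j ≠ some 5 := by
        rintro rfl
        simp only [if_true, if_neg h35, if_neg h35.symm] at hd
        rcases ha with rfl | rfl <;> rcases hb with rfl | rfl <;> omega
      have ha4 : a = -4 := by
        simp only [if_true, if_neg hj3.symm, if_neg h35.symm, if_neg hj5.symm] at hd
        omega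
      subst ha4
      rcases hb with rfl | rfl
      · left; exact ⟨j, ⟨hj3, hj5⟩, rfl⟩
      · right; left; exact ⟨j, ⟨hj3, hj5⟩, rfl⟩
    · by_cases hj3 : j = some 3
      · subst hj3
        have hi5 : i ≠ some 5 := by
          rintro rfl
          simp only [if_true, if_neg h35, if_neg h35.symm] at hd
          rcases ha with rfl | rfl <;> rcases hb with rfl | rfl <;> omega
        have hb4 : b = -4 := by
          simp only [if_true, if_neg (Ne.symm hi3), if_neg h35.symm, if_neg hi5.symm] at hd
          omega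
        subst hb4
        rw [pair4_comm]
        rcases ha with rfl | rfl
        · left; exact ⟨i, ⟨hi3, hi5⟩, rfl⟩
        · right; left; exact ⟨i, ⟨hi3, hi5⟩, rfl⟩
      · by_cases hi5 : i = some 5
        · subst hi5
          have hj5 : j ≠ some 5 := fun h => hij h.symm
          have ha4 : a = 4 := by
            simp only [if_true, if_neg h35, if_neg (Ne.symm hj3), if_neg hj5.symm] at hd
            omega
          subst ha4
          rcases hb with rfl | rfl
          · right; right; left; exact ⟨j, ⟨hj3, hj5⟩, rfl⟩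
          · right; right; right; left; exact ⟨j, ⟨hj3, hj5⟩, rfl⟩
        · by_cases hj5 : j = some 5
          · subst hj5
            have hb4 : b = 4 := by
              simp only [if_true, if_neg h35, if_neg (Ne.symm hi3), if_neg (Ne.symm hi5)] at hd
              omega
            subst hb4
            rw [pair4_comm]
            rcases ha with rfl | rfl
            · right; right; left; exact ⟨i, ⟨hi3, hi5⟩, rfl⟩
            · right; right; right; left; exact ⟨i, ⟨hi3, hi5⟩, rfl⟩
          · exfalso
            simp only [if_neg (Ne.symm hi3), if_neg (Ne.symm hj3), if_neg (Ne.symm hi5),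
              if_neg (Ne.symm hj5)] at hd
            omega
  · have h3s : some 3 ∈ s := by
      by_contra h
      unfold vB at hd
      rw [if_neg h] at hd
      split_ifs at hd <;> omega
    have h5s : some 5 ∉ s := by
      intro h
      unfold vB at hd
      rw [if_pos h, if_pos h3s] at hd
      omega
    have h5o : some 5 ∈ o := by
      by_contra h
      unfold vB at hd
      rw [if_pos h3s, if_neg h5s, if_neg h] at hd
      omega
    have hc8 : o.card = 8 := ho.2
    have hle : s.card ≤ 7 := by
      have hss : s ⊆ o.erase (some 5) := by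
        intro k hk
        exact Finset.mem_erase.mpr ⟨fun h => h5s (h ▸ hk), hs hk⟩
      have := Finset.card_le_card hss
      rw [Finset.card_erase_of_mem h5o, hc8] at this
      exact this
    have hpos : 1 ≤ s.card := Finset.card_pos.mpr ⟨_, h3s⟩
    obtain ⟨r, hr⟩ := hev
    have hcases : s.card = 2 ∨ s.card = 4 ∨ s.card = 6 := by omega
    rcases hcases with h | h | h
    · right; right; right; right; left
      exact ⟨o, ho, s, hs, h3s, h5o, h5s, h, rfl⟩
    · right; right; right; right; right; left
      exact ⟨o, ho, s, hs, h3s, h5o, h5s, h, rfl⟩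
    · right; right; right; right; right; right; left
      exact ⟨o, ho, s, hs, h3s, h5o, h5s, h, rfl⟩
  · right; right; right; right; right; right; right
    have h35 : (some 3 : GolayPt) ≠ some 5 := by decide
    unfold vC at hd
    by_cases hj3 : j = some 3
    · subst hj3
      left
      refine ⟨b, hb, ?_, ?_, rfl⟩
      · intro h
        rw [if_pos h] at hd
        simp only [if_true, if_neg h35.symm] at hd
        split_ifs at hd <;> omega
      · intro h
        rw [if_pos h] at hd
        simp only [if_true, if_neg h35.symm] at hd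
        split_ifs at hd <;> omega
    · by_cases hj5 : j = some 5
      · subst hj5
        right
        refine ⟨b, hb, ?_, ?_, rfl⟩
        · by_contra h
          rw [if_neg h] at hd
          simp only [if_true, if_neg h35] at hd
          split_ifs at hd <;> omega
        · by_contra h
          rw [if_neg h] at hd
          simp only [if_true, if_neg h35] at hd
          split_ifs at hd <;> omega
      · exfalso
        simp only [if_neg (Ne.symm hj3), if_neg (Ne.symm hj5)] at hd
        split_ifs at hd <;> omega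

end Cfsg.Agent.helper27
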