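import Mathlib
import Cfsg.Agent.Lib_helper27_Co2a

set_option autoImplicit false

namespace Cfsg.Agent.helper27

open Cfsg
open scoped Pointwise

/-! ### each class lies in one orbit -/

theorem rorbv_cA3 {β : ℤ} {x x' : GolayPt → ℤ} (hxL : x ∈ leechLattice) (hx : x ∈ cA3 β)
    (hx' : x' ∈ cA3 β) : ROrb Fv x x' := by
  obtain ⟨j, ⟨hj3, hj5⟩, rfl⟩ := hx
  obtain ⟨j', ⟨hj3', hj5'⟩, rfl⟩ := hx'
  obtain ⟨σ, hσ, h1, h2, h3⟩ := exists_M24_three (a := some 3) (b := some 5) (c := j)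
    (a' := some 3) (b' := some 5) (c' := j') (by decide) (fun h => hj3 h.symm)
    (fun h => hj5 h.symm) (by decide) (fun h => hj3' h.symm) (fun h => hj5' h.symm)
  have s1 := rorbv_m22 hσ h1 h2 hxL
  beta_reduce at s1
  rw [signedPerm_pair4, h1, h3] at s1
  exact s1

theorem rorbv_cA5 {β : ℤ} {x x' : GolayPt → ℤ} (hxL : x ∈ leechLattice) (hx : x ∈ cA5 β)
    (hx' : x' ∈ cA5 β) : ROrb Fv x x' := by
  obtain ⟨j, ⟨hj3, hj5⟩, rfl⟩ := hx
  obtain ⟨j', ⟨hj3', hj5'⟩, rfl⟩ := hx'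
  obtain ⟨σ, hσ, h1, h2, h3⟩ := exists_M24_three (a := some 3) (b := some 5) (c := j)
    (a' := some 3) (b' := some 5) (c' := j') (by decide) (fun h => hj3 h.symm)
    (fun h => hj5 h.symm) (by decide) (fun h => hj3' h.symm) (fun h => hj5' h.symm)
  have s1 := rorbv_m22 hσ h1 h2 hxL
  beta_reduce at s1
  rw [signedPerm_pair4, h2, h3] at s1
  exact s1

theorem signedPerm_one_vC_self (j : GolayPt) (b : Finset GolayPt) :
    signedPerm 1 b (vC j b) = vC j ∅ := by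
  rw [signedPerm_one]
  funext i
  unfold vC
  by_cases hi : i ∈ b
  · simp only [if_pos hi, Finset.notMem_empty, if_false]
    split_ifs <;> rfl
  · simp only [if_neg hi, Finset.notMem_empty, if_false]

theorem signedPerm_one_vC_compl (j : GolayPt) (b : Finset GolayPt) :
    signedPerm 1 bᶜ (vC j b) = vC j Finset.univ := by
  rw [signedPerm_one]
  funext i
  unfold vC
  by_cases hi : i ∈ b
  · have : i ∉ bᶜ := fun h => (Finset.mem_compl.mp h) hi
    simp only [if_neg this, if_pos hi, Finset.mem_univ, if_true]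
  · have : i ∈ bᶜ := Finset.mem_compl.mpr hi
    simp only [if_pos this, if_neg hi, Finset.mem_univ, if_true]
    split_ifs <;> rfl

theorem rorbv_cC3 {x x' : GolayPt → ℤ} (hxL : x ∈ leechLattice) (hxL' : x' ∈ leechLattice)
    (hx : x ∈ cC3) (hx' : x' ∈ cC3) : ROrb Fv x x' := by
  obtain ⟨b, hb, h3, h5, rfl⟩ := hx
  obtain ⟨b', hb', h3', h5', rfl⟩ := hx'
  have s1 := rorbv_sign hb h3 h5 hxL
  have s2 := rorbv_sign hb' h3' h5' hxL'
  rw [signedPerm_one_vC_self] at s1 s2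
  exact s1.trans s2.symm

theorem rorbv_cC5 {x x' : GolayPt → ℤ} (hxL : x ∈ leechLattice) (hxL' : x' ∈ leechLattice)
    (hx : x ∈ cC5) (hx' : x' ∈ cC5) : ROrb Fv x x' := by
  obtain ⟨b, hb, h3, h5, rfl⟩ := hx
  obtain ⟨b', hb', h3', h5', rfl⟩ := hx'
  have s1 := rorbv_sign (compl_mem_supports hb) (fun h => (Finset.mem_compl.mp h) h3)
    (fun h => (Finset.mem_compl.mp h) h5) hxL
  have s2 := rorbv_sign (compl_mem_supports hb') (fun h => (Finset.mem_compl.mp h) h3')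
    (fun h => (Finset.mem_compl.mp h) h5') hxL'
  rw [signedPerm_one_vC_compl] at s1 s2
  exact s1.trans s2.symm

theorem rorbv_cB2 {x x' : GolayPt → ℤ} (hxL : x ∈ leechLattice) (hx : x ∈ cB 2)
    (hx' : x' ∈ cB 2) : ROrb Fv x x' := by
  obtain ⟨o, ho, s, hs, h3, h5o, h5, hc, rfl⟩ := hx
  obtain ⟨o', ho', s', hs', h3', h5o', h5', hc', rfl⟩ := hx'
  have e1 : (s.erase (some 3)).card = 1 := by rw [Finset.card_erase_of_mem h3, hc]
  have e1' : (s'.erase (some 3)).card = 1 := by rw [Finset.card_erase_of_mem h3', hc']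
  obtain ⟨a, ha⟩ := Finset.card_eq_one.mp e1
  obtain ⟨a', ha'⟩ := Finset.card_eq_one.mp e1'
  have hs_eq : s = {some 3, a} := by rw [← Finset.insert_erase h3, ha]
  have hs_eq' : s' = {some 3, a'} := by rw [← Finset.insert_erase h3', ha']
  have ham : a ∈ s.erase (some 3) := by rw [ha]; exact Finset.mem_singleton_self a
  have ham' : a' ∈ s'.erase (some 3) := by rw [ha']; exact Finset.mem_singleton_self a'
  obtain ⟨ha3, has⟩ := Finset.mem_erase.mp ham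
  obtain ⟨ha3', has'⟩ := Finset.mem_erase.mp ham'
  have ha5 : a ≠ some 5 := fun h => h5 (h ▸ has)
  have ha5' : a' ≠ some 5 := fun h => h5' (h ▸ has')
  obtain ⟨σ, hσ, h1, h2⟩ := exists_M24_octad_emb (k := 3) (by norm_num) ho ho'
    (emb3 (a := some 3) (b := some 5) (c := a) (by decide) (Ne.symm ha3) (Ne.symm ha5))
    (emb3 (a := some 3) (b := some 5) (c := a') (by decide) (Ne.symm ha3') (Ne.symm ha5'))
    (emb3_mem _ _ _ (hs h3) h5o (hs has)) (emb3_mem _ _ _ (hs' h3') h5o' (hs' has'))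
  have f3 : σ (some 3) = some 3 := h2 0
  have f5 : σ (some 5) = some 5 := h2 1
  have fa : σ a = a' := h2 2
  have s1 := rorbv_m22 hσ f3 f5 hxL
  rw [signedPerm_vB, h1] at s1
  have e2 : σ • s = s' := by
    rw [hs_eq, smul_pair, f3, fa, ← hs_eq']
  rw [e2] at s1
  exact s1

theorem rorbv_cB6 {x x' : GolayPt → ℤ} (hxL : x ∈ leechLattice) (hx : x ∈ cB 6)
    (hx' : x' ∈ cB 6) : ROrb Fv x x' := by
  obtain ⟨o, ho, s, hs, h3, h5o, h5, hc, rfl⟩ := hx
  obtain ⟨o', ho', s', hs', h3', h5o', h5', hc', rfl⟩ := hx'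
  have hc8 : o.card = 8 := ho.2
  have hc8' : o'.card = 8 := ho'.2
  have h5t : some 5 ∈ o \ s := Finset.mem_sdiff.mpr ⟨h5o, h5⟩
  have h5t' : some 5 ∈ o' \ s' := Finset.mem_sdiff.mpr ⟨h5o', h5'⟩
  have e1 : ((o \ s).erase (some 5)).card = 1 := by
    rw [Finset.card_erase_of_mem h5t, Finset.card_sdiff_of_subset hs, hc8, hc]
  have e1' : ((o' \ s').erase (some 5)).card = 1 := by
    rw [Finset.card_erase_of_mem h5t', Finset.card_sdiff_of_subset hs', hc8', hc']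
  obtain ⟨a, ha⟩ := Finset.card_eq_one.mp e1
  obtain ⟨a', ha'⟩ := Finset.card_eq_one.mp e1'
  have ht_eq : o \ s = {some 5, a} := by rw [← Finset.insert_erase h5t, ha]
  have ht_eq' : o' \ s' = {some 5, a'} := by rw [← Finset.insert_erase h5t', ha']
  have hs_eq : s = o \ {some 5, a} := by rw [← ht_eq, Finset.sdiff_sdiff_eq_self hs]
  have hs_eq' : s' = o' \ {some 5, a'} := by rw [← ht_eq', Finset.sdiff_sdiff_eq_self hs']
  have ham : a ∈ (o \ s).erase (some 5) := by rw [ha]; exact Finset.mem_singleton_self a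
  have ham' : a' ∈ (o' \ s').erase (some 5) := by rw [ha']; exact Finset.mem_singleton_self a'
  obtain ⟨ha5, hat⟩ := Finset.mem_erase.mp ham
  obtain ⟨ha5', hat'⟩ := Finset.mem_erase.mp ham'
  obtain ⟨hao, has⟩ := Finset.mem_sdiff.mp hat
  obtain ⟨hao', has'⟩ := Finset.mem_sdiff.mp hat'
  have ha3 : a ≠ some 3 := fun h => has (h ▸ h3)
  have ha3' : a' ≠ some 3 := fun h => has' (h ▸ h3')
  obtain ⟨σ, hσ, h1, h2⟩ := exists_M24_octad_emb (k := 3) (by norm_num) ho ho'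
    (emb3 (a := some 3) (b := some 5) (c := a) (by decide) (Ne.symm ha3) (Ne.symm ha5))
    (emb3 (a := some 3) (b := some 5) (c := a') (by decide) (Ne.symm ha3') (Ne.symm ha5'))
    (emb3_mem _ _ _ (hs h3) h5o hao) (emb3_mem _ _ _ (hs' h3') h5o' hao')
  have f3 : σ (some 3) = some 3 := h2 0
  have f5 : σ (some 5) = some 5 := h2 1
  have fa : σ a = a' := h2 2
  have s1 := rorbv_m22 hσ f3 f5 hxL
  rw [signedPerm_vB, h1] at s1
  have e2 : σ • s = s' := by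
    rw [hs_eq, Finset.smul_finset_sdiff, h1, smul_pair, f5, fa, ← hs_eq']
  rw [e2] at s1
  exact s1

def emb5 {p0 p1 p2 p3 p4 : GolayPt} (h01 : p0 ≠ p1) (h02 : p0 ≠ p2) (h03 : p0 ≠ p3)
    (h04 : p0 ≠ p4) (h12 : p1 ≠ p2) (h13 : p1 ≠ p3) (h14 : p1 ≠ p4) (h23 : p2 ≠ p3)
    (h24 : p2 ≠ p4) (h34 : p3 ≠ p4) : Fin 5 ↪ GolayPt :=
  ⟨![p0, p1, p2, p3, p4], by
    intro i j h
    fin_cases i <;> fin_cases j <;> simp_all⟩

theorem emb5_mem {p0 p1 p2 p3 p4 : GolayPt} (h01 : p0 ≠ p1) (h02 : p0 ≠ p2) (h03 : p0 ≠ p3)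
    (h04 : p0 ≠ p4) (h12 : p1 ≠ p2) (h13 : p1 ≠ p3) (h14 : p1 ≠ p4) (h23 : p2 ≠ p3)
    (h24 : p2 ≠ p4) (h34 : p3 ≠ p4) {s : Finset GolayPt} (m0 : p0 ∈ s) (m1 : p1 ∈ s)
    (m2 : p2 ∈ s) (m3 : p3 ∈ s) (m4 : p4 ∈ s) :
    ∀ i, emb5 h01 h02 h03 h04 h12 h13 h14 h23 h24 h34 i ∈ s := by
  intro i
  fin_cases i
  · exact m0
  · exact m1
  · exact m2
  · exact m3
  · exact m4

theorem rorbv_cB4 {x x' : GolayPt → ℤ} (hxL : x ∈ leechLattice) (hx : x ∈ cB 4)
    (hx' : x' ∈ cB 4) : ROrb Fv x x' := by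
  obtain ⟨o, ho, s, hs, h3, h5o, h5, hc, rfl⟩ := hx
  obtain ⟨o', ho', s', hs', h3', h5o', h5', hc', rfl⟩ := hx'
  have e1 : (s.erase (some 3)).card = 3 := by rw [Finset.card_erase_of_mem h3, hc]
  have e1' : (s'.erase (some 3)).card = 3 := by rw [Finset.card_erase_of_mem h3', hc']
  obtain ⟨a, b, c, hab, hac, hbc, ha⟩ := Finset.card_eq_three.mp e1
  obtain ⟨a', b', c', hab', hac', hbc', ha'⟩ := Finset.card_eq_three.mp e1'
  have hs_eq : s = {some 3, a, b, c} := by rw [← Finset.insert_erase h3, ha]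
  have hs_eq' : s' = {some 3, a', b', c'} := by rw [← Finset.insert_erase h3', ha']
  have mem_of : ∀ q, q ∈ ({a, b, c} : Finset GolayPt) → q ≠ some 3 ∧ q ∈ s := by
    intro q hq
    rw [← ha] at hq
    exact Finset.mem_erase.mp hq
  have mem_of' : ∀ q, q ∈ ({a', b', c'} : Finset GolayPt) → q ≠ some 3 ∧ q ∈ s' := by
    intro q hq
    rw [← ha'] at hq
    exact Finset.mem_erase.mp hq
  obtain ⟨ha3, has⟩ := mem_of a (by simp)
  obtain ⟨hb3, hbs⟩ := mem_of b (by simp)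
  obtain ⟨hc3, hcs⟩ := mem_of c (by simp)
  obtain ⟨ha3', has'⟩ := mem_of' a' (by simp)
  obtain ⟨hb3', hbs'⟩ := mem_of' b' (by simp)
  obtain ⟨hc3', hcs'⟩ := mem_of' c' (by simp)
  have n5 : ∀ q, q ∈ s → q ≠ some 5 := fun q hq h => h5 (h ▸ hq)
  have n5' : ∀ q, q ∈ s' → q ≠ some 5 := fun q hq h => h5' (h ▸ hq)
  obtain ⟨σ, hσ, h1, h2⟩ := exists_M24_octad_emb (k := 5) le_rfl ho ho'
    (emb5 (p0 := some 3) (p1 := some 5) (p2 := a) (p3 := b) (p4 := c) (by decide)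
      (Ne.symm ha3) (Ne.symm hb3) (Ne.symm hc3) (Ne.symm (n5 a has)) (Ne.symm (n5 b hbs))
      (Ne.symm (n5 c hcs)) hab hac hbc)
    (emb5 (p0 := some 3) (p1 := some 5) (p2 := a') (p3 := b') (p4 := c') (by decide)
      (Ne.symm ha3') (Ne.symm hb3') (Ne.symm hc3') (Ne.symm (n5' a' has'))
      (Ne.symm (n5' b' hbs')) (Ne.symm (n5' c' hcs')) hab' hac' hbc')
    (emb5_mem _ _ _ _ _ _ _ _ _ _ (hs h3) h5o (hs has) (hs hbs) (hs hcs))
    (emb5_mem _ _ _ _ _ _ _ _ _ _ (hs' h3') h5o' (hs' has') (hs' hbs') (hs' hcs'))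
  have f3 : σ (some 3) = some 3 := h2 0
  have f5 : σ (some 5) = some 5 := h2 1
  have fa : σ a = a' := h2 2
  have fb : σ b = b' := h2 3
  have fc : σ c = c' := h2 4
  have s1 := rorbv_m22 hσ f3 f5 hxL
  rw [signedPerm_vB, h1] at s1
  have e2 : σ • s = s' := by
    rw [hs_eq, Finset.smul_finset_insert, Finset.smul_finset_insert, Finset.smul_finset_insert,
      Finset.smul_finset_singleton, hs_eq']
    show insert (σ (some 3)) (insert (σ a) (insert (σ b) {σ c})) = _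
    rw [f3, fa, fb, fc]
  rw [e2] at s1
  exact s1

end Cfsg.Agent.helper27
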