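import Mathlib
import Cfsg.Agent.Lib_helper27_Co2b

set_option autoImplicit false

namespace Cfsg.Agent.helper27

open Cfsg
open scoped Pointwise

/-! ### links between the classes -/

theorem xi_lA3p : xiFun (pair4 (some 3) (some 4) (-4) (4)) = vB (cw 56) {some 3, some 13, some 16, some 22} := by
  have e : pair4 (some 3) (some 4) (-4) (4) = ofList [0, 0, 0, -4, 4, 0, 0, 0, 0, 0, 0, 0, 0, 0, 0, 0, 0, 0, 0, 0, 0, 0, 0, 0] := by
    decide
  have e' : vB (cw 56) {some 3, some 13, some 16, some 22} = ofList [0, 0, 0, -2, 2, 2, 0, 0, 0, 0, 0, 0, 0, -2, 2, 0, -2, 2, 0, 0, 0, 0, -2, 0] := by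
    decide
  rw [e, e']
  decide

theorem xi_lA3m : xiFun (pair4 (some 3) (some 0) (-4) (-4)) = vB (cw 47) {some 1, some 2, some 3, none} := by
  have e : pair4 (some 3) (some 0) (-4) (-4) = ofList [-4, 0, 0, -4, 0, 0, 0, 0, 0, 0, 0, 0, 0, 0, 0, 0, 0, 0, 0, 0, 0, 0, 0, 0] := by
    decide
  have e' : vB (cw 47) {some 1, some 2, some 3, none} = ofList [2, -2, -2, -2, 0, 2, 0, 0, 0, 0, 0, 0, 0, 0, 2, 0, 0, 2, 0, 0, 0, 0, 0, -2] := by
    decide
  rw [e, e']
  decide

theorem xi_lA5p : xiFun (pair4 (some 5) (some 0) (4) (4)) = vB (cw 47) {some 0, some 3, some 14, some 17} := by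
  have e : pair4 (some 5) (some 0) (4) (4) = ofList [4, 0, 0, 0, 0, 4, 0, 0, 0, 0, 0, 0, 0, 0, 0, 0, 0, 0, 0, 0, 0, 0, 0, 0] := by
    decide
  have e' : vB (cw 47) {some 0, some 3, some 14, some 17} = ofList [-2, 2, 2, -2, 0, 2, 0, 0, 0, 0, 0, 0, 0, 0, -2, 0, 0, -2, 0, 0, 0, 0, 0, 2] := by
    decide
  rw [e, e']
  decide

theorem xi_lA5m : xiFun (pair4 (some 5) (some 4) (4) (-4)) = vB (cw 56) {some 3, some 4, some 14, some 17} := by
  have e : pair4 (some 5) (some 4) (4) (-4) = ofList [0, 0, 0, 0, -4, 4, 0, 0, 0, 0, 0, 0, 0, 0, 0, 0, 0, 0, 0, 0, 0, 0, 0, 0] := by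
    decide
  have e' : vB (cw 56) {some 3, some 4, some 14, some 17} = ofList [0, 0, 0, -2, -2, 2, 0, 0, 0, 0, 0, 0, 0, 2, -2, 0, 2, -2, 0, 0, 0, 0, 2, 0] := by
    decide
  rw [e, e']
  decide

theorem xi_lB2 : xiFun (vB (cw 42) {some 3, some 13}) = vB (cw 1581) {some 3, some 9, some 10, some 13} := by
  have e : vB (cw 42) {some 3, some 13} = ofList [0, 2, 0, -2, 0, 2, 0, 0, 0, 0, 0, 0, 0, -2, 0, 2, 2, 0, 0, 0, 2, 0, 0, 2] := by
    decide
  have e' : vB (cw 1581) {some 3, some 9, some 10, some 13} = ofList [2, 0, 2, -2, 0, 2, 0, 0, 0, -2, -2, 0, 0, -2, 0, 0, 2, 0, 0, 0, 0, 0, 0, 0] := by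
    decide
  rw [e, e']
  decide

theorem xi_lB6 : xiFun (vB (cw 42) {some 1, some 3, some 13, some 15, some 16, none}) = vB (cw 61) {some 0, some 2, some 3, some 15} := by
  have e : vB (cw 42) {some 1, some 3, some 13, some 15, some 16, none} = ofList [0, -2, 0, -2, 0, 2, 0, 0, 0, 0, 0, 0, 0, -2, 0, -2, -2, 0, 0, 0, 2, 0, 0, -2] := by
    decide
  have e' : vB (cw 61) {some 0, some 2, some 3, some 15} = ofList [-2, 0, -2, -2, 2, 2, 0, 0, 0, 0, 0, 0, 0, 0, 0, -2, 0, 0, 0, 0, 2, 0, 2, 0] := by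
    decide
  rw [e, e']
  decide

theorem xi_lC3 : xiFun (vC (some 3) (cw 2)) = vB (cw 58) {some 3, some 12, some 15, some 19} := by
  have e : vC (some 3) (cw 2) = ofList [1, -1, 1, -3, 1, 1, 1, 1, 1, 1, 1, 1, -1, -1, -1, -1, -1, 1, 1, -1, 1, 1, -1, 1] := by
    decide
  have e' : vB (cw 58) {some 3, some 12, some 15, some 19} = ofList [0, 2, 0, -2, 2, 2, 0, 0, 0, 0, 0, 0, -2, 0, 0, -2, 0, 2, 0, -2, 0, 0, 0, 0] := by
    decide
  rw [e, e']
  decide

theorem xi_lC5 : xiFun (vC (some 5) (cw 106)) = vB (cw 186) {some 3, some 14, some 18, some 20} := by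
  have e : vC (some 5) (cw 106) = ofList [1, -1, 1, -1, 1, 3, -1, 1, 1, 1, 1, 1, 1, -1, -1, 1, -1, 1, -1, -1, -1, -1, -1, 1] := by
    decide
  have e' : vB (cw 186) {some 3, some 14, some 18, some 20} = ofList [0, 2, 0, -2, 2, 2, 0, 2, 0, 0, 0, 0, 0, 0, -2, 0, 0, 0, -2, 0, -2, 0, 0, 0] := by
    decide
  rw [e, e']
  decide

theorem cB_mem {n : ℕ} (hn : Even n) {x : GolayPt → ℤ} (hx : x ∈ cB n) : x ∈ leechLattice := by
  obtain ⟨o, ho, s, hs, _, _, _, hc, rfl⟩ := hx
  exact (mem_leechLattice_iff _).mpr (vB_mem_leechSet ho hs (by rw [hc]; exact hn))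

theorem cw_octad {k : ℕ} (hk : k < 4096) (h8 : popc (encN k) = 8) : cw k ∈ octads :=
  ⟨cw_mem_GS hk, by rw [cw_card]; exact h8⟩

/-- the reference vector of the orbit -/
def yref : GolayPt → ℤ := vB (cw 56) {some 3, some 13, some 16, some 22}

theorem yref_mem : yref ∈ cB 4 :=
  ⟨cw 56, cw_octad (by norm_num) (by decide), _, by decide, by decide, by decide, by decide,
    by decide, rfl⟩

theorem link_to_B4 {x x0 y0 : GolayPt → ℤ} (h1 : ROrb Fv x x0) (hxi : xiFun x0 = y0)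
    (hy0 : y0 ∈ cB 4) : ROrb Fv x yref := by
  have hx0 : x0 ∈ leechLattice := by
    obtain ⟨_, h, _⟩ := h1
    exact h
  have s2 := rorbv_xi hx0
  rw [hxi] at s2
  exact (h1.trans s2).trans (rorbv_cB4 (cB_mem (by decide) hy0) hy0 yref_mem)

theorem rorbv_all {x : GolayPt → ℤ} (hx : x ∈ leechLattice) (hn : sqNorm x = 32)
    (hd : dotInt v35 x = -16) : ROrb Fv x yref := by
  rcases classes_cover hx hn hd with h | h | h | h | h | h | h | h | h
  · refine link_to_B4 (rorbv_cA3 hx h ⟨some 4, by decide, rfl⟩) xi_lA3p ?_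
    exact yref_mem
  · refine link_to_B4 (rorbv_cA3 hx h ⟨some 0, by decide, rfl⟩) xi_lA3m ?_
    exact ⟨cw 47, cw_octad (by norm_num) (by decide), _, by decide, by decide, by decide,
      by decide, by decide, rfl⟩
  · refine link_to_B4 (rorbv_cA5 hx h ⟨some 0, by decide, rfl⟩) xi_lA5p ?_
    exact ⟨cw 47, cw_octad (by norm_num) (by decide), _, by decide, by decide, by decide,
      by decide, by decide, rfl⟩
  · refine link_to_B4 (rorbv_cA5 hx h ⟨some 4, by decide, rfl⟩) xi_lA5m ?_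
    exact ⟨cw 56, cw_octad (by norm_num) (by decide), _, by decide, by decide, by decide,
      by decide, by decide, rfl⟩
  · have hm : vB (cw 42) {some 3, some 13} ∈ cB 2 :=
      ⟨cw 42, cw_octad (by norm_num) (by decide), _, by decide, by decide, by decide,
        by decide, by decide, rfl⟩
    refine link_to_B4 (rorbv_cB2 hx h hm) xi_lB2 ?_
    exact ⟨cw 1581, cw_octad (by norm_num) (by decide), _, by decide, by decide, by decide,
      by decide, by decide, rfl⟩
  · exact rorbv_cB4 hx h yref_mem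
  · have hm : vB (cw 42) {some 1, some 3, some 13, some 15, some 16, none} ∈ cB 6 :=
      ⟨cw 42, cw_octad (by norm_num) (by decide), _, by decide, by decide, by decide,
        by decide, by decide, rfl⟩
    refine link_to_B4 (rorbv_cB6 hx h hm) xi_lB6 ?_
    exact ⟨cw 61, cw_octad (by norm_num) (by decide), _, by decide, by decide, by decide,
      by decide, by decide, rfl⟩
  · have hm : vC (some 3) (cw 2) ∈ cC3 :=
      ⟨cw 2, cw_mem_GS (by norm_num), by rw [mem_cw_iff]; decide, by rw [mem_cw_iff]; decide, rfl⟩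
    have hmL : vC (some 3) (cw 2) ∈ leechLattice :=
      (mem_leechLattice_iff _).mpr (vC_mem_leechSet _ (cw_mem_GS (by norm_num)))
    refine link_to_B4 (rorbv_cC3 hx hmL h hm) xi_lC3 ?_
    exact ⟨cw 58, cw_octad (by norm_num) (by decide), _, by decide, by decide, by decide,
      by decide, by decide, rfl⟩
  · have hm : vC (some 5) (cw 106) ∈ cC5 :=
      ⟨cw 106, cw_mem_GS (by norm_num), by rw [mem_cw_iff]; decide, by rw [mem_cw_iff]; decide,
        rfl⟩
    have hmL : vC (some 5) (cw 106) ∈ leechLattice :=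
      (mem_leechLattice_iff _).mpr (vC_mem_leechSet _ (cw_mem_GS (by norm_num)))
    refine link_to_B4 (rorbv_cC5 hx hmL h hm) xi_lC5 ?_
    exact ⟨cw 186, cw_octad (by norm_num) (by decide), _, by decide, by decide, by decide,
      by decide, by decide, rfl⟩

/-- statement of `S1574` -/
theorem stab_min_transitive_neg2 (v w w' : leechLattice) (hv : sqNorm (v : GolayPt → ℤ) = 32)
    (hw : sqNorm (w : GolayPt → ℤ) = 32) (hw' : sqNorm (w' : GolayPt → ℤ) = 32)
    (hd : dotInt (v : GolayPt → ℤ) (w : GolayPt → ℤ) = -16)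
    (hd' : dotInt (v : GolayPt → ℤ) (w' : GolayPt → ℤ) = -16) :
    ∃ g : Co0, g • v = v ∧ g • w = w' := by
  obtain ⟨g0, hg0⟩ := co0_transitive_min v v35L hv sqNorm_v35
  have d1 : dotInt v35 (g0 • w).1 = -16 := by
    have := co0_smul_dot g0 v w
    rw [hg0, hd] at this
    exact this
  have d2 : dotInt v35 (g0 • w').1 = -16 := by
    have := co0_smul_dot g0 v w'
    rw [hg0, hd'] at this
    exact this
  have s1 := rorbv_all (g0 • w).2 (by rw [co0_sqNorm, hw]) d1
  have s2 := rorbv_all (g0 • w').2 (by rw [co0_sqNorm, hw']) d2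
  have s3 : FixOrb ({v} : Set leechLattice) w w' := by
    apply FixOrb.transport g0 (F' := Fv) _ (s1.trans s2.symm).fixOrb
    intro z hz
    rw [Set.mem_singleton_iff.mp hz, hg0]
    exact rfl
  obtain ⟨g, hg, hgw⟩ := s3
  exact ⟨g, hg v rfl, hgw⟩

end Cfsg.Agent.helper27
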