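import Mathlib
import Cfsg.Agent.Lib_helper2_M24f

set_option autoImplicit false
set_option linter.constructorNameAsVariable false

namespace Cfsg.Agent.helper2.Golay

open Cfsg Cfsg.Agent.helper27
open scoped Pointwise

/-- Certificate for an orbit of masks under explicit generators: entry `i` is
`(mask, parent position, generator index)`; the parent comes earlier in the list. -/
def treeOK (gens : List (List ℕ × List ℕ)) (L : List (ℕ × ℕ × ℕ)) : Bool :=
  (List.range L.length).all (fun i => (i == 0) ||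
    (decide ((L.getD i (0, 0, 0)).2.1 < i) && decide ((L.getD i (0, 0, 0)).2.2 < gens.length) &&
      (pull (tb (gens.getD (L.getD i (0, 0, 0)).2.2 ([], [])).2)
        (L.getD (L.getD i (0, 0, 0)).2.1 (0, 0, 0)).1 == (L.getD i (0, 0, 0)).1)))

theorem tree_spec (K : Subgroup (Equiv.Perm GolayPt)) (gens : List (List ℕ × List ℕ))
    (hgens : ∀ d ∈ gens, tablesOK d.1 d.2 = true ∧ gperm d ∈ K)
    (L : List (ℕ × ℕ × ℕ)) (hL : treeOK gens L = true) :
    ∀ i < L.length, ∃ g ∈ K, g • pts (L.getD 0 (0, 0, 0)).1 = pts (L.getD i (0, 0, 0)).1 := by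
  intro i
  induction i using Nat.strong_induction_on with
  | _ i ih =>
    intro hi
    by_cases h0 : i = 0
    · subst h0
      exact ⟨1, K.one_mem, one_smul _ _⟩
    · unfold treeOK at hL
      rw [List.all_eq_true] at hL
      have h1 := hL i (List.mem_range.mpr hi)
      simp only [Bool.or_eq_true, beq_iff_eq, Bool.and_eq_true, decide_eq_true_eq] at h1
      rcases h1 with h1 | ⟨⟨hpar, hgen⟩, hpull⟩
      · exact absurd h1 h0
      · obtain ⟨g', hg', hg'm⟩ := ih _ hpar (by omega)
        have hmem : gens.getD (L.getD i (0, 0, 0)).2.2 ([], []) ∈ gens := by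
          rw [List.getD_eq_getElem _ _ hgen]
          exact List.getElem_mem _
        obtain ⟨ht, hK⟩ := hgens _ hmem
        refine ⟨gperm _ * g', K.mul_mem hK hg', ?_⟩
        rw [mul_smul, hg'm, gperm_smul_pts ht, hpull]

theorem exists_index_of_any {L : List (ℕ × ℕ × ℕ)} {a : ℕ}
    (h : L.any (fun e => e.1 == a) = true) : ∃ i < L.length, (L.getD i (0, 0, 0)).1 = a := by
  rw [List.any_eq_true] at h
  obtain ⟨e, he, hea⟩ := h
  rw [beq_iff_eq] at hea
  obtain ⟨i, hi, rfl⟩ := List.mem_iff_getElem.mp he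
  exact ⟨i, hi, by rw [List.getD_eq_getElem _ _ hi]; exact hea⟩

def osGens : List (List ℕ × List ℕ) := [
  ([17, 1, 2, 23, 19, 14, 11, 10, 18, 6, 4, 20, 8, 16, 3, 22, 21, 0, 15, 9, 7, 12, 13, 5], [17, 1, 2, 14, 10, 23, 9, 20, 12, 19, 7, 6, 21, 22, 5, 18, 13, 0, 8, 4, 11, 16, 15, 3]),
  ([14, 2, 0, 1, 7, 3, 13, 15, 4, 19, 18, 10, 22, 12, 5, 8, 6, 23, 9, 20, 21, 16, 11, 17], [2, 3, 1, 5, 8, 14, 16, 4, 15, 18, 11, 22, 13, 6, 0, 7, 21, 23, 10, 9, 19, 20, 12, 17])]

def osTree0 : List (ℕ × ℕ × ℕ) := [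
  (6889680, 0, 0), (2702848, 0, 0), (1161408, 0, 1), (3216208, 1, 0), (6100032, 1, 1), (7409024, 2, 0), (6337856, 2, 1), (2890176, 3, 0),
  (2141072, 4, 0), (7612992, 4, 1), (3421328, 5, 0), (2460752, 5, 1), (4536592, 6, 0), (1351424, 7, 0), (5350928, 7, 1), (628112, 8, 1),
  (6656640, 10, 1), (7903248, 11, 0), (337856, 11, 1), (4038912, 12, 0), (4202192, 12, 1), (5538256, 13, 0), (7079696, 13, 1), (4819776, 16, 1),
  (5780352, 17, 0), (832080, 18, 1), (1584464, 20, 0), (5024896, 20, 1), (1903248, 22, 1), (3704512, 28, 0)]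

def osTree2 : List (ℕ × ℕ × ℕ) := [
  (4845570, 0, 0), (6365962, 0, 0), (5249380, 0, 1), (10825794, 1, 0), (596054, 1, 1), (1337732, 2, 0), (6302745, 2, 1), (2201890, 3, 0),
  (4403780, 3, 1), (3672838, 4, 0), (5252293, 4, 1), (1410188, 5, 0), (2135601, 5, 1), (10170384, 6, 0), (351362, 6, 1), (7622914, 7, 0),
  (4261212, 7, 1), (2173253, 8, 0), (13121601, 8, 1), (1315526, 9, 0), (3736597, 9, 1), (208020, 10, 0), (2422785, 10, 1), (14714004, 11, 0),
  (2392899, 11, 1), (4870480, 12, 0), (5063048, 12, 1), (2687905, 13, 0), (15864000, 13, 1), (3179802, 14, 0), (4490852, 14, 1), (307594, 15, 0),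
  (6359604, 15, 1), (11282452, 16, 0), (272595, 16, 1), (3610628, 17, 0), (95313, 17, 1), (1256224, 18, 0), (5405696, 18, 1), (36294, 19, 0),
  (6857221, 19, 1), (2757268, 20, 0), (3489985, 20, 1), (8688833, 21, 1), (5476616, 22, 0), (4282144, 22, 1), (4731956, 23, 0), (493953, 23, 1),
  (4626498, 24, 0), (615188, 24, 1), (797449, 25, 0), (13641904, 25, 1), (10790408, 26, 0), (1084018, 26, 1), (2512448, 27, 0), (1687640, 27, 1),
  (15777, 28, 0), (14919680, 28, 1), (13373586, 29, 0), (2425238, 29, 1), (4253780, 30, 0), (12944642, 31, 0), (4231958, 31, 1), (3698756, 32, 0),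
  (593097, 32, 1), (1675812, 33, 0), (1250945, 33, 1), (1805314, 34, 0), (63108, 34, 1), (3182981, 35, 0), (14747201, 35, 1), (2820376, 36, 0),
  (4485344, 36, 1), (11015256, 37, 1), (1122713, 38, 0), (14949408, 38, 1), (5508118, 39, 0), (304405, 39, 1), (1661185, 40, 1), (530245, 41, 0),
  (14254209, 41, 1), (2268296, 42, 0), (2220640, 42, 1), (4361520, 43, 0), (4645632, 43, 1), (14950785, 44, 0), (14682450, 44, 1), (2384216, 45, 0),
  (4982904, 45, 1), (5511305, 46, 1), (7767041, 47, 0), (8439632, 47, 1), (5286147, 48, 0), (12594948, 48, 1), (2949708, 49, 0), (1577201, 49, 1),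
  (9929280, 50, 0), (1594898, 50, 1), (1664160, 51, 0), (12685424, 52, 0), (987906, 52, 1), (5785794, 53, 0), (2631052, 53, 1), (39257, 54, 0),
  (13443616, 54, 1), (15207048, 55, 0), (3154402, 55, 1), (1525008, 56, 0), (4510744, 56, 1), (7417889, 57, 0), (8592704, 57, 1), (567074, 58, 0),
  (5409412, 58, 1), (2921478, 59, 0), (99029, 59, 1), (5842956, 60, 0), (6594610, 61, 0), (396116, 61, 1), (4989254, 62, 0), (4721045, 62, 1),
  (72588, 63, 0), (11669008, 64, 0), (1369154, 64, 1), (6308804, 65, 0), (7864649, 65, 1), (2229713, 66, 0), (15515712, 66, 1), (7340691, 67, 0),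
  (11797828, 67, 1), (5017889, 68, 1), (4593028, 69, 0), (6406417, 69, 1), (2242672, 70, 0), (1009728, 70, 1), (12325377, 71, 0), (9503954, 71, 1),
  (126216, 72, 0), (4241960, 72, 1), (8919856, 73, 0), (5709954, 73, 1), (11469952, 74, 0), (2150610, 74, 1), (1110320, 75, 0), (4656648, 75, 1),
  (1613974, 76, 0), (2363013, 76, 1), (5210132, 77, 0), (283537, 77, 1), (3539848, 78, 0), (7357552, 78, 1), (6053905, 79, 1), (6432416, 80, 0),
  (3328320, 80, 1), (13636881, 81, 0), (6379592, 82, 0), (602472, 82, 1), (8654232, 83, 1), (4563017, 84, 0), (504864, 85, 0), (252432, 85, 1),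
  (1849378, 86, 0), (9279496, 87, 0), (78514, 87, 1), (10021376, 88, 0), (1060490, 88, 1), (9610624, 89, 0), (6344194, 89, 1), (4370577, 90, 0),
  (10832640, 90, 1), (926128, 91, 1), (2120980, 92, 1), (1384564, 93, 0), (924689, 93, 1), (10525252, 94, 0), (1647171, 94, 1), (675712, 95, 0),
  (7397512, 95, 1), (6326497, 96, 0), (11150144, 96, 1), (525274, 97, 0), (8126628, 97, 1), (2180760, 98, 0), (3444840, 98, 1), (6842656, 99, 0),
  (4336072, 99, 1), (14156372, 100, 1), (3189796, 101, 1), (8721940, 102, 0), (1413139, 102, 1), (14551296, 103, 0), (4220306, 103, 1), (1710664, 104, 1),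
  (9451104, 105, 0), (2207772, 106, 1), (2916505, 107, 0), (10748656, 107, 1), (13148440, 108, 0), (4459426, 108, 1), (2322816, 109, 0), (3410225, 110, 0),
  (12985424, 110, 1), (4538962, 111, 0), (1839388, 111, 1), (11046145, 112, 1), (5571333, 113, 1), (6949956, 114, 0), (582081, 114, 1), (11608708, 115, 0),
  (3152963, 115, 1), (1869893, 117, 0), (8922769, 117, 1), (371206, 118, 0), (1063445, 118, 1), (1975812, 119, 0), (1100945, 119, 1), (4752467, 120, 1),
  (4294810, 122, 0), (2372388, 122, 1), (277580, 123, 0), (632881, 123, 1), (8796800, 124, 0), (3237906, 124, 1), (8773776, 125, 1), (668866, 127, 0),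
  (2738308, 127, 1), (301236, 128, 0), (2564625, 128, 1), (5262104, 129, 1), (12880401, 130, 1), (7221256, 131, 0), (84464, 131, 1), (12661896, 132, 1),
  (3246601, 133, 0), (168928, 134, 0), (8077824, 134, 1), (2624690, 135, 0), (2531524, 135, 1), (16056344, 136, 0), (267634, 136, 1), (13721920, 137, 0),
  (4726026, 137, 1), (1852256, 138, 0), (5899416, 138, 1), (2204803, 139, 0), (4301220, 141, 1), (6295992, 142, 1), (11575377, 143, 0), (9178690, 143, 1),
  (4785798, 144, 0), (1217620, 145, 0), (902657, 145, 1), (9440193, 146, 1), (951624, 147, 0), (4768432, 147, 1), (11108882, 148, 1), (555160, 149, 0),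
  (2435240, 149, 1), (762504, 150, 0), (3168928, 150, 1), (10560816, 152, 1), (6703248, 153, 1), (11548936, 154, 0), (4271202, 154, 1), (5255258, 155, 1),
  (10257456, 156, 0), (427666, 156, 1), (31554, 157, 1), (12849992, 158, 1), (13108704, 159, 1), (1164162, 160, 0), (7345676, 160, 1), (15762208, 161, 0),
  (5375810, 161, 1), (2704706, 162, 0), (4755660, 162, 1), (5309160, 163, 0), (3806496, 163, 1), (4523185, 165, 0), (10916112, 165, 1), (855332, 166, 1),
  (4924673, 167, 0), (12638592, 167, 1), (722544, 168, 1), (9474712, 169, 1), (2110153, 171, 1), (1737489, 172, 0), (13911680, 172, 1), (2296514, 174, 0),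
  (1312345, 175, 0), (334433, 178, 0), (884962, 181, 1), (1405448, 183, 0), (1121336, 183, 1), (9776129, 184, 0), (8436754, 184, 1), (535268, 185, 0),
  (3811457, 185, 1), (5329044, 186, 0), (2430217, 186, 1), (2654580, 187, 0), (5112513, 187, 1), (6979970, 188, 0), (1352353, 189, 0), (861210, 190, 0),
  (16262146, 191, 1), (15274244, 193, 0), (4264387, 193, 1), (13276672, 194, 0), (580704, 195, 0), (1186194, 196, 1), (560668, 197, 1), (2019456, 199, 0),
  (2664522, 201, 0), (9208708, 202, 0), (5640752, 203, 0), (2640465, 204, 1), (2168036, 207, 0), (2854977, 207, 1), (6644740, 208, 1), (3172097, 209, 1),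
  (7438406, 211, 0), (1769924, 212, 0), (6837377, 212, 1), (2409888, 214, 1), (4860434, 215, 0), (381252, 217, 0), (4788761, 217, 1), (9537812, 218, 0),
  (4470275, 218, 1), (1070536, 219, 1), (1148257, 220, 0), (3739786, 221, 0), (6915112, 222, 0), (69395, 223, 0), (13938692, 223, 1), (5817604, 225, 0),
  (4229001, 225, 1), (8999616, 226, 1), (10232008, 227, 0), (5939296, 228, 0), (8499969, 229, 0), (13703682, 229, 1), (3951624, 230, 0), (42232, 230, 1),
  (4476225, 233, 0), (12126304, 234, 1), (4299781, 236, 0), (11055264, 237, 0), (837906, 238, 0), (4465308, 238, 1), (9708306, 240, 0), (314056, 241, 0),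
  (3678776, 241, 1), (11831426, 242, 1), (6493202, 243, 0), (9204992, 245, 0), (4921504, 246, 0), (2106966, 248, 0), (6455896, 250, 0), (1445088, 251, 0),
  (2810896, 251, 1), (4744776, 253, 0), (1608104, 253, 1), (6820450, 254, 0), (10028808, 255, 0), (5280930, 255, 1), (11654144, 256, 0), (104010, 256, 1),
  (9998658, 257, 1), (2969648, 259, 0), (463064, 259, 1), (1618953, 260, 0), (8490656, 260, 1), (9769376, 261, 0), (8989058, 263, 0), (6305926, 263, 1),
  (1378634, 266, 0), (8694112, 267, 0), (290352, 268, 0), (1484824, 268, 1), (6554826, 269, 0), (8401364, 270, 0), (7145475, 270, 1), (2365978, 273, 0),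
  (10513600, 275, 0), (12780432, 278, 1), (3457556, 279, 0), (9721936, 280, 1), (5514536, 281, 0), (12075408, 285, 1), (3050016, 286, 1), (9020484, 287, 1),
  (9078992, 288, 0), (2908802, 288, 1), (1090380, 290, 1), (10584520, 291, 0), (3375280, 293, 0), (5833010, 294, 0), (1134148, 295, 0), (5003780, 299, 0),
  (175681, 300, 0), (4441280, 302, 0), (2675464, 302, 1), (5441617, 305, 1), (2501890, 306, 0), (4203377, 307, 0), (1836419, 309, 0), (1127686, 312, 1),
  (6429441, 317, 0), (145176, 322, 0), (5621792, 322, 1), (361272, 323, 1), (9968772, 324, 1), (6588684, 325, 0), (237906, 328, 0), (10491778, 331, 0),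
  (14709264, 332, 0), (4063314, 333, 0), (804052, 333, 1), (2101096, 337, 0), (3322370, 338, 1), (4287105, 339, 0), (6750560, 340, 0), (3474978, 342, 1),
  (13192208, 343, 0), (3351624, 345, 1), (7479572, 346, 0), (6062602, 348, 0), (1050548, 348, 1), (563843, 349, 1), (13667400, 351, 0), (2328324, 353, 1),
  (2634003, 354, 0), (12912836, 354, 1), (864389, 357, 1), (8464984, 361, 0), (12624578, 370, 1), (792232, 378, 1), (2892897, 385, 0), (5296705, 390, 0),
  (1454401, 391, 1), (5770785, 392, 0), (3147996, 397, 1), (6557781, 407, 1), (9240913, 409, 0), (10557585, 425, 0), (702724, 436, 1), (1204944, 441, 0)]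

def osTree4 : List (ℕ × ℕ × ℕ) := [
  (13062145, 0, 0), (2269481, 0, 0), (12733024, 0, 1), (8474906, 1, 1), (1075305, 2, 0), (9055272, 2, 1), (11272490, 3, 0), (4325622, 3, 1),
  (9652360, 4, 0), (2126890, 4, 1), (9519665, 5, 0), (9835530, 5, 1), (8704546, 6, 0), (1245726, 6, 1), (551943, 7, 0), (8431757, 7, 1),
  (11535529, 8, 0), (10650722, 8, 1), (4526126, 9, 1), (2769128, 10, 0), (8421811, 11, 0), (15073798, 11, 1), (4243818, 12, 0), (4850476, 12, 1),
  (11010247, 13, 0), (1332261, 14, 1), (13829156, 15, 0), (185603, 15, 1), (8541360, 16, 0), (2605066, 16, 1), (4216883, 17, 0), (8855820, 17, 1),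
  (10543366, 18, 0), (4196943, 18, 1), (8412681, 19, 0), (9543722, 19, 1), (5129250, 20, 0), (180636, 20, 1), (45159, 21, 0), (9112069, 21, 1),
  (12871690, 22, 0), (10558, 22, 1), (8675909, 23, 0), (9963547, 23, 1), (138790, 24, 0), (1302533, 24, 1), (6570537, 25, 1), (2121909, 26, 0),
  (10881097, 26, 1), (4587803, 27, 0), (12861748, 27, 1), (542009, 28, 0), (13009064, 28, 1), (14716939, 29, 0), (8455014, 29, 1), (1728778, 30, 0),
  (4213932, 30, 1), (10846245, 31, 0), (8524371, 31, 1), (201013, 32, 1), (9578566, 33, 0), (9568632, 34, 0), (14762146, 35, 0), (2232654, 35, 1),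
  (57883, 36, 0), (9701932, 36, 1), (13370381, 37, 0), (4409606, 38, 0), (4223245, 38, 1), (3277413, 39, 0), (10110017, 39, 1), (10305542, 41, 0),
  (5279, 41, 1), (231532, 42, 0), (684577, 42, 1), (10093218, 43, 0), (3294342, 43, 1), (1065303, 44, 0), (6488205, 45, 0), (10506593, 45, 1),
  (8581192, 46, 0), (608810, 46, 1), (742412, 47, 0), (118953, 47, 1), (9607201, 48, 0), (8611330, 48, 1), (9347075, 49, 0), (8407702, 49, 1),
  (843820, 50, 0), (133817, 50, 1), (9323032, 51, 0), (1327290, 51, 1), (12641313, 52, 0), (8555274, 52, 1), (12726562, 53, 0), (2377830, 54, 0),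
  (663645, 54, 1), (8716939, 55, 0), (11538486, 55, 1), (9462812, 56, 0), (298027, 56, 1), (6475812, 57, 0), (213833, 57, 1), (657763, 58, 0),
  (13262980, 58, 1), (3031301, 59, 0), (12599513, 59, 1), (1116327, 60, 0), (10630149, 60, 1), (9193633, 61, 0), (10625178, 61, 1), (8657159, 63, 0),
  (12656663, 63, 1), (13303882, 64, 0), (545190, 64, 1), (9486564, 65, 0), (2754059, 65, 1), (8561204, 66, 0), (1460739, 66, 1), (3416079, 67, 0),
  (8391797, 67, 1), (153797, 69, 0), (11100169, 69, 1), (11952160, 70, 1), (2130606, 71, 0), (9045270, 72, 0), (4505735, 72, 1), (15747077, 73, 0),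
  (8398155, 73, 1), (14176296, 74, 1), (18147, 75, 0), (12222476, 75, 1), (919694, 77, 0), (8505411, 78, 1), (416040, 79, 0), (4415544, 79, 1),
  (12650793, 80, 0), (11551306, 81, 0), (1573998, 81, 1), (10486557, 82, 0), (13893731, 82, 1), (14828808, 83, 0), (5390753, 84, 0), (2162811, 85, 0),
  (9310308, 85, 1), (4424227, 86, 0), (9589508, 86, 1), (689317, 87, 1), (12698124, 88, 0), (1053483, 88, 1), (8963210, 89, 1), (8946281, 90, 0),
  (352547, 94, 0), (12720156, 94, 1), (1103886, 95, 0), (75309, 95, 1), (9465987, 96, 1), (705094, 97, 1), (8978620, 99, 0), (2494627, 99, 1),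
  (13811730, 100, 0), (280334, 100, 1), (8937586, 102, 1), (430605, 105, 0), (190626, 106, 1), (2147405, 107, 1), (1230376, 109, 0), (8983587, 110, 0),
  (8622214, 110, 1), (1474854, 111, 0), (4343317, 111, 1), (2826278, 112, 0), (10496547, 113, 0), (5275709, 114, 1), (4800613, 117, 0), (9048457, 117, 1),
  (1212619, 118, 0), (11028004, 118, 1), (2183687, 119, 1), (1722420, 120, 0), (418953, 120, 1), (1182989, 121, 0), (10687016, 122, 0), (1265762, 122, 1),
  (12604486, 124, 0), (622863, 124, 1), (786999, 125, 0), (9830549, 125, 1), (4367374, 126, 0), (52005, 126, 1), (1192108, 127, 0), (2313249, 127, 1),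
  (8849458, 128, 0), (421910, 128, 1), (8414120, 129, 0), (7473194, 129, 1), (150618, 130, 0), (12587685, 131, 0), (11731203, 131, 1), (9471495, 132, 0),
  (157028, 133, 1), (9748745, 134, 0), (12584506, 134, 1), (8394986, 135, 1), (737427, 139, 1), (2255372, 140, 1), (8663097, 141, 0), (10537016, 142, 1),
  (11163650, 143, 0), (90318, 143, 1), (13771273, 144, 1), (6447171, 145, 0), (8931660, 145, 1), (262637, 146, 0), (15335473, 146, 1), (14688364, 148, 0),
  (8798658, 149, 0), (6832158, 149, 1), (21116, 152, 1), (9969957, 153, 0), (12717187, 153, 1), (13631886, 154, 0), (6292775, 154, 1), (10698836, 155, 0),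
  (806987, 155, 1), (198058, 156, 0), (4726955, 160, 0), (10619300, 160, 1), (8683614, 161, 0), (12747077, 163, 0), (13124355, 163, 1), (5325835, 164, 0),
  (8426796, 164, 1), (2245426, 167, 0), (5652556, 167, 1), (9506893, 171, 1), (2115979, 173, 1), (8783649, 175, 0), (2031657, 177, 1), (1589901, 179, 0),
  (8619033, 180, 0), (10765331, 181, 1), (4597797, 184, 1), (10666625, 187, 1), (8471941, 190, 0), (3297305, 191, 0), (8733800, 191, 1), (3719203, 192, 0),
  (8521420, 192, 1), (692282, 194, 1), (10554382, 195, 1), (8660134, 196, 1), (4900873, 197, 1), (346141, 200, 0), (9456930, 203, 0), (9158944, 206, 0),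
  (4346506, 206, 1), (8593633, 210, 0), (210955, 211, 0), (8484900, 211, 1), (1188915, 212, 1), (8834052, 213, 0), (8925710, 217, 0), (475812, 219, 0),
  (2263063, 221, 1), (2627629, 223, 0), (5268006, 224, 1), (13142054, 228, 0), (140167, 228, 1), (8546577, 229, 1), (402026, 230, 0), (115766, 236, 1),
  (442481, 237, 0), (4330601, 243, 0), (2491452, 244, 0), (3227948, 247, 1), (459847, 250, 1), (10768524, 260, 1), (5902343, 262, 1), (8966165, 268, 1)]

theorem osGens_ok : ∀ d ∈ osGens, tablesOK d.1 d.2 = true ∧ codeOK d.2 = true ∧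
    pull (tb d.2) (cw 47) = cw 47 := by decide +kernel

theorem osGens_mem : ∀ d ∈ osGens, tablesOK d.1 d.2 = true ∧ gperm d ∈ stabM24 (pts (cw 47)) := by
  intro d hd
  obtain ⟨h1, h2, h3⟩ := osGens_ok d hd
  refine ⟨h1, mem_stabM24.mpr ⟨gperm_mem h1 h2, ?_⟩⟩
  rw [gperm_smul_pts h1, h3]

theorem osTree0_ok : treeOK osGens osTree0 = true := by decide +kernel
theorem osTree2_ok : treeOK osGens osTree2 = true := by decide +kernel
theorem osTree4_ok : treeOK osGens osTree4 = true := by decide +kernel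

theorem osTree0_all : ∀ m < 4096, wt (cw m) = 8 → wt (cw m &&& cw 47) = 0 →
    osTree0.any (fun e => e.1 == cw m) = true := forall_lt_4096 (by decide +kernel)
theorem osTree2_all : ∀ m < 4096, wt (cw m) = 8 → wt (cw m &&& cw 47) = 2 →
    osTree2.any (fun e => e.1 == cw m) = true := forall_lt_4096 (by decide +kernel)
theorem osTree4_all : ∀ m < 4096, wt (cw m) = 8 → wt (cw m &&& cw 47) = 4 →
    osTree4.any (fun e => e.1 == cw m) = true := forall_lt_4096 (by decide +kernel)

theorem octad_inter_cases {m : ℕ} (hm : m < 4096) (hw : wt (cw m) = 8) :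
    wt (cw m &&& cw 47) = 0 ∨ wt (cw m &&& cw 47) = 2 ∨ wt (cw m &&& cw 47) = 4 ∨ m = 47 := by
  by_cases h47 : m = 47
  · exact Or.inr (Or.inr (Or.inr h47))
  · have h1 := card_inter_cw m 47
    have hlt : m ^^^ 47 < 4096 := Nat.xor_lt_two_pow (n := 12) hm (by norm_num)
    have h2 := weights (m ^^^ 47) hlt
    have h3 := wt_pos (m ^^^ 47) hlt (xor_ne_zero h47)
    have h4 : wt (cw 47) = 8 := by decide +kernel
    rw [← pts_and, card_pts, hw, h4] at h1
    omega

theorem reach_of_tree {L : List (ℕ × ℕ × ℕ)} (hL : treeOK osGens L = true) {m m' : ℕ}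
    (h : L.any (fun e => e.1 == cw m) = true) (h' : L.any (fun e => e.1 == cw m') = true) :
    ∃ g ∈ stabM24 (pts (cw 47)), g • pts (cw m) = pts (cw m') := by
  obtain ⟨i, hi, hie⟩ := exists_index_of_any h
  obtain ⟨i', hi', hie'⟩ := exists_index_of_any h'
  obtain ⟨g, hg, hgm⟩ := tree_spec _ osGens osGens_mem L hL i hi
  obtain ⟨g', hg', hgm'⟩ := tree_spec _ osGens osGens_mem L hL i' hi'
  rw [hie] at hgm
  rw [hie'] at hgm'
  refine ⟨g' * g⁻¹, Subgroup.mul_mem _ hg' (Subgroup.inv_mem _ hg), ?_⟩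
  rw [mul_smul, ← hgm, inv_smul_smul, hgm']

/-- The stabiliser of the base octad is transitive on the octads meeting it in a given number
of points. -/
theorem o0_stab_transitive {o' o'' : Finset GolayPt} (ho' : o' ∈ octads) (ho'' : o'' ∈ octads)
    (h : (pts (cw 47) ∩ o').card = (pts (cw 47) ∩ o'').card) :
    ∃ g ∈ stabM24 (pts (cw 47)), g • o' = o'' := by
  obtain ⟨m, hm, hw, rfl⟩ := exists_of_mem_octads ho'
  obtain ⟨m', hm', hw', rfl⟩ := exists_of_mem_octads ho''
  rw [← pts_and, ← pts_and, card_pts, card_pts, Nat.land_comm, Nat.land_comm (cw 47)] at h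
  rcases octad_inter_cases hm hw with h0 | h0 | h0 | h0
  · exact reach_of_tree osTree0_ok (osTree0_all m hm hw h0) (osTree0_all m' hm' hw' (h ▸ h0))
  · exact reach_of_tree osTree2_ok (osTree2_all m hm hw h0) (osTree2_all m' hm' hw' (h ▸ h0))
  · exact reach_of_tree osTree4_ok (osTree4_all m hm hw h0) (osTree4_all m' hm' hw' (h ▸ h0))
  · subst h0
    have h8 : wt (cw 47 &&& cw 47) = 8 := by decide +kernel
    rw [h8] at h
    rcases octad_inter_cases hm' hw' with h1 | h1 | h1 | h1
    · omega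
    · omega
    · omega
    · subst h1
      exact ⟨1, Subgroup.one_mem _, one_smul _ _⟩

theorem octad_stab_transitive {o o' o'' : Finset GolayPt} (ho : o ∈ octads) (ho' : o' ∈ octads)
    (ho'' : o'' ∈ octads) (h : (o ∩ o').card = (o ∩ o'').card) :
    ∃ g ∈ M24, g • o = o ∧ g • o' = o'' := by
  obtain ⟨g0, hg0, hg0o⟩ := octads_transitive ho o0_mem
  have h1 : (pts (cw 47) ∩ g0 • o').card = (pts (cw 47) ∩ g0 • o'').card := by
    rw [← hg0o, ← Finset.smul_finset_inter, ← Finset.smul_finset_inter, Finset.card_smul_finset,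
      Finset.card_smul_finset]
    exact h
  obtain ⟨s, hs, hso⟩ := o0_stab_transitive (smul_mem_octads' hg0 ho') (smul_mem_octads' hg0 ho'') h1
  rw [mem_stabM24] at hs
  refine ⟨g0⁻¹ * s * g0, Subgroup.mul_mem _ (Subgroup.mul_mem _ (Subgroup.inv_mem _ hg0) hs.1) hg0,
    ?_, ?_⟩
  · rw [mul_smul, mul_smul, hg0o, hs.2, ← hg0o, inv_smul_smul]
  · rw [mul_smul, mul_smul, hso, inv_smul_smul]

end Cfsg.Agent.helper2.Golay
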