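import Mathlib
import Cfsg.Agent.Lib_helper2_M24g

set_option autoImplicit false
set_option linter.constructorNameAsVariable false

namespace Cfsg.Agent.helper2.Golay

open Cfsg Cfsg.Agent.helper27
open scoped Pointwise

theorem extend_emb' {s : Finset GolayPt} {k : ℕ} (hk : k ≤ 5) (hs : 5 ≤ s.card)
    (x : Fin k ↪ GolayPt) (hx : ∀ i, x i ∈ s) : ∃ x5 : Fin 5 ↪ GolayPt, (∀ i, x5 i ∈ s) ∧
      ∀ i : Fin k, x5 (Fin.castLE hk i) = x i := by
  let x' : Fin k ↪ s := ⟨fun i => ⟨x i, hx i⟩, fun i j h => x.injective (Subtype.ext_iff.mp h)⟩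
  have hcard : 5 ≤ Nat.card s := by
    rw [Nat.card_eq_fintype_card, Fintype.card_coe]
    exact hs
  obtain ⟨x5', hx5'⟩ := Fin.Embedding.restrictSurjective_of_le_natCard hk hcard x'
  refine ⟨x5'.trans (Function.Embedding.subtype _), fun i => (x5' i).2, ?_⟩
  intro i
  have := DFunLike.congr_fun hx5' i
  exact congrArg Subtype.val this

/-- Embeddings into a finset. -/
noncomputable def embInto (k : ℕ) (s : Finset GolayPt) : Finset (Fin k ↪ GolayPt) :=
  Finset.univ.filter (fun z => ∀ i, z i ∈ s)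

theorem mem_embInto {k : ℕ} {s : Finset GolayPt} {z : Fin k ↪ GolayPt} :
    z ∈ embInto k s ↔ ∀ i, z i ∈ s := by
  simp [embInto]

theorem card_embInto (k : ℕ) (s : Finset GolayPt) :
    (embInto k s).card = Nat.descFactorial s.card k := by
  have h1 : (embInto k s).card = Fintype.card (Fin k ↪ ↥s) := by
    rw [← Fintype.card_coe]
    apply Fintype.card_congr
    exact {
      toFun := fun z => ⟨fun i => ⟨z.1 i, mem_embInto.mp z.2 i⟩,
        fun i j h => z.1.injective (Subtype.ext_iff.mp h)⟩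
      invFun := fun w => ⟨w.trans (Function.Embedding.subtype _),
        mem_embInto.mpr (fun i => (w i).2)⟩
      left_inv := fun z => by
        apply Subtype.ext
        apply Function.Embedding.ext
        intro i
        rfl
      right_inv := fun w => by
        apply Function.Embedding.ext
        intro i
        rfl }
  rw [h1, Fintype.card_embedding_eq, Fintype.card_coe, Fintype.card_fin]

/-- The `k`-flags: a dodecad with `k` distinct ordered points on it. -/
def kflagSet (k : ℕ) : Set (Finset GolayPt × (Fin k ↪ GolayPt)) :=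
  {x | x.1 ∈ dodecads ∧ ∀ i, x.2 i ∈ x.1}

theorem ncard_kflagSet (k : ℕ) : (kflagSet k).ncard = 2576 * Nat.descFactorial 12 k := by
  have h : kflagSet k = ↑(((weightFinset 12).sigma (fun d' => embInto k d')).map
      (Equiv.sigmaEquivProd (Finset GolayPt) (Fin k ↪ GolayPt)).toEmbedding) := by
    ext ⟨d', z'⟩
    rw [Finset.mem_coe, Finset.mem_map_equiv, Finset.mem_sigma]
    show (d' ∈ wordsOfWeight (golayCode : Set (GolayPt → ZMod 2)) 12 ∧ ∀ i, z' i ∈ d') ↔ _
    rw [wordsOfWeight_eq, Finset.mem_coe, ← mem_embInto]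
    rfl
  rw [h, Set.ncard_coe_finset, Finset.card_map, Finset.card_sigma]
  have h2 : ∀ d' ∈ weightFinset 12, (embInto k d').card = Nat.descFactorial 12 k := by
    intro d' hd'
    rw [card_embInto, card_of_mem_weightFinset hd']
  rw [Finset.sum_congr rfl h2, Finset.sum_const, card_weightFinset, count12]
  rfl

theorem orbit_kflag {k : ℕ} (hk : k ≤ 5) {d : Finset GolayPt} (hd : d ∈ dodecads)
    (z : Fin k ↪ GolayPt) (hz : ∀ i, z i ∈ d) : MulAction.orbit M24 (d, z) = kflagSet k := by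
  ext ⟨d', z'⟩
  rw [MulAction.mem_orbit_iff]
  constructor
  · rintro ⟨g, hg⟩
    rw [Prod.smul_mk, Prod.mk.injEq] at hg
    obtain ⟨rfl, rfl⟩ := hg
    exact ⟨smul_mem_dodecads' g.2 hd, fun i => Finset.smul_mem_smul_finset (hz i)⟩
  · rintro ⟨hd', hz'⟩
    change d' ∈ dodecads at hd'
    change ∀ i, z' i ∈ d' at hz'
    obtain ⟨x5, hx5, hx5z⟩ := extend_emb' hk (by rw [card_of_mem_dodecads hd]; norm_num) z hz
    obtain ⟨y5, hy5, hy5z⟩ := extend_emb' hk (by rw [card_of_mem_dodecads hd']; norm_num) z' hz'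
    obtain ⟨g, hg, hgd, hgx⟩ := dodecad_five_transitive hd hd' x5 y5 hx5 hy5
    refine ⟨⟨g, hg⟩, ?_⟩
    rw [Prod.smul_mk, Prod.mk.injEq]
    refine ⟨hgd, ?_⟩
    apply Function.Embedding.ext
    intro i
    show g (z i) = z' i
    rw [← hx5z i, hgx, hy5z i]

theorem card_stab_kflag {k : ℕ} (hk : k ≤ 5) {d : Finset GolayPt} (hd : d ∈ dodecads)
    (z : Fin k ↪ GolayPt) (hz : ∀ i, z i ∈ d) :
    2576 * Nat.descFactorial 12 k * Nat.card (MulAction.stabilizer M24 (d, z)) = 244823040 := by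
  have h1 : (MulAction.stabilizer M24 (d, z)).index = 2576 * Nat.descFactorial 12 k :=
    (MulAction.index_stabilizer M24 (d, z)).trans
      ((congrArg Set.ncard (orbit_kflag hk hd z hz)).trans (ncard_kflagSet k))
  have h2 := Subgroup.index_mul_card (MulAction.stabilizer M24 (d, z))
  rw [h1, card_M24] at h2
  exact h2

/-- Three distinct points as an embedding. -/
def emb3 {p q r : GolayPt} (hpq : p ≠ q) (hpr : p ≠ r) (hqr : q ≠ r) : Fin 3 ↪ GolayPt :=
  ⟨![p, q, r], by
    intro i j h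
    fin_cases i <;> fin_cases j <;> simp_all⟩

theorem stab_three_eq (d : Finset GolayPt) {p q r : GolayPt} (hpq : p ≠ q) (hpr : p ≠ r)
    (hqr : q ≠ r) :
    MulAction.stabilizer M24 d ⊓ MulAction.stabilizer M24 p ⊓ MulAction.stabilizer M24 q ⊓
      MulAction.stabilizer M24 r = MulAction.stabilizer M24 (d, emb3 hpq hpr hqr) := by
  ext g
  simp only [Subgroup.mem_inf, MulAction.mem_stabilizer_iff]
  constructor
  · rintro ⟨⟨⟨h1, h2⟩, h3⟩, h4⟩
    apply Prod.ext
    · exact h1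
    · apply Function.Embedding.ext
      intro i
      fin_cases i
      · exact h2
      · exact h3
      · exact h4
  · intro h
    have h1 : g • d = d := congrArg Prod.fst h
    have h2 : g • emb3 hpq hpr hqr = emb3 hpq hpr hqr := congrArg Prod.snd h
    exact ⟨⟨⟨h1, DFunLike.congr_fun h2 0⟩, DFunLike.congr_fun h2 1⟩, DFunLike.congr_fun h2 2⟩

theorem three_stab_card {d : Finset GolayPt} (hd : d ∈ dodecads) {p q r : GolayPt} (hp : p ∈ d)
    (hq : q ∈ d) (hr : r ∈ d) (hpq : p ≠ q) (hpr : p ≠ r) (hqr : q ≠ r) :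
    Nat.card ↥(MulAction.stabilizer M24 d ⊓ MulAction.stabilizer M24 p ⊓
      MulAction.stabilizer M24 q ⊓ MulAction.stabilizer M24 r) = 72 := by
  rw [stab_three_eq d hpq hpr hqr]
  have hz : ∀ i, emb3 hpq hpr hqr i ∈ d := by
    intro i
    fin_cases i
    · exact hp
    · exact hq
    · exact hr
  have h1 := card_stab_kflag (by norm_num : 3 ≤ 5) hd (emb3 hpq hpr hqr) hz
  have h2 : Nat.descFactorial 12 3 = 1320 := rfl
  rw [h2] at h1
  omega

theorem three_stab_transitive {d : Finset GolayPt} (hd : d ∈ dodecads) {p q r : GolayPt}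
    (hp : p ∈ d) (hq : q ∈ d) (hr : r ∈ d) (hpq : p ≠ q) (hpr : p ≠ r) (hqr : q ≠ r)
    {x y : GolayPt} (hx : x ∉ d) (hy : y ∉ d) :
    ∃ g ∈ M24, g • d = d ∧ g p = p ∧ g q = q ∧ g r = r ∧ g x = y := by
  have hz : ∀ i, emb3 hpq hpr hqr i ∈ d := by
    intro i
    fin_cases i
    · exact hp
    · exact hq
    · exact hr
  obtain ⟨z5, hz5, hz5z⟩ := extend_emb' (by norm_num : 3 ≤ 5)
    (by rw [card_of_mem_dodecads hd]; norm_num) (emb3 hpq hpr hqr) hz
  obtain ⟨k1, hk1, hk1z, hk1d⟩ := dodecad_to_base hd z5 hz5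
  have hnot : ∀ u, u ∉ d → k1 u ∉ pts d0m := by
    intro u hu hcon
    rw [← hk1d] at hcon
    exact hu ((Finset.smul_mem_smul_finset_iff k1).mp hcon)
  obtain ⟨E, hE, hEfix, hEab, hEd⟩ := exists_move_compl (hnot x hx) (hnot y hy)
  have hfix : ∀ i : Fin 3, (k1⁻¹ * E * k1) (emb3 hpq hpr hqr i) = emb3 hpq hpr hqr i := by
    intro i
    rw [Equiv.Perm.mul_apply, Equiv.Perm.mul_apply, Equiv.Perm.inv_eq_iff_eq, ← hz5z i, hk1z]
    exact hEfix i.val i.2
  refine ⟨k1⁻¹ * E * k1,
    Subgroup.mul_mem _ (Subgroup.mul_mem _ (Subgroup.inv_mem _ hk1) hE) hk1, ?_, hfix 0, hfix 1,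
    hfix 2, ?_⟩
  · rw [mul_smul, mul_smul, hk1d, hEd, ← hk1d, inv_smul_smul]
  · rw [Equiv.Perm.mul_apply, Equiv.Perm.mul_apply, hEab, perm_inv_apply]

end Cfsg.Agent.helper2.Golay
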