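import Mathlib
import Cfsg.Agent.Lib_helper2_M24h

set_option autoImplicit false
set_option linter.constructorNameAsVariable false

namespace Cfsg.Agent.helper2.Golay

open Cfsg Cfsg.Agent.helper27
open scoped Pointwise

/-- Intersection size with the base octad, for octads (99 otherwise). -/
def ixo (m : ℕ) : ℕ := if wt (cw m) = 8 then wt (cw 47 &&& cw m) else 99

theorem ixo_count0 : ((Finset.range 4096).filter (fun m => ixo m = 0)).card = 30 := by
  rw [count_rows]
  decide +kernel

theorem ixo_count2 : ((Finset.range 4096).filter (fun m => ixo m = 2)).card = 448 := by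
  rw [count_rows]
  decide +kernel

theorem ixo_count4 : ((Finset.range 4096).filter (fun m => ixo m = 4)).card = 280 := by
  rw [count_rows]
  decide +kernel

theorem ixo_count8 : ((Finset.range 4096).filter (fun m => ixo m = 8)).card = 1 := by
  rw [count_rows]
  decide +kernel

theorem octads_eq : octads = ↑(weightFinset 8) := wordsOfWeight_eq 8

/-- The octads meeting `o` in `k` points. -/
noncomputable def octClass (o : Finset GolayPt) (k : ℕ) : Finset (Finset GolayPt) :=
  (weightFinset 8).filter (fun o' => (o ∩ o').card = k)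

theorem mem_octClass {o o' : Finset GolayPt} {k : ℕ} :
    o' ∈ octClass o k ↔ o' ∈ octads ∧ (o ∩ o').card = k := by
  unfold octClass
  rw [Finset.mem_filter, octads_eq, Finset.mem_coe]

theorem card_octClass_o0 (k : ℕ) (hk : k ≠ 99) :
    (octClass (pts (cw 47)) k).card = ((Finset.range 4096).filter (fun m => ixo m = k)).card := by
  have h : octClass (pts (cw 47)) k
      = Finset.image (fun m => pts (cw m)) ((Finset.range 4096).filter (fun m => ixo m = k)) := by
    ext o'
    rw [mem_octClass, Finset.mem_image]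
    constructor
    · rintro ⟨ho', hc⟩
      obtain ⟨m, hm, hw, rfl⟩ := exists_of_mem_octads ho'
      refine ⟨m, ?_, rfl⟩
      rw [Finset.mem_filter, Finset.mem_range]
      refine ⟨hm, ?_⟩
      unfold ixo
      rw [if_pos hw, ← card_pts, pts_and]
      exact hc
    · rintro ⟨m, hm, rfl⟩
      rw [Finset.mem_filter, Finset.mem_range] at hm
      obtain ⟨hm, hix⟩ := hm
      unfold ixo at hix
      split_ifs at hix with hw
      · refine ⟨pts_mem_octads hm hw, ?_⟩
        rw [← pts_and, card_pts]
        exact hix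
      · exact absurd hix.symm hk
  rw [h, Finset.card_image_of_injOn]
  intro m hm m' hm' hmm
  rw [Finset.coe_filter, Set.mem_ofPred_eq, Finset.mem_range] at hm hm'
  exact cw_injOn hm.1 hm'.1 hmm

theorem card_octClass {o : Finset GolayPt} (ho : o ∈ octads) (k : ℕ) :
    (octClass o k).card = (octClass (pts (cw 47)) k).card := by
  obtain ⟨g, hg, hgo⟩ := octads_transitive ho o0_mem
  apply Finset.card_bij (fun o' _ => g • o')
  · intro o' ho'
    rw [mem_octClass] at ho' ⊢
    refine ⟨smul_mem_octads' hg ho'.1, ?_⟩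
    rw [← hgo, ← Finset.smul_finset_inter, Finset.card_smul_finset]
    exact ho'.2
  · intro a _ b _ hab
    exact MulAction.injective g hab
  · intro o'' ho''
    rw [mem_octClass] at ho''
    refine ⟨g⁻¹ • o'', ?_, smul_inv_smul g o''⟩
    rw [mem_octClass]
    refine ⟨smul_mem_octads' (Subgroup.inv_mem _ hg) ho''.1, ?_⟩
    rw [← ho''.2, ← hgo]
    have : g • o ∩ o'' = g • (o ∩ g⁻¹ • o'') := by
      rw [Finset.smul_finset_inter, smul_inv_smul]
    rw [this, Finset.card_smul_finset]

theorem card_octClass0 {o : Finset GolayPt} (ho : o ∈ octads) : (octClass o 0).card = 30 := by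
  rw [card_octClass ho, card_octClass_o0 0 (by norm_num), ixo_count0]

theorem card_octClass2 {o : Finset GolayPt} (ho : o ∈ octads) : (octClass o 2).card = 448 := by
  rw [card_octClass ho, card_octClass_o0 2 (by norm_num), ixo_count2]

theorem card_octClass4 {o : Finset GolayPt} (ho : o ∈ octads) : (octClass o 4).card = 280 := by
  rw [card_octClass ho, card_octClass_o0 4 (by norm_num), ixo_count4]

theorem card_octClass8 {o : Finset GolayPt} (ho : o ∈ octads) : (octClass o 8).card = 1 := by
  rw [card_octClass ho, card_octClass_o0 8 (by norm_num), ixo_count8]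

theorem octads_inter_cases {o o' : Finset GolayPt} (ho : o ∈ octads) (ho' : o' ∈ octads) :
    (o ∩ o').card = 0 ∨ (o ∩ o').card = 2 ∨ (o ∩ o').card = 4 ∨ (o ∩ o').card = 8 := by
  obtain ⟨m, hm, hw, rfl⟩ := exists_of_mem_octads ho
  obtain ⟨m', hm', hw', rfl⟩ := exists_of_mem_octads ho'
  have h1 := card_inter_cw m m'
  have hlt : m ^^^ m' < 4096 := Nat.xor_lt_two_pow (n := 12) hm hm'
  have h2 := weights (m ^^^ m') hlt
  rw [hw, hw'] at h1
  omega

/-! ### Pairs of octads -/

/-- Ordered pairs of octads meeting in `k` points. -/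
def pairSet (k : ℕ) : Set (Finset GolayPt × Finset GolayPt) :=
  {x | x.1 ∈ octads ∧ x.2 ∈ octads ∧ (x.1 ∩ x.2).card = k}

theorem ncard_pairSet (k n : ℕ) (hn : ∀ o ∈ octads, (octClass o k).card = n) :
    (pairSet k).ncard = 759 * n := by
  have h : pairSet k = ↑(((weightFinset 8).sigma (fun a => octClass a k)).map
      (Equiv.sigmaEquivProd (Finset GolayPt) (Finset GolayPt)).toEmbedding) := by
    ext ⟨a, b⟩
    rw [Finset.mem_coe, Finset.mem_map_equiv, Finset.mem_sigma]
    show (a ∈ octads ∧ b ∈ octads ∧ (a ∩ b).card = k) ↔ a ∈ weightFinset 8 ∧ b ∈ octClass a k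
    rw [mem_octClass, octads_eq, Finset.mem_coe]
  rw [h, Set.ncard_coe_finset, Finset.card_map, Finset.card_sigma]
  have h2 : ∀ a ∈ weightFinset 8, (octClass a k).card = n := by
    intro a ha
    apply hn
    rw [octads_eq]
    exact ha
  rw [Finset.sum_congr rfl h2, Finset.sum_const, card_weightFinset8]
  rfl

theorem stab_octpair_eq (o o' : Finset GolayPt) :
    MulAction.stabilizer M24 o ⊓ MulAction.stabilizer M24 o'
      = MulAction.stabilizer M24 (o, o') := by
  ext g
  simp only [Subgroup.mem_inf, MulAction.mem_stabilizer_iff]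
  constructor
  · rintro ⟨h1, h2⟩
    exact Prod.ext h1 h2
  · intro h
    exact ⟨congrArg Prod.fst h, congrArg Prod.snd h⟩

theorem orbit_octpair {o o' : Finset GolayPt} (ho : o ∈ octads) (ho' : o' ∈ octads) :
    MulAction.orbit M24 (o, o') = pairSet (o ∩ o').card := by
  ext ⟨a, b⟩
  rw [MulAction.mem_orbit_iff]
  constructor
  · rintro ⟨g, hg⟩
    have h1 : g • o = a := congrArg Prod.fst hg
    have h2 : g • o' = b := congrArg Prod.snd hg
    subst h1 h2
    refine ⟨smul_mem_octads' g.2 ho, smul_mem_octads' g.2 ho', ?_⟩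
    show ((g : Equiv.Perm GolayPt) • o ∩ (g : Equiv.Perm GolayPt) • o').card = _
    rw [← Finset.smul_finset_inter, Finset.card_smul_finset]
  · rintro ⟨ha, hb, hab⟩
    change a ∈ octads at ha
    change b ∈ octads at hb
    change (a ∩ b).card = (o ∩ o').card at hab
    obtain ⟨g1, hg1, hg1o⟩ := octads_transitive ho ha
    have h1 : (a ∩ g1 • o').card = (a ∩ b).card := by
      rw [hab, ← hg1o, ← Finset.smul_finset_inter, Finset.card_smul_finset]
    obtain ⟨g2, hg2, hg2a, hg2b⟩ := octad_stab_transitive ha (smul_mem_octads' hg1 ho') hb h1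
    refine ⟨⟨g2 * g1, Subgroup.mul_mem _ hg2 hg1⟩, ?_⟩
    apply Prod.ext
    · show (g2 * g1) • o = a
      rw [mul_smul, hg1o, hg2a]
    · show (g2 * g1) • o' = b
      rw [mul_smul, hg2b]

theorem card_stab_octpair {o o' : Finset GolayPt} (ho : o ∈ octads) (ho' : o' ∈ octads) (n : ℕ)
    (hn : ∀ a ∈ octads, (octClass a (o ∩ o').card).card = n) :
    759 * n * Nat.card ↥(MulAction.stabilizer M24 o ⊓ MulAction.stabilizer M24 o')
      = 244823040 := by
  rw [stab_octpair_eq]
  have h1 : (MulAction.stabilizer M24 (o, o')).index = 759 * n :=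
    (MulAction.index_stabilizer M24 (o, o')).trans
      ((congrArg Set.ncard (orbit_octpair ho ho')).trans (ncard_pairSet _ n hn))
  have h2 := Subgroup.index_mul_card (MulAction.stabilizer M24 (o, o'))
  rw [h1, card_M24] at h2
  exact h2

end Cfsg.Agent.helper2.Golay
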