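import Mathlib
import Cfsg.Agent.Lib_helper2_M24i

set_option autoImplicit false
set_option linter.constructorNameAsVariable false

namespace Cfsg.Agent.helper2.Golay

open Cfsg Cfsg.Agent.helper27
open scoped Pointwise

/-! ### Generic machinery for suborbit ("rank") statements -/

/-- The subgroup of `M24` fixing the listed points and stabilising the listed masks. -/
def cfgStab (fixed sets : List ℕ) : Subgroup (Equiv.Perm GolayPt) where
  carrier := {g | g ∈ M24 ∧ (∀ i ∈ fixed, g (pt i) = pt i) ∧ ∀ a ∈ sets, g • pts a = pts a}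
  mul_mem' := by
    rintro g h ⟨hg, hgf, hgs⟩ ⟨hh, hhf, hhs⟩
    refine ⟨Subgroup.mul_mem _ hg hh, ?_, ?_⟩
    · intro i hi
      rw [Equiv.Perm.mul_apply, hhf i hi, hgf i hi]
    · intro a ha
      rw [mul_smul, hhs a ha, hgs a ha]
  one_mem' := ⟨Subgroup.one_mem _, fun _ _ => rfl, fun _ _ => one_smul _ _⟩
  inv_mem' := by
    rintro g ⟨hg, hgf, hgs⟩
    refine ⟨Subgroup.inv_mem _ hg, ?_, ?_⟩
    · intro i hi
      rw [Equiv.Perm.inv_eq_iff_eq]
      exact (hgf i hi).symm
    · intro a ha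
      rw [inv_smul_eq_iff]
      exact (hgs a ha).symm

theorem mem_cfgStab {fixed sets : List ℕ} {g : Equiv.Perm GolayPt} :
    g ∈ cfgStab fixed sets ↔
      g ∈ M24 ∧ (∀ i ∈ fixed, g (pt i) = pt i) ∧ ∀ a ∈ sets, g • pts a = pts a := Iff.rfl

/-- Boolean check that explicit table pairs lie in `cfgStab`. -/
def cfgGensOK (fixed sets : List ℕ) (gens : List (List ℕ × List ℕ)) : Bool :=
  gens.all fun d => tablesOK d.1 d.2 && codeOK d.2 &&
    fixed.all (fun i => decide (i < 24) && (tb d.1 i == i)) &&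
    sets.all (fun a => pull (tb d.2) a == a)

theorem cfgGens_mem {fixed sets : List ℕ} {gens : List (List ℕ × List ℕ)}
    (h : cfgGensOK fixed sets gens = true) :
    ∀ d ∈ gens, tablesOK d.1 d.2 = true ∧ gperm d ∈ cfgStab fixed sets := by
  intro d hd
  unfold cfgGensOK at h
  rw [List.all_eq_true] at h
  have h1 := h d hd
  simp only [Bool.and_eq_true, List.all_eq_true, decide_eq_true_eq, beq_iff_eq] at h1
  obtain ⟨⟨⟨ht, hc⟩, hf⟩, hs⟩ := h1
  refine ⟨ht, gperm_mem ht hc, ?_, ?_⟩
  · intro i hi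
    obtain ⟨hi24, hfi⟩ := hf i hi
    rw [gperm_pt ht hi24, hfi]
  · intro a ha
    rw [gperm_smul_pts ht, hs a ha]

/-- Reachability inside one certified orbit tree. -/
theorem reach_gen (K : Subgroup (Equiv.Perm GolayPt)) (gens : List (List ℕ × List ℕ))
    (hgens : ∀ d ∈ gens, tablesOK d.1 d.2 = true ∧ gperm d ∈ K)
    {L : List (ℕ × ℕ × ℕ)} (hL : treeOK gens L = true) {a a' : ℕ}
    (h : L.any (fun e => e.1 == a) = true) (h' : L.any (fun e => e.1 == a') = true) :
    ∃ g ∈ K, g • pts a = pts a' := by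
  obtain ⟨i, hi, hie⟩ := exists_index_of_any h
  obtain ⟨i', hi', hie'⟩ := exists_index_of_any h'
  obtain ⟨g, hg, hgm⟩ := tree_spec K gens hgens L hL i hi
  obtain ⟨g', hg', hgm'⟩ := tree_spec K gens hgens L hL i' hi'
  rw [hie] at hgm
  rw [hie'] at hgm'
  refine ⟨g' * g⁻¹, Subgroup.mul_mem _ hg' (Subgroup.inv_mem _ hg), ?_⟩
  rw [mul_smul, ← hgm, inv_smul_smul, hgm']

/-- Transitivity on classes from a list of certified trees indexed by the class. -/
theorem rank_reach (K : Subgroup (Equiv.Perm GolayPt)) (gens : List (List ℕ × List ℕ))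
    (hgens : ∀ d ∈ gens, tablesOK d.1 d.2 = true ∧ gperm d ∈ K)
    (trees : List (List (ℕ × ℕ × ℕ))) (hT : trees.all (treeOK gens) = true)
    (cls : ℕ → ℕ)
    (hall : ∀ m < 4096, cls m < trees.length →
      (trees.getD (cls m) []).any (fun e => e.1 == cw m) = true)
    {m m' : ℕ} (hm : m < 4096) (hm' : m' < 4096) (hc : cls m < trees.length)
    (hcc : cls m = cls m') : ∃ g ∈ K, g • pts (cw m) = pts (cw m') := by
  have hmem : trees.getD (cls m) [] ∈ trees := by
    rw [List.getD_eq_getElem _ _ hc]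
    exact List.getElem_mem _
  rw [List.all_eq_true] at hT
  have hL := hT _ hmem
  have h1 := hall m hm hc
  have h2 := hall m' hm' (hcc ▸ hc)
  rw [← hcc] at h2
  exact reach_gen K gens hgens hL h1 h2

/-- Counting a class of code words. -/
theorem ncard_cls (cls : ℕ → ℕ) (k : ℕ) (S : Set (Finset GolayPt))
    (hS : ∀ s, s ∈ S ↔ ∃ m < 4096, cls m = k ∧ s = pts (cw m)) :
    S.ncard = ((Finset.range 4096).filter (fun m => cls m = k)).card := by
  have h : S = ↑(Finset.image (fun m => pts (cw m))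
      ((Finset.range 4096).filter (fun m => cls m = k))) := by
    ext s
    rw [hS, Finset.mem_coe, Finset.mem_image]
    constructor
    · rintro ⟨m, hm, hc, rfl⟩
      exact ⟨m, Finset.mem_filter.mpr ⟨Finset.mem_range.mpr hm, hc⟩, rfl⟩
    · rintro ⟨m, hm, rfl⟩
      rw [Finset.mem_filter, Finset.mem_range] at hm
      exact ⟨m, hm.1, hm.2, rfl⟩
  rw [h, Set.ncard_coe_finset, Finset.card_image_of_injOn]
  intro m hm m' hm' hmm
  rw [Finset.coe_filter, Set.mem_ofPred_eq, Finset.mem_range] at hm hm'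
  exact cw_injOn hm.1 hm'.1 hmm

/-- Transport of a count along a permutation. -/
theorem ncard_smul_eq (g : Equiv.Perm GolayPt) (S T : Set (Finset GolayPt))
    (h : ∀ s, s ∈ S ↔ g • s ∈ T) : S.ncard = T.ncard := by
  have hST : T = (fun s => g • s) '' S := by
    ext t
    constructor
    · intro ht
      refine ⟨g⁻¹ • t, ?_, smul_inv_smul g t⟩
      rw [h, smul_inv_smul]
      exact ht
    · rintro ⟨s, hs, rfl⟩
      exact (h s).mp hs
  rw [hST, Set.ncard_image_of_injective _ (MulAction.injective g)]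

/-- Map an octad to the base octad, sending `k ≤ 5` chosen points of it to the base points. -/
theorem octad_emb_to_base {o : Finset GolayPt} (ho : o ∈ octads) {k : ℕ} (hk : k ≤ 5)
    (x : Fin k ↪ GolayPt) (hx : ∀ i, x i ∈ o) :
    ∃ h ∈ M24, (∀ i : Fin k, h (x i) = pt (bs i.val)) ∧ h • o = pts (cw 47) := by
  have hSt := octads_steiner
  obtain ⟨x5, hx5, hx5x⟩ := extend_emb' hk (by rw [hSt.1 o ho]; norm_num) x hx
  obtain ⟨g1, hg1, hg1x⟩ := exists_map_to_base x5 5 le_rfl
  refine ⟨g1, hg1, ?_, ?_⟩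
  · intro i
    rw [← hx5x i, hg1x _ (by show (Fin.castLE hk i).val < 5; exact (Fin.castLE hk i).2)]
    rfl
  · have hs : (Finset.univ.map x0).card = 5 := by
      rw [Finset.card_map, Finset.card_univ, Fintype.card_fin]
    obtain ⟨b, _, huniq⟩ := hSt.2 _ hs
    have h1 : g1 • o = b := by
      apply huniq
      refine ⟨smul_mem_octads' hg1 ho, ?_⟩
      intro p hp
      rw [Finset.mem_map] at hp
      obtain ⟨i, _, rfl⟩ := hp
      rw [x0_apply, ← hg1x i i.2]
      exact Finset.smul_mem_smul_finset (hx5 i)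
    have h2 : pts (cw 47) = b := by
      apply huniq
      refine ⟨o0_mem, ?_⟩
      intro p hp
      rw [Finset.mem_map] at hp
      obtain ⟨i, _, rfl⟩ := hp
      rw [x0_apply, o0_testBit]
      revert i
      decide
    rw [h1, h2]

theorem mem_pts_pt {a i : ℕ} (hi : i < 24) : pt i ∈ pts a ↔ a.testBit i = true := by
  rw [mem_pts, idx_pt i hi]

theorem smul_mem_octads_iff {g : Equiv.Perm GolayPt} (hg : g ∈ M24) {s : Finset GolayPt} :
    g • s ∈ octads ↔ s ∈ octads := by
  constructor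
  · intro h
    have := smul_mem_octads' (Subgroup.inv_mem _ hg) h
    rwa [inv_smul_smul] at this
  · exact smul_mem_octads' hg

theorem smul_mem_dodecads_iff {g : Equiv.Perm GolayPt} (hg : g ∈ M24) {s : Finset GolayPt} :
    g • s ∈ dodecads ↔ s ∈ dodecads := by
  constructor
  · intro h
    have := smul_mem_dodecads' (Subgroup.inv_mem _ hg) h
    rwa [inv_smul_smul] at this
  · exact smul_mem_dodecads' hg

theorem card_smul_inter (g : Equiv.Perm GolayPt) (s t : Finset GolayPt) :
    (g • s ∩ g • t).card = (s ∩ t).card := by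
  rw [← Finset.smul_finset_inter, Finset.card_smul_finset]

theorem perm_mem_smul_iff (g : Equiv.Perm GolayPt) (p : GolayPt) (s : Finset GolayPt) :
    g p ∈ g • s ↔ p ∈ s := by
  rw [← Equiv.Perm.smul_def, Finset.smul_mem_smul_finset_iff]

/-- Conjugating an element of a base configuration stabiliser back. -/
theorem conj_cfg {fixed sets : List ℕ} {h g0 : Equiv.Perm GolayPt} (hh : h ∈ M24)
    (hg0 : g0 ∈ cfgStab fixed sets) :
    h⁻¹ * g0 * h ∈ M24 ∧ (∀ i ∈ fixed, ∀ x, h x = pt i → (h⁻¹ * g0 * h) x = x) ∧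
      (∀ a ∈ sets, ∀ o : Finset GolayPt, h • o = pts a → (h⁻¹ * g0 * h) • o = o) ∧
      ∀ s t : Finset GolayPt, g0 • (h • s) = h • t → (h⁻¹ * g0 * h) • s = t := by
  obtain ⟨hm, hf, hs⟩ := hg0
  refine ⟨Subgroup.mul_mem _ (Subgroup.mul_mem _ (Subgroup.inv_mem _ hh) hm) hh, ?_, ?_, ?_⟩
  · intro i hi x hx
    rw [Equiv.Perm.mul_apply, Equiv.Perm.mul_apply, hx, hf i hi, ← hx, perm_inv_apply]
  · intro a ha o ho
    rw [mul_smul, mul_smul, ho, hs a ha, ← ho, inv_smul_smul]
  · intro s t hst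
    rw [mul_smul, mul_smul, hst, inv_smul_smul]

/-- A single point as an embedding of `Fin 1`. -/
def emb1 (x : GolayPt) : Fin 1 ↪ GolayPt := ⟨fun _ => x, fun i j _ => Subsingleton.elim i j⟩

/-- Two distinct points as an embedding of `Fin 2`. -/
def emb2 (x y : GolayPt) (h : x ≠ y) : Fin 2 ↪ GolayPt :=
  ⟨fun i => if i = 0 then x else y, by
    intro i j hij
    fin_cases i <;> fin_cases j <;> simp_all⟩

theorem emb2_zero (x y : GolayPt) (h : x ≠ y) : emb2 x y h 0 = x := rfl
theorem emb2_one (x y : GolayPt) (h : x ≠ y) : emb2 x y h 1 = y := rfl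

/-! ### Octads through / avoiding given base points, classified by intersection with the base
octad -/

/-- Class of a code word index: the intersection size with the base octad, for octads containing
the points `inP` and avoiding the points `outP` (99 otherwise). -/
def octCls (inP outP : List ℕ) (m : ℕ) : ℕ :=
  if wt (cw m) = 8 ∧ (inP.all fun i => (cw m).testBit i) = true ∧
      (outP.all fun i => !(cw m).testBit i) = true then wt (cw 47 &&& cw m) else 99

theorem octCls_mem (inP outP : List ℕ) (hin : ∀ i ∈ inP, i < 24) (hout : ∀ i ∈ outP, i < 24)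
    (k : ℕ) (hk : k ≠ 99) (s : Finset GolayPt) :
    (s ∈ octads ∧ (∀ i ∈ inP, pt i ∈ s) ∧ (∀ i ∈ outP, pt i ∉ s) ∧
        (pts (cw 47) ∩ s).card = k) ↔
      ∃ m < 4096, octCls inP outP m = k ∧ s = pts (cw m) := by
  constructor
  · rintro ⟨hs, hp, hq, hc⟩
    obtain ⟨m, hm, hw, rfl⟩ := exists_of_mem_octads hs
    refine ⟨m, hm, ?_, rfl⟩
    unfold octCls
    rw [if_pos, ← card_pts, pts_and]
    · exact hc
    · refine ⟨hw, ?_, ?_⟩
      · rw [List.all_eq_true]
        intro i hi
        exact (mem_pts_pt (hin i hi)).mp (hp i hi)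
      · rw [List.all_eq_true]
        intro i hi
        have := hq i hi
        rw [mem_pts_pt (hout i hi)] at this
        simpa using this
  · rintro ⟨m, hm, hc, rfl⟩
    unfold octCls at hc
    split_ifs at hc with hw
    · obtain ⟨hw8, hi, ho⟩ := hw
      rw [List.all_eq_true] at hi ho
      refine ⟨pts_mem_octads hm hw8, ?_, ?_, ?_⟩
      · intro i hii
        exact (mem_pts_pt (hin i hii)).mpr (hi i hii)
      · intro i hii
        rw [mem_pts_pt (hout i hii)]
        have := ho i hii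
        simpa using this
      · rw [← pts_and, card_pts]
        exact hc
    · exact absurd hc.symm hk

theorem octCls_count (inP outP : List ℕ) (hin : ∀ i ∈ inP, i < 24) (hout : ∀ i ∈ outP, i < 24)
    (k : ℕ) (hk : k ≠ 99) :
    {s : Finset GolayPt | s ∈ octads ∧ (∀ i ∈ inP, pt i ∈ s) ∧ (∀ i ∈ outP, pt i ∉ s) ∧
        (pts (cw 47) ∩ s).card = k}.ncard
      = ((Finset.range 4096).filter (fun m => octCls inP outP m = k)).card :=
  ncard_cls (octCls inP outP) k _ (fun s => octCls_mem inP outP hin hout k hk s)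

theorem inter_o0_le (s : Finset GolayPt) : (pts (cw 47) ∩ s).card ≤ 8 := by
  have := Finset.card_le_card (Finset.inter_subset_left (s₁ := pts (cw 47)) (s₂ := s))
  rw [card_pts] at this
  have h8 : wt (cw 47) = 8 := by decide +kernel
  omega

theorem octCls_trans (inP outP : List ℕ) (hin : ∀ i ∈ inP, i < 24) (hout : ∀ i ∈ outP, i < 24)
    (K : Subgroup (Equiv.Perm GolayPt)) (gens : List (List ℕ × List ℕ))
    (hgens : ∀ d ∈ gens, tablesOK d.1 d.2 = true ∧ gperm d ∈ K)
    (trees : List (List (ℕ × ℕ × ℕ))) (hT : trees.all (treeOK gens) = true)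
    (hlen : trees.length = 9)
    (hall : ∀ m < 4096, octCls inP outP m < trees.length →
      (trees.getD (octCls inP outP m) []).any (fun e => e.1 == cw m) = true)
    {s t : Finset GolayPt} (hs : s ∈ octads) (ht : t ∈ octads)
    (hins : ∀ i ∈ inP, pt i ∈ s) (hint : ∀ i ∈ inP, pt i ∈ t)
    (houts : ∀ i ∈ outP, pt i ∉ s) (houtt : ∀ i ∈ outP, pt i ∉ t)
    (h : (pts (cw 47) ∩ s).card = (pts (cw 47) ∩ t).card) :
    ∃ g ∈ K, g • s = t := by
  have h99 : ∀ u : Finset GolayPt, (pts (cw 47) ∩ u).card ≠ 99 := by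
    intro u
    have := inter_o0_le u
    omega
  obtain ⟨m, hm, hcm, rfl⟩ := (octCls_mem inP outP hin hout _ (h99 s) s).mp ⟨hs, hins, houts, rfl⟩
  obtain ⟨m', hm', hcm', rfl⟩ := (octCls_mem inP outP hin hout _ (h99 t) t).mp
    ⟨ht, hint, houtt, rfl⟩
  have hlt : octCls inP outP m < trees.length := by
    rw [hcm, hlen]
    have := inter_o0_le (pts (cw m))
    omega
  exact rank_reach K gens hgens trees hT (octCls inP outP) hall hm hm' hlt (by rw [hcm, hcm', h])

theorem bs_mem_o0 : ∀ j < 5, pt (bs j) ∈ pts (cw 47) := by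
  intro j hj
  rw [o0_testBit]
  interval_cases j <;> decide

theorem pt4_not_mem_o0 : pt 4 ∉ pts (cw 47) := by
  rw [o0_testBit]
  decide

/-- Map an octad to the base octad, `k ≤ 5` chosen points of it to the base points, and a chosen
point outside it to `pt 4`. -/
theorem octad_out_to_base {o : Finset GolayPt} (ho : o ∈ octads) {k : ℕ} (hk : k ≤ 5)
    (x : Fin k ↪ GolayPt) (hx : ∀ i, x i ∈ o) {y : GolayPt} (hy : y ∉ o) :
    ∃ h ∈ M24, (∀ i : Fin k, h (x i) = pt (bs i.val)) ∧ h • o = pts (cw 47) ∧ h y = pt 4 := by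
  obtain ⟨h1, hh1, hh1x, hh1o⟩ := octad_emb_to_base ho hk x hx
  have hy1 : h1 y ∉ pts (cw 47) := by
    rw [← hh1o, perm_mem_smul_iff]
    exact hy
  obtain ⟨t, ht, hty⟩ := fix_transitive_outside o0_mem hy1 pt4_not_mem_o0
  rw [mem_fixM24] at ht
  refine ⟨t * h1, Subgroup.mul_mem _ ht.1 hh1, ?_, ?_, ?_⟩
  · intro i
    rw [Equiv.Perm.mul_apply, hh1x i]
    exact ht.2 _ (bs_mem_o0 _ (by have := i.2; omega))
  · rw [mul_smul, hh1o]
    ext p
    constructor
    · intro hp
      obtain ⟨q, hq, rfl⟩ := Finset.mem_smul_finset.mp hp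
      rw [Equiv.Perm.smul_def, ht.2 q hq]
      exact hq
    · intro hp
      refine Finset.mem_smul_finset.mpr ⟨p, hp, ?_⟩
      rw [Equiv.Perm.smul_def, ht.2 p hp]
  · rw [Equiv.Perm.mul_apply, hty]

/-- Indicator of the octads containing `inP` and avoiding `outP`. -/
def octAll (inP outP : List ℕ) (m : ℕ) : ℕ :=
  if wt (cw m) = 8 ∧ (inP.all fun i => (cw m).testBit i) = true ∧
      (outP.all fun i => !(cw m).testBit i) = true then 1 else 0

theorem octAll_mem (inP outP : List ℕ) (hin : ∀ i ∈ inP, i < 24) (hout : ∀ i ∈ outP, i < 24)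
    (s : Finset GolayPt) :
    (s ∈ octads ∧ (∀ i ∈ inP, pt i ∈ s) ∧ (∀ i ∈ outP, pt i ∉ s)) ↔
      ∃ m < 4096, octAll inP outP m = 1 ∧ s = pts (cw m) := by
  constructor
  · rintro ⟨hs, hp, hq⟩
    obtain ⟨m, hm, hw, rfl⟩ := exists_of_mem_octads hs
    refine ⟨m, hm, ?_, rfl⟩
    unfold octAll
    rw [if_pos]
    refine ⟨hw, ?_, ?_⟩
    · rw [List.all_eq_true]
      intro i hi
      exact (mem_pts_pt (hin i hi)).mp (hp i hi)
    · rw [List.all_eq_true]
      intro i hi
      have := hq i hi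
      rw [mem_pts_pt (hout i hi)] at this
      simpa using this
  · rintro ⟨m, hm, hc, rfl⟩
    unfold octAll at hc
    split_ifs at hc with hw
    · obtain ⟨hw8, hi, ho⟩ := hw
      rw [List.all_eq_true] at hi ho
      refine ⟨pts_mem_octads hm hw8, ?_, ?_⟩
      · intro i hii
        exact (mem_pts_pt (hin i hii)).mpr (hi i hii)
      · intro i hii
        rw [mem_pts_pt (hout i hii)]
        have := ho i hii
        simpa using this

theorem octAll_count (inP outP : List ℕ) (hin : ∀ i ∈ inP, i < 24) (hout : ∀ i ∈ outP, i < 24) :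
    {s : Finset GolayPt | s ∈ octads ∧ (∀ i ∈ inP, pt i ∈ s) ∧ (∀ i ∈ outP, pt i ∉ s)}.ncard
      = ((Finset.range 4096).filter (fun m => octAll inP outP m = 1)).card :=
  ncard_cls (octAll inP outP) 1 _ (fun s => octAll_mem inP outP hin hout s)

theorem exists_map_two {p q p' q' : GolayPt} (h : p ≠ q) (h' : p' ≠ q') :
    ∃ g ∈ M24, g p = p' ∧ g q = q' := by
  have h2 := m24_k_transitive (k := 2) (by norm_num)
  obtain ⟨g, hg⟩ := h2.exists_smul_eq (emb2 p q h) (emb2 p' q' h')
  exact ⟨g.1, g.2, DFunLike.congr_fun hg 0, DFunLike.congr_fun hg 1⟩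

end Cfsg.Agent.helper2.Golay
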