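import Mathlib
import Cfsg.Agent.Lib_helper27_Co2c
import Cfsg.Agent.Lib_helper2_M24m

set_option autoImplicit false

namespace Cfsg.Agent.helper27

open Cfsg
open scoped Pointwise

/-! ### the stabiliser of three points on the octads through the first and off the others -/

def m21Gens : List (List ℕ × List ℕ) := [
  ([0, 1, 2, 3, 4, 14, 15, 10, 21, 8, 12, 19, 7, 22, 17, 18, 13, 5, 6, 20, 11, 9, 16, 23],
   [0, 1, 2, 3, 4, 17, 18, 12, 9, 21, 7, 20, 10, 16, 5, 6, 22, 14, 15, 11, 19, 8, 13, 23]),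
  ([0, 1, 3, 18, 19, 16, 21, 12, 10, 2, 14, 13, 6, 4, 9, 5, 11, 7, 8, 15, 17, 22, 20, 23],
   [0, 1, 9, 2, 13, 15, 12, 17, 18, 14, 8, 16, 7, 11, 10, 19, 5, 20, 3, 4, 22, 6, 21, 23])]

def m21Tree : List (ℕ × ℕ × ℕ) := [
  (13938692, 0, 0), (12912836, 0, 0), (9568632, 0, 1), (9020484, 1, 0), (11548936, 1, 1), (10537016, 2, 0),
  (11469952, 2, 1), (15207048, 4, 0), (12985424, 4, 1), (9323032, 5, 0), (13443616, 5, 1), (9451104, 6, 0),
  (12638592, 6, 1), (10028808, 7, 0), (12685424, 8, 0), (12075408, 8, 1), (9208708, 9, 1), (13721920, 10, 0),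
  (9537812, 10, 1), (10698836, 11, 1), (8834052, 13, 1), (8773776, 14, 0), (12126304, 14, 1), (11669008, 15, 0),
  (13276672, 15, 1), (11797828, 16, 0), (8426796, 16, 1), (14919680, 17, 0), (11282452, 18, 0), (9055272, 18, 1),
  (8561204, 19, 0), (9310308, 20, 0), (8414120, 20, 1), (8919856, 21, 1), (10021376, 22, 0), (13262980, 23, 1),
  (9769376, 24, 0), (9486564, 24, 1), (10525252, 25, 0), (14828808, 25, 1), (10768524, 26, 0), (8733800, 26, 1),
  (13641904, 27, 1), (14156372, 28, 0), (13148440, 28, 1), (14176296, 29, 0), (12861748, 30, 0), (8978620, 30, 1),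
  (10584520, 31, 1), (8721940, 32, 1), (14551296, 34, 0), (13829156, 35, 0), (9474712, 35, 1), (10513600, 36, 0),
  (8592704, 36, 1), (10687016, 37, 1), (14688364, 38, 1), (13911680, 39, 1), (8521420, 40, 0), (12849992, 40, 1),
  (8581192, 41, 0), (10832640, 41, 1), (13192208, 42, 0), (10170384, 42, 1), (12222476, 43, 1), (16056344, 44, 0),
  (10257456, 44, 1), (9652360, 45, 0), (9929280, 45, 1), (9462812, 47, 0), (9279496, 47, 1), (10790408, 48, 0),
  (14949408, 48, 1), (8401364, 49, 0), (8931660, 49, 1), (9610624, 50, 1), (8484900, 51, 0), (8654232, 52, 0),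
  (14709264, 53, 1), (11055264, 54, 0), (12698124, 56, 0), (9589508, 57, 1), (13009064, 60, 0), (10748656, 60, 1),
  (11150144, 61, 0), (12594948, 61, 1), (9078992, 63, 1), (9701932, 64, 0), (8464984, 65, 0), (9721936, 66, 0),
  (9158944, 66, 1), (8796800, 67, 1), (8694112, 68, 0), (10619300, 68, 1), (12720156, 69, 0), (10232008, 70, 0),
  (8999616, 72, 0), (14714004, 73, 0), (11015256, 73, 1), (8541360, 75, 1), (9204992, 77, 1), (12780432, 78, 0),
  (8855820, 80, 0), (8439632, 83, 0), (15274244, 83, 1), (15762208, 84, 0), (11952160, 90, 0), (8490656, 90, 1),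
  (13108704, 91, 0), (15515712, 92, 0), (10560816, 92, 1), (11028004, 93, 0), (12661896, 93, 1), (13667400, 95, 0),
  (10916112, 95, 1), (15864000, 100, 0), (9968772, 101, 1), (11608708, 104, 0), (12733024, 106, 0), (11654144, 108, 0)]

/-- class of a code word: `0` for the octads through `∞` avoiding `0` and `1` -/
def c0cls (m : ℕ) : ℕ :=
  if helper2.Golay.wt (helper2.Golay.cw m) = 8 ∧ (helper2.Golay.cw m).testBit 23 = true ∧
      (helper2.Golay.cw m).testBit 0 = false ∧ (helper2.Golay.cw m).testBit 1 = false then 0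
  else 99

theorem m21Gens_ok : helper2.Golay.cfgGensOK [23, 0, 1] [] m21Gens = true := by decide +kernel

theorem m21Tree_ok : [m21Tree].all (helper2.Golay.treeOK m21Gens) = true := by decide +kernel

theorem m21Tree_all : ∀ m < 4096, c0cls m < [m21Tree].length →
    (([m21Tree].getD (c0cls m) []).any (fun e => e.1 == helper2.Golay.cw m) = true) :=
  helper2.Golay.forall_lt_4096 (by decide +kernel)

/-- octads through the first base point avoiding the other two -/
def oct0 : Set (Finset GolayPt) :=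
  {o | o ∈ octads ∧ none ∈ o ∧ some 0 ∉ o ∧ some 1 ∉ o}

theorem m21_transitive_oct0 {o o' : Finset GolayPt} (ho : o ∈ oct0) (ho' : o' ∈ oct0) :
    ∃ σ ∈ M24, σ none = none ∧ σ (some 0) = some 0 ∧ σ (some 1) = some 1 ∧ σ • o = o' := by
  obtain ⟨h8, hn, h0, h1⟩ := ho
  obtain ⟨h8', hn', h0', h1'⟩ := ho'
  obtain ⟨m, hm, hw, rfl⟩ := helper2.Golay.exists_of_mem_octads h8
  obtain ⟨m', hm', hw', rfl⟩ := helper2.Golay.exists_of_mem_octads h8'
  rw [helper2.Golay.mem_pts] at hn hn' h0 h0' h1 h1'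
  have i0 : helper2.Golay.idx (some 0) = 0 := by decide
  have i1 : helper2.Golay.idx (some 1) = 1 := by decide
  have i23 : helper2.Golay.idx none = 23 := rfl
  rw [i0] at h0 h0'
  rw [i1] at h1 h1'
  rw [i23] at hn hn'
  have c1 : c0cls m = 0 := by
    unfold c0cls
    rw [if_pos]
    exact ⟨hw, hn, (Bool.not_eq_true _).mp h0, (Bool.not_eq_true _).mp h1⟩
  have c2 : c0cls m' = 0 := by
    unfold c0cls
    rw [if_pos]
    exact ⟨hw', hn', (Bool.not_eq_true _).mp h0', (Bool.not_eq_true _).mp h1'⟩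
  obtain ⟨g, hg, hgo⟩ := helper2.Golay.rank_reach (helper2.Golay.cfgStab [23, 0, 1] []) m21Gens
    (helper2.Golay.cfgGens_mem m21Gens_ok) [m21Tree] m21Tree_ok c0cls m21Tree_all hm hm'
    (by rw [c1]; decide) (by rw [c1, c2])
  obtain ⟨hgM, hfix, _⟩ := helper2.Golay.mem_cfgStab.mp hg
  refine ⟨g, hgM, ?_, ?_, ?_, hgo⟩
  · exact hfix 23 (by decide)
  · exact hfix 0 (by decide)
  · exact hfix 1 (by decide)

end Cfsg.Agent.helper27
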