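import Mathlib
import Cfsg.Agent.Lib_helper27_McL3

set_option autoImplicit false

namespace Cfsg.Agent.helper27

open Cfsg
open scoped Pointwise

/-! ### a non-monomial automorphism fixing the reference triple -/

def sg5_l : List ℕ := [2, 10, 12, 3, 9, 15, 11, 20, 1, 13, 21, 6, 22, 16, 5, 0, 4, 8, 14, 7, 17, 19, 18, 23]
def sg5_r : List ℕ := [15, 8, 0, 3, 16, 14, 11, 19, 17, 4, 1, 6, 2, 9, 18, 5, 13, 20, 22, 21, 7, 10, 12, 23]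
def sg6_l : List ℕ := [20, 0, 7, 12, 16, 1, 4, 17, 8, 5, 10, 6, 9, 22, 13, 21, 15, 14, 11, 2, 3, 18, 19, 23]
def sg6_r : List ℕ := [1, 5, 19, 20, 6, 9, 11, 2, 8, 12, 10, 18, 3, 14, 17, 16, 4, 7, 21, 22, 0, 15, 13, 23]

def sg5 : Equiv.Perm GolayPt where
  toFun := tblFun sg5_l
  invFun := tblFun sg5_r
  left_inv := by decide
  right_inv := by decide

def sg6 : Equiv.Perm GolayPt where
  toFun := tblFun sg6_l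
  invFun := tblFun sg6_r
  left_inv := by decide
  right_inv := by decide

theorem sg5_mem : sg5 ∈ M24 := mem_M24_of_reenc sg5 (by decide)
theorem sg6_mem : sg6 ∈ M24 := mem_M24_of_reenc sg6 (by decide)

/-- an automorphism fixing the reference triple that is not monomial -/
def g3map (x : GolayPt → ℤ) : GolayPt → ℤ := signedPerm sg6 ∅ (hmap (signedPerm sg5 ∅ x))

theorem isCoMap_g3map : IsCoMap g3map :=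
  ((IsCoMap.mono sg5_mem empty_mem_GS).comp isCoMap_hmap).comp (IsCoMap.mono sg6_mem empty_mem_GS)

theorem g3map_chain (d0 d1 d2 d3 d4 d5 d6 : List ℤ)
    (h0 : signedPerm sg5 ∅ (ofList d0) = ofList d1)
    (h1 : signedPerm piA ∅ (ofList d1) = ofList d2)
    (h2 : xiFun (ofList d2) = ofList d3) (h3 : signedPerm piB (cw 7) (ofList d3) = ofList d4)
    (h4 : xiFun (ofList d4) = ofList d5) (h5 : signedPerm sg6 ∅ (ofList d5) = ofList d6) :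
    g3map (ofList d0) = ofList d6 := by
  unfold g3map
  rw [h0, hmap_chain d1 d2 d3 d4 d5 h1 h2 h3 h4, h5]

theorem g3map_u5 : g3map (u5) = u5 := by
  have e : u5 = ofList [1, 1, 1, 1, 1, 1, 1, 1, 1, 1, 1, 1, 1, 1, 1, 1, 1, 1, 1, 1, 1, 1, 1, 5] := by
    decide
  rw [e]
  exact g3map_chain _
    [1, 1, 1, 1, 1, 1, 1, 1, 1, 1, 1, 1, 1, 1, 1, 1, 1, 1, 1, 1, 1, 1, 1, 5]
    [1, 1, 1, 5, 1, 1, 1, 1, 1, 1, 1, 1, 1, 1, 1, 1, 1, 1, 1, 1, 1, 1, 1, 1]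
    [1, 1, 1, 1, -1, -3, -1, -1, -1, -1, -1, -1, -1, -1, -3, -1, -1, -3, -1, -1, -1, -1, -1, 1]
    [3, 3, 3, -1, -1, -1, -1, -1, -1, -1, -1, -1, -1, -1, -1, -1, -1, -1, -1, -1, -1, -1, -1, -1]
    [1, 1, 1, 1, 1, 1, 1, 1, 1, 1, 1, 1, 1, 1, 1, 1, 1, 1, 1, 1, 1, 1, 1, 5]
    _ (by decide) (by decide) (by decide) (by decide) (by decide) (by decide)

theorem g3map_a0 : g3map (a0) = a0 := by
  have e : a0 = ofList [4, 0, 0, 0, 0, 0, 0, 0, 0, 0, 0, 0, 0, 0, 0, 0, 0, 0, 0, 0, 0, 0, 0, 4] := by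
    decide
  rw [e]
  exact g3map_chain _
    [0, 0, 4, 0, 0, 0, 0, 0, 0, 0, 0, 0, 0, 0, 0, 0, 0, 0, 0, 0, 0, 0, 0, 4]
    [0, 0, 0, 4, 0, 0, 0, 0, 0, 0, 0, 0, 0, 0, 4, 0, 0, 0, 0, 0, 0, 0, 0, 0]
    [0, 0, 0, 0, 0, -4, 0, 0, 0, 0, 0, 0, 0, 0, 0, 0, 0, -4, 0, 0, 0, 0, 0, 0]
    [4, 0, 4, 0, 0, 0, 0, 0, 0, 0, 0, 0, 0, 0, 0, 0, 0, 0, 0, 0, 0, 0, 0, 0]
    [0, 4, 0, 0, 0, 0, 0, 0, 0, 0, 0, 0, 0, 0, 0, 0, 0, 0, 0, 0, 0, 0, 0, 4]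
    _ (by decide) (by decide) (by decide) (by decide) (by decide) (by decide)

theorem g3map_xref : g3map (xref) = xref := by
  have e : xref = ofList [0, 4, 0, 0, 0, 0, 0, 0, 0, 0, 0, 0, 0, 0, 0, 0, 0, 0, 0, 0, 0, 0, 0, 4] := by
    decide
  rw [e]
  exact g3map_chain _
    [0, 0, 0, 0, 0, 0, 0, 0, 0, 0, 4, 0, 0, 0, 0, 0, 0, 0, 0, 0, 0, 0, 0, 4]
    [0, 0, 0, 4, 0, 0, 0, 0, 0, 0, 0, 0, 0, 0, 0, 0, 0, 0, 0, 4, 0, 0, 0, 0]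
    [0, 0, 0, 2, 0, -2, -2, -2, 0, 0, 0, 0, 0, 0, -2, 0, 0, -2, 0, 2, 0, -2, 0, 0]
    [2, 2, 2, -2, 0, 2, 0, 0, 0, 0, 0, 0, 0, 0, -2, 0, 0, -2, 0, 0, 0, 0, 0, -2]
    [0, 0, 0, 0, 0, 4, 0, 0, 0, 0, 0, 0, 0, 0, 0, 0, 0, 0, 0, 0, 0, 0, 0, 4]
    _ (by decide) (by decide) (by decide) (by decide) (by decide) (by decide)

theorem g3map_l1 : g3map (pair4 none (some 18) 4 4) = vB (cw 131) ∅ := by
  have e : pair4 none (some 18) 4 4 = ofList [0, 0, 0, 0, 0, 0, 0, 0, 0, 0, 0, 0, 0, 0, 0, 0, 0, 0, 4, 0, 0, 0, 0, 4] := by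
    decide
  have e' : vB (cw 131) ∅ = ofList [2, 2, 0, 0, 0, 0, 0, 2, 0, 0, 0, 0, 2, 2, 2, 0, 0, 0, 0, 0, 2, 0, 0, 2] := by
    decide
  rw [e, e']
  exact g3map_chain _
    [0, 0, 0, 0, 0, 0, 0, 0, 0, 0, 0, 0, 0, 0, 4, 0, 0, 0, 0, 0, 0, 0, 0, 4]
    [0, 0, 0, 4, 0, 0, 0, 0, 0, 0, 0, 0, 0, 0, 0, 0, 0, 0, 0, 0, 0, 4, 0, 0]
    [0, 0, 0, 2, 0, -2, -2, -2, 0, 0, 0, 0, 0, 0, -2, 0, 0, -2, 0, -2, 0, 2, 0, 0]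
    [2, 2, 2, -2, 0, -2, 0, 0, 0, 0, 0, 0, 0, 0, -2, 0, 0, -2, 0, 0, 0, 0, 0, 2]
    [2, 2, 2, 2, 0, 2, 0, 0, 0, 0, 0, 0, 0, 0, 2, 0, 0, 2, 0, 0, 0, 0, 0, 2]
    _ (by decide) (by decide) (by decide) (by decide) (by decide) (by decide)

theorem g3map_l2 : g3map (pair4 none (some 2) 4 4) = vC none (cw 536) := by
  have e : pair4 none (some 2) 4 4 = ofList [0, 0, 4, 0, 0, 0, 0, 0, 0, 0, 0, 0, 0, 0, 0, 0, 0, 0, 0, 0, 0, 0, 0, 4] := by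
    decide
  have e' : vC none (cw 536) = ofList [1, 1, 1, -1, -1, 1, 1, 1, 1, -1, 1, 1, 1, 1, -1, 1, 1, -1, -1, -1, 1, 1, 1, 3] := by
    decide
  rw [e, e']
  exact g3map_chain _
    [0, 0, 0, 0, 0, 0, 0, 0, 0, 0, 0, 0, 4, 0, 0, 0, 0, 0, 0, 0, 0, 0, 0, 4]
    [0, 4, 0, 4, 0, 0, 0, 0, 0, 0, 0, 0, 0, 0, 0, 0, 0, 0, 0, 0, 0, 0, 0, 0]
    [2, -2, 2, 2, 0, -2, 0, 0, 0, 0, 0, 0, 0, 0, -2, 0, 0, -2, 0, 0, 0, 0, 0, 2]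
    [2, 2, 2, 0, 0, 0, 0, 0, 0, 0, 0, 0, -2, 0, 0, 0, 0, -2, 0, 2, -2, 0, -2, 0]
    [1, 1, 1, 1, 1, 1, -1, -1, 1, 1, 1, 1, -1, 1, 1, 1, 1, -1, 1, 1, -1, -1, -1, 3]
    _ (by decide) (by decide) (by decide) (by decide) (by decide) (by decide)

theorem g3map_l3 : g3map (vB (cw 49) ∅) = vC none (cw 2118) := by
  have e : vB (cw 49) ∅ = ofList [2, 0, 0, 0, 2, 2, 0, 0, 0, 0, 0, 0, 0, 0, 0, 0, 0, 2, 0, 2, 0, 2, 2, 2] := by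
    decide
  have e' : vC none (cw 2118) = ofList [1, -1, -1, 1, 1, 1, -1, 1, 1, 1, 1, -1, 1, -1, 1, 1, 1, -1, 1, 1, -1, 1, 1, 3] := by
    decide
  rw [e, e']
  exact g3map_chain _
    [0, 0, 2, 0, 0, 0, 0, 2, 2, 2, 0, 0, 0, 0, 0, 2, 0, 0, 2, 2, 0, 0, 0, 2]
    [2, 0, 0, 2, 0, 0, 2, 0, 2, 2, 0, 0, 0, 0, 2, 0, 2, 2, 0, 0, 0, 0, 0, 0]
    [-1, 1, 1, -1, -1, -3, 1, -1, 1, 1, -1, -1, -1, -1, -1, -1, 1, -1, -1, -1, -1, -1, -1, 1]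
    [3, 1, 1, 1, -1, -1, 1, -1, 1, -1, -1, -1, 1, -1, -1, -1, -1, 1, -1, -1, -1, 1, -1, -1]
    [-1, 1, 1, 1, 1, -1, 1, -1, 1, 1, 1, -1, 1, 1, -1, 1, 1, 1, -1, -1, 1, 1, 1, 3]
    _ (by decide) (by decide) (by decide) (by decide) (by decide) (by decide)

end Cfsg.Agent.helper27
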