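import Mathlib
import Cfsg.Agent.Lib_helper27_McL4

set_option autoImplicit false

namespace Cfsg.Agent.helper27

open Cfsg
open scoped Pointwise

/-! ### the rank 3 action on the 275 points -/

/-- the fixed triple -/
def F5 : Set leechLattice := {u5L, a0L, xrefL}

theorem rorb5_g3map {x : GolayPt → ℤ} (hx : x ∈ leechLattice) : ROrb F5 x (g3map x) := by
  apply ROrb.of_map isCoMap_g3map _ hx
  intro w hw
  rcases hw with rfl | rfl | rfl
  · exact g3map_u5
  · exact g3map_a0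
  · exact g3map_xref

theorem rorb5_m21 {σ : Equiv.Perm GolayPt} (hσ : σ ∈ M24) (h1 : σ none = none)
    (h2 : σ (some 0) = some 0) (h3 : σ (some 1) = some 1) {x : GolayPt → ℤ}
    (hx : x ∈ leechLattice) : ROrb F5 x (signedPerm σ ∅ x) := by
  apply ROrb.of_map (IsCoMap.mono hσ empty_mem_GS) _ hx
  intro w hw
  rcases hw with rfl | rfl | rfl
  · exact signedPerm_u5 h1
  · show signedPerm σ ∅ (pair4 none (some 0) 4 4) = pair4 none (some 0) 4 4
    rw [signedPerm_pair4, h1, h2]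
  · show signedPerm σ ∅ (pair4 none (some 1) 4 4) = pair4 none (some 1) 4 4
    rw [signedPerm_pair4, h1, h3]

theorem exists_M24_four {a b c d a' b' c' d' : GolayPt} (hab : a ≠ b) (hac : a ≠ c) (had : a ≠ d)
    (hbc : b ≠ c) (hbd : b ≠ d) (hcd : c ≠ d) (hab' : a' ≠ b') (hac' : a' ≠ c') (had' : a' ≠ d')
    (hbc' : b' ≠ c') (hbd' : b' ≠ d') (hcd' : c' ≠ d') :
    ∃ σ ∈ M24, σ a = a' ∧ σ b = b' ∧ σ c = c' ∧ σ d = d' := by
  have h4 := helper2.Golay.m24_k_transitive (k := 4) (by norm_num)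
  let x : Fin 4 ↪ GolayPt := ⟨![a, b, c, d], by
    intro i j h
    fin_cases i <;> fin_cases j <;> simp_all⟩
  let y : Fin 4 ↪ GolayPt := ⟨![a', b', c', d'], by
    intro i j h
    fin_cases i <;> fin_cases j <;> simp_all⟩
  obtain ⟨g, hg⟩ := h4.exists_smul_eq x y
  exact ⟨g.1, g.2, congrArg (fun f => f 0) hg, congrArg (fun f => f 1) hg,
    congrArg (fun f => f 2) hg, congrArg (fun f => f 3) hg⟩

/-! ### the classes -/

def o21 : Set (Finset GolayPt) := {o | o ∈ octads ∧ none ∈ o ∧ some 0 ∈ o ∧ some 1 ∈ o}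
def o56 : Set (Finset GolayPt) := {o | o ∈ octads ∧ none ∈ o ∧ some 0 ∈ o ∧ some 1 ∉ o}
def o56' : Set (Finset GolayPt) := {o | o ∈ octads ∧ none ∈ o ∧ some 0 ∉ o ∧ some 1 ∈ o}

def kA : Set (GolayPt → ℤ) :=
  (fun j => pair4 none j 4 4) '' {j | j ≠ none ∧ j ≠ some 0 ∧ j ≠ some 1}
def kB1 : Set (GolayPt → ℤ) := (fun o => vB o ∅) '' o21
def kB0 : Set (GolayPt → ℤ) := (fun o => vB o ∅) '' o56
def kC1 : Set (GolayPt → ℤ) := (fun o => vC none o) '' o56'
def kC0 : Set (GolayPt → ℤ) := (fun o => vC none o) '' oct0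

theorem kA_sub : kA ⊆ mcl0 := by
  rintro x ⟨j, ⟨h1, h2, _⟩, rfl⟩
  rw [mcl0_eq]
  exact Or.inl (Or.inl ⟨j, ⟨h1, h2⟩, rfl⟩)

theorem kB1_sub : kB1 ⊆ mcl0 := by
  rintro x ⟨o, ⟨h1, h2, h3, _⟩, rfl⟩
  rw [mcl0_eq]
  exact Or.inl (Or.inr ⟨o, ⟨h1, h2, h3⟩, rfl⟩)

theorem kB0_sub : kB0 ⊆ mcl0 := by
  rintro x ⟨o, ⟨h1, h2, h3, _⟩, rfl⟩
  rw [mcl0_eq]
  exact Or.inl (Or.inr ⟨o, ⟨h1, h2, h3⟩, rfl⟩)

theorem kC1_sub : kC1 ⊆ mcl0 := by
  rintro x ⟨o, ⟨h1, h2, h3, _⟩, rfl⟩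
  rw [mcl0_eq]
  exact Or.inr ⟨o, ⟨h1, h2, h3⟩, rfl⟩

theorem kC0_sub : kC0 ⊆ mcl0 := by
  rintro x ⟨o, ⟨h1, h2, h3, _⟩, rfl⟩
  rw [mcl0_eq]
  exact Or.inr ⟨o, ⟨h1, h2, h3⟩, rfl⟩

theorem mcl0_split {x : GolayPt → ℤ} (hx : x ∈ mcl0) :
    x = xref ∨ x ∈ kA ∨ x ∈ kB1 ∨ x ∈ kC0 ∨ x ∈ kB0 ∨ x ∈ kC1 := by
  rw [mcl0_eq] at hx
  rcases hx with (hx | hx) | hx
  · obtain ⟨j, ⟨h1, h2⟩, rfl⟩ := hx
    by_cases h3 : j = some 1
    · left; rw [h3]; rfl
    · right; left; exact ⟨j, ⟨h1, h2, h3⟩, rfl⟩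
  · obtain ⟨o, ⟨h1, h2, h3⟩, rfl⟩ := hx
    by_cases h4 : some 1 ∈ o
    · right; right; left; exact ⟨o, ⟨h1, h2, h3, h4⟩, rfl⟩
    · right; right; right; right; left; exact ⟨o, ⟨h1, h2, h3, h4⟩, rfl⟩
  · obtain ⟨o, ⟨h1, h2, h3⟩, rfl⟩ := hx
    by_cases h4 : some 1 ∈ o
    · right; right; right; right; right; exact ⟨o, ⟨h1, h2, h3, h4⟩, rfl⟩
    · right; right; right; left; exact ⟨o, ⟨h1, h2, h3, h4⟩, rfl⟩

theorem dotInt_xref (x : GolayPt → ℤ) : dotInt xref x = 4 * x none + 4 * x (some 1) := by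
  unfold xref pair4
  rw [dotInt_add_left', dotInt_single_left, dotInt_single_left]

theorem dot_xref_xref : dotInt xref xref = 32 := by decide

theorem dot_kA {x : GolayPt → ℤ} (hx : x ∈ kA) : dotInt xref x = 16 := by
  obtain ⟨j, ⟨h1, h2, h3⟩, rfl⟩ := hx
  rw [dotInt_xref]
  beta_reduce
  rw [pair4_apply_left (fun h => h1 h.symm), pair4_apply_other (by decide) (fun h => h3 h.symm)]
  rfl

theorem dot_kB1 {x : GolayPt → ℤ} (hx : x ∈ kB1) : dotInt xref x = 16 := by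
  obtain ⟨o, ⟨_, h2, _, h4⟩, rfl⟩ := hx
  rw [dotInt_xref]
  simp only [vB, Finset.notMem_empty, if_false, h2, h4, if_true]
  rfl

theorem dot_kB0 {x : GolayPt → ℤ} (hx : x ∈ kB0) : dotInt xref x = 8 := by
  obtain ⟨o, ⟨_, h2, _, h4⟩, rfl⟩ := hx
  rw [dotInt_xref]
  simp only [vB, Finset.notMem_empty, if_false, h2, h4, if_true]
  rfl

theorem dot_kC1 {x : GolayPt → ℤ} (hx : x ∈ kC1) : dotInt xref x = 8 := by
  obtain ⟨o, ⟨_, h2, _, h4⟩, rfl⟩ := hx
  rw [dotInt_xref]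
  have h1 : (some (1 : ZMod 23) : GolayPt) ≠ none := by decide
  simp only [vC, h2, h4, if_true, h1, if_false]
  rfl

theorem dot_kC0 {x : GolayPt → ℤ} (hx : x ∈ kC0) : dotInt xref x = 16 := by
  obtain ⟨o, ⟨_, h2, _, h4⟩, rfl⟩ := hx
  rw [dotInt_xref]
  have h1 : (some (1 : ZMod 23) : GolayPt) ≠ none := by decide
  simp only [vC, h2, h4, if_true, h1, if_false]
  rfl

/-! ### orbits inside the classes -/

theorem rorb5_kA {x x' : GolayPt → ℤ} (hx : x ∈ kA) (hx' : x' ∈ kA) : ROrb F5 x x' := by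
  have hxL := mcl0_mem (kA_sub hx)
  obtain ⟨j, ⟨h1, h2, h3⟩, rfl⟩ := hx
  obtain ⟨j', ⟨h1', h2', h3'⟩, rfl⟩ := hx'
  obtain ⟨σ, hσ, e1, e2, e3, e4⟩ := exists_M24_four (a := none) (b := some 0) (c := some 1)
    (d := j) (a' := none) (b' := some 0) (c' := some 1) (d' := j') (by decide) (by decide)
    (fun h => h1 h.symm) (by decide) (fun h => h2 h.symm) (fun h => h3 h.symm) (by decide)
    (by decide) (fun h => h1' h.symm) (by decide) (fun h => h2' h.symm) (fun h => h3' h.symm)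
  have s1 := rorb5_m21 hσ e1 e2 e3 hxL
  beta_reduce at s1
  rw [signedPerm_pair4, e1, e4] at s1
  exact s1

theorem rorb5_kB1 {x x' : GolayPt → ℤ} (hx : x ∈ kB1) (hx' : x' ∈ kB1) : ROrb F5 x x' := by
  have hxL := mcl0_mem (kB1_sub hx)
  obtain ⟨o, ⟨ho, hn, h0, h1⟩, rfl⟩ := hx
  obtain ⟨o', ⟨ho', hn', h0', h1'⟩, rfl⟩ := hx'
  obtain ⟨σ, hσ, e1, e2⟩ := exists_M24_octad_emb (k := 3) (by norm_num) ho ho'
    (emb3 (a := none) (b := some 0) (c := some 1) (by decide) (by decide) (by decide))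
    (emb3 (a := none) (b := some 0) (c := some 1) (by decide) (by decide) (by decide))
    (emb3_mem _ _ _ hn h0 h1) (emb3_mem _ _ _ hn' h0' h1')
  have s1 := rorb5_m21 hσ (e2 0) (e2 1) (e2 2) hxL
  beta_reduce at s1
  rw [signedPerm_vB, e1, Finset.smul_finset_empty] at s1
  exact s1

theorem rorb5_kB0 {x x' : GolayPt → ℤ} (hx : x ∈ kB0) (hx' : x' ∈ kB0) : ROrb F5 x x' := by
  have hxL := mcl0_mem (kB0_sub hx)
  obtain ⟨o, ⟨ho, hn, h0, h1⟩, rfl⟩ := hx
  obtain ⟨o', ⟨ho', hn', h0', h1'⟩, rfl⟩ := hx'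
  obtain ⟨σ, hσ, e1, e2, e3⟩ := exists_M24_octad_emb_out (k := 2) (by norm_num) ho ho'
    (emb2 (a := none) (b := some 0) (by decide)) (emb2 (a := none) (b := some 0) (by decide))
    (emb2_mem _ hn h0) (emb2_mem _ hn' h0') h1 h1'
  have s1 := rorb5_m21 hσ (e2 0) (e2 1) e3 hxL
  beta_reduce at s1
  rw [signedPerm_vB, e1, Finset.smul_finset_empty] at s1
  exact s1

theorem rorb5_kC1 {x x' : GolayPt → ℤ} (hx : x ∈ kC1) (hx' : x' ∈ kC1) : ROrb F5 x x' := by
  have hxL := mcl0_mem (kC1_sub hx)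
  obtain ⟨o, ⟨ho, hn, h0, h1⟩, rfl⟩ := hx
  obtain ⟨o', ⟨ho', hn', h0', h1'⟩, rfl⟩ := hx'
  obtain ⟨σ, hσ, e1, e2, e3⟩ := exists_M24_octad_emb_out (k := 2) (by norm_num) ho ho'
    (emb2 (a := none) (b := some 1) (by decide)) (emb2 (a := none) (b := some 1) (by decide))
    (emb2_mem _ hn h1) (emb2_mem _ hn' h1') h0 h0'
  have f1 : σ none = none := e2 0
  have s1 := rorb5_m21 hσ f1 e3 (e2 1) hxL
  beta_reduce at s1
  rw [signedPerm_vC, f1, e1] at s1
  exact s1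

theorem rorb5_kC0 {x x' : GolayPt → ℤ} (hx : x ∈ kC0) (hx' : x' ∈ kC0) : ROrb F5 x x' := by
  have hxL := mcl0_mem (kC0_sub hx)
  obtain ⟨o, ho, rfl⟩ := hx
  obtain ⟨o', ho', rfl⟩ := hx'
  obtain ⟨σ, hσ, e1, e2, e3, e4⟩ := m21_transitive_oct0 ho ho'
  have s1 := rorb5_m21 hσ e1 e2 e3 hxL
  beta_reduce at s1
  rw [signedPerm_vC, e1, e4] at s1
  exact s1

/-! ### fusing the classes -/

/-- representative of the large orbit -/
def rA : GolayPt → ℤ := pair4 none (some 18) 4 4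

/-- representative of the small orbit -/
def rB : GolayPt → ℤ := vB (cw 49) ∅

theorem rA_mem : rA ∈ kA := ⟨some 18, by decide, rfl⟩

theorem rB_mem : rB ∈ kB0 :=
  ⟨cw 49, ⟨cw_octad (by norm_num) (by decide), by rw [mem_cw_iff]; decide,
    by rw [mem_cw_iff]; decide, by rw [mem_cw_iff]; decide⟩, rfl⟩

theorem rorb5_big {x : GolayPt → ℤ} (hx : x ∈ kA ∨ x ∈ kB1 ∨ x ∈ kC0) : ROrb F5 x rA := by
  rcases hx with hx | hx | hx
  · exact rorb5_kA hx rA_mem
  · have hm : vB (cw 131) ∅ ∈ kB1 :=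
      ⟨cw 131, ⟨cw_octad (by norm_num) (by decide), by rw [mem_cw_iff]; decide,
        by rw [mem_cw_iff]; decide, by rw [mem_cw_iff]; decide⟩, rfl⟩
    have s2 := rorb5_g3map (mcl0_mem (kA_sub rA_mem))
    unfold rA at s2
    rw [g3map_l1] at s2
    exact (rorb5_kB1 hx hm).trans s2.symm
  · have hm : vC none (cw 536) ∈ kC0 :=
      ⟨cw 536, ⟨cw_octad (by norm_num) (by decide), by rw [mem_cw_iff]; decide,
        by rw [mem_cw_iff]; decide, by rw [mem_cw_iff]; decide⟩, rfl⟩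
    have hA : pair4 none (some 2) 4 4 ∈ kA := ⟨some 2, by decide, rfl⟩
    have s2 := rorb5_g3map (mcl0_mem (kA_sub hA))
    rw [g3map_l2] at s2
    exact ((rorb5_kC0 hx hm).trans s2.symm).trans (rorb5_kA hA rA_mem)

theorem rorb5_small {x : GolayPt → ℤ} (hx : x ∈ kB0 ∨ x ∈ kC1) : ROrb F5 x rB := by
  rcases hx with hx | hx
  · exact rorb5_kB0 hx rB_mem
  · have hm : vC none (cw 2118) ∈ kC1 :=
      ⟨cw 2118, ⟨cw_octad (by norm_num) (by decide), by rw [mem_cw_iff]; decide,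
        by rw [mem_cw_iff]; decide, by rw [mem_cw_iff]; decide⟩, rfl⟩
    have s2 := rorb5_g3map (mcl0_mem (kB0_sub rB_mem))
    unfold rB at s2
    rw [g3map_l3] at s2
    exact (rorb5_kC1 hx hm).trans s2.symm

/-! ### counting -/

set_option maxRecDepth 100000 in
theorem count8_21 : ((Finset.range 4096).filter
    (fun k => popc (encN k) = 8 ∧ (encN k).testBit 23 = true ∧ (encN k).testBit 0 = true ∧
      (encN k).testBit 1 = true)).card = 21 := by
  decide +kernel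

set_option maxRecDepth 100000 in
theorem count8_56 : ((Finset.range 4096).filter
    (fun k => popc (encN k) = 8 ∧ (encN k).testBit 23 = true ∧ (encN k).testBit 0 = true ∧
      (encN k).testBit 1 = false)).card = 56 := by
  decide +kernel

set_option maxRecDepth 100000 in
theorem count8_56' : ((Finset.range 4096).filter
    (fun k => popc (encN k) = 8 ∧ (encN k).testBit 23 = true ∧ (encN k).testBit 0 = false ∧
      (encN k).testBit 1 = true)).card = 56 := by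
  decide +kernel

set_option maxRecDepth 100000 in
theorem count8_120 : ((Finset.range 4096).filter
    (fun k => popc (encN k) = 8 ∧ (encN k).testBit 23 = true ∧ (encN k).testBit 0 = false ∧
      (encN k).testBit 1 = false)).card = 120 := by
  decide +kernel

theorem idx_none' : idx (none : GolayPt) = 23 := rfl
theorem idx_some0 : idx (some (0 : ZMod 23)) = 0 := rfl
theorem idx_some1 : idx (some (1 : ZMod 23)) = 1 := rfl

theorem o21_ncard : o21.ncard = 21 := by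
  have h := ncard_GS_mask (fun b => b.card = 8 ∧ none ∈ b ∧ some 0 ∈ b ∧ some 1 ∈ b)
    (fun m => popc m = 8 ∧ m.testBit 23 = true ∧ m.testBit 0 = true ∧ m.testBit 1 = true)
    (fun k _ => by
      rw [cw_card, mem_cw_iff, mem_cw_iff, mem_cw_iff, idx_none', idx_some0, idx_some1])
  rw [count8_21] at h
  rw [← h]
  congr 1
  ext o
  unfold o21 octads wordsOfWeight
  simp only [Set.mem_ofPred_eq]
  tauto

theorem o56_ncard : o56.ncard = 56 := by
  have h := ncard_GS_mask (fun b => b.card = 8 ∧ none ∈ b ∧ some 0 ∈ b ∧ some 1 ∉ b)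
    (fun m => popc m = 8 ∧ m.testBit 23 = true ∧ m.testBit 0 = true ∧ m.testBit 1 = false)
    (fun k _ => by
      rw [cw_card, mem_cw_iff, mem_cw_iff, mem_cw_iff, idx_none', idx_some0, idx_some1]
      simp)
  rw [count8_56] at h
  rw [← h]
  congr 1
  ext o
  unfold o56 octads wordsOfWeight
  simp only [Set.mem_ofPred_eq]
  tauto

theorem o56'_ncard : o56'.ncard = 56 := by
  have h := ncard_GS_mask (fun b => b.card = 8 ∧ none ∈ b ∧ some 0 ∉ b ∧ some 1 ∈ b)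
    (fun m => popc m = 8 ∧ m.testBit 23 = true ∧ m.testBit 0 = false ∧ m.testBit 1 = true)
    (fun k _ => by
      rw [cw_card, mem_cw_iff, mem_cw_iff, mem_cw_iff, idx_none', idx_some0, idx_some1]
      simp)
  rw [count8_56'] at h
  rw [← h]
  congr 1
  ext o
  unfold o56' octads wordsOfWeight
  simp only [Set.mem_ofPred_eq]
  tauto

theorem oct0_ncard : oct0.ncard = 120 := by
  have h := ncard_GS_mask (fun b => b.card = 8 ∧ none ∈ b ∧ some 0 ∉ b ∧ some 1 ∉ b)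
    (fun m => popc m = 8 ∧ m.testBit 23 = true ∧ m.testBit 0 = false ∧ m.testBit 1 = false)
    (fun k _ => by
      rw [cw_card, mem_cw_iff, mem_cw_iff, mem_cw_iff, idx_none', idx_some0, idx_some1]
      simp)
  rw [count8_120] at h
  rw [← h]
  congr 1
  ext o
  unfold oct0 octads wordsOfWeight
  simp only [Set.mem_ofPred_eq]
  tauto

theorem vB_empty_injective {o o' : Finset GolayPt} (h : vB o ∅ = vB o' ∅) : o = o' := by
  have h1 := cls_two_vB o ∅ (Finset.empty_subset _)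
  have h2 := cls_two_vB o' ∅ (Finset.empty_subset _)
  rw [← h1, ← h2, h]

theorem kB1_ncard : kB1.ncard = 21 := by
  unfold kB1
  rw [Set.InjOn.ncard_image, o21_ncard]
  intro o _ o' _ h
  exact vB_empty_injective h

theorem kB0_ncard : kB0.ncard = 56 := by
  unfold kB0
  rw [Set.InjOn.ncard_image, o56_ncard]
  intro o _ o' _ h
  exact vB_empty_injective h

theorem kC1_ncard : kC1.ncard = 56 := by
  unfold kC1
  rw [Set.InjOn.ncard_image, o56'_ncard]
  intro o _ o' _ h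
  exact (vC_injective h).2

theorem kC0_ncard : kC0.ncard = 120 := by
  unfold kC0
  rw [Set.InjOn.ncard_image, oct0_ncard]
  intro o _ o' _ h
  exact (vC_injective h).2

theorem kA_ncard : kA.ncard = 21 := by
  unfold kA
  rw [Set.InjOn.ncard_image]
  · have : {j : GolayPt | j ≠ none ∧ j ≠ some 0 ∧ j ≠ some 1}
        = ((((Finset.univ.erase none).erase (some 0)).erase (some 1) : Finset GolayPt) :
          Set GolayPt) := by
      ext j
      simp
      tauto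
    rw [this, Set.ncard_coe_finset]
    decide
  · intro j hj j' hj' h
    by_contra hne
    have h1 := congrFun h j
    simp only at h1
    rw [pair4_apply_right (fun h => hj.1 h.symm), pair4_apply_other hj.1 hne] at h1
    omega

theorem kA_none {x : GolayPt → ℤ} (hx : x ∈ kA) : x none = 4 := by
  obtain ⟨j, ⟨h1, _, _⟩, rfl⟩ := hx
  exact pair4_apply_left (fun h => h1 h.symm) _ _

theorem kB_none {x : GolayPt → ℤ} (hx : x ∈ kB1 ∨ x ∈ kB0) : x none = 2 := by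
  rcases hx with ⟨o, ⟨_, h2, _, _⟩, rfl⟩ | ⟨o, ⟨_, h2, _, _⟩, rfl⟩ <;>
    simp only [vB, Finset.notMem_empty, if_false, h2, if_true]

theorem kC_none {x : GolayPt → ℤ} (hx : x ∈ kC1 ∨ x ∈ kC0) : x none = 3 := by
  rcases hx with ⟨o, ⟨_, h2, _, _⟩, rfl⟩ | ⟨o, ⟨_, h2, _, _⟩, rfl⟩ <;>
    simp only [vC, h2, if_true]

theorem small_ncard : (kB0 ∪ kC1).ncard = 112 := by
  have f1 : kB0.Finite := Set.finite_of_ncard_ne_zero (by rw [kB0_ncard]; norm_num)
  have f2 : kC1.Finite := Set.finite_of_ncard_ne_zero (by rw [kC1_ncard]; norm_num)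
  rw [ncard_union_sep kB0 kC1 (fun x => x none = 2) (fun x hx => kB_none (Or.inr hx))
    (fun x hx => by rw [kC_none (Or.inl hx)]; decide) f1 f2, kB0_ncard, kC1_ncard]

theorem big_ncard : (kA ∪ kB1 ∪ kC0).ncard = 162 := by
  have f1 : kA.Finite := Set.finite_of_ncard_ne_zero (by rw [kA_ncard]; norm_num)
  have f2 : kB1.Finite := Set.finite_of_ncard_ne_zero (by rw [kB1_ncard]; norm_num)
  have f3 : kC0.Finite := Set.finite_of_ncard_ne_zero (by rw [kC0_ncard]; norm_num)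
  have e1 := ncard_union_sep kA kB1 (fun x => x none = 4) (fun x hx => kA_none hx)
    (fun x hx => by rw [kB_none (Or.inl hx)]; decide) f1 f2
  have e2 := ncard_union_sep (kA ∪ kB1) kC0 (fun x => x none ≠ 3)
    (fun x hx => by
      rcases hx with hx | hx
      · rw [kA_none hx]; decide
      · rw [kB_none (Or.inl hx)]; decide)
    (fun x hx => by rw [kC_none (Or.inr hx)]; decide) (f1.union f2) f3
  rw [e2, e1, kA_ncard, kB1_ncard, kC0_ncard]

end Cfsg.Agent.helper27
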