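import Mathlib
import Cfsg.Agent.Lib_helper27_McL5

set_option autoImplicit false

namespace Cfsg.Agent.helper27

open Cfsg
open scoped Pointwise

/-- neighbours of the point `x` -/
def mclQ (u v x : leechLattice) : Set leechLattice :=
  {y | y ∈ mclSet u v ∧ dotInt x.1 y.1 = 8}

/-- non-neighbours of the point `x` -/
def mclR (u v x : leechLattice) : Set leechLattice :=
  {y | y ∈ mclSet u v ∧ y ≠ x ∧ dotInt x.1 y.1 = 16}

theorem mclQ_smul (g : Co0) (u v x y : leechLattice) :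
    g • y ∈ mclQ (g • u) (g • v) (g • x) ↔ y ∈ mclQ u v x := by
  unfold mclQ
  simp only [Set.mem_ofPred_eq, mclSet_smul, co0_smul_dot]

theorem mclR_smul (g : Co0) (u v x y : leechLattice) :
    g • y ∈ mclR (g • u) (g • v) (g • x) ↔ y ∈ mclR u v x := by
  unfold mclR
  simp only [Set.mem_ofPred_eq, mclSet_smul, co0_smul_dot, ne_eq, smul_left_cancel_iff]

theorem mclQ_std (y : leechLattice) : y ∈ mclQ u5L a0L xrefL ↔ y.1 ∈ kB0 ∪ kC1 := by
  constructor
  · rintro ⟨h1, h2⟩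
    have h8 : dotInt xref y.1 = 8 := h2
    rcases mcl0_split ((mclSet_std y).mp h1) with h | h | h | h | h | h
    · exfalso; rw [h, dot_xref_xref] at h8; omega
    · exfalso; rw [dot_kA h] at h8; omega
    · exfalso; rw [dot_kB1 h] at h8; omega
    · exfalso; rw [dot_kC0 h] at h8; omega
    · exact Or.inl h
    · exact Or.inr h
  · rintro (h | h)
    · exact ⟨(mclSet_std y).mpr (kB0_sub h), dot_kB0 h⟩
    · exact ⟨(mclSet_std y).mpr (kC1_sub h), dot_kC1 h⟩

theorem mclR_std (y : leechLattice) : y ∈ mclR u5L a0L xrefL ↔ y.1 ∈ kA ∪ kB1 ∪ kC0 := by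
  constructor
  · rintro ⟨h1, h2, h3⟩
    have h16 : dotInt xref y.1 = 16 := h3
    rcases mcl0_split ((mclSet_std y).mp h1) with h | h | h | h | h | h
    · exfalso; exact h2 (Subtype.ext h)
    · exact Or.inl (Or.inl h)
    · exact Or.inl (Or.inr h)
    · exact Or.inr h
    · exfalso; rw [dot_kB0 h] at h16; omega
    · exfalso; rw [dot_kC1 h] at h16; omega
  · intro h
    have hne : ∀ {z : GolayPt → ℤ}, dotInt xref z = 16 → z ≠ xref := by
      intro z hz h0
      rw [h0, dot_xref_xref] at hz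
      omega
    rcases h with (h | h) | h
    · exact ⟨(mclSet_std y).mpr (kA_sub h), fun h0 => hne (dot_kA h) (congrArg Subtype.val h0),
        dot_kA h⟩
    · exact ⟨(mclSet_std y).mpr (kB1_sub h), fun h0 => hne (dot_kB1 h) (congrArg Subtype.val h0),
        dot_kB1 h⟩
    · exact ⟨(mclSet_std y).mpr (kC0_sub h), fun h0 => hne (dot_kC0 h) (congrArg Subtype.val h0),
        dot_kC0 h⟩

theorem cls_of {z : GolayPt → ℤ} (hz : z ∈ mcl0) (hne : z ≠ xref) :
    ((z ∈ kA ∨ z ∈ kB1 ∨ z ∈ kC0) ∧ dotInt xref z = 16) ∨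
      ((z ∈ kB0 ∨ z ∈ kC1) ∧ dotInt xref z = 8) := by
  rcases mcl0_split hz with h | h | h | h | h | h
  · exact absurd h hne
  · exact Or.inl ⟨Or.inl h, dot_kA h⟩
  · exact Or.inl ⟨Or.inr (Or.inl h), dot_kB1 h⟩
  · exact Or.inl ⟨Or.inr (Or.inr h), dot_kC0 h⟩
  · exact Or.inr ⟨Or.inl h, dot_kB0 h⟩
  · exact Or.inr ⟨Or.inr h, dot_kC1 h⟩

theorem ncard_subtype_of_raw {S : Set leechLattice} {T : Set (GolayPt → ℤ)}
    (hT : ∀ x ∈ T, x ∈ leechLattice) (h : ∀ y : leechLattice, y ∈ S ↔ y.1 ∈ T) :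
    S.ncard = T.ncard := by
  rw [← Set.ncard_image_of_injective _ Subtype.val_injective]
  congr 1
  ext x
  constructor
  · rintro ⟨v, hv, rfl⟩
    exact (h v).mp hv
  · intro hx
    exact ⟨⟨x, hT x hx⟩, (h _).mpr hx, rfl⟩

theorem mclQ_std_ncard : (mclQ u5L a0L xrefL).ncard = 112 := by
  rw [ncard_subtype_of_raw _ mclQ_std, small_ncard]
  rintro x (h | h)
  · exact mcl0_mem (kB0_sub h)
  · exact mcl0_mem (kC1_sub h)

theorem mclR_std_ncard : (mclR u5L a0L xrefL).ncard = 162 := by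
  rw [ncard_subtype_of_raw _ mclR_std, big_ncard]
  rintro x ((h | h) | h)
  · exact mcl0_mem (kA_sub h)
  · exact mcl0_mem (kB1_sub h)
  · exact mcl0_mem (kC0_sub h)

theorem mcl_frame3 (u v x : leechLattice) (hu : sqNorm (u : GolayPt → ℤ) = 48)
    (hv : sqNorm (v : GolayPt → ℤ) = 32 ∧ sqNorm ((u - v : GolayPt → ℤ)) = 32)
    (hx : x ∈ mclSet u v) : ∃ g0 : Co0, g0 • u = u5L ∧ g0 • v = a0L ∧ g0 • x = xrefL := by
  obtain ⟨g1, hg1, hg2⟩ := (conn2_pair_std u v hu hv).exists_smul (u' := u5L) (v' := a0L)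
  have hx1 : g1 • x ∈ mclSet u5L a0L := by
    rw [← hg1, ← hg2, mclSet_smul]; exact hx
  obtain ⟨g2, hg, hgx⟩ := fixorb_mcl0 ((mclSet_std _).mp hx1)
  refine ⟨g2 * g1, ?_, ?_, ?_⟩
  · rw [mul_smul, hg1]; exact hg _ (Or.inl rfl)
  · rw [mul_smul, hg2]; exact hg _ (Or.inr rfl)
  · rw [mul_smul, hgx]

/-- statement of `S1581` -/
theorem mcl_rank3 (u v x : leechLattice) (hu : sqNorm (u : GolayPt → ℤ) = 48)
    (hv : sqNorm (v : GolayPt → ℤ) = 32 ∧ sqNorm ((u - v : GolayPt → ℤ)) = 32)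
    (hx : x ∈ {x : leechLattice | sqNorm (x : GolayPt → ℤ) = 32 ∧
      sqNorm ((u - x : GolayPt → ℤ)) = 32 ∧ dotInt (v : GolayPt → ℤ) (x : GolayPt → ℤ) = 16}) :
    {y : leechLattice | y ∈ {x : leechLattice | sqNorm (x : GolayPt → ℤ) = 32 ∧
      sqNorm ((u - x : GolayPt → ℤ)) = 32 ∧ dotInt (v : GolayPt → ℤ) (x : GolayPt → ℤ) = 16} ∧
      dotInt (x : GolayPt → ℤ) (y : GolayPt → ℤ) = 8}.ncard = 112 ∧
    {y : leechLattice | y ∈ {x : leechLattice | sqNorm (x : GolayPt → ℤ) = 32 ∧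
      sqNorm ((u - x : GolayPt → ℤ)) = 32 ∧ dotInt (v : GolayPt → ℤ) (x : GolayPt → ℤ) = 16} ∧
      y ≠ x ∧ dotInt (x : GolayPt → ℤ) (y : GolayPt → ℤ) = 16}.ncard = 162 ∧
    ∀ y ∈ {x : leechLattice | sqNorm (x : GolayPt → ℤ) = 32 ∧
      sqNorm ((u - x : GolayPt → ℤ)) = 32 ∧ dotInt (v : GolayPt → ℤ) (x : GolayPt → ℤ) = 16},
    ∀ y' ∈ {x : leechLattice | sqNorm (x : GolayPt → ℤ) = 32 ∧
      sqNorm ((u - x : GolayPt → ℤ)) = 32 ∧ dotInt (v : GolayPt → ℤ) (x : GolayPt → ℤ) = 16},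
    y ≠ x → y' ≠ x →
    dotInt (x : GolayPt → ℤ) (y : GolayPt → ℤ) = dotInt (x : GolayPt → ℤ) (y' : GolayPt → ℤ) →
    ∃ g : Co0, g • u = u ∧ g • v = v ∧ g • x = x ∧ g • y = y' := by
  have hx' : x ∈ mclSet u v := hx
  obtain ⟨g0, hgu, hgv, hgx⟩ := mcl_frame3 u v x hu hv hx'
  have hQ : mclQ u v x = (fun y => g0⁻¹ • y) '' mclQ u5L a0L xrefL := by
    ext y
    constructor
    · intro hy
      refine ⟨g0 • y, ?_, inv_smul_smul g0 y⟩
      rw [← hgu, ← hgv, ← hgx, mclQ_smul]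
      exact hy
    · rintro ⟨z, hz, rfl⟩
      rw [← mclQ_smul g0, smul_inv_smul, hgu, hgv, hgx]
      exact hz
  have hR : mclR u v x = (fun y => g0⁻¹ • y) '' mclR u5L a0L xrefL := by
    ext y
    constructor
    · intro hy
      refine ⟨g0 • y, ?_, inv_smul_smul g0 y⟩
      rw [← hgu, ← hgv, ← hgx, mclR_smul]
      exact hy
    · rintro ⟨z, hz, rfl⟩
      rw [← mclR_smul g0, smul_inv_smul, hgu, hgv, hgx]
      exact hz
  refine ⟨?_, ?_, ?_⟩
  · show (mclQ u v x).ncard = 112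
    rw [hQ, Set.ncard_image_of_injective _ (MulAction.injective g0⁻¹), mclQ_std_ncard]
  · show (mclR u v x).ncard = 162
    rw [hR, Set.ncard_image_of_injective _ (MulAction.injective g0⁻¹), mclR_std_ncard]
  · intro y hy y' hy' hyx hyx' hdot
    have hy1 : y ∈ mclSet u v := hy
    have hy1' : y' ∈ mclSet u v := hy'
    have m1 : g0 • y ∈ mclSet u5L a0L := by
      rw [← hgu, ← hgv, mclSet_smul]; exact hy1
    have m2 : g0 • y' ∈ mclSet u5L a0L := by
      rw [← hgu, ← hgv, mclSet_smul]; exact hy1'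
    have n1 : (g0 • y).1 ≠ xref := by
      intro h
      apply hyx
      have : g0 • y = g0 • x := by rw [hgx]; exact Subtype.ext h
      exact smul_left_cancel g0 this
    have n2 : (g0 • y').1 ≠ xref := by
      intro h
      apply hyx'
      have : g0 • y' = g0 • x := by rw [hgx]; exact Subtype.ext h
      exact smul_left_cancel g0 this
    have d1 : dotInt xref (g0 • y).1 = dotInt x.1 y.1 := by
      have := co0_smul_dot g0 x y
      rw [hgx] at this
      exact this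
    have d2 : dotInt xref (g0 • y').1 = dotInt x.1 y'.1 := by
      have := co0_smul_dot g0 x y'
      rw [hgx] at this
      exact this
    have dd : dotInt xref (g0 • y).1 = dotInt xref (g0 • y').1 := by rw [d1, d2, hdot]
    have key : ROrb F5 (g0 • y).1 (g0 • y').1 := by
      rcases cls_of ((mclSet_std _).mp m1) n1 with ⟨b1, e1⟩ | ⟨b1, e1⟩ <;>
        rcases cls_of ((mclSet_std _).mp m2) n2 with ⟨b2, e2⟩ | ⟨b2, e2⟩
      · exact (rorb5_big b1).trans (rorb5_big b2).symm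
      · exfalso; rw [e1, e2] at dd; omega
      · exfalso; rw [e1, e2] at dd; omega
      · exact (rorb5_small b1).trans (rorb5_small b2).symm
    have s3 : FixOrb ({u, v, x} : Set leechLattice) y y' := by
      apply FixOrb.transport g0 (F' := F5) _ key.fixOrb
      intro z hz
      rcases hz with rfl | rfl | rfl
      · rw [hgu]; exact Or.inl rfl
      · rw [hgv]; exact Or.inr (Or.inl rfl)
      · rw [hgx]; exact Or.inr (Or.inr rfl)
    obtain ⟨g, hg, hgy⟩ := s3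
    exact ⟨g, hg u (Or.inl rfl), hg v (Or.inr (Or.inl rfl)), hg x (Or.inr (Or.inr rfl)), hgy⟩

end Cfsg.Agent.helper27
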