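import Mathlib
import Cfsg.Agent.Lib_helper27_HS6
import Cfsg.Agent.Lib_helper27_McL6

set_option autoImplicit false

namespace Cfsg.Agent.helper27

open Cfsg
open scoped Pointwise

/-! ### index sets for the suborbits of the rank 5 action -/

/-- octads off the first base point through the second -/
def octA : Set (Finset GolayPt) := {o | o ∈ octads ∧ none ∉ o ∧ some 0 ∈ o}

/-- octads off both base points -/
def octN : Set (Finset GolayPt) := {o | o ∈ octads ∧ none ∉ o ∧ some 0 ∉ o}

/-- dodecads off the first base point through the second -/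
def dodA : Set (Finset GolayPt) := {b | b ∈ dodecads ∧ none ∉ b ∧ some 0 ∈ b}

/-- dodecads off both base points -/
def dodN : Set (Finset GolayPt) := {b | b ∈ dodecads ∧ none ∉ b ∧ some 0 ∉ b}

set_option maxRecDepth 100000 in
theorem count8_A : ((Finset.range 4096).filter
    (fun k => popc (encN k) = 8 ∧ (encN k).testBit 23 = false ∧ (encN k).testBit 0 = true)).card
      = 176 := by
  decide +kernel

set_option maxRecDepth 100000 in
theorem count8_N : ((Finset.range 4096).filter
    (fun k => popc (encN k) = 8 ∧ (encN k).testBit 23 = false ∧ (encN k).testBit 0 = false)).card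
      = 330 := by
  decide +kernel

set_option maxRecDepth 100000 in
theorem count12_A : ((Finset.range 4096).filter
    (fun k => popc (encN k) = 12 ∧ (encN k).testBit 23 = false ∧ (encN k).testBit 0 = true)).card
      = 672 := by
  decide +kernel

set_option maxRecDepth 100000 in
theorem count12_N : ((Finset.range 4096).filter
    (fun k => popc (encN k) = 12 ∧ (encN k).testBit 23 = false ∧ (encN k).testBit 0 = false)).card
      = 616 := by
  decide +kernel

theorem octA_ncard : octA.ncard = 176 := by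
  have h := ncard_GS_mask (fun b => b.card = 8 ∧ none ∉ b ∧ some 0 ∈ b)
    (fun m => popc m = 8 ∧ m.testBit 23 = false ∧ m.testBit 0 = true) (fun k _ => by
      rw [cw_card, mem_cw_iff, mem_cw_iff, idx_none', idx_some0]
      simp)
  rw [count8_A] at h
  rw [← h]
  congr 1
  ext o
  unfold octA octads wordsOfWeight
  simp only [Set.mem_ofPred_eq]
  tauto

theorem octN_ncard : octN.ncard = 330 := by
  have h := ncard_GS_mask (fun b => b.card = 8 ∧ none ∉ b ∧ some 0 ∉ b)
    (fun m => popc m = 8 ∧ m.testBit 23 = false ∧ m.testBit 0 = false) (fun k _ => by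
      rw [cw_card, mem_cw_iff, mem_cw_iff, idx_none', idx_some0]
      simp)
  rw [count8_N] at h
  rw [← h]
  congr 1
  ext o
  unfold octN octads wordsOfWeight
  simp only [Set.mem_ofPred_eq]
  tauto

theorem dodA_ncard : dodA.ncard = 672 := by
  have h := ncard_GS_mask (fun b => b.card = 12 ∧ none ∉ b ∧ some 0 ∈ b)
    (fun m => popc m = 12 ∧ m.testBit 23 = false ∧ m.testBit 0 = true) (fun k _ => by
      rw [cw_card, mem_cw_iff, mem_cw_iff, idx_none', idx_some0]
      simp)
  rw [count12_A] at h
  rw [← h]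
  congr 1
  ext o
  unfold dodA dodecads wordsOfWeight
  simp only [Set.mem_ofPred_eq]
  tauto

theorem dodN_ncard : dodN.ncard = 616 := by
  have h := ncard_GS_mask (fun b => b.card = 12 ∧ none ∉ b ∧ some 0 ∉ b)
    (fun m => popc m = 12 ∧ m.testBit 23 = false ∧ m.testBit 0 = false) (fun k _ => by
      rw [cw_card, mem_cw_iff, mem_cw_iff, idx_none', idx_some0]
      simp)
  rw [count12_N] at h
  rw [← h]
  congr 1
  ext o
  unfold dodN dodecads wordsOfWeight
  simp only [Set.mem_ofPred_eq]
  tauto

/-- counting a family indexed by a dependent pair -/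
theorem ncard_sigma_family {ι α β : Type*} [DecidableEq ι] [DecidableEq α] (S : Set ι)
    (hS : S.Finite) (T : ι → Finset α) (f : ι → α → β)
    (hinj : ∀ i ∈ S, ∀ a ∈ T i, ∀ i' ∈ S, ∀ a' ∈ T i', f i a = f i' a' → i = i' ∧ a = a')
    (m : ℕ) (hm : ∀ i ∈ S, (T i).card = m) :
    {x | ∃ i ∈ S, ∃ a ∈ T i, x = f i a}.ncard = S.ncard * m := by
  classical
  have himg : {x | ∃ i ∈ S, ∃ a ∈ T i, x = f i a} = (fun p : (Σ _ : ι, α) => f p.1 p.2) ''
      ((hS.toFinset.sigma T : Finset (Σ _ : ι, α)) : Set _) := by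
    ext x
    constructor
    · rintro ⟨i, hi, a, ha, rfl⟩
      refine ⟨⟨i, a⟩, ?_, rfl⟩
      rw [Finset.mem_coe, Finset.mem_sigma, Set.Finite.mem_toFinset]
      exact ⟨hi, ha⟩
    · rintro ⟨⟨i, a⟩, hp, rfl⟩
      rw [Finset.mem_coe, Finset.mem_sigma, Set.Finite.mem_toFinset] at hp
      exact ⟨i, hp.1, a, hp.2, rfl⟩
  rw [himg, Set.InjOn.ncard_image, Set.ncard_coe_finset, Finset.card_sigma]
  · have : ∀ i ∈ hS.toFinset, (T i).card = m := by
      intro i hi
      rw [Set.Finite.mem_toFinset] at hi
      exact hm i hi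
    rw [Finset.sum_congr rfl this, Finset.sum_const, smul_eq_mul,
      ← Set.ncard_eq_toFinset_card S hS]
  · rintro ⟨i, a⟩ hp ⟨i', a'⟩ hp' h
    rw [Finset.mem_coe, Finset.mem_sigma, Set.Finite.mem_toFinset] at hp hp'
    simp only at h
    obtain ⟨e1, e2⟩ := hinj i hp.1 a hp.2 i' hp'.1 a' hp'.2 h
    subst e1
    subst e2
    rfl

end Cfsg.Agent.helper27
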