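import Mathlib
import Cfsg.Agent.Lib_helper27_Co3r1

set_option autoImplicit false

namespace Cfsg.Agent.helper27

open Cfsg
open scoped Pointwise

/-! ### the eleven classes -/

def cA1 : Set (GolayPt → ℤ) := (fun j => pair4 none j (-4) 4) '' {j | j ≠ none ∧ j ≠ some 0}

def cB1a : Set (GolayPt → ℤ) :=
  {x | ∃ o ∈ oct2, ∃ a ∈ (o.erase none).erase (some 0), x = vB o (o \ {some 0, a})}

def cB1b : Set (GolayPt → ℤ) :=
  {x | ∃ o ∈ oct2, ∃ t ∈ ((o.erase none).erase (some 0)).powersetCard 2, x = vB o (o \ t)}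

def cB1c : Set (GolayPt → ℤ) :=
  {x | ∃ o ∈ oct1, ∃ t ∈ (o.erase none).powersetCard 2, x = vB o (o \ t)}

def cB2a : Set (GolayPt → ℤ) := (fun o => vB o o) '' octA

def cB2b : Set (GolayPt → ℤ) := (fun o => vB o o) '' octN

def cC1a : Set (GolayPt → ℤ) := (fun b => vC none b) '' dodA

def cC1b : Set (GolayPt → ℤ) := (fun b => vC none b) '' dodN

def cC2a : Set (GolayPt → ℤ) := {x | ∃ o ∈ octN, ∃ j ∈ o, x = vC j oᶜ}

def cC2b : Set (GolayPt → ℤ) := {x | ∃ o ∈ octA, ∃ j ∈ o.erase (some 0), x = vC j oᶜ}

def cC2c : Set (GolayPt → ℤ) := (fun o => vC (some 0) oᶜ) '' octA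

theorem oct2_finite : oct2.Finite :=
  Set.finite_of_ncard_ne_zero (by rw [oct2_ncard]; norm_num)

theorem oct1_finite : oct1.Finite :=
  Set.finite_of_ncard_ne_zero (by rw [oct1_ncard]; norm_num)

theorem octA_finite : octA.Finite :=
  Set.finite_of_ncard_ne_zero (by rw [octA_ncard]; norm_num)

theorem octN_finite : octN.Finite :=
  Set.finite_of_ncard_ne_zero (by rw [octN_ncard]; norm_num)

theorem cA1_ncard : cA1.ncard = 22 := by
  unfold cA1
  rw [Set.InjOn.ncard_image, ncard_ne_two]
  intro j hj j' hj' h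
  by_contra hne
  have h1 := congrFun h j
  simp only at h1
  rw [pair4_apply_right (fun h => hj.1 h.symm), pair4_apply_other hj.1 hne] at h1
  omega

theorem sdiff_inj {o t t' : Finset GolayPt} (ht : t ⊆ o) (ht' : t' ⊆ o) (h : o \ t = o \ t') :
    t = t' := by
  rw [← Finset.sdiff_sdiff_eq_self ht, h, Finset.sdiff_sdiff_eq_self ht']

theorem cB1a_ncard : cB1a.ncard = 462 := by
  have h := ncard_sigma_family oct2 oct2_finite (fun o => (o.erase none).erase (some 0))
    (fun o a => vB o (o \ {some 0, a})) ?_ 6 ?_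
  · rw [oct2_ncard] at h
    exact h
  · intro o ho a ha o' ho' a' ha' he
    obtain ⟨e1, e2⟩ := vB_injective Finset.sdiff_subset Finset.sdiff_subset he
    subst e1
    refine ⟨rfl, ?_⟩
    have ha1 := Finset.mem_erase.mp ha
    have ha2 := Finset.mem_erase.mp ha1.2
    have ha1' := Finset.mem_erase.mp ha'
    have ha2' := Finset.mem_erase.mp ha1'.2
    have e3 : ({some 0, a} : Finset GolayPt) = {some 0, a'} := by
      apply sdiff_inj _ _ e2
      · intro p hp
        rcases Finset.mem_insert.mp hp with rfl | hp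
        · exact ho.2.2
        · rw [Finset.mem_singleton.mp hp]; exact ha2.2
      · intro p hp
        rcases Finset.mem_insert.mp hp with rfl | hp
        · exact ho.2.2
        · rw [Finset.mem_singleton.mp hp]; exact ha2'.2
    have : a ∈ ({some 0, a'} : Finset GolayPt) := by
      rw [← e3]; simp
    rcases Finset.mem_insert.mp this with h0 | h0
    · exact absurd h0 ha1.1
    · exact Finset.mem_singleton.mp h0
  · intro o ho
    rw [Finset.card_erase_of_mem, Finset.card_erase_of_mem ho.2.1, octads_card ho.1]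
    exact Finset.mem_erase.mpr ⟨by decide, ho.2.2⟩

theorem cB1b_ncard : cB1b.ncard = 1155 := by
  have h := ncard_sigma_family oct2 oct2_finite
    (fun o => ((o.erase none).erase (some 0)).powersetCard 2)
    (fun o t => vB o (o \ t)) ?_ 15 ?_
  · rw [oct2_ncard] at h
    exact h
  · intro o ho t ht o' ho' t' ht' he
    obtain ⟨e1, e2⟩ := vB_injective Finset.sdiff_subset Finset.sdiff_subset he
    subst e1
    refine ⟨rfl, ?_⟩
    have h1 := (Finset.mem_powersetCard.mp ht).1
    have h1' := (Finset.mem_powersetCard.mp ht').1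
    apply sdiff_inj _ _ e2
    · intro p hp
      exact Finset.mem_of_mem_erase (Finset.mem_of_mem_erase (h1 hp))
    · intro p hp
      exact Finset.mem_of_mem_erase (Finset.mem_of_mem_erase (h1' hp))
  · intro o ho
    rw [Finset.card_powersetCard, Finset.card_erase_of_mem, Finset.card_erase_of_mem ho.2.1,
      octads_card ho.1]
    · rfl
    · exact Finset.mem_erase.mpr ⟨by decide, ho.2.2⟩

theorem cB1c_ncard : cB1c.ncard = 3696 := by
  have h := ncard_sigma_family oct1 oct1_finite
    (fun o => (o.erase none).powersetCard 2)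
    (fun o t => vB o (o \ t)) ?_ 21 ?_
  · rw [oct1_ncard] at h
    exact h
  · intro o ho t ht o' ho' t' ht' he
    obtain ⟨e1, e2⟩ := vB_injective Finset.sdiff_subset Finset.sdiff_subset he
    subst e1
    refine ⟨rfl, ?_⟩
    have h1 := (Finset.mem_powersetCard.mp ht).1
    have h1' := (Finset.mem_powersetCard.mp ht').1
    apply sdiff_inj _ _ e2
    · intro p hp
      exact Finset.mem_of_mem_erase (h1 hp)
    · intro p hp
      exact Finset.mem_of_mem_erase (h1' hp)
  · intro o ho
    rw [Finset.card_powersetCard, Finset.card_erase_of_mem ho.2.1, octads_card ho.1]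
    rfl

theorem cB2a_ncard : cB2a.ncard = 176 := by
  unfold cB2a
  rw [Set.InjOn.ncard_image, octA_ncard]
  intro o _ o' _ h
  exact (vB_injective (Finset.Subset.refl _) (Finset.Subset.refl _) h).1

theorem cB2b_ncard : cB2b.ncard = 330 := by
  unfold cB2b
  rw [Set.InjOn.ncard_image, octN_ncard]
  intro o _ o' _ h
  exact (vB_injective (Finset.Subset.refl _) (Finset.Subset.refl _) h).1

theorem cC1a_ncard : cC1a.ncard = 672 := by
  unfold cC1a
  rw [Set.InjOn.ncard_image, dodA_ncard]
  intro o _ o' _ h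
  exact (vC_injective h).2

theorem cC1b_ncard : cC1b.ncard = 616 := by
  unfold cC1b
  rw [Set.InjOn.ncard_image, dodN_ncard]
  intro o _ o' _ h
  exact (vC_injective h).2

theorem cC2a_ncard : cC2a.ncard = 2640 := by
  have h := ncard_sigma_family octN octN_finite (fun o => o) (fun o j => vC j oᶜ) ?_ 8 ?_
  · rw [octN_ncard] at h
    exact h
  · intro o ho j hj o' ho' j' hj' he
    obtain ⟨e1, e2⟩ := vC_injective he
    exact ⟨compl_injective e2, e1⟩
  · intro o ho
    exact octads_card ho.1

theorem cC2b_ncard : cC2b.ncard = 1232 := by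
  have h := ncard_sigma_family octA octA_finite (fun o => o.erase (some 0))
    (fun o j => vC j oᶜ) ?_ 7 ?_
  · rw [octA_ncard] at h
    exact h
  · intro o ho j hj o' ho' j' hj' he
    obtain ⟨e1, e2⟩ := vC_injective he
    exact ⟨compl_injective e2, e1⟩
  · intro o ho
    rw [Finset.card_erase_of_mem ho.2.2, octads_card ho.1]

theorem cC2c_ncard : cC2c.ncard = 176 := by
  unfold cC2c
  rw [Set.InjOn.ncard_image, octA_ncard]
  intro o _ o' _ h
  exact compl_injective (vC_injective h).2

end Cfsg.Agent.helper27
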