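import Mathlib
import Cfsg.Agent.Lib_helper27_Co3r2

set_option autoImplicit false

namespace Cfsg.Agent.helper27

open Cfsg
open scoped Pointwise

/-! ### the classes inside the five families -/

theorem cA1_sub : cA1 ⊆ hsA := by
  rintro x ⟨j, hj, rfl⟩
  exact ⟨j, hj.1, rfl⟩

theorem cB1a_sub : cB1a ⊆ hsB1 := by
  rintro x ⟨o, ho, a, ha, rfl⟩
  have ha1 := Finset.mem_erase.mp ha
  refine ⟨o, ⟨ho.1, ho.2.1⟩, {some 0, a}, ?_, Finset.card_pair (Ne.symm ha1.1), rfl⟩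
  intro p hp
  rcases Finset.mem_insert.mp hp with rfl | hp
  · exact Finset.mem_erase.mpr ⟨by decide, ho.2.2⟩
  · rw [Finset.mem_singleton.mp hp]; exact ha1.2

theorem cB1b_sub : cB1b ⊆ hsB1 := by
  rintro x ⟨o, ho, t, ht, rfl⟩
  obtain ⟨h1, h2⟩ := Finset.mem_powersetCard.mp ht
  exact ⟨o, ⟨ho.1, ho.2.1⟩, t, fun p hp => Finset.mem_of_mem_erase (h1 hp), h2, rfl⟩

theorem cB1c_sub : cB1c ⊆ hsB1 := by
  rintro x ⟨o, ho, t, ht, rfl⟩
  obtain ⟨h1, h2⟩ := Finset.mem_powersetCard.mp ht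
  exact ⟨o, ⟨ho.1, ho.2.1⟩, t, h1, h2, rfl⟩

theorem cB2a_sub : cB2a ⊆ hsB2 := by
  rintro x ⟨o, ho, rfl⟩
  exact ⟨o, ⟨ho.1, ho.2.1⟩, rfl⟩

theorem cB2b_sub : cB2b ⊆ hsB2 := by
  rintro x ⟨o, ho, rfl⟩
  exact ⟨o, ⟨ho.1, ho.2.1⟩, rfl⟩

theorem cC1a_sub : cC1a ⊆ hsC1 := by
  rintro x ⟨o, ho, rfl⟩
  exact ⟨o, ⟨ho.1, ho.2.1⟩, rfl⟩

theorem cC1b_sub : cC1b ⊆ hsC1 := by
  rintro x ⟨o, ho, rfl⟩
  exact ⟨o, ⟨ho.1, ho.2.1⟩, rfl⟩

theorem cC2a_sub : cC2a ⊆ hsC2 := by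
  rintro x ⟨o, ho, j, hj, rfl⟩
  exact ⟨o, ⟨ho.1, ho.2.1⟩, j, hj, rfl⟩

theorem cC2b_sub : cC2b ⊆ hsC2 := by
  rintro x ⟨o, ho, j, hj, rfl⟩
  exact ⟨o, ⟨ho.1, ho.2.1⟩, j, Finset.mem_of_mem_erase hj, rfl⟩

theorem cC2c_sub : cC2c ⊆ hsC2 := by
  rintro x ⟨o, ho, rfl⟩
  exact ⟨o, ⟨ho.1, ho.2.1⟩, some 0, ho.2.2, rfl⟩

/-! ### the value at the second base point -/

theorem cA1_zero {x : GolayPt → ℤ} (h : x ∈ cA1) : x (some 0) = 0 := by
  obtain ⟨j, hj, rfl⟩ := h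
  exact pair4_apply_other (by decide) (Ne.symm hj.2) _ _

theorem cB1a_zero {x : GolayPt → ℤ} (h : x ∈ cB1a) : x (some 0) = 2 := by
  obtain ⟨o, ho, a, ha, rfl⟩ := h
  unfold vB
  rw [if_neg, if_pos ho.2.2]
  intro hc
  exact (Finset.mem_sdiff.mp hc).2 (by simp)

theorem cB1b_zero {x : GolayPt → ℤ} (h : x ∈ cB1b) : x (some 0) = -2 := by
  obtain ⟨o, ho, t, ht, rfl⟩ := h
  obtain ⟨h1, h2⟩ := Finset.mem_powersetCard.mp ht
  unfold vB
  rw [if_pos]
  refine Finset.mem_sdiff.mpr ⟨ho.2.2, fun hc => ?_⟩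
  exact (Finset.mem_erase.mp (h1 hc)).1 rfl

theorem cB1c_zero {x : GolayPt → ℤ} (h : x ∈ cB1c) : x (some 0) = 0 := by
  obtain ⟨o, ho, t, ht, rfl⟩ := h
  unfold vB
  rw [if_neg, if_neg ho.2.2]
  intro hc
  exact ho.2.2 (Finset.mem_sdiff.mp hc).1

theorem cB2a_zero {x : GolayPt → ℤ} (h : x ∈ cB2a) : x (some 0) = -2 := by
  obtain ⟨o, ho, rfl⟩ := h
  show vB o o (some 0) = -2
  unfold vB
  rw [if_pos ho.2.2]

theorem cB2b_zero {x : GolayPt → ℤ} (h : x ∈ cB2b) : x (some 0) = 0 := by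
  obtain ⟨o, ho, rfl⟩ := h
  show vB o o (some 0) = 0
  unfold vB
  rw [if_neg ho.2.2, if_neg ho.2.2]

theorem cC1a_zero {x : GolayPt → ℤ} (h : x ∈ cC1a) : x (some 0) = -1 := by
  obtain ⟨b, hb, rfl⟩ := h
  show vC none b (some 0) = -1
  unfold vC
  rw [if_pos hb.2.2, if_neg (by decide)]

theorem cC1b_zero {x : GolayPt → ℤ} (h : x ∈ cC1b) : x (some 0) = 1 := by
  obtain ⟨b, hb, rfl⟩ := h
  show vC none b (some 0) = 1
  unfold vC
  rw [if_neg hb.2.2, if_neg (by decide)]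

theorem cC2a_zero {x : GolayPt → ℤ} (h : x ∈ cC2a) : x (some 0) = -1 := by
  obtain ⟨o, ho, j, hj, rfl⟩ := h
  have hne : (some 0 : GolayPt) ≠ j := fun h => ho.2.2 (h ▸ hj)
  unfold vC
  rw [if_pos (Finset.mem_compl.mpr ho.2.2), if_neg hne]

theorem cC2b_zero {x : GolayPt → ℤ} (h : x ∈ cC2b) : x (some 0) = 1 := by
  obtain ⟨o, ho, j, hj, rfl⟩ := h
  have hne : (some 0 : GolayPt) ≠ j := fun h => (Finset.mem_erase.mp hj).1 h.symm
  unfold vC
  rw [if_neg (fun hc => (Finset.mem_compl.mp hc) ho.2.2), if_neg hne]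

theorem cC2c_zero {x : GolayPt → ℤ} (h : x ∈ cC2c) : x (some 0) = -3 := by
  obtain ⟨o, ho, rfl⟩ := h
  show vC (some 0) oᶜ (some 0) = -3
  unfold vC
  rw [if_neg (fun hc => (Finset.mem_compl.mp hc) ho.2.2), if_pos rfl]

/-! ### the four level sets -/

/-- level `-8` -/
def lvA : Set (GolayPt → ℤ) := cB2a ∪ cC2c
/-- level `16` -/
def lvB : Set (GolayPt → ℤ) := cA1 ∪ cB1a ∪ cC1b
/-- level `0` -/
def lvC : Set (GolayPt → ℤ) := cB1b ∪ cB2b ∪ cC2a
/-- level `8` -/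
def lvD : Set (GolayPt → ℤ) := cB1c ∪ cC1a ∪ cC2b

theorem lvA_sub : lvA ⊆ hs5 := by
  rintro x (h | h)
  · exact hsB2_subset (cB2a_sub h)
  · exact hsC2_subset (cC2c_sub h)

theorem lvB_sub : lvB ⊆ hs5 := by
  rintro x ((h | h) | h)
  · exact hsA_subset (cA1_sub h)
  · exact hsB1_subset (cB1a_sub h)
  · exact hsC1_subset (cC1b_sub h)

theorem lvC_sub : lvC ⊆ hs5 := by
  rintro x ((h | h) | h)
  · exact hsB1_subset (cB1b_sub h)
  · exact hsB2_subset (cB2b_sub h)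
  · exact hsC2_subset (cC2a_sub h)

theorem lvD_sub : lvD ⊆ hs5 := by
  rintro x ((h | h) | h)
  · exact hsB1_subset (cB1c_sub h)
  · exact hsC1_subset (cC1a_sub h)
  · exact hsC2_subset (cC2b_sub h)

theorem dot_lvA {x : GolayPt → ℤ} (h : x ∈ lvA) : dotInt href x = -8 := by
  rw [dotInt_href]
  rcases h with h | h
  · rw [hsB2_none (cB2a_sub h), cB2a_zero h]; rfl
  · rw [hsC2_none (cC2c_sub h), cC2c_zero h]; rfl

theorem dot_lvB {x : GolayPt → ℤ} (h : x ∈ lvB) : dotInt href x = 16 := by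
  rw [dotInt_href]
  rcases h with (h | h) | h
  · rw [hsA_none (cA1_sub h), cA1_zero h]; rfl
  · rw [hsB1_none (cB1a_sub h), cB1a_zero h]; rfl
  · rw [hsC1_none (cC1b_sub h), cC1b_zero h]; rfl

theorem dot_lvC {x : GolayPt → ℤ} (h : x ∈ lvC) : dotInt href x = 0 := by
  rw [dotInt_href]
  rcases h with (h | h) | h
  · rw [hsB1_none (cB1b_sub h), cB1b_zero h]; rfl
  · rw [hsB2_none (cB2b_sub h), cB2b_zero h]; rfl
  · rw [hsC2_none (cC2a_sub h), cC2a_zero h]; rfl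

theorem dot_lvD {x : GolayPt → ℤ} (h : x ∈ lvD) : dotInt href x = 8 := by
  rw [dotInt_href]
  rcases h with (h | h) | h
  · rw [hsB1_none (cB1c_sub h), cB1c_zero h]; rfl
  · rw [hsC1_none (cC1a_sub h), cC1a_zero h]; rfl
  · rw [hsC2_none (cC2b_sub h), cC2b_zero h]; rfl

theorem dot_href_href : dotInt href href = 32 := by decide

/-- every vector of the `11178` is the reference vector or lies in one of the level sets -/
theorem hs5_cases {x : GolayPt → ℤ} (hx : x ∈ hs5) :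
    x = href ∨ x ∈ lvA ∨ x ∈ lvB ∨ x ∈ lvC ∨ x ∈ lvD := by
  rw [hs5_eq] at hx
  rcases hx with (((hx | hx) | hx) | hx) | hx
  · obtain ⟨j, hj, rfl⟩ := hx
    by_cases h0 : j = some 0
    · left; rw [h0]; rfl
    · right; right; left; left; left
      exact ⟨j, ⟨hj, h0⟩, rfl⟩
  · obtain ⟨o, ho, t, ht, ht2, rfl⟩ := hx
    by_cases h0 : some 0 ∈ o
    · by_cases h0t : some 0 ∈ t
      · right; right; left; left; right
        have hc : (t.erase (some 0)).card = 1 := by rw [Finset.card_erase_of_mem h0t, ht2]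
        obtain ⟨a, ha⟩ := Finset.card_eq_one.mp hc
        have hat : a ∈ t.erase (some 0) := by rw [ha]; simp
        have ha1 := Finset.mem_erase.mp hat
        refine ⟨o, ⟨ho.1, ho.2, h0⟩, a, Finset.mem_erase.mpr ⟨ha1.1, ht ha1.2⟩, ?_⟩
        rw [← ha, Finset.insert_erase h0t]
      · right; right; right; left; left; left
        refine ⟨o, ⟨ho.1, ho.2, h0⟩, t, Finset.mem_powersetCard.mpr ⟨?_, ht2⟩, rfl⟩
        intro p hp
        exact Finset.mem_erase.mpr ⟨fun h => h0t (h ▸ hp), ht hp⟩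
    · right; right; right; right; left; left
      exact ⟨o, ⟨ho.1, ho.2, h0⟩, t, Finset.mem_powersetCard.mpr ⟨ht, ht2⟩, rfl⟩
  · obtain ⟨o, ho, rfl⟩ := hx
    by_cases h0 : some 0 ∈ o
    · right; left; left
      exact ⟨o, ⟨ho.1, ho.2, h0⟩, rfl⟩
    · right; right; right; left; left; right
      exact ⟨o, ⟨ho.1, ho.2, h0⟩, rfl⟩
  · obtain ⟨b, hb, rfl⟩ := hx
    by_cases h0 : some 0 ∈ b
    · right; right; right; right; left; right
      exact ⟨b, ⟨hb.1, hb.2, h0⟩, rfl⟩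
    · right; right; left; right
      exact ⟨b, ⟨hb.1, hb.2, h0⟩, rfl⟩
  · obtain ⟨o, ho, j, hj, rfl⟩ := hx
    by_cases h0 : some 0 ∈ o
    · by_cases hj0 : j = some 0
      · right; left; right
        rw [hj0]
        exact ⟨o, ⟨ho.1, ho.2, h0⟩, rfl⟩
      · right; right; right; right; right
        exact ⟨o, ⟨ho.1, ho.2, h0⟩, j, Finset.mem_erase.mpr ⟨hj0, hj⟩, rfl⟩
    · right; right; right; left; right
      exact ⟨o, ⟨ho.1, ho.2, h0⟩, j, hj, rfl⟩

theorem lvA_iff (x : GolayPt → ℤ) : x ∈ lvA ↔ x ∈ hs5 ∧ dotInt href x = -8 := by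
  constructor
  · intro h
    exact ⟨lvA_sub h, dot_lvA h⟩
  · rintro ⟨h1, h2⟩
    rcases hs5_cases h1 with rfl | h | h | h | h
    · rw [dot_href_href] at h2; omega
    · exact h
    · rw [dot_lvB h] at h2; omega
    · rw [dot_lvC h] at h2; omega
    · rw [dot_lvD h] at h2; omega

theorem lvB_iff (x : GolayPt → ℤ) : x ∈ lvB ↔ x ∈ hs5 ∧ dotInt href x = 16 := by
  constructor
  · intro h
    exact ⟨lvB_sub h, dot_lvB h⟩
  · rintro ⟨h1, h2⟩
    rcases hs5_cases h1 with rfl | h | h | h | h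
    · rw [dot_href_href] at h2; omega
    · rw [dot_lvA h] at h2; omega
    · exact h
    · rw [dot_lvC h] at h2; omega
    · rw [dot_lvD h] at h2; omega

theorem lvC_iff (x : GolayPt → ℤ) : x ∈ lvC ↔ x ∈ hs5 ∧ dotInt href x = 0 := by
  constructor
  · intro h
    exact ⟨lvC_sub h, dot_lvC h⟩
  · rintro ⟨h1, h2⟩
    rcases hs5_cases h1 with rfl | h | h | h | h
    · rw [dot_href_href] at h2; omega
    · rw [dot_lvA h] at h2; omega
    · rw [dot_lvB h] at h2; omega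
    · exact h
    · rw [dot_lvD h] at h2; omega

theorem lvD_iff (x : GolayPt → ℤ) : x ∈ lvD ↔ x ∈ hs5 ∧ dotInt href x = 8 := by
  constructor
  · intro h
    exact ⟨lvD_sub h, dot_lvD h⟩
  · rintro ⟨h1, h2⟩
    rcases hs5_cases h1 with rfl | h | h | h | h
    · rw [dot_href_href] at h2; omega
    · rw [dot_lvA h] at h2; omega
    · rw [dot_lvB h] at h2; omega
    · rw [dot_lvC h] at h2; omega
    · exact h

/-! ### counting the level sets -/

theorem fin_of_ncard {α : Type*} {S : Set α} {n : ℕ} (h : S.ncard = n) (hn : n ≠ 0) : S.Finite :=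
  Set.finite_of_ncard_ne_zero (by rw [h]; exact hn)

theorem lvA_ncard : lvA.ncard = 352 := by
  have e1 := ncard_union_sep cB2a cC2c (fun x => x none = 0) (fun x hx => hsB2_none (cB2a_sub hx))
    (fun x hx => by rw [hsC2_none (cC2c_sub hx)]; decide)
    (fin_of_ncard cB2a_ncard (by norm_num)) (fin_of_ncard cC2c_ncard (by norm_num))
  unfold lvA
  rw [e1, cB2a_ncard, cC2c_ncard]

theorem lvB_ncard : lvB.ncard = 1100 := by
  have fA := fin_of_ncard cA1_ncard (by norm_num)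
  have fB := fin_of_ncard cB1a_ncard (by norm_num)
  have fC := fin_of_ncard cC1b_ncard (by norm_num)
  have e1 := ncard_union_sep cA1 cB1a (fun x => x none = -4) (fun x hx => hsA_none (cA1_sub hx))
    (fun x hx => by rw [hsB1_none (cB1a_sub hx)]; decide) fA fB
  have e2 := ncard_union_sep (cA1 ∪ cB1a) cC1b (fun x => x none ≠ -3)
    (fun x hx => by
      rcases hx with hx | hx
      · rw [hsA_none (cA1_sub hx)]; decide
      · rw [hsB1_none (cB1a_sub hx)]; decide)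
    (fun x hx => by rw [hsC1_none (cC1b_sub hx)]; decide) (fA.union fB) fC
  unfold lvB
  rw [e2, e1, cA1_ncard, cB1a_ncard, cC1b_ncard]

theorem lvC_ncard : lvC.ncard = 4125 := by
  have fA := fin_of_ncard cB1b_ncard (by norm_num)
  have fB := fin_of_ncard cB2b_ncard (by norm_num)
  have fC := fin_of_ncard cC2a_ncard (by norm_num)
  have e1 := ncard_union_sep cB1b cB2b (fun x => x none = -2) (fun x hx => hsB1_none (cB1b_sub hx))
    (fun x hx => by rw [hsB2_none (cB2b_sub hx)]; decide) fA fB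
  have e2 := ncard_union_sep (cB1b ∪ cB2b) cC2a (fun x => x none ≠ -1)
    (fun x hx => by
      rcases hx with hx | hx
      · rw [hsB1_none (cB1b_sub hx)]; decide
      · rw [hsB2_none (cB2b_sub hx)]; decide)
    (fun x hx => by rw [hsC2_none (cC2a_sub hx)]; decide) (fA.union fB) fC
  unfold lvC
  rw [e2, e1, cB1b_ncard, cB2b_ncard, cC2a_ncard]

theorem lvD_ncard : lvD.ncard = 5600 := by
  have fA := fin_of_ncard cB1c_ncard (by norm_num)
  have fB := fin_of_ncard cC1a_ncard (by norm_num)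
  have fC := fin_of_ncard cC2b_ncard (by norm_num)
  have e1 := ncard_union_sep cB1c cC1a (fun x => x none = -2) (fun x hx => hsB1_none (cB1c_sub hx))
    (fun x hx => by rw [hsC1_none (cC1a_sub hx)]; decide) fA fB
  have e2 := ncard_union_sep (cB1c ∪ cC1a) cC2b (fun x => x none ≠ -1)
    (fun x hx => by
      rcases hx with hx | hx
      · rw [hsB1_none (cB1c_sub hx)]; decide
      · rw [hsC1_none (cC1a_sub hx)]; decide)
    (fun x hx => by rw [hsC2_none (cC2b_sub hx)]; decide) (fA.union fB) fC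
  unfold lvD
  rw [e2, e1, cB1c_ncard, cC1a_ncard, cC2b_ncard]

end Cfsg.Agent.helper27
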