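import Mathlib
import Cfsg.Agent.Lib_helper27_Co3r3

set_option autoImplicit false

namespace Cfsg.Agent.helper27

open Cfsg
open scoped Pointwise

/-! ### transitivity of the stabiliser of two points of `M24` on the easy classes -/

/-- embedding given by four distinct points -/
def emb4 {a b c d : GolayPt} (hab : a ≠ b) (hac : a ≠ c) (had : a ≠ d) (hbc : b ≠ c)
    (hbd : b ≠ d) (hcd : c ≠ d) : Fin 4 ↪ GolayPt :=
  ⟨![a, b, c, d], by
    intro i j h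
    fin_cases i <;> fin_cases j <;> simp_all⟩

theorem emb4_mem {a b c d : GolayPt} (hab : a ≠ b) (hac : a ≠ c) (had : a ≠ d) (hbc : b ≠ c)
    (hbd : b ≠ d) (hcd : c ≠ d) {s : Finset GolayPt} (ha : a ∈ s) (hb : b ∈ s) (hc : c ∈ s)
    (hd : d ∈ s) : ∀ i, emb4 hab hac had hbc hbd hcd i ∈ s := by
  intro i
  fin_cases i
  · exact ha
  · exact hb
  · exact hc
  · exact hd

theorem rorb3_cA1 {x x' : GolayPt → ℤ} (hx : x ∈ cA1) (hx' : x' ∈ cA1) : ROrb F3 x x' := by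
  have hxL := hs5_mem (lvB_sub (Or.inl (Or.inl hx)))
  obtain ⟨j, ⟨hj, hj0⟩, rfl⟩ := hx
  obtain ⟨j', ⟨hj', hj0'⟩, rfl⟩ := hx'
  obtain ⟨σ, hσ, h1, h2, h3⟩ := exists_M24_three (a := none) (b := some 0) (c := j) (a' := none)
    (b' := some 0) (c' := j') (by decide) (fun h => hj h.symm) (fun h => hj0 h.symm)
    (by decide) (fun h => hj' h.symm) (fun h => hj0' h.symm)
  have s1 := rorb3_m22 hσ h1 h2 hxL
  beta_reduce at s1
  rw [signedPerm_pair4, h1, h3] at s1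
  exact s1

theorem rorb3_cB1a {x x' : GolayPt → ℤ} (hx : x ∈ cB1a) (hx' : x' ∈ cB1a) : ROrb F3 x x' := by
  have hxL := hs5_mem (lvB_sub (Or.inl (Or.inr hx)))
  obtain ⟨o, ⟨ho, hn, h0⟩, a, ha, rfl⟩ := hx
  obtain ⟨o', ⟨ho', hn', h0'⟩, a', ha', rfl⟩ := hx'
  have ha1 := Finset.mem_erase.mp ha
  have ha2 := Finset.mem_erase.mp ha1.2
  have ha1' := Finset.mem_erase.mp ha'
  have ha2' := Finset.mem_erase.mp ha1'.2
  obtain ⟨σ, hσ, h1, h2⟩ := exists_M24_octad_emb (k := 3) (by norm_num) ho ho'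
    (emb3 (a := none) (b := some 0) (c := a) (by decide) (Ne.symm ha2.1) (Ne.symm ha1.1))
    (emb3 (a := none) (b := some 0) (c := a') (by decide) (Ne.symm ha2'.1) (Ne.symm ha1'.1))
    (emb3_mem _ _ _ hn h0 ha2.2) (emb3_mem _ _ _ hn' h0' ha2'.2)
  have e0 : σ none = none := h2 0
  have e1 : σ (some 0) = some 0 := h2 1
  have e2 : σ a = a' := h2 2
  have s1 := rorb3_m22 hσ e0 e1 hxL
  rw [signedPerm_vB, Finset.smul_finset_sdiff, h1, smul_pair, e1, e2] at s1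
  exact s1

theorem rorb3_cB1b {x x' : GolayPt → ℤ} (hx : x ∈ cB1b) (hx' : x' ∈ cB1b) : ROrb F3 x x' := by
  have hxL := hs5_mem (lvC_sub (Or.inl (Or.inl hx)))
  obtain ⟨o, ⟨ho, hn, h0⟩, t, ht, rfl⟩ := hx
  obtain ⟨o', ⟨ho', hn', h0'⟩, t', ht', rfl⟩ := hx'
  obtain ⟨hts, ht2⟩ := Finset.mem_powersetCard.mp ht
  obtain ⟨hts', ht2'⟩ := Finset.mem_powersetCard.mp ht'
  obtain ⟨p, q, hpq, rfl⟩ := Finset.card_eq_two.mp ht2
  obtain ⟨p', q', hpq', rfl⟩ := Finset.card_eq_two.mp ht2'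
  have hp := Finset.mem_erase.mp (hts (Finset.mem_insert_self p _))
  have hq := Finset.mem_erase.mp (hts (Finset.mem_insert_of_mem (Finset.mem_singleton_self q)))
  have hp' := Finset.mem_erase.mp (hts' (Finset.mem_insert_self p' _))
  have hq' := Finset.mem_erase.mp (hts' (Finset.mem_insert_of_mem (Finset.mem_singleton_self q')))
  have hp2 := Finset.mem_erase.mp hp.2
  have hq2 := Finset.mem_erase.mp hq.2
  have hp2' := Finset.mem_erase.mp hp'.2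
  have hq2' := Finset.mem_erase.mp hq'.2
  obtain ⟨σ, hσ, h1, h2⟩ := exists_M24_octad_emb (k := 4) (by norm_num) ho ho'
    (emb4 (a := none) (b := some 0) (c := p) (d := q) (by decide) (Ne.symm hp2.1)
      (Ne.symm hq2.1) (Ne.symm hp.1) (Ne.symm hq.1) hpq)
    (emb4 (a := none) (b := some 0) (c := p') (d := q') (by decide) (Ne.symm hp2'.1)
      (Ne.symm hq2'.1) (Ne.symm hp'.1) (Ne.symm hq'.1) hpq')
    (emb4_mem _ _ _ _ _ _ hn h0 hp2.2 hq2.2) (emb4_mem _ _ _ _ _ _ hn' h0' hp2'.2 hq2'.2)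
  have e0 : σ none = none := h2 0
  have e1 : σ (some 0) = some 0 := h2 1
  have e2 : σ p = p' := h2 2
  have e3 : σ q = q' := h2 3
  have s1 := rorb3_m22 hσ e0 e1 hxL
  rw [signedPerm_vB, Finset.smul_finset_sdiff, h1, smul_pair, e2, e3] at s1
  exact s1

theorem rorb3_cB1c {x x' : GolayPt → ℤ} (hx : x ∈ cB1c) (hx' : x' ∈ cB1c) : ROrb F3 x x' := by
  have hxL := hs5_mem (lvD_sub (Or.inl (Or.inl hx)))
  obtain ⟨o, ⟨ho, hn, h0⟩, t, ht, rfl⟩ := hx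
  obtain ⟨o', ⟨ho', hn', h0'⟩, t', ht', rfl⟩ := hx'
  obtain ⟨hts, ht2⟩ := Finset.mem_powersetCard.mp ht
  obtain ⟨hts', ht2'⟩ := Finset.mem_powersetCard.mp ht'
  obtain ⟨p, q, hpq, rfl⟩ := Finset.card_eq_two.mp ht2
  obtain ⟨p', q', hpq', rfl⟩ := Finset.card_eq_two.mp ht2'
  have hp := Finset.mem_erase.mp (hts (Finset.mem_insert_self p _))
  have hq := Finset.mem_erase.mp (hts (Finset.mem_insert_of_mem (Finset.mem_singleton_self q)))
  have hp' := Finset.mem_erase.mp (hts' (Finset.mem_insert_self p' _))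
  have hq' := Finset.mem_erase.mp (hts' (Finset.mem_insert_of_mem (Finset.mem_singleton_self q')))
  obtain ⟨σ, hσ, h1, h2, h3⟩ := exists_M24_octad_emb_out (k := 3) (by norm_num) ho ho'
    (emb3 (a := none) (b := p) (c := q) (Ne.symm hp.1) (Ne.symm hq.1) hpq)
    (emb3 (a := none) (b := p') (c := q') (Ne.symm hp'.1) (Ne.symm hq'.1) hpq')
    (emb3_mem _ _ _ hn hp.2 hq.2) (emb3_mem _ _ _ hn' hp'.2 hq'.2) h0 h0'
  have e0 : σ none = none := h2 0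
  have e2 : σ p = p' := h2 1
  have e3 : σ q = q' := h2 2
  have s1 := rorb3_m22 hσ e0 h3 hxL
  rw [signedPerm_vB, Finset.smul_finset_sdiff, h1, smul_pair, e2, e3] at s1
  exact s1

theorem exists_m22_octA {o o' : Finset GolayPt} (ho : o ∈ octA) (ho' : o' ∈ octA) :
    ∃ σ ∈ M24, σ none = none ∧ σ (some 0) = some 0 ∧ σ • o = o' := by
  obtain ⟨σ, hσ, h1, h2, h3⟩ := exists_M24_octad_emb_out (k := 1) (by norm_num) ho.1 ho'.1
    (emb1 (some 0)) (emb1 (some 0)) (fun _ => ho.2.2) (fun _ => ho'.2.2) ho.2.1 ho'.2.1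
  exact ⟨σ, hσ, h3, h2 0, h1⟩

theorem rorb3_cB2a {x x' : GolayPt → ℤ} (hx : x ∈ cB2a) (hx' : x' ∈ cB2a) : ROrb F3 x x' := by
  have hxL := hs5_mem (lvA_sub (Or.inl hx))
  obtain ⟨o, ho, rfl⟩ := hx
  obtain ⟨o', ho', rfl⟩ := hx'
  obtain ⟨σ, hσ, e0, e1, h1⟩ := exists_m22_octA ho ho'
  have s1 := rorb3_m22 hσ e0 e1 hxL
  beta_reduce at s1
  rw [signedPerm_vB, h1] at s1
  exact s1

theorem rorb3_cC2c {x x' : GolayPt → ℤ} (hx : x ∈ cC2c) (hx' : x' ∈ cC2c) : ROrb F3 x x' := by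
  have hxL := hs5_mem (lvA_sub (Or.inr hx))
  obtain ⟨o, ho, rfl⟩ := hx
  obtain ⟨o', ho', rfl⟩ := hx'
  obtain ⟨σ, hσ, e0, e1, h1⟩ := exists_m22_octA ho ho'
  have s1 := rorb3_m22 hσ e0 e1 hxL
  beta_reduce at s1
  rw [signedPerm_vC, e1, helper2.Golay.smul_compl, h1] at s1
  exact s1

theorem rorb3_cC2b {x x' : GolayPt → ℤ} (hx : x ∈ cC2b) (hx' : x' ∈ cC2b) : ROrb F3 x x' := by
  have hxL := hs5_mem (lvD_sub (Or.inr hx))
  obtain ⟨o, ho, j, hj, rfl⟩ := hx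
  obtain ⟨o', ho', j', hj', rfl⟩ := hx'
  have hj1 := Finset.mem_erase.mp hj
  have hj1' := Finset.mem_erase.mp hj'
  obtain ⟨σ, hσ, h1, h2, h3⟩ := exists_M24_octad_emb_out (k := 2) (by norm_num) ho.1 ho'.1
    (emb2 (a := some 0) (b := j) (Ne.symm hj1.1)) (emb2 (a := some 0) (b := j') (Ne.symm hj1'.1))
    (emb2_mem _ ho.2.2 hj1.2) (emb2_mem _ ho'.2.2 hj1'.2) ho.2.1 ho'.2.1
  have e1 : σ (some 0) = some 0 := h2 0
  have e2 : σ j = j' := h2 1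
  have s1 := rorb3_m22 hσ h3 e1 hxL
  rw [signedPerm_vC, e2, helper2.Golay.smul_compl, h1] at s1
  exact s1

end Cfsg.Agent.helper27
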