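import Mathlib
import Cfsg.Agent.Lib_helper27_Co3r4

set_option autoImplicit false

namespace Cfsg.Agent.helper27

open Cfsg
open scoped Pointwise

/-! ### transitivity on the dodecad classes -/

theorem exists_m22_dodN {b b' : Finset GolayPt} (hb : b ∈ dodN) (hb' : b' ∈ dodN) :
    ∃ σ ∈ M24, σ none = none ∧ σ (some 0) = some 0 ∧ σ • b = b' := by
  have hd := helper2.Golay.compl_mem_dodecads hb.1
  have hd' := helper2.Golay.compl_mem_dodecads hb'.1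
  have hne : (none : GolayPt) ≠ some 0 := by decide
  have hz : ∀ i, emb2 hne i ∈ bᶜ :=
    emb2_mem hne (Finset.mem_compl.mpr hb.2.1) (Finset.mem_compl.mpr hb.2.2)
  have hz' : ∀ i, emb2 hne i ∈ b'ᶜ :=
    emb2_mem hne (Finset.mem_compl.mpr hb'.2.1) (Finset.mem_compl.mpr hb'.2.2)
  have hfl : (b'ᶜ, emb2 hne) ∈ helper2.Golay.kflagSet 2 := ⟨hd', hz'⟩
  rw [← helper2.Golay.orbit_kflag (by norm_num) hd (emb2 hne) hz, MulAction.mem_orbit_iff] at hfl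
  obtain ⟨g, hg⟩ := hfl
  rw [Prod.smul_mk, Prod.mk.injEq] at hg
  obtain ⟨hg1, hg2⟩ := hg
  have e0 : g.1 none = none := DFunLike.congr_fun hg2 0
  have e1 : g.1 (some 0) = some 0 := DFunLike.congr_fun hg2 1
  refine ⟨g.1, g.2, e0, e1, ?_⟩
  have : g.1 • bᶜ = b'ᶜ := hg1
  rw [helper2.Golay.smul_compl] at this
  exact compl_injective this

theorem exists_m22_dodA {b b' : Finset GolayPt} (hb : b ∈ dodA) (hb' : b' ∈ dodA) :
    ∃ σ ∈ M24, σ none = none ∧ σ (some 0) = some 0 ∧ σ • b = b' := by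
  have hfl : (b', emb1 (some 0)) ∈ helper2.Golay.kflagSet 1 := ⟨hb'.1, fun _ => hb'.2.2⟩
  rw [← helper2.Golay.orbit_kflag (by norm_num) hb.1 (emb1 (some 0)) (fun _ => hb.2.2),
    MulAction.mem_orbit_iff] at hfl
  obtain ⟨g, hg⟩ := hfl
  rw [Prod.smul_mk, Prod.mk.injEq] at hg
  obtain ⟨hg1, hg2⟩ := hg
  have e1 : g.1 (some 0) = some 0 := DFunLike.congr_fun hg2 0
  have hgb : g.1 • b = b' := hg1
  have hx : g.1 none ∉ b' := by
    intro hc
    rw [← hgb] at hc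
    exact hb.2.1 ((Finset.smul_mem_smul_finset_iff g.1).mp hc)
  have hc : 1 < (b'.erase (some 0)).card := by
    rw [Finset.card_erase_of_mem hb'.2.2, dodecads_card hb'.1]
    norm_num
  obtain ⟨q, hq, r, hr, hqr⟩ := Finset.one_lt_card.mp hc
  have hq1 := Finset.mem_erase.mp hq
  have hr1 := Finset.mem_erase.mp hr
  obtain ⟨g2, hg2m, h2b, h2p, _, _, h2x⟩ := helper2.Golay.three_stab_transitive hb'.1
    (p := some 0) (q := q) (r := r) hb'.2.2 hq1.2 hr1.2 (Ne.symm hq1.1) (Ne.symm hr1.1) hqr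
    hx hb'.2.1
  refine ⟨g2 * g.1, Subgroup.mul_mem _ hg2m g.2, ?_, ?_, ?_⟩
  · rw [Equiv.Perm.mul_apply, h2x]
  · rw [Equiv.Perm.mul_apply, e1, h2p]
  · rw [mul_smul, hgb, h2b]

theorem rorb3_cC1a {x x' : GolayPt → ℤ} (hx : x ∈ cC1a) (hx' : x' ∈ cC1a) : ROrb F3 x x' := by
  have hxL := hs5_mem (lvD_sub (Or.inl (Or.inr hx)))
  obtain ⟨b, hb, rfl⟩ := hx
  obtain ⟨b', hb', rfl⟩ := hx'
  obtain ⟨σ, hσ, e0, e1, h1⟩ := exists_m22_dodA hb hb'
  have s1 := rorb3_m22 hσ e0 e1 hxL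
  beta_reduce at s1
  rw [signedPerm_vC, e0, h1] at s1
  exact s1

theorem rorb3_cC1b {x x' : GolayPt → ℤ} (hx : x ∈ cC1b) (hx' : x' ∈ cC1b) : ROrb F3 x x' := by
  have hxL := hs5_mem (lvB_sub (Or.inr hx))
  obtain ⟨b, hb, rfl⟩ := hx
  obtain ⟨b', hb', rfl⟩ := hx'
  obtain ⟨σ, hσ, e0, e1, h1⟩ := exists_m22_dodN hb hb'
  have s1 := rorb3_m22 hσ e0 e1 hxL
  beta_reduce at s1
  rw [signedPerm_vC, e0, h1] at s1
  exact s1

end Cfsg.Agent.helper27
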