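import Mathlib
import Cfsg.Agent.Lib_helper27_Co3r5

set_option autoImplicit false

namespace Cfsg.Agent.helper27

open Cfsg
open scoped Pointwise

/-! ### the stabiliser of two points on the octads off both -/

def m22Gens : List (List ℕ × List ℕ) := [
  ([0, 7, 11, 14, 6, 18, 21, 12, 15, 1, 17, 3, 2, 9, 5, 10, 20, 19, 13, 4, 22, 16, 8, 23],
   [0, 9, 12, 11, 19, 14, 4, 1, 22, 13, 15, 2, 7, 18, 3, 8, 21, 10, 5, 17, 16, 6, 20, 23]),
  ([0, 1, 2, 3, 12, 14, 19, 7, 20, 16, 4, 15, 10, 11, 17, 13, 18, 5, 9, 21, 22, 6, 8, 23],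
   [0, 1, 2, 3, 10, 17, 21, 7, 22, 18, 12, 13, 4, 15, 5, 11, 9, 14, 16, 6, 8, 19, 20, 23])]

def m22Tree : List (ℕ × ℕ × ℕ) := [
  (4845570, 0, 0), (1050548, 0, 0), (2501890, 0, 1), (4626498, 1, 0), (5329044, 1, 1), (762504, 2, 0),
  (1084018, 2, 1), (2631052, 3, 0), (567074, 3, 1), (5249380, 4, 0), (4593028, 4, 1), (1594898, 5, 0),
  (2435240, 5, 1), (6554826, 6, 0), (252432, 7, 0), (3147996, 7, 1), (427666, 8, 0), (3237906, 8, 1),
  (6588684, 9, 0), (5817604, 9, 1), (702724, 10, 0), (4325622, 11, 0), (6493202, 11, 1), (1405448, 12, 0),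
  (314056, 12, 1), (2322816, 13, 0), (525274, 13, 1), (1573998, 14, 0), (504864, 14, 1), (6379592, 15, 0),
  (4755660, 15, 1), (668866, 16, 0), (78514, 16, 1), (5309160, 17, 0), (126216, 18, 0), (1090380, 18, 1),
  (4361520, 19, 0), (7479572, 19, 1), (560668, 20, 0), (3189796, 20, 1), (2890176, 21, 0), (545190, 21, 1),
  (1769924, 22, 0), (267634, 22, 1), (5268006, 23, 0), (4656648, 23, 1), (2126890, 24, 0), (1675812, 25, 0),
  (1445088, 25, 1), (2150610, 26, 0), (3739786, 26, 1), (6703248, 27, 0), (6832158, 27, 1), (1975812, 28, 0),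
  (290352, 28, 1), (3227948, 29, 0), (951624, 29, 1), (2120980, 30, 0), (2757268, 31, 0), (2624690, 31, 1),
  (1315526, 32, 0), (351362, 32, 1), (7622914, 33, 0), (5063048, 33, 1), (1230376, 34, 0), (1484824, 34, 1),
  (6344194, 35, 0), (5842956, 35, 1), (1110320, 36, 1), (4819776, 37, 0), (150618, 38, 0), (2207772, 38, 1),
  (4253780, 39, 1), (3704512, 40, 1), (301236, 41, 0), (3294342, 41, 1), (7903248, 42, 0), (8126628, 42, 1),
  (2531524, 43, 0), (4459426, 44, 0), (4409606, 44, 1), (1728778, 45, 0), (361272, 45, 1), (475812, 46, 0),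
  (5508118, 47, 0), (6644740, 47, 1), (7221256, 48, 0), (4768432, 48, 1), (2168036, 49, 0), (602472, 51, 0),
  (168928, 51, 1), (84464, 52, 0), (2232654, 52, 1), (4860434, 53, 0), (6359604, 53, 1), (402026, 54, 0),
  (5621792, 55, 0), (5652556, 55, 1), (2810896, 56, 0), (3678776, 56, 1), (231532, 57, 0), (1217620, 57, 1),
  (596054, 58, 0), (463064, 59, 0), (6305926, 60, 0), (4785798, 60, 1), (1192108, 61, 0), (4301220, 62, 0),
  (5375810, 62, 1), (3539848, 63, 1), (5129250, 64, 0), (4415544, 64, 1), (4744776, 65, 0), (4241960, 65, 1),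
  (198058, 66, 0), (237906, 66, 1), (5262104, 67, 0), (4490852, 68, 0), (5405696, 68, 1), (3179802, 69, 0),
  (4038912, 69, 1), (2769128, 70, 0), (692282, 70, 1), (1134148, 71, 0), (277580, 71, 1), (2101096, 72, 0),
  (6889680, 73, 1), (63108, 74, 1), (4921504, 75, 0), (4261212, 76, 0), (6337856, 76, 1), (4536592, 77, 0),
  (6308804, 77, 1), (2702848, 78, 0), (535268, 78, 1), (307594, 79, 0), (1164162, 79, 1), (1608104, 80, 0),
  (1474854, 80, 1), (7473194, 81, 1), (1369154, 82, 0), (1849378, 83, 0), (4336072, 84, 0), (4231958, 84, 1),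
  (1256224, 85, 0), (396116, 85, 1), (615188, 86, 0), (3610628, 88, 0), (804052, 88, 1), (3457556, 89, 0),
  (3951624, 89, 1), (2921478, 90, 0), (1664160, 90, 1), (3444840, 91, 0), (2019456, 91, 1), (2738308, 92, 0),
  (2201890, 93, 1), (1378634, 94, 0), (381252, 94, 1), (2908802, 95, 0), (608810, 95, 1), (5514536, 96, 0),
  (4645632, 96, 1), (6842656, 97, 0), (4850476, 97, 1), (722544, 98, 0), (2242672, 98, 1), (4538962, 99, 0),
  (843820, 100, 1), (6949956, 101, 0), (4731956, 101, 1), (3698756, 103, 0), (792232, 103, 1), (72588, 104, 0),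
  (36294, 104, 1), (1186194, 105, 0), (2425238, 105, 1), (5003780, 106, 0), (4213932, 106, 1), (1351424, 107, 0),
  (1337732, 107, 1), (6979970, 108, 0), (5833010, 108, 1), (926128, 110, 0), (2245426, 110, 1), (1852256, 111, 0),
  (416040, 111, 1), (2820376, 112, 1), (280334, 113, 0), (1327290, 114, 1), (4243818, 116, 0), (5476616, 116, 1),
  (4441280, 119, 0), (5255258, 119, 1), (5350928, 120, 0), (7612992, 120, 1), (2969648, 121, 0), (5210132, 123, 1),
  (2255372, 124, 0), (2605066, 125, 0), (1687640, 125, 1), (3216208, 126, 0), (138790, 127, 0), (208020, 127, 1),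
  (1839388, 128, 0), (2409888, 128, 1), (3328320, 129, 0), (2328324, 130, 0), (1584464, 130, 1), (1245726, 133, 0),
  (2460752, 133, 1), (2365978, 134, 0), (1060490, 135, 1), (5280930, 136, 0), (5709954, 136, 1), (4510744, 137, 0),
  (7397512, 137, 1), (5024896, 138, 0), (6432416, 140, 0), (4465308, 141, 0), (2675464, 142, 0), (1127686, 143, 1),
  (6062602, 144, 0), (2664522, 145, 0), (4271202, 149, 0), (4403780, 149, 1), (6455896, 150, 1), (2106966, 151, 1),
  (5640752, 152, 0), (1121336, 155, 0), (1410188, 156, 0), (2296514, 159, 1), (837906, 164, 0), (4063314, 165, 0),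
  (2949708, 166, 0), (580704, 166, 1), (3154402, 167, 0), (987906, 167, 1), (2654580, 169, 1), (421910, 172, 0),
  (2180760, 172, 1), (1103886, 173, 0), (2268296, 174, 0), (1613974, 174, 1), (1161408, 176, 0), (10558, 177, 0),
  (180636, 178, 1), (4367374, 179, 0), (5409412, 180, 1), (628112, 181, 0), (5538256, 182, 0), (832080, 183, 0),
  (3168928, 183, 1), (884962, 184, 0), (1265762, 184, 1), (6594610, 185, 0), (8077824, 185, 1), (190626, 188, 0),
  (4485344, 189, 0), (4346506, 189, 1), (3806496, 192, 0), (4726026, 193, 1), (6365962, 195, 0), (1384564, 196, 0),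
  (2512448, 196, 1), (2372388, 197, 1), (7357552, 200, 0), (7438406, 201, 0), (6100032, 201, 1), (919694, 202, 0),
  (115766, 202, 1), (1710664, 203, 0), (7345676, 204, 1), (1204944, 205, 1), (6915112, 206, 0), (5939296, 206, 1),
  (1805314, 207, 0), (5785794, 209, 0), (4526126, 209, 1), (3351624, 210, 0), (90318, 211, 0), (104010, 211, 1),
  (4294810, 212, 1), (4220306, 213, 1), (5780352, 214, 0), (157028, 215, 0), (145176, 215, 1), (4282144, 216, 0),
  (2141072, 217, 1), (31554, 219, 0), (3672838, 225, 0), (855332, 225, 1), (2704706, 226, 0), (4989254, 228, 0),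
  (42232, 232, 0), (3322370, 232, 1), (6820450, 233, 1), (2491452, 235, 0), (6656640, 236, 0), (3474978, 237, 1),
  (742412, 242, 0), (4202192, 243, 0), (675712, 247, 0), (3421328, 249, 1), (337856, 255, 0), (6750560, 256, 1),
  (2826278, 264, 0), (371206, 265, 0), (4870480, 266, 1), (7409024, 267, 0), (7079696, 268, 1), (555160, 269, 0),
  (2130606, 269, 1), (1525008, 274, 0), (2384216, 274, 1), (5899416, 276, 0), (6295992, 277, 0), (4982904, 279, 1),
  (861210, 281, 1), (1070536, 282, 0), (3050016, 285, 0), (1722420, 285, 1), (705094, 286, 0), (3375280, 292, 0),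
  (1009728, 297, 0), (21116, 297, 1), (1903248, 304, 1), (2377830, 306, 1), (2220640, 314, 0), (6475812, 319, 0)]

def o330Gens : List (List ℕ × List ℕ) := [
  ([0, 13, 9, 17, 8, 20, 6, 2, 5, 10, 7, 11, 1, 16, 22, 19, 12, 3, 21, 14, 4, 18, 15, 23],
   [0, 12, 7, 17, 20, 8, 6, 10, 4, 2, 9, 11, 16, 1, 19, 22, 13, 3, 21, 15, 5, 18, 14, 23]),
  ([0, 12, 17, 10, 18, 2, 20, 11, 8, 9, 4, 7, 19, 22, 13, 1, 14, 21, 3, 15, 6, 5, 16, 23],
   [0, 15, 5, 18, 10, 21, 20, 11, 8, 9, 3, 7, 1, 14, 16, 19, 22, 2, 4, 12, 6, 17, 13, 23])]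

def o330Tree : List (ℕ × ℕ × ℕ) := [
  (2, 0, 0), (8192, 0, 0), (4096, 0, 1), (65536, 1, 0), (4194304, 1, 1), (524288, 2, 1), (16384, 3, 1), (32768, 4, 0)]

/-- class of a code word: `0` for the octads avoiding both base points -/
def cNcls (m : ℕ) : ℕ :=
  if helper2.Golay.wt (helper2.Golay.cw m) = 8 ∧ (helper2.Golay.cw m).testBit 23 = false ∧
      (helper2.Golay.cw m).testBit 0 = false then 0
  else 99

theorem m22Gens_ok : helper2.Golay.cfgGensOK [23, 0] [] m22Gens = true := by decide +kernel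

theorem m22Tree_ok : [m22Tree].all (helper2.Golay.treeOK m22Gens) = true := by decide +kernel

theorem m22Tree_all : ∀ m < 4096, cNcls m < [m22Tree].length →
    (([m22Tree].getD (cNcls m) []).any (fun e => e.1 == helper2.Golay.cw m) = true) :=
  helper2.Golay.forall_lt_4096 (by decide +kernel)

theorem o330Gens_ok : helper2.Golay.cfgGensOK [23, 0] [4845570] o330Gens = true := by
  decide +kernel

theorem o330Tree_ok : helper2.Golay.treeOK o330Gens o330Tree = true := by decide +kernel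

theorem o330_pts : ∀ j : GolayPt, j ∈ helper2.Golay.pts 4845570 →
    (helper2.Golay.pts (2 ^ helper2.Golay.idx j) = {j} ∧
      o330Tree.any (fun e => e.1 == 2 ^ helper2.Golay.idx j) = true) := by
  decide +kernel

theorem m22_transitive_octN {o o' : Finset GolayPt} (ho : o ∈ octN) (ho' : o' ∈ octN) :
    ∃ σ ∈ M24, σ none = none ∧ σ (some 0) = some 0 ∧ σ • o = o' := by
  obtain ⟨h8, hn, h0⟩ := ho
  obtain ⟨h8', hn', h0'⟩ := ho'
  obtain ⟨m, hm, hw, rfl⟩ := helper2.Golay.exists_of_mem_octads h8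
  obtain ⟨m', hm', hw', rfl⟩ := helper2.Golay.exists_of_mem_octads h8'
  rw [helper2.Golay.mem_pts] at hn hn' h0 h0'
  have i0 : helper2.Golay.idx (some 0) = 0 := by decide
  have i23 : helper2.Golay.idx none = 23 := rfl
  rw [i0] at h0 h0'
  rw [i23] at hn hn'
  have c1 : cNcls m = 0 := by
    unfold cNcls
    rw [if_pos]
    exact ⟨hw, (Bool.not_eq_true _).mp hn, (Bool.not_eq_true _).mp h0⟩
  have c2 : cNcls m' = 0 := by
    unfold cNcls
    rw [if_pos]
    exact ⟨hw', (Bool.not_eq_true _).mp hn', (Bool.not_eq_true _).mp h0'⟩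
  obtain ⟨g, hg, hgo⟩ := helper2.Golay.rank_reach (helper2.Golay.cfgStab [23, 0] []) m22Gens
    (helper2.Golay.cfgGens_mem m22Gens_ok) [m22Tree] m22Tree_ok cNcls m22Tree_all hm hm'
    (by rw [c1]; decide) (by rw [c1, c2])
  obtain ⟨hgM, hfix, _⟩ := helper2.Golay.mem_cfgStab.mp hg
  refine ⟨g, hgM, ?_, ?_, hgo⟩
  · exact hfix 23 (by decide)
  · exact hfix 0 (by decide)

/-- the reference octad off both base points -/
def oN : Finset GolayPt := helper2.Golay.pts 4845570

theorem oN_mem : oN ∈ octN := by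
  have h : oN = helper2.Golay.pts (helper2.Golay.cw 2) := by
    unfold oN
    congr 1
  refine ⟨?_, ?_, ?_⟩
  · rw [h]
    exact helper2.Golay.pts_mem_octads (by norm_num) (by decide)
  · unfold oN; rw [helper2.Golay.mem_pts]; decide
  · unfold oN; rw [helper2.Golay.mem_pts]; decide

theorem m22_transitive_octN_pt {o : Finset GolayPt} (ho : o ∈ octN) {j : GolayPt} (hj : j ∈ o) :
    ∃ σ ∈ M24, σ none = none ∧ σ (some 0) = some 0 ∧ σ • o = oN ∧ σ j = some 1 := by
  obtain ⟨g1, hg1, e0, e1, hgo⟩ := m22_transitive_octN ho oN_mem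
  have hj1 : g1 j ∈ oN := by
    rw [← hgo]
    exact Finset.smul_mem_smul_finset hj
  obtain ⟨hp, ht⟩ := o330_pts (g1 j) hj1
  have hroot : o330Tree.any (fun e => e.1 == 2) = true := by decide
  obtain ⟨g2, hg2, hg2o⟩ := helper2.Golay.reach_gen (helper2.Golay.cfgStab [23, 0] [4845570])
    o330Gens (helper2.Golay.cfgGens_mem o330Gens_ok) o330Tree_ok ht hroot
  obtain ⟨hg2M, hfix, hset⟩ := helper2.Golay.mem_cfgStab.mp hg2
  have f0 : g2 none = none := hfix 23 (by decide)
  have f1 : g2 (some 0) = some 0 := hfix 0 (by decide)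
  have f2 : g2 • oN = oN := hset 4845570 (by decide)
  have hp2 : helper2.Golay.pts 2 = {some 1} := by decide
  rw [hp, hp2, Finset.smul_finset_singleton, Finset.singleton_inj] at hg2o
  refine ⟨g2 * g1, Subgroup.mul_mem _ hg2M hg1, ?_, ?_, ?_, ?_⟩
  · rw [Equiv.Perm.mul_apply, e0, f0]
  · rw [Equiv.Perm.mul_apply, e1, f1]
  · rw [mul_smul, hgo, f2]
  · rw [Equiv.Perm.mul_apply]
    exact hg2o

theorem rorb3_cB2b {x x' : GolayPt → ℤ} (hx : x ∈ cB2b) (hx' : x' ∈ cB2b) : ROrb F3 x x' := by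
  have hxL := hs5_mem (lvC_sub (Or.inl (Or.inr hx)))
  obtain ⟨o, ho, rfl⟩ := hx
  obtain ⟨o', ho', rfl⟩ := hx'
  obtain ⟨σ, hσ, e0, e1, h1⟩ := m22_transitive_octN ho ho'
  have s1 := rorb3_m22 hσ e0 e1 hxL
  beta_reduce at s1
  rw [signedPerm_vB, h1] at s1
  exact s1

theorem rorb3_cC2a_ref {x : GolayPt → ℤ} (hx : x ∈ cC2a) : ROrb F3 x (vC (some 1) oNᶜ) := by
  have hxL := hs5_mem (lvC_sub (Or.inr hx))
  obtain ⟨o, ho, j, hj, rfl⟩ := hx
  obtain ⟨σ, hσ, e0, e1, h1, h2⟩ := m22_transitive_octN_pt ho hj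
  have s1 := rorb3_m22 hσ e0 e1 hxL
  rw [signedPerm_vC, h2, helper2.Golay.smul_compl, h1] at s1
  exact s1

theorem rorb3_cC2a {x x' : GolayPt → ℤ} (hx : x ∈ cC2a) (hx' : x' ∈ cC2a) : ROrb F3 x x' :=
  (rorb3_cC2a_ref hx).trans (rorb3_cC2a_ref hx').symm

end Cfsg.Agent.helper27
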