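import Mathlib
import Cfsg.Agent.Lib_helper27_Co3r6

set_option autoImplicit false

namespace Cfsg.Agent.helper27

open Cfsg
open scoped Pointwise

/-! ### explicit values of the fusing element -/

theorem g2map_A1_B1a : g2map (pair4 none (some 9) (-4) 4) = vB (cw 149) (cw 149 \ {(some 0), (some 4)}) := by
  have e : pair4 none (some 9) (-4) 4 = ofList [0, 0, 0, 0, 0, 0, 0, 0, 0, 4, 0, 0, 0, 0, 0, 0, 0, 0, 0, 0, 0, 0, 0, -4] := by
    decide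
  have e' : vB (cw 149) (cw 149 \ {(some 0), (some 4)}) = ofList [2, 0, -2, 0, 2, 0, 0, -2, 0, 0, 0, 0, 0, 0, 0, 0, 0, -2, -2, 0, -2, 0, 0, -2] := by
    decide
  rw [e, e']
  exact g2map_chain _
    [0, 0, 4, 0, 0, 0, 0, 0, 0, 0, 0, 0, 0, 0, 0, 0, 0, 0, 0, 0, 0, 0, 0, -4]
    [0, 0, 0, -4, 0, 0, 0, 0, 0, 0, 0, 0, 0, 0, 4, 0, 0, 0, 0, 0, 0, 0, 0, 0]
    [0, 0, 0, -4, 0, 0, 0, 0, 0, 0, 0, 0, 0, 0, 4, 0, 0, 0, 0, 0, 0, 0, 0, 0]
    [0, -4, 0, 0, 0, 0, 0, 0, 0, 0, 0, 0, 0, 0, 0, 0, 0, 4, 0, 0, 0, 0, 0, 0]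
    [-2, 2, -2, -2, 0, -2, 0, 0, 0, 0, 0, 0, 0, 0, -2, 0, 0, 2, 0, 0, 0, 0, 0, -2]
    _ (by decide) (by decide) (by decide) (by decide) (by decide) (by decide)

theorem g2map_A1_C1b : g2map (pair4 none (some 1) (-4) 4) = vC none (cw 1206) := by
  have e : pair4 none (some 1) (-4) 4 = ofList [0, 4, 0, 0, 0, 0, 0, 0, 0, 0, 0, 0, 0, 0, 0, 0, 0, 0, 0, 0, 0, 0, 0, -4] := by
    decide
  have e' : vC none (cw 1206) = ofList [1, -1, -1, 1, -1, -1, 1, -1, 1, 1, -1, 1, -1, 1, 1, 1, -1, -1, -1, -1, -1, 1, 1, -3] := by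
    decide
  rw [e, e']
  exact g2map_chain _
    [0, 0, 0, 0, 0, 0, 0, 0, 4, 0, 0, 0, 0, 0, 0, 0, 0, 0, 0, 0, 0, 0, 0, -4]
    [4, 0, 0, -4, 0, 0, 0, 0, 0, 0, 0, 0, 0, 0, 0, 0, 0, 0, 0, 0, 0, 0, 0, 0]
    [-2, 2, 2, -2, 0, 2, 0, 0, 0, 0, 0, 0, 0, 0, 2, 0, 0, 2, 0, 0, 0, 0, 0, 2]
    [-2, -2, -2, 0, 0, 0, 0, 0, 0, 0, 0, 0, 2, 0, 0, 0, 0, 2, 0, -2, -2, 0, -2, 0]
    [-1, -1, -1, -1, 1, -1, 1, 1, -1, 1, 1, -1, 1, 1, -1, 1, 1, 1, -1, -1, -1, 1, -1, -3]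
    _ (by decide) (by decide) (by decide) (by decide) (by decide) (by decide)

theorem g2map_B2a_C2c : g2map (vB (cw 7) (cw 7)) = vC (some 0) (cw 1045)ᶜ := by
  have e : vB (cw 7) (cw 7) = ofList [-2, -2, -2, 0, 0, 0, 0, 0, 0, 0, 0, 0, -2, 0, 0, 0, 0, -2, 0, -2, -2, 0, -2, 0] := by
    decide
  have e' : vC (some 0) (cw 1045)ᶜ = ofList [-3, -1, 1, -1, 1, -1, -1, -1, -1, -1, 1, -1, -1, -1, -1, -1, 1, -1, -1, 1, 1, 1, -1, -1] := by
    decide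
  rw [e, e']
  exact g2map_chain _
    [0, 0, 0, 0, -2, 0, 0, 0, -2, 0, -2, 0, 0, 0, -2, 0, -2, -2, -2, 0, -2, 0, 0, 0]
    [-2, 0, 0, 0, 0, 0, 0, -2, 0, 0, 0, -2, 0, -2, 0, 0, 0, -2, 0, -2, -2, -2, 0, 0]
    [1, -1, -1, 1, 1, 1, 3, 1, 1, 1, 1, -1, 1, -1, 1, 1, 1, -1, 1, 1, -1, 1, 1, -1]
    [-1, -1, 1, 3, 1, 1, 1, 1, 1, 1, 1, -1, -1, -1, 1, 1, -1, -1, 1, 1, 1, 1, 1, 1]
    [1, 1, -1, 1, 1, -1, -1, -1, 1, -1, -1, -1, -1, -1, -1, -1, -1, -3, 1, -1, -1, -1, 1, -1]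
    _ (by decide) (by decide) (by decide) (by decide) (by decide) (by decide)

theorem g2map_B1b_B2b : g2map (vB (cw 1) (cw 1 \ {(some 12), (some 18)})) = vB (cw 22) (cw 22) := by
  have e : vB (cw 1) (cw 1 \ {(some 12), (some 18)}) = ofList [-2, 0, 0, 0, 0, 0, 0, 0, 0, 0, 0, 0, 2, 0, -2, 0, -2, -2, 2, 0, 0, 0, -2, -2] := by
    decide
  have e' : vB (cw 22) (cw 22) = ofList [0, -2, -2, 0, -2, 0, 0, 0, 0, 0, 0, 0, -2, -2, -2, 0, 0, -2, -2, 0, 0, 0, 0, 0] := by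
    decide
  rw [e, e']
  exact g2map_chain _
    [0, 0, 0, 0, -2, 0, -2, 0, 0, 0, 0, 2, -2, 0, -2, 0, 0, 0, 2, 0, -2, 0, 0, -2]
    [0, -2, 0, -2, 0, 2, 0, 0, 0, 0, 0, -2, 0, 0, 0, 0, 0, 2, 0, 0, -2, -2, -2, 0]
    [-1, 1, -1, -3, 1, 1, 1, 1, 1, 1, 1, -1, 1, 1, -1, 1, 1, 1, 1, 1, -1, -1, -1, -1]
    [-1, 1, -1, 1, 1, 1, 1, 1, 1, -1, 1, -1, 1, 1, 1, 1, -1, 3, 1, -1, 1, 1, 1, -1]
    [0, -2, 0, -2, 0, -2, 0, 0, 0, -2, 0, -2, 0, 0, -2, 0, -2, 0, 0, -2, 0, 0, 0, 0]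
    _ (by decide) (by decide) (by decide) (by decide) (by decide) (by decide)

theorem g2map_B1b_C2a : g2map (vB (cw 1) (cw 1 \ {(some 18), (some 22)})) = vC (some 7) (cw 2472)ᶜ := by
  have e : vB (cw 1) (cw 1 \ {(some 18), (some 22)}) = ofList [-2, 0, 0, 0, 0, 0, 0, 0, 0, 0, 0, 0, -2, 0, -2, 0, -2, -2, 2, 0, 0, 0, 2, -2] := by
    decide
  have e' : vC (some 7) (cw 2472)ᶜ = ofList [-1, -1, -1, 1, -1, 1, -1, -3, 1, -1, -1, 1, -1, -1, -1, 1, -1, -1, -1, 1, 1, -1, -1, -1] := by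
    decide
  rw [e, e']
  exact g2map_chain _
    [0, 0, 0, 0, -2, 0, -2, 0, 0, 0, 0, 2, -2, 0, -2, 0, 0, 0, -2, 0, 2, 0, 0, -2]
    [0, -2, 0, -2, 0, 2, 0, 0, 0, 0, 0, 2, 0, 0, 0, 0, 0, -2, 0, 0, -2, -2, -2, 0]
    [-1, 1, -1, -1, 1, 3, 1, 1, -1, 1, 1, 1, -1, 1, 1, 1, 1, -1, -1, 1, -1, -1, -1, -1]
    [-3, -1, 1, 1, -1, 1, 1, 1, 1, -1, 1, 1, 1, 1, 1, -1, -1, 1, 1, -1, 1, -1, 1, -1]
    [1, -1, -3, -1, -1, -1, 1, 1, -1, -1, 1, -1, -1, 1, -1, -1, -1, -1, -1, -1, 1, -1, 1, -1]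
    _ (by decide) (by decide) (by decide) (by decide) (by decide) (by decide)

theorem g2map_B1c_C1a : g2map (vB (cw 4) (cw 4 \ {(some 15), (some 22)})) = vC none (cw 2017) := by
  have e : vB (cw 4) (cw 4 \ {(some 15), (some 22)}) = ofList [0, 0, -2, 0, 0, 0, 0, 0, 0, 0, 0, 0, -2, -2, 0, 2, 0, 0, -2, 0, -2, 0, 2, -2] := by
    decide
  have e' : vC none (cw 2017) = ofList [-1, 1, 1, 1, 1, -1, -1, -1, -1, -1, -1, 1, -1, 1, 1, 1, 1, 1, -1, 1, -1, -1, -1, -3] := by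
    decide
  rw [e, e']
  exact g2map_chain _
    [2, 0, 0, 0, 0, 0, 0, 0, 0, 0, -2, -2, 0, -2, 0, 0, -2, 0, -2, 0, 2, 0, 0, -2]
    [0, 0, 0, -2, 0, -2, 0, 0, 0, 0, -2, 2, 0, -2, 0, 0, 0, -2, 0, -2, 0, 0, 0, 2]
    [1, 1, 1, 1, 1, 1, 1, 1, -1, 1, -1, 1, -1, -1, 3, 1, 1, 1, -1, -1, 1, 1, 1, -1]
    [-1, -3, -1, 1, -1, -1, 1, 1, 1, 1, 1, 1, -1, -1, 1, -1, 1, -1, -1, -1, -1, -1, 1, 1]
    [-1, 1, -1, 1, -1, -1, 1, 1, 1, 1, 1, 1, -1, -1, 1, -1, 1, -1, -1, -1, -1, -1, 1, -3]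
    _ (by decide) (by decide) (by decide) (by decide) (by decide) (by decide)

theorem g2map_B1c_C2b : g2map (vB (cw 4) (cw 4 \ {(some 18), (some 20)})) = vC (some 7) (cw 193)ᶜ := by
  have e : vB (cw 4) (cw 4 \ {(some 18), (some 20)}) = ofList [0, 0, -2, 0, 0, 0, 0, 0, 0, 0, 0, 0, -2, -2, 0, -2, 0, 0, 2, 0, 2, 0, -2, -2] := by
    decide
  have e' : vC (some 7) (cw 193)ᶜ = ofList [1, -1, -1, -1, -1, -1, 1, -3, -1, -1, -1, -1, -1, -1, 1, -1, 1, -1, 1, -1, 1, 1, -1, -1] := by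
    decide
  rw [e, e']
  exact g2map_chain _
    [-2, 0, 0, 0, 0, 0, 0, 0, 0, 0, 2, 2, 0, -2, 0, 0, -2, 0, -2, 0, -2, 0, 0, -2]
    [0, 0, 0, -2, 0, 2, 0, 0, 0, 0, -2, -2, 0, -2, 0, 0, 0, -2, 0, 2, 0, 0, 0, -2]
    [-1, -1, -1, -1, 1, 3, -1, -1, 1, 1, -1, -1, 1, -1, 1, 1, 1, -1, 1, 1, 1, -1, 1, 1]
    [-3, -1, 1, -1, 1, 1, 1, 1, 1, 1, 1, -1, 1, -1, -1, 1, 1, 1, -1, 1, 1, 1, -1, -1]
    [1, -1, -3, -1, 1, 1, -1, -1, 1, -1, -1, -1, 1, -1, -1, -1, 1, 1, -1, -1, -1, -1, -1, -1]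
    _ (by decide) (by decide) (by decide) (by decide) (by decide) (by decide)

/-! ### membership of the representatives -/

theorem cw_octA {k : ℕ} (hk : k < 4096) (h8 : popc (encN k) = 8)
    (hn : (encN k).testBit 23 = false) (h0 : (encN k).testBit 0 = true) : cw k ∈ octA := by
  refine ⟨cw_octad hk h8, ?_, ?_⟩
  · rw [mem_cw_iff, idx_none', hn]; decide
  · rw [mem_cw_iff, idx_some0, h0]

theorem cw_octN {k : ℕ} (hk : k < 4096) (h8 : popc (encN k) = 8)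
    (hn : (encN k).testBit 23 = false) (h0 : (encN k).testBit 0 = false) : cw k ∈ octN := by
  refine ⟨cw_octad hk h8, ?_, ?_⟩
  · rw [mem_cw_iff, idx_none', hn]; decide
  · rw [mem_cw_iff, idx_some0, h0]; decide

theorem cw_oct2 {k : ℕ} (hk : k < 4096) (h8 : popc (encN k) = 8)
    (hn : (encN k).testBit 23 = true) (h0 : (encN k).testBit 0 = true) : cw k ∈ oct2 := by
  refine ⟨cw_octad hk h8, ?_, ?_⟩
  · rw [mem_cw_iff, idx_none', hn]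
  · rw [mem_cw_iff, idx_some0, h0]

theorem cw_oct1 {k : ℕ} (hk : k < 4096) (h8 : popc (encN k) = 8)
    (hn : (encN k).testBit 23 = true) (h0 : (encN k).testBit 0 = false) : cw k ∈ oct1 := by
  refine ⟨cw_octad hk h8, ?_, ?_⟩
  · rw [mem_cw_iff, idx_none', hn]
  · rw [mem_cw_iff, idx_some0, h0]; decide

theorem cw_dodA {k : ℕ} (hk : k < 4096) (h12 : popc (encN k) = 12)
    (hn : (encN k).testBit 23 = false) (h0 : (encN k).testBit 0 = true) : cw k ∈ dodA := by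
  refine ⟨⟨cw_mem_GS hk, by rw [cw_card]; exact h12⟩, ?_, ?_⟩
  · rw [mem_cw_iff, idx_none', hn]; decide
  · rw [mem_cw_iff, idx_some0, h0]

theorem cw_dodN {k : ℕ} (hk : k < 4096) (h12 : popc (encN k) = 12)
    (hn : (encN k).testBit 23 = false) (h0 : (encN k).testBit 0 = false) : cw k ∈ dodN := by
  refine ⟨⟨cw_mem_GS hk, by rw [cw_card]; exact h12⟩, ?_, ?_⟩
  · rw [mem_cw_iff, idx_none', hn]; decide
  · rw [mem_cw_iff, idx_some0, h0]; decide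

theorem pair_mem_ps {s : Finset GolayPt} {p q : GolayPt} (hpq : p ≠ q) (hp : p ∈ s) (hq : q ∈ s) :
    ({p, q} : Finset GolayPt) ∈ s.powersetCard 2 := by
  refine Finset.mem_powersetCard.mpr ⟨?_, Finset.card_pair hpq⟩
  intro x hx
  rcases Finset.mem_insert.mp hx with rfl | hx
  · exact hp
  · rw [Finset.mem_singleton.mp hx]; exact hq

theorem mem_er2 {o : Finset GolayPt} {p : GolayPt} (h1 : p ≠ some 0) (h2 : p ≠ none)
    (h3 : p ∈ o) : p ∈ (o.erase none).erase (some 0) :=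
  Finset.mem_erase.mpr ⟨h1, Finset.mem_erase.mpr ⟨h2, h3⟩⟩

/-! ### representatives of the four suborbits -/

def repA : GolayPt → ℤ := vB (cw 7) (cw 7)
def repB : GolayPt → ℤ := pair4 none (some 9) (-4) 4
def repC : GolayPt → ℤ := vB (cw 1) (cw 1 \ {some 12, some 18})
def repD : GolayPt → ℤ := vB (cw 4) (cw 4 \ {some 15, some 22})

theorem repA_mem : repA ∈ cB2a :=
  ⟨cw 7, cw_octA (by norm_num) (by decide) (by decide) (by decide), rfl⟩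

theorem repB_mem : repB ∈ cA1 := ⟨some 9, ⟨by decide, by decide⟩, rfl⟩

theorem cw1_oct2 : cw 1 ∈ oct2 := cw_oct2 (by norm_num) (by decide) (by decide) (by decide)

theorem cw4_oct1 : cw 4 ∈ oct1 := cw_oct1 (by norm_num) (by decide) (by decide) (by decide)

theorem repC_mem : repC ∈ cB1b :=
  ⟨cw 1, cw1_oct2, {some 12, some 18}, pair_mem_ps (by decide)
    (mem_er2 (by decide) (by decide) (by rw [mem_cw_iff]; decide))
    (mem_er2 (by decide) (by decide) (by rw [mem_cw_iff]; decide)), rfl⟩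

theorem repC'_mem : vB (cw 1) (cw 1 \ {some 18, some 22}) ∈ cB1b :=
  ⟨cw 1, cw1_oct2, {some 18, some 22}, pair_mem_ps (by decide)
    (mem_er2 (by decide) (by decide) (by rw [mem_cw_iff]; decide))
    (mem_er2 (by decide) (by decide) (by rw [mem_cw_iff]; decide)), rfl⟩

theorem repD_mem : repD ∈ cB1c :=
  ⟨cw 4, cw4_oct1, {some 15, some 22}, pair_mem_ps (by decide)
    (Finset.mem_erase.mpr ⟨by decide, by rw [mem_cw_iff]; decide⟩)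
    (Finset.mem_erase.mpr ⟨by decide, by rw [mem_cw_iff]; decide⟩), rfl⟩

theorem repD'_mem : vB (cw 4) (cw 4 \ {some 18, some 20}) ∈ cB1c :=
  ⟨cw 4, cw4_oct1, {some 18, some 20}, pair_mem_ps (by decide)
    (Finset.mem_erase.mpr ⟨by decide, by rw [mem_cw_iff]; decide⟩)
    (Finset.mem_erase.mpr ⟨by decide, by rw [mem_cw_iff]; decide⟩), rfl⟩

theorem repA_lv : repA ∈ lvA := Or.inl repA_mem
theorem repB_lv : repB ∈ lvB := Or.inl (Or.inl repB_mem)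
theorem repC_lv : repC ∈ lvC := Or.inl (Or.inl repC_mem)
theorem repD_lv : repD ∈ lvD := Or.inl (Or.inl repD_mem)

theorem rorb3_lvA {x : GolayPt → ℤ} (hx : x ∈ lvA) : ROrb F3 x repA := by
  rcases hx with hx | hx
  · exact rorb3_cB2a hx repA_mem
  · have hm : vC (some 0) (cw 1045)ᶜ ∈ cC2c :=
      ⟨cw 1045, cw_octA (by norm_num) (by decide) (by decide) (by decide), rfl⟩
    have s2 := rorb3_g2map (hs5_mem (lvA_sub repA_lv))
    unfold repA at s2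
    rw [g2map_B2a_C2c] at s2
    exact (rorb3_cC2c hx hm).trans s2.symm

theorem rorb3_lvB {x : GolayPt → ℤ} (hx : x ∈ lvB) : ROrb F3 x repB := by
  rcases hx with (hx | hx) | hx
  · exact rorb3_cA1 hx repB_mem
  · have hm : vB (cw 149) (cw 149 \ {some 0, some 4}) ∈ cB1a :=
      ⟨cw 149, cw149_oct2, some 4,
        mem_er2 (by decide) (by decide) (by rw [mem_cw_iff]; decide), rfl⟩
    have s2 := rorb3_g2map (hs5_mem (lvB_sub repB_lv))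
    unfold repB at s2
    rw [g2map_A1_B1a] at s2
    exact (rorb3_cB1a hx hm).trans s2.symm
  · have hm : vC none (cw 1206) ∈ cC1b :=
      ⟨cw 1206, cw_dodN (by norm_num) (by decide) (by decide) (by decide), rfl⟩
    have hA : pair4 none (some 1) (-4) 4 ∈ cA1 := ⟨some 1, ⟨by decide, by decide⟩, rfl⟩
    have s2 := rorb3_g2map (hs5_mem (lvB_sub (Or.inl (Or.inl hA))))
    rw [g2map_A1_C1b] at s2
    exact ((rorb3_cC1b hx hm).trans s2.symm).trans (rorb3_cA1 hA repB_mem)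

theorem rorb3_lvC {x : GolayPt → ℤ} (hx : x ∈ lvC) : ROrb F3 x repC := by
  rcases hx with (hx | hx) | hx
  · exact rorb3_cB1b hx repC_mem
  · have hm : vB (cw 22) (cw 22) ∈ cB2b :=
      ⟨cw 22, cw_octN (by norm_num) (by decide) (by decide) (by decide), rfl⟩
    have s2 := rorb3_g2map (hs5_mem (lvC_sub repC_lv))
    unfold repC at s2
    rw [g2map_B1b_B2b] at s2
    exact (rorb3_cB2b hx hm).trans s2.symm
  · have hm : vC (some 7) (cw 2472)ᶜ ∈ cC2a :=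
      ⟨cw 2472, cw_octN (by norm_num) (by decide) (by decide) (by decide), some 7,
        by rw [mem_cw_iff]; decide, rfl⟩
    have s2 := rorb3_g2map (hs5_mem (lvC_sub (Or.inl (Or.inl repC'_mem))))
    rw [g2map_B1b_C2a] at s2
    exact ((rorb3_cC2a hx hm).trans s2.symm).trans (rorb3_cB1b repC'_mem repC_mem)

theorem rorb3_lvD {x : GolayPt → ℤ} (hx : x ∈ lvD) : ROrb F3 x repD := by
  rcases hx with (hx | hx) | hx
  · exact rorb3_cB1c hx repD_mem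
  · have hm : vC none (cw 2017) ∈ cC1a :=
      ⟨cw 2017, cw_dodA (by norm_num) (by decide) (by decide) (by decide), rfl⟩
    have s2 := rorb3_g2map (hs5_mem (lvD_sub repD_lv))
    unfold repD at s2
    rw [g2map_B1c_C1a] at s2
    exact (rorb3_cC1a hx hm).trans s2.symm
  · have hm : vC (some 7) (cw 193)ᶜ ∈ cC2b :=
      ⟨cw 193, cw_octA (by norm_num) (by decide) (by decide) (by decide), some 7,
        Finset.mem_erase.mpr ⟨by decide, by rw [mem_cw_iff]; decide⟩, rfl⟩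
    have s2 := rorb3_g2map (hs5_mem (lvD_sub (Or.inl (Or.inl repD'_mem))))
    rw [g2map_B1c_C2b] at s2
    exact ((rorb3_cC2b hx hm).trans s2.symm).trans (rorb3_cB1c repD'_mem repD_mem)

end Cfsg.Agent.helper27
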