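import Mathlib
import Cfsg.Agent.Lib_helper27_Co3r7

set_option autoImplicit false

namespace Cfsg.Agent.helper27

open Cfsg MulAction
open scoped Pointwise

/-! ### the rank five action: assembly -/

theorem lvA_mem {x : GolayPt → ℤ} (h : x ∈ lvA) : x ∈ leechLattice := hs5_mem (lvA_sub h)
theorem lvB_mem {x : GolayPt → ℤ} (h : x ∈ lvB) : x ∈ leechLattice := hs5_mem (lvB_sub h)
theorem lvC_mem {x : GolayPt → ℤ} (h : x ∈ lvC) : x ∈ leechLattice := hs5_mem (lvC_sub h)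
theorem lvD_mem {x : GolayPt → ℤ} (h : x ∈ lvD) : x ∈ leechLattice := hs5_mem (lvD_sub h)

def repAL : leechLattice := ⟨repA, lvA_mem repA_lv⟩
def repBL : leechLattice := ⟨repB, lvB_mem repB_lv⟩
def repCL : leechLattice := ⟨repC, lvC_mem repC_lv⟩
def repDL : leechLattice := ⟨repD, lvD_mem repD_lv⟩

/-- invariance of the level under the stabiliser of the two reference vectors -/
theorem level_invariant {g : Co0} (hg : ∀ w ∈ F3, g • w = w) (r : leechLattice)
    (hr : r.1 ∈ hs5) : (g • r).1 ∈ hs5 ∧ dotInt href (g • r).1 = dotInt href r.1 := by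
  have h1 : g • u5L = u5L := hg _ (Or.inl rfl)
  have h2 : g • hrefL = hrefL := hg _ (Or.inr rfl)
  constructor
  · rw [← hsSet_std, ← h1, hsSet_smul, hsSet_std]
    exact hr
  · have := co0_smul_dot g hrefL r
    rw [h2] at this
    exact this

theorem fixOrb3_lvA (z : leechLattice) : FixOrb F3 repAL z ↔ z.1 ∈ lvA := by
  constructor
  · rintro ⟨g, hg, rfl⟩
    obtain ⟨h1, h2⟩ := level_invariant hg repAL (lvA_sub repA_lv)
    rw [lvA_iff]
    exact ⟨h1, h2.trans (dot_lvA repA_lv)⟩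
  · intro hz
    exact (ROrb.fixOrb (x := z) (y := repAL) (rorb3_lvA hz)).symm

theorem fixOrb3_lvB (z : leechLattice) : FixOrb F3 repBL z ↔ z.1 ∈ lvB := by
  constructor
  · rintro ⟨g, hg, rfl⟩
    obtain ⟨h1, h2⟩ := level_invariant hg repBL (lvB_sub repB_lv)
    rw [lvB_iff]
    exact ⟨h1, h2.trans (dot_lvB repB_lv)⟩
  · intro hz
    exact (ROrb.fixOrb (x := z) (y := repBL) (rorb3_lvB hz)).symm

theorem fixOrb3_lvC (z : leechLattice) : FixOrb F3 repCL z ↔ z.1 ∈ lvC := by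
  constructor
  · rintro ⟨g, hg, rfl⟩
    obtain ⟨h1, h2⟩ := level_invariant hg repCL (lvC_sub repC_lv)
    rw [lvC_iff]
    exact ⟨h1, h2.trans (dot_lvC repC_lv)⟩
  · intro hz
    exact (ROrb.fixOrb (x := z) (y := repCL) (rorb3_lvC hz)).symm

theorem fixOrb3_lvD (z : leechLattice) : FixOrb F3 repDL z ↔ z.1 ∈ lvD := by
  constructor
  · rintro ⟨g, hg, rfl⟩
    obtain ⟨h1, h2⟩ := level_invariant hg repDL (lvD_sub repD_lv)
    rw [lvD_iff]
    exact ⟨h1, h2.trans (dot_lvD repD_lv)⟩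
  · intro hz
    exact (ROrb.fixOrb (x := z) (y := repDL) (rorb3_lvD hz)).symm

theorem mem_orbit_inf_iff (u x y z : leechLattice) :
    z ∈ orbit ↥(stabilizer Co0 u ⊓ stabilizer Co0 x) y ↔ FixOrb {u, x} y z := by
  constructor
  · rintro ⟨g, rfl⟩
    obtain ⟨h1, h2⟩ := Subgroup.mem_inf.mp g.2
    rw [mem_stabilizer_iff] at h1 h2
    refine ⟨g.1, ?_, rfl⟩
    intro w hw
    rcases hw with rfl | rfl
    · exact h1
    · exact h2
  · rintro ⟨g, hg, rfl⟩
    have hm : g ∈ stabilizer Co0 u ⊓ stabilizer Co0 x :=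
      Subgroup.mem_inf.mpr ⟨mem_stabilizer_iff.mpr (hg u (Or.inl rfl)),
        mem_stabilizer_iff.mpr (hg x (Or.inr rfl))⟩
    exact ⟨⟨g, hm⟩, rfl⟩

theorem fixOrb_frame {u x : leechLattice} {g0 : Co0} (hu : g0 • u = u5L) (hx : g0 • x = hrefL)
    (y z : leechLattice) : FixOrb {u, x} y z ↔ FixOrb F3 (g0 • y) (g0 • z) := by
  constructor
  · intro h
    apply FixOrb.transport g0⁻¹ (F' := ({u, x} : Set leechLattice))
    · intro w hw
      rcases hw with rfl | rfl
      · left; rw [← hu, inv_smul_smul]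
      · right; rw [← hx, inv_smul_smul]; rfl
    · rw [inv_smul_smul, inv_smul_smul]
      exact h
  · intro h
    apply FixOrb.transport g0 (F' := F3) _ h
    intro w hw
    rcases hw with rfl | rfl
    · rw [hu]; exact Or.inl rfl
    · rw [hx]; exact Or.inr rfl

/-- an orbit of the stabiliser of the pair, as the preimage of a level set -/
theorem orbit_eq_image {u x : leechLattice} {g0 : Co0} (hu : g0 • u = u5L) (hx : g0 • x = hrefL)
    (r : leechLattice) (L : Set (GolayPt → ℤ))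
    (hL : ∀ z : leechLattice, FixOrb F3 r z ↔ z.1 ∈ L) :
    orbit ↥(stabilizer Co0 u ⊓ stabilizer Co0 x) (g0⁻¹ • r)
      = (fun z => g0⁻¹ • z) '' {z : leechLattice | z.1 ∈ L} := by
  ext z
  rw [mem_orbit_inf_iff, fixOrb_frame hu hx, smul_inv_smul, hL]
  constructor
  · intro h
    exact ⟨g0 • z, h, inv_smul_smul g0 z⟩
  · rintro ⟨w, hw, rfl⟩
    rw [smul_inv_smul]
    exact hw

theorem orbit_ncard {u x : leechLattice} {g0 : Co0} (hu : g0 • u = u5L) (hx : g0 • x = hrefL)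
    (r : leechLattice) (L : Set (GolayPt → ℤ))
    (hL : ∀ z : leechLattice, FixOrb F3 r z ↔ z.1 ∈ L) (hLm : ∀ x ∈ L, x ∈ leechLattice) :
    (orbit ↥(stabilizer Co0 u ⊓ stabilizer Co0 x) (g0⁻¹ • r)).ncard = L.ncard := by
  rw [orbit_eq_image hu hx r L hL, Set.ncard_image_of_injective _ (MulAction.injective g0⁻¹)]
  exact ncard_subtype_of_raw hLm (fun y => Iff.rfl)

/-- statement of `S1641` -/
theorem co3_rank5 (u x : leechLattice) (hu : sqNorm (u : GolayPt → ℤ) = 48)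
    (hx : x ∈ hsSet u) :
    ∃ y₁ ∈ hsSet u, ∃ y₂ ∈ hsSet u, ∃ y₃ ∈ hsSet u, ∃ y₄ ∈ hsSet u,
      (orbit ↥(stabilizer Co0 u ⊓ stabilizer Co0 x) y₁).ncard = 352 ∧
      (orbit ↥(stabilizer Co0 u ⊓ stabilizer Co0 x) y₂).ncard = 1100 ∧
      (orbit ↥(stabilizer Co0 u ⊓ stabilizer Co0 x) y₃).ncard = 4125 ∧
      (orbit ↥(stabilizer Co0 u ⊓ stabilizer Co0 x) y₄).ncard = 5600 ∧
      hsSet u = {x} ∪ orbit ↥(stabilizer Co0 u ⊓ stabilizer Co0 x) y₁
        ∪ orbit ↥(stabilizer Co0 u ⊓ stabilizer Co0 x) y₂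
        ∪ orbit ↥(stabilizer Co0 u ⊓ stabilizer Co0 x) y₃
        ∪ orbit ↥(stabilizer Co0 u ⊓ stabilizer Co0 x) y₄ := by
  obtain ⟨g0, hgu, hgx⟩ := hs_frame' u x hu hx
  have hmem : ∀ r : leechLattice, r.1 ∈ hs5 → g0⁻¹ • r ∈ hsSet u := by
    intro r hr
    rw [← hsSet_smul g0, smul_inv_smul, hgu, hsSet_std]
    exact hr
  refine ⟨g0⁻¹ • repAL, hmem _ (lvA_sub repA_lv), g0⁻¹ • repBL, hmem _ (lvB_sub repB_lv),
    g0⁻¹ • repCL, hmem _ (lvC_sub repC_lv), g0⁻¹ • repDL, hmem _ (lvD_sub repD_lv), ?_, ?_, ?_, ?_,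
    ?_⟩
  · rw [orbit_ncard hgu hgx repAL lvA fixOrb3_lvA (fun x => lvA_mem), lvA_ncard]
  · rw [orbit_ncard hgu hgx repBL lvB fixOrb3_lvB (fun x => lvB_mem), lvB_ncard]
  · rw [orbit_ncard hgu hgx repCL lvC fixOrb3_lvC (fun x => lvC_mem), lvC_ncard]
  · rw [orbit_ncard hgu hgx repDL lvD fixOrb3_lvD (fun x => lvD_mem), lvD_ncard]
  · rw [orbit_eq_image hgu hgx repAL lvA fixOrb3_lvA, orbit_eq_image hgu hgx repBL lvB fixOrb3_lvB,
      orbit_eq_image hgu hgx repCL lvC fixOrb3_lvC, orbit_eq_image hgu hgx repDL lvD fixOrb3_lvD]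
    ext z
    have hz : z ∈ hsSet u ↔ (g0 • z).1 ∈ hs5 := by
      rw [← hsSet_smul g0, hgu, hsSet_std]
    have himg : ∀ L : Set (GolayPt → ℤ),
        z ∈ (fun z => g0⁻¹ • z) '' {z : leechLattice | z.1 ∈ L} ↔ (g0 • z).1 ∈ L := by
      intro L
      constructor
      · rintro ⟨w, hw, rfl⟩
        rw [smul_inv_smul]
        exact hw
      · intro h
        exact ⟨g0 • z, h, inv_smul_smul g0 z⟩
    have hzx : z = x ↔ (g0 • z).1 = href := by
      constructor
      · rintro rfl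
        rw [hgx]; rfl
      · intro h
        have : g0 • z = g0 • x := by
          rw [hgx]; exact Subtype.ext h
        exact MulAction.injective g0 this
    simp only [Set.mem_union, Set.mem_singleton_iff, himg, hz, hzx]
    constructor
    · intro h
      rcases hs5_cases h with h | h | h | h | h
      · exact Or.inl (Or.inl (Or.inl (Or.inl h)))
      · exact Or.inl (Or.inl (Or.inl (Or.inr h)))
      · exact Or.inl (Or.inl (Or.inr h))
      · exact Or.inl (Or.inr h)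
      · exact Or.inr h
    · rintro ((((h | h) | h) | h) | h)
      · rw [h]; exact hsA_subset href_hsA
      · exact lvA_sub h
      · exact lvB_sub h
      · exact lvC_sub h
      · exact lvD_sub h

end Cfsg.Agent.helper27
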