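import Mathlib

set_option autoImplicit false

namespace Cfsg.Agent.helper27

open MulAction

/-! ### a simplicity criterion for primitive groups with simple point stabilisers -/

/-- a normal subgroup fixing one point of a faithful transitive action is trivial -/
theorem normal_le_stab_eq_bot {G Ω : Type*} [Group G] [MulAction G Ω] [FaithfulSMul G Ω]
    [IsPretransitive G Ω] (α : Ω) (N : Subgroup G) [hN : N.Normal] (h : N ≤ stabilizer G α) :
    N = ⊥ := by
  rw [Subgroup.eq_bot_iff_forall]
  intro n hn
  apply FaithfulSMul.eq_of_smul_eq_smul (α := Ω)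
  intro x
  obtain ⟨g, rfl⟩ := exists_smul_eq G α x
  have h1 : g⁻¹ * n * g ∈ N := by
    have := hN.conj_mem n hn g⁻¹
    rwa [inv_inv] at this
  have h2 := h h1
  rw [mem_stabilizer_iff, mul_smul, mul_smul, inv_smul_eq_iff] at h2
  rw [one_smul, h2]

/-- a transitive normal subgroup containing a point stabiliser is everything -/
theorem eq_top_of_trans_of_stab_le {G Ω : Type*} [Group G] [MulAction G Ω] (α : Ω)
    (N : Subgroup G) (htr : ∀ x : Ω, ∃ n ∈ N, n • α = x) (h : stabilizer G α ≤ N) : N = ⊤ := by
  rw [Subgroup.eq_top_iff']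
  intro g
  obtain ⟨n, hn, hng⟩ := htr (g • α)
  have h1 : n⁻¹ * g ∈ stabilizer G α := by
    rw [mem_stabilizer_iff, mul_smul, ← hng, inv_smul_smul]
  have h2 := N.mul_mem hn (h h1)
  rwa [mul_inv_cancel_left] at h2

/-- a transitive subgroup meeting a point stabiliser trivially has the order of the set -/
theorem card_eq_of_regular {G Ω : Type*} [Group G] [MulAction G Ω] (α : Ω)
    (N : Subgroup G) (htr : ∀ x : Ω, ∃ n ∈ N, n • α = x) (h : N ⊓ stabilizer G α = ⊥) :
    Nat.card N = Nat.card Ω := by
  apply Nat.card_congr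
  refine Equiv.ofBijective (fun n : N => (n : G) • α) ⟨?_, ?_⟩
  · intro n n' hnn
    simp only at hnn
    have h0 : (n' : G)⁻¹ * n ∈ stabilizer G α := by
      rw [mem_stabilizer_iff, mul_smul, hnn, inv_smul_smul]
    have h1 : (n' : G)⁻¹ * n ∈ N ⊓ stabilizer G α :=
      Subgroup.mem_inf.mpr ⟨N.mul_mem (N.inv_mem n'.2) n.2, h0⟩
    rw [h, Subgroup.mem_bot] at h1
    apply Subtype.ext
    have := inv_mul_eq_one.mp h1
    exact this.symm
  · intro x
    obtain ⟨n, hn, hnx⟩ := htr x
    exact ⟨⟨n, hn⟩, hnx⟩

theorem isSimpleGroup_of_prim_stab {G Ω : Type*} [Group G] [Finite G] [MulAction G Ω]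
    [FaithfulSMul G Ω] [IsPretransitive G Ω] (α : Ω)
    (hH : IsSimpleGroup (stabilizer G α))
    (hprim : ∀ N : Subgroup G, N.Normal →
      N ≤ stabilizer G α ∨ ∀ x : Ω, ∃ n ∈ N, n • α = x)
    (p k m : ℕ) [hp : Fact p.Prime] (hcard : Nat.card Ω = p ^ k * m) (hk : 0 < k) (hm : 1 < m)
    (hpm : ¬ p ∣ m) (huniq : ∀ d, d ∣ m → d ≡ 1 [MOD p] → d = 1) : IsSimpleGroup G := by
  have hnt : Nontrivial G := by
    have := hH.toNontrivial
    obtain ⟨a, b, hab⟩ := this
    exact ⟨⟨a.1, b.1, fun h => hab (Subtype.ext h)⟩⟩
  refine ⟨fun N hN => ?_⟩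
  rcases hprim N hN with h1 | htr
  · exact Or.inl (normal_le_stab_eq_bot α N h1)
  · right
    have hK : (N.subgroupOf (stabilizer G α)).Normal := hN.subgroupOf _
    rcases hH.eq_bot_or_eq_top_of_normal _ hK with hb | ht
    · exfalso
      rw [Subgroup.subgroupOf_eq_bot, disjoint_iff] at hb
      have hc : Nat.card N = p ^ k * m := by rw [card_eq_of_regular α N htr hb, hcard]
      -- the Sylow `p`-subgroup of `N`
      have hfac : (Nat.card N).factorization p = k := by
        rw [hc, Nat.factorization_mul (pow_ne_zero _ hp.out.ne_zero) (by omega),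
          Nat.factorization_pow, Finsupp.add_apply, Finsupp.smul_apply,
          hp.out.factorization_self, Nat.factorization_eq_zero_of_not_dvd hpm]
        simp
      let P : Sylow p N := default
      have hPc : Nat.card P = p ^ k := by rw [Sylow.card_eq_multiplicity, hfac]
      have hidx : (P : Subgroup N).index = m := by
        have h1 := (P : Subgroup N).card_mul_index
        rw [hPc, hc] at h1
        exact Nat.eq_of_mul_eq_mul_left (pow_pos hp.out.pos k) h1
      have h1 : Nat.card (Sylow p N) = 1 :=
        huniq _ (hidx ▸ Sylow.card_dvd_index P) (card_sylow_modEq_one p N)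
      have hsub : Subsingleton (Sylow p N) := (Nat.card_eq_one_iff_unique.mp h1).1
      have hchar : (P : Subgroup N).Characteristic := Sylow.characteristic_of_subsingleton P
      have hQn : ((P : Subgroup N).map N.subtype).Normal :=
        ConjAct.normal_of_characteristic_of_normal
      have hQc : Nat.card ((P : Subgroup N).map N.subtype) = p ^ k := by
        rw [Subgroup.card_map_of_injective N.subtype_injective]
        exact hPc
      have hpk : 1 < p ^ k := Nat.one_lt_pow hk.ne' hp.out.one_lt
      rcases hprim _ hQn with h2 | h2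
      · have := normal_le_stab_eq_bot α _ h2
        rw [this, Subgroup.card_bot] at hQc
        omega
      · have hsurj : Function.Surjective
            (fun n : ((P : Subgroup N).map N.subtype) => (n : G) • α) := by
          intro x
          obtain ⟨n, hn, hnx⟩ := h2 x
          exact ⟨⟨n, hn⟩, hnx⟩
        have hle := Nat.card_le_card_of_surjective _ hsurj
        rw [hcard, hQc] at hle
        have : p ^ k * 2 ≤ p ^ k * m := Nat.mul_le_mul_left _ hm
        omega
    · rw [Subgroup.subgroupOf_eq_top] at ht
      exact eq_top_of_trans_of_stab_le α N htr ht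

end Cfsg.Agent.helper27
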