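import Mathlib
import Cfsg.Agent.Lib_helper27_SimpleCrit

set_option autoImplicit false

namespace Cfsg.Agent.helper27

open MulAction

/-- a transitive rank 3 action whose subdegrees do not allow blocks is primitive, in the form
used by `isSimpleGroup_of_prim_stab` -/
theorem prim_of_rank3 {G Ω : Type*} [Group G] [MulAction G Ω] [Finite Ω] [IsPretransitive G Ω]
    (α : Ω) (P : Ω → Prop) (hPα : ¬ P α) (d₁ d₂ : ℕ) (hQ : {y : Ω | P y}.ncard = d₁)
    (hR : {y : Ω | y ≠ α ∧ ¬ P y}.ncard = d₂)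
    (htr : ∀ y y' : Ω, y ≠ α → y' ≠ α → (P y ↔ P y') → ∃ h ∈ stabilizer G α, h • y = y')
    (hn1 : ¬ (1 + d₁) ∣ Nat.card Ω) (hn2 : ¬ (1 + d₂) ∣ Nat.card Ω)
    (N : Subgroup G) (hN : N.Normal) :
    N ≤ stabilizer G α ∨ ∀ x : Ω, ∃ n ∈ N, n • α = x := by
  classical
  have hB : IsBlock G (orbit N α) := IsBlock.orbit_of_normal α
  have hdvd : (orbit N α).ncard ∣ Nat.card Ω := hB.ncard_dvd_card ⟨α, mem_orbit_self α⟩
  have hmem : ∀ x : Ω, x ∈ orbit N α ↔ ∃ n ∈ N, n • α = x := by
    intro x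
    constructor
    · rintro ⟨n, rfl⟩
      exact ⟨n.1, n.2, rfl⟩
    · rintro ⟨n, hn, rfl⟩
      exact ⟨⟨n, hn⟩, rfl⟩
  -- invariance under the point stabiliser
  have hinv : ∀ h ∈ stabilizer G α, ∀ x ∈ orbit N α, h • x ∈ orbit N α := by
    intro h hh x hx
    obtain ⟨n, hn, rfl⟩ := (hmem x).mp hx
    rw [hmem]
    refine ⟨h * n * h⁻¹, hN.conj_mem n hn h, ?_⟩
    have : h⁻¹ • α = α := by rw [inv_smul_eq_iff]; exact (mem_stabilizer_iff.mp hh).symm
    rw [mul_smul, mul_smul, this]
  have hfill : ∀ y ∈ orbit N α, y ≠ α → ∀ y' : Ω, y' ≠ α → (P y ↔ P y') → y' ∈ orbit N α := by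
    intro y hy hya y' hya' hiff
    obtain ⟨h, hh, rfl⟩ := htr y y' hya hya' hiff
    exact hinv h hh y hy
  by_cases c1 : ∃ y ∈ orbit N α, P y
  · by_cases c2 : ∃ y ∈ orbit N α, y ≠ α ∧ ¬ P y
    · right
      intro x
      rw [← hmem]
      obtain ⟨y1, hy1, hP1⟩ := c1
      obtain ⟨y2, hy2, hne2, hP2⟩ := c2
      by_cases hx : x = α
      · rw [hx]; exact mem_orbit_self α
      · by_cases hPx : P x
        · exact hfill y1 hy1 (fun h => hPα (h ▸ hP1)) x hx ⟨fun _ => hPx, fun _ => hP1⟩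
        · exact hfill y2 hy2 hne2 x hx ⟨fun h => absurd h hP2, fun h => absurd h hPx⟩
    · exfalso
      apply hn1
      have hset : orbit N α = insert α {y : Ω | P y} := by
        ext x
        constructor
        · intro hx
          by_cases hxa : x = α
          · exact Or.inl hxa
          · right
            by_contra hPx
            exact c2 ⟨x, hx, hxa, hPx⟩
        · rintro (hx | hx)
          · rw [hx]; exact mem_orbit_self α
          · obtain ⟨y1, hy1, hP1⟩ := c1
            exact hfill y1 hy1 (fun h => hPα (h ▸ hP1)) x (fun h => hPα (h ▸ hx))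
              ⟨fun _ => hx, fun _ => hP1⟩
      rw [hset, Set.ncard_insert_of_notMem (by simpa using hPα) (Set.toFinite _), hQ,
        add_comm] at hdvd
      exact hdvd
  · by_cases c2 : ∃ y ∈ orbit N α, y ≠ α ∧ ¬ P y
    · exfalso
      apply hn2
      have hset : orbit N α = insert α {y : Ω | y ≠ α ∧ ¬ P y} := by
        ext x
        constructor
        · intro hx
          by_cases hxa : x = α
          · exact Or.inl hxa
          · right
            refine ⟨hxa, fun hPx => c1 ⟨x, hx, hPx⟩⟩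
        · rintro (hx | ⟨hx1, hx2⟩)
          · rw [hx]; exact mem_orbit_self α
          · obtain ⟨y2, hy2, hne2, hP2⟩ := c2
            exact hfill y2 hy2 hne2 x hx1 ⟨fun h => absurd h hP2, fun h => absurd h hx2⟩
      rw [hset, Set.ncard_insert_of_notMem (by simp) (Set.toFinite _), hR, add_comm] at hdvd
      exact hdvd
    · left
      intro n hn
      rw [mem_stabilizer_iff]
      by_contra hne
      have hx : n • α ∈ orbit N α := (hmem _).mpr ⟨n, hn, rfl⟩
      by_cases hPx : P (n • α)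
      · exact c1 ⟨_, hx, hPx⟩
      · exact c2 ⟨_, hx, hne, hPx⟩

end Cfsg.Agent.helper27
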