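import Mathlib
import Cfsg.Agent.Lib_helper27_HS6
import Cfsg.Agent.Lib_helper27_SimpleCrit2

set_option autoImplicit false

namespace Cfsg.Agent.helper27

open Cfsg MulAction
open scoped Pointwise

instance finite_Co0 : Finite Co0 :=
  Nat.finite_of_card_ne_zero (by rw [card_Co0]; norm_num)

theorem orbit_u5L : orbit Co0 u5L = LN 48 := by
  ext v
  rw [mem_orbit_iff]
  constructor
  · rintro ⟨g, rfl⟩
    show sqNorm (g • u5L).1 = 48
    rw [co0_sqNorm]
    decide
  · intro hn
    have h48 : sqNorm u5L.1 = 48 := by decide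
    obtain ⟨g, hg⟩ := co0_transitive_48 u5L v h48 hn
    exact ⟨g, hg⟩

theorem card_stab_u5L : Nat.card (stabilizer Co0 u5L) = 495766656000 := by
  have h1 := Subgroup.card_eq_card_quotient_mul_card_subgroup (stabilizer Co0 u5L)
  rw [← Nat.card_congr (orbitEquivQuotientStabilizer Co0 u5L), orbit_u5L, card_Co0,
    Nat.card_coe_set_eq, LN_ncard_48] at h1
  omega

/-- the Higman–Sims group in the standard frame -/
def HS0 : Subgroup Co0 := stabilizer Co0 u5L ⊓ stabilizer Co0 hrefL

theorem mem_HS0 {g : Co0} : g ∈ HS0 ↔ g • u5L = u5L ∧ g • hrefL = hrefL := by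
  unfold HS0
  rw [Subgroup.mem_inf, mem_stabilizer_iff, mem_stabilizer_iff]

theorem orbit_hrefL : orbit (stabilizer Co0 u5L) hrefL = hsSet u5L := by
  ext x
  rw [mem_orbit_iff]
  have h48 : sqNorm u5L.1 = 48 := by decide
  have hrefS : hrefL ∈ hsSet u5L := (hsSet_std _).mpr (hsA_subset href_hsA)
  constructor
  · rintro ⟨g, rfl⟩
    have h1 : (g : Co0) • u5L = u5L := g.2
    have := (hsSet_smul (g : Co0) u5L hrefL).mpr hrefS
    rw [h1] at this
    exact this
  · intro hx
    obtain ⟨g, hg1, hg2⟩ := hsSet_transitive u5L h48 hrefL x hrefS hx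
    exact ⟨⟨g, hg1⟩, hg2⟩

theorem card_HS0 : Nat.card HS0 = 44352000 := by
  have h1 := Subgroup.card_eq_card_quotient_mul_card_subgroup
    (stabilizer (stabilizer Co0 u5L) hrefL)
  rw [← Nat.card_congr (orbitEquivQuotientStabilizer (stabilizer Co0 u5L) hrefL), orbit_hrefL,
    card_stab_u5L, Nat.card_coe_set_eq, hsSet_std_ncard] at h1
  have h2 : Nat.card (stabilizer (stabilizer Co0 u5L) hrefL) = Nat.card HS0 := by
    apply Nat.card_congr
    refine ⟨fun g => ⟨g.1.1, mem_HS0.mpr ⟨g.1.2, ?_⟩⟩, fun g => ⟨⟨g.1, (mem_HS0.mp g.2).1⟩, ?_⟩,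
      fun g => rfl, fun g => rfl⟩
    · have := g.2
      rw [mem_stabilizer_iff] at this
      exact this
    · rw [mem_stabilizer_iff]
      exact (mem_HS0.mp g.2).2
  rw [h2] at h1
  omega

end Cfsg.Agent.helper27
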