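import Mathlib
import Cfsg.Agent.Lib_helper27_HSs1

set_option autoImplicit false

namespace Cfsg.Agent.helper27

open Cfsg MulAction
open scoped Pointwise

/-- the 100 points as an invariant subset -/
def hsPts : SubMulAction HS0 leechLattice where
  carrier := hsT u5L hrefL
  smul_mem' := by
    intro g x hx
    obtain ⟨h1, h2⟩ := mem_HS0.mp g.2
    have := (hsT_smul (g : Co0) u5L hrefL x).mpr hx
    rw [h1, h2] at this
    exact this

theorem mem_hsPts {x : leechLattice} : x ∈ hsPts ↔ x.1 ∈ hs100 := hsT_std x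

theorem hsPts_smul_val (g : HS0) (x : hsPts) : ((g • x : hsPts) : leechLattice) = (g : Co0) • x.1 :=
  rfl

theorem card_hsPts : Nat.card hsPts = 100 := by
  have : Nat.card hsPts = (hsT u5L hrefL).ncard := Nat.card_coe_set_eq _
  rw [this, hsT_std_ncard]

instance finite_hsPts : Finite hsPts :=
  Nat.finite_of_card_ne_zero (by rw [card_hsPts]; norm_num)

/-- the base point -/
def a0P : hsPts := ⟨a0L, mem_hsPts.mpr (by rw [hs100_eq]; exact Or.inl (Or.inl rfl))⟩

theorem fixOrb3_lift {x y : hsPts} (h : FixOrb F3 x.1 y.1) : ∃ g : HS0, g • x = y := by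
  obtain ⟨g, hg, hgx⟩ := h
  refine ⟨⟨g, mem_HS0.mpr ⟨hg _ (Or.inl rfl), hg _ (Or.inr rfl)⟩⟩, ?_⟩
  apply Subtype.ext
  exact hgx

instance hsPts_transitive : IsPretransitive HS0 hsPts := by
  refine ⟨fun x y => ?_⟩
  have s1 := rorb3_hs100 (mem_hsPts.mp x.2)
  have s2 := rorb3_hs100 (mem_hsPts.mp y.2)
  exact fixOrb3_lift (s1.trans s2.symm).fixOrb

end Cfsg.Agent.helper27
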