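import Mathlib
import Cfsg.Agent.Lib_helper27_HSs2

set_option autoImplicit false

namespace Cfsg.Agent.helper27

open Cfsg MulAction
open scoped Pointwise

/-- the additive map induced by an automorphism -/
def co0Hom (g : Co0) : leechLattice →+ leechLattice where
  toFun := fun v => g • v
  map_zero' := co0_smul_zero g
  map_add' := co0_smul_add g

theorem co0Hom_apply (g : Co0) (v : leechLattice) : co0Hom g v = g • v := rfl

theorem eq_one_of_fix_e8 (g : Co0) (h : ∀ i, g • e8 i = e8 i) : g = 1 := by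
  have key : ∀ v : leechLattice, g • v = v := by
    intro v
    have h1 : co0Hom g ((8 : ℤ) • v) = (8 : ℤ) • v := by
      rw [eight_smul_eq, map_sum]
      refine Finset.sum_congr rfl (fun i _ => ?_)
      rw [map_zsmul, co0Hom_apply, h i]
    rw [map_zsmul, co0Hom_apply] at h1
    apply Subtype.ext
    funext k
    have h2 := congrArg (fun w : leechLattice => w.1 k) h1
    beta_reduce at h2
    have e1 : (((8 : ℤ) • (g • v) : leechLattice) : GolayPt → ℤ) k = 8 * (g • v).1 k := rfl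
    have e2 : (((8 : ℤ) • v : leechLattice) : GolayPt → ℤ) k = 8 * v.1 k := rfl
    rw [e1, e2] at h2
    omega
  apply Subtype.ext
  apply Equiv.ext
  intro v
  exact key v

theorem e8_none : e8 none = a0L - hrefL := by
  apply Subtype.ext
  show (Pi.single none 8 : GolayPt → ℤ) = a0 - href
  decide

theorem e8_zero : e8 (some 0) = a0L + hrefL := by
  apply Subtype.ext
  show (Pi.single (some 0) 8 : GolayPt → ℤ) = a0 + href
  decide

theorem vCj_mem {j : GolayPt} (hj : j ≠ none ∧ j ≠ some 0) : vC j ∅ ∈ hs100 :=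
  hsA'_hs100 ⟨j, hj, rfl⟩

theorem e8_other {j : GolayPt} (hj : j ≠ none ∧ j ≠ some 0) :
    e8 j = (2 : ℤ) • (u5L - ⟨vC j ∅, hs100_mem (vCj_mem hj)⟩) - e8 none := by
  apply Subtype.ext
  show (Pi.single j 8 : GolayPt → ℤ) = (2 : ℤ) • (u5 - vC j ∅) - Pi.single none 8
  funext k
  simp only [Pi.sub_apply, Pi.smul_apply, Pi.single_apply, smul_eq_mul, u5_apply, vC,
    Finset.notMem_empty, if_false]
  by_cases h1 : k = none
  · subst h1
    have : (none : GolayPt) ≠ j := fun h => hj.1 h.symm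
    simp [this]
  · by_cases h2 : k = j
    · subst h2
      simp [h1]
    · simp [h1, h2]

instance hsPts_faithful : FaithfulSMul HS0 hsPts := by
  refine ⟨fun {g₁ g₂} h => ?_⟩
  have hfix : ∀ x : hsPts, (g₂⁻¹ * g₁) • x = x := by
    intro x
    rw [mul_smul, h x, inv_smul_smul]
  set g := g₂⁻¹ * g₁ with hg
  have hfix' : ∀ x : leechLattice, x.1 ∈ hs100 → (g : Co0) • x = x := by
    intro x hx
    have := hfix ⟨x, mem_hsPts.mpr hx⟩
    exact congrArg Subtype.val this
  obtain ⟨f1, f2⟩ := mem_HS0.mp g.2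
  have fa0 : (g : Co0) • a0L = a0L := hfix' a0L (by rw [hs100_eq]; exact Or.inl (Or.inl rfl))
  have fE1 : (g : Co0) • e8 none = e8 none := by
    rw [e8_none, co0_smul_sub, fa0, f2]
  have h1 : (g : Co0) = 1 := by
    apply eq_one_of_fix_e8
    intro i
    by_cases hi : i = none
    · rw [hi]; exact fE1
    · by_cases hi0 : i = some 0
      · rw [hi0, e8_zero, co0_smul_add, fa0, f2]
      · rw [e8_other ⟨hi, hi0⟩, co0_smul_sub, fE1]
        congr 1
        have e1 : (g : Co0) • ((2 : ℤ) • (u5L - ⟨vC i ∅, hs100_mem (vCj_mem ⟨hi, hi0⟩)⟩))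
            = (2 : ℤ) • ((g : Co0) • (u5L - ⟨vC i ∅, hs100_mem (vCj_mem ⟨hi, hi0⟩)⟩)) :=
          map_zsmul (co0Hom (g : Co0)) 2 _
        rw [e1, co0_smul_sub, f1, hfix' _ (vCj_mem ⟨hi, hi0⟩)]
  have h2 : g = 1 := Subtype.ext h1
  rw [hg] at h2
  exact (inv_mul_eq_one.mp h2).symm ▸ rfl

end Cfsg.Agent.helper27
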