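import Mathlib

set_option autoImplicit false

namespace Cfsg.Agent.helper2

open MulAction

/-- Maximality of a point stabiliser from suborbit arithmetic: the orbit of `x0` is split into
classes by `c`, the stabiliser is transitive on each class, and no proper union of classes
containing the class of `x0` has size dividing the size of the orbit. -/
theorem isCoatom_stabilizer_of_suborbits {G X : Type*} [Group G] [MulAction G X] [Finite G]
    (x0 : X) (c : X → ℕ) (labels : Finset ℕ) (n : ℕ → ℕ)
    (hlab : ∀ x ∈ orbit G x0, c x ∈ labels)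
    (hn : ∀ i ∈ labels, {x | x ∈ orbit G x0 ∧ c x = i}.ncard = n i)
    (hc : ∀ x ∈ orbit G x0, ∀ y ∈ orbit G x0, c x = c y → ∃ s ∈ stabilizer G x0, s • x = y)
    (harith : ∀ I ∈ labels.powerset, c x0 ∈ I → (∑ i ∈ I, n i) ∣ (∑ i ∈ labels, n i) →
      I = labels ∨ I = {c x0})
    (hne : ∃ x ∈ orbit G x0, x ≠ x0) : IsCoatom (stabilizer G x0) := by
  classical
  have hfinorb : (orbit G x0).Finite := Set.finite_range _
  -- counting a union of classes
  have hcount : ∀ I ⊆ labels, {x | x ∈ orbit G x0 ∧ c x ∈ I}.ncard = ∑ i ∈ I, n i := by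
    intro I hI
    induction I using Finset.induction_on with
    | empty => simp
    | insert a I ha ih =>
      have haL : a ∈ labels := hI (Finset.mem_insert_self a I)
      have hIL : I ⊆ labels := fun i hi => hI (Finset.mem_insert_of_mem hi)
      rw [Finset.sum_insert ha, ← ih hIL, ← hn a haL]
      have hU : {x | x ∈ orbit G x0 ∧ c x ∈ insert a I}
          = {x | x ∈ orbit G x0 ∧ c x = a} ∪ {x | x ∈ orbit G x0 ∧ c x ∈ I} := by
        ext x
        simp only [Set.mem_ofPred_eq, Finset.mem_insert, Set.mem_union]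
        tauto
      rw [hU]
      apply Set.ncard_union_eq
      · rw [Set.disjoint_left]
        rintro x ⟨_, hxa⟩ ⟨_, hxI⟩
        exact ha (hxa ▸ hxI)
      · exact hfinorb.subset (fun x hx => hx.1)
      · exact hfinorb.subset (fun x hx => hx.1)
  have hX : (orbit G x0).ncard = ∑ i ∈ labels, n i := by
    rw [← hcount labels (Finset.Subset.refl _)]
    congr 1
    ext x
    constructor
    · intro hx
      exact ⟨hx, hlab x hx⟩
    · exact fun hx => hx.1
  -- the class of x0 is a singleton
  have hx0 : ∀ x ∈ orbit G x0, c x = c x0 → x = x0 := by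
    intro x hx hcx
    obtain ⟨s, hs, hsx⟩ := hc x0 (mem_orbit_self x0) x hx hcx.symm
    rw [← hsx]
    exact hs
  constructor
  · intro htop
    obtain ⟨x, ⟨g, rfl⟩, hx⟩ := hne
    apply hx
    have : g ∈ stabilizer G x0 := by rw [htop]; exact Subgroup.mem_top g
    exact this
  · intro H hSH
    have hle : stabilizer G x0 ≤ H := le_of_lt hSH
    obtain ⟨g, hgH, hgS⟩ := SetLike.exists_of_lt hSH
    -- the H-orbit as a union of classes
    let Y : Set X := {x | ∃ h ∈ H, h • x0 = x}
    have hYorb : Y ⊆ orbit G x0 := by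
      rintro x ⟨h, _, rfl⟩
      exact ⟨h, rfl⟩
    let I : Finset ℕ := labels.filter (fun i => ∃ y ∈ Y, c y = i)
    have hYI : Y = {x | x ∈ orbit G x0 ∧ c x ∈ I} := by
      ext x
      constructor
      · intro hx
        refine ⟨hYorb hx, ?_⟩
        rw [Finset.mem_filter]
        exact ⟨hlab x (hYorb hx), x, hx, rfl⟩
      · rintro ⟨hxo, hxI⟩
        rw [Finset.mem_filter] at hxI
        obtain ⟨_, y, hy, hcy⟩ := hxI
        obtain ⟨s, hs, hsy⟩ := hc y (hYorb hy) x hxo hcy
        obtain ⟨h, hh, rfl⟩ := hy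
        exact ⟨s * h, H.mul_mem (hle hs) hh, by rw [mul_smul, hsy]⟩
    have hIsub : I ⊆ labels := Finset.filter_subset _ _
    have hx0I : c x0 ∈ I := by
      rw [Finset.mem_filter]
      exact ⟨hlab x0 (mem_orbit_self x0), x0, ⟨1, H.one_mem, one_smul _ _⟩, rfl⟩
    -- |Y| divides |orbit|
    have hYcard : Y.ncard * Nat.card (stabilizer G x0) = Nat.card H := by
      have h1 : Y = (fun h : H => (h : G) • x0) '' Set.univ := by
        ext x
        constructor
        · rintro ⟨h, hh, rfl⟩
          exact ⟨⟨h, hh⟩, trivial, rfl⟩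
        · rintro ⟨h, _, rfl⟩
          exact ⟨h.1, h.2, rfl⟩
      have h2 : Y = orbit H x0 := by
        ext x
        constructor
        · rintro ⟨h, hh, rfl⟩
          exact ⟨⟨h, hh⟩, rfl⟩
        · rintro ⟨h, rfl⟩
          exact ⟨h.1, h.2, rfl⟩
      have h3 := MulAction.index_stabilizer H x0
      have h4 := Subgroup.index_mul_card (stabilizer H x0)
      rw [h3, ← h2] at h4
      rw [← h4]
      congr 1
      apply Nat.card_congr
      refine Equiv.ofBijective (fun s => ⟨⟨s.1, hle s.2⟩, ?_⟩) ⟨?_, ?_⟩
      · have := s.2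
        rw [mem_stabilizer_iff] at this ⊢
        exact this
      · intro a b hab
        have h' : (a : G) = b := by simpa using congrArg (fun t => ((t.1 : H) : G)) hab
        exact Subtype.ext h'
      · rintro ⟨⟨k, hkH⟩, hk⟩
        refine ⟨⟨k, ?_⟩, rfl⟩
        rw [mem_stabilizer_iff] at hk ⊢
        exact hk
    have hXcard : (orbit G x0).ncard * Nat.card (stabilizer G x0) = Nat.card G := by
      have h3 := MulAction.index_stabilizer G x0
      have h4 := Subgroup.index_mul_card (stabilizer G x0)
      rw [h3] at h4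
      exact h4
    have hdvd : Y.ncard ∣ (orbit G x0).ncard := by
      have hpos : 0 < Nat.card (stabilizer G x0) := Nat.card_pos
      have h5 : Nat.card H ∣ Nat.card G := Subgroup.card_subgroup_dvd_card H
      rw [← hYcard, ← hXcard] at h5
      exact Nat.dvd_of_mul_dvd_mul_right hpos h5
    have hYn : Y.ncard = ∑ i ∈ I, n i := by
      rw [hYI]
      exact hcount I hIsub
    rw [hYn, hX] at hdvd
    rcases harith I (Finset.mem_powerset.mpr hIsub) hx0I hdvd with hI | hI
    · -- H is transitive on the orbit, hence everything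
      rw [eq_top_iff]
      intro k _
      have hk : k • x0 ∈ Y := by
        rw [hYI]
        refine ⟨⟨k, rfl⟩, ?_⟩
        rw [hI]
        exact hlab _ ⟨k, rfl⟩
      obtain ⟨h, hh, hhk⟩ := hk
      have : h⁻¹ * k ∈ stabilizer G x0 := by
        rw [mem_stabilizer_iff, mul_smul, ← hhk, inv_smul_smul]
      have h6 := H.mul_mem hh (hle this)
      rwa [mul_inv_cancel_left] at h6
    · exfalso
      apply hgS
      rw [mem_stabilizer_iff]
      have hgY : g • x0 ∈ Y := ⟨g, hgH, rfl⟩
      rw [hYI] at hgY
      obtain ⟨hgo, hgI⟩ := hgY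
      rw [hI, Finset.mem_singleton] at hgI
      exact hx0 _ hgo hgI

end Cfsg.Agent.helper2
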