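import Mathlib

set_option autoImplicit false

namespace Cfsg.Agent.helper2

/-- Iwasawa's criterion in subgroup form: a perfect group with a maximal subgroup `S` of trivial
core, containing an abelian subgroup `A` normalised by `S` whose normal closure is everything, is
simple. -/
theorem iwasawa_simple {G : Type*} [Group G] [Nontrivial G] (S A : Subgroup G)
    (hmax : IsCoatom S) (hcomm : ∀ a ∈ A, ∀ b ∈ A, a * b = b * a)
    (hnorm : ∀ s ∈ S, ∀ a ∈ A, s * a * s⁻¹ ∈ A)
    (hgen : Subgroup.normalClosure (A : Set G) = ⊤)
    (hperf : commutator G = ⊤) (hcore : S.normalCore = ⊥) : IsSimpleGroup G := by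
  apply IsSimpleGroup.mk
  intro N hN
  by_cases hNS : N ≤ S
  · left
    have : N ≤ S.normalCore := Subgroup.normal_le_normalCore.mpr hNS
    rw [hcore] at this
    exact le_bot_iff.mp this
  · right
    have hSN : S ⊔ N = ⊤ := by
      apply hmax.2
      apply lt_of_le_of_ne le_sup_left
      intro h
      apply hNS
      rw [h]
      exact le_sup_right
    -- A ⊔ N is normal
    have hM : Subgroup.normalizer ((A ⊔ N : Subgroup G) : Set G) = ⊤ := by
      rw [eq_top_iff, ← hSN]
      apply sup_le
      · rw [Subgroup.le_normalizer_iff]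
        intro s hs h hh
        have hmap : (A ⊔ N).map (MulAut.conj s).toMonoidHom ≤ A ⊔ N := by
          rw [Subgroup.map_sup]
          apply sup_le
          · rintro _ ⟨a, ha, rfl⟩
            exact Subgroup.mem_sup_left (hnorm s hs a ha)
          · rintro _ ⟨n, hn, rfl⟩
            exact Subgroup.mem_sup_right (hN.conj_mem n hn s)
        exact hmap ⟨h, hh, rfl⟩
      · rw [Subgroup.le_normalizer_iff]
        intro n hn h hh
        have hn' : n ∈ A ⊔ N := Subgroup.mem_sup_right hn
        exact (A ⊔ N).mul_mem ((A ⊔ N).mul_mem hn' hh) ((A ⊔ N).inv_mem hn')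
    have hMn : (A ⊔ N).Normal := Subgroup.normalizer_eq_top_iff.mp hM
    have hMtop : A ⊔ N = ⊤ := by
      rw [eq_top_iff, ← hgen]
      exact Subgroup.normalClosure_le_normal (fun a ha => Subgroup.mem_sup_left ha)
    have hcommA : IsMulCommutative A :=
      isMulCommutative_iff.mpr (fun a b => Subtype.ext (hcomm a.1 a.2 b.1 b.2))
    have h1 := Subgroup.Normal.commutator_le_of_self_sup_commutative_eq_top
      (N := N) (H := A) (by rw [sup_comm]; exact hMtop) hcommA
    rw [hperf] at h1
    exact top_le_iff.mp h1

end Cfsg.Agent.helper2
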