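import Mathlib
import Cfsg.Agent.Lib_helper2_M24b

set_option autoImplicit false
set_option linter.constructorNameAsVariable false

namespace Cfsg.Agent.helper2.Golay

open Cfsg Cfsg.Agent.helper27
open scoped Pointwise

/-! ### Straight-line programs over index tables -/

def idTab : List ℕ := List.range 24

def comp (t1 t2 : List ℕ) : List ℕ := (List.range 24).map (fun i => tb t1 (tb t2 i))

theorem tb_comp (t1 t2 : List ℕ) : ∀ i < 24, tb (comp t1 t2) i = tb t1 (tb t2 i) := by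
  intro i hi
  interval_cases i <;> rfl

theorem tb_idTab : ∀ i < 24, tb idTab i = i := by decide

def invOK (t t' : List ℕ) : Bool :=
  (List.range 24).all (fun j => decide (tb t' j < 24) && (tb t (tb t' j) == j))

/-- The table represents an element of `K`. -/
def RepT (K : Subgroup (Equiv.Perm GolayPt)) (t : List ℕ) : Prop :=
  (∀ i < 24, tb t i < 24) ∧ ∃ σ ∈ K, ∀ p, σ p = pt (tb t (idx p))

theorem RepT_id (K : Subgroup (Equiv.Perm GolayPt)) : RepT K idTab := by
  refine ⟨fun i hi => by rw [tb_idTab i hi]; exact hi, 1, K.one_mem, fun p => ?_⟩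
  rw [tb_idTab _ (idx_lt p), pt_idx]
  rfl

theorem RepT_comp {K : Subgroup (Equiv.Perm GolayPt)} {t1 t2 : List ℕ} (h1 : RepT K t1)
    (h2 : RepT K t2) : RepT K (comp t1 t2) := by
  obtain ⟨hb1, σ1, hσ1, hs1⟩ := h1
  obtain ⟨hb2, σ2, hσ2, hs2⟩ := h2
  refine ⟨fun i hi => ?_, σ1 * σ2, K.mul_mem hσ1 hσ2, fun p => ?_⟩
  · rw [tb_comp _ _ i hi]
    exact hb1 _ (hb2 i hi)
  · rw [Equiv.Perm.mul_apply, hs2, hs1, idx_pt _ (hb2 _ (idx_lt p)), tb_comp _ _ _ (idx_lt p)]

theorem RepT_inv {K : Subgroup (Equiv.Perm GolayPt)} {t t' : List ℕ} (h : RepT K t)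
    (hinv : invOK t t' = true) : RepT K t' := by
  obtain ⟨hb, σ, hσ, hs⟩ := h
  unfold invOK at hinv
  rw [List.all_eq_true] at hinv
  have hj : ∀ j < 24, tb t' j < 24 ∧ tb t (tb t' j) = j := by
    intro j hj
    have := hinv j (List.mem_range.mpr hj)
    simpa using this
  refine ⟨fun i hi => (hj i hi).1, σ⁻¹, K.inv_mem hσ, fun p => ?_⟩
  rw [Equiv.Perm.inv_eq_iff_eq, hs, idx_pt _ (hj _ (idx_lt p)).1, (hj _ (idx_lt p)).2, pt_idx]

/-- One step: `(0, i, j, _)` appends the product of entries `i` and `j`; `(_, i, _, t')` appends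
the claimed inverse `t'` of entry `i` (the identity if the claim fails). -/
def slpStep (tabs : List (List ℕ)) (op : ℕ × ℕ × ℕ × List ℕ) : List (List ℕ) :=
  if op.1 = 0 then tabs ++ [comp (tabs.getD op.2.1 idTab) (tabs.getD op.2.2.1 idTab)]
  else if invOK (tabs.getD op.2.1 idTab) op.2.2.2 = true then tabs ++ [op.2.2.2]
  else tabs ++ [idTab]

def slpRun (ops : List (ℕ × ℕ × ℕ × List ℕ)) (tabs : List (List ℕ)) : List (List ℕ) :=
  ops.foldl slpStep tabs

theorem RepT_getD {K : Subgroup (Equiv.Perm GolayPt)} {tabs : List (List ℕ)}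
    (h : ∀ t ∈ tabs, RepT K t) (i : ℕ) : RepT K (tabs.getD i idTab) := by
  by_cases hi : i < tabs.length
  · rw [List.getD_eq_getElem _ _ hi]
    exact h _ (List.getElem_mem _)
  · rw [List.getD_eq_default _ _ (by omega)]
    exact RepT_id K

theorem slpStep_rep {K : Subgroup (Equiv.Perm GolayPt)} {tabs : List (List ℕ)}
    (h : ∀ t ∈ tabs, RepT K t) (op : ℕ × ℕ × ℕ × List ℕ) : ∀ t ∈ slpStep tabs op, RepT K t := by
  intro t ht
  unfold slpStep at ht
  split_ifs at ht with h1 h2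
  · rw [List.mem_append, List.mem_singleton] at ht
    rcases ht with ht | rfl
    · exact h t ht
    · exact RepT_comp (RepT_getD h _) (RepT_getD h _)
  · rw [List.mem_append, List.mem_singleton] at ht
    rcases ht with ht | rfl
    · exact h t ht
    · exact RepT_inv (RepT_getD h _) h2
  · rw [List.mem_append, List.mem_singleton] at ht
    rcases ht with ht | rfl
    · exact h t ht
    · exact RepT_id K

theorem slpRun_rep {K : Subgroup (Equiv.Perm GolayPt)} (ops : List (ℕ × ℕ × ℕ × List ℕ)) :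
    ∀ (tabs : List (List ℕ)), (∀ t ∈ tabs, RepT K t) → ∀ t ∈ slpRun ops tabs, RepT K t := by
  induction ops with
  | nil => exact fun tabs h => h
  | cons op ops ih =>
    intro tabs h
    exact ih (slpStep tabs op) (slpStep_rep h op)

def tA : List ℕ := [1, 2, 3, 4, 5, 6, 7, 8, 9, 10, 11, 12, 13, 14, 15, 16, 17, 18, 19, 20, 21, 22, 0, 23]
def tB : List ℕ := [23, 22, 11, 15, 17, 9, 19, 13, 20, 5, 16, 2, 21, 7, 18, 3, 10, 4, 14, 6, 8, 12, 1, 0]
def tC : List ℕ := [0, 18, 6, 3, 2, 21, 1, 5, 16, 12, 7, 19, 8, 9, 17, 15, 13, 11, 4, 22, 10, 20, 14, 23]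

theorem tA_spec : ∀ p : GolayPt, Equiv.optionCongr (Equiv.addRight (1 : ZMod 23)) p
    = pt (tb tA (idx p)) := by decide

theorem tB_spec : ∀ p : GolayPt, projInv p = pt (tb tB (idx p)) := by decide

theorem tC_spec : ∀ p : GolayPt, cubeTwist p = pt (tb tC (idx p)) := by
  intro p
  show cubeTwistFun p = _
  revert p
  decide

theorem tabs_lt : ∀ t ∈ [tA, tB, tC], ∀ i < 24, tb t i < 24 := by decide

/-- The subgroup generated by the three permutations. -/
noncomputable def Kgen : Subgroup (Equiv.Perm GolayPt) :=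
  Subgroup.closure {Equiv.optionCongr (Equiv.addRight (1 : ZMod 23)), projInv, cubeTwist}

theorem init_rep : ∀ t ∈ [tA, tB, tC], RepT Kgen t := by
  intro t ht
  refine ⟨tabs_lt t ht, ?_⟩
  simp only [List.mem_cons, List.not_mem_nil, or_false] at ht
  rcases ht with rfl | rfl | rfl
  · exact ⟨_, Subgroup.subset_closure (by simp), tA_spec⟩
  · exact ⟨_, Subgroup.subset_closure (by simp), tB_spec⟩
  · exact ⟨_, Subgroup.subset_closure (by simp), tC_spec⟩

def slpOps : List (ℕ × ℕ × ℕ × List ℕ) := [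
  (0, 1, 1, []), (0, 0, 0, []), (0, 0, 4, []), (0, 0, 5, []),
  (0, 0, 6, []), (0, 0, 7, []), (0, 0, 8, []), (0, 0, 9, []),
  (0, 0, 10, []), (0, 0, 11, []), (0, 0, 12, []), (0, 0, 13, []),
  (0, 0, 14, []), (0, 0, 15, []), (0, 0, 16, []), (0, 0, 17, []),
  (0, 0, 18, []), (0, 0, 19, []), (0, 0, 20, []), (0, 0, 21, []),
  (0, 0, 22, []), (0, 0, 23, []), (0, 0, 1, []), (0, 0, 25, []),
  (0, 0, 26, []), (0, 1, 26, []), (0, 0, 27, []), (0, 1, 27, []),
  (0, 0, 28, []), (0, 0, 29, []), (0, 1, 29, []), (0, 0, 30, []),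
  (0, 0, 31, []), (0, 0, 32, []), (0, 0, 35, []), (0, 1, 35, []),
  (0, 0, 38, []), (0, 2, 2, []), (0, 2, 40, []), (0, 2, 41, []),
  (0, 1, 2, []), (0, 2, 0, []), (0, 2, 43, []), (0, 0, 43, []),
  (1, 25, 0, [1, 23, 22, 11, 15, 17, 9, 19, 13, 20, 5, 16, 2, 21, 7, 18, 3, 10, 4, 14, 6, 8, 12, 0]), (0, 45, 25, []), (1, 33, 0, [0, 14, 13, 2, 7, 9, 3, 5, 10, 22, 21, 12, 4, 15, 18, 1, 19, 23, 16, 11, 17, 20, 8, 6]), (0, 49, 48, []),
  (0, 2, 50, []), (0, 51, 40, []), (0, 51, 41, []), (0, 51, 42, []),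
  (0, 2, 52, []), (0, 2, 53, []), (0, 51, 54, []), (0, 2, 55, []),
  (0, 51, 55, []), (0, 2, 56, []), (0, 51, 56, []), (0, 2, 60, []),
  (0, 51, 61, []), (0, 51, 51, []), (0, 51, 64, []), (0, 51, 65, []),
  (0, 51, 66, []), (0, 51, 67, []), (0, 48, 2, []), (0, 49, 69, []),
  (0, 40, 70, []), (0, 64, 71, []), (0, 72, 51, []), (0, 72, 65, []),
  (0, 72, 67, []), (0, 72, 68, []), (0, 51, 73, []), (0, 72, 73, []),
  (0, 51, 74, []), (0, 72, 75, []), (0, 51, 76, []), (0, 51, 77, []),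
  (0, 51, 78, []), (0, 72, 78, []), (0, 51, 80, []), (0, 51, 82, []),
  (0, 72, 72, []), (0, 72, 87, []), (0, 72, 88, []), (0, 46, 48, []),
  (1, 27, 0, [8, 12, 1, 23, 22, 11, 15, 17, 9, 19, 13, 20, 5, 16, 2, 21, 7, 18, 3, 10, 4, 14, 6, 0]), (0, 91, 90, []), (1, 63, 0, [0, 2, 18, 16, 10, 5, 9, 6, 11, 20, 17, 8, 1, 19, 21, 4, 3, 15, 12, 14, 7, 13, 22, 23]), (0, 93, 92, []),
  (0, 66, 94, []), (0, 95, 72, []), (0, 95, 87, []), (0, 95, 88, []),
  (0, 72, 95, []), (0, 72, 96, []), (0, 95, 96, []), (0, 72, 97, []),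
  (0, 95, 98, []), (0, 72, 99, []), (0, 44, 69, []), (1, 29, 0, [6, 8, 12, 1, 23, 22, 11, 15, 17, 9, 19, 13, 20, 5, 16, 2, 21, 7, 18, 3, 10, 4, 14, 0]),
  (0, 106, 105, []), (0, 7, 107, []), (1, 59, 0, [0, 6, 5, 18, 19, 20, 2, 10, 14, 7, 13, 8, 21, 9, 22, 17, 15, 1, 12, 4, 16, 11, 3, 23]), (0, 109, 108, []),
  (1, 86, 0, [0, 1, 4, 5, 6, 15, 13, 16, 11, 10, 21, 20, 3, 9, 7, 14, 12, 8, 19, 22, 18, 2, 17, 23]), (0, 111, 110, []), (1, 101, 0, [0, 1, 2, 21, 18, 19, 22, 13, 15, 5, 3, 10, 20, 12, 7, 17, 11, 6, 9, 4, 14, 16, 8, 23]), (0, 113, 112, []),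
  (0, 114, 97, []), (0, 114, 98, []), (0, 114, 99, []), (0, 114, 100, []),
  (0, 72, 116, []), (0, 114, 114, []), (0, 48, 90, []), (1, 32, 0, [14, 6, 8, 12, 1, 23, 22, 11, 15, 17, 9, 19, 13, 20, 5, 16, 2, 21, 7, 18, 3, 10, 4, 0]),
  (0, 122, 121, []), (0, 4, 123, []), (0, 40, 124, []), (1, 83, 0, [0, 1, 14, 20, 11, 12, 10, 18, 2, 22, 9, 3, 17, 15, 13, 8, 6, 7, 5, 4, 19, 21, 16, 23]),
  (0, 126, 125, []), (1, 116, 0, [0, 1, 2, 5, 12, 17, 21, 6, 9, 22, 13, 10, 15, 11, 14, 4, 18, 3, 20, 19, 16, 7, 8, 23]), (0, 128, 127, []), (0, 129, 114, []),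
  (0, 129, 120, []), (0, 114, 129, []), (0, 129, 129, []), (0, 129, 130, []),
  (0, 114, 132, []), (0, 114, 133, []), (0, 114, 134, []), (0, 44, 0, []),
  (0, 121, 0, []), (0, 122, 139, []), (1, 60, 0, [0, 14, 22, 5, 4, 10, 8, 1, 21, 17, 12, 20, 11, 6, 15, 18, 3, 13, 2, 9, 16, 19, 7, 23]), (0, 141, 140, []),
  (0, 68, 142, []), (0, 100, 143, []), (0, 144, 130, []), (0, 144, 132, []),
  (0, 144, 137, []), (0, 48, 138, []), (0, 49, 148, []), (0, 10, 149, []),
  (0, 109, 150, []), (1, 97, 0, [0, 1, 2, 4, 19, 13, 8, 18, 15, 14, 5, 20, 9, 7, 16, 17, 21, 22, 10, 11, 3, 12, 6, 23]), (0, 152, 151, []), (1, 146, 0, [0, 1, 2, 3, 15, 14, 4, 16, 11, 7, 19, 12, 8, 20, 17, 6, 9, 5, 18, 22, 21, 13, 10, 23]),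
  (0, 154, 153, []), (0, 155, 155, []), (0, 137, 155, []), (0, 136, 156, []),
  (0, 145, 155, []), (0, 40, 51, []), (0, 160, 99, []), (0, 161, 134, []),
  (0, 118, 136, []), (0, 163, 155, []), (0, 76, 103, []), (0, 165, 129, []),
  (0, 136, 155, []), (0, 83, 116, []), (0, 168, 145, []), (0, 169, 155, []),
  (0, 145, 156, []), (0, 29, 8, []), (0, 172, 58, []), (0, 173, 86, []),
  (0, 174, 102, []), (0, 175, 136, []), (0, 176, 156, []), (0, 98, 134, []),
  (0, 178, 156, []), (0, 59, 85, []), (0, 180, 99, []), (0, 181, 135, []),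
  (0, 182, 156, []), (0, 147, 155, []), (0, 117, 120, []), (0, 185, 156, []),
  (0, 134, 156, []), (0, 1, 23, []), (0, 42, 81, []), (0, 189, 95, []),
  (0, 190, 136, []), (0, 191, 156, []), (0, 54, 66, []), (0, 193, 72, []),
  (0, 194, 146, []), (0, 115, 135, []), (0, 196, 156, []), (0, 97, 114, []),
  (0, 198, 155, []), (0, 81, 95, []), (0, 200, 136, []), (0, 201, 156, []),
  (0, 114, 156, []), (0, 37, 21, []), (0, 204, 63, []), (0, 205, 104, []),
  (0, 206, 135, []), (0, 103, 129, []), (0, 78, 116, []), (0, 209, 120, []),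
  (0, 210, 156, []), (0, 87, 120, []), (0, 212, 156, []), (0, 34, 0, []),
  (0, 56, 84, []), (0, 215, 87, []), (0, 216, 130, []), (0, 217, 156, []),
  (0, 119, 135, []), (0, 219, 155, []), (0, 41, 81, []), (0, 221, 95, []),
  (0, 222, 136, []), (0, 223, 156, []), (0, 74, 72, []), (0, 225, 129, []),
  (0, 135, 155, []), (0, 74, 103, []), (0, 228, 131, []), (0, 229, 155, []),
  (0, 72, 134, []), (0, 84, 101, []), (0, 232, 129, []), (0, 233, 156, []),
  (0, 120, 155, []), (0, 31, 24, []), (0, 118, 131, []), (0, 102, 137, []),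
  (0, 75, 119, []), (0, 95, 132, []), (0, 240, 155, []), (0, 61, 64, []),
  (0, 242, 98, []), (0, 243, 120, []), (0, 244, 156, []), (0, 146, 156, []),
  (0, 56, 82, []), (0, 247, 95, []), (0, 248, 145, []), (0, 249, 155, []),
  (0, 57, 82, []), (0, 251, 96, []), (0, 252, 130, []), (0, 253, 155, []),
  (0, 129, 155, []), (0, 147, 156, []), (0, 130, 155, []), (0, 85, 130, []),
  (0, 258, 155, []), (0, 86, 87, []), (0, 260, 144, []), (0, 54, 78, []),
  (0, 262, 97, []), (0, 263, 146, []), (0, 264, 155, []), (0, 65, 117, []),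
  (0, 266, 130, []), (0, 267, 156, []), (0, 135, 156, []), (0, 131, 155, []),
  (0, 81, 97, []), (0, 271, 136, []), (0, 272, 156, []), (0, 103, 132, []),
  (0, 274, 155, []), (0, 54, 68, []), (0, 276, 72, []), (0, 277, 132, []),
  (0, 278, 155, []), (0, 31, 23, []), (0, 79, 117, []), (0, 281, 145, []),
  (0, 282, 156, []), (0, 2, 81, []), (0, 284, 95, []), (0, 285, 136, []),
  (0, 286, 156, []), (0, 76, 102, []), (0, 288, 133, []), (0, 289, 156, []),
  (0, 89, 114, []), (0, 291, 155, []), (0, 39, 0, []), (0, 137, 156, []),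
  (0, 1, 19, []), (0, 119, 155, []), (0, 101, 135, []), (0, 297, 155, []),
  (0, 131, 156, []), (0, 97, 137, []), (0, 300, 155, []), (0, 133, 155, []),
  (0, 29, 18, []), (0, 303, 58, []), (0, 304, 86, []), (0, 305, 102, []),
  (0, 306, 136, []), (0, 307, 156, []), (0, 2, 51, []), (0, 309, 99, []),
  (0, 310, 134, []), (0, 132, 156, []), (0, 36, 13, []), (0, 313, 55, []),
  (0, 314, 68, []), (0, 315, 116, []), (0, 316, 120, []), (0, 77, 144, []),
  (0, 318, 155, []), (0, 83, 72, []), (0, 320, 129, []), (0, 321, 156, []),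
  (0, 114, 155, []), (0, 65, 101, []), (0, 324, 137, []), (0, 325, 156, []),
  (0, 134, 155, []), (0, 144, 156, []), (0, 31, 4, []), (0, 25, 4, []),
  (0, 62, 84, []), (0, 331, 87, []), (0, 332, 130, []), (0, 333, 156, []),
  (0, 31, 0, []), (0, 41, 51, []), (0, 336, 99, []), (0, 337, 134, []),
  (0, 81, 96, []), (0, 339, 136, []), (0, 340, 156, []), (0, 50, 99, []),
  (0, 342, 134, []), (0, 133, 156, []), (0, 54, 83, []), (0, 345, 116, []),
  (0, 346, 114, []), (0, 347, 156, []), (0, 130, 156, []), (0, 120, 156, []),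
  (0, 101, 155, []), (0, 132, 155, []), (0, 68, 117, []), (0, 353, 144, []),
  (0, 354, 155, []), (0, 25, 0, []), (0, 144, 155, []), (0, 51, 99, []),
  (0, 358, 134, [])]

theorem final_rep : ∀ t ∈ slpRun slpOps [tA, tB, tC], RepT Kgen t :=
  slpRun_rep slpOps _ init_rep

/-- All explicit elements used for the stabiliser chain. -/
def allData : List (List ℕ × List ℕ) := lvl0 ++ lvl1 ++ lvl2 ++ lvl3 ++ lvl4 ++ hs

theorem targets_ok : (let final := slpRun slpOps [tA, tB, tC];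
    allData.all (fun d => d.1.isEmpty || final.contains d.1)) = true := by decide +kernel

theorem gperm_mem_Kgen {d : List ℕ × List ℕ} (hd : d ∈ allData) (ht : tablesOK d.1 d.2 = true) :
    gperm d ∈ Kgen := by
  have h := targets_ok
  simp only [List.all_eq_true, Bool.or_eq_true, List.contains_iff_mem] at h
  rcases h d hd with h | h
  · exfalso
    rw [List.isEmpty_iff] at h
    have h1 := (tablesOK_spec ht 0 (by norm_num)).2.2.1
    have h2 := (tablesOK_spec ht 1 (by norm_num)).2.2.1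
    rw [h] at h1 h2
    have h3 : tb ([] : List ℕ) 0 = 0 := rfl
    have h4 : tb ([] : List ℕ) 1 = 0 := rfl
    rw [h3] at h1
    rw [h4, h1] at h2
    exact absurd h2 (by norm_num)
  · obtain ⟨_, σ, hσ, hs⟩ := final_rep _ h
    have : gperm d = σ := by
      apply Equiv.ext
      intro p
      rw [gperm_apply ht, hs]
    rw [this]
    exact hσ

theorem level_spec_K (K : Subgroup (Equiv.Perm GolayPt)) (k : ℕ) (hk : k < 5)
    (data : List (List ℕ × List ℕ)) (hlen : data.length = 24)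
    (hK : ∀ d ∈ data, tablesOK d.1 d.2 = true → gperm d ∈ K)
    (h : levelOK k data = true) (q : GolayPt) (hq : ∀ j < k, idx q ≠ bs j) :
    ∃ g ∈ K, (∀ j < k, g (pt (bs j)) = pt (bs j)) ∧ g q = pt (bs k) := by
  unfold levelOK at h
  rw [List.all_eq_true] at h
  have h1 := h (idx q) (List.mem_range.mpr (idx_lt q))
  rw [Bool.or_eq_true] at h1
  rcases h1 with h1 | h1
  · exfalso
    rw [List.any_eq_true] at h1
    obtain ⟨j, hj, hjq⟩ := h1
    rw [List.mem_range] at hj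
    rw [beq_iff_eq] at hjq
    exact hq j hj hjq
  · simp only [Bool.and_eq_true] at h1
    obtain ⟨⟨⟨ht, hc⟩, hfix⟩, himg⟩ := h1
    have hmem : data.getD (idx q) ([], []) ∈ data := by
      rw [List.getD_eq_getElem _ _ (by rw [hlen]; exact idx_lt q)]
      exact List.getElem_mem _
    refine ⟨gperm (data.getD (idx q) ([], [])), hK _ hmem ht, ?_, ?_⟩
    · intro j hj
      rw [List.all_eq_true] at hfix
      have := hfix j (List.mem_range.mpr hj)
      rw [beq_iff_eq] at this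
      rw [gperm_pt ht (bs_lt j (by omega)), this]
    · rw [beq_iff_eq] at himg
      rw [gperm_apply ht, himg]

theorem mem_allData {d : List ℕ × List ℕ} :
    d ∈ allData ↔ d ∈ lvl0 ∨ d ∈ lvl1 ∨ d ∈ lvl2 ∨ d ∈ lvl3 ∨ d ∈ lvl4 ∨ d ∈ hs := by
  unfold allData
  simp only [List.mem_append]
  tauto

theorem level_any_K (k : ℕ) (hk : k < 5) (q : GolayPt) (hq : ∀ j < k, idx q ≠ bs j) :
    ∃ g ∈ Kgen, (∀ j < k, g (pt (bs j)) = pt (bs j)) ∧ g q = pt (bs k) := by
  interval_cases k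
  · exact level_spec_K Kgen 0 (by norm_num) lvl0 rfl
      (fun d hd ht => gperm_mem_Kgen (mem_allData.mpr (Or.inl hd)) ht) lvl0_ok q hq
  · exact level_spec_K Kgen 1 (by norm_num) lvl1 rfl
      (fun d hd ht => gperm_mem_Kgen (mem_allData.mpr (Or.inr (Or.inl hd))) ht) lvl1_ok q hq
  · exact level_spec_K Kgen 2 (by norm_num) lvl2 rfl
      (fun d hd ht => gperm_mem_Kgen (mem_allData.mpr (Or.inr (Or.inr (Or.inl hd)))) ht)
      lvl2_ok q hq
  · exact level_spec_K Kgen 3 (by norm_num) lvl3 rfl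
      (fun d hd ht => gperm_mem_Kgen (mem_allData.mpr (Or.inr (Or.inr (Or.inr (Or.inl hd))))) ht)
      lvl3_ok q hq
  · exact level_spec_K Kgen 4 (by norm_num) lvl4 rfl
      (fun d hd ht => gperm_mem_Kgen
        (mem_allData.mpr (Or.inr (Or.inr (Or.inr (Or.inr (Or.inl hd)))))) ht) lvl4_ok q hq

theorem exists_map_to_base_K (x : Fin 5 ↪ GolayPt) :
    ∀ k ≤ 5, ∃ g ∈ Kgen, ∀ j : Fin 5, j.val < k → g (x j) = pt (bs j.val) := by
  intro k
  induction k with
  | zero =>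
    intro _
    exact ⟨1, Subgroup.one_mem _, fun j hj => absurd hj (Nat.not_lt_zero _)⟩
  | succ k ih =>
    intro hk
    obtain ⟨g, hg, hgx⟩ := ih (by omega)
    have hq : ∀ j < k, idx (g (x ⟨k, by omega⟩)) ≠ bs j := by
      intro j hj hcon
      have h1 := hgx ⟨j, by omega⟩ hj
      have h2 : g (x ⟨k, by omega⟩) = pt (bs j) := by
        rw [← hcon, pt_idx]
      have h3 : x ⟨k, by omega⟩ = x ⟨j, by omega⟩ := g.injective (h2.trans h1.symm)
      have h4 := x.injective h3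
      rw [Fin.mk.injEq] at h4
      omega
    obtain ⟨h, hh, hfix, himg⟩ := level_any_K k (by omega) (g (x ⟨k, by omega⟩)) hq
    refine ⟨h * g, Subgroup.mul_mem _ hh hg, ?_⟩
    intro j hj
    rw [Equiv.Perm.mul_apply]
    by_cases hjk : j.val < k
    · rw [hgx j hjk]
      exact hfix j.val hjk
    · have : j = ⟨k, by omega⟩ := by
        apply Fin.ext
        show j.val = k
        omega
      rw [this]
      exact himg

theorem hperm_mem_Kgen {k : ℕ} (hk : k < 48) : hperm k ∈ Kgen := by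
  apply gperm_mem_Kgen _ (hs_tables hk)
  rw [mem_allData]
  right; right; right; right; right
  unfold hsD
  have hlen : hs.length = 48 := rfl
  rw [List.getD_eq_getElem _ _ (by rw [hlen]; exact hk)]
  exact List.getElem_mem _

theorem Kgen_le : Kgen ≤ M24 := by
  unfold Kgen
  rw [Subgroup.closure_le]
  intro σ hσ
  simp only [Set.mem_insert_iff, Set.mem_singleton_iff] at hσ
  have key : ∀ (σ : Equiv.Perm GolayPt) (t : List ℕ), (∀ p, σ p = pt (tb t (idx p))) →
      (∃ t' : List ℕ, tablesOK t t' = true ∧ codeOK t' = true) → σ ∈ M24 := by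
    intro σ t hσt ⟨t', ht, hc⟩
    have : σ = permOf t t' ht := by
      apply Equiv.ext
      intro p
      rw [hσt, permOf_apply]
    rw [this]
    exact permOf_mem _ _ ht hc
  rcases hσ with rfl | rfl | rfl
  · exact key _ tA tA_spec ⟨[22, 0, 1, 2, 3, 4, 5, 6, 7, 8, 9, 10, 11, 12, 13, 14, 15, 16, 17, 18,
      19, 20, 21, 23], by decide +kernel, by decide +kernel⟩
  · exact key _ tB tB_spec ⟨tB, by decide +kernel, by decide +kernel⟩
  · exact key _ tC tC_spec ⟨[0, 6, 4, 3, 18, 7, 2, 10, 12, 13, 20, 17, 9, 16, 22, 15, 8, 14, 1, 11,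
      21, 5, 19, 23], by decide +kernel, by decide +kernel⟩

theorem M24_le_Kgen : M24 ≤ Kgen := by
  intro g hg
  let x : Fin 5 ↪ GolayPt := ⟨fun i => g⁻¹ (pt (bs i.val)), fun i j h => by
    have h1 := g⁻¹.injective h
    exact x0.injective h1⟩
  obtain ⟨g1, hg1, hg1x⟩ := exists_map_to_base_K x 5 le_rfl
  have hfix : ∀ j < 5, (g1 * g⁻¹) (pt (bs j)) = pt (bs j) := by
    intro j hj
    exact hg1x ⟨j, hj⟩ hj
  obtain ⟨k, hk, hkg⟩ := H_classify
    (Subgroup.mul_mem _ (Kgen_le hg1) (Subgroup.inv_mem _ hg)) hfix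
  have : g = (hperm k)⁻¹ * g1 := by
    rw [← hkg]
    group
  rw [this]
  exact Subgroup.mul_mem _ (Subgroup.inv_mem _ (hperm_mem_Kgen hk)) hg1

theorem closure_eq_M24 : Subgroup.closure
    {Equiv.optionCongr (Equiv.addRight (1 : ZMod 23)), projInv, cubeTwist} = M24 :=
  le_antisymm Kgen_le M24_le_Kgen

end Cfsg.Agent.helper2.Golay
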