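import Mathlib
import Cfsg.Agent.Lib_helper2_M24m
import Cfsg.Agent.Lib_helper2_M24k
import Cfsg.Agent.Lib_helper2_Iwasawa
import Cfsg.Agent.Lib_helper2_Coatom

set_option autoImplicit false
set_option linter.constructorNameAsVariable false

namespace Cfsg.Agent.helper2.Golay

open Cfsg Cfsg.Agent.helper27
open scoped Pointwise commutatorElement

/-! ### The groups `M24`, `M23`, `M22` as stabilisers of the first base points -/

/-- The pointwise stabiliser in `M24` of the first `n` base points. -/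
def GF (n : ℕ) : Subgroup (Equiv.Perm GolayPt) where
  carrier := {g | g ∈ M24 ∧ ∀ j < n, g (pt (bs j)) = pt (bs j)}
  mul_mem' := by
    rintro g h ⟨hg, hgf⟩ ⟨hh, hhf⟩
    refine ⟨Subgroup.mul_mem _ hg hh, fun j hj => ?_⟩
    rw [Equiv.Perm.mul_apply, hhf j hj, hgf j hj]
  one_mem' := ⟨Subgroup.one_mem _, fun _ _ => rfl⟩
  inv_mem' := by
    rintro g ⟨hg, hgf⟩
    refine ⟨Subgroup.inv_mem _ hg, fun j hj => ?_⟩
    rw [Equiv.Perm.inv_eq_iff_eq]
    exact (hgf j hj).symm

theorem mem_GF {n : ℕ} {g : Equiv.Perm GolayPt} :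
    g ∈ GF n ↔ g ∈ M24 ∧ ∀ j < n, g (pt (bs j)) = pt (bs j) := Iff.rfl

theorem GF_le_M24 (n : ℕ) : GF n ≤ M24 := fun _ hg => hg.1

theorem hperm_mem_GF {n : ℕ} (hn : n ≤ 5) {k : ℕ} (hk : k < 48) : hperm k ∈ GF n :=
  ⟨hperm_mem hk, fun j hj => hperm_fix hk j (by omega)⟩

/-- The base embedding restricted to the first `n` points. -/
def x0n {n : ℕ} (hn : n ≤ 5) : Fin n ↪ GolayPt := (Fin.castLEEmb hn).trans x0

theorem x0n_apply {n : ℕ} (hn : n ≤ 5) (i : Fin n) : x0n hn i = pt (bs i.val) := rfl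

/-- `GF n` is transitive on the octads through the first `n` base points. -/
theorem GF_octad_transitive {n : ℕ} (hn : n ≤ 5) {o o' : Finset GolayPt} (ho : o ∈ octads)
    (ho' : o' ∈ octads) (hF : ∀ j < n, pt (bs j) ∈ o) (hF' : ∀ j < n, pt (bs j) ∈ o') :
    ∃ g ∈ GF n, g • o = o' := by
  obtain ⟨h1, hh1, hh1x, hh1o⟩ := octad_emb_to_base ho hn (x0n hn) (fun i => hF i.val i.2)
  obtain ⟨h2, hh2, hh2x, hh2o⟩ := octad_emb_to_base ho' hn (x0n hn) (fun i => hF' i.val i.2)
  refine ⟨h2⁻¹ * h1, ⟨Subgroup.mul_mem _ (Subgroup.inv_mem _ hh2) hh1, fun j hj => ?_⟩, ?_⟩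
  · have e1 := hh1x ⟨j, hj⟩
    have e2 := hh2x ⟨j, hj⟩
    rw [x0n_apply] at e1 e2
    rw [Equiv.Perm.mul_apply, e1, Equiv.Perm.inv_eq_iff_eq, e2]
  · rw [mul_smul, hh1o, ← hh2o, inv_smul_smul]

theorem GF_smul_mem {n : ℕ} {g : Equiv.Perm GolayPt} (hg : g ∈ GF n) {o : Finset GolayPt}
    (hF : ∀ j < n, pt (bs j) ∈ o) : ∀ j < n, pt (bs j) ∈ g • o := by
  intro j hj
  rw [← hg.2 j hj, perm_mem_smul_iff]
  exact hF j hj

theorem o0_base {n : ℕ} (hn : n ≤ 5) : ∀ j < n, pt (bs j) ∈ pts (cw 47) :=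
  fun j hj => bs_mem_o0 j (by omega)

/-- The orbit of the base octad under `GF n`. -/
theorem GF_orbit {n : ℕ} (hn : n ≤ 5) (o : Finset GolayPt) :
    o ∈ MulAction.orbit (GF n) (pts (cw 47)) ↔ o ∈ octads ∧ ∀ j < n, pt (bs j) ∈ o := by
  constructor
  · rintro ⟨g, rfl⟩
    exact ⟨smul_mem_octads' g.2.1 o0_mem, GF_smul_mem g.2 (o0_base hn)⟩
  · rintro ⟨ho, hF⟩
    obtain ⟨g, hg, hgo⟩ := GF_octad_transitive hn o0_mem ho (o0_base hn) hF
    exact ⟨⟨g, hg⟩, hgo⟩

/-! ### Trivial core -/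

/-- Separating octads: for all `p ≠ q` with `q` not among the first `n` base points some listed
octad through the base points contains `p` and not `q`. -/
def sepOK (n : ℕ) (L : List ℕ) : Bool :=
  (List.range 24).all fun p => (List.range 24).all fun q =>
    (p == q) || ((List.range n).any fun j => q == bs j) ||
      L.any fun m => decide (m < 4096) && decide (wt (cw m) = 8) &&
        ((List.range n).all fun j => (cw m).testBit (bs j)) &&
        (cw m).testBit p && !(cw m).testBit q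

theorem core_trivial {n : ℕ} (hn : n ≤ 5) (L : List ℕ) (hL : sepOK n L = true) :
    (MulAction.stabilizer (GF n) (pts (cw 47))).normalCore = ⊥ := by
  rw [eq_bot_iff]
  intro g hg
  rw [Subgroup.mem_bot]
  -- g stabilises every octad through the base points
  have hall : ∀ o ∈ octads, (∀ j < n, pt (bs j) ∈ o) → (g : Equiv.Perm GolayPt) • o = o := by
    intro o ho hF
    obtain ⟨b, hb, hbo⟩ := GF_octad_transitive hn ho o0_mem hF (o0_base hn)
    have h1 := hg ⟨b, hb⟩
    rw [MulAction.mem_stabilizer_iff] at h1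
    have h2 : (b * (g : Equiv.Perm GolayPt) * b⁻¹) • pts (cw 47) = pts (cw 47) := h1
    rw [← hbo, mul_smul, mul_smul, inv_smul_smul] at h2
    exact MulAction.injective b h2
  apply Subtype.ext
  apply Equiv.ext
  intro p
  show (g : Equiv.Perm GolayPt) p = p
  by_contra hne
  set q := (g : Equiv.Perm GolayPt) p with hq
  have hqF : ∀ j < n, idx q ≠ bs j := by
    intro j hj hcon
    have h1 : q = pt (bs j) := by rw [← hcon, pt_idx]
    have h2 := g.2.2 j hj
    rw [← h1] at h2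
    exact hne (((g : Equiv.Perm GolayPt).injective h2).symm ▸ rfl)
  unfold sepOK at hL
  rw [List.all_eq_true] at hL
  have h1 := hL (idx p) (List.mem_range.mpr (idx_lt p))
  rw [List.all_eq_true] at h1
  have h2 := h1 (idx q) (List.mem_range.mpr (idx_lt q))
  simp only [Bool.or_eq_true, beq_iff_eq, List.any_eq_true, List.mem_range, Bool.and_eq_true,
    decide_eq_true_eq, List.all_eq_true, Bool.not_eq_true'] at h2
  rcases h2 with (h2 | h2) | h2
  · apply hne
    rw [← pt_idx q, ← h2, pt_idx]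
  · obtain ⟨j, hj, hjq⟩ := h2
    exact hqF j hj hjq
  · obtain ⟨m, _, ⟨⟨⟨hm, hw⟩, hF⟩, hp⟩, hq'⟩ := h2
    have ho : pts (cw m) ∈ octads := pts_mem_octads hm hw
    have hst := hall _ ho (fun j hj => (mem_pts_pt (bs_lt j (by omega))).mpr (hF j hj))
    have hpm : p ∈ pts (cw m) := mem_pts.mpr hp
    have hqm : q ∈ pts (cw m) := by
      rw [← hst, hq, perm_mem_smul_iff]
      exact hpm
    rw [mem_pts, hq'] at hqm
    exact absurd hqm (by decide)

/-! ### Generation by the conjugates of the pointwise octad stabiliser -/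

/-- Level tables of the stabiliser chain. -/
def lvlData (k : ℕ) : List (List ℕ × List ℕ) := [lvl0, lvl1, lvl2, lvl3, lvl4].getD k []

theorem lvlData_ok : ∀ k < 5, (lvlData k).length = 24 ∧ levelOK k (lvlData k) = true := by
  intro k hk
  interval_cases k
  · exact ⟨rfl, lvl0_ok⟩
  · exact ⟨rfl, lvl1_ok⟩
  · exact ⟨rfl, lvl2_ok⟩
  · exact ⟨rfl, lvl3_ok⟩
  · exact ⟨rfl, lvl4_ok⟩

/-- A subgroup containing the level tables from level `n` on and the 48 elements fixing the base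
contains `GF n`. -/
theorem GF_le_of_tables {n : ℕ} (hn : n ≤ 5) (K : Subgroup (Equiv.Perm GolayPt)) (hKM : K ≤ M24)
    (hK : ∀ k, n ≤ k → k < 5 → ∀ d ∈ lvlData k, tablesOK d.1 d.2 = true → gperm d ∈ K)
    (hH : ∀ k < 48, hperm k ∈ K) : GF n ≤ K := by
  intro g hg
  let x : Fin 5 ↪ GolayPt := ⟨fun i => g⁻¹ (pt (bs i.val)), fun i j h => by
    have h1 := g⁻¹.injective h
    exact x0.injective h1⟩
  have hx : ∀ i : Fin 5, x i = g⁻¹ (pt (bs i.val)) := fun _ => rfl
  have key : ∀ k, n ≤ k → k ≤ 5 →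
      ∃ g1 ∈ K, ∀ j : Fin 5, j.val < k → g1 (x j) = pt (bs j.val) := by
    intro k hnk
    induction k, hnk using Nat.le_induction with
    | base =>
      intro _
      refine ⟨1, K.one_mem, fun j hj => ?_⟩
      rw [hx, Equiv.Perm.one_apply, Equiv.Perm.inv_eq_iff_eq]
      exact (hg.2 j.val hj).symm
    | succ k hnk ih =>
      intro hk
      obtain ⟨g1, hg1, hg1x⟩ := ih (by omega)
      have hq : ∀ j < k, idx (g1 (x ⟨k, by omega⟩)) ≠ bs j := by
        intro j hj hcon
        have h1 := hg1x ⟨j, by omega⟩ hj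
        have h2 : g1 (x ⟨k, by omega⟩) = pt (bs j) := by
          rw [← hcon, pt_idx]
        have h3 : x ⟨k, by omega⟩ = x ⟨j, by omega⟩ := g1.injective (h2.trans h1.symm)
        have h4 := x.injective h3
        rw [Fin.mk.injEq] at h4
        omega
      obtain ⟨h, hh, hfix, himg⟩ := level_spec_K K k (by omega) (lvlData k)
        (lvlData_ok k (by omega)).1 (hK k hnk (by omega)) (lvlData_ok k (by omega)).2
        (g1 (x ⟨k, by omega⟩)) hq
      refine ⟨h * g1, K.mul_mem hh hg1, ?_⟩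
      intro j hj
      rw [Equiv.Perm.mul_apply]
      by_cases hjk : j.val < k
      · rw [hg1x j hjk]
        exact hfix j.val hjk
      · have : j = ⟨k, by omega⟩ := by
          apply Fin.ext
          show j.val = k
          omega
        rw [this]
        exact himg
  obtain ⟨g1, hg1, hg1x⟩ := key 5 hn le_rfl
  have hfix : ∀ j < 5, (g1 * g⁻¹) (pt (bs j)) = pt (bs j) := by
    intro j hj
    exact hg1x ⟨j, hj⟩ hj
  obtain ⟨k, hk, hkg⟩ := H_classify
    (Subgroup.mul_mem _ (hKM hg1) (Subgroup.inv_mem _ hg.1)) hfix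
  have : g = (hperm k)⁻¹ * g1 := by
    rw [← hkg]
    group
  rw [this]
  exact K.mul_mem (K.inv_mem (hH k hk)) hg1

/-- The pointwise stabiliser of the base octad, inside `GF n`. -/
def An (n : ℕ) : Subgroup (GF n) := (fixM24 (pts (cw 47))).subgroupOf (GF n)

/-- The normal closure of `An n`, as a subgroup of the symmetric group. -/
def Nn (n : ℕ) : Subgroup (Equiv.Perm GolayPt) :=
  (Subgroup.normalClosure (An n : Set (GF n))).map (GF n).subtype

theorem Nn_le (n : ℕ) : Nn n ≤ GF n := by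
  rintro _ ⟨g, _, rfl⟩
  exact g.2

theorem mem_Nn {n : ℕ} {σ : Equiv.Perm GolayPt} (hσ : σ ∈ GF n) :
    σ ∈ Nn n ↔ (⟨σ, hσ⟩ : GF n) ∈ Subgroup.normalClosure (An n : Set (GF n)) := by
  constructor
  · rintro ⟨g, hg, hgσ⟩
    have : g = ⟨σ, hσ⟩ := Subtype.ext hgσ
    rw [← this]
    exact hg
  · intro h
    exact ⟨⟨σ, hσ⟩, h, rfl⟩

/-- An element of `GF n` fixing pointwise an octad through the base points lies in `Nn n`. -/
theorem leaf_mem {n : ℕ} (hn : n ≤ 5) {σ : Equiv.Perm GolayPt} (hσ : σ ∈ GF n)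
    {o : Finset GolayPt} (ho : o ∈ octads) (hF : ∀ j < n, pt (bs j) ∈ o)
    (hfix : σ ∈ fixM24 o) : σ ∈ Nn n := by
  obtain ⟨g, hg, hgo⟩ := GF_octad_transitive hn o0_mem ho (o0_base hn) hF
  rw [← hgo, conj_mem_fixM24 hg.1] at hfix
  have ha : g⁻¹ * σ * g ∈ GF n := (GF n).mul_mem ((GF n).mul_mem ((GF n).inv_mem hg) hσ) hg
  have hA : (⟨g⁻¹ * σ * g, ha⟩ : GF n) ∈ An n := by
    unfold An
    rw [Subgroup.mem_subgroupOf]
    exact hfix
  have hN := Subgroup.subset_normalClosure (s := (An n : Set (GF n))) hA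
  have hconj := (Subgroup.normalClosure_normal (s := (An n : Set (GF n)))).conj_mem _ hN ⟨g, hg⟩
  rw [mem_Nn hσ]
  have : (⟨σ, hσ⟩ : GF n) = ⟨g, hg⟩ * ⟨g⁻¹ * σ * g, ha⟩ * (⟨g, hg⟩ : GF n)⁻¹ := by
    apply Subtype.ext
    show σ = g * (g⁻¹ * σ * g) * g⁻¹
    group
  rw [this]
  exact hconj

/-- Check of a leaf: an involution table in `M24` fixing pointwise the octad `cw m`, which
contains the first `n` base points. -/
def leafOK (n : ℕ) (d : List ℕ × ℕ) : Bool :=
  tablesOK d.1 d.1 && codeOK d.1 && decide (d.2 < 4096) && decide (wt (cw d.2) = 8) &&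
    ((List.range n).all fun j => (cw d.2).testBit (bs j)) &&
    ((List.range 24).all fun i => !(cw d.2).testBit i || (tb d.1 i == i))

theorem leaf_rep {n : ℕ} (hn : n ≤ 5) {d : List ℕ × ℕ} (h : leafOK n d = true) :
    RepT (Nn n) d.1 := by
  unfold leafOK at h
  simp only [Bool.and_eq_true, decide_eq_true_eq, List.all_eq_true, List.mem_range,
    Bool.or_eq_true, Bool.not_eq_true', beq_iff_eq] at h
  obtain ⟨⟨⟨⟨⟨ht, hc⟩, hm⟩, hw⟩, hF⟩, hfix⟩ := h
  have hM : gperm (d.1, d.1) ∈ M24 := gperm_mem ht hc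
  have hfix' : ∀ p ∈ pts (cw d.2), gperm (d.1, d.1) p = p := by
    intro p hp
    rw [gperm_apply ht]
    rcases hfix (idx p) (idx_lt p) with h1 | h1
    · rw [mem_pts, h1] at hp
      exact absurd hp (by decide)
    · show pt (tb d.1 (idx p)) = p
      rw [h1, pt_idx]
  have hFo : ∀ j < n, pt (bs j) ∈ pts (cw d.2) :=
    fun j hj => (mem_pts_pt (bs_lt j (by omega))).mpr (hF j hj)
  have hG : gperm (d.1, d.1) ∈ GF n := ⟨hM, fun j hj => hfix' _ (hFo j hj)⟩
  refine ⟨fun i hi => (tablesOK_spec ht i hi).1, gperm (d.1, d.1), ?_, fun p => gperm_apply ht p⟩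
  exact leaf_mem hn hG (pts_mem_octads hm hw) hFo (mem_fixM24.mpr ⟨hM, hfix'⟩)

/-- The generation certificate: leaves, a straight-line program, and the check that all level
tables from level `n` on and all 48 base-fixing elements are produced. -/
def genOK (n : ℕ) (leaves : List (List ℕ × ℕ)) (ops : List (ℕ × ℕ × ℕ × List ℕ)) : Bool :=
  leaves.all (leafOK n) &&
    (let final := slpRun ops (leaves.map Prod.fst);
      ((List.range 5).all fun k => decide (k < n) ||
        (lvlData k).all fun d => d.1.isEmpty || final.contains d.1) &&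
      hs.all fun d => final.contains d.1)

theorem not_tablesOK_nil {t' : List ℕ} : tablesOK [] t' = true → False := by
  intro ht
  have h1 := (tablesOK_spec ht 0 (by norm_num)).2.2.1
  have h2 := (tablesOK_spec ht 1 (by norm_num)).2.2.1
  have h3 : tb ([] : List ℕ) 0 = 0 := rfl
  have h4 : tb ([] : List ℕ) 1 = 0 := rfl
  rw [h3] at h1
  rw [h4, h1] at h2
  exact absurd h2 (by norm_num)

theorem Nn_eq {n : ℕ} (hn : n ≤ 5) (leaves : List (List ℕ × ℕ))
    (ops : List (ℕ × ℕ × ℕ × List ℕ)) (h : genOK n leaves ops = true) : Nn n = GF n := by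
  apply le_antisymm (Nn_le n)
  unfold genOK at h
  simp only [Bool.and_eq_true, List.all_eq_true, List.mem_range, Bool.or_eq_true,
    decide_eq_true_eq, List.contains_iff_mem] at h
  obtain ⟨hleaves, hlv, hhs⟩ := h
  have hinit : ∀ t ∈ leaves.map Prod.fst, RepT (Nn n) t := by
    intro t ht
    rw [List.mem_map] at ht
    obtain ⟨d, hd, rfl⟩ := ht
    exact leaf_rep hn (hleaves d hd)
  have hfinal := slpRun_rep (K := Nn n) ops _ hinit
  have hmemK : ∀ d : List ℕ × List ℕ, d.1 ∈ slpRun ops (leaves.map Prod.fst) →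
      tablesOK d.1 d.2 = true → gperm d ∈ Nn n := by
    intro d hd ht
    obtain ⟨_, σ, hσ, hs⟩ := hfinal _ hd
    have : gperm d = σ := by
      apply Equiv.ext
      intro p
      rw [gperm_apply ht, hs]
    rw [this]
    exact hσ
  apply GF_le_of_tables hn (Nn n) ((Nn_le n).trans (GF_le_M24 n))
  · intro k hnk hk d hd ht
    rcases hlv k hk with h1 | h1
    · omega
    · rcases h1 d hd with h2 | h2
      · exfalso
        rw [List.isEmpty_iff] at h2
        rw [h2] at ht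
        exact not_tablesOK_nil ht
      · exact hmemK d h2 ht
  · intro k hk
    have hmem : hsD k ∈ hs := by
      unfold hsD
      have hlen : hs.length = 48 := rfl
      rw [List.getD_eq_getElem _ _ (by rw [hlen]; exact hk)]
      exact List.getElem_mem _
    exact hmemK _ (hhs _ hmem) (hs_tables hk)

theorem normalClosure_An {n : ℕ} (hn : n ≤ 5) (leaves : List (List ℕ × ℕ))
    (ops : List (ℕ × ℕ × ℕ × List ℕ)) (h : genOK n leaves ops = true) :
    Subgroup.normalClosure (An n : Set (GF n)) = ⊤ := by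
  rw [eq_top_iff]
  intro g _
  have h1 : (g : Equiv.Perm GolayPt) ∈ Nn n := by
    rw [Nn_eq hn leaves ops h]
    exact g.2
  exact (mem_Nn g.2).mp h1

/-! ### Perfectness -/

def commL : List ℕ := [0, 9, 5, 14, 3, 7, 12, 2, 15, 11, 8, 1, 13, 6, 4, 10]

theorem commL_lt : ∀ j < 16, commL.getD j 0 < 16 := by decide

theorem comm_data : ∀ j < 16, ∀ i < 24,
    tb (hsD (3 * j)).1 (tb (hsD 1).1 (tb (hsD (3 * commL.getD j 0)).1 i))
      = tb (hsD (3 * commL.getD j 0)).1 (tb (hsD 1).1 i) := by decide +kernel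

theorem hperm_lt {k : ℕ} (hk : k < 48) : ∀ i < 24, tb (hsD k).1 i < 24 :=
  fun i hi => (tablesOK_spec (hs_tables hk) i hi).1

theorem hperm_comm {j : ℕ} (hj : j < 16) :
    hperm (3 * j) = ⁅hperm (3 * commL.getD j 0), hperm 1⁆ := by
  have hc := commL_lt j hj
  have hk1 : 3 * j < 48 := by omega
  have hk2 : 3 * commL.getD j 0 < 48 := by omega
  have hk3 : 1 < 48 := by norm_num
  have h1 : hperm (3 * j) * hperm 1 * hperm (3 * commL.getD j 0)
      = hperm (3 * commL.getD j 0) * hperm 1 := by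
    apply Equiv.ext
    intro p
    rw [Equiv.Perm.mul_apply, Equiv.Perm.mul_apply, Equiv.Perm.mul_apply, hperm_apply hk2,
      hperm_apply hk3, hperm_apply hk1, hperm_apply hk3, hperm_apply hk2,
      idx_pt _ (hperm_lt hk2 _ (idx_lt p)),
      idx_pt _ (hperm_lt hk3 _ (hperm_lt hk2 _ (idx_lt p))),
      idx_pt _ (hperm_lt hk3 _ (idx_lt p)), comm_data j hj _ (idx_lt p)]
  rw [commutatorElement_def, ← h1]
  group

theorem GF_perfect {n : ℕ} (hn : n ≤ 5)
    (hgen : Subgroup.normalClosure (An n : Set (GF n)) = ⊤) : commutator (GF n) = ⊤ := by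
  rw [eq_top_iff, ← hgen]
  apply Subgroup.normalClosure_le_normal
  intro a ha
  have ha' : (a : Equiv.Perm GolayPt) ∈ fixM24 (pts (cw 47)) := ha
  obtain ⟨k, hk, hk3, hak⟩ := mem_fixM24_o0.mp ha'
  obtain ⟨j, rfl⟩ : ∃ j, k = 3 * j := ⟨k / 3, by omega⟩
  have hj : j < 16 := by omega
  have hc := commL_lt j hj
  have : a = ⁅(⟨hperm (3 * commL.getD j 0), hperm_mem_GF hn (by omega)⟩ : GF n),
      ⟨hperm 1, hperm_mem_GF hn (by norm_num)⟩⁆ := by
    apply Subtype.ext
    rw [hak, hperm_comm hj]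
    rfl
  rw [this]
  exact Subgroup.commutator_mem_commutator (Subgroup.mem_top _) (Subgroup.mem_top _)

/-! ### Simplicity from the certificates -/

theorem GF_nontrivial {n : ℕ} (hn : n ≤ 5) : Nontrivial (GF n) := by
  refine ⟨⟨⟨hperm 1, hperm_mem_GF hn (by norm_num)⟩, 1, ?_⟩⟩
  intro h
  have h1 : hperm 1 = 1 := congrArg Subtype.val h
  rw [← hperm_zero] at h1
  have := hperm_inj 1 (by norm_num) 0 (by norm_num) h1
  omega

theorem GF_simple {n : ℕ} (hn : n ≤ 5) (leaves : List (List ℕ × ℕ))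
    (ops : List (ℕ × ℕ × ℕ × List ℕ)) (hgenOK : genOK n leaves ops = true)
    (L : List ℕ) (hsep : sepOK n L = true)
    (hmax : IsCoatom (MulAction.stabilizer (GF n) (pts (cw 47)))) : IsSimpleGroup (GF n) := by
  have := GF_nontrivial hn
  have hgen := normalClosure_An hn leaves ops hgenOK
  apply iwasawa_simple (MulAction.stabilizer (GF n) (pts (cw 47))) (An n) hmax
  · intro a ha b hb
    have ha' : (a : Equiv.Perm GolayPt) ∈ fixM24 (pts (cw 47)) := ha
    have hb' : (b : Equiv.Perm GolayPt) ∈ fixM24 (pts (cw 47)) := hb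
    have h1 := sq_of_mem_fixM24_o0 ha'
    have h2 := sq_of_mem_fixM24_o0 hb'
    have h3 := sq_of_mem_fixM24_o0 (Subgroup.mul_mem _ ha' hb')
    apply Subtype.ext
    show (a : Equiv.Perm GolayPt) * b = b * a
    have e1 : (a : Equiv.Perm GolayPt)⁻¹ = a := inv_eq_of_mul_eq_one_left h1
    have e2 : (b : Equiv.Perm GolayPt)⁻¹ = b := inv_eq_of_mul_eq_one_left h2
    have e3 : ((a : Equiv.Perm GolayPt) * b)⁻¹ = a * b := inv_eq_of_mul_eq_one_left h3
    rw [← e3, mul_inv_rev, e1, e2]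
  · intro s hs a ha
    have ha' : (a : Equiv.Perm GolayPt) ∈ fixM24 (pts (cw 47)) := ha
    have hs' : (s : Equiv.Perm GolayPt) • pts (cw 47) = pts (cw 47) :=
      MulAction.mem_stabilizer_iff.mp hs
    have hs'' : (s : Equiv.Perm GolayPt)⁻¹ • pts (cw 47) = pts (cw 47) := by
      rw [inv_smul_eq_iff, hs']
    have h1 := (conj_mem_fixM24 (Subgroup.inv_mem _ s.2.1) (pts (cw 47))
      (a : Equiv.Perm GolayPt)).mp (by rw [hs'']; exact ha')
    rw [inv_inv] at h1
    exact h1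
  · exact hgen
  · exact GF_perfect hn hgen
  · exact core_trivial hn L hsep

/-! ### Maximality of the octad stabiliser from suborbit data -/

theorem GF_coatom {n : ℕ} (hn : n ≤ 5) (labels : Finset ℕ) (cnt : ℕ → ℕ)
    (hlab : ∀ o ∈ octads, (∀ j < n, pt (bs j) ∈ o) → (pts (cw 47) ∩ o).card ∈ labels)
    (hcnt : ∀ i ∈ labels, {o : Finset GolayPt | (o ∈ octads ∧ ∀ j < n, pt (bs j) ∈ o) ∧
      (pts (cw 47) ∩ o).card = i}.ncard = cnt i)
    (htrans : ∀ o o' : Finset GolayPt, o ∈ octads → o' ∈ octads → (∀ j < n, pt (bs j) ∈ o) →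
      (∀ j < n, pt (bs j) ∈ o') → (pts (cw 47) ∩ o).card = (pts (cw 47) ∩ o').card →
      ∃ g ∈ GF n, g • pts (cw 47) = pts (cw 47) ∧ g • o = o')
    (harith : ∀ I ∈ labels.powerset, 8 ∈ I → (∑ i ∈ I, cnt i) ∣ (∑ i ∈ labels, cnt i) →
      I = labels ∨ I = {8})
    (hne : ∃ o ∈ octads, (∀ j < n, pt (bs j) ∈ o) ∧ o ≠ pts (cw 47)) :
    IsCoatom (MulAction.stabilizer (GF n) (pts (cw 47))) := by
  have h8 : (pts (cw 47) ∩ pts (cw 47)).card = 8 := by
    rw [Finset.inter_self, card_pts]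
    decide +kernel
  apply isCoatom_stabilizer_of_suborbits (pts (cw 47)) (fun o => (pts (cw 47) ∩ o).card)
    labels cnt
  · intro o ho
    rw [GF_orbit hn] at ho
    exact hlab o ho.1 ho.2
  · intro i hi
    rw [← hcnt i hi]
    congr 1
    ext o
    rw [Set.mem_ofPred_eq, Set.mem_ofPred_eq, GF_orbit hn]
  · intro o ho o' ho' hc
    rw [GF_orbit hn] at ho ho'
    obtain ⟨g, hg, hgo0, hgo⟩ := htrans o o' ho.1 ho'.1 ho.2 ho'.2 hc
    exact ⟨⟨g, hg⟩, MulAction.mem_stabilizer_iff.mpr hgo0, hgo⟩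
  · intro I hI h8I
    rw [h8] at h8I
    intro hd
    have := harith I hI h8I hd
    rw [h8]
    exact this
  · obtain ⟨o, ho, hF, hne⟩ := hne
    exact ⟨o, (GF_orbit hn o).mpr ⟨ho, hF⟩, hne⟩

theorem o0_of_inter_eight {o : Finset GolayPt} (ho : o ∈ octads)
    (h : (pts (cw 47) ∩ o).card = 8) : o = pts (cw 47) := by
  have h8 : wt (cw 47) = 8 := by decide +kernel
  have h1 : pts (cw 47) ∩ o = pts (cw 47) :=
    Finset.eq_of_subset_of_card_le Finset.inter_subset_left (by rw [h, card_pts, h8])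
  have h2 : pts (cw 47) ⊆ o := by
    rw [← h1]
    exact Finset.inter_subset_right
  exact (Finset.eq_of_subset_of_card_le h2 (by rw [octads_steiner.1 o ho, card_pts, h8])).symm

theorem ncard_class_eight (n : ℕ) (hn : n ≤ 5) :
    {o : Finset GolayPt | (o ∈ octads ∧ ∀ j < n, pt (bs j) ∈ o) ∧
      (pts (cw 47) ∩ o).card = 8}.ncard = 1 := by
  have : {o : Finset GolayPt | (o ∈ octads ∧ ∀ j < n, pt (bs j) ∈ o) ∧
      (pts (cw 47) ∩ o).card = 8} = {pts (cw 47)} := by
    ext o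
    rw [Set.mem_ofPred_eq, Set.mem_singleton_iff]
    constructor
    · rintro ⟨⟨ho, _⟩, h⟩
      exact o0_of_inter_eight ho h
    · rintro rfl
      refine ⟨⟨o0_mem, o0_base hn⟩, ?_⟩
      rw [Finset.inter_self, card_pts]
      decide +kernel
  rw [this, Set.ncard_singleton]

/-! ### Transfer to stabilisers inside `↥M24` -/

/-- Conjugation by `h ∈ M24` as an isomorphism from a subgroup of `↥M24` onto a subgroup of the
symmetric group. -/
noncomputable def conjIso (h : Equiv.Perm GolayPt) (hh : h ∈ M24) (K1 : Subgroup M24)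
    (K2 : Subgroup (Equiv.Perm GolayPt)) (hK2 : K2 ≤ M24)
    (hK : ∀ g : M24, g ∈ K1 ↔ h * (g : Equiv.Perm GolayPt) * h⁻¹ ∈ K2) : K1 ≃* K2 where
  toFun g := ⟨h * (g.1 : Equiv.Perm GolayPt) * h⁻¹, (hK g.1).mp g.2⟩
  invFun k := ⟨⟨h⁻¹ * k.1 * h,
      Subgroup.mul_mem _ (Subgroup.mul_mem _ (Subgroup.inv_mem _ hh) (hK2 k.2)) hh⟩, by
    rw [hK]
    show h * (h⁻¹ * k.1 * h) * h⁻¹ ∈ K2
    have : h * (h⁻¹ * k.1 * h) * h⁻¹ = k.1 := by group
    rw [this]
    exact k.2⟩
  left_inv g := by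
    apply Subtype.ext
    apply Subtype.ext
    show h⁻¹ * (h * (g.1 : Equiv.Perm GolayPt) * h⁻¹) * h = g.1
    group
  right_inv k := by
    apply Subtype.ext
    show h * (h⁻¹ * k.1 * h) * h⁻¹ = k.1
    group
  map_mul' a b := by
    apply Subtype.ext
    show h * ((a.1 : Equiv.Perm GolayPt) * b.1) * h⁻¹ = h * a.1 * h⁻¹ * (h * b.1 * h⁻¹)
    group

end Cfsg.Agent.helper2.Golay
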