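import Mathlib
import Cfsg.Statements.S1604
import Cfsg.Agent.Lib_helper2_M24m

set_option autoImplicit false
open scoped Pointwise
open Cfsg

namespace Cfsg.Agent.S1604

open Cfsg.Agent.helper2

open Cfsg.Agent.helper2.Golay Cfsg.Agent.helper27

set_option maxRecDepth 1000000 in
def g1604 : List (List ℕ × List ℕ) := [
  ([0, 5, 14, 2, 15, 1, 6, 8, 4, 19, 11, 16, 9, 10, 17, 7, 13, 3, 20, 21, 18, 12, 22, 23], [0, 5, 3, 17, 8, 1, 6, 15, 7, 12, 13, 10, 21, 16, 2, 4, 11, 14, 20, 9, 18, 19, 22, 23]),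
  ([0, 3, 5, 14, 7, 2, 9, 15, 11, 18, 12, 22, 16, 10, 17, 13, 20, 1, 8, 6, 4, 19, 21, 23], [0, 17, 5, 1, 20, 2, 19, 4, 18, 6, 13, 8, 10, 15, 3, 7, 12, 14, 9, 21, 16, 22, 11, 23])]

set_option maxRecDepth 1000000 in
def t1604 : List (List (ℕ × ℕ × ℕ)) := [
  [],
  [],
  [
    (11575377, 0, 0), (8688833, 0, 0), (8922769, 0, 1), (9440193, 1, 0), (8499969, 1, 1), (11046145, 2, 0), (9240913, 3, 0), (12880401, 3, 1),
    (9776129, 4, 1), (10557585, 5, 0), (13121601, 5, 1), (14254209, 7, 0), (14950785, 7, 1), (13636881, 8, 1), (14747201, 10, 0), (12325377, 14, 1)],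
  [],
  [
    (13062145, 0, 0), (13771273, 0, 0), (11731203, 0, 1), (13370381, 1, 0), (10765331, 1, 1), (8663097, 2, 0), (9963547, 2, 1), (15747077, 3, 0),
    (10506593, 3, 1), (9607201, 4, 0), (9048457, 4, 1), (9471495, 5, 0), (8471941, 5, 1), (10846245, 6, 0), (12599513, 6, 1), (15335473, 7, 1),
    (8524371, 8, 0), (9112069, 8, 1), (8716939, 9, 0), (12656663, 9, 1), (10486557, 10, 0), (8505411, 10, 1), (9193633, 11, 0), (8546577, 12, 0),
    (9465987, 13, 0), (9969957, 13, 1), (12747077, 14, 0), (10666625, 14, 1), (14716939, 15, 0), (11010247, 15, 1), (8946281, 16, 0), (11100169, 17, 0),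
    (13893731, 17, 1), (9748745, 18, 1), (12641313, 19, 0), (11535529, 19, 1), (8966165, 20, 0), (8593633, 21, 0), (8619033, 23, 0), (12717187, 23, 1),
    (8783649, 24, 0), (8391797, 25, 1), (10496547, 26, 1), (9347075, 27, 1), (12587685, 28, 0), (8675909, 30, 1), (10630149, 31, 0), (10110017, 31, 1),
    (9830549, 33, 0), (8657159, 35, 0), (8398155, 37, 0), (8431757, 38, 0), (12650793, 39, 0), (8983587, 42, 0), (13124355, 44, 0), (8412681, 46, 0),
    (10881097, 47, 0), (8421811, 48, 1), (9519665, 49, 0), (9506893, 53, 1)],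
  [],
  [],
  [],
  [
    (8536111, 0, 0)]]

theorem g1604_ok : cfgGensOK [23, 0] [cw 47] g1604 = true := by decide +kernel

theorem t1604_ok : t1604.all (treeOK g1604) = true := by decide +kernel

theorem t1604_all : ∀ m < 4096, octCls [23, 0] [] m < t1604.length →
    (t1604.getD (octCls [23, 0] [] m) []).any (fun e => e.1 == cw m) = true :=
  forall_lt_4096 (by decide +kernel)

theorem count2 : ((Finset.range 4096).filter (fun m => octCls [23, 0] [] m = 2)).card = 16 := by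
  rw [count_rows]
  decide +kernel

theorem count4 : ((Finset.range 4096).filter (fun m => octCls [23, 0] [] m = 4)).card = 60 := by
  rw [count_rows]
  decide +kernel

theorem hin : ∀ i ∈ [23, 0], i < 24 := by decide
theorem hout : ∀ i ∈ ([] : List ℕ), i < 24 := by decide


theorem result (p q : Cfsg.GolayPt) (hpq : p ≠ q) (o o' o'' : Finset Cfsg.GolayPt) (ho : o ∈ Cfsg.octads) (ho' : o' ∈ Cfsg.octads) (ho'' : o'' ∈ Cfsg.octads) (hp : p ∈ o ∧ p ∈ o' ∧ p ∈ o'') (hq : q ∈ o ∧ q ∈ o' ∧ q ∈ o'') (h : (o ∩ o').card = (o ∩ o'').card) : {x : Finset Cfsg.GolayPt | x ∈ Cfsg.octads ∧ p ∈ x ∧ q ∈ x ∧ (o ∩ x).card = 2}.ncard = 16 ∧ {x : Finset Cfsg.GolayPt | x ∈ Cfsg.octads ∧ p ∈ x ∧ q ∈ x ∧ (o ∩ x).card = 4}.ncard = 60 ∧ ∃ g : Equiv.Perm Cfsg.GolayPt, g ∈ Cfsg.M24 ∧ g p = p ∧ g q = q ∧ g • o = o ∧ g • o' = o'' := by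
  obtain ⟨h, hh, hhx, hho⟩ := octad_emb_to_base ho (k := 2) (by norm_num) (emb2 p q hpq)
    (fun i => by
      fin_cases i
      · exact hp.1
      · exact hq.1)
  have hp23 : h p = pt 23 := hhx 0
  have hq0 : h q = pt 0 := hhx 1
  have memin : ∀ s : Finset GolayPt, (p ∈ s ∧ q ∈ s) ↔ ∀ i ∈ [23, 0], pt i ∈ h • s := by
    intro s
    constructor
    · rintro ⟨h2, h3⟩ i hi
      rw [List.mem_cons, List.mem_singleton] at hi
      rcases hi with rfl | rfl
      · rw [← hp23, perm_mem_smul_iff]; exact h2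
      · rw [← hq0, perm_mem_smul_iff]; exact h3
    · intro h2
      constructor
      · have := h2 23 (by simp)
        rwa [← hp23, perm_mem_smul_iff] at this
      · have := h2 0 (by simp)
        rwa [← hq0, perm_mem_smul_iff] at this
  have key : ∀ k : ℕ, ∀ s : Finset GolayPt,
      (s ∈ {x : Finset GolayPt | x ∈ octads ∧ p ∈ x ∧ q ∈ x ∧ (o ∩ x).card = k}) ↔
      h • s ∈ {s : Finset GolayPt | s ∈ octads ∧ (∀ i ∈ [23, 0], pt i ∈ s) ∧
        (∀ i ∈ ([] : List ℕ), pt i ∉ s) ∧ (pts (cw 47) ∩ s).card = k} := by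
    intro k s
    rw [Set.mem_ofPred_eq, Set.mem_ofPred_eq, smul_mem_octads_iff hh, ← hho, card_smul_inter, ← memin]
    constructor
    · rintro ⟨h1, h2, h3, h4⟩
      exact ⟨h1, ⟨h2, h3⟩, fun i hi => absurd hi List.not_mem_nil, h4⟩
    · rintro ⟨h1, ⟨h2, h3⟩, _, h4⟩
      exact ⟨h1, h2, h3, h4⟩
  refine ⟨?_, ?_, ?_⟩
  · rw [ncard_smul_eq h _ _ (key 2), octCls_count _ _ hin hout 2 (by norm_num), count2]
  · rw [ncard_smul_eq h _ _ (key 4), octCls_count _ _ hin hout 4 (by norm_num), count4]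
  · have h1 : (pts (cw 47) ∩ h • o').card = (pts (cw 47) ∩ h • o'').card := by
      rw [← hho, card_smul_inter, card_smul_inter]
      exact ‹(o ∩ o').card = (o ∩ o'').card›
    obtain ⟨g0, hg0, hg0s⟩ := octCls_trans [23, 0] [] hin hout _ g1604 (cfgGens_mem g1604_ok)
      t1604 t1604_ok (by decide +kernel) t1604_all
      ((smul_mem_octads_iff hh).mpr ho') ((smul_mem_octads_iff hh).mpr ho'')
      ((memin o').mp ⟨hp.2.1, hq.2.1⟩) ((memin o'').mp ⟨hp.2.2, hq.2.2⟩)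
      (fun i hi => absurd hi List.not_mem_nil) (fun i hi => absurd hi List.not_mem_nil) h1
    obtain ⟨c1, c2, c3, c4⟩ := conj_cfg hh hg0
    exact ⟨h⁻¹ * g0 * h, c1, c2 23 (by simp) p hp23, c2 0 (by simp) q hq0,
      c3 (cw 47) (List.mem_singleton.mpr rfl) o hho, c4 o' o'' hg0s⟩

end Cfsg.Agent.S1604
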