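import Mathlib
import Cfsg.Agent.Lib_helper2_M24s
import Cfsg.Agent.S1604

set_option autoImplicit false
set_option linter.constructorNameAsVariable false

namespace Cfsg.Agent.helper2.Golay

open Cfsg Cfsg.Agent.helper27
open scoped Pointwise

def leaves2 : List (List ℕ × ℕ) := [
  ([0, 1, 13, 18, 22, 19, 11, 9, 8, 7, 12, 6, 10, 2, 15, 14, 16, 17, 3, 5, 20, 21, 4, 23], 259),
  ([0, 6, 3, 2, 4, 20, 1, 13, 21, 9, 19, 11, 17, 7, 16, 15, 14, 12, 18, 10, 5, 8, 22, 23], 2577),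
  ([0, 1, 19, 13, 4, 18, 6, 21, 10, 9, 8, 16, 12, 3, 15, 14, 11, 17, 5, 2, 22, 7, 20, 23], 595),
  ([0, 19, 5, 20, 4, 2, 10, 12, 14, 9, 6, 11, 7, 17, 8, 15, 21, 13, 18, 1, 3, 16, 22, 23], 2577),
  ([0, 5, 10, 19, 15, 1, 20, 7, 8, 11, 2, 9, 17, 13, 16, 4, 14, 12, 18, 3, 6, 21, 22, 23], 385),
  ([0, 4, 8, 11, 1, 13, 6, 16, 2, 12, 10, 3, 9, 5, 14, 22, 7, 17, 21, 19, 20, 18, 15, 23], 1089),
  ([0, 20, 2, 18, 5, 4, 11, 14, 16, 15, 10, 6, 12, 13, 7, 9, 8, 17, 3, 22, 1, 21, 19, 23], 1029),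
  ([0, 15, 21, 9, 4, 7, 16, 5, 8, 3, 12, 11, 10, 13, 14, 1, 6, 17, 19, 18, 22, 2, 20, 23], 2321)]

set_option maxRecDepth 1000000 in
def nops2 : List (ℕ × ℕ × ℕ × List ℕ) := [
  (0, 0, 0, []), (0, 0, 1, []), (0, 2, 9, []), (0, 1, 10, []),
  (0, 0, 11, []), (0, 2, 0, []), (0, 0, 2, []), (0, 0, 13, []),
  (0, 3, 1, []), (0, 0, 3, []), (0, 2, 3, []), (0, 0, 16, []),
  (0, 1, 17, []), (0, 2, 17, []), (0, 1, 18, []), (0, 1, 19, []),
  (0, 2, 20, []), (0, 0, 24, []), (1, 17, 0, [0, 19, 17, 18, 22, 1, 11, 9, 14, 12, 7, 10, 6, 5, 15, 8, 21, 13, 20, 2, 3, 16, 4, 23]), (0, 26, 4, []),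
  (0, 27, 15, []), (0, 0, 27, []), (0, 2, 27, []), (0, 2, 28, []),
  (0, 27, 28, []), (0, 27, 29, []), (0, 27, 30, []), (0, 0, 31, []),
  (0, 0, 32, []), (0, 27, 32, []), (0, 2, 33, []), (0, 27, 33, []),
  (0, 27, 38, []), (1, 25, 0, [0, 11, 17, 3, 1, 18, 15, 12, 2, 14, 13, 19, 16, 7, 21, 8, 10, 6, 9, 20, 4, 5, 22, 23]), (0, 41, 5, []), (0, 42, 42, []),
  (0, 42, 43, []), (0, 42, 44, []), (1, 20, 0, [0, 11, 18, 17, 22, 3, 19, 5, 16, 12, 2, 10, 13, 9, 21, 8, 15, 6, 20, 7, 1, 14, 4, 23]), (0, 46, 6, []),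
  (0, 15, 47, []), (0, 43, 48, []), (0, 49, 49, []), (1, 12, 0, [0, 11, 8, 10, 5, 21, 14, 13, 9, 18, 12, 6, 7, 3, 15, 1, 16, 19, 20, 4, 2, 17, 22, 23]),
  (0, 51, 7, []), (1, 39, 0, [0, 1, 20, 10, 8, 9, 11, 19, 22, 12, 7, 6, 18, 17, 15, 14, 16, 2, 5, 3, 13, 4, 21, 23]), (0, 53, 52, []), (0, 54, 42, []),
  (0, 54, 43, []), (0, 54, 44, []), (0, 42, 54, []), (0, 49, 54, []),
  (0, 42, 55, []), (0, 49, 55, []), (0, 54, 55, []), (0, 49, 56, []),
  (0, 54, 56, []), (0, 42, 59, []), (0, 49, 59, []), (0, 49, 60, []),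
  (0, 5, 7, []), (1, 24, 0, [0, 11, 7, 9, 22, 20, 19, 14, 2, 12, 16, 15, 13, 17, 8, 21, 10, 6, 3, 18, 4, 5, 1, 23]), (0, 69, 68, []), (0, 14, 70, []),
  (1, 60, 0, [0, 1, 2, 4, 15, 16, 18, 11, 14, 19, 21, 5, 17, 10, 22, 6, 20, 13, 3, 8, 7, 12, 9, 23]), (0, 72, 71, []), (0, 49, 73, []), (0, 49, 74, []),
  (0, 7, 0, []), (0, 51, 76, []), (0, 14, 77, []), (1, 64, 0, [0, 1, 2, 13, 14, 22, 21, 19, 9, 18, 11, 20, 10, 5, 16, 8, 17, 4, 15, 7, 12, 6, 3, 23]),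
  (0, 79, 78, []), (0, 80, 73, []), (0, 80, 74, []), (0, 80, 75, []),
  (0, 49, 80, []), (0, 73, 80, []), (0, 49, 81, []), (0, 73, 81, []),
  (0, 80, 81, []), (0, 73, 82, []), (0, 80, 82, []), (0, 73, 83, []),
  (0, 25, 32, []), (0, 92, 59, []), (0, 93, 87, []), (0, 1, 38, []),
  (0, 95, 62, []), (0, 96, 86, []), (0, 97, 50, []), (0, 18, 59, []),
  (0, 99, 80, []), (0, 100, 49, []), (0, 12, 40, []), (0, 102, 45, []),
  (0, 103, 86, []), (0, 104, 50, []), (0, 21, 32, []), (0, 106, 63, []),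
  (0, 107, 75, []), (0, 22, 35, []), (0, 109, 64, []), (0, 110, 84, []),
  (0, 111, 50, []), (0, 17, 29, []), (0, 113, 59, []), (0, 114, 90, []),
  (0, 18, 15, []), (0, 116, 62, []), (0, 117, 74, []), (0, 23, 36, []),
  (0, 119, 45, []), (0, 120, 83, []), (0, 121, 49, []), (0, 16, 44, []),
  (0, 123, 89, []), (0, 12, 66, []), (0, 125, 88, []), (0, 126, 50, []),
  (0, 3, 37, []), (0, 128, 62, []), (0, 129, 80, []), (0, 130, 49, []),
  (0, 21, 40, []), (0, 132, 44, []), (0, 133, 73, []), (0, 134, 50, []),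
  (0, 16, 30, []), (0, 136, 63, []), (0, 137, 88, []), (0, 21, 14, []),
  (0, 139, 43, []), (0, 140, 73, []), (0, 12, 30, []), (0, 142, 42, []),
  (0, 143, 87, []), (0, 144, 49, []), (0, 1, 35, []), (0, 146, 61, []),
  (0, 147, 74, []), (0, 148, 50, []), (0, 18, 39, []), (0, 150, 61, []),
  (0, 151, 88, []), (0, 152, 50, []), (0, 1, 43, []), (0, 154, 84, []),
  (0, 155, 50, []), (0, 25, 37, []), (0, 157, 58, []), (0, 158, 89, []),
  (0, 159, 49, []), (0, 12, 28, []), (0, 161, 43, []), (0, 162, 89, []),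
  (0, 163, 49, []), (0, 15, 60, []), (0, 165, 49, []), (0, 34, 57, []),
  (0, 167, 88, []), (0, 168, 50, []), (0, 13, 59, []), (0, 170, 50, []),
  (0, 37, 61, []), (0, 172, 91, []), (0, 173, 50, []), (0, 33, 43, []),
  (0, 175, 85, []), (0, 176, 50, []), (0, 2, 54, []), (0, 178, 87, []),
  (0, 179, 50, []), (0, 13, 44, []), (0, 181, 87, []), (0, 182, 49, []),
  (0, 27, 65, []), (0, 184, 89, []), (0, 185, 49, []), (0, 39, 60, []),
  (0, 187, 85, []), (0, 188, 50, []), (0, 35, 54, []), (0, 190, 75, []),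
  (0, 33, 61, []), (0, 192, 86, []), (0, 193, 50, []), (0, 38, 59, []),
  (0, 195, 89, []), (0, 196, 50, []), (0, 15, 55, []), (0, 198, 86, []),
  (0, 199, 49, []), (0, 27, 42, []), (0, 201, 87, []), (0, 29, 60, []),
  (0, 203, 75, []), (0, 204, 50, []), (0, 13, 57, []), (0, 206, 89, []),
  (0, 207, 50, []), (0, 40, 58, []), (0, 209, 50, []), (0, 30, 67, []),
  (0, 211, 83, []), (0, 212, 49, []), (0, 28, 87, []), (0, 214, 50, []),
  (0, 38, 65, []), (0, 216, 73, []), (0, 217, 49, []), (0, 62, 87, []),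
  (0, 219, 49, []), (0, 66, 87, []), (0, 221, 49, []), (0, 67, 87, []),
  (0, 223, 49, []), (0, 67, 89, []), (0, 225, 50, []), (0, 62, 86, []),
  (0, 61, 85, []), (0, 44, 83, []), (0, 229, 50, []), (0, 60, 75, []),
  (0, 231, 50, []), (0, 43, 89, []), (0, 233, 49, []), (0, 54, 75, []),
  (0, 235, 49, []), (0, 65, 91, []), (0, 237, 49, []), (0, 57, 85, []),
  (0, 239, 49, []), (0, 66, 74, []), (0, 44, 80, []), (0, 242, 50, []),
  (0, 55, 86, []), (0, 244, 49, []), (0, 64, 90, []), (0, 246, 49, []),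
  (0, 63, 87, []), (0, 248, 49, []), (0, 43, 84, []), (0, 250, 49, []),
  (0, 88, 50, []), (0, 88, 49, []), (0, 89, 50, []), (0, 89, 49, []),
  (0, 90, 50, []), (0, 90, 49, []), (0, 85, 50, []), (0, 85, 49, []),
  (0, 86, 49, []), (0, 86, 50, []), (0, 75, 50, []), (0, 75, 49, []),
  (0, 81, 50, []), (0, 81, 49, []), (0, 84, 50, []), (0, 84, 49, []),
  (0, 82, 49, []), (0, 82, 50, []), (0, 91, 49, []), (0, 91, 50, []),
  (0, 87, 50, []), (0, 87, 49, []), (0, 74, 50, []), (0, 74, 49, []),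
  (0, 73, 49, []), (0, 73, 50, []), (0, 83, 50, []), (0, 83, 49, []),
  (0, 80, 49, []), (0, 80, 50, [])]

def sepOcts2 : List ℕ := [1, 81, 47, 1681, 2311, 129, 353, 3593, 3, 797, 99, 1413, 2053]

theorem gen2_ok : genOK 2 leaves2 nops2 = true := by decide +kernel

theorem sep2_ok : sepOK 2 sepOcts2 = true := by decide +kernel

theorem base2_iff (o : Finset GolayPt) : (∀ j < 2, pt (bs j) ∈ o) ↔ pt 23 ∈ o ∧ pt 0 ∈ o := by
  constructor
  · intro h
    exact ⟨h 0 (by norm_num), h 1 (by norm_num)⟩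
  · intro h j hj
    interval_cases j
    · exact h.1
    · exact h.2

theorem coatom2 : IsCoatom (MulAction.stabilizer (GF 2) (pts (cw 47))) := by
  have hx : pt 23 ∈ pts (cw 47) := bs_mem_o0 0 (by norm_num)
  have hy : pt 0 ∈ pts (cw 47) := bs_mem_o0 1 (by norm_num)
  have hxy : pt 23 ≠ pt 0 := by decide
  have hres := fun o' o'' ho' ho'' hp hq h => Cfsg.Agent.S1604.result (pt 23) (pt 0) hxy
    (pts (cw 47)) o' o'' o0_mem ho' ho'' hp hq h
  obtain ⟨c2, c4, -⟩ := hres (pts (cw 47)) (pts (cw 47)) o0_mem o0_mem ⟨hx, hx, hx⟩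
    ⟨hy, hy, hy⟩ rfl
  apply GF_coatom (by norm_num) {8, 2, 4}
    (fun i => if i = 8 then 1 else if i = 2 then 16 else 60)
  · intro o ho hFo
    rcases octads_inter_cases o0_mem ho with h | h | h | h
    · exfalso
      have : pt 23 ∈ pts (cw 47) ∩ o := Finset.mem_inter.mpr ⟨hx, ((base2_iff o).mp hFo).1⟩
      rw [Finset.card_eq_zero] at h
      rw [h] at this
      exact absurd this (Finset.notMem_empty _)
    · rw [h]; decide
    · rw [h]; decide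
    · rw [h]; decide
  · intro i hi
    simp only [Finset.mem_insert, Finset.mem_singleton] at hi
    rcases hi with rfl | rfl | rfl
    · rw [if_pos rfl]
      exact ncard_class_eight 2 (by norm_num)
    · rw [if_neg (by norm_num), if_pos rfl, ← c2]
      congr 1
      ext o
      rw [Set.mem_ofPred_eq, Set.mem_ofPred_eq, base2_iff, and_assoc, and_assoc]
    · rw [if_neg (by norm_num), if_neg (by norm_num), ← c4]
      congr 1
      ext o
      rw [Set.mem_ofPred_eq, Set.mem_ofPred_eq, base2_iff, and_assoc, and_assoc]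
  · intro o o' ho ho' hFo hFo' hc
    obtain ⟨-, -, g, hg, hgx, hgy, hgo, hgo'⟩ := hres o o' ho ho'
      ⟨hx, ((base2_iff o).mp hFo).1, ((base2_iff o').mp hFo').1⟩
      ⟨hy, ((base2_iff o).mp hFo).2, ((base2_iff o').mp hFo').2⟩ hc
    refine ⟨g, ⟨hg, fun j hj => ?_⟩, hgo, hgo'⟩
    interval_cases j
    · exact hgx
    · exact hgy
  · decide
  · refine ⟨pts (cw 1), pts_mem_octads (by norm_num) (by decide +kernel), ?_, ?_⟩
    · rw [base2_iff, mem_pts_pt (by norm_num), mem_pts_pt (by norm_num)]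
      decide +kernel
    · intro h
      exact absurd (cw_injOn (by norm_num) (by norm_num) h) (by norm_num)

theorem GF2_simple : IsSimpleGroup (GF 2) :=
  GF_simple (by norm_num) leaves2 nops2 gen2_ok sepOcts2 sep2_ok coatom2

end Cfsg.Agent.helper2.Golay
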