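import Mathlib
import Cfsg.Agent.Lib_helper27_HSs3
import Cfsg.Agent.Lib_helper2_M24s2

set_option autoImplicit false

namespace Cfsg.Agent.helper27

open Cfsg MulAction
open scoped Pointwise

set_option synthInstance.maxHeartbeats 400000 in
instance hsPts_mulAction : MulAction HS0 hsPts := inferInstance

theorem monoPerm_mul {σ τ : Equiv.Perm GolayPt} (hσ : σ ∈ M24) (hτ : τ ∈ M24) :
    monoPerm (σ * τ) (Subgroup.mul_mem _ hσ hτ) ∅ empty_mem_GS
      = monoPerm σ hσ ∅ empty_mem_GS * monoPerm τ hτ ∅ empty_mem_GS := by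
  apply Equiv.ext
  intro x
  apply Subtype.ext
  show signedPerm (σ * τ) ∅ x.1 = signedPerm σ ∅ (signedPerm τ ∅ x.1)
  rw [signedPerm_empty, signedPerm_empty, signedPerm_empty]
  funext i
  rfl

theorem mem_GF2 {σ : Equiv.Perm GolayPt} :
    σ ∈ helper2.Golay.GF 2 ↔ σ ∈ M24 ∧ σ none = none ∧ σ (some 0) = some 0 := by
  constructor
  · rintro ⟨h1, h2⟩
    exact ⟨h1, h2 0 (by norm_num), h2 1 (by norm_num)⟩
  · rintro ⟨h1, h2, h3⟩
    refine ⟨h1, fun j hj => ?_⟩
    interval_cases j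
    · exact h2
    · exact h3

theorem card_GF2 : Nat.card (helper2.Golay.GF 2) = 443520 := by
  rw [← helper2.Golay.card_stab_two none (some 0) (by decide)]
  apply Nat.card_congr
  refine ⟨fun g => ⟨⟨g.1, (mem_GF2.mp g.2).1⟩, ?_⟩, fun g => ⟨g.1.1, mem_GF2.mpr ⟨g.1.2, ?_, ?_⟩⟩,
    fun g => rfl, fun g => rfl⟩
  · refine Subgroup.mem_inf.mpr ⟨?_, ?_⟩
    · exact mem_stabilizer_iff.mpr (mem_GF2.mp g.2).2.1
    · exact mem_stabilizer_iff.mpr (mem_GF2.mp g.2).2.2
  · exact mem_stabilizer_iff.mp (Subgroup.mem_inf.mp g.2).1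
  · exact mem_stabilizer_iff.mp (Subgroup.mem_inf.mp g.2).2

theorem card_stab_a0P : Nat.card (stabilizer HS0 a0P) = 443520 := by
  have h1 := (stabilizer HS0 a0P).card_mul_index
  rw [index_stabilizer_of_transitive, card_hsPts, card_HS0] at h1
  omega

/-- the monomial embedding of the stabiliser of two points -/
def m22Hom : helper2.Golay.GF 2 →* stabilizer HS0 a0P where
  toFun σ := ⟨⟨⟨monoPerm σ.1 (mem_GF2.mp σ.2).1 ∅ empty_mem_GS, monoPerm_mem_Co0 _ _ _ _⟩,
    mem_HS0.mpr ⟨Subtype.ext (signedPerm_u5 (mem_GF2.mp σ.2).2.1), Subtype.ext (by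
      show signedPerm σ.1 ∅ (pair4 none (some 0) (-4) 4) = pair4 none (some 0) (-4) 4
      rw [signedPerm_pair4, (mem_GF2.mp σ.2).2.1, (mem_GF2.mp σ.2).2.2])⟩⟩, by
    rw [mem_stabilizer_iff]
    apply Subtype.ext
    apply Subtype.ext
    show signedPerm σ.1 ∅ (pair4 none (some 0) 4 4) = pair4 none (some 0) 4 4
    rw [signedPerm_pair4, (mem_GF2.mp σ.2).2.1, (mem_GF2.mp σ.2).2.2]⟩
  map_one' := by
    apply Subtype.ext
    apply Subtype.ext
    apply Subtype.ext
    apply Equiv.ext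
    intro x
    apply Subtype.ext
    show signedPerm 1 ∅ x.1 = x.1
    rw [signedPerm_empty]
    rfl
  map_mul' σ τ := by
    apply Subtype.ext
    apply Subtype.ext
    apply Subtype.ext
    exact monoPerm_mul (mem_GF2.mp σ.2).1 (mem_GF2.mp τ.2).1

theorem m22Hom_injective : Function.Injective m22Hom := by
  intro σ τ h
  have h1 : monoPerm σ.1 (mem_GF2.mp σ.2).1 ∅ empty_mem_GS
      = monoPerm τ.1 (mem_GF2.mp τ.2).1 ∅ empty_mem_GS :=
    congrArg (fun t : stabilizer HS0 a0P => t.1.1.1) h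
  exact Subtype.ext (monoPerm_injective h1).1

theorem stab_a0P_simple : IsSimpleGroup (stabilizer HS0 a0P) := by
  have : Finite (stabilizer HS0 a0P) :=
    Nat.finite_of_card_ne_zero (by rw [card_stab_a0P]; norm_num)
  have : Finite (helper2.Golay.GF 2) :=
    Nat.finite_of_card_ne_zero (by rw [card_GF2]; norm_num)
  have hbij : Function.Bijective m22Hom := by
    rw [Nat.bijective_iff_injective_and_card]
    exact ⟨m22Hom_injective, by rw [card_GF2, card_stab_a0P]⟩
  have hnt : Nontrivial (stabilizer HS0 a0P) := by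
    rw [← Finite.one_lt_card_iff_nontrivial, card_stab_a0P]
    norm_num
  have := helper2.Golay.GF2_simple
  exact IsSimpleGroup.isSimpleGroup_of_surjective m22Hom hbij.2

end Cfsg.Agent.helper27
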