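import Mathlib
import Cfsg.Agent.Lib_helper27_HSs4
import Cfsg.Prelude.Def_Sporadic

set_option autoImplicit false

namespace Cfsg.Agent.helper27

open Cfsg MulAction
open scoped Pointwise

theorem fixOrb4_lift {x y : hsPts} (h : FixOrb F4 x.1 y.1) :
    ∃ g ∈ stabilizer HS0 a0P, g • x = y := by
  obtain ⟨g, hg, hgx⟩ := h
  refine ⟨⟨g, mem_HS0.mpr ⟨hg _ (Or.inl rfl), hg _ (Or.inr (Or.inl rfl))⟩⟩, ?_, ?_⟩
  · rw [mem_stabilizer_iff]
    apply Subtype.ext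
    exact hg _ (Or.inr (Or.inr rfl))
  · apply Subtype.ext
    exact hgx

theorem hs_prim (N : Subgroup HS0) (hN : N.Normal) :
    N ≤ stabilizer HS0 a0P ∨ ∀ x : hsPts, ∃ n ∈ N, n • a0P = x := by
  have hQ : {y : hsPts | dotInt a0 y.1.1 = 8}.ncard = 22 := by
    refine Eq.trans ?_ hsQ_std_ncard
    rw [← Set.ncard_image_of_injective _ Subtype.val_injective]
    congr 1
    ext y
    constructor
    · rintro ⟨z, hz, rfl⟩
      exact ⟨z.2, hz⟩
    · rintro ⟨h1, h2⟩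
      exact ⟨⟨y, h1⟩, h2, rfl⟩
  have hR : {y : hsPts | y ≠ a0P ∧ ¬ dotInt a0 y.1.1 = 8}.ncard = 77 := by
    refine Eq.trans ?_ hsR_std_ncard
    rw [← Set.ncard_image_of_injective _ Subtype.val_injective]
    congr 1
    ext y
    constructor
    · rintro ⟨z, ⟨hz1, hz2⟩, rfl⟩
      exact ⟨z.2, fun h => hz1 (Subtype.ext h), hz2⟩
    · rintro ⟨h1, h2, h3⟩
      exact ⟨⟨y, h1⟩, ⟨fun h => h2 (congrArg Subtype.val h), h3⟩, rfl⟩
  refine prim_of_rank3 a0P (fun y : hsPts => dotInt a0 y.1.1 = 8) ?_ 22 77 hQ hR ?_ ?_ ?_ N hN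
  · show ¬ dotInt a0 a0 = 8
    rw [dot_a0_a0]
    norm_num
  · intro y y' hy hy' hiff
    apply fixOrb4_lift
    apply ROrb.fixOrb
    by_cases h8 : dotInt a0 y.1.1 = 8
    · have h8' := hiff.mp h8
      exact rorb4_hsA' ((hsQ_std _).mp ⟨y.2, h8⟩) ((hsQ_std _).mp ⟨y'.2, h8'⟩)
    · have h8' : ¬ dotInt a0 y'.1.1 = 8 := fun h => h8 (hiff.mpr h)
      exact rorb4_mclB ((hsR_std _).mp ⟨y.2, fun h => hy (Subtype.ext h), h8⟩)
        ((hsR_std _).mp ⟨y'.2, fun h => hy' (Subtype.ext h), h8'⟩)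
  · rw [card_hsPts]; norm_num
  · rw [card_hsPts]; norm_num

theorem HS0_simple : IsSimpleGroup HS0 := by
  have : Fact (Nat.Prime 5) := ⟨by norm_num⟩
  refine isSimpleGroup_of_prim_stab (G := HS0) (Ω := hsPts) a0P stab_a0P_simple hs_prim 5 2 4
    (by rw [card_hsPts]; norm_num) (by norm_num) (by norm_num) (by norm_num) ?_
  intro d hd hmod
  have hle : d ≤ 4 := Nat.le_of_dvd (by norm_num) hd
  interval_cases d <;> first | rfl | (exfalso; revert hmod; decide)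

theorem HS0_isHS : IsHS HS0 := ⟨HS0_simple, card_HS0⟩

/-- conjugation between joint stabilisers -/
def stabConj (g0 : Co0) (a b : leechLattice) :
    ↥(stabilizer Co0 a ⊓ stabilizer Co0 b) ≃* ↥(stabilizer Co0 (g0 • a) ⊓ stabilizer Co0 (g0 • b)) where
  toFun h := ⟨g0 * h.1 * g0⁻¹, by
    obtain ⟨h1, h2⟩ := Subgroup.mem_inf.mp h.2
    rw [mem_stabilizer_iff] at h1 h2
    refine Subgroup.mem_inf.mpr ⟨?_, ?_⟩
    · rw [mem_stabilizer_iff, mul_smul, mul_smul, inv_smul_smul, h1]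
    · rw [mem_stabilizer_iff, mul_smul, mul_smul, inv_smul_smul, h2]⟩
  invFun h := ⟨g0⁻¹ * h.1 * g0, by
    obtain ⟨h1, h2⟩ := Subgroup.mem_inf.mp h.2
    rw [mem_stabilizer_iff] at h1 h2
    refine Subgroup.mem_inf.mpr ⟨?_, ?_⟩
    · rw [mem_stabilizer_iff, mul_smul, mul_smul, h1, inv_smul_smul]
    · rw [mem_stabilizer_iff, mul_smul, mul_smul, h2, inv_smul_smul]⟩
  left_inv h := by
    apply Subtype.ext
    show g0⁻¹ * (g0 * h.1 * g0⁻¹) * g0 = h.1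
    group
  right_inv h := by
    apply Subtype.ext
    show g0 * (g0⁻¹ * h.1 * g0) * g0⁻¹ = h.1
    group
  map_mul' h h' := by
    apply Subtype.ext
    show g0 * (h.1 * h'.1) * g0⁻¹ = g0 * h.1 * g0⁻¹ * (g0 * h'.1 * g0⁻¹)
    group

theorem stab_pair_eq (v w : leechLattice) :
    stabilizer Co0 v ⊓ stabilizer Co0 w = stabilizer Co0 v ⊓ stabilizer Co0 (-(v + w)) := by
  ext g
  rw [Subgroup.mem_inf, Subgroup.mem_inf, mem_stabilizer_iff, mem_stabilizer_iff,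
    mem_stabilizer_iff]
  constructor
  · rintro ⟨h1, h2⟩
    exact ⟨h1, by rw [co0_smul_neg, co0_smul_add, h1, h2]⟩
  · rintro ⟨h1, h2⟩
    refine ⟨h1, ?_⟩
    rw [co0_smul_neg, co0_smul_add, h1] at h2
    exact add_left_cancel (neg_injective h2)

/-- statement of `S0405` -/
theorem hs_isHS (v w : leechLattice) (hv : sqNorm (v : GolayPt → ℤ) = 48)
    (hw : sqNorm (w : GolayPt → ℤ) = 48)
    (hvw : dotInt (v : GolayPt → ℤ) (w : GolayPt → ℤ) = -32) :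
    IsHS ↥(stabilizer Co0 v ⊓ stabilizer Co0 w) := by
  obtain ⟨g0, hg1, hg2⟩ := hs_frame v w hv hw hvw
  rw [stab_pair_eq]
  have e := stabConj g0 v (-(v + w))
  rw [hg1, hg2] at e
  have e' : ↥(stabilizer Co0 v ⊓ stabilizer Co0 (-(v + w))) ≃* ↥HS0 := e
  obtain ⟨hs, hc⟩ := HS0_isHS
  have hcard : Nat.card ↥(stabilizer Co0 v ⊓ stabilizer Co0 (-(v + w))) = 44352000 := by
    rw [Nat.card_congr e'.toEquiv, hc]
  refine ⟨?_, hcard⟩
  have hnt : Nontrivial ↥(stabilizer Co0 v ⊓ stabilizer Co0 (-(v + w))) := by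
    rw [← Finite.one_lt_card_iff_nontrivial, hcard]
    norm_num
  exact IsSimpleGroup.isSimpleGroup_of_surjective e'.symm.toMonoidHom e'.symm.surjective

end Cfsg.Agent.helper27
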