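import Mathlib
import Cfsg.Agent.Lib_helper27_SimpleCrit2

set_option autoImplicit false

namespace Cfsg.Agent.helper27

open MulAction

/-! ### groups of order twice an odd number -/

theorem sign_toPerm_conj {N : Type*} [Group N] [Fintype N] [DecidableEq N] (ϕ : N ≃* N) (n : N) :
    Equiv.Perm.sign (MulAction.toPermHom N N (ϕ n))
      = Equiv.Perm.sign (MulAction.toPermHom N N n) := by
  have h : MulAction.toPermHom N N (ϕ n)
      = ϕ.toEquiv * MulAction.toPermHom N N n * ϕ.toEquiv⁻¹ := by
    apply Equiv.ext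
    intro x
    show ϕ n * x = ϕ (n * ϕ.symm x)
    rw [map_mul, MulEquiv.apply_symm_apply]
  rw [h, map_mul, map_mul, map_inv, mul_inv_cancel_comm]

theorem sign_toPerm_involution {N : Type*} [Group N] [Fintype N] [DecidableEq N] (m : ℕ)
    (hc : Fintype.card N = 2 * m) (hm : Odd m) (n : N) (hn : orderOf n = 2) :
    Equiv.Perm.sign (MulAction.toPermHom N N n) = -1 := by
  set σ := MulAction.toPermHom N N n with hσ
  have hinj : Function.Injective (MulAction.toPermHom N N) := MulAction.toPerm_injective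
  have ho : orderOf σ = 2 := by rw [hσ, orderOf_injective _ hinj, hn]
  have hp : (orderOf σ).Prime := by rw [ho]; exact Nat.prime_two
  obtain ⟨k, hk⟩ := Equiv.Perm.cycleType_prime_order hp
  rw [ho] at hk
  have hsupp : σ.support = Finset.univ := by
    ext x
    simp only [Finset.mem_univ, iff_true, Equiv.Perm.mem_support]
    intro hx
    have hx' : n * x = x := hx
    have : n = 1 := by simpa using hx'
    rw [this, orderOf_one] at hn
    omega
  have hsum := Equiv.Perm.sum_cycleType σ
  rw [hk, hsupp, Finset.card_univ, hc, Multiset.sum_replicate, smul_eq_mul] at hsum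
  have hkm : k + 1 = m := by omega
  rw [Equiv.Perm.sign_of_cycleType, hk, Multiset.sum_replicate, Multiset.card_replicate, hkm,
    smul_eq_mul]
  apply Odd.neg_one_pow
  obtain ⟨t, rfl⟩ := hm
  exact ⟨3 * t + 1, by ring⟩

theorem exists_char_of_two_mul_odd {N : Type*} [Group N] [Finite N] (m : ℕ)
    (hc : Nat.card N = 2 * m) (hm : Odd m) :
    ∃ K : Subgroup N, K.Characteristic ∧ Nat.card K = m := by
  classical
  have : Fintype N := Fintype.ofFinite N
  have hc' : Fintype.card N = 2 * m := by rw [← Nat.card_eq_fintype_card, hc]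
  let φ : N →* ℤˣ := Equiv.Perm.sign.comp (MulAction.toPermHom N N)
  have hφ : ∀ n, φ n = Equiv.Perm.sign (MulAction.toPermHom N N n) := fun n => rfl
  refine ⟨φ.ker, ?_, ?_⟩
  · rw [Subgroup.characteristic_iff_comap_le]
    intro ϕ n hn
    rw [Subgroup.mem_comap, MonoidHom.mem_ker] at hn
    rw [MonoidHom.mem_ker, hφ, ← sign_toPerm_conj ϕ n]
    exact hn
  · have : Fact (Nat.Prime 2) := ⟨Nat.prime_two⟩
    obtain ⟨n, hn⟩ := exists_prime_orderOf_dvd_card' (G := N) 2 (by rw [hc]; exact ⟨m, rfl⟩)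
    have h1 : φ n = -1 := sign_toPerm_involution m hc' hm n hn
    have hsurj : Function.Surjective φ := by
      intro u
      rcases Int.units_eq_one_or u with rfl | rfl
      · exact ⟨1, map_one φ⟩
      · exact ⟨n, h1⟩
    have hidx : φ.ker.index = 2 := by
      rw [Subgroup.index_ker, MonoidHom.range_eq_top.mpr hsurj, Subgroup.card_top,
        Nat.card_eq_fintype_card, Fintype.card_units_int]
    have := φ.ker.card_mul_index
    rw [hidx, hc] at this
    omega

/-! ### the simplicity criterion with an abstract exclusion of regular normal subgroups -/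

theorem isSimpleGroup_of_prim_stab_gen {G Ω : Type*} [Group G] [Finite G] [MulAction G Ω]
    [FaithfulSMul G Ω] [IsPretransitive G Ω] (α : Ω)
    (hH : IsSimpleGroup (stabilizer G α))
    (hprim : ∀ N : Subgroup G, N.Normal →
      N ≤ stabilizer G α ∨ ∀ x : Ω, ∃ n ∈ N, n • α = x)
    (hreg : ∀ N : Subgroup G, N.Normal → Nat.card N = Nat.card Ω →
      ∃ Q : Subgroup G, Q.Normal ∧ 1 < Nat.card Q ∧ Nat.card Q < Nat.card Ω) :
    IsSimpleGroup G := by
  have hnt : Nontrivial G := by
    have := hH.toNontrivial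
    obtain ⟨a, b, hab⟩ := this
    exact ⟨⟨a.1, b.1, fun h => hab (Subtype.ext h)⟩⟩
  refine ⟨fun N hN => ?_⟩
  rcases hprim N hN with h1 | htr
  · exact Or.inl (normal_le_stab_eq_bot α N h1)
  · right
    have hK : (N.subgroupOf (stabilizer G α)).Normal := hN.subgroupOf _
    rcases hH.eq_bot_or_eq_top_of_normal _ hK with hb | ht
    · exfalso
      rw [Subgroup.subgroupOf_eq_bot, disjoint_iff] at hb
      have hc : Nat.card N = Nat.card Ω := card_eq_of_regular α N htr hb
      obtain ⟨Q, hQn, hQ1, hQ2⟩ := hreg N hN hc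
      rcases hprim Q hQn with h2 | h2
      · have := normal_le_stab_eq_bot α Q h2
        rw [this, Subgroup.card_bot] at hQ1
        omega
      · have hsurj : Function.Surjective (fun n : Q => (n : G) • α) := by
          intro x
          obtain ⟨n, hn, hnx⟩ := h2 x
          exact ⟨⟨n, hn⟩, hnx⟩
        have hle := Nat.card_le_card_of_surjective _ hsurj
        omega
    · rw [Subgroup.subgroupOf_eq_top] at ht
      exact eq_top_of_trans_of_stab_le α N htr ht

theorem isSimpleGroup_of_prim_stab_two {G Ω : Type*} [Group G] [Finite G] [MulAction G Ω]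
    [FaithfulSMul G Ω] [IsPretransitive G Ω] (α : Ω)
    (hH : IsSimpleGroup (stabilizer G α))
    (hprim : ∀ N : Subgroup G, N.Normal →
      N ≤ stabilizer G α ∨ ∀ x : Ω, ∃ n ∈ N, n • α = x)
    (m : ℕ) (hcard : Nat.card Ω = 2 * m) (hm : Odd m) (hm1 : 1 < m) : IsSimpleGroup G := by
  apply isSimpleGroup_of_prim_stab_gen α hH hprim
  intro N hN hc
  rw [hcard] at hc ⊢
  obtain ⟨K, hKc, hKm⟩ := exists_char_of_two_mul_odd (N := N) m hc hm
  have hQn : (K.map N.subtype).Normal := ConjAct.normal_of_characteristic_of_normal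
  have hQc : Nat.card (K.map N.subtype) = m := by
    rw [Subgroup.card_map_of_injective N.subtype_injective]
    exact hKm
  refine ⟨K.map N.subtype, hQn, ?_, ?_⟩
  · rw [hQc]; exact hm1
  · rw [hQc]; omega

/-! ### primitivity from suborbit data -/

/-- counting a union of fibres -/
theorem ncard_fibres {Ω ι : Type*} [Finite Ω] [DecidableEq ι] (f : Ω → ι) (S : Finset ι) :
    {y : Ω | f y ∈ S}.ncard = ∑ s ∈ S, {y : Ω | f y = s}.ncard := by
  classical
  have : Fintype Ω := Fintype.ofFinite Ω
  have h1 : {y : Ω | f y ∈ S} = ((Finset.univ.filter (fun y => f y ∈ S) : Finset Ω) : Set Ω) := by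
    ext y; simp
  have h2 : ∀ s, {y : Ω | f y = s} = ((Finset.univ.filter (fun y => f y = s) : Finset Ω) : Set Ω) := by
    intro s; ext y; simp
  rw [h1, Set.ncard_coe_finset]
  simp_rw [h2, Set.ncard_coe_finset]
  rw [Finset.card_eq_sum_card_fiberwise (f := f) (t := S)]
  · refine Finset.sum_congr rfl (fun s hs => ?_)
    congr 1
    ext y
    simp only [Finset.mem_filter, Finset.mem_univ, true_and]
    constructor
    · rintro ⟨_, h⟩; exact h
    · intro h; exact ⟨h ▸ hs, h⟩
  · intro y hy
    simpa using hy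

/-- primitivity, in the form used by the simplicity criterion, from an invariant level function
whose fibres are the suborbits -/
theorem prim_of_levels {G Ω ι : Type*} [Group G] [MulAction G Ω] [Finite Ω] [IsPretransitive G Ω]
    [DecidableEq ι] (α : Ω) (f : Ω → ι) (V : Finset ι) (n : ι → ℕ)
    (hV : ∀ y, f y ∈ V) (hn : ∀ s ∈ V, {y : Ω | f y = s}.ncard = n s)
    (hα : ∀ y, f y = f α → y = α)
    (htr : ∀ y y' : Ω, f y = f y' → ∃ h ∈ stabilizer G α, h • y = y')
    (hdiv : ∀ S ∈ V.powerset, f α ∈ S → (∑ s ∈ S, n s) ∣ Nat.card Ω → S = {f α} ∨ S = V)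
    (N : Subgroup G) (hN : N.Normal) :
    N ≤ stabilizer G α ∨ ∀ x : Ω, ∃ n ∈ N, n • α = x := by
  classical
  have hB : IsBlock G (orbit N α) := IsBlock.orbit_of_normal α
  have hdvd : (orbit N α).ncard ∣ Nat.card Ω := hB.ncard_dvd_card ⟨α, mem_orbit_self α⟩
  have hmem : ∀ x : Ω, x ∈ orbit N α ↔ ∃ n ∈ N, n • α = x := by
    intro x
    constructor
    · rintro ⟨n, rfl⟩
      exact ⟨n.1, n.2, rfl⟩
    · rintro ⟨n, hn, rfl⟩
      exact ⟨⟨n, hn⟩, rfl⟩
  have hinv : ∀ h ∈ stabilizer G α, ∀ x ∈ orbit N α, h • x ∈ orbit N α := by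
    intro h hh x hx
    obtain ⟨n, hn, rfl⟩ := (hmem x).mp hx
    rw [hmem]
    refine ⟨h * n * h⁻¹, hN.conj_mem n hn h, ?_⟩
    have : h⁻¹ • α = α := by rw [inv_smul_eq_iff]; exact (mem_stabilizer_iff.mp hh).symm
    rw [mul_smul, mul_smul, this]
  have hfill : ∀ y ∈ orbit N α, ∀ y' : Ω, f y = f y' → y' ∈ orbit N α := by
    intro y hy y' hff
    obtain ⟨h, hh, rfl⟩ := htr y y' hff
    exact hinv h hh y hy
  set S : Finset ι := V.filter (fun s => ∃ y ∈ orbit N α, f y = s) with hS
  have hSV : S ∈ V.powerset := Finset.mem_powerset.mpr (Finset.filter_subset _ _)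
  have hαS : f α ∈ S := Finset.mem_filter.mpr ⟨hV α, α, mem_orbit_self α, rfl⟩
  have hBS : orbit N α = {y : Ω | f y ∈ S} := by
    ext y
    constructor
    · intro hy
      exact Finset.mem_filter.mpr ⟨hV y, y, hy, rfl⟩
    · intro hy
      obtain ⟨_, y0, hy0, hf0⟩ := Finset.mem_filter.mp hy
      exact hfill y0 hy0 y hf0
  have hcardB : (orbit N α).ncard = ∑ s ∈ S, n s := by
    rw [hBS, ncard_fibres]
    exact Finset.sum_congr rfl (fun s hs => hn s (Finset.mem_powerset.mp hSV hs))
  rw [hcardB] at hdvd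
  rcases hdiv S hSV hαS hdvd with h1 | h1
  · left
    intro n hn
    rw [mem_stabilizer_iff]
    have hx : n • α ∈ orbit N α := (hmem _).mpr ⟨n, hn, rfl⟩
    rw [hBS, Set.mem_ofPred_eq, h1, Finset.mem_singleton] at hx
    exact hα _ hx
  · right
    intro x
    rw [← hmem, hBS, Set.mem_ofPred_eq, h1]
    exact hV x


end Cfsg.Agent.helper27
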