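import Mathlib
import Cfsg.Agent.Lib_helper27_Co3r8
import Cfsg.Agent.Lib_helper27_HSs5
import Cfsg.Agent.Lib_helper27_SimpleCrit3

set_option autoImplicit false

namespace Cfsg.Agent.helper27

open Cfsg MulAction
open scoped Pointwise

/-! ### the stabiliser of `(5, 1, ..., 1)` on the `11178` vectors -/

theorem rorb_refl (F : Set leechLattice) {x : GolayPt → ℤ} (hx : x ∈ leechLattice) : ROrb F x x :=
  ⟨hx, hx, FixOrb.refl _ _⟩

theorem eq_href_of_level {y : GolayPt → ℤ} (hy : y ∈ hs5) (h : dotInt href y = 32) : y = href := by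
  rcases hs5_cases hy with h1 | h1 | h1 | h1 | h1
  · exact h1
  · rw [dot_lvA h1] at h; omega
  · rw [dot_lvB h1] at h; omega
  · rw [dot_lvC h1] at h; omega
  · rw [dot_lvD h1] at h; omega

theorem rorb3_of_level {y y' : GolayPt → ℤ} (hy : y ∈ hs5) (hy' : y' ∈ hs5)
    (h : dotInt href y = dotInt href y') : ROrb F3 y y' := by
  rcases hs5_cases hy with h1 | h1 | h1 | h1 | h1
  · rw [h1, dot_href_href] at h
    rw [h1, eq_href_of_level hy' h.symm]
    exact rorb_refl F3 (hs5_mem (hsA_subset href_hsA))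
  · have h2 : y' ∈ lvA := (lvA_iff y').mpr ⟨hy', by rw [← h, dot_lvA h1]⟩
    exact (rorb3_lvA h1).trans (rorb3_lvA h2).symm
  · have h2 : y' ∈ lvB := (lvB_iff y').mpr ⟨hy', by rw [← h, dot_lvB h1]⟩
    exact (rorb3_lvB h1).trans (rorb3_lvB h2).symm
  · have h2 : y' ∈ lvC := (lvC_iff y').mpr ⟨hy', by rw [← h, dot_lvC h1]⟩
    exact (rorb3_lvC h1).trans (rorb3_lvC h2).symm
  · have h2 : y' ∈ lvD := (lvD_iff y').mpr ⟨hy', by rw [← h, dot_lvD h1]⟩
    exact (rorb3_lvD h1).trans (rorb3_lvD h2).symm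

theorem level_mem {y : GolayPt → ℤ} (hy : y ∈ hs5) :
    dotInt href y ∈ ({32, -8, 16, 0, 8} : Finset ℤ) := by
  rcases hs5_cases hy with h1 | h1 | h1 | h1 | h1
  · rw [h1, dot_href_href]; decide
  · rw [dot_lvA h1]; decide
  · rw [dot_lvB h1]; decide
  · rw [dot_lvC h1]; decide
  · rw [dot_lvD h1]; decide

theorem dotInt_pairA (j : GolayPt) (w : GolayPt → ℤ) :
    dotInt (pair4 none j (-4) 4) w = -4 * w none + 4 * w j := by
  unfold pair4
  rw [dotInt_add_left', dotInt_single_left, dotInt_single_left]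

theorem eq_zero_of_dots (w : GolayPt → ℤ)
    (h1 : ∀ j, j ≠ none → dotInt (pair4 none j (-4) 4) w = 0) (h2 : dotInt u5 w = 0) : w = 0 := by
  have hj : ∀ j, w j = w none := by
    intro j
    by_cases hjn : j = none
    · rw [hjn]
    · have := h1 j hjn
      rw [dotInt_pairA] at this
      omega
  rw [dotInt_u5] at h2
  have hs : ∑ i, w i = 24 * w none := by
    rw [Finset.sum_congr rfl (fun i _ => hj i), Finset.sum_const, Finset.card_univ]
    have : Fintype.card GolayPt = 24 := by decide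
    rw [this]
    simp
  rw [hs] at h2
  have h0 : w none = 0 := by omega
  funext j
  rw [hj j, h0]
  rfl

theorem pairA_hs5 {j : GolayPt} (hj : j ≠ none) : pair4 none j (-4) 4 ∈ hs5 :=
  hsA_subset ⟨j, hj, rfl⟩

theorem co3_faithful_core (g : Co0) (hu : g • u5L = u5L)
    (hfix : ∀ x : leechLattice, x.1 ∈ hs5 → g • x = x) : g = 1 := by
  have key : ∀ v : leechLattice, g • v = v := by
    intro v
    have hw : (g • v).1 - v.1 = 0 := by
      apply eq_zero_of_dots
      · intro j hj
        have hA := hfix ⟨_, hs5_mem (pairA_hs5 hj)⟩ (pairA_hs5 hj)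
        have := co0_smul_dot g ⟨_, hs5_mem (pairA_hs5 hj)⟩ v
        rw [hA] at this
        rw [dotInt_sub_right]
        have e : dotInt (pair4 none j (-4) 4) (g • v).1 = dotInt (pair4 none j (-4) 4) v.1 := this
        rw [e]
        ring
      · have := co0_smul_dot g u5L v
        rw [hu] at this
        rw [dotInt_sub_right]
        have e : dotInt u5 (g • v).1 = dotInt u5 v.1 := this
        rw [e]
        ring
    apply Subtype.ext
    exact sub_eq_zero.mp hw
  apply Subtype.ext
  apply Equiv.ext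
  intro v
  exact key v

/-- the `11178` points as an invariant subset -/
def co3Pts : SubMulAction (stabilizer Co0 u5L) leechLattice where
  carrier := hsSet u5L
  smul_mem' := by
    intro g x hx
    have h1 : (g : Co0) • u5L = u5L := mem_stabilizer_iff.mp g.2
    have := (hsSet_smul (g : Co0) u5L x).mpr hx
    rw [h1] at this
    exact this

theorem mem_co3Pts {x : leechLattice} : x ∈ co3Pts ↔ x.1 ∈ hs5 := hsSet_std x

set_option synthInstance.maxHeartbeats 400000 in
instance co3Pts_mulAction : MulAction (stabilizer Co0 u5L) co3Pts := inferInstance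

theorem co3Pts_smul_val (g : stabilizer Co0 u5L) (x : co3Pts) :
    ((g • x : co3Pts) : leechLattice) = (g : Co0) • x.1 := rfl

theorem card_co3Pts : Nat.card co3Pts = 11178 := by
  have : Nat.card co3Pts = (hsSet u5L).ncard := Nat.card_coe_set_eq _
  rw [this, hsSet_std_ncard]

instance finite_co3Pts : Finite co3Pts :=
  Nat.finite_of_card_ne_zero (by rw [card_co3Pts]; norm_num)

/-- the base point -/
def hrefP : co3Pts := ⟨hrefL, mem_co3Pts.mpr (hsA_subset href_hsA)⟩

instance co3Pts_transitive : IsPretransitive (stabilizer Co0 u5L) co3Pts := by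
  refine ⟨fun x y => ?_⟩
  obtain ⟨g, hg, hgx⟩ := hsSet_transitive u5L (by decide) x.1 y.1 x.2 y.2
  exact ⟨⟨g, mem_stabilizer_iff.mpr hg⟩, Subtype.ext hgx⟩

instance co3Pts_faithful : FaithfulSMul (stabilizer Co0 u5L) co3Pts := by
  refine ⟨fun {g₁ g₂} h => ?_⟩
  have hfix : ∀ x : co3Pts, (g₂⁻¹ * g₁) • x = x := by
    intro x
    rw [mul_smul, h x, inv_smul_smul]
  set g := g₂⁻¹ * g₁ with hg
  have hfix' : ∀ x : leechLattice, x.1 ∈ hs5 → (g : Co0) • x = x := by
    intro x hx
    have := hfix ⟨x, mem_co3Pts.mpr hx⟩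
    exact congrArg Subtype.val this
  have h1 : (g : Co0) = 1 := co3_faithful_core _ (mem_stabilizer_iff.mp g.2) hfix'
  have h2 : g = 1 := Subtype.ext h1
  rw [hg] at h2
  exact (inv_mul_eq_one.mp h2).symm ▸ rfl

theorem fixOrb3_lift' {x y : co3Pts} (h : FixOrb F3 x.1 y.1) :
    ∃ g ∈ stabilizer (stabilizer Co0 u5L) hrefP, g • x = y := by
  obtain ⟨g, hg, hgx⟩ := h
  refine ⟨⟨g, mem_stabilizer_iff.mpr (hg _ (Or.inl rfl))⟩, ?_, ?_⟩
  · rw [mem_stabilizer_iff]
    apply Subtype.ext
    exact hg _ (Or.inr rfl)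
  · apply Subtype.ext
    exact hgx

/-- the point stabiliser is the Higman–Sims group -/
def hsToStab : HS0 →* stabilizer (stabilizer Co0 u5L) hrefP where
  toFun h := ⟨⟨h.1, mem_stabilizer_iff.mpr (mem_HS0.mp h.2).1⟩, by
    rw [mem_stabilizer_iff]
    apply Subtype.ext
    exact (mem_HS0.mp h.2).2⟩
  map_one' := rfl
  map_mul' _ _ := rfl

theorem hsToStab_bijective : Function.Bijective hsToStab := by
  constructor
  · intro a b h
    have : (hsToStab a).1.1 = (hsToStab b).1.1 := by rw [h]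
    exact Subtype.ext this
  · intro t
    have h1 : (t.1 : Co0) • u5L = u5L := mem_stabilizer_iff.mp t.1.2
    have h2 : (t.1 : Co0) • hrefL = hrefL := by
      have := mem_stabilizer_iff.mp t.2
      exact congrArg Subtype.val this
    exact ⟨⟨t.1.1, mem_HS0.mpr ⟨h1, h2⟩⟩, rfl⟩

theorem stab_hrefP_simple : IsSimpleGroup (stabilizer (stabilizer Co0 u5L) hrefP) := by
  have hnt : Nontrivial (stabilizer (stabilizer Co0 u5L) hrefP) := by
    have := HS0_simple.toNontrivial
    exact hsToStab_bijective.1.nontrivial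
  have := HS0_simple
  exact IsSimpleGroup.isSimpleGroup_of_surjective hsToStab hsToStab_bijective.2

end Cfsg.Agent.helper27
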