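import Mathlib
import Cfsg.Agent.Lib_helper27_Co3s1

set_option autoImplicit false

namespace Cfsg.Agent.helper27

open Cfsg MulAction
open scoped Pointwise

/-- the subdegrees -/
def co3Deg (s : ℤ) : ℕ :=
  if s = 32 then 1 else if s = -8 then 352 else if s = 16 then 1100 else if s = 0 then 4125
  else 5600

theorem co3Deg_div : ∀ S ∈ ({32, -8, 16, 0, 8} : Finset ℤ).powerset, (32 : ℤ) ∈ S →
    (∑ s ∈ S, co3Deg s) ∣ 11178 → S = {32} ∨ S = {32, -8, 16, 0, 8} := by
  decide +kernel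

theorem ncard_co3Pts_of_raw (T : Set (GolayPt → ℤ)) (c : ℤ)
    (h : ∀ y, y ∈ T ↔ y ∈ hs5 ∧ dotInt href y = c) :
    {y : co3Pts | dotInt href y.1.1 = c}.ncard = T.ncard := by
  rw [← Set.ncard_image_of_injective _ (Subtype.val_injective.comp Subtype.val_injective)]
  congr 1
  ext x
  constructor
  · rintro ⟨y, hy, rfl⟩
    exact (h _).mpr ⟨mem_co3Pts.mp y.2, hy⟩
  · intro hx
    obtain ⟨h1, h2⟩ := (h x).mp hx
    exact ⟨⟨⟨x, hs5_mem h1⟩, mem_co3Pts.mpr h1⟩, h2, rfl⟩

theorem co3_prim (N : Subgroup (stabilizer Co0 u5L)) (hN : N.Normal) :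
    N ≤ stabilizer (stabilizer Co0 u5L) hrefP ∨ ∀ x : co3Pts, ∃ n ∈ N, n • hrefP = x := by
  have hα0 : dotInt href hrefP.1.1 = 32 := dot_href_href
  refine prim_of_levels hrefP (fun y : co3Pts => dotInt href y.1.1) {32, -8, 16, 0, 8} co3Deg
    ?_ ?_ ?_ ?_ ?_ N hN
  · intro y
    exact level_mem (mem_co3Pts.mp y.2)
  · intro s hs
    simp only [Finset.mem_insert, Finset.mem_singleton] at hs
    rcases hs with rfl | rfl | rfl | rfl | rfl
    · rw [ncard_co3Pts_of_raw {href} 32, Set.ncard_singleton]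
      · rfl
      · intro y
        constructor
        · intro hy
          rw [Set.mem_singleton_iff.mp hy]
          exact ⟨hsA_subset href_hsA, dot_href_href⟩
        · rintro ⟨h1, h2⟩
          exact eq_href_of_level h1 h2
    · rw [ncard_co3Pts_of_raw lvA (-8) lvA_iff, lvA_ncard]; rfl
    · rw [ncard_co3Pts_of_raw lvB 16 lvB_iff, lvB_ncard]; rfl
    · rw [ncard_co3Pts_of_raw lvC 0 lvC_iff, lvC_ncard]; rfl
    · rw [ncard_co3Pts_of_raw lvD 8 lvD_iff, lvD_ncard]; rfl
  · intro y hy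
    rw [hα0] at hy
    apply Subtype.ext
    apply Subtype.ext
    exact eq_href_of_level (mem_co3Pts.mp y.2) hy
  · intro y y' hyy
    exact fixOrb3_lift' (rorb3_of_level (mem_co3Pts.mp y.2) (mem_co3Pts.mp y'.2) hyy).fixOrb
  · rw [hα0, card_co3Pts]
    exact co3Deg_div

theorem co3_simple : IsSimpleGroup (stabilizer Co0 u5L) := by
  refine isSimpleGroup_of_prim_stab_two (G := stabilizer Co0 u5L) (Ω := co3Pts) hrefP
    stab_hrefP_simple co3_prim 5589 (by rw [card_co3Pts]) (by decide) (by norm_num)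

theorem co3_isCo3 : IsCo3 (stabilizer Co0 u5L) := ⟨co3_simple, card_stab_u5L⟩

/-- statement of `S0403` -/
theorem co3_stabilizer (v : leechLattice) (hv : sqNorm (v : GolayPt → ℤ) = 48) :
    IsCo3 (stabilizer Co0 v) := by
  obtain ⟨g0, hg0⟩ := co0_transitive_48 v u5L hv (by decide)
  have e : stabilizer Co0 v ≃* stabilizer Co0 u5L := stabilizerEquivStabilizer hg0.symm
  obtain ⟨hs, hc⟩ := co3_isCo3
  have hcard : Nat.card (stabilizer Co0 v) = 495766656000 := by
    rw [Nat.card_congr e.toEquiv, hc]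
  refine ⟨?_, hcard⟩
  have hnt : Nontrivial (stabilizer Co0 v) := by
    rw [← Finite.one_lt_card_iff_nontrivial, hcard]
    norm_num
  exact IsSimpleGroup.isSimpleGroup_of_surjective e.symm.toMonoidHom e.symm.surjective

end Cfsg.Agent.helper27
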