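import Mathlib
import Cfsg.Agent.Lib_helper27_Co3r8

set_option autoImplicit false

namespace Cfsg.Agent.helper27

open Cfsg
open scoped Pointwise

/-! ### the 2025 points of the stabiliser of the two reference vectors -/

/-- the vectors of the `11178` orthogonal to the second reference vector -/
def mclP : Set (GolayPt → ℤ) := {y | y ∈ hs5 ∧ dotInt a0 y = 0}

theorem href_mclP : href ∈ mclP := ⟨hsA_subset href_hsA, by decide⟩

theorem cB1a_mclP : cB1a ⊆ mclP := by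
  intro x h
  refine ⟨hsB1_subset (cB1a_sub h), ?_⟩
  rw [dotInt_a0, hsB1_none (cB1a_sub h), cB1a_zero h]; rfl

theorem cB2b_mclP : cB2b ⊆ mclP := by
  intro x h
  refine ⟨hsB2_subset (cB2b_sub h), ?_⟩
  rw [dotInt_a0, hsB2_none (cB2b_sub h), cB2b_zero h]; rfl

theorem cC2b_mclP : cC2b ⊆ mclP := by
  intro x h
  refine ⟨hsC2_subset (cC2b_sub h), ?_⟩
  rw [dotInt_a0, hsC2_none (cC2b_sub h), cC2b_zero h]; rfl

theorem mclP_cases {y : GolayPt → ℤ} (hy : y ∈ mclP) :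
    y = href ∨ y ∈ cB1a ∨ y ∈ cB2b ∨ y ∈ cC2b := by
  obtain ⟨h5, hd⟩ := hy
  rw [dotInt_a0] at hd
  rcases hs5_cases h5 with h | (h | h) | ((h | h) | h) | ((h | h) | h) | ((h | h) | h)
  · exact Or.inl h
  · rw [hsB2_none (cB2a_sub h), cB2a_zero h] at hd; omega
  · rw [hsC2_none (cC2c_sub h), cC2c_zero h] at hd; omega
  · rw [hsA_none (cA1_sub h), cA1_zero h] at hd; omega
  · exact Or.inr (Or.inl h)
  · rw [hsC1_none (cC1b_sub h), cC1b_zero h] at hd; omega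
  · rw [hsB1_none (cB1b_sub h), cB1b_zero h] at hd; omega
  · exact Or.inr (Or.inr (Or.inl h))
  · rw [hsC2_none (cC2a_sub h), cC2a_zero h] at hd; omega
  · rw [hsB1_none (cB1c_sub h), cB1c_zero h] at hd; omega
  · rw [hsC1_none (cC1a_sub h), cC1a_zero h] at hd; omega
  · exact Or.inr (Or.inr (Or.inr h))

theorem mclP_eq : mclP = {href} ∪ cB1a ∪ cB2b ∪ cC2b := by
  ext y
  constructor
  · intro hy
    rcases mclP_cases hy with h | h | h | h
    · exact Or.inl (Or.inl (Or.inl h))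
    · exact Or.inl (Or.inl (Or.inr h))
    · exact Or.inl (Or.inr h)
    · exact Or.inr h
  · rintro (((h | h) | h) | h)
    · rw [Set.mem_singleton_iff.mp h]; exact href_mclP
    · exact cB1a_mclP h
    · exact cB2b_mclP h
    · exact cC2b_mclP h

theorem href_none : href none = -4 := by decide

theorem mclP_ncard : mclP.ncard = 2025 := by
  have fA : ({href} : Set (GolayPt → ℤ)).Finite := Set.finite_singleton _
  have fB := fin_of_ncard cB1a_ncard (by norm_num)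
  have fC := fin_of_ncard cB2b_ncard (by norm_num)
  have fD := fin_of_ncard cC2b_ncard (by norm_num)
  have e1 := ncard_union_sep {href} cB1a (fun x => x none = -4)
    (fun x hx => by rw [Set.mem_singleton_iff.mp hx]; exact href_none)
    (fun x hx => by rw [hsB1_none (cB1a_sub hx)]; decide) fA fB
  have e2 := ncard_union_sep ({href} ∪ cB1a) cB2b (fun x => x none ≠ 0)
    (fun x hx => by
      rcases hx with hx | hx
      · rw [Set.mem_singleton_iff.mp hx, href_none]; decide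
      · rw [hsB1_none (cB1a_sub hx)]; decide)
    (fun x hx => by rw [hsB2_none (cB2b_sub hx)]; decide) (fA.union fB) fC
  have e3 := ncard_union_sep ({href} ∪ cB1a ∪ cB2b) cC2b (fun x => x none ≠ -1)
    (fun x hx => by
      rcases hx with (hx | hx) | hx
      · rw [Set.mem_singleton_iff.mp hx, href_none]; decide
      · rw [hsB1_none (cB1a_sub hx)]; decide
      · rw [hsB2_none (cB2b_sub hx)]; decide)
    (fun x hx => by rw [hsC2_none (cC2b_sub hx)]; decide) ((fA.union fB).union fC) fD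
  rw [mclP_eq, e3, e2, e1, Set.ncard_singleton, cB1a_ncard, cB2b_ncard, cC2b_ncard]

theorem mclP_mem {y : GolayPt → ℤ} (hy : y ∈ mclP) : y ∈ leechLattice := hs5_mem hy.1

/-! ### transitivity of the stabiliser of the three reference vectors on the classes -/

theorem rorb4_cB1a {x x' : GolayPt → ℤ} (hx : x ∈ cB1a) (hx' : x' ∈ cB1a) : ROrb F4 x x' := by
  have hxL := mclP_mem (cB1a_mclP hx)
  obtain ⟨o, ⟨ho, hn, h0⟩, a, ha, rfl⟩ := hx
  obtain ⟨o', ⟨ho', hn', h0'⟩, a', ha', rfl⟩ := hx'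
  have ha1 := Finset.mem_erase.mp ha
  have ha2 := Finset.mem_erase.mp ha1.2
  have ha1' := Finset.mem_erase.mp ha'
  have ha2' := Finset.mem_erase.mp ha1'.2
  obtain ⟨σ, hσ, h1, h2⟩ := exists_M24_octad_emb (k := 3) (by norm_num) ho ho'
    (emb3 (a := none) (b := some 0) (c := a) (by decide) (Ne.symm ha2.1) (Ne.symm ha1.1))
    (emb3 (a := none) (b := some 0) (c := a') (by decide) (Ne.symm ha2'.1) (Ne.symm ha1'.1))
    (emb3_mem _ _ _ hn h0 ha2.2) (emb3_mem _ _ _ hn' h0' ha2'.2)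
  have e0 : σ none = none := h2 0
  have e1 : σ (some 0) = some 0 := h2 1
  have e2 : σ a = a' := h2 2
  have s1 := rorb4_m22 hσ e0 e1 hxL
  rw [signedPerm_vB, Finset.smul_finset_sdiff, h1, smul_pair, e1, e2] at s1
  exact s1

theorem rorb4_cB2b {x x' : GolayPt → ℤ} (hx : x ∈ cB2b) (hx' : x' ∈ cB2b) : ROrb F4 x x' := by
  have hxL := mclP_mem (cB2b_mclP hx)
  obtain ⟨o, ho, rfl⟩ := hx
  obtain ⟨o', ho', rfl⟩ := hx'
  obtain ⟨σ, hσ, e0, e1, h1⟩ := m22_transitive_octN ho ho'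
  have s1 := rorb4_m22 hσ e0 e1 hxL
  beta_reduce at s1
  rw [signedPerm_vB, h1] at s1
  exact s1

theorem rorb4_cC2b {x x' : GolayPt → ℤ} (hx : x ∈ cC2b) (hx' : x' ∈ cC2b) : ROrb F4 x x' := by
  have hxL := mclP_mem (cC2b_mclP hx)
  obtain ⟨o, ho, j, hj, rfl⟩ := hx
  obtain ⟨o', ho', j', hj', rfl⟩ := hx'
  have hj1 := Finset.mem_erase.mp hj
  have hj1' := Finset.mem_erase.mp hj'
  obtain ⟨σ, hσ, h1, h2, h3⟩ := exists_M24_octad_emb_out (k := 2) (by norm_num) ho.1 ho'.1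
    (emb2 (a := some 0) (b := j) (Ne.symm hj1.1)) (emb2 (a := some 0) (b := j') (Ne.symm hj1'.1))
    (emb2_mem _ ho.2.2 hj1.2) (emb2_mem _ ho'.2.2 hj1'.2) ho.2.1 ho'.2.1
  have e1 : σ (some 0) = some 0 := h2 0
  have e2 : σ j = j' := h2 1
  have s1 := rorb4_m22 hσ h3 e1 hxL
  rw [signedPerm_vC, e2, helper2.Golay.smul_compl, h1] at s1
  exact s1

/-! ### fusing the classes under the stabiliser of the two reference vectors -/

theorem ROrb.mono {F F' : Set leechLattice} (hF : F ⊆ F') {x y : GolayPt → ℤ} (h : ROrb F' x y) :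
    ROrb F x y := by
  obtain ⟨hx, hy, g, hg, hgx⟩ := h
  exact ⟨hx, hy, g, fun w hw => hg w (hF hw), hgx⟩

theorem F2_sub_F4 : F2 ⊆ F4 := by
  intro w hw
  rcases hw with rfl | rfl
  · exact Or.inl rfl
  · exact Or.inr (Or.inr rfl)

theorem rorb2_gmap {x : GolayPt → ℤ} (hx : x ∈ leechLattice) : ROrb F2 x (gmap x) := by
  apply ROrb.of_map isCoMap_gmap _ hx
  intro w hw
  rcases hw with rfl | rfl
  · exact gmap_u5
  · exact gmap_a0

theorem rorb_refl' {F : Set leechLattice} {x : GolayPt → ℤ} (hx : x ∈ leechLattice) :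
    ROrb F x x := ⟨hx, hx, FixOrb.refl _ _⟩

theorem gmap_X_B1a : gmap (href) = vB (cw 199) (cw 199 \ {(some 0), (some 6)}) := by
  have e : href = ofList [4, 0, 0, 0, 0, 0, 0, 0, 0, 0, 0, 0, 0, 0, 0, 0, 0, 0, 0, 0, 0, 0, 0, -4] := by
    decide
  have e' : vB (cw 199) (cw 199 \ {(some 0), (some 6)}) = ofList [2, -2, -2, 0, 0, 0, 2, -2, 0, 0, 0, 0, 0, 0, 0, 0, 0, 0, 0, -2, 0, -2, 0, -2] := by
    decide
  rw [e, e']
  exact gmap_chain _
    [0, 0, 4, 0, 0, 0, 0, 0, 0, 0, 0, 0, 0, 0, 0, 0, 0, 0, 0, 0, 0, 0, 0, -4]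
    [0, 0, 0, -4, 0, 0, 0, 0, 0, 0, 0, 0, 0, 0, 4, 0, 0, 0, 0, 0, 0, 0, 0, 0]
    [0, 0, 0, -4, 0, 0, 0, 0, 0, 0, 0, 0, 0, 0, 4, 0, 0, 0, 0, 0, 0, 0, 0, 0]
    [0, -4, 0, 0, 0, 0, 0, 0, 0, 0, 0, 0, 0, 0, 0, 0, 0, 4, 0, 0, 0, 0, 0, 0]
    [-2, 2, -2, -2, 0, -2, 0, 0, 0, 0, 0, 0, 0, 0, -2, 0, 0, 2, 0, 0, 0, 0, 0, -2]
    _ (by decide) (by decide) (by decide) (by decide) (by decide) (by decide)

theorem gmap_B1a_B2b : gmap (vB (cw 77) (cw 77 \ {(some 0), (some 12)})) = vB (cw 1030) (cw 1030) := by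
  have e : vB (cw 77) (cw 77 \ {(some 0), (some 12)}) = ofList [2, 0, -2, -2, 0, 0, -2, 0, 0, 0, 0, 0, 2, 0, 0, 0, -2, 0, 0, 0, -2, 0, 0, -2] := by
    decide
  have e' : vB (cw 1030) (cw 1030) = ofList [0, -2, -2, 0, 0, 0, 0, 0, 0, 0, -2, 0, -2, 0, 0, -2, 0, 0, -2, -2, 0, -2, 0, 0] := by
    decide
  rw [e, e']
  exact gmap_chain _
    [-2, 0, 2, 0, 0, 0, -2, 0, 0, -2, 0, 0, 0, -2, -2, 0, 0, 0, 2, 0, 0, 0, 0, -2]
    [0, 0, 0, -2, 0, 0, 0, 0, -2, 0, -2, 0, 0, 0, 2, 0, 0, 2, 0, 0, 0, -2, -2, -2]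
    [-1, -1, -1, -3, 1, -1, 1, 1, -1, 1, -1, 1, 1, 1, 1, 1, 1, 1, 1, 1, 1, -1, -1, 1]
    [1, -1, -1, 1, 1, 1, 1, 1, 1, -1, 1, 1, 1, 1, 1, 1, 1, 3, -1, 1, 1, -1, -1, -1]
    [-2, 0, 0, -2, 0, -2, 0, 0, 0, -2, 0, 0, 0, 0, -2, 0, 0, 0, -2, 0, 0, -2, -2, 0]
    _ (by decide) (by decide) (by decide) (by decide) (by decide) (by decide)

theorem gmap_B1a_C2b : gmap (vB (cw 1) (cw 1 \ {(some 0), (some 22)})) = vC (some 7) (cw 3273)ᶜ := by
  have e : vB (cw 1) (cw 1 \ {(some 0), (some 22)}) = ofList [2, 0, 0, 0, 0, 0, 0, 0, 0, 0, 0, 0, -2, 0, -2, 0, -2, -2, -2, 0, 0, 0, 2, -2] := by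
    decide
  have e' : vC (some 7) (cw 3273)ᶜ = ofList [1, -1, -1, 1, -1, -1, 1, -3, -1, -1, 1, 1, -1, -1, -1, -1, 1, -1, -1, 1, -1, -1, -1, -1] := by
    decide
  rw [e, e']
  exact gmap_chain _
    [-2, 0, 2, -2, 0, 0, 0, 0, 0, 0, 2, 0, 0, 0, 0, 0, 0, 0, -2, -2, 0, 0, -2, -2]
    [0, 0, 0, -2, -2, 0, 0, 0, 0, -2, 0, 0, 0, 0, 2, 0, 0, -2, -2, 2, 0, 0, 0, -2]
    [-1, -1, -1, -1, -1, 1, -1, -1, 1, -1, 1, 1, 1, 1, 3, 1, 1, -1, -1, 1, 1, -1, 1, 1]
    [-1, -3, 1, -1, -1, 1, -1, -1, 1, 1, 1, 1, 1, 1, -1, 1, 1, 1, 1, 1, 1, 1, -1, -1]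
    [-1, 1, -3, -1, -1, 1, -1, -1, -1, -1, -1, -1, -1, 1, -1, -1, 1, 1, -1, 1, -1, 1, -1, -1]
    _ (by decide) (by decide) (by decide) (by decide) (by decide) (by decide)

theorem rorb2_mclP {x : GolayPt → ℤ} (hx : x ∈ mclP) : ROrb F2 x href := by
  have hB : vB (cw 199) (cw 199 \ {some 0, some 6}) ∈ cB1a :=
    ⟨cw 199, cw199_oct2, some 6,
      mem_er2 (by decide) (by decide) (by rw [mem_cw_iff]; decide), rfl⟩
  have sX := rorb2_gmap (mclP_mem href_mclP)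
  rw [gmap_X_B1a] at sX
  have toB : ∀ {y : GolayPt → ℤ}, y ∈ cB1a → ROrb F2 y href := by
    intro y hy
    exact (ROrb.mono F2_sub_F4 (rorb4_cB1a hy hB)).trans sX.symm
  rcases mclP_cases hx with h | h | h | h
  · rw [h]; exact rorb_refl' (mclP_mem href_mclP)
  · exact toB h
  · have hS : vB (cw 77) (cw 77 \ {some 0, some 12}) ∈ cB1a :=
      ⟨cw 77, cw_oct2 (by norm_num) (by decide) (by decide) (by decide), some 12,
        mem_er2 (by decide) (by decide) (by rw [mem_cw_iff]; decide), rfl⟩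
    have hT : vB (cw 1030) (cw 1030) ∈ cB2b :=
      ⟨cw 1030, cw_octN (by norm_num) (by decide) (by decide) (by decide), rfl⟩
    have s2 := rorb2_gmap (mclP_mem (cB1a_mclP hS))
    rw [gmap_B1a_B2b] at s2
    exact ((ROrb.mono F2_sub_F4 (rorb4_cB2b h hT)).trans s2.symm).trans (toB hS)
  · have hS : vB (cw 1) (cw 1 \ {some 0, some 22}) ∈ cB1a :=
      ⟨cw 1, cw1_oct2, some 22,
        mem_er2 (by decide) (by decide) (by rw [mem_cw_iff]; decide), rfl⟩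
    have hT : vC (some 7) (cw 3273)ᶜ ∈ cC2b :=
      ⟨cw 3273, cw_octA (by norm_num) (by decide) (by decide) (by decide), some 7,
        Finset.mem_erase.mpr ⟨by decide, by rw [mem_cw_iff]; decide⟩, rfl⟩
    have s2 := rorb2_gmap (mclP_mem (cB1a_mclP hS))
    rw [gmap_B1a_C2b] at s2
    exact ((ROrb.mono F2_sub_F4 (rorb4_cC2b h hT)).trans s2.symm).trans (toB hS)

end Cfsg.Agent.helper27
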