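import Mathlib
import Cfsg.Agent.Lib_helper27_McLp1

set_option autoImplicit false

namespace Cfsg.Agent.helper27

open Cfsg MulAction
open scoped Pointwise

/-! ### the rank four action on 2025 points -/

/-- the points attached to a pair of minimal vectors -/
def mclPts (v w : leechLattice) : Set leechLattice :=
  {x | sqNorm x.1 = 32 ∧ dotInt v.1 x.1 = 0 ∧ dotInt w.1 x.1 = 16}

theorem mclPts_smul (g : Co0) (v w x : leechLattice) :
    g • x ∈ mclPts (g • v) (g • w) ↔ x ∈ mclPts v w := by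
  unfold mclPts
  simp only [Set.mem_ofPred_eq, co0_sqNorm, co0_smul_dot]

theorem mclPts_std (x : leechLattice) : x ∈ mclPts (-a0L) (a0L - u5L) ↔ x.1 ∈ mclP := by
  have e1 : dotInt (-a0L : leechLattice).1 x.1 = -dotInt a0 x.1 := dotInt_neg_left' a0 x.1
  have e2 : dotInt (a0L - u5L : leechLattice).1 x.1 = dotInt a0 x.1 - dotInt u5 x.1 :=
    dotInt_sub_left a0 u5 x.1
  constructor
  · rintro ⟨h1, h2, h3⟩
    rw [e1] at h2
    rw [e2] at h3
    exact ⟨⟨x.2, h1, by omega⟩, by omega⟩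
  · rintro ⟨⟨_, h1, h2⟩, h3⟩
    refine ⟨h1, ?_, ?_⟩
    · rw [e1, h3]; rfl
    · rw [e2, h3, h2]; rfl

theorem mclPts_std_ncard : (mclPts (-a0L) (a0L - u5L)).ncard = 2025 := by
  rw [← mclP_ncard]
  exact ncard_subtype_of_raw (fun x hx => mclP_mem hx) mclPts_std

/-- the standard frame for a pair of minimal vectors of inner product `-8` -/
theorem mcl_frame2 (v w : leechLattice) (hv : sqNorm (v : GolayPt → ℤ) = 32)
    (hw : sqNorm (w : GolayPt → ℤ) = 32)
    (hvw : dotInt (v : GolayPt → ℤ) (w : GolayPt → ℤ) = -8) :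
    ∃ g0 : Co0, g0 • v = -a0L ∧ g0 • w = a0L - u5L := by
  have hu : sqNorm (-(v + w) : leechLattice).1 = 48 := by
    show sqNorm (-(v.1 + w.1)) = 48
    rw [sqNorm_neg, sqNorm_add, hv, hw, hvw]
    rfl
  have hv' : sqNorm (-v : leechLattice).1 = 32 ∧
      sqNorm ((-(v + w) : leechLattice).1 - (-v : leechLattice).1) = 32 := by
    constructor
    · show sqNorm (-v.1) = 32
      rw [sqNorm_neg, hv]
    · have : (-(v + w) : leechLattice).1 - (-v : leechLattice).1 = -w.1 := by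
        show -(v.1 + w.1) - (-v.1) = -w.1
        abel
      rw [this, sqNorm_neg, hw]
  obtain ⟨g0, hg1, hg2⟩ := (conn2_pair_std _ _ hu hv').exists_smul (u' := u5L) (v' := a0L)
  rw [co0_smul_neg] at hg1 hg2
  have e1 : g0 • v = -a0L := by rw [← hg2, neg_neg]
  refine ⟨g0, e1, ?_⟩
  have e2 : g0 • (v + w) = -u5L := by rw [← hg1, neg_neg]
  rw [co0_smul_add, e1] at e2
  have : g0 • w = -u5L - -a0L := eq_sub_of_add_eq' e2
  rw [this]
  abel

theorem fixOrb_congr {F F' : Set leechLattice}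
    (h : ∀ g : Co0, (∀ w ∈ F, g • w = w) ↔ (∀ w ∈ F', g • w = w)) (y z : leechLattice) :
    FixOrb F y z ↔ FixOrb F' y z := by
  constructor
  · rintro ⟨g, hg, hgy⟩
    exact ⟨g, (h g).mp hg, hgy⟩
  · rintro ⟨g, hg, hgy⟩
    exact ⟨g, (h g).mpr hg, hgy⟩

theorem fixOrb_image (g0 : Co0) (F : Set leechLattice) (y z : leechLattice) :
    FixOrb F y z ↔ FixOrb ((fun w => g0 • w) '' F) (g0 • y) (g0 • z) := by
  constructor
  · intro h
    apply FixOrb.transport g0⁻¹ (F' := F)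
    · rintro w ⟨w0, hw0, rfl⟩
      rw [inv_smul_smul]
      exact hw0
    · rw [inv_smul_smul, inv_smul_smul]
      exact h
  · intro h
    exact FixOrb.transport g0 (F' := (fun w => g0 • w) '' F) (fun w hw => ⟨w, hw, rfl⟩) h

/-- the pointwise stabiliser of the two standard frames agree -/
theorem fix_frame_iff (g : Co0) (x : leechLattice) :
    (∀ w ∈ ({-a0L, a0L - u5L, x} : Set leechLattice), g • w = w) ↔
      (∀ w ∈ ({u5L, x, a0L} : Set leechLattice), g • w = w) := by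
  constructor
  · intro h
    have h1 : g • -a0L = -a0L := h _ (Or.inl rfl)
    have h2 : g • (a0L - u5L) = a0L - u5L := h _ (Or.inr (Or.inl rfl))
    have h3 : g • x = x := h _ (Or.inr (Or.inr rfl))
    rw [co0_smul_neg] at h1
    have ha : g • a0L = a0L := neg_injective h1
    rw [co0_smul_sub, ha] at h2
    have hu : g • u5L = u5L := sub_right_injective h2
    intro w hw
    rcases hw with rfl | rfl | rfl
    · exact hu
    · exact h3
    · exact ha
  · intro h
    have hu : g • u5L = u5L := h _ (Or.inl rfl)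
    have h3 : g • x = x := h _ (Or.inr (Or.inl rfl))
    have ha : g • a0L = a0L := h _ (Or.inr (Or.inr rfl))
    intro w hw
    rcases hw with rfl | rfl | rfl
    · rw [co0_smul_neg, ha]
    · rw [co0_smul_sub, ha, hu]
    · exact h3

theorem fix_frame2_iff (g : Co0) :
    (∀ w ∈ ({-a0L, a0L - u5L} : Set leechLattice), g • w = w) ↔ (∀ w ∈ F2, g • w = w) := by
  constructor
  · intro h
    have h1 : g • -a0L = -a0L := h _ (Or.inl rfl)
    have h2 : g • (a0L - u5L) = a0L - u5L := h _ (Or.inr rfl)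
    rw [co0_smul_neg] at h1
    have ha : g • a0L = a0L := neg_injective h1
    rw [co0_smul_sub, ha] at h2
    have hu : g • u5L = u5L := sub_right_injective h2
    intro w hw
    rcases hw with rfl | rfl
    · exact hu
    · exact ha
  · intro h
    have hu : g • u5L = u5L := h _ (Or.inl rfl)
    have ha : g • a0L = a0L := h _ (Or.inr rfl)
    intro w hw
    rcases hw with rfl | rfl
    · rw [co0_smul_neg, ha]
    · rw [co0_smul_sub, ha, hu]

theorem fixOrb_frame2 {v w : leechLattice} {g0 : Co0} (hv : g0 • v = -a0L)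
    (hw : g0 • w = a0L - u5L) (y z : leechLattice) :
    FixOrb {v, w} y z ↔ FixOrb F2 (g0 • y) (g0 • z) := by
  rw [fixOrb_image g0, Set.image_insert_eq, Set.image_singleton, hv, hw]
  exact fixOrb_congr fix_frame2_iff _ _

theorem fixOrb_frame4 {v w x : leechLattice} {g0 : Co0} (hv : g0 • v = -a0L)
    (hw : g0 • w = a0L - u5L) (hx : g0 • x = hrefL) (y z : leechLattice) :
    FixOrb {v, w, x} y z ↔ FixOrb F4 (g0 • y) (g0 • z) := by
  rw [fixOrb_image g0, Set.image_insert_eq, Set.image_insert_eq, Set.image_singleton, hv, hw, hx]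
  exact fixOrb_congr (fun g => fix_frame_iff g hrefL) _ _

theorem mem_orbit_inf3_iff (v w x y z : leechLattice) :
    z ∈ orbit ↥(stabilizer Co0 v ⊓ stabilizer Co0 w ⊓ stabilizer Co0 x) y ↔
      FixOrb {v, w, x} y z := by
  constructor
  · rintro ⟨g, rfl⟩
    obtain ⟨h12, h3⟩ := Subgroup.mem_inf.mp g.2
    obtain ⟨h1, h2⟩ := Subgroup.mem_inf.mp h12
    rw [mem_stabilizer_iff] at h1 h2 h3
    refine ⟨g.1, ?_, rfl⟩
    intro t ht
    rcases ht with rfl | rfl | rfl
    · exact h1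
    · exact h2
    · exact h3
  · rintro ⟨g, hg, rfl⟩
    have hm : g ∈ stabilizer Co0 v ⊓ stabilizer Co0 w ⊓ stabilizer Co0 x :=
      Subgroup.mem_inf.mpr ⟨Subgroup.mem_inf.mpr ⟨mem_stabilizer_iff.mpr (hg v (Or.inl rfl)),
        mem_stabilizer_iff.mpr (hg w (Or.inr (Or.inl rfl)))⟩,
        mem_stabilizer_iff.mpr (hg x (Or.inr (Or.inr rfl)))⟩
    exact ⟨⟨g, hm⟩, rfl⟩

/-- invariance of membership and level under the stabiliser of the three reference vectors -/
theorem mclP_invariant {g : Co0} (hg : ∀ w ∈ F4, g • w = w) (r : leechLattice)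
    (hr : r.1 ∈ mclP) : (g • r).1 ∈ mclP ∧ dotInt href (g • r).1 = dotInt href r.1 := by
  have h3 : ∀ w ∈ F3, g • w = w := by
    intro w hw
    rcases hw with rfl | rfl
    · exact hg _ (Or.inl rfl)
    · exact hg _ (Or.inr (Or.inl rfl))
  obtain ⟨h1, h2⟩ := level_invariant h3 r hr.1
  refine ⟨⟨h1, ?_⟩, h2⟩
  have ha : g • a0L = a0L := hg _ (Or.inr (Or.inr rfl))
  have := co0_smul_dot g a0L r
  rw [ha] at this
  exact this.trans hr.2

theorem dot_cB1a {x : GolayPt → ℤ} (h : x ∈ cB1a) : dotInt href x = 16 :=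
  dot_lvB (Or.inl (Or.inr h))

theorem dot_cB2b {x : GolayPt → ℤ} (h : x ∈ cB2b) : dotInt href x = 0 :=
  dot_lvC (Or.inl (Or.inr h))

theorem dot_cC2b {x : GolayPt → ℤ} (h : x ∈ cC2b) : dotInt href x = 8 :=
  dot_lvD (Or.inr h)

theorem fixOrb4_cB1a {r : leechLattice} (hr : r.1 ∈ cB1a) (z : leechLattice) :
    FixOrb F4 r z ↔ z.1 ∈ cB1a := by
  constructor
  · rintro ⟨g, hg, rfl⟩
    obtain ⟨h1, h2⟩ := mclP_invariant hg r (cB1a_mclP hr)
    rw [dot_cB1a hr] at h2
    rcases mclP_cases h1 with h | h | h | h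
    · rw [h, dot_href_href] at h2; omega
    · exact h
    · rw [dot_cB2b h] at h2; omega
    · rw [dot_cC2b h] at h2; omega
  · intro hz
    exact (ROrb.fixOrb (x := r) (y := z) (rorb4_cB1a hr hz))

theorem fixOrb4_cB2b {r : leechLattice} (hr : r.1 ∈ cB2b) (z : leechLattice) :
    FixOrb F4 r z ↔ z.1 ∈ cB2b := by
  constructor
  · rintro ⟨g, hg, rfl⟩
    obtain ⟨h1, h2⟩ := mclP_invariant hg r (cB2b_mclP hr)
    rw [dot_cB2b hr] at h2
    rcases mclP_cases h1 with h | h | h | h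
    · rw [h, dot_href_href] at h2; omega
    · rw [dot_cB1a h] at h2; omega
    · exact h
    · rw [dot_cC2b h] at h2; omega
  · intro hz
    exact (ROrb.fixOrb (x := r) (y := z) (rorb4_cB2b hr hz))

theorem fixOrb4_cC2b {r : leechLattice} (hr : r.1 ∈ cC2b) (z : leechLattice) :
    FixOrb F4 r z ↔ z.1 ∈ cC2b := by
  constructor
  · rintro ⟨g, hg, rfl⟩
    obtain ⟨h1, h2⟩ := mclP_invariant hg r (cC2b_mclP hr)
    rw [dot_cC2b hr] at h2
    rcases mclP_cases h1 with h | h | h | h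
    · rw [h, dot_href_href] at h2; omega
    · rw [dot_cB1a h] at h2; omega
    · rw [dot_cB2b h] at h2; omega
    · exact h
  · intro hz
    exact (ROrb.fixOrb (x := r) (y := z) (rorb4_cC2b hr hz))

theorem orbit3_ncard {v w x : leechLattice} {g0 : Co0} (hv : g0 • v = -a0L)
    (hw : g0 • w = a0L - u5L) (hx : g0 • x = hrefL) (r : leechLattice)
    (L : Set (GolayPt → ℤ)) (hL : ∀ z : leechLattice, FixOrb F4 r z ↔ z.1 ∈ L)
    (hLm : ∀ x ∈ L, x ∈ leechLattice) :
    (orbit ↥(stabilizer Co0 v ⊓ stabilizer Co0 w ⊓ stabilizer Co0 x) (g0⁻¹ • r)).ncard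
      = L.ncard := by
  have himg : orbit ↥(stabilizer Co0 v ⊓ stabilizer Co0 w ⊓ stabilizer Co0 x) (g0⁻¹ • r)
      = (fun z => g0⁻¹ • z) '' {z : leechLattice | z.1 ∈ L} := by
    ext z
    rw [mem_orbit_inf3_iff, fixOrb_frame4 hv hw hx, smul_inv_smul, hL]
    constructor
    · intro h
      exact ⟨g0 • z, h, inv_smul_smul g0 z⟩
    · rintro ⟨t, ht, rfl⟩
      rw [smul_inv_smul]
      exact ht
  rw [himg, Set.ncard_image_of_injective _ (MulAction.injective g0⁻¹)]
  exact ncard_subtype_of_raw hLm (fun y => Iff.rfl)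

/-- representatives -/
def rB1a : GolayPt → ℤ := vB (cw 199) (cw 199 \ {some 0, some 6})
def rB2b : GolayPt → ℤ := vB (cw 1030) (cw 1030)
def rC2b : GolayPt → ℤ := vC (some 7) (cw 3273)ᶜ

theorem rB1a_mem : rB1a ∈ cB1a :=
  ⟨cw 199, cw199_oct2, some 6, mem_er2 (by decide) (by decide) (by rw [mem_cw_iff]; decide), rfl⟩

theorem rB2b_mem : rB2b ∈ cB2b :=
  ⟨cw 1030, cw_octN (by norm_num) (by decide) (by decide) (by decide), rfl⟩

theorem rC2b_mem : rC2b ∈ cC2b :=
  ⟨cw 3273, cw_octA (by norm_num) (by decide) (by decide) (by decide), some 7,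
    Finset.mem_erase.mpr ⟨by decide, by rw [mem_cw_iff]; decide⟩, rfl⟩

/-- statement of `S1634` -/
theorem mcl_rank4 (v w : leechLattice) (hv : sqNorm (v : GolayPt → ℤ) = 32)
    (hw : sqNorm (w : GolayPt → ℤ) = 32)
    (hvw : dotInt (v : GolayPt → ℤ) (w : GolayPt → ℤ) = -8) :
    (mclPts v w).ncard = 2025 ∧
    (∀ x ∈ mclPts v w, ∀ x' ∈ mclPts v w, ∃ g : Co0, g • v = v ∧ g • w = w ∧ g • x = x') ∧
    ∀ x ∈ mclPts v w, ∃ y₁ ∈ mclPts v w, ∃ y₂ ∈ mclPts v w, ∃ y₃ ∈ mclPts v w,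
      (orbit ↥(stabilizer Co0 v ⊓ stabilizer Co0 w ⊓ stabilizer Co0 x) y₁).ncard = 330 ∧
      (orbit ↥(stabilizer Co0 v ⊓ stabilizer Co0 w ⊓ stabilizer Co0 x) y₂).ncard = 462 ∧
      (orbit ↥(stabilizer Co0 v ⊓ stabilizer Co0 w ⊓ stabilizer Co0 x) y₃).ncard = 1232 := by
  obtain ⟨g0, hgv, hgw⟩ := mcl_frame2 v w hv hw hvw
  have hstd : ∀ x : leechLattice, x ∈ mclPts v w ↔ (g0 • x).1 ∈ mclP := by
    intro x
    rw [← mclPts_std, ← hgv, ← hgw, mclPts_smul]
  have htrans : ∀ x ∈ mclPts v w, ∀ x' ∈ mclPts v w, FixOrb {v, w} x x' := by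
    intro x hx x' hx'
    rw [fixOrb_frame2 hgv hgw]
    have s1 := rorb2_mclP ((hstd x).mp hx)
    have s2 := rorb2_mclP ((hstd x').mp hx')
    exact (s1.trans s2.symm).fixOrb
  refine ⟨?_, ?_, ?_⟩
  · have hS : mclPts v w = (fun x => g0⁻¹ • x) '' mclPts (-a0L) (a0L - u5L) := by
      ext x
      constructor
      · intro hx
        refine ⟨g0 • x, ?_, inv_smul_smul g0 x⟩
        rw [← hgv, ← hgw, mclPts_smul]
        exact hx
      · rintro ⟨y, hy, rfl⟩
        rw [← mclPts_smul g0, smul_inv_smul, hgv, hgw]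
        exact hy
    rw [hS, Set.ncard_image_of_injective _ (MulAction.injective g0⁻¹), mclPts_std_ncard]
  · intro x hx x' hx'
    obtain ⟨g, hg, hgx⟩ := htrans x hx x' hx'
    exact ⟨g, hg v (Or.inl rfl), hg w (Or.inr rfl), hgx⟩
  · intro x hx
    -- move `x` to the reference point
    have s1 := (rorb2_mclP ((hstd x).mp hx)).fixOrb (x := g0 • x) (y := hrefL)
    obtain ⟨g1, hg1, hg1x⟩ := s1
    have hu1 : g1 • u5L = u5L := hg1 _ (Or.inl rfl)
    have ha1 : g1 • a0L = a0L := hg1 _ (Or.inr rfl)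
    have hv' : (g1 * g0) • v = -a0L := by rw [mul_smul, hgv, co0_smul_neg, ha1]
    have hw' : (g1 * g0) • w = a0L - u5L := by rw [mul_smul, hgw, co0_smul_sub, ha1, hu1]
    have hx' : (g1 * g0) • x = hrefL := by rw [mul_smul, hg1x]
    have hmem : ∀ r : leechLattice, r.1 ∈ mclP → (g1 * g0)⁻¹ • r ∈ mclPts v w := by
      intro r hr
      rw [← mclPts_smul (g1 * g0), smul_inv_smul, hv', hw', mclPts_std]
      exact hr
    refine ⟨(g1 * g0)⁻¹ • ⟨rB2b, mclP_mem (cB2b_mclP rB2b_mem)⟩, hmem _ (cB2b_mclP rB2b_mem),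
      (g1 * g0)⁻¹ • ⟨rB1a, mclP_mem (cB1a_mclP rB1a_mem)⟩, hmem _ (cB1a_mclP rB1a_mem),
      (g1 * g0)⁻¹ • ⟨rC2b, mclP_mem (cC2b_mclP rC2b_mem)⟩, hmem _ (cC2b_mclP rC2b_mem), ?_, ?_, ?_⟩
    · rw [orbit3_ncard hv' hw' hx' _ cB2b (fixOrb4_cB2b rB2b_mem)
        (fun x hx => mclP_mem (cB2b_mclP hx)), cB2b_ncard]
    · rw [orbit3_ncard hv' hw' hx' _ cB1a (fixOrb4_cB1a rB1a_mem)
        (fun x hx => mclP_mem (cB1a_mclP hx)), cB1a_ncard]
    · rw [orbit3_ncard hv' hw' hx' _ cC2b (fixOrb4_cC2b rC2b_mem)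
        (fun x hx => mclP_mem (cC2b_mclP hx)), cC2b_ncard]

end Cfsg.Agent.helper27
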