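import Mathlib
import Cfsg.Agent.Lib_helper27_SimpleCrit3

set_option autoImplicit false

namespace Cfsg.Agent.helper27

open MulAction

/-! ### groups of order `q ^ a * p ^ 2` -/

theorem exists_char_of_card_pq {N : Type*} [Group N] [Finite N] (p q a : ℕ) [hp : Fact p.Prime]
    [hq : Fact q.Prime] (hpq : p ≠ q) (ha : 0 < a) (hc : Nat.card N = q ^ a * p ^ 2)
    (hdiv : ∀ d, d ∣ q ^ a → d ≡ 1 [MOD p] → d = 1 ∨ d = q ^ a) :
    ∃ K : Subgroup N, K.Characteristic ∧ 1 < Nat.card K ∧ Nat.card K < Nat.card N := by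
  have hqa : 1 < q ^ a := Nat.one_lt_pow ha.ne' hq.out.one_lt
  have hp2 : 1 < p ^ 2 := Nat.one_lt_pow (by norm_num) hp.out.one_lt
  have hfp : (Nat.card N).factorization p = 2 := by
    rw [hc, Nat.factorization_mul (pow_ne_zero _ hq.out.ne_zero) (pow_ne_zero _ hp.out.ne_zero),
      Nat.factorization_pow, Nat.factorization_pow, Finsupp.add_apply, Finsupp.smul_apply,
      Finsupp.smul_apply, hp.out.factorization_self, hq.out.factorization,
      Finsupp.single_apply, if_neg (Ne.symm hpq)]
    simp
  have hfq : (Nat.card N).factorization q = a := by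
    rw [hc, Nat.factorization_mul (pow_ne_zero _ hq.out.ne_zero) (pow_ne_zero _ hp.out.ne_zero),
      Nat.factorization_pow, Nat.factorization_pow, Finsupp.add_apply, Finsupp.smul_apply,
      Finsupp.smul_apply, hq.out.factorization_self, hp.out.factorization,
      Finsupp.single_apply, if_neg hpq]
    simp
  let P : Sylow p N := default
  have hPc : Nat.card P = p ^ 2 := by rw [Sylow.card_eq_multiplicity, hfp]
  have hidx : (P : Subgroup N).index = q ^ a := by
    have h1 := (P : Subgroup N).card_mul_index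
    rw [hPc, hc, mul_comm] at h1
    exact Nat.eq_of_mul_eq_mul_right (by omega) h1
  have hn : Nat.card (Sylow p N) = 1 ∨ Nat.card (Sylow p N) = q ^ a :=
    hdiv _ (hidx ▸ Sylow.card_dvd_index P) (card_sylow_modEq_one p N)
  rcases hn with h1 | h1
  · have hsub : Subsingleton (Sylow p N) := (Nat.card_eq_one_iff_unique.mp h1).1
    refine ⟨P, Sylow.characteristic_of_subsingleton P, ?_, ?_⟩
    · rw [hPc]; exact hp2
    · rw [hPc, hc]
      calc p ^ 2 = 1 * p ^ 2 := (one_mul _).symm
        _ < q ^ a * p ^ 2 := Nat.mul_lt_mul_of_pos_right hqa (by omega)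
  · -- the normaliser of `P` is `P`
    have hqpos : 0 < q ^ a := by omega
    have hnidx : (Subgroup.normalizer ((P : Subgroup N) : Set N)).index = q ^ a := by
      have h0 := Sylow.card_eq_index_normalizer P
      rw [h1] at h0
      exact h0.symm
    have hncard : Nat.card (Subgroup.normalizer ((P : Subgroup N) : Set N)) = p ^ 2 := by
      have h2 := (Subgroup.normalizer ((P : Subgroup N) : Set N)).card_mul_index
      rw [hnidx, hc] at h2
      have h3 : Nat.card (Subgroup.normalizer ((P : Subgroup N) : Set N)) * q ^ a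
          = p ^ 2 * q ^ a := by rw [h2, mul_comm]
      exact Nat.eq_of_mul_eq_mul_right hqpos h3
    have hnorm : (Subgroup.normalizer ((P : Subgroup N) : Set N)) = P := by
      symm
      apply Subgroup.eq_of_le_of_card_ge Subgroup.le_normalizer
      rw [hncard, hPc]
    have hcommI : IsMulCommutative P := IsPGroup.isMulCommutative_of_card_eq_prime_sq hPc
    have hcomm : ∀ x y : P, x * y = y * x := fun x y => mul_comm' x y
    have hPle : (Subgroup.normalizer ((P : Subgroup N) : Set N)) ≤ Subgroup.centralizer (P : Set N) := by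
      rw [hnorm]
      intro n hn
      rw [Subgroup.mem_centralizer_iff]
      intro x hx
      have := hcomm ⟨x, hx⟩ ⟨n, hn⟩
      exact congrArg Subtype.val this
    have hcompl := MonoidHom.ker_transferSylow_isComplement' P hPle
    set K := (MonoidHom.transferSylow P hPle).ker with hK
    have hKc : Nat.card K = q ^ a := by
      have h3 := hcompl.card_mul_card
      rw [hPc, hc] at h3
      exact Nat.eq_of_mul_eq_mul_right (by omega) h3
    have hKn : K.Normal := MonoidHom.normal_ker _
    let Q : Sylow q N := Sylow.ofCard K (by rw [hKc, hfq])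
    have hQn : (Q : Subgroup N).Normal := hKn
    have hchar : (Q : Subgroup N).Characteristic := Sylow.characteristic_of_normal Q hQn
    refine ⟨K, hchar, ?_, ?_⟩
    · rw [hKc]; exact hqa
    · rw [hKc, hc]
      calc q ^ a = q ^ a * 1 := (mul_one _).symm
        _ < q ^ a * p ^ 2 := Nat.mul_lt_mul_of_pos_left hp2 (by omega)

/-! ### the criterion without faithfulness -/

/-- a normal subgroup inside a simple point stabiliser that moves some point is trivial -/
theorem core_trivial_of_simple_stab {G Ω : Type*} [Group G] [MulAction G Ω] [IsPretransitive G Ω]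
    (α : Ω) (hH : IsSimpleGroup (stabilizer G α))
    (hmove : ∃ h ∈ stabilizer G α, ∃ x : Ω, h • x ≠ x) (N : Subgroup G) (hN : N.Normal)
    (hle : N ≤ stabilizer G α) : N = ⊥ := by
  have hK : (N.subgroupOf (stabilizer G α)).Normal := hN.subgroupOf _
  rcases hH.eq_bot_or_eq_top_of_normal _ hK with hb | ht
  · rw [Subgroup.subgroupOf_eq_bot] at hb
    have : N ⊓ stabilizer G α = ⊥ := disjoint_iff.mp hb
    rwa [inf_eq_left.mpr hle] at this
  · exfalso
    rw [Subgroup.subgroupOf_eq_top] at ht
    obtain ⟨h, hh, x, hx⟩ := hmove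
    apply hx
    obtain ⟨g, rfl⟩ := exists_smul_eq G α x
    have h1 : g⁻¹ * h * g ∈ N := by
      have := hN.conj_mem h (ht hh) g⁻¹
      rwa [inv_inv] at this
    have h2 := hle h1
    rw [mem_stabilizer_iff, mul_smul, mul_smul, inv_smul_eq_iff] at h2
    exact h2

theorem isSimpleGroup_of_prim_stab_core {G Ω : Type*} [Group G] [Finite G] [MulAction G Ω]
    [IsPretransitive G Ω] (α : Ω)
    (hH : IsSimpleGroup (stabilizer G α))
    (hcore : ∀ N : Subgroup G, N.Normal → N ≤ stabilizer G α → N = ⊥)
    (hprim : ∀ N : Subgroup G, N.Normal →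
      N ≤ stabilizer G α ∨ ∀ x : Ω, ∃ n ∈ N, n • α = x)
    (hreg : ∀ N : Subgroup G, N.Normal → Nat.card N = Nat.card Ω →
      ∃ Q : Subgroup G, Q.Normal ∧ 1 < Nat.card Q ∧ Nat.card Q < Nat.card Ω) :
    IsSimpleGroup G := by
  have hnt : Nontrivial G := by
    have := hH.toNontrivial
    obtain ⟨a, b, hab⟩ := this
    exact ⟨⟨a.1, b.1, fun h => hab (Subtype.ext h)⟩⟩
  refine ⟨fun N hN => ?_⟩
  rcases hprim N hN with h1 | htr
  · exact Or.inl (hcore N hN h1)
  · right
    have hK : (N.subgroupOf (stabilizer G α)).Normal := hN.subgroupOf _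
    rcases hH.eq_bot_or_eq_top_of_normal _ hK with hb | ht
    · exfalso
      rw [Subgroup.subgroupOf_eq_bot, disjoint_iff] at hb
      have hc : Nat.card N = Nat.card Ω := card_eq_of_regular α N htr hb
      obtain ⟨Q, hQn, hQ1, hQ2⟩ := hreg N hN hc
      rcases hprim Q hQn with h2 | h2
      · have := hcore Q hQn h2
        rw [this, Subgroup.card_bot] at hQ1
        omega
      · have hsurj : Function.Surjective (fun n : Q => (n : G) • α) := by
          intro x
          obtain ⟨n, hn, hnx⟩ := h2 x
          exact ⟨⟨n, hn⟩, hnx⟩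
        have hle := Nat.card_le_card_of_surjective _ hsurj
        omega
    · rw [Subgroup.subgroupOf_eq_top] at ht
      exact eq_top_of_trans_of_stab_le α N htr ht

/-- the exclusion of regular normal subgroups when the degree is `q ^ a * p ^ 2` -/
theorem hreg_of_card_pq {G Ω : Type*} [Group G] [Finite G] (p q a : ℕ) [hp : Fact p.Prime]
    [hq : Fact q.Prime] (hpq : p ≠ q) (ha : 0 < a) (hcard : Nat.card Ω = q ^ a * p ^ 2)
    (hdiv : ∀ d, d ∣ q ^ a → d ≡ 1 [MOD p] → d = 1 ∨ d = q ^ a)
    (N : Subgroup G) (hN : N.Normal) (hc : Nat.card N = Nat.card Ω) :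
    ∃ Q : Subgroup G, Q.Normal ∧ 1 < Nat.card Q ∧ Nat.card Q < Nat.card Ω := by
  rw [hcard] at hc
  obtain ⟨K, hKc, hK1, hK2⟩ := exists_char_of_card_pq (N := N) p q a hpq ha hc hdiv
  have hQn : (K.map N.subtype).Normal := ConjAct.normal_of_characteristic_of_normal
  have hQc : Nat.card (K.map N.subtype) = Nat.card K :=
    Subgroup.card_map_of_injective N.subtype_injective
  refine ⟨K.map N.subtype, hQn, ?_, ?_⟩
  · rw [hQc]; exact hK1
  · rw [hQc, hcard, ← hc]; exact hK2

end Cfsg.Agent.helper27
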