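import Mathlib
import Cfsg.Agent.Lib_helper27_McLp2
import Cfsg.Agent.Lib_helper27_Co3s2
import Cfsg.Agent.Lib_helper27_SimpleCrit4

set_option autoImplicit false

namespace Cfsg.Agent.helper27

open Cfsg MulAction
open scoped Pointwise

/-! ### the McLaughlin group in the standard frame -/

/-- the stabiliser of the two reference vectors -/
def McL0 : Subgroup Co0 := stabilizer Co0 u5L ⊓ stabilizer Co0 a0L

theorem mem_McL0 {g : Co0} : g ∈ McL0 ↔ g • u5L = u5L ∧ g • a0L = a0L := by
  unfold McL0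
  rw [Subgroup.mem_inf, mem_stabilizer_iff, mem_stabilizer_iff]

theorem a0L_partner : a0L ∈ partnersOf u5L := by
  constructor
  · show sqNorm a0 = 32
    decide
  · show sqNorm (u5 - a0) = 32
    decide

theorem orbit_a0L : orbit (stabilizer Co0 u5L) a0L = partnersOf u5L := by
  ext x
  rw [mem_orbit_iff]
  have h48 : sqNorm u5L.1 = 48 := by decide
  constructor
  · rintro ⟨g, rfl⟩
    have h1 : (g : Co0) • u5L = u5L := g.2
    have : (g : Co0) • a0L ∈ partnersOf ((g : Co0) • u5L) := by
      rw [partnersOf_smul]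
      exact ⟨a0L, a0L_partner, rfl⟩
    rw [h1] at this
    exact this
  · intro hx
    obtain ⟨g, hg1, hg2⟩ := stab48_transitive_partners u5L a0L x h48 a0L_partner hx
    exact ⟨⟨g, hg1⟩, hg2⟩

theorem card_McL0 : Nat.card McL0 = 898128000 := by
  have h1 := Subgroup.card_eq_card_quotient_mul_card_subgroup
    (stabilizer (stabilizer Co0 u5L) a0L)
  have h552 : (partnersOf u5L).ncard = 552 := partnersOf_u5
  rw [← Nat.card_congr (orbitEquivQuotientStabilizer (stabilizer Co0 u5L) a0L), orbit_a0L,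
    card_stab_u5L, Nat.card_coe_set_eq, h552] at h1
  have h2 : Nat.card (stabilizer (stabilizer Co0 u5L) a0L) = Nat.card McL0 := by
    apply Nat.card_congr
    refine ⟨fun g => ⟨g.1.1, mem_McL0.mpr ⟨g.1.2, ?_⟩⟩, fun g => ⟨⟨g.1, (mem_McL0.mp g.2).1⟩, ?_⟩,
      fun g => rfl, fun g => rfl⟩
    · have := g.2
      rw [mem_stabilizer_iff] at this
      exact this
    · rw [mem_stabilizer_iff]
      exact (mem_McL0.mp g.2).2
  rw [h2] at h1
  omega

instance finite_McL0 : Finite McL0 :=
  Nat.finite_of_card_ne_zero (by rw [card_McL0]; norm_num)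

theorem mclP_inv2 {g : Co0} (hu : g • u5L = u5L) (ha : g • a0L = a0L) (r : leechLattice)
    (hr : r.1 ∈ mclP) : (g • r).1 ∈ mclP := by
  constructor
  · rw [← hsSet_std, ← hu, hsSet_smul, hsSet_std]
    exact hr.1
  · have := co0_smul_dot g a0L r
    rw [ha] at this
    exact this.trans hr.2

/-- the 2025 points as an invariant subset -/
def mclX : SubMulAction McL0 leechLattice where
  carrier := {y | y.1 ∈ mclP}
  smul_mem' := by
    intro g x hx
    exact mclP_inv2 (mem_McL0.mp g.2).1 (mem_McL0.mp g.2).2 x hx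

theorem mem_mclX {x : leechLattice} : x ∈ mclX ↔ x.1 ∈ mclP := Iff.rfl

set_option synthInstance.maxHeartbeats 400000 in
instance mclX_mulAction : MulAction McL0 mclX := inferInstance

theorem card_mclX : Nat.card mclX = 2025 := by
  have : Nat.card mclX = {y : leechLattice | y.1 ∈ mclP}.ncard := Nat.card_coe_set_eq _
  rw [this, ← mclP_ncard]
  exact ncard_subtype_of_raw (fun x hx => mclP_mem hx) (fun y => Iff.rfl)

instance finite_mclX : Finite mclX :=
  Nat.finite_of_card_ne_zero (by rw [card_mclX]; norm_num)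

/-- the base point -/
def hrefX : mclX := ⟨hrefL, href_mclP⟩

instance mclX_transitive : IsPretransitive McL0 mclX := by
  refine ⟨fun x y => ?_⟩
  have s1 := rorb2_mclP (mem_mclX.mp x.2)
  have s2 := rorb2_mclP (mem_mclX.mp y.2)
  obtain ⟨g, hg, hgx⟩ := (s1.trans s2.symm).fixOrb (x := x.1) (y := y.1)
  exact ⟨⟨g, mem_McL0.mpr ⟨hg _ (Or.inl rfl), hg _ (Or.inr rfl)⟩⟩, Subtype.ext hgx⟩

theorem fixOrb4_liftX {x y : mclX} (h : FixOrb F4 x.1 y.1) :
    ∃ g ∈ stabilizer McL0 hrefX, g • x = y := by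
  obtain ⟨g, hg, hgx⟩ := h
  refine ⟨⟨g, mem_McL0.mpr ⟨hg _ (Or.inl rfl), hg _ (Or.inr (Or.inr rfl))⟩⟩, ?_, ?_⟩
  · rw [mem_stabilizer_iff]
    apply Subtype.ext
    exact hg _ (Or.inr (Or.inl rfl))
  · apply Subtype.ext
    exact hgx

/-- the point stabiliser is the point stabiliser of the Higman–Sims group -/
def m22ToStab : stabilizer HS0 a0P →* stabilizer McL0 hrefX where
  toFun t := ⟨⟨t.1.1, mem_McL0.mpr ⟨(mem_HS0.mp t.1.2).1, by
      have := mem_stabilizer_iff.mp t.2
      exact congrArg Subtype.val this⟩⟩, by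
    rw [mem_stabilizer_iff]
    apply Subtype.ext
    exact (mem_HS0.mp t.1.2).2⟩
  map_one' := rfl
  map_mul' _ _ := rfl

theorem m22ToStab_bijective : Function.Bijective m22ToStab := by
  constructor
  · intro a b h
    have : (m22ToStab a).1.1 = (m22ToStab b).1.1 := by rw [h]
    exact Subtype.ext (Subtype.ext this)
  · intro t
    have h1 : (t.1 : Co0) • u5L = u5L := (mem_McL0.mp t.1.2).1
    have h2 : (t.1 : Co0) • a0L = a0L := (mem_McL0.mp t.1.2).2
    have h3 : (t.1 : Co0) • hrefL = hrefL := by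
      have := mem_stabilizer_iff.mp t.2
      exact congrArg Subtype.val this
    refine ⟨⟨⟨t.1.1, mem_HS0.mpr ⟨h1, h3⟩⟩, ?_⟩, rfl⟩
    rw [mem_stabilizer_iff]
    apply Subtype.ext
    exact h2

theorem stab_hrefX_simple : IsSimpleGroup (stabilizer McL0 hrefX) := by
  have hnt : Nontrivial (stabilizer McL0 hrefX) := by
    have := stab_a0P_simple.toNontrivial
    exact m22ToStab_bijective.1.nontrivial
  have := stab_a0P_simple
  exact IsSimpleGroup.isSimpleGroup_of_surjective m22ToStab m22ToStab_bijective.2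

end Cfsg.Agent.helper27
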