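import Mathlib
import Cfsg.Agent.Lib_helper27_McLs1

set_option autoImplicit false

namespace Cfsg.Agent.helper27

open Cfsg MulAction
open scoped Pointwise

/-- the subdegrees -/
def mclDeg (s : ℤ) : ℕ :=
  if s = 32 then 1 else if s = 16 then 462 else if s = 0 then 330 else 1232

theorem mclDeg_div : ∀ S ∈ ({32, 16, 0, 8} : Finset ℤ).powerset, (32 : ℤ) ∈ S →
    (∑ s ∈ S, mclDeg s) ∣ 2025 → S = {32} ∨ S = {32, 16, 0, 8} := by
  decide +kernel

theorem ncard_mclX_of_raw (T : Set (GolayPt → ℤ)) (c : ℤ)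
    (h : ∀ y, y ∈ T ↔ y ∈ mclP ∧ dotInt href y = c) :
    {y : mclX | dotInt href y.1.1 = c}.ncard = T.ncard := by
  rw [← Set.ncard_image_of_injective _ (Subtype.val_injective.comp Subtype.val_injective)]
  congr 1
  ext x
  constructor
  · rintro ⟨y, hy, rfl⟩
    exact (h _).mpr ⟨mem_mclX.mp y.2, hy⟩
  · intro hx
    obtain ⟨h1, h2⟩ := (h x).mp hx
    exact ⟨⟨⟨x, mclP_mem h1⟩, mem_mclX.mpr h1⟩, h2, rfl⟩

theorem mclP_level {y : GolayPt → ℤ} (hy : y ∈ mclP) :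
    (y = href ∧ dotInt href y = 32) ∨ (y ∈ cB1a ∧ dotInt href y = 16) ∨
      (y ∈ cB2b ∧ dotInt href y = 0) ∨ (y ∈ cC2b ∧ dotInt href y = 8) := by
  rcases mclP_cases hy with h | h | h | h
  · exact Or.inl ⟨h, by rw [h, dot_href_href]⟩
  · exact Or.inr (Or.inl ⟨h, dot_cB1a h⟩)
  · exact Or.inr (Or.inr (Or.inl ⟨h, dot_cB2b h⟩))
  · exact Or.inr (Or.inr (Or.inr ⟨h, dot_cC2b h⟩))

theorem cB1a_iff (y : GolayPt → ℤ) : y ∈ cB1a ↔ y ∈ mclP ∧ dotInt href y = 16 := by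
  constructor
  · intro h; exact ⟨cB1a_mclP h, dot_cB1a h⟩
  · rintro ⟨h1, h2⟩
    rcases mclP_level h1 with ⟨_, h⟩ | ⟨h, _⟩ | ⟨_, h⟩ | ⟨_, h⟩
    · omega
    · exact h
    · omega
    · omega

theorem cB2b_iff (y : GolayPt → ℤ) : y ∈ cB2b ↔ y ∈ mclP ∧ dotInt href y = 0 := by
  constructor
  · intro h; exact ⟨cB2b_mclP h, dot_cB2b h⟩
  · rintro ⟨h1, h2⟩
    rcases mclP_level h1 with ⟨_, h⟩ | ⟨_, h⟩ | ⟨h, _⟩ | ⟨_, h⟩
    · omega
    · omega
    · exact h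
    · omega

theorem cC2b_iff (y : GolayPt → ℤ) : y ∈ cC2b ↔ y ∈ mclP ∧ dotInt href y = 8 := by
  constructor
  · intro h; exact ⟨cC2b_mclP h, dot_cC2b h⟩
  · rintro ⟨h1, h2⟩
    rcases mclP_level h1 with ⟨_, h⟩ | ⟨_, h⟩ | ⟨_, h⟩ | ⟨h, _⟩
    · omega
    · omega
    · omega
    · exact h

theorem href_iff (y : GolayPt → ℤ) :
    y ∈ ({href} : Set (GolayPt → ℤ)) ↔ y ∈ mclP ∧ dotInt href y = 32 := by
  constructor
  · intro h
    rw [Set.mem_singleton_iff.mp h]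
    exact ⟨href_mclP, dot_href_href⟩
  · rintro ⟨h1, h2⟩
    rcases mclP_level h1 with ⟨h, _⟩ | ⟨_, h⟩ | ⟨_, h⟩ | ⟨_, h⟩
    · exact h
    · omega
    · omega
    · omega

theorem rorb4_of_level {y y' : GolayPt → ℤ} (hy : y ∈ mclP) (hy' : y' ∈ mclP)
    (h : dotInt href y = dotInt href y') : ROrb F4 y y' := by
  rcases mclP_level hy with ⟨h1, h2⟩ | ⟨h1, h2⟩ | ⟨h1, h2⟩ | ⟨h1, h2⟩
  · have : y' = href := (href_iff y').mpr ⟨hy', by rw [← h, h2]⟩
    rw [h1, this]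
    exact rorb_refl' (mclP_mem href_mclP)
  · exact rorb4_cB1a h1 ((cB1a_iff y').mpr ⟨hy', by rw [← h, h2]⟩)
  · exact rorb4_cB2b h1 ((cB2b_iff y').mpr ⟨hy', by rw [← h, h2]⟩)
  · exact rorb4_cC2b h1 ((cC2b_iff y').mpr ⟨hy', by rw [← h, h2]⟩)

theorem mcl_prim (N : Subgroup McL0) (hN : N.Normal) :
    N ≤ stabilizer McL0 hrefX ∨ ∀ x : mclX, ∃ n ∈ N, n • hrefX = x := by
  have hα0 : dotInt href hrefX.1.1 = 32 := dot_href_href
  refine prim_of_levels hrefX (fun y : mclX => dotInt href y.1.1) {32, 16, 0, 8} mclDeg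
    ?_ ?_ ?_ ?_ ?_ N hN
  · intro y
    rcases mclP_level (mem_mclX.mp y.2) with ⟨_, h⟩ | ⟨_, h⟩ | ⟨_, h⟩ | ⟨_, h⟩ <;>
      · show dotInt href y.1.1 ∈ _
        rw [h]; decide
  · intro s hs
    simp only [Finset.mem_insert, Finset.mem_singleton] at hs
    rcases hs with rfl | rfl | rfl | rfl
    · rw [ncard_mclX_of_raw {href} 32 href_iff, Set.ncard_singleton]; rfl
    · rw [ncard_mclX_of_raw cB1a 16 cB1a_iff, cB1a_ncard]; rfl
    · rw [ncard_mclX_of_raw cB2b 0 cB2b_iff, cB2b_ncard]; rfl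
    · rw [ncard_mclX_of_raw cC2b 8 cC2b_iff, cC2b_ncard]; rfl
  · intro y hy
    rw [hα0] at hy
    apply Subtype.ext
    apply Subtype.ext
    exact (href_iff _).mpr ⟨mem_mclX.mp y.2, hy⟩
  · intro y y' hyy
    exact fixOrb4_liftX (rorb4_of_level (mem_mclX.mp y.2) (mem_mclX.mp y'.2) hyy).fixOrb
  · rw [hα0, card_mclX]
    exact mclDeg_div

theorem mcl_core (N : Subgroup McL0) (hN : N.Normal) (hle : N ≤ stabilizer McL0 hrefX) :
    N = ⊥ := by
  apply core_trivial_of_simple_stab hrefX stab_hrefX_simple _ N hN hle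
  have hm2 : vB (cw 22) (cw 22) ∈ cB2b :=
    ⟨cw 22, cw_octN (by norm_num) (by decide) (by decide) (by decide), rfl⟩
  have hne : rB2b ≠ vB (cw 22) (cw 22) := by
    unfold rB2b
    decide
  obtain ⟨g, hg, hgx⟩ := fixOrb4_liftX
    (x := ⟨⟨rB2b, mclP_mem (cB2b_mclP rB2b_mem)⟩, cB2b_mclP rB2b_mem⟩)
    (y := ⟨⟨vB (cw 22) (cw 22), mclP_mem (cB2b_mclP hm2)⟩, cB2b_mclP hm2⟩)
    (rorb4_cB2b rB2b_mem hm2).fixOrb
  refine ⟨g, hg, ⟨⟨rB2b, mclP_mem (cB2b_mclP rB2b_mem)⟩, cB2b_mclP rB2b_mem⟩, ?_⟩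
  rw [hgx]
  intro h
  apply hne
  have := congrArg (fun t : mclX => t.1.1) h
  exact this.symm

theorem McL0_simple : IsSimpleGroup McL0 := by
  have : Fact (Nat.Prime 5) := ⟨by norm_num⟩
  have : Fact (Nat.Prime 3) := ⟨by norm_num⟩
  refine isSimpleGroup_of_prim_stab_core (G := McL0) (Ω := mclX) hrefX stab_hrefX_simple
    mcl_core mcl_prim ?_
  apply hreg_of_card_pq 5 3 4 (by norm_num) (by norm_num) (by rw [card_mclX]; norm_num)
  intro d hd hmod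
  have hmem : d ∈ Nat.divisors (3 ^ 4) := Nat.mem_divisors.mpr ⟨hd, by norm_num⟩
  have hdivs : Nat.divisors (3 ^ 4) = {1, 3, 9, 27, 81} := by decide
  rw [hdivs] at hmem
  simp only [Finset.mem_insert, Finset.mem_singleton] at hmem
  rcases hmem with rfl | rfl | rfl | rfl | rfl
  · left; rfl
  · exfalso; revert hmod; decide
  · exfalso; revert hmod; decide
  · exfalso; revert hmod; decide
  · right; rfl

theorem McL0_isMcL : IsMcL McL0 := ⟨McL0_simple, card_McL0⟩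

theorem stab_frame_eq :
    stabilizer Co0 (-a0L) ⊓ stabilizer Co0 (a0L - u5L) = McL0 := by
  ext g
  rw [Subgroup.mem_inf, mem_stabilizer_iff, mem_stabilizer_iff, mem_McL0]
  have := fix_frame2_iff g
  constructor
  · rintro ⟨h1, h2⟩
    have h3 := this.mp (by
      intro w hw
      rcases hw with rfl | rfl
      · exact h1
      · exact h2)
    exact ⟨h3 _ (Or.inl rfl), h3 _ (Or.inr rfl)⟩
  · rintro ⟨h1, h2⟩
    have h3 := this.mpr (by
      intro w hw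
      rcases hw with rfl | rfl
      · exact h1
      · exact h2)
    exact ⟨h3 _ (Or.inl rfl), h3 _ (Or.inr rfl)⟩

/-- statement of `S0404` -/
theorem mcl_stabilizer (v w : leechLattice) (hv : sqNorm (v : GolayPt → ℤ) = 32)
    (hw : sqNorm (w : GolayPt → ℤ) = 32)
    (hvw : dotInt (v : GolayPt → ℤ) (w : GolayPt → ℤ) = -8) :
    IsMcL ↥(stabilizer Co0 v ⊓ stabilizer Co0 w) := by
  obtain ⟨g0, hgv, hgw⟩ := mcl_frame2 v w hv hw hvw
  have e := stabConj g0 v w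
  rw [hgv, hgw, stab_frame_eq] at e
  obtain ⟨hs, hc⟩ := McL0_isMcL
  have hcard : Nat.card ↥(stabilizer Co0 v ⊓ stabilizer Co0 w) = 898128000 := by
    rw [Nat.card_congr e.toEquiv, hc]
  refine ⟨?_, hcard⟩
  have hnt : Nontrivial ↥(stabilizer Co0 v ⊓ stabilizer Co0 w) := by
    rw [← Finite.one_lt_card_iff_nontrivial, hcard]
    norm_num
  exact IsSimpleGroup.isSimpleGroup_of_surjective e.symm.toMonoidHom e.symm.surjective

end Cfsg.Agent.helper27
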