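import Mathlib
import Cfsg.Agent.Lib_helper27_McLs2

set_option autoImplicit false

namespace Cfsg.Agent.helper27

open Cfsg
open scoped Pointwise

/-! ### the 47104 vectors of inner product 8 with the second reference vector: index sets -/

/-- code words of given weight through both base points -/
def gs2 (n : ℕ) : Set (Finset GolayPt) := {b | b ∈ GS ∧ b.card = n ∧ none ∈ b ∧ some 0 ∈ b}

/-- code words of given weight off both base points -/
def gsN (n : ℕ) : Set (Finset GolayPt) := {b | b ∈ GS ∧ b.card = n ∧ none ∉ b ∧ some 0 ∉ b}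

set_option maxRecDepth 100000 in
theorem count_gs2 : ∀ n ∈ [8, 12, 16, 24], ((Finset.range 4096).filter
    (fun k => popc (encN k) = n ∧ (encN k).testBit 23 = true ∧ (encN k).testBit 0 = true)).card
      = (if n = 8 then 77 else if n = 12 then 616 else if n = 16 then 330 else 1) := by
  decide +kernel

set_option maxRecDepth 100000 in
theorem count_gsN : ∀ n ∈ [0, 8, 12, 16], ((Finset.range 4096).filter
    (fun k => popc (encN k) = n ∧ (encN k).testBit 23 = false ∧ (encN k).testBit 0 = false)).card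
      = (if n = 0 then 1 else if n = 8 then 330 else if n = 12 then 616 else 77) := by
  decide +kernel

theorem gs2_ncard_aux (n : ℕ) : (gs2 n).ncard = ((Finset.range 4096).filter
    (fun k => popc (encN k) = n ∧ (encN k).testBit 23 = true ∧ (encN k).testBit 0 = true)).card := by
  have h := ncard_GS_mask (fun b => b.card = n ∧ none ∈ b ∧ some 0 ∈ b)
    (fun m => popc m = n ∧ m.testBit 23 = true ∧ m.testBit 0 = true) (fun k _ => by
      rw [cw_card, mem_cw_iff, mem_cw_iff, idx_none', idx_some0])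
  rw [← h]
  rfl

theorem gsN_ncard_aux (n : ℕ) : (gsN n).ncard = ((Finset.range 4096).filter
    (fun k => popc (encN k) = n ∧ (encN k).testBit 23 = false ∧ (encN k).testBit 0 = false)).card := by
  have h := ncard_GS_mask (fun b => b.card = n ∧ none ∉ b ∧ some 0 ∉ b)
    (fun m => popc m = n ∧ m.testBit 23 = false ∧ m.testBit 0 = false) (fun k _ => by
      rw [cw_card, mem_cw_iff, mem_cw_iff, idx_none', idx_some0]
      simp)
  rw [← h]
  rfl

theorem gs2_ncard_8 : (gs2 8).ncard = 77 := by
  rw [gs2_ncard_aux, count_gs2 8 (by decide)]; rfl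
theorem gs2_ncard_12 : (gs2 12).ncard = 616 := by
  rw [gs2_ncard_aux, count_gs2 12 (by decide)]; rfl
theorem gs2_ncard_16 : (gs2 16).ncard = 330 := by
  rw [gs2_ncard_aux, count_gs2 16 (by decide)]; rfl
theorem gs2_ncard_24 : (gs2 24).ncard = 1 := by
  rw [gs2_ncard_aux, count_gs2 24 (by decide)]; rfl
theorem gsN_ncard_0 : (gsN 0).ncard = 1 := by
  rw [gsN_ncard_aux, count_gsN 0 (by decide)]; rfl
theorem gsN_ncard_8 : (gsN 8).ncard = 330 := by
  rw [gsN_ncard_aux, count_gsN 8 (by decide)]; rfl
theorem gsN_ncard_12 : (gsN 12).ncard = 616 := by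
  rw [gsN_ncard_aux, count_gsN 12 (by decide)]; rfl
theorem gsN_ncard_16 : (gsN 16).ncard = 77 := by
  rw [gsN_ncard_aux, count_gsN 16 (by decide)]; rfl

/-! ### the classes -/

def cBi (k : ℕ) : Set (GolayPt → ℤ) :=
  {x | ∃ o ∈ oct1, ∃ s ∈ (o.erase none).powersetCard k, x = vB o s}

def cBz (k : ℕ) : Set (GolayPt → ℤ) :=
  {x | ∃ o ∈ octA, ∃ s ∈ (o.erase (some 0)).powersetCard k, x = vB o s}

def cCi (n : ℕ) : Set (GolayPt → ℤ) := (fun b => vC none b) '' gs2 n

def cCz (n : ℕ) : Set (GolayPt → ℤ) := (fun b => vC (some 0) b) '' gs2 n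

def cC1in (n : ℕ) : Set (GolayPt → ℤ) := {x | ∃ b ∈ gsN n, ∃ j ∈ b, x = vC j b}

def cC1out (n : ℕ) : Set (GolayPt → ℤ) :=
  {x | ∃ b ∈ gsN n, ∃ j ∈ (bᶜ.erase none).erase (some 0), x = vC j b}

theorem cBi_ncard (k : ℕ) : (cBi k).ncard = 176 * Nat.choose 7 k := by
  have h := ncard_sigma_family oct1 oct1_finite (fun o => (o.erase none).powersetCard k)
    (fun o s => vB o s) ?_ (Nat.choose 7 k) ?_
  · rw [oct1_ncard] at h
    exact h
  · intro o ho s hs o' ho' s' hs' he
    have h1 := (Finset.mem_powersetCard.mp hs).1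
    have h1' := (Finset.mem_powersetCard.mp hs').1
    exact vB_injective (fun p hp => Finset.mem_of_mem_erase (h1 hp))
      (fun p hp => Finset.mem_of_mem_erase (h1' hp)) he
  · intro o ho
    rw [Finset.card_powersetCard, Finset.card_erase_of_mem ho.2.1, octads_card ho.1]

theorem cBz_ncard (k : ℕ) : (cBz k).ncard = 176 * Nat.choose 7 k := by
  have h := ncard_sigma_family octA octA_finite (fun o => (o.erase (some 0)).powersetCard k)
    (fun o s => vB o s) ?_ (Nat.choose 7 k) ?_
  · rw [octA_ncard] at h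
    exact h
  · intro o ho s hs o' ho' s' hs' he
    have h1 := (Finset.mem_powersetCard.mp hs).1
    have h1' := (Finset.mem_powersetCard.mp hs').1
    exact vB_injective (fun p hp => Finset.mem_of_mem_erase (h1 hp))
      (fun p hp => Finset.mem_of_mem_erase (h1' hp)) he
  · intro o ho
    rw [Finset.card_powersetCard, Finset.card_erase_of_mem ho.2.2, octads_card ho.1]

theorem cCi_ncard (n : ℕ) : (cCi n).ncard = (gs2 n).ncard := by
  unfold cCi
  rw [Set.InjOn.ncard_image]
  intro o _ o' _ h
  exact (vC_injective h).2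

theorem cCz_ncard (n : ℕ) : (cCz n).ncard = (gs2 n).ncard := by
  unfold cCz
  rw [Set.InjOn.ncard_image]
  intro o _ o' _ h
  exact (vC_injective h).2

theorem gsN_finite (n : ℕ) : (gsN n).Finite :=
  Set.Finite.subset (Set.toFinite (Set.univ : Set (Finset GolayPt))) (Set.subset_univ _)

theorem cC1in_ncard (n : ℕ) : (cC1in n).ncard = (gsN n).ncard * n := by
  refine ncard_sigma_family (gsN n) (gsN_finite n) (fun b => b) (fun b j => vC j b) ?_ n ?_
  · intro b hb j hj b' hb' j' hj' he
    obtain ⟨e1, e2⟩ := vC_injective he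
    exact ⟨e2, e1⟩
  · intro b hb
    exact hb.2.1

theorem cC1out_ncard (n : ℕ) : (cC1out n).ncard = (gsN n).ncard * (22 - n) := by
  refine ncard_sigma_family (gsN n) (gsN_finite n) (fun b => (bᶜ.erase none).erase (some 0))
    (fun b j => vC j b) ?_ (22 - n) ?_
  · intro b hb j hj b' hb' j' hj' he
    obtain ⟨e1, e2⟩ := vC_injective he
    exact ⟨e2, e1⟩
  · intro b hb
    have h0 : some 0 ∈ bᶜ.erase none :=
      Finset.mem_erase.mpr ⟨by decide, Finset.mem_compl.mpr hb.2.2.2⟩
    have hn : none ∈ bᶜ := Finset.mem_compl.mpr hb.2.2.1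
    rw [Finset.card_erase_of_mem h0, Finset.card_erase_of_mem hn, Finset.card_compl,
      card_golayPt, hb.2.1]
    omega

end Cfsg.Agent.helper27
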