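import Mathlib
import Cfsg.Agent.Lib_helper27_Co2p1

set_option autoImplicit false

namespace Cfsg.Agent.helper27

open Cfsg
open scoped Pointwise

/-! ### the 47104 vectors: classification -/

/-- minimal vectors of inner product `8` with the second reference vector -/
def co2P : Set (GolayPt → ℤ) := {x | x ∈ leechLattice ∧ sqNorm x = 32 ∧ dotInt a0 x = 8}

theorem vB_apply (o s : Finset GolayPt) (i : GolayPt) :
    vB o s i = if i ∈ s then -2 else if i ∈ o then 2 else 0 := rfl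

theorem vC_apply (j : GolayPt) (b : Finset GolayPt) (i : GolayPt) :
    vC j b i = if i ∈ b then (if i = j then 3 else -1) else (if i = j then -3 else 1) := rfl

theorem co2P_cover {x : GolayPt → ℤ} (hx : x ∈ co2P) :
    (∃ k, Even k ∧ k ≤ 7 ∧ x ∈ cBi k) ∨ (∃ k, Even k ∧ k ≤ 7 ∧ x ∈ cBz k) ∨ (∃ n, x ∈ cCi n) ∨
      (∃ n, x ∈ cCz n) ∨ (∃ n, x ∈ cC1in n) ∨ (∃ n, x ∈ cC1out n) := by
  obtain ⟨hxL, hn, hd⟩ := hx
  rw [dotInt_a0] at hd
  rcases min_cases hxL hn with ⟨i, j, hij, a, b, ha, hb, rfl⟩ | ⟨o, ho, s, hs, hev, rfl⟩ |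
    ⟨j, b, hb, rfl⟩
  · exfalso
    rw [pair4_apply, pair4_apply] at hd
    rcases ha with rfl | rfl <;> rcases hb with rfl | rfl <;> split_ifs at hd <;> omega
  · rw [vB_apply, vB_apply] at hd
    have hcard : ∀ p, p ∈ o → p ∉ s → s.card ≤ 7 := by
      intro p hp hps
      have h1 : s ⊆ o.erase p := fun q hq => Finset.mem_erase.mpr ⟨fun h => hps (h ▸ hq), hs hq⟩
      have := Finset.card_le_card h1
      rw [Finset.card_erase_of_mem hp, octads_card ho] at this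
      exact this
    by_cases h1 : none ∈ s
    · exfalso
      rw [if_pos h1] at hd
      split_ifs at hd <;> omega
    · rw [if_neg h1] at hd
      by_cases h2 : none ∈ o
      · rw [if_pos h2] at hd
        have h3 : some 0 ∉ s := by
          intro h; rw [if_pos h] at hd; omega
        rw [if_neg h3] at hd
        have h4 : some 0 ∉ o := by
          intro h; rw [if_pos h] at hd; omega
        left
        refine ⟨s.card, hev, hcard none h2 h1, o, ⟨ho, h2, h4⟩, s, ?_, rfl⟩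
        exact Finset.mem_powersetCard.mpr
          ⟨fun q hq => Finset.mem_erase.mpr ⟨fun h => h1 (h ▸ hq), hs hq⟩, rfl⟩
      · rw [if_neg h2] at hd
        have h3 : some 0 ∉ s := by
          intro h; rw [if_pos h] at hd; omega
        rw [if_neg h3] at hd
        have h4 : some 0 ∈ o := by
          by_contra h; rw [if_neg h] at hd; omega
        right; left
        refine ⟨s.card, hev, hcard (some 0) h4 h3, o, ⟨ho, h2, h4⟩, s, ?_, rfl⟩
        exact Finset.mem_powersetCard.mpr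
          ⟨fun q hq => Finset.mem_erase.mpr ⟨fun h => h3 (h ▸ hq), hs hq⟩, rfl⟩
  · rw [vC_apply, vC_apply] at hd
    by_cases h1 : none ∈ b
    · rw [if_pos h1] at hd
      by_cases h2 : (none : GolayPt) = j
      · rw [if_pos h2] at hd
        have h3 : some 0 ∈ b := by
          by_contra h; rw [if_neg h] at hd; split_ifs at hd <;> omega
        right; right; left
        subst h2
        exact ⟨b.card, b, ⟨hb, rfl, h1, h3⟩, rfl⟩
      · rw [if_neg h2] at hd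
        have h3 : some 0 ∈ b := by
          by_contra h; rw [if_neg h] at hd; split_ifs at hd <;> omega
        rw [if_pos h3] at hd
        have h4 : (some 0 : GolayPt) = j := by
          by_contra h; rw [if_neg h] at hd; omega
        right; right; right; left
        subst h4
        exact ⟨b.card, b, ⟨hb, rfl, h1, h3⟩, rfl⟩
    · rw [if_neg h1] at hd
      have h2 : (none : GolayPt) ≠ j := by
        intro h; rw [if_pos h] at hd; split_ifs at hd <;> omega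
      rw [if_neg h2] at hd
      have h3 : some 0 ∉ b := by
        intro h; rw [if_pos h] at hd; split_ifs at hd <;> omega
      rw [if_neg h3] at hd
      have h4 : (some 0 : GolayPt) ≠ j := by
        intro h; rw [if_pos h] at hd; omega
      by_cases hj : j ∈ b
      · right; right; right; right; left
        exact ⟨b.card, b, ⟨hb, rfl, h1, h3⟩, j, hj, rfl⟩
      · right; right; right; right; right
        refine ⟨b.card, b, ⟨hb, rfl, h1, h3⟩, j, ?_, rfl⟩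
        exact Finset.mem_erase.mpr ⟨Ne.symm h4, Finset.mem_erase.mpr ⟨Ne.symm h2,
          Finset.mem_compl.mpr hj⟩⟩

/-! ### parameters -/

theorem gs2_param {n : ℕ} {b : Finset GolayPt} (hb : b ∈ gs2 n) :
    n = 8 ∨ n = 12 ∨ n = 16 ∨ n = 24 := by
  obtain ⟨h1, h2, h3, _⟩ := hb
  have hpos : 0 < b.card := Finset.card_pos.mpr ⟨none, h3⟩
  rcases supports_card h1 with h | h | h | h | h <;> omega

theorem gsN_param {n : ℕ} {b : Finset GolayPt} (hb : b ∈ gsN n) :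
    n = 0 ∨ n = 8 ∨ n = 12 ∨ n = 16 := by
  obtain ⟨h1, h2, h3, _⟩ := hb
  have hlt : b.card ≤ 23 := by
    have := Finset.card_le_card (Finset.subset_univ (insert none b))
    rw [Finset.card_insert_of_notMem h3, Finset.card_univ, card_golayPt] at this
    omega
  rcases supports_card h1 with h | h | h | h | h <;> omega

theorem cCi_param {n : ℕ} {x : GolayPt → ℤ} (hx : x ∈ cCi n) : n = 8 ∨ n = 12 ∨ n = 16 ∨ n = 24 := by
  obtain ⟨b, hb, _⟩ := hx
  exact gs2_param hb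

theorem cCz_param {n : ℕ} {x : GolayPt → ℤ} (hx : x ∈ cCz n) : n = 8 ∨ n = 12 ∨ n = 16 ∨ n = 24 := by
  obtain ⟨b, hb, _⟩ := hx
  exact gs2_param hb

theorem cC1in_param {n : ℕ} {x : GolayPt → ℤ} (hx : x ∈ cC1in n) : n = 8 ∨ n = 12 ∨ n = 16 := by
  obtain ⟨b, hb, j, hj, _⟩ := hx
  have hpos : 0 < b.card := Finset.card_pos.mpr ⟨j, hj⟩
  have := hb.2.1
  rcases gsN_param hb with h | h | h | h <;> omega

theorem cC1out_param {n : ℕ} {x : GolayPt → ℤ} (hx : x ∈ cC1out n) :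
    n = 0 ∨ n = 8 ∨ n = 12 ∨ n = 16 := by
  obtain ⟨b, hb, _⟩ := hx
  exact gsN_param hb

/-! ### coordinates at the base points and inner products -/

theorem cBi_none {k : ℕ} {x : GolayPt → ℤ} (hx : x ∈ cBi k) : x none = 2 ∧ x (some 0) = 0 := by
  obtain ⟨o, ho, s, hs, rfl⟩ := hx
  have h1 := (Finset.mem_powersetCard.mp hs).1
  have hn : none ∉ s := fun h => (Finset.mem_erase.mp (h1 h)).1 rfl
  have h0 : some 0 ∉ s := fun h => ho.2.2 (Finset.mem_of_mem_erase (h1 h))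
  rw [vB_apply, vB_apply, if_neg hn, if_pos ho.2.1, if_neg h0, if_neg ho.2.2]
  exact ⟨rfl, rfl⟩

theorem cBz_none {k : ℕ} {x : GolayPt → ℤ} (hx : x ∈ cBz k) : x none = 0 ∧ x (some 0) = 2 := by
  obtain ⟨o, ho, s, hs, rfl⟩ := hx
  have h1 := (Finset.mem_powersetCard.mp hs).1
  have h0 : some 0 ∉ s := fun h => (Finset.mem_erase.mp (h1 h)).1 rfl
  have hn : none ∉ s := fun h => ho.2.1 (Finset.mem_of_mem_erase (h1 h))
  rw [vB_apply, vB_apply, if_neg hn, if_neg ho.2.1, if_neg h0, if_pos ho.2.2]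
  exact ⟨rfl, rfl⟩

theorem cCi_none {n : ℕ} {x : GolayPt → ℤ} (hx : x ∈ cCi n) : x none = 3 ∧ x (some 0) = -1 := by
  obtain ⟨b, hb, rfl⟩ := hx
  show vC none b none = 3 ∧ vC none b (some 0) = -1
  rw [vC_apply, vC_apply, if_pos hb.2.2.1, if_pos rfl, if_pos hb.2.2.2, if_neg (by decide)]
  exact ⟨rfl, rfl⟩

theorem cCz_none {n : ℕ} {x : GolayPt → ℤ} (hx : x ∈ cCz n) : x none = -1 ∧ x (some 0) = 3 := by
  obtain ⟨b, hb, rfl⟩ := hx
  show vC (some 0) b none = -1 ∧ vC (some 0) b (some 0) = 3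
  rw [vC_apply, vC_apply, if_pos hb.2.2.1, if_neg (by decide), if_pos hb.2.2.2, if_pos rfl]
  exact ⟨rfl, rfl⟩

theorem cC1in_none {n : ℕ} {x : GolayPt → ℤ} (hx : x ∈ cC1in n) : x none = 1 ∧ x (some 0) = 1 := by
  obtain ⟨b, hb, j, hj, rfl⟩ := hx
  have h1 : (none : GolayPt) ≠ j := fun h => hb.2.2.1 (h ▸ hj)
  have h2 : (some 0 : GolayPt) ≠ j := fun h => hb.2.2.2 (h ▸ hj)
  rw [vC_apply, vC_apply, if_neg hb.2.2.1, if_neg h1, if_neg hb.2.2.2, if_neg h2]
  exact ⟨rfl, rfl⟩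

theorem cC1out_none {n : ℕ} {x : GolayPt → ℤ} (hx : x ∈ cC1out n) :
    x none = 1 ∧ x (some 0) = 1 := by
  obtain ⟨b, hb, j, hj, rfl⟩ := hx
  have hj1 := Finset.mem_erase.mp hj
  have hj2 := Finset.mem_erase.mp hj1.2
  rw [vC_apply, vC_apply, if_neg hb.2.2.1, if_neg (Ne.symm hj2.1), if_neg hb.2.2.2,
    if_neg (Ne.symm hj1.1)]
  exact ⟨rfl, rfl⟩

theorem cBi_dot {k : ℕ} {x : GolayPt → ℤ} (hx : x ∈ cBi k) : dotInt u5 x = 24 - 4 * (k : ℤ) := by
  have hn := (cBi_none hx).1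
  obtain ⟨o, ho, s, hs, rfl⟩ := hx
  obtain ⟨h1, h2⟩ := Finset.mem_powersetCard.mp hs
  have hso : s ⊆ o := fun p hp => Finset.mem_of_mem_erase (h1 hp)
  rw [dotInt_u5, sum_vB o s hso, octads_card ho.1, hn, h2]
  ring

theorem cBz_dot {k : ℕ} {x : GolayPt → ℤ} (hx : x ∈ cBz k) : dotInt u5 x = 16 - 4 * (k : ℤ) := by
  have hn := (cBz_none hx).1
  obtain ⟨o, ho, s, hs, rfl⟩ := hx
  obtain ⟨h1, h2⟩ := Finset.mem_powersetCard.mp hs
  have hso : s ⊆ o := fun p hp => Finset.mem_of_mem_erase (h1 hp)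
  rw [dotInt_u5, sum_vB o s hso, octads_card ho.1, hn, h2]
  ring

theorem cCi_dot {n : ℕ} {x : GolayPt → ℤ} (hx : x ∈ cCi n) : dotInt u5 x = 40 - 2 * (n : ℤ) := by
  have hn := (cCi_none hx).1
  obtain ⟨b, hb, rfl⟩ := hx
  rw [dotInt_u5, sum_vC, hn, if_pos hb.2.2.1, hb.2.1]
  ring

theorem cCz_dot {n : ℕ} {x : GolayPt → ℤ} (hx : x ∈ cCz n) : dotInt u5 x = 24 - 2 * (n : ℤ) := by
  have hn := (cCz_none hx).1
  obtain ⟨b, hb, rfl⟩ := hx
  rw [dotInt_u5, sum_vC, hn, if_pos hb.2.2.2, hb.2.1]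
  ring

theorem cC1in_dot {n : ℕ} {x : GolayPt → ℤ} (hx : x ∈ cC1in n) :
    dotInt u5 x = 32 - 2 * (n : ℤ) := by
  have hn := (cC1in_none hx).1
  obtain ⟨b, hb, j, hj, rfl⟩ := hx
  rw [dotInt_u5, sum_vC, hn, if_pos hj, hb.2.1]
  ring

theorem cC1out_dot {n : ℕ} {x : GolayPt → ℤ} (hx : x ∈ cC1out n) :
    dotInt u5 x = 24 - 2 * (n : ℤ) := by
  have hn := (cC1out_none hx).1
  obtain ⟨b, hb, j, hj, rfl⟩ := hx
  have hjb : j ∉ b := Finset.mem_compl.mp (Finset.mem_of_mem_erase (Finset.mem_of_mem_erase hj))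
  rw [dotInt_u5, sum_vC, hn, if_neg hjb, hb.2.1]
  ring

/-! ### the classes inside the set -/

theorem mem_co2P_of {x : GolayPt → ℤ} (h1 : x ∈ leechLattice) (h2 : sqNorm x = 32)
    (h3 : x none = 2 ∧ x (some 0) = 0 ∨ x none = 0 ∧ x (some 0) = 2 ∨
      x none = 3 ∧ x (some 0) = -1 ∨ x none = -1 ∧ x (some 0) = 3 ∨ x none = 1 ∧ x (some 0) = 1) :
    x ∈ co2P := by
  refine ⟨h1, h2, ?_⟩
  rw [dotInt_a0]
  rcases h3 with ⟨a, b⟩ | ⟨a, b⟩ | ⟨a, b⟩ | ⟨a, b⟩ | ⟨a, b⟩ <;> rw [a, b] <;> rfl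

theorem cBi_sub {k : ℕ} (hk : Even k) : cBi k ⊆ co2P := by
  intro x hx
  have hn := cBi_none hx
  obtain ⟨o, ho, s, hs, rfl⟩ := hx
  obtain ⟨h1, h2⟩ := Finset.mem_powersetCard.mp hs
  have hso : s ⊆ o := fun p hp => Finset.mem_of_mem_erase (h1 hp)
  refine mem_co2P_of ((mem_leechLattice_iff _).mpr (vB_mem_leechSet ho.1 hso (h2 ▸ hk))) ?_
    (Or.inl hn)
  rw [sqNorm_vB o s hso, octads_card ho.1]
  rfl

theorem cBz_sub {k : ℕ} (hk : Even k) : cBz k ⊆ co2P := by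
  intro x hx
  have hn := cBz_none hx
  obtain ⟨o, ho, s, hs, rfl⟩ := hx
  obtain ⟨h1, h2⟩ := Finset.mem_powersetCard.mp hs
  have hso : s ⊆ o := fun p hp => Finset.mem_of_mem_erase (h1 hp)
  refine mem_co2P_of ((mem_leechLattice_iff _).mpr (vB_mem_leechSet ho.1 hso (h2 ▸ hk))) ?_
    (Or.inr (Or.inl hn))
  rw [sqNorm_vB o s hso, octads_card ho.1]
  rfl

theorem cCi_sub (n : ℕ) : cCi n ⊆ co2P := by
  intro x hx
  have hn := cCi_none hx
  obtain ⟨b, hb, rfl⟩ := hx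
  exact mem_co2P_of ((mem_leechLattice_iff _).mpr (vC_mem_leechSet none hb.1)) (sqNorm_vC _ _)
    (Or.inr (Or.inr (Or.inl hn)))

theorem cCz_sub (n : ℕ) : cCz n ⊆ co2P := by
  intro x hx
  have hn := cCz_none hx
  obtain ⟨b, hb, rfl⟩ := hx
  exact mem_co2P_of ((mem_leechLattice_iff _).mpr (vC_mem_leechSet _ hb.1)) (sqNorm_vC _ _)
    (Or.inr (Or.inr (Or.inr (Or.inl hn))))

theorem cC1in_sub (n : ℕ) : cC1in n ⊆ co2P := by
  intro x hx
  have hn := cC1in_none hx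
  obtain ⟨b, hb, j, hj, rfl⟩ := hx
  exact mem_co2P_of ((mem_leechLattice_iff _).mpr (vC_mem_leechSet _ hb.1)) (sqNorm_vC _ _)
    (Or.inr (Or.inr (Or.inr (Or.inr hn))))

theorem cC1out_sub (n : ℕ) : cC1out n ⊆ co2P := by
  intro x hx
  have hn := cC1out_none hx
  obtain ⟨b, hb, j, hj, rfl⟩ := hx
  exact mem_co2P_of ((mem_leechLattice_iff _).mpr (vC_mem_leechSet _ hb.1)) (sqNorm_vC _ _)
    (Or.inr (Or.inr (Or.inr (Or.inr hn))))

theorem co2P_mem {x : GolayPt → ℤ} (hx : x ∈ co2P) : x ∈ leechLattice := hx.1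

end Cfsg.Agent.helper27
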