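import Mathlib
import Cfsg.Agent.Lib_helper27_Co2p2

set_option autoImplicit false

namespace Cfsg.Agent.helper27

open Cfsg
open scoped Pointwise

/-! ### the six levels -/

def co2L24 : Set (GolayPt → ℤ) := cBi 0 ∪ cC1out 0 ∪ cCi 8
def co2L16 : Set (GolayPt → ℤ) := cBi 2 ∪ cBz 0 ∪ cC1in 8 ∪ cCi 12
def co2L8 : Set (GolayPt → ℤ) := cC1in 12 ∪ cC1out 8 ∪ cBi 4 ∪ cBz 2 ∪ cCi 16 ∪ cCz 8
def co2L0 : Set (GolayPt → ℤ) := cC1in 16 ∪ cC1out 12 ∪ cBi 6 ∪ cBz 4 ∪ cCz 12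
def co2Lm8 : Set (GolayPt → ℤ) := cBz 6 ∪ cC1out 16 ∪ cCi 24 ∪ cCz 16
def co2Lm24 : Set (GolayPt → ℤ) := cCz 24

theorem cC1in_has3 {n : ℕ} {x : GolayPt → ℤ} (hx : x ∈ cC1in n) : ∃ i, x i = 3 := by
  obtain ⟨b, hb, j, hj, rfl⟩ := hx
  refine ⟨j, ?_⟩
  rw [vC_apply, if_pos hj, if_pos rfl]

theorem cC1out_no3 {n : ℕ} {x : GolayPt → ℤ} (hx : x ∈ cC1out n) : ¬ ∃ i, x i = 3 := by
  obtain ⟨b, hb, j, hj, rfl⟩ := hx
  have hjb : j ∉ b := Finset.mem_compl.mp (Finset.mem_of_mem_erase (Finset.mem_of_mem_erase hj))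
  rintro ⟨i, hi⟩
  rw [vC_apply] at hi
  by_cases h1 : i ∈ b
  · have h2 : i ≠ j := fun h => hjb (h ▸ h1)
    rw [if_pos h1, if_neg h2] at hi
    omega
  · rw [if_neg h1] at hi
    split_ifs at hi <;> omega

theorem cBi_ncard_0 : (cBi 0).ncard = 176 := by rw [cBi_ncard]; rfl
theorem cBi_ncard_2 : (cBi 2).ncard = 3696 := by rw [cBi_ncard]; rfl
theorem cBi_ncard_4 : (cBi 4).ncard = 6160 := by rw [cBi_ncard]; rfl
theorem cBi_ncard_6 : (cBi 6).ncard = 1232 := by rw [cBi_ncard]; rfl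
theorem cBz_ncard_0 : (cBz 0).ncard = 176 := by rw [cBz_ncard]; rfl
theorem cBz_ncard_2 : (cBz 2).ncard = 3696 := by rw [cBz_ncard]; rfl
theorem cBz_ncard_4 : (cBz 4).ncard = 6160 := by rw [cBz_ncard]; rfl
theorem cBz_ncard_6 : (cBz 6).ncard = 1232 := by rw [cBz_ncard]; rfl
theorem cCi_ncard_8 : (cCi 8).ncard = 77 := by rw [cCi_ncard, gs2_ncard_8]
theorem cCi_ncard_12 : (cCi 12).ncard = 616 := by rw [cCi_ncard, gs2_ncard_12]
theorem cCi_ncard_16 : (cCi 16).ncard = 330 := by rw [cCi_ncard, gs2_ncard_16]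
theorem cCi_ncard_24 : (cCi 24).ncard = 1 := by rw [cCi_ncard, gs2_ncard_24]
theorem cCz_ncard_8 : (cCz 8).ncard = 77 := by rw [cCz_ncard, gs2_ncard_8]
theorem cCz_ncard_12 : (cCz 12).ncard = 616 := by rw [cCz_ncard, gs2_ncard_12]
theorem cCz_ncard_16 : (cCz 16).ncard = 330 := by rw [cCz_ncard, gs2_ncard_16]
theorem cCz_ncard_24 : (cCz 24).ncard = 1 := by rw [cCz_ncard, gs2_ncard_24]
theorem cC1in_ncard_8 : (cC1in 8).ncard = 2640 := by rw [cC1in_ncard, gsN_ncard_8]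
theorem cC1in_ncard_12 : (cC1in 12).ncard = 7392 := by rw [cC1in_ncard, gsN_ncard_12]
theorem cC1in_ncard_16 : (cC1in 16).ncard = 1232 := by rw [cC1in_ncard, gsN_ncard_16]
theorem cC1out_ncard_0 : (cC1out 0).ncard = 22 := by rw [cC1out_ncard, gsN_ncard_0]
theorem cC1out_ncard_8 : (cC1out 8).ncard = 4620 := by rw [cC1out_ncard, gsN_ncard_8]
theorem cC1out_ncard_12 : (cC1out 12).ncard = 6160 := by rw [cC1out_ncard, gsN_ncard_12]
theorem cC1out_ncard_16 : (cC1out 16).ncard = 462 := by rw [cC1out_ncard, gsN_ncard_16]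

theorem co2L24_ncard : co2L24.ncard = 275 := by
  have f1 := fin_of_ncard cBi_ncard_0 (by norm_num)
  have f2 := fin_of_ncard cC1out_ncard_0 (by norm_num)
  have f3 := fin_of_ncard cCi_ncard_8 (by norm_num)
  have e1 := ncard_union_sep (cBi 0) (cC1out 0) (fun x => x none = 2)
    (fun x hx => (cBi_none hx).1) (fun x hx => by rw [(cC1out_none hx).1]; decide) f1 f2
  have e2 := ncard_union_sep (cBi 0 ∪ cC1out 0) (cCi 8) (fun x => x none ≠ 3)
    (fun x hx => by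
      rcases hx with hx | hx
      · rw [(cBi_none hx).1]; decide
      · rw [(cC1out_none hx).1]; decide)
    (fun x hx => by rw [(cCi_none hx).1]; decide) (f1.union f2) f3
  unfold co2L24
  rw [e2, e1, cBi_ncard_0, cC1out_ncard_0, cCi_ncard_8]

theorem co2L16_ncard : co2L16.ncard = 7128 := by
  have f1 := fin_of_ncard cBi_ncard_2 (by norm_num)
  have f2 := fin_of_ncard cBz_ncard_0 (by norm_num)
  have f3 := fin_of_ncard cC1in_ncard_8 (by norm_num)
  have f4 := fin_of_ncard cCi_ncard_12 (by norm_num)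
  have e1 := ncard_union_sep (cBi 2) (cBz 0) (fun x => x none = 2)
    (fun x hx => (cBi_none hx).1) (fun x hx => by rw [(cBz_none hx).1]; decide) f1 f2
  have e2 := ncard_union_sep (cBi 2 ∪ cBz 0) (cC1in 8) (fun x => x none ≠ 1)
    (fun x hx => by
      rcases hx with hx | hx
      · rw [(cBi_none hx).1]; decide
      · rw [(cBz_none hx).1]; decide)
    (fun x hx => by rw [(cC1in_none hx).1]; decide) (f1.union f2) f3
  have e3 := ncard_union_sep (cBi 2 ∪ cBz 0 ∪ cC1in 8) (cCi 12) (fun x => x none ≠ 3)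
    (fun x hx => by
      rcases hx with (hx | hx) | hx
      · rw [(cBi_none hx).1]; decide
      · rw [(cBz_none hx).1]; decide
      · rw [(cC1in_none hx).1]; decide)
    (fun x hx => by rw [(cCi_none hx).1]; decide) ((f1.union f2).union f3) f4
  unfold co2L16
  rw [e3, e2, e1, cBi_ncard_2, cBz_ncard_0, cC1in_ncard_8, cCi_ncard_12]

theorem co2L8_ncard : co2L8.ncard = 22275 := by
  have f1 := fin_of_ncard cC1in_ncard_12 (by norm_num)
  have f2 := fin_of_ncard cC1out_ncard_8 (by norm_num)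
  have f3 := fin_of_ncard cBi_ncard_4 (by norm_num)
  have f4 := fin_of_ncard cBz_ncard_2 (by norm_num)
  have f5 := fin_of_ncard cCi_ncard_16 (by norm_num)
  have f6 := fin_of_ncard cCz_ncard_8 (by norm_num)
  have e1 := ncard_union_sep (cC1in 12) (cC1out 8) (fun x => ∃ i, x i = 3)
    (fun x hx => cC1in_has3 hx) (fun x hx => cC1out_no3 hx) f1 f2
  have e2 := ncard_union_sep (cC1in 12 ∪ cC1out 8) (cBi 4) (fun x => x none ≠ 2)
    (fun x hx => by
      rcases hx with hx | hx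
      · rw [(cC1in_none hx).1]; decide
      · rw [(cC1out_none hx).1]; decide)
    (fun x hx => by rw [(cBi_none hx).1]; decide) (f1.union f2) f3
  have e3 := ncard_union_sep (cC1in 12 ∪ cC1out 8 ∪ cBi 4) (cBz 2) (fun x => x none ≠ 0)
    (fun x hx => by
      rcases hx with (hx | hx) | hx
      · rw [(cC1in_none hx).1]; decide
      · rw [(cC1out_none hx).1]; decide
      · rw [(cBi_none hx).1]; decide)
    (fun x hx => by rw [(cBz_none hx).1]; decide) ((f1.union f2).union f3) f4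
  have e4 := ncard_union_sep (cC1in 12 ∪ cC1out 8 ∪ cBi 4 ∪ cBz 2) (cCi 16) (fun x => x none ≠ 3)
    (fun x hx => by
      rcases hx with ((hx | hx) | hx) | hx
      · rw [(cC1in_none hx).1]; decide
      · rw [(cC1out_none hx).1]; decide
      · rw [(cBi_none hx).1]; decide
      · rw [(cBz_none hx).1]; decide)
    (fun x hx => by rw [(cCi_none hx).1]; decide) (((f1.union f2).union f3).union f4) f5
  have e5 := ncard_union_sep (cC1in 12 ∪ cC1out 8 ∪ cBi 4 ∪ cBz 2 ∪ cCi 16) (cCz 8)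
    (fun x => x none ≠ -1)
    (fun x hx => by
      rcases hx with (((hx | hx) | hx) | hx) | hx
      · rw [(cC1in_none hx).1]; decide
      · rw [(cC1out_none hx).1]; decide
      · rw [(cBi_none hx).1]; decide
      · rw [(cBz_none hx).1]; decide
      · rw [(cCi_none hx).1]; decide)
    (fun x hx => by rw [(cCz_none hx).1]; decide)
    ((((f1.union f2).union f3).union f4).union f5) f6
  unfold co2L8
  rw [e5, e4, e3, e2, e1, cC1in_ncard_12, cC1out_ncard_8, cBi_ncard_4, cBz_ncard_2, cCi_ncard_16,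
    cCz_ncard_8]

theorem co2L0_ncard : co2L0.ncard = 15400 := by
  have f1 := fin_of_ncard cC1in_ncard_16 (by norm_num)
  have f2 := fin_of_ncard cC1out_ncard_12 (by norm_num)
  have f3 := fin_of_ncard cBi_ncard_6 (by norm_num)
  have f4 := fin_of_ncard cBz_ncard_4 (by norm_num)
  have f5 := fin_of_ncard cCz_ncard_12 (by norm_num)
  have e1 := ncard_union_sep (cC1in 16) (cC1out 12) (fun x => ∃ i, x i = 3)
    (fun x hx => cC1in_has3 hx) (fun x hx => cC1out_no3 hx) f1 f2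
  have e2 := ncard_union_sep (cC1in 16 ∪ cC1out 12) (cBi 6) (fun x => x none ≠ 2)
    (fun x hx => by
      rcases hx with hx | hx
      · rw [(cC1in_none hx).1]; decide
      · rw [(cC1out_none hx).1]; decide)
    (fun x hx => by rw [(cBi_none hx).1]; decide) (f1.union f2) f3
  have e3 := ncard_union_sep (cC1in 16 ∪ cC1out 12 ∪ cBi 6) (cBz 4) (fun x => x none ≠ 0)
    (fun x hx => by
      rcases hx with (hx | hx) | hx
      · rw [(cC1in_none hx).1]; decide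
      · rw [(cC1out_none hx).1]; decide
      · rw [(cBi_none hx).1]; decide)
    (fun x hx => by rw [(cBz_none hx).1]; decide) ((f1.union f2).union f3) f4
  have e4 := ncard_union_sep (cC1in 16 ∪ cC1out 12 ∪ cBi 6 ∪ cBz 4) (cCz 12)
    (fun x => x none ≠ -1)
    (fun x hx => by
      rcases hx with ((hx | hx) | hx) | hx
      · rw [(cC1in_none hx).1]; decide
      · rw [(cC1out_none hx).1]; decide
      · rw [(cBi_none hx).1]; decide
      · rw [(cBz_none hx).1]; decide)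
    (fun x hx => by rw [(cCz_none hx).1]; decide) (((f1.union f2).union f3).union f4) f5
  unfold co2L0
  rw [e4, e3, e2, e1, cC1in_ncard_16, cC1out_ncard_12, cBi_ncard_6, cBz_ncard_4, cCz_ncard_12]

theorem co2Lm8_ncard : co2Lm8.ncard = 2025 := by
  have f1 := fin_of_ncard cBz_ncard_6 (by norm_num)
  have f2 := fin_of_ncard cC1out_ncard_16 (by norm_num)
  have f3 := fin_of_ncard cCi_ncard_24 (by norm_num)
  have f4 := fin_of_ncard cCz_ncard_16 (by norm_num)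
  have e1 := ncard_union_sep (cBz 6) (cC1out 16) (fun x => x none = 0)
    (fun x hx => (cBz_none hx).1) (fun x hx => by rw [(cC1out_none hx).1]; decide) f1 f2
  have e2 := ncard_union_sep (cBz 6 ∪ cC1out 16) (cCi 24) (fun x => x none ≠ 3)
    (fun x hx => by
      rcases hx with hx | hx
      · rw [(cBz_none hx).1]; decide
      · rw [(cC1out_none hx).1]; decide)
    (fun x hx => by rw [(cCi_none hx).1]; decide) (f1.union f2) f3
  have e3 := ncard_union_sep (cBz 6 ∪ cC1out 16 ∪ cCi 24) (cCz 16) (fun x => x none ≠ -1)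
    (fun x hx => by
      rcases hx with (hx | hx) | hx
      · rw [(cBz_none hx).1]; decide
      · rw [(cC1out_none hx).1]; decide
      · rw [(cCi_none hx).1]; decide)
    (fun x hx => by rw [(cCz_none hx).1]; decide) ((f1.union f2).union f3) f4
  unfold co2Lm8
  rw [e3, e2, e1, cBz_ncard_6, cC1out_ncard_16, cCi_ncard_24, cCz_ncard_16]

theorem co2Lm24_ncard : co2Lm24.ncard = 1 := cCz_ncard_24

/-! ### the level of a vector -/

theorem co2P_level {x : GolayPt → ℤ} (hx : x ∈ co2P) :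
    (dotInt u5 x = 24 ∧ x ∈ co2L24) ∨ (dotInt u5 x = 16 ∧ x ∈ co2L16) ∨
      (dotInt u5 x = 8 ∧ x ∈ co2L8) ∨ (dotInt u5 x = 0 ∧ x ∈ co2L0) ∨
      (dotInt u5 x = -8 ∧ x ∈ co2Lm8) ∨ (dotInt u5 x = -24 ∧ x ∈ co2Lm24) := by
  rcases co2P_cover hx with ⟨k, hk, hk7, h⟩ | ⟨k, hk, hk7, h⟩ | ⟨n, h⟩ | ⟨n, h⟩ | ⟨n, h⟩ | ⟨n, h⟩
  · obtain ⟨m, rfl⟩ := hk
    have hm : m = 0 ∨ m = 1 ∨ m = 2 ∨ m = 3 := by omega
    have hd := cBi_dot h
    rcases hm with rfl | rfl | rfl | rfl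
    · exact Or.inl ⟨by rw [hd]; norm_num, Or.inl (Or.inl h)⟩
    · exact Or.inr (Or.inl ⟨by rw [hd]; norm_num, Or.inl (Or.inl (Or.inl h))⟩)
    · exact Or.inr (Or.inr (Or.inl ⟨by rw [hd]; norm_num,
        Or.inl (Or.inl (Or.inl (Or.inr h)))⟩))
    · exact Or.inr (Or.inr (Or.inr (Or.inl ⟨by rw [hd]; norm_num,
        Or.inl (Or.inl (Or.inr h))⟩)))
  · obtain ⟨m, rfl⟩ := hk
    have hm : m = 0 ∨ m = 1 ∨ m = 2 ∨ m = 3 := by omega
    have hd := cBz_dot h
    rcases hm with rfl | rfl | rfl | rfl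
    · exact Or.inr (Or.inl ⟨by rw [hd]; norm_num, Or.inl (Or.inl (Or.inr h))⟩)
    · exact Or.inr (Or.inr (Or.inl ⟨by rw [hd]; norm_num,
        Or.inl (Or.inl (Or.inr h))⟩))
    · exact Or.inr (Or.inr (Or.inr (Or.inl ⟨by rw [hd]; norm_num,
        Or.inl (Or.inr h)⟩)))
    · exact Or.inr (Or.inr (Or.inr (Or.inr (Or.inl ⟨by rw [hd]; norm_num,
        Or.inl (Or.inl (Or.inl h))⟩))))
  · have hd := cCi_dot h
    rcases cCi_param h with rfl | rfl | rfl | rfl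
    · exact Or.inl ⟨by rw [hd]; norm_num, Or.inr h⟩
    · exact Or.inr (Or.inl ⟨by rw [hd]; norm_num, Or.inr h⟩)
    · exact Or.inr (Or.inr (Or.inl ⟨by rw [hd]; norm_num, Or.inl (Or.inr h)⟩))
    · exact Or.inr (Or.inr (Or.inr (Or.inr (Or.inl ⟨by rw [hd]; norm_num,
        Or.inl (Or.inr h)⟩))))
  · have hd := cCz_dot h
    rcases cCz_param h with rfl | rfl | rfl | rfl
    · exact Or.inr (Or.inr (Or.inl ⟨by rw [hd]; norm_num, Or.inr h⟩))
    · exact Or.inr (Or.inr (Or.inr (Or.inl ⟨by rw [hd]; norm_num, Or.inr h⟩)))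
    · exact Or.inr (Or.inr (Or.inr (Or.inr (Or.inl ⟨by rw [hd]; norm_num, Or.inr h⟩))))
    · exact Or.inr (Or.inr (Or.inr (Or.inr (Or.inr ⟨by rw [hd]; norm_num, h⟩))))
  · have hd := cC1in_dot h
    rcases cC1in_param h with rfl | rfl | rfl
    · exact Or.inr (Or.inl ⟨by rw [hd]; norm_num, Or.inl (Or.inr h)⟩)
    · exact Or.inr (Or.inr (Or.inl ⟨by rw [hd]; norm_num,
        Or.inl (Or.inl (Or.inl (Or.inl (Or.inl h))))⟩))
    · exact Or.inr (Or.inr (Or.inr (Or.inl ⟨by rw [hd]; norm_num,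
        Or.inl (Or.inl (Or.inl (Or.inl h)))⟩)))
  · have hd := cC1out_dot h
    rcases cC1out_param h with rfl | rfl | rfl | rfl
    · exact Or.inl ⟨by rw [hd]; norm_num, Or.inl (Or.inr h)⟩
    · exact Or.inr (Or.inr (Or.inl ⟨by rw [hd]; norm_num,
        Or.inl (Or.inl (Or.inl (Or.inl (Or.inr h))))⟩))
    · exact Or.inr (Or.inr (Or.inr (Or.inl ⟨by rw [hd]; norm_num,
        Or.inl (Or.inl (Or.inl (Or.inr h)))⟩)))
    · exact Or.inr (Or.inr (Or.inr (Or.inr (Or.inl ⟨by rw [hd]; norm_num,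
        Or.inl (Or.inl (Or.inr h))⟩))))

theorem co2L24_sub : co2L24 ⊆ co2P := by
  rintro x ((h | h) | h)
  · exact cBi_sub (by decide) h
  · exact cC1out_sub _ h
  · exact cCi_sub _ h

theorem co2L16_sub : co2L16 ⊆ co2P := by
  rintro x (((h | h) | h) | h)
  · exact cBi_sub (by decide) h
  · exact cBz_sub (by decide) h
  · exact cC1in_sub _ h
  · exact cCi_sub _ h

theorem co2L8_sub : co2L8 ⊆ co2P := by
  rintro x (((((h | h) | h) | h) | h) | h)
  · exact cC1in_sub _ h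
  · exact cC1out_sub _ h
  · exact cBi_sub (by decide) h
  · exact cBz_sub (by decide) h
  · exact cCi_sub _ h
  · exact cCz_sub _ h

theorem co2L0_sub : co2L0 ⊆ co2P := by
  rintro x ((((h | h) | h) | h) | h)
  · exact cC1in_sub _ h
  · exact cC1out_sub _ h
  · exact cBi_sub (by decide) h
  · exact cBz_sub (by decide) h
  · exact cCz_sub _ h

theorem co2Lm8_sub : co2Lm8 ⊆ co2P := by
  rintro x (((h | h) | h) | h)
  · exact cBz_sub (by decide) h
  · exact cC1out_sub _ h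
  · exact cCi_sub _ h
  · exact cCz_sub _ h

theorem co2Lm24_sub : co2Lm24 ⊆ co2P := cCz_sub _

theorem co2L24_dot {x : GolayPt → ℤ} (hx : x ∈ co2L24) : dotInt u5 x = 24 := by
  rcases hx with (h | h) | h
  · rw [cBi_dot h]; norm_num
  · rw [cC1out_dot h]; norm_num
  · rw [cCi_dot h]; norm_num

theorem co2L16_dot {x : GolayPt → ℤ} (hx : x ∈ co2L16) : dotInt u5 x = 16 := by
  rcases hx with ((h | h) | h) | h
  · rw [cBi_dot h]; norm_num
  · rw [cBz_dot h]; norm_num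
  · rw [cC1in_dot h]; norm_num
  · rw [cCi_dot h]; norm_num

theorem co2L8_dot {x : GolayPt → ℤ} (hx : x ∈ co2L8) : dotInt u5 x = 8 := by
  rcases hx with ((((h | h) | h) | h) | h) | h
  · rw [cC1in_dot h]; norm_num
  · rw [cC1out_dot h]; norm_num
  · rw [cBi_dot h]; norm_num
  · rw [cBz_dot h]; norm_num
  · rw [cCi_dot h]; norm_num
  · rw [cCz_dot h]; norm_num

theorem co2L0_dot {x : GolayPt → ℤ} (hx : x ∈ co2L0) : dotInt u5 x = 0 := by
  rcases hx with (((h | h) | h) | h) | h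
  · rw [cC1in_dot h]; norm_num
  · rw [cC1out_dot h]; norm_num
  · rw [cBi_dot h]; norm_num
  · rw [cBz_dot h]; norm_num
  · rw [cCz_dot h]; norm_num

theorem co2Lm8_dot {x : GolayPt → ℤ} (hx : x ∈ co2Lm8) : dotInt u5 x = -8 := by
  rcases hx with ((h | h) | h) | h
  · rw [cBz_dot h]; norm_num
  · rw [cC1out_dot h]; norm_num
  · rw [cCi_dot h]; norm_num
  · rw [cCz_dot h]; norm_num

theorem co2Lm24_dot {x : GolayPt → ℤ} (hx : x ∈ co2Lm24) : dotInt u5 x = -24 := by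
  rw [cCz_dot hx]; norm_num

theorem co2L24_iff (x : GolayPt → ℤ) : x ∈ co2L24 ↔ x ∈ co2P ∧ dotInt u5 x = 24 := by
  constructor
  · intro h; exact ⟨co2L24_sub h, co2L24_dot h⟩
  · rintro ⟨h1, h2⟩
    rcases co2P_level h1 with ⟨h, h'⟩ | ⟨h, h'⟩ | ⟨h, h'⟩ | ⟨h, h'⟩ | ⟨h, h'⟩ | ⟨h, h'⟩ <;>
      first
      | exact h'
      | (exfalso; omega)

theorem co2L16_iff (x : GolayPt → ℤ) : x ∈ co2L16 ↔ x ∈ co2P ∧ dotInt u5 x = 16 := by
  constructor
  · intro h; exact ⟨co2L16_sub h, co2L16_dot h⟩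
  · rintro ⟨h1, h2⟩
    rcases co2P_level h1 with ⟨h, h'⟩ | ⟨h, h'⟩ | ⟨h, h'⟩ | ⟨h, h'⟩ | ⟨h, h'⟩ | ⟨h, h'⟩ <;>
      first
      | exact h'
      | (exfalso; omega)

theorem co2L8_iff (x : GolayPt → ℤ) : x ∈ co2L8 ↔ x ∈ co2P ∧ dotInt u5 x = 8 := by
  constructor
  · intro h; exact ⟨co2L8_sub h, co2L8_dot h⟩
  · rintro ⟨h1, h2⟩
    rcases co2P_level h1 with ⟨h, h'⟩ | ⟨h, h'⟩ | ⟨h, h'⟩ | ⟨h, h'⟩ | ⟨h, h'⟩ | ⟨h, h'⟩ <;>
      first
      | exact h'
      | (exfalso; omega)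

theorem co2L0_iff (x : GolayPt → ℤ) : x ∈ co2L0 ↔ x ∈ co2P ∧ dotInt u5 x = 0 := by
  constructor
  · intro h; exact ⟨co2L0_sub h, co2L0_dot h⟩
  · rintro ⟨h1, h2⟩
    rcases co2P_level h1 with ⟨h, h'⟩ | ⟨h, h'⟩ | ⟨h, h'⟩ | ⟨h, h'⟩ | ⟨h, h'⟩ | ⟨h, h'⟩ <;>
      first
      | exact h'
      | (exfalso; omega)

theorem co2Lm8_iff (x : GolayPt → ℤ) : x ∈ co2Lm8 ↔ x ∈ co2P ∧ dotInt u5 x = -8 := by
  constructor
  · intro h; exact ⟨co2Lm8_sub h, co2Lm8_dot h⟩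
  · rintro ⟨h1, h2⟩
    rcases co2P_level h1 with ⟨h, h'⟩ | ⟨h, h'⟩ | ⟨h, h'⟩ | ⟨h, h'⟩ | ⟨h, h'⟩ | ⟨h, h'⟩ <;>
      first
      | exact h'
      | (exfalso; omega)

theorem co2Lm24_iff (x : GolayPt → ℤ) : x ∈ co2Lm24 ↔ x ∈ co2P ∧ dotInt u5 x = -24 := by
  constructor
  · intro h; exact ⟨co2Lm24_sub h, co2Lm24_dot h⟩
  · rintro ⟨h1, h2⟩
    rcases co2P_level h1 with ⟨h, h'⟩ | ⟨h, h'⟩ | ⟨h, h'⟩ | ⟨h, h'⟩ | ⟨h, h'⟩ | ⟨h, h'⟩ <;>
      first
      | exact h'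
      | (exfalso; omega)

end Cfsg.Agent.helper27
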