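import Mathlib
import Cfsg.Agent.Lib_helper27_Co2p3

set_option autoImplicit false

namespace Cfsg.Agent.helper27

open Cfsg
open scoped Pointwise

/-! ### transitivity of the stabiliser of two points on the classes -/

theorem smul_erase' (σ : Equiv.Perm GolayPt) (o : Finset GolayPt) (p : GolayPt) :
    σ • o.erase p = (σ • o).erase (σ p) := by
  rw [← Finset.sdiff_singleton_eq_erase, ← Finset.sdiff_singleton_eq_erase,
    Finset.smul_finset_sdiff, Finset.smul_finset_singleton]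
  rfl

theorem smul_triple (σ : Equiv.Perm GolayPt) (a b c : GolayPt) :
    σ • ({a, b, c} : Finset GolayPt) = {σ a, σ b, σ c} := by
  rw [Finset.smul_finset_insert, Finset.smul_finset_insert, Finset.smul_finset_singleton]
  rfl

theorem octad_sub_trans {o o' : Finset GolayPt} (ho : o ∈ octads) (ho' : o' ∈ octads)
    {p p' q q' : GolayPt} (hp : p ∈ o) (hp' : p' ∈ o') (hq : q ∉ o) (hq' : q' ∉ o') {k : ℕ}
    (hk : k = 0 ∨ k = 2 ∨ k = 4 ∨ k = 6) {s s' : Finset GolayPt}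
    (hs : s ∈ (o.erase p).powersetCard k) (hs' : s' ∈ (o'.erase p').powersetCard k) :
    ∃ σ ∈ M24, σ • o = o' ∧ σ p = p' ∧ σ q = q' ∧ σ • s = s' := by
  obtain ⟨h1, h2⟩ := Finset.mem_powersetCard.mp hs
  obtain ⟨h1', h2'⟩ := Finset.mem_powersetCard.mp hs'
  have hc7 : (o.erase p).card = 7 := by rw [Finset.card_erase_of_mem hp, octads_card ho]
  have hc7' : (o'.erase p').card = 7 := by rw [Finset.card_erase_of_mem hp', octads_card ho']
  rcases hk with rfl | rfl | rfl | rfl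
  · rw [Finset.card_eq_zero] at h2 h2'
    subst h2 h2'
    obtain ⟨σ, hσ, e1, e2, e3⟩ := exists_M24_octad_emb_out (k := 1) (by norm_num) ho ho'
      (emb1 p) (emb1 p') (fun _ => hp) (fun _ => hp') hq hq'
    exact ⟨σ, hσ, e1, e2 0, e3, Finset.smul_finset_empty _⟩
  · obtain ⟨a, b, hab, rfl⟩ := Finset.card_eq_two.mp h2
    obtain ⟨a', b', hab', rfl⟩ := Finset.card_eq_two.mp h2'
    have ha := Finset.mem_erase.mp (h1 (Finset.mem_insert_self a _))
    have hb := Finset.mem_erase.mp (h1 (Finset.mem_insert_of_mem (Finset.mem_singleton_self b)))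
    have ha' := Finset.mem_erase.mp (h1' (Finset.mem_insert_self a' _))
    have hb' := Finset.mem_erase.mp
      (h1' (Finset.mem_insert_of_mem (Finset.mem_singleton_self b')))
    obtain ⟨σ, hσ, e1, e2, e3⟩ := exists_M24_octad_emb_out (k := 3) (by norm_num) ho ho'
      (emb3 (a := p) (b := a) (c := b) (Ne.symm ha.1) (Ne.symm hb.1) hab)
      (emb3 (a := p') (b := a') (c := b') (Ne.symm ha'.1) (Ne.symm hb'.1) hab')
      (emb3_mem _ _ _ hp ha.2 hb.2) (emb3_mem _ _ _ hp' ha'.2 hb'.2) hq hq'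
    have f0 : σ p = p' := e2 0
    have f1 : σ a = a' := e2 1
    have f2 : σ b = b' := e2 2
    refine ⟨σ, hσ, e1, f0, e3, ?_⟩
    rw [smul_pair, f1, f2]
  · have hc3 : ((o.erase p) \ s).card = 3 := by
      rw [Finset.card_sdiff_of_subset h1, hc7, h2]
    have hc3' : ((o'.erase p') \ s').card = 3 := by
      rw [Finset.card_sdiff_of_subset h1', hc7', h2']
    obtain ⟨a, b, c, hab, hac, hbc, ht⟩ := Finset.card_eq_three.mp hc3
    obtain ⟨a', b', c', hab', hac', hbc', ht'⟩ := Finset.card_eq_three.mp hc3'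
    have hmem : ∀ z ∈ ({a, b, c} : Finset GolayPt), z ≠ p ∧ z ∈ o := by
      intro z hz
      rw [← ht] at hz
      exact Finset.mem_erase.mp (Finset.mem_sdiff.mp hz).1
    have hmem' : ∀ z ∈ ({a', b', c'} : Finset GolayPt), z ≠ p' ∧ z ∈ o' := by
      intro z hz
      rw [← ht'] at hz
      exact Finset.mem_erase.mp (Finset.mem_sdiff.mp hz).1
    have ha := hmem a (by simp)
    have hb := hmem b (by simp)
    have hc := hmem c (by simp)
    have ha' := hmem' a' (by simp)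
    have hb' := hmem' b' (by simp)
    have hc' := hmem' c' (by simp)
    obtain ⟨σ, hσ, e1, e2, e3⟩ := exists_M24_octad_emb_out (k := 4) (by norm_num) ho ho'
      (emb4 (a := p) (b := a) (c := b) (d := c) (Ne.symm ha.1) (Ne.symm hb.1) (Ne.symm hc.1)
        hab hac hbc)
      (emb4 (a := p') (b := a') (c := b') (d := c') (Ne.symm ha'.1) (Ne.symm hb'.1)
        (Ne.symm hc'.1) hab' hac' hbc')
      (emb4_mem _ _ _ _ _ _ hp ha.2 hb.2 hc.2) (emb4_mem _ _ _ _ _ _ hp' ha'.2 hb'.2 hc'.2) hq hq'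
    have f0 : σ p = p' := e2 0
    have f1 : σ a = a' := e2 1
    have f2 : σ b = b' := e2 2
    have f3 : σ c = c' := e2 3
    refine ⟨σ, hσ, e1, f0, e3, ?_⟩
    rw [← Finset.sdiff_sdiff_eq_self h1, ← Finset.sdiff_sdiff_eq_self h1', ht, ht',
      Finset.smul_finset_sdiff, smul_erase', smul_triple, e1, f0, f1, f2, f3]
  · have hc1 : ((o.erase p) \ s).card = 1 := by
      rw [Finset.card_sdiff_of_subset h1, hc7, h2]
    have hc1' : ((o'.erase p') \ s').card = 1 := by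
      rw [Finset.card_sdiff_of_subset h1', hc7', h2']
    obtain ⟨a, ht⟩ := Finset.card_eq_one.mp hc1
    obtain ⟨a', ht'⟩ := Finset.card_eq_one.mp hc1'
    have ha : a ≠ p ∧ a ∈ o := by
      have hz : a ∈ (o.erase p) \ s := by rw [ht]; exact Finset.mem_singleton_self a
      exact Finset.mem_erase.mp (Finset.mem_sdiff.mp hz).1
    have ha' : a' ≠ p' ∧ a' ∈ o' := by
      have hz : a' ∈ (o'.erase p') \ s' := by rw [ht']; exact Finset.mem_singleton_self a'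
      exact Finset.mem_erase.mp (Finset.mem_sdiff.mp hz).1
    obtain ⟨σ, hσ, e1, e2, e3⟩ := exists_M24_octad_emb_out (k := 2) (by norm_num) ho ho'
      (emb2 (a := p) (b := a) (Ne.symm ha.1)) (emb2 (a := p') (b := a') (Ne.symm ha'.1))
      (emb2_mem _ hp ha.2) (emb2_mem _ hp' ha'.2) hq hq'
    have f0 : σ p = p' := e2 0
    have f1 : σ a = a' := e2 1
    refine ⟨σ, hσ, e1, f0, e3, ?_⟩
    rw [← Finset.sdiff_sdiff_eq_self h1, ← Finset.sdiff_sdiff_eq_self h1', ht, ht',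
      Finset.smul_finset_sdiff, smul_erase', Finset.smul_finset_singleton, e1, f0]
    show (o'.erase p') \ {σ a} = _
    rw [f1]

theorem rorb4_cBi {k : ℕ} (hk : k = 0 ∨ k = 2 ∨ k = 4 ∨ k = 6) {x x' : GolayPt → ℤ}
    (hx : x ∈ cBi k) (hx' : x' ∈ cBi k) : ROrb F4 x x' := by
  have hev : Even k := by rcases hk with rfl | rfl | rfl | rfl <;> decide
  have hxL := co2P_mem (cBi_sub hev hx)
  obtain ⟨o, ⟨ho, hn, h0⟩, s, hs, rfl⟩ := hx
  obtain ⟨o', ⟨ho', hn', h0'⟩, s', hs', rfl⟩ := hx'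
  obtain ⟨σ, hσ, h1, h2, h3, h4⟩ := octad_sub_trans ho ho' hn hn' h0 h0' hk hs hs'
  have s1 := rorb4_m22 hσ h2 h3 hxL
  rw [signedPerm_vB, h1, h4] at s1
  exact s1

theorem rorb4_cBz {k : ℕ} (hk : k = 0 ∨ k = 2 ∨ k = 4 ∨ k = 6) {x x' : GolayPt → ℤ}
    (hx : x ∈ cBz k) (hx' : x' ∈ cBz k) : ROrb F4 x x' := by
  have hev : Even k := by rcases hk with rfl | rfl | rfl | rfl <;> decide
  have hxL := co2P_mem (cBz_sub hev hx)
  obtain ⟨o, ⟨ho, hn, h0⟩, s, hs, rfl⟩ := hx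
  obtain ⟨o', ⟨ho', hn', h0'⟩, s', hs', rfl⟩ := hx'
  obtain ⟨σ, hσ, h1, h2, h3, h4⟩ := octad_sub_trans ho ho' h0 h0' hn hn' hk hs hs'
  have s1 := rorb4_m22 hσ h3 h2 hxL
  rw [signedPerm_vB, h1, h4] at s1
  exact s1

/-! ### code words through or off both base points -/

theorem gs2_8_oct2 {b : Finset GolayPt} (hb : b ∈ gs2 8) : b ∈ oct2 :=
  ⟨⟨hb.1, hb.2.1⟩, hb.2.2.1, hb.2.2.2⟩

theorem gsN_8_octN {b : Finset GolayPt} (hb : b ∈ gsN 8) : b ∈ octN :=
  ⟨⟨hb.1, hb.2.1⟩, hb.2.2.1, hb.2.2.2⟩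

theorem gsN_12_dodN {b : Finset GolayPt} (hb : b ∈ gsN 12) : b ∈ dodN :=
  ⟨⟨hb.1, hb.2.1⟩, hb.2.2.1, hb.2.2.2⟩

theorem gs2_12_dod {b : Finset GolayPt} (hb : b ∈ gs2 12) : b ∈ dodecads := ⟨hb.1, hb.2.1⟩

theorem gs2_16_compl {b : Finset GolayPt} (hb : b ∈ gs2 16) : bᶜ ∈ octN := by
  refine ⟨⟨compl_mem_supports hb.1, ?_⟩, ?_, ?_⟩
  · rw [Finset.card_compl, card_golayPt, hb.2.1]
  · rw [Finset.mem_compl, not_not]; exact hb.2.2.1
  · rw [Finset.mem_compl, not_not]; exact hb.2.2.2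

theorem gsN_16_compl {b : Finset GolayPt} (hb : b ∈ gsN 16) : bᶜ ∈ oct2 := by
  refine ⟨⟨compl_mem_supports hb.1, ?_⟩, ?_, ?_⟩
  · rw [Finset.card_compl, card_golayPt, hb.2.1]
  · rw [Finset.mem_compl]; exact hb.2.2.1
  · rw [Finset.mem_compl]; exact hb.2.2.2

theorem gs2_24_univ {b : Finset GolayPt} (hb : b ∈ gs2 24) : b = Finset.univ := by
  rw [← Finset.card_eq_iff_eq_univ, card_golayPt]
  exact hb.2.1

theorem gsN_0_empty {b : Finset GolayPt} (hb : b ∈ gsN 0) : b = ∅ :=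
  Finset.card_eq_zero.mp hb.2.1

theorem m22_transitive_gs2 {n : ℕ} {b b' : Finset GolayPt} (hb : b ∈ gs2 n) (hb' : b' ∈ gs2 n) :
    ∃ σ ∈ M24, σ none = none ∧ σ (some 0) = some 0 ∧ σ • b = b' := by
  have hne : (none : GolayPt) ≠ some 0 := by decide
  rcases gs2_param hb with rfl | rfl | rfl | rfl
  · have h := gs2_8_oct2 hb
    have h' := gs2_8_oct2 hb'
    obtain ⟨σ, hσ, h1, h2⟩ := exists_M24_octad_emb (k := 2) (by norm_num) h.1 h'.1
      (emb2 hne) (emb2 hne) (emb2_mem _ h.2.1 h.2.2) (emb2_mem _ h'.2.1 h'.2.2)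
    exact ⟨σ, hσ, h2 0, h2 1, h1⟩
  · have hd := gs2_12_dod hb
    have hd' := gs2_12_dod hb'
    have hz : ∀ i, emb2 hne i ∈ b := emb2_mem hne hb.2.2.1 hb.2.2.2
    have hz' : ∀ i, emb2 hne i ∈ b' := emb2_mem hne hb'.2.2.1 hb'.2.2.2
    have hfl : (b', emb2 hne) ∈ helper2.Golay.kflagSet 2 := ⟨hd', hz'⟩
    rw [← helper2.Golay.orbit_kflag (by norm_num) hd (emb2 hne) hz, MulAction.mem_orbit_iff] at hfl
    obtain ⟨g, hg⟩ := hfl
    rw [Prod.smul_mk, Prod.mk.injEq] at hg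
    obtain ⟨hg1, hg2⟩ := hg
    have e0 : g.1 none = none := DFunLike.congr_fun hg2 0
    have e1 : g.1 (some 0) = some 0 := DFunLike.congr_fun hg2 1
    exact ⟨g.1, g.2, e0, e1, hg1⟩
  · obtain ⟨σ, hσ, e0, e1, h1⟩ := m22_transitive_octN (gs2_16_compl hb) (gs2_16_compl hb')
    refine ⟨σ, hσ, e0, e1, ?_⟩
    rw [helper2.Golay.smul_compl] at h1
    exact compl_injective h1
  · refine ⟨1, Subgroup.one_mem _, rfl, rfl, ?_⟩
    rw [one_smul, gs2_24_univ hb, gs2_24_univ hb']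

theorem rorb4_cCi {n : ℕ} {x x' : GolayPt → ℤ} (hx : x ∈ cCi n) (hx' : x' ∈ cCi n) :
    ROrb F4 x x' := by
  have hxL := co2P_mem (cCi_sub n hx)
  obtain ⟨b, hb, rfl⟩ := hx
  obtain ⟨b', hb', rfl⟩ := hx'
  obtain ⟨σ, hσ, e0, e1, h1⟩ := m22_transitive_gs2 hb hb'
  have s1 := rorb4_m22 hσ e0 e1 hxL
  beta_reduce at s1
  rw [signedPerm_vC, e0, h1] at s1
  exact s1

theorem rorb4_cCz {n : ℕ} {x x' : GolayPt → ℤ} (hx : x ∈ cCz n) (hx' : x' ∈ cCz n) :
    ROrb F4 x x' := by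
  have hxL := co2P_mem (cCz_sub n hx)
  obtain ⟨b, hb, rfl⟩ := hx
  obtain ⟨b', hb', rfl⟩ := hx'
  obtain ⟨σ, hσ, e0, e1, h1⟩ := m22_transitive_gs2 hb hb'
  have s1 := rorb4_m22 hσ e0 e1 hxL
  beta_reduce at s1
  rw [signedPerm_vC, e1, h1] at s1
  exact s1

end Cfsg.Agent.helper27
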