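import Mathlib
import Cfsg.Agent.Lib_helper27_Co2p4

set_option autoImplicit false

namespace Cfsg.Agent.helper27

open Cfsg
open scoped Pointwise

/-! ### the classes with a distinguished third point -/

def oNGens : List (List ℕ × List ℕ) := [
  ([0, 13, 7, 5, 20, 17, 4, 9, 3, 21, 18, 2, 15, 12, 16, 22, 1, 6, 11, 19, 8, 10, 14, 23],
   [0, 16, 11, 8, 6, 3, 17, 2, 20, 7, 21, 18, 13, 1, 22, 12, 14, 5, 10, 19, 4, 9, 15, 23]),
  ([0, 12, 9, 21, 8, 18, 10, 11, 2, 4, 17, 5, 22, 13, 19, 1, 16, 20, 7, 14, 6, 3, 15, 23],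
   [0, 15, 8, 21, 9, 11, 20, 18, 4, 2, 6, 7, 1, 13, 19, 22, 16, 10, 5, 14, 17, 3, 12, 23])]

def oNTreeOut : List (ℕ × ℕ × ℕ) := [
  (4, 0, 0), (128, 0, 0), (512, 0, 1), (2048, 1, 1), (2097152, 2, 0), (16, 2, 1), (32, 3, 1), (1024, 4, 0), (8, 4, 1), (1048576, 5, 0), (256, 5, 1), (131072, 6, 0), (262144, 6, 1), (64, 9, 1)]

def bNGens : List (List ℕ × List ℕ) := [
  ([0, 3, 18, 19, 7, 22, 13, 4, 14, 11, 21, 8, 15, 16, 10, 6, 1, 2, 20, 12, 17, 5, 9, 23],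
   [0, 16, 17, 1, 7, 21, 15, 4, 11, 22, 14, 9, 19, 6, 8, 12, 13, 20, 2, 3, 18, 10, 5, 23]),
  ([0, 12, 1, 19, 9, 5, 13, 7, 22, 8, 11, 21, 15, 6, 10, 2, 17, 16, 3, 20, 18, 14, 4, 23],
   [0, 2, 15, 18, 22, 5, 13, 7, 9, 4, 14, 10, 1, 6, 21, 12, 17, 16, 20, 3, 19, 11, 8, 23])]

def bNTreeIn : List (ℕ × ℕ × ℕ) := [
  (2, 0, 0), (8, 0, 0), (4096, 0, 1), (524288, 1, 0), (32768, 2, 0), (1048576, 3, 1), (64, 4, 0), (4, 4, 1), (131072, 5, 0), (262144, 5, 1), (8192, 6, 0), (65536, 8, 1)]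

theorem oNGens_ok : helper2.Golay.cfgGensOK [23, 0] [4845570] oNGens = true := by
  decide +kernel

theorem oNTreeOut_ok : helper2.Golay.treeOK oNGens oNTreeOut = true := by decide +kernel

theorem oNout_pts : ∀ j : GolayPt, j ∉ helper2.Golay.pts 4845570 → j ≠ none → j ≠ some 0 →
    (helper2.Golay.pts (2 ^ helper2.Golay.idx j) = {j} ∧
      oNTreeOut.any (fun e => e.1 == 2 ^ helper2.Golay.idx j) = true) := by
  decide +kernel

theorem bNGens_ok : helper2.Golay.cfgGensOK [23, 0] [2076750] bNGens = true := by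
  decide +kernel

theorem bNTreeIn_ok : helper2.Golay.treeOK bNGens bNTreeIn = true := by decide +kernel

theorem bNin_pts : ∀ j : GolayPt, j ∈ helper2.Golay.pts 2076750 →
    (helper2.Golay.pts (2 ^ helper2.Golay.idx j) = {j} ∧
      bNTreeIn.any (fun e => e.1 == 2 ^ helper2.Golay.idx j) = true) := by
  decide +kernel

/-- the reference dodecad off both base points -/
def bN : Finset GolayPt := helper2.Golay.pts 2076750

theorem bN_mem : bN ∈ dodN := by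
  have h : bN = helper2.Golay.pts (helper2.Golay.cw 78) := by
    unfold bN
    congr 1
  refine ⟨?_, ?_, ?_⟩
  · rw [h]
    exact helper2.Golay.pts_mem_dodecads (by norm_num) (by decide)
  · unfold bN; rw [helper2.Golay.mem_pts]; decide
  · unfold bN; rw [helper2.Golay.mem_pts]; decide

theorem m22_transitive_octN_out {o : Finset GolayPt} (ho : o ∈ octN) {j : GolayPt} (hj : j ∉ o)
    (hjn : j ≠ none) (hj0 : j ≠ some 0) :
    ∃ σ ∈ M24, σ none = none ∧ σ (some 0) = some 0 ∧ σ • o = oN ∧ σ j = some 2 := by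
  obtain ⟨g1, hg1, e0, e1, hgo⟩ := m22_transitive_octN ho oN_mem
  have hj1 : g1 j ∉ oN := by
    rw [← hgo]
    intro hc
    exact hj ((Finset.smul_mem_smul_finset_iff g1).mp hc)
  have hjn1 : g1 j ≠ none := by
    intro hc
    rw [← e0] at hc
    exact hjn (g1.injective hc)
  have hj01 : g1 j ≠ some 0 := by
    intro hc
    rw [← e1] at hc
    exact hj0 (g1.injective hc)
  obtain ⟨hp, ht⟩ := oNout_pts (g1 j) hj1 hjn1 hj01
  have hroot : oNTreeOut.any (fun e => e.1 == 4) = true := by decide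
  obtain ⟨g2, hg2, hg2o⟩ := helper2.Golay.reach_gen (helper2.Golay.cfgStab [23, 0] [4845570])
    oNGens (helper2.Golay.cfgGens_mem oNGens_ok) oNTreeOut_ok ht hroot
  obtain ⟨hg2M, hfix, hset⟩ := helper2.Golay.mem_cfgStab.mp hg2
  have f0 : g2 none = none := hfix 23 (by decide)
  have f1 : g2 (some 0) = some 0 := hfix 0 (by decide)
  have f2 : g2 • oN = oN := hset 4845570 (by decide)
  have hp2 : helper2.Golay.pts 4 = {some 2} := by decide
  rw [hp, hp2, Finset.smul_finset_singleton, Finset.singleton_inj] at hg2o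
  refine ⟨g2 * g1, Subgroup.mul_mem _ hg2M hg1, ?_, ?_, ?_, ?_⟩
  · rw [Equiv.Perm.mul_apply, e0, f0]
  · rw [Equiv.Perm.mul_apply, e1, f1]
  · rw [mul_smul, hgo, f2]
  · rw [Equiv.Perm.mul_apply]
    exact hg2o

theorem m22_transitive_dodN_pt {b : Finset GolayPt} (hb : b ∈ dodN) {j : GolayPt} (hj : j ∈ b) :
    ∃ σ ∈ M24, σ none = none ∧ σ (some 0) = some 0 ∧ σ • b = bN ∧ σ j = some 1 := by
  obtain ⟨g1, hg1, e0, e1, hgo⟩ := exists_m22_dodN hb bN_mem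
  have hj1 : g1 j ∈ bN := by
    rw [← hgo]
    exact Finset.smul_mem_smul_finset hj
  obtain ⟨hp, ht⟩ := bNin_pts (g1 j) hj1
  have hroot : bNTreeIn.any (fun e => e.1 == 2) = true := by decide
  obtain ⟨g2, hg2, hg2o⟩ := helper2.Golay.reach_gen (helper2.Golay.cfgStab [23, 0] [2076750])
    bNGens (helper2.Golay.cfgGens_mem bNGens_ok) bNTreeIn_ok ht hroot
  obtain ⟨hg2M, hfix, hset⟩ := helper2.Golay.mem_cfgStab.mp hg2
  have f0 : g2 none = none := hfix 23 (by decide)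
  have f1 : g2 (some 0) = some 0 := hfix 0 (by decide)
  have f2 : g2 • bN = bN := hset 2076750 (by decide)
  have hp2 : helper2.Golay.pts 2 = {some 1} := by decide
  rw [hp, hp2, Finset.smul_finset_singleton, Finset.singleton_inj] at hg2o
  refine ⟨g2 * g1, Subgroup.mul_mem _ hg2M hg1, ?_, ?_, ?_, ?_⟩
  · rw [Equiv.Perm.mul_apply, e0, f0]
  · rw [Equiv.Perm.mul_apply, e1, f1]
  · rw [mul_smul, hgo, f2]
  · rw [Equiv.Perm.mul_apply]
    exact hg2o

/-! ### the classes `cC1in` -/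

theorem rorb4_cC1in_8_ref {x : GolayPt → ℤ} (hx : x ∈ cC1in 8) : ROrb F4 x (vC (some 1) oN) := by
  have hxL := co2P_mem (cC1in_sub 8 hx)
  obtain ⟨b, hb, j, hj, rfl⟩ := hx
  obtain ⟨σ, hσ, e0, e1, h1, h2⟩ := m22_transitive_octN_pt (gsN_8_octN hb) hj
  have s1 := rorb4_m22 hσ e0 e1 hxL
  rw [signedPerm_vC, h2, h1] at s1
  exact s1

theorem rorb4_cC1in_12_ref {x : GolayPt → ℤ} (hx : x ∈ cC1in 12) :
    ROrb F4 x (vC (some 1) bN) := by
  have hxL := co2P_mem (cC1in_sub 12 hx)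
  obtain ⟨b, hb, j, hj, rfl⟩ := hx
  obtain ⟨σ, hσ, e0, e1, h1, h2⟩ := m22_transitive_dodN_pt (gsN_12_dodN hb) hj
  have s1 := rorb4_m22 hσ e0 e1 hxL
  rw [signedPerm_vC, h2, h1] at s1
  exact s1

theorem rorb4_cC1in_16 {x x' : GolayPt → ℤ} (hx : x ∈ cC1in 16) (hx' : x' ∈ cC1in 16) :
    ROrb F4 x x' := by
  have hxL := co2P_mem (cC1in_sub 16 hx)
  have hne : (none : GolayPt) ≠ some 0 := by decide
  obtain ⟨b, hb, j, hj, rfl⟩ := hx
  obtain ⟨b', hb', j', hj', rfl⟩ := hx'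
  have ho := gsN_16_compl hb
  have ho' := gsN_16_compl hb'
  obtain ⟨σ, hσ, h1, h2, h3⟩ := exists_M24_octad_emb_out (k := 2) (by norm_num) ho.1 ho'.1
    (emb2 hne) (emb2 hne) (emb2_mem _ ho.2.1 ho.2.2) (emb2_mem _ ho'.2.1 ho'.2.2)
    (q := j) (q' := j') (by rw [Finset.mem_compl, not_not]; exact hj)
    (by rw [Finset.mem_compl, not_not]; exact hj')
  have e0 : σ none = none := h2 0
  have e1 : σ (some 0) = some 0 := h2 1
  rw [helper2.Golay.smul_compl] at h1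
  have h1' := compl_injective h1
  have s1 := rorb4_m22 hσ e0 e1 hxL
  rw [signedPerm_vC, h3, h1'] at s1
  exact s1

theorem rorb4_cC1in {n : ℕ} {x x' : GolayPt → ℤ} (hx : x ∈ cC1in n) (hx' : x' ∈ cC1in n) :
    ROrb F4 x x' := by
  rcases cC1in_param hx with rfl | rfl | rfl
  · exact (rorb4_cC1in_8_ref hx).trans (rorb4_cC1in_8_ref hx').symm
  · exact (rorb4_cC1in_12_ref hx).trans (rorb4_cC1in_12_ref hx').symm
  · exact rorb4_cC1in_16 hx hx'

/-! ### the classes `cC1out` -/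

theorem rorb4_cC1out_0 {x x' : GolayPt → ℤ} (hx : x ∈ cC1out 0) (hx' : x' ∈ cC1out 0) :
    ROrb F4 x x' := by
  have hxL := co2P_mem (cC1out_sub 0 hx)
  obtain ⟨b, hb, j, hj, rfl⟩ := hx
  obtain ⟨b', hb', j', hj', rfl⟩ := hx'
  have hj1 := Finset.mem_erase.mp hj
  have hj2 := Finset.mem_erase.mp hj1.2
  have hj1' := Finset.mem_erase.mp hj'
  have hj2' := Finset.mem_erase.mp hj1'.2
  rw [gsN_0_empty hb, gsN_0_empty hb']
  obtain ⟨σ, hσ, e0, e1, e2⟩ := exists_M24_three (a := none) (b := some 0) (c := j) (a' := none)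
    (b' := some 0) (c' := j') (by decide) (Ne.symm hj2.1) (Ne.symm hj1.1) (by decide)
    (Ne.symm hj2'.1) (Ne.symm hj1'.1)
  have hL : vC j ∅ ∈ leechLattice := by
    rw [gsN_0_empty hb] at hxL
    exact hxL
  have s1 := rorb4_m22 hσ e0 e1 hL
  rw [signedPerm_vC, e2, Finset.smul_finset_empty] at s1
  exact s1

theorem rorb4_cC1out_8_ref {x : GolayPt → ℤ} (hx : x ∈ cC1out 8) :
    ROrb F4 x (vC (some 2) oN) := by
  have hxL := co2P_mem (cC1out_sub 8 hx)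
  obtain ⟨b, hb, j, hj, rfl⟩ := hx
  have hj1 := Finset.mem_erase.mp hj
  have hj2 := Finset.mem_erase.mp hj1.2
  obtain ⟨σ, hσ, e0, e1, h1, h2⟩ := m22_transitive_octN_out (gsN_8_octN hb)
    (Finset.mem_compl.mp hj2.2) hj2.1 hj1.1
  have s1 := rorb4_m22 hσ e0 e1 hxL
  rw [signedPerm_vC, h2, h1] at s1
  exact s1

theorem rorb4_cC1out_12 {x x' : GolayPt → ℤ} (hx : x ∈ cC1out 12) (hx' : x' ∈ cC1out 12) :
    ROrb F4 x x' := by
  have hxL := co2P_mem (cC1out_sub 12 hx)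
  obtain ⟨b, hb, j, hj, rfl⟩ := hx
  obtain ⟨b', hb', j', hj', rfl⟩ := hx'
  have hj1 := Finset.mem_erase.mp hj
  have hj2 := Finset.mem_erase.mp hj1.2
  have hj1' := Finset.mem_erase.mp hj'
  have hj2' := Finset.mem_erase.mp hj1'.2
  have hd := helper2.Golay.compl_mem_dodecads (gsN_12_dodN hb).1
  have hd' := helper2.Golay.compl_mem_dodecads (gsN_12_dodN hb').1
  have hne : (none : GolayPt) ≠ some 0 := by decide
  have hz : ∀ i, emb3 hne (Ne.symm hj2.1) (Ne.symm hj1.1) i ∈ bᶜ :=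
    emb3_mem _ _ _ (Finset.mem_compl.mpr hb.2.2.1) (Finset.mem_compl.mpr hb.2.2.2) hj2.2
  have hz' : ∀ i, emb3 hne (Ne.symm hj2'.1) (Ne.symm hj1'.1) i ∈ b'ᶜ :=
    emb3_mem _ _ _ (Finset.mem_compl.mpr hb'.2.2.1) (Finset.mem_compl.mpr hb'.2.2.2) hj2'.2
  have hfl : (b'ᶜ, emb3 hne (Ne.symm hj2'.1) (Ne.symm hj1'.1)) ∈ helper2.Golay.kflagSet 3 :=
    ⟨hd', hz'⟩
  rw [← helper2.Golay.orbit_kflag (by norm_num) hd _ hz, MulAction.mem_orbit_iff] at hfl
  obtain ⟨g, hg⟩ := hfl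
  rw [Prod.smul_mk, Prod.mk.injEq] at hg
  obtain ⟨hg1, hg2⟩ := hg
  have e0 : g.1 none = none := DFunLike.congr_fun hg2 0
  have e1 : g.1 (some 0) = some 0 := DFunLike.congr_fun hg2 1
  have e2 : g.1 j = j' := DFunLike.congr_fun hg2 2
  have h1 : g.1 • bᶜ = b'ᶜ := hg1
  rw [helper2.Golay.smul_compl] at h1
  have h1' := compl_injective h1
  have s1 := rorb4_m22 g.2 e0 e1 hxL
  rw [signedPerm_vC, e2, h1'] at s1
  exact s1

theorem rorb4_cC1out_16 {x x' : GolayPt → ℤ} (hx : x ∈ cC1out 16) (hx' : x' ∈ cC1out 16) :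
    ROrb F4 x x' := by
  have hxL := co2P_mem (cC1out_sub 16 hx)
  have hne : (none : GolayPt) ≠ some 0 := by decide
  obtain ⟨b, hb, j, hj, rfl⟩ := hx
  obtain ⟨b', hb', j', hj', rfl⟩ := hx'
  have hj1 := Finset.mem_erase.mp hj
  have hj2 := Finset.mem_erase.mp hj1.2
  have hj1' := Finset.mem_erase.mp hj'
  have hj2' := Finset.mem_erase.mp hj1'.2
  have ho := gsN_16_compl hb
  have ho' := gsN_16_compl hb'
  obtain ⟨σ, hσ, h1, h2⟩ := exists_M24_octad_emb (k := 3) (by norm_num) ho.1 ho'.1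
    (emb3 hne (Ne.symm hj2.1) (Ne.symm hj1.1)) (emb3 hne (Ne.symm hj2'.1) (Ne.symm hj1'.1))
    (emb3_mem _ _ _ ho.2.1 ho.2.2 hj2.2) (emb3_mem _ _ _ ho'.2.1 ho'.2.2 hj2'.2)
  have e0 : σ none = none := h2 0
  have e1 : σ (some 0) = some 0 := h2 1
  have e2 : σ j = j' := h2 2
  rw [helper2.Golay.smul_compl] at h1
  have h1' := compl_injective h1
  have s1 := rorb4_m22 hσ e0 e1 hxL
  rw [signedPerm_vC, e2, h1'] at s1
  exact s1

theorem rorb4_cC1out {n : ℕ} {x x' : GolayPt → ℤ} (hx : x ∈ cC1out n) (hx' : x' ∈ cC1out n) :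
    ROrb F4 x x' := by
  rcases cC1out_param hx with rfl | rfl | rfl | rfl
  · exact rorb4_cC1out_0 hx hx'
  · exact (rorb4_cC1out_8_ref hx).trans (rorb4_cC1out_8_ref hx').symm
  · exact rorb4_cC1out_12 hx hx'
  · exact rorb4_cC1out_16 hx hx'

end Cfsg.Agent.helper27
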