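import Mathlib
import Cfsg.Agent.Lib_helper27_Co2p5

set_option autoImplicit false

namespace Cfsg.Agent.helper27

open Cfsg
open scoped Pointwise

/-! ### fusing links -/

theorem gmap_Bi0_C10out : gmap (vB (cw 84) ∅) = vC (some 11) (cw 0) := by
  have e : vB (cw 84) ∅ = ofList [0, 0, 2, 0, 2, 0, 2, 0, 0, 0, 0, 0, 0, 0, 2, 0, 2, 2, 0, 0, 0, 2, 0, 2] := by
    decide
  have e' : vC (some 11) (cw 0) = ofList [1, 1, 1, 1, 1, 1, 1, 1, 1, 1, 1, -3, 1, 1, 1, 1, 1, 1, 1, 1, 1, 1, 1, 1] := by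
    decide
  rw [e, e']
  exact gmap_chain _
    [2, 0, 0, 2, 2, 0, 2, 2, 0, 0, 0, 0, 0, 0, 2, 0, 0, 0, 0, 0, 0, 0, 2, 2]
    [0, 0, 0, 2, 2, 0, 0, 0, 0, 0, 0, 0, 0, 0, 0, 0, 2, 0, 2, 0, 2, 2, 2, 2]
    [1, 1, 1, 1, -1, -1, -1, -1, -1, -1, -1, -1, -1, -3, -1, -1, -1, -1, 1, -1, 1, 1, -1, -1]
    [1, 1, 1, -1, 1, -1, -1, -1, -1, -1, -1, -1, -1, -3, -1, -1, 1, -1, -1, -1, -1, -1, 1, 1]
    [1, 1, 1, 1, 1, 1, 1, 1, 1, 1, 1, 1, 1, -3, 1, 1, 1, 1, 1, 1, 1, 1, 1, 1]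
    _ (by decide) (by decide) (by decide) (by decide) (by decide) (by decide)

theorem gmap_Bi0_Ci8 : gmap (vB (cw 4) ∅) = vC (none) (cw 47) := by
  have e : vB (cw 4) ∅ = ofList [0, 0, 2, 0, 0, 0, 0, 0, 0, 0, 0, 0, 2, 2, 0, 2, 0, 0, 2, 0, 2, 0, 2, 2] := by
    decide
  have e' : vC (none) (cw 47) = ofList [-1, -1, -1, -1, 1, -1, 1, 1, 1, 1, 1, 1, 1, 1, -1, 1, 1, -1, 1, 1, 1, 1, 1, 3] := by
    decide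
  rw [e, e']
  exact gmap_chain _
    [0, 2, 0, 0, 0, 0, 2, 0, 0, 2, 2, 2, 0, 0, 0, 0, 0, 0, 2, 2, 0, 0, 0, 2]
    [0, 0, 2, 2, 0, 2, 0, 0, 2, 2, 0, 0, 0, 0, 0, 0, 0, 2, 0, 2, 0, 0, 2, 0]
    [1, 1, -1, -1, -1, -1, -1, -1, 1, 1, -1, -1, -1, -1, -3, -1, -1, -1, -1, 1, -1, -1, 1, 1]
    [1, 3, 1, -1, -1, 1, 1, -1, -1, 1, -1, -1, -1, -1, -1, -1, -1, 1, -1, -1, 1, 1, -1, -1]
    [1, -1, 1, -1, 1, 1, 1, -1, 1, 1, -1, 1, 1, 1, -1, -1, 1, 1, 1, -1, 1, 1, 1, 3]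
    _ (by decide) (by decide) (by decide) (by decide) (by decide) (by decide)

theorem gmap_Bi2_Bz0 : gmap (vB (cw 64) {some 19, some 22}) = vB (cw 659) ∅ := by
  have e : vB (cw 64) {some 19, some 22} = ofList [0, 0, 0, 0, 0, 0, 2, 0, 0, 0, 0, 0, 0, 0, 2, 2, 0, 0, 2, -2, 0, 2, -2, 2] := by
    decide
  have e' : vB (cw 659) ∅ = ofList [2, 2, 0, 0, 2, 0, 0, 2, 0, 2, 0, 0, 0, 0, 0, 0, 0, 0, 0, 0, 2, 2, 2, 0] := by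
    decide
  rw [e, e']
  exact gmap_chain _
    [0, 2, 0, 2, 0, 0, 0, 2, 0, 0, -2, 0, 0, 0, 2, -2, 0, 0, 0, 2, 0, 0, 0, 2]
    [0, 0, 2, 2, 0, 0, -2, 0, 0, 2, 0, 0, 0, 0, 0, 0, 2, 0, 2, -2, 0, 2, 0, 0]
    [1, 1, -1, 1, -1, -1, -1, 1, -1, 1, -1, -1, -1, -1, -1, -1, 1, -1, 1, -1, -1, 3, -1, 1]
    [1, 1, 1, -1, 1, -1, 1, -1, 1, -1, -1, -1, -1, -1, 1, -1, -1, -1, -1, -1, 1, -1, -1, 3]
    [2, 2, 2, 0, 2, 0, 2, 0, 2, 0, 0, 0, 0, 0, 2, 0, 0, 0, 0, 0, 2, 0, 0, 0]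
    _ (by decide) (by decide) (by decide) (by decide) (by decide) (by decide)

theorem gmap_Bi2_C18in : gmap (vB (cw 4) {some 12, some 13}) = vC (some 19) (cw 232) := by
  have e : vB (cw 4) {some 12, some 13} = ofList [0, 0, 2, 0, 0, 0, 0, 0, 0, 0, 0, 0, -2, -2, 0, 2, 0, 0, 2, 0, 2, 0, 2, 2] := by
    decide
  have e' : vC (some 19) (cw 232) = ofList [1, 1, 1, -1, 1, -1, -1, -1, 1, 1, 1, 1, 1, 1, -1, 1, 1, -1, 1, 3, 1, -1, 1, 1] := by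
    decide
  rw [e, e']
  exact gmap_chain _
    [0, 2, 0, 0, 0, 0, 2, 0, 0, 2, 2, -2, 0, 0, 0, 0, 0, 0, -2, 2, 0, 0, 0, 2]
    [0, 0, 2, 2, 0, -2, 0, 0, 2, 2, 0, 0, 0, 0, 0, 0, 0, -2, 0, 2, 0, 0, 2, 0]
    [1, 1, -1, 3, -1, -1, -1, -1, 1, 1, -1, -1, -1, -1, 1, -1, -1, -1, -1, 1, -1, -1, 1, 1]
    [1, -1, 1, -1, -1, 1, 1, -1, -1, 1, -1, -1, -1, -1, -1, -1, -1, -3, -1, -1, 1, 1, -1, -1]
    [-1, 1, -1, 1, 1, 3, 1, -1, 1, 1, -1, 1, 1, 1, 1, -1, 1, -1, 1, -1, 1, 1, 1, 1]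
    _ (by decide) (by decide) (by decide) (by decide) (by decide) (by decide)

theorem gmap_Bi2_Ci12 : gmap (vB (cw 4) {some 2, some 15}) = vC (none) (cw 1343) := by
  have e : vB (cw 4) {some 2, some 15} = ofList [0, 0, -2, 0, 0, 0, 0, 0, 0, 0, 0, 0, 2, 2, 0, -2, 0, 0, 2, 0, 2, 0, 2, 2] := by
    decide
  have e' : vC (none) (cw 1343) = ofList [-1, -1, -1, -1, -1, -1, 1, 1, -1, 1, -1, 1, 1, 1, 1, 1, -1, 1, -1, 1, -1, 1, 1, 3] := by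
    decide
  rw [e, e']
  exact gmap_chain _
    [0, -2, 0, 0, 0, 0, -2, 0, 0, 2, 2, 2, 0, 0, 0, 0, 0, 0, 2, 2, 0, 0, 0, 2]
    [0, 0, -2, 2, 0, 2, 0, 0, 2, 2, 0, 0, 0, 0, 0, 0, 0, 2, 0, 2, 0, 0, -2, 0]
    [-1, -1, 1, -1, 1, -1, -1, -1, 1, 1, -1, -1, -1, 1, -3, -1, 1, -1, -1, 1, -1, -1, -1, -1]
    [1, 3, 1, -1, -1, 1, 1, 1, 1, -1, -1, -1, 1, 1, -1, -1, -1, 1, -1, 1, -1, 1, 1, -1]
    [1, -1, 1, -1, -1, 1, -1, -1, 1, 1, 1, -1, 1, 1, -1, 1, -1, 1, -1, -1, 1, -1, 1, 3]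
    _ (by decide) (by decide) (by decide) (by decide) (by decide) (by decide)

theorem gmap_Bi4_Bz2 : gmap (vB (cw 4) {some 2, some 12, some 13, some 22}) = vB (cw 2639) {some 3, some 6} := by
  have e : vB (cw 4) {some 2, some 12, some 13, some 22} = ofList [0, 0, -2, 0, 0, 0, 0, 0, 0, 0, 0, 0, -2, -2, 0, 2, 0, 0, 2, 0, 2, 0, -2, 2] := by
    decide
  have e' : vB (cw 2639) {some 3, some 6} = ofList [2, 2, 2, -2, 0, 0, -2, 0, 0, 2, 0, 2, 0, 0, 0, 0, 0, 0, 0, 0, 0, 0, 2, 0] := by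
    decide
  rw [e, e']
  exact gmap_chain _
    [0, 2, 0, 0, 0, 0, -2, 0, 0, 2, -2, -2, 0, 0, 0, 0, 0, 0, -2, 2, 0, 0, 0, 2]
    [0, 0, 2, 2, 0, -2, 0, 0, 2, 2, 0, 0, 0, 0, 0, 0, 0, -2, 0, -2, 0, 0, -2, 0]
    [1, 1, -1, 3, 1, -1, 1, 1, 1, 1, -1, -1, -1, 1, 1, -1, 1, -1, -1, -1, -1, 1, -1, 1]
    [1, -1, 1, 1, -1, -1, 1, 1, 1, -1, -1, -1, -1, 1, 1, -1, -1, -3, -1, -1, 1, 1, -1, 1]
    [0, 2, 0, 2, 0, 0, 0, 0, 2, 0, 0, 0, 0, 2, 2, 0, 0, -2, 0, -2, 2, 0, 0, 0]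
    _ (by decide) (by decide) (by decide) (by decide) (by decide) (by decide)

theorem gmap_Bi4_C112in : gmap (vB (cw 4) {some 2, some 12, some 13, some 15}) = vC (some 19) (cw 1528) := by
  have e : vB (cw 4) {some 2, some 12, some 13, some 15} = ofList [0, 0, -2, 0, 0, 0, 0, 0, 0, 0, 0, 0, -2, -2, 0, -2, 0, 0, 2, 0, 2, 0, 2, 2] := by
    decide
  have e' : vC (some 19) (cw 1528) = ofList [1, 1, 1, -1, -1, -1, -1, -1, -1, 1, -1, 1, 1, 1, 1, 1, -1, 1, -1, 3, -1, -1, 1, 1] := by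
    decide
  rw [e, e']
  exact gmap_chain _
    [0, -2, 0, 0, 0, 0, -2, 0, 0, 2, 2, -2, 0, 0, 0, 0, 0, 0, -2, 2, 0, 0, 0, 2]
    [0, 0, -2, 2, 0, -2, 0, 0, 2, 2, 0, 0, 0, 0, 0, 0, 0, -2, 0, 2, 0, 0, -2, 0]
    [-1, -1, 1, 3, 1, -1, -1, -1, 1, 1, -1, -1, -1, 1, 1, -1, 1, -1, -1, 1, -1, -1, -1, -1]
    [1, -1, 1, -1, -1, 1, 1, 1, 1, -1, -1, -1, 1, 1, -1, -1, -1, -3, -1, 1, -1, 1, 1, -1]
    [-1, 1, -1, 1, -1, 3, -1, -1, 1, 1, 1, -1, 1, 1, 1, 1, -1, -1, -1, -1, 1, -1, 1, 1]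
    _ (by decide) (by decide) (by decide) (by decide) (by decide) (by decide)

theorem gmap_Bi4_C18out : gmap (vB (cw 6) {some 1, some 2, some 14, some 19}) = vC (some 3) (cw 116) := by
  have e : vB (cw 6) {some 1, some 2, some 14, some 19} = ofList [0, -2, -2, 0, 0, 0, 0, 0, 0, 0, 0, 0, 0, 0, -2, 0, 2, 0, 2, -2, 2, 0, 0, 2] := by
    decide
  have e' : vC (some 3) (cw 116) = ofList [1, 1, -1, -3, -1, -1, -1, 1, 1, 1, 1, 1, 1, -1, 1, 1, -1, 1, -1, 1, -1, 1, 1, 1] := by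
    decide
  rw [e, e']
  exact gmap_chain _
    [2, 0, 0, -2, 0, -2, -2, 0, 0, 2, 0, 0, 0, 0, 0, -2, 0, 0, 0, 2, 0, 0, 0, 2]
    [0, 0, 0, 2, 0, 0, -2, 0, 2, 2, 0, 0, -2, 0, 0, 0, 0, 0, -2, 0, 0, 0, -2, 2]
    [1, 1, 1, 1, 1, -1, -1, 1, 3, 1, -1, 1, -1, 1, -1, -1, 1, -1, -1, 1, -1, 1, -1, -1]
    [1, 1, 1, -1, -1, 1, 1, 1, 1, -1, -1, 1, -1, 1, 1, -1, -1, -1, -1, -1, -1, 3, 1, 1]
    [1, 1, 1, -1, -1, 1, -1, -1, 1, 1, 1, 1, -1, 1, 1, 1, -1, -1, -1, -3, 1, 1, 1, 1]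
    _ (by decide) (by decide) (by decide) (by decide) (by decide) (by decide)

theorem gmap_Bi4_Ci16 : gmap (vB (cw 4) {some 2, some 15, some 18, some 20}) = vC (none) (cw 3863) := by
  have e : vB (cw 4) {some 2, some 15, some 18, some 20} = ofList [0, 0, -2, 0, 0, 0, 0, 0, 0, 0, 0, 0, 2, 2, 0, -2, 0, 0, -2, 0, -2, 0, 2, 2] := by
    decide
  have e' : vC (none) (cw 3863) = ofList [-1, -1, -1, 1, -1, 1, 1, 1, -1, -1, -1, -1, -1, -1, 1, -1, -1, 1, -1, 1, -1, 1, -1, 3] := by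
    decide
  rw [e, e']
  exact gmap_chain _
    [0, -2, 0, 0, 0, 0, -2, 0, 0, -2, 2, 2, 0, 0, 0, 0, 0, 0, 2, -2, 0, 0, 0, 2]
    [0, 0, -2, 2, 0, 2, 0, 0, -2, -2, 0, 0, 0, 0, 0, 0, 0, 2, 0, 2, 0, 0, -2, 0]
    [-1, -1, 1, -1, 1, -1, -1, -1, -1, -1, 1, 1, 1, 1, -3, 1, 1, -1, 1, 1, 1, -1, -1, -1]
    [1, 3, 1, -1, 1, 1, -1, 1, 1, -1, 1, 1, 1, 1, -1, 1, 1, 1, 1, 1, -1, -1, 1, -1]
    [1, -1, 1, -1, -1, 1, -1, 1, -1, -1, 1, -1, -1, -1, -1, 1, -1, 1, -1, 1, -1, -1, -1, 3]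
    _ (by decide) (by decide) (by decide) (by decide) (by decide) (by decide)

theorem gmap_Bz2_Cz8 : gmap (vB (cw 65) {some 12, some 19}) = vC (some 0) (cw 2189) := by
  have e : vB (cw 65) {some 12, some 19} = ofList [2, 0, 0, 0, 0, 0, 2, 0, 0, 0, 0, 0, -2, 0, 0, 2, 2, 2, 0, -2, 0, 2, 0, 0] := by
    decide
  have e' : vC (some 0) (cw 2189) = ofList [3, 1, -1, -1, 1, 1, 1, -1, 1, 1, 1, -1, 1, -1, 1, -1, 1, 1, 1, 1, 1, 1, 1, -1] := by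
    decide
  rw [e, e']
  exact gmap_chain _
    [2, 2, 2, 0, 0, 0, 0, 2, 0, 0, 0, 0, 0, 0, 2, -2, 0, 0, -2, 0, 0, 0, 2, 0]
    [0, 0, 2, 0, 2, 0, -2, 0, 0, 0, 0, 0, 0, 0, 2, 0, 2, -2, 0, 0, 0, 2, 0, 2]
    [2, 2, 0, 0, 0, 0, -2, 0, 0, 0, 0, 0, 0, -2, 2, 0, 0, -2, 0, 0, 0, 2, -2, 0]
    [0, -2, 2, -2, 0, 0, 0, 0, 0, -2, 0, 0, -2, -2, 0, 0, 0, 0, 0, -2, 0, 0, 0, 2]
    [1, 3, -1, -1, 1, 1, 1, 1, 1, -1, 1, 1, -1, -1, 1, 1, 1, 1, 1, -1, 1, 1, 1, -1]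
    _ (by decide) (by decide) (by decide) (by decide) (by decide) (by decide)

theorem gmap_Bi6_Bz4 : gmap (vB (cw 4) {some 2, some 12, some 13, some 15, some 18, some 22}) = vB (cw 343) {some 4, some 6, some 8, some 20} := by
  have e : vB (cw 4) {some 2, some 12, some 13, some 15, some 18, some 22} = ofList [0, 0, -2, 0, 0, 0, 0, 0, 0, 0, 0, 0, -2, -2, 0, -2, 0, 0, -2, 0, 2, 0, -2, 2] := by
    decide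
  have e' : vB (cw 343) {some 4, some 6, some 8, some 20} = ofList [2, 2, 2, 0, -2, 0, -2, 0, -2, 0, 0, 0, 0, 0, 2, 0, 0, 0, 0, 0, -2, 0, 0, 0] := by
    decide
  rw [e, e']
  exact gmap_chain _
    [0, -2, 0, 0, 0, 0, -2, 0, 0, 2, -2, -2, 0, 0, 0, 0, 0, 0, -2, -2, 0, 0, 0, 2]
    [0, 0, -2, 2, 0, -2, 0, 0, 2, -2, 0, 0, 0, 0, 0, 0, 0, -2, 0, -2, 0, 0, -2, 0]
    [-1, -1, 1, 3, 1, -1, 1, 1, 1, -1, 1, -1, -1, 1, 1, 1, 1, -1, -1, -1, 1, 1, -1, -1]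
    [1, -1, 1, 1, -1, -1, -1, 1, 1, -1, 1, -1, 1, 1, 1, -1, 1, -3, 1, 1, -1, 1, 1, 1]
    [0, 2, 0, 2, -2, 0, -2, 0, 0, 0, 2, -2, 0, 0, 2, 0, 0, -2, 0, 0, 0, 0, 0, 0]
    _ (by decide) (by decide) (by decide) (by decide) (by decide) (by decide)

theorem gmap_Bi6_C112out : gmap (vB (cw 6) {some 1, some 2, some 14, some 16, some 18, some 19}) = vC (some 20) (cw 380) := by
  have e : vB (cw 6) {some 1, some 2, some 14, some 16, some 18, some 19} = ofList [0, -2, -2, 0, 0, 0, 0, 0, 0, 0, 0, 0, 0, 0, -2, 0, -2, 0, -2, -2, 2, 0, 0, 2] := by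
    decide
  have e' : vC (some 20) (cw 380) = ofList [1, 1, -1, -1, -1, -1, -1, 1, -1, 1, 1, 1, -1, -1, 1, -1, 1, -1, -1, 1, -3, 1, -1, 1] := by
    decide
  rw [e, e']
  exact gmap_chain _
    [-2, 0, 0, -2, 0, -2, -2, 0, 0, 2, 0, 0, 0, 0, 0, -2, 0, 0, 0, -2, 0, 0, 0, 2]
    [0, 0, 0, 2, 0, 0, -2, 0, 2, -2, 0, 0, -2, 0, 0, 0, 0, 0, -2, 0, 0, 0, -2, -2]
    [-1, -1, -1, 1, 1, -1, -1, 1, 3, -1, 1, 1, -1, 1, -1, 1, 1, -1, -1, 1, 1, 1, -1, 1]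
    [1, 1, 1, -1, -1, 1, -1, 1, 1, -1, 1, 1, 1, 1, 1, -1, 1, -1, 1, 1, 1, 3, -1, 1]
    [1, 1, 1, -1, -1, 1, -3, -1, -1, -1, 1, -1, -1, 1, 1, -1, 1, -1, -1, -1, 1, 1, -1, 1]
    _ (by decide) (by decide) (by decide) (by decide) (by decide) (by decide)

theorem gmap_Bi6_C116in : gmap (vB (cw 4) {some 2, some 12, some 13, some 15, some 18, some 20}) = vC (some 19) (cw 4048) := by
  have e : vB (cw 4) {some 2, some 12, some 13, some 15, some 18, some 20} = ofList [0, 0, -2, 0, 0, 0, 0, 0, 0, 0, 0, 0, -2, -2, 0, -2, 0, 0, -2, 0, -2, 0, 2, 2] := by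
    decide
  have e' : vC (some 19) (cw 4048) = ofList [1, 1, 1, 1, -1, 1, -1, -1, -1, -1, -1, -1, -1, -1, 1, -1, -1, 1, -1, 3, -1, -1, -1, 1] := by
    decide
  rw [e, e']
  exact gmap_chain _
    [0, -2, 0, 0, 0, 0, -2, 0, 0, -2, 2, -2, 0, 0, 0, 0, 0, 0, -2, -2, 0, 0, 0, 2]
    [0, 0, -2, 2, 0, -2, 0, 0, -2, -2, 0, 0, 0, 0, 0, 0, 0, -2, 0, 2, 0, 0, -2, 0]
    [-1, -1, 1, 3, 1, -1, -1, -1, -1, -1, 1, 1, 1, 1, 1, 1, 1, -1, 1, 1, 1, -1, -1, -1]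
    [1, -1, 1, -1, 1, 1, -1, 1, 1, -1, 1, 1, 1, 1, -1, 1, 1, -3, 1, 1, -1, -1, 1, -1]
    [-1, 1, -1, 1, -1, 3, -1, 1, -1, -1, 1, -1, -1, -1, 1, 1, -1, -1, -1, 1, -1, -1, -1, 1]
    _ (by decide) (by decide) (by decide) (by decide) (by decide) (by decide)

theorem gmap_Bz4_Cz12 : gmap (vB (cw 7) {some 1, some 12, some 19, some 22}) = vC (some 0) (cw 2285) := by
  have e : vB (cw 7) {some 1, some 12, some 19, some 22} = ofList [2, -2, 2, 0, 0, 0, 0, 0, 0, 0, 0, 0, -2, 0, 0, 0, 0, 2, 0, -2, 2, 0, -2, 0] := by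
    decide
  have e' : vC (some 0) (cw 2285) = ofList [3, 1, -1, -1, 1, -1, -1, -1, 1, 1, 1, -1, 1, 1, 1, 1, 1, -1, 1, -1, -1, 1, -1, -1] := by
    decide
  rw [e, e']
  exact gmap_chain _
    [0, 0, 2, 0, 0, -2, 2, 0, 0, 2, -2, 0, 0, 0, 0, -2, 0, 0, -2, 0, 0, 0, 2, 0]
    [0, 0, 0, 0, 2, 0, -2, 0, 2, 0, 0, 0, -2, 0, 2, 0, 0, -2, 0, -2, 0, 0, 2, 0]
    [0, 0, 0, 0, 0, 0, 0, 2, 2, 0, 0, 0, -2, -2, 2, 0, -2, -2, 0, 0, 0, 2, 0, 0]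
    [0, -2, 2, 0, 0, 0, 0, 0, -2, 0, 0, 0, 0, -2, 2, -2, 0, 0, 0, 0, 0, 2, 0, 2]
    [1, 3, -1, -1, 1, -1, -1, -1, -1, 1, 1, 1, 1, -1, 1, -1, 1, -1, 1, -1, 1, 1, 1, -1]
    _ (by decide) (by decide) (by decide) (by decide) (by decide) (by decide)

theorem gmap_Bz6_C116out : gmap (vB (cw 5) {some 2, some 14, some 15, some 16, some 17, some 20}) = vC (some 18) (cw 1974) := by
  have e : vB (cw 5) {some 2, some 14, some 15, some 16, some 17, some 20} = ofList [2, 0, -2, 0, 0, 0, 0, 0, 0, 0, 0, 0, 0, 2, -2, -2, -2, -2, 0, 0, -2, 0, 0, 0] := by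
    decide
  have e' : vC (some 18) (cw 1974) = ofList [1, -1, -1, 1, -1, -1, 1, -1, -1, -1, -1, 1, -1, -1, -1, -1, -1, 1, -3, -1, -1, 1, -1, 1] := by
    decide
  rw [e, e']
  exact gmap_chain _
    [-2, -2, 2, -2, 0, 0, -2, 0, 0, -2, 0, 2, 0, 0, 0, 0, 0, 0, 0, 0, 0, 0, -2, 0]
    [0, 0, -2, 0, -2, 2, 0, 0, -2, 0, 0, 0, 0, 0, 2, 0, 0, 0, -2, 0, 0, 0, -2, -2]
    [-2, -2, 0, -2, 0, 0, 0, 0, 0, 0, 0, 2, 2, 2, 0, 0, 2, -2, 0, 0, 0, 0, 0, 0]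
    [0, 0, 2, 0, 0, 0, 0, 0, 2, 0, 0, 2, 2, 2, 0, 2, 0, 2, 0, 2, 0, 0, 0, 0]
    [1, 1, -1, -1, -1, -1, -1, -1, -1, -1, -1, -1, -1, 1, -1, 1, -1, 1, -3, 1, -1, -1, -1, 1]
    _ (by decide) (by decide) (by decide) (by decide) (by decide) (by decide)

theorem gmap_Bz6_Cz16 : gmap (vB (cw 7) {some 1, some 2, some 12, some 17, some 19, some 22}) = vC (some 0) (cw 509) := by
  have e : vB (cw 7) {some 1, some 2, some 12, some 17, some 19, some 22} = ofList [2, -2, -2, 0, 0, 0, 0, 0, 0, 0, 0, 0, -2, 0, 0, 0, 0, -2, 0, -2, 2, 0, -2, 0] := by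
    decide
  have e' : vC (some 0) (cw 509) = ofList [3, 1, -1, -1, -1, -1, -1, -1, -1, 1, 1, 1, -1, -1, 1, 1, -1, -1, -1, -1, -1, 1, 1, -1] := by
    decide
  rw [e, e']
  exact gmap_chain _
    [0, 0, 2, 0, 0, -2, -2, 0, 0, 2, -2, 0, 0, 0, 0, -2, 0, 0, -2, 0, 0, 0, -2, 0]
    [0, 0, 0, 0, -2, 0, -2, 0, 2, 0, 0, 0, -2, 0, 2, 0, 0, -2, 0, -2, 0, 0, -2, 0]
    [0, 0, 0, 0, 0, 0, 0, 2, 2, 0, 0, 0, -2, 2, 2, 0, 2, -2, 0, 0, 0, 2, 0, 0]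
    [0, -2, 2, 0, 0, 0, 0, 0, 2, 0, 0, 0, 0, 2, 2, -2, 0, 0, 0, 0, 0, 2, 0, 2]
    [1, 3, -1, -1, -1, -1, -1, -1, 1, 1, 1, -1, -1, 1, 1, -1, -1, -1, -1, -1, 1, 1, -1, -1]
    _ (by decide) (by decide) (by decide) (by decide) (by decide) (by decide)

theorem gmap_C116out_Ci24 : gmap (vC (some 6) (cw 1982)) = vC (none) (cw 4095) := by
  have e : vC (some 6) (cw 1982) = ofList [1, -1, -1, -1, -1, -1, -3, -1, -1, -1, -1, 1, 1, 1, -1, -1, -1, -1, -1, 1, -1, -1, 1, 1] := by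
    decide
  have e' : vC (none) (cw 4095) = ofList [-1, -1, -1, -1, -1, -1, -1, -1, -1, -1, -1, -1, -1, -1, -1, -1, -1, -1, -1, -1, -1, -1, -1, 3] := by
    decide
  rw [e, e']
  exact gmap_chain _
    [-1, -1, 1, -1, -1, -1, -1, -1, -1, -1, 1, 1, -1, -1, -3, 1, -1, 1, 1, -1, -1, -1, -1, 1]
    [-1, -1, -1, 1, -1, 1, 1, 1, -1, -1, -1, -1, -1, -1, 1, -1, -1, 1, -1, 1, -1, -3, -1, -1]
    [-1, -1, -1, -1, 1, -1, 1, 1, 1, 1, 1, 1, 1, 1, -1, 1, 1, -1, 1, 1, 1, -3, 1, -1]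
    [1, 1, 1, 1, 1, 1, 1, 1, 1, 1, 1, 1, 1, 1, 1, 1, 1, 1, 1, 1, 1, 1, 1, -3]
    [-1, -1, -1, -1, -1, -1, -1, -1, -1, -1, -1, -1, -1, -1, -1, -1, -1, -1, -1, -1, -1, -1, -1, 3]
    _ (by decide) (by decide) (by decide) (by decide) (by decide) (by decide)

end Cfsg.Agent.helper27
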