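import Mathlib
import Cfsg.Agent.Lib_helper27_Co2p6

set_option autoImplicit false

namespace Cfsg.Agent.helper27

open Cfsg
open scoped Pointwise

/-! ### membership of explicit representatives -/

theorem cBi_rep {k m : ℕ} (hm : m < 4096) (h8 : popc (encN m) = 8)
    (hn : (encN m).testBit 23 = true) (h0 : (encN m).testBit 0 = false) (s : Finset GolayPt)
    (hs : ∀ p ∈ s, p ≠ none ∧ (encN m).testBit (idx p) = true) (hc : s.card = k) :
    vB (cw m) s ∈ cBi k := by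
  refine ⟨cw m, cw_oct1 hm h8 hn h0, s, Finset.mem_powersetCard.mpr ⟨?_, hc⟩, rfl⟩
  intro p hp
  exact Finset.mem_erase.mpr ⟨(hs p hp).1, (mem_cw_iff _ _).mpr (hs p hp).2⟩

theorem cBz_rep {k m : ℕ} (hm : m < 4096) (h8 : popc (encN m) = 8)
    (hn : (encN m).testBit 23 = false) (h0 : (encN m).testBit 0 = true) (s : Finset GolayPt)
    (hs : ∀ p ∈ s, p ≠ some 0 ∧ (encN m).testBit (idx p) = true) (hc : s.card = k) :
    vB (cw m) s ∈ cBz k := by
  refine ⟨cw m, cw_octA hm h8 hn h0, s, Finset.mem_powersetCard.mpr ⟨?_, hc⟩, rfl⟩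
  intro p hp
  exact Finset.mem_erase.mpr ⟨(hs p hp).1, (mem_cw_iff _ _).mpr (hs p hp).2⟩

theorem gs2_rep {n m : ℕ} (hm : m < 4096) (hc : popc (encN m) = n)
    (hn : (encN m).testBit 23 = true) (h0 : (encN m).testBit 0 = true) : cw m ∈ gs2 n := by
  refine ⟨cw_mem_GS hm, by rw [cw_card]; exact hc, ?_, ?_⟩
  · rw [mem_cw_iff, idx_none']; exact hn
  · rw [mem_cw_iff, idx_some0]; exact h0

theorem gsN_rep {n m : ℕ} (hm : m < 4096) (hc : popc (encN m) = n)
    (hn : (encN m).testBit 23 = false) (h0 : (encN m).testBit 0 = false) : cw m ∈ gsN n := by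
  refine ⟨cw_mem_GS hm, by rw [cw_card]; exact hc, ?_, ?_⟩
  · rw [mem_cw_iff, idx_none', hn]; decide
  · rw [mem_cw_iff, idx_some0, h0]; decide

theorem cCi_rep {n m : ℕ} (hm : m < 4096) (hc : popc (encN m) = n)
    (hn : (encN m).testBit 23 = true) (h0 : (encN m).testBit 0 = true) :
    vC none (cw m) ∈ cCi n := ⟨cw m, gs2_rep hm hc hn h0, rfl⟩

theorem cCz_rep {n m : ℕ} (hm : m < 4096) (hc : popc (encN m) = n)
    (hn : (encN m).testBit 23 = true) (h0 : (encN m).testBit 0 = true) :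
    vC (some 0) (cw m) ∈ cCz n := ⟨cw m, gs2_rep hm hc hn h0, rfl⟩

theorem cC1in_rep {n m : ℕ} (hm : m < 4096) (hc : popc (encN m) = n)
    (hn : (encN m).testBit 23 = false) (h0 : (encN m).testBit 0 = false) {j : GolayPt}
    (hj : (encN m).testBit (idx j) = true) : vC j (cw m) ∈ cC1in n :=
  ⟨cw m, gsN_rep hm hc hn h0, j, (mem_cw_iff _ _).mpr hj, rfl⟩

theorem cC1out_rep {n m : ℕ} (hm : m < 4096) (hc : popc (encN m) = n)
    (hn : (encN m).testBit 23 = false) (h0 : (encN m).testBit 0 = false) {j : GolayPt}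
    (hj : (encN m).testBit (idx j) = false) (hjn : j ≠ none) (hj0 : j ≠ some 0) :
    vC j (cw m) ∈ cC1out n := by
  refine ⟨cw m, gsN_rep hm hc hn h0, j, ?_, rfl⟩
  refine Finset.mem_erase.mpr ⟨hj0, Finset.mem_erase.mpr ⟨hjn, Finset.mem_compl.mpr ?_⟩⟩
  rw [mem_cw_iff, hj]
  decide

theorem conn_via {C : Set (GolayPt → ℤ)}
    (hC : ∀ {x x' : GolayPt → ℤ}, x ∈ C → x' ∈ C → ROrb F4 x x') {S T h : GolayPt → ℤ}
    (hSL : S ∈ leechLattice) (hg : gmap S = T) (hT : T ∈ C) (hS : ROrb F2 S h)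
    {y : GolayPt → ℤ} (hy : y ∈ C) : ROrb F2 y h := by
  have s2 := rorb2_gmap hSL
  rw [hg] at s2
  exact ((ROrb.mono F2_sub_F4 (hC hy hT)).trans s2.symm).trans hS

theorem mS_Bi0_C10out : vB (cw 84) ∅ ∈ cBi 0 :=
  cBi_rep (m := 84) (by norm_num) (by decide) (by decide) (by decide) (∅) (by decide) (by decide)

theorem mT_Bi0_C10out : vC (some 11) (cw 0) ∈ cC1out 0 :=
  cC1out_rep (m := 0) (by norm_num) (by decide) (by decide) (by decide) (j := some 11) (by decide) (by decide) (by decide)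

theorem conn_Bi0 {y : GolayPt → ℤ} (hy : y ∈ cBi 0) : ROrb F2 y (vB (cw 84) ∅) :=
  ROrb.mono F2_sub_F4 (rorb4_cBi (Or.inl rfl) hy mS_Bi0_C10out)

theorem mS_Bi0_Ci8 : vB (cw 4) ∅ ∈ cBi 0 :=
  cBi_rep (m := 4) (by norm_num) (by decide) (by decide) (by decide) (∅) (by decide) (by decide)

theorem mT_Bi0_Ci8 : vC (none) (cw 47) ∈ cCi 8 :=
  cCi_rep (m := 47) (by norm_num) (by decide) (by decide) (by decide)

theorem mS_Bi2_Bz0 : vB (cw 64) {some 19, some 22} ∈ cBi 2 :=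
  cBi_rep (m := 64) (by norm_num) (by decide) (by decide) (by decide) ({some 19, some 22}) (by decide) (by decide)

theorem mT_Bi2_Bz0 : vB (cw 659) ∅ ∈ cBz 0 :=
  cBz_rep (m := 659) (by norm_num) (by decide) (by decide) (by decide) (∅) (by decide) (by decide)

theorem conn_Bi2 {y : GolayPt → ℤ} (hy : y ∈ cBi 2) : ROrb F2 y (vB (cw 64) {some 19, some 22}) :=
  ROrb.mono F2_sub_F4 (rorb4_cBi (Or.inr (Or.inl rfl)) hy mS_Bi2_Bz0)

theorem mS_Bi2_C18in : vB (cw 4) {some 12, some 13} ∈ cBi 2 :=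
  cBi_rep (m := 4) (by norm_num) (by decide) (by decide) (by decide) ({some 12, some 13}) (by decide) (by decide)

theorem mT_Bi2_C18in : vC (some 19) (cw 232) ∈ cC1in 8 :=
  cC1in_rep (m := 232) (by norm_num) (by decide) (by decide) (by decide) (j := some 19) (by decide)

theorem mS_Bi2_Ci12 : vB (cw 4) {some 2, some 15} ∈ cBi 2 :=
  cBi_rep (m := 4) (by norm_num) (by decide) (by decide) (by decide) ({some 2, some 15}) (by decide) (by decide)

theorem mT_Bi2_Ci12 : vC (none) (cw 1343) ∈ cCi 12 :=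
  cCi_rep (m := 1343) (by norm_num) (by decide) (by decide) (by decide)

theorem mS_Bi4_Bz2 : vB (cw 4) {some 2, some 12, some 13, some 22} ∈ cBi 4 :=
  cBi_rep (m := 4) (by norm_num) (by decide) (by decide) (by decide) ({some 2, some 12, some 13, some 22}) (by decide) (by decide)

theorem mT_Bi4_Bz2 : vB (cw 2639) {some 3, some 6} ∈ cBz 2 :=
  cBz_rep (m := 2639) (by norm_num) (by decide) (by decide) (by decide) ({some 3, some 6}) (by decide) (by decide)

theorem conn_Bi4 {y : GolayPt → ℤ} (hy : y ∈ cBi 4) : ROrb F2 y (vB (cw 4) {some 2, some 12, some 13, some 22}) :=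
  ROrb.mono F2_sub_F4 (rorb4_cBi (Or.inr (Or.inr (Or.inl rfl))) hy mS_Bi4_Bz2)

theorem mS_Bi4_C112in : vB (cw 4) {some 2, some 12, some 13, some 15} ∈ cBi 4 :=
  cBi_rep (m := 4) (by norm_num) (by decide) (by decide) (by decide) ({some 2, some 12, some 13, some 15}) (by decide) (by decide)

theorem mT_Bi4_C112in : vC (some 19) (cw 1528) ∈ cC1in 12 :=
  cC1in_rep (m := 1528) (by norm_num) (by decide) (by decide) (by decide) (j := some 19) (by decide)

theorem mS_Bi4_C18out : vB (cw 6) {some 1, some 2, some 14, some 19} ∈ cBi 4 :=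
  cBi_rep (m := 6) (by norm_num) (by decide) (by decide) (by decide) ({some 1, some 2, some 14, some 19}) (by decide) (by decide)

theorem mT_Bi4_C18out : vC (some 3) (cw 116) ∈ cC1out 8 :=
  cC1out_rep (m := 116) (by norm_num) (by decide) (by decide) (by decide) (j := some 3) (by decide) (by decide) (by decide)

theorem mS_Bi4_Ci16 : vB (cw 4) {some 2, some 15, some 18, some 20} ∈ cBi 4 :=
  cBi_rep (m := 4) (by norm_num) (by decide) (by decide) (by decide) ({some 2, some 15, some 18, some 20}) (by decide) (by decide)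

theorem mT_Bi4_Ci16 : vC (none) (cw 3863) ∈ cCi 16 :=
  cCi_rep (m := 3863) (by norm_num) (by decide) (by decide) (by decide)

theorem mS_Bz2_Cz8 : vB (cw 65) {some 12, some 19} ∈ cBz 2 :=
  cBz_rep (m := 65) (by norm_num) (by decide) (by decide) (by decide) ({some 12, some 19}) (by decide) (by decide)

theorem mT_Bz2_Cz8 : vC (some 0) (cw 2189) ∈ cCz 8 :=
  cCz_rep (m := 2189) (by norm_num) (by decide) (by decide) (by decide)

theorem mS_Bi6_Bz4 : vB (cw 4) {some 2, some 12, some 13, some 15, some 18, some 22} ∈ cBi 6 :=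
  cBi_rep (m := 4) (by norm_num) (by decide) (by decide) (by decide) ({some 2, some 12, some 13, some 15, some 18, some 22}) (by decide) (by decide)

theorem mT_Bi6_Bz4 : vB (cw 343) {some 4, some 6, some 8, some 20} ∈ cBz 4 :=
  cBz_rep (m := 343) (by norm_num) (by decide) (by decide) (by decide) ({some 4, some 6, some 8, some 20}) (by decide) (by decide)

theorem conn_Bi6 {y : GolayPt → ℤ} (hy : y ∈ cBi 6) : ROrb F2 y (vB (cw 4) {some 2, some 12, some 13, some 15, some 18, some 22}) :=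
  ROrb.mono F2_sub_F4 (rorb4_cBi (Or.inr (Or.inr (Or.inr rfl))) hy mS_Bi6_Bz4)

theorem mS_Bi6_C112out : vB (cw 6) {some 1, some 2, some 14, some 16, some 18, some 19} ∈ cBi 6 :=
  cBi_rep (m := 6) (by norm_num) (by decide) (by decide) (by decide) ({some 1, some 2, some 14, some 16, some 18, some 19}) (by decide) (by decide)

theorem mT_Bi6_C112out : vC (some 20) (cw 380) ∈ cC1out 12 :=
  cC1out_rep (m := 380) (by norm_num) (by decide) (by decide) (by decide) (j := some 20) (by decide) (by decide) (by decide)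

theorem mS_Bi6_C116in : vB (cw 4) {some 2, some 12, some 13, some 15, some 18, some 20} ∈ cBi 6 :=
  cBi_rep (m := 4) (by norm_num) (by decide) (by decide) (by decide) ({some 2, some 12, some 13, some 15, some 18, some 20}) (by decide) (by decide)

theorem mT_Bi6_C116in : vC (some 19) (cw 4048) ∈ cC1in 16 :=
  cC1in_rep (m := 4048) (by norm_num) (by decide) (by decide) (by decide) (j := some 19) (by decide)

theorem mS_Bz4_Cz12 : vB (cw 7) {some 1, some 12, some 19, some 22} ∈ cBz 4 :=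
  cBz_rep (m := 7) (by norm_num) (by decide) (by decide) (by decide) ({some 1, some 12, some 19, some 22}) (by decide) (by decide)

theorem mT_Bz4_Cz12 : vC (some 0) (cw 2285) ∈ cCz 12 :=
  cCz_rep (m := 2285) (by norm_num) (by decide) (by decide) (by decide)

theorem mS_Bz6_C116out : vB (cw 5) {some 2, some 14, some 15, some 16, some 17, some 20} ∈ cBz 6 :=
  cBz_rep (m := 5) (by norm_num) (by decide) (by decide) (by decide) ({some 2, some 14, some 15, some 16, some 17, some 20}) (by decide) (by decide)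

theorem mT_Bz6_C116out : vC (some 18) (cw 1974) ∈ cC1out 16 :=
  cC1out_rep (m := 1974) (by norm_num) (by decide) (by decide) (by decide) (j := some 18) (by decide) (by decide) (by decide)

theorem conn_Bz6 {y : GolayPt → ℤ} (hy : y ∈ cBz 6) : ROrb F2 y (vB (cw 5) {some 2, some 14, some 15, some 16, some 17, some 20}) :=
  ROrb.mono F2_sub_F4 (rorb4_cBz (Or.inr (Or.inr (Or.inr rfl))) hy mS_Bz6_C116out)

theorem mS_Bz6_Cz16 : vB (cw 7) {some 1, some 2, some 12, some 17, some 19, some 22} ∈ cBz 6 :=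
  cBz_rep (m := 7) (by norm_num) (by decide) (by decide) (by decide) ({some 1, some 2, some 12, some 17, some 19, some 22}) (by decide) (by decide)

theorem mT_Bz6_Cz16 : vC (some 0) (cw 509) ∈ cCz 16 :=
  cCz_rep (m := 509) (by norm_num) (by decide) (by decide) (by decide)

theorem mS_C116out_Ci24 : vC (some 6) (cw 1982) ∈ cC1out 16 :=
  cC1out_rep (m := 1982) (by norm_num) (by decide) (by decide) (by decide) (j := some 6) (by decide) (by decide) (by decide)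

theorem mT_C116out_Ci24 : vC (none) (cw 4095) ∈ cCi 24 :=
  cCi_rep (m := 4095) (by norm_num) (by decide) (by decide) (by decide)

theorem conn_C10out {y : GolayPt → ℤ} (hy : y ∈ cC1out 0) : ROrb F2 y (vB (cw 84) ∅) :=
  conn_via (fun h1 h2 => rorb4_cC1out h1 h2) (co2P_mem (cBi_sub (by decide) mS_Bi0_C10out)) gmap_Bi0_C10out mT_Bi0_C10out (conn_Bi0 mS_Bi0_C10out) hy

theorem conn_Ci8 {y : GolayPt → ℤ} (hy : y ∈ cCi 8) : ROrb F2 y (vB (cw 84) ∅) :=
  conn_via (fun h1 h2 => rorb4_cCi h1 h2) (co2P_mem (cBi_sub (by decide) mS_Bi0_Ci8)) gmap_Bi0_Ci8 mT_Bi0_Ci8 (conn_Bi0 mS_Bi0_Ci8) hy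

theorem conn_Bz0 {y : GolayPt → ℤ} (hy : y ∈ cBz 0) : ROrb F2 y (vB (cw 64) {some 19, some 22}) :=
  conn_via (fun h1 h2 => rorb4_cBz (Or.inl rfl) h1 h2) (co2P_mem (cBi_sub (by decide) mS_Bi2_Bz0)) gmap_Bi2_Bz0 mT_Bi2_Bz0 (conn_Bi2 mS_Bi2_Bz0) hy

theorem conn_C18in {y : GolayPt → ℤ} (hy : y ∈ cC1in 8) : ROrb F2 y (vB (cw 64) {some 19, some 22}) :=
  conn_via (fun h1 h2 => rorb4_cC1in h1 h2) (co2P_mem (cBi_sub (by decide) mS_Bi2_C18in)) gmap_Bi2_C18in mT_Bi2_C18in (conn_Bi2 mS_Bi2_C18in) hy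

theorem conn_Ci12 {y : GolayPt → ℤ} (hy : y ∈ cCi 12) : ROrb F2 y (vB (cw 64) {some 19, some 22}) :=
  conn_via (fun h1 h2 => rorb4_cCi h1 h2) (co2P_mem (cBi_sub (by decide) mS_Bi2_Ci12)) gmap_Bi2_Ci12 mT_Bi2_Ci12 (conn_Bi2 mS_Bi2_Ci12) hy

theorem conn_Bz2 {y : GolayPt → ℤ} (hy : y ∈ cBz 2) : ROrb F2 y (vB (cw 4) {some 2, some 12, some 13, some 22}) :=
  conn_via (fun h1 h2 => rorb4_cBz (Or.inr (Or.inl rfl)) h1 h2) (co2P_mem (cBi_sub (by decide) mS_Bi4_Bz2)) gmap_Bi4_Bz2 mT_Bi4_Bz2 (conn_Bi4 mS_Bi4_Bz2) hy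

theorem conn_C112in {y : GolayPt → ℤ} (hy : y ∈ cC1in 12) : ROrb F2 y (vB (cw 4) {some 2, some 12, some 13, some 22}) :=
  conn_via (fun h1 h2 => rorb4_cC1in h1 h2) (co2P_mem (cBi_sub (by decide) mS_Bi4_C112in)) gmap_Bi4_C112in mT_Bi4_C112in (conn_Bi4 mS_Bi4_C112in) hy

theorem conn_C18out {y : GolayPt → ℤ} (hy : y ∈ cC1out 8) : ROrb F2 y (vB (cw 4) {some 2, some 12, some 13, some 22}) :=
  conn_via (fun h1 h2 => rorb4_cC1out h1 h2) (co2P_mem (cBi_sub (by decide) mS_Bi4_C18out)) gmap_Bi4_C18out mT_Bi4_C18out (conn_Bi4 mS_Bi4_C18out) hy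

theorem conn_Ci16 {y : GolayPt → ℤ} (hy : y ∈ cCi 16) : ROrb F2 y (vB (cw 4) {some 2, some 12, some 13, some 22}) :=
  conn_via (fun h1 h2 => rorb4_cCi h1 h2) (co2P_mem (cBi_sub (by decide) mS_Bi4_Ci16)) gmap_Bi4_Ci16 mT_Bi4_Ci16 (conn_Bi4 mS_Bi4_Ci16) hy

theorem conn_Cz8 {y : GolayPt → ℤ} (hy : y ∈ cCz 8) : ROrb F2 y (vB (cw 4) {some 2, some 12, some 13, some 22}) :=
  conn_via (fun h1 h2 => rorb4_cCz h1 h2) (co2P_mem (cBz_sub (by decide) mS_Bz2_Cz8)) gmap_Bz2_Cz8 mT_Bz2_Cz8 (conn_Bz2 mS_Bz2_Cz8) hy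

theorem conn_Bz4 {y : GolayPt → ℤ} (hy : y ∈ cBz 4) : ROrb F2 y (vB (cw 4) {some 2, some 12, some 13, some 15, some 18, some 22}) :=
  conn_via (fun h1 h2 => rorb4_cBz (Or.inr (Or.inr (Or.inl rfl))) h1 h2) (co2P_mem (cBi_sub (by decide) mS_Bi6_Bz4)) gmap_Bi6_Bz4 mT_Bi6_Bz4 (conn_Bi6 mS_Bi6_Bz4) hy

theorem conn_C112out {y : GolayPt → ℤ} (hy : y ∈ cC1out 12) : ROrb F2 y (vB (cw 4) {some 2, some 12, some 13, some 15, some 18, some 22}) :=
  conn_via (fun h1 h2 => rorb4_cC1out h1 h2) (co2P_mem (cBi_sub (by decide) mS_Bi6_C112out)) gmap_Bi6_C112out mT_Bi6_C112out (conn_Bi6 mS_Bi6_C112out) hy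

theorem conn_C116in {y : GolayPt → ℤ} (hy : y ∈ cC1in 16) : ROrb F2 y (vB (cw 4) {some 2, some 12, some 13, some 15, some 18, some 22}) :=
  conn_via (fun h1 h2 => rorb4_cC1in h1 h2) (co2P_mem (cBi_sub (by decide) mS_Bi6_C116in)) gmap_Bi6_C116in mT_Bi6_C116in (conn_Bi6 mS_Bi6_C116in) hy

theorem conn_Cz12 {y : GolayPt → ℤ} (hy : y ∈ cCz 12) : ROrb F2 y (vB (cw 4) {some 2, some 12, some 13, some 15, some 18, some 22}) :=
  conn_via (fun h1 h2 => rorb4_cCz h1 h2) (co2P_mem (cBz_sub (by decide) mS_Bz4_Cz12)) gmap_Bz4_Cz12 mT_Bz4_Cz12 (conn_Bz4 mS_Bz4_Cz12) hy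

theorem conn_C116out {y : GolayPt → ℤ} (hy : y ∈ cC1out 16) : ROrb F2 y (vB (cw 5) {some 2, some 14, some 15, some 16, some 17, some 20}) :=
  conn_via (fun h1 h2 => rorb4_cC1out h1 h2) (co2P_mem (cBz_sub (by decide) mS_Bz6_C116out)) gmap_Bz6_C116out mT_Bz6_C116out (conn_Bz6 mS_Bz6_C116out) hy

theorem conn_Cz16 {y : GolayPt → ℤ} (hy : y ∈ cCz 16) : ROrb F2 y (vB (cw 5) {some 2, some 14, some 15, some 16, some 17, some 20}) :=
  conn_via (fun h1 h2 => rorb4_cCz h1 h2) (co2P_mem (cBz_sub (by decide) mS_Bz6_Cz16)) gmap_Bz6_Cz16 mT_Bz6_Cz16 (conn_Bz6 mS_Bz6_Cz16) hy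

theorem conn_Ci24 {y : GolayPt → ℤ} (hy : y ∈ cCi 24) : ROrb F2 y (vB (cw 5) {some 2, some 14, some 15, some 16, some 17, some 20}) :=
  conn_via (fun h1 h2 => rorb4_cCi h1 h2) (co2P_mem (cC1out_sub _ mS_C116out_Ci24)) gmap_C116out_Ci24 mT_C116out_Ci24 (conn_C116out mS_C116out_Ci24) hy

/-! ### the levels are orbits -/

theorem conn_L24 {y : GolayPt → ℤ} (hy : y ∈ co2L24) : ROrb F2 y (vB (cw 84) ∅) := by
  rcases hy with (h | h) | h
  · exact conn_Bi0 h
  · exact conn_C10out h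
  · exact conn_Ci8 h

theorem conn_L16 {y : GolayPt → ℤ} (hy : y ∈ co2L16) :
    ROrb F2 y (vB (cw 64) {some 19, some 22}) := by
  rcases hy with ((h | h) | h) | h
  · exact conn_Bi2 h
  · exact conn_Bz0 h
  · exact conn_C18in h
  · exact conn_Ci12 h

theorem conn_L8 {y : GolayPt → ℤ} (hy : y ∈ co2L8) :
    ROrb F2 y (vB (cw 4) {some 2, some 12, some 13, some 22}) := by
  rcases hy with ((((h | h) | h) | h) | h) | h
  · exact conn_C112in h
  · exact conn_C18out h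
  · exact conn_Bi4 h
  · exact conn_Bz2 h
  · exact conn_Ci16 h
  · exact conn_Cz8 h

theorem conn_L0 {y : GolayPt → ℤ} (hy : y ∈ co2L0) :
    ROrb F2 y (vB (cw 4) {some 2, some 12, some 13, some 15, some 18, some 22}) := by
  rcases hy with (((h | h) | h) | h) | h
  · exact conn_C116in h
  · exact conn_C112out h
  · exact conn_Bi6 h
  · exact conn_Bz4 h
  · exact conn_Cz12 h

theorem conn_Lm8 {y : GolayPt → ℤ} (hy : y ∈ co2Lm8) :
    ROrb F2 y (vB (cw 5) {some 2, some 14, some 15, some 16, some 17, some 20}) := by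
  rcases hy with ((h | h) | h) | h
  · exact conn_Bz6 h
  · exact conn_C116out h
  · exact conn_Ci24 h
  · exact conn_Cz16 h

theorem rorb2_co2P {x x' : GolayPt → ℤ} (hx : x ∈ co2P) (hx' : x' ∈ co2P)
    (h : dotInt u5 x = dotInt u5 x') : ROrb F2 x x' := by
  rcases co2P_level hx with ⟨h1, h2⟩ | ⟨h1, h2⟩ | ⟨h1, h2⟩ | ⟨h1, h2⟩ | ⟨h1, h2⟩ | ⟨h1, h2⟩
  · exact (conn_L24 h2).trans (conn_L24 ((co2L24_iff x').mpr ⟨hx', by rw [← h, h1]⟩)).symm
  · exact (conn_L16 h2).trans (conn_L16 ((co2L16_iff x').mpr ⟨hx', by rw [← h, h1]⟩)).symm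
  · exact (conn_L8 h2).trans (conn_L8 ((co2L8_iff x').mpr ⟨hx', by rw [← h, h1]⟩)).symm
  · exact (conn_L0 h2).trans (conn_L0 ((co2L0_iff x').mpr ⟨hx', by rw [← h, h1]⟩)).symm
  · exact (conn_Lm8 h2).trans (conn_Lm8 ((co2Lm8_iff x').mpr ⟨hx', by rw [← h, h1]⟩)).symm
  · have h3 : x' ∈ co2Lm24 := (co2Lm24_iff x').mpr ⟨hx', by rw [← h, h1]⟩
    exact ROrb.mono F2_sub_F4 (rorb4_cCz h2 h3)

end Cfsg.Agent.helper27
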