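import Mathlib
import Cfsg.Agent.Lib_helper27_Co2p7
import Cfsg.Agent.Lib_helper27_SimpleCrit5

set_option autoImplicit false

namespace Cfsg.Agent.helper27

open Cfsg MulAction
open scoped Pointwise

/-! ### the stabiliser of a minimal vector in the standard frame -/

theorem orbit_a0L_min : orbit Co0 a0L = LN 32 := by
  ext v
  rw [mem_orbit_iff]
  constructor
  · rintro ⟨g, rfl⟩
    show sqNorm (g • a0L).1 = 32
    rw [co0_sqNorm]
    decide
  · intro hn
    exact co0_transitive_min a0L v (by decide) hn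

theorem card_stab_a0L : Nat.card (stabilizer Co0 a0L) = 42305421312000 := by
  have h1 := Subgroup.card_eq_card_quotient_mul_card_subgroup (stabilizer Co0 a0L)
  rw [← Nat.card_congr (orbitEquivQuotientStabilizer Co0 a0L), orbit_a0L_min, card_Co0,
    Nat.card_coe_set_eq, LN_ncard_32] at h1
  omega

instance finite_stab_a0L : Finite (stabilizer Co0 a0L) :=
  Nat.finite_of_card_ne_zero (by rw [card_stab_a0L]; norm_num)

theorem co2P_eq : co2P = co2L24 ∪ co2L16 ∪ co2L8 ∪ co2L0 ∪ co2Lm8 ∪ co2Lm24 := by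
  ext x
  constructor
  · intro hx
    rcases co2P_level hx with ⟨_, h⟩ | ⟨_, h⟩ | ⟨_, h⟩ | ⟨_, h⟩ | ⟨_, h⟩ | ⟨_, h⟩
    · exact Or.inl (Or.inl (Or.inl (Or.inl (Or.inl h))))
    · exact Or.inl (Or.inl (Or.inl (Or.inl (Or.inr h))))
    · exact Or.inl (Or.inl (Or.inl (Or.inr h)))
    · exact Or.inl (Or.inl (Or.inr h))
    · exact Or.inl (Or.inr h)
    · exact Or.inr h
  · rintro (((((h | h) | h) | h) | h) | h)
    · exact co2L24_sub h
    · exact co2L16_sub h
    · exact co2L8_sub h
    · exact co2L0_sub h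
    · exact co2Lm8_sub h
    · exact co2Lm24_sub h

theorem co2P_ncard : co2P.ncard = 47104 := by
  have f1 := fin_of_ncard co2L24_ncard (by norm_num)
  have f2 := fin_of_ncard co2L16_ncard (by norm_num)
  have f3 := fin_of_ncard co2L8_ncard (by norm_num)
  have f4 := fin_of_ncard co2L0_ncard (by norm_num)
  have f5 := fin_of_ncard co2Lm8_ncard (by norm_num)
  have f6 := fin_of_ncard co2Lm24_ncard (by norm_num)
  have e1 := ncard_union_sep co2L24 co2L16 (fun x => dotInt u5 x ≠ 16)
    (fun x hx => by rw [co2L24_dot hx]; decide)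
    (fun x hx => by rw [co2L16_dot hx]; decide) f1 f2
  have e2 := ncard_union_sep (co2L24 ∪ co2L16) co2L8 (fun x => dotInt u5 x ≠ 8)
    (fun x hx => by
      rcases hx with hx | hx
      · rw [co2L24_dot hx]; decide
      · rw [co2L16_dot hx]; decide)
    (fun x hx => by rw [co2L8_dot hx]; decide) (f1.union f2) f3
  have e3 := ncard_union_sep (co2L24 ∪ co2L16 ∪ co2L8) co2L0 (fun x => dotInt u5 x ≠ 0)
    (fun x hx => by
      rcases hx with (hx | hx) | hx
      · rw [co2L24_dot hx]; decide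
      · rw [co2L16_dot hx]; decide
      · rw [co2L8_dot hx]; decide)
    (fun x hx => by rw [co2L0_dot hx]; decide) ((f1.union f2).union f3) f4
  have e4 := ncard_union_sep (co2L24 ∪ co2L16 ∪ co2L8 ∪ co2L0) co2Lm8
    (fun x => dotInt u5 x ≠ -8)
    (fun x hx => by
      rcases hx with ((hx | hx) | hx) | hx
      · rw [co2L24_dot hx]; decide
      · rw [co2L16_dot hx]; decide
      · rw [co2L8_dot hx]; decide
      · rw [co2L0_dot hx]; decide)
    (fun x hx => by rw [co2Lm8_dot hx]; decide) (((f1.union f2).union f3).union f4) f5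
  have e5 := ncard_union_sep (co2L24 ∪ co2L16 ∪ co2L8 ∪ co2L0 ∪ co2Lm8) co2Lm24
    (fun x => dotInt u5 x ≠ -24)
    (fun x hx => by
      rcases hx with (((hx | hx) | hx) | hx) | hx
      · rw [co2L24_dot hx]; decide
      · rw [co2L16_dot hx]; decide
      · rw [co2L8_dot hx]; decide
      · rw [co2L0_dot hx]; decide
      · rw [co2Lm8_dot hx]; decide)
    (fun x hx => by rw [co2Lm24_dot hx]; decide)
    ((((f1.union f2).union f3).union f4).union f5) f6
  rw [co2P_eq, e5, e4, e3, e2, e1, co2L24_ncard, co2L16_ncard, co2L8_ncard, co2L0_ncard,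
    co2Lm8_ncard, co2Lm24_ncard]

theorem co2P_inv {g : Co0} (ha : g • a0L = a0L) (r : leechLattice) (hr : r.1 ∈ co2P) :
    (g • r).1 ∈ co2P := by
  refine ⟨(g • r).2, ?_, ?_⟩
  · rw [co0_sqNorm]; exact hr.2.1
  · have := co0_smul_dot g a0L r
    rw [ha] at this
    exact this.trans hr.2.2

/-- the 47104 points as an invariant subset -/
def co2X : SubMulAction (stabilizer Co0 a0L) leechLattice where
  carrier := {y | y.1 ∈ co2P}
  smul_mem' := by
    intro g x hx
    exact co2P_inv (mem_stabilizer_iff.mp g.2) x hx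

theorem mem_co2X {x : leechLattice} : x ∈ co2X ↔ x.1 ∈ co2P := Iff.rfl

set_option synthInstance.maxHeartbeats 400000 in
instance co2X_mulAction : MulAction (stabilizer Co0 a0L) co2X := inferInstance

theorem card_co2X : Nat.card co2X = 47104 := by
  have : Nat.card co2X = {y : leechLattice | y.1 ∈ co2P}.ncard := Nat.card_coe_set_eq _
  rw [this, ← co2P_ncard]
  exact ncard_subtype_of_raw (fun x hx => co2P_mem hx) (fun y => Iff.rfl)

instance finite_co2X : Finite co2X :=
  Nat.finite_of_card_ne_zero (by rw [card_co2X]; norm_num)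

theorem w0_raw : (a0L - u5L : leechLattice).1 = vC (some 0) Finset.univ := by
  show a0 - u5 = vC (some 0) Finset.univ
  decide

theorem w0_mem : (a0L - u5L : leechLattice).1 ∈ co2P := by
  refine ⟨(a0L - u5L : leechLattice).2, ?_, ?_⟩
  · rw [w0_raw]; exact sqNorm_vC _ _
  · rw [w0_raw]; decide

/-- the base point -/
def w0X : co2X := ⟨a0L - u5L, w0_mem⟩

instance co2X_transitive : IsPretransitive (stabilizer Co0 a0L) co2X := by
  refine ⟨fun x y => ?_⟩
  have hx := mem_co2X.mp x.2
  have hy := mem_co2X.mp y.2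
  have n1 : sqNorm ((-x.1 : leechLattice) : GolayPt → ℤ) = 32 := by
    show sqNorm (-(x.1.1)) = 32
    rw [sqNorm_neg]; exact hx.2.1
  have n2 : sqNorm ((-y.1 : leechLattice) : GolayPt → ℤ) = 32 := by
    show sqNorm (-(y.1.1)) = 32
    rw [sqNorm_neg]; exact hy.2.1
  have d1 : dotInt (a0L : GolayPt → ℤ) ((-x.1 : leechLattice) : GolayPt → ℤ) = -8 := by
    show dotInt a0 (-(x.1.1)) = -8
    rw [dotInt_neg_right', hx.2.2]
  have d2 : dotInt (a0L : GolayPt → ℤ) ((-y.1 : leechLattice) : GolayPt → ℤ) = -8 := by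
    show dotInt a0 (-(y.1.1)) = -8
    rw [dotInt_neg_right', hy.2.2]
  obtain ⟨g, hg1, hg2⟩ := stab_min_transitive_m8 a0L (-x.1) (-y.1) (by decide) n1 n2 d1 d2
  rw [co0_smul_neg] at hg2
  exact ⟨⟨g, mem_stabilizer_iff.mpr hg1⟩, Subtype.ext (neg_injective hg2)⟩

theorem fixOrb2_liftX {x y : co2X} (h : FixOrb F2 x.1 y.1) :
    ∃ g ∈ stabilizer (stabilizer Co0 a0L) w0X, g • x = y := by
  obtain ⟨g, hg, hgx⟩ := h
  have hu : g • u5L = u5L := hg _ (Or.inl rfl)
  have ha : g • a0L = a0L := hg _ (Or.inr rfl)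
  refine ⟨⟨g, mem_stabilizer_iff.mpr ha⟩, ?_, ?_⟩
  · rw [mem_stabilizer_iff]
    apply Subtype.ext
    show g • (a0L - u5L) = a0L - u5L
    rw [co0_smul_sub, ha, hu]
  · apply Subtype.ext
    exact hgx

/-- the point stabiliser is the McLaughlin group -/
def mclToStab : McL0 →* stabilizer (stabilizer Co0 a0L) w0X where
  toFun h := ⟨⟨h.1, mem_stabilizer_iff.mpr (mem_McL0.mp h.2).2⟩, by
    rw [mem_stabilizer_iff]
    apply Subtype.ext
    show h.1 • (a0L - u5L) = a0L - u5L
    rw [co0_smul_sub, (mem_McL0.mp h.2).1, (mem_McL0.mp h.2).2]⟩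
  map_one' := rfl
  map_mul' _ _ := rfl

theorem mclToStab_bijective : Function.Bijective mclToStab := by
  constructor
  · intro a b h
    have : (mclToStab a).1.1 = (mclToStab b).1.1 := by rw [h]
    exact Subtype.ext this
  · intro t
    have h1 : (t.1 : Co0) • a0L = a0L := mem_stabilizer_iff.mp t.1.2
    have h2 : (t.1 : Co0) • (a0L - u5L) = a0L - u5L := by
      have := mem_stabilizer_iff.mp t.2
      exact congrArg Subtype.val this
    rw [co0_smul_sub, h1] at h2
    have h3 : (t.1 : Co0) • u5L = u5L := sub_right_injective h2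
    exact ⟨⟨t.1.1, mem_McL0.mpr ⟨h3, h1⟩⟩, rfl⟩

theorem stab_w0X_simple : IsSimpleGroup (stabilizer (stabilizer Co0 a0L) w0X) := by
  have hnt : Nontrivial (stabilizer (stabilizer Co0 a0L) w0X) := by
    have := McL0_simple.toNontrivial
    exact mclToStab_bijective.1.nontrivial
  have := McL0_simple
  exact IsSimpleGroup.isSimpleGroup_of_surjective mclToStab mclToStab_bijective.2

end Cfsg.Agent.helper27
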