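import Mathlib
import Cfsg.Agent.Lib_helper27_Co2s1

set_option autoImplicit false

namespace Cfsg.Agent.helper27

open Cfsg MulAction
open scoped Pointwise

/-- the subdegrees -/
def co2Deg (s : ℤ) : ℕ :=
  if s = -24 then 1 else if s = 24 then 275 else if s = 16 then 7128 else if s = 8 then 22275
  else if s = 0 then 15400 else 2025

theorem co2Deg_div : ∀ S ∈ ({-24, 24, 16, 8, 0, -8} : Finset ℤ).powerset, (-24 : ℤ) ∈ S →
    (∑ s ∈ S, co2Deg s) ∣ 47104 → S = {-24} ∨ S = {-24, 24, 16, 8, 0, -8} := by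
  decide +kernel

theorem ncard_co2X_of_raw (T : Set (GolayPt → ℤ)) (c : ℤ)
    (h : ∀ y, y ∈ T ↔ y ∈ co2P ∧ dotInt u5 y = c) :
    {y : co2X | dotInt u5 y.1.1 = c}.ncard = T.ncard := by
  rw [← Set.ncard_image_of_injective _ (Subtype.val_injective.comp Subtype.val_injective)]
  congr 1
  ext x
  constructor
  · rintro ⟨y, hy, rfl⟩
    exact (h _).mpr ⟨mem_co2X.mp y.2, hy⟩
  · intro hx
    obtain ⟨h1, h2⟩ := (h x).mp hx
    exact ⟨⟨⟨x, co2P_mem h1⟩, mem_co2X.mpr h1⟩, h2, rfl⟩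

theorem dot_w0 : dotInt u5 w0X.1.1 = -24 := by
  show dotInt u5 (a0L - u5L : leechLattice).1 = -24
  rw [w0_raw]
  decide

theorem co2_prim (N : Subgroup (stabilizer Co0 a0L)) (hN : N.Normal) :
    N ≤ stabilizer (stabilizer Co0 a0L) w0X ∨ ∀ x : co2X, ∃ n ∈ N, n • w0X = x := by
  refine prim_of_levels w0X (fun y : co2X => dotInt u5 y.1.1) {-24, 24, 16, 8, 0, -8} co2Deg
    ?_ ?_ ?_ ?_ ?_ N hN
  · intro y
    rcases co2P_level (mem_co2X.mp y.2) with ⟨h, _⟩ | ⟨h, _⟩ | ⟨h, _⟩ | ⟨h, _⟩ | ⟨h, _⟩ | ⟨h, _⟩ <;>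
      · show dotInt u5 y.1.1 ∈ _
        rw [h]; decide
  · intro s hs
    simp only [Finset.mem_insert, Finset.mem_singleton] at hs
    rcases hs with rfl | rfl | rfl | rfl | rfl | rfl
    · rw [ncard_co2X_of_raw co2Lm24 (-24) co2Lm24_iff, co2Lm24_ncard]; rfl
    · rw [ncard_co2X_of_raw co2L24 24 co2L24_iff, co2L24_ncard]; rfl
    · rw [ncard_co2X_of_raw co2L16 16 co2L16_iff, co2L16_ncard]; rfl
    · rw [ncard_co2X_of_raw co2L8 8 co2L8_iff, co2L8_ncard]; rfl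
    · rw [ncard_co2X_of_raw co2L0 0 co2L0_iff, co2L0_ncard]; rfl
    · rw [ncard_co2X_of_raw co2Lm8 (-8) co2Lm8_iff, co2Lm8_ncard]; rfl
  · intro y hy
    rw [dot_w0] at hy
    have h1 : y.1.1 ∈ co2Lm24 := (co2Lm24_iff _).mpr ⟨mem_co2X.mp y.2, hy⟩
    obtain ⟨b, hb, hyb⟩ := h1
    apply Subtype.ext
    apply Subtype.ext
    show y.1.1 = (a0L - u5L : leechLattice).1
    rw [w0_raw, ← hyb, gs2_24_univ hb]
  · intro y y' hyy
    exact fixOrb2_liftX (rorb2_co2P (mem_co2X.mp y.2) (mem_co2X.mp y'.2) hyy).fixOrb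
  · rw [dot_w0, card_co2X]
    exact co2Deg_div

theorem co2_core (N : Subgroup (stabilizer Co0 a0L)) (hN : N.Normal)
    (hle : N ≤ stabilizer (stabilizer Co0 a0L) w0X) : N = ⊥ := by
  apply core_trivial_of_simple_stab w0X stab_w0X_simple _ N hN hle
  have hm1 : vB (cw 84) ∅ ∈ co2P := cBi_sub (by decide) mS_Bi0_C10out
  have hm2 : vB (cw 4) ∅ ∈ co2P := cBi_sub (by decide) mS_Bi0_Ci8
  have hne : vB (cw 84) ∅ ≠ vB (cw 4) ∅ := by decide
  have hd : dotInt u5 (vB (cw 84) ∅) = dotInt u5 (vB (cw 4) ∅) := by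
    rw [cBi_dot mS_Bi0_C10out, cBi_dot mS_Bi0_Ci8]
  obtain ⟨g, hg, hgx⟩ := fixOrb2_liftX
    (x := ⟨⟨vB (cw 84) ∅, co2P_mem hm1⟩, hm1⟩) (y := ⟨⟨vB (cw 4) ∅, co2P_mem hm2⟩, hm2⟩)
    (rorb2_co2P hm1 hm2 hd).fixOrb
  refine ⟨g, hg, ⟨⟨vB (cw 84) ∅, co2P_mem hm1⟩, hm1⟩, ?_⟩
  rw [hgx]
  intro h
  apply hne
  have := congrArg (fun t : co2X => t.1.1) h
  exact this.symm

theorem stab_a0L_simple : IsSimpleGroup (stabilizer Co0 a0L) := by
  have : Fact (Nat.Prime 23) := ⟨by norm_num⟩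
  have : Fact (Nat.Prime 2) := ⟨by norm_num⟩
  refine isSimpleGroup_of_prim_stab_core (G := stabilizer Co0 a0L) (Ω := co2X) w0X
    stab_w0X_simple co2_core co2_prim ?_
  apply hreg_of_card_pq1 23 2 11 (by norm_num) (by norm_num) (by rw [card_co2X]; norm_num)
  intro d hd hmod
  obtain ⟨m, hm, rfl⟩ := (Nat.dvd_prime_pow Nat.prime_two).mp hd
  interval_cases m
  · left; rfl
  · exfalso; revert hmod; decide
  · exfalso; revert hmod; decide
  · exfalso; revert hmod; decide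
  · exfalso; revert hmod; decide
  · exfalso; revert hmod; decide
  · exfalso; revert hmod; decide
  · exfalso; revert hmod; decide
  · exfalso; revert hmod; decide
  · exfalso; revert hmod; decide
  · exfalso; revert hmod; decide
  · right; rfl

theorem stab_a0L_isCo2 : IsCo2 (stabilizer Co0 a0L) := ⟨stab_a0L_simple, card_stab_a0L⟩

/-- statement of `S0402` -/
theorem co2_stabilizer (v : leechLattice) (hv : sqNorm (v : GolayPt → ℤ) = 32) :
    IsCo2 (stabilizer Co0 v) := by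
  obtain ⟨g0, hg0⟩ := co0_transitive_min v a0L hv (by decide)
  have e : stabilizer Co0 v ≃* stabilizer Co0 a0L := stabilizerEquivStabilizer hg0.symm
  obtain ⟨hs, hc⟩ := stab_a0L_isCo2
  have hcard : Nat.card (stabilizer Co0 v) = 42305421312000 := by
    rw [Nat.card_congr e.toEquiv, hc]
  refine ⟨?_, hcard⟩
  have hnt : Nontrivial (stabilizer Co0 v) := by
    rw [← Finite.one_lt_card_iff_nontrivial, hcard]
    norm_num
  exact IsSimpleGroup.isSimpleGroup_of_surjective e.symm.toMonoidHom e.symm.surjective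

end Cfsg.Agent.helper27
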