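import Mathlib
import Cfsg.Agent.Lib_helper27_SimpleCrit5

set_option autoImplicit false

namespace Cfsg.Agent.helper27

open MulAction

/-! ### regular normal subgroups and the number of suborbits -/

/-- a regular normal subgroup has at most as many element orders as there are suborbits: if the
degree has at least as many prime divisors as there are suborbits, there is none -/
theorem no_regular_of_many_primes {G Ω ι : Type*} [Group G] [Finite G] [MulAction G Ω]
    [DecidableEq ι] (α : Ω) (f : Ω → ι) (V : Finset ι) (hV : ∀ y, f y ∈ V)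
    (htr : ∀ y y' : Ω, f y = f y' → ∃ h ∈ stabilizer G α, h • y = y')
    (P : Finset ℕ) (hP : ∀ p ∈ P, p.Prime ∧ p ∣ Nat.card Ω) (hcard : V.card ≤ P.card)
    (N : Subgroup G) (hN : N.Normal) (htrans : ∀ x : Ω, ∃ n ∈ N, n • α = x)
    (hreg : N ⊓ stabilizer G α = ⊥) : False := by
  classical
  have hc : Nat.card N = Nat.card Ω := card_eq_of_regular α N htrans hreg
  -- elements of each prime order
  have hex : ∀ p ∈ P, ∃ n : G, n ∈ N ∧ orderOf n = p := by
    intro p hp
    obtain ⟨hpp, hdvd⟩ := hP p hp
    have : Fact p.Prime := ⟨hpp⟩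
    rw [← hc] at hdvd
    obtain ⟨n, hn⟩ := exists_prime_orderOf_dvd_card' (G := N) p hdvd
    refine ⟨n.1, n.2, ?_⟩
    rw [← hn]
    exact (Subgroup.orderOf_coe n)
  choose! e he1 he2 using hex
  -- the map from `insert 1 P` to levels
  let φ : ℕ → ι := fun p => if p = 1 then f α else f (e p • α)
  have key : ∀ n ∈ N, ∀ n' ∈ N, f (n • α) = f (n' • α) → orderOf n = orderOf n' := by
    intro n hn n' hn' hff
    obtain ⟨h, hh, hhn⟩ := htr _ _ hff
    have hinv : h⁻¹ • α = α := by
      rw [inv_smul_eq_iff]; exact (mem_stabilizer_iff.mp hh).symm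
    have h1 : n'⁻¹ * (h * n * h⁻¹) ∈ N ⊓ stabilizer G α := by
      refine Subgroup.mem_inf.mpr ⟨N.mul_mem (N.inv_mem hn') (hN.conj_mem n hn h), ?_⟩
      rw [mem_stabilizer_iff, mul_smul, mul_smul, mul_smul, hinv, hhn, inv_smul_smul]
    rw [hreg, Subgroup.mem_bot] at h1
    have h2 : h * n * h⁻¹ = n' := by
      have := congrArg (fun t => n' * t) h1
      simpa using this
    rw [← h2]
    have hs : SemiconjBy h n (h * n * h⁻¹) := by
      unfold SemiconjBy
      group
    exact hs.orderOf_eq h
  have hφ : Set.InjOn φ (insert 1 P : Finset ℕ) := by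
    intro p hp q hq hpq
    have hp1 : ∀ r ∈ P, r ≠ 1 := fun r hr h => (hP r hr).1.ne_one h
    rcases Finset.mem_insert.mp hp with rfl | hp' <;> rcases Finset.mem_insert.mp hq with rfl | hq'
    · rfl
    · exfalso
      have hq1 := hp1 q hq'
      simp only [φ, if_true, if_neg hq1] at hpq
      have := key 1 N.one_mem (e q) (he1 q hq') (by rw [one_smul]; exact hpq)
      rw [orderOf_one, he2 q hq'] at this
      exact hq1 this.symm
    · exfalso
      have hq1 := hp1 p hp'
      simp only [φ, if_true, if_neg hq1] at hpq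
      have := key (e p) (he1 p hp') 1 N.one_mem (by rw [one_smul]; exact hpq)
      rw [orderOf_one, he2 p hp'] at this
      exact hq1 this
    · have h1 := hp1 p hp'
      have h2 := hp1 q hq'
      simp only [φ, if_neg h1, if_neg h2] at hpq
      have := key (e p) (he1 p hp') (e q) (he1 q hq') hpq
      rw [he2 p hp', he2 q hq'] at this
      exact this
  have hmaps : ∀ p ∈ (insert 1 P : Finset ℕ), φ p ∈ V := by
    intro p _
    simp only [φ]
    split_ifs
    · exact hV _
    · exact hV _
  have hle := Finset.card_le_card_of_injOn φ hmaps hφ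
  have h1P : (1 : ℕ) ∉ P := fun h => (hP 1 h).1.ne_one rfl
  rw [Finset.card_insert_of_notMem h1P] at hle
  omega

/-- the simplicity criterion with an abstract exclusion of regular normal subgroups -/
theorem isSimpleGroup_of_prim_stab_noreg {G Ω : Type*} [Group G] [Finite G] [MulAction G Ω]
    [IsPretransitive G Ω] (α : Ω)
    (hH : IsSimpleGroup (stabilizer G α))
    (hcore : ∀ N : Subgroup G, N.Normal → N ≤ stabilizer G α → N = ⊥)
    (hprim : ∀ N : Subgroup G, N.Normal →
      N ≤ stabilizer G α ∨ ∀ x : Ω, ∃ n ∈ N, n • α = x)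
    (hnoreg : ∀ N : Subgroup G, N.Normal → (∀ x : Ω, ∃ n ∈ N, n • α = x) →
      N ⊓ stabilizer G α = ⊥ → False) :
    IsSimpleGroup G := by
  have hnt : Nontrivial G := by
    have := hH.toNontrivial
    obtain ⟨a, b, hab⟩ := this
    exact ⟨⟨a.1, b.1, fun h => hab (Subtype.ext h)⟩⟩
  refine ⟨fun N hN => ?_⟩
  rcases hprim N hN with h1 | htr
  · exact Or.inl (hcore N hN h1)
  · right
    have hK : (N.subgroupOf (stabilizer G α)).Normal := hN.subgroupOf _
    rcases hH.eq_bot_or_eq_top_of_normal _ hK with hb | ht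
    · exfalso
      rw [Subgroup.subgroupOf_eq_bot, disjoint_iff] at hb
      exact hnoreg N hN htr hb
    · rw [Subgroup.subgroupOf_eq_top] at ht
      exact eq_top_of_trans_of_stab_le α N htr ht

end Cfsg.Agent.helper27
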