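import Mathlib
import Cfsg.Agent.Lib_helper27_Co2s2
import Cfsg.Agent.Lib_helper27_SimpleCrit6
import Cfsg.Agent.Lib_helper27_Center
import Cfsg.Agent.Lib_helper27_Co2c
import Cfsg.Agent.Lib_helper27_Pairs1
import Cfsg.Agent.Lib_helper27_Count3

set_option autoImplicit false

namespace Cfsg.Agent.helper27

open Cfsg MulAction
open scoped Pointwise

/-! ### pairs of opposite minimal vectors -/

/-- the pair of a vector and its negative -/
def pairOf (x : leechLattice) : Set leechLattice := {x, -x}

theorem smul_pairOf (g : Co0) (x : leechLattice) : g • pairOf x = pairOf (g • x) := by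
  unfold pairOf
  rw [Set.smul_set_insert, Set.smul_set_singleton, co0_smul_neg]

theorem pairOf_neg (x : leechLattice) : pairOf (-x) = pairOf x := by
  unfold pairOf
  rw [neg_neg, Set.pair_comm]

theorem pairOf_eq_iff {x y : leechLattice} : pairOf x = pairOf y ↔ x = y ∨ x = -y := by
  unfold pairOf
  rw [Set.pair_eq_pair_iff]
  constructor
  · rintro (⟨h, _⟩ | ⟨h, _⟩)
    · exact Or.inl h
    · exact Or.inr h
  · rintro (h | h)
    · left; exact ⟨h, by rw [h]⟩
    · right; exact ⟨h, by rw [h, neg_neg]⟩

/-- the 98280 pairs of minimal vectors -/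
def minPairs : SubMulAction Co0 (Set leechLattice) where
  carrier := {s | ∃ x : leechLattice, sqNorm x.1 = 32 ∧ s = pairOf x}
  smul_mem' := by
    rintro g s ⟨x, hx, rfl⟩
    exact ⟨g • x, by rw [co0_sqNorm]; exact hx, smul_pairOf g x⟩

def mkP (x : leechLattice) (hx : sqNorm x.1 = 32) : minPairs := ⟨pairOf x, x, hx, rfl⟩

theorem exists_mkP (ω : minPairs) : ∃ x hx, ω = mkP x hx := by
  obtain ⟨s, x, hx, rfl⟩ := ω
  exact ⟨x, hx, rfl⟩

theorem mkP_eq_iff {x y : leechLattice} {hx : sqNorm x.1 = 32} {hy : sqNorm y.1 = 32} :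
    mkP x hx = mkP y hy ↔ x = y ∨ x = -y := by
  rw [← pairOf_eq_iff]
  constructor
  · intro h; exact congrArg Subtype.val h
  · intro h; exact Subtype.ext h

set_option synthInstance.maxHeartbeats 400000 in
instance minPairs_mulAction : MulAction Co0 minPairs := inferInstance

theorem smul_mkP (g : Co0) (x : leechLattice) (hx : sqNorm x.1 = 32) :
    g • mkP x hx = mkP (g • x) (by rw [co0_sqNorm]; exact hx) :=
  Subtype.ext (smul_pairOf g x)

/-- the central involution -/
def negC : Co0 := ⟨negPerm, negPerm_mem_Co0⟩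

theorem negC_smul (x : leechLattice) : negC • x = -x := rfl

theorem negC_mem_center : negC ∈ Subgroup.center Co0 := by
  rw [Subgroup.mem_center_iff]
  intro g
  apply Subtype.ext
  exact negPerm_comm g.1 g.2

theorem center_cases (z : Co0) (hz : z ∈ Subgroup.center Co0) : z = 1 ∨ z = negC := by
  obtain ⟨z, hzm⟩ := z
  have hcomm : ∀ (σ : Equiv.Perm GolayPt) (hσ : σ ∈ M24) (c : Finset GolayPt) (hc : c ∈ GS),
      z * monoPerm σ hσ c hc = monoPerm σ hσ c hc * z := by
    intro σ hσ c hc
    rw [Subgroup.mem_center_iff] at hz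
    have := hz ⟨monoPerm σ hσ c hc, monoPerm_mem_Co0 σ hσ c hc⟩
    exact (congrArg Subtype.val this).symm
  rcases central_eq z hzm hcomm with h | h
  · left
    apply Subtype.ext
    exact h
  · right
    apply Subtype.ext
    exact h

theorem center_smul (z : Co0) (hz : z ∈ Subgroup.center Co0) (ω : minPairs) : z • ω = ω := by
  obtain ⟨x, hx, rfl⟩ := exists_mkP ω
  rcases center_cases z hz with rfl | rfl
  · exact one_smul _ _
  · rw [smul_mkP, mkP_eq_iff]
    right
    exact negC_smul x

/-! ### the action of the central quotient -/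

abbrev Co1Q : Type := Co0 ⧸ Subgroup.center Co0

def pairHom : Co1Q →* Equiv.Perm minPairs :=
  QuotientGroup.lift (Subgroup.center Co0) (MulAction.toPermHom Co0 minPairs) (by
    intro z hz
    rw [MonoidHom.mem_ker]
    ext ω : 1
    exact center_smul z hz ω)

instance co1Q_mulAction : MulAction Co1Q minPairs := MulAction.compHom minPairs pairHom

theorem mk_smul (g : Co0) (ω : minPairs) : (QuotientGroup.mk g : Co1Q) • ω = g • ω := rfl

instance co1Q_transitive : IsPretransitive Co1Q minPairs := by
  refine ⟨fun ω ω' => ?_⟩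
  obtain ⟨x, hx, rfl⟩ := exists_mkP ω
  obtain ⟨y, hy, rfl⟩ := exists_mkP ω'
  obtain ⟨g, hg⟩ := co0_transitive_min x y hx hy
  refine ⟨QuotientGroup.mk g, ?_⟩
  rw [mk_smul, smul_mkP, mkP_eq_iff]
  exact Or.inl hg

/-- the base point -/
def α0 : minPairs := mkP a0L (by decide)

theorem neg_a0L_ne : -a0L ≠ a0L := by
  intro h
  have h1 : -a0 = a0 := congrArg Subtype.val h
  revert h1
  decide

/-- the point stabiliser is the stabiliser of a minimal vector -/
def co2ToStab : stabilizer Co0 a0L →* stabilizer Co1Q α0 where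
  toFun h := ⟨QuotientGroup.mk h.1, by
    rw [mem_stabilizer_iff, mk_smul]
    unfold α0
    rw [smul_mkP, mkP_eq_iff]
    exact Or.inl (mem_stabilizer_iff.mp h.2)⟩
  map_one' := rfl
  map_mul' _ _ := rfl

theorem co2ToStab_bijective : Function.Bijective co2ToStab := by
  constructor
  · intro a b h
    have h1 : (QuotientGroup.mk a.1 : Co1Q) = QuotientGroup.mk b.1 :=
      congrArg (fun t : stabilizer Co1Q α0 => t.1) h
    rw [QuotientGroup.eq] at h1
    rcases center_cases _ h1 with h2 | h2
    · apply Subtype.ext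
      exact inv_mul_eq_one.mp h2
    · exfalso
      have ha : a.1 • a0L = a0L := mem_stabilizer_iff.mp a.2
      have hb : b.1 • a0L = a0L := mem_stabilizer_iff.mp b.2
      have h3 : (a.1⁻¹ * b.1) • a0L = a0L := by
        rw [mul_smul, hb, inv_smul_eq_iff, ha]
      rw [h2, negC_smul] at h3
      exact neg_a0L_ne h3
  · intro t
    obtain ⟨g, hg⟩ := QuotientGroup.mk_surjective t.1
    have h1 : (QuotientGroup.mk g : Co1Q) • α0 = α0 := by
      rw [hg]; exact mem_stabilizer_iff.mp t.2
    rw [mk_smul] at h1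
    unfold α0 at h1
    rw [smul_mkP, mkP_eq_iff] at h1
    rcases h1 with h1 | h1
    · refine ⟨⟨g, mem_stabilizer_iff.mpr h1⟩, ?_⟩
      apply Subtype.ext
      exact hg
    · refine ⟨⟨negC * g, ?_⟩, ?_⟩
      · rw [mem_stabilizer_iff, mul_smul, h1, negC_smul, neg_neg]
      · apply Subtype.ext
        show (QuotientGroup.mk (negC * g) : Co1Q) = t.1
        rw [QuotientGroup.mk_mul, (QuotientGroup.eq_one_iff negC).mpr negC_mem_center, one_mul, hg]

theorem stab_α0_simple : IsSimpleGroup (stabilizer Co1Q α0) := by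
  have hnt : Nontrivial (stabilizer Co1Q α0) := by
    have := stab_a0L_simple.toNontrivial
    exact co2ToStab_bijective.1.nontrivial
  have := stab_a0L_simple
  exact IsSimpleGroup.isSimpleGroup_of_surjective co2ToStab co2ToStab_bijective.2

theorem card_Co1Q : Nat.card Co1Q = 4157776806543360000 := by
  have h := Subgroup.card_eq_card_quotient_mul_card_subgroup (Subgroup.center Co0)
  rw [card_Co0, card_center_Co0] at h
  show Nat.card (Co0 ⧸ Subgroup.center Co0) = 4157776806543360000
  omega

instance finite_Co1Q : Finite Co1Q :=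
  Nat.finite_of_card_ne_zero (by rw [card_Co1Q]; norm_num)

theorem card_minPairs : Nat.card minPairs = 98280 := by
  have h := Subgroup.card_eq_card_quotient_mul_card_subgroup (stabilizer Co1Q α0)
  rw [← Nat.card_congr (orbitEquivQuotientStabilizer Co1Q α0), MulAction.orbit_eq_univ,
    card_Co1Q, ← Nat.card_congr (Equiv.ofBijective _ co2ToStab_bijective), card_stab_a0L,
    Nat.card_coe_set_eq, Set.ncard_univ] at h
  omega

instance finite_minPairs : Finite minPairs :=
  Nat.finite_of_card_ne_zero (by rw [card_minPairs]; norm_num)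

end Cfsg.Agent.helper27
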