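import Mathlib
import Cfsg.Agent.Lib_helper27_Co1a

set_option autoImplicit false

namespace Cfsg.Agent.helper27

open Cfsg MulAction
open scoped Pointwise

/-! ### the level of a pair -/

noncomputable def pairRep (ω : minPairs) : leechLattice := ω.2.choose

theorem pairRep_spec (ω : minPairs) : sqNorm (pairRep ω).1 = 32 ∧ ω.1 = pairOf (pairRep ω) :=
  ω.2.choose_spec

noncomputable def pairLvl (ω : minPairs) : ℤ := (dotInt a0 (pairRep ω).1) ^ 2

theorem pairLvl_mkP (x : leechLattice) (hx : sqNorm x.1 = 32) :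
    pairLvl (mkP x hx) = (dotInt a0 x.1) ^ 2 := by
  obtain ⟨h1, h2⟩ := pairRep_spec (mkP x hx)
  have h3 : pairOf x = pairOf (pairRep (mkP x hx)) := h2
  unfold pairLvl
  rcases pairOf_eq_iff.mp h3 with h | h
  · rw [← h]
  · have h4 : (pairRep (mkP x hx)).1 = -x.1 := by
      have : pairRep (mkP x hx) = -x := (neg_eq_iff_eq_neg.mpr h).symm
      rw [this]; rfl
    rw [h4, dotInt_neg_right']
    ring

theorem dotInt_neg_coe (v : GolayPt → ℤ) (x : leechLattice) :
    dotInt v (-x : leechLattice).1 = -dotInt v x.1 :=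
  dotInt_neg_right' v x.1

theorem sqNorm_neg_coe (x : leechLattice) : sqNorm (-x : leechLattice).1 = sqNorm x.1 :=
  sqNorm_neg x.1

/-- transitivity of the vector stabiliser on vectors with given inner product, up to sign -/
theorem pair_trans_aux (x y : leechLattice) (hx : sqNorm x.1 = 32) (hy : sqNorm y.1 = 32)
    (hd : dotInt a0 x.1 = dotInt a0 y.1) :
    ∃ g : Co0, g • a0L = a0L ∧ (g • x = y ∨ g • x = -y) := by
  have ha : sqNorm (a0L : leechLattice).1 = 32 := by decide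
  have hv := dot_values a0L x ha hx
  have hnx : sqNorm (-x : leechLattice).1 = 32 := by rw [sqNorm_neg_coe]; exact hx
  have hny : sqNorm (-y : leechLattice).1 = 32 := by rw [sqNorm_neg_coe]; exact hy
  have neg_case : ∀ c : ℤ, dotInt a0 x.1 = c →
      (∀ x' y' : leechLattice, sqNorm x'.1 = 32 → sqNorm y'.1 = 32 → dotInt a0 x'.1 = -c →
        dotInt a0 y'.1 = -c → ∃ g : Co0, g • a0L = a0L ∧ g • x' = y') →
      ∃ g : Co0, g • a0L = a0L ∧ (g • x = y ∨ g • x = -y) := by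
    intro c hc hT
    obtain ⟨g, hg1, hg2⟩ := hT (-x) (-y) hnx hny (by rw [dotInt_neg_coe, hc])
      (by rw [dotInt_neg_coe, ← hd, hc])
    rw [co0_smul_neg] at hg2
    exact ⟨g, hg1, Or.inl (neg_injective hg2)⟩
  have h32 : ∀ x' y' : leechLattice, sqNorm x'.1 = 32 → sqNorm y'.1 = 32 →
      dotInt a0 x'.1 = 32 → dotInt a0 y'.1 = 32 → ∃ g : Co0, g • a0L = a0L ∧ g • x' = y' := by
    intro x' y' hx' hy' h1 h2
    have e1 : x' ∈ Dset a0L 32 := ⟨hx', h1⟩
    have e2 : y' ∈ Dset a0L 32 := ⟨hy', h2⟩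
    rw [Dset_32 a0L ha, Set.mem_singleton_iff] at e1 e2
    exact ⟨1, one_smul _ _, by rw [one_smul, e1, e2]⟩
  simp only [Finset.mem_insert, Finset.mem_singleton] at hv
  have hv' : dotInt a0 x.1 = -32 ∨ dotInt a0 x.1 = -16 ∨ dotInt a0 x.1 = -8 ∨ dotInt a0 x.1 = 0 ∨
      dotInt a0 x.1 = 8 ∨ dotInt a0 x.1 = 16 ∨ dotInt a0 x.1 = 32 := hv
  rcases hv' with h | h | h | h | h | h | h
  · exact neg_case (-32) h (fun x' y' hx' hy' h1 h2 => h32 x' y' hx' hy' h1 h2)
  · obtain ⟨g, hg1, hg2⟩ := stab_min_transitive_neg2 a0L x y ha hx hy h (by show dotInt a0 y.1 = _; rw [← hd, h])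
    exact ⟨g, hg1, Or.inl hg2⟩
  · obtain ⟨g, hg1, hg2⟩ := stab_min_transitive_m8 a0L x y ha hx hy h (by show dotInt a0 y.1 = _; rw [← hd, h])
    exact ⟨g, hg1, Or.inl hg2⟩
  · exact stab_min_transitive_orth a0L x y ha hx hy h (by show dotInt a0 y.1 = _; rw [← hd, h])
  · exact neg_case 8 h (fun x' y' hx' hy' h1 h2 =>
      stab_min_transitive_m8 a0L x' y' ha hx' hy' h1 h2)
  · exact neg_case 16 h (fun x' y' hx' hy' h1 h2 =>
      stab_min_transitive_neg2 a0L x' y' ha hx' hy' h1 h2)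
  · obtain ⟨g, hg1, hg2⟩ := h32 x y hx hy h (by show dotInt a0 y.1 = _; rw [← hd, h])
    exact ⟨g, hg1, Or.inl hg2⟩

theorem pair_htr (ω ω' : minPairs) (h : pairLvl ω = pairLvl ω') :
    ∃ t ∈ stabilizer Co1Q α0, t • ω = ω' := by
  obtain ⟨x, hx, rfl⟩ := exists_mkP ω
  obtain ⟨y, hy, rfl⟩ := exists_mkP ω'
  rw [pairLvl_mkP, pairLvl_mkP, sq_eq_sq_iff_eq_or_eq_neg] at h
  have hny : sqNorm (-y : leechLattice).1 = 32 := by rw [sqNorm_neg_coe]; exact hy
  have key : ∃ g : Co0, g • a0L = a0L ∧ (g • x = y ∨ g • x = -y) := by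
    rcases h with h | h
    · exact pair_trans_aux x y hx hy h
    · obtain ⟨g, hg1, hg2⟩ := pair_trans_aux x (-y) hx hny (by rw [dotInt_neg_coe, h])
      refine ⟨g, hg1, ?_⟩
      rcases hg2 with hg2 | hg2
      · exact Or.inr hg2
      · left; rw [hg2, neg_neg]
  obtain ⟨g, hg1, hg2⟩ := key
  refine ⟨(co2ToStab ⟨g, mem_stabilizer_iff.mpr hg1⟩).1, (co2ToStab ⟨g, _⟩).2, ?_⟩
  show (QuotientGroup.mk g : Co1Q) • mkP x hx = mkP y hy
  rw [mk_smul, smul_mkP, mkP_eq_iff]
  exact hg2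

theorem pairLvl_mem (ω : minPairs) : pairLvl ω ∈ ({1024, 256, 64, 0} : Finset ℤ) := by
  obtain ⟨x, hx, rfl⟩ := exists_mkP ω
  rw [pairLvl_mkP]
  have hv := dot_values a0L x (by decide) hx
  simp only [Finset.mem_insert, Finset.mem_singleton] at hv
  have hv' : dotInt a0 x.1 = -32 ∨ dotInt a0 x.1 = -16 ∨ dotInt a0 x.1 = -8 ∨ dotInt a0 x.1 = 0 ∨
      dotInt a0 x.1 = 8 ∨ dotInt a0 x.1 = 16 ∨ dotInt a0 x.1 = 32 := hv
  rcases hv' with h | h | h | h | h | h | h <;> rw [h] <;> decide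

theorem pairLvl_α0 : pairLvl α0 = 1024 := by
  unfold α0
  rw [pairLvl_mkP]
  decide

theorem pair_hα (ω : minPairs) (h : pairLvl ω = pairLvl α0) : ω = α0 := by
  obtain ⟨x, hx, rfl⟩ := exists_mkP ω
  rw [pairLvl_α0, pairLvl_mkP] at h
  have ha : sqNorm (a0L : leechLattice).1 = 32 := by decide
  have h2 : (dotInt a0 x.1) ^ 2 = 32 ^ 2 := by rw [h]; norm_num
  rw [sq_eq_sq_iff_eq_or_eq_neg] at h2
  unfold α0
  rw [mkP_eq_iff]
  rcases h2 with h2 | h2
  · left
    have e1 : x ∈ Dset a0L 32 := ⟨hx, h2⟩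
    rw [Dset_32 a0L ha, Set.mem_singleton_iff] at e1
    exact e1
  · right
    have e1 : -x ∈ Dset a0L 32 :=
      ⟨by rw [sqNorm_neg_coe]; exact hx, by
        show dotInt a0 (-x : leechLattice).1 = 32
        rw [dotInt_neg_coe, h2]; norm_num⟩
    rw [Dset_32 a0L ha, Set.mem_singleton_iff] at e1
    rw [← e1, neg_neg]

/-! ### the sizes of the levels -/

theorem level_ncard_of_Dset (c : ℤ) (hc : c ≠ 0) :
    {ω : minPairs | pairLvl ω = c ^ 2}.ncard = (Dset a0L c).ncard := by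
  classical
  let F : leechLattice → minPairs := fun x => if hx : sqNorm x.1 = 32 then mkP x hx else α0
  have hF : ∀ x (hx : sqNorm x.1 = 32), F x = mkP x hx := by
    intro x hx
    simp only [F, dif_pos hx]
  have himg : {ω : minPairs | pairLvl ω = c ^ 2} = F '' Dset a0L c := by
    ext ω
    constructor
    · intro hω
      obtain ⟨x, hx, rfl⟩ := exists_mkP ω
      have h1 : (dotInt a0 x.1) ^ 2 = c ^ 2 := by rw [← pairLvl_mkP x hx]; exact hω
      rw [sq_eq_sq_iff_eq_or_eq_neg] at h1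
      rcases h1 with h1 | h1
      · exact ⟨x, ⟨hx, h1⟩, hF x hx⟩
      · have hnx : sqNorm (-x : leechLattice).1 = 32 := by rw [sqNorm_neg_coe]; exact hx
        refine ⟨-x, ⟨hnx, by
          show dotInt a0 (-x : leechLattice).1 = c
          rw [dotInt_neg_coe, h1, neg_neg]⟩, ?_⟩
        rw [hF _ hnx, mkP_eq_iff]
        exact Or.inr rfl
    · rintro ⟨x, ⟨hx, h1⟩, rfl⟩
      show pairLvl (F x) = c ^ 2
      have h1' : dotInt a0 x.1 = c := h1
      rw [hF x hx, pairLvl_mkP, h1']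
  rw [himg, Set.InjOn.ncard_image]
  rintro x ⟨hx, h1⟩ y ⟨hy, h2⟩ hxy
  rw [hF x hx, hF y hy, mkP_eq_iff] at hxy
  rcases hxy with h | h
  · exact h
  · exfalso
    have h1' : dotInt a0 x.1 = c := h1
    have h2' : dotInt a0 y.1 = c := h2
    rw [h, dotInt_neg_coe, h2'] at h1'
    omega

/-- the subdegrees -/
def co1Deg (s : ℤ) : ℕ :=
  if s = 1024 then 1 else if s = 256 then 4600 else if s = 64 then 47104 else 46575

theorem co1Deg_div : ∀ S ∈ ({1024, 256, 64, 0} : Finset ℤ).powerset, (1024 : ℤ) ∈ S →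
    (∑ s ∈ S, co1Deg s) ∣ 98280 → S = {1024} ∨ S = {1024, 256, 64, 0} := by
  decide +kernel

theorem level_1024 : {ω : minPairs | pairLvl ω = 1024}.ncard = 1 := by
  have : {ω : minPairs | pairLvl ω = 1024} = {α0} := by
    ext ω
    constructor
    · intro h
      exact pair_hα ω (by rw [pairLvl_α0]; exact h)
    · intro h
      rw [Set.mem_singleton_iff.mp h]
      exact pairLvl_α0
  rw [this, Set.ncard_singleton]

theorem level_256 : {ω : minPairs | pairLvl ω = 256}.ncard = 4600 := by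
  have ha : sqNorm (a0L : leechLattice).1 = 32 := by decide
  have := level_ncard_of_Dset (-16) (by norm_num)
  rw [Dset_m16 a0L ha] at this
  exact this

theorem level_64 : {ω : minPairs | pairLvl ω = 64}.ncard = 47104 := by
  have ha : sqNorm (a0L : leechLattice).1 = 32 := by decide
  have := level_ncard_of_Dset (-8) (by norm_num)
  rw [Dset_m8 a0L ha] at this
  exact this

theorem level_0 : {ω : minPairs | pairLvl ω = 0}.ncard = 46575 := by
  have h := ncard_fibres pairLvl ({1024, 256, 64, 0} : Finset ℤ)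
  have huniv : {ω : minPairs | pairLvl ω ∈ ({1024, 256, 64, 0} : Finset ℤ)} = Set.univ := by
    ext ω
    simp only [Set.mem_univ, iff_true]
    exact pairLvl_mem ω
  rw [huniv, Set.ncard_univ, card_minPairs, Finset.sum_insert (by decide),
    Finset.sum_insert (by decide), Finset.sum_insert (by decide), Finset.sum_singleton,
    level_1024, level_256, level_64] at h
  omega

theorem co1_prim (N : Subgroup Co1Q) (hN : N.Normal) :
    N ≤ stabilizer Co1Q α0 ∨ ∀ x : minPairs, ∃ n ∈ N, n • α0 = x := by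
  refine prim_of_levels α0 pairLvl {1024, 256, 64, 0} co1Deg pairLvl_mem ?_ pair_hα pair_htr ?_
    N hN
  · intro s hs
    simp only [Finset.mem_insert, Finset.mem_singleton] at hs
    rcases hs with rfl | rfl | rfl | rfl
    · rw [level_1024]; rfl
    · rw [level_256]; rfl
    · rw [level_64]; rfl
    · rw [level_0]; rfl
  · rw [pairLvl_α0, card_minPairs]
    exact co1Deg_div

theorem co1_core (N : Subgroup Co1Q) (hN : N.Normal) (hle : N ≤ stabilizer Co1Q α0) :
    N = ⊥ := by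
  apply core_trivial_of_simple_stab α0 stab_α0_simple _ N hN hle
  have hm1 : vB (cw 84) ∅ ∈ co2P := cBi_sub (by decide) mS_Bi0_C10out
  have hm2 : vB (cw 4) ∅ ∈ co2P := cBi_sub (by decide) mS_Bi0_Ci8
  have hne : vB (cw 84) ∅ ≠ vB (cw 4) ∅ := by decide
  have hne' : vB (cw 84) ∅ ≠ -vB (cw 4) ∅ := by decide
  have hl : pairLvl (mkP ⟨_, co2P_mem hm1⟩ hm1.2.1) = pairLvl (mkP ⟨_, co2P_mem hm2⟩ hm2.2.1) := by
    rw [pairLvl_mkP, pairLvl_mkP]
    show (dotInt a0 (vB (cw 84) ∅)) ^ 2 = (dotInt a0 (vB (cw 4) ∅)) ^ 2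
    rw [hm1.2.2, hm2.2.2]
  obtain ⟨t, ht, htx⟩ := pair_htr _ _ hl
  refine ⟨t, ht, mkP ⟨_, co2P_mem hm1⟩ hm1.2.1, ?_⟩
  rw [htx]
  intro h
  rw [mkP_eq_iff] at h
  rcases h with h | h
  · exact hne (congrArg Subtype.val h).symm
  · apply hne'
    have h3 := congrArg Subtype.val h
    have h4 : vB (cw 4) ∅ = -vB (cw 84) ∅ := h3
    rw [h4, neg_neg]

theorem co1Q_simple : IsSimpleGroup Co1Q := by
  refine isSimpleGroup_of_prim_stab_noreg (G := Co1Q) (Ω := minPairs) α0 stab_α0_simple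
    co1_core co1_prim ?_
  intro N hN htrans hreg
  refine no_regular_of_many_primes α0 pairLvl {1024, 256, 64, 0} pairLvl_mem pair_htr
    {2, 3, 5, 7, 13} ?_ (by decide) N hN htrans hreg
  intro p hp
  rw [card_minPairs]
  simp only [Finset.mem_insert, Finset.mem_singleton] at hp
  rcases hp with rfl | rfl | rfl | rfl | rfl <;> norm_num

/-- statement of `S0399` -/
theorem co1_isCo1 : IsCo1 (Co0 ⧸ Subgroup.center Co0) := ⟨co1Q_simple, card_Co1Q⟩

end Cfsg.Agent.helper27
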