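import Mathlib
import Cfsg.Agent.Lib_helper27_Co2s2

set_option autoImplicit false

namespace Cfsg.Agent.helper27

open Cfsg MulAction
open scoped Pointwise

/-! ### reduction modulo 13 -/

/-- the matrix modulo 13 of a bijection of the lattice, from the images of the `8 e_j` -/
def M13 (g : Equiv.Perm leechLattice) : Matrix GolayPt GolayPt (ZMod 13) :=
  fun i j => (((g (e8 j)).1 i : ℤ) : ZMod 13) * 5

theorem M13_one : M13 1 = 1 := by
  ext i j
  unfold M13
  show (((e8 j).1 i : ℤ) : ZMod 13) * 5 = _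
  rw [e8_apply, Matrix.one_apply]
  by_cases h : i = j
  · rw [if_pos h, if_pos h]; decide
  · rw [if_neg h, if_neg h]; simp

theorem M13_mul (g h : Equiv.Perm leechLattice) (hg : g ∈ Co0) :
    M13 (g * h) = M13 g * M13 h := by
  ext i k
  rw [Matrix.mul_apply]
  unfold M13
  have h1 := congrArg (Int.cast : ℤ → ZMod 13) (eight_mul_apply g hg (h (e8 k)) i)
  push_cast at h1
  have h2 : ∑ j, ((((g (e8 j)).1 i : ℤ) : ZMod 13) * 5) * ((((h (e8 k)).1 j : ℤ) : ZMod 13) * 5)
      = 25 * ∑ j, (((h (e8 k)).1 j : ℤ) : ZMod 13) * (((g (e8 j)).1 i : ℤ) : ZMod 13) := by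
    rw [Finset.mul_sum]
    refine Finset.sum_congr rfl (fun j _ => ?_)
    ring
  rw [h2, ← h1]
  show ((((g (h (e8 k))).1 i : ℤ)) : ZMod 13) * 5 = _
  have e : (25 : ZMod 13) * 8 = 5 := by decide
  calc ((((g (h (e8 k))).1 i : ℤ)) : ZMod 13) * 5
      = ((25 : ZMod 13) * 8) * ((((g (h (e8 k))).1 i : ℤ)) : ZMod 13) := by rw [e]; ring
    _ = _ := by ring

/-! ### the quotient by the fixed vector -/

/-- the points other than the point at infinity -/
def sm (j : Fin 23) : GolayPt := @Option.some (ZMod 23) j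

def iota13 : Matrix GolayPt (Fin 23) (ZMod 13) := fun p j => if p = sm j then 1 else 0

def pi13 : Matrix (Fin 23) GolayPt (ZMod 13) :=
  fun i p => if p = sm i then 1 else if p = none ∧ i = 0 then -1 else 0

def E13 : Matrix GolayPt GolayPt (ZMod 13) :=
  fun p q => if q = none ∧ (p = none ∨ p = some 0) then 1 else 0

set_option maxRecDepth 100000 in
theorem pi_iota : pi13 * iota13 = 1 := by decide +kernel

set_option maxRecDepth 100000 in
theorem iota_pi : iota13 * pi13 = 1 - E13 := by decide +kernel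

set_option maxRecDepth 100000 in
theorem pi_E : pi13 * E13 = 0 := by decide +kernel

end Cfsg.Agent.helper27
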