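import Mathlib
import Cfsg.Agent.Lib_helper27_Co2rep1

set_option autoImplicit false

namespace Cfsg.Agent.helper27

open Cfsg MulAction
open scoped Pointwise

/-! ### the second Conway group of the definitions -/

theorem leechU_eq : Spor.leechU = a0L := by
  apply Subtype.ext
  show Spor.vecU = a0
  decide

theorem mem_sporCo2 {g : Equiv.Perm leechLattice} :
    g ∈ Spor.Co2 ↔ g ∈ Co0 ∧ g a0L = a0L := by
  unfold Spor.Co2
  rw [Subgroup.mem_inf, mem_stabilizer_iff, leechU_eq]
  rfl

/-- the stabiliser of the reference vector is the group of the definitions -/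
def stabToSpor : stabilizer Co0 a0L →* Spor.Co2 where
  toFun g := ⟨g.1.1, mem_sporCo2.mpr ⟨g.1.2, mem_stabilizer_iff.mp g.2⟩⟩
  map_one' := rfl
  map_mul' _ _ := rfl

theorem stabToSpor_surjective : Function.Surjective stabToSpor := by
  intro t
  obtain ⟨h1, h2⟩ := mem_sporCo2.mp t.2
  exact ⟨⟨⟨t.1, h1⟩, mem_stabilizer_iff.mpr h2⟩, rfl⟩

theorem stabToSpor_injective : Function.Injective stabToSpor := by
  intro a b h
  have : (stabToSpor a).1 = (stabToSpor b).1 := by rw [h]
  exact Subtype.ext (Subtype.ext this)

theorem sporCo2_simple : IsSimpleGroup Spor.Co2 := by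
  have hnt : Nontrivial Spor.Co2 := by
    have := stab_a0L_simple.toNontrivial
    exact stabToSpor_injective.nontrivial
  have := stab_a0L_simple
  exact IsSimpleGroup.isSimpleGroup_of_surjective stabToSpor stabToSpor_surjective

theorem card_sporCo2 : Nat.card Spor.Co2 = 42305421312000 := by
  rw [← Nat.card_congr (Equiv.ofBijective _ ⟨stabToSpor_injective, stabToSpor_surjective⟩),
    card_stab_a0L]

/-! ### the representation of degree 23 -/

theorem e8_sum : e8 none + e8 (some 0) = a0L + a0L := by
  apply Subtype.ext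
  show (Pi.single none (8 : ℤ) + Pi.single (some 0) (8 : ℤ) : GolayPt → ℤ) = a0 + a0
  decide

theorem M13_E (g : Equiv.Perm leechLattice) (hg : g ∈ Spor.Co2) : M13 g * E13 = E13 := by
  obtain ⟨h1, h2⟩ := mem_sporCo2.mp hg
  ext p q
  rw [Matrix.mul_apply]
  unfold E13
  by_cases hq : q = none
  · have e1 : ∀ r : GolayPt, M13 g p r * (if q = none ∧ (r = none ∨ r = some 0) then 1 else 0)
        = if r = none ∨ r = some 0 then M13 g p r else 0 := by
      intro r
      by_cases hr : r = none ∨ r = some 0
      · rw [if_pos ⟨hq, hr⟩, if_pos hr, mul_one]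
      · rw [if_neg (fun h => hr h.2), if_neg hr, mul_zero]
    rw [Finset.sum_congr rfl (fun r _ => e1 r)]
    have e2 : (∑ r : GolayPt, if r = none ∨ r = some 0 then M13 g p r else 0)
        = M13 g p none + M13 g p (some 0) := by
      rw [← Finset.sum_filter]
      have : (Finset.univ.filter (fun r : GolayPt => r = none ∨ r = some 0))
          = {none, some 0} := by decide
      rw [this, Finset.sum_pair (by decide)]
    rw [e2]
    unfold M13
    have e3 : g (e8 none) + g (e8 (some 0)) = a0L + a0L := by
      rw [← h1.1, e8_sum, h1.1, h2]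
    have e4 := congrFun (congrArg Subtype.val e3) p
    have e5 : (g (e8 none)).1 p + (g (e8 (some 0))).1 p = a0 p + a0 p := e4
    rw [← add_mul, ← Int.cast_add, e5]
    by_cases hp : p = none ∨ p = some 0
    · rw [if_pos ⟨hq, hp⟩]
      rcases hp with rfl | rfl <;> decide
    · rw [if_neg (fun h => hp h.2)]
      have : a0 p = 0 := by
        rw [not_or] at hp
        unfold a0
        rw [pair4_apply]
        rw [if_neg hp.1, if_neg hp.2]
        norm_num
      rw [this]
      simp
  · have e1 : ∀ r : GolayPt, M13 g p r * (if q = none ∧ (r = none ∨ r = some 0) then 1 else 0)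
        = 0 := by
      intro r
      rw [if_neg (fun h => hq h.1), mul_zero]
    rw [Finset.sum_congr rfl (fun r _ => e1 r), Finset.sum_const_zero, if_neg (fun h => hq h.1)]

/-- the matrix of degree 23 -/
def A13 (g : Equiv.Perm leechLattice) : Matrix (Fin 23) (Fin 23) (ZMod 13) :=
  pi13 * M13 g * iota13

theorem A13_one : A13 1 = 1 := by
  unfold A13
  rw [M13_one, Matrix.mul_one, pi_iota]

theorem A13_mul (g h : Equiv.Perm leechLattice) (hg : g ∈ Spor.Co2) :
    A13 (g * h) = A13 g * A13 h := by
  unfold A13
  have hg0 := (mem_sporCo2.mp hg).1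
  rw [M13_mul g h hg0]
  have key : pi13 * M13 g * iota13 * (pi13 * M13 h * iota13)
      = pi13 * M13 g * (iota13 * pi13) * M13 h * iota13 := by
    simp only [Matrix.mul_assoc]
  rw [key, iota_pi, Matrix.mul_sub, Matrix.mul_one, Matrix.mul_assoc pi13 (M13 g) E13,
    M13_E g hg, pi_E, sub_zero]
  simp only [Matrix.mul_assoc]

/-- the representation as a homomorphism to matrices -/
def rep23 : Spor.Co2 →* Matrix (Fin 23) (Fin 23) (ZMod 13) where
  toFun g := A13 g.1
  map_one' := A13_one
  map_mul' g h := A13_mul g.1 h.1 g.2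

end Cfsg.Agent.helper27
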