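import Mathlib
import Cfsg.Agent.Lib_helper27_Co2rep2

set_option autoImplicit false

namespace Cfsg.Agent.helper27

open Cfsg MulAction
open scoped Pointwise

theorem A13_apply_of_ne (g : Equiv.Perm leechLattice) (i j : Fin 23) (hi : i ≠ 0) :
    A13 g i j = M13 g (sm i) (sm j) := by
  unfold A13
  rw [Matrix.mul_apply]
  have e1 : ∀ q : GolayPt, (pi13 * M13 g) i q * iota13 q j
      = if q = sm j then (pi13 * M13 g) i q else 0 := by
    intro q
    unfold iota13
    split_ifs <;> simp
  rw [Finset.sum_congr rfl (fun q _ => e1 q), Finset.sum_ite_eq' Finset.univ (sm j),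
    if_pos (Finset.mem_univ _), Matrix.mul_apply]
  have e2 : ∀ p : GolayPt, pi13 i p * M13 g p (sm j)
      = if p = sm i then M13 g p (sm j) else 0 := by
    intro p
    unfold pi13
    by_cases hp : p = sm i
    · rw [if_pos hp, if_pos hp, one_mul]
    · rw [if_neg hp, if_neg hp, if_neg (fun h => hi h.2), zero_mul]
  rw [Finset.sum_congr rfl (fun p _ => e2 p), Finset.sum_ite_eq' Finset.univ (sm i),
    if_pos (Finset.mem_univ _)]

/-- a sign change in the group -/
def sgn22 : Equiv.Perm leechLattice :=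
  monoPerm 1 (Subgroup.one_mem _) (cw 22) (cw_mem_GS (by norm_num))

theorem sgn22_mem : sgn22 ∈ Spor.Co2 := by
  rw [mem_sporCo2]
  refine ⟨monoPerm_mem_Co0 _ _ _ _, ?_⟩
  apply Subtype.ext
  show signedPerm 1 (cw 22) a0 = a0
  decide

theorem A13_sgn22 : A13 sgn22 ≠ 1 := by
  intro h
  have h1 := congrFun (congrFun h 1) 1
  rw [A13_apply_of_ne _ _ _ (by decide)] at h1
  unfold M13 at h1
  have h2 : ((sgn22 (e8 (sm 1))).1 (sm 1) : ℤ) = -8 := by
    show signedPerm 1 (cw 22) (Pi.single (sm 1) (8 : ℤ)) (sm 1) = -8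
    decide
  rw [h2] at h1
  revert h1
  decide

/-- statement of `S5546` -/
theorem co2_embeds : ∃ f : ↥Spor.Co2 →* GL (Fin 23) (ZMod 13), Function.Injective f := by
  refine ⟨rep23.toHomUnits, ?_⟩
  rw [← MonoidHom.ker_eq_bot_iff]
  have hs := sporCo2_simple
  rcases (MonoidHom.normal_ker rep23.toHomUnits).eq_bot_or_eq_top with h | h
  · exact h
  · exfalso
    have hm : (⟨sgn22, sgn22_mem⟩ : Spor.Co2) ∈ rep23.toHomUnits.ker := by rw [h]; trivial
    rw [MonoidHom.mem_ker] at hm
    have h2 := congrArg (fun u : GL (Fin 23) (ZMod 13) => (u : Matrix (Fin 23) (Fin 23) (ZMod 13))) hm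
    simp only [MonoidHom.coe_toHomUnits, Units.val_one] at h2
    exact A13_sgn22 h2

end Cfsg.Agent.helper27
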