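import Mathlib
import Cfsg.Agent.Lib_helper27_Co1a

set_option autoImplicit false

namespace Cfsg.Agent.helper27

open Cfsg MulAction
open scoped Pointwise

/-! ### orbit-stabiliser for a subgroup -/

theorem card_eq_orbit_mul_inf {G X : Type*} [Group G] [MulAction G X] (L : Subgroup G) (x : X) :
    Nat.card L = {y : X | ∃ g ∈ L, g • x = y}.ncard *
      Nat.card (L ⊓ stabilizer G x : Subgroup G) := by
  have h1 := Subgroup.card_eq_card_quotient_mul_card_subgroup (stabilizer L x)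
  rw [← Nat.card_congr (orbitEquivQuotientStabilizer L x)] at h1
  have h2 : orbit L x = {y : X | ∃ g ∈ L, g • x = y} := by
    ext y
    constructor
    · rintro ⟨g, rfl⟩
      exact ⟨g.1, g.2, rfl⟩
    · rintro ⟨g, hg, rfl⟩
      exact ⟨⟨g, hg⟩, rfl⟩
  have h3 : Nat.card (stabilizer L x) = Nat.card (L ⊓ stabilizer G x : Subgroup G) := by
    refine Nat.card_congr ⟨fun g => ⟨g.1.1, g.1.2, g.2⟩, fun g => ⟨⟨g.1, g.2.1⟩, g.2.2⟩,
      fun g => rfl, fun g => rfl⟩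
  rw [h1, h3, ← h2, Nat.card_coe_set_eq]

/-! ### orbit relation of a subgroup on raw vectors -/

/-- `y` lies in the orbit of `x` under the subgroup `L` -/
def SOrb (L : Subgroup Co0) (x y : GolayPt → ℤ) : Prop :=
  ∃ (hx : x ∈ leechLattice), ∃ g ∈ L, ((g • (⟨x, hx⟩ : leechLattice) : leechLattice) :
    GolayPt → ℤ) = y

theorem SOrb.refl (L : Subgroup Co0) {x : GolayPt → ℤ} (hx : x ∈ leechLattice) : SOrb L x x :=
  ⟨hx, 1, L.one_mem, by rw [one_smul]⟩

theorem SOrb.mem_left {L : Subgroup Co0} {x y : GolayPt → ℤ} (h : SOrb L x y) :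
    x ∈ leechLattice := h.1

theorem SOrb.mem_right {L : Subgroup Co0} {x y : GolayPt → ℤ} (h : SOrb L x y) :
    y ∈ leechLattice := by
  obtain ⟨hx, g, _, rfl⟩ := h
  exact (g • (⟨x, hx⟩ : leechLattice)).2

theorem SOrb.symm {L : Subgroup Co0} {x y : GolayPt → ℤ} (h : SOrb L x y) : SOrb L y x := by
  have hy := h.mem_right
  obtain ⟨hx, g, hg, he⟩ := h
  refine ⟨hy, g⁻¹, L.inv_mem hg, ?_⟩
  have : (⟨y, hy⟩ : leechLattice) = g • ⟨x, hx⟩ := Subtype.ext he.symm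
  rw [this, inv_smul_smul]

theorem SOrb.trans {L : Subgroup Co0} {x y z : GolayPt → ℤ} (h1 : SOrb L x y)
    (h2 : SOrb L y z) : SOrb L x z := by
  obtain ⟨hx, g, hg, he⟩ := h1
  obtain ⟨hy, g', hg', he'⟩ := h2
  refine ⟨hx, g' * g, L.mul_mem hg' hg, ?_⟩
  have : g • (⟨x, hx⟩ : leechLattice) = ⟨y, hy⟩ := Subtype.ext he
  rw [mul_smul, this]
  exact he'

theorem SOrb.mono {L L' : Subgroup Co0} (hL : L ≤ L') {x y : GolayPt → ℤ} (h : SOrb L x y) :
    SOrb L' x y := by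
  obtain ⟨hx, g, hg, he⟩ := h
  exact ⟨hx, g, hL hg, he⟩

/-- the monomial element as an element of `Co0` -/
def monoC (σ : Equiv.Perm GolayPt) (hσ : σ ∈ M24) (c : Finset GolayPt) (hc : c ∈ GS) : Co0 :=
  ⟨monoPerm σ hσ c hc, monoPerm_mem_Co0 σ hσ c hc⟩

theorem monoC_smul (σ : Equiv.Perm GolayPt) (hσ : σ ∈ M24) (c : Finset GolayPt) (hc : c ∈ GS)
    (v : leechLattice) : ((monoC σ hσ c hc • v : leechLattice) : GolayPt → ℤ)
      = signedPerm σ c v.1 := monoPerm_apply σ hσ c hc v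

/-! ### the stabiliser of the standard cross -/

/-- the hypothesis on the subgroup in the statement -/
def IsCrossStab (H : Subgroup Co0) : Prop :=
  (H : Set Co0) = {g : Co0 | ∀ v : leechLattice, (v : GolayPt → ℤ) ∈ stdCross →
    ((g • v : leechLattice) : GolayPt → ℤ) ∈ stdCross}

theorem IsCrossStab.mem_iff {H : Subgroup Co0} (hH : IsCrossStab H) (g : Co0) :
    g ∈ H ↔ ∀ v : leechLattice, (v : GolayPt → ℤ) ∈ stdCross →
      ((g • v : leechLattice) : GolayPt → ℤ) ∈ stdCross := by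
  rw [← SetLike.mem_coe, hH]
  rfl

theorem IsCrossStab.monoC_mem {H : Subgroup Co0} (hH : IsCrossStab H) (σ : Equiv.Perm GolayPt)
    (hσ : σ ∈ M24) (c : Finset GolayPt) (hc : c ∈ GS) : monoC σ hσ c hc ∈ H := by
  rw [hH.mem_iff]
  intro v hv
  rw [monoC_smul]
  exact signedPerm_mem_stdCross σ c hv

theorem IsCrossStab.exists_mono {H : Subgroup Co0} (hH : IsCrossStab H) {g : Co0} (hg : g ∈ H) :
    ∃ σ ∈ M24, ∃ c ∈ GS, ∀ v : leechLattice,
      ((g • v : leechLattice) : GolayPt → ℤ) = signedPerm σ c v.1 := by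
  obtain ⟨f, ⟨σ, hσ, c, hc, rfl⟩, hf⟩ := cross_stabilizer.1 g ((hH.mem_iff g).mp hg)
  exact ⟨σ, hσ, c, hc, hf⟩

theorem IsCrossStab.card {H : Subgroup Co0} (hH : IsCrossStab H) :
    Nat.card H = 4096 * 244823040 := by
  rw [← cross_stabilizer.2]
  exact Nat.card_congr (Equiv.subtypeEquivRight (fun g => hH.mem_iff g))

theorem IsCrossStab.stab_eInfL_le {H : Subgroup Co0} (hH : IsCrossStab H) :
    stabilizer Co0 eInfL ≤ H := by
  intro g hg
  rw [hH.mem_iff]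
  exact stab_preserves_stdCross g hg

theorem SOrb.of_mono {H : Subgroup Co0} (hH : IsCrossStab H) {σ : Equiv.Perm GolayPt}
    (hσ : σ ∈ M24) {c : Finset GolayPt} (hc : c ∈ GS) {x : GolayPt → ℤ}
    (hx : x ∈ leechLattice) : SOrb H x (signedPerm σ c x) :=
  ⟨hx, monoC σ hσ c hc, hH.monoC_mem σ hσ c hc, monoC_smul σ hσ c hc ⟨x, hx⟩⟩

/-- orbit under the stabiliser of `a0` in the cross stabiliser -/
theorem SOrb.of_mono_fix {H : Subgroup Co0} (hH : IsCrossStab H) {σ : Equiv.Perm GolayPt}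
    (hσ : σ ∈ M24) {c : Finset GolayPt} (hc : c ∈ GS) (hfix : signedPerm σ c a0 = a0)
    {x : GolayPt → ℤ} (hx : x ∈ leechLattice) :
    SOrb (H ⊓ stabilizer Co0 a0L) x (signedPerm σ c x) := by
  refine ⟨hx, monoC σ hσ c hc, ⟨hH.monoC_mem σ hσ c hc, ?_⟩, monoC_smul σ hσ c hc ⟨x, hx⟩⟩
  show monoC σ hσ c hc ∈ stabilizer Co0 a0L
  rw [mem_stabilizer_iff]
  apply Subtype.ext
  rw [monoC_smul]
  exact hfix

end Cfsg.Agent.helper27
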