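import Mathlib
import Cfsg.Agent.Lib_helper27_CrMax1

set_option autoImplicit false

namespace Cfsg.Agent.helper27

open Cfsg MulAction
open scoped Pointwise

/-! ### sign changes on the standard shapes -/

theorem signedPerm_eq_sc (σ : Equiv.Perm GolayPt) (c : Finset GolayPt) (x : GolayPt → ℤ) :
    signedPerm σ c x = sc c (signedPerm σ ∅ x) := by
  funext i
  unfold sc signedPerm
  simp

theorem sc_vB {o s : Finset GolayPt} (c : Finset GolayPt) (hs : s ⊆ o) :
    sc c (vB o s) = vB o (symmDiff s (c ∩ o)) := by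
  funext i
  unfold sc vB
  simp only [Finset.mem_symmDiff, Finset.mem_inter]
  by_cases hc : i ∈ c <;> by_cases his : i ∈ s <;> by_cases hio : i ∈ o <;>
    simp [hc, his, hio]
  exact hio (hs his)

theorem sc_vC (c : Finset GolayPt) (j : GolayPt) (b : Finset GolayPt) :
    sc c (vC j b) = vC j (symmDiff b c) := by
  funext i
  unfold sc vC
  simp only [Finset.mem_symmDiff]
  by_cases hj : i = j
  · subst hj
    by_cases hc : i ∈ c <;> by_cases hb : i ∈ b <;> simp [hc, hb]
  · by_cases hc : i ∈ c <;> by_cases hb : i ∈ b <;> simp [hc, hb, hj]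

theorem sc_pair4 (c : Finset GolayPt) (i j : GolayPt) (a b : ℤ) :
    sc c (pair4 i j a b)
      = pair4 i j (if i ∈ c then -a else a) (if j ∈ c then -b else b) := by
  funext k
  unfold sc pair4
  simp only [Pi.add_apply, Pi.single_apply]
  by_cases hk : k ∈ c <;> by_cases hi : k = i <;> by_cases hj : k = j <;>
    simp_all
  ring

/-! ### code words with prescribed pattern -/

theorem exists_GS_pattern2 {i j : GolayPt} (hij : i ≠ j) (p q : Prop) [Decidable p] [Decidable q] :
    ∃ c ∈ GS, (i ∈ c ↔ p) ∧ (j ∈ c ↔ q) := by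
  by_cases hp : p <;> by_cases hq : q
  · exact ⟨Finset.univ, univ_mem_GS, by simp [hp], by simp [hq]⟩
  · obtain ⟨c, hc, h1, h2⟩ := exists_GS_separating i j hij
    exact ⟨c, hc, by simp [hp, h1], by simp [hq, h2]⟩
  · obtain ⟨c, hc, h1, h2⟩ := exists_GS_separating j i hij.symm
    exact ⟨c, hc, by simp [hp, h2], by simp [hq, h1]⟩
  · exact ⟨∅, empty_mem_GS, by simp [hp], by simp [hq]⟩

theorem exists_GS_one_of_four {p1 p2 p3 p4 : GolayPt} (h12 : p1 ≠ p2) (h13 : p1 ≠ p3)
    (h14 : p1 ≠ p4) (h23 : p2 ≠ p3) (h24 : p2 ≠ p4) (h34 : p3 ≠ p4) :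
    ∃ c ∈ GS, p1 ∈ c ∧ p2 ∉ c ∧ p3 ∉ c ∧ p4 ∉ c := by
  obtain ⟨σ, hσ, e1, e2, e3, e4⟩ := exists_M24_four (a := none) (b := some 0) (c := some 1)
    (d := some 2) (by decide) (by decide) (by decide) (by decide) (by decide) (by decide)
    h12 h13 h14 h23 h24 h34
  have hr : (none : GolayPt) ∈ cw 16 ∧ (some 0 : GolayPt) ∉ cw 16 ∧ (some 1 : GolayPt) ∉ cw 16 ∧
      (some 2 : GolayPt) ∉ cw 16 := by
    simp only [mem_cw_iff]
    decide
  refine ⟨σ • cw 16, smul_mem_GS hσ (cw_mem_GS (by norm_num)), ?_, ?_, ?_, ?_⟩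
  · rw [← e1]; exact Finset.smul_mem_smul_finset hr.1
  · rw [← e2]; intro h; exact hr.2.1 ((Finset.smul_mem_smul_finset_iff σ).mp h)
  · rw [← e3]; intro h; exact hr.2.2.1 ((Finset.smul_mem_smul_finset_iff σ).mp h)
  · rw [← e4]; intro h; exact hr.2.2.2 ((Finset.smul_mem_smul_finset_iff σ).mp h)

/-! ### every even subset of an octad is cut out by a code word -/

theorem exists_GS_inter_pair {o : Finset GolayPt} (ho : o ∈ octads) {a b : GolayPt} (ha : a ∈ o)
    (hb : b ∈ o) (hab : a ≠ b) : ∃ c ∈ GS, c ∩ o = {a, b} := by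
  have h1 : (some 1 : GolayPt) ∈ oN := by unfold oN; rw [helper2.Golay.mem_pts]; decide
  have h12 : (some 12 : GolayPt) ∈ oN := by unfold oN; rw [helper2.Golay.mem_pts]; decide
  have hne : (some 1 : GolayPt) ≠ some 12 := by decide
  obtain ⟨σ, hσ, e1, e2⟩ := exists_M24_octad_emb (k := 2) (by norm_num) oN_mem.1 ho
    (emb2 hne) (emb2 hab) (emb2_mem hne h1 h12) (emb2_mem hab ha hb)
  have f0 : σ (some 1) = a := e2 0
  have f1 : σ (some 12) = b := e2 1
  have hr : cw 54 ∩ oN = {some 1, some 12} := by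
    ext p
    rw [Finset.mem_inter, mem_cw_iff]
    unfold oN
    rw [helper2.Golay.mem_pts]
    revert p
    decide
  refine ⟨σ • cw 54, smul_mem_GS hσ (cw_mem_GS (by norm_num)), ?_⟩
  rw [← e1, ← Finset.smul_finset_inter, hr, smul_pair, f0, f1]

theorem exists_GS_inter_even {o : Finset GolayPt} (ho : o ∈ octads) :
    ∀ (n : ℕ) (e : Finset GolayPt), e.card = n → e ⊆ o → Even e.card → ∃ c ∈ GS, c ∩ o = e := by
  intro n
  induction n using Nat.strong_induction_on with
  | _ n ih =>
    intro e hn he hev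
    by_cases h0 : e = ∅
    · subst h0
      exact ⟨∅, empty_mem_GS, by simp⟩
    · obtain ⟨a, ha⟩ := Finset.nonempty_iff_ne_empty.mpr h0
      have hcard : 2 ≤ e.card := by
        have h1 : 0 < e.card := Finset.card_pos.mpr ⟨a, ha⟩
        obtain ⟨k, hk⟩ := hev
        omega
      have hne : (e.erase a).Nonempty := by
        rw [← Finset.card_pos, Finset.card_erase_of_mem ha]
        omega
      obtain ⟨b, hb⟩ := hne
      obtain ⟨hba, hbe⟩ := Finset.mem_erase.mp hb
      have hsub : ({a, b} : Finset GolayPt) ⊆ e := by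
        intro x hx
        rcases Finset.mem_insert.mp hx with rfl | hx
        · exact ha
        · rw [Finset.mem_singleton.mp hx]; exact hbe
      have hc2 : ({a, b} : Finset GolayPt).card = 2 := Finset.card_pair (Ne.symm hba)
      have hcard' : (e \ {a, b}).card = e.card - 2 := by
        rw [Finset.card_sdiff_of_subset hsub, hc2]
      obtain ⟨c1, hc1, hi1⟩ := ih (e.card - 2) (by omega) (e \ {a, b}) hcard'
        (fun x hx => he (Finset.mem_sdiff.mp hx).1) (by
          rw [hcard']
          obtain ⟨k, hk⟩ := hev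
          exact ⟨k - 1, by omega⟩)
      obtain ⟨c2, hc2', hi2⟩ := exists_GS_inter_pair ho (he ha) (he hbe) (Ne.symm hba)
      refine ⟨symmDiff c1 c2, symmDiff_mem_supports hc1 hc2', ?_⟩
      ext x
      have e1 := Finset.ext_iff.mp hi1 x
      have e2 := Finset.ext_iff.mp hi2 x
      simp only [Finset.mem_inter, Finset.mem_sdiff, Finset.mem_insert,
        Finset.mem_singleton] at e1 e2
      simp only [Finset.mem_inter, Finset.mem_symmDiff]
      have hab_mem : x = a ∨ x = b → x ∈ e := by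
        rintro (rfl | rfl)
        · exact ha
        · exact hbe
      have hxo : x ∈ e → x ∈ o := fun h => he h
      tauto

theorem exists_GS_inter {o : Finset GolayPt} (ho : o ∈ octads) {e : Finset GolayPt} (he : e ⊆ o)
    (hev : Even e.card) : ∃ c ∈ GS, c ∩ o = e :=
  exists_GS_inter_even ho e.card e rfl he hev

end Cfsg.Agent.helper27
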