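import Mathlib
import Cfsg.Agent.Lib_helper27_CrMax2

set_option autoImplicit false

namespace Cfsg.Agent.helper27

open Cfsg MulAction
open scoped Pointwise

/-! ### the cross stabiliser is transitive on each of the three shapes of minimal vectors -/

theorem a0_eq : a0 = pair4 none (some 0) 4 4 := rfl

theorem signedPerm_pair4' (σ : Equiv.Perm GolayPt) (c : Finset GolayPt) (i j : GolayPt) (a b : ℤ) :
    signedPerm σ c (pair4 i j a b)
      = pair4 (σ i) (σ j) (if σ i ∈ c then -a else a) (if σ j ∈ c then -b else b) := by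
  rw [signedPerm_eq_sc, signedPerm_pair4, sc_pair4]

theorem minA_mem_leech {x : GolayPt → ℤ} (hx : x ∈ minA) : x ∈ leechLattice :=
  (mem_leechLattice_iff x).mpr hx.1

theorem minB_mem_leech {x : GolayPt → ℤ} (hx : x ∈ minB) : x ∈ leechLattice :=
  (mem_leechLattice_iff x).mpr hx.1

theorem minC_mem_leech {x : GolayPt → ℤ} (hx : x ∈ minC) : x ∈ leechLattice :=
  (mem_leechLattice_iff x).mpr hx.1

theorem sorb_minA {H : Subgroup Co0} (hH : IsCrossStab H) {x : GolayPt → ℤ} (hx : x ∈ minA) :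
    SOrb H a0 x := by
  rw [minA_eq] at hx
  obtain ⟨⟨i, j, bi, bj⟩, hp, rfl⟩ := hx
  simp only [domA, Finset.coe_filter, Finset.mem_univ, true_and, Set.mem_ofPred_eq] at hp
  have hij : i ≠ j := fun h => by rw [h] at hp; exact lt_irrefl _ hp
  obtain ⟨σ, hσ, e1, e2⟩ := exists_M24_two (a := none) (b := some 0) (a' := i) (b' := j)
    (by decide) hij
  obtain ⟨c, hc, h1, h2⟩ := exists_GS_pattern2 hij (bi = false) (bj = false)
  have h := SOrb.of_mono hH hσ hc a0_mem
  rw [a0_eq, signedPerm_pair4', e1, e2] at h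
  have e : fA (i, j, bi, bj) = pair4 i j (if i ∈ c then -4 else 4) (if j ∈ c then -4 else 4) := by
    show pair4 i j (sgn4 bi) (sgn4 bj) = _
    unfold sgn4
    cases bi <;> cases bj <;> simp_all
  rw [e]
  exact h

theorem card_symmDiff_even {s t : Finset GolayPt} (hs : Even s.card) (ht : Even t.card) :
    Even (symmDiff s t).card := by
  have h := card_symmDiff_add s t
  obtain ⟨a, ha⟩ := hs
  obtain ⟨b, hb⟩ := ht
  exact ⟨a + b - (s ∩ t).card, by omega⟩

theorem sorb_minB {H : Subgroup Co0} (hH : IsCrossStab H) {x x' : GolayPt → ℤ} (hx : x ∈ minB)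
    (hx' : x' ∈ minB) : SOrb H x x' := by
  have hxL := minB_mem_leech hx
  obtain ⟨ho, hs, hev, hxe⟩ := eq_vB_of_mem_minB hx
  obtain ⟨ho', hs', hev', hxe'⟩ := eq_vB_of_mem_minB hx'
  generalize cls 2 x = o at *
  generalize (Finset.univ.filter fun i => x i = -2) = s at *
  generalize cls 2 x' = o' at *
  generalize (Finset.univ.filter fun i => x' i = -2) = s' at *
  subst hxe hxe'
  obtain ⟨σ, hσ, e1, -⟩ := exists_M24_octad_emb (k := 0) (by norm_num) ho ho'
    (Function.Embedding.ofIsEmpty) (Function.Embedding.ofIsEmpty) (fun i => i.elim0)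
    (fun i => i.elim0)
  have s1 := SOrb.of_mono hH hσ empty_mem_GS hxL
  rw [signedPerm_vB, e1] at s1
  have hsub : σ • s ⊆ o' := by
    rw [← e1]
    exact Finset.smul_finset_subset_smul_finset hs
  have hev2 : Even (σ • s).card := by rw [Finset.card_smul_finset]; exact hev
  have hsub2 : symmDiff (σ • s) s' ⊆ o' := by
    intro p hp
    rcases Finset.mem_symmDiff.mp hp with h | h
    · exact hsub h.1
    · exact hs' h.1
  obtain ⟨c, hc, hci⟩ := exists_GS_inter ho' hsub2 (card_symmDiff_even hev2 hev')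
  have s2 := SOrb.of_mono hH (Subgroup.one_mem M24) hc s1.mem_right
  rw [signedPerm_one_eq_sc, sc_vB c hsub, hci, symmDiff_symmDiff_cancel_left] at s2
  exact s1.trans s2

theorem sorb_minC {H : Subgroup Co0} (hH : IsCrossStab H) {x x' : GolayPt → ℤ} (hx : x ∈ minC)
    (hx' : x' ∈ minC) : SOrb H x x' := by
  have hxL := minC_mem_leech hx
  rw [minC_eq] at hx hx'
  obtain ⟨⟨j, ⟨b, hb⟩⟩, _, rfl⟩ := hx
  obtain ⟨⟨j', ⟨b', hb'⟩⟩, _, rfl⟩ := hx'
  have hk : ∃ k : GolayPt, j ≠ k := by
    by_cases h : j = none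
    · exact ⟨some 0, by rw [h]; decide⟩
    · exact ⟨none, h⟩
  have hk' : ∃ k : GolayPt, j' ≠ k := by
    by_cases h : j' = none
    · exact ⟨some 0, by rw [h]; decide⟩
    · exact ⟨none, h⟩
  obtain ⟨k, hk⟩ := hk
  obtain ⟨k', hk'⟩ := hk'
  obtain ⟨σ, hσ, e1, -⟩ := exists_M24_two hk hk'
  have hc : symmDiff (σ • b) b' ∈ GS := symmDiff_mem_supports (smul_mem_GS hσ hb) hb'
  have s1 := SOrb.of_mono hH hσ hc hxL
  rw [signedPerm_eq_sc, signedPerm_vC, sc_vC, symmDiff_symmDiff_cancel_left, e1] at s1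
  exact s1

/-! ### an element preserving the vectors of shape `(±4, ±4, 0, …)` preserves the cross -/

theorem minA_mod_four {x : GolayPt → ℤ} (hx : x ∈ minA) (i : GolayPt) : x i % 4 = 0 := by
  obtain ⟨hl, hn, hev, hcls⟩ := hx
  have hp := parity_of_mem_leechSet hl
  have hi : i ∉ cls 2 x := by rw [hcls]; exact Finset.notMem_empty i
  rw [mem_cls] at hi
  have := hp i
  omega

theorem pair4_mem_minA {i j : GolayPt} (hij : i ≠ j) {a b : ℤ} (ha : a = 4 ∨ a = -4)
    (hb : b = 4 ∨ b = -4) : pair4 i j a b ∈ minA := by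
  have ha4 : a % 4 = 0 := by rcases ha with rfl | rfl <;> rfl
  have hb4 : b % 4 = 0 := by rcases hb with rfl | rfl <;> rfl
  have hab : (a + b) % 8 = 0 := by
    rcases ha with rfl | rfl <;> rcases hb with rfl | rfl <;> rfl
  refine ⟨pair4_mem_leechSet i j ha4 hb4 hab, ?_, ?_, ?_⟩
  · show sqNorm (pair4 i j a b) = 32
    rw [sqNorm_pair4 hij]
    rcases ha with rfl | rfl <;> rcases hb with rfl | rfl <;> rfl
  · show pair4 i j a b none % 2 = 0
    have := pair4_mod_four i j ha4 hb4 none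
    omega
  · show cls 2 (pair4 i j a b) = ∅
    ext k
    rw [mem_cls]
    have := pair4_mod_four i j ha4 hb4 k
    simp only [Finset.notMem_empty, iff_false]
    omega

theorem dotInt_pair4_right (y : GolayPt → ℤ) (i j : GolayPt) (a b : ℤ) :
    dotInt y (pair4 i j a b) = a * y i + b * y j := by
  unfold pair4
  rw [dotInt_add_right, dotInt_single_right, dotInt_single_right]

theorem mem_stdCross_of_dvd {y : GolayPt → ℤ} (hn : sqNorm y = 64)
    (hd : ∀ x ∈ minA, dotInt y x % 32 = 0) : y ∈ stdCross := by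
  have h1 : ∀ j k : GolayPt, j ≠ k → y j % 4 = 0 ∧ (y j + y k) % 8 = 0 := by
    intro j k hjk
    have e1 := hd _ (pair4_mem_minA hjk (Or.inl rfl) (Or.inl rfl))
    have e2 := hd _ (pair4_mem_minA hjk (Or.inl rfl) (Or.inr rfl))
    rw [dotInt_pair4_right] at e1 e2
    omega
  have h2 : ∀ k : GolayPt, y k % 8 = y none % 8 := by
    intro k
    by_cases hk : k = none
    · rw [hk]
    · have := h1 none k (fun h => hk h.symm)
      omega
  have h4 : y none % 4 = 0 := (h1 none (some 0) (by decide)).1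
  have h8 : y none % 8 = 0 := by
    by_contra hcon
    have h44 : ∀ k : GolayPt, 16 ≤ y k ^ 2 := by
      intro k
      have := h2 k
      have hk : y k ≠ 0 := by intro h0; rw [h0] at this; omega
      have hk4 : y k % 4 = 0 := by omega
      rcases eq_zero_or_sq_ge_sixteen (y k) hk4 with h | h
      · exact absurd h hk
      · exact h
    have := card_mul_le_sum Finset.univ (fun k => y k ^ 2) 16 (fun k _ => h44 k)
    rw [Finset.card_univ, card_golayPt] at this
    have hs : sqNorm y = ∑ k, y k ^ 2 := rfl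
    rw [hs] at hn
    omega
  have h80 : ∀ k : GolayPt, y k % 8 = 0 := fun k => by rw [h2 k, h8]
  have hex : ∃ i, y i ≠ 0 := by
    by_contra hcon
    simp only [not_exists, not_not] at hcon
    have : sqNorm y = 0 := by
      unfold sqNorm
      exact Finset.sum_eq_zero (fun k _ => by rw [hcon k]; rfl)
    omega
  obtain ⟨i, hi⟩ := hex
  have hle := sq_le_sqNorm y i
  rw [hn] at hle
  have hge : 64 ≤ y i ^ 2 := by
    have := h80 i
    obtain ⟨t, ht⟩ : ∃ t, y i = 8 * t := ⟨y i / 8, by omega⟩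
    have ht0 : t ≠ 0 := by intro h; apply hi; rw [ht, h]; rfl
    have : 1 ≤ t ^ 2 := by
      have := sq_nonneg t
      have h1 : t ^ 2 ≠ 0 := pow_ne_zero 2 ht0
      omega
    rw [ht]
    nlinarith
  exact mem_stdCross_of_sq (by omega) (le_antisymm hle hge)

theorem mem_of_preserves_minA {H : Subgroup Co0} (hH : IsCrossStab H) (g : Co0)
    (h : ∀ x : leechLattice, x.1 ∈ minA → ((g⁻¹ • x : leechLattice) : GolayPt → ℤ) ∈ minA) :
    g ∈ H := by
  rw [hH.mem_iff]
  intro v hv
  apply mem_stdCross_of_dvd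
  · rw [show sqNorm (g • v : leechLattice).1 = sqNorm v.1 from g.2.2 v]
    exact sqNorm_of_mem_stdCross hv
  · intro x hx
    have hxL := minA_mem_leech hx
    have e : dotInt (g • v : leechLattice).1 x = dotInt v.1 (g⁻¹ • (⟨x, hxL⟩ : leechLattice)).1 := by
      have := co0_smul_dot g v (g⁻¹ • (⟨x, hxL⟩ : leechLattice))
      rw [smul_inv_smul] at this
      exact this
    rw [e]
    obtain ⟨i, s, hs, hvs⟩ := hv
    rw [hvs, dotInt_single_left]
    have := minA_mod_four (h ⟨x, hxL⟩ hx) i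
    rcases hs with rfl | rfl <;> omega

end Cfsg.Agent.helper27
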