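import Mathlib
import Cfsg.Agent.Lib_helper27_CrMax3

set_option autoImplicit false

namespace Cfsg.Agent.helper27

open Cfsg MulAction
open scoped Pointwise

theorem min_trichotomy {x : GolayPt → ℤ} (hx : x ∈ leechLattice) (hn : sqNorm x = 32) :
    x ∈ minA ∨ x ∈ minB ∨ x ∈ minC := by
  rw [mem_leechLattice_iff] at hx
  have hpar : x none % 2 = 0 ∨ x none % 2 = 1 := by omega
  rcases hpar with hp | hp
  · by_cases hc : cls 2 x = ∅
    · left; exact ⟨hx, hn, hp, hc⟩
    · right; left; exact ⟨hx, hn, hp, Finset.nonempty_iff_ne_empty.mpr hc⟩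
  · right; right; exact ⟨hx, hn, hp⟩

theorem minA_minB_disjoint : Disjoint minA minB := by
  rw [Set.disjoint_left]
  rintro x ⟨_, _, _, h1⟩ ⟨_, _, _, h2⟩
  rw [h1] at h2
  exact Finset.not_nonempty_empty h2

theorem minA_minC_disjoint : Disjoint minA minC := by
  rw [Set.disjoint_left]
  rintro x ⟨_, _, h1, _⟩ ⟨_, _, h2⟩
  omega

theorem minB_minC_disjoint : Disjoint minB minC := by
  rw [Set.disjoint_left]
  rintro x ⟨_, _, h1, _⟩ ⟨_, _, h2⟩
  omega

theorem SOrb.sqNorm_eq {L : Subgroup Co0} {x y : GolayPt → ℤ} (h : SOrb L x y) :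
    sqNorm y = sqNorm x := by
  obtain ⟨hx, g, _, rfl⟩ := h
  exact g.2.2 ⟨x, hx⟩

/-- a subgroup properly containing the cross stabiliser is transitive on the minimal vectors -/
theorem orbit_a0_all {H K : Subgroup Co0} (hH : IsCrossStab H) (hHK : H < K) {x : GolayPt → ℤ}
    (hx : x ∈ leechLattice) (hn : sqNorm x = 32) : SOrb K a0 x := by
  classical
  have hA : minA.Finite := Set.finite_of_ncard_ne_zero (by rw [minA_ncard]; norm_num)
  have hB : minB.Finite := Set.finite_of_ncard_ne_zero (by rw [minB_ncard]; norm_num)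
  have hC : minC.Finite := Set.finite_of_ncard_ne_zero (by rw [minC_ncard]; norm_num)
  set O : Set (GolayPt → ℤ) := {y | SOrb K a0 y} with hOdef
  have hOL : O = Subtype.val '' {y : leechLattice | ∃ g ∈ K, g • a0L = y} := by
    ext y
    constructor
    · rintro ⟨_, g, hg, he⟩
      exact ⟨g • a0L, ⟨g, hg, rfl⟩, he⟩
    · rintro ⟨_, ⟨g, hg, rfl⟩, rfl⟩
      exact ⟨a0_mem, g, hg, rfl⟩
  have hdvd : O.ncard ∣ Nat.card Co0 := by
    have h1 := card_eq_orbit_mul_inf K a0L
    rw [hOL, Set.ncard_image_of_injective _ Subtype.val_injective]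
    exact (Dvd.intro _ h1.symm).trans (Subgroup.card_subgroup_dvd_card K)
  rw [card_Co0] at hdvd
  have hOsub : ∀ y ∈ O, y ∈ minA ∨ y ∈ minB ∨ y ∈ minC := by
    intro y hy
    have h32 : sqNorm y = 32 := by
      rw [SOrb.sqNorm_eq hy]
      decide
    exact min_trichotomy (SOrb.mem_right hy) h32
  have hAO : minA ⊆ O := fun y hy => (sorb_minA hH hy).mono hHK.le
  have hBO : (∃ y ∈ minB, y ∈ O) → minB ⊆ O := by
    rintro ⟨y, hy, hyO⟩ z hz
    exact SOrb.trans hyO ((sorb_minB hH hy hz).mono hHK.le)
  have hCO : (∃ y ∈ minC, y ∈ O) → minC ⊆ O := by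
    rintro ⟨y, hy, hyO⟩ z hz
    exact SOrb.trans hyO ((sorb_minC hH hy hz).mono hHK.le)
  by_cases hb : ∃ y ∈ minB, y ∈ O
  · by_cases hc : ∃ y ∈ minC, y ∈ O
    · rcases min_trichotomy hx hn with h | h | h
      · exact hAO h
      · exact hBO hb h
      · exact hCO hc h
    · exfalso
      have hO : O = minA ∪ minB := by
        ext y
        constructor
        · intro hy
          rcases hOsub y hy with h | h | h
          · exact Or.inl h
          · exact Or.inr h
          · exact absurd ⟨y, h, hy⟩ hc
        · rintro (h | h)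
          · exact hAO h
          · exact hBO hb h
      rw [hO, Set.ncard_union_eq minA_minB_disjoint hA hB, minA_ncard, minB_ncard] at hdvd
      revert hdvd
      norm_num
  · by_cases hc : ∃ y ∈ minC, y ∈ O
    · exfalso
      have hO : O = minA ∪ minC := by
        ext y
        constructor
        · intro hy
          rcases hOsub y hy with h | h | h
          · exact Or.inl h
          · exact absurd ⟨y, h, hy⟩ hb
          · exact Or.inr h
        · rintro (h | h)
          · exact hAO h
          · exact hCO hc h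
      rw [hO, Set.ncard_union_eq minA_minC_disjoint hA hC, minA_ncard, minC_ncard] at hdvd
      revert hdvd
      norm_num
    · exfalso
      have hO : ∀ y, y ∈ O → y ∈ minA := by
        intro y hy
        rcases hOsub y hy with h | h | h
        · exact h
        · exact absurd ⟨y, h, hy⟩ hb
        · exact absurd ⟨y, h, hy⟩ hc
      have hle : K ≤ H := by
        intro g hg
        apply mem_of_preserves_minA hH g
        intro z hz
        apply hO
        obtain ⟨_, h, hh, he⟩ := hAO hz
        refine ⟨a0_mem, g⁻¹ * h, K.mul_mem (K.inv_mem hg) hh, ?_⟩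
        have : h • (⟨a0, a0_mem⟩ : leechLattice) = z := Subtype.ext he
        rw [mul_smul, this]
      exact absurd hle (not_le_of_gt hHK)

end Cfsg.Agent.helper27
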