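import Mathlib
import Cfsg.Agent.Lib_helper27_CrMax4

set_option autoImplicit false

namespace Cfsg.Agent.helper27

open Cfsg MulAction
open scoped Pointwise

/-! ### the stabiliser of `a0` in the cross stabiliser: monomial elements -/

/-- the two base points, in some order -/
def IsPP (p q : GolayPt) : Prop := (p = none ∧ q = some 0) ∨ (p = some 0 ∧ q = none)

theorem IsPP.ne {p q : GolayPt} (h : IsPP p q) : p ≠ q := by
  rcases h with ⟨rfl, rfl⟩ | ⟨rfl, rfl⟩ <;> decide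

theorem fix_a0_of {σ : Equiv.Perm GolayPt} {c : Finset GolayPt} {p q p' q' : GolayPt}
    (h : IsPP p q) (h' : IsPP p' q') (e1 : σ p = p') (e2 : σ q = q') (h1 : p' ∉ c) (h2 : q' ∉ c) :
    signedPerm σ c a0 = a0 := by
  rw [a0_eq, signedPerm_pair4']
  rcases h with ⟨rfl, rfl⟩ | ⟨rfl, rfl⟩ <;> rcases h' with ⟨rfl, rfl⟩ | ⟨rfl, rfl⟩
  · rw [e1, e2, if_neg h1, if_neg h2]
  · rw [e1, e2, if_neg h1, if_neg h2, pair4_comm]
  · rw [e1, e2, if_neg h1, if_neg h2, pair4_comm]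
  · rw [e1, e2, if_neg h1, if_neg h2]

/-- the stabiliser of `a0` in the cross stabiliser -/
abbrev Nv (H : Subgroup Co0) : Subgroup Co0 := H ⊓ stabilizer Co0 a0L

/-! ### shapes of the minimal vectors orthogonal to `a0` -/

theorem pair4_ne_zero_cases {i j k : GolayPt} {a b : ℤ} (h : pair4 i j a b k ≠ 0) :
    k = i ∨ k = j := by
  by_contra hcon
  simp only [not_or] at hcon
  exact h (pair4_apply_other hcon.1 hcon.2 a b)

theorem minA_form {x : GolayPt → ℤ} (hx : x ∈ minA) :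
    ∃ i j : GolayPt, i ≠ j ∧ ∃ a b : ℤ, (a = 4 ∨ a = -4) ∧ (b = 4 ∨ b = -4) ∧ x = pair4 i j a b := by
  rw [minA_eq] at hx
  obtain ⟨⟨i, j, bi, bj⟩, hp, rfl⟩ := hx
  simp only [domA, Finset.coe_filter, Finset.mem_univ, true_and, Set.mem_ofPred_eq] at hp
  have hij : i ≠ j := fun h => by rw [h] at hp; exact lt_irrefl _ hp
  exact ⟨i, j, hij, sgn4 bi, sgn4 bj, sgn4_cases _, sgn4_cases _, rfl⟩

theorem formA1 {x : GolayPt → ℤ} (hx : x ∈ minA) (hd : dotInt a0 x = 0) (h0 : x none ≠ 0) :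
    x = pair4 none (some 0) 4 (-4) ∨ x = pair4 none (some 0) (-4) 4 := by
  obtain ⟨i, j, hij, a, b, ha, hb, rfl⟩ := minA_form hx
  rw [dotInt_a0] at hd
  have h1 : pair4 i j a b (some 0) ≠ 0 := by omega
  have c1 := pair4_ne_zero_cases h0
  have c2 := pair4_ne_zero_cases h1
  have key : (i = none ∧ j = some 0) ∨ (i = some 0 ∧ j = none) := by
    rcases c1 with c1 | c1 <;> rcases c2 with c2 | c2
    · exact absurd (c1.trans c2.symm) (by decide)
    · exact Or.inl ⟨c1.symm, c2.symm⟩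
    · exact Or.inr ⟨c2.symm, c1.symm⟩
    · exact absurd (c1.trans c2.symm) (by decide)
  rcases key with ⟨rfl, rfl⟩ | ⟨rfl, rfl⟩
  · rw [pair4_apply_left hij, pair4_apply_right hij] at hd
    rcases ha with rfl | rfl <;> rcases hb with rfl | rfl
    · omega
    · exact Or.inl rfl
    · exact Or.inr rfl
    · omega
  · rw [pair4_apply_left hij, pair4_apply_right hij] at hd
    rw [pair4_comm]
    rcases ha with rfl | rfl <;> rcases hb with rfl | rfl
    · omega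
    · exact Or.inr rfl
    · exact Or.inl rfl
    · omega

theorem formA2 {x : GolayPt → ℤ} (hx : x ∈ minA) (hd : dotInt a0 x = 0) (h0 : x none = 0) :
    ∃ i j : GolayPt, i ≠ j ∧ i ≠ none ∧ i ≠ some 0 ∧ j ≠ none ∧ j ≠ some 0 ∧
      ∃ a b : ℤ, (a = 4 ∨ a = -4) ∧ (b = 4 ∨ b = -4) ∧ x = pair4 i j a b := by
  obtain ⟨i, j, hij, a, b, ha, hb, rfl⟩ := minA_form hx
  rw [dotInt_a0] at hd
  have h1 : pair4 i j a b (some 0) = 0 := by omega
  have ha0 : a ≠ 0 := by rcases ha with rfl | rfl <;> decide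
  have hb0 : b ≠ 0 := by rcases hb with rfl | rfl <;> decide
  refine ⟨i, j, hij, ?_, ?_, ?_, ?_, a, b, ha, hb, rfl⟩
  · rintro rfl
    rw [pair4_apply_left hij] at h0
    exact ha0 h0
  · rintro rfl
    rw [pair4_apply_left hij] at h1
    exact ha0 h1
  · rintro rfl
    rw [pair4_apply_right hij] at h0
    exact hb0 h0
  · rintro rfl
    rw [pair4_apply_right hij] at h1
    exact hb0 h1

theorem minB_form {x : GolayPt → ℤ} (hx : x ∈ minB) :
    ∃ o ∈ octads, ∃ s : Finset GolayPt, s ⊆ o ∧ Even s.card ∧ x = vB o s := by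
  obtain ⟨h1, h2, h3, h4⟩ := eq_vB_of_mem_minB hx
  exact ⟨_, h1, _, h2, h3, h4⟩

theorem formB3 {x : GolayPt → ℤ} (hx : x ∈ minB) (hd : dotInt a0 x = 0) (h0 : x none ≠ 0) :
    ∃ o ∈ octads, ∃ s : Finset GolayPt, s ⊆ o ∧ Even s.card ∧ x = vB o s ∧
      ∃ p q : GolayPt, IsPP p q ∧ p ∈ o ∧ q ∈ o ∧ p ∈ s ∧ q ∉ s := by
  obtain ⟨o, ho, s, hs, hev, rfl⟩ := minB_form hx
  rw [dotInt_a0] at hd
  refine ⟨o, ho, s, hs, hev, rfl, ?_⟩
  unfold vB at hd h0
  by_cases a1 : none ∈ s <;> by_cases a2 : none ∈ o <;> by_cases a3 : some 0 ∈ s <;>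
    by_cases a4 : some 0 ∈ o <;> simp only [a1, a2, a3, a4, if_true, if_false] at hd h0
  all_goals first
    | omega
    | exact absurd (hs a1) a2
    | exact absurd (hs a3) a4
    | exact ⟨none, some 0, Or.inl ⟨rfl, rfl⟩, a2, a4, a1, a3⟩
    | exact ⟨some 0, none, Or.inr ⟨rfl, rfl⟩, a4, a2, a3, a1⟩

theorem formB4 {x : GolayPt → ℤ} (hx : x ∈ minB) (hd : dotInt a0 x = 0) (h0 : x none = 0) :
    ∃ o ∈ octN, ∃ s : Finset GolayPt, s ⊆ o ∧ Even s.card ∧ x = vB o s := by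
  obtain ⟨o, ho, s, hs, hev, rfl⟩ := minB_form hx
  rw [dotInt_a0] at hd
  have h1 : vB o s (some 0) = 0 := by omega
  refine ⟨o, ⟨ho, ?_, ?_⟩, s, hs, hev, rfl⟩
  · intro a2
    unfold vB at h0
    by_cases a1 : none ∈ s <;> simp only [a1, a2, if_true, if_false] at h0 <;> omega
  · intro a2
    unfold vB at h1
    by_cases a1 : some 0 ∈ s <;> simp only [a1, a2, if_true, if_false] at h1 <;> omega

theorem formC5 {x : GolayPt → ℤ} (hx : x ∈ minC) (hd : dotInt a0 x = 0) :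
    ∃ j : GolayPt, ∃ b ∈ GS, j ≠ none ∧ j ≠ some 0 ∧ x = vC j b ∧
      ∃ p q : GolayPt, IsPP p q ∧ p ∈ b ∧ q ∉ b := by
  rw [minC_eq] at hx
  obtain ⟨⟨j, ⟨b, hb⟩⟩, _, rfl⟩ := hx
  rw [dotInt_a0] at hd
  show ∃ j' : GolayPt, ∃ b' ∈ GS, j' ≠ none ∧ j' ≠ some 0 ∧ vC j b = vC j' b' ∧
      ∃ p q : GolayPt, IsPP p q ∧ p ∈ b' ∧ q ∉ b'
  have hne : (none : GolayPt) ≠ some 0 := by decide
  have hjn : j ≠ none := by
    rintro rfl
    unfold vC at hd
    simp only [if_true, if_neg hne.symm] at hd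
    split_ifs at hd <;> omega
  have hj0 : j ≠ some 0 := by
    rintro rfl
    unfold vC at hd
    simp only [if_true, if_neg hne] at hd
    split_ifs at hd <;> omega
  refine ⟨j, b, hb, hjn, hj0, rfl, ?_⟩
  unfold vC at hd
  simp only [if_neg hjn.symm, if_neg hj0.symm] at hd
  by_cases a1 : none ∈ b <;> by_cases a2 : some 0 ∈ b <;>
    simp only [a1, a2, if_true, if_false] at hd
  · omega
  · exact ⟨none, some 0, Or.inl ⟨rfl, rfl⟩, a1, a2⟩
  · exact ⟨some 0, none, Or.inr ⟨rfl, rfl⟩, a2, a1⟩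
  · omega

end Cfsg.Agent.helper27
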