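import Mathlib
import Cfsg.Agent.Lib_helper27_CrMax5

set_option autoImplicit false

namespace Cfsg.Agent.helper27

open Cfsg MulAction
open scoped Pointwise

/-! ### transitivity of the stabiliser of `a0` in the cross stabiliser on the five classes -/

theorem pair4_mem_leech {i j : GolayPt} (hij : i ≠ j) {a b : ℤ} (ha : a = 4 ∨ a = -4)
    (hb : b = 4 ∨ b = -4) : pair4 i j a b ∈ leechLattice :=
  minA_mem_leech (pair4_mem_minA hij ha hb)

theorem vB_mem_leech {o s : Finset GolayPt} (ho : o ∈ octads) (hs : s ⊆ o) (hev : Even s.card) :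
    vB o s ∈ leechLattice := (mem_leechLattice_iff _).mpr (vB_mem_leechSet ho hs hev)

theorem vC_mem_leech (j : GolayPt) {b : Finset GolayPt} (hb : b ∈ GS) :
    vC j b ∈ leechLattice := (mem_leechLattice_iff _).mpr (vC_mem_leechSet j hb)

theorem sorbv_Q1 {H : Subgroup Co0} (hH : IsCrossStab H) :
    SOrb (Nv H) (pair4 none (some 0) 4 (-4)) (pair4 none (some 0) (-4) 4) := by
  obtain ⟨σ, hσ, e1, e2⟩ := exists_M24_two (a := none) (b := some 0) (a' := some 0) (b' := none)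
    (by decide) (by decide)
  have hfix : signedPerm σ ∅ a0 = a0 :=
    fix_a0_of (Or.inl ⟨rfl, rfl⟩) (Or.inr ⟨rfl, rfl⟩) e1 e2 (Finset.notMem_empty _)
      (Finset.notMem_empty _)
  have h := SOrb.of_mono_fix hH hσ empty_mem_GS hfix
    (pair4_mem_leech (i := none) (j := some 0) (by decide) (Or.inl rfl) (Or.inr rfl))
  have e : signedPerm σ ∅ (pair4 none (some 0) 4 (-4)) = pair4 none (some 0) (-4) 4 := by
    rw [signedPerm_pair4, e1, e2, pair4_comm]
  rw [e] at h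
  exact h

theorem exists_GS_pattern2_avoid {i j p1 p2 : GolayPt} (hij : i ≠ j) (hi1 : i ≠ p1) (hi2 : i ≠ p2)
    (hj1 : j ≠ p1) (hj2 : j ≠ p2) (h12 : p1 ≠ p2) (p q : Prop) [Decidable p] [Decidable q] :
    ∃ c ∈ GS, (i ∈ c ↔ p) ∧ (j ∈ c ↔ q) ∧ p1 ∉ c ∧ p2 ∉ c := by
  obtain ⟨ci, hci, a1, a2, a3, a4⟩ := exists_GS_one_of_four hij hi1 hi2 hj1 hj2 h12
  obtain ⟨cj, hcj, b1, b2, b3, b4⟩ := exists_GS_one_of_four hij.symm hj1 hj2 hi1 hi2 h12
  by_cases hp : p <;> by_cases hq : q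
  · refine ⟨symmDiff ci cj, symmDiff_mem_supports hci hcj, ?_, ?_, ?_, ?_⟩ <;>
      simp [Finset.mem_symmDiff, *]
  · exact ⟨ci, hci, by simp [hp, a1], by simp [hq, a2], a3, a4⟩
  · exact ⟨cj, hcj, by simp [hp, b2], by simp [hq, b1], b3, b4⟩
  · exact ⟨∅, empty_mem_GS, by simp [hp], by simp [hq], Finset.notMem_empty _,
      Finset.notMem_empty _⟩

theorem sorbv_Q2 {H : Subgroup Co0} (hH : IsCrossStab H) {i j : GolayPt} (hij : i ≠ j)
    (hin : i ≠ none) (hi0 : i ≠ some 0) (hjn : j ≠ none) (hj0 : j ≠ some 0) {a b : ℤ}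
    (ha : a = 4 ∨ a = -4) (hb : b = 4 ∨ b = -4) :
    SOrb (Nv H) (pair4 i j a b) (pair4 (some 1) (some 2) 4 4) := by
  obtain ⟨σ, hσ, e1, e2, e3, e4⟩ := exists_M24_four (a := none) (b := some 0) (c := i) (d := j)
    (a' := none) (b' := some 0) (c' := some 1) (d' := some 2) (by decide) hin.symm hjn.symm
    hi0.symm hj0.symm hij (by decide) (by decide) (by decide) (by decide) (by decide) (by decide)
  obtain ⟨c, hc, c1, c2, c3, c4⟩ := exists_GS_pattern2_avoid (i := some 1) (j := some 2)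
    (p1 := none) (p2 := some 0) (by decide) (by decide) (by decide) (by decide) (by decide)
    (by decide) (a = -4) (b = -4)
  have hfix : signedPerm σ c a0 = a0 :=
    fix_a0_of (Or.inl ⟨rfl, rfl⟩) (Or.inl ⟨rfl, rfl⟩) e1 e2 c3 c4
  have h := SOrb.of_mono_fix hH hσ hc hfix (pair4_mem_leech hij ha hb)
  rw [signedPerm_pair4', e3, e4] at h
  have e : pair4 (some 1) (some 2) (if (some 1 : GolayPt) ∈ c then -a else a)
      (if (some 2 : GolayPt) ∈ c then -b else b) = pair4 (some 1) (some 2) 4 4 := by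
    rcases ha with rfl | rfl <;> rcases hb with rfl | rfl <;> simp_all
  rw [e] at h
  exact h

theorem cw1_mem : cw 1 ∈ octads := ⟨cw_mem_GS (by norm_num), by rw [cw_card]; decide⟩

theorem cw1_pts : (none : GolayPt) ∈ cw 1 ∧ (some 0 : GolayPt) ∈ cw 1 ∧
    (some 12 : GolayPt) ∈ cw 1 := by
  simp only [mem_cw_iff]
  decide

theorem sorbv_Q3 {H : Subgroup Co0} (hH : IsCrossStab H) {o s : Finset GolayPt} (ho : o ∈ octads)
    (hs : s ⊆ o) (hev : Even s.card) {p q : GolayPt} (hpp : IsPP p q) (hpo : p ∈ o) (hqo : q ∈ o)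
    (hps : p ∈ s) (hqs : q ∉ s) : SOrb (Nv H) (vB o s) (vB (cw 1) {none, some 12}) := by
  have hpq := hpp.ne
  have hne : ((o.erase p).erase q).Nonempty := by
    rw [← Finset.card_pos, Finset.card_erase_of_mem (Finset.mem_erase.mpr ⟨hpq.symm, hqo⟩),
      Finset.card_erase_of_mem hpo, octads_card ho]
    norm_num
  obtain ⟨t, ht⟩ := hne
  obtain ⟨htq, ht⟩ := Finset.mem_erase.mp ht
  obtain ⟨htp, hto⟩ := Finset.mem_erase.mp ht
  have hsub : symmDiff s {p, t} ⊆ o := by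
    intro z hz
    rcases Finset.mem_symmDiff.mp hz with h | h
    · exact hs h.1
    · rcases Finset.mem_insert.mp h.1 with rfl | h'
      · exact hpo
      · rw [Finset.mem_singleton.mp h']; exact hto
  have hev2 : Even (symmDiff s {p, t}).card :=
    card_symmDiff_even hev (by rw [Finset.card_pair htp.symm]; decide)
  obtain ⟨c, hc, hci⟩ := exists_GS_inter ho hsub hev2
  have hpc : p ∉ c := by
    intro h
    have : p ∈ symmDiff s {p, t} := by rw [← hci]; exact Finset.mem_inter.mpr ⟨h, hpo⟩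
    rcases Finset.mem_symmDiff.mp this with h' | h'
    · exact h'.2 (Finset.mem_insert_self _ _)
    · exact h'.2 hps
  have hqc : q ∉ c := by
    intro h
    have : q ∈ symmDiff s {p, t} := by rw [← hci]; exact Finset.mem_inter.mpr ⟨h, hqo⟩
    rcases Finset.mem_symmDiff.mp this with h' | h'
    · exact hqs h'.1
    · rcases Finset.mem_insert.mp h'.1 with h'' | h''
      · exact hpq h''.symm
      · exact htq (Finset.mem_singleton.mp h'').symm
  have hfix1 : signedPerm 1 c a0 = a0 := fix_a0_of hpp hpp rfl rfl hpc hqc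
  have s1 := SOrb.of_mono_fix hH (Subgroup.one_mem M24) hc hfix1 (vB_mem_leech ho hs hev)
  rw [signedPerm_one_eq_sc, sc_vB c hs, hci, symmDiff_symmDiff_cancel_left] at s1
  have hptq : p ≠ t := htp.symm
  obtain ⟨σ, hσ, e0, e⟩ := exists_M24_octad_emb (k := 3) (by norm_num) ho cw1_mem
    (emb3 hpq hptq htq.symm) (emb3 (a := none) (b := some 0) (c := some 12) (by decide)
      (by decide) (by decide)) (emb3_mem _ _ _ hpo hqo hto)
    (emb3_mem _ _ _ cw1_pts.1 cw1_pts.2.1 cw1_pts.2.2)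
  have f0 : σ p = none := e 0
  have f1 : σ q = some 0 := e 1
  have f2 : σ t = some 12 := e 2
  have hfix2 : signedPerm σ ∅ a0 = a0 :=
    fix_a0_of hpp (Or.inl ⟨rfl, rfl⟩) f0 f1 (Finset.notMem_empty _) (Finset.notMem_empty _)
  have s2 := SOrb.of_mono_fix hH hσ empty_mem_GS hfix2 s1.mem_right
  rw [signedPerm_vB, e0, smul_pair, f0, f2] at s2
  exact s1.trans s2

theorem exists_GS_kernel_octN {o : Finset GolayPt} (ho : o ∈ octN) (p q : Prop) [Decidable p]
    [Decidable q] : ∃ d ∈ GS, d ∩ o = ∅ ∧ ((none : GolayPt) ∈ d ↔ p) ∧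
      ((some 0 : GolayPt) ∈ d ↔ q) := by
  obtain ⟨σ, hσ, e1, e2, e3⟩ := m22_transitive_octN oN_mem ho
  have key : ∀ k : ℕ, k < 4096 → cw k ∩ oN = ∅ →
      ∃ d ∈ GS, d ∩ o = ∅ ∧ ((none : GolayPt) ∈ d ↔ (none : GolayPt) ∈ cw k) ∧
        ((some 0 : GolayPt) ∈ d ↔ (some 0 : GolayPt) ∈ cw k) := by
    intro k hk hdis
    refine ⟨σ • cw k, smul_mem_GS hσ (cw_mem_GS hk), ?_, ?_, ?_⟩
    · rw [← e3, ← Finset.smul_finset_inter, hdis, Finset.smul_finset_empty]
    · conv_lhs => rw [← e1]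
      exact Finset.smul_mem_smul_finset_iff σ
    · conv_lhs => rw [← e2]
      exact Finset.smul_mem_smul_finset_iff σ
  have hd : ∀ k ∈ [0, 149, 376, 493], cw k ∩ oN = ∅ := by
    intro k hk
    ext z
    rw [Finset.mem_inter, mem_cw_iff]
    unfold oN
    rw [helper2.Golay.mem_pts]
    simp only [Finset.notMem_empty, iff_false]
    revert z
    revert k
    decide
  have hm : ((none : GolayPt) ∈ cw 0 ↔ False) ∧ ((some 0 : GolayPt) ∈ cw 0 ↔ False) ∧
      ((none : GolayPt) ∈ cw 149 ↔ True) ∧ ((some 0 : GolayPt) ∈ cw 149 ↔ True) ∧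
      ((none : GolayPt) ∈ cw 376 ↔ True) ∧ ((some 0 : GolayPt) ∈ cw 376 ↔ False) ∧
      ((none : GolayPt) ∈ cw 493 ↔ False) ∧ ((some 0 : GolayPt) ∈ cw 493 ↔ True) := by
    simp only [mem_cw_iff]
    decide
  obtain ⟨m1, m2, m3, m4, m5, m6, m7, m8⟩ := hm
  by_cases hp : p <;> by_cases hq : q
  · obtain ⟨d, hd1, hd2, hd3, hd4⟩ := key 149 (by norm_num) (hd 149 (by decide))
    exact ⟨d, hd1, hd2, by rw [hd3, m3]; simp [hp], by rw [hd4, m4]; simp [hq]⟩
  · obtain ⟨d, hd1, hd2, hd3, hd4⟩ := key 376 (by norm_num) (hd 376 (by decide))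
    exact ⟨d, hd1, hd2, by rw [hd3, m5]; simp [hp], by rw [hd4, m6]; simp [hq]⟩
  · obtain ⟨d, hd1, hd2, hd3, hd4⟩ := key 493 (by norm_num) (hd 493 (by decide))
    exact ⟨d, hd1, hd2, by rw [hd3, m7]; simp [hp], by rw [hd4, m8]; simp [hq]⟩
  · obtain ⟨d, hd1, hd2, hd3, hd4⟩ := key 0 (by norm_num) (hd 0 (by decide))
    exact ⟨d, hd1, hd2, by rw [hd3, m1]; simp [hp], by rw [hd4, m2]; simp [hq]⟩

theorem sorbv_Q4 {H : Subgroup Co0} (hH : IsCrossStab H) {o s : Finset GolayPt} (ho : o ∈ octN)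
    (hs : s ⊆ o) (hev : Even s.card) : SOrb (Nv H) (vB o s) (vB oN ∅) := by
  obtain ⟨c0, hc0, hci0⟩ := exists_GS_inter ho.1 hs hev
  obtain ⟨d, hd, hdi, hdn, hd0⟩ := exists_GS_kernel_octN ho ((none : GolayPt) ∈ c0)
    ((some 0 : GolayPt) ∈ c0)
  have hc : symmDiff c0 d ∈ GS := symmDiff_mem_supports hc0 hd
  have hci : symmDiff c0 d ∩ o = s := by
    ext z
    have h1 := Finset.ext_iff.mp hci0 z
    have h2 := Finset.ext_iff.mp hdi z
    simp only [Finset.mem_inter, Finset.notMem_empty, iff_false, not_and] at h1 h2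
    simp only [Finset.mem_inter, Finset.mem_symmDiff]
    have := @hs z
    tauto
  have hn : (none : GolayPt) ∉ symmDiff c0 d := by
    rw [Finset.mem_symmDiff]; tauto
  have h0 : (some 0 : GolayPt) ∉ symmDiff c0 d := by
    rw [Finset.mem_symmDiff]; tauto
  have hfix1 : signedPerm 1 (symmDiff c0 d) a0 = a0 :=
    fix_a0_of (Or.inl ⟨rfl, rfl⟩) (Or.inl ⟨rfl, rfl⟩) rfl rfl hn h0
  have s1 := SOrb.of_mono_fix hH (Subgroup.one_mem M24) hc hfix1 (vB_mem_leech ho.1 hs hev)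
  rw [signedPerm_one_eq_sc, sc_vB _ hs, hci, symmDiff_self, Finset.bot_eq_empty] at s1
  obtain ⟨σ, hσ, e1, e2, e3⟩ := m22_transitive_octN ho oN_mem
  have hfix2 : signedPerm σ ∅ a0 = a0 :=
    fix_a0_of (Or.inl ⟨rfl, rfl⟩) (Or.inl ⟨rfl, rfl⟩) e1 e2 (Finset.notMem_empty _)
      (Finset.notMem_empty _)
  have s2 := SOrb.of_mono_fix hH hσ empty_mem_GS hfix2 s1.mem_right
  rw [signedPerm_vB, e3, Finset.smul_finset_empty] at s2
  exact s1.trans s2

theorem cw16_pts : (none : GolayPt) ∈ cw 16 ∧ (some 0 : GolayPt) ∉ cw 16 := by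
  simp only [mem_cw_iff]
  decide

theorem sorbv_Q5 {H : Subgroup Co0} (hH : IsCrossStab H) {j : GolayPt} {b : Finset GolayPt}
    (hb : b ∈ GS) (hjn : j ≠ none) (hj0 : j ≠ some 0) {p q : GolayPt} (hpp : IsPP p q)
    (hpb : p ∈ b) (hqb : q ∉ b) : SOrb (Nv H) (vC j b) (vC (some 1) (cw 16)) := by
  have hpj : p ≠ j := by rcases hpp with ⟨rfl, rfl⟩ | ⟨rfl, rfl⟩ <;> [exact hjn.symm; exact hj0.symm]
  have hqj : q ≠ j := by rcases hpp with ⟨rfl, rfl⟩ | ⟨rfl, rfl⟩ <;> [exact hj0.symm; exact hjn.symm]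
  obtain ⟨σ, hσ, e1, e2, e3⟩ := exists_M24_three (a := p) (b := q) (c := j) (a' := none)
    (b' := some 0) (c' := some 1) hpp.ne hpj hqj (by decide) (by decide) (by decide)
  have hc : symmDiff (σ • b) (cw 16) ∈ GS :=
    symmDiff_mem_supports (smul_mem_GS hσ hb) (cw_mem_GS (by norm_num))
  have hn : (none : GolayPt) ∉ symmDiff (σ • b) (cw 16) := by
    rw [Finset.mem_symmDiff]
    have : (none : GolayPt) ∈ σ • b := by rw [← e1]; exact Finset.smul_mem_smul_finset hpb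
    have := cw16_pts.1
    tauto
  have h0 : (some 0 : GolayPt) ∉ symmDiff (σ • b) (cw 16) := by
    rw [Finset.mem_symmDiff]
    have : (some 0 : GolayPt) ∉ σ • b := by
      rw [← e2]
      intro h
      exact hqb ((Finset.smul_mem_smul_finset_iff σ).mp h)
    have := cw16_pts.2
    tauto
  have hfix : signedPerm σ (symmDiff (σ • b) (cw 16)) a0 = a0 :=
    fix_a0_of hpp (Or.inl ⟨rfl, rfl⟩) e1 e2 hn h0
  have s1 := SOrb.of_mono_fix hH hσ hc hfix (vC_mem_leech j hb)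
  rw [signedPerm_eq_sc, signedPerm_vC, sc_vC, symmDiff_symmDiff_cancel_left, e3] at s1
  exact s1

end Cfsg.Agent.helper27
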