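import Mathlib
import Cfsg.Agent.Lib_helper27_CrMax6

set_option autoImplicit false

namespace Cfsg.Agent.helper27

open Cfsg MulAction
open scoped Pointwise

/-! ### the five classes of minimal vectors orthogonal to `a0` and their sizes -/

def clQ1 : Set (GolayPt → ℤ) := {w | w ∈ minA ∧ dotInt a0 w = 0 ∧ w none ≠ 0}
def clQ2 : Set (GolayPt → ℤ) := {w | w ∈ minA ∧ dotInt a0 w = 0 ∧ w none = 0}
def clQ3 : Set (GolayPt → ℤ) := {w | w ∈ minB ∧ dotInt a0 w = 0 ∧ w none ≠ 0}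
def clQ4 : Set (GolayPt → ℤ) := {w | w ∈ minB ∧ dotInt a0 w = 0 ∧ w none = 0}
def clQ5 : Set (GolayPt → ℤ) := {w | w ∈ minC ∧ dotInt a0 w = 0}

theorem vB_mem_minB {o s : Finset GolayPt} (ho : o ∈ octads) (hs : s ⊆ o) (hev : Even s.card) :
    vB o s ∈ minB := by
  refine ⟨vB_mem_leechSet ho hs hev, ?_, ?_, ?_⟩
  · show sqNorm (vB o s) = 32
    rw [sqNorm_vB o s hs, ho.2]
    rfl
  · show vB o s none % 2 = 0
    unfold vB
    split_ifs <;> rfl
  · show (cls 2 (vB o s)).Nonempty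
    rw [cls_two_vB o s hs]
    apply Finset.card_pos.mp
    rw [ho.2]
    norm_num

theorem vC_mem_minC (j : GolayPt) {b : Finset GolayPt} (hb : b ∈ GS) : vC j b ∈ minC :=
  ⟨vC_mem_leechSet j hb, sqNorm_vC j b, vC_odd j b none⟩

theorem clQ1_eq : clQ1 = {pair4 none (some 0) 4 (-4), pair4 none (some 0) (-4) 4} := by
  ext w
  constructor
  · rintro ⟨h1, h2, h3⟩
    exact formA1 h1 h2 h3
  · have hne : (none : GolayPt) ≠ some 0 := by decide
    rintro (rfl | rfl)
    · refine ⟨pair4_mem_minA hne (Or.inl rfl) (Or.inr rfl), ?_, ?_⟩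
      · rw [dotInt_a0, pair4_apply_left hne, pair4_apply_right hne]; rfl
      · rw [pair4_apply_left hne]; decide
    · refine ⟨pair4_mem_minA hne (Or.inr rfl) (Or.inl rfl), ?_, ?_⟩
      · rw [dotInt_a0, pair4_apply_left hne, pair4_apply_right hne]; rfl
      · rw [pair4_apply_left hne]; decide

theorem clQ1_ncard : clQ1.ncard = 2 := by
  rw [clQ1_eq, Set.ncard_pair]
  intro h
  have := congrFun h none
  rw [pair4_apply_left (by decide), pair4_apply_left (by decide)] at this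
  omega

/-- parameters for the second class -/
def domQ2 : Finset (GolayPt × GolayPt × Bool × Bool) :=
  domA.filter fun p => p.1 ≠ none ∧ p.1 ≠ some 0 ∧ p.2.1 ≠ none ∧ p.2.1 ≠ some 0

set_option maxRecDepth 100000 in
theorem domQ2_card : domQ2.card = 924 := by
  unfold domQ2 domA
  decide +kernel

theorem clQ2_eq : clQ2 = fA '' (domQ2 : Set (GolayPt × GolayPt × Bool × Bool)) := by
  ext w
  constructor
  · rintro ⟨h1, h2, h3⟩
    obtain ⟨i, j, hij, hin, hi0, hjn, hj0, a, b, ha, hb, rfl⟩ := formA2 h1 h2 h3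
    obtain ⟨bi, hbi⟩ := exists_sgn4 ha
    obtain ⟨bj, hbj⟩ := exists_sgn4 hb
    have hidx : idx i ≠ idx j := fun h => hij (idx_injective h)
    rcases Nat.lt_or_gt_of_ne hidx with hlt | hgt
    · refine ⟨(i, j, bi, bj), ?_, ?_⟩
      · simp only [domQ2, domA, Finset.coe_filter, Finset.mem_filter, Finset.mem_univ, true_and,
          Set.mem_ofPred_eq]
        exact ⟨hlt, hin, hi0, hjn, hj0⟩
      · show pair4 i j (sgn4 bi) (sgn4 bj) = _
        rw [hbi, hbj]
    · refine ⟨(j, i, bj, bi), ?_, ?_⟩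
      · simp only [domQ2, domA, Finset.coe_filter, Finset.mem_filter, Finset.mem_univ, true_and,
          Set.mem_ofPred_eq]
        exact ⟨hgt, hjn, hj0, hin, hi0⟩
      · show pair4 j i (sgn4 bj) (sgn4 bi) = _
        rw [hbi, hbj, pair4_comm]
  · rintro ⟨⟨i, j, bi, bj⟩, hp, rfl⟩
    simp only [domQ2, domA, Finset.coe_filter, Finset.mem_filter, Finset.mem_univ, true_and,
      Set.mem_ofPred_eq] at hp
    obtain ⟨hlt, hin, hi0, hjn, hj0⟩ := hp
    have hij : i ≠ j := fun h => by rw [h] at hlt; exact lt_irrefl _ hlt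
    have e : fA (i, j, bi, bj) = pair4 i j (sgn4 bi) (sgn4 bj) := rfl
    rw [e]
    refine ⟨pair4_mem_minA hij (sgn4_cases _) (sgn4_cases _), ?_, ?_⟩
    · rw [dotInt_a0, pair4_apply_other hin.symm hjn.symm, pair4_apply_other hi0.symm hj0.symm]
      rfl
    · exact pair4_apply_other hin.symm hjn.symm _ _

theorem clQ2_ncard : clQ2.ncard = 924 := by
  rw [clQ2_eq, Set.InjOn.ncard_image, Set.ncard_coe_finset, domQ2_card]
  exact fA_injOn.mono (fun p hp => by
    rw [Finset.mem_coe] at hp ⊢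
    exact (Finset.mem_filter.mp hp).1)

/-- counting a family of vectors `vB o s` -/
theorem ncard_vB_family (O : Set (Finset GolayPt)) (hO : O ⊆ octads)
    (E : Finset GolayPt → Finset (Finset GolayPt)) (hE : ∀ o, E o ⊆ o.powerset) (n : ℕ)
    (hn : ∀ o ∈ O, (E o).card = n) :
    {x : GolayPt → ℤ | ∃ o ∈ O, ∃ s ∈ E o, x = vB o s}.ncard = O.ncard * n := by
  classical
  have hfin : O.Finite := Set.Finite.subset (Set.toFinite octads) hO
  have hOmem : ∀ o, o ∈ hfin.toFinset ↔ o ∈ O := fun o => Set.Finite.mem_toFinset hfin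
  have himg : {x : GolayPt → ℤ | ∃ o ∈ O, ∃ s ∈ E o, x = vB o s}
      = (fun p : (Σ _ : Finset GolayPt, Finset GolayPt) => vB p.1 p.2) ''
        ((hfin.toFinset.sigma E : Finset (Σ _ : Finset GolayPt, Finset GolayPt)) : Set _) := by
    ext x
    constructor
    · rintro ⟨o, ho, s, hs, rfl⟩
      refine ⟨⟨o, s⟩, ?_, rfl⟩
      rw [Finset.mem_coe, Finset.mem_sigma]
      exact ⟨(hOmem o).mpr ho, hs⟩
    · rintro ⟨⟨o, s⟩, hp, rfl⟩
      rw [Finset.mem_coe, Finset.mem_sigma] at hp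
      exact ⟨o, (hOmem o).mp hp.1, s, hp.2, rfl⟩
  rw [himg, Set.InjOn.ncard_image, Set.ncard_coe_finset, Finset.card_sigma]
  · rw [Finset.sum_congr rfl (fun o ho => hn o ((hOmem o).mp ho)), Finset.sum_const,
      ← Set.ncard_eq_toFinset_card O hfin]
    rfl
  · rintro ⟨o, s⟩ hp ⟨o', s'⟩ hp' h
    rw [Finset.mem_coe, Finset.mem_sigma] at hp hp'
    have hs := Finset.mem_powerset.mp (hE o hp.2)
    have hs' := Finset.mem_powerset.mp (hE o' hp'.2)
    obtain ⟨h1, h2⟩ := vB_injective hs hs' h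
    subst h1
    subst h2
    rfl

/-- sign sets for the third class -/
def signQ3 (o : Finset GolayPt) : Finset (Finset GolayPt) :=
  (o.powerset.filter (fun s => Even s.card)).filter
    (fun s => (none ∈ s ∧ some 0 ∉ s) ∨ (some 0 ∈ s ∧ none ∉ s))

theorem card_even_split {o : Finset GolayPt} (h8 : o.card = 8) {p q : GolayPt} (hp : p ∈ o)
    (hq : q ∈ o) (hpq : p ≠ q) :
    ((o.powerset.filter (fun s => Even s.card)).filter
      (fun s => (p ∈ s ∧ q ∉ s) ∨ (q ∈ s ∧ p ∉ s))).card = 64 := by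
  classical
  set E := o.powerset.filter (fun s => Even s.card) with hE
  have h128 : E.card = 128 := card_even_subsets_of_card_eight o h8
  have hsplit := Finset.card_filter_add_card_filter_not (s := E)
    (fun s => (p ∈ s ∧ q ∉ s) ∨ (q ∈ s ∧ p ∉ s))
  have hne : ((o.erase p).erase q).Nonempty := by
    rw [← Finset.card_pos, Finset.card_erase_of_mem (Finset.mem_erase.mpr ⟨hpq.symm, hq⟩),
      Finset.card_erase_of_mem hp, h8]
    norm_num
  obtain ⟨r, hr⟩ := hne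
  obtain ⟨hrq, hr⟩ := Finset.mem_erase.mp hr
  obtain ⟨hrp, hro⟩ := Finset.mem_erase.mp hr
  have hmapE : ∀ s ∈ E, symmDiff s {p, r} ∈ E := by
    intro s hs
    rw [hE, Finset.mem_filter, Finset.mem_powerset] at hs ⊢
    refine ⟨?_, card_symmDiff_even hs.2 (by rw [Finset.card_pair hrp.symm]; decide)⟩
    intro z hz
    rcases Finset.mem_symmDiff.mp hz with h | h
    · exact hs.1 h.1
    · rcases Finset.mem_insert.mp h.1 with rfl | h'
      · exact hp
      · rw [Finset.mem_singleton.mp h']; exact hro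
  have hpm : ∀ s : Finset GolayPt, (p ∈ symmDiff s {p, r} ↔ p ∉ s) := by
    intro s
    simp [Finset.mem_symmDiff]
  have hqm : ∀ s : Finset GolayPt, (q ∈ symmDiff s {p, r} ↔ q ∈ s) := by
    intro s
    simp [Finset.mem_symmDiff, hpq.symm, hrq.symm]
  have heq : (E.filter (fun s => (p ∈ s ∧ q ∉ s) ∨ (q ∈ s ∧ p ∉ s))).card
      = (E.filter (fun s => ¬ ((p ∈ s ∧ q ∉ s) ∨ (q ∈ s ∧ p ∉ s)))).card := by
    refine Finset.card_bij' (fun s _ => symmDiff s {p, r}) (fun s _ => symmDiff s {p, r})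
      ?_ ?_ ?_ ?_
    · intro s hs
      rw [Finset.mem_filter] at hs ⊢
      refine ⟨hmapE s hs.1, ?_⟩
      rw [hpm, hqm]
      tauto
    · intro s hs
      rw [Finset.mem_filter] at hs ⊢
      refine ⟨hmapE s hs.1, ?_⟩
      rw [hpm, hqm]
      tauto
    · intro s _
      exact symmDiff_symmDiff_cancel_right _ _
    · intro s _
      exact symmDiff_symmDiff_cancel_right _ _
  omega

theorem clQ3_eq : clQ3 = {x : GolayPt → ℤ | ∃ o ∈ oct2, ∃ s ∈ signQ3 o, x = vB o s} := by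
  ext w
  constructor
  · rintro ⟨h1, h2, h3⟩
    obtain ⟨o, ho, s, hs, hev, rfl, p, q, hpp, hpo, hqo, hps, hqs⟩ := formB3 h1 h2 h3
    rcases hpp with ⟨rfl, rfl⟩ | ⟨rfl, rfl⟩
    · refine ⟨o, ⟨ho, hpo, hqo⟩, s, ?_, rfl⟩
      simp only [signQ3, Finset.mem_filter, Finset.mem_powerset]
      exact ⟨⟨hs, hev⟩, Or.inl ⟨hps, hqs⟩⟩
    · refine ⟨o, ⟨ho, hqo, hpo⟩, s, ?_, rfl⟩
      simp only [signQ3, Finset.mem_filter, Finset.mem_powerset]
      exact ⟨⟨hs, hev⟩, Or.inr ⟨hps, hqs⟩⟩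
  · rintro ⟨o, ⟨ho, hn, h0⟩, s, hs, rfl⟩
    simp only [signQ3, Finset.mem_filter, Finset.mem_powerset] at hs
    obtain ⟨⟨hs, hev⟩, hpat⟩ := hs
    refine ⟨vB_mem_minB ho hs hev, ?_, ?_⟩
    · rw [dotInt_a0]
      unfold vB
      rcases hpat with ⟨a1, a2⟩ | ⟨a1, a2⟩ <;> simp [a1, a2, hn, h0]
    · unfold vB
      rcases hpat with ⟨a1, a2⟩ | ⟨a1, a2⟩ <;> simp [a1, a2, hn]

theorem clQ3_ncard : clQ3.ncard = 4928 := by
  rw [clQ3_eq, ncard_vB_family oct2 (fun o ho => ho.1) signQ3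
    (fun o => (Finset.filter_subset _ _).trans (Finset.filter_subset _ _)) 64
    (fun o ho => card_even_split ho.1.2 ho.2.1 ho.2.2 (by decide)), oct2_ncard]

theorem clQ4_eq : clQ4 = {x : GolayPt → ℤ | ∃ o ∈ octN,
    ∃ s ∈ o.powerset.filter (fun s => Even s.card), x = vB o s} := by
  ext w
  constructor
  · rintro ⟨h1, h2, h3⟩
    obtain ⟨o, ho, s, hs, hev, rfl⟩ := formB4 h1 h2 h3
    exact ⟨o, ho, s, Finset.mem_filter.mpr ⟨Finset.mem_powerset.mpr hs, hev⟩, rfl⟩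
  · rintro ⟨o, ⟨ho, hn, h0⟩, s, hs, rfl⟩
    obtain ⟨hs, hev⟩ := Finset.mem_filter.mp hs
    rw [Finset.mem_powerset] at hs
    have hns : (none : GolayPt) ∉ s := fun h => hn (hs h)
    have h0s : (some 0 : GolayPt) ∉ s := fun h => h0 (hs h)
    refine ⟨vB_mem_minB ho hs hev, ?_, ?_⟩
    · rw [dotInt_a0]
      unfold vB
      simp [hns, h0s, hn, h0]
    · unfold vB
      simp [hns, hn]

theorem clQ4_ncard : clQ4.ncard = 42240 := by
  rw [clQ4_eq, ncard_vB_family octN (fun o ho => ho.1) _ (fun o => Finset.filter_subset _ _) 128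
    (fun o ho => card_even_subsets_of_card_eight o ho.1.2), octN_ncard]

/-- sign sets for the fifth class -/
def signQ5 : Set (Finset GolayPt) :=
  {b | b ∈ GS ∧ ((none ∈ b ∧ some 0 ∉ b) ∨ (some 0 ∈ b ∧ none ∉ b))}

set_option maxRecDepth 100000 in
theorem count_signQ5 : ((Finset.range 4096).filter (fun k =>
    ((encN k).testBit 23 = true ∧ (encN k).testBit 0 = false) ∨
      ((encN k).testBit 0 = true ∧ (encN k).testBit 23 = false))).card = 2048 := by
  decide +kernel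

theorem signQ5_ncard : signQ5.ncard = 2048 := by
  have h := ncard_GS_mask (fun b => (none ∈ b ∧ some 0 ∉ b) ∨ (some 0 ∈ b ∧ none ∉ b))
    (fun m => (m.testBit 23 = true ∧ m.testBit 0 = false) ∨
      (m.testBit 0 = true ∧ m.testBit 23 = false)) (fun k _ => by
      rw [mem_cw_iff, mem_cw_iff, idx_none', idx_some0]
      simp)
  rw [← count_signQ5, ← h]
  rfl

/-- positions for the fifth class -/
def posQ5 : Set GolayPt := {j | j ≠ none ∧ j ≠ some 0}

theorem posQ5_ncard : posQ5.ncard = 22 := by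
  have : posQ5 = ((Finset.univ.filter fun j : GolayPt => j ≠ none ∧ j ≠ some 0 : Finset GolayPt) :
      Set GolayPt) := by
    ext j
    simp [posQ5]
  rw [this, Set.ncard_coe_finset]
  decide

theorem clQ5_eq : clQ5 = (fun p : GolayPt × Finset GolayPt => vC p.1 p.2) '' (posQ5 ×ˢ signQ5) := by
  ext w
  constructor
  · rintro ⟨h1, h2⟩
    obtain ⟨j, b, hb, hjn, hj0, rfl, p, q, hpp, hpb, hqb⟩ := formC5 h1 h2
    refine ⟨(j, b), ⟨⟨hjn, hj0⟩, hb, ?_⟩, rfl⟩
    rcases hpp with ⟨rfl, rfl⟩ | ⟨rfl, rfl⟩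
    · exact Or.inl ⟨hpb, hqb⟩
    · exact Or.inr ⟨hpb, hqb⟩
  · rintro ⟨⟨j, b⟩, ⟨⟨hjn, hj0⟩, hb, hpat⟩, rfl⟩
    refine ⟨vC_mem_minC j hb, ?_⟩
    rw [dotInt_a0]
    show 4 * vC j b none + 4 * vC j b (some 0) = 0
    unfold vC
    simp only [if_neg (Ne.symm hjn), if_neg (Ne.symm hj0)]
    rcases hpat with ⟨a1, a2⟩ | ⟨a1, a2⟩ <;> simp [a1, a2]

theorem clQ5_ncard : clQ5.ncard = 45056 := by
  rw [clQ5_eq, Set.InjOn.ncard_image, Set.ncard_prod, posQ5_ncard, signQ5_ncard]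
  rintro ⟨j, b⟩ _ ⟨j', b'⟩ _ h
  obtain ⟨h1, h2⟩ := vC_injective h
  exact Prod.ext h1 h2

end Cfsg.Agent.helper27
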