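import Mathlib
import Cfsg.Agent.Lib_helper27_CrMax7

set_option autoImplicit false

namespace Cfsg.Agent.helper27

open Cfsg MulAction
open scoped Pointwise

/-! ### the family of five classes -/

/-- the minimal vectors orthogonal to `a0` -/
def PV : Set (GolayPt → ℤ) := {w | w ∈ leechLattice ∧ sqNorm w = 32 ∧ dotInt a0 w = 0}

/-- the reference vector `(4, -4, 0, …)` -/
def wz : GolayPt → ℤ := pair4 none (some 0) 4 (-4)

theorem wz_mem : wz ∈ leechLattice :=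
  pair4_mem_leech (i := none) (j := some 0) (by decide) (Or.inl rfl) (Or.inr rfl)

def wzL : leechLattice := ⟨wz, wz_mem⟩

theorem a0L_add_w0L : a0L + wzL = eInfL := by
  apply Subtype.ext
  show a0 + wz = eInf
  decide

def clQ : Fin 5 → Set (GolayPt → ℤ)
  | 0 => clQ1
  | 1 => clQ2
  | 2 => clQ3
  | 3 => clQ4
  | 4 => clQ5

def clN : Fin 5 → ℕ
  | 0 => 2
  | 1 => 924
  | 2 => 4928
  | 3 => 42240
  | 4 => 45056

theorem clQ_ncard (i : Fin 5) : (clQ i).ncard = clN i := by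
  fin_cases i
  · exact clQ1_ncard
  · exact clQ2_ncard
  · exact clQ3_ncard
  · exact clQ4_ncard
  · exact clQ5_ncard

theorem clQ_finite (i : Fin 5) : (clQ i).Finite := by
  apply Set.finite_of_ncard_ne_zero
  rw [clQ_ncard]
  fin_cases i <;> decide

theorem clQ_sub_PV (i : Fin 5) : clQ i ⊆ PV := by
  intro w hw
  fin_cases i
  · exact ⟨minA_mem_leech hw.1, hw.1.2.1, hw.2.1⟩
  · exact ⟨minA_mem_leech hw.1, hw.1.2.1, hw.2.1⟩
  · exact ⟨minB_mem_leech hw.1, hw.1.2.1, hw.2.1⟩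
  · exact ⟨minB_mem_leech hw.1, hw.1.2.1, hw.2.1⟩
  · exact ⟨minC_mem_leech hw.1, hw.1.2.1, hw.2⟩

theorem PV_cover {w : GolayPt → ℤ} (hw : w ∈ PV) : ∃ i, w ∈ clQ i := by
  obtain ⟨h1, h2, h3⟩ := hw
  rcases min_trichotomy h1 h2 with h | h | h
  · by_cases h0 : w none = 0
    · exact ⟨1, h, h3, h0⟩
    · exact ⟨0, h, h3, h0⟩
  · by_cases h0 : w none = 0
    · exact ⟨3, h, h3, h0⟩
    · exact ⟨2, h, h3, h0⟩
  · exact ⟨4, h, h3⟩

theorem clQ_disjoint (i j : Fin 5) (hij : i ≠ j) : Disjoint (clQ i) (clQ j) := by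
  rw [Set.disjoint_left]
  intro w hi hj
  have hAB : w ∈ minA → w ∈ minB → False := fun h1 h2 =>
    Set.disjoint_left.mp minA_minB_disjoint h1 h2
  have hAC : w ∈ minA → w ∈ minC → False := fun h1 h2 =>
    Set.disjoint_left.mp minA_minC_disjoint h1 h2
  have hBC : w ∈ minB → w ∈ minC → False := fun h1 h2 =>
    Set.disjoint_left.mp minB_minC_disjoint h1 h2
  fin_cases i <;> fin_cases j <;> first
    | exact absurd rfl hij
    | exact hi.2.2 hj.2.2
    | exact hj.2.2 hi.2.2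
    | exact hAB hi.1 hj.1
    | exact hAB hj.1 hi.1
    | exact hAC hi.1 hj.1
    | exact hAC hj.1 hi.1
    | exact hBC hi.1 hj.1
    | exact hBC hj.1 hi.1

theorem wz_mem_clQ : wz ∈ clQ 0 := by
  show wz ∈ clQ1
  rw [clQ1_eq]
  exact Or.inl rfl

theorem PV_finite : PV.Finite := by
  have : PV ⊆ ⋃ i, clQ i := by
    intro w hw
    obtain ⟨i, hi⟩ := PV_cover hw
    exact Set.mem_iUnion.mpr ⟨i, hi⟩
  exact Set.Finite.subset (Set.finite_iUnion clQ_finite) this

theorem PV_ncard : PV.ncard = 93150 := by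
  have h1 : PV = ⋃ i ∈ (Finset.univ : Finset (Fin 5)), clQ i := by
    ext w
    constructor
    · intro hw
      obtain ⟨i, hi⟩ := PV_cover hw
      exact Set.mem_biUnion (Finset.mem_univ i) hi
    · intro hw
      obtain ⟨i, _, hi⟩ := Set.mem_iUnion₂.mp hw
      exact clQ_sub_PV i hi
  rw [h1, ncard_biUnion_finset _ _ (fun i _ => clQ_finite i)
    (fun i _ j _ hij => clQ_disjoint i j hij), Finset.sum_congr rfl (fun i _ => clQ_ncard i)]
  rfl

/-! ### transitivity inside the classes -/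

theorem class_to_ref {H : Subgroup Co0} (hH : IsCrossStab H) (i : Fin 5) :
    ∃ r : GolayPt → ℤ, ∀ x ∈ clQ i, SOrb (Nv H) x r := by
  fin_cases i
  · refine ⟨wz, fun x hx => ?_⟩
    have hx' : x ∈ clQ1 := hx
    rw [clQ1_eq] at hx'
    rcases hx' with rfl | rfl
    · exact SOrb.refl _ wz_mem
    · exact (sorbv_Q1 hH).symm
  · refine ⟨pair4 (some 1) (some 2) 4 4, fun x hx => ?_⟩
    obtain ⟨h1, h2, h3⟩ : x ∈ clQ2 := hx
    obtain ⟨i, j, hij, hin, hi0, hjn, hj0, a, b, ha, hb, rfl⟩ := formA2 h1 h2 h3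
    exact sorbv_Q2 hH hij hin hi0 hjn hj0 ha hb
  · refine ⟨vB (cw 1) {none, some 12}, fun x hx => ?_⟩
    obtain ⟨h1, h2, h3⟩ : x ∈ clQ3 := hx
    obtain ⟨o, ho, s, hs, hev, rfl, p, q, hpp, hpo, hqo, hps, hqs⟩ := formB3 h1 h2 h3
    exact sorbv_Q3 hH ho hs hev hpp hpo hqo hps hqs
  · refine ⟨vB oN ∅, fun x hx => ?_⟩
    obtain ⟨h1, h2, h3⟩ : x ∈ clQ4 := hx
    obtain ⟨o, ho, s, hs, hev, rfl⟩ := formB4 h1 h2 h3
    exact sorbv_Q4 hH ho hs hev
  · refine ⟨vC (some 1) (cw 16), fun x hx => ?_⟩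
    obtain ⟨h1, h2⟩ : x ∈ clQ5 := hx
    obtain ⟨j, b, hb, hjn, hj0, rfl, p, q, hpp, hpb, hqb⟩ := formC5 h1 h2
    exact sorbv_Q5 hH hb hjn hj0 hpp hpb hqb

theorem class_trans {H : Subgroup Co0} (hH : IsCrossStab H) (i : Fin 5) {x y : GolayPt → ℤ}
    (hx : x ∈ clQ i) (hy : y ∈ clQ i) : SOrb (Nv H) x y := by
  obtain ⟨r, hr⟩ := class_to_ref hH i
  exact (hr x hx).trans (hr y hy).symm

/-! ### the joint stabiliser of `a0` and `wz` -/

theorem stab_inf_eq : stabilizer Co0 a0L ⊓ stabilizer Co0 wzL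
    = stabilizer Co0 a0L ⊓ stabilizer Co0 eInfL := by
  ext g
  simp only [Subgroup.mem_inf, mem_stabilizer_iff]
  constructor
  · rintro ⟨h1, h2⟩
    refine ⟨h1, ?_⟩
    rw [← a0L_add_w0L, co0_smul_add, h1, h2]
  · rintro ⟨h1, h2⟩
    refine ⟨h1, ?_⟩
    rw [← a0L_add_w0L, co0_smul_add, h1] at h2
    exact add_left_cancel h2

theorem stab_inf_le {H : Subgroup Co0} (hH : IsCrossStab H) :
    stabilizer Co0 a0L ⊓ stabilizer Co0 wzL ≤ H := by
  rw [stab_inf_eq]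
  exact inf_le_right.trans hH.stab_eInfL_le

/-- the stabiliser of `a0` is transitive on the minimal vectors orthogonal to `a0` -/
theorem stab_a0_orbit_w0 :
    Subtype.val '' {y : leechLattice | ∃ g ∈ stabilizer Co0 a0L, g • wzL = y} = PV := by
  ext w
  constructor
  · rintro ⟨_, ⟨g, hg, rfl⟩, rfl⟩
    rw [mem_stabilizer_iff] at hg
    refine ⟨(g • wzL).2, ?_, ?_⟩
    · rw [show sqNorm (g • wzL : leechLattice).1 = sqNorm wzL.1 from g.2.2 wzL]
      decide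
    · have := co0_smul_dot g a0L wzL
      rw [hg] at this
      show dotInt a0L.1 (g • wzL : leechLattice).1 = 0
      rw [this]
      decide
  · rintro ⟨h1, h2, h3⟩
    obtain ⟨g1, a1, b1⟩ := orth_pair_conn a0L ⟨w, h1⟩ (by decide) h2 h3
    obtain ⟨g2, a2, b2⟩ := orth_pair_conn a0L wzL (by decide) (by decide) (by decide)
    refine ⟨⟨w, h1⟩, ⟨g1⁻¹ * g2, ?_, ?_⟩, rfl⟩
    · rw [mem_stabilizer_iff, mul_smul, inv_smul_eq_iff]
      exact Subtype.ext (a2.trans a1.symm)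
    · rw [mul_smul, inv_smul_eq_iff]
      exact Subtype.ext (b2.trans b1.symm)

theorem card_stab_a0_w0 :
    Nat.card (stabilizer Co0 a0L ⊓ stabilizer Co0 wzL : Subgroup Co0) = 454164480 := by
  have h := card_eq_orbit_mul_inf (stabilizer Co0 a0L) wzL
  rw [← Set.ncard_image_of_injective _ Subtype.val_injective, stab_a0_orbit_w0, PV_ncard,
    card_stab_a0L] at h
  omega

end Cfsg.Agent.helper27
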