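import Mathlib
import Cfsg.Agent.Lib_helper27_CrMax8

set_option autoImplicit false

namespace Cfsg.Agent.helper27

open Cfsg MulAction
open scoped Pointwise

theorem arith23 (n1 n2 n3 n4 s : ℕ) (h1 : n1 = 0 ∨ n1 = 924) (h2 : n2 = 0 ∨ n2 = 4928)
    (h3 : n3 = 0 ∨ n3 = 42240) (h4 : n4 = 0 ∨ n4 = 45056) (hs : s = 2 + n1 + n2 + n3 + n4)
    (h23 : s % 23 = 0) : n1 ≠ 0 ∧ n2 ≠ 0 ∧ n3 ≠ 0 ∧ n4 ≠ 0 := by
  rcases h1 with rfl | rfl <;> rcases h2 with rfl | rfl <;> rcases h3 with rfl | rfl <;>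
    rcases h4 with rfl | rfl <;> subst hs <;> simp at h23 ⊢

theorem sorb_wz_mem_PV {L : Subgroup Co0} (hL : L ≤ stabilizer Co0 a0L) {w : GolayPt → ℤ}
    (h : SOrb L wz w) : w ∈ PV := by
  obtain ⟨_, g, hg, rfl⟩ := h
  rw [← stab_a0_orbit_w0]
  exact ⟨g • wzL, ⟨g, hL hg, rfl⟩, rfl⟩

/-- the key step: the stabiliser of `a0` in a proper overgroup is transitive on the minimal
vectors orthogonal to `a0` -/
theorem overgroup_orbit_wz {H K : Subgroup Co0} (hH : IsCrossStab H) (hHK : H < K)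
    {w : GolayPt → ℤ} (hw : w ∈ PV) : SOrb (K ⊓ stabilizer Co0 a0L) wz w := by
  classical
  set A := stabilizer Co0 a0L with hA
  set W := stabilizer Co0 wzL with hW
  have hK32 := fun x hx hn => orbit_a0_all hH hHK (x := x) hx hn
  -- first orbit
  have hO1 : {y : leechLattice | ∃ g ∈ K, g • a0L = y} = LN 32 := by
    ext y
    constructor
    · rintro ⟨g, _, rfl⟩
      show sqNorm (g • a0L : leechLattice).1 = 32
      rw [show sqNorm (g • a0L : leechLattice).1 = sqNorm a0L.1 from g.2.2 a0L]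
      decide
    · intro hy
      obtain ⟨_, g, hg, he⟩ := hK32 y.1 y.2 hy
      exact ⟨g, hg, Subtype.ext he⟩
  have c1 := card_eq_orbit_mul_inf K a0L
  rw [hO1, LN_ncard_32] at c1
  -- second orbit
  set S : Set (GolayPt → ℤ) := {w | SOrb (K ⊓ A) wz w} with hS
  have hSL : S = Subtype.val '' {y : leechLattice | ∃ g ∈ K ⊓ A, g • wzL = y} := by
    ext y
    constructor
    · rintro ⟨_, g, hg, he⟩
      exact ⟨g • wzL, ⟨g, hg, rfl⟩, he⟩
    · rintro ⟨_, ⟨g, hg, rfl⟩, rfl⟩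
      exact ⟨wz_mem, g, hg, rfl⟩
  have c2 := card_eq_orbit_mul_inf (K ⊓ A) wzL
  have hstab : K ⊓ A ⊓ W = A ⊓ W := by
    apply le_antisymm
    · exact inf_le_inf_right _ inf_le_right
    · refine le_inf (le_inf ?_ inf_le_left) inf_le_right
      exact (stab_inf_le hH).trans hHK.le
  rw [hstab, card_stab_a0_w0, ← Set.ncard_image_of_injective _ Subtype.val_injective, ← hSL] at c2
  -- Lagrange
  have hdvd : Nat.card H ∣ Nat.card K := Subgroup.card_dvd_of_le hHK.le
  rw [hH.card, c1, c2] at hdvd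
  have h23 : S.ncard % 23 = 0 := by
    have e1 : 4096 * 244823040 = 2208 * 454164480 := by norm_num
    have e2 : 196560 * (S.ncard * 454164480) = (196560 * S.ncard) * 454164480 := by ring
    rw [e1, e2] at hdvd
    have h1 : 2208 ∣ 196560 * S.ncard := Nat.dvd_of_mul_dvd_mul_right (by norm_num) hdvd
    have h2 : 23 ∣ 196560 * S.ncard := Dvd.dvd.trans (by norm_num) h1
    have h3 : 23 ∣ S.ncard := Nat.Coprime.dvd_of_dvd_mul_left (by norm_num) h2
    exact Nat.mod_eq_zero_of_dvd h3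
  clear c1 c2 hdvd
  -- decomposition into classes
  have hSsub : S ⊆ PV := fun w hw => sorb_wz_mem_PV inf_le_right hw
  have hSfin : S.Finite := PV_finite.subset hSsub
  have hdec : S = ⋃ i ∈ (Finset.univ : Finset (Fin 5)), (S ∩ clQ i) := by
    ext w
    constructor
    · intro hw
      obtain ⟨i, hi⟩ := PV_cover (hSsub hw)
      exact Set.mem_biUnion (Finset.mem_univ i) ⟨hw, hi⟩
    · intro hw
      obtain ⟨i, _, hi⟩ := Set.mem_iUnion₂.mp hw
      exact hi.1
  have hsum : S.ncard = ∑ i : Fin 5, (S ∩ clQ i).ncard := by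
    conv_lhs => rw [hdec]
    exact ncard_biUnion_finset _ _ (fun i _ => hSfin.subset Set.inter_subset_left)
      (fun i _ j _ hij => (clQ_disjoint i j hij).mono Set.inter_subset_right Set.inter_subset_right)
  have hle : H ⊓ A ≤ K ⊓ A := inf_le_inf_right _ hHK.le
  have hfull : ∀ i, (∃ x, x ∈ S ∩ clQ i) → clQ i ⊆ S := by
    rintro i ⟨x, hxS, hxi⟩ y hy
    exact SOrb.trans hxS ((class_trans hH i hxi hy).mono hle)
  have hterm : ∀ i, (S ∩ clQ i).ncard = 0 ∨ (S ∩ clQ i).ncard = clN i := by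
    intro i
    by_cases hne : ∃ x, x ∈ S ∩ clQ i
    · right
      rw [Set.inter_eq_right.mpr (hfull i hne), clQ_ncard]
    · left
      have : S ∩ clQ i = ∅ := by
        ext x
        simp only [Set.mem_empty_iff_false, iff_false]
        exact fun hx => hne ⟨x, hx⟩
      rw [this, Set.ncard_empty]
  have h0 : (S ∩ clQ 0).ncard = clN 0 := by
    rw [Set.inter_eq_right.mpr (hfull 0 ⟨wz, SOrb.refl _ wz_mem, wz_mem_clQ⟩), clQ_ncard]
  rw [Fin.sum_univ_five] at hsum
  have t1 := hterm 1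
  have t2 := hterm 2
  have t3 := hterm 3
  have t4 := hterm 4
  have e0 : clN 0 = 2 := rfl
  have e1 : clN 1 = 924 := rfl
  have e2 : clN 2 = 4928 := rfl
  have e3 : clN 3 = 42240 := rfl
  have e4 : clN 4 = 45056 := rfl
  rw [e1] at t1
  rw [e2] at t2
  rw [e3] at t3
  rw [e4] at t4
  rw [e0] at h0
  have har := arith23 _ _ _ _ _ t1 t2 t3 t4 (by rw [hsum, h0]) h23
  have hall : ∀ i, (S ∩ clQ i).ncard ≠ 0 := by
    intro i
    fin_cases i
    · show (S ∩ clQ 0).ncard ≠ 0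
      rw [h0]; norm_num
    · exact har.1
    · exact har.2.1
    · exact har.2.2.1
    · exact har.2.2.2
  obtain ⟨i, hi⟩ := PV_cover hw
  have hne : (S ∩ clQ i).Nonempty := by
    by_contra hcon
    rw [Set.not_nonempty_iff_eq_empty] at hcon
    exact hall i (by rw [hcon, Set.ncard_empty])
  exact hfull i hne hi

/-- the stabiliser of the standard cross is maximal -/
theorem cross_stab_isCoatom {H : Subgroup Co0} (hH : IsCrossStab H) : IsCoatom H := by
  refine ⟨?_, fun K hHK => ?_⟩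
  · intro htop
    have h1 := hH.card
    rw [htop, Subgroup.card_top, card_Co0] at h1
    omega
  · rw [eq_top_iff]
    intro g _
    have hn : sqNorm (g • a0L : leechLattice).1 = 32 := by
      rw [show sqNorm (g • a0L : leechLattice).1 = sqNorm a0L.1 from g.2.2 a0L]
      decide
    obtain ⟨_, k1, hk1, e1⟩ := orbit_a0_all hH hHK (g • a0L).2 hn
    have e1' : k1 • a0L = g • a0L := Subtype.ext e1
    have hgA : k1⁻¹ * g ∈ stabilizer Co0 a0L := by
      rw [mem_stabilizer_iff, mul_smul, inv_smul_eq_iff]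
      exact e1'.symm
    have hPV : ((k1⁻¹ * g) • wzL : leechLattice).1 ∈ PV := by
      rw [← stab_a0_orbit_w0]
      exact ⟨_, ⟨_, hgA, rfl⟩, rfl⟩
    obtain ⟨_, k2, hk2, e2⟩ := overgroup_orbit_wz hH hHK hPV
    have e2' : k2 • wzL = (k1⁻¹ * g) • wzL := Subtype.ext e2
    have hh : k2⁻¹ * (k1⁻¹ * g) ∈ stabilizer Co0 a0L ⊓ stabilizer Co0 wzL := by
      refine ⟨Subgroup.mul_mem _ (Subgroup.inv_mem _ hk2.2) hgA, ?_⟩
      show k2⁻¹ * (k1⁻¹ * g) ∈ stabilizer Co0 wzL
      rw [mem_stabilizer_iff, mul_smul, inv_smul_eq_iff]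
      exact e2'.symm
    have hhK : k2⁻¹ * (k1⁻¹ * g) ∈ K := hHK.le (stab_inf_le hH hh)
    have : g = k1 * (k2 * (k2⁻¹ * (k1⁻¹ * g))) := by group
    rw [this]
    exact K.mul_mem hk1 (K.mul_mem hk2.1 hhK)

end Cfsg.Agent.helper27
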