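import Mathlib
import Cfsg.Agent.Lib_helper27_HSs5

set_option autoImplicit false

namespace Cfsg.Agent.helper27

open Cfsg MulAction
open scoped Pointwise


/-- a vertex-transitive graph with constant counts at a base point is strongly regular -/
theorem srg_of_transitive {G Ω : Type*} [Group G] [MulAction G Ω] [Fintype Ω]
    (Γ : SimpleGraph Ω) [DecidableRel Γ.Adj] [IsPretransitive G Ω]
    (hΓ : ∀ (g : G) (x y : Ω), Γ.Adj (g • x) (g • y) ↔ Γ.Adj x y)
    (a : Ω) (n k l m : ℕ) (hn : Fintype.card Ω = n)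
    (hk : (Γ.neighborSet a).ncard = k)
    (hl : ∀ b, Γ.Adj a b → (Γ.commonNeighbors a b).ncard = l)
    (hm : ∀ c, c ≠ a → ¬ Γ.Adj a c → (Γ.commonNeighbors a c).ncard = m) :
    Γ.IsSRGWith n k l m := by
  have hN : ∀ (g : G) (x : Ω), Γ.neighborSet (g • x) = (fun y => g • y) '' Γ.neighborSet x := by
    intro g x
    ext y
    simp only [SimpleGraph.mem_neighborSet, Set.mem_image]
    constructor
    · intro h
      refine ⟨g⁻¹ • y, ?_, smul_inv_smul g y⟩
      rw [← hΓ g, smul_inv_smul]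
      exact h
    · rintro ⟨z, hz, rfl⟩
      exact (hΓ g x z).mpr hz
  have hC : ∀ (g : G) (x y : Ω), Γ.commonNeighbors (g • x) (g • y)
      = (fun z => g • z) '' Γ.commonNeighbors x y := by
    intro g x y
    unfold SimpleGraph.commonNeighbors
    rw [hN, hN, Set.image_inter (MulAction.injective g)]
  refine ⟨hn, ?_, ?_, ?_⟩
  · intro x
    obtain ⟨g, rfl⟩ := exists_smul_eq G a x
    rw [← SimpleGraph.card_neighborSet_eq_degree, ← Nat.card_eq_fintype_card,
      Nat.card_coe_set_eq, hN, Set.ncard_image_of_injective _ (MulAction.injective g), hk]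
  · intro x y hxy
    obtain ⟨g, rfl⟩ := exists_smul_eq G a x
    obtain ⟨b, rfl⟩ : ∃ b, g • b = y := ⟨g⁻¹ • y, smul_inv_smul g y⟩
    rw [← Nat.card_eq_fintype_card, Nat.card_coe_set_eq, hC,
      Set.ncard_image_of_injective _ (MulAction.injective g)]
    exact hl b ((hΓ g a b).mp hxy)
  · intro x y hne hxy
    obtain ⟨g, rfl⟩ := exists_smul_eq G a x
    obtain ⟨b, rfl⟩ : ∃ b, g • b = y := ⟨g⁻¹ • y, smul_inv_smul g y⟩
    rw [← Nat.card_eq_fintype_card, Nat.card_coe_set_eq, hC,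
      Set.ncard_image_of_injective _ (MulAction.injective g)]
    refine hm b ?_ (fun h => hxy ((hΓ g a b).mpr h))
    rintro rfl
    exact hne rfl



theorem vC_empty_apply (j i : GolayPt) : vC j ∅ i = if i = j then -3 else 1 := by
  unfold vC
  simp

theorem vB_empty_apply (o : Finset GolayPt) (i : GolayPt) : vB o ∅ i = if i ∈ o then 2 else 0 := by
  unfold vB
  simp

theorem dot_vC_vC {j k : GolayPt} (hjk : j ≠ k) : dotInt (vC j ∅) (vC k ∅) = 16 := by
  unfold dotInt
  have : ∀ i, vC j ∅ i * vC k ∅ i = 1 + ((if i = j then -4 else 0) + (if i = k then -4 else 0)) := by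
    intro i
    rw [vC_empty_apply, vC_empty_apply]
    by_cases h1 : i = j
    · have h2 : i ≠ k := fun h => hjk (h1.symm.trans h)
      simp only [if_pos h1, if_neg h2]; rfl
    · by_cases h2 : i = k
      · simp only [if_neg h1, if_pos h2]; rfl
      · simp only [if_neg h1, if_neg h2]; rfl
  rw [Finset.sum_congr rfl (fun i _ => this i), Finset.sum_add_distrib, Finset.sum_add_distrib,
    Finset.sum_const, Finset.card_univ, card_golayPt, Finset.sum_ite_eq' Finset.univ j,
    Finset.sum_ite_eq' Finset.univ k]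
  simp

theorem dot_vB_vC (o : Finset GolayPt) (k : GolayPt) :
    dotInt (vB o ∅) (vC k ∅) = 2 * o.card - (if k ∈ o then 8 else 0) := by
  unfold dotInt
  have : ∀ i, vB o ∅ i * vC k ∅ i
      = (if i ∈ o then 2 else 0) - (if i = k then (if k ∈ o then 8 else 0) else 0) := by
    intro i
    rw [vC_empty_apply, vB_empty_apply]
    by_cases h1 : i = k
    · subst h1
      by_cases h2 : i ∈ o
      · simp [h2]
      · simp [h2]
    · simp [h1]
  rw [Finset.sum_congr rfl (fun i _ => this i), Finset.sum_sub_distrib,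
    Finset.sum_ite_eq' Finset.univ k, Finset.sum_ite_mem, Finset.univ_inter, Finset.sum_const]
  simp [mul_comm]

theorem vC_empty_injective : Function.Injective (fun j : GolayPt => vC j ∅) := by
  intro j k h
  by_contra hjk
  have := congrFun h j
  simp only [vC_empty_apply, if_true, if_neg hjk] at this
  omega

/-- the graph on the 100 points: inner product 8 -/
def hsGraph : SimpleGraph hsPts where
  Adj x y := dotInt x.1.1 y.1.1 = 8
  symm := ⟨fun x y h => by
    show dotInt y.1.1 x.1.1 = 8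
    rw [dotInt_comm]; exact h⟩
  loopless := ⟨fun x h => by
    obtain ⟨g, rfl⟩ := exists_smul_eq HS0 a0P x
    rw [hsPts_smul_val, co0_smul_dot] at h
    have : dotInt a0 a0 = 8 := h
    rw [dot_a0_a0] at this; omega⟩

theorem hsGraph_adj (x y : hsPts) : hsGraph.Adj x y ↔ dotInt x.1.1 y.1.1 = 8 := Iff.rfl

theorem hsGraph_smul (g : HS0) (x y : hsPts) : hsGraph.Adj (g • x) (g • y) ↔ hsGraph.Adj x y := by
  rw [hsGraph_adj, hsGraph_adj, hsPts_smul_val, hsPts_smul_val, co0_smul_dot]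

theorem hsGraph_adj_a0 (y : hsPts) : hsGraph.Adj a0P y ↔ y.1.1 ∈ hsA' := by
  rw [← hsQ_std]
  constructor
  · intro h
    exact ⟨y.2, h⟩
  · intro h
    exact h.2

theorem hsGraph_nadj_a0 (y : hsPts) : (y ≠ a0P ∧ ¬ hsGraph.Adj a0P y) ↔ y.1.1 ∈ mclB := by
  rw [← hsR_std]
  constructor
  · rintro ⟨h1, h2⟩
    exact ⟨y.2, fun h => h1 (Subtype.ext h), h2⟩
  · rintro ⟨_, h2, h3⟩
    exact ⟨fun h => h2 (congrArg Subtype.val h), h3⟩

theorem hsGraph_nbr_a0 : (hsGraph.neighborSet a0P).ncard = 22 := by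
  refine Eq.trans ?_ hsQ_std_ncard
  rw [← Set.ncard_image_of_injective _ Subtype.val_injective]
  congr 1
  ext y
  constructor
  · rintro ⟨z, hz, rfl⟩
    exact ⟨z.2, hz⟩
  · rintro ⟨h1, h2⟩
    exact ⟨⟨y, h1⟩, h2, rfl⟩

theorem hsGraph_lambda (b : hsPts) (hb : hsGraph.Adj a0P b) :
    (hsGraph.commonNeighbors a0P b).ncard = 0 := by
  rw [Set.ncard_eq_zero, Set.eq_empty_iff_forall_notMem]
  rintro z ⟨hz1, hz2⟩
  rw [SimpleGraph.mem_neighborSet, hsGraph_adj_a0] at hz1
  rw [hsGraph_adj_a0] at hb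
  obtain ⟨j, _, hj⟩ := hb
  obtain ⟨k, _, hk⟩ := hz1
  rw [SimpleGraph.mem_neighborSet, hsGraph_adj, ← hj, ← hk] at hz2
  by_cases hjk : j = k
  · subst hjk
    have e : dotInt (vC j ∅) (vC j ∅) = 8 := hz2
    rw [dotInt_self, sqNorm_vC] at e
    omega
  · have e : dotInt (vC j ∅) (vC k ∅) = 8 := hz2
    rw [dot_vC_vC hjk] at e
    omega

theorem hsGraph_mu (c : hsPts) (hc : c ≠ a0P) (hc' : ¬ hsGraph.Adj a0P c) :
    (hsGraph.commonNeighbors a0P c).ncard = 6 := by
  obtain ⟨o, ⟨ho, hn, h0⟩, hco⟩ := (hsGraph_nadj_a0 c).mp ⟨hc, hc'⟩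
  have hcard := octads_card ho
  have himg : (fun z : hsPts => z.1.1) '' (hsGraph.commonNeighbors a0P c)
      = (fun k => vC k ∅) '' (((o.erase none).erase (some 0) : Finset GolayPt) : Set GolayPt) := by
    ext v
    constructor
    · rintro ⟨z, ⟨hz1, hz2⟩, rfl⟩
      rw [SimpleGraph.mem_neighborSet, hsGraph_adj_a0] at hz1
      obtain ⟨k, ⟨hk1, hk2⟩, hk⟩ := hz1
      rw [SimpleGraph.mem_neighborSet, hsGraph_adj, ← hco, ← hk] at hz2
      have e : dotInt (vB o ∅) (vC k ∅) = 8 := hz2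
      rw [dot_vB_vC, hcard] at e
      refine ⟨k, ?_, hk⟩
      rw [Finset.mem_coe, Finset.mem_erase, Finset.mem_erase]
      refine ⟨hk2, hk1, ?_⟩
      by_contra hko
      rw [if_neg hko] at e
      norm_num at e
    · rintro ⟨k, hk, rfl⟩
      rw [Finset.mem_coe, Finset.mem_erase, Finset.mem_erase] at hk
      obtain ⟨hk2, hk1, hko⟩ := hk
      have hmem : vC k ∅ ∈ hsA' := ⟨k, ⟨hk1, hk2⟩, rfl⟩
      refine ⟨⟨⟨vC k ∅, hs100_mem (hsA'_hs100 hmem)⟩, mem_hsPts.mpr (hsA'_hs100 hmem)⟩, ⟨?_, ?_⟩, rfl⟩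
      · rw [SimpleGraph.mem_neighborSet, hsGraph_adj_a0]
        exact hmem
      · rw [SimpleGraph.mem_neighborSet, hsGraph_adj, ← hco]
        show dotInt (vB o ∅) (vC k ∅) = 8
        rw [dot_vB_vC, hcard, if_pos hko]
        norm_num
  have hinj : Function.Injective (fun z : hsPts => z.1.1) := by
    intro z z' h
    exact Subtype.ext (Subtype.ext h)
  rw [← Set.ncard_image_of_injective _ hinj, himg, Set.ncard_image_of_injective _ vC_empty_injective,
    Set.ncard_coe_finset, Finset.card_erase_of_mem, Finset.card_erase_of_mem hn, hcard]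
  rw [Finset.mem_erase]
  exact ⟨by decide, h0⟩

noncomputable instance hsPts_fintype : Fintype hsPts := Fintype.ofFinite _

theorem hsGraph_srg [DecidableRel hsGraph.Adj] : hsGraph.IsSRGWith 100 22 0 6 := by
  refine srg_of_transitive (G := HS0) hsGraph hsGraph_smul a0P 100 22 0 6 ?_ hsGraph_nbr_a0
    hsGraph_lambda hsGraph_mu
  rw [← Nat.card_eq_fintype_card, card_hsPts]

end Cfsg.Agent.helper27
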