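import Cfsg.Agent.Lib_helper28_S3622
set_option autoImplicit false

namespace Cfsg.Agent.helper28.Design

open Finset Cfsg.Agent.S5625

lemma s3622_point_block {α : Type*} [Fintype α] [DecidableEq α] (hα : Fintype.card α = 22)
    (Bf : Finset (Finset α)) (hk : ∀ b ∈ Bf, b.card = 6)
    (h3 : ∀ S : Finset α, S.card = 3 → cnt Bf S = 1) (b : Finset α) (hb : b ∈ Bf) (a : α)
    (ha : a ∉ b) :
    (Bf.filter (fun c => a ∈ c ∧ (c ∩ b).card = 0)).card = 6 := by
  obtain ⟨h2, h1, h0⟩ := s3622_counts hα Bf hk h3
  have hb6 := hk b hb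
  have hBb := (s3622_block hα Bf hk h3 b hb).2
  have hm : ∀ j, j ≤ 2 → ∑ k ∈ range (b.card + 1),
        (Bf.filter (fun c => a ∈ c ∧ (c ∩ b).card = k)).card * k.choose j
      = (b.card).choose j * mu22 (1 + j) := by
    intro j hj
    have hsimp : ∀ k, (Bf.filter (fun c => ({a} : Finset α) ⊆ c ∧ (c ∩ b).card = k))
        = Bf.filter (fun c => a ∈ c ∧ (c ∩ b).card = k) := by
      intro k
      apply Finset.filter_congr
      intro c _
      simp
    have := moment_sub Bf ({a} : Finset α) b j
    simp only [hsimp] at this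
    rw [this]
    have hcongr : ∀ P ∈ powersetCard j b, cnt Bf ({a} ∪ P) = mu22 (1 + j) := by
      intro P hP
      rw [Finset.mem_powersetCard] at hP
      have hcard : ({a} ∪ P).card = 1 + j := by
        rw [Finset.card_union_of_disjoint, Finset.card_singleton, hP.2]
        rw [Finset.disjoint_singleton_left]
        exact fun h => ha (hP.1 h)
      have hcases : j = 0 ∨ j = 1 ∨ j = 2 := by omega
      rcases hcases with rfl | rfl | rfl
      · exact h1 _ hcard
      · exact h2 _ hcard
      · exact h3 _ hcard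
    rw [Finset.sum_congr rfl hcongr, Finset.sum_const, Finset.card_powersetCard, smul_eq_mul]
  have hbad : ∀ k, k ≠ 0 → k ≠ 2 →
      (Bf.filter (fun c => a ∈ c ∧ (c ∩ b).card = k)).card = 0 := by
    intro k k0 k2
    rw [Finset.card_eq_zero, Finset.filter_eq_empty_iff]
    rintro c hc ⟨hac, hck⟩
    rcases hBb c hc with h | h | h
    · omega
    · omega
    · rw [h] at hac; exact ha hac
  have m0 := hm 0 (by norm_num)
  have m1 := hm 1 (by norm_num)
  rw [hb6] at m0 m1
  simp only [Finset.sum_range_succ, Finset.sum_range_zero, Nat.choose, mu22] at m0 m1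
  rw [hbad 1 (by norm_num) (by norm_num), hbad 3 (by norm_num) (by norm_num),
    hbad 4 (by norm_num) (by norm_num), hbad 5 (by norm_num) (by norm_num),
    hbad 6 (by norm_num) (by norm_num)] at m0 m1
  omega


end Cfsg.Agent.helper28.Design
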