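import Cfsg.Agent.Lib_helper28_Design
set_option autoImplicit false

namespace Cfsg.Agent.helper28.Design

open Finset Cfsg.Agent.S5625

/-- basic block counts of an S(3,6,22) -/
lemma s3622_counts {α : Type*} [Fintype α] [DecidableEq α] (hα : Fintype.card α = 22)
    (Bf : Finset (Finset α)) (hk : ∀ b ∈ Bf, b.card = 6)
    (h3 : ∀ S : Finset α, S.card = 3 → cnt Bf S = 1) :
    (∀ S : Finset α, S.card = 2 → cnt Bf S = 5) ∧ (∀ S : Finset α, S.card = 1 → cnt Bf S = 21) ∧
      cnt Bf (∅ : Finset α) = 77 := by
  have hcompl : ∀ S : Finset α, Sᶜ.card = 22 - S.card := by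
    intro S; rw [Finset.card_compl, hα]
  have hins : ∀ (S : Finset α) x, x ∈ Sᶜ → (insert x S).card = S.card + 1 := by
    intro S x hx
    rw [Finset.card_insert_of_notMem (Finset.mem_compl.1 hx)]
  have h2 : ∀ S : Finset α, S.card = 2 → cnt Bf S = 5 := by
    intro S hS
    have := step Bf 6 hk S
    rw [Finset.sum_congr rfl (fun x hx => h3 _ (by rw [hins S x hx, hS])), Finset.sum_const,
      hcompl, hS, smul_eq_mul] at this
    omega
  have h1 : ∀ S : Finset α, S.card = 1 → cnt Bf S = 21 := by
    intro S hS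
    have := step Bf 6 hk S
    rw [Finset.sum_congr rfl (fun x hx => h2 _ (by rw [hins S x hx, hS])), Finset.sum_const,
      hcompl, hS, smul_eq_mul] at this
    omega
  have h0 : cnt Bf (∅ : Finset α) = 77 := by
    have := step Bf 6 hk (∅ : Finset α)
    rw [Finset.sum_congr rfl (fun x hx => h1 _ (by rw [hins ∅ x hx, Finset.card_empty])),
      Finset.sum_const, hcompl, Finset.card_empty, smul_eq_mul] at this
    omega
  exact ⟨h2, h1, h0⟩

/-- the numbers of blocks of an S(3,6,22) through a j-subset of a block. -/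
def mu22 : ℕ → ℕ
  | 0 => 77 | 1 => 21 | 2 => 5 | 3 => 1 | 4 => 1 | 5 => 1 | 6 => 1 | _ => 0

lemma s3622_block {α : Type*} [Fintype α] [DecidableEq α] (hα : Fintype.card α = 22)
    (Bf : Finset (Finset α)) (hk : ∀ b ∈ Bf, b.card = 6)
    (h3 : ∀ S : Finset α, S.card = 3 → cnt Bf S = 1) (b : Finset α) (hb : b ∈ Bf) :
    (Bf.filter (fun c => (c ∩ b).card = 0)).card = 16 ∧
    ∀ c ∈ Bf, (c ∩ b).card = 0 ∨ (c ∩ b).card = 2 ∨ c = b := by
  obtain ⟨h2, h1, h0⟩ := s3622_counts hα Bf hk h3
  have hb6 := hk b hb
  have hge3 : ∀ S : Finset α, S ⊆ b → 3 ≤ S.card → cnt Bf S = 1 := by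
    intro S hS h3S
    obtain ⟨T, hTS, hT⟩ := Finset.exists_subset_card_eq h3S
    apply le_antisymm
    · rw [← h3 T hT]
      unfold cnt
      apply Finset.card_le_card
      intro c hc
      rw [Finset.mem_filter] at hc ⊢
      exact ⟨hc.1, hTS.trans hc.2⟩
    · unfold cnt
      rw [Nat.one_le_iff_ne_zero, Ne, Finset.card_eq_zero]
      intro h
      have : b ∈ Bf.filter (fun c => S ⊆ c) := Finset.mem_filter.2 ⟨hb, hS⟩
      rw [h] at this
      exact absurd this (Finset.notMem_empty b)
  have hmu : ∀ S : Finset α, S ⊆ b → cnt Bf S = mu22 S.card := by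
    intro S hS
    have hle : S.card ≤ 6 := hb6 ▸ Finset.card_le_card hS
    have hcases : S.card = 0 ∨ S.card = 1 ∨ S.card = 2 ∨ 3 ≤ S.card := by omega
    rcases hcases with h | h | h | h
    · rw [h, Finset.card_eq_zero.1 h]; exact h0
    · rw [h]; exact h1 S h
    · rw [h]; exact h2 S h
    · rw [hge3 S hS h]
      have : S.card = 3 ∨ S.card = 4 ∨ S.card = 5 ∨ S.card = 6 := by omega
      rcases this with h' | h' | h' | h' <;> rw [h'] <;> rfl
  have hm : ∀ j, ∑ k ∈ range (b.card + 1),
        (Bf.filter (fun c => (∅ : Finset α) ⊆ c ∧ (c ∩ b).card = k)).card * k.choose j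
      = (b.card).choose j * mu22 j := by
    intro j
    rw [moment_sub]
    have hcongr : ∀ P ∈ powersetCard j b, cnt Bf (∅ ∪ P) = mu22 j := by
      intro P hP
      rw [Finset.mem_powersetCard] at hP
      rw [Finset.empty_union, hmu P hP.1, hP.2]
    rw [Finset.sum_congr rfl hcongr, Finset.sum_const, Finset.card_powersetCard, smul_eq_mul]
  have hsimp : ∀ k, (Bf.filter (fun c => (∅ : Finset α) ⊆ c ∧ (c ∩ b).card = k))
      = Bf.filter (fun c => (c ∩ b).card = k) := by
    intro k
    apply Finset.filter_congr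
    intro c _
    simp
  simp only [hsimp] at hm
  have m0 := hm 0
  have m1 := hm 1
  have m2 := hm 2
  have m3 := hm 3
  have m4 := hm 4
  have m5 := hm 5
  have m6 := hm 6
  rw [hb6] at m0 m1 m2 m3 m4 m5 m6
  simp only [Finset.sum_range_succ, Finset.sum_range_zero, Nat.choose, mu22] at m0 m1 m2 m3 m4 m5 m6
  refine ⟨by omega, ?_⟩
  intro c hc
  have hle : (c ∩ b).card ≤ 6 := hb6 ▸ Finset.card_le_card Finset.inter_subset_right
  have hpos : ∀ k, (c ∩ b).card = k → 0 < (Bf.filter (fun c => (c ∩ b).card = k)).card := by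
    intro k hk'
    exact Finset.card_pos.2 ⟨c, Finset.mem_filter.2 ⟨hc, hk'⟩⟩
  have hcases : (c ∩ b).card = 0 ∨ (c ∩ b).card = 1 ∨ (c ∩ b).card = 2 ∨ (c ∩ b).card = 3 ∨
      (c ∩ b).card = 4 ∨ (c ∩ b).card = 5 ∨ (c ∩ b).card = 6 := by omega
  rcases hcases with h | h | h | h | h | h | h
  · left; exact h
  · have := hpos 1 h; omega
  · right; left; exact h
  · have := hpos 3 h; omega
  · have := hpos 4 h; omega
  · have := hpos 5 h; omega
  · right; right
    have h1' : c ∩ b = b := Finset.eq_of_subset_of_card_le Finset.inter_subset_right (by rw [h, hb6])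
    have h2' : b ⊆ c := by rw [← h1']; exact Finset.inter_subset_left
    exact (Finset.eq_of_subset_of_card_le h2' (by rw [hb6, hk c hc])).symm

lemma s3622_pair {α : Type*} [Fintype α] [DecidableEq α] (hα : Fintype.card α = 22)
    (Bf : Finset (Finset α)) (hk : ∀ b ∈ Bf, b.card = 6)
    (h3 : ∀ S : Finset α, S.card = 3 → cnt Bf S = 1) (b c : Finset α) (hb : b ∈ Bf) (hc : c ∈ Bf)
    (hbc : b ≠ c) :
    ((b ∩ c).card = 0 → (Bf.filter (fun d => (d ∩ (b ∪ c)).card = 0)).card = 0) ∧
    ((b ∩ c).card = 2 → (Bf.filter (fun d => (d ∩ (b ∪ c)).card = 0)).card = 4) := by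
  obtain ⟨h2, h1, h0⟩ := s3622_counts hα Bf hk h3
  have hb6 := hk b hb
  have hc6 := hk c hc
  set Y := b ∪ c with hY
  have hYcard : Y.card + (b ∩ c).card = 12 := by
    rw [hY, Finset.card_union_add_card_inter, hb6, hc6]
  have hmu : ∀ S : Finset α, S.card ≤ 3 → cnt Bf S = mu22 S.card := by
    intro S hS
    have hcases : S.card = 0 ∨ S.card = 1 ∨ S.card = 2 ∨ S.card = 3 := by omega
    rcases hcases with h | h | h | h
    · rw [h, Finset.card_eq_zero.1 h]; exact h0
    · rw [h]; exact h1 S h
    · rw [h]; exact h2 S h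
    · rw [h]; exact h3 S h
  have hm : ∀ j, j ≤ 3 → ∑ k ∈ range (Y.card + 1),
        (Bf.filter (fun d => (d ∩ Y).card = k)).card * k.choose j
      = (Y.card).choose j * mu22 j := by
    intro j hj
    have hsimp : ∀ k, (Bf.filter (fun c => (∅ : Finset α) ⊆ c ∧ (c ∩ Y).card = k))
        = Bf.filter (fun c => (c ∩ Y).card = k) := by
      intro k
      apply Finset.filter_congr
      intro c _
      simp
    have := moment_sub Bf (∅ : Finset α) Y j
    simp only [hsimp] at this
    rw [this]
    have hcongr : ∀ P ∈ powersetCard j Y, cnt Bf (∅ ∪ P) = mu22 j := by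
      intro P hP
      rw [Finset.mem_powersetCard] at hP
      rw [Finset.empty_union, hmu P (by omega), hP.2]
    rw [Finset.sum_congr rfl hcongr, Finset.sum_const, Finset.card_powersetCard, smul_eq_mul]
  -- values of |d ∩ Y|
  have hxyz : ∀ d : Finset α, (d ∩ Y).card + (d ∩ (b ∩ c)).card = (d ∩ b).card + (d ∩ c).card := by
    intro d
    have := Finset.card_union_add_card_inter (d ∩ b) (d ∩ c)
    rw [← Finset.inter_union_distrib_left, ← Finset.inter_inter_distrib_left] at this
    exact this
  have hz : ∀ d : Finset α, (d ∩ (b ∩ c)).card ≤ (b ∩ c).card ∧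
      (d ∩ (b ∩ c)).card ≤ (d ∩ b).card ∧ (d ∩ (b ∩ c)).card ≤ (d ∩ c).card := by
    intro d
    refine ⟨Finset.card_le_card Finset.inter_subset_right, Finset.card_le_card ?_,
      Finset.card_le_card ?_⟩
    · exact Finset.inter_subset_inter_left Finset.inter_subset_left
    · exact Finset.inter_subset_inter_left Finset.inter_subset_right
  have hBb := (s3622_block hα Bf hk h3 b hb).2
  have hBc := (s3622_block hα Bf hk h3 c hc).2
  have hbY : (b ∩ Y).card = 6 := by
    rw [hY, Finset.inter_eq_left.2 Finset.subset_union_left, hb6]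
  have hcY : (c ∩ Y).card = 6 := by
    rw [hY, Finset.inter_eq_left.2 Finset.subset_union_right, hc6]
  have hval : ∀ d ∈ Bf, (d = b ∨ d = c) ∨ (d ≠ b ∧ d ≠ c ∧
      ((b ∩ c).card = 0 → ((d ∩ Y).card = 0 ∨ (d ∩ Y).card = 2 ∨ (d ∩ Y).card = 4)) ∧
      ((b ∩ c).card = 2 → ((d ∩ Y).card = 0 ∨ (d ∩ Y).card = 2 ∨ (d ∩ Y).card = 3 ∨
        (d ∩ Y).card = 4))) := by
    intro d hd
    by_cases hdb : d = b
    · left; left; exact hdb
    by_cases hdc : d = c
    · left; right; exact hdc
    right
    refine ⟨hdb, hdc, ?_, ?_⟩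
    · intro h
      have := hxyz d
      have := hz d
      rcases hBb d hd with hx | hx | hx
      · rcases hBc d hd with hy | hy | hy
        · omega
        · omega
        · exact absurd hy hdc
      · rcases hBc d hd with hy | hy | hy
        · omega
        · omega
        · exact absurd hy hdc
      · exact absurd hx hdb
    · intro h
      have := hxyz d
      have := hz d
      rcases hBb d hd with hx | hx | hx
      · rcases hBc d hd with hy | hy | hy
        · omega
        · omega
        · exact absurd hy hdc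
      · rcases hBc d hd with hy | hy | hy
        · omega
        · omega
        · exact absurd hy hdc
      · exact absurd hx hdb
  have hn6 : (b ∩ c).card = 0 ∨ (b ∩ c).card = 2 →
      (Bf.filter (fun d => (d ∩ Y).card = 6)).card = 2 := by
    intro hcase
    have : Bf.filter (fun d => (d ∩ Y).card = 6) = {b, c} := by
      ext d
      simp only [Finset.mem_filter, Finset.mem_insert, Finset.mem_singleton]
      constructor
      · rintro ⟨hd, h6⟩
        rcases hval d hd with h | ⟨-, -, ha, hb'⟩
        · exact h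
        · rcases hcase with h | h
          · have := ha h; omega
          · have := hb' h; omega
      · rintro (rfl | rfl)
        · exact ⟨hb, hbY⟩
        · exact ⟨hc, hcY⟩
    rw [this, Finset.card_pair hbc]
  have hnk : ∀ k, k ≠ 6 → (∀ d ∈ Bf, d ≠ b → d ≠ c → (d ∩ Y).card ≠ k) →
      (Bf.filter (fun d => (d ∩ Y).card = k)).card = 0 := by
    intro k hk6 hne
    rw [Finset.card_eq_zero, Finset.filter_eq_empty_iff]
    intro d hd hdk
    by_cases hdb : d = b
    · rw [hdb, hbY] at hdk; exact hk6 hdk.symm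
    by_cases hdc : d = c
    · rw [hdc, hcY] at hdk; exact hk6 hdk.symm
    exact hne d hd hdb hdc hdk
  have m0 := hm 0 (by norm_num)
  have m1 := hm 1 (by norm_num)
  have m2 := hm 2 (by norm_num)
  have m3 := hm 3 (by norm_num)
  constructor
  · intro h
    have hY12 : Y.card = 12 := by omega
    have n6 := hn6 (Or.inl h)
    have hbad : ∀ k, k ≠ 6 → k ≠ 0 → k ≠ 2 → k ≠ 4 →
        (Bf.filter (fun d => (d ∩ Y).card = k)).card = 0 := by
      intro k k6 k0 k2 k4
      apply hnk k k6
      intro d hd hdb hdc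
      rcases hval d hd with h' | ⟨-, -, ha, -⟩
      · rcases h' with h' | h'
        · exact absurd h' hdb
        · exact absurd h' hdc
      · have := ha h; omega
    rw [hY12] at m0 m1 m2 m3
    simp only [Finset.sum_range_succ, Finset.sum_range_zero, Nat.choose, mu22] at m0 m1 m2 m3
    rw [hbad 1 (by norm_num) (by norm_num) (by norm_num) (by norm_num),
      hbad 3 (by norm_num) (by norm_num) (by norm_num) (by norm_num),
      hbad 5 (by norm_num) (by norm_num) (by norm_num) (by norm_num),
      hbad 7 (by norm_num) (by norm_num) (by norm_num) (by norm_num),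
      hbad 8 (by norm_num) (by norm_num) (by norm_num) (by norm_num),
      hbad 9 (by norm_num) (by norm_num) (by norm_num) (by norm_num),
      hbad 10 (by norm_num) (by norm_num) (by norm_num) (by norm_num),
      hbad 11 (by norm_num) (by norm_num) (by norm_num) (by norm_num),
      hbad 12 (by norm_num) (by norm_num) (by norm_num) (by norm_num), n6] at m0 m1 m2 m3
    omega
  · intro h
    have hY10 : Y.card = 10 := by omega
    have n6 := hn6 (Or.inr h)
    have hbad : ∀ k, k ≠ 6 → k ≠ 0 → k ≠ 2 → k ≠ 3 → k ≠ 4 →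
        (Bf.filter (fun d => (d ∩ Y).card = k)).card = 0 := by
      intro k k6 k0 k2 k3 k4
      apply hnk k k6
      intro d hd hdb hdc
      rcases hval d hd with h' | ⟨-, -, -, hb'⟩
      · rcases h' with h' | h'
        · exact absurd h' hdb
        · exact absurd h' hdc
      · have := hb' h; omega
    rw [hY10] at m0 m1 m2 m3
    simp only [Finset.sum_range_succ, Finset.sum_range_zero, Nat.choose, mu22] at m0 m1 m2 m3
    rw [hbad 1 (by norm_num) (by norm_num) (by norm_num) (by norm_num) (by norm_num),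
      hbad 5 (by norm_num) (by norm_num) (by norm_num) (by norm_num) (by norm_num),
      hbad 7 (by norm_num) (by norm_num) (by norm_num) (by norm_num) (by norm_num),
      hbad 8 (by norm_num) (by norm_num) (by norm_num) (by norm_num) (by norm_num),
      hbad 9 (by norm_num) (by norm_num) (by norm_num) (by norm_num) (by norm_num),
      hbad 10 (by norm_num) (by norm_num) (by norm_num) (by norm_num) (by norm_num), n6]
      at m0 m1 m2 m3
    omega

end Cfsg.Agent.helper28.Design
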