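import Cfsg.Statements.S0427
import Cfsg.Agent.Lib_helper28_S3622

set_option autoImplicit false
open Cfsg

namespace Cfsg.Agent.S0427

open Cfsg.Agent.helper28.Design Cfsg.Agent.S5625

lemma card_sub {α : Type*} [Fintype α] [DecidableEq α] (B : Set (Finset α)) [DecidablePred (· ∈ B)]
    (P : ↥B → Prop) (P' : Finset α → Prop) [DecidablePred P']
    (hP : ∀ w : ↥B, P w ↔ P' (w : Finset α)) :
    Nat.card {w : ↥B // P w} = ((Finset.univ.filter (fun b => b ∈ B)).filter P').card := by
  classical
  rw [← Fintype.card_coe, ← Nat.card_eq_fintype_card]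
  apply Nat.card_congr
  refine ⟨fun w => ⟨(w.1 : Finset α), ?_⟩, fun c => ⟨⟨c.1, ?_⟩, ?_⟩, ?_, ?_⟩
  · rw [Finset.mem_filter, Finset.mem_filter]
    exact ⟨⟨Finset.mem_univ _, w.1.2⟩, (hP w.1).1 w.2⟩
  · have := c.2
    rw [Finset.mem_filter, Finset.mem_filter] at this
    exact this.1.2
  · have := c.2
    rw [Finset.mem_filter, Finset.mem_filter] at this
    exact (hP _).2 this.2
  · intro w; rfl
  · intro c; rfl

/-- The block graph (adjacent = disjoint) of an S(3, 6, 22) is strongly regular with parameters (77, 16, 0, 4). -/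
theorem result {α : Type*} [Fintype α] (hα : Fintype.card α = 22) {B : Set (Finset α)} (hB : Cfsg.IsSteinerSystem 3 6 B) [Fintype B] [DecidableRel (Cfsg.blockGraph B).Adj] : (Cfsg.blockGraph B).IsSRGWith 77 16 0 4 := by
  classical
  obtain ⟨hcard, huniq⟩ := hB
  set Bf : Finset (Finset α) := Finset.univ.filter (fun b => b ∈ B) with hBf
  have hBfmem : ∀ b, b ∈ Bf ↔ b ∈ B := by simp [hBf]
  have hk : ∀ b ∈ Bf, b.card = 6 := fun b hb => hcard b ((hBfmem b).1 hb)
  have h3 : ∀ S : Finset α, S.card = 3 → cnt Bf S = 1 := by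
    intro S hS
    obtain ⟨b, ⟨hbB, hSb⟩, hu⟩ := huniq S hS
    unfold cnt
    rw [Finset.card_eq_one]
    refine ⟨b, ?_⟩
    ext c
    simp only [Finset.mem_filter, Finset.mem_singleton, hBfmem]
    constructor
    · rintro ⟨h1, h2⟩; exact hu c ⟨h1, h2⟩
    · rintro rfl; exact ⟨hbB, hSb⟩
  obtain ⟨-, -, h0⟩ := s3622_counts hα Bf hk h3
  have hadj : ∀ v w : ↥B, (Cfsg.blockGraph B).Adj v w ↔ Disjoint (w : Finset α) (v : Finset α) := by
    intro v w
    unfold Cfsg.blockGraph
    rw [SimpleGraph.fromRel_adj]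
    constructor
    · rintro ⟨-, h | h⟩
      · exact h.symm
      · exact h
    · intro h
      refine ⟨?_, Or.inr h⟩
      intro hvw
      rw [hvw] at h
      have h6 := hcard _ w.2
      rw [Finset.disjoint_self_iff_empty] at h
      rw [h] at h6
      simp at h6
  have hdisj0 : ∀ a b : Finset α, Disjoint a b ↔ (a ∩ b).card = 0 := by
    intro a b
    rw [Finset.card_eq_zero, Finset.disjoint_iff_inter_eq_empty]
  refine ⟨?_, ?_, ?_, ?_⟩
  · -- card
    have : Fintype.card ↥B = Bf.card := Fintype.card_of_subtype Bf hBfmem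
    rw [this]
    have hc : cnt Bf (∅ : Finset α) = Bf.card := by
      unfold cnt
      congr 1
      ext b
      simp
    rw [← hc, h0]
  · -- regular
    intro v
    rw [← SimpleGraph.card_neighborSet_eq_degree, Fintype.card_eq_nat_card]
    have := card_sub B (fun w => w ∈ (Cfsg.blockGraph B).neighborSet v)
      (fun c => (c ∩ (v : Finset α)).card = 0)
      (fun w => by rw [SimpleGraph.mem_neighborSet, hadj, hdisj0])
    rw [this]
    exact (s3622_block hα Bf hk h3 v ((hBfmem _).2 v.2)).1
  · -- adjacent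
    intro v w hvw
    rw [Fintype.card_eq_nat_card]
    have := card_sub B (fun d => d ∈ (Cfsg.blockGraph B).commonNeighbors v w)
      (fun d => (d ∩ ((v : Finset α) ∪ (w : Finset α))).card = 0)
      (fun d => by
        rw [SimpleGraph.mem_commonNeighbors, hadj, hadj, ← hdisj0, Finset.disjoint_union_right])
    rw [this]
    have hne : (v : Finset α) ≠ (w : Finset α) := fun h =>
      (Cfsg.blockGraph B).ne_of_adj hvw (Subtype.ext h)
    have hd : ((v : Finset α) ∩ (w : Finset α)).card = 0 := by
      rw [← hdisj0]; exact ((hadj v w).1 hvw).symm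
    exact (s3622_pair hα Bf hk h3 v w ((hBfmem _).2 v.2) ((hBfmem _).2 w.2) hne).1 hd
  · -- non-adjacent
    intro v w hvw hnadj
    rw [Fintype.card_eq_nat_card]
    have := card_sub B (fun d => d ∈ (Cfsg.blockGraph B).commonNeighbors v w)
      (fun d => (d ∩ ((v : Finset α) ∪ (w : Finset α))).card = 0)
      (fun d => by
        rw [SimpleGraph.mem_commonNeighbors, hadj, hadj, ← hdisj0, Finset.disjoint_union_right])
    rw [this]
    have hne : (v : Finset α) ≠ (w : Finset α) := fun h => hvw (Subtype.ext h)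
    have hd : ((v : Finset α) ∩ (w : Finset α)).card = 2 := by
      rcases (s3622_block hα Bf hk h3 w ((hBfmem _).2 w.2)).2 v ((hBfmem _).2 v.2) with h | h | h
      · exfalso
        apply hnadj
        rw [hadj, hdisj0, Finset.inter_comm]
        exact h
      · exact h
      · exact absurd h hne
    exact (s3622_pair hα Bf hk h3 v w ((hBfmem _).2 v.2) ((hBfmem _).2 w.2) hne).2 hd

end Cfsg.Agent.S0427
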