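import Cfsg.Statements.S0428
import Cfsg.Agent.Lib_helper28_S3622b
import Cfsg.Agent.S0427

set_option autoImplicit false
open Cfsg

namespace Cfsg.Agent.S0428


open Cfsg.Agent.helper28.Design Cfsg.Agent.S5625

variable {α : Type*} {B : Set (Finset α)}

lemma adj_iff (x y : Option (α ⊕ B)) :
    (Cfsg.pointBlockGraph B).Adj x y ↔ x ≠ y ∧ (Cfsg.pointBlockRel B x y ∨ Cfsg.pointBlockRel B y x) := by
  unfold Cfsg.pointBlockGraph
  rw [SimpleGraph.fromRel_adj]

lemma card_vertex_set [Fintype α] (P : Option (α ⊕ B) → Prop) [DecidablePred P] :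
    Nat.card {z // P z} = (if P none then 1 else 0) +
      (Finset.univ.filter (fun a : α => P (some (Sum.inl a)))).card +
      Nat.card {w : ↥B // P (some (Sum.inr w))} := by
  classical
  have e1 : {z : Option (α ⊕ B) // P z} ≃
      ({u : Unit // P none} ⊕ ({a : α // P (some (Sum.inl a))} ⊕ {w : ↥B // P (some (Sum.inr w))})) :=
    { toFun := fun z => match z with
        | ⟨none, h⟩ => Sum.inl ⟨(), h⟩
        | ⟨some (Sum.inl a), h⟩ => Sum.inr (Sum.inl ⟨a, h⟩)
        | ⟨some (Sum.inr w), h⟩ => Sum.inr (Sum.inr ⟨w, h⟩)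
      invFun := fun s => match s with
        | Sum.inl ⟨_, h⟩ => ⟨none, h⟩
        | Sum.inr (Sum.inl ⟨a, h⟩) => ⟨some (Sum.inl a), h⟩
        | Sum.inr (Sum.inr ⟨w, h⟩) => ⟨some (Sum.inr w), h⟩
      left_inv := by
        rintro ⟨_ | (a | w), h⟩ <;> rfl
      right_inv := by
        rintro (⟨_, h⟩ | ⟨a, h⟩ | ⟨w, h⟩) <;> rfl }
  rw [Nat.card_congr e1]
  have : Finite {w : ↥B // P (some (Sum.inr w))} := by
    have : Finite ↥B := Finite.of_injective (fun b : ↥B => (b : Finset α)) Subtype.val_injective
    infer_instance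
  rw [Nat.card_sum, Nat.card_sum, add_assoc]
  congr 1
  · by_cases h : P none
    · rw [if_pos h]
      have : Unique {u : Unit // P none} := ⟨⟨⟨(), h⟩⟩, fun _ => rfl⟩
      exact Nat.card_unique
    · rw [if_neg h]
      have : IsEmpty {u : Unit // P none} := ⟨fun u => h u.2⟩
      exact Nat.card_of_isEmpty
  · congr 1
    rw [Nat.card_eq_fintype_card, Fintype.card_subtype]


lemma adj_none_none : ¬ (Cfsg.pointBlockGraph B).Adj none none := by
  simp [adj_iff]

lemma adj_none_pt (a : α) : (Cfsg.pointBlockGraph B).Adj none (some (Sum.inl a)) := by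
  simp [adj_iff, Cfsg.pointBlockRel]

lemma adj_none_blk (b : ↥B) : ¬ (Cfsg.pointBlockGraph B).Adj none (some (Sum.inr b)) := by
  simp [adj_iff, Cfsg.pointBlockRel]

lemma adj_pt_none (a : α) : (Cfsg.pointBlockGraph B).Adj (some (Sum.inl a)) none := by
  simp [adj_iff, Cfsg.pointBlockRel]

lemma adj_pt_pt (a a' : α) : ¬ (Cfsg.pointBlockGraph B).Adj (some (Sum.inl a)) (some (Sum.inl a')) := by
  simp [adj_iff, Cfsg.pointBlockRel]

lemma adj_pt_blk (a : α) (b : ↥B) :
    (Cfsg.pointBlockGraph B).Adj (some (Sum.inl a)) (some (Sum.inr b)) ↔ a ∈ (b : Finset α) := by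
  simp [adj_iff, Cfsg.pointBlockRel]

lemma adj_blk_none (b : ↥B) : ¬ (Cfsg.pointBlockGraph B).Adj (some (Sum.inr b)) none := by
  simp [adj_iff, Cfsg.pointBlockRel]

lemma adj_blk_pt (a : α) (b : ↥B) :
    (Cfsg.pointBlockGraph B).Adj (some (Sum.inr b)) (some (Sum.inl a)) ↔ a ∈ (b : Finset α) := by
  simp [adj_iff, Cfsg.pointBlockRel]

lemma adj_blk_blk (b c : ↥B) :
    (Cfsg.pointBlockGraph B).Adj (some (Sum.inr b)) (some (Sum.inr c)) ↔
      b ≠ c ∧ Disjoint (b : Finset α) (c : Finset α) := by
  simp only [adj_iff, Cfsg.pointBlockRel, ne_eq, Option.some.injEq, Sum.inr.injEq]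
  constructor
  · rintro ⟨h, h' | h'⟩
    · exact ⟨h, h'⟩
    · exact ⟨h, h'.symm⟩
  · rintro ⟨h, h'⟩
    exact ⟨h, Or.inl h'⟩


/-- The point-block graph of an S(3, 6, 22) is strongly regular with parameters (100, 22, 0, 6). -/
theorem result {α : Type*} [Fintype α] (hα : Fintype.card α = 22) {B : Set (Finset α)} (hB : Cfsg.IsSteinerSystem 3 6 B) [Fintype B] [DecidableRel (Cfsg.pointBlockGraph B).Adj] : (Cfsg.pointBlockGraph B).IsSRGWith 100 22 0 6 := by
  classical
  obtain ⟨hcard, huniq⟩ := hB
  set Bf : Finset (Finset α) := Finset.univ.filter (fun b => b ∈ B) with hBf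
  have hBfmem : ∀ b, b ∈ Bf ↔ b ∈ B := by simp [hBf]
  have hk : ∀ b ∈ Bf, b.card = 6 := fun b hb => hcard b ((hBfmem b).1 hb)
  have h3 : ∀ S : Finset α, S.card = 3 → cnt Bf S = 1 := by
    intro S hS
    obtain ⟨b, ⟨hbB, hSb⟩, hu⟩ := huniq S hS
    unfold cnt
    rw [Finset.card_eq_one]
    refine ⟨b, ?_⟩
    ext c
    simp only [Finset.mem_filter, Finset.mem_singleton, hBfmem]
    constructor
    · rintro ⟨h1, h2⟩; exact hu c ⟨h1, h2⟩
    · rintro rfl; exact ⟨hbB, hSb⟩
  obtain ⟨h2, h1, h0⟩ := s3622_counts hα Bf hk h3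
  have hmemBf : ∀ w : ↥B, (w : Finset α) ∈ Bf := fun w => (hBfmem _).2 w.2
  have hbb : ∀ b c : ↥B, (Cfsg.pointBlockGraph B).Adj (some (Sum.inr b)) (some (Sum.inr c)) ↔
      ((c : Finset α) ∩ (b : Finset α)).card = 0 := by
    intro b c
    rw [adj_blk_blk, Finset.card_eq_zero, ← Finset.disjoint_iff_inter_eq_empty]
    constructor
    · rintro ⟨-, h⟩; exact h.symm
    · intro h
      refine ⟨?_, h.symm⟩
      intro e
      rw [e, Finset.disjoint_self_iff_empty] at h
      have h6 := hcard _ c.2
      rw [h] at h6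
      simp at h6
  have hcardB : Fintype.card ↥B = 77 := by
    have : Fintype.card ↥B = Bf.card := Fintype.card_of_subtype Bf hBfmem
    rw [this]
    have hc : cnt Bf (∅ : Finset α) = Bf.card := by
      unfold cnt
      congr 1
      ext b
      simp
    rw [← hc, h0]
  have cb : ∀ (P : ↥B → Prop) (P' : Finset α → Prop) [DecidablePred P'],
      (∀ w : ↥B, P w ↔ P' (w : Finset α)) → Nat.card {w : ↥B // P w} = (Bf.filter P').card := by
    intro P P' _ hP
    exact Cfsg.Agent.S0427.card_sub B P P' hP
  have hfalse : ∀ (P : ↥B → Prop), (∀ w, ¬ P w) → Nat.card {w : ↥B // P w} = 0 := by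
    intro P hP
    have : IsEmpty {w : ↥B // P w} := ⟨fun w => hP w.1 w.2⟩
    exact Nat.card_of_isEmpty
  have hcn : ∀ v w, Fintype.card ((Cfsg.pointBlockGraph B).commonNeighbors v w) =
      Nat.card {z // (Cfsg.pointBlockGraph B).Adj v z ∧ (Cfsg.pointBlockGraph B).Adj w z} := by
    intro v w
    rw [Fintype.card_eq_nat_card]
    rfl
  have hsymm : ∀ v w, Nat.card {z // (Cfsg.pointBlockGraph B).Adj v z ∧ (Cfsg.pointBlockGraph B).Adj w z}
      = Nat.card {z // (Cfsg.pointBlockGraph B).Adj w z ∧ (Cfsg.pointBlockGraph B).Adj v z} :=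
    fun v w => Nat.card_congr (Equiv.subtypeEquivRight (fun z => and_comm))
  refine ⟨?_, ?_, ?_, ?_⟩
  · rw [Fintype.card_option, Fintype.card_sum, hα, hcardB]
  · intro v
    rw [← SimpleGraph.card_neighborSet_eq_degree, Fintype.card_eq_nat_card]
    change Nat.card {z // (Cfsg.pointBlockGraph B).Adj v z} = 22
    rw [card_vertex_set]
    rcases v with _ | (a | b)
    · rw [if_neg adj_none_none, hfalse _ (fun w => adj_none_blk w)]
      have : Finset.univ.filter (fun a : α => (Cfsg.pointBlockGraph B).Adj none (some (Sum.inl a)))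
          = Finset.univ := by
        ext a; simp [adj_none_pt]
      rw [this, Finset.card_univ, hα]
    · rw [if_pos (adj_pt_none a)]
      have : Finset.univ.filter (fun a' : α => (Cfsg.pointBlockGraph B).Adj (some (Sum.inl a)) (some (Sum.inl a')))
          = ∅ := by
        ext a'; simp [adj_pt_pt]
      rw [this, Finset.card_empty, cb _ (fun c => ({a} : Finset α) ⊆ c)
        (fun w => by rw [adj_pt_blk, Finset.singleton_subset_iff])]
      have := h1 {a} (Finset.card_singleton a)
      unfold cnt at this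
      rw [this]
    · rw [if_neg (adj_blk_none b)]
      have : Finset.univ.filter (fun a : α => (Cfsg.pointBlockGraph B).Adj (some (Sum.inr b)) (some (Sum.inl a)))
          = (b : Finset α) := by
        ext a; simp [adj_blk_pt]
      rw [this, hcard _ b.2, cb _ (fun c => (c ∩ (b : Finset α)).card = 0) (fun w => hbb b w)]
      rw [(s3622_block hα Bf hk h3 b (hmemBf b)).1]
  · intro v w hvw
    rw [hcn, card_vertex_set]
    rcases v with _ | (a | b) <;> rcases w with _ | (a' | c)
    · exact absurd hvw adj_none_none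
    · rw [if_neg (fun h => adj_none_none h.1), hfalse _ (fun w h => adj_none_blk w h.1)]
      have : Finset.univ.filter (fun x : α => (Cfsg.pointBlockGraph B).Adj none (some (Sum.inl x)) ∧
          (Cfsg.pointBlockGraph B).Adj (some (Sum.inl a')) (some (Sum.inl x))) = ∅ := by
        ext x; simp [adj_pt_pt]
      rw [this, Finset.card_empty]
    · exact absurd hvw (adj_none_blk c)
    · rw [if_neg (fun h => adj_none_none h.2), hfalse _ (fun w h => adj_none_blk w h.2)]
      have : Finset.univ.filter (fun x : α => (Cfsg.pointBlockGraph B).Adj (some (Sum.inl a)) (some (Sum.inl x)) ∧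
          (Cfsg.pointBlockGraph B).Adj none (some (Sum.inl x))) = ∅ := by
        ext x; simp [adj_pt_pt]
      rw [this, Finset.card_empty]
    · exact absurd hvw (adj_pt_pt a a')
    · rw [adj_pt_blk] at hvw
      rw [if_neg (fun h => adj_blk_none c h.2)]
      have : Finset.univ.filter (fun x : α => (Cfsg.pointBlockGraph B).Adj (some (Sum.inl a)) (some (Sum.inl x)) ∧
          (Cfsg.pointBlockGraph B).Adj (some (Sum.inr c)) (some (Sum.inl x))) = ∅ := by
        ext x; simp [adj_pt_pt]
      rw [this, Finset.card_empty, hfalse]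
      intro w h
      rw [adj_pt_blk, adj_blk_blk] at h
      exact (Finset.disjoint_left.1 h.2.2 hvw) h.1
    · exact absurd hvw (adj_blk_none b)
    · rw [adj_blk_pt] at hvw
      rw [if_neg (fun h => adj_blk_none b h.1)]
      have : Finset.univ.filter (fun x : α => (Cfsg.pointBlockGraph B).Adj (some (Sum.inr b)) (some (Sum.inl x)) ∧
          (Cfsg.pointBlockGraph B).Adj (some (Sum.inl a')) (some (Sum.inl x))) = ∅ := by
        ext x; simp [adj_pt_pt]
      rw [this, Finset.card_empty, hfalse]
      intro w h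
      rw [adj_pt_blk, adj_blk_blk] at h
      exact (Finset.disjoint_left.1 h.1.2 hvw) h.2
    · rw [adj_blk_blk] at hvw
      rw [if_neg (fun h => adj_blk_none b h.1)]
      have : Finset.univ.filter (fun x : α => (Cfsg.pointBlockGraph B).Adj (some (Sum.inr b)) (some (Sum.inl x)) ∧
          (Cfsg.pointBlockGraph B).Adj (some (Sum.inr c)) (some (Sum.inl x))) = ∅ := by
        ext x
        simp only [adj_blk_pt, Finset.mem_filter, Finset.mem_univ, true_and, Finset.notMem_empty, iff_false]
        rintro ⟨h1, h2⟩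
        exact Finset.disjoint_left.1 hvw.2 h1 h2
      rw [this, Finset.card_empty]
      rw [cb _ (fun d => (d ∩ ((b : Finset α) ∪ (c : Finset α))).card = 0) (fun w => by
        rw [hbb, hbb, Finset.inter_union_distrib_left, Finset.card_eq_zero, Finset.card_eq_zero,
          Finset.card_eq_zero, Finset.union_eq_empty])]
      have hne : (b : Finset α) ≠ (c : Finset α) := fun h => hvw.1 (Subtype.ext h)
      rw [(s3622_pair hα Bf hk h3 b c (hmemBf b) (hmemBf c) hne).1
        (by rw [Finset.card_eq_zero, ← Finset.disjoint_iff_inter_eq_empty]; exact hvw.2)]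
  · intro v w hvw hnadj
    rw [hcn, card_vertex_set]
    rcases v with _ | (a | b) <;> rcases w with _ | (a' | c)
    · exact absurd rfl hvw
    · exact absurd (adj_none_pt a') hnadj
    · rw [if_neg (fun h => adj_none_none h.1), hfalse _ (fun w h => adj_none_blk w h.1)]
      have : Finset.univ.filter (fun x : α => (Cfsg.pointBlockGraph B).Adj none (some (Sum.inl x)) ∧
          (Cfsg.pointBlockGraph B).Adj (some (Sum.inr c)) (some (Sum.inl x))) = (c : Finset α) := by
        ext x; simp [adj_none_pt, adj_blk_pt]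
      rw [this, hcard _ c.2]
    · exact absurd (adj_pt_none a) hnadj
    · have hne : a ≠ a' := fun h => hvw (by rw [h])
      rw [if_pos ⟨adj_pt_none a, adj_pt_none a'⟩]
      have : Finset.univ.filter (fun x : α => (Cfsg.pointBlockGraph B).Adj (some (Sum.inl a)) (some (Sum.inl x)) ∧
          (Cfsg.pointBlockGraph B).Adj (some (Sum.inl a')) (some (Sum.inl x))) = ∅ := by
        ext x; simp [adj_pt_pt]
      rw [this, Finset.card_empty]
      rw [cb _ (fun d => ({a, a'} : Finset α) ⊆ d) (fun w => by
        rw [adj_pt_blk, adj_pt_blk, Finset.insert_subset_iff, Finset.singleton_subset_iff])]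
      have := h2 {a, a'} (Finset.card_pair hne)
      unfold cnt at this
      rw [this]
    · rw [adj_pt_blk] at hnadj
      rw [if_neg (fun h => adj_blk_none c h.2)]
      have : Finset.univ.filter (fun x : α => (Cfsg.pointBlockGraph B).Adj (some (Sum.inl a)) (some (Sum.inl x)) ∧
          (Cfsg.pointBlockGraph B).Adj (some (Sum.inr c)) (some (Sum.inl x))) = ∅ := by
        ext x; simp [adj_pt_pt]
      rw [this, Finset.card_empty]
      rw [cb _ (fun d => a ∈ d ∧ (d ∩ (c : Finset α)).card = 0) (fun w => by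
        rw [adj_pt_blk, hbb])]
      rw [s3622_point_block hα Bf hk h3 c (hmemBf c) a hnadj]
    · rw [if_neg (fun h => adj_none_none h.2), hfalse _ (fun w h => adj_none_blk w h.2)]
      have : Finset.univ.filter (fun x : α => (Cfsg.pointBlockGraph B).Adj (some (Sum.inr b)) (some (Sum.inl x)) ∧
          (Cfsg.pointBlockGraph B).Adj none (some (Sum.inl x))) = (b : Finset α) := by
        ext x; simp [adj_none_pt, adj_blk_pt]
      rw [this, hcard _ b.2]
    · rw [adj_blk_pt] at hnadj
      rw [if_neg (fun h => adj_blk_none b h.1)]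
      have : Finset.univ.filter (fun x : α => (Cfsg.pointBlockGraph B).Adj (some (Sum.inr b)) (some (Sum.inl x)) ∧
          (Cfsg.pointBlockGraph B).Adj (some (Sum.inl a')) (some (Sum.inl x))) = ∅ := by
        ext x; simp [adj_pt_pt]
      rw [this, Finset.card_empty]
      rw [cb _ (fun d => a' ∈ d ∧ (d ∩ (b : Finset α)).card = 0) (fun w => by
        rw [adj_pt_blk, hbb, and_comm])]
      rw [s3622_point_block hα Bf hk h3 b (hmemBf b) a' hnadj]
    · have hne : (b : Finset α) ≠ (c : Finset α) := fun h => hvw (by rw [Subtype.ext h])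
      have hbc2 : ((b : Finset α) ∩ (c : Finset α)).card = 2 := by
        rcases (s3622_block hα Bf hk h3 c (hmemBf c)).2 b (hmemBf b) with h | h | h
        · exfalso
          apply hnadj
          rw [hbb, Finset.inter_comm]
          exact h
        · exact h
        · exact absurd h hne
      rw [if_neg (fun h => adj_blk_none b h.1)]
      have : Finset.univ.filter (fun x : α => (Cfsg.pointBlockGraph B).Adj (some (Sum.inr b)) (some (Sum.inl x)) ∧
          (Cfsg.pointBlockGraph B).Adj (some (Sum.inr c)) (some (Sum.inl x))) = (b : Finset α) ∩ (c : Finset α) := by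
        ext x
        simp [adj_blk_pt]
      rw [this, hbc2]
      rw [cb _ (fun d => (d ∩ ((b : Finset α) ∪ (c : Finset α))).card = 0) (fun w => by
        rw [hbb, hbb, Finset.inter_union_distrib_left, Finset.card_eq_zero, Finset.card_eq_zero,
          Finset.card_eq_zero, Finset.union_eq_empty])]
      rw [(s3622_pair hα Bf hk h3 b c (hmemBf b) (hmemBf c) hne).2 hbc2]

end Cfsg.Agent.S0428
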