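import Mathlib
import Cfsg.Prelude.Def_Sporadic_a
set_option autoImplicit false

/-! Transport of automorphism groups of set systems along isomorphisms, and transport of
multiple transitivity along equivariant bijections. -/

namespace Cfsg.Agent.helper28.AutT

open scoped Pointwise

section Transport

variable {α β : Type*} [DecidableEq α] [DecidableEq β]

lemma image_smul (e : α ≃ β) (σ : Equiv.Perm α) (s : Finset α) :
    (σ • s).image e = (e.permCongr σ) • (s.image e) := by
  ext y
  simp only [Finset.mem_image, Finset.mem_smul_finset, Equiv.Perm.smul_def]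
  constructor
  · rintro ⟨x, ⟨z, hz, rfl⟩, rfl⟩
    exact ⟨e z, ⟨z, hz, rfl⟩, by simp [Equiv.permCongr_apply]⟩
  · rintro ⟨x, ⟨z, hz, rfl⟩, rfl⟩
    exact ⟨σ z, ⟨z, hz, rfl⟩, by simp [Equiv.permCongr_apply]⟩

lemma permCongr_mem (e : α ≃ β) {B : Set (Finset α)} {B' : Set (Finset β)}
    (h : (fun b => b.image e) '' B = B') {σ : Equiv.Perm α} (hσ : σ ∈ Cfsg.setSystemAut B) :
    e.permCongr σ ∈ Cfsg.setSystemAut B' := by
  rw [MulAction.mem_stabilizer_iff] at hσ ⊢
  subst h
  ext c
  constructor
  · rintro ⟨c', ⟨b, hb, rfl⟩, rfl⟩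
    refine ⟨σ • b, ?_, image_smul e σ b⟩
    have : σ • b ∈ σ • B := Set.smul_mem_smul_set hb
    rwa [hσ] at this
  · rintro ⟨b, hb, rfl⟩
    have hb2 : b ∈ σ • B := by rw [hσ]; exact hb
    obtain ⟨b', hb', rfl⟩ := hb2
    exact ⟨b'.image e, ⟨b', hb', rfl⟩, (image_smul e σ b').symm⟩

lemma image_symm (e : α ≃ β) {B : Set (Finset α)} {B' : Set (Finset β)}
    (h : (fun b => b.image e) '' B = B') : (fun b => b.image e.symm) '' B' = B := by
  subst h
  rw [Set.image_image]
  have : (fun b : Finset α => (b.image e).image e.symm) = id := by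
    funext b
    rw [Finset.image_image]
    have : (e.symm ∘ e) = id := by funext x; simp
    rw [this, Finset.image_id]; rfl
  rw [this, Set.image_id]

/-- an isomorphism of set systems induces an isomorphism of automorphism groups -/
noncomputable def autCongr (e : α ≃ β) {B : Set (Finset α)} {B' : Set (Finset β)}
    (h : (fun b => b.image e) '' B = B') : Cfsg.setSystemAut B ≃* Cfsg.setSystemAut B' where
  toFun σ := ⟨e.permCongr σ.1, permCongr_mem e h σ.2⟩
  invFun τ := ⟨e.symm.permCongr τ.1, permCongr_mem e.symm (image_symm e h) τ.2⟩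
  left_inv σ := by
    apply Subtype.ext
    ext x
    simp [Equiv.permCongr_apply]
  right_inv τ := by
    apply Subtype.ext
    ext x
    simp [Equiv.permCongr_apply]
  map_mul' σ τ := by
    apply Subtype.ext
    ext x
    simp [Equiv.permCongr_apply]

lemma autCongr_smul (e : α ≃ β) {B : Set (Finset α)} {B' : Set (Finset β)}
    (h : (fun b => b.image e) '' B = B') (σ : Cfsg.setSystemAut B) (x : α) :
    e (σ • x) = (autCongr e h σ) • e x := by
  show e (σ.1 x) = e.permCongr σ.1 (e x)
  simp [Equiv.permCongr_apply]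

end Transport

/-- multiple transitivity transports along an equivariant bijection -/
theorem pretrans_transport {α β G H : Type*} [Group G] [Group H] [MulAction G α] [MulAction H β]
    (e : α ≃ β) (φ : G → H) (hφ : ∀ g a, e (g • a) = φ g • e a) (n : ℕ)
    (hG : MulAction.IsMultiplyPretransitive G α n) :
    MulAction.IsMultiplyPretransitive H β n := by
  rw [MulAction.isMultiplyPretransitive_iff] at hG ⊢
  intro x y
  obtain ⟨g, hg⟩ := hG (x.trans e.symm.toEmbedding) (y.trans e.symm.toEmbedding)
  refine ⟨φ g, ?_⟩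
  ext i
  have h1 := DFunLike.congr_fun hg i
  simp only [Function.Embedding.smul_apply, Function.Embedding.trans_apply,
    Equiv.coe_toEmbedding] at h1
  rw [Function.Embedding.smul_apply]
  have h2 := hφ g (e.symm (x i))
  rw [h1, Equiv.apply_symm_apply, Equiv.apply_symm_apply] at h2
  exact h2.symm

end Cfsg.Agent.helper28.AutT
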