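import Cfsg.Agent.Lib_helper28_SRG100
import Cfsg.Agent.Lib_helper28_AutT
set_option autoImplicit false

/-! Frames (base vertex, neighbours, far vertices with their blocks) and the isomorphism of two
graphs with frames whose block systems correspond. Uniqueness of SRG(100,22,0,6). -/

namespace Cfsg.Agent.helper28.SRG100

open Finset Cfsg.Agent.S5625

/-- a graph described by a base vertex, its neighbours `N`, the remaining vertices `M`, and the
blocks `bl m ⊆ N` of the vertices of `M` -/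
structure Frame {V : Type*} [DecidableEq V] (G : SimpleGraph V) (v₀ : V) (N M : Finset V)
    (bl : V → Finset V) : Prop where
  cover : ∀ v, v = v₀ ∨ v ∈ N ∨ v ∈ M
  v0N : v₀ ∉ N
  v0M : v₀ ∉ M
  NM : ∀ v, v ∈ N → v ∉ M
  a1 : ∀ a, G.Adj v₀ a ↔ a ∈ N
  a2 : ∀ a ∈ N, ∀ b ∈ N, ¬ G.Adj a b
  a3 : ∀ a ∈ N, ∀ m ∈ M, (G.Adj a m ↔ a ∈ bl m)
  a4 : ∀ m ∈ M, ∀ m' ∈ M, m ≠ m' → (G.Adj m m' ↔ Disjoint (bl m) (bl m'))
  sub : ∀ m ∈ M, bl m ⊆ N
  ne : ∀ m ∈ M, (bl m).Nonempty
  inj : ∀ m ∈ M, ∀ m' ∈ M, bl m = bl m' → m = m'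

section Map

variable {V V' : Type*} [DecidableEq V] [DecidableEq V']
variable {G : SimpleGraph V} {G' : SimpleGraph V'} {v₀ : V} {v₀' : V'} {N M : Finset V}
variable {N' M' : Finset V'} {bl : V → Finset V} {bl' : V' → Finset V'}

/-- the blocks correspond under `e` -/
def Corr (M : Finset V) (M' : Finset V') (bl : V → Finset V) (bl' : V' → Finset V')
    (e : {a // a ∈ N} ≃ {a // a ∈ N'}) : Prop :=
  ∀ m ∈ M, ∃ m' ∈ M', ∀ a (ha : a ∈ N), a ∈ bl m ↔ ((e ⟨a, ha⟩ : {a // a ∈ N'}) : V') ∈ bl' m'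

open Classical in
/-- the induced vertex map -/
noncomputable def vmap (v₀ : V) (v₀' : V') (e : {a // a ∈ N} ≃ {a // a ∈ N'})
    (hC : Corr M M' bl bl' e) (v : V) : V' :=
  if v = v₀ then v₀' else if h : v ∈ N then (e ⟨v, h⟩).1
  else if hm : v ∈ M then Classical.choose (hC v hm) else v₀'

variable (F : Frame G v₀ N M bl) (F' : Frame G' v₀' N' M' bl')
variable (e : {a // a ∈ N} ≃ {a // a ∈ N'}) (hC : Corr M M' bl bl' e)

omit [DecidableEq V'] in
lemma vmap_v0 : vmap v₀ v₀' e hC v₀ = v₀' := by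
  unfold vmap; rw [if_pos rfl]

include F in
omit [DecidableEq V'] in
lemma vmap_N {a : V} (ha : a ∈ N) : vmap v₀ v₀' e hC a = (e ⟨a, ha⟩).1 := by
  unfold vmap
  have : a ≠ v₀ := fun hh => F.v0N (hh ▸ ha)
  rw [if_neg this, dif_pos ha]

include F in
omit [DecidableEq V'] in
lemma vmap_M {m : V} (hm : m ∈ M) : vmap v₀ v₀' e hC m ∈ M' ∧
    ∀ a (ha : a ∈ N), a ∈ bl m ↔ ((e ⟨a, ha⟩ : {a // a ∈ N'}) : V') ∈ bl' (vmap v₀ v₀' e hC m) := by
  unfold vmap
  have h1 : m ≠ v₀ := fun hh => F.v0M (hh ▸ hm)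
  have h2 : m ∉ N := fun hh => F.NM m hh hm
  rw [if_neg h1, dif_neg h2, dif_pos hm]
  exact Classical.choose_spec (hC m hm)

include F F' in
lemma vmap_hom {v w : V} (hvw : G.Adj v w) :
    G'.Adj (vmap v₀ v₀' e hC v) (vmap v₀ v₀' e hC w) := by
  have key : ∀ a (ha : a ∈ N) m (hm : m ∈ M), G.Adj a m →
      G'.Adj (vmap v₀ v₀' e hC a) (vmap v₀ v₀' e hC m) := by
    intro a ha m hm ham
    rw [vmap_N F e hC ha]
    have hs := vmap_M (v₀' := v₀') F e hC hm
    exact (F'.a3 _ (e ⟨a, ha⟩).2 _ hs.1).2 ((hs.2 a ha).1 ((F.a3 a ha m hm).1 ham))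
  have key0 : ∀ a (ha : a ∈ N), G'.Adj (vmap v₀ v₀' e hC v₀) (vmap v₀ v₀' e hC a) := by
    intro a ha
    rw [vmap_v0, vmap_N F e hC ha]
    exact (F'.a1 _).2 (e ⟨a, ha⟩).2
  rcases F.cover v with rfl | hv | hv
  · have hw : w ∈ N := (F.a1 w).1 hvw
    exact key0 w hw
  · rcases F.cover w with rfl | hw | hw
    · exact (key0 v hv).symm
    · exact absurd hvw (F.a2 v hv w hw)
    · exact key v hv w hw hvw
  · rcases F.cover w with rfl | hw | hw
    · exact absurd ((F.a1 v).1 hvw.symm) (fun hh => F.NM v hh hv)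
    · exact (key w hw v hv hvw.symm).symm
    · have hne : v ≠ w := hvw.ne
      have hd := (F.a4 v hv w hw hne).1 hvw
      have hsv := vmap_M (v₀' := v₀') F e hC hv
      have hsw := vmap_M (v₀' := v₀') F e hC hw
      have hd' : Disjoint (bl' (vmap v₀ v₀' e hC v)) (bl' (vmap v₀ v₀' e hC w)) := by
        rw [Finset.disjoint_left]
        intro x' hx1 hx2
        have hxN : x' ∈ N' := F'.sub _ hsv.1 hx1
        have hback : (e ⟨(e.symm ⟨x', hxN⟩).1, (e.symm ⟨x', hxN⟩).2⟩) = ⟨x', hxN⟩ := by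
          rw [Subtype.coe_eta, Equiv.apply_symm_apply]
        have h1 : (e.symm ⟨x', hxN⟩).1 ∈ bl v := by
          rw [hsv.2 _ (e.symm ⟨x', hxN⟩).2, hback]; exact hx1
        have h2 : (e.symm ⟨x', hxN⟩).1 ∈ bl w := by
          rw [hsw.2 _ (e.symm ⟨x', hxN⟩).2, hback]; exact hx2
        exact Finset.disjoint_left.1 hd h1 h2
      have hne' : vmap v₀ v₀' e hC v ≠ vmap v₀ v₀' e hC w := by
        intro heq
        obtain ⟨a, ha⟩ := F.ne v hv
        have haN : a ∈ N := F.sub v hv ha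
        have h1 := (hsv.2 a haN).1 ha
        rw [heq] at h1
        have h2 := (hsw.2 a haN).2 h1
        exact Finset.disjoint_left.1 hd ha h2
      exact (F'.a4 _ hsv.1 _ hsw.1 hne').2 hd'

include F F' in
lemma vmap_inv (e' : {a // a ∈ N'} ≃ {a // a ∈ N}) (hC' : Corr M' M bl' bl e')
    (hinv : ∀ x, e' (e x) = x) (v : V) :
    vmap v₀' v₀ e' hC' (vmap v₀ v₀' e hC v) = v := by
  rcases F.cover v with rfl | hv | hv
  · rw [vmap_v0, vmap_v0]
  · rw [vmap_N F e hC hv, vmap_N F' e' hC' (e ⟨v, hv⟩).2, Subtype.coe_eta, hinv]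
  · have hs := vmap_M (v₀' := v₀') F e hC hv
    have hs' := vmap_M (v₀' := v₀) F' e' hC' hs.1
    apply F.inj _ hs'.1 _ hv
    ext a
    constructor
    · intro ha
      have haN : a ∈ N := F.sub _ hs'.1 ha
      rw [hs.2 a haN, hs'.2 _ (e ⟨a, haN⟩).2, Subtype.coe_eta, hinv]
      exact ha
    · intro ha
      have haN : a ∈ N := F.sub _ hv ha
      have h1 := (hs.2 a haN).1 ha
      have h2 := (hs'.2 _ (e ⟨a, haN⟩).2).1 h1
      rw [Subtype.coe_eta, hinv] at h2
      exact h2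

include F F' hC in
theorem frame_iso (hC' : Corr M' M bl' bl e.symm) : ∃ f : G ≃g G', f v₀ = v₀' := by
  have hl : ∀ v, vmap v₀' v₀ e.symm hC' (vmap v₀ v₀' e hC v) = v :=
    vmap_inv F F' e hC e.symm hC' (fun x => e.symm_apply_apply x)
  have hr : ∀ w, vmap v₀ v₀' e hC (vmap v₀' v₀ e.symm hC' w) = w :=
    vmap_inv F' F e.symm hC' e hC (fun x => e.apply_symm_apply x)
  refine ⟨⟨⟨vmap v₀ v₀' e hC, vmap v₀' v₀ e.symm hC', hl, hr⟩, ?_⟩, vmap_v0 e hC⟩
  intro a b
  constructor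
  · intro hab
    have := vmap_hom F' F e.symm hC' hab
    simp only [Equiv.coe_fn_mk] at this
    rw [hl a, hl b] at this
    exact this
  · intro hab
    exact vmap_hom F F' e hC hab

end Map

section Top

variable {V : Type*} [Fintype V] [DecidableEq V] {G : SimpleGraph V} [DecidableRel G.Adj]

lemma frame_of (h : IsHSG G) (v₀ : V) :
    Frame G v₀ (nbr G v₀) (far G v₀) (blk G v₀) where
  cover := cover
  v0N := v0_notMem_nbr
  v0M := v0_notMem_far
  NM := fun _ hv => nbr_notMem_far hv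
  a1 := fun _ => mem_nbr.symm
  a2 := fun _ ha _ hb => indep h ha hb
  a3 := fun a ha m _ => by
    rw [mem_blk]
    exact ⟨fun hh => ⟨hh.symm, mem_nbr.1 ha⟩, fun hh => hh.1.symm⟩
  a4 := fun _ hm _ hm' hne => adj_iff_disjoint h hm hm' hne
  sub := fun m _ => blk_sub m
  ne := fun m hm => by
    rw [← Finset.card_pos, card_blk h hm]; norm_num
  inj := fun _ hm _ hm' heq => blk_inj h hm hm' heq

/-- the Steiner system carried by the neighbourhood of `v₀` -/
def sys (G : SimpleGraph V) [DecidableRel G.Adj] (v₀ : V) : Set (Finset {a // a ∈ nbr G v₀}) :=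
  {H | ∃ m ∈ far G v₀, H.map (Function.Embedding.subtype _) = blk G v₀ m}

lemma sys_steiner (h : IsHSG G) (v₀ : V) : Cfsg.IsSteinerSystem 3 6 (sys G v₀) := by
  refine ⟨?_, ?_⟩
  · rintro H ⟨m, hm, hH⟩
    rw [← Finset.card_map, hH, card_blk h hm]
  · intro S hS
    have hT : S.map (Function.Embedding.subtype _) ⊆ nbr G v₀ := by
      intro x hx
      obtain ⟨y, -, rfl⟩ := Finset.mem_map.1 hx
      exact y.2
    have hT3 : (S.map (Function.Embedding.subtype _)).card = 3 := by rw [Finset.card_map, hS]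
    obtain ⟨m, hmeq⟩ := Finset.card_eq_one.1 (triple h hT hT3)
    have hm : m ∈ (far G v₀).filter
        (fun m => S.map (Function.Embedding.subtype _) ⊆ blk G v₀ m) := by
      rw [hmeq]; exact Finset.mem_singleton_self m
    rw [Finset.mem_filter] at hm
    have hmap : ((blk G v₀ m).subtype (fun a => a ∈ nbr G v₀)).map
        (Function.Embedding.subtype _) = blk G v₀ m :=
      Finset.subtype_map_of_mem (fun x hx => blk_sub m hx)
    refine ⟨(blk G v₀ m).subtype (fun a => a ∈ nbr G v₀), ⟨⟨m, hm.1, hmap⟩, ?_⟩, ?_⟩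
    · intro x hx
      rw [Finset.mem_subtype]
      exact hm.2 (Finset.mem_map_of_mem _ hx)
    · rintro H' ⟨⟨m', hm', hH'⟩, hSH'⟩
      have hm'2 : m' ∈ (far G v₀).filter
          (fun m => S.map (Function.Embedding.subtype _) ⊆ blk G v₀ m) := by
        rw [Finset.mem_filter]
        refine ⟨hm', ?_⟩
        rw [← hH']
        exact Finset.map_subset_map.2 hSH'
      rw [hmeq, Finset.mem_singleton] at hm'2
      apply Finset.map_injective (Function.Embedding.subtype _)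
      rw [hH', hmap, hm'2]

variable {V' : Type*} [Fintype V'] [DecidableEq V'] {G' : SimpleGraph V'} [DecidableRel G'.Adj]

lemma corr_of {v₀ : V} {v₀' : V'}
    (e : {a // a ∈ nbr G v₀} ≃ {a // a ∈ nbr G' v₀'})
    (he : (fun b => b.image e) '' sys G v₀ = sys G' v₀') :
    Corr (far G v₀) (far G' v₀') (blk G v₀) (blk G' v₀') e := by
  intro m hm
  have hmap : ((blk G v₀ m).subtype (fun a => a ∈ nbr G v₀)).map
      (Function.Embedding.subtype _) = blk G v₀ m :=
    Finset.subtype_map_of_mem (fun x hx => blk_sub m hx)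
  have hmem : (blk G v₀ m).subtype (fun a => a ∈ nbr G v₀) ∈ sys G v₀ := ⟨m, hm, hmap⟩
  have himg : ((blk G v₀ m).subtype (fun a => a ∈ nbr G v₀)).image e ∈ sys G' v₀' := by
    rw [← he]; exact ⟨_, hmem, rfl⟩
  obtain ⟨m', hm', hH'⟩ := himg
  refine ⟨m', hm', ?_⟩
  intro a ha
  rw [← hH', Finset.mem_map]
  constructor
  · intro hab
    refine ⟨e ⟨a, ha⟩, ?_, rfl⟩
    rw [Finset.mem_image]
    exact ⟨⟨a, ha⟩, Finset.mem_subtype.2 hab, rfl⟩
  · rintro ⟨y, hy, hyeq⟩
    rw [Finset.mem_image] at hy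
    obtain ⟨x, hx, rfl⟩ := hy
    have : e x = e ⟨a, ha⟩ := Subtype.ext hyeq
    have hxa : x = ⟨a, ha⟩ := e.injective this
    rw [hxa, Finset.mem_subtype] at hx
    exact hx

/-- any two SRG(100,22,0,6) are isomorphic, by an isomorphism matching prescribed vertices -/
theorem srg_iso (h : IsHSG G) (h' : IsHSG G') (v₀ : V) (v₀' : V') :
    ∃ f : G ≃g G', f v₀ = v₀' := by
  have c1 : Fintype.card {a // a ∈ nbr G v₀} = 22 := by
    rw [Fintype.card_coe]; exact card_nbr h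
  have c2 : Fintype.card {a // a ∈ nbr G' v₀'} = 22 := by
    rw [Fintype.card_coe]; exact card_nbr h'
  obtain ⟨e, he⟩ := Cfsg.Agent.helper28.S22.unique22 c1 c2 (sys_steiner h v₀) (sys_steiner h' v₀')
  exact frame_iso (frame_of h v₀) (frame_of h' v₀') e (corr_of e he)
    (corr_of e.symm (Cfsg.Agent.helper28.AutT.image_symm e he))

end Top

end Cfsg.Agent.helper28.SRG100
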