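import Mathlib
import Cfsg.Agent.Lib_helper27_HSg1
import Cfsg.Agent.S0428
import Cfsg.Agent.S0430

set_option autoImplicit false

namespace Cfsg.Agent.helper27

open Cfsg MulAction
open scoped Pointwise

/-- the action by graph automorphisms -/
noncomputable def hsAutHom : HS0 →* (hsGraph ≃g hsGraph) where
  toFun g := { toEquiv := MulAction.toPerm g, map_rel_iff' := by intro x y; exact hsGraph_smul g x y }
  map_one' := by
    refine DFunLike.ext _ _ (fun x => ?_)
    show (1 : HS0) • x = x
    rw [one_smul]
  map_mul' := by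
    intro g h
    refine DFunLike.ext _ _ (fun x => ?_)
    show (g * h) • x = g • h • x
    rw [mul_smul]

theorem hsAutHom_apply (g : HS0) (x : hsPts) : hsAutHom g x = g • x := rfl

theorem hsAutHom_injective : Function.Injective hsAutHom := by
  intro g h hgh
  apply FaithfulSMul.eq_of_smul_eq_smul (α := hsPts)
  intro x
  have := congrArg (fun f : hsGraph ≃g hsGraph => f x) hgh
  exact this

/-- transport of automorphisms along an isomorphism -/
def autCongr {V W : Type*} {G : SimpleGraph V} {H : SimpleGraph W} (e : G ≃g H) :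
    (G ≃g G) ≃* (H ≃g H) where
  toFun f := (e.symm.trans f).trans e
  invFun f := (e.trans f).trans e.symm
  left_inv := by
    intro f
    ext x
    simp
  right_inv := by
    intro f
    ext x
    simp
  map_mul' := by
    intro f g
    ext x
    simp [RelIso.mul_apply]

theorem exists_isHS_aut {W : Type*} {Γ : SimpleGraph W} (e : hsGraph ≃g Γ) :
    ∃ H : Subgroup (Γ ≃g Γ), IsHS H := by
  let φ : HS0 →* (Γ ≃g Γ) := (autCongr e).toMonoidHom.comp hsAutHom
  have hφ : Function.Injective φ := (autCongr e).injective.comp hsAutHom_injective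
  refine ⟨φ.range, ?_⟩
  have e' : HS0 ≃* φ.range := MonoidHom.ofInjective hφ
  obtain ⟨hs, hc⟩ := HS0_isHS
  have hcard : Nat.card φ.range = 44352000 := by
    rw [← Nat.card_congr e'.toEquiv, hc]
  refine ⟨?_, hcard⟩
  have hnt : Nontrivial φ.range := by
    have : Finite φ.range := Nat.finite_of_card_ne_zero (by rw [hcard]; norm_num)
    rw [← Finite.one_lt_card_iff_nontrivial, hcard]
    norm_num
  exact IsSimpleGroup.isSimpleGroup_of_surjective e'.toMonoidHom e'.surjective

theorem hs_graph_aut {α : Type*} [Fintype α] (hα : Fintype.card α = 22) {B : Set (Finset α)}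
    (hB : Cfsg.IsSteinerSystem 3 6 B) :
    ∃ H : Subgroup (Cfsg.pointBlockGraph B ≃g Cfsg.pointBlockGraph B), Cfsg.IsHS H := by
  classical
  have : Fintype ↥B := Fintype.ofFinite _
  have hsrg := Cfsg.Agent.S0428.result hα hB
  obtain ⟨e⟩ := Cfsg.Agent.S0430.result hsGraph_srg hsrg
  exact exists_isHS_aut e

end Cfsg.Agent.helper27
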