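import Mathlib
import Cfsg.Agent.Lib_helper27_L34a
import Cfsg.Agent.Lib_helper27_Conn2

set_option autoImplicit false

namespace Cfsg.Agent.helper27

open Cfsg
open scoped LinearAlgebra.Projectivization

namespace L34

def ofNat4 : ℕ → F4c
  | 0 => F4c.z
  | 1 => F4c.o
  | 2 => F4c.w
  | _ => F4c.v

def code : F4c → ℕ
  | F4c.z => 0
  | F4c.o => 1
  | F4c.w => 2
  | F4c.v => 3

def repTbl : List (ℕ × ℕ × ℕ) :=
  [(0, 0, 0), (0, 0, 0), (0, 0, 1), (0, 1, 0), (1, 0, 0), (0, 1, 1), (1, 1, 2), (1, 1, 1), (1, 2, 2), (1, 3, 1), (1, 3, 2), (1, 2, 0), (1, 2, 3), (1, 0, 2), (0, 1, 3), (1, 3, 3), (1, 0, 1), (0, 1, 2), (1, 2, 1), (1, 1, 0), (1, 3, 0), (1, 1, 3), (1, 0, 3), (0, 0, 0)]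

def labTbl : List ℕ :=
  [0, 2, 0, 0, 3, 5, 17, 14, 0, 0, 0, 0, 0, 0, 0, 0, 4, 16, 13, 22, 19, 7, 6, 21, 11, 18, 8, 12, 20, 9, 10, 15]

/-- the vector labelling a point -/
def rep (p : GolayPt) : Fin 3 → F4c :=
  let t := repTbl.getD (idx p) (0, 0, 0)
  ![ofNat4 t.1, ofNat4 t.2.1, ofNat4 t.2.2]

/-- the point labelled by a (normalised) vector -/
def lab (v : Fin 3 → F4c) : GolayPt :=
  ptOf (labTbl.getD (16 * code (v 0) + 4 * code (v 1) + code (v 2)) 0)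

/-- the normalised multiple of a vector -/
def nrm (v : Fin 3 → F4c) : Fin 3 → F4c :=
  if v 0 ≠ 0 then (v 0)⁻¹ • v else if v 1 ≠ 0 then (v 1)⁻¹ • v else (v 2)⁻¹ • v

/-- the three special points -/
def IsSp (p : GolayPt) : Prop := p = none ∨ p = some 0 ∨ p = some 1

instance : DecidablePred IsSp := fun p => by unfold IsSp; infer_instance

theorem nrm_smul : ∀ (t : F4c) (v : Fin 3 → F4c), t ≠ 0 → nrm (t • v) = nrm v := by decide

theorem rep_lab_nrm : ∀ v : Fin 3 → F4c, v ≠ 0 → rep (lab (nrm v)) = nrm v := by decide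

theorem nrm_spec : ∀ v : Fin 3 → F4c, v ≠ 0 → ∃ s : F4c, s ≠ 0 ∧ s • nrm v = v := by decide

theorem lab_nrm_inj (v w : Fin 3 → F4c) (hv : v ≠ 0) (hw : w ≠ 0)
    (h : lab (nrm v) = lab (nrm w)) : ∃ a : F4c, a • w = v := by
  have e : nrm v = nrm w := by rw [← rep_lab_nrm v hv, ← rep_lab_nrm w hw, h]
  obtain ⟨s, hs, hsv⟩ := nrm_spec v hv
  obtain ⟨s', hs', hsw⟩ := nrm_spec w hw
  have h2 : s'⁻¹ • w = nrm w := by
    conv_lhs => rw [← hsw]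
    rw [smul_smul, inv_mul_cancel₀ hs', one_smul]
  refine ⟨s * s'⁻¹, ?_⟩
  rw [mul_smul, h2, ← e, hsv]

theorem lab_nrm_not_sp : ∀ v : Fin 3 → F4c, v ≠ 0 → ¬ IsSp (lab (nrm v)) := by decide

theorem rep_spec : ∀ p : GolayPt, ¬ IsSp p → rep p ≠ 0 ∧ lab (nrm (rep p)) = p := by decide

end L34

end Cfsg.Agent.helper27
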