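import Mathlib
import Cfsg.Agent.Lib_helper27_L34b

set_option autoImplicit false

namespace Cfsg.Agent.helper27

open Cfsg
open scoped LinearAlgebra.Projectivization

namespace L34

/-- the projective plane over the field with four elements -/
abbrev PP : Type := ℙ F4c (Fin 3 → F4c)

/-- the point of the 24 labelled by a projective point -/
def toPt : PP → GolayPt :=
  Projectivization.lift (fun v : {v : Fin 3 → F4c // v ≠ 0} => lab (nrm v.1)) (by
    intro a b t h
    have ht : t ≠ 0 := by
      rintro rfl
      rw [zero_smul] at h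
      exact a.2 h
    show lab (nrm a.1) = lab (nrm b.1)
    rw [h, nrm_smul t b.1 ht])

theorem toPt_mk (v : Fin 3 → F4c) (hv : v ≠ 0) : toPt (Projectivization.mk F4c v hv) = lab (nrm v) :=
  rfl

theorem toPt_injective : Function.Injective toPt := by
  intro x y h
  induction x using Projectivization.ind with | _ v hv =>
  induction y using Projectivization.ind with | _ w hw =>
  rw [toPt_mk, toPt_mk] at h
  rw [Projectivization.mk_eq_mk_iff']
  exact lab_nrm_inj v w hv hw h

theorem toPt_not_sp (x : PP) : ¬ IsSp (toPt x) := by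
  induction x using Projectivization.ind with | _ v hv =>
  rw [toPt_mk]
  exact lab_nrm_not_sp v hv

/-- the special points -/
def spPt : Fin 3 → GolayPt := ![none, some 0, some 1]

theorem spPt_injective : Function.Injective spPt := by decide

theorem isSp_spPt : ∀ i, IsSp (spPt i) := by decide

theorem isSp_iff : ∀ p, IsSp p → ∃ i, spPt i = p := by decide

/-- the labelling of all 24 points -/
noncomputable def ptEquiv : PP ⊕ Fin 3 ≃ GolayPt :=
  Equiv.ofBijective (Sum.elim toPt spPt) (by
    constructor
    · rintro (x | i) (y | j) h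
      · exact congrArg Sum.inl (toPt_injective h)
      · exfalso
        have h' : toPt x = spPt j := h
        exact toPt_not_sp x (h' ▸ isSp_spPt j)
      · exfalso
        have h' : spPt i = toPt y := h
        exact toPt_not_sp y (h' ▸ isSp_spPt i)
      · exact congrArg Sum.inr (spPt_injective h)
    · intro p
      by_cases hp : IsSp p
      · obtain ⟨i, hi⟩ := isSp_iff p hp
        exact ⟨Sum.inr i, hi⟩
      · obtain ⟨h1, h2⟩ := rep_spec p hp
        exact ⟨Sum.inl (Projectivization.mk F4c (rep p) h1), h2⟩)

theorem ptEquiv_inl (x : PP) : ptEquiv (Sum.inl x) = toPt x := rfl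
theorem ptEquiv_inr (i : Fin 3) : ptEquiv (Sum.inr i) = spPt i := rfl

/-- the action on the 24 points -/
noncomputable def rho : Matrix.SpecialLinearGroup (Fin 3) F4c →* Equiv.Perm GolayPt :=
  ptEquiv.permCongrHom.toMonoidHom.comp ((Equiv.Perm.sumCongrHom PP (Fin 3)).comp
    ((MulAction.toPermHom (Matrix.SpecialLinearGroup (Fin 3) F4c) PP).prod 1))

theorem rho_apply (A : Matrix.SpecialLinearGroup (Fin 3) F4c) (p : GolayPt) :
    rho A p = ptEquiv (Sum.map (fun x => A • x) id (ptEquiv.symm p)) := rfl

theorem rho_toPt (A : Matrix.SpecialLinearGroup (Fin 3) F4c) (x : PP) :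
    rho A (toPt x) = toPt (A • x) := by
  rw [rho_apply, ← ptEquiv_inl, Equiv.symm_apply_apply]
  rfl

theorem rho_spPt (A : Matrix.SpecialLinearGroup (Fin 3) F4c) (i : Fin 3) :
    rho A (spPt i) = spPt i := by
  rw [rho_apply, ← ptEquiv_inr, Equiv.symm_apply_apply]
  rfl

theorem rho_ker : rho.ker = Subgroup.center (Matrix.SpecialLinearGroup (Fin 3) F4c) := by
  rw [← Projectivization.SL_mulAction_ker]
  ext A
  rw [MonoidHom.mem_ker, MonoidHom.mem_ker]
  constructor
  · intro h
    ext x : 1
    have h1 := rho_toPt A x
    rw [h] at h1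
    exact (toPt_injective h1).symm
  · intro h
    ext p : 1
    rw [rho_apply]
    have h2 : ∀ x : PP, A • x = x := fun x => congrArg (fun f : Equiv.Perm PP => f x) h
    rcases hq : ptEquiv.symm p with x | i
    · show ptEquiv (Sum.inl (A • x)) = _
      rw [h2 x, ← hq, Equiv.apply_symm_apply]
      rfl
    · show ptEquiv (Sum.inr i) = _
      rw [← hq, Equiv.apply_symm_apply]
      rfl

end L34

end Cfsg.Agent.helper27
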