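import Mathlib
import Cfsg.Agent.Lib_helper27_L34c
import Cfsg.Agent.Lib_helper2_SLn

set_option autoImplicit false

namespace Cfsg.Agent.helper27

open Cfsg
open scoped LinearAlgebra.Projectivization

namespace L34

/-- the action of a transvection on vectors -/
def tvAct (i j : Fin 3) (c : F4c) (v : Fin 3 → F4c) : Fin 3 → F4c :=
  fun k => if k = i then v i + c * v j else v k

/-- the action of a transvection on the 24 points -/
def tvFun (i j : Fin 3) (c : F4c) (p : GolayPt) : GolayPt :=
  if IsSp p then p else lab (nrm (tvAct i j c (rep p)))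

theorem tvFun_invol : ∀ (i j : Fin 3) (c : F4c), i ≠ j → ∀ p, tvFun i j c (tvFun i j c p) = p := by
  decide

/-- the permutation of the 24 points induced by a transvection -/
def tvPerm {i j : Fin 3} (hij : i ≠ j) (c : F4c) : Equiv.Perm GolayPt where
  toFun := tvFun i j c
  invFun := tvFun i j c
  left_inv := tvFun_invol i j c hij
  right_inv := tvFun_invol i j c hij

set_option maxRecDepth 100000 in
set_option maxHeartbeats 2000000 in
theorem tvPerm_mem_01 : ∀ c : F4c, tvPerm (show (0 : Fin 3) ≠ 1 by decide) c ∈ M24 := by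
  intro c
  apply mem_M24_of_reenc
  revert c
  decide

set_option maxRecDepth 100000 in
set_option maxHeartbeats 2000000 in
theorem tvPerm_mem_02 : ∀ c : F4c, tvPerm (show (0 : Fin 3) ≠ 2 by decide) c ∈ M24 := by
  intro c
  apply mem_M24_of_reenc
  revert c
  decide

set_option maxRecDepth 100000 in
set_option maxHeartbeats 2000000 in
theorem tvPerm_mem_10 : ∀ c : F4c, tvPerm (show (1 : Fin 3) ≠ 0 by decide) c ∈ M24 := by
  intro c
  apply mem_M24_of_reenc
  revert c
  decide

set_option maxRecDepth 100000 in
set_option maxHeartbeats 2000000 in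
theorem tvPerm_mem_12 : ∀ c : F4c, tvPerm (show (1 : Fin 3) ≠ 2 by decide) c ∈ M24 := by
  intro c
  apply mem_M24_of_reenc
  revert c
  decide

set_option maxRecDepth 100000 in
set_option maxHeartbeats 2000000 in
theorem tvPerm_mem_20 : ∀ c : F4c, tvPerm (show (2 : Fin 3) ≠ 0 by decide) c ∈ M24 := by
  intro c
  apply mem_M24_of_reenc
  revert c
  decide

set_option maxRecDepth 100000 in
set_option maxHeartbeats 2000000 in
theorem tvPerm_mem_21 : ∀ c : F4c, tvPerm (show (2 : Fin 3) ≠ 1 by decide) c ∈ M24 := by
  intro c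
  apply mem_M24_of_reenc
  revert c
  decide

theorem tvPerm_mem {i j : Fin 3} (hij : i ≠ j) (c : F4c) : tvPerm hij c ∈ M24 := by
  fin_cases i <;> fin_cases j
  · exact absurd rfl hij
  · exact tvPerm_mem_01 c
  · exact tvPerm_mem_02 c
  · exact tvPerm_mem_10 c
  · exact absurd rfl hij
  · exact tvPerm_mem_12 c
  · exact tvPerm_mem_20 c
  · exact tvPerm_mem_21 c
  · exact absurd rfl hij

theorem transvection_smul {i j : Fin 3} (hij : i ≠ j) (c : F4c) (v : Fin 3 → F4c) :
    Matrix.SpecialLinearGroup.transvection hij c • v = tvAct i j c v := by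
  rw [Matrix.SpecialLinearGroup.smul_def, Matrix.SpecialLinearGroup.transvection_coe,
    Matrix.smul_eq_mulVec, Matrix.add_mulVec, Matrix.one_mulVec]
  funext k
  unfold tvAct
  rw [Pi.add_apply, Matrix.single_mulVec_eq]
  by_cases hk : k = i
  · subst hk
    simp
  · have : i ≠ k := fun h => hk h.symm
    simp [hk]

theorem rho_transvection {i j : Fin 3} (hij : i ≠ j) (c : F4c) :
    rho (Matrix.SpecialLinearGroup.transvection hij c) = tvPerm hij c := by
  ext p : 1
  show _ = tvFun i j c p
  unfold tvFun
  by_cases hp : IsSp p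
  · rw [if_pos hp]
    obtain ⟨k, rfl⟩ := isSp_iff p hp
    exact rho_spPt _ k
  · rw [if_neg hp]
    obtain ⟨h1, h2⟩ := rep_spec p hp
    conv_lhs => rw [← h2, ← toPt_mk _ h1]
    rw [rho_toPt, Projectivization.smul_mk, toPt_mk, transvection_smul]

theorem rho_mem (A : Matrix.SpecialLinearGroup (Fin 3) F4c) : rho A ∈ M24 := by
  refine helper2.transvection_induction (fun A => rho A ∈ M24) ?_ ?_ A
  · intro i j hij c
    show rho (Matrix.SpecialLinearGroup.transvection hij c) ∈ M24
    rw [rho_transvection]
    exact tvPerm_mem hij c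
  · intro A B hA hB
    show rho (A * B) ∈ M24
    rw [map_mul]
    exact Subgroup.mul_mem _ hA hB

end L34

end Cfsg.Agent.helper27
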