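import Mathlib
import Cfsg.Agent.Lib_helper27_L34d
import Cfsg.Agent.Lib_helper2_M24c
import Cfsg.Agent.S0243

set_option autoImplicit false

namespace Cfsg.Agent.helper27

open Cfsg MulAction
open scoped LinearAlgebra.Projectivization

namespace L34

/-- the three special points, as an embedding -/
def x3 : Fin 3 ↪ GolayPt := ⟨spPt, spPt_injective⟩

theorem card_stab3 (x : Fin 3 ↪ GolayPt) : Nat.card (stabilizer M24 x) = 20160 := by
  have h1 : (stabilizer M24 x).index = Nat.card (Fin 3 ↪ GolayPt) :=
    @MulAction.index_stabilizer_of_transitive M24 _ _ _ _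
      (helper2.Golay.m24_k_transitive (by norm_num))
  have h2 := Subgroup.index_mul_card (stabilizer M24 x)
  rw [h1, helper2.Golay.card_M24, Nat.card_eq_fintype_card, Fintype.card_embedding_eq,
    card_golayPt, Fintype.card_fin] at h2
  have h3 : Nat.descFactorial 24 3 = 12144 := rfl
  rw [h3] at h2
  omega

theorem card_psl : Nat.card (Matrix.ProjectiveSpecialLinearGroup (Fin 3) F4c) = 20160 := by
  have h := Cfsg.Agent.S0243.result (F := F4c) (q := 4) F4c.card 3 (by norm_num)
  rw [Fin.prod_univ_three] at h
  have e1 : Nat.gcd 3 (4 - 1) = 3 := by decide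
  have e2 : (4 ^ 3 - 4 ^ ((0 : Fin 3) : ℕ)) * (4 ^ 3 - 4 ^ ((1 : Fin 3) : ℕ))
      * (4 ^ 3 - 4 ^ ((2 : Fin 3) : ℕ)) = 181440 := by decide
  rw [e1, e2] at h
  omega

/-- the action, with values in the stabiliser of the three special points -/
noncomputable def rho3 : Matrix.SpecialLinearGroup (Fin 3) F4c →* stabilizer M24 x3 where
  toFun A := ⟨⟨rho A, rho_mem A⟩, by
    rw [mem_stabilizer_iff]
    apply Function.Embedding.ext
    intro i
    exact rho_spPt A i⟩
  map_one' := by
    apply Subtype.ext
    apply Subtype.ext
    exact map_one rho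
  map_mul' A B := by
    apply Subtype.ext
    apply Subtype.ext
    exact map_mul rho A B

theorem rho3_ker : rho3.ker = Subgroup.center (Matrix.SpecialLinearGroup (Fin 3) F4c) := by
  rw [← rho_ker]
  ext A
  rw [MonoidHom.mem_ker, MonoidHom.mem_ker]
  constructor
  · intro h
    exact congrArg (fun t : stabilizer M24 x3 => t.1.1) h
  · intro h
    apply Subtype.ext
    apply Subtype.ext
    exact h

/-- the three-point stabiliser is the projective special linear group -/
theorem psl_iso_stab3 : Nonempty (Matrix.ProjectiveSpecialLinearGroup (Fin 3) F4c ≃* stabilizer M24 x3) := by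
  let f : Matrix.ProjectiveSpecialLinearGroup (Fin 3) F4c →* stabilizer M24 x3 :=
    (QuotientGroup.kerLift rho3).comp (QuotientGroup.quotientMulEquivOfEq rho3_ker.symm).toMonoidHom
  have hf : Function.Injective f :=
    (QuotientGroup.kerLift_injective rho3).comp
      (QuotientGroup.quotientMulEquivOfEq rho3_ker.symm).injective
  have hfin : Finite (stabilizer M24 x3) := inferInstance
  have hb : Function.Bijective f :=
    (Nat.bijective_iff_injective_and_card f).mpr ⟨hf, by rw [card_psl, card_stab3]⟩
  exact ⟨MulEquiv.ofBijective f hb⟩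

end L34

end Cfsg.Agent.helper27
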