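import Mathlib
import Cfsg.Agent.Lib_helper27_L34e

set_option autoImplicit false

namespace Cfsg.Agent.helper27

open Cfsg MulAction

namespace L34

/-- a ring isomorphism induces an isomorphism of special linear groups -/
def slCongr {F K : Type*} [Field F] [Field K] (φ : F ≃+* K) :
    Matrix.SpecialLinearGroup (Fin 3) F ≃* Matrix.SpecialLinearGroup (Fin 3) K where
  toFun := Matrix.SpecialLinearGroup.map φ.toRingHom
  invFun := Matrix.SpecialLinearGroup.map φ.symm.toRingHom
  left_inv A := by
    apply Subtype.ext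
    ext i j
    show φ.symm (φ (A.1 i j)) = A.1 i j
    exact φ.symm_apply_apply _
  right_inv A := by
    apply Subtype.ext
    ext i j
    show φ (φ.symm (A.1 i j)) = A.1 i j
    exact φ.apply_symm_apply _
  map_mul' := map_mul _

theorem map_center_of_mulEquiv {G H : Type*} [Group G] [Group H] (e : G ≃* H) :
    (Subgroup.center G).map (e : G →* H) = Subgroup.center H := by
  ext x
  rw [Subgroup.mem_map, Subgroup.mem_center_iff]
  constructor
  · rintro ⟨y, hy, rfl⟩ g
    rw [Subgroup.mem_center_iff] at hy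
    have := hy (e.symm g)
    have h2 := congrArg e this
    rw [map_mul, map_mul, e.apply_symm_apply] at h2
    exact h2
  · intro h
    refine ⟨e.symm x, ?_, e.apply_symm_apply x⟩
    rw [Subgroup.mem_center_iff]
    intro g
    have := h (e g)
    apply e.injective
    rw [map_mul, map_mul, e.apply_symm_apply]
    exact this

/-- a ring isomorphism induces an isomorphism of projective special linear groups -/
noncomputable def pslCongr {F K : Type*} [Field F] [Field K] (φ : F ≃+* K) :
    Matrix.ProjectiveSpecialLinearGroup (Fin 3) F ≃* Matrix.ProjectiveSpecialLinearGroup (Fin 3) K :=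
  QuotientGroup.congr _ _ (slCongr φ) (map_center_of_mulEquiv (slCongr φ))

theorem stab3_eq (p q r : GolayPt) (hpq : p ≠ q) (hpr : p ≠ r) (hqr : q ≠ r) :
    ∃ x : Fin 3 ↪ GolayPt, stabilizer M24 p ⊓ stabilizer M24 q ⊓ stabilizer M24 r
      = stabilizer M24 x := by
  refine ⟨⟨![p, q, r], ?_⟩, ?_⟩
  · intro i j h
    fin_cases i <;> fin_cases j <;> simp_all
  · ext g
    rw [Subgroup.mem_inf, Subgroup.mem_inf, mem_stabilizer_iff, mem_stabilizer_iff,
      mem_stabilizer_iff, mem_stabilizer_iff]
    constructor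
    · rintro ⟨⟨h1, h2⟩, h3⟩
      apply Function.Embedding.ext
      intro i
      fin_cases i
      · exact h1
      · exact h2
      · exact h3
    · intro h
      exact ⟨⟨DFunLike.congr_fun h 0, DFunLike.congr_fun h 1⟩, DFunLike.congr_fun h 2⟩

theorem stab3_iso_psl (p q r : GolayPt) (hpq : p ≠ q) (hpr : p ≠ r) (hqr : q ≠ r)
    (F : Type) [Field F] [Fintype F] (hF : Fintype.card F = 4) :
    Nonempty (↥(stabilizer M24 p ⊓ stabilizer M24 q ⊓ stabilizer M24 r)
      ≃* Matrix.ProjectiveSpecialLinearGroup (Fin 3) F) := by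
  obtain ⟨x, hx⟩ := stab3_eq p q r hpq hpr hqr
  rw [hx]
  have htr : IsPretransitive M24 (Fin 3 ↪ GolayPt) :=
    helper2.Golay.m24_k_transitive (k := 3) (by norm_num)
  obtain ⟨g, hg⟩ := htr.exists_smul_eq x3 x
  have e1 : stabilizer M24 x3 ≃* stabilizer M24 x := stabilizerEquivStabilizer hg.symm
  obtain ⟨e2⟩ := psl_iso_stab3
  have φ : F ≃+* F4c := FiniteField.ringEquivOfCardEq (by rw [hF, F4c.card])
  exact ⟨(e1.symm.trans e2.symm).trans (pslCongr φ).symm⟩

end L34

end Cfsg.Agent.helper27
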