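import Mathlib

set_option autoImplicit false

namespace Cfsg.Agent.helper27.O3648

open MulAction

/-- number of fixed points of `g` on `X` -/
noncomputable def fixN {G : Type*} [Group G] (g : G) (X : Type*) [MulAction G X] : ℕ :=
  Nat.card {x : X // g • x = x}

theorem fixN_conj {G : Type*} [Group G] (X : Type*) [MulAction G X] (q a : G) :
    fixN (q * a * q⁻¹) X = fixN a X := by
  unfold fixN
  refine Nat.card_congr ⟨fun x => ⟨q⁻¹ • x.1, ?_⟩, fun x => ⟨q • x.1, ?_⟩, ?_, ?_⟩
  · have := x.2
    rw [mul_smul, mul_smul] at this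
    have h2 := congrArg (fun y => q⁻¹ • y) this
    simpa using h2
  · rw [mul_smul, mul_smul, inv_smul_smul, x.2]
  · intro x; simp
  · intro x; simp

/-- in a simple non-abelian group every element acts as an even permutation. -/
theorem sign_toPerm_eq_one {G : Type*} [Group G] [IsSimpleGroup G] (hG : ∃ a b : G, a * b ≠ b * a)
    {X : Type*} [Fintype X] [DecidableEq X] [MulAction G X] (g : G) :
    Equiv.Perm.sign (MulAction.toPermHom G X g) = 1 := by
  let ψ : G →* ℤˣ := Equiv.Perm.sign.comp (MulAction.toPermHom G X)
  have hn : ψ.ker.Normal := MonoidHom.normal_ker ψ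
  rcases hn.eq_bot_or_eq_top with h | h
  · exfalso
    obtain ⟨a, b, hab⟩ := hG
    apply hab
    have hinj : Function.Injective ψ := (MonoidHom.ker_eq_bot_iff ψ).mp h
    apply hinj
    rw [map_mul, map_mul, mul_comm]
  · have : g ∈ ψ.ker := h ▸ Subgroup.mem_top g
    exact this

/-- an involutory even permutation: fixed points ≡ |X| mod 4 -/
theorem card_fixedPoints_mod_four {X : Type*} [Fintype X] [DecidableEq X] (σ : Equiv.Perm X)
    (h2 : σ * σ = 1) (hs : Equiv.Perm.sign σ = 1) :
    Fintype.card (Function.fixedPoints σ) % 4 = Fintype.card X % 4 := by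
  by_cases h1 : σ = 1
  · subst h1
    have : Function.fixedPoints ((1 : Equiv.Perm X) : X → X) = Set.univ := by
      ext x; simp [Function.IsFixedPt]
    rw [Fintype.card_congr (Equiv.setCongr this)]
    simp
  · have ho : orderOf σ = 2 := by
      apply orderOf_eq_prime
      · rw [pow_two]; exact h2
      · exact h1
    have hp : Nat.Prime (orderOf σ) := by rw [ho]; exact Nat.prime_two
    obtain ⟨n, hn⟩ := Equiv.Perm.cycleType_prime_order hp
    rw [ho] at hn
    have hsum : σ.cycleType.sum = 2 * (n + 1) := by
      rw [hn, Multiset.sum_replicate, smul_eq_mul]; ring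
    have hcard : σ.cycleType.card = n + 1 := by rw [hn]; simp
    have hsgn := Equiv.Perm.sign_of_cycleType σ
    rw [hs, hsum, hcard] at hsgn
    have heven : Even (n + 1) := by
      by_contra hodd
      rw [Nat.not_even_iff_odd] at hodd
      have : Odd (2 * (n + 1) + (n + 1)) := by
        have : 2 * (n + 1) + (n + 1) = 2 * (n + 1) + (n + 1) := rfl
        exact Even.add_odd (even_two_mul _) hodd
      rw [this.neg_one_pow] at hsgn
      exact absurd hsgn (by decide)
    obtain ⟨k, hk⟩ := heven
    have hle : σ.cycleType.sum ≤ Fintype.card X := by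
      rw [Equiv.Perm.sum_cycleType]; exact Finset.card_le_univ _
    rw [Equiv.Perm.card_fixedPoints, hsum, hk] at *
    omega

theorem fixN_mod_four {G : Type*} [Group G] [IsSimpleGroup G] (hG : ∃ a b : G, a * b ≠ b * a)
    {X : Type*} [Finite X] [MulAction G X] (t : G) (ht : t * t = 1) :
    fixN t X % 4 = Nat.card X % 4 := by
  classical
  haveI := Fintype.ofFinite X
  have hs := sign_toPerm_eq_one hG (X := X) t
  have h2 : (MulAction.toPermHom G X t) * (MulAction.toPermHom G X t) = 1 := by
    rw [← map_mul, ht, map_one]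
  have := card_fixedPoints_mod_four _ h2 hs
  rw [Nat.card_eq_fintype_card, ← this]
  unfold fixN
  rw [Nat.card_eq_fintype_card]
  congr 1

/-- disjoint fixed point sets -/
theorem card_mul_fix_le {G : Type*} [Group G] {X : Type*} [Finite X] [MulAction G X]
    [DecidableEq G] [DecidableEq X]
    (T : Finset G) (E : Finset X) (f : ℕ)
    (hf : ∀ a ∈ T, fixN a X = f)
    (hT : ∀ a ∈ T, ∀ b ∈ T, a ≠ b → ∀ x : X, a • x = x → b • x = x → x ∈ E) :
    T.card * (f - E.card) + E.card ≤ Nat.card X := by
  classical
  haveI := Fintype.ofFinite X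
  let F : G → Finset X := fun a => (Finset.univ.filter (fun x : X => a • x = x)) \ E
  have hdisj : (T : Set G).PairwiseDisjoint F := by
    intro a ha b hb hab
    rw [Function.onFun, Finset.disjoint_left]
    intro x hxa hxb
    simp only [F, Finset.mem_sdiff, Finset.mem_filter, Finset.mem_univ, true_and] at hxa hxb
    exact hxa.2 (hT a ha b hb hab x hxa.1 hxb.1)
  have hcard : (T.biUnion F).card = ∑ a ∈ T, (F a).card := Finset.card_biUnion hdisj
  have hsub : T.biUnion F ⊆ Finset.univ \ E := by
    intro x hx
    rw [Finset.mem_biUnion] at hx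
    obtain ⟨a, _, hxa⟩ := hx
    simp only [F, Finset.mem_sdiff, Finset.mem_filter, Finset.mem_univ, true_and] at hxa
    simp [hxa.2]
  have h1 : ∀ a ∈ T, f - E.card ≤ (F a).card := by
    intro a ha
    have h2 : (Finset.univ.filter (fun x : X => a • x = x)).card = f := by
      rw [← hf a ha]
      unfold fixN
      rw [Nat.card_eq_fintype_card, Fintype.card_subtype]
    have h3 := Finset.le_card_sdiff E (Finset.univ.filter (fun x : X => a • x = x))
    simp only [F]
    omega
  have h4 : T.card * (f - E.card) ≤ ∑ a ∈ T, (F a).card := by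
    rw [← smul_eq_mul, ← Finset.sum_const]
    exact Finset.sum_le_sum h1
  have h5 := Finset.card_le_card hsub
  have h6 : (Finset.univ \ E : Finset X).card = Fintype.card X - E.card := by
    rw [Finset.card_sdiff_of_subset (Finset.subset_univ E), Finset.card_univ]
  have h7 : E.card ≤ Fintype.card X := Finset.card_le_univ E
  rw [Nat.card_eq_fintype_card]
  omega

end Cfsg.Agent.helper27.O3648
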