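import Mathlib

set_option autoImplicit false

namespace Cfsg.Agent.helper27.O3648

open MulAction MonoidHom Subgroup

theorem fixed_mem {G : Type*} [Group G] (H : Subgroup G) (t : G) (x : G ⧸ H) (h : t • x = x) :
    (x.out)⁻¹ * t * x.out ∈ H := by
  have h1 : t • (↑(x.out) : G ⧸ H) = ↑(x.out) := by rw [QuotientGroup.out_eq']; exact h
  rw [MulAction.Quotient.smul_mk, smul_eq_mul, eq_comm, QuotientGroup.eq] at h1
  rwa [mul_assoc]

theorem fixed_iff {G : Type*} [Group G] (H : Subgroup G) (t g : G) :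
    t • (↑g : G ⧸ H) = ↑g ↔ g⁻¹ * t * g ∈ H := by
  rw [MulAction.Quotient.smul_mk, smul_eq_mul, eq_comm, QuotientGroup.eq, mul_assoc]

open Classical in
/-- the contribution of the coset `x` to the transfer of an involution `t` -/
noncomputable def trTerm {G : Type*} [Group G] {H : Subgroup G} {A : Type*} [CommGroup A]
    (φ : H →* A) (t : G) (x : G ⧸ H) : A :=
  if h : t • x = x then φ ⟨(x.out)⁻¹ * t * x.out, fixed_mem H t x h⟩ else 1

theorem trTerm_of_not_fixed {G : Type*} [Group G] {H : Subgroup G} {A : Type*} [CommGroup A]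
    (φ : H →* A) (t : G) (x : G ⧸ H) (h : ¬ t • x = x) : trTerm φ t x = 1 := by
  unfold trTerm; rw [dif_neg h]

theorem trTerm_of_fixed {G : Type*} [Group G] {H : Subgroup G} {A : Type*} [CommGroup A]
    (φ : H →* A) (t : G) (x : G ⧸ H) (h : t • x = x) :
    trTerm φ t x = φ ⟨(x.out)⁻¹ * t * x.out, fixed_mem H t x h⟩ := by
  unfold trTerm; rw [dif_pos h]

theorem mathlib_term {G : Type*} [Group G] {H : Subgroup G} {A : Type*} [CommGroup A]
    (φ : H →* A) (t : G) (ht : t * t = 1) (x : G ⧸ H) :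
    φ ⟨(x.out)⁻¹ * t ^ Function.minimalPeriod (fun y : G ⧸ H => t • y) x * x.out,
      QuotientGroup.out_conj_pow_minimalPeriod_mem H t x⟩ = trTerm φ t x := by
  by_cases h : t • x = x
  · have hmp : Function.minimalPeriod (fun y : G ⧸ H => t • y) x = 1 :=
      Function.minimalPeriod_eq_one_iff_isFixedPt.mpr h
    rw [trTerm_of_fixed φ t x h]
    congr 1
    apply Subtype.ext
    simp only [hmp, pow_one]
  · rw [trTerm_of_not_fixed φ t x h]
    have hper : Function.IsPeriodicPt (fun y : G ⧸ H => t • y) 2 x := by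
      show (fun y : G ⧸ H => t • y)^[2] x = x
      simp only [Function.iterate_succ, Function.iterate_zero, Function.comp_apply, id_eq]
      rw [smul_smul, ht, one_smul]
    have hdvd := hper.minimalPeriod_dvd
    rcases (Nat.dvd_prime Nat.prime_two).mp hdvd with h1 | h2
    · exact absurd (Function.minimalPeriod_eq_one_iff_isFixedPt.mp h1) h
    · have : (⟨(x.out)⁻¹ * t ^ Function.minimalPeriod (fun y : G ⧸ H => t • y) x * x.out,
          QuotientGroup.out_conj_pow_minimalPeriod_mem H t x⟩ : H) = 1 := by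
        apply Subtype.ext
        simp only [h2, pow_two, ht, mul_one, inv_mul_cancel, OneMemClass.coe_one]
      rw [this, map_one]

theorem transfer_involution {G : Type*} [Group G] {H : Subgroup G} [H.FiniteIndex]
    [Fintype (G ⧸ H)] {A : Type*} [CommGroup A]
    (φ : H →* A) (t : G) (ht : t * t = 1) :
    φ.transfer t = ∏ x : G ⧸ H, trTerm φ t x := by
  classical
  haveI : Fintype (Quotient (orbitRel (zpowers t) (G ⧸ H))) := Fintype.ofFinite _
  rw [transfer_eq_prod_quotient_orbitRel_zpowers_quot]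
  have hterm : ∀ q : Quotient (orbitRel (zpowers t) (G ⧸ H)),
      φ ⟨(q.out.out)⁻¹ * t ^ Function.minimalPeriod (fun y : G ⧸ H => t • y) q.out * q.out.out,
      QuotientGroup.out_conj_pow_minimalPeriod_mem H t q.out⟩ = trTerm φ t q.out :=
    fun q => mathlib_term φ t ht q.out
  rw [Finset.prod_congr rfl (fun q _ => hterm q)]
  apply Finset.prod_bij_ne_one (fun q _ _ => q.out)
  · intros; exact Finset.mem_univ _
  · intro q₁ _ _ q₂ _ _ h; exact Quotient.out_injective h
  · intro x _ hx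
    have hfix : t • x = x := by
      by_contra h; exact hx (trTerm_of_not_fixed φ t x h)
    have hout : (Quotient.mk (orbitRel (zpowers t) (G ⧸ H)) x).out = x := by
      have h1 : (orbitRel (zpowers t) (G ⧸ H)) (Quotient.mk (orbitRel (zpowers t) (G ⧸ H)) x).out x :=
        Quotient.exact (Quotient.out_eq _)
      rw [orbitRel_apply] at h1
      obtain ⟨⟨z, hz⟩, hzx⟩ := h1
      rw [← hzx]
      obtain ⟨k, rfl⟩ := Subgroup.mem_zpowers_iff.mp hz
      show t ^ k • x = x
      have : ∀ n : ℕ, t ^ n • x = x := by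
        intro n
        induction n with
        | zero => simp
        | succ n ih => rw [pow_succ, mul_smul, hfix, ih]
      cases k with
      | ofNat n => simpa using this n
      | negSucc n =>
        rw [zpow_negSucc, inv_smul_eq_iff, this]
    refine ⟨Quotient.mk _ x, Finset.mem_univ _, ?_, hout⟩
    rw [hout]; exact hx
  · intros; rfl


theorem trTerm_mk {G : Type*} [Group G] {H : Subgroup G} {A : Type*} [CommGroup A]
    (φ : H →* A) (t g₀ : G) (h : g₀⁻¹ * t * g₀ ∈ H) :
    trTerm φ t (↑g₀ : G ⧸ H) = φ ⟨g₀⁻¹ * t * g₀, h⟩ := by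
  have hfix : t • (↑g₀ : G ⧸ H) = ↑g₀ := (fixed_iff H t g₀).mpr h
  rw [trTerm_of_fixed φ t _ hfix]
  have hm : g₀⁻¹ * (↑g₀ : G ⧸ H).out ∈ H := by
    rw [← QuotientGroup.eq]; exact (QuotientGroup.out_eq' _).symm
  have : (⟨((↑g₀ : G ⧸ H).out)⁻¹ * t * (↑g₀ : G ⧸ H).out, fixed_mem H t _ hfix⟩ : H) =
      ⟨g₀⁻¹ * (↑g₀ : G ⧸ H).out, hm⟩⁻¹ * ⟨g₀⁻¹ * t * g₀, h⟩ * ⟨g₀⁻¹ * (↑g₀ : G ⧸ H).out, hm⟩ := by
    apply Subtype.ext
    simp only [Subgroup.coe_mul, Subgroup.coe_inv, mul_inv_rev, inv_inv]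
    group
  rw [this, map_mul, map_mul, map_inv, mul_comm, mul_inv_cancel_left]

theorem hom_to_comm_trivial {G : Type*} [Group G] [IsSimpleGroup G] (hG : ∃ a b : G, a * b ≠ b * a)
    {A : Type*} [CommGroup A] (ψ : G →* A) (g : G) : ψ g = 1 := by
  have hn : ψ.ker.Normal := MonoidHom.normal_ker ψ
  rcases hn.eq_bot_or_eq_top with h | h
  · exfalso
    obtain ⟨a, b, hab⟩ := hG
    apply hab
    have hinj : Function.Injective ψ := (MonoidHom.ker_eq_bot_iff ψ).mp h
    apply hinj
    rw [map_mul, map_mul, mul_comm]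
  · have : g ∈ ψ.ker := h ▸ Subgroup.mem_top g
    exact this

theorem mem_commutator_of_abelianization {G : Type*} [Group G] (M : Subgroup G) (x : G) (hx : x ∈ M)
    (h : (Abelianization.of : M →* Abelianization M) ⟨x, hx⟩ = 1) : x ∈ ⁅M, M⁆ := by
  have h1 : (⟨x, hx⟩ : M) ∈ (Abelianization.of : M →* Abelianization M).ker := h
  rw [Abelianization.ker_of] at h1
  rw [← Subgroup.map_subtype_commutator]
  exact ⟨⟨x, hx⟩, h1, rfl⟩

/-- T1: an involution lying in a unique conjugate of `S` lies in `S'` (G simple). -/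
theorem mem_commutator_of_unique {G : Type*} [Group G] [Finite G] [IsSimpleGroup G]
    (hG : ∃ a b : G, a * b ≠ b * a) (S : Subgroup G) (t : G) (ht : t * t = 1) (htS : t ∈ S)
    (huniq : ∀ g : G, g⁻¹ * t * g ∈ S → g ∈ S) : t ∈ ⁅S, S⁆ := by
  classical
  haveI : Fintype (G ⧸ S) := Fintype.ofFinite _
  let φ : S →* Abelianization S := Abelianization.of
  have h1 : φ.transfer t = 1 := hom_to_comm_trivial hG _ t
  rw [transfer_involution φ t ht] at h1
  have ht1 : (1 : G)⁻¹ * t * 1 ∈ S := by simpa using htS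
  rw [Fintype.prod_eq_single (↑(1 : G) : G ⧸ S), trTerm_mk φ t 1 ht1] at h1
  · have := mem_commutator_of_abelianization S _ ht1 h1
    simpa using this
  · intro x hx
    apply trTerm_of_not_fixed
    intro hfix
    apply hx
    have h2 := huniq _ (fixed_mem S t x hfix)
    rw [← QuotientGroup.out_eq' x, QuotientGroup.eq]
    simpa using S.inv_mem h2

/-- T2: transfer into an index two subgroup `M` of `S`. -/
theorem mul_conj_mem_commutator {G : Type*} [Group G] [Finite G] [IsSimpleGroup G]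
    (hG : ∃ a b : G, a * b ≠ b * a) (S M : Subgroup G) (hMS : M ≤ S) (t : G) (ht : t * t = 1)
    (htM : t ∈ M) (huniq : ∀ g : G, g⁻¹ * t * g ∈ S → g ∈ S)
    (s₀ : G) (hs₀M : s₀ ∉ M) (hidx : ∀ s ∈ S, s ∈ M ∨ s₀⁻¹ * s ∈ M)
    (hnorm : s₀⁻¹ * t * s₀ ∈ M) : t * (s₀⁻¹ * t * s₀) ∈ ⁅M, M⁆ := by
  classical
  haveI : Fintype (G ⧸ M) := Fintype.ofFinite _
  let φ : M →* Abelianization M := Abelianization.of
  have h1 : φ.transfer t = 1 := hom_to_comm_trivial hG _ t
  rw [transfer_involution φ t ht] at h1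
  have ht1 : (1 : G)⁻¹ * t * 1 ∈ M := by simpa using htM
  have hne : (↑(1 : G) : G ⧸ M) ≠ ↑s₀ := by
    intro h
    rw [QuotientGroup.eq] at h
    apply hs₀M
    simpa using h
  rw [Fintype.prod_eq_mul (↑(1 : G) : G ⧸ M) (↑s₀) hne, trTerm_mk φ t 1 ht1,
    trTerm_mk φ t s₀ hnorm, ← map_mul] at h1
  · have := mem_commutator_of_abelianization M _ (M.mul_mem ht1 hnorm) h1
    simpa using this
  · rintro x ⟨hx1, hx2⟩
    apply trTerm_of_not_fixed
    intro hfix
    have h2 := huniq _ (hMS (fixed_mem M t x hfix))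
    rcases hidx _ h2 with h3 | h3
    · apply hx1
      rw [← QuotientGroup.out_eq' x, QuotientGroup.eq]
      simpa using M.inv_mem h3
    · apply hx2
      rw [← QuotientGroup.out_eq' x, eq_comm, QuotientGroup.eq]
      exact h3

end Cfsg.Agent.helper27.O3648
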