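import Mathlib

set_option autoImplicit false

namespace Cfsg.Agent.helper27.O3648

open Subgroup

theorem card_commutator_le {P : Type*} [Group P] [Finite P] (n : ℕ)
    (hP : Nat.card P = 2 ^ (n + 2)) : Nat.card (commutator P) ≤ 2 ^ n := by
  classical
  haveI : Fact (Nat.Prime 2) := ⟨Nat.prime_two⟩
  have hpg : IsPGroup 2 P := IsPGroup.of_card hP
  haveI : Group.IsNilpotent P := hpg.isNilpotent
  haveI : Nontrivial P := by
    rw [← Finite.one_lt_card_iff_nontrivial, hP]
    exact Nat.one_lt_two_pow (by omega)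
  have hlt : commutator P < ⊤ := IsSolvable.commutator_lt_top_of_nontrivial P
  have hdvd : Nat.card (commutator P) ∣ 2 ^ (n + 2) := hP ▸ Subgroup.card_subgroup_dvd_card _
  obtain ⟨k, hk, hck⟩ := (Nat.dvd_prime_pow Nat.prime_two).mp hdvd
  by_contra hcon
  push_neg at hcon
  have hnk : n < k := by
    rw [hck] at hcon
    exact (Nat.pow_lt_pow_iff_right (by norm_num)).mp hcon
  have hk2 : k = n + 1 ∨ k = n + 2 := by omega
  rcases hk2 with rfl | rfl
  · obtain ⟨x, -, hx⟩ := SetLike.exists_of_lt hlt
    have hZdvd : Nat.card (zpowers x) ∣ 2 ^ (n + 2) := hP ▸ Subgroup.card_subgroup_dvd_card _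
    obtain ⟨j, hj, hcj⟩ := (Nat.dvd_prime_pow Nat.prime_two).mp hZdvd
    rcases Nat.lt_or_ge j (n + 2) with hjlt | hjge
    · have h2 : 2 ^ (n + 1) ∣ Nat.card P := by
        rw [hP]; exact pow_dvd_pow 2 (by omega)
      obtain ⟨K₂, hK₂card, hZK⟩ := Sylow.exists_subgroup_card_pow_prime_le 2 h2 (zpowers x) hcj
        (by omega)
      have hidx : K₂.index = 2 := by
        have := K₂.card_mul_index
        rw [hK₂card, hP, pow_succ] at this
        exact Nat.eq_of_mul_eq_mul_left (by positivity) this
      haveI : K₂.Normal := Subgroup.normal_of_index_eq_two hidx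
      have hq : Nat.card (P ⧸ K₂) = 2 := by rw [← Subgroup.index_eq_card, hidx]
      haveI : IsCyclic (P ⧸ K₂) := isCyclic_of_prime_card hq
      letI : CommGroup (P ⧸ K₂) := IsCyclic.commGroup
      have hle : commutator P ≤ K₂ := by
        have := Abelianization.commutator_subset_ker (QuotientGroup.mk' K₂)
        rwa [QuotientGroup.ker_mk'] at this
      have heq : commutator P = K₂ :=
        Subgroup.eq_of_le_of_card_ge hle (by rw [hK₂card, hck])
      apply hx
      rw [heq]
      exact hZK (Subgroup.mem_zpowers x)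
    · have hj2 : j = n + 2 := by omega
      subst hj2
      have hord : orderOf x = Nat.card P := by rw [← Nat.card_zpowers, hcj, hP]
      haveI : IsCyclic P := isCyclic_of_orderOf_eq_card x hord
      letI : CommGroup P := IsCyclic.commGroup
      have hle : commutator P ≤ ⊥ := by
        have := Abelianization.commutator_subset_ker (MonoidHom.id P)
        rwa [MonoidHom.ker_id] at this
      have : Nat.card (commutator P) = 1 := by
        rw [le_bot_iff.mp hle]; exact Subgroup.card_bot
      rw [this] at hck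
      have : 1 < 2 ^ (n + 1) := Nat.one_lt_two_pow (by omega)
      omega
  · have : commutator P = ⊤ := (Subgroup.card_eq_iff_eq_top _).mp (by rw [hck, hP])
    exact hlt.ne this

/-- a non-commutative group of order 8: every nontrivial central element is a square -/
theorem exists_sq_eq_of_card_eight {Q : Type*} [Group Q] [Finite Q] (hQ : Nat.card Q = 8)
    (hnc : ∃ a b : Q, a * b ≠ b * a) (z : Q) (hz : z ∈ center Q) (hz1 : z ≠ 1) :
    ∃ y : Q, y * y = z := by
  classical
  by_contra hno
  push_neg at hno
  have hZdvd : Nat.card (center Q) ∣ 8 := hQ ▸ Subgroup.card_subgroup_dvd_card _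
  have hnotcomm : ∀ (A : Type) [Group A] [IsCyclic A] (f : Q →* A), f.ker ≤ center Q → False := by
    intro A _ _ f hf
    obtain ⟨a, b, hab⟩ := hnc
    exact hab (commutative_of_cyclic_center_quotient f hf a b)
  -- card of the center is 2
  have hZ2 : Nat.card (center Q) = 2 := by
    have hle : Nat.card (center Q) ≤ 8 := Nat.le_of_dvd (by norm_num) hZdvd
    have hpos : 0 < Nat.card (center Q) := Nat.card_pos
    have h1 : Nat.card (center Q) ≠ 1 := by
      intro h
      have := (Subgroup.card_eq_one.mp h)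
      rw [this] at hz
      exact hz1 (Subgroup.mem_bot.mp hz)
    have h8 : Nat.card (center Q) ≠ 8 := by
      intro h
      have htop : center Q = ⊤ := (Subgroup.card_eq_iff_eq_top _).mp (by rw [h, hQ])
      obtain ⟨a, b, hab⟩ := hnc
      have ha : a ∈ center Q := htop ▸ Subgroup.mem_top a
      exact hab ((Subgroup.mem_center_iff.mp ha b).symm)
    have h4 : Nat.card (center Q) ≠ 4 := by
      intro h
      have hq : Nat.card (Q ⧸ center Q) = 2 := by
        have := (center Q).card_mul_index
        rw [h, hQ, Subgroup.index_eq_card] at this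
        omega
      haveI : Fact (Nat.Prime 2) := ⟨Nat.prime_two⟩
      haveI : IsCyclic (Q ⧸ center Q) := isCyclic_of_prime_card hq
      obtain ⟨a, b, hab⟩ := hnc
      exact hab (commutative_of_cyclic_center_quotient (QuotientGroup.mk' (center Q))
        (by rw [QuotientGroup.ker_mk']) a b)
    interval_cases h : Nat.card (center Q) <;> simp_all <;> omega
  have hZelts : ∀ w ∈ center Q, w = 1 ∨ w = z := by
    intro w hw
    by_contra hcon
    push_neg at hcon
    obtain ⟨y, -, hy⟩ := (Nat.card_eq_two_iff' (1 : center Q)).mp hZ2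
    have e1 : (⟨w, hw⟩ : center Q) = y := hy _ (by
      intro h; exact hcon.1 (congrArg Subtype.val h))
    have e2 : (⟨z, hz⟩ : center Q) = y := hy _ (by
      intro h; exact hz1 (congrArg Subtype.val h))
    exact hcon.2 (congrArg Subtype.val (e1.trans e2.symm))
  have hq4 : Nat.card (Q ⧸ center Q) = 4 := by
    have := (center Q).card_mul_index
    rw [hZ2, hQ, Subgroup.index_eq_card] at this
    omega
  have hsq : ∀ y : Q, y * y ∈ center Q := by
    intro y
    rw [← QuotientGroup.eq_one_iff]
    have hdvd : orderOf (y : Q ⧸ center Q) ∣ 4 := hq4 ▸ orderOf_dvd_natCard _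
    have hne4 : orderOf (y : Q ⧸ center Q) ≠ 4 := by
      intro h
      haveI : IsCyclic (Q ⧸ center Q) := isCyclic_of_orderOf_eq_card _ (by rw [h, hq4])
      obtain ⟨a, b, hab⟩ := hnc
      exact hab (commutative_of_cyclic_center_quotient (QuotientGroup.mk' (center Q))
        (by rw [QuotientGroup.ker_mk']) a b)
    have hdvd2 : orderOf (y : Q ⧸ center Q) ∣ 2 := by
      have hle : orderOf (y : Q ⧸ center Q) ≤ 4 := Nat.le_of_dvd (by norm_num) hdvd
      interval_cases h : orderOf (y : Q ⧸ center Q) <;> simp_all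
    have := orderOf_dvd_iff_pow_eq_one.mp hdvd2
    rw [pow_two] at this
    exact this
  have hall : ∀ y : Q, y * y = 1 := by
    intro y
    rcases hZelts _ (hsq y) with h | h
    · exact h
    · exact absurd h (hno y)
  obtain ⟨a, b, hab⟩ := hnc
  apply hab
  have h1 := hall (a * b)
  have h2 := hall a
  have h3 := hall b
  have ha : a⁻¹ = a := inv_eq_of_mul_eq_one_right h2
  have hb : b⁻¹ = b := inv_eq_of_mul_eq_one_right h3
  have : a * b = (a * b)⁻¹ := (inv_eq_of_mul_eq_one_right h1).symm
  rw [this, mul_inv_rev, ha, hb]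


theorem endgame {S : Type*} [Group S] [Finite S] (hS : Nat.card S = 64) (t : S) (ht : t * t = 1)
    (ht1 : t ≠ 1) (hC : Nat.card (Subgroup.centralizer ({t} : Set S)) = 8)
    (hT1 : t ∈ commutator S)
    (hT2 : ∀ M : Subgroup S, M.index = 2 → ∀ s : S, t * (s * t * s⁻¹) ∈ ⁅M, M⁆) : False := by
  classical
  haveI : Fact (Nat.Prime 2) := ⟨Nat.prime_two⟩
  have tinv : t⁻¹ = t := inv_eq_of_mul_eq_one_right ht
  obtain ⟨M, hMcard⟩ := Sylow.exists_subgroup_card_pow_prime 2 (n := 5) (G := S)
    (by rw [hS]; norm_num)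
  have hMidx : M.index = 2 := by
    have := M.card_mul_index
    rw [hMcard, hS] at this
    omega
  haveI hMn : M.Normal := Subgroup.normal_of_index_eq_two hMidx
  set K : Subgroup S := ⁅M, M⁆ with hKdef
  haveI hKn : K.Normal := Subgroup.commutator_normal M M
  have hKle : Nat.card K ≤ 8 := by
    have h1 := card_commutator_le (P := M) 3 (by rw [hMcard])
    have h2 : Nat.card K = Nat.card (commutator M) := by
      rw [hKdef, ← Subgroup.map_subtype_commutator]
      exact Subgroup.card_map_of_injective M.subtype_injective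
    rw [h2]; simpa using h1
  set C : Subgroup S := Subgroup.centralizer ({t} : Set S) with hCdef
  have hmemC : ∀ x : S, x ∈ C ↔ x * t = t * x := fun x => Subgroup.mem_centralizer_singleton_iff
  have hK : ∀ s : S, t * (s * t * s⁻¹) ∈ K := hT2 M hMidx
  let f : S ⧸ C → K := fun q => Quotient.liftOn' q
    (fun s => (⟨t * (s * t * s⁻¹), hK s⟩ : K)) (by
      intro a b hab
      rw [QuotientGroup.leftRel_apply, hmemC] at hab
      apply Subtype.ext
      show t * (a * t * a⁻¹) = t * (b * t * b⁻¹)
      congr 1
      have : b * t * b⁻¹ = a * ((a⁻¹ * b) * t) * (a⁻¹ * b)⁻¹ * a⁻¹ := by group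
      rw [this, hab]; group)
  have hf : Function.Injective f := by
    intro q₁ q₂
    refine Quotient.inductionOn₂' q₁ q₂ (fun a b h => ?_)
    have h1 : t * (a * t * a⁻¹) = t * (b * t * b⁻¹) := congrArg Subtype.val h
    have h2 : a * t * a⁻¹ = b * t * b⁻¹ := mul_left_cancel h1
    apply Quotient.sound'
    rw [QuotientGroup.leftRel_apply, hmemC]
    have : a⁻¹ * b * t = a⁻¹ * (b * t * b⁻¹) * b := by group
    rw [this, ← h2]; group
  have hidxC : Nat.card (S ⧸ C) = 8 := by
    have := C.card_mul_index
    rw [hC, hS, Subgroup.index_eq_card] at this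
    omega
  have hKcard : Nat.card K = 8 := by
    have := Nat.card_le_card_of_injective f hf
    omega
  have hbij : Function.Bijective f := hf.bijective_of_nat_card_le (by rw [hKcard, hidxC])
  have hsurj : ∀ k ∈ K, ∃ s : S, s * t * s⁻¹ = t * k := by
    intro k hk
    obtain ⟨q, hq⟩ := hbij.2 ⟨k, hk⟩
    induction q using Quotient.inductionOn' with
    | h s =>
      refine ⟨s, ?_⟩
      have : t * (s * t * s⁻¹) = k := congrArg Subtype.val hq
      rw [← this, ← mul_assoc, ht, one_mul]
  have hinvK : ∀ k ∈ K, t * k * t = k⁻¹ := by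
    intro k hk
    obtain ⟨s, hs⟩ := hsurj k hk
    have h1 : (t * k) * (t * k) = 1 := by
      rw [← hs]
      calc s * t * s⁻¹ * (s * t * s⁻¹) = s * (t * t) * s⁻¹ := by group
        _ = 1 := by rw [ht]; group
    have : t * k * t * k = 1 := by rw [← h1]; group
    exact eq_inv_of_mul_eq_one_left this
  have hKcomm : ∀ a ∈ K, ∀ b ∈ K, a * b = b * a := by
    intro a ha b hb
    have h1 := hinvK (a * b) (K.mul_mem ha hb)
    have h2 := hinvK a ha
    have h3 := hinvK b hb
    have h4 : t * (a * b) * t = (t * a * t) * (t * b * t) := by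
      calc t * (a * b) * t = t * a * 1 * b * t := by group
        _ = t * a * (t * t) * b * t := by rw [ht]
        _ = _ := by group
    rw [h1, h2, h3] at h4
    have := congrArg Inv.inv h4
    simpa only [inv_inv, mul_inv_rev] using this
  have htK : t ∉ K := by
    intro h
    obtain ⟨s, hs⟩ := hsurj t h
    rw [ht] at hs
    apply ht1
    have : t = s⁻¹ * (s * t * s⁻¹) * s := by group
    rw [this, hs]; group
  have hQcard : Nat.card (S ⧸ K) = 8 := by
    have := K.card_mul_index
    rw [hKcard, hS, Subgroup.index_eq_card] at this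
    omega
  have hzc : (QuotientGroup.mk t : S ⧸ K) ∈ Subgroup.center (S ⧸ K) := by
    rw [Subgroup.mem_center_iff]
    intro q
    induction q using QuotientGroup.induction_on with
    | H s =>
      rw [← QuotientGroup.mk_mul, ← QuotientGroup.mk_mul, QuotientGroup.eq]
      have e : (s * t)⁻¹ * (t * s) = t * (s⁻¹ * t * s⁻¹⁻¹) := by
        rw [mul_inv_rev, tinv, inv_inv]; group
      rw [e]; exact hK s⁻¹
  have hz1 : (QuotientGroup.mk t : S ⧸ K) ≠ 1 := by
    rw [Ne, QuotientGroup.eq_one_iff]; exact htK
  have hQnc : ∃ a b : S ⧸ K, a * b ≠ b * a := by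
    by_contra hcon
    push_neg at hcon
    letI : CommGroup (S ⧸ K) := { (inferInstance : Group (S ⧸ K)) with mul_comm := hcon }
    have := Abelianization.commutator_subset_ker (QuotientGroup.mk' K)
    rw [QuotientGroup.ker_mk'] at this
    exact htK (this hT1)
  obtain ⟨ybar, hy⟩ := exists_sq_eq_of_card_eight hQcard hQnc _ hzc hz1
  obtain ⟨y0, rfl⟩ := QuotientGroup.mk_surjective ybar
  have hk0 : t⁻¹ * (y0 * y0) ∈ K := by
    rw [← QuotientGroup.eq, QuotientGroup.mk_mul]; exact hy.symm
  obtain ⟨s, hs⟩ := hsurj _ hk0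
  have hs' : s * t * s⁻¹ = y0 * y0 := by rw [hs]; group
  set y := s⁻¹ * y0 * s with hydef
  have hyy : y * y = t := by
    rw [hydef]
    calc s⁻¹ * y0 * s * (s⁻¹ * y0 * s) = s⁻¹ * (y0 * y0) * s := by group
      _ = t := by rw [← hs']; group
  have hyC : y ∈ C := by rw [hmemC, ← hyy]; group
  have htC : t ∈ C := by rw [hmemC]
  by_cases hexp : ∀ k ∈ K, k ^ 4 = 1
  · letI : CommGroup K := { (inferInstance : Group K) with
      mul_comm := fun a b => Subtype.ext (hKcomm a a.2 b b.2) }
    let sq : K →* K := powMonoidHom 2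
    have hker_range : sq.range ≤ sq.ker := by
      rintro _ ⟨a, rfl⟩
      rw [MonoidHom.mem_ker]
      show (a ^ 2) ^ 2 = 1
      rw [← pow_mul]
      exact Subtype.ext (by simpa using hexp a a.2)
    have h1 : Nat.card sq.ker * Nat.card sq.range = 8 := by
      have := sq.ker.card_mul_index
      rw [Subgroup.index_ker, hKcard] at this; exact this
    have h2 : Nat.card sq.range ≤ Nat.card sq.ker := Subgroup.card_le_of_le hker_range
    have hcases : Nat.card sq.ker = 4 ∨ Nat.card sq.ker = 8 := by
      have h3 : Nat.card sq.ker ∣ 8 := Dvd.intro _ h1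
      have hle : Nat.card sq.ker ≤ 8 := Nat.le_of_dvd (by norm_num) h3
      generalize Nat.card sq.ker = c at h1 h2 h3 hle ⊢
      generalize Nat.card sq.range = r at h1 h2
      interval_cases c <;> omega
    set Ω : Subgroup S := sq.ker.map K.subtype with hΩ
    have hΩcard : Nat.card Ω = Nat.card sq.ker :=
      Subgroup.card_map_of_injective K.subtype_injective
    have hΩK : Ω ≤ K := by
      rintro _ ⟨a, _, rfl⟩; exact a.2
    have hΩC : Ω ≤ C := by
      rintro _ ⟨a, ha, rfl⟩
      rw [hmemC]
      have ha2 : (a : S) * a = 1 := by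
        have h : a ^ 2 = 1 := ha
        have := congrArg Subtype.val h
        simpa [pow_two] using this
      have hainv : (a : S)⁻¹ = a := inv_eq_of_mul_eq_one_right ha2
      have := hinvK a a.2
      rw [hainv] at this
      calc (K.subtype a) * t = (t * a * t) * t := by rw [this]; rfl
        _ = t * a * (t * t) := by group
        _ = t * K.subtype a := by rw [ht, mul_one]; rfl
    rcases hcases with h4 | h8
    · have hidx : (Ω.subgroupOf C).index = 2 := by
        have := (Ω.subgroupOf C).card_mul_index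
        rw [Nat.card_congr (Subgroup.subgroupOfEquivOfLe hΩC).toEquiv, hΩcard, h4, hC] at this
        omega
      have hmem : (⟨y, hyC⟩ : C) * ⟨y, hyC⟩ ∈ Ω.subgroupOf C :=
        (Subgroup.mul_mem_iff_of_index_two hidx).mpr Iff.rfl
      rw [Subgroup.mem_subgroupOf] at hmem
      have : t ∈ Ω := by rw [← hyy]; exact hmem
      exact htK (hΩK this)
    · have : Ω = C := Subgroup.eq_of_le_of_card_ge hΩC (by rw [hC, hΩcard, h8])
      exact htK (hΩK (this ▸ htC))
  · push_neg at hexp
    obtain ⟨k, hkK, hk4⟩ := hexp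
    have hord : orderOf k = 8 := by
      have hdvd : orderOf k ∣ 8 := by
        have := orderOf_dvd_natCard (⟨k, hkK⟩ : K)
        rw [hKcard] at this
        rwa [Subgroup.orderOf_mk] at this
      have hle : orderOf k ≤ 8 := Nat.le_of_dvd (by norm_num) hdvd
      have hnd : ¬ orderOf k ∣ 4 := fun h => hk4 (orderOf_dvd_iff_pow_eq_one.mp h)
      generalize orderOf k = n at hdvd hle hnd ⊢
      interval_cases n <;> omega
    have hzk : Subgroup.zpowers k = K := by
      apply Subgroup.eq_of_le_of_card_ge
      · rw [Subgroup.zpowers_le]; exact hkK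
      · rw [Nat.card_zpowers, hord, hKcard]
    have hyk : y * k * y⁻¹ ∈ Subgroup.zpowers k := by
      rw [hzk]; exact hKn.conj_mem k hkK y
    obtain ⟨i, hi⟩ := Subgroup.mem_zpowers_iff.mp hyk
    have h1 : y * (y * k * y⁻¹) * y⁻¹ = k ^ (i * i) := by
      have h : y * k ^ i * y⁻¹ = (y * k * y⁻¹) ^ i := by
        have := map_zpow (MulAut.conj y) k i
        simpa only [MulAut.conj_apply] using this
      rw [← hi, h, ← hi, ← zpow_mul]
    have h2 : y * (y * k * y⁻¹) * y⁻¹ = k⁻¹ := by
      have : y * (y * k * y⁻¹) * y⁻¹ = (y * y) * k * (y * y)⁻¹ := by group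
      rw [this, hyy, tinv]; exact hinvK k hkK
    have h3 : k ^ (i * i + 1) = 1 := by
      rw [zpow_add, zpow_one, ← h1, h2]; group
    have h4 : ((8 : ℕ) : ℤ) ∣ i * i + 1 := by
      rw [← hord]; exact orderOf_dvd_iff_zpow_eq_one.mpr h3
    have h5 : ((i * i + 1 : ℤ) : ZMod 8) = 0 := (ZMod.intCast_zmod_eq_zero_iff_dvd _ 8).mpr h4
    push_cast at h5
    have : ∀ x : ZMod 8, x * x + 1 ≠ 0 := by decide
    exact this _ h5

end Cfsg.Agent.helper27.O3648
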