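import Cfsg.Statements.S1018
import Mathlib
import Cfsg.Agent.Lib_helper5_Sylow

set_option autoImplicit false
open Cfsg

namespace Cfsg.Agent.S1018

open Cfsg.Agent.helper5

/-- A non-identity element of a subgroup of prime order generates it. -/
theorem exists_pow_eq {G : Type*} [Group G] (p : ℕ) [Fact p.Prime] (P : Subgroup G)
    (hP : Nat.card P = p) (c : G) (hc : c ∈ P) (hc1 : c ≠ 1) (h : G) (hh : h ∈ P) :
    ∃ m : ℤ, c ^ m = h := by
  have hne : (⟨c, hc⟩ : P) ≠ 1 := fun e => hc1 (congrArg Subtype.val e)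
  have := zpowers_eq_top_of_prime_card hP hne
  have hmem : (⟨h, hh⟩ : P) ∈ Subgroup.zpowers (⟨c, hc⟩ : P) := by rw [this]; trivial
  obtain ⟨m, hm⟩ := Subgroup.mem_zpowers_iff.mp hmem
  exact ⟨m, by simpa using congrArg Subtype.val hm⟩

/-- K2: conjugating a generator into `P` normalizes `P`. -/
theorem mem_normalizer_of_conj {G : Type*} [Group G] [Finite G] (p : ℕ) [Fact p.Prime]
    (P : Subgroup G) (hP : Nat.card P = p) (c : G) (hc : c ∈ P) (hc1 : c ≠ 1) (k : G)
    (hk : k * c * k⁻¹ ∈ P) : k ∈ Subgroup.normalizer (P : Set G) := by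
  apply Subgroup.mem_normalizer_fintype
  intro h hh
  obtain ⟨m, rfl⟩ := exists_pow_eq p P hP c hc hc1 h hh
  have : k * c ^ m * k⁻¹ = (k * c * k⁻¹) ^ m := by
    rw [conj_zpow]
  rw [this]
  exact P.zpow_mem hk m

/-- K1: an element of order `p` in the normalizer of a Sylow `p`-subgroup lies in it. -/
theorem mem_of_mem_normalizer {G : Type*} [Group G] (p : ℕ) [Fact p.Prime] (P : Sylow p G)
    (z : G) (hz : orderOf z = p) (hzN : z ∈ Subgroup.normalizer ((P : Subgroup G) : Set G)) :
    z ∈ (P : Subgroup G) := by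
  have hZ : IsPGroup p (Subgroup.zpowers z) := by
    apply IsPGroup.of_card (n := 1)
    rw [Nat.card_zpowers, hz, pow_one]
  have h1 : z ∈ Subgroup.zpowers z ⊓ Subgroup.normalizer (P : Set G) :=
    ⟨Subgroup.mem_zpowers z, hzN⟩
  rw [hZ.inf_normalizer_sylow P] at h1
  exact h1.2

theorem fixed_iff {G : Type*} [Group G] (N : Subgroup G) (y g : G) :
    y • (QuotientGroup.mk g : G ⧸ N) = QuotientGroup.mk g ↔ g⁻¹ * y * g ∈ N := by
  rw [MulAction.Quotient.smul_mk, eq_comm, QuotientGroup.eq]
  simp [mul_assoc]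

theorem result {G : Type*} [Group G] [Finite G] (p : ℕ) [Fact p.Prime] (P : Sylow p G) (hP : Nat.card ↥(P : Subgroup G) = p) : (∀ y : G, orderOf y = p → Nat.card (MulAction.fixedBy (G ⧸ Subgroup.normalizer ((P : Subgroup G) : Set G)) y) = 1) ∧ ∀ x : G, x ∈ Subgroup.normalizer ((P : Subgroup G) : Set G) → x ∉ Subgroup.centralizer ((P : Subgroup G) : Set G) → Nat.card (MulAction.fixedBy (G ⧸ Subgroup.normalizer ((P : Subgroup G) : Set G)) x) ≤ Nat.card (MulAction.orbitRel.Quotient ↥(P : Subgroup G) (G ⧸ Subgroup.normalizer ((P : Subgroup G) : Set G))) := by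
  classical
  have hp : p.Prime := Fact.out
  constructor
  · intro y hy
    have hy1 : y ≠ 1 := by
      intro h; rw [h, orderOf_one] at hy; exact hp.one_lt.ne hy
    rw [Nat.card_eq_one_iff_unique]
    constructor
    · constructor
      rintro ⟨ω₁, h₁⟩ ⟨ω₂, h₂⟩
      apply Subtype.ext
      induction ω₁ using QuotientGroup.induction_on with
      | H g₁ =>
      induction ω₂ using QuotientGroup.induction_on with
      | H g₂ =>
      rw [MulAction.mem_fixedBy, fixed_iff] at h₁ h₂
      have ho : ∀ g : G, orderOf (g⁻¹ * y * g) = p := by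
        intro g
        rw [← hy]
        have : g⁻¹ * y * g = MulAut.conj g⁻¹ y := by simp
        rw [this]; exact MulEquiv.orderOf_eq _ _
      have ha₁ := mem_of_mem_normalizer p P _ (ho g₁) h₁
      have ha₂ := mem_of_mem_normalizer p P _ (ho g₂) h₂
      have hne : g₂⁻¹ * y * g₂ ≠ 1 := by
        intro h
        apply hy1
        have : y = g₂ * (g₂⁻¹ * y * g₂) * g₂⁻¹ := by group
        rw [this, h]; group
      have hk : (g₁⁻¹ * g₂) * (g₂⁻¹ * y * g₂) * (g₁⁻¹ * g₂)⁻¹ ∈ (P : Subgroup G) := by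
        have : (g₁⁻¹ * g₂) * (g₂⁻¹ * y * g₂) * (g₁⁻¹ * g₂)⁻¹ = g₁⁻¹ * y * g₁ := by group
        rw [this]; exact ha₁
      have := mem_normalizer_of_conj p (P : Subgroup G) hP _ ha₂ hne _ hk
      exact QuotientGroup.eq.mpr this
    · have hZ : IsPGroup p (Subgroup.zpowers y) := by
        apply IsPGroup.of_card (n := 1)
        rw [Nat.card_zpowers, hy, pow_one]
      obtain ⟨Q, hQ⟩ := hZ.exists_le_sylow
      obtain ⟨g, hg⟩ := MulAction.exists_smul_eq G P Q
      have hyQ : y ∈ (Q : Subgroup G) := hQ (Subgroup.mem_zpowers y)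
      rw [← hg, mem_smul_sylow_iff] at hyQ
      refine ⟨⟨QuotientGroup.mk g, ?_⟩⟩
      rw [MulAction.mem_fixedBy, fixed_iff]
      exact Subgroup.le_normalizer hyQ
  · intro x hxN hxC
    have : Finite (MulAction.orbitRel.Quotient ↥(P : Subgroup G) (G ⧸ Subgroup.normalizer ((P : Subgroup G) : Set G))) :=
      Quotient.finite _
    apply Nat.card_le_card_of_injective
      (fun ω : MulAction.fixedBy (G ⧸ Subgroup.normalizer ((P : Subgroup G) : Set G)) x =>
        (Quotient.mk'' ω.1 : MulAction.orbitRel.Quotient ↥(P : Subgroup G) (G ⧸ Subgroup.normalizer ((P : Subgroup G) : Set G))))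
    rintro ⟨ω₁, h₁⟩ ⟨ω₂, h₂⟩ heq
    apply Subtype.ext
    show ω₁ = ω₂
    by_contra hne
    have hrel : ω₁ ∈ MulAction.orbit ↥(P : Subgroup G) ω₂ := Quotient.exact' heq
    obtain ⟨a, ha⟩ := hrel
    have ha' : (a : G) • ω₂ = ω₁ := ha
    induction ω₂ using QuotientGroup.induction_on with
    | H g =>
    subst ha'
    rw [MulAction.mem_fixedBy] at h₁ h₂
    have h₂' := (fixed_iff _ x g).mp h₂
    have h₁' : ((a : G) * g)⁻¹ * x * ((a : G) * g) ∈ Subgroup.normalizer ((P : Subgroup G) : Set G) := by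
      have : (a : G) • (QuotientGroup.mk g : G ⧸ Subgroup.normalizer ((P : Subgroup G) : Set G)) =
          QuotientGroup.mk ((a : G) * g) := MulAction.Quotient.smul_mk _ _ _
      rw [this] at h₁
      exact (fixed_iff _ x _).mp h₁
    set c : G := (a : G)⁻¹ * x * (a : G) * x⁻¹ with hc
    have hcP : c ∈ (P : Subgroup G) := by
      have h1 : x * (a : G) * x⁻¹ ∈ (P : Subgroup G) := (Subgroup.mem_normalizer_iff.mp hxN _).mp a.2
      have : c = (a : G)⁻¹ * (x * (a : G) * x⁻¹) := by rw [hc]; group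
      rw [this]
      exact (P : Subgroup G).mul_mem ((P : Subgroup G).inv_mem a.2) h1
    have hgc : g⁻¹ * c * g ∈ Subgroup.normalizer ((P : Subgroup G) : Set G) := by
      have : g⁻¹ * c * g = (((a : G) * g)⁻¹ * x * ((a : G) * g)) * (g⁻¹ * x * g)⁻¹ := by
        rw [hc]; group
      rw [this]
      exact Subgroup.mul_mem _ h₁' (Subgroup.inv_mem _ h₂')
    have ha1 : (a : G) ≠ 1 := by
      intro h
      apply hne
      rw [h, one_smul]
    by_cases hc1 : c = 1
    · -- x commutes with a, which generates P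
      apply hxC
      rw [Subgroup.mem_centralizer_iff]
      intro h hh
      obtain ⟨m, rfl⟩ := exists_pow_eq p (P : Subgroup G) hP (a : G) a.2 ha1 h hh
      have hxa : x * (a : G) = (a : G) * x := by
        have : (a : G) * c * x = x * (a : G) := by rw [hc]; group
        rw [← this, hc1]; group
      have : Commute x ((a : G) ^ m) := (Commute.zpow_right hxa m)
      exact this.eq.symm
    · -- g normalizes P
      have hord : orderOf (g⁻¹ * c * g) = p := by
        have h1 : orderOf c = p := by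
          have : orderOf (⟨c, hcP⟩ : (P : Subgroup G)) = p := by
            have hne' : (⟨c, hcP⟩ : (P : Subgroup G)) ≠ 1 := fun e => hc1 (congrArg Subtype.val e)
            exact orderOf_eq_prime (by
              have := pow_card_eq_one' (G := (P : Subgroup G)) (x := ⟨c, hcP⟩)
              rwa [hP] at this) hne'
          rw [← this]; exact (Subgroup.orderOf_mk _ _).symm
        rw [← h1]
        have : g⁻¹ * c * g = MulAut.conj g⁻¹ c := by simp
        rw [this]; exact MulEquiv.orderOf_eq _ _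
      have hgcP := mem_of_mem_normalizer p P _ hord hgc
      have hginv := mem_normalizer_of_conj p (P : Subgroup G) hP c hcP hc1 g⁻¹ (by simpa using hgcP)
      have hgN : g ∈ Subgroup.normalizer ((P : Subgroup G) : Set G) := by
        simpa using Subgroup.inv_mem _ hginv
      apply hne
      rw [MulAction.Quotient.smul_mk, QuotientGroup.eq]
      have : ((a : G) • g)⁻¹ * g = g⁻¹ * (a : G)⁻¹ * g := by simp [smul_eq_mul]; 
      rw [this]
      exact Subgroup.mul_mem _ (Subgroup.mul_mem _ (Subgroup.inv_mem _ hgN)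
        (Subgroup.inv_mem _ (Subgroup.le_normalizer a.2))) hgN

end Cfsg.Agent.S1018
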