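import Cfsg.Statements.S1019
import Mathlib
-- import your own Cfsg.Agent.* helpers here

set_option autoImplicit false
open Cfsg

namespace Cfsg.Agent.S1019

theorem fix_card_conj {G : Type*} [Group G] (H : Subgroup G) (x y : G) (hxy : IsConj x y) :
    Nat.card {q : G ⧸ H // y • q = q} = Nat.card {q : G ⧸ H // x • q = q} := by
  obtain ⟨k, hk⟩ := isConj_iff.mp hxy
  subst hk
  refine Nat.card_congr
    { toFun := fun q => ⟨k⁻¹ • q.1, ?_⟩
      invFun := fun q => ⟨k • q.1, ?_⟩
      left_inv := fun q => by simp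
      right_inv := fun q => by simp }
  · have := q.2
    calc x • k⁻¹ • q.1 = k⁻¹ • ((k * x * k⁻¹) • q.1) := by simp [mul_smul]
      _ = k⁻¹ • q.1 := by rw [this]
  · have := q.2
    calc (k * x * k⁻¹) • k • q.1 = k • x • q.1 := by simp [mul_smul]
      _ = k • q.1 := by rw [this]

theorem stab_card {G : Type*} [Group G] (H : Subgroup G) (x : G) (q : G ⧸ H) :
    Nat.card {g : G // IsConj x g ∧ g • q = q} = Nat.card {g : G // IsConj x g ∧ g ∈ H} := by
  induction q using QuotientGroup.induction_on with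
  | H k =>
  have hiff : ∀ g : G, g • (QuotientGroup.mk k : G ⧸ H) = QuotientGroup.mk k ↔ k⁻¹ * g * k ∈ H := by
    intro g
    rw [MulAction.Quotient.smul_mk, eq_comm, QuotientGroup.eq]
    simp [mul_assoc]
  refine Nat.card_congr
    { toFun := fun g => ⟨k⁻¹ * g.1 * k, ?_, ?_⟩
      invFun := fun g => ⟨k * g.1 * k⁻¹, ?_, ?_⟩
      left_inv := fun g => by apply Subtype.ext; simp [mul_assoc]
      right_inv := fun g => by apply Subtype.ext; simp [mul_assoc] }
  · exact g.2.1.trans (isConj_iff.mpr ⟨k⁻¹, by simp⟩)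
  · exact (hiff g.1).mp g.2.2
  · exact g.2.1.trans (isConj_iff.mpr ⟨k, rfl⟩)
  · rw [hiff]
    have : k⁻¹ * (k * g.1 * k⁻¹) * k = g.1 := by group
    rw [this]; exact g.2.2

theorem result {G : Type*} [Group G] [Finite G] (H : Subgroup G) (x : G) (hx : x ∈ H) : Nat.card (MulAction.fixedBy (G ⧸ H) x) * Nat.card {g : G // IsConj x g} = H.index * Nat.card {g : G // IsConj x g ∧ g ∈ H} := by
  classical
  have := Fintype.ofFinite G
  have : Fintype (G ⧸ H) := Fintype.ofFinite _
  have : Fintype {g : G // IsConj x g} := Fintype.ofFinite _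
  -- the set of pairs
  let T := {p : G × (G ⧸ H) // IsConj x p.1 ∧ p.1 • p.2 = p.2}
  have e1 : T ≃ Σ y : {g : G // IsConj x g}, {q : G ⧸ H // y.1 • q = q} :=
    { toFun := fun t => ⟨⟨t.1.1, t.2.1⟩, ⟨t.1.2, t.2.2⟩⟩
      invFun := fun s => ⟨(s.1.1, s.2.1), s.1.2, s.2.2⟩
      left_inv := fun t => rfl
      right_inv := fun s => rfl }
  have e2 : T ≃ Σ q : G ⧸ H, {g : G // IsConj x g ∧ g • q = q} :=
    { toFun := fun t => ⟨t.1.2, ⟨t.1.1, t.2.1, t.2.2⟩⟩
      invFun := fun s => ⟨(s.2.1, s.1), s.2.2.1, s.2.2.2⟩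
      left_inv := fun t => rfl
      right_inv := fun s => rfl }
  have c1 : Nat.card T = Nat.card {g : G // IsConj x g} * Nat.card {q : G ⧸ H // x • q = q} := by
    rw [Nat.card_congr e1, Nat.card_sigma]
    rw [Finset.sum_congr rfl (fun y _ => fix_card_conj H x y.1 y.2)]
    simp [Nat.card_eq_fintype_card]
  have c2 : Nat.card T = H.index * Nat.card {g : G // IsConj x g ∧ g ∈ H} := by
    rw [Nat.card_congr e2, Nat.card_sigma]
    rw [Finset.sum_congr rfl (fun q _ => stab_card H x q)]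
    simp [Subgroup.index, Nat.card_eq_fintype_card]
  have hfix : Nat.card (MulAction.fixedBy (G ⧸ H) x) = Nat.card {q : G ⧸ H // x • q = q} := rfl
  rw [hfix, mul_comm, ← c1, c2]

end Cfsg.Agent.S1019
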