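import Mathlib
import Cfsg.Agent.Lib_helper5_Simple
import Cfsg.Agent.S1018
import Cfsg.Agent.S1019
import Cfsg.Agent.Lib_helper27_O3648a
import Cfsg.Agent.Lib_helper27_O3648b
import Cfsg.Agent.Lib_helper27_O3648c

set_option autoImplicit false

namespace Cfsg.Agent.helper27.O3648

open Subgroup

theorem card_conj_mul_card_centralizer' {G : Type*} [Group G] [Finite G] (g : G) :
    Nat.card {x : G // IsConj g x} * Nat.card (Subgroup.centralizer ({g} : Set G)) =
      Nat.card G := by
  have h1 : (Subgroup.centralizer ({g} : Set G)).index =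
      (MulAction.stabilizer (ConjAct G) g).index := by
    rw [Subgroup.centralizer_eq_comap_stabilizer]
    exact Subgroup.index_comap_of_surjective (MulAction.stabilizer (ConjAct G) g)
      (f := (ConjAct.toConjAct (G := G)).toMonoidHom) (ConjAct.toConjAct (G := G)).surjective
  have h2 : Nat.card {x : G // IsConj g x} = (Subgroup.centralizer ({g} : Set G)).index := by
    rw [h1, MulAction.index_stabilizer, ← Nat.card_coe_set_eq]
    apply Nat.card_congr
    exact Equiv.subtypeEquivRight (fun x => by rw [ConjAct.mem_orbit_conjAct, isConj_comm])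
  rw [h2, mul_comm, Subgroup.card_mul_index]

theorem invert_of_not_centralize {G : Type*} [Group G] [Finite G] (P : Subgroup G)
    (hP : Nat.card P = 19) (t : G) (ht : t * t = 1)
    (htN : t ∈ Subgroup.normalizer (P : Set G))
    (htC : t ∉ Subgroup.centralizer (P : Set G)) : ∀ p ∈ P, t * p * t = p⁻¹ := by
  haveI : Fact (Nat.Prime 19) := ⟨by norm_num⟩
  have tinv : t⁻¹ = t := inv_eq_of_mul_eq_one_right ht
  have hPcomm : ∀ a ∈ P, ∀ b ∈ P, a * b = b * a := by
    haveI : IsCyclic P := isCyclic_of_prime_card hP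
    letI := IsCyclic.commGroup (α := P)
    intro a ha b hb
    exact congrArg Subtype.val (mul_comm (⟨a, ha⟩ : P) ⟨b, hb⟩)
  intro p hp
  set E := P ⊓ Subgroup.centralizer ({t} : Set G) with hE
  have hEcard : Nat.card E = 1 := by
    have hdvd : Nat.card E ∣ 19 := hP ▸ Subgroup.card_dvd_of_le (inf_le_left : E ≤ P)
    rcases (Nat.dvd_prime (by norm_num)).mp hdvd with h | h
    · exact h
    · exfalso
      have hEP : E = P := Subgroup.eq_of_le_of_card_ge inf_le_left (by rw [h, hP])
      apply htC
      rw [Subgroup.mem_centralizer_iff]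
      intro q hq
      have hqE : q ∈ E := hEP ▸ hq
      exact Subgroup.mem_centralizer_singleton_iff.mp (Subgroup.mem_inf.mp hqE).2
  have htp : t * p * t ∈ P := by
    have := (Subgroup.mem_normalizer_iff.mp htN p).mp hp
    rwa [tinv] at this
  have hw : p * (t * p * t) ∈ E := by
    refine Subgroup.mem_inf.mpr ⟨P.mul_mem hp htp, ?_⟩
    rw [Subgroup.mem_centralizer_singleton_iff]
    have hc := hPcomm p hp _ htp
    calc p * (t * p * t) * t = (t * p * t * p) * t := by rw [hc]
      _ = t * (p * (t * p * t)) := by simp only [mul_assoc]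
  have hbot : E = ⊥ := Subgroup.card_eq_one.mp hEcard
  rw [hbot, Subgroup.mem_bot] at hw
  exact eq_inv_of_mul_eq_one_right hw

theorem conj_of_invert {G : Type*} [Group G] [Finite G] (P : Subgroup G) (hP : Nat.card P = 19)
    (t : G) (ht : t * t = 1) (hinv : ∀ p ∈ P, t * p * t = p⁻¹) (p : G) (hp : p ∈ P) :
    (p ^ 10) * t * (p ^ 10)⁻¹ = p * t := by
  have hp19 : p ^ 19 = 1 := by
    have := pow_card_eq_one' (G := P) (x := ⟨p, hp⟩)
    rw [hP] at this
    exact congrArg Subtype.val this
  have hq : (p ^ 10)⁻¹ ∈ P := P.inv_mem (P.pow_mem hp 10)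
  have h1 := hinv _ hq
  rw [inv_inv] at h1
  have e : p ^ 10 * t * (p ^ 10)⁻¹ = p ^ 10 * (t * (p ^ 10)⁻¹ * t) * t := by
    simp only [mul_assoc, ht, mul_one]
  rw [e, h1, ← pow_add]
  have : p ^ (10 + 10) = p := by
    calc p ^ (10 + 10) = p ^ 19 * p := by rw [← pow_succ]
      _ = p := by rw [hp19, one_mul]
  rw [this]

theorem orderOf_eq_19 {G : Type*} [Group G] [Finite G] (P : Subgroup G) (hP : Nat.card P = 19)
    (z : G) (hz : z ∈ P) (hz1 : z ≠ 1) : orderOf z = 19 := by
  have h1 : orderOf z ∣ 19 := by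
    have := Subgroup.orderOf_dvd_natCard P hz
    rwa [hP] at this
  rcases (Nat.dvd_prime (by norm_num)).mp h1 with h | h
  · exact absurd (orderOf_eq_one_iff.mp h) hz1
  · exact h

theorem div192 : ∀ n : ℕ, n ∣ 192 → n % 19 = 1 → n = 1 ∨ n = 96 := by
  intro n hn h
  have hle : n ≤ 192 := Nat.le_of_dvd (by norm_num) hn
  interval_cases n <;> omega


theorem orderOf_conj_inv {G : Type*} [Group G] (g z : G) : orderOf (g⁻¹ * z * g) = orderOf z := by
  have h := orderOf_injective (MulAut.conj g⁻¹).toMonoidHom (MulAut.conj g⁻¹).injective z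
  simpa [MulAut.conj_apply] using h

theorem no_simple_3648 {G : Type*} [Group G] [Finite G] [IsSimpleGroup G] :
    Nat.card G ≠ 3648 := by
  intro hcard
  classical
  haveI : Fact (Nat.Prime 19) := ⟨by norm_num⟩
  haveI : Fact (Nat.Prime 2) := ⟨Nat.prime_two⟩
  have hG : ∃ a b : G, a * b ≠ b * a :=
    helper5.nonabelian_of_card_not_prime (by rw [hcard]; norm_num)
  obtain ⟨P⟩ : Nonempty (Sylow 19 G) := inferInstance
  obtain ⟨hPcard', hPidx⟩ := helper5.sylow_card_of_card_eq P 1 192 (by rw [hcard]; norm_num) (by norm_num)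
  have hPcard : Nat.card (P : Subgroup G) = 19 := by simpa using hPcard'
  obtain ⟨hmod, hdvd, hmul⟩ := helper5.sylow_count_facts P
  have hPbot : (P : Subgroup G) ≠ ⊥ := helper5.sylow_ne_bot P (by rw [hcard]; norm_num)
  have hPtop : (P : Subgroup G) ≠ ⊤ := by
    intro h
    have := (Subgroup.card_eq_iff_eq_top _).mpr h
    rw [hPcard, hcard] at this; omega
  have hne1 := helper5.sylow_count_ne_one P hPbot hPtop
  have hn96 : Nat.card (Sylow 19 G) = 96 := by
    rw [hPidx] at hdvd
    rcases div192 _ hdvd hmod with h | h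
    · exact absurd h hne1
    · exact h
  set N := Subgroup.normalizer ((P : Subgroup G) : Set G) with hNdef
  have hNcard : Nat.card N = 38 := by
    rw [hn96, hcard] at hmul; omega
  have hPN : (P : Subgroup G) ≤ N := Subgroup.le_normalizer
  obtain ⟨⟨t, htN⟩, hto⟩ := exists_prime_orderOf_dvd_card' (G := N) 2 (by rw [hNcard]; norm_num)
  have hto' : orderOf t = 2 := by rwa [Subgroup.orderOf_mk] at hto
  have ht : t * t = 1 := by rw [← pow_two, ← hto']; exact pow_orderOf_eq_one t
  have ht1 : t ≠ 1 := by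
    intro h; rw [h, orderOf_one] at hto'; omega
  have tinv : t⁻¹ = t := inv_eq_of_mul_eq_one_right ht
  have htP : t ∉ (P : Subgroup G) := by
    intro h
    have := Subgroup.orderOf_dvd_natCard _ h
    rw [hPcard, hto'] at this; omega
  have hPcomm : (P : Subgroup G) ≤ Subgroup.centralizer ((P : Subgroup G) : Set G) := by
    haveI : IsCyclic (P : Subgroup G) := isCyclic_of_prime_card hPcard
    letI := IsCyclic.commGroup (α := (P : Subgroup G))
    intro a ha
    rw [Subgroup.mem_centralizer_iff]
    intro b hb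
    exact congrArg Subtype.val (mul_comm (⟨b, hb⟩ : (P : Subgroup G)) ⟨a, ha⟩)
  have htC : t ∉ Subgroup.centralizer ((P : Subgroup G) : Set G) := by
    intro htc
    apply helper5.burnside_simple hG P hPbot
    set D := Subgroup.centralizer ((P : Subgroup G) : Set G) ⊓ N with hD
    have hPD : (P : Subgroup G) ≤ D := le_inf hPcomm hPN
    have htD : t ∈ D := Subgroup.mem_inf.mpr ⟨htc, htN⟩
    have h19 : 19 ∣ Nat.card D := hPcard ▸ Subgroup.card_dvd_of_le hPD
    have h2 : 2 ∣ Nat.card D := by
      have := Subgroup.orderOf_dvd_natCard _ htD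
      rwa [hto'] at this
    have hD38 : Nat.card D ∣ 38 := hNcard ▸ Subgroup.card_dvd_of_le (inf_le_right : D ≤ N)
    have h38 : 38 ∣ Nat.card D :=
      Nat.Coprime.mul_dvd_of_dvd_of_dvd (by norm_num : Nat.Coprime 19 2) h19 h2
    have hDcard : Nat.card D = 38 := Nat.dvd_antisymm hD38 h38
    have hDN : D = N := Subgroup.eq_of_le_of_card_ge inf_le_right (by rw [hDcard, hNcard])
    have hfin : N ≤ Subgroup.centralizer ((P : Subgroup G) : Set G) := by
      rw [← hDN]; exact inf_le_left
    exact hfin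
  have hinv := invert_of_not_centralize (P : Subgroup G) hPcard t ht htN htC
  have hconj := conj_of_invert (P : Subgroup G) hPcard t ht hinv
  haveI : Fintype (P : Subgroup G) := Fintype.ofFinite _
  set T : Finset G := Finset.image (fun p : (P : Subgroup G) => (p : G) * t) Finset.univ with hT
  have hTcard : T.card = 19 := by
    rw [hT, Finset.card_image_of_injective _ (fun a b h => Subtype.ext (mul_right_cancel h)),
      Finset.card_univ, ← Nat.card_eq_fintype_card, hPcard]
  have hTmem : ∀ a, a ∈ T ↔ ∃ p ∈ (P : Subgroup G), a = p * t := by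
    intro a
    rw [hT, Finset.mem_image]
    constructor
    · rintro ⟨p, _, rfl⟩; exact ⟨p, p.2, rfl⟩
    · rintro ⟨p, hp, rfl⟩; exact ⟨⟨p, hp⟩, Finset.mem_univ _, rfl⟩
  have hTz : ∀ a ∈ T, ∀ b ∈ T, a ≠ b → a * b⁻¹ ∈ (P : Subgroup G) ∧ a * b⁻¹ ≠ 1 := by
    intro a ha b hb hab
    obtain ⟨p₁, hp₁, rfl⟩ := (hTmem a).mp ha
    obtain ⟨p₂, hp₂, rfl⟩ := (hTmem b).mp hb
    constructor
    · have : p₁ * t * (p₂ * t)⁻¹ = p₁ * p₂⁻¹ := by group
      rw [this]; exact (P : Subgroup G).mul_mem hp₁ ((P : Subgroup G).inv_mem hp₂)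
    · intro h
      exact hab (mul_inv_eq_one.mp h)
  -- the action on the cosets of N
  have hXcard : Nat.card (G ⧸ N) = 96 := by
    rw [← Subgroup.index_eq_card]
    have := N.card_mul_index
    rw [hNcard, hcard] at this; omega
  have hfix1 : t • ((1 : G) : G ⧸ N) = ((1 : G) : G ⧸ N) := by
    rw [fixed_iff]; simpa using htN
  have hX1 := card_mul_fix_le (G := G) (X := G ⧸ N) T {((1 : G) : G ⧸ N)} (fixN t (G ⧸ N))
    (fun a ha => by
      obtain ⟨p, hp, rfl⟩ := (hTmem a).mp ha
      rw [← hconj p hp]; exact fixN_conj _ _ _)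
    (fun a ha b hb hab x hax hbx => by
      obtain ⟨hz, hz1⟩ := hTz a ha b hb hab
      have hzx : (a * b⁻¹) • x = x := by
        rw [mul_smul, inv_smul_eq_iff.mpr hbx.symm, hax]
      have hord := orderOf_eq_19 _ hPcard _ hz hz1
      have hone := (Cfsg.Agent.S1018.result 19 P hPcard).1 _ hord
      have hz1' : (a * b⁻¹) • ((1 : G) : G ⧸ N) = ((1 : G) : G ⧸ N) := by
        rw [fixed_iff]; simpa using hPN hz
      rw [Finset.mem_singleton]
      have hsub : Subsingleton (MulAction.fixedBy (G ⧸ N) (a * b⁻¹)) :=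
        (Nat.card_eq_one_iff_unique.mp hone).1
      have := Subsingleton.elim (⟨x, hzx⟩ : MulAction.fixedBy (G ⧸ N) (a * b⁻¹)) ⟨_, hz1'⟩
      exact congrArg Subtype.val this)
  simp only [Finset.card_singleton, hTcard, hXcard] at hX1
  have hX2 := fixN_mod_four hG (X := G ⧸ N) t ht
  rw [hXcard] at hX2
  have hX3 : 1 ≤ fixN t (G ⧸ N) := by
    unfold fixN
    haveI : Nonempty {x : G ⧸ N // t • x = x} := ⟨⟨_, hfix1⟩⟩
    exact Nat.card_pos
  have hfX : fixN t (G ⧸ N) = 4 := by omega
  have h1019 := Cfsg.Agent.S1019.result N t htN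
  have hfb : Nat.card (MulAction.fixedBy (G ⧸ N) t) = 4 := hfX
  have hidxN : N.index = 96 := by rw [Subgroup.index_eq_card, hXcard]
  have hP'idx : ((P : Subgroup G).subgroupOf N).index = 2 := by
    have := ((P : Subgroup G).subgroupOf N).card_mul_index
    rw [Nat.card_congr (Subgroup.subgroupOfEquivOfLe hPN).toEquiv, hPcard, hNcard] at this
    omega
  have hcnt : Nat.card {g : G // IsConj t g ∧ g ∈ N} = 19 := by
    rw [← hTcard, ← Fintype.card_coe, ← Nat.card_eq_fintype_card]
    apply Nat.card_congr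
    apply Equiv.subtypeEquivRight
    intro g
    rw [hTmem]
    constructor
    · rintro ⟨hc, hgN⟩
      obtain ⟨c, hc⟩ := isConj_iff.mp hc
      have hgg : g * g = 1 := by
        rw [← hc]
        calc c * t * c⁻¹ * (c * t * c⁻¹) = c * (t * t) * c⁻¹ := by group
          _ = 1 := by rw [ht]; group
      have hgP : g ∉ (P : Subgroup G) := by
        intro hgP
        have h19 : g ^ 19 = 1 := by
          have := pow_card_eq_one' (G := (P : Subgroup G)) (x := ⟨g, hgP⟩)
          rw [hPcard] at this
          exact congrArg Subtype.val this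
        have h2 : g ^ 2 = 1 := by rw [pow_two]; exact hgg
        have hg1 : g = 1 := by
          have : g ^ 19 = (g ^ 2) ^ 9 * g := by rw [← pow_mul, ← pow_succ]
          rw [h2, one_pow, one_mul] at this
          rw [← this]; exact h19
        apply ht1
        rw [hg1] at hc
        have : t = c⁻¹ * (c * t * c⁻¹) * c := by group
        rw [this, hc]; group
      have hmem : (⟨g, hgN⟩ : N) * ⟨t, htN⟩ ∈ (P : Subgroup G).subgroupOf N := by
        rw [Subgroup.mul_mem_iff_of_index_two hP'idx]
        constructor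
        · intro h; exact absurd (Subgroup.mem_subgroupOf.mp h) hgP
        · intro h; exact absurd (Subgroup.mem_subgroupOf.mp h) htP
      refine ⟨g * t, Subgroup.mem_subgroupOf.mp hmem, ?_⟩
      rw [mul_assoc, ht, mul_one]
    · rintro ⟨p, hp, rfl⟩
      exact ⟨isConj_iff.mpr ⟨p ^ 10, hconj p hp⟩, N.mul_mem (hPN hp) htN⟩
  rw [hfb, hidxN, hcnt] at h1019
  have hcl : Nat.card {g : G // IsConj t g} = 456 := by omega
  have hCcard : Nat.card (Subgroup.centralizer ({t} : Set G)) = 8 := by
    have := card_conj_mul_card_centralizer' t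
    rw [hcl, hcard] at this; omega
  -- Sylow 2-subgroup containing t
  obtain ⟨S, hSle⟩ := IsPGroup.exists_le_sylow (p := 2) (P := Subgroup.zpowers t)
    (IsPGroup.of_card (n := 1) (by rw [Nat.card_zpowers, hto']; rfl))
  have htS : t ∈ (S : Subgroup G) := hSle (Subgroup.mem_zpowers t)
  obtain ⟨hScard', -⟩ := helper5.sylow_card_of_card_eq S 6 57 (by rw [hcard]; norm_num)
    (by norm_num)
  have hScard : Nat.card (S : Subgroup G) = 64 := by simpa using hScard'
  have hYcard : Nat.card (G ⧸ (S : Subgroup G)) = 57 := by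
    rw [← Subgroup.index_eq_card]
    have := (S : Subgroup G).card_mul_index
    rw [hScard, hcard] at this; omega
  have hY1 := card_mul_fix_le (G := G) (X := G ⧸ (S : Subgroup G)) T ∅
    (fixN t (G ⧸ (S : Subgroup G)))
    (fun a ha => by
      obtain ⟨p, hp, rfl⟩ := (hTmem a).mp ha
      rw [← hconj p hp]; exact fixN_conj _ _ _)
    (fun a ha b hb hab x hax hbx => by
      exfalso
      obtain ⟨hz, hz1⟩ := hTz a ha b hb hab
      have hzx : (a * b⁻¹) • x = x := by
        rw [mul_smul, inv_smul_eq_iff.mpr hbx.symm, hax]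
      have hmem := fixed_mem (S : Subgroup G) (a * b⁻¹) x hzx
      have hord := orderOf_eq_19 _ hPcard _ hz hz1
      have hdvd19 := Subgroup.orderOf_dvd_natCard _ hmem
      rw [orderOf_conj_inv, hord, hScard] at hdvd19
      omega)
  simp only [Finset.card_empty, hTcard, hYcard, Nat.sub_zero, add_zero] at hY1
  have hY2 := fixN_mod_four hG (X := G ⧸ (S : Subgroup G)) t ht
  rw [hYcard] at hY2
  have hfY : fixN t (G ⧸ (S : Subgroup G)) = 1 := by omega
  have huniq : ∀ g : G, g⁻¹ * t * g ∈ (S : Subgroup G) → g ∈ (S : Subgroup G) := by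
    intro g hg
    have h1 : t • ((g : G) : G ⧸ (S : Subgroup G)) = g := (fixed_iff _ t g).mpr hg
    have h2 : t • ((1 : G) : G ⧸ (S : Subgroup G)) = (1 : G) :=
      (fixed_iff _ t 1).mpr (by simpa using htS)
    have hsub : Subsingleton {x : G ⧸ (S : Subgroup G) // t • x = x} :=
      (Nat.card_eq_one_iff_unique.mp hfY).1
    have := congrArg Subtype.val (Subsingleton.elim
      (⟨_, h2⟩ : {x : G ⧸ (S : Subgroup G) // t • x = x}) ⟨_, h1⟩)
    rw [QuotientGroup.eq] at this
    simpa using this
  set C := Subgroup.centralizer ({t} : Set G) with hCdef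
  have hCS : C ≤ (S : Subgroup G) := by
    have hCpg : IsPGroup 2 C := IsPGroup.of_card (n := 3) (by rw [hCcard]; rfl)
    obtain ⟨Q, hQ⟩ := hCpg.exists_le_sylow
    obtain ⟨g, hg⟩ := MulAction.exists_smul_eq G S Q
    have htQ : t ∈ (g • S : Sylow 2 G) := by
      rw [hg]; exact hQ (Subgroup.mem_centralizer_singleton_iff.mpr rfl)
    have htQ2 := (helper5.mem_smul_sylow_iff g t S).mp htQ
    have hgS := huniq g htQ2
    have hgS' : g • S = S :=
      Sylow.smul_eq_iff_mem_normalizer.mpr (Subgroup.le_normalizer hgS)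
    rw [← hgS', hg]; exact hQ
  -- pass to the group S
  set S' : Subgroup G := (S : Subgroup G) with hS'
  let t' : S' := ⟨t, htS⟩
  have ht' : t' * t' = 1 := Subtype.ext ht
  have ht1' : t' ≠ 1 := fun h => ht1 (congrArg Subtype.val h)
  have hC' : Nat.card (Subgroup.centralizer ({t'} : Set S')) = 8 := by
    have : Subgroup.centralizer ({t'} : Set S') = C.subgroupOf S' := by
      ext x
      rw [Subgroup.mem_centralizer_singleton_iff, Subgroup.mem_subgroupOf,
        Subgroup.mem_centralizer_singleton_iff]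
      constructor
      · intro h; exact congrArg Subtype.val h
      · intro h; exact Subtype.ext h
    rw [this, Nat.card_congr (Subgroup.subgroupOfEquivOfLe hCS).toEquiv, hCcard]
  have hT1 : t' ∈ commutator S' := by
    have := mem_commutator_of_unique hG S' t ht htS huniq
    rw [← Subgroup.map_subtype_commutator] at this
    obtain ⟨x, hx, hxt⟩ := this
    have : x = t' := Subtype.ext hxt
    rwa [this] at hx
  have hT2 : ∀ M : Subgroup S', M.index = 2 → ∀ s : S', t' * (s * t' * s⁻¹) ∈ ⁅M, M⁆ := by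
    intro M hM s
    haveI : M.Normal := Subgroup.normal_of_index_eq_two hM
    have htM : t' ∈ M := by
      have hq : Nat.card (S' ⧸ M) = 2 := by rw [← Subgroup.index_eq_card, hM]
      haveI : IsCyclic (S' ⧸ M) := isCyclic_of_prime_card hq
      letI : CommGroup (S' ⧸ M) := IsCyclic.commGroup
      have := Abelianization.commutator_subset_ker (QuotientGroup.mk' M)
      rw [QuotientGroup.ker_mk'] at this
      exact this hT1
    by_cases hs : s ∈ M
    · have hcm := Subgroup.commutator_mem_commutator htM hs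
      rw [commutatorElement_def] at hcm
      have hti : t'⁻¹ = t' := inv_eq_of_mul_eq_one_right ht'
      have e : t' * (s * t' * s⁻¹) = t' * s * t'⁻¹ * s⁻¹ := by rw [hti]; group
      rw [e]; exact hcm
    · set MG : Subgroup G := M.map S'.subtype with hMG
      have hMGS : MG ≤ S' := by
        rintro _ ⟨x, _, rfl⟩; exact x.2
      have hmemMG : ∀ x : S', (x : G) ∈ MG ↔ x ∈ M := by
        intro x
        constructor
        · rintro ⟨y, hy, hyx⟩
          have : y = x := Subtype.ext hyx
          rwa [← this]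
        · intro h; exact ⟨x, h, rfl⟩
      have hs0 : ((s⁻¹ : S') : G) ∉ MG := by
        rw [hmemMG]; exact fun h => hs (by simpa using M.inv_mem h)
      have hidx : ∀ x ∈ S', x ∈ MG ∨ ((s⁻¹ : S') : G)⁻¹ * x ∈ MG := by
        intro x hx
        by_cases hxM : (⟨x, hx⟩ : S') ∈ M
        · left; exact (hmemMG ⟨x, hx⟩).mpr hxM
        · right
          have h1 : s * ⟨x, hx⟩ ∈ M := by
            rw [Subgroup.mul_mem_iff_of_index_two hM]
            exact ⟨fun h => absurd h hs, fun h => absurd h hxM⟩
          have h2 := (hmemMG (s * ⟨x, hx⟩)).mpr h1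
          simpa using h2
      have hnorm : ((s⁻¹ : S') : G)⁻¹ * t * ((s⁻¹ : S') : G) ∈ MG := by
        have h1 : s * t' * s⁻¹ ∈ M := (inferInstance : M.Normal).conj_mem t' htM s
        have h2 := (hmemMG (s * t' * s⁻¹)).mpr h1
        simpa using h2
      have key := mul_conj_mem_commutator hG S' MG hMGS t ht ((hmemMG t').mpr htM) huniq
        ((s⁻¹ : S') : G) hs0 hidx hnorm
      rw [hMG, ← Subgroup.map_commutator] at key
      obtain ⟨y, hy, hyx⟩ := key
      have : y = t' * (s * t' * s⁻¹) := by
        apply Subtype.ext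
        have hyx' : (y : G) = t * (((s⁻¹ : S') : G)⁻¹ * t * ((s⁻¹ : S') : G)) := hyx
        rw [hyx']
        simp [t']
      rwa [this] at hy
  exact endgame hScard t' ht' ht1' hC' hT1 hT2

end Cfsg.Agent.helper27.O3648
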