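import Mathlib
import Cfsg.Agent.Lib_helper5_Simple
import Cfsg.Agent.Lib_helper27_O3648a
import Cfsg.Agent.Lib_helper27_O3648b
import Cfsg.Agent.Lib_helper27_O3648d

set_option autoImplicit false
set_option linter.style.haveILetI false

namespace Cfsg.Agent.helper27.O5472

open Subgroup Cfsg.Agent.helper27.O3648

open scoped IsMulCommutative in
/-- Transfer: in a non-abelian simple group, no nonidentity element of an abelian Sylow subgroup
is centralized by the whole normalizer. -/
theorem transfer_kill {G : Type*} [Group G] [Finite G] [IsSimpleGroup G]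
    (hG : ∃ a b : G, a * b ≠ b * a) {p : ℕ} [Fact p.Prime] (Q : Sylow p G)
    [hQ : IsMulCommutative Q] (a : G) (ha : a ∈ Q) (ha1 : a ≠ 1)
    (hN : ∀ n ∈ normalizer ((Q : Subgroup G) : Set G), n * a = a * n) : False := by
  classical
  have key : ∀ (k : ℕ) (g₀ : G), g₀⁻¹ * a ^ k * g₀ ∈ (Q : Subgroup G) →
      g₀⁻¹ * a ^ k * g₀ = a ^ k := by
    intro k g₀ h
    obtain ⟨n, hn, h'⟩ := Q.conj_eq_normalizer_conj_of_mem (a ^ k) g₀ (pow_mem ha k) h
    rw [h']
    have hc : Commute n a := hN n hn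
    have hc' : Commute n (a ^ k) := hc.pow_right k
    exact hc'.inv_mul_cancel
  have h1 := MonoidHom.transfer_eq_pow (MonoidHom.id ↥(Q : Subgroup G)) a key
  have h2 : (MonoidHom.id ↥(Q : Subgroup G)).transfer a = 1 := hom_to_comm_trivial hG _ a
  rw [h2] at h1
  have h3 : a ^ (Q : Subgroup G).index = 1 := by
    have := congrArg Subtype.val h1
    simpa using this.symm
  have h4 : orderOf a ∣ (Q : Subgroup G).index := orderOf_dvd_of_pow_eq_one h3
  have h5 : orderOf a ∣ Nat.card (Q : Subgroup G) := Subgroup.orderOf_dvd_natCard _ ha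
  have h6 : (Nat.card (Q : Subgroup G)).Coprime (Q : Subgroup G).index := Q.card_coprime_index
  have h7 : orderOf a = 1 := Nat.eq_one_of_dvd_coprimes h6 h5 h4
  exact ha1 (orderOf_eq_one_iff.mp h7)

/-- the orbit of `x` under conjugation by `H` -/
def orb {G : Type*} [Group G] (H : Subgroup G) (x : G) : Set G := {y | ∃ n ∈ H, n * x * n⁻¹ = y}

theorem orb_card {G : Type*} [Group G] [Finite G] (H : Subgroup G) (x : G) (hx : x ∈ H) :
    (orb H x).ncard * Nat.card ↥(H ⊓ centralizer ({x} : Set G)) = Nat.card H := by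
  have h := card_conj_mul_card_centralizer' (G := H) ⟨x, hx⟩
  rw [← h]
  congr 1
  · rw [← Nat.card_coe_set_eq]
    apply Nat.card_congr
    refine ⟨fun y => ⟨⟨y.1, ?_⟩, ?_⟩, fun y => ⟨y.1.1, ?_⟩, ?_, ?_⟩
    · obtain ⟨n, hn, hy⟩ := y.2
      rw [← hy]
      exact H.mul_mem (H.mul_mem hn hx) (H.inv_mem hn)
    · obtain ⟨n, hn, hy⟩ := y.2
      rw [isConj_iff]
      exact ⟨⟨n, hn⟩, Subtype.ext (by simpa using hy)⟩
    · obtain ⟨c, hc⟩ := isConj_iff.mp y.2
      exact ⟨c.1, c.2, by simpa using congrArg Subtype.val hc⟩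
    · intro y; rfl
    · intro y; rfl
  · apply Nat.card_congr
    refine ⟨fun y => ⟨⟨y.1, (Subgroup.mem_inf.mp y.2).1⟩, ?_⟩, fun y => ⟨y.1.1, ?_⟩, ?_, ?_⟩
    · rw [Subgroup.mem_centralizer_singleton_iff]
      exact Subtype.ext (Subgroup.mem_centralizer_singleton_iff.mp (Subgroup.mem_inf.mp y.2).2)
    · refine Subgroup.mem_inf.mpr ⟨y.1.2, ?_⟩
      rw [Subgroup.mem_centralizer_singleton_iff]
      exact congrArg Subtype.val (Subgroup.mem_centralizer_singleton_iff.mp y.2)
    · intro y; rfl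
    · intro y; rfl

/-- a conjugation-invariant set all of whose classes have size divisible by `d` has size
divisible by `d`. -/
theorem dvd_ncard_of_class {G : Type*} [Group G] [Finite G] (S : Set G) (d : ℕ)
    (hS : ∀ g ∈ S, ∀ h : G, h * g * h⁻¹ ∈ S)
    (hd : ∀ g ∈ S, d ∣ Nat.card {x : G // IsConj g x}) : d ∣ S.ncard := by
  classical
  haveI := Fintype.ofFinite G
  rw [Set.ncard_eq_toFinset_card']
  rw [Finset.card_eq_sum_card_fiberwise (f := fun g : G => ConjClasses.mk g)
    (t := S.toFinset.image (fun g : G => ConjClasses.mk g))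
    (fun g hg => Finset.mem_image_of_mem _ hg)]
  apply Finset.dvd_sum
  intro c hc
  obtain ⟨g, hg, rfl⟩ := Finset.mem_image.mp hc
  have hgS : g ∈ S := Set.mem_toFinset.mp hg
  have : (S.toFinset.filter (fun a => ConjClasses.mk a = ConjClasses.mk g)).card =
      Nat.card {x : G // IsConj g x} := by
    rw [Nat.card_eq_fintype_card, Fintype.card_subtype]
    congr 1
    ext a
    simp only [Finset.mem_filter, Set.mem_toFinset, Finset.mem_univ, true_and]
    constructor
    · rintro ⟨_, h⟩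
      exact (ConjClasses.mk_eq_mk_iff_isConj.mp h).symm
    · intro h
      obtain ⟨c, hc⟩ := isConj_iff.mp h
      refine ⟨?_, (ConjClasses.mk_eq_mk_iff_isConj.mpr h).symm⟩
      rw [← hc]
      exact hS g hgS c
  rw [this]
  exact hd g hgS

end Cfsg.Agent.helper27.O5472
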