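import Mathlib
import Cfsg.Agent.Lib_helper5_Simple
import Cfsg.Agent.Lib_helper11_O504a
import Cfsg.Agent.S1018
import Cfsg.Agent.S1019
import Cfsg.Agent.Lib_helper27_O5472a

set_option autoImplicit false
set_option linter.style.haveILetI false

namespace Cfsg.Agent.helper27.O5472

open Subgroup Cfsg.Agent.helper27.O3648

/-- number of elements of prime order `p` when Sylow `p`-subgroups have order `p`. -/
theorem card_orderOf_eq_prime {G : Type*} [Group G] [Finite G] {p : ℕ} [hp : Fact p.Prime]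
    (hS : ∀ P : Sylow p G, Nat.card P = p) :
    Nat.card {g : G // orderOf g = p} = (p - 1) * Nat.card (Sylow p G) := by
  classical
  haveI := Fintype.ofFinite (Sylow p G)
  have hex : ∀ g : {g : G // orderOf g = p}, ∃ Q : Sylow p G, zpowers g.1 ≤ Q := by
    intro g
    apply IsPGroup.exists_le_sylow
    apply IsPGroup.of_card (n := 1)
    rw [Nat.card_zpowers, g.2, pow_one]
  let F : {g : G // orderOf g = p} → Sylow p G := fun g => Classical.choose (hex g)
  have hF : ∀ g, zpowers g.1 ≤ (F g : Subgroup G) := fun g => Classical.choose_spec (hex g)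
  have hFeq : ∀ g, (F g : Subgroup G) = zpowers g.1 := by
    intro g
    symm
    apply Subgroup.eq_of_le_of_card_ge (hF g)
    rw [hS, Nat.card_zpowers, g.2]
  rw [← Nat.card_congr (Equiv.sigmaFiberEquiv F), Nat.card_sigma]
  have hfib : ∀ P : Sylow p G, Nat.card {x // F x = P} = p - 1 := by
    intro P
    have h1 : Nat.card {x // F x = P} = Nat.card {g : (P : Subgroup G) // g ≠ 1} := by
      apply Nat.card_congr
      refine ⟨fun x => ⟨⟨x.1.1, ?_⟩, ?_⟩, fun g => ⟨⟨g.1.1, ?_⟩, ?_⟩, ?_, ?_⟩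
      · have := hF x.1
        rw [x.2] at this
        exact this (mem_zpowers _)
      · intro h
        have h1 : x.1.1 = 1 := congrArg Subtype.val h
        have := x.1.2
        rw [h1, orderOf_one] at this
        exact hp.out.one_lt.ne this
      · have hd : orderOf g.1.1 ∣ p := by
          have := Subgroup.orderOf_dvd_natCard _ g.1.2
          rwa [hS] at this
        rcases (Nat.dvd_prime hp.out).mp hd with h | h
        · exfalso
          apply g.2
          exact Subtype.ext (orderOf_eq_one_iff.mp h)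
        · exact h
      · apply Sylow.ext
        rw [hFeq]
        apply Subgroup.eq_of_le_of_card_ge
        · rw [zpowers_le]; exact g.1.2
        · show Nat.card (P : Subgroup G) ≤ Nat.card (zpowers (g.1.1 : G))
          rw [hS, Nat.card_zpowers]
          have hd : orderOf g.1.1 ∣ p := by
            have := Subgroup.orderOf_dvd_natCard _ g.1.2
            rwa [hS] at this
          rcases (Nat.dvd_prime hp.out).mp hd with h | h
          · exfalso
            apply g.2
            exact Subtype.ext (orderOf_eq_one_iff.mp h)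
          · exact h.ge
      · intro x; rfl
      · intro g; rfl
    rw [h1]
    have h2 : Nat.card {g : (P : Subgroup G) // g ≠ 1} = Nat.card (P : Subgroup G) - 1 := by
      haveI := Fintype.ofFinite (P : Subgroup G)
      rw [Nat.card_eq_fintype_card, Nat.card_eq_fintype_card, Fintype.card_subtype_compl,
        Fintype.card_subtype_eq]
    rw [h2, hS]
  simp only [hfib, Finset.sum_const, Finset.card_univ, smul_eq_mul, Nat.card_eq_fintype_card]
  ring


theorem div288 : ∀ n : ℕ, n ∣ 288 → n % 19 = 1 → n = 1 ∨ n = 96 := by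
  intro n hn h
  have hle : n ≤ 288 := Nat.le_of_dvd (by norm_num) hn
  interval_cases n <;> omega

theorem card_le_card_subtype {α : Type*} [Finite α] (p : α → Prop) [DecidableEq α]
    (S : Finset α) (h : ∀ a ∈ S, p a) : S.card ≤ Nat.card {a // p a} := by
  classical
  haveI := Fintype.ofFinite α
  rw [Nat.card_eq_fintype_card, Fintype.card_subtype]
  apply Finset.card_le_card
  intro a ha
  simp [h a ha]

theorem centralizer_singleton_eq_zpowers {G : Type*} [Group G] (g : G) :
    centralizer ({g} : Set G) = centralizer ((zpowers g : Subgroup G) : Set G) := by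
  ext h
  rw [mem_centralizer_singleton_iff, mem_centralizer_iff]
  constructor
  · intro hc k hk
    obtain ⟨i, rfl⟩ := mem_zpowers_iff.mp hk
    have hc' : Commute g h := hc.symm
    exact (hc'.zpow_left i).eq
  · intro hc
    exact (hc g (mem_zpowers g)).symm

/-- the Sylow 19 package -/
theorem sylow19_facts {G : Type*} [Group G] [Finite G] [IsSimpleGroup G]
    (hcard : Nat.card G = 5472) (hG : ∃ a b : G, a * b ≠ b * a)
    [Fact (Nat.Prime 19)] (P : Sylow 19 G) :
    Nat.card (P : Subgroup G) = 19 ∧ Nat.card (Sylow 19 G) = 96 ∧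
      Nat.card (normalizer ((P : Subgroup G) : Set G)) = 57 ∧
      Nat.card (centralizer ((P : Subgroup G) : Set G)) = 19 := by
  classical
  obtain ⟨hPcard', hPidx⟩ := helper5.sylow_card_of_card_eq P 1 288 (by rw [hcard]; norm_num) (by norm_num)
  have hPcard : Nat.card (P : Subgroup G) = 19 := by simpa using hPcard'
  obtain ⟨hmod, hdvd, hmul⟩ := helper5.sylow_count_facts P
  have hPbot : (P : Subgroup G) ≠ ⊥ := helper5.sylow_ne_bot P (by rw [hcard]; norm_num)
  have hPtop : (P : Subgroup G) ≠ ⊤ := by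
    intro h
    have := (Subgroup.card_eq_iff_eq_top _).mpr h
    rw [hPcard, hcard] at this; omega
  have hne1 := helper5.sylow_count_ne_one P hPbot hPtop
  have hn96 : Nat.card (Sylow 19 G) = 96 := by
    rw [hPidx] at hdvd
    rcases div288 _ hdvd hmod with h | h
    · exact absurd h hne1
    · exact h
  have hNcard : Nat.card (normalizer ((P : Subgroup G) : Set G)) = 57 := by
    rw [hn96, hcard] at hmul; omega
  refine ⟨hPcard, hn96, hNcard, ?_⟩
  have hcyc : IsCyclic (P : Subgroup G) := isCyclic_of_prime_card hPcard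
  obtain ⟨r, hr, hr1, hrt, hrd⟩ := helper5.automizer_facts hG P hPbot hcyc
  rw [hPcard] at hrt
  rw [hn96, hPidx] at hrd
  have hr3 : r = 3 := by
    have h18 : r ∣ 18 := by
      have : Nat.totient 19 = 18 := Nat.totient_prime (by norm_num)
      rwa [this] at hrt
    have h3 : r ∣ 3 := by
      have : r * 96 ∣ 3 * 96 := by simpa using hrd
      exact Nat.dvd_of_mul_dvd_mul_right (by norm_num) this
    rcases (Nat.dvd_prime Nat.prime_three).mp h3 with h | h
    · exact absurd h hr1
    · exact h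
  have hCN : centralizer ((P : Subgroup G) : Set G) ≤ normalizer ((P : Subgroup G) : Set G) :=
    Subgroup.centralizer_le_normalizer _
  have h1 := Subgroup.relIndex_mul_relIndex ⊥ _ _ bot_le hCN
  rw [Subgroup.relIndex_bot_left, Subgroup.relIndex_bot_left, ← hr, hr3, hNcard] at h1
  omega

theorem card_centralizer_of_orderOf_19 {G : Type*} [Group G] [Finite G] [IsSimpleGroup G]
    (hcard : Nat.card G = 5472) (hG : ∃ a b : G, a * b ≠ b * a) (g : G) (hg : orderOf g = 19) :
    Nat.card (centralizer ({g} : Set G)) = 19 := by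
  haveI : Fact (Nat.Prime 19) := ⟨by norm_num⟩
  have hz : Nat.card (zpowers g) = 19 := by rw [Nat.card_zpowers, hg]
  obtain ⟨P', hP'⟩ := IsPGroup.exists_le_sylow (p := 19) (P := zpowers g)
    (IsPGroup.of_card (n := 1) (by rw [hz, pow_one]))
  have hfacts := sylow19_facts hcard hG P'
  have heq : zpowers g = (P' : Subgroup G) :=
    Subgroup.eq_of_le_of_card_ge hP' (by rw [hfacts.1, hz])
  have h := hfacts.2.2.2
  rw [← heq] at h
  rw [centralizer_singleton_eq_zpowers]
  exact h


/-- exact cover version of `card_mul_fix_le` -/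
theorem exists_fix_of_card_eq {G : Type*} [Group G] {X : Type*} [Finite X] [MulAction G X]
    [DecidableEq G] [DecidableEq X]
    (T : Finset G) (E : Finset X) (f : ℕ)
    (hf : ∀ a ∈ T, fixN a X = f)
    (hT : ∀ a ∈ T, ∀ b ∈ T, a ≠ b → ∀ x : X, a • x = x → b • x = x → x ∈ E)
    (heq : T.card * (f - E.card) + E.card = Nat.card X) :
    ∀ β : X, β ∉ E → ∃ a ∈ T, a • β = β := by
  classical
  haveI := Fintype.ofFinite X
  let F : G → Finset X := fun a => (Finset.univ.filter (fun x : X => a • x = x)) \ E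
  have hdisj : (T : Set G).PairwiseDisjoint F := by
    intro a ha b hb hab
    rw [Function.onFun, Finset.disjoint_left]
    intro x hxa hxb
    simp only [F, Finset.mem_sdiff, Finset.mem_filter, Finset.mem_univ, true_and] at hxa hxb
    exact hxa.2 (hT a ha b hb hab x hxa.1 hxb.1)
  have hcard : (T.biUnion F).card = ∑ a ∈ T, (F a).card := Finset.card_biUnion hdisj
  have hsub : T.biUnion F ⊆ Finset.univ \ E := by
    intro x hx
    rw [Finset.mem_biUnion] at hx
    obtain ⟨a, _, hxa⟩ := hx
    simp only [F, Finset.mem_sdiff, Finset.mem_filter, Finset.mem_univ, true_and] at hxa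
    simp [hxa.2]
  have h1 : ∀ a ∈ T, f - E.card ≤ (F a).card := by
    intro a ha
    have h2 : (Finset.univ.filter (fun x : X => a • x = x)).card = f := by
      rw [← hf a ha]
      unfold fixN
      rw [Nat.card_eq_fintype_card, Fintype.card_subtype]
    have h3 := Finset.le_card_sdiff E (Finset.univ.filter (fun x : X => a • x = x))
    simp only [F]
    omega
  have h4 : T.card * (f - E.card) ≤ ∑ a ∈ T, (F a).card := by
    rw [← smul_eq_mul, ← Finset.sum_const]
    exact Finset.sum_le_sum h1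
  have h6 : (Finset.univ \ E : Finset X).card = Fintype.card X - E.card := by
    rw [Finset.card_sdiff_of_subset (Finset.subset_univ E), Finset.card_univ]
  have h7 : E.card ≤ Fintype.card X := Finset.card_le_univ E
  rw [Nat.card_eq_fintype_card] at heq
  have h8 : (Finset.univ \ E : Finset X).card ≤ (T.biUnion F).card := by omega
  have h9 : T.biUnion F = Finset.univ \ E := Finset.eq_of_subset_of_card_le hsub h8
  intro β hβ
  have hmem : β ∈ T.biUnion F := by rw [h9]; simp [hβ]
  obtain ⟨a, ha, hβa⟩ := Finset.mem_biUnion.mp hmem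
  refine ⟨a, ha, ?_⟩
  simp only [F, Finset.mem_sdiff, Finset.mem_filter, Finset.mem_univ, true_and] at hβa
  exact hβa.1

open Classical in
/-- the `P`-conjugates of `x` -/
noncomputable def TT {G : Type*} [Group G] [Finite G] (P : Subgroup G) (x : G) : Finset G :=
  haveI := Fintype.ofFinite P
  Finset.image (fun p : P => (p : G) * x * (p : G)⁻¹) Finset.univ

theorem mem_TT {G : Type*} [Group G] [Finite G] (P : Subgroup G) (x a : G) :
    a ∈ TT P x ↔ ∃ p ∈ P, a = p * x * p⁻¹ := by
  classical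
  letI := Fintype.ofFinite P
  unfold TT
  rw [Finset.mem_image]
  constructor
  · rintro ⟨p, _, rfl⟩; exact ⟨p, p.2, rfl⟩
  · rintro ⟨p, hp, rfl⟩; exact ⟨⟨p, hp⟩, Finset.mem_univ _, rfl⟩

/-- the standing hypotheses on the Sylow 19-subgroup `P` and an element `x` of order 3 in its
normalizer -/
structure Ctx (G : Type*) [Group G] [Finite G] (P : Subgroup G) (x : G) : Prop where
  hcard : Nat.card G = 5472
  hPcard : Nat.card P = 19
  hA : Nat.card (normalizer (P : Set G)) = 57
  hC19 : ∀ g : G, orderOf g = 19 → Nat.card (centralizer ({g} : Set G)) = 19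
  hone : ∀ y : G, orderOf y = 19 →
    Nat.card (MulAction.fixedBy (G ⧸ normalizer (P : Set G)) y) = 1
  hxA : x ∈ normalizer (P : Set G)
  hx3 : orderOf x = 3

theorem ctx_of {G : Type*} [Group G] [Finite G] [IsSimpleGroup G]
    (hcard : Nat.card G = 5472) (hG : ∃ a b : G, a * b ≠ b * a)
    [Fact (Nat.Prime 19)] (P : Sylow 19 G) (x : G)
    (hxA : x ∈ normalizer ((P : Subgroup G) : Set G)) (hx3 : orderOf x = 3) :
    Ctx G (P : Subgroup G) x := by
  obtain ⟨h1, -, h3, -⟩ := sylow19_facts hcard hG P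
  exact ⟨hcard, h1, h3, card_centralizer_of_orderOf_19 hcard hG,
    (Cfsg.Agent.S1018.result 19 P h1).1, hxA, hx3⟩

section ctx

variable {G : Type*} [Group G] [Finite G] {P : Subgroup G} {x : G}

theorem Ctx.inv (h : Ctx G P x) : Ctx G P x⁻¹ :=
  ⟨h.hcard, h.hPcard, h.hA, h.hC19, h.hone, (normalizer (P : Set G)).inv_mem h.hxA,
    by rw [orderOf_inv]; exact h.hx3⟩

theorem Ctx.not_comm (h : Ctx G P x) (r : G) (hr : r ∈ P) (hr1 : r ≠ 1) : r * x ≠ x * r := by
  intro hc
  have hord := orderOf_eq_19 P h.hPcard r hr hr1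
  have hx : x ∈ centralizer ({r} : Set G) := mem_centralizer_singleton_iff.mpr hc.symm
  have := Subgroup.orderOf_dvd_natCard _ hx
  rw [h.hC19 r hord, h.hx3] at this
  omega

theorem Ctx.x_not_mem (h : Ctx G P x) : x ∉ P := by
  intro hx
  have := Subgroup.orderOf_dvd_natCard _ hx
  rw [h.hPcard, h.hx3] at this; omega

theorem Ctx.conj_inj (h : Ctx G P x) (p p' : G) (hp : p ∈ P) (hp' : p' ∈ P)
    (e : p * x * p⁻¹ = p' * x * p'⁻¹) : p = p' := by
  by_contra hne
  apply h.not_comm (p'⁻¹ * p) (P.mul_mem (P.inv_mem hp') hp)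
    (fun h1 => hne (inv_mul_eq_one.mp h1).symm)
  have : p'⁻¹ * (p * x * p⁻¹) * p = p'⁻¹ * (p' * x * p'⁻¹) * p := by rw [e]
  simpa [mul_assoc] using this

theorem Ctx.card_TT (h : Ctx G P x) : (TT P x).card = 19 := by
  classical
  letI := Fintype.ofFinite P
  unfold TT
  rw [Finset.card_image_of_injective, Finset.card_univ, ← Nat.card_eq_fintype_card, h.hPcard]
  intro a b e
  exact Subtype.ext (h.conj_inj a b a.2 b.2 e)

theorem Ctx.TT_quot (h : Ctx G P x) (a b : G) (ha : a ∈ TT P x) (hb : b ∈ TT P x)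
    (hab : a ≠ b) : a * b⁻¹ ∈ P ∧ a * b⁻¹ ≠ 1 := by
  obtain ⟨p, hp, rfl⟩ := (mem_TT P x a).mp ha
  obtain ⟨p', hp', rfl⟩ := (mem_TT P x b).mp hb
  refine ⟨?_, fun h1 => hab (mul_inv_eq_one.mp h1)⟩
  have hx := (Subgroup.mem_normalizer_iff.mp h.hxA (p⁻¹ * p')).mp
    (P.mul_mem (P.inv_mem hp) hp')
  have e : p * x * p⁻¹ * (p' * x * p'⁻¹)⁻¹ = p * (x * (p⁻¹ * p') * x⁻¹) * p'⁻¹ := by group
  rw [e]
  exact P.mul_mem (P.mul_mem hp hx) (P.inv_mem hp')

theorem Ctx.two_fix (h : Ctx G P x) (z : G) (hz : orderOf z = 19)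
    (α β : G ⧸ normalizer (P : Set G)) (hα : z • α = α) (hβ : z • β = β) : α = β := by
  have hone := h.hone _ hz
  have hsub : Subsingleton (MulAction.fixedBy (G ⧸ normalizer (P : Set G)) z) :=
    (Nat.card_eq_one_iff_unique.mp hone).1
  have := Subsingleton.elim (⟨α, hα⟩ : MulAction.fixedBy (G ⧸ normalizer (P : Set G)) z)
    ⟨β, hβ⟩
  exact congrArg Subtype.val this

theorem Ctx.common_fix (h : Ctx G P x) (a b : G) (ha : a ∈ TT P x) (hb : b ∈ TT P x)
    (hab : a ≠ b) (β : G ⧸ normalizer (P : Set G)) (haβ : a • β = β) (hbβ : b • β = β) :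
    β = ((1 : G) : G ⧸ normalizer (P : Set G)) := by
  obtain ⟨hz, hz1⟩ := h.TT_quot a b ha hb hab
  have hzx : (a * b⁻¹) • β = β := by rw [mul_smul, inv_smul_eq_iff.mpr hbβ.symm, haβ]
  have hord := orderOf_eq_19 _ h.hPcard _ hz hz1
  have hz1' : (a * b⁻¹) • ((1 : G) : G ⧸ normalizer (P : Set G)) = ((1 : G) : G ⧸ _) := by
    rw [fixed_iff]; simpa using Subgroup.le_normalizer hz
  exact h.two_fix _ hord _ _ hzx hz1'

theorem Ctx.fix_TT (h : Ctx G P x) (a : G) (ha : a ∈ TT P x) :
    fixN a (G ⧸ normalizer (P : Set G)) = fixN x (G ⧸ normalizer (P : Set G)) := by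
  obtain ⟨p, hp, rfl⟩ := (mem_TT P x a).mp ha
  exact fixN_conj _ _ _

theorem Ctx.card_quot (h : Ctx G P x) : Nat.card (G ⧸ normalizer (P : Set G)) = 96 := by
  rw [← Subgroup.index_eq_card]
  have := (normalizer (P : Set G)).card_mul_index
  rw [h.hA, h.hcard] at this; omega

theorem Ctx.fix_le (h : Ctx G P x) : fixN x (G ⧸ normalizer (P : Set G)) ≤ 6 := by
  classical
  have h1 := card_mul_fix_le (G := G) (X := G ⧸ normalizer (P : Set G)) (TT P x)
    {((1 : G) : G ⧸ normalizer (P : Set G))} (fixN x (G ⧸ normalizer (P : Set G)))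
    (fun a ha => h.fix_TT a ha)
    (fun a ha b hb hab β h1 h2 => by
      rw [Finset.mem_singleton]; exact h.common_fix a b ha hb hab β h1 h2)
  simp only [Finset.card_singleton, h.card_TT, h.card_quot] at h1
  omega

theorem Ctx.cover (h : Ctx G P x) (hf : fixN x (G ⧸ normalizer (P : Set G)) = 6)
    (β : G ⧸ normalizer (P : Set G)) (hβ : β ≠ ((1 : G) : G ⧸ normalizer (P : Set G))) :
    ∃ a ∈ TT P x, a • β = β := by
  classical
  apply exists_fix_of_card_eq (G := G) (X := G ⧸ normalizer (P : Set G)) (TT P x)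
    {((1 : G) : G ⧸ normalizer (P : Set G))} 6
    (fun a ha => by rw [h.fix_TT a ha, hf])
    (fun a ha b hb hab β h1 h2 => by
      rw [Finset.mem_singleton]; exact h.common_fix a b ha hb hab β h1 h2)
    (by rw [Finset.card_singleton, h.card_TT, h.card_quot]) β
    (by rw [Finset.mem_singleton]; exact hβ)

theorem Ctx.TT_disjoint (h : Ctx G P x) (a : G) (ha : a ∈ TT P x) (ha' : a ∈ TT P x⁻¹) :
    False := by
  obtain ⟨p, hp, rfl⟩ := (mem_TT P x a).mp ha
  obtain ⟨p', hp', e⟩ := (mem_TT P x⁻¹ _).mp ha'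
  have hr : p'⁻¹ * p ∈ P := P.mul_mem (P.inv_mem hp') hp
  have e1 : p'⁻¹ * p * x * (p'⁻¹ * p)⁻¹ = x⁻¹ := by
    calc p'⁻¹ * p * x * (p'⁻¹ * p)⁻¹ = p'⁻¹ * (p * x * p⁻¹) * p' := by group
      _ = p'⁻¹ * (p' * x⁻¹ * p'⁻¹) * p' := by rw [e]
      _ = x⁻¹ := by group
  have hn := (Subgroup.mem_normalizer_iff.mp h.hxA (p'⁻¹ * p)⁻¹).mp (P.inv_mem hr)
  have e2 : (x * (p'⁻¹ * p)⁻¹ * x⁻¹)⁻¹ * (p'⁻¹ * p)⁻¹ = x * x := by
    calc (x * (p'⁻¹ * p)⁻¹ * x⁻¹)⁻¹ * (p'⁻¹ * p)⁻¹
        = x * (p'⁻¹ * p * x * (p'⁻¹ * p)⁻¹)⁻¹ := by group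
      _ = x * x := by rw [e1, inv_inv]
  have hxx : x * x ∈ P := by
    rw [← e2]; exact P.mul_mem (P.inv_mem hn) (P.inv_mem hr)
  have h3 : x * (x * x) = 1 := by
    have := pow_orderOf_eq_one x
    rw [h.hx3] at this
    rw [← this]; simp [pow_succ, mul_assoc]
  have hx : x = (x * x)⁻¹ := eq_inv_of_mul_eq_one_left h3
  apply h.x_not_mem
  rw [hx]; exact P.inv_mem hxx

theorem Ctx.conj_count (h : Ctx G P x) :
    57 * fixN x (G ⧸ normalizer (P : Set G)) =
        Nat.card {g : G // IsConj x g ∧ g ∈ normalizer (P : Set G)} *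
          Nat.card (centralizer ({x} : Set G)) ∧
      19 ≤ Nat.card {g : G // IsConj x g ∧ g ∈ normalizer (P : Set G)} ∧
      (IsConj x x⁻¹ → 38 ≤ Nat.card {g : G // IsConj x g ∧ g ∈ normalizer (P : Set G)}) := by
  classical
  have hmemT : ∀ y : G, y ∈ normalizer (P : Set G) → ∀ a ∈ TT P y,
      IsConj y a ∧ a ∈ normalizer (P : Set G) := by
    intro y hy a ha
    obtain ⟨p, hp, rfl⟩ := (mem_TT P y a).mp ha
    have hpA : p ∈ normalizer (P : Set G) := Subgroup.le_normalizer hp
    exact ⟨isConj_iff.mpr ⟨p, rfl⟩,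
      Subgroup.mul_mem _ (Subgroup.mul_mem _ hpA hy) (Subgroup.inv_mem _ hpA)⟩
  refine ⟨?_, ?_, ?_⟩
  · have h1019 := Cfsg.Agent.S1019.result (normalizer (P : Set G)) x h.hxA
    have hidx : (normalizer (P : Set G)).index = 96 := by
      rw [Subgroup.index_eq_card]; exact h.card_quot
    have hcl := card_conj_mul_card_centralizer' x
    rw [hidx] at h1019
    rw [h.hcard] at hcl
    have hf : Nat.card (MulAction.fixedBy (G ⧸ normalizer (P : Set G)) x) =
        fixN x (G ⧸ normalizer (P : Set G)) := rfl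
    rw [hf] at h1019
    set f := fixN x (G ⧸ normalizer (P : Set G))
    set cl := Nat.card {g : G // IsConj x g}
    set c := Nat.card {g : G // IsConj x g ∧ g ∈ normalizer (P : Set G)}
    set C := Nat.card (centralizer ({x} : Set G))
    have : 96 * (57 * f) = 96 * (c * C) := by
      calc 96 * (57 * f) = f * 5472 := by ring
        _ = f * (cl * C) := by rw [hcl]
        _ = (f * cl) * C := by ring
        _ = 96 * c * C := by rw [h1019]
        _ = 96 * (c * C) := by ring
    exact Nat.eq_of_mul_eq_mul_left (by norm_num) this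
  · have := card_le_card_subtype (fun g : G => IsConj x g ∧ g ∈ normalizer (P : Set G))
      (TT P x) (hmemT x h.hxA)
    rwa [h.card_TT] at this
  · intro hconj
    have hdisj : Disjoint (TT P x) (TT P x⁻¹) := by
      rw [Finset.disjoint_left]
      intro a ha ha'
      exact h.TT_disjoint a ha ha'
    have := card_le_card_subtype (fun g : G => IsConj x g ∧ g ∈ normalizer (P : Set G))
      (TT P x ∪ TT P x⁻¹) (by
        intro a ha
        rcases Finset.mem_union.mp ha with ha | ha
        · exact hmemT x h.hxA a ha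
        · obtain ⟨h1, h2⟩ := hmemT x⁻¹ h.inv.hxA a ha
          exact ⟨hconj.trans h1, h2⟩)
    rwa [Finset.card_union_of_disjoint hdisj, h.card_TT, h.inv.card_TT] at this

end ctx

end Cfsg.Agent.helper27.O5472
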