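import Mathlib
import Cfsg.Agent.Lib_helper5_Simple
import Cfsg.Agent.Lib_helper27_O5472a
import Cfsg.Agent.Lib_helper27_O5472b

set_option autoImplicit false
set_option linter.style.haveILetI false

namespace Cfsg.Agent.helper27.O5472

open Subgroup Cfsg.Agent.helper27.O3648

theorem dvd9_of {n : ℕ} (h : n ∣ 5472) (h2 : ¬ 2 ∣ n) (h19 : ¬ 19 ∣ n) : n ∣ 9 := by
  have c2 : Nat.Coprime n 2 := ((Nat.Prime.coprime_iff_not_dvd Nat.prime_two).mpr h2).symm
  have c19 : Nat.Coprime n 19 :=
    ((Nat.Prime.coprime_iff_not_dvd (by norm_num : Nat.Prime 19)).mpr h19).symm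
  have h1 : n ∣ 2 ^ 5 * 171 := by norm_num; exact h
  have h171 : n ∣ 171 := (Nat.Coprime.pow_right 5 c2).dvd_of_dvd_mul_left h1
  have h2' : n ∣ 19 * 9 := by norm_num; exact h171
  exact c19.dvd_of_dvd_mul_left h2'

theorem dvd32_of {n : ℕ} (h : n ∣ 5472) (h3 : ¬ 3 ∣ n) (h19 : ¬ 19 ∣ n) : n ∣ 32 := by
  have c3 : Nat.Coprime n 3 := ((Nat.Prime.coprime_iff_not_dvd Nat.prime_three).mpr h3).symm
  have c19 : Nat.Coprime n 19 :=
    ((Nat.Prime.coprime_iff_not_dvd (by norm_num : Nat.Prime 19)).mpr h19).symm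
  have h1 : n ∣ 3 ^ 2 * 608 := by norm_num; exact h
  have h608 : n ∣ 608 := (Nat.Coprime.pow_right 2 c3).dvd_of_dvd_mul_left h1
  have h2' : n ∣ 19 * 32 := by norm_num; exact h608
  exact c19.dvd_of_dvd_mul_left h2'

theorem prime_dvd_5472 {q : ℕ} (hq : q.Prime) (h : q ∣ 5472) : q = 2 ∨ q = 3 ∨ q = 19 := by
  have h1 : q ∣ 2 ^ 5 * (3 ^ 2 * 19) := by norm_num; exact h
  rcases (Nat.Prime.dvd_mul hq).mp h1 with h2 | h2
  · left
    exact (Nat.prime_dvd_prime_iff_eq hq Nat.prime_two).mp (hq.dvd_of_dvd_pow h2)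
  · rcases (Nat.Prime.dvd_mul hq).mp h2 with h3 | h3
    · right; left
      exact (Nat.prime_dvd_prime_iff_eq hq Nat.prime_three).mp (hq.dvd_of_dvd_pow h3)
    · right; right
      exact (Nat.prime_dvd_prime_iff_eq hq (by norm_num)).mp h3

theorem orderOf_pow_div {G : Type*} [Group G] [Finite G] (g : G) (q : ℕ) (h : q ∣ orderOf g) :
    orderOf (g ^ (orderOf g / q)) = q := by
  have hpos : orderOf g ≠ 0 := (orderOf_pos g).ne'
  have hd : orderOf g / q ∣ orderOf g := Nat.div_dvd_of_dvd h
  have hne : orderOf g / q ≠ 0 := by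
    intro h0
    obtain ⟨k, hk⟩ := hd
    rw [h0, zero_mul] at hk
    exact hpos hk
  rw [orderOf_pow_of_dvd hne hd, Nat.div_div_self h hpos]

/-- the counting lemma -/
theorem counting_contra {G : Type*} [Group G] [Finite G]
    (hcard : Nat.card G = 5472)
    (h19c : ∀ g : G, orderOf g = 19 → Nat.card (centralizer ({g} : Set G)) = 19)
    (h19n : Nat.card {g : G // orderOf g = 19} = 1728)
    (hI : ∀ u y : G, orderOf u = 2 → orderOf y = 3 → u * y ≠ y * u) : False := by
  classical
  haveI : Fact (Nat.Prime 3) := ⟨Nat.prime_three⟩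
  haveI : Fact (Nat.Prime 2) := ⟨Nat.prime_two⟩
  haveI : Fact (Nat.Prime 19) := ⟨by norm_num⟩
  have hodvd : ∀ g : G, orderOf g ∣ 5472 := fun g => hcard ▸ orderOf_dvd_natCard g
  have hno19 : ∀ g w : G, orderOf w = 19 → g * w = w * g → orderOf g ∣ 19 := by
    intro g w hw hc
    have hg : g ∈ centralizer ({w} : Set G) := mem_centralizer_singleton_iff.mpr hc
    have := Subgroup.orderOf_dvd_natCard _ hg
    rwa [h19c w hw] at this
  have h19 : ∀ g : G, 19 ∣ orderOf g → orderOf g = 19 := by
    intro g hg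
    have hw := orderOf_pow_div g 19 hg
    have hc : g * g ^ (orderOf g / 19) = g ^ (orderOf g / 19) * g :=
      (Commute.self_pow g _).eq
    exact Nat.dvd_antisymm (hno19 g _ hw hc) hg
  have h23 : ∀ g : G, 2 ∣ orderOf g → 3 ∣ orderOf g → False := by
    intro g h2 h3
    refine hI _ _ (orderOf_pow_div g 2 h2) (orderOf_pow_div g 3 h3) ?_
    exact ((Commute.refl g).pow_pow _ _).eq
  have hQ9 : ∀ Q : Sylow 3 G, Nat.card (Q : Subgroup G) = 9 := by
    intro Q
    obtain ⟨h, -⟩ := helper5.sylow_card_of_card_eq Q 2 608 (by rw [hcard]; norm_num)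
      (by norm_num)
    simpa using h
  have hQcomm : ∀ Q : Sylow 3 G, ∀ a ∈ (Q : Subgroup G), ∀ b ∈ (Q : Subgroup G),
      a * b = b * a := by
    intro Q a ha b hb
    have hc := IsPGroup.isMulCommutative_of_card_eq_prime_sq (p := 3) (G := (Q : Subgroup G))
      (by rw [hQ9 Q]; norm_num)
    have := hc.is_comm.comm (⟨a, ha⟩ : (Q : Subgroup G)) ⟨b, hb⟩
    exact congrArg Subtype.val this
  have hcent3 : ∀ g : G, 3 ∣ orderOf g → Nat.card (centralizer ({g} : Set G)) = 9 := by
    intro g h3
    have h2 : ¬ 2 ∣ orderOf g := fun h2 => h23 g h2 h3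
    have h19' : ¬ 19 ∣ orderOf g := by
      intro h; have := h19 g h; rw [this] at h3; omega
    have ho9 : orderOf g ∣ 3 ^ 2 := dvd9_of (hodvd g) h2 h19'
    obtain ⟨k, hk, hok⟩ := (Nat.dvd_prime_pow Nat.prime_three).mp ho9
    obtain ⟨Q, hQ⟩ := IsPGroup.exists_le_sylow (p := 3) (P := zpowers g)
      (IsPGroup.of_card (n := k) (by rw [Nat.card_zpowers, hok]))
    have hgQ : g ∈ (Q : Subgroup G) := hQ (mem_zpowers g)
    have hQC : (Q : Subgroup G) ≤ centralizer ({g} : Set G) := by
      intro a ha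
      exact mem_centralizer_singleton_iff.mpr (hQcomm Q a ha g hgQ)
    have h9 : 9 ∣ Nat.card (centralizer ({g} : Set G)) := hQ9 Q ▸ Subgroup.card_dvd_of_le hQC
    have hC : Nat.card (centralizer ({g} : Set G)) ∣ 5472 :=
      hcard ▸ Subgroup.card_subgroup_dvd_card _
    have hC2 : ¬ 2 ∣ Nat.card (centralizer ({g} : Set G)) := by
      intro hd
      obtain ⟨u, hu⟩ := exists_prime_orderOf_dvd_card' (G := centralizer ({g} : Set G)) 2 hd
      have hu' : orderOf (u : G) = 2 := by rw [Subgroup.orderOf_coe]; exact hu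
      have hcu : Commute (u : G) g := mem_centralizer_singleton_iff.mp u.2
      exact hI _ _ hu' (orderOf_pow_div g 3 h3) (hcu.pow_right _).eq
    have hC19 : ¬ 19 ∣ Nat.card (centralizer ({g} : Set G)) := by
      intro hd
      obtain ⟨w, hw⟩ := exists_prime_orderOf_dvd_card' (G := centralizer ({g} : Set G)) 19 hd
      have hw' : orderOf (w : G) = 19 := by rw [Subgroup.orderOf_coe]; exact hw
      have hcw : (w : G) * g = g * w := mem_centralizer_singleton_iff.mp w.2
      have h1 := hno19 g w hw' hcw.symm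
      have h2 := h3.trans h1
      omega
    exact Nat.dvd_antisymm (dvd9_of hC hC2 hC19) h9
  have hcent2 : ∀ g : G, 2 ∣ orderOf g → Nat.card (centralizer ({g} : Set G)) ∣ 32 := by
    intro g h2
    have hC : Nat.card (centralizer ({g} : Set G)) ∣ 5472 :=
      hcard ▸ Subgroup.card_subgroup_dvd_card _
    have hC3 : ¬ 3 ∣ Nat.card (centralizer ({g} : Set G)) := by
      intro hd
      obtain ⟨y, hy⟩ := exists_prime_orderOf_dvd_card' (G := centralizer ({g} : Set G)) 3 hd
      have hy' : orderOf (y : G) = 3 := by rw [Subgroup.orderOf_coe]; exact hy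
      have hcy : Commute (y : G) g := mem_centralizer_singleton_iff.mp y.2
      exact hI _ _ (orderOf_pow_div g 2 h2) hy' (hcy.pow_right _).symm.eq
    have hC19 : ¬ 19 ∣ Nat.card (centralizer ({g} : Set G)) := by
      intro hd
      obtain ⟨w, hw⟩ := exists_prime_orderOf_dvd_card' (G := centralizer ({g} : Set G)) 19 hd
      have hw' : orderOf (w : G) = 19 := by rw [Subgroup.orderOf_coe]; exact hw
      have hcw : (w : G) * g = g * w := mem_centralizer_singleton_iff.mp w.2
      have h1 := hno19 g w hw' hcw.symm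
      have h2 := h2.trans h1
      omega
    exact dvd32_of hC hC3 hC19
  set S19 : Set G := {g | 19 ∣ orderOf g} with hS19def
  set S3 : Set G := {g | 3 ∣ orderOf g} with hS3def
  set S2 : Set G := {g | 2 ∣ orderOf g} with hS2def
  have hS19 : S19.ncard = 1728 := by
    have : S19 = {g | orderOf g = 19} := by
      ext g
      exact ⟨fun h => h19 g h, fun h => by show 19 ∣ orderOf g; rw [h]⟩
    rw [this, ← Nat.card_coe_set_eq]; exact h19n
  have hconjinv : ∀ (q : ℕ) (g : G), q ∣ orderOf g → ∀ h : G, q ∣ orderOf (h * g * h⁻¹) := by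
    intro q g hg h
    have := orderOf_conj_inv h⁻¹ g
    rw [inv_inv] at this
    rwa [this]
  have hS3 : 608 ∣ S3.ncard := by
    apply dvd_ncard_of_class S3 608 (fun g hg h => hconjinv 3 g hg h)
    intro g hg
    have := card_conj_mul_card_centralizer' g
    rw [hcent3 g hg, hcard] at this
    exact ⟨1, by omega⟩
  have hS2 : 171 ∣ S2.ncard := by
    apply dvd_ncard_of_class S2 171 (fun g hg h => hconjinv 2 g hg h)
    intro g hg
    have := card_conj_mul_card_centralizer' g
    rw [hcard] at this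
    obtain ⟨k, hk⟩ := hcent2 g hg
    have hCpos : 0 < Nat.card (centralizer ({g} : Set G)) := Nat.card_pos
    refine ⟨k, ?_⟩
    apply Nat.eq_of_mul_eq_mul_right hCpos
    rw [this]
    calc 5472 = 171 * 32 := by norm_num
      _ = 171 * (Nat.card (centralizer ({g} : Set G)) * k) := by rw [hk]
      _ = 171 * k * Nat.card (centralizer ({g} : Set G)) := by ring
  have hunion : S19 ∪ (S3 ∪ (S2 ∪ {1})) = Set.univ := by
    ext g
    simp only [Set.mem_union, Set.mem_univ, iff_true, Set.mem_singleton_iff]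
    by_cases hg : g = 1
    · right; right; right; exact hg
    · have ho : orderOf g ≠ 1 := fun h => hg (orderOf_eq_one_iff.mp h)
      obtain ⟨q, hq, hqd⟩ := Nat.exists_prime_and_dvd ho
      rcases prime_dvd_5472 hq (hqd.trans (hodvd g)) with rfl | rfl | rfl
      · right; right; left; exact hqd
      · right; left; exact hqd
      · left; exact hqd
  have d1 : Disjoint S19 (S3 ∪ (S2 ∪ {1})) := by
    rw [Set.disjoint_left]
    intro g hg hg'
    have ho := h19 g hg
    simp only [Set.mem_union, Set.mem_singleton_iff] at hg'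
    rcases hg' with h | h | h
    · have : 3 ∣ orderOf g := h
      rw [ho] at this; omega
    · have : 2 ∣ orderOf g := h
      rw [ho] at this; omega
    · rw [h, orderOf_one] at ho; omega
  have d2 : Disjoint S3 (S2 ∪ {1}) := by
    rw [Set.disjoint_left]
    intro g hg hg'
    simp only [Set.mem_union, Set.mem_singleton_iff] at hg'
    rcases hg' with h | h
    · exact h23 g h hg
    · have : 3 ∣ orderOf g := hg
      rw [h, orderOf_one] at this; omega
  have d3 : Disjoint S2 {1} := by
    rw [Set.disjoint_left]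
    intro g hg hg'
    rw [Set.mem_singleton_iff] at hg'
    have : 2 ∣ orderOf g := hg
    rw [hg', orderOf_one] at this; omega
  have hfin : ∀ S : Set G, S.Finite := fun S => Set.toFinite S
  have e1 := Set.ncard_union_eq d1 (hfin _) (hfin _)
  have e2 := Set.ncard_union_eq d2 (hfin _) (hfin _)
  have e3 := Set.ncard_union_eq d3 (hfin _) (hfin _)
  rw [hunion, Set.ncard_univ, hcard] at e1
  rw [Set.ncard_singleton] at e3
  obtain ⟨a, ha⟩ := hS3
  obtain ⟨b, hb⟩ := hS2
  omega

end Cfsg.Agent.helper27.O5472
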