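import Mathlib
import Cfsg.Agent.Lib_helper27_O5472b

set_option autoImplicit false
set_option linter.style.haveILetI false

namespace Cfsg.Agent.helper27.O5472

open Subgroup MulAction Cfsg.Agent.helper27.O3648

theorem mem_zpowers_order3 {G : Type*} [Group G] (z w : G) (hz : orderOf z = 3)
    (hw : w ∈ zpowers z) : w = 1 ∨ w = z ∨ w = z⁻¹ := by
  obtain ⟨k, rfl⟩ := mem_zpowers_iff.mp hw
  have h1 := zpow_mod_orderOf z k
  rw [hz] at h1
  have h3 : z * z * z = 1 := by
    have := pow_orderOf_eq_one z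
    rw [hz] at this
    rw [← this]; simp [pow_succ]
  have hk : k % ((3 : ℕ) : ℤ) = 0 ∨ k % ((3 : ℕ) : ℤ) = 1 ∨ k % ((3 : ℕ) : ℤ) = 2 := by
    push_cast; omega
  rcases hk with h | h | h
  · left; rw [← h1, h, zpow_zero]
  · right; left; rw [← h1, h, zpow_one]
  · right; right
    rw [← h1, h]
    have : z ^ (2 : ℤ) = z * z := zpow_two z
    rw [this]
    exact eq_inv_of_mul_eq_one_left h3

theorem normalizer_contra {G : Type*} [Group G] [Finite G] (z : G) (hz : orderOf z = 3)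
    (hC9 : Nat.card (centralizer ({z} : Set G)) = 9)
    (t : G) (ht : ∀ q ∈ centralizer ({z} : Set G), t * q * t⁻¹ = q⁻¹)
    (u y : G) (hu : orderOf u = 2) (hy : orderOf y = 3) (huy : u * y = y * u)
    (hun : u * z * u⁻¹ ∈ zpowers z) (hyn : y * z * y⁻¹ ∈ zpowers z) : False := by
  haveI : Fact (Nat.Prime 3) := ⟨Nat.prime_three⟩
  have hz1 : z ≠ 1 := by intro h; rw [h, orderOf_one] at hz; omega
  have hzz : z ≠ z⁻¹ := by
    intro h
    have h2 : z ^ 2 = 1 := by
      rw [pow_two]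
      calc z * z = z * z⁻¹ := by rw [← h]
        _ = 1 := mul_inv_cancel z
    have := orderOf_dvd_of_pow_eq_one h2
    rw [hz] at this; omega
  have hcomm : ∀ a ∈ centralizer ({z} : Set G), ∀ b ∈ centralizer ({z} : Set G),
      a * b = b * a := by
    intro a ha b hb
    have hc := IsPGroup.isMulCommutative_of_card_eq_prime_sq (p := 3)
      (G := centralizer ({z} : Set G)) (by rw [hC9]; norm_num)
    exact congrArg Subtype.val (hc.is_comm.comm ⟨a, ha⟩ ⟨b, hb⟩)
  have hzC : z ∈ centralizer ({z} : Set G) := mem_centralizer_singleton_iff.mpr rfl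
  have huz : u * z * u⁻¹ = z⁻¹ := by
    rcases mem_zpowers_order3 z _ hz hun with h | h | h
    · exfalso; apply hz1
      have : z = u⁻¹ * (u * z * u⁻¹) * u := by group
      rw [this, h]; group
    · exfalso
      have huC : u ∈ centralizer ({z} : Set G) := by
        rw [mem_centralizer_singleton_iff]
        calc u * z = u * z * u⁻¹ * u := by group
          _ = z * u := by rw [h]
      have := Subgroup.orderOf_dvd_natCard _ huC
      rw [hC9, hu] at this; omega
    · exact h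
  have htz : t * z * t⁻¹ = z⁻¹ := ht z hzC
  have hq : t⁻¹ * u ∈ centralizer ({z} : Set G) := by
    rw [mem_centralizer_singleton_iff]
    have e : u * z * u⁻¹ = t * z * t⁻¹ := by rw [huz, htz]
    calc t⁻¹ * u * z = t⁻¹ * (u * z * u⁻¹) * u := by group
      _ = t⁻¹ * (t * z * t⁻¹) * u := by rw [e]
      _ = z * (t⁻¹ * u) := by group
  have huinv : ∀ w ∈ centralizer ({z} : Set G), u * w * u⁻¹ = w⁻¹ := by
    intro w hw
    have h1 := hcomm _ hq w hw
    calc u * w * u⁻¹ = t * ((t⁻¹ * u) * w) * (t⁻¹ * u)⁻¹ * t⁻¹ := by group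
      _ = t * (w * (t⁻¹ * u)) * (t⁻¹ * u)⁻¹ * t⁻¹ := by rw [h1]
      _ = t * w * t⁻¹ := by group
      _ = w⁻¹ := ht w hw
  have hyz : y * z * y⁻¹ = z := by
    rcases mem_zpowers_order3 z _ hz hyn with h | h | h
    · exfalso; apply hz1
      have : z = y⁻¹ * (y * z * y⁻¹) * y := by group
      rw [this, h]; group
    · exact h
    · exfalso; apply hzz
      have hy3 : y * y * y = 1 := by
        have := pow_orderOf_eq_one y
        rw [hy] at this
        rw [← this]; simp [pow_succ]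
      calc z = (y * y * y) * z * (y * y * y)⁻¹ := by rw [hy3]; simp
        _ = y * (y * (y * z * y⁻¹) * y⁻¹) * y⁻¹ := by group
        _ = y * (y * z⁻¹ * y⁻¹) * y⁻¹ := by rw [h]
        _ = y * (y * z * y⁻¹)⁻¹ * y⁻¹ := by group
        _ = y * (z⁻¹)⁻¹ * y⁻¹ := by rw [h]
        _ = y * z * y⁻¹ := by rw [inv_inv]
        _ = z⁻¹ := h
  have hyC : y ∈ centralizer ({z} : Set G) := by
    rw [mem_centralizer_singleton_iff]
    calc y * z = y * z * y⁻¹ * y := by group
      _ = z * y := by rw [hyz]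
  have h1 := huinv y hyC
  have h2 : u * y * u⁻¹ = y := by rw [huy]; group
  have hyy : y = y⁻¹ := h2.symm.trans h1
  have h3 : y ^ 2 = 1 := by
    rw [pow_two]
    calc y * y = y * y⁻¹ := by rw [← hyy]
      _ = 1 := mul_inv_cancel y
  have := orderOf_dvd_of_pow_eq_one h3
  rw [hy] at this; omega

theorem mod3_fibers {X S : Type*} [Finite X] (Φ : X → S) (σ : X → X) (k : ℕ)
    (hσ3 : ∀ a, σ (σ (σ a)) = a)
    (hfib : ∀ a, Nat.card {b // Φ b = Φ a} = k)
    (hcompat : ∀ a b, Φ a = Φ b → Φ (σ a) = Φ (σ b))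
    (hfree : ∀ a, Φ (σ a) ≠ Φ a) : 3 * k ∣ Nat.card X := by
  classical
  haveI : Fact (Nat.Prime 3) := ⟨Nat.prime_three⟩
  haveI : Finite ↥(Set.range Φ) := inferInstance
  haveI : Fintype ↥(Set.range Φ) := Fintype.ofFinite _
  obtain ⟨τ, hτdef⟩ : ∃ τ : Function.End ↥(Set.range Φ), ∀ r : ↥(Set.range Φ),
      (τ r).1 = Φ (σ (Classical.choose r.2)) :=
    ⟨fun r => ⟨Φ (σ (Classical.choose r.2)), ⟨_, rfl⟩⟩, fun r => rfl⟩
  have hτ : ∀ a : X, τ ⟨Φ a, ⟨a, rfl⟩⟩ = ⟨Φ (σ a), ⟨_, rfl⟩⟩ := by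
    intro a
    apply Subtype.ext
    rw [hτdef]
    apply hcompat
    exact Classical.choose_spec (⟨Φ a, ⟨a, rfl⟩⟩ : ↥(Set.range Φ)).2
  have hτ3 : τ ^ 3 ^ 1 = 1 := by
    funext r
    obtain ⟨_, a, rfl⟩ := r
    show τ (τ (τ ⟨Φ a, ⟨a, rfl⟩⟩)) = ⟨Φ a, ⟨a, rfl⟩⟩
    exact (congrArg (fun r => τ (τ r)) (hτ a)).trans ((congrArg τ (hτ (σ a))).trans
      ((hτ (σ (σ a))).trans (Subtype.ext (by show Φ (σ (σ (σ a))) = Φ a; rw [hσ3]))))
  have hmod := Equiv.Perm.card_fixedPoints_modEq (f := τ) (p := 3) (n := 1) hτ3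
  have hfix0 : ∀ (inst : Fintype (Function.fixedPoints τ)), @Fintype.card _ inst = 0 := by
    intro inst
    rw [Fintype.card_eq_zero_iff]
    constructor
    rintro ⟨⟨_, a, rfl⟩, hr⟩
    have : τ ⟨Φ a, ⟨a, rfl⟩⟩ = ⟨Φ a, ⟨a, rfl⟩⟩ := hr
    rw [hτ] at this
    exact hfree a (congrArg Subtype.val this)
  have hX : Nat.card X = Fintype.card ↥(Set.range Φ) * k := by
    rw [← Nat.card_congr (Equiv.sigmaFiberEquiv (Set.rangeFactorization Φ)), Nat.card_sigma]
    have : ∀ r : ↥(Set.range Φ), Nat.card {a // Set.rangeFactorization Φ a = r} = k := by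
      rintro ⟨_, a0, rfl⟩
      rw [← hfib a0]
      apply Nat.card_congr
      apply Equiv.subtypeEquivRight
      intro a
      rw [Subtype.ext_iff]
      rfl
    simp only [this, Finset.sum_const, Finset.card_univ, smul_eq_mul]
  have h3 : 3 ∣ Fintype.card ↥(Set.range Φ) := by
    rw [hfix0] at hmod
    exact (Nat.modEq_zero_iff_dvd).mp hmod
  obtain ⟨m, hm⟩ := h3
  exact ⟨m, by rw [hX, hm]; ring⟩


/-- the design lemma -/
theorem design_contra {G : Type*} [Group G] [Finite G] {P : Subgroup G} {x : G} (h : Ctx G P x)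
    (hf : fixN x (G ⧸ normalizer (P : Set G)) = 6)
    (hC9 : Nat.card (centralizer ({x} : Set G)) = 9)
    (t : G) (ht : ∀ q ∈ centralizer ({x} : Set G), t * q * t⁻¹ = q⁻¹)
    (u y : G) (hu : orderOf u = 2) (hy : orderOf y = 3) (huy : u * y = y * u) : False := by
  classical
  set A := normalizer (P : Set G) with hA
  have huu : u * u = 1 := by rw [← pow_two, ← hu]; exact pow_orderOf_eq_one u
  have huinv : u⁻¹ = u := inv_eq_of_mul_eq_one_right huu
  have hstab : ∀ α : G ⧸ A, Nat.card (stabilizer G α) = 57 := by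
    intro α
    have h1 := MulAction.index_stabilizer G α
    rw [MulAction.orbit_eq_univ, Set.ncard_univ, h.card_quot] at h1
    have h2 := (stabilizer G α).card_mul_index
    rw [h1, h.hcard] at h2; omega
  have hD3 : ∀ α β : G ⧸ A, α ≠ β → Nat.card ↥(stabilizer G α ⊓ stabilizer G β) ∣ 3 := by
    intro α β hne
    have h1 : Nat.card ↥(stabilizer G α ⊓ stabilizer G β) ∣ 3 * 19 := by
      have := Subgroup.card_dvd_of_le
        (inf_le_left : stabilizer G α ⊓ stabilizer G β ≤ stabilizer G α)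
      rwa [hstab α] at this
    have h19 : ¬ 19 ∣ Nat.card ↥(stabilizer G α ⊓ stabilizer G β) := by
      intro hd
      haveI : Fact (Nat.Prime 19) := ⟨by norm_num⟩
      obtain ⟨w, hw⟩ := exists_prime_orderOf_dvd_card'
        (G := ↥(stabilizer G α ⊓ stabilizer G β)) 19 hd
      have hw' : orderOf (w : G) = 19 := by rw [Subgroup.orderOf_coe]; exact hw
      have hwm := Subgroup.mem_inf.mp w.2
      exact hne (h.two_fix _ hw' α β (MulAction.mem_stabilizer_iff.mp hwm.1)
        (MulAction.mem_stabilizer_iff.mp hwm.2))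
    have c19 : Nat.Coprime (Nat.card ↥(stabilizer G α ⊓ stabilizer G β)) 19 :=
      ((Nat.Prime.coprime_iff_not_dvd (by norm_num : Nat.Prime 19)).mpr h19).symm
    exact c19.dvd_of_dvd_mul_right h1
  have hDz : ∀ (α β : G ⧸ A) (z : G), α ≠ β → orderOf z = 3 → z • α = α → z • β = β →
      stabilizer G α ⊓ stabilizer G β = zpowers z := by
    intro α β z hne hz hα hβ
    symm
    apply Subgroup.eq_of_le_of_card_ge
    · rw [zpowers_le]; exact Subgroup.mem_inf.mpr ⟨hα, hβ⟩
    · rw [Nat.card_zpowers, hz]; exact Nat.le_of_dvd (by norm_num) (hD3 α β hne)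
  have hconj3 : ∀ z, IsConj x z → orderOf z = 3 ∧ fixN z (G ⧸ A) = 6 ∧
      Nat.card (centralizer ({z} : Set G)) = 9 ∧
      ∃ t', ∀ q ∈ centralizer ({z} : Set G), t' * q * t'⁻¹ = q⁻¹ := by
    intro z hz
    obtain ⟨c, rfl⟩ := isConj_iff.mp hz
    refine ⟨?_, ?_, ?_, c * t * c⁻¹, ?_⟩
    · have := orderOf_conj_inv c⁻¹ x
      rw [inv_inv] at this
      rw [this]; exact h.hx3
    · rw [fixN_conj]; exact hf
    · have h1 := card_conj_mul_card_centralizer' x
      have h2 := card_conj_mul_card_centralizer' (c * x * c⁻¹)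
      have h3 : Nat.card {g : G // IsConj (c * x * c⁻¹) g} = Nat.card {g : G // IsConj x g} :=
        Nat.card_congr (Equiv.subtypeEquivRight
          (fun g => ⟨fun hh => hz.trans hh, fun hh => hz.symm.trans hh⟩))
      rw [h3] at h2
      rw [hC9, h.hcard] at h1
      rw [h.hcard] at h2
      have hcl : Nat.card {g : G // IsConj x g} = 608 := by omega
      rw [hcl] at h2; omega
    · intro q hq
      have hq' : c⁻¹ * q * c ∈ centralizer ({x} : Set G) := by
        rw [mem_centralizer_singleton_iff] at hq ⊢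
        calc c⁻¹ * q * c * x = c⁻¹ * (q * (c * x * c⁻¹)) * c := by group
          _ = c⁻¹ * ((c * x * c⁻¹) * q) * c := by rw [hq]
          _ = x * (c⁻¹ * q * c) := by group
      have := ht _ hq'
      calc c * t * c⁻¹ * q * (c * t * c⁻¹)⁻¹ = c * (t * (c⁻¹ * q * c) * t⁻¹) * c⁻¹ := by group
        _ = c * (c⁻¹ * q * c)⁻¹ * c⁻¹ := by rw [this]
        _ = q⁻¹ := by group
  have hpair : ∀ α β : G ⧸ A, α ≠ β → ∃ z, IsConj x z ∧ z • α = α ∧ z • β = β := by
    intro α β hne
    obtain ⟨g, rfl⟩ := QuotientGroup.mk_surjective α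
    have hg1 : ((g : G) : G ⧸ A) = g • ((1 : G) : G ⧸ A) := by
      rw [MulAction.Quotient.smul_mk, smul_eq_mul, mul_one]
    have hβ' : g⁻¹ • β ≠ ((1 : G) : G ⧸ A) := by
      intro hh
      apply hne
      have : β = g • ((1 : G) : G ⧸ A) := by rw [← hh, smul_inv_smul]
      rw [this, ← hg1]
    obtain ⟨a, ha, hfix⟩ := h.cover hf _ hβ'
    obtain ⟨p, hp, rfl⟩ := (mem_TT P x a).mp ha
    have hpA : p ∈ A := Subgroup.le_normalizer hp
    have haA : p * x * p⁻¹ ∈ A := A.mul_mem (A.mul_mem hpA h.hxA) (A.inv_mem hpA)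
    have ha1 : (p * x * p⁻¹) • ((1 : G) : G ⧸ A) = ((1 : G) : G ⧸ A) := by
      rw [fixed_iff]; simpa using haA
    refine ⟨g * (p * x * p⁻¹) * g⁻¹, isConj_iff.mpr ⟨g * p, by group⟩, ?_, ?_⟩
    · rw [hg1, mul_smul, mul_smul, inv_smul_smul, ha1]
    · rw [mul_smul, mul_smul, hfix, smul_inv_smul]
  have hufree : ∀ α : G ⧸ A, u • α ≠ α := by
    intro α hα
    have hmem : u ∈ stabilizer G α := hα
    have := Subgroup.orderOf_dvd_natCard _ hmem
    rw [hstab, hu] at this; omega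
  have hzex : ∀ α : G ⧸ A, ∃ z, IsConj x z ∧ z • α = α ∧ z • (u • α) = u • α :=
    fun α => hpair α (u • α) (hufree α).symm
  obtain ⟨Φ, hΦdef⟩ : ∃ Φ : G ⧸ A → Subgroup G,
      ∀ α, Φ α = stabilizer G α ⊓ stabilizer G (u • α) := ⟨_, fun α => rfl⟩
  have hΦz : ∀ (α : G ⧸ A) (z : G), IsConj x z → z • α = α → z • (u • α) = u • α →
      Φ α = zpowers z := by
    intro α z hz h1 h2
    rw [hΦdef]
    exact hDz α (u • α) z (hufree α).symm (hconj3 z hz).1 h1 h2
  have hΦcard : ∀ α, Nat.card (Φ α) = 3 := by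
    intro α
    obtain ⟨z, hz, h1, h2⟩ := hzex α
    rw [hΦz α z hz h1 h2, Nat.card_zpowers, (hconj3 z hz).1]
  have hun : ∀ (α : G ⧸ A) (z : G), IsConj x z → z • α = α → z • (u • α) = u • α →
      u * z * u⁻¹ ∈ zpowers z := by
    intro α z hz h1 h2
    rw [← hΦz α z hz h1 h2, hΦdef]
    refine Subgroup.mem_inf.mpr ⟨?_, ?_⟩
    · show (u * z * u⁻¹) • α = α
      rw [huinv, mul_smul, mul_smul, h2, ← mul_smul, huu, one_smul]
    · show (u * z * u⁻¹) • (u • α) = u • α
      rw [mul_smul, mul_smul, inv_smul_smul, h1]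
  have hfiber : ∀ α, Nat.card {β : G ⧸ A // Φ β = Φ α} = 6 := by
    intro α
    obtain ⟨z, hz, h1, h2⟩ := hzex α
    rw [← (hconj3 z hz).2.1]
    unfold fixN
    apply Nat.card_congr
    apply Equiv.subtypeEquivRight
    intro β
    constructor
    · intro hΦ
      have hzm : z ∈ Φ β := by rw [hΦ, hΦz α z hz h1 h2]; exact mem_zpowers z
      rw [hΦdef] at hzm
      exact (Subgroup.mem_inf.mp hzm).1
    · intro hβ
      have hle : zpowers z ≤ stabilizer G β := by rw [zpowers_le]; exact hβ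
      have hz2 : z • (u • β) = u • β := by
        have hmem : u * z * u⁻¹ ∈ stabilizer G β := hle (hun α z hz h1 h2)
        have h3 : (u * z * u⁻¹) • β = β := hmem
        rw [huinv, mul_smul, mul_smul] at h3
        have h4 : u • u • z • u • β = u • β := congrArg (fun γ => u • γ) h3
        rw [smul_smul, huu, one_smul] at h4
        exact h4
      have hzΦ : z ∈ Φ β := by
        rw [hΦdef]; exact Subgroup.mem_inf.mpr ⟨hβ, hz2⟩
      have hle2 : zpowers z ≤ Φ β := by rw [zpowers_le]; exact hzΦ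
      have heq : zpowers z = Φ β := Subgroup.eq_of_le_of_card_ge hle2
        (by rw [hΦcard, Nat.card_zpowers, (hconj3 z hz).1])
      rw [← heq, hΦz α z hz h1 h2]
  have hconjfix : ∀ (g : G) (γ : G ⧸ A), g • (y • γ) = y • γ ↔ (y⁻¹ * g * y) • γ = γ := by
    intro g γ
    rw [mul_smul, mul_smul, inv_smul_eq_iff]
  have hΦy : ∀ (β : G ⧸ A) (g : G), g ∈ Φ (y • β) ↔ y⁻¹ * g * y ∈ Φ β := by
    intro β g
    have huyβ : u • y • β = y • u • β := by rw [← mul_smul, huy, mul_smul]
    rw [hΦdef, hΦdef]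
    simp only [Subgroup.mem_inf, MulAction.mem_stabilizer_iff]
    rw [huyβ, hconjfix, hconjfix]
  have hy3 : y * y * y = 1 := by
    have := pow_orderOf_eq_one y
    rw [hy] at this
    rw [← this]; simp [pow_succ]
  have hM := mod3_fibers Φ (fun α => y • α) 6
    (fun α => by
      show y • y • y • α = α
      rw [smul_smul, smul_smul, hy3, one_smul])
    hfiber
    (fun a b hab => by
      ext g
      rw [hΦy, hΦy, hab])
    (fun α heq => by
      obtain ⟨z, hz, h1, h2⟩ := hzex α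
      obtain ⟨hz3, -, hz9, t', ht'⟩ := hconj3 z hz
      have hyn : y * z * y⁻¹ ∈ zpowers z := by
        rw [← hΦz α z hz h1 h2, ← heq]
        show y * z * y⁻¹ ∈ Φ (y • α)
        rw [hΦy, hΦz α z hz h1 h2]
        have : y⁻¹ * (y * z * y⁻¹) * y = z := by group
        rw [this]; exact mem_zpowers z
      exact normalizer_contra z hz3 hz9 t' ht' u y hu hy huy (hun α z hz h1 h2) hyn)
  rw [h.card_quot] at hM
  omega

end Cfsg.Agent.helper27.O5472
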