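import Mathlib
import Cfsg.Agent.Lib_helper5_Simple
import Cfsg.Agent.Lib_helper11_O504a
import Cfsg.Agent.Lib_helper27_O5472a
import Cfsg.Agent.Lib_helper27_O5472b
import Cfsg.Agent.Lib_helper27_O5472c
import Cfsg.Agent.Lib_helper27_O5472d

set_option autoImplicit false
set_option linter.style.haveILetI false

namespace Cfsg.Agent.helper27.O5472

open Subgroup Cfsg.Agent.helper27.O3648

theorem div608 : ∀ n : ℕ, n ∣ 608 → n % 3 = 1 →
    n = 1 ∨ n = 4 ∨ n = 16 ∨ n = 19 ∨ n = 76 ∨ n = 304 := by
  intro n hn h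
  have hle : n ≤ 608 := Nat.le_of_dvd (by norm_num) hn
  interval_cases n <;> omega

theorem ncard_diff_one {G : Type*} [Group G] [Finite G] (Q : Subgroup G) (k : ℕ)
    (hQ : Nat.card Q = k) : ((Q : Set G) \ {1}).ncard = k - 1 := by
  rw [Set.ncard_sdiff_singleton_of_mem (Q.one_mem), ← Nat.card_coe_set_eq]
  rw [← hQ]
  rfl

theorem orb_subset {G : Type*} [Group G] (Q H : Subgroup G)
    (hH : H ≤ normalizer (Q : Set G)) (z : G) (hz : z ∈ Q) (hz1 : z ≠ 1) :
    orb H z ⊆ (Q : Set G) \ {1} := by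
  rintro b ⟨n, hn, rfl⟩
  refine ⟨(Subgroup.mem_normalizer_iff.mp (hH hn) z).mp hz, ?_⟩
  rw [Set.mem_singleton_iff]
  intro h
  apply hz1
  have : z = n⁻¹ * (n * z * n⁻¹) * n := by group
  rw [this, h]; group

theorem centralizer_inv_eq {G : Type*} [Group G] (x : G) :
    centralizer ({x⁻¹} : Set G) = centralizer ({x} : Set G) := by
  ext w
  rw [mem_centralizer_singleton_iff, mem_centralizer_singleton_iff]
  constructor
  · intro h
    have hc : Commute w x⁻¹ := h
    have := hc.inv_right
    rw [inv_inv] at this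
    exact this.eq
  · intro h
    have hc : Commute w x := h
    exact hc.inv_right.eq

theorem case18 {G : Type*} [Group G] [Finite G] [IsSimpleGroup G]
    (hG : ∃ a b : G, a * b ≠ b * a) [Fact (Nat.Prime 3)] (Q : Sylow 3 G)
    (hQcard : Nat.card (Q : Subgroup G) = 9)
    (hN : Nat.card (normalizer ((Q : Subgroup G) : Set G)) = 18) :
    ∃ t : G, ∀ q ∈ (Q : Subgroup G), t * q * t⁻¹ = q⁻¹ := by
  classical
  haveI : Fact (Nat.Prime 2) := ⟨Nat.prime_two⟩
  set N := normalizer ((Q : Subgroup G) : Set G) with hNdef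
  have hQN : (Q : Subgroup G) ≤ N := Subgroup.le_normalizer
  haveI hQc : IsMulCommutative ↥(Q : Subgroup G) :=
    IsPGroup.isMulCommutative_of_card_eq_prime_sq (p := 3) (by rw [hQcard]; norm_num)
  have hQcomm : ∀ a ∈ (Q : Subgroup G), ∀ b ∈ (Q : Subgroup G), a * b = b * a :=
    fun a ha b hb => congrArg Subtype.val (hQc.is_comm.comm ⟨a, ha⟩ ⟨b, hb⟩)
  obtain ⟨⟨t, htN⟩, hto⟩ := exists_prime_orderOf_dvd_card' (G := N) 2 (by rw [hN]; norm_num)
  have hto' : orderOf t = 2 := by rwa [Subgroup.orderOf_mk] at hto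
  have htt : t * t = 1 := by rw [← pow_two, ← hto']; exact pow_orderOf_eq_one t
  have tinv : t⁻¹ = t := inv_eq_of_mul_eq_one_right htt
  have htQ : t ∉ (Q : Subgroup G) := by
    intro h
    have := Subgroup.orderOf_dvd_natCard _ h
    rw [hQcard, hto'] at this; omega
  have hidx : ((Q : Subgroup G).subgroupOf N).index = 2 := by
    have := ((Q : Subgroup G).subgroupOf N).card_mul_index
    rw [Nat.card_congr (Subgroup.subgroupOfEquivOfLe hQN).toEquiv, hQcard, hN] at this
    omega
  have hconjQ : ∀ q ∈ (Q : Subgroup G), t * q * t⁻¹ ∈ (Q : Subgroup G) :=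
    fun q hq => (Subgroup.mem_normalizer_iff.mp htN q).mp hq
  refine ⟨t, ?_⟩
  by_contra hcon
  push Not at hcon
  obtain ⟨y, hy, hne⟩ := hcon
  have haQ : y * (t * y * t⁻¹) ∈ (Q : Subgroup G) := (Q : Subgroup G).mul_mem hy (hconjQ y hy)
  have ha1 : y * (t * y * t⁻¹) ≠ 1 := by
    intro h
    exact hne (eq_inv_of_mul_eq_one_right h)
  have h1 : t * (y * (t * y * t⁻¹)) * t = y * (t * y * t⁻¹) := by
    have hc := hQcomm _ (hconjQ y hy) y hy
    calc t * (y * (t * y * t⁻¹)) * t = (t * y * t⁻¹) * ((t * t) * y * (t⁻¹ * t)) := by group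
      _ = (t * y * t⁻¹) * y := by rw [htt]; group
      _ = y * (t * y * t⁻¹) := hc
  have hta : t * (y * (t * y * t⁻¹)) = (y * (t * y * t⁻¹)) * t := by
    calc t * (y * (t * y * t⁻¹)) = t * (y * (t * y * t⁻¹)) * (t * t) := by rw [htt, mul_one]
      _ = (t * (y * (t * y * t⁻¹)) * t) * t := by group
      _ = (y * (t * y * t⁻¹)) * t := by rw [h1]
  have hNcomm : ∀ n ∈ N, n * (y * (t * y * t⁻¹)) = (y * (t * y * t⁻¹)) * n := by
    intro n hn
    by_cases hnQ : n ∈ (Q : Subgroup G)
    · exact hQcomm n hnQ _ haQ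
    · have hmem : (⟨t, htN⟩ : N) * ⟨n, hn⟩ ∈ (Q : Subgroup G).subgroupOf N := by
        rw [Subgroup.mul_mem_iff_of_index_two hidx]
        constructor
        · intro h; exact absurd (Subgroup.mem_subgroupOf.mp h) htQ
        · intro h; exact absurd (Subgroup.mem_subgroupOf.mp h) hnQ
      have htn : t * n ∈ (Q : Subgroup G) := Subgroup.mem_subgroupOf.mp hmem
      have h2 := hQcomm _ htn _ haQ
      have e1 : n * (y * (t * y * t⁻¹)) = (t * t) * n * (y * (t * y * t⁻¹)) := by
        rw [htt, one_mul]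
      calc n * (y * (t * y * t⁻¹)) = (t * t) * n * (y * (t * y * t⁻¹)) := e1
        _ = t * ((t * n) * (y * (t * y * t⁻¹))) := by group
        _ = t * ((y * (t * y * t⁻¹)) * (t * n)) := by rw [h2]
        _ = (t * (y * (t * y * t⁻¹))) * (t * n) := by group
        _ = (y * (t * y * t⁻¹)) * t * (t * n) := by rw [hta]
        _ = (y * (t * y * t⁻¹)) * ((t * t) * n) := by group
        _ = (y * (t * y * t⁻¹)) * n := by rw [htt, one_mul]
  exact transfer_kill hG Q _ haQ ha1 hNcomm

/-- if all nonidentity elements of `Q` are conjugate to `x` and `|C(x)| = 9` then no involution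
commutes with an element of order 3 -/
theorem case_allconj {G : Type*} [Group G] [Finite G] (hcard : Nat.card G = 5472)
    [Fact (Nat.Prime 3)] (Q : Sylow 3 G) (x : G)
    (hC9 : Nat.card (centralizer ({x} : Set G)) = 9)
    (hall : ∀ b ∈ (Q : Subgroup G), b ≠ 1 → IsConj x b) :
    ∀ u y : G, orderOf u = 2 → orderOf y = 3 → u * y ≠ y * u := by
  intro u y hu hy huy
  obtain ⟨Q', hQ'⟩ := IsPGroup.exists_le_sylow (p := 3) (P := zpowers y)
    (IsPGroup.of_card (n := 1) (by rw [Nat.card_zpowers, hy, pow_one]))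
  obtain ⟨g, hg⟩ := MulAction.exists_smul_eq G Q Q'
  have hyQ' : y ∈ (Q' : Subgroup G) := hQ' (mem_zpowers y)
  rw [← hg] at hyQ'
  have hy2 := (helper5.mem_smul_sylow_iff g y Q).mp hyQ'
  have hne : g⁻¹ * y * g ≠ 1 := by
    intro h
    have hy1 : y = 1 := by
      have : y = g * (g⁻¹ * y * g) * g⁻¹ := by group
      rw [this, h]; group
    rw [hy1, orderOf_one] at hy; omega
  have hconj : IsConj x y := by
    have h1 := hall _ hy2 hne
    have h2 : IsConj (g⁻¹ * y * g) y := isConj_iff.mpr ⟨g, by group⟩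
    exact h1.trans h2
  have h1 := card_conj_mul_card_centralizer' x
  have h2 := card_conj_mul_card_centralizer' y
  have h3 : Nat.card {g : G // IsConj y g} = Nat.card {g : G // IsConj x g} :=
    Nat.card_congr (Equiv.subtypeEquivRight
      (fun g => ⟨fun hh => hconj.trans hh, fun hh => hconj.symm.trans hh⟩))
  rw [h3] at h2
  rw [hC9, hcard] at h1
  rw [hcard] at h2
  have hcl : Nat.card {g : G // IsConj x g} = 608 := by omega
  rw [hcl] at h2
  have hCy : Nat.card (centralizer ({y} : Set G)) = 9 := by omega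
  have huC : u ∈ centralizer ({y} : Set G) := mem_centralizer_singleton_iff.mpr huy
  have := Subgroup.orderOf_dvd_natCard _ huC
  rw [hCy, hu] at this; omega


theorem case72 {G : Type*} [Group G] [Finite G] (hcard : Nat.card G = 5472)
    [Fact (Nat.Prime 3)] (Q : Sylow 3 G) (hQcard : Nat.card (Q : Subgroup G) = 9)
    (hN : Nat.card (normalizer ((Q : Subgroup G) : Set G)) = 72)
    (x : G) (hxQ : x ∈ (Q : Subgroup G)) (hx3 : orderOf x = 3)
    (hC : Nat.card (centralizer ({x} : Set G)) = 9 ∨ Nat.card (centralizer ({x} : Set G)) = 18)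
    (hinv : IsConj x x⁻¹ → Nat.card (centralizer ({x} : Set G)) = 9)
    (hCL : (∀ u y : G, orderOf u = 2 → orderOf y = 3 → u * y ≠ y * u) → False) : False := by
  classical
  haveI : Fact (Nat.Prime 2) := ⟨Nat.prime_two⟩
  set N := normalizer ((Q : Subgroup G) : Set G) with hNdef
  have hQN : (Q : Subgroup G) ≤ N := Subgroup.le_normalizer
  have hQc : IsMulCommutative ↥(Q : Subgroup G) :=
    IsPGroup.isMulCommutative_of_card_eq_prime_sq (p := 3) (by rw [hQcard]; norm_num)
  have hQcomm : ∀ a ∈ (Q : Subgroup G), ∀ b ∈ (Q : Subgroup G), a * b = b * a :=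
    fun a ha b hb => congrArg Subtype.val (hQc.is_comm.comm ⟨a, ha⟩ ⟨b, hb⟩)
  have hQC : (Q : Subgroup G) ≤ centralizer ({x} : Set G) := by
    intro a ha
    exact mem_centralizer_singleton_iff.mpr (hQcomm a ha x hxQ)
  have hx1 : x ≠ 1 := by intro h; rw [h, orderOf_one] at hx3; omega
  have hxN : x ∈ N := hQN hxQ
  have hQ8 : (((Q : Subgroup G) : Set G) \ {1}).ncard = 8 := ncard_diff_one _ 9 hQcard
  have hfin : ∀ S : Set G, S.Finite := fun S => Set.toFinite S
  rcases hC with hC9 | hC18
  · -- all nonidentity elements of Q conjugate to x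
    have hinf : Nat.card ↥(N ⊓ centralizer ({x} : Set G)) = 9 := by
      have h1 : Nat.card ↥(N ⊓ centralizer ({x} : Set G)) ≤ 9 :=
        hC9 ▸ Subgroup.card_le_of_le inf_le_right
      have h2 : 9 ≤ Nat.card ↥(N ⊓ centralizer ({x} : Set G)) :=
        hQcard ▸ Subgroup.card_le_of_le (le_inf hQN hQC)
      omega
    have horb := orb_card N x hxN
    rw [hinf, hN] at horb
    have horb8 : (orb N x).ncard = 8 := by omega
    have hsub := orb_subset (Q : Subgroup G) N le_rfl x hxQ hx1
    have heq : orb N x = ((Q : Subgroup G) : Set G) \ {1} :=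
      Set.eq_of_subset_of_ncard_le hsub (by rw [hQ8, horb8]) (hfin _)
    apply hCL
    apply case_allconj hcard Q x hC9
    intro b hb hb1
    have hmem : b ∈ orb N x := by
      rw [heq]; exact ⟨hb, by rwa [Set.mem_singleton_iff]⟩
    obtain ⟨n, -, hn⟩ := hmem
    exact isConj_iff.mpr ⟨n, hn⟩
  · have hnot : ¬ IsConj x x⁻¹ := by
      intro h
      have := hinv h
      omega
    have hidx2 : ((Q : Subgroup G).subgroupOf (centralizer ({x} : Set G))).index = 2 := by
      have := ((Q : Subgroup G).subgroupOf (centralizer ({x} : Set G))).card_mul_index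
      rw [Nat.card_congr (Subgroup.subgroupOfEquivOfLe hQC).toEquiv, hQcard, hC18] at this
      omega
    haveI : ((Q : Subgroup G).subgroupOf (centralizer ({x} : Set G))).Normal :=
      Subgroup.normal_of_index_eq_two hidx2
    have hCN : centralizer ({x} : Set G) ≤ N := Subgroup.le_normalizer_of_normal_subgroupOf hQC
    have hinf : N ⊓ centralizer ({x} : Set G) = centralizer ({x} : Set G) := inf_eq_right.mpr hCN
    have horb := orb_card N x hxN
    rw [hinf, hC18, hN] at horb
    have horb4 : (orb N x).ncard = 4 := by omega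
    have hxiN : x⁻¹ ∈ N := N.inv_mem hxN
    have horb' := orb_card N x⁻¹ hxiN
    rw [centralizer_inv_eq, hinf, hC18, hN] at horb'
    have horb4' : (orb N x⁻¹).ncard = 4 := by omega
    have hxi1 : x⁻¹ ≠ 1 := by simpa using hx1
    have hsub := orb_subset (Q : Subgroup G) N le_rfl x hxQ hx1
    have hsub' := orb_subset (Q : Subgroup G) N le_rfl x⁻¹ ((Q : Subgroup G).inv_mem hxQ) hxi1
    have hdisj : Disjoint (orb N x) (orb N x⁻¹) := by
      rw [Set.disjoint_left]
      rintro b ⟨n, -, hn⟩ ⟨m, -, hm⟩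
      apply hnot
      have h1 : IsConj x b := isConj_iff.mpr ⟨n, hn⟩
      have h2 : IsConj x⁻¹ b := isConj_iff.mpr ⟨m, hm⟩
      exact h1.trans h2.symm
    have hun := Set.ncard_union_eq hdisj (hfin _) (hfin _)
    rw [horb4, horb4'] at hun
    have heq : orb N x ∪ orb N x⁻¹ = ((Q : Subgroup G) : Set G) \ {1} :=
      Set.eq_of_subset_of_ncard_le (Set.union_subset hsub hsub') (by rw [hQ8, hun]) (hfin _)
    have hORB : ∀ b ∈ (Q : Subgroup G), b ≠ 1 →
        ∃ n ∈ N, n * x * n⁻¹ = b ∨ n * x⁻¹ * n⁻¹ = b := by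
      intro b hb hb1
      have hmem : b ∈ orb N x ∪ orb N x⁻¹ := by
        rw [heq]; exact ⟨hb, by rwa [Set.mem_singleton_iff]⟩
      rcases hmem with ⟨n, hn, h⟩ | ⟨n, hn, h⟩
      · exact ⟨n, hn, Or.inl h⟩
      · exact ⟨n, hn, Or.inr h⟩
    have hKEY1 : ∀ b ∈ (Q : Subgroup G), b ≠ 1 → ¬ IsConj b b⁻¹ := by
      intro b hb hb1 hbb
      apply hnot
      obtain ⟨n, -, h | h⟩ := hORB b hb hb1
      · have h1 : IsConj x b := isConj_iff.mpr ⟨n, h⟩
        have h2 : IsConj x⁻¹ b⁻¹ := isConj_iff.mpr ⟨n, by rw [← h]; group⟩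
        exact (h1.trans hbb).trans h2.symm
      · have h1 : IsConj x⁻¹ b := isConj_iff.mpr ⟨n, h⟩
        have h2 : IsConj x b⁻¹ := isConj_iff.mpr ⟨n, by rw [← h]; group⟩
        exact (h2.trans hbb.symm).trans h1.symm
    -- an involution s in C(x)
    obtain ⟨⟨s, hsC⟩, hso⟩ := exists_prime_orderOf_dvd_card'
      (G := centralizer ({x} : Set G)) 2 (by rw [hC18]; norm_num)
    have hso' : orderOf s = 2 := by rwa [Subgroup.orderOf_mk] at hso
    have hss : s * s = 1 := by rw [← pow_two, ← hso']; exact pow_orderOf_eq_one s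
    have sinv : s⁻¹ = s := inv_eq_of_mul_eq_one_right hss
    have hsN : s ∈ N := hCN hsC
    have hsQ : s ∉ (Q : Subgroup G) := by
      intro h
      have := Subgroup.orderOf_dvd_natCard _ h
      rw [hQcard, hso'] at this; omega
    have hsconjQ : ∀ q ∈ (Q : Subgroup G), s * q * s⁻¹ ∈ (Q : Subgroup G) :=
      fun q hq => (Subgroup.mem_normalizer_iff.mp hsN q).mp hq
    by_cases hsub1 : ∃ y ∈ (Q : Subgroup G), s * y * s⁻¹ ≠ y
    · obtain ⟨y, hy, hne⟩ := hsub1
      have hbQ : y * (s * y * s⁻¹)⁻¹ ∈ (Q : Subgroup G) :=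
        (Q : Subgroup G).mul_mem hy ((Q : Subgroup G).inv_mem (hsconjQ y hy))
      have hb1 : y * (s * y * s⁻¹)⁻¹ ≠ 1 := by
        intro h
        exact hne (mul_inv_eq_one.mp h).symm
      apply hKEY1 _ hbQ hb1
      rw [isConj_iff]
      refine ⟨s, ?_⟩
      have hc := hQcomm _ (hsconjQ y hy) _ ((Q : Subgroup G).inv_mem hy)
      calc s * (y * (s * y * s⁻¹)⁻¹) * s⁻¹ = (s * y * s⁻¹) * ((s * s) * y⁻¹ * (s * s)⁻¹) := by
            group
        _ = (s * y * s⁻¹) * y⁻¹ := by rw [hss]; group
        _ = y⁻¹ * (s * y * s⁻¹) := hc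
        _ = (y * (s * y * s⁻¹)⁻¹)⁻¹ := by
            rw [hQcomm _ ((Q : Subgroup G).inv_mem hy) _ (hsconjQ y hy)]; group
    · push Not at hsub1
      -- s centralizes Q, hence so does C(x)
      have hCQ : ∀ v ∈ centralizer ({x} : Set G), ∀ q ∈ (Q : Subgroup G), v * q = q * v := by
        intro v hv q hq
        have hsq : ∀ q' ∈ (Q : Subgroup G), s * q' = q' * s := by
          intro q' hq'
          have := hsub1 q' hq'
          calc s * q' = s * q' * s⁻¹ * s := by group
            _ = q' * s := by rw [this]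
        by_cases hvQ : v ∈ (Q : Subgroup G)
        · exact hQcomm v hvQ q hq
        · have hmem : (⟨s, hsC⟩ : centralizer ({x} : Set G)) * ⟨v, hv⟩ ∈
              (Q : Subgroup G).subgroupOf (centralizer ({x} : Set G)) := by
            rw [Subgroup.mul_mem_iff_of_index_two hidx2]
            constructor
            · intro h; exact absurd (Subgroup.mem_subgroupOf.mp h) hsQ
            · intro h; exact absurd (Subgroup.mem_subgroupOf.mp h) hvQ
          have hsv : s * v ∈ (Q : Subgroup G) := Subgroup.mem_subgroupOf.mp hmem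
          have h2 := hQcomm _ hsv q hq
          have h3 := hsq q hq
          have e1 : v * q = (s * s) * v * q := by rw [hss, one_mul]
          calc v * q = (s * s) * v * q := e1
            _ = s * ((s * v) * q) := by group
            _ = s * (q * (s * v)) := by rw [h2]
            _ = (s * q) * (s * v) := by group
            _ = (q * s) * (s * v) := by rw [h3]
            _ = q * ((s * s) * v) := by group
            _ = q * v := by rw [hss, one_mul]
      have hKEY2 : ∀ w : G, ∀ b ∈ (Q : Subgroup G), b ≠ 1 → w * b = b * w →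
          w * x = x * w := by
        intro w b hb hb1 hwb
        obtain ⟨n, hn, hor⟩ := hORB b hb hb1
        have hv : n⁻¹ * w * n ∈ centralizer ({x} : Set G) := by
          rw [mem_centralizer_singleton_iff]
          rcases hor with h | h
          · rw [← h] at hwb
            calc n⁻¹ * w * n * x = n⁻¹ * (w * (n * x * n⁻¹)) * n := by group
              _ = n⁻¹ * ((n * x * n⁻¹) * w) * n := by rw [hwb]
              _ = x * (n⁻¹ * w * n) := by group
          · rw [← h] at hwb
            have hc : Commute (n⁻¹ * w * n) x⁻¹ := by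
              show n⁻¹ * w * n * x⁻¹ = x⁻¹ * (n⁻¹ * w * n)
              calc n⁻¹ * w * n * x⁻¹ = n⁻¹ * (w * (n * x⁻¹ * n⁻¹)) * n := by group
                _ = n⁻¹ * ((n * x⁻¹ * n⁻¹) * w) * n := by rw [hwb]
                _ = x⁻¹ * (n⁻¹ * w * n) := by group
            have := hc.inv_right
            rw [inv_inv] at this
            exact this.eq
        have hnx : n * x * n⁻¹ ∈ (Q : Subgroup G) :=
          (Subgroup.mem_normalizer_iff.mp hn x).mp hxQ
        have h4 := hCQ _ hv _ hnx
        -- hmm: we want w * x = x * w; use q := n x n⁻¹?  no: use conjugation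
        have hnix : n⁻¹ * x * n ∈ (Q : Subgroup G) := by
          have := (Subgroup.mem_normalizer_iff.mp (N.inv_mem hn) x).mp hxQ
          simpa using this
        have h5 := hCQ _ hv _ hnix
        calc w * x = n * ((n⁻¹ * w * n) * (n⁻¹ * x * n)) * n⁻¹ := by group
          _ = n * ((n⁻¹ * x * n) * (n⁻¹ * w * n)) * n⁻¹ := by rw [h5]
          _ = x * w := by group
      -- a 2-subgroup of N of order 8
      obtain ⟨K, hK⟩ := Sylow.exists_subgroup_card_pow_prime (G := N) 2 (n := 3)
        (by rw [hN]; norm_num)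
      have hKex : ∃ w0 : N, w0 ∈ K ∧ (w0 : G) * x ≠ x * w0 := by
        by_contra hcon
        push Not at hcon
        have hle : K.map N.subtype ≤ centralizer ({x} : Set G) := by
          rintro _ ⟨w0, hw0, rfl⟩
          exact mem_centralizer_singleton_iff.mpr (hcon w0 hw0)
        have h1 := Subgroup.card_dvd_of_le hle
        rw [Subgroup.card_map_of_injective N.subtype_injective, hK, hC18] at h1
        omega
      obtain ⟨w0, hw0K, hw0x⟩ := hKex
      have hw08 : (w0 : G) ^ 8 = 1 := by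
        have h1 : (⟨w0, hw0K⟩ : K) ^ 8 = 1 := by
          have := pow_card_eq_one' (G := K) (x := ⟨w0, hw0K⟩)
          rw [hK] at this
          exact this
        have h2 := congrArg (fun k : K => ((k : N) : G)) h1
        simpa using h2
      -- find w ∈ N with ¬ Cx w and Cx (w * w)
      have hwex : ∃ w ∈ N, w * x ≠ x * w ∧ (w * w) * x = x * (w * w) := by
        by_cases h2 : ((w0 : G) * w0) * x = x * ((w0 : G) * w0)
        · exact ⟨w0, w0.2, hw0x, h2⟩
        · by_cases h4 : (((w0 : G) * w0) * ((w0 : G) * w0)) * x =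
              x * (((w0 : G) * w0) * ((w0 : G) * w0))
          · exact ⟨(w0 : G) * w0, N.mul_mem w0.2 w0.2, h2, h4⟩
          · refine ⟨((w0 : G) * w0) * ((w0 : G) * w0),
              N.mul_mem (N.mul_mem w0.2 w0.2) (N.mul_mem w0.2 w0.2), h4, ?_⟩
            have : ((w0 : G) * w0) * ((w0 : G) * w0) * (((w0 : G) * w0) * ((w0 : G) * w0)) =
                (w0 : G) ^ 8 := by
              simp only [pow_succ, pow_zero, one_mul, mul_assoc]
            rw [this, hw08, one_mul, mul_one]
      obtain ⟨w, hwN, hwx, hw2⟩ := hwex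
      have hwxQ : w * x * w⁻¹ ∈ (Q : Subgroup G) :=
        (Subgroup.mem_normalizer_iff.mp hwN x).mp hxQ
      have heQ : x * (w * x * w⁻¹) ∈ (Q : Subgroup G) := (Q : Subgroup G).mul_mem hxQ hwxQ
      have hwe : w * (x * (w * x * w⁻¹)) = (x * (w * x * w⁻¹)) * w := by
        have hc := hQcomm _ hwxQ x hxQ
        calc w * (x * (w * x * w⁻¹)) = (w * x * w⁻¹) * ((w * w) * x) * w⁻¹ := by group
          _ = (w * x * w⁻¹) * (x * (w * w)) * w⁻¹ := by rw [hw2]
          _ = ((w * x * w⁻¹) * x) * w := by group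
          _ = (x * (w * x * w⁻¹)) * w := by rw [hc]
      by_cases he1 : x * (w * x * w⁻¹) = 1
      · apply hnot
        rw [isConj_iff]
        exact ⟨w, eq_inv_of_mul_eq_one_right he1⟩
      · exact hwx (hKEY2 w _ heQ he1 hwe)


theorem no_simple_5472 {G : Type*} [Group G] [Finite G] [IsSimpleGroup G] :
    Nat.card G ≠ 5472 := by
  intro hcard
  classical
  haveI : Fact (Nat.Prime 19) := ⟨by norm_num⟩
  haveI : Fact (Nat.Prime 3) := ⟨Nat.prime_three⟩
  haveI : Fact (Nat.Prime 2) := ⟨Nat.prime_two⟩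
  have hG : ∃ a b : G, a * b ≠ b * a :=
    helper5.nonabelian_of_card_not_prime (by rw [hcard]; norm_num)
  obtain ⟨P⟩ : Nonempty (Sylow 19 G) := inferInstance
  obtain ⟨hPcard, hn19, hAcard, -⟩ := sylow19_facts hcard hG P
  have h19c := card_centralizer_of_orderOf_19 hcard hG
  have h19n : Nat.card {g : G // orderOf g = 19} = 1728 := by
    rw [card_orderOf_eq_prime (p := 19) (fun P' => (sylow19_facts hcard hG P').1), hn19]
  have hCL : (∀ u y : G, orderOf u = 2 → orderOf y = 3 → u * y ≠ y * u) → False :=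
    counting_contra hcard h19c h19n
  obtain ⟨⟨x, hxA⟩, hxo⟩ := exists_prime_orderOf_dvd_card'
    (G := normalizer ((P : Subgroup G) : Set G)) 3 (by rw [hAcard]; norm_num)
  have hx3 : orderOf x = 3 := by rwa [Subgroup.orderOf_mk] at hxo
  have hctx := ctx_of hcard hG P x hxA hx3
  obtain ⟨hcount, hc19, hc38⟩ := hctx.conj_count
  have hfle := hctx.fix_le
  -- Sylow 3
  obtain ⟨Q, hQ⟩ := IsPGroup.exists_le_sylow (p := 3) (P := zpowers x)
    (IsPGroup.of_card (n := 1) (by rw [Nat.card_zpowers, hx3, pow_one]))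
  have hxQ : x ∈ (Q : Subgroup G) := hQ (mem_zpowers x)
  obtain ⟨hQcard', hQidx⟩ := helper5.sylow_card_of_card_eq Q 2 608
    (by rw [hcard]; norm_num) (by norm_num)
  have hQcard : Nat.card (Q : Subgroup G) = 9 := by simpa using hQcard'
  have hQc : IsMulCommutative ↥(Q : Subgroup G) :=
    IsPGroup.isMulCommutative_of_card_eq_prime_sq (p := 3) (by rw [hQcard]; norm_num)
  have hQcomm : ∀ a ∈ (Q : Subgroup G), ∀ b ∈ (Q : Subgroup G), a * b = b * a :=
    fun a ha b hb => congrArg Subtype.val (hQc.is_comm.comm ⟨a, ha⟩ ⟨b, hb⟩)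
  have hQC : (Q : Subgroup G) ≤ centralizer ({x} : Set G) := by
    intro a ha
    exact mem_centralizer_singleton_iff.mpr (hQcomm a ha x hxQ)
  have h9C : 9 ∣ Nat.card (centralizer ({x} : Set G)) := hQcard ▸ Subgroup.card_dvd_of_le hQC
  have hCpos : 0 < Nat.card (centralizer ({x} : Set G)) := Nat.card_pos
  have hx1 : x ≠ 1 := by intro h; rw [h, orderOf_one] at hx3; omega
  -- arithmetic
  have hC18 : Nat.card (centralizer ({x} : Set G)) ≤ 18 := by
    have h1 : 19 * Nat.card (centralizer ({x} : Set G)) ≤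
        Nat.card {g : G // IsConj x g ∧ g ∈ normalizer ((P : Subgroup G) : Set G)} *
          Nat.card (centralizer ({x} : Set G)) := Nat.mul_le_mul_right _ hc19
    rw [← hcount] at h1
    omega
  have hC : Nat.card (centralizer ({x} : Set G)) = 9 ∨
      Nat.card (centralizer ({x} : Set G)) = 18 := by
    obtain ⟨k, hk⟩ := h9C
    omega
  have hinvcase : IsConj x x⁻¹ → Nat.card (centralizer ({x} : Set G)) = 9 ∧
      fixN x (G ⧸ normalizer ((P : Subgroup G) : Set G)) = 6 := by
    intro hc
    have h38 := hc38 hc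
    have h1 : 38 * Nat.card (centralizer ({x} : Set G)) ≤
        Nat.card {g : G // IsConj x g ∧ g ∈ normalizer ((P : Subgroup G) : Set G)} *
          Nat.card (centralizer ({x} : Set G)) := Nat.mul_le_mul_right _ h38
    rw [← hcount] at h1
    have hC9 : Nat.card (centralizer ({x} : Set G)) = 9 := by
      rcases hC with h | h
      · exact h
      · rw [h] at h1; omega
    refine ⟨hC9, ?_⟩
    rw [hC9] at hcount
    omega
  -- the number of Sylow 3-subgroups
  have hQbot : (Q : Subgroup G) ≠ ⊥ := helper5.sylow_ne_bot Q (by rw [hcard]; norm_num)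
  have hQtop : (Q : Subgroup G) ≠ ⊤ := by
    intro h
    have := (Subgroup.card_eq_iff_eq_top _).mpr h
    rw [hQcard, hcard] at this; omega
  have hne1 := helper5.sylow_count_ne_one Q hQbot hQtop
  obtain ⟨hmod3, hdvd3, hmul3⟩ := helper5.sylow_count_facts Q
  rw [hQidx] at hdvd3
  have hidxN : Nat.card (Sylow 3 G) = (normalizer ((Q : Subgroup G) : Set G)).index :=
    Q.card_eq_index_normalizer
  have hfact : ∀ k : ℕ, k < 19 → Nat.card (Sylow 3 G) = k → k ≠ 1 → False := by
    intro k hk hn hk1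
    have hNtop : normalizer ((Q : Subgroup G) : Set G) ≠ ⊤ := by
      intro h
      rw [h, Subgroup.index_top] at hidxN
      omega
    have h1 := Cfsg.Agent.helper11.O504.card_dvd_factorial_index
      (normalizer ((Q : Subgroup G) : Set G)) hNtop
    rw [← hidxN, hn, hcard] at h1
    have h2 : 19 ∣ k.factorial := Dvd.dvd.trans (by norm_num) h1
    have h3 := (Nat.Prime.dvd_factorial (by norm_num : Nat.Prime 19)).mp h2
    omega
  rcases div608 _ hdvd3 hmod3 with h | h | h | h | h | h
  · exact hne1 h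
  · exact hfact 4 (by norm_num) h (by norm_num)
  · exact hfact 16 (by norm_num) h (by norm_num)
  · -- |N| = 288
    have hN : Nat.card (normalizer ((Q : Subgroup G) : Set G)) = 288 := by
      rw [h, hcard] at hmul3; omega
    have hxN : x ∈ normalizer ((Q : Subgroup G) : Set G) := Subgroup.le_normalizer hxQ
    have horb := orb_card (normalizer ((Q : Subgroup G) : Set G)) x hxN
    rw [hN] at horb
    have hsub := orb_subset (Q : Subgroup G) (normalizer ((Q : Subgroup G) : Set G)) le_rfl
      x hxQ hx1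
    have hQ8 : (((Q : Subgroup G) : Set G) \ {1}).ncard = 8 := ncard_diff_one _ 9 hQcard
    have h1 : (orb (normalizer ((Q : Subgroup G) : Set G)) x).ncard ≤ 8 :=
      hQ8 ▸ Set.ncard_le_ncard hsub (Set.toFinite _)
    have h2 : Nat.card ↥(normalizer ((Q : Subgroup G) : Set G) ⊓ centralizer ({x} : Set G)) ≤
        18 := le_trans (Subgroup.card_le_of_le inf_le_right) hC18
    have h3 := Nat.mul_le_mul h1 h2
    rw [horb] at h3
    omega
  · -- |N| = 72
    have hN : Nat.card (normalizer ((Q : Subgroup G) : Set G)) = 72 := by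
      rw [h, hcard] at hmul3; omega
    exact case72 hcard Q hQcard hN x hxQ hx3 hC (fun hc => (hinvcase hc).1) hCL
  · -- |N| = 18
    have hN : Nat.card (normalizer ((Q : Subgroup G) : Set G)) = 18 := by
      rw [h, hcard] at hmul3; omega
    obtain ⟨t, ht⟩ := case18 hG Q hQcard hN
    have hconj : IsConj x x⁻¹ := isConj_iff.mpr ⟨t, ht x hxQ⟩
    obtain ⟨hC9, hf6⟩ := hinvcase hconj
    have hQeq : (Q : Subgroup G) = centralizer ({x} : Set G) :=
      Subgroup.eq_of_le_of_card_ge hQC (by rw [hC9, hQcard])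
    apply hCL
    intro u y hu hy huy
    exact design_contra hctx hf6 hC9 t (fun q hq => ht q (hQeq ▸ hq)) u y hu hy huy

end Cfsg.Agent.helper27.O5472
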