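import Mathlib
import Cfsg.Agent.Lib_helper27_O3648a

set_option autoImplicit false

namespace Cfsg.Agent.helper27.PG

variable {G : Type*} [Group G]

/-- adjacency in the prime graph -/
def Adj (G : Type*) [Group G] (p q : ℕ) : Prop := ∃ g : G, orderOf g = p * q

theorem adj_of_commute [Finite G] {x y : G} (h : Commute x y) {r q : ℕ} (hr : r.Prime)
    (hq : q.Prime) (hrq : r ≠ q) (hx : r ∣ orderOf x) (hy : q ∣ orderOf y) : Adj G r q := by
  have hx0 : orderOf x ≠ 0 := (orderOf_pos x).ne'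
  have hy0 : orderOf y ≠ 0 := (orderOf_pos y).ne'
  refine ⟨x ^ (orderOf x / r) * y ^ (orderOf y / q), ?_⟩
  have h1 : orderOf (x ^ (orderOf x / r)) = r := orderOf_pow_orderOf_div hx0 hx
  have h2 : orderOf (y ^ (orderOf y / q)) = q := orderOf_pow_orderOf_div hy0 hy
  have hc : Commute (x ^ (orderOf x / r)) (y ^ (orderOf y / q)) := h.pow_pow _ _
  rw [hc.orderOf_mul_eq_mul_orderOf_of_coprime, h1, h2]
  rw [h1, h2]; exact (Nat.coprime_primes hr hq).mpr hrq

/-- conjugation action of `K` on `Y` when `K` normalizes `Y` -/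
@[reducible] def conjActOn (K Y : Subgroup G) (h : K ≤ Subgroup.normalizer (Y : Set G)) :
    MulAction K Y where
  smul k y := ⟨k * y * k⁻¹, (Subgroup.mem_normalizer_iff.mp (h k.2) y).mp y.2⟩
  one_smul y := by
    apply Subtype.ext
    show ((1 : K) : G) * y * ((1 : K) : G)⁻¹ = y
    simp
  mul_smul a b y := by
    apply Subtype.ext
    show ((a * b : K) : G) * y * ((a * b : K) : G)⁻¹ = (a : G) * ((b : G) * y * (b : G)⁻¹) * (a : G)⁻¹
    simp [mul_assoc]

theorem exists_commute_of_normalizer [Finite G] {x : G} {r : ℕ} (hr : r.Prime)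
    (hx : orderOf x = r) (Y : Subgroup G) (hxY : x ∈ Subgroup.normalizer (Y : Set G))
    (hmod : Nat.card Y % r ≠ 1) : ∃ y ∈ Y, y ≠ 1 ∧ Commute x y := by
  have : Fact r.Prime := ⟨hr⟩
  set K := Subgroup.zpowers x with hK
  have hKle : K ≤ Subgroup.normalizer (Y : Set G) := by
    rw [hK, Subgroup.zpowers_le]; exact hxY
  let _ := conjActOn K Y hKle
  have hKp : IsPGroup r K := by
    apply IsPGroup.of_card (n := 1)
    rw [pow_one, hK, Nat.card_zpowers, hx]
  have hcong := hKp.card_modEq_card_fixedPoints Y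
  by_contra hcon
  push Not at hcon
  have hfix : ∀ y : Y, y ∈ MulAction.fixedPoints K Y → y = 1 := by
    intro y hy
    by_contra hy1
    have hxK : x ∈ K := Subgroup.mem_zpowers x
    have := hy ⟨x, hxK⟩
    have h2 : x * (y : G) * x⁻¹ = (y : G) := congrArg Subtype.val this
    have hne : (y : G) ≠ 1 := fun h => hy1 (Subtype.ext h)
    apply hcon y y.2 hne
    show x * y = y * x
    calc x * (y : G) = x * y * x⁻¹ * x := by group
      _ = y * x := by rw [h2]
  have hcard : Nat.card (MulAction.fixedPoints K Y) = 1 := by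
    rw [Nat.card_eq_one_iff_unique]
    refine ⟨⟨?_⟩, ⟨⟨1, ?_⟩⟩⟩
    · intro a b
      apply Subtype.ext
      rw [hfix a.1 a.2, hfix b.1 b.2]
    · intro k
      apply Subtype.ext
      show (k : G) * ((1 : Y) : G) * (k : G)⁻¹ = ((1 : Y) : G)
      simp
  rw [hcard] at hcong
  apply hmod
  have := hcong
  rw [Nat.ModEq, Nat.mod_eq_of_lt hr.one_lt] at this
  exact this

theorem exists_commute_of_card_le [Finite G] (K Y : Subgroup G)
    (h : K ≤ Subgroup.normalizer (Y : Set G)) {y : G} (hy : y ∈ Y) (hy1 : y ≠ 1)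
    (hcard : Nat.card Y ≤ Nat.card K) : ∃ k ∈ K, k ≠ 1 ∧ Commute k y := by
  by_contra hcon
  push Not at hcon
  let f : K ⊕ Unit → Y := Sum.elim
    (fun k => ⟨k * y * k⁻¹, (Subgroup.mem_normalizer_iff.mp (h k.2) y).mp hy⟩) (fun _ => 1)
  have hf : Function.Injective f := by
    intro a b hab
    rcases a with a | a <;> rcases b with b | b
    · have h1 : (a : G) * y * (a : G)⁻¹ = (b : G) * y * (b : G)⁻¹ := congrArg Subtype.val hab
      congr 1
      by_contra hne
      have hk : (b : G)⁻¹ * a ∈ K := K.mul_mem (K.inv_mem b.2) a.2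
      have hk1 : (b : G)⁻¹ * a ≠ 1 := by
        intro h0
        apply hne
        apply Subtype.ext
        have : (a : G) = b := by
          calc (a : G) = b * ((b : G)⁻¹ * a) := by group
            _ = b := by rw [h0, mul_one]
        exact this
      apply hcon _ hk hk1
      show (b : G)⁻¹ * a * y = y * ((b : G)⁻¹ * a)
      calc (b : G)⁻¹ * a * y = (b : G)⁻¹ * (a * y * (a : G)⁻¹) * a := by group
        _ = (b : G)⁻¹ * (b * y * (b : G)⁻¹) * a := by rw [h1]
        _ = y * ((b : G)⁻¹ * a) := by group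
    · exfalso
      have h1 : (a : G) * y * (a : G)⁻¹ = 1 := congrArg Subtype.val hab
      apply hy1
      calc y = (a : G)⁻¹ * (a * y * (a : G)⁻¹) * a := by group
        _ = 1 := by rw [h1]; group
    · exfalso
      have h1 : (1 : G) = (b : G) * y * (b : G)⁻¹ := congrArg Subtype.val hab
      apply hy1
      calc y = (b : G)⁻¹ * (b * y * (b : G)⁻¹) * b := by group
        _ = 1 := by rw [← h1]; group
    · rfl
  have := Nat.card_le_card_of_injective f hf
  have hu : Nat.card Unit = 1 := Nat.card_unique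
  rw [Nat.card_sum, hu] at this
  omega


/-- Frattini: the index of a normal subgroup divides the order of the normalizer of (the image of)
one of its Sylow subgroups. -/
theorem frattini_dvd [Finite G] (N : Subgroup G) [N.Normal] {q : ℕ} [Fact q.Prime]
    (Y : Sylow q N) :
    N.index ∣ Nat.card (Subgroup.normalizer
      (((Y : Subgroup N).map N.subtype : Subgroup G) : Set G)) := by
  have h := Sylow.normalizer_sup_eq_top Y
  set H := Subgroup.normalizer (((Y : Subgroup N).map N.subtype : Subgroup G) : Set G) with hH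
  have h1 : N.relIndex (H ⊔ N) = N.relIndex H := Subgroup.relIndex_sup_right H N
  rw [h, Subgroup.relIndex_top_right] at h1
  rw [h1]
  exact Subgroup.index_dvd_card _

theorem frattini_elem [Finite G] (N : Subgroup G) [N.Normal] {q : ℕ} [Fact q.Prime]
    (Y : Sylow q N) {r : ℕ} (hr : r.Prime) (hdvd : r ∣ N.index) :
    ∃ x : G, orderOf x = r ∧ x ∈ Subgroup.normalizer
      (((Y : Subgroup N).map N.subtype : Subgroup G) : Set G) := by
  have : Fact r.Prime := ⟨hr⟩
  have h := hdvd.trans (frattini_dvd N Y)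
  obtain ⟨x, hx⟩ := exists_prime_orderOf_dvd_card' r h
  exact ⟨(x : G), by rw [Subgroup.orderOf_coe]; exact hx, x.2⟩

theorem frattini_sub [Finite G] (N : Subgroup G) [N.Normal] {q : ℕ} [Fact q.Prime]
    (Y : Sylow q N) {r k : ℕ} (hr : r.Prime) (hdvd : r ^ k ∣ N.index) :
    ∃ T : Subgroup G, T ≤ Subgroup.normalizer
      (((Y : Subgroup N).map N.subtype : Subgroup G) : Set G) ∧ Nat.card T = r ^ k := by
  have : Fact r.Prime := ⟨hr⟩
  have h := hdvd.trans (frattini_dvd N Y)
  obtain ⟨K, hK⟩ := Sylow.exists_subgroup_card_pow_prime r h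
  refine ⟨K.map (Subgroup.subtype _), ?_, ?_⟩
  · rintro _ ⟨k, _, rfl⟩
    exact k.2
  · rw [Subgroup.card_map_of_injective (Subgroup.subtype_injective _), hK]

/-- elements of a subgroup of prime power order -/
theorem dvd_orderOf_of_mem_ppow [Finite G] {T : Subgroup G} {r k : ℕ} (hr : r.Prime)
    (hT : Nat.card T = r ^ k) {t : G} (ht : t ∈ T) (ht1 : t ≠ 1) : r ∣ orderOf t := by
  have h1 : orderOf (⟨t, ht⟩ : T) ∣ r ^ k := by
    rw [← hT]; exact orderOf_dvd_natCard _
  rw [← Subgroup.orderOf_coe] at h1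
  obtain ⟨j, hj, hj2⟩ := (Nat.dvd_prime_pow hr).mp h1
  have hj0 : j ≠ 0 := by
    rintro rfl
    rw [pow_zero, orderOf_eq_one_iff] at hj2
    exact ht1 hj2
  show r ∣ orderOf t
  have : orderOf t = r ^ j := hj2
  rw [this]
  exact dvd_pow_self r hj0

theorem frattini_adj [Finite G] (N : Subgroup G) [N.Normal] {q r : ℕ} (hq : q.Prime)
    (hr : r.Prime) (hqr : r ≠ q) (hqN : q ∣ Nat.card N) (hrN : r ∣ N.index)
    (hmod : ∀ k, 0 < k → q ^ k ∣ Nat.card N → q ^ k % r ≠ 1) : Adj G r q := by
  have : Fact q.Prime := ⟨hq⟩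
  obtain ⟨Y⟩ : Nonempty (Sylow q N) := inferInstance
  obtain ⟨x, hx, hxY⟩ := frattini_elem N Y hr hrN
  set YG : Subgroup G := (Y : Subgroup N).map N.subtype with hYG
  have hcard : Nat.card YG = q ^ (Nat.card N).factorization q := by
    rw [hYG, Subgroup.card_map_of_injective (Subgroup.subtype_injective _), Y.card_eq_multiplicity]
  have hN0 : Nat.card N ≠ 0 := Nat.card_pos.ne'
  have hk : 0 < (Nat.card N).factorization q := hq.factorization_pos_of_dvd hN0 hqN
  have hm := hmod _ hk (Nat.ordProj_dvd _ _)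
  rw [← hcard] at hm
  obtain ⟨y, hyY, hy1, hc⟩ := exists_commute_of_normalizer hr hx YG hxY hm
  exact adj_of_commute hc hr hq hqr (by rw [hx]) (dvd_orderOf_of_mem_ppow hq hcard hyY hy1)

theorem frattini_adj_big [Finite G] (N : Subgroup G) [N.Normal] {q r k : ℕ} (hq : q.Prime)
    (hr : r.Prime) (hqr : r ≠ q) (hqN : q ∣ Nat.card N) (hrN : r ^ k ∣ N.index)
    (hle : ∀ j, q ^ j ∣ Nat.card N → q ^ j ≤ r ^ k) : Adj G r q := by
  have : Fact q.Prime := ⟨hq⟩
  obtain ⟨Y⟩ : Nonempty (Sylow q N) := inferInstance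
  obtain ⟨T, hT, hTc⟩ := frattini_sub N Y hr hrN
  set YG : Subgroup G := (Y : Subgroup N).map N.subtype with hYG
  have hcard : Nat.card YG = q ^ (Nat.card N).factorization q := by
    rw [hYG, Subgroup.card_map_of_injective (Subgroup.subtype_injective _), Y.card_eq_multiplicity]
  have hN0 : Nat.card N ≠ 0 := Nat.card_pos.ne'
  have hk : 0 < (Nat.card N).factorization q := hq.factorization_pos_of_dvd hN0 hqN
  have hl := hle _ (Nat.ordProj_dvd _ _)
  have hYne : ∃ y ∈ YG, y ≠ 1 := by
    by_contra hcon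
    push Not at hcon
    have hbot : YG = ⊥ := by
      rw [Subgroup.eq_bot_iff_forall]; exact hcon
    rw [hbot, Subgroup.card_bot] at hcard
    have : 1 < q ^ (Nat.card N).factorization q := Nat.one_lt_pow hk.ne' hq.one_lt
    omega
  obtain ⟨y, hyY, hy1⟩ := hYne
  obtain ⟨t, htT, ht1, hc⟩ := exists_commute_of_card_le T YG hT hyY hy1 (by rw [hcard, hTc]; exact hl)
  exact adj_of_commute hc hr hq hqr (dvd_orderOf_of_mem_ppow hr hTc htT ht1)
    (dvd_orderOf_of_mem_ppow hq hcard hyY hy1)

end Cfsg.Agent.helper27.PG
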