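import Mathlib
import Cfsg.Agent.Lib_helper27_PG1
import Cfsg.Agent.Lib_helper5_Simple

set_option autoImplicit false

namespace Cfsg.Agent.helper27.PG

variable {G : Type*} [Group G]

theorem prime_dvd_7920 {p : ℕ} (hp : p.Prime) (h : p ∣ 7920) : p = 2 ∨ p = 3 ∨ p = 5 ∨ p = 11 := by
  have h1 : p ∣ 2 ^ 4 * 3 ^ 2 * 5 * 11 := by
    have : 2 ^ 4 * 3 ^ 2 * 5 * 11 = 7920 := by norm_num
    rw [this]; exact h
  rcases (Nat.Prime.dvd_mul hp).mp h1 with h | h
  · rcases (Nat.Prime.dvd_mul hp).mp h with h | h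
    · rcases (Nat.Prime.dvd_mul hp).mp h with h | h
      · left; exact (Nat.prime_dvd_prime_iff_eq hp Nat.prime_two).mp (hp.dvd_of_dvd_pow h)
      · right; left; exact (Nat.prime_dvd_prime_iff_eq hp Nat.prime_three).mp (hp.dvd_of_dvd_pow h)
    · right; right; left; exact (Nat.prime_dvd_prime_iff_eq hp (by norm_num)).mp h
  · right; right; right; exact (Nat.prime_dvd_prime_iff_eq hp (by norm_num)).mp h

/-- the colouring coming from a disconnection of the prime graph -/
theorem color_of_disc [Finite G] (hord : Nat.card G = 7920)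
    (hdisc : (∃ A : Set ℕ, (∃ a ∈ A, a.Prime ∧ a ∣ Nat.card G) ∧ (∃ b ∉ A, b.Prime ∧ b ∣ Nat.card G) ∧
      ∀ a ∈ A, ∀ b ∉ A, a.Prime → b.Prime → a ∣ Nat.card G → b ∣ Nat.card G →
        ¬ ∃ g : G, orderOf g = a * b)) :
    ∃ c : ℕ → Prop, (∀ p q : ℕ, (p = 2 ∨ p = 3 ∨ p = 5 ∨ p = 11) → (q = 2 ∨ q = 3 ∨ q = 5 ∨ q = 11) →
        Adj G p q → (c p ↔ c q)) ∧
      ¬ ((c 2 ↔ c 3) ∧ (c 2 ↔ c 5) ∧ (c 2 ↔ c 11)) := by
  obtain ⟨A, ⟨a, haA, hap, had⟩, ⟨b, hbA, hbp, hbd⟩, hAB⟩ := hdisc
  rw [hord] at had hbd hAB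
  refine ⟨fun p => p ∈ A, ?_, ?_⟩
  · intro p q hp hq ⟨g, hg⟩
    have hpp : p.Prime := by rcases hp with rfl | rfl | rfl | rfl <;> norm_num
    have hqp : q.Prime := by rcases hq with rfl | rfl | rfl | rfl <;> norm_num
    have hpd : p ∣ 7920 := by rcases hp with rfl | rfl | rfl | rfl <;> norm_num
    have hqd : q ∣ 7920 := by rcases hq with rfl | rfl | rfl | rfl <;> norm_num
    constructor
    · intro hpA
      by_contra hqA
      exact hAB p hpA q hqA hpp hqp hpd hqd ⟨g, hg⟩
    · intro hqA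
      by_contra hpA
      exact hAB q hqA p hpA hqp hpp hqd hpd ⟨g, by rw [hg, mul_comm]⟩
  · intro ⟨h23, h25, h211⟩
    have ha := prime_dvd_7920 hap had
    have hb := prime_dvd_7920 hbp hbd
    have h2a : (2 ∈ A ↔ a ∈ A) := by
      rcases ha with rfl | rfl | rfl | rfl
      · exact Iff.rfl
      · exact h23
      · exact h25
      · exact h211
    have h2b : (2 ∈ A ↔ b ∈ A) := by
      rcases hb with rfl | rfl | rfl | rfl
      · exact Iff.rfl
      · exact h23
      · exact h25
      · exact h211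
    exact hbA (h2b.mp (h2a.mpr haA))

section

variable [Finite G] (hord : Nat.card G = 7920)
include hord

theorem card_sylow11 (P : Sylow 11 G) : Nat.card P = 11 := by
  have : Fact (Nat.Prime 11) := ⟨by norm_num⟩
  have := (Cfsg.Agent.helper5.sylow_card_of_card_eq P 1 720 (by rw [hord]; norm_num) (by norm_num)).1
  simpa using this

theorem card_sylow5 (P : Sylow 5 G) : Nat.card P = 5 := by
  have : Fact (Nat.Prime 5) := ⟨by norm_num⟩
  have := (Cfsg.Agent.helper5.sylow_card_of_card_eq P 1 1584 (by rw [hord]; norm_num) (by norm_num)).1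
  simpa using this

theorem card_sylow3 (P : Sylow 3 G) : Nat.card P = 9 := by
  have : Fact (Nat.Prime 3) := ⟨by norm_num⟩
  have := (Cfsg.Agent.helper5.sylow_card_of_card_eq P 2 880 (by rw [hord]; norm_num) (by norm_num)).1
  simpa using this

theorem card_sylow2 (P : Sylow 2 G) : Nat.card P = 16 := by
  have : Fact (Nat.Prime 2) := ⟨by norm_num⟩
  have := (Cfsg.Agent.helper5.sylow_card_of_card_eq P 4 495 (by rw [hord]; norm_num) (by norm_num)).1
  simpa using this

end

/-- automizer of a cyclic subgroup -/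
theorem aut_dvd [Finite G] (P : Subgroup G) [IsCyclic P] :
    (Subgroup.centralizer (P : Set G)).relIndex (Subgroup.normalizer (P : Set G)) ∣
      Nat.totient (Nat.card P) := by
  have key := Subgroup.card_dvd_of_injective _
    (QuotientGroup.kerLift_injective P.normalizerMonoidHom)
  rw [Subgroup.normalizerMonoidHom_ker, ← Subgroup.index, ← Subgroup.relIndex] at key
  rwa [IsCyclic.card_mulAut] at key

theorem card_cent_mul [Finite G] (P : Subgroup G) :
    Nat.card (Subgroup.centralizer (P : Set G)) *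
      (Subgroup.centralizer (P : Set G)).relIndex (Subgroup.normalizer (P : Set G)) =
      Nat.card (Subgroup.normalizer (P : Set G)) := by
  have h := Subgroup.card_mul_index
    ((Subgroup.centralizer (P : Set G)).subgroupOf (Subgroup.normalizer (P : Set G)))
  rw [← Subgroup.relIndex] at h
  rw [← h]
  congr 1
  exact (Nat.card_congr (Subgroup.subgroupOfEquivOfLe
    (Subgroup.centralizer_le_normalizer (P : Set G))).toEquiv).symm

theorem exists_gen_of_card_prime [Finite G] (P : Subgroup G) {p : ℕ} (hp : p.Prime)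
    (hP : Nat.card P = p) : ∃ x ∈ P, orderOf x = p ∧ P = Subgroup.zpowers x := by
  have : Fact p.Prime := ⟨hp⟩
  obtain ⟨x, hx⟩ := exists_prime_orderOf_dvd_card' (G := P) p (by rw [hP])
  refine ⟨(x : G), x.2, by rw [Subgroup.orderOf_coe]; exact hx, ?_⟩
  symm
  apply Subgroup.eq_of_le_of_card_ge
  · rw [Subgroup.zpowers_le]; exact x.2
  · rw [hP, Nat.card_zpowers, Subgroup.orderOf_coe, hx]


set_option maxRecDepth 100000 in
theorem n11_cases [Finite G] (hord : Nat.card G = 7920) (P : Sylow 11 G) :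
    Nat.card (Sylow 11 G) = 1 ∨ Nat.card (Sylow 11 G) = 12 ∨ Nat.card (Sylow 11 G) = 45 ∨
      Nat.card (Sylow 11 G) = 144 := by
  have : Fact (Nat.Prime 11) := ⟨by norm_num⟩
  obtain ⟨h1, h2, _⟩ := Cfsg.Agent.helper5.sylow_count_facts P
  have hidx := (Cfsg.Agent.helper5.sylow_card_of_card_eq P 1 720 (by rw [hord]; norm_num)
    (by norm_num)).2
  rw [hidx] at h2
  have key : ∀ n ∈ Nat.divisors 720, n % 11 = 1 → n = 1 ∨ n = 12 ∨ n = 45 ∨ n = 144 := by decide
  exact key _ (Nat.mem_divisors.mpr ⟨h2, by norm_num⟩) h1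

theorem pow3_bound {k m : ℕ} (hk : 3 ^ k ∣ m) (hm : m ∣ 7920) : k ≤ 2 := by
  by_contra h
  push Not at h
  have h1 : 3 ^ 3 ∣ 3 ^ k := pow_dvd_pow 3 h
  have := (h1.trans hk).trans hm
  norm_num at this

theorem pow2_bound {k m : ℕ} (hk : 2 ^ k ∣ m) (hm : m ∣ 7920) : k ≤ 4 := by
  by_contra h
  push Not at h
  have h1 : 2 ^ 5 ∣ 2 ^ k := pow_dvd_pow 2 h
  have := (h1.trans hk).trans hm
  norm_num at this

theorem pow5_bound {k m : ℕ} (hk : 5 ^ k ∣ m) (hm : m ∣ 7920) : k ≤ 1 := by
  by_contra h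
  push Not at h
  have h1 : 5 ^ 2 ∣ 5 ^ k := pow_dvd_pow 5 h
  have := (h1.trans hk).trans hm
  norm_num at this

theorem pow11_bound {k m : ℕ} (hk : 11 ^ k ∣ m) (hm : m ∣ 7920) : k ≤ 1 := by
  by_contra h
  push Not at h
  have h1 : 11 ^ 2 ∣ 11 ^ k := pow_dvd_pow 11 h
  have := (h1.trans hk).trans hm
  norm_num at this

/-- transport of adjacency from a subgroup -/
theorem adj_of_subgroup {H : Subgroup G} {p q : ℕ} (h : Adj H p q) : Adj G p q := by
  obtain ⟨g, hg⟩ := h
  exact ⟨(g : G), by rw [Subgroup.orderOf_coe]; exact hg⟩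

/-- Lemma A: the number of Sylow 11-subgroups is 45 or 144. -/
theorem lemmaA [Finite G] (hord : Nat.card G = 7920) (c : ℕ → Prop)
    (hc : ∀ p q : ℕ, (p = 2 ∨ p = 3 ∨ p = 5 ∨ p = 11) → (q = 2 ∨ q = 3 ∨ q = 5 ∨ q = 11) →
        Adj G p q → (c p ↔ c q))
    (hne : ¬ ((c 2 ↔ c 3) ∧ (c 2 ↔ c 5) ∧ (c 2 ↔ c 11))) (P : Sylow 11 G) :
    Nat.card (Sylow 11 G) = 45 ∨ Nat.card (Sylow 11 G) = 144 := by
  have : Fact (Nat.Prime 11) := ⟨by norm_num⟩
  have hP := card_sylow11 hord P
  rcases n11_cases hord P with h | h | h | h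
  rotate_left 2
  · left; exact h
  · right; exact h
  all_goals
    exfalso
    obtain ⟨_, _, hN⟩ := Cfsg.Agent.helper5.sylow_count_facts P
    rw [h, hord] at hN
    have hcyc : IsCyclic (P : Subgroup G) := isCyclic_of_prime_card hP
    have hd := aut_dvd (P : Subgroup G)
    rw [hP, Nat.totient_prime (by norm_num : Nat.Prime 11)] at hd
    have hcm := card_cent_mul (P : Subgroup G)
    set C := Subgroup.centralizer ((P : Subgroup G) : Set G) with hC
    set Nn := Subgroup.normalizer ((P : Subgroup G) : Set G) with hNn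
    set d := C.relIndex Nn with hdd
    have hd' : d ∈ Nat.divisors 10 := Nat.mem_divisors.mpr ⟨hd, by norm_num⟩
    have hd'' : d = 1 ∨ d = 2 ∨ d = 5 ∨ d = 10 := by
      have key : ∀ n ∈ Nat.divisors 10, n = 1 ∨ n = 2 ∨ n = 5 ∨ n = 10 := by decide
      exact key d hd'
    obtain ⟨x, hxP, hx11, _⟩ := exists_gen_of_card_prime (P : Subgroup G) (by norm_num) hP
    have hcomm : ∀ y ∈ C, Commute x y := by
      intro y hy
      exact (Subgroup.mem_centralizer_iff.mp hy x hxP)
    have h66 : 66 ∣ Nat.card C := by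
      rcases hd'' with h1 | h1 | h1 | h1 <;> rw [h1] at hcm <;> omega
    have h2 : Adj G 11 2 := by
      have : Fact (Nat.Prime 2) := ⟨Nat.prime_two⟩
      obtain ⟨y, hy⟩ := exists_prime_orderOf_dvd_card' (G := C) 2 (Dvd.dvd.trans (by norm_num) h66)
      exact adj_of_commute (hcomm y y.2) (by norm_num) (by norm_num) (by norm_num)
        (by rw [hx11]) (by rw [Subgroup.orderOf_coe, hy])
    have h3 : Adj G 11 3 := by
      have : Fact (Nat.Prime 3) := ⟨Nat.prime_three⟩
      obtain ⟨y, hy⟩ := exists_prime_orderOf_dvd_card' (G := C) 3 (Dvd.dvd.trans (by norm_num) h66)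
      exact adj_of_commute (hcomm y y.2) (by norm_num) (by norm_num) (by norm_num)
        (by rw [hx11]) (by rw [Subgroup.orderOf_coe, hy])
    have h5 : Adj G 11 5 ∨ Adj G 5 3 := by
      by_cases h5C : 5 ∣ Nat.card C
      · left
        have : Fact (Nat.Prime 5) := ⟨by norm_num⟩
        obtain ⟨y, hy⟩ := exists_prime_orderOf_dvd_card' (G := C) 5 h5C
        exact adj_of_commute (hcomm y y.2) (by norm_num) (by norm_num) (by norm_num)
          (by rw [hx11]) (by rw [Subgroup.orderOf_coe, hy])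
      · right
        have h5d : 5 ∣ d := by
          have : 5 ∣ Nat.card C * d := by rw [hcm]; omega
          rcases (Nat.Prime.dvd_mul (by norm_num)).mp this with h' | h'
          · exact absurd h' h5C
          · exact h'
        have hnorm : (C.subgroupOf Nn).Normal := by
          rw [hC, hNn, ← Subgroup.normalizerMonoidHom_ker]
          exact MonoidHom.normal_ker _
        have hcardC' : Nat.card (C.subgroupOf Nn) = Nat.card C :=
          Nat.card_congr (Subgroup.subgroupOfEquivOfLe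
            (Subgroup.centralizer_le_normalizer ((P : Subgroup G) : Set G))).toEquiv
        have hCdvd : Nat.card C ∣ 7920 := by
          rw [← hord]; exact Subgroup.card_subgroup_dvd_card C
        apply adj_of_subgroup (H := Nn)
        apply frattini_adj (C.subgroupOf Nn) (by norm_num : Nat.Prime 3) (by norm_num : Nat.Prime 5)
          (by norm_num)
        · rw [hcardC']; exact Dvd.dvd.trans (by norm_num) h66
        · exact h5d
        · intro k hk hkd
          rw [hcardC'] at hkd
          have := pow3_bound hkd hCdvd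
          interval_cases k <;> norm_num
    have e1 := hc 11 2 (by norm_num) (by norm_num) h2
    have e2 := hc 11 3 (by norm_num) (by norm_num) h3
    rcases h5 with h5 | h5
    · have e3 := hc 11 5 (by norm_num) (by norm_num) h5
      tauto
    · have e3 := hc 5 3 (by norm_num) (by norm_num) h5
      tauto

end Cfsg.Agent.helper27.PG
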