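import Mathlib
import Cfsg.Agent.Lib_helper27_PG2

set_option autoImplicit false

namespace Cfsg.Agent.helper27.PG

variable {G : Type*} [Group G]

/-- Frattini count: a normal subgroup containing a Sylow subgroup. -/
theorem frattini_card [Finite G] {p : ℕ} [Fact p.Prime] (K : Subgroup G) [K.Normal]
    (P : Sylow p G) (hPK : (P : Subgroup G) ≤ K) :
    Nat.card (Sylow p G) * Nat.card (K ⊓ Subgroup.normalizer ((P : Subgroup G) : Set G) : Subgroup G)
      = Nat.card K := by
  set Nn := Subgroup.normalizer ((P : Subgroup G) : Set G) with hNn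
  have hsup : Nn ⊔ K = ⊤ := Sylow.normalizer_sup_eq_top' P hPK
  have h1 : K.relIndex (Nn ⊔ K) = K.relIndex Nn := Subgroup.relIndex_sup_right Nn K
  rw [hsup, Subgroup.relIndex_top_right] at h1
  have h2 : Nat.card (K ⊓ Nn : Subgroup G) * K.relIndex Nn = Nat.card Nn := by
    have := Subgroup.relIndex_mul_relIndex (⊥ : Subgroup G) (K ⊓ Nn) Nn bot_le inf_le_right
    rw [Subgroup.relIndex_bot_left, Subgroup.relIndex_bot_left, Subgroup.inf_relIndex_right] at this
    exact this
  have h3 : Nat.card K * K.index = Nat.card G := Subgroup.card_mul_index K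
  obtain ⟨_, _, h4⟩ := Cfsg.Agent.helper5.sylow_count_facts P
  have hi : 0 < K.index := Nat.pos_of_ne_zero (Subgroup.index_ne_zero_of_finite)
  rw [← h1] at h2
  rw [← h2, ← h3] at h4
  have : Nat.card (Sylow p G) * Nat.card (K ⊓ Nn : Subgroup G) * K.index = Nat.card K * K.index := by
    rw [← h4]; ring
  exact Nat.eq_of_mul_eq_mul_right hi this

/-- a normal subgroup of order divisible by `p` contains every Sylow `p`-subgroup of order `p`. -/
theorem sylow_le_of_normal [Finite G] {p : ℕ} [Fact p.Prime] (N : Subgroup G) [N.Normal]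
    (P : Sylow p G) (hP : Nat.card P = p) (hdvd : p ∣ Nat.card N) : (P : Subgroup G) ≤ N := by
  obtain ⟨x, hx⟩ := exists_prime_orderOf_dvd_card' (G := N) p hdvd
  have hZp : IsPGroup p (Subgroup.zpowers (x : G)) := by
    apply IsPGroup.of_card (n := 1)
    rw [pow_one, Nat.card_zpowers, Subgroup.orderOf_coe, hx]
  obtain ⟨Q, hQ⟩ := hZp.exists_le_sylow
  have hQc : Nat.card Q = p := by
    rw [Q.card_eq_multiplicity, ← P.card_eq_multiplicity, hP]
  have hQeq : Subgroup.zpowers (x : G) = Q := by
    apply Subgroup.eq_of_le_of_card_ge hQ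
    rw [hQc, Nat.card_zpowers, Subgroup.orderOf_coe, hx]
  have hQN : (Q : Subgroup G) ≤ N := by
    rw [← hQeq, Subgroup.zpowers_le]; exact x.2
  obtain ⟨g, hg⟩ := MulAction.exists_smul_eq G Q P
  rw [← hg]
  intro y hy
  rw [Sylow.coe_subgroup_smul, Subgroup.mem_smul_pointwise_iff_exists] at hy
  obtain ⟨z, hz, rfl⟩ := hy
  have : g * z * g⁻¹ ∈ N := ‹N.Normal›.conj_mem z (hQN hz) g
  simpa [MulAut.smul_def] using this

/-- an element of order 11 normalizing a subgroup of order 16 centralizes it. -/
theorem centralizes_of_card_16 [Finite G] {x : G} (hx : orderOf x = 11) (N : Subgroup G)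
    (hN : Nat.card N = 16) (hxN : x ∈ Subgroup.normalizer (N : Set G)) :
    ∀ y ∈ N, Commute x y := by
  -- consider the subgroup D = N ⊓ centralizer {x}
  set D : Subgroup G := N ⊓ Subgroup.centralizer {x} with hD
  have hDN : D ≤ N := inf_le_left
  by_contra hcon
  push Not at hcon
  obtain ⟨y0, hy0, hy0c⟩ := hcon
  have hDlt : D ≠ N := by
    intro h
    apply hy0c
    have : y0 ∈ D := h ▸ hy0
    have h2 := (Subgroup.mem_inf.mp this).2
    rw [Subgroup.mem_centralizer_iff] at h2
    exact (h2 x rfl)
  have hdvd : Nat.card D ∣ 16 := by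
    rw [← hN]; exact Subgroup.card_dvd_of_le hDN
  have hDne : Nat.card D ≠ 16 := by
    intro h
    apply hDlt
    apply Subgroup.eq_of_le_of_card_ge hDN
    rw [h, hN]
  -- x normalizes D, and has no nontrivial fixed points on ... we use the quotient count instead:
  -- x acts on N with fixed point set D
  have hr : Nat.Prime 11 := by norm_num
  have : Fact (Nat.Prime 11) := ⟨hr⟩
  set K := Subgroup.zpowers x with hK
  have hKle : K ≤ Subgroup.normalizer (N : Set G) := by
    rw [hK, Subgroup.zpowers_le]; exact hxN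
  let _ := conjActOn K N hKle
  have hKp : IsPGroup 11 K := by
    apply IsPGroup.of_card (n := 1)
    rw [pow_one, hK, Nat.card_zpowers, hx]
  have hcong := hKp.card_modEq_card_fixedPoints N
  have hfixcard : Nat.card (MulAction.fixedPoints K N) = Nat.card D := by
    refine Nat.card_congr ⟨fun y => ⟨(y.1 : G), ?_⟩, fun d => ⟨⟨(d : G), hDN d.2⟩, ?_⟩, ?_, ?_⟩
    · rw [hD, Subgroup.mem_inf]
      refine ⟨y.1.2, ?_⟩
      rw [Subgroup.mem_centralizer_iff]
      intro z hz
      rw [Set.mem_singleton_iff] at hz
      subst hz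
      have := y.2 ⟨z, Subgroup.mem_zpowers z⟩
      have h2 : z * (y.1 : G) * z⁻¹ = (y.1 : G) := congrArg Subtype.val this
      calc z * (y.1 : G) = z * (y.1 : G) * z⁻¹ * z := by group
        _ = (y.1 : G) * z := by rw [h2]
    · intro k
      apply Subtype.ext
      show (k : G) * (d : G) * (k : G)⁻¹ = (d : G)
      have hd := (Subgroup.mem_inf.mp d.2).2
      obtain ⟨i, hi⟩ := Subgroup.mem_zpowers_iff.mp k.2
      have hcomm : Commute x (d : G) := by
        rw [Subgroup.mem_centralizer_iff] at hd
        exact (hd x rfl)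
      have : Commute (k : G) (d : G) := by
        rw [← hi]; exact hcomm.zpow_left i
      rw [this.eq]; group
    · intro y; rfl
    · intro d; rfl
  rw [hfixcard, hN] at hcong
  have hcases : Nat.card D = 1 ∨ Nat.card D = 2 ∨ Nat.card D = 4 ∨ Nat.card D = 8 ∨ Nat.card D = 16 := by
    have key : ∀ n ∈ Nat.divisors 16, n = 1 ∨ n = 2 ∨ n = 4 ∨ n = 8 ∨ n = 16 := by decide
    exact key _ (Nat.mem_divisors.mpr ⟨hdvd, by norm_num⟩)
  unfold Nat.ModEq at hcong
  rcases hcases with h | h | h | h | h <;> rw [h] at hcong <;> omega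


theorem pow_dvd_index_of_not_dvd {m i r k : ℕ} (hr : r.Prime) (hmi : m * i = 7920)
    (hk : r ^ k ∣ 7920) (hrm : ¬ r ∣ m) : r ^ k ∣ i := by
  have hcop : Nat.Coprime (r ^ k) m :=
    Nat.Coprime.pow_left k ((Nat.Prime.coprime_iff_not_dvd hr).mpr hrm)
  have : r ^ k ∣ m * i := by rw [hmi]; exact hk
  exact hcop.dvd_of_dvd_mul_left this

set_option maxHeartbeats 1600000 in
set_option maxRecDepth 100000 in
/-- the special case of a normal subgroup of order 16. -/
theorem case16 [Finite G] (hord : Nat.card G = 7920) (c : ℕ → Prop)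
    (hc : ∀ p q : ℕ, (p = 2 ∨ p = 3 ∨ p = 5 ∨ p = 11) → (q = 2 ∨ q = 3 ∨ q = 5 ∨ q = 11) →
        Adj G p q → (c p ↔ c q))
    (hne : ¬ ((c 2 ↔ c 3) ∧ (c 2 ↔ c 5) ∧ (c 2 ↔ c 11)))
    (N : Subgroup G) [hNn : N.Normal] (hm16 : Nat.card N = 16)
    (e2 : c 11 ↔ c 2) : False := by
  have hp2 : Nat.Prime 2 := Nat.prime_two
  have hp3 : Nat.Prime 3 := Nat.prime_three
  have hp5 : Nat.Prime 5 := by norm_num
  have hp11 : Nat.Prime 11 := by norm_num
  have : Fact (Nat.Prime 11) := ⟨hp11⟩
  obtain ⟨P⟩ : Nonempty (Sylow 11 G) := inferInstance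
  have hP := card_sylow11 hord P
  obtain ⟨x, hxP, hx11, hPx⟩ := exists_gen_of_card_prime (P : Subgroup G) hp11 hP
  have hxN : x ∈ Subgroup.normalizer (N : Set G) := by
    rw [Subgroup.normalizer_eq_top_iff.mpr hNn]; exact Subgroup.mem_top x
  have hcen := centralizes_of_card_16 hx11 N hm16 hxN
  set C := Subgroup.centralizer (N : Set G) with hC
  have hxC : x ∈ C := by
    rw [hC, Subgroup.mem_centralizer_iff]
    intro y hy
    exact ((hcen y hy).eq).symm
  have hPC : (P : Subgroup G) ≤ C := by
    rw [hPx, Subgroup.zpowers_le]; exact hxC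
  have hfc := frattini_card C P hPC
  have h11a : 11 ∣ Nat.card (C ⊓ Subgroup.normalizer ((P : Subgroup G) : Set G) : Subgroup G) := by
    have h := Subgroup.card_dvd_of_le (le_inf hPC (Subgroup.le_normalizer (H := (P : Subgroup G))))
    rwa [hP] at h
  have hCd : Nat.card C ∣ 7920 := by rw [← hord]; exact Subgroup.card_subgroup_dvd_card C
  have : Fact (Nat.Prime 2) := ⟨hp2⟩
  obtain ⟨z, hz⟩ := exists_prime_orderOf_dvd_card' (G := N) 2 (by rw [hm16]; norm_num)
  have hcz : ∀ y ∈ C, Commute y (z : G) := by
    intro y hy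
    rw [hC, Subgroup.mem_centralizer_iff] at hy
    exact (hy z z.2).symm
  have adjC : ∀ r, r.Prime → r ≠ 2 → r ∣ Nat.card C → Adj G r 2 := by
    intro r hr hr2 hrC
    have : Fact r.Prime := ⟨hr⟩
    obtain ⟨y, hy⟩ := exists_prime_orderOf_dvd_card' (G := C) r hrC
    exact adj_of_commute (hcz y y.2) hr hp2 hr2 (by rw [Subgroup.orderOf_coe, hy])
      (by rw [Subgroup.orderOf_coe, hz])
  rcases lemmaA hord c hc hne P with hn | hn
  · rw [hn] at hfc
    obtain ⟨a, ha⟩ := h11a
    rw [ha] at hfc
    have e3 := hc 3 2 (by norm_num) (by norm_num) (adjC 3 hp3 (by norm_num) (by rw [← hfc]; exact ⟨15 * 11 * a, by ring⟩))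
    have e5 := hc 5 2 (by norm_num) (by norm_num) (adjC 5 hp5 (by norm_num) (by rw [← hfc]; exact ⟨9 * 11 * a, by ring⟩))
    tauto
  · rw [hn] at hfc
    obtain ⟨a, ha⟩ := h11a
    rw [ha] at hfc
    have e3 := hc 3 2 (by norm_num) (by norm_num) (adjC 3 hp3 (by norm_num) (by rw [← hfc]; exact ⟨48 * 11 * a, by ring⟩))
    by_cases h5C : 5 ∣ Nat.card C
    · have e5 := hc 5 2 (by norm_num) (by norm_num) (adjC 5 hp5 (by norm_num) h5C)
      tauto
    · have hC1584 : Nat.card C = 1584 := by
        have h1 : Nat.card C = 1584 * a := by rw [← hfc]; ring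
        have h2 : a ∣ 5 := by
          have : 1584 * a ∣ 1584 * 5 := by rw [← h1]; exact hCd
          exact Nat.dvd_of_mul_dvd_mul_left (by norm_num) this
        rcases (Nat.dvd_prime hp5).mp h2 with rfl | rfl
        · rw [h1]
        · exfalso; apply h5C; rw [h1]; exact ⟨1584, by ring⟩
      have : Fact (Nat.Prime 5) := ⟨hp5⟩
      obtain ⟨w, hw⟩ := exists_prime_orderOf_dvd_card' (G := G) 5 (by rw [hord]; norm_num)
      have hwC : w ∈ Subgroup.normalizer (C : Set G) := by
        rw [Subgroup.normalizer_eq_top_iff.mpr (Subgroup.normal_centralizer)]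
        exact Subgroup.mem_top w
      obtain ⟨y, hyC, hy1, hcomm⟩ := exists_commute_of_normalizer hp5 hw C hwC
        (by rw [hC1584]; norm_num)
      have hoy : orderOf y ≠ 1 := by
        rw [Ne, orderOf_eq_one_iff]; exact hy1
      have hq := Nat.minFac_prime hoy
      have hqd : (orderOf y).minFac ∣ orderOf y := Nat.minFac_dvd _
      have hqC : (orderOf y).minFac ∣ 1584 := by
        rw [← hC1584]
        have : orderOf (⟨y, hyC⟩ : C) ∣ Nat.card C := orderOf_dvd_natCard _
        rw [← Subgroup.orderOf_coe] at this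
        exact hqd.trans this
      have hq5 : (orderOf y).minFac ≠ 5 := by
        intro h
        rw [h] at hqC
        norm_num at hqC
      have hadj : Adj G 5 (orderOf y).minFac :=
        adj_of_commute hcomm hp5 hq (Ne.symm hq5) (by rw [hw]) hqd
      rcases prime_dvd_7920 hq (hqC.trans (by norm_num)) with h | h | h | h
      · rw [h] at hadj
        have e5 := hc 5 2 (by norm_num) (by norm_num) hadj
        tauto
      · rw [h] at hadj
        have e5 := hc 5 3 (by norm_num) (by norm_num) hadj
        tauto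
      · exact absurd h hq5
      · rw [h] at hadj
        have e5 := hc 5 11 (by norm_num) (by norm_num) hadj
        tauto

set_option maxHeartbeats 1600000 in
set_option maxRecDepth 100000 in
/-- Case II: a nontrivial normal subgroup has order divisible by 11. -/
theorem caseII [Finite G] (hord : Nat.card G = 7920) (c : ℕ → Prop)
    (hc : ∀ p q : ℕ, (p = 2 ∨ p = 3 ∨ p = 5 ∨ p = 11) → (q = 2 ∨ q = 3 ∨ q = 5 ∨ q = 11) →
        Adj G p q → (c p ↔ c q))
    (hne : ¬ ((c 2 ↔ c 3) ∧ (c 2 ↔ c 5) ∧ (c 2 ↔ c 11)))
    (N : Subgroup G) [hNn : N.Normal] (hN1 : N ≠ ⊥) (h11 : ¬ 11 ∣ Nat.card N) : False := by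
  have hp2 : Nat.Prime 2 := Nat.prime_two
  have hp3 : Nat.Prime 3 := Nat.prime_three
  have hp5 : Nat.Prime 5 := by norm_num
  have hp11 : Nat.Prime 11 := by norm_num
  set m := Nat.card N with hm
  have hmd : m ∣ 7920 := by rw [← hord]; exact Subgroup.card_subgroup_dvd_card N
  have hidx : m * N.index = 7920 := by rw [← hord]; exact Subgroup.card_mul_index N
  have hm1 : m ≠ 1 := by
    intro h
    exact hN1 (Subgroup.card_eq_one.mp h)
  have h11i : 11 ∣ N.index := by
    have := pow_dvd_index_of_not_dvd (k := 1) hp11 hidx (by norm_num) h11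
    simpa using this
  have claimA : ∀ q, q.Prime → q ≠ 11 → q ∣ m → Adj G 11 q := by
    intro q hq hq11 hqm
    apply frattini_adj N hq hp11 (Ne.symm hq11) hqm h11i
    intro k hk hkd
    rcases prime_dvd_7920 hq (hqm.trans hmd) with rfl | rfl | rfl | rfl
    · have := pow2_bound hkd hmd
      interval_cases k <;> norm_num
    · have := pow3_bound hkd hmd
      interval_cases k <;> norm_num
    · have := pow5_bound hkd hmd
      interval_cases k <;> norm_num
    · exact absurd rfl hq11
  by_cases h5 : 5 ∣ m
  · have A5 := claimA 5 hp5 (by norm_num) h5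
    have A2 : Adj G 11 2 ∨ Adj G 2 5 := by
      by_cases h2 : 2 ∣ m
      · left; exact claimA 2 hp2 (by norm_num) h2
      · right
        have hi := pow_dvd_index_of_not_dvd (k := 4) hp2 hidx (by norm_num) h2
        apply frattini_adj_big N hp5 hp2 (by norm_num) h5 hi
        intro j hj
        have := pow5_bound hj hmd
        interval_cases j <;> norm_num
    have A3 : Adj G 11 3 ∨ Adj G 3 5 := by
      by_cases h3 : 3 ∣ m
      · left; exact claimA 3 hp3 (by norm_num) h3
      · right
        have hi := pow_dvd_index_of_not_dvd (k := 2) hp3 hidx (by norm_num) h3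
        apply frattini_adj_big N hp5 hp3 (by norm_num) h5 hi
        intro j hj
        have := pow5_bound hj hmd
        interval_cases j <;> norm_num
    have e5 := hc 11 5 (by norm_num) (by norm_num) A5
    rcases A2 with A2 | A2 <;> rcases A3 with A3 | A3
    · have e2 := hc 11 2 (by norm_num) (by norm_num) A2
      have e3 := hc 11 3 (by norm_num) (by norm_num) A3
      tauto
    · have e2 := hc 11 2 (by norm_num) (by norm_num) A2
      have e3 := hc 3 5 (by norm_num) (by norm_num) A3
      tauto
    · have e2 := hc 2 5 (by norm_num) (by norm_num) A2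
      have e3 := hc 11 3 (by norm_num) (by norm_num) A3
      tauto
    · have e2 := hc 2 5 (by norm_num) (by norm_num) A2
      have e3 := hc 3 5 (by norm_num) (by norm_num) A3
      tauto
  · have h5i : 5 ∣ N.index := by
      have := pow_dvd_index_of_not_dvd (k := 1) hp5 hidx (by norm_num) h5
      simpa using this
    by_cases h3 : 3 ∣ m
    · have A3 := claimA 3 hp3 (by norm_num) h3
      have B3 : Adj G 5 3 := by
        apply frattini_adj N hp3 hp5 (by norm_num) h3 h5i
        intro k hk hkd
        have := pow3_bound hkd hmd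
        interval_cases k <;> norm_num
      have A2 : Adj G 11 2 ∨ Adj G 2 3 := by
        by_cases h2 : 2 ∣ m
        · left; exact claimA 2 hp2 (by norm_num) h2
        · right
          have hi := pow_dvd_index_of_not_dvd (k := 4) hp2 hidx (by norm_num) h2
          apply frattini_adj_big N hp3 hp2 (by norm_num) h3 hi
          intro j hj
          have := pow3_bound hj hmd
          interval_cases j <;> norm_num
      have e3 := hc 11 3 (by norm_num) (by norm_num) A3
      have e5 := hc 5 3 (by norm_num) (by norm_num) B3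
      rcases A2 with A2 | A2
      · have e2 := hc 11 2 (by norm_num) (by norm_num) A2
        tauto
      · have e2 := hc 2 3 (by norm_num) (by norm_num) A2
        tauto
    · have h2 : 2 ∣ m := by
        obtain ⟨p, hp, hpm⟩ := Nat.exists_prime_and_dvd hm1
        rcases prime_dvd_7920 hp (hpm.trans hmd) with rfl | rfl | rfl | rfl
        · exact hpm
        · exact absurd hpm h3
        · exact absurd hpm h5
        · exact absurd hpm h11
      have A2 := claimA 2 hp2 (by norm_num) h2
      have e2 := hc 11 2 (by norm_num) (by norm_num) A2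
      have h9i := pow_dvd_index_of_not_dvd (k := 2) hp3 hidx (by norm_num) h3
      by_cases h16 : 16 ∣ m
      · -- the special case |N| = 16
        have hm16 : m = 16 := by
          obtain ⟨t, ht⟩ := h16
          have htd : t ∣ 495 := by
            have : 16 * t ∣ 16 * 495 := by rw [← ht]; exact hmd
            exact Nat.dvd_of_mul_dvd_mul_left (by norm_num) this
          have key : ∀ t ∈ Nat.divisors 495, ¬ 3 ∣ t → ¬ 5 ∣ t → ¬ 11 ∣ t → t = 1 := by decide
          have ht1 := key t (Nat.mem_divisors.mpr ⟨htd, by norm_num⟩)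
            (fun h => h3 (ht ▸ Dvd.dvd.mul_left h 16)) (fun h => h5 (ht ▸ Dvd.dvd.mul_left h 16))
            (fun h => h11 (ht ▸ Dvd.dvd.mul_left h 16))
          rw [ht, ht1]
        exact case16 hord c hc hne N hm16 e2
      · have B2 : Adj G 5 2 := by
          apply frattini_adj N hp2 hp5 (by norm_num) h2 h5i
          intro k hk hkd
          have hk3 : k ≤ 3 := by
            by_contra hcon
            push Not at hcon
            apply h16
            exact (pow_dvd_pow 2 hcon).trans hkd
          interval_cases k <;> norm_num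
        have B3 : Adj G 3 2 := by
          apply frattini_adj_big N hp2 hp3 (by norm_num) h2 h9i
          intro j hj
          have hk3 : j ≤ 3 := by
            by_contra hcon
            push Not at hcon
            apply h16
            exact (pow_dvd_pow 2 hcon).trans hj
          interval_cases j <;> norm_num
        have e5 := hc 5 2 (by norm_num) (by norm_num) B2
        have e3 := hc 3 2 (by norm_num) (by norm_num) B3
        tauto

end Cfsg.Agent.helper27.PG
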