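import Mathlib
import Cfsg.Agent.Lib_helper27_PG3
import Cfsg.Agent.Lib_helper12_ZS5

set_option autoImplicit false

namespace Cfsg.Agent.helper27.PG

variable {G : Type*} [Group G]

/-- a normal subgroup of a normal subgroup `K` whose order is coprime to its index in `K`
is normal in `G`. -/
theorem map_normal_of_coprime [Finite G] (K : Subgroup G) [hK : K.Normal] (H : Subgroup K)
    [hH : H.Normal] (hcop : Nat.Coprime (Nat.card H) H.index) : (H.map K.subtype).Normal := by
  constructor
  intro y hy g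
  obtain ⟨x, hx, rfl⟩ := Subgroup.mem_map.mp hy
  have hxg : g * (x : G) * g⁻¹ ∈ K := hK.conj_mem _ x.2 g
  refine Subgroup.mem_map.mpr ⟨⟨g * (x : G) * g⁻¹, hxg⟩, ?_, rfl⟩
  set x' : K := ⟨g * (x : G) * g⁻¹, hxg⟩ with hx'
  have h1 : (x : G) ^ Nat.card H = 1 := by
    have h0 : (⟨x, hx⟩ : H) ^ Nat.card H = 1 := pow_card_eq_one'
    have h2 : x ^ Nat.card H = 1 := by
      have h := congrArg Subtype.val h0
      rwa [Subgroup.coe_pow, Subgroup.coe_one] at h
    have h3 := congrArg Subtype.val h2
    rwa [Subgroup.coe_pow, Subgroup.coe_one] at h3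
  have h2 : x' ^ Nat.card H = 1 := by
    apply Subtype.ext
    rw [Subgroup.coe_pow, Subgroup.coe_one]
    show (g * (x : G) * g⁻¹) ^ Nat.card H = 1
    rw [conj_pow, h1]; group
  have h3 : (QuotientGroup.mk x' : K ⧸ H) ^ Nat.card H = 1 := by
    rw [← QuotientGroup.mk_pow, h2, QuotientGroup.mk_one]
  have h4 : (QuotientGroup.mk x' : K ⧸ H) ^ H.index = 1 := by
    rw [Subgroup.index_eq_card]; exact pow_card_eq_one'
  have h5 : orderOf (QuotientGroup.mk x' : K ⧸ H) ∣ Nat.gcd (Nat.card H) H.index :=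
    Nat.dvd_gcd (orderOf_dvd_of_pow_eq_one h3) (orderOf_dvd_of_pow_eq_one h4)
  have h6 : (QuotientGroup.mk x' : K ⧸ H) = 1 := by
    rw [← orderOf_eq_one_iff]
    have : Nat.gcd (Nat.card H) H.index = 1 := hcop
    rw [this] at h5
    exact Nat.dvd_one.mp h5
  exact (QuotientGroup.eq_one_iff x').mp h6


/-- a `p`-group `K` normalizing a subgroup `Y` of order divisible by `p` centralizes an element
of order `p` of `Y`. -/
theorem exists_prime_fixed [Finite G] {p : ℕ} [hp : Fact p.Prime] (K Y : Subgroup G)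
    (hK : IsPGroup p K) (hKY : K ≤ Subgroup.normalizer (Y : Set G)) (hdvd : p ∣ Nat.card Y) :
    ∃ y ∈ Y, orderOf y = p ∧ ∀ k ∈ K, Commute k y := by
  set D : Subgroup G := Y ⊓ Subgroup.centralizer (K : Set G) with hD
  have hDY : D ≤ Y := inf_le_left
  let _ := conjActOn K Y hKY
  have hcong := hK.card_modEq_card_fixedPoints Y
  have hfixcard : Nat.card (MulAction.fixedPoints K Y) = Nat.card D := by
    refine Nat.card_congr ⟨fun y => ⟨(y.1 : G), ?_⟩, fun d => ⟨⟨(d : G), hDY d.2⟩, ?_⟩, ?_, ?_⟩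
    · rw [hD, Subgroup.mem_inf]
      refine ⟨y.1.2, ?_⟩
      rw [Subgroup.mem_centralizer_iff]
      intro z hz
      have := y.2 ⟨z, hz⟩
      have h2 : z * (y.1 : G) * z⁻¹ = (y.1 : G) := congrArg Subtype.val this
      calc z * (y.1 : G) = z * (y.1 : G) * z⁻¹ * z := by group
        _ = (y.1 : G) * z := by rw [h2]
    · intro k
      apply Subtype.ext
      show (k : G) * (d : G) * (k : G)⁻¹ = (d : G)
      have hd := (Subgroup.mem_inf.mp d.2).2
      rw [Subgroup.mem_centralizer_iff] at hd
      rw [hd k k.2]; group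
    · intro y; rfl
    · intro d; rfl
  rw [hfixcard] at hcong
  have hdD : p ∣ Nat.card D := (Nat.ModEq.dvd_iff hcong (dvd_refl p)).mp hdvd
  obtain ⟨y, hy⟩ := exists_prime_orderOf_dvd_card' (G := D) p hdD
  refine ⟨(y : G), hDY y.2, by rw [Subgroup.orderOf_coe]; exact hy, ?_⟩
  intro k hk
  have hd := (Subgroup.mem_inf.mp y.2).2
  rw [Subgroup.mem_centralizer_iff] at hd
  exact hd k hk

open Cfsg.Agent.helper27.O3648 in
/-- involutions in the normal closure of a set of elements of odd order act as even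
permutations: fixed points ≡ |X| mod 4. -/
theorem fixN_mod_four_of_normalClosure [Finite G] {X : Type*} [Finite X] [MulAction G X]
    (A : Set G) (hA : ∀ a ∈ A, Odd (orderOf a)) (u : G) (hu : u ∈ Subgroup.normalClosure A)
    (hu2 : u * u = 1) : fixN u X % 4 = Nat.card X % 4 := by
  classical
  have := Fintype.ofFinite X
  let ψ : G →* ℤˣ := Equiv.Perm.sign.comp (MulAction.toPermHom G X)
  have hn : ψ.ker.Normal := MonoidHom.normal_ker ψ
  have hAk : A ⊆ ψ.ker := by
    intro a ha
    rw [SetLike.mem_coe, MonoidHom.mem_ker]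
    have h1 : (ψ a) ^ orderOf a = 1 := by rw [← map_pow, pow_orderOf_eq_one, map_one]
    have h2 : (ψ a) ^ 2 = 1 := Int.units_sq (ψ a)
    obtain ⟨k, hk⟩ := hA a ha
    rw [hk, pow_succ, pow_mul, h2, one_pow, one_mul] at h1
    exact h1
  have hle : Subgroup.normalClosure A ≤ ψ.ker := Subgroup.normalClosure_le_normal hAk
  have hs : Equiv.Perm.sign (MulAction.toPermHom G X u) = 1 := hle hu
  have h2 : (MulAction.toPermHom G X u) * (MulAction.toPermHom G X u) = 1 := by
    rw [← map_mul, hu2, map_one]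
  have := card_fixedPoints_mod_four _ h2 hs
  rw [Nat.card_eq_fintype_card, ← this]
  unfold fixN
  rw [Nat.card_eq_fintype_card]
  congr 1

set_option maxHeartbeats 1600000 in
/-- Burnside part: a normal subgroup `K ≥ P` with `K ∩ N_G(P) = P` is impossible. -/
theorem lemmaB [Finite G] (hord : Nat.card G = 7920) (c : ℕ → Prop)
    (hc : ∀ p q : ℕ, (p = 2 ∨ p = 3 ∨ p = 5 ∨ p = 11) → (q = 2 ∨ q = 3 ∨ q = 5 ∨ q = 11) →
        Adj G p q → (c p ↔ c q))
    (hne : ¬ ((c 2 ↔ c 3) ∧ (c 2 ↔ c 5) ∧ (c 2 ↔ c 11)))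
    (P : Sylow 11 G) (K : Subgroup G) [hKn : K.Normal] (hPK : (P : Subgroup G) ≤ K)
    (hKN : Nat.card (K ⊓ Subgroup.normalizer ((P : Subgroup G) : Set G) : Subgroup G) = 11) :
    False := by
  have hp11 : Nat.Prime 11 := by norm_num
  have : Fact (Nat.Prime 11) := ⟨hp11⟩
  have hP := card_sylow11 hord P
  have hfc := frattini_card K P hPK
  rw [hKN] at hfc
  set PK : Sylow 11 K := P.subtype hPK with hPKdef
  have hPKcoe : (PK : Subgroup K) = (P : Subgroup G).subgroupOf K := Sylow.coe_subtype P hPK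
  have hPKcard : Nat.card (PK : Subgroup K) = 11 := by
    rw [hPKcoe]
    exact (Nat.card_congr (Subgroup.subgroupOfEquivOfLe hPK).toEquiv).trans hP
  have hnormcard : Nat.card (Subgroup.normalizer ((PK : Subgroup K) : Set K)) = 11 := by
    rw [hPKcoe, ← Subgroup.subgroupOf_normalizer_eq hPK, ← Subgroup.inf_subgroupOf_left]
    exact (Nat.card_congr (Subgroup.subgroupOfEquivOfLe inf_le_left).toEquiv).trans hKN
  have hnorm : (PK : Subgroup K) = Subgroup.normalizer ((PK : Subgroup K) : Set K) := by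
    apply Subgroup.eq_of_le_of_card_ge Subgroup.le_normalizer
    rw [hnormcard, hPKcard]
  obtain ⟨x, hxP, hx11, hPx⟩ := exists_gen_of_card_prime (PK : Subgroup K) hp11 hPKcard
  have hcen : Subgroup.normalizer ((PK : Subgroup K) : Set K) ≤
      Subgroup.centralizer ((PK : Subgroup K) : Set K) := by
    rw [← hnorm]
    intro a ha
    rw [Subgroup.mem_centralizer_iff]
    intro b hb
    have ha' : a ∈ Subgroup.zpowers x := hPx ▸ ha
    have hb' : b ∈ Subgroup.zpowers x := hPx ▸ hb
    obtain ⟨i, rfl⟩ := Subgroup.mem_zpowers_iff.mp ha'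
    obtain ⟨j, rfl⟩ := Subgroup.mem_zpowers_iff.mp hb'
    rw [← zpow_add, ← zpow_add, add_comm]
  have hcompl := MonoidHom.ker_transferSylow_isComplement' PK hcen
  set K1 : Subgroup K := (MonoidHom.transferSylow PK hcen).ker with hK1
  have hK1n : K1.Normal := MonoidHom.normal_ker _
  have hcm := hcompl.card_mul_card
  rw [hPKcard] at hcm
  have hK1card : Nat.card K1 = Nat.card (Sylow 11 G) := by
    have : Nat.card K1 * 11 = Nat.card (Sylow 11 G) * 11 := by rw [hcm, hfc]
    exact Nat.eq_of_mul_eq_mul_right (by norm_num) this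
  have hidx : K1.index = 11 := by
    have h1 := Subgroup.card_mul_index K1
    rw [← hcm] at h1
    exact Nat.eq_of_mul_eq_mul_left Nat.card_pos h1
  have hn := lemmaA hord c hc hne P
  have hcop : Nat.Coprime (Nat.card K1) K1.index := by
    rw [hK1card, hidx]
    rcases hn with h | h <;> rw [h] <;> norm_num
  have hMn : (K1.map K.subtype).Normal := map_normal_of_coprime K K1 hcop
  have hMcard : Nat.card (K1.map K.subtype) = Nat.card (Sylow 11 G) := by
    rw [Subgroup.card_map_of_injective K.subtype_injective, hK1card]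
  apply caseII hord c hc hne (K1.map K.subtype)
  · intro h
    rw [h, Subgroup.card_bot] at hMcard
    rcases hn with h | h <;> rw [h] at hMcard <;> omega
  · rw [hMcard]
    rcases hn with h | h <;> rw [h] <;> norm_num


theorem le_normalizer_of_conj_mem (K Y : Subgroup G)
    (h : ∀ k ∈ K, ∀ y ∈ Y, k * y * k⁻¹ ∈ Y) : K ≤ Subgroup.normalizer (Y : Set G) := by
  intro k hk
  rw [Subgroup.mem_normalizer_iff]
  intro y
  constructor
  · exact h k hk y
  · intro hy
    have h1 := h k⁻¹ (K.inv_mem hk) _ hy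
    have h2 : k⁻¹ * (k * y * k⁻¹) * k⁻¹⁻¹ = y := by group
    rwa [h2] at h1

/-- two Sylow subgroups, one normalizing the other, are equal. -/
theorem sylow_eq_of_le_normalizer {p : ℕ} [Fact p.Prime] (P Q : Sylow p G)
    (h : ∀ x ∈ P, x • Q = Q) : Q = P := by
  have h1 : Q ∈ MulAction.fixedPoints (P : Subgroup G) (Sylow p G) := by
    intro x
    exact h x x.2
  have h2 : (P : Subgroup G) ≤ Q := (P.isPGroup'.sylow_mem_fixedPoints_iff).mp h1
  exact Sylow.ext (P.is_maximal' Q.isPGroup' h2)

open Cfsg.Agent.helper27.O3648 in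
/-- fixed points of `u` modulo `p`, for a `p`-group `H` commuting with `u`. -/
theorem fixN_modEq_of_commute [Finite G] {X : Type*} [Finite X] [MulAction G X] {p : ℕ}
    [Fact p.Prime] (H : Subgroup G) (hH : IsPGroup p H) (u : G)
    (hcomm : ∀ h ∈ H, h * u = u * h) :
    fixN u X ≡ Nat.card {x : X // u • x = x ∧ ∀ h ∈ H, h • x = x} [MOD p] := by
  let act : MulAction H {x : X // u • x = x} :=
    { smul := fun h x => ⟨(h : G) • x.1, by
        rw [smul_smul, ← hcomm h h.2, mul_smul, x.2]⟩
      one_smul := fun x => by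
        apply Subtype.ext
        show ((1 : H) : G) • x.1 = x.1
        simp
      mul_smul := fun a b x => by
        apply Subtype.ext
        show ((a * b : H) : G) • x.1 = (a : G) • ((b : G) • x.1)
        rw [Subgroup.coe_mul, mul_smul] }
  have hcong := hH.card_modEq_card_fixedPoints {x : X // u • x = x}
  have hcard : Nat.card (MulAction.fixedPoints H {x : X // u • x = x}) =
      Nat.card {x : X // u • x = x ∧ ∀ h ∈ H, h • x = x} := by
    refine Nat.card_congr ⟨fun y => ⟨y.1.1, y.1.2, ?_⟩, fun z => ⟨⟨z.1, z.2.1⟩, ?_⟩, ?_, ?_⟩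
    · intro h hh
      have := y.2 ⟨h, hh⟩
      exact congrArg Subtype.val this
    · intro h
      apply Subtype.ext
      exact z.2.2 h h.2
    · intro y; rfl
    · intro z; rfl
  rw [hcard] at hcong
  exact hcong

set_option maxHeartbeats 1600000 in
/-- an isolated involution is impossible. -/
theorem lemmaZ1 [Finite G] (hord : Nat.card G = 7920) (c : ℕ → Prop)
    (hc : ∀ p q : ℕ, (p = 2 ∨ p = 3 ∨ p = 5 ∨ p = 11) → (q = 2 ∨ q = 3 ∨ q = 5 ∨ q = 11) →
        Adj G p q → (c p ↔ c q))
    (hne : ¬ ((c 2 ↔ c 3) ∧ (c 2 ↔ c 5) ∧ (c 2 ↔ c 11)))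
    (P : Sylow 11 G) (hn : Nat.card (Sylow 11 G) = 45)
    (S : Sylow 2 G) (u : G) (hu : orderOf u = 2)
    (hiso : ∀ g : G, g * u * g⁻¹ ∈ S → g * u * g⁻¹ = u) : False := by
  have hp11 : Nat.Prime 11 := by norm_num
  have : Fact (Nat.Prime 11) := ⟨hp11⟩
  have hP := card_sylow11 hord P
  obtain ⟨M, hMn, hModd, hM⟩ := Cfsg.Agent.helper12.zs_sylow_form S u hu hiso
  by_cases h11 : 11 ∣ Nat.card M
  · have hPM : (P : Subgroup G) ≤ M := sylow_le_of_normal M P hP h11
    have hfc := frattini_card M P hPM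
    rw [hn] at hfc
    obtain ⟨_, _, hcnt⟩ := Cfsg.Agent.helper5.sylow_count_facts P
    rw [hn, hord] at hcnt
    have hN : Nat.card (Subgroup.normalizer ((P : Subgroup G) : Set G)) = 176 := by omega
    set a := Nat.card (M ⊓ Subgroup.normalizer ((P : Subgroup G) : Set G) : Subgroup G) with ha
    have ha176 : a ∣ 176 := by rw [← hN]; exact Subgroup.card_dvd_of_le inf_le_right
    have ha11 : 11 ∣ a := by
      have h := Subgroup.card_dvd_of_le
        (le_inf hPM (Subgroup.le_normalizer (H := (P : Subgroup G))))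
      rwa [hP] at h
    have haodd : a % 2 = 1 := by
      have h1 : a ∣ Nat.card M := ⟨45, by rw [← hfc]; ring⟩
      exact Nat.odd_iff.mp (Odd.of_dvd_nat hModd h1)
    have ha11' : a = 11 := by
      have key : ∀ n ∈ Nat.divisors 176, 11 ∣ n → n % 2 = 1 → n = 11 := by decide
      exact key a (Nat.mem_divisors.mpr ⟨ha176, by norm_num⟩) ha11 haodd
    exact lemmaB hord c hc hne P M hPM ha11'
  · have hMbot : M = ⊥ := by
      by_contra hM1
      exact caseII hord c hc hne M hM1 h11
    have hcentral : ∀ g : G, Commute g u := by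
      intro g
      have h1 := hM g
      rw [hMbot, Subgroup.mem_bot] at h1
      show g * u = u * g
      calc g * u = (u * g * u⁻¹ * g⁻¹)⁻¹ * (u * g) := by group
        _ = u * g := by rw [h1, inv_one, one_mul]
    have hZn : (Subgroup.zpowers u).Normal := by
      constructor
      intro y hy g
      obtain ⟨k, rfl⟩ := Subgroup.mem_zpowers_iff.mp hy
      have hcomm : Commute g (u ^ k) := (hcentral g).zpow_right k
      rw [hcomm.eq, mul_inv_cancel_right]
      exact Subgroup.zpow_mem_zpowers u k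
    have hZc : Nat.card (Subgroup.zpowers u) = 2 := by rw [Nat.card_zpowers, hu]
    apply caseII hord c hc hne (Subgroup.zpowers u)
    · intro h
      rw [h, Subgroup.card_bot] at hZc
      omega
    · rw [hZc]; norm_num


open Cfsg.Agent.helper27.O3648 in
set_option maxHeartbeats 3200000 in
/-- Z* part. -/
theorem lemmaZ2 [Finite G] (hord : Nat.card G = 7920) (c : ℕ → Prop)
    (hc : ∀ p q : ℕ, (p = 2 ∨ p = 3 ∨ p = 5 ∨ p = 11) → (q = 2 ∨ q = 3 ∨ q = 5 ∨ q = 11) →
        Adj G p q → (c p ↔ c q))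
    (hne : ¬ ((c 2 ↔ c 3) ∧ (c 2 ↔ c 5) ∧ (c 2 ↔ c 11)))
    (P : Sylow 11 G) (hn : Nat.card (Sylow 11 G) = 45)
    (L : Subgroup G) [hLn : L.Normal]
    (hfix4 : ∀ u ∈ L, u * u = 1 → fixN u (Sylow 11 G) % 4 = 1)
    (h2 : 2 ∣ Nat.card (L ⊓ Subgroup.normalizer ((P : Subgroup G) : Set G) : Subgroup G)) :
    False := by
  have hp2 : Nat.Prime 2 := Nat.prime_two
  have hp11 : Nat.Prime 11 := by norm_num
  have : Fact (Nat.Prime 2) := ⟨hp2⟩
  have : Fact (Nat.Prime 11) := ⟨hp11⟩
  have hP := card_sylow11 hord P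
  obtain ⟨_, _, hcnt⟩ := Cfsg.Agent.helper5.sylow_count_facts P
  rw [hn, hord] at hcnt
  set N := Subgroup.normalizer ((P : Subgroup G) : Set G) with hN
  have hNcard : Nat.card N = 176 := by omega
  have hPN : (P : Subgroup G) ≤ N := Subgroup.le_normalizer
  -- Step 1: an involution t0 ∈ L ⊓ N
  obtain ⟨t0, ht0⟩ := exists_prime_orderOf_dvd_card' (G := (L ⊓ N : Subgroup G)) 2 h2
  have ht0N : (t0 : G) ∈ N := (Subgroup.mem_inf.mp t0.2).2
  have ht0L : (t0 : G) ∈ L := (Subgroup.mem_inf.mp t0.2).1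
  have hot0 : orderOf (t0 : G) = 2 := by rw [Subgroup.orderOf_coe]; exact ht0
  -- Step 2: a Sylow 2-subgroup S ≤ N containing t0
  set t0' : N := ⟨(t0 : G), ht0N⟩ with ht0'
  have hot0' : orderOf t0' = 2 := by
    rw [← Subgroup.orderOf_coe]; exact hot0
  obtain ⟨S0, hS0card, hS0le⟩ := Sylow.exists_subgroup_card_pow_prime_le (G := N) 2 (n := 1)
    (m := 4) (by rw [hNcard]; norm_num) (Subgroup.zpowers t0')
    (by rw [Nat.card_zpowers, hot0']; norm_num) (by norm_num)
  set Ssub : Subgroup G := S0.map N.subtype with hSsub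
  have hScard : Nat.card Ssub = 16 := by
    rw [hSsub, Subgroup.card_map_of_injective N.subtype_injective, hS0card]; norm_num
  have hSsubN : Ssub ≤ N := by
    rw [hSsub]; exact Subgroup.map_subtype_le S0
  have ht0Ssub : (t0 : G) ∈ Ssub := by
    rw [hSsub, Subgroup.mem_map]
    exact ⟨t0', hS0le (Subgroup.mem_zpowers t0'), rfl⟩
  have hSp : IsPGroup 2 Ssub := IsPGroup.of_card (n := 4) (by rw [hScard]; norm_num)
  obtain ⟨S, hSle⟩ := hSp.exists_le_sylow
  have hSeq : Ssub = S :=
    Subgroup.eq_of_le_of_card_ge hSle (by rw [card_sylow2 hord S, hScard])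
  have hSN : (S : Subgroup G) ≤ N := hSeq ▸ hSsubN
  have ht0S : (t0 : G) ∈ (S : Subgroup G) := hSeq ▸ ht0Ssub
  have hS16 := card_sylow2 hord S
  -- Step 3
  set C := Subgroup.centralizer ((P : Subgroup G) : Set G) with hC
  set T0 : Subgroup G := (S : Subgroup G) ⊓ L ⊓ C with hT0
  -- N normalizes C
  have hNC : ∀ s ∈ N, ∀ y ∈ C, s * y * s⁻¹ ∈ C := by
    intro s hs y hy
    rw [hC, Subgroup.mem_centralizer_iff] at hy ⊢
    intro x hx
    have hx' : s⁻¹ * x * s ∈ (P : Subgroup G) := by
      have := (Subgroup.mem_normalizer_iff''.mp hs x).mp hx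
      exact this
    have h1 := hy _ hx'
    calc x * (s * y * s⁻¹) = s * (s⁻¹ * x * s * y) * s⁻¹ := by group
      _ = s * (y * (s⁻¹ * x * s)) * s⁻¹ := by rw [h1]
      _ = s * y * s⁻¹ * x := by group
  have hST0 : (S : Subgroup G) ≤ Subgroup.normalizer (T0 : Set G) := by
    apply le_normalizer_of_conj_mem
    intro s hs y hy
    rw [hT0, Subgroup.mem_inf, Subgroup.mem_inf] at hy ⊢
    refine ⟨⟨?_, ?_⟩, ?_⟩
    · exact (S : Subgroup G).mul_mem ((S : Subgroup G).mul_mem hs hy.1.1)
        ((S : Subgroup G).inv_mem hs)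
    · exact hLn.conj_mem y hy.1.2 s
    · exact hNC s (hSN hs) y hy.2
  by_cases hT0bot : T0 = ⊥
  · -- Case A: T = S ⊓ L has order 2
    set T : Subgroup G := (S : Subgroup G) ⊓ L with hT
    have hTN : T ≤ N := inf_le_left.trans hSN
    have hcyc : IsCyclic (P : Subgroup G) := isCyclic_of_prime_card hP
    have hrd := aut_dvd (P : Subgroup G)
    rw [hP, Nat.totient_prime hp11] at hrd
    have hcm := card_cent_mul (P : Subgroup G)
    rw [← hN, ← hC, hNcard] at hcm
    rw [← hN, ← hC] at hrd
    have hr2 : C.relIndex N ≤ 2 := by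
      have h176 : C.relIndex N ∣ 176 := ⟨_, by rw [← hcm]; ring⟩
      have hg : C.relIndex N ∣ Nat.gcd 176 (11 - 1) := Nat.dvd_gcd h176 hrd
      have : Nat.gcd 176 (11 - 1) = 2 := by norm_num
      rw [this] at hg
      exact Nat.le_of_dvd (by norm_num) hg
    have hrne : C.relIndex N ≠ 0 := by
      intro h0
      rw [h0] at hcm
      omega
    have hTle : C.relIndex T ≤ C.relIndex N := Subgroup.relIndex_le_of_le_right hTN hrne
    have hCT : C ⊓ T = ⊥ := by
      rw [inf_comm]; exact hT0bot
    have hTcard : C.relIndex T = Nat.card T := by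
      rw [← Subgroup.inf_relIndex_right, hCT, Subgroup.relIndex_bot_left]
    rw [hTcard] at hTle
    have ht0T : (t0 : G) ∈ T := Subgroup.mem_inf.mpr ⟨ht0S, ht0L⟩
    have hzle : Subgroup.zpowers (t0 : G) ≤ T := by
      rw [Subgroup.zpowers_le]; exact ht0T
    have hTz : Subgroup.zpowers (t0 : G) = T := by
      apply Subgroup.eq_of_le_of_card_ge hzle
      rw [Nat.card_zpowers, hot0]
      omega
    have ht0sq : (t0 : G) ^ 2 = 1 := by rw [← hot0]; exact pow_orderOf_eq_one _
    have ht0ne : (t0 : G) ≠ 1 := by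
      intro h
      rw [h, orderOf_one] at hot0
      omega
    apply lemmaZ1 hord c hc hne P hn S (t0 : G) hot0
    intro g hg
    have hgT : g * (t0 : G) * g⁻¹ ∈ T := Subgroup.mem_inf.mpr ⟨hg, hLn.conj_mem _ ht0L g⟩
    rw [← hTz] at hgT
    obtain ⟨k, hk⟩ := Subgroup.mem_zpowers_iff.mp hgT
    rcases Int.even_or_odd' k with ⟨j, rfl | rfl⟩
    · exfalso
      rw [zpow_mul, zpow_ofNat, ht0sq, one_zpow] at hk
      apply ht0ne
      calc (t0 : G) = g⁻¹ * (g * (t0 : G) * g⁻¹) * g := by group
        _ = 1 := by rw [← hk]; group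
    · rw [zpow_add, zpow_mul, zpow_ofNat, ht0sq, one_zpow, one_mul, zpow_one] at hk
      exact hk.symm
  · -- Case B
    have hT0S : T0 ≤ (S : Subgroup G) := inf_le_left.trans inf_le_left
    have hT0p : IsPGroup 2 T0 := S.isPGroup'.to_le hT0S
    have h2T0 : 2 ∣ Nat.card T0 := by
      rcases hT0p.card_eq_or_dvd with h | h
      · exact absurd (Subgroup.card_eq_one.mp h) hT0bot
      · exact h
    obtain ⟨u, huT0, hou, hucomm⟩ := exists_prime_fixed (S : Subgroup G) T0 S.isPGroup' hST0 h2T0
    have huS : u ∈ (S : Subgroup G) := hT0S huT0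
    have huL : u ∈ L := (Subgroup.mem_inf.mp (Subgroup.mem_inf.mp huT0).1).2
    have huC : u ∈ C := (Subgroup.mem_inf.mp huT0).2
    have husq : u * u = 1 := by rw [← pow_two, ← hou]; exact pow_orderOf_eq_one _
    have hune : u ≠ 1 := by
      intro h
      rw [h, orderOf_one] at hou
      omega
    have hPu : ∀ x ∈ (P : Subgroup G), x * u = u * x := by
      intro x hx
      rw [hC, Subgroup.mem_centralizer_iff] at huC
      exact huC x hx
    -- N centralizes u
    set Z := Subgroup.centralizer ({u} : Set G) with hZ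
    have hPZ : (P : Subgroup G) ≤ Z := by
      intro x hx
      rw [hZ, Subgroup.mem_centralizer_iff]
      intro y hy
      rw [Set.mem_singleton_iff] at hy
      subst hy
      exact (hPu x hx).symm
    have hSZ : (S : Subgroup G) ≤ Z := by
      intro x hx
      rw [hZ, Subgroup.mem_centralizer_iff]
      intro y hy
      rw [Set.mem_singleton_iff] at hy
      subst hy
      exact ((hucomm x hx).eq).symm
    have hNsup : N = (P : Subgroup G) ⊔ (S : Subgroup G) := by
      symm
      apply Subgroup.eq_of_le_of_card_ge (sup_le hPN hSN)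
      rw [hNcard]
      have h11 : 11 ∣ Nat.card ((P : Subgroup G) ⊔ (S : Subgroup G) : Subgroup G) := by
        have := Subgroup.card_dvd_of_le (le_sup_left : (P : Subgroup G) ≤ (P : Subgroup G) ⊔ (S : Subgroup G))
        rwa [hP] at this
      have h16 : 16 ∣ Nat.card ((P : Subgroup G) ⊔ (S : Subgroup G) : Subgroup G) := by
        have := Subgroup.card_dvd_of_le (le_sup_right : (S : Subgroup G) ≤ (P : Subgroup G) ⊔ (S : Subgroup G))
        rwa [hS16] at this
      have h176 : 176 ∣ Nat.card ((P : Subgroup G) ⊔ (S : Subgroup G) : Subgroup G) := by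
        have : Nat.Coprime 11 16 := by norm_num
        exact this.mul_dvd_of_dvd_of_dvd h11 h16
      exact Nat.le_of_dvd Nat.card_pos h176
    have hNZ : ∀ g ∈ N, g * u * g⁻¹ = u := by
      intro g hg
      rw [hNsup] at hg
      have := (sup_le hPZ hSZ) hg
      rw [hZ, Subgroup.mem_centralizer_iff] at this
      have h1 := this u rfl
      rw [← h1, mul_inv_cancel_right]
    -- fixed points of u
    have hX : Nat.card (Sylow 11 G) = 45 := hn
    have hf4 := hfix4 u huL husq
    have hf11 := fixN_modEq_of_commute (X := Sylow 11 G) (P : Subgroup G) P.isPGroup' u hPu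
    have huN : u ∈ N := hSN huS
    have huP : u • P = P := Sylow.smul_eq_iff_mem_normalizer.mpr huN
    have hone : Nat.card {Q : Sylow 11 G // u • Q = Q ∧ ∀ h ∈ (P : Subgroup G), h • Q = Q} = 1 := by
      rw [Nat.card_eq_one_iff_unique]
      refine ⟨⟨?_⟩, ⟨⟨P, huP, fun h hh => Sylow.smul_eq_iff_mem_normalizer.mpr (hPN hh)⟩⟩⟩
      intro a b
      apply Subtype.ext
      rw [sylow_eq_of_le_normalizer P a.1 a.2.2, sylow_eq_of_le_normalizer P b.1 b.2.2]
    rw [hone] at hf11
    have hfle : fixN u (Sylow 11 G) ≤ 45 := by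
      rw [← hX]; exact Finite.card_subtype_le _
    have hfcases : fixN u (Sylow 11 G) = 1 ∨ fixN u (Sylow 11 G) = 45 := by
      have h11 : fixN u (Sylow 11 G) % 11 = 1 := hf11
      omega
    rcases hfcases with hf | hf
    · -- Fix(u) = {P}
      have huniq : ∀ Q : Sylow 11 G, u • Q = Q → Q = P := by
        intro Q hQ
        have h1 : Nat.card {x : Sylow 11 G // u • x = x} = 1 := hf
        rw [Nat.card_eq_one_iff_unique] at h1
        obtain ⟨hsub, _⟩ := h1
        have := hsub.elim (⟨Q, hQ⟩ : {x : Sylow 11 G // u • x = x}) ⟨P, huP⟩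
        exact congrArg Subtype.val this
      apply lemmaZ1 hord c hc hne P hn S u hou
      intro g hg
      have hgN : g * u * g⁻¹ ∈ N := hSN hg
      have h1 : (g * u * g⁻¹) • P = P := Sylow.smul_eq_iff_mem_normalizer.mpr hgN
      have h2 : u • (g⁻¹ • P) = g⁻¹ • P := by
        have h3 := congrArg (fun Q => g⁻¹ • Q) h1
        simp only [smul_smul] at h3
        rw [smul_smul]
        have : g⁻¹ * (g * u * g⁻¹) = u * g⁻¹ := by group
        rw [this] at h3
        exact h3
      have h3 := huniq _ h2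
      have hginv : g⁻¹ ∈ N := Sylow.smul_eq_iff_mem_normalizer.mp h3
      have hgN' : g ∈ N := by
        have := N.inv_mem hginv
        rwa [inv_inv] at this
      exact hNZ g hgN'
    · -- u acts trivially
      have hall : ∀ Q : Sylow 11 G, u • Q = Q := by
        intro Q
        by_contra hQ
        have h1 := Finite.card_subtype_lt (p := fun x : Sylow 11 G => u • x = x) hQ
        have h2 : Nat.card {x : Sylow 11 G // u • x = x} = 45 := hf
        omega
      set K0 := (MulAction.toPermHom G (Sylow 11 G)).ker with hK0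
      have hK0n : K0.Normal := MonoidHom.normal_ker _
      have hmemK0 : ∀ x : G, x ∈ K0 ↔ ∀ Q : Sylow 11 G, x • Q = Q := by
        intro x
        rw [hK0, MonoidHom.mem_ker]
        constructor
        · intro h Q
          have := congrArg (fun σ : Equiv.Perm (Sylow 11 G) => σ Q) h
          simpa using this
        · intro h
          ext Q
          simpa using congrArg (fun R : Sylow 11 G => (R : Subgroup G)) (h Q) ▸ Iff.rfl
      have huK0 : u ∈ K0 := (hmemK0 u).mpr hall
      have hK0ne : K0 ≠ ⊥ := by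
        intro h
        rw [h, Subgroup.mem_bot] at huK0
        exact hune huK0
      by_cases h11 : 11 ∣ Nat.card K0
      · have hPK0 : (P : Subgroup G) ≤ K0 := sylow_le_of_normal K0 P hP h11
        have hallP : ∀ Q : Sylow 11 G, Q = P := by
          intro Q
          apply sylow_eq_of_le_normalizer P Q
          intro x hx
          exact (hmemK0 x).mp (hPK0 hx) Q
        have : Nat.card (Sylow 11 G) = 1 := by
          rw [Nat.card_eq_one_iff_unique]
          exact ⟨⟨fun a b => by rw [hallP a, hallP b]⟩, ⟨P⟩⟩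
        omega
      · exact caseII hord c hc hne K0 hK0ne h11


open Cfsg.Agent.helper27.O3648 in
set_option maxHeartbeats 1600000 in
/-- the normal closure of a Sylow 11-subgroup is the whole group. -/
theorem closure_top [Finite G] (hord : Nat.card G = 7920) (c : ℕ → Prop)
    (hc : ∀ p q : ℕ, (p = 2 ∨ p = 3 ∨ p = 5 ∨ p = 11) → (q = 2 ∨ q = 3 ∨ q = 5 ∨ q = 11) →
        Adj G p q → (c p ↔ c q))
    (hne : ¬ ((c 2 ↔ c 3) ∧ (c 2 ↔ c 5) ∧ (c 2 ↔ c 11)))
    (P : Sylow 11 G) : Subgroup.normalClosure (((P : Subgroup G) : Set G)) = ⊤ := by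
  have hp11 : Nat.Prime 11 := by norm_num
  have : Fact (Nat.Prime 11) := ⟨hp11⟩
  have hP := card_sylow11 hord P
  set L := Subgroup.normalClosure (((P : Subgroup G) : Set G)) with hL
  have hLn : L.Normal := Subgroup.normalClosure_normal
  have hPL : (P : Subgroup G) ≤ L := Subgroup.subset_normalClosure
  have hfc := frattini_card L P hPL
  obtain ⟨_, _, hcnt⟩ := Cfsg.Agent.helper5.sylow_count_facts P
  rw [hord] at hcnt
  have ha11 : 11 ∣ Nat.card (L ⊓ Subgroup.normalizer ((P : Subgroup G) : Set G) : Subgroup G) := by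
    have h := Subgroup.card_dvd_of_le
      (le_inf hPL (Subgroup.le_normalizer (H := (P : Subgroup G))))
    rwa [hP] at h
  have haN : Nat.card (L ⊓ Subgroup.normalizer ((P : Subgroup G) : Set G) : Subgroup G) ∣
      Nat.card (Subgroup.normalizer ((P : Subgroup G) : Set G)) :=
    Subgroup.card_dvd_of_le inf_le_right
  have htop : Nat.card L = 7920 → L = ⊤ := by
    intro h
    apply Subgroup.eq_top_of_card_eq
    rw [h, hord]
  rcases lemmaA hord c hc hne P with hn | hn
  · rw [hn] at hcnt hfc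
    have hNc : Nat.card (Subgroup.normalizer ((P : Subgroup G) : Set G)) = 176 := by omega
    rw [hNc] at haN
    have key : ∀ n ∈ Nat.divisors 176, 11 ∣ n → n = 11 ∨ n = 176 ∨ 2 ∣ n := by decide
    rcases key _ (Nat.mem_divisors.mpr ⟨haN, by norm_num⟩) ha11 with h | h | h
    · exact (lemmaB hord c hc hne P L hPL h).elim
    · apply htop
      rw [← hfc, h]
    · exfalso
      apply lemmaZ2 hord c hc hne P hn L _ h
      intro u hu husq
      have h4 := fixN_mod_four_of_normalClosure (X := Sylow 11 G) (((P : Subgroup G) : Set G))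
        ?_ u hu husq
      · rw [h4, hn]
      · intro a ha
        have hdvd : orderOf a ∣ 11 := by
          have h1 : orderOf (⟨a, ha⟩ : (P : Subgroup G)) ∣ Nat.card (P : Subgroup G) :=
            orderOf_dvd_natCard _
          rw [hP, ← Subgroup.orderOf_coe] at h1
          exact h1
        rcases (Nat.dvd_prime hp11).mp hdvd with h1 | h1 <;> rw [h1] <;> decide
  · rw [hn] at hcnt hfc
    have hNc : Nat.card (Subgroup.normalizer ((P : Subgroup G) : Set G)) = 55 := by omega
    rw [hNc] at haN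
    have key : ∀ n ∈ Nat.divisors 55, 11 ∣ n → n = 11 ∨ n = 55 := by decide
    rcases key _ (Nat.mem_divisors.mpr ⟨haN, by norm_num⟩) ha11 with h | h
    · exact (lemmaB hord c hc hne P L hPL h).elim
    · apply htop
      rw [← hfc, h]

/-- S2490: a group of order 7920 with disconnected prime graph is simple. -/
theorem simple_7920 [Finite G] (hord : Nat.card G = 7920)
    (hdisc : ∃ A : Set ℕ, (∃ a ∈ A, a.Prime ∧ a ∣ Nat.card G) ∧
      (∃ b ∉ A, b.Prime ∧ b ∣ Nat.card G) ∧
      ∀ a ∈ A, ∀ b ∉ A, a.Prime → b.Prime → a ∣ Nat.card G → b ∣ Nat.card G →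
        ¬ ∃ g : G, orderOf g = a * b) : IsSimpleGroup G := by
  obtain ⟨c, hc, hne⟩ := color_of_disc hord hdisc
  have : Fact (Nat.Prime 11) := ⟨by norm_num⟩
  obtain ⟨P⟩ : Nonempty (Sylow 11 G) := inferInstance
  have hP := card_sylow11 hord P
  have hL := closure_top hord c hc hne P
  have hnt : Nontrivial G := by
    rw [← Finite.one_lt_card_iff_nontrivial, hord]; norm_num
  refine { toNontrivial := hnt, eq_bot_or_eq_top_of_normal := ?_ }
  intro N hN
  by_cases hN1 : N = ⊥
  · left; exact hN1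
  · right
    by_cases h11 : 11 ∣ Nat.card N
    · have hPN := sylow_le_of_normal N P hP h11
      have hle : Subgroup.normalClosure (((P : Subgroup G) : Set G)) ≤ N :=
        Subgroup.normalClosure_le_normal hPN
      rw [hL] at hle
      exact top_le_iff.mp hle
    · exact (caseII hord c hc hne N hN1 h11).elim

end Cfsg.Agent.helper27.PG
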