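import Mathlib
import Cfsg.Agent.Lib_helper27_HSg1

set_option autoImplicit false

namespace Cfsg.Agent.helper27

open MulAction

section orbital

variable {G Ω : Type*} [Group G] [MulAction G Ω]

/-- the orbital relation of the pair `(a, b)` -/
def OrbRel (G : Type*) {Ω : Type*} [Group G] [MulAction G Ω] (a b x y : Ω) : Prop :=
  ∃ g : G, g • a = x ∧ g • b = y

theorem orbRel_smul (a b : Ω) (h : G) (x y : Ω) :
    OrbRel G a b (h • x) (h • y) ↔ OrbRel G a b x y := by
  constructor
  · rintro ⟨g, h1, h2⟩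
    refine ⟨h⁻¹ * g, ?_, ?_⟩
    · rw [mul_smul, h1, inv_smul_smul]
    · rw [mul_smul, h2, inv_smul_smul]
  · rintro ⟨g, rfl, rfl⟩
    exact ⟨h * g, mul_smul _ _ _, mul_smul _ _ _⟩

theorem orbRel_base (a b y : Ω) : OrbRel G a b a y ↔ y ∈ orbit (stabilizer G a) b := by
  constructor
  · rintro ⟨g, h1, h2⟩
    exact ⟨⟨g, h1⟩, h2⟩
  · rintro ⟨s, hs⟩
    exact ⟨s.1, s.2, hs⟩

/-- paired suborbits have the same size -/
theorem ncard_orbit_paired [Finite G] (a b : Ω) (g0 : G) (hg0 : g0 • b = a) :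
    (orbit (stabilizer G a) (g0 • a)).ncard = (orbit (stabilizer G a) b).ncard := by
  have hb' : g0⁻¹ • a = b := by rw [← hg0, inv_smul_smul]
  have e : stabilizer (stabilizer G a) b ≃ stabilizer (stabilizer G a) (g0 • a) :=
    { toFun := fun s => ⟨⟨g0 * s.1.1 * g0⁻¹, by
          have h1 : s.1.1 • b = b := s.2
          rw [mem_stabilizer_iff, mul_smul, mul_smul, hb', h1, hg0]⟩, by
          have h2 : s.1.1 • a = a := s.1.2
          rw [mem_stabilizer_iff]
          show (g0 * s.1.1 * g0⁻¹) • g0 • a = g0 • a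
          rw [mul_smul, mul_smul, inv_smul_smul, h2]⟩
      invFun := fun t => ⟨⟨g0⁻¹ * t.1.1 * g0, by
          have h1 : t.1.1 • g0 • a = g0 • a := t.2
          rw [mem_stabilizer_iff, mul_smul, mul_smul, h1, inv_smul_smul]⟩, by
          have h2 : t.1.1 • a = a := t.1.2
          rw [mem_stabilizer_iff]
          show (g0⁻¹ * t.1.1 * g0) • b = b
          rw [mul_smul, mul_smul, hg0, h2, hb']⟩
      left_inv := by
        intro s
        apply Subtype.ext
        apply Subtype.ext
        show g0⁻¹ * (g0 * s.1.1 * g0⁻¹) * g0 = s.1.1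
        group
      right_inv := by
        intro t
        apply Subtype.ext
        apply Subtype.ext
        show g0 * (g0⁻¹ * t.1.1 * g0) * g0⁻¹ = t.1.1
        group }
  have h1 := (stabilizer (stabilizer G a) b).index_mul_card
  have h2 := (stabilizer (stabilizer G a) (g0 • a)).index_mul_card
  rw [← Nat.card_congr e, ← h1] at h2
  have hpos : 0 < Nat.card (stabilizer (stabilizer G a) b) := Nat.card_pos
  have h3 := Nat.eq_of_mul_eq_mul_right hpos h2
  rw [index_stabilizer, index_stabilizer] at h3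
  exact h3

theorem exists_swap [Finite G] [IsPretransitive G Ω] (a b c : Ω)
    (hpart : ∀ y, y = a ∨ y ∈ orbit (stabilizer G a) b ∨ y ∈ orbit (stabilizer G a) c)
    (hbc : (orbit (stabilizer G a) b).ncard ≠ (orbit (stabilizer G a) c).ncard)
    (hab : a ≠ b) : ∃ h : G, h • a = b ∧ h • b = a := by
  obtain ⟨g0, hg0⟩ := exists_smul_eq G b a
  have hp := ncard_orbit_paired a b g0 hg0
  rcases hpart (g0 • a) with h | h | h
  · exfalso
    apply hab
    exact smul_left_cancel g0 (h.trans hg0.symm)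
  · obtain ⟨s, hs⟩ := h
    refine ⟨s.1⁻¹ * g0, ?_, ?_⟩
    · rw [mul_smul, ← hs]
      exact inv_smul_smul _ _
    · rw [mul_smul, hg0]
      have : s.1 • a = a := s.2
      rw [inv_smul_eq_iff, this]
  · exfalso
    rw [orbit_eq_iff.mpr h] at hp
    exact hbc hp.symm

/-- the orbital graph -/
def orbGraph (G : Type*) {Ω : Type*} [Group G] [MulAction G Ω] (a b : Ω) (hab : a ≠ b)
    (hswap : ∃ h : G, h • a = b ∧ h • b = a) : SimpleGraph Ω where
  Adj x y := OrbRel G a b x y
  symm := ⟨by
    rintro x y ⟨g, h1, h2⟩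
    obtain ⟨h, h3, h4⟩ := hswap
    exact ⟨g * h, by rw [mul_smul, h3, h2], by rw [mul_smul, h4, h1]⟩⟩
  loopless := ⟨by
    rintro x ⟨g, h1, h2⟩
    exact hab (smul_left_cancel g (h1.trans h2.symm))⟩

end orbital

end Cfsg.Agent.helper27
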