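import Mathlib

set_option autoImplicit false

namespace Cfsg.Agent.helper27

section params

variable {V : Type*} [Fintype V] [DecidableEq V] (Γ : SimpleGraph V) [DecidableRel Γ.Adj]

/-- ordered triangles, as a sigma type -/
abbrev Tri := Σ x : V, Σ y : Γ.neighborSet x, Γ.commonNeighbors x y.1

/-- rotation of ordered triangles -/
def triRot : Tri Γ → Tri Γ := fun t =>
  ⟨t.2.1.1, ⟨t.2.2.1, t.2.2.2.2⟩, ⟨t.1, Γ.adj_symm t.2.1.2, Γ.adj_symm t.2.2.2.1⟩⟩

theorem triRot_cube (t : Tri Γ) : triRot Γ (triRot Γ (triRot Γ t)) = t := by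
  obtain ⟨x, ⟨y, hy⟩, ⟨z, hz⟩⟩ := t
  rfl

def triPerm : Equiv.Perm (Tri Γ) where
  toFun := triRot Γ
  invFun := fun t => triRot Γ (triRot Γ t)
  left_inv := triRot_cube Γ
  right_inv := triRot_cube Γ

theorem three_dvd_card_tri : 3 ∣ Fintype.card (Tri Γ) := by
  by_contra h
  have : Fact (Nat.Prime 3) := ⟨by norm_num⟩
  have hσ : (triPerm Γ) ^ 3 ^ 1 = 1 := by
    ext t : 1
    show triRot Γ (triRot Γ (triRot Γ t)) = t
    exact triRot_cube Γ t
  obtain ⟨t, ht⟩ := Equiv.Perm.exists_fixed_point_of_prime (p := 3) (n := 1) h hσ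
  obtain ⟨x, ⟨y, hy⟩, ⟨z, hz⟩⟩ := t
  have h1 : y = x := congrArg Sigma.fst ht
  subst h1
  exact Γ.loopless.irrefl _ hy

theorem card_tri {n k l m : ℕ} (h : Γ.IsSRGWith n k l m) : Fintype.card (Tri Γ) = n * (k * l) := by
  rw [Fintype.card_sigma]
  have h1 : ∀ x : V, Fintype.card (Σ y : Γ.neighborSet x, Γ.commonNeighbors x y.1) = k * l := by
    intro x
    rw [Fintype.card_sigma]
    have h2 : ∀ y : Γ.neighborSet x, Fintype.card (Γ.commonNeighbors x y.1) = l :=
      fun y => h.of_adj x y.1 y.2
    rw [Finset.sum_congr rfl (fun y _ => h2 y), Finset.sum_const, Finset.card_univ,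
      SimpleGraph.card_neighborSet_eq_degree, h.regular.degree_eq, smul_eq_mul]
  rw [Finset.sum_congr rfl (fun x _ => h1 x), Finset.sum_const, Finset.card_univ, h.card,
    smul_eq_mul]

/-- no vanishing `μ` unless `k + 1` divides `n` -/
theorem srg_mu_zero {n k l : ℕ} (h : Γ.IsSRGWith n k l 0) : (k + 1) ∣ n := by
  classical
  have hcn : ∀ x z : V, x ≠ z → ¬ Γ.Adj x z → ∀ y, ¬ (Γ.Adj x y ∧ Γ.Adj z y) := by
    intro x z hxz hadj y hy
    have := h.of_not_adj hxz hadj
    rw [Fintype.card_eq_zero_iff] at this
    exact this.false ⟨y, hy⟩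
  let r : Setoid V :=
    { r := fun x y => x = y ∨ Γ.Adj x y
      iseqv :=
        { refl := fun x => Or.inl rfl
          symm := by
            rintro x y (h | h)
            · exact Or.inl h.symm
            · exact Or.inr (Γ.adj_symm h)
          trans := by
            rintro x y z (h1 | h1) (h2 | h2)
            · exact Or.inl (h1.trans h2)
            · subst h1; exact Or.inr h2
            · subst h2; exact Or.inr h1
            · by_cases hxz : x = z
              · exact Or.inl hxz
              · by_contra hc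
                push Not at hc
                exact hcn x z hxz hc.2 y ⟨h1, Γ.adj_symm h2⟩ } }
  have hfib : ∀ q : Quotient r, Fintype.card {y : V // Quotient.mk r y = q} = k + 1 := by
    intro q
    induction q using Quotient.inductionOn with
    | h x =>
      have : Fintype.card {y : V // Quotient.mk r y = Quotient.mk r x}
          = (insert x (Γ.neighborFinset x)).card := by
        rw [Fintype.card_subtype]
        congr 1
        ext y
        rw [Finset.mem_filter, Finset.mem_insert, SimpleGraph.mem_neighborFinset]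
        constructor
        · rintro ⟨_, hy⟩
          rcases Quotient.exact hy with h | h
          · exact Or.inl h
          · exact Or.inr (Γ.adj_symm h)
        · rintro (h | h)
          · exact ⟨Finset.mem_univ _, Quotient.sound (Or.inl h)⟩
          · exact ⟨Finset.mem_univ _, Quotient.sound (Or.inr (Γ.adj_symm h))⟩
      rw [this, Finset.card_insert_of_notMem, SimpleGraph.card_neighborFinset_eq_degree,
        h.regular.degree_eq]
      rw [SimpleGraph.mem_neighborFinset]
      exact Γ.loopless.irrefl x
  have hc := Fintype.card_congr (Equiv.sigmaFiberEquiv (Quotient.mk r))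
  rw [Fintype.card_sigma, Finset.sum_congr rfl (fun q _ => hfib q), Finset.sum_const,
    smul_eq_mul, h.card] at hc
  exact ⟨_, by rw [← hc, mul_comm]⟩

theorem srg_100_22_params {l m : ℕ} (h : Γ.IsSRGWith 100 22 l m) : l = 0 ∧ m = 6 := by
  have h1 := h.param_eq Γ (by norm_num)
  have h2 := three_dvd_card_tri Γ
  rw [card_tri Γ h] at h2
  have h3 : m ≠ 0 := by
    rintro rfl
    have := srg_mu_zero Γ h
    norm_num at this
  obtain ⟨t, ht⟩ := h2
  omega

end params

end Cfsg.Agent.helper27
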