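import Mathlib
import Cfsg.Agent.Lib_helper27_R3a
import Cfsg.Agent.Lib_helper27_R3b

set_option autoImplicit false

namespace Cfsg.Agent.helper27

open MulAction

section orbital2

variable {G Ω : Type*} [Group G] [MulAction G Ω]

theorem commonNeighbors_smul (Γ : SimpleGraph Ω)
    (hΓ : ∀ (g : G) (x y : Ω), Γ.Adj (g • x) (g • y) ↔ Γ.Adj x y) (g : G) (x y : Ω) :
    Γ.commonNeighbors (g • x) (g • y) = (fun z => g • z) '' Γ.commonNeighbors x y := by
  have hN : ∀ (x : Ω), Γ.neighborSet (g • x) = (fun y => g • y) '' Γ.neighborSet x := by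
    intro x
    ext y
    simp only [SimpleGraph.mem_neighborSet, Set.mem_image]
    constructor
    · intro h
      refine ⟨g⁻¹ • y, ?_, smul_inv_smul g y⟩
      rw [← hΓ g, smul_inv_smul]
      exact h
    · rintro ⟨z, hz, rfl⟩
      exact (hΓ g x z).mpr hz
  unfold SimpleGraph.commonNeighbors
  rw [hN, hN, Set.image_inter (MulAction.injective g)]

theorem ncard_commonNeighbors_smul (Γ : SimpleGraph Ω)
    (hΓ : ∀ (g : G) (x y : Ω), Γ.Adj (g • x) (g • y) ↔ Γ.Adj x y) (g : G) (x y : Ω) :
    (Γ.commonNeighbors (g • x) (g • y)).ncard = (Γ.commonNeighbors x y).ncard := by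
  rw [commonNeighbors_smul Γ hΓ, Set.ncard_image_of_injective _ (MulAction.injective g)]

theorem orbit_partition [Fintype Ω] (a b c : Ω) (k m : ℕ)
    (hb : (orbit (stabilizer G a) b).ncard = k) (hc : (orbit (stabilizer G a) c).ncard = m)
    (hk1 : k ≠ 1) (hm1 : m ≠ 1) (hkm : k ≠ m) (hcard : Fintype.card Ω = 1 + k + m) :
    ∀ y, y = a ∨ y ∈ orbit (stabilizer G a) b ∨ y ∈ orbit (stabilizer G a) c := by
  have horb_a : orbit (stabilizer G a) a = {a} := by
    ext y
    constructor
    · rintro ⟨s, rfl⟩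
      exact s.2
    · intro h
      rw [Set.mem_singleton_iff.mp h]
      exact mem_orbit_self a
  have ha_b : a ∉ orbit (stabilizer G a) b := by
    intro h
    rw [← orbit_eq_iff.mpr h, horb_a, Set.ncard_singleton] at hb
    exact hk1 hb.symm
  have ha_c : a ∉ orbit (stabilizer G a) c := by
    intro h
    rw [← orbit_eq_iff.mpr h, horb_a, Set.ncard_singleton] at hc
    exact hm1 hc.symm
  have hdisj : Disjoint (orbit (stabilizer G a) b) (orbit (stabilizer G a) c) := by
    rw [Set.disjoint_iff]
    rintro y ⟨h1, h2⟩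
    have e1 := orbit_eq_iff.mpr h1
    have e2 := orbit_eq_iff.mpr h2
    rw [← e1, e2, hc] at hb
    exact hkm hb.symm
  have hU : ({a} ∪ orbit (stabilizer G a) b ∪ orbit (stabilizer G a) c : Set Ω) = Set.univ := by
    apply Set.eq_of_subset_of_ncard_le (Set.subset_univ _) _ Set.finite_univ
    rw [Set.ncard_univ, Nat.card_eq_fintype_card, hcard,
      Set.ncard_union_eq _ (Set.toFinite _) (Set.toFinite _),
      Set.ncard_union_eq _ (Set.toFinite _) (Set.toFinite _), Set.ncard_singleton, hb, hc]
    · rw [Set.disjoint_singleton_left]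
      exact ha_b
    · rw [Set.disjoint_union_left]
      exact ⟨Set.disjoint_singleton_left.mpr ha_c, hdisj⟩
  intro y
  have : y ∈ ({a} ∪ orbit (stabilizer G a) b ∪ orbit (stabilizer G a) c : Set Ω) := by
    rw [hU]; trivial
  rcases this with (h | h) | h
  · exact Or.inl h
  · exact Or.inr (Or.inl h)
  · exact Or.inr (Or.inr h)

theorem orbGraph_srg [Fintype Ω] [IsPretransitive G Ω] (a b c : Ω) (hab : a ≠ b)
    (hswap : ∃ h : G, h • a = b ∧ h • b = a)
    [DecidableRel (orbGraph G a b hab hswap).Adj]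
    (hpart : ∀ y, y = a ∨ y ∈ orbit (stabilizer G a) b ∨ y ∈ orbit (stabilizer G a) c)
    (n k : ℕ) (hn : Fintype.card Ω = n) (hk : (orbit (stabilizer G a) b).ncard = k) :
    (orbGraph G a b hab hswap).IsSRGWith n k
      ((orbGraph G a b hab hswap).commonNeighbors a b).ncard
      ((orbGraph G a b hab hswap).commonNeighbors a c).ncard := by
  have hΓ : ∀ (g : G) (x y : Ω), (orbGraph G a b hab hswap).Adj (g • x) (g • y)
      ↔ (orbGraph G a b hab hswap).Adj x y := fun g x y => orbRel_smul a b g x y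
  have hadj : ∀ y, (orbGraph G a b hab hswap).Adj a y ↔ y ∈ orbit (stabilizer G a) b :=
    fun y => orbRel_base a b y
  refine srg_of_transitive (G := G) _ hΓ a n k _ _ hn ?_ ?_ ?_
  · rw [← hk]
    congr 1
    ext y
    rw [SimpleGraph.mem_neighborSet]
    exact hadj y
  · intro y hy
    obtain ⟨s, rfl⟩ := (hadj y).mp hy
    have h1 := ncard_commonNeighbors_smul _ hΓ s.1 a b
    rw [show s.1 • a = a from s.2] at h1
    exact h1
  · intro y hya hy
    rcases hpart y with h | h | h
    · exact absurd h hya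
    · exact absurd ((hadj y).mpr h) hy
    · obtain ⟨s, rfl⟩ := h
      have h1 := ncard_commonNeighbors_smul _ hΓ s.1 a c
      rw [show s.1 • a = a from s.2] at h1
      exact h1

end orbital2

end Cfsg.Agent.helper27
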