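import Cfsg.Agent.Lib_helper28_Aut22c
set_option autoImplicit false

/-! Final assembly for the automorphism group of S(3,6,22). -/

namespace Cfsg.Agent.helper28.Aut22

open scoped Pointwise
open Cfsg.Agent.helper28.Plane Cfsg.Agent.helper28.S22 Cfsg.Agent.helper28.Aut23
open Cfsg.Agent.helper28 Cfsg.Agent.helper28.AutT Cfsg.Agent.helper28.Design
open Cfsg.Agent.helper28.S24 Cfsg.Agent.helper2.Golay Cfsg.Agent.S5625

lemma card_rest : Fintype.card (Rest (none : Cfsg.GolayPt) (some 0)) = 22 := by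
  decide

theorem aut22_gen
    {α : Type*} [Fintype α] [DecidableEq α] (hα : Fintype.card α = 22) {B : Set (Finset α)}
    (hB : Cfsg.IsSteinerSystem 3 6 B) :
    Nat.card (Cfsg.setSystemAut B) = 887040 ∧
      MulAction.IsMultiplyPretransitive (Cfsg.setSystemAut B) α 3 ∧
      ∃ H : Subgroup (Cfsg.setSystemAut B), H.index = 2 ∧ Nat.card H = 443520 ∧
        Nonempty (↥(MulAction.stabilizer Cfsg.M24 (none : Cfsg.GolayPt) ⊓
          MulAction.stabilizer Cfsg.M24 (some 0 : Cfsg.GolayPt)) ≃* ↥H) := by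
  have hpq : (none : Cfsg.GolayPt) ≠ some 0 := by simp
  have hD : Cfsg.IsSteinerSystem 3 6 (derived2 (none : Cfsg.GolayPt) (some 0) Cfsg.octads) :=
    derived2_steiner _ _ hpq octads_steiner
  obtain ⟨e, he⟩ := unique22 hα card_rest hB hD
  let φ := autCongr e he
  let R := resHom2 (none : Cfsg.GolayPt) (some 0) Cfsg.M24 M24_eq_aut_octads
  have hRinj : Function.Injective R :=
    resHom2_injective (none : Cfsg.GolayPt) (some 0) Cfsg.M24 M24_eq_aut_octads
  let R' : ↥(MulAction.stabilizer Cfsg.M24 (none : Cfsg.GolayPt) ⊓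
      MulAction.stabilizer Cfsg.M24 (some 0 : Cfsg.GolayPt)) →* Cfsg.setSystemAut B :=
    φ.symm.toMonoidHom.comp R
  have hR' : Function.Injective R' := φ.symm.injective.comp hRinj
  let ι := MonoidHom.ofInjective hR'
  have hHcard : Nat.card R'.range = 443520 := by
    rw [← Nat.card_congr ι.toEquiv]; exact card_stab_two _ _ hpq
  have hle := card_aut_le' hα hB
  have hproper : R'.range ≠ ⊤ := by
    intro htop
    obtain ⟨τ, hτ⟩ := MulAction.isMultiplyPretransitive_iff.1
      (m24_k_transitive (k := 2) (by norm_num))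
      (Function.Embedding.embFinTwo hpq) (Function.Embedding.embFinTwo hpq.symm)
    have hτp : τ.1 none = some 0 := by
      have := DFunLike.congr_fun hτ 0
      simp at this
      exact this
    have hτq : τ.1 (some 0) = none := by
      have := DFunLike.congr_fun hτ 1
      simp at this
      exact this
    have hτmem : τ.1 ∈ Cfsg.setSystemAut Cfsg.octads := M24_eq_aut_octads ▸ τ.2
    let s : Cfsg.setSystemAut (derived2 (none : Cfsg.GolayPt) (some 0) Cfsg.octads) :=
      ⟨restr _ _ τ.1 (Or.inr ⟨hτp, hτq⟩), restr_mem _ _ hτmem _⟩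
    have hs : φ.symm s ∈ R'.range := by rw [htop]; trivial
    obtain ⟨g, hg⟩ := hs
    have hg2 : R g = s := φ.symm.injective hg
    have hgmem : g.1.1 ∈ Cfsg.setSystemAut Cfsg.octads := M24_eq_aut_octads ▸ g.1.2
    have hνmem : g.1.1⁻¹ * τ.1 ∈ Cfsg.setSystemAut Cfsg.octads :=
      Subgroup.mul_mem _ (Subgroup.inv_mem _ hgmem) hτmem
    have hgq : g.1.1 (some 0) = some 0 := MulAction.mem_stabilizer_iff.1 g.2.2
    apply no_swap (none : Cfsg.GolayPt) (some 0) isS24_octads hpq (ν := g.1.1⁻¹ * τ.1)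
    · intro b hb
      rw [mem_toF] at hb ⊢
      exact aut_forall hνmem b hb
    · show g.1.1⁻¹ (τ.1 none) = some 0
      rw [hτp, Equiv.Perm.inv_eq_iff_eq, hgq]
    · intro x h1 h2
      show g.1.1⁻¹ (τ.1 x) = x
      rw [Equiv.Perm.inv_eq_iff_eq]
      have := congrArg (fun f => (f.1 ⟨x, ⟨h1, h2⟩⟩).1) hg2
      exact this.symm
  have hdvd := Subgroup.card_subgroup_dvd_card R'.range
  have hne : Nat.card R'.range ≠ Nat.card (Cfsg.setSystemAut B) :=
    fun hh => hproper ((Subgroup.card_eq_iff_eq_top _).1 hh)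
  have hpos : 0 < Nat.card (Cfsg.setSystemAut B) := Nat.card_pos
  have hcard : Nat.card (Cfsg.setSystemAut B) = 887040 := by
    obtain ⟨m, hm⟩ := hdvd
    rw [hHcard] at hm hne
    have h0 : m ≠ 0 := by rintro rfl; omega
    have h1 : m ≠ 1 := by rintro rfl; omega
    have h2 : m ≤ 2 := by
      by_contra hcon
      push Not at hcon
      have : 443520 * 3 ≤ 443520 * m := Nat.mul_le_mul_left _ hcon
      omega
    have : m = 2 := by omega
    rw [hm, this]
  refine ⟨hcard, ?_, R'.range, ?_, hHcard, ⟨ι⟩⟩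
  · refine pretrans_transport e.symm φ.symm ?_ 3 ?_
    · intro g a
      have h1 := autCongr_smul e he (φ.symm g) (e.symm a)
      rw [Equiv.apply_symm_apply, MulEquiv.apply_symm_apply] at h1
      rw [Equiv.symm_apply_eq, h1]
    · rw [MulAction.isMultiplyPretransitive_iff]
      intro x y
      obtain ⟨g, hg⟩ := model_three_trans _ _ hpq x y
      refine ⟨R g, ?_⟩
      ext i : 1
      exact hg i
  · have := Subgroup.index_mul_card R'.range
    rw [hHcard, hcard] at this
    omega

theorem card_aut22 {α : Type*} [Fintype α] [DecidableEq α] (hα : Fintype.card α = 22)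
    {B : Set (Finset α)} (hB : Cfsg.IsSteinerSystem 3 6 B) :
    Nat.card (Cfsg.setSystemAut B) = 887040 := (aut22_gen hα hB).1

theorem aut22 (hs : IsSimpleGroup ↥(MulAction.stabilizer Cfsg.M24 (none : Cfsg.GolayPt) ⊓
      MulAction.stabilizer Cfsg.M24 (some 0 : Cfsg.GolayPt)))
    {α : Type*} [Fintype α] [DecidableEq α] (hα : Fintype.card α = 22) {B : Set (Finset α)}
    (hB : Cfsg.IsSteinerSystem 3 6 B) :
    Nat.card (Cfsg.setSystemAut B) = 887040 ∧
      MulAction.IsMultiplyPretransitive (Cfsg.setSystemAut B) α 3 ∧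
      ∃ H : Subgroup (Cfsg.setSystemAut B), H.index = 2 ∧ Cfsg.IsM22 H := by
  obtain ⟨h1, h2, H, h3, h4, ⟨ι⟩⟩ := aut22_gen hα hB
  exact ⟨h1, h2, H, h3, ι.symm.isSimpleGroup, h4⟩

end Cfsg.Agent.helper28.Aut22
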