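import Cfsg.Agent.Lib_helper28_SRG100b
import Cfsg.Agent.Lib_helper28_Aut22d
import Cfsg.Agent.S0428
set_option autoImplicit false

/-! The automorphism group of the point-block graph of an S(3,6,22) (the Higman-Sims graph):
it is vertex transitive and the stabiliser of the extra vertex is the automorphism group of the
Steiner system; its order is 100 * 887040. -/

namespace Cfsg.Agent.helper28.HSAut

open Cfsg.Agent.S0428 Cfsg.Agent.helper28.Aut23 Cfsg.Agent.helper28.SRG100

variable {α : Type*} [Fintype α] [DecidableEq α] {B : Set (Finset α)}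

/-- the action of an automorphism of the set system on its blocks -/
def bperm (σ : Cfsg.setSystemAut B) : ↥B ≃ ↥B where
  toFun b := ⟨b.1.image σ.1, aut_forall σ.2 b.1 b.2⟩
  invFun b := ⟨b.1.image (σ.1⁻¹ : Equiv.Perm α),
    aut_forall ((Cfsg.setSystemAut B).inv_mem σ.2) b.1 b.2⟩
  left_inv b := by
    apply Subtype.ext
    show (b.1.image σ.1).image (σ.1⁻¹ : Equiv.Perm α) = b.1
    rw [Finset.image_image]
    have : ((σ.1⁻¹ : Equiv.Perm α) ∘ σ.1 : α → α) = id := by funext x; simp
    rw [this, Finset.image_id]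
  right_inv b := by
    apply Subtype.ext
    show (b.1.image (σ.1⁻¹ : Equiv.Perm α)).image σ.1 = b.1
    rw [Finset.image_image]
    have : (σ.1 ∘ (σ.1⁻¹ : Equiv.Perm α) : α → α) = id := by funext x; simp
    rw [this, Finset.image_id]

/-- the induced automorphism of the point-block graph -/
def giso (σ : Cfsg.setSystemAut B) : Cfsg.pointBlockGraph B ≃g Cfsg.pointBlockGraph B where
  toEquiv := Equiv.optionCongr (Equiv.sumCongr σ.1 (bperm σ))
  map_rel_iff' := by
    intro x y
    rcases x with _ | (a | b) <;> rcases y with _ | (a' | b')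
    · exact Iff.rfl
    · exact ⟨fun _ => adj_none_pt a', fun _ => adj_none_pt _⟩
    · exact ⟨fun h => absurd h (adj_none_blk _), fun h => absurd h (adj_none_blk _)⟩
    · exact ⟨fun _ => adj_pt_none a, fun _ => adj_pt_none _⟩
    · exact ⟨fun h => absurd h (adj_pt_pt _ _), fun h => absurd h (adj_pt_pt _ _)⟩
    · show (Cfsg.pointBlockGraph B).Adj (some (Sum.inl (σ.1 a))) (some (Sum.inr (bperm σ b'))) ↔ _
      rw [adj_pt_blk, adj_pt_blk]
      exact Function.Injective.mem_finset_image σ.1.injective
    · exact ⟨fun h => absurd h (adj_blk_none _), fun h => absurd h (adj_blk_none _)⟩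
    · show (Cfsg.pointBlockGraph B).Adj (some (Sum.inr (bperm σ b))) (some (Sum.inl (σ.1 a'))) ↔ _
      rw [adj_blk_pt, adj_blk_pt]
      exact Function.Injective.mem_finset_image σ.1.injective
    · show (Cfsg.pointBlockGraph B).Adj (some (Sum.inr (bperm σ b)))
        (some (Sum.inr (bperm σ b'))) ↔ _
      rw [adj_blk_blk, adj_blk_blk, (bperm σ).injective.ne_iff]
      have : Disjoint ((bperm σ b : ↥B) : Finset α) ((bperm σ b' : ↥B) : Finset α) ↔
          Disjoint (b : Finset α) (b' : Finset α) :=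
        Finset.disjoint_image σ.1.injective
      rw [this]

lemma giso_none (σ : Cfsg.setSystemAut B) : giso σ none = none := rfl

lemma giso_pt (σ : Cfsg.setSystemAut B) (a : α) :
    giso σ (some (Sum.inl a)) = some (Sum.inl (σ.1 a)) := rfl

lemma giso_blk (σ : Cfsg.setSystemAut B) (b : ↥B) :
    giso σ (some (Sum.inr b)) = some (Sum.inr (bperm σ b)) := rfl

/-- the map into the stabiliser of the extra vertex -/
def toStab (σ : Cfsg.setSystemAut B) :
    MulAction.stabilizer (Cfsg.pointBlockGraph B ≃g Cfsg.pointBlockGraph B)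
      (none : Option (α ⊕ ↥B)) :=
  ⟨giso σ, by rw [MulAction.mem_stabilizer_iff]; rfl⟩

lemma toStab_injective : Function.Injective (toStab (B := B)) := by
  intro σ τ hστ
  apply Subtype.ext
  apply Equiv.ext
  intro a
  have := congrArg (fun f => f.1 (some (Sum.inl a))) hστ
  simp only [toStab, giso_pt] at this
  exact Sum.inl.inj (Option.some.inj this)

lemma pt_of_fix (f : Cfsg.pointBlockGraph B ≃g Cfsg.pointBlockGraph B) (hf : f none = none)
    (a : α) : ∃ a', f (some (Sum.inl a)) = some (Sum.inl a') := by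
  have h1 : (Cfsg.pointBlockGraph B).Adj (f none) (f (some (Sum.inl a))) :=
    f.map_rel_iff.2 (adj_none_pt a)
  rw [hf] at h1
  rcases hfa : f (some (Sum.inl a)) with _ | (a' | b')
  · rw [hfa] at h1; exact absurd h1 adj_none_none
  · exact ⟨a', rfl⟩
  · rw [hfa] at h1; exact absurd h1 (adj_none_blk _)

lemma blk_of_fix (f : Cfsg.pointBlockGraph B ≃g Cfsg.pointBlockGraph B) (hf : f none = none)
    (b : ↥B) : ∃ b', f (some (Sum.inr b)) = some (Sum.inr b') := by
  rcases hfb : f (some (Sum.inr b)) with _ | (a' | b')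
  · exfalso
    have := f.injective (hfb.trans hf.symm)
    cases this
  · exfalso
    have h1 : (Cfsg.pointBlockGraph B).Adj (f none) (f (some (Sum.inr b))) := by
      rw [hf, hfb]; exact adj_none_pt a'
    exact adj_none_blk b (f.map_rel_iff.1 h1)
  · exact ⟨b', rfl⟩

lemma toStab_surjective : Function.Surjective (toStab (B := B)) := by
  rintro ⟨f, hf⟩
  have hf0 : f none = none := MulAction.mem_stabilizer_iff.1 hf
  have hf0' : f.symm none = none := by
    rw [RelIso.symm_apply_eq, hf0]
  choose s hs using pt_of_fix f hf0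
  choose s' hs' using pt_of_fix f.symm hf0'
  have hl : ∀ a, s' (s a) = a := by
    intro a
    have := hs' (s a)
    rw [← hs a, RelIso.symm_apply_apply] at this
    exact (Sum.inl.inj (Option.some.inj this)).symm
  have hr : ∀ a, s (s' a) = a := by
    intro a
    have := hs (s' a)
    rw [← hs' a, RelIso.apply_symm_apply] at this
    exact (Sum.inl.inj (Option.some.inj this)).symm
  let σ₀ : Equiv.Perm α := ⟨s, s', hl, hr⟩
  choose t ht using blk_of_fix f hf0
  have himg : ∀ b : ↥B, ((t b : ↥B) : Finset α) = (b : Finset α).image σ₀ := by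
    intro b
    ext x
    rw [Finset.mem_image]
    have hx : x ∈ ((t b : ↥B) : Finset α) ↔ s' x ∈ (b : Finset α) := by
      rw [← adj_pt_blk (B := B) x (t b), ← ht b, ← adj_pt_blk (B := B) (s' x) b,
        ← f.map_rel_iff (a := some (Sum.inl (s' x))), hs (s' x), hr x]
    rw [hx]
    constructor
    · intro h; exact ⟨s' x, h, hr x⟩
    · rintro ⟨y, hy, rfl⟩
      show s' (s y) ∈ (b : Finset α)
      rw [hl y]; exact hy
  have hσ₀ : σ₀ ∈ Cfsg.setSystemAut B := by
    apply mem_aut_of_forall
    intro b hb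
    rw [← himg ⟨b, hb⟩]
    exact (t ⟨b, hb⟩).2
  refine ⟨⟨σ₀, hσ₀⟩, ?_⟩
  apply Subtype.ext
  apply RelIso.ext
  intro x
  rcases x with _ | (a | b)
  · exact hf0.symm
  · show giso ⟨σ₀, hσ₀⟩ (some (Sum.inl a)) = f (some (Sum.inl a))
    rw [giso_pt, hs a]
    rfl
  · show giso ⟨σ₀, hσ₀⟩ (some (Sum.inr b)) = f (some (Sum.inr b))
    rw [giso_blk, ht b]
    congr 2
    apply Subtype.ext
    exact (himg b).symm

theorem card_aut (hα : Fintype.card α = 22) (hB : Cfsg.IsSteinerSystem 3 6 B) :
    Nat.card (Cfsg.pointBlockGraph B ≃g Cfsg.pointBlockGraph B) = 88704000 := by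
  classical
  haveI : Fintype ↥B := Fintype.ofFinite _
  have hsrg := Cfsg.Agent.S0428.result hα hB
  have hH := isHSG_of_srg _ hsrg
  haveI : MulAction.IsPretransitive (Cfsg.pointBlockGraph B ≃g Cfsg.pointBlockGraph B)
      (Option (α ⊕ ↥B)) := by
    constructor
    intro x y
    obtain ⟨f, hf⟩ := srg_iso hH hH x y
    exact ⟨f, hf⟩
  have h1 := MulAction.index_stabilizer_of_transitive
    (G := Cfsg.pointBlockGraph B ≃g Cfsg.pointBlockGraph B) (x := (none : Option (α ⊕ ↥B)))
  have h2 := Subgroup.index_mul_card (MulAction.stabilizer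
    (Cfsg.pointBlockGraph B ≃g Cfsg.pointBlockGraph B) (none : Option (α ⊕ ↥B)))
  have h3 : Nat.card (MulAction.stabilizer
      (Cfsg.pointBlockGraph B ≃g Cfsg.pointBlockGraph B) (none : Option (α ⊕ ↥B))) = 887040 := by
    rw [← Nat.card_congr (Equiv.ofBijective toStab ⟨toStab_injective, toStab_surjective⟩)]
    exact Cfsg.Agent.helper28.Aut22.card_aut22 hα hB
  rw [h1, h3, Nat.card_eq_fintype_card, hsrg.card] at h2
  omega

end Cfsg.Agent.helper28.HSAut
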