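import Cfsg.Agent.Lib_helper28_Aut22d
import Cfsg.Prelude.Def_Spor_Mathieu
set_option autoImplicit false

/-! The setwise stabiliser of the pair {none, some 0} in M24: M22 has index 2 and an element
swapping the two points induces a non-inner automorphism of M22. -/

namespace Cfsg.Agent.helper28.M22Outer

open scoped Pointwise
open Cfsg.Agent.helper2.Golay Cfsg.Agent.helper28.Aut22 Cfsg.Agent.helper28.Aut23
open Cfsg.Agent.helper28.Design

lemma mem_M22 {x : Equiv.Perm Cfsg.GolayPt} :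
    x ∈ Cfsg.Spor.M22 ↔ x ∈ Cfsg.M24 ∧ x none = none ∧ x (some 0) = some 0 := by
  unfold Cfsg.Spor.M22 Cfsg.Spor.M23
  constructor
  · rintro ⟨⟨h1, h2⟩, h3⟩
    exact ⟨h1, MulAction.mem_stabilizer_iff.1 h2, MulAction.mem_stabilizer_iff.1 h3⟩
  · rintro ⟨h1, h2, h3⟩
    exact ⟨⟨h1, MulAction.mem_stabilizer_iff.2 h2⟩, MulAction.mem_stabilizer_iff.2 h3⟩

lemma mem_pairStab {k : Equiv.Perm Cfsg.GolayPt} :
    k ∈ Cfsg.M24 ⊓ MulAction.stabilizer (Equiv.Perm Cfsg.GolayPt)
      ({none, some 0} : Finset Cfsg.GolayPt) ↔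
    k ∈ Cfsg.M24 ∧ ((k none = none ∧ k (some 0) = some 0) ∨
      (k none = some 0 ∧ k (some 0) = none)) := by
  rw [Subgroup.mem_inf]
  refine and_congr_right (fun _ => ?_)
  have himg : k • ({none, some 0} : Finset Cfsg.GolayPt) = {k none, k (some 0)} := by
    show Finset.image (fun x => k • x) ({none, some 0} : Finset Cfsg.GolayPt) = _
    rw [Finset.image_insert, Finset.image_singleton]
    rfl
  constructor
  · intro h
    have h := MulAction.mem_stabilizer_iff.1 h
    rw [himg] at h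
    have h1 : k none ∈ ({none, some 0} : Finset Cfsg.GolayPt) := by
      rw [← h]; exact Finset.mem_insert_self _ _
    have h2 : k (some 0) ∈ ({none, some 0} : Finset Cfsg.GolayPt) := by
      rw [← h]; exact Finset.mem_insert_of_mem (Finset.mem_singleton_self _)
    rw [Finset.mem_insert, Finset.mem_singleton] at h1 h2
    have hne : k none ≠ k (some 0) := fun hh => by
      have := k.injective hh
      cases this
    rcases h1 with h1 | h1 <;> rcases h2 with h2 | h2
    · exact absurd (h1.trans h2.symm) hne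
    · exact Or.inl ⟨h1, h2⟩
    · exact Or.inr ⟨h1, h2⟩
    · exact absurd (h1.trans h2.symm) hne
  · intro h
    apply MulAction.mem_stabilizer_iff.2
    rw [himg]
    rcases h with ⟨h1, h2⟩ | ⟨h1, h2⟩
    · rw [h1, h2]
    · rw [h1, h2, Finset.pair_comm]

/-- the two-point stabiliser is doubly transitive on the remaining points -/
lemma two_trans {a b b' : Cfsg.GolayPt} (ha : a ≠ none ∧ a ≠ some 0)
    (hb : b ≠ none ∧ b ≠ some 0) (hb' : b' ≠ none ∧ b' ≠ some 0) (hab : a ≠ b) (hab' : a ≠ b') :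
    ∃ x ∈ Cfsg.Spor.M22, x a = a ∧ x b = b' := by
  have hpq : (none : Cfsg.GolayPt) ≠ some 0 := by simp
  have h1 : (⟨a, ha⟩ : Rest (none : Cfsg.GolayPt) (some 0)) ≠ ⟨b, hb⟩ :=
    fun hh => hab (congrArg Subtype.val hh)
  have h2 : (⟨a, ha⟩ : Rest (none : Cfsg.GolayPt) (some 0)) ≠ ⟨b', hb'⟩ :=
    fun hh => hab' (congrArg Subtype.val hh)
  let x := Function.Embedding.embFinTwo h1
  let y := Function.Embedding.embFinTwo h2
  have hxq : (some 0 : Cfsg.GolayPt) ∉ Set.range (x.trans (Function.Embedding.subtype _)) := by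
    rintro ⟨i, hi⟩; exact (x i).2.2 hi
  have hyq : (some 0 : Cfsg.GolayPt) ∉ Set.range (y.trans (Function.Embedding.subtype _)) := by
    rintro ⟨i, hi⟩; exact (y i).2.2 hi
  have hxp : (none : Cfsg.GolayPt) ∉ Set.range (Function.Embedding.optionElim
      (x.trans (Function.Embedding.subtype _)) (some 0) hxq) := by
    rintro ⟨o, ho⟩
    cases o with
    | none => exact hpq ho.symm
    | some i => exact (x i).2.1 ho
  have hyp : (none : Cfsg.GolayPt) ∉ Set.range (Function.Embedding.optionElim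
      (y.trans (Function.Embedding.subtype _)) (some 0) hyq) := by
    rintro ⟨o, ho⟩
    cases o with
    | none => exact hpq ho.symm
    | some i => exact (y i).2.1 ho
  let eqv : Fin 4 ≃ Option (Option (Fin 2)) :=
    (finSuccEquiv 3).trans (Equiv.optionCongr (finSuccEquiv 2))
  let x' : Fin 4 ↪ Cfsg.GolayPt := eqv.toEmbedding.trans
    (Function.Embedding.optionElim (Function.Embedding.optionElim
      (x.trans (Function.Embedding.subtype _)) (some 0) hxq) none hxp)
  let y' : Fin 4 ↪ Cfsg.GolayPt := eqv.toEmbedding.trans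
    (Function.Embedding.optionElim (Function.Embedding.optionElim
      (y.trans (Function.Embedding.subtype _)) (some 0) hyq) none hyp)
  obtain ⟨g, hg⟩ := MulAction.isMultiplyPretransitive_iff.1
    (m24_k_transitive (k := 4) (by norm_num)) x' y'
  have hgp : g • (none : Cfsg.GolayPt) = none := by
    have := DFunLike.congr_fun hg 0
    simp [x', y', eqv] at this
    exact this
  have hgq : g • (some 0 : Cfsg.GolayPt) = some 0 := by
    have := DFunLike.congr_fun hg 1
    have h1 : (1 : Fin 4) = Fin.succ (0 : Fin 3) := rfl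
    rw [h1] at this
    simp [x', y', eqv] at this
    exact this
  have hga : g • a = a := by
    have := DFunLike.congr_fun hg (Fin.succ (Fin.succ (0 : Fin 2)))
    simp [x', y', eqv, x, y] at this
    exact this
  have hgb : g • b = b' := by
    have := DFunLike.congr_fun hg (Fin.succ (Fin.succ (1 : Fin 2)))
    simp [x', y', eqv, x, y] at this
    exact this
  exact ⟨g.1, mem_M22.2 ⟨g.2, hgp, hgq⟩, hga, hgb⟩

theorem main (g : Equiv.Perm Cfsg.GolayPt) (hg : g ∈ Cfsg.M24) (h₁ : g none = some 0)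
    (h₂ : g (some 0) = none) :
    Cfsg.Spor.M22.relIndex (Cfsg.M24 ⊓ MulAction.stabilizer (Equiv.Perm Cfsg.GolayPt)
      ({none, some 0} : Finset Cfsg.GolayPt)) = 2 ∧
    (∀ x ∈ Cfsg.Spor.M22, g * x * g⁻¹ ∈ Cfsg.Spor.M22) ∧
    ¬ ∃ h ∈ Cfsg.Spor.M22, ∀ x ∈ Cfsg.Spor.M22, g * x * g⁻¹ = h * x * h⁻¹ := by
  have hginv1 : g⁻¹ none = some 0 := by rw [Equiv.Perm.inv_eq_iff_eq, h₂]
  have hginv2 : g⁻¹ (some 0) = none := by rw [Equiv.Perm.inv_eq_iff_eq, h₁]
  refine ⟨?_, ?_, ?_⟩
  · rw [Subgroup.relIndex_eq_two_iff]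
    refine ⟨g, mem_pairStab.2 ⟨hg, Or.inr ⟨h₁, h₂⟩⟩, ?_⟩
    intro b hb
    rw [mem_pairStab] at hb
    obtain ⟨hbM, hb'⟩ := hb
    rcases hb' with ⟨b1, b2⟩ | ⟨b1, b2⟩
    · right
      refine ⟨mem_M22.2 ⟨hbM, b1, b2⟩, ?_⟩
      intro hh
      have := (mem_M22.1 hh).2.1
      rw [Equiv.Perm.mul_apply, h₁, b2] at this
      cases this
    · left
      refine ⟨mem_M22.2 ⟨Subgroup.mul_mem _ hbM hg, ?_, ?_⟩, ?_⟩
      · rw [Equiv.Perm.mul_apply, h₁, b2]
      · rw [Equiv.Perm.mul_apply, h₂, b1]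
      · intro hh
        have := (mem_M22.1 hh).2.1
        rw [b1] at this
        cases this
  · intro x hx
    rw [mem_M22] at hx ⊢
    refine ⟨Subgroup.mul_mem _ (Subgroup.mul_mem _ hg hx.1) (Subgroup.inv_mem _ hg), ?_, ?_⟩
    · rw [Equiv.Perm.mul_apply, Equiv.Perm.mul_apply, hginv1, hx.2.2, h₂]
    · rw [Equiv.Perm.mul_apply, Equiv.Perm.mul_apply, hginv2, hx.2.1, h₁]
  · rintro ⟨h, hh, hconj⟩
    rw [mem_M22] at hh
    -- z = h⁻¹ * g centralises M22
    have hz : ∀ x ∈ Cfsg.Spor.M22, (h⁻¹ * g) * x = x * (h⁻¹ * g) := by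
      intro x hx
      have := hconj x hx
      have h3 : g * x = h * x * h⁻¹ * g := by
        rw [← this]; group
      calc (h⁻¹ * g) * x = h⁻¹ * (g * x) := by group
        _ = h⁻¹ * (h * x * h⁻¹ * g) := by rw [h3]
        _ = x * (h⁻¹ * g) := by group
    have hhinv1 : h⁻¹ none = none := by rw [Equiv.Perm.inv_eq_iff_eq, hh.2.1]
    have hhinv2 : h⁻¹ (some 0) = some 0 := by rw [Equiv.Perm.inv_eq_iff_eq, hh.2.2]
    have hz1 : (h⁻¹ * g) none = some 0 := by rw [Equiv.Perm.mul_apply, h₁, hhinv2]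
    have hz2 : (h⁻¹ * g) (some 0) = none := by rw [Equiv.Perm.mul_apply, h₂, hhinv1]
    have hzM : h⁻¹ * g ∈ Cfsg.M24 := Subgroup.mul_mem _ (Subgroup.inv_mem _ hh.1) hg
    have hzM' : h⁻¹ * g ∈ Cfsg.setSystemAut Cfsg.octads := M24_eq_aut_octads ▸ hzM
    have hpq : (none : Cfsg.GolayPt) ≠ some 0 := by simp
    apply no_swap (none : Cfsg.GolayPt) (some 0) isS24_octads hpq (ν := h⁻¹ * g)
    · intro b hb
      rw [mem_toF] at hb ⊢
      exact aut_forall hzM' b hb
    · exact hz1
    · intro a ha1 ha2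
      by_contra hne
      -- a' = z a is another of the 22 points
      have ha'1 : (h⁻¹ * g) a ≠ none := by
        intro hc
        have := (h⁻¹ * g).injective (hc.trans hz2.symm)
        exact ha2 this
      have ha'2 : (h⁻¹ * g) a ≠ some 0 := by
        intro hc
        have := (h⁻¹ * g).injective (hc.trans hz1.symm)
        exact ha1 this
      -- a third point
      have hex : ∃ c : Cfsg.GolayPt, c ≠ none ∧ c ≠ some 0 ∧ c ≠ a ∧ c ≠ (h⁻¹ * g) a := by
        have hcard : ({none, some 0, a, (h⁻¹ * g) a} : Finset Cfsg.GolayPt).card <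
            (Finset.univ : Finset Cfsg.GolayPt).card := by
          rw [Finset.card_univ, card_golayPt]
          exact lt_of_le_of_lt (Finset.card_le_four) (by norm_num)
        obtain ⟨c, -, hc⟩ := Finset.exists_mem_notMem_of_card_lt_card hcard
        simp only [Finset.mem_insert, Finset.mem_singleton, not_or] at hc
        exact ⟨c, hc.1, hc.2.1, hc.2.2.1, hc.2.2.2⟩
      obtain ⟨c, hc1, hc2, hc3, hc4⟩ := hex
      obtain ⟨x, hx, hxa, hxb⟩ := two_trans (a := a) (b := (h⁻¹ * g) a) (b' := c)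
        ⟨ha1, ha2⟩ ⟨ha'1, ha'2⟩ ⟨hc1, hc2⟩ (fun hh => hne hh.symm) (fun hh => hc3 hh.symm)
      have hcomm := hz x hx
      have := congrArg (fun f => f a) hcomm
      simp only [Equiv.Perm.mul_apply] at this
      rw [hxa] at this
      -- this : h⁻¹ (g a) = x (h⁻¹ (g a))
      have hxb' : x (h⁻¹ (g a)) = c := hxb
      rw [hxb'] at this
      exact hc4 this.symm

end Cfsg.Agent.helper28.M22Outer
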