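import Mathlib
import Cfsg.Statements.S0378
import Cfsg.Agent.Lib_helper2_M24c

set_option autoImplicit false
open Cfsg

namespace Cfsg.Agent.S0378

open Cfsg.Agent.helper2

theorem result (p q : Cfsg.GolayPt) (hpq : p ≠ q) : Nat.card ↥(MulAction.stabilizer Cfsg.M24 p ⊓ MulAction.stabilizer Cfsg.M24 q) = 443520 := by
  exact Golay.card_stab_two p q hpq

end Cfsg.Agent.S0378
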