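import Mathlib
import Cfsg.Agent.Lib_helper27_HSg2
import Cfsg.Agent.Lib_helper27_R3c
import Cfsg.Agent.Lib_helper28_HSAut
import Cfsg.Agent.Lib_helper28_M22Outer
import Cfsg.Agent.S0378

set_option autoImplicit false

namespace Cfsg.Agent.helper27

open Cfsg MulAction

/-! ### the group of the definitions -/

theorem leechV_eq : Spor.leechV = -u5L := by
  apply Subtype.ext
  show Spor.vecV = -u5
  decide

theorem leechU'_eq : Spor.leechU' = -hrefL := by
  apply Subtype.ext
  show Spor.vecU' = -href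
  decide

theorem mem_sporHS {g : Equiv.Perm leechLattice} :
    g ∈ Spor.HS ↔ ∃ h : g ∈ Co0, (⟨g, h⟩ : Co0) ∈ HS0 := by
  unfold Spor.HS Spor.Co3
  rw [Subgroup.mem_inf, Subgroup.mem_inf, mem_stabilizer_iff, mem_stabilizer_iff, leechV_eq,
    leechU'_eq]
  constructor
  · rintro ⟨⟨h1, h2⟩, h3⟩
    refine ⟨h1, mem_HS0.mpr ⟨?_, ?_⟩⟩
    · have : (⟨g, h1⟩ : Co0) • (-u5L) = -u5L := h2
      rw [co0_smul_neg] at this
      exact neg_injective this
    · have : (⟨g, h1⟩ : Co0) • (-hrefL) = -hrefL := h3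
      rw [co0_smul_neg] at this
      exact neg_injective this
  · rintro ⟨h1, h2⟩
    obtain ⟨h3, h4⟩ := mem_HS0.mp h2
    refine ⟨⟨h1, ?_⟩, ?_⟩
    · show (⟨g, h1⟩ : Co0) • (-u5L) = -u5L
      rw [co0_smul_neg, h3]
    · show (⟨g, h1⟩ : Co0) • (-hrefL) = -hrefL
      rw [co0_smul_neg, h4]

/-- the joint stabiliser is the group of the definitions -/
def hs0ToSpor : HS0 ≃* Spor.HS where
  toFun g := ⟨g.1.1, mem_sporHS.mpr ⟨g.1.2, g.2⟩⟩
  invFun t := ⟨⟨t.1, (mem_sporHS.mp t.2).1⟩, (mem_sporHS.mp t.2).2⟩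
  left_inv _ := rfl
  right_inv _ := rfl
  map_mul' _ _ := rfl

theorem card_sporM22 : Nat.card Spor.M22 = 443520 := by
  rw [← Cfsg.Agent.S0378.result none (some 0) (by decide)]
  refine Nat.card_congr ?_
  refine ⟨fun x => ⟨⟨x.1, (helper28.M22Outer.mem_M22.mp x.2).1⟩, ?_⟩, fun y => ⟨y.1.1, ?_⟩, ?_, ?_⟩
  · obtain ⟨h1, h2, h3⟩ := helper28.M22Outer.mem_M22.mp x.2
    exact Subgroup.mem_inf.mpr ⟨mem_stabilizer_iff.mpr h2, mem_stabilizer_iff.mpr h3⟩
  · obtain ⟨h2, h3⟩ := Subgroup.mem_inf.mp y.2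
    exact helper28.M22Outer.mem_M22.mpr ⟨y.1.2, mem_stabilizer_iff.mp h2, mem_stabilizer_iff.mp h3⟩
  · intro x; rfl
  · intro y; rfl

/-! ### the automorphism group of the graph -/

theorem card_aut_hsGraph : Nat.card (hsGraph ≃g hsGraph) = 88704000 := by
  classical
  have hH := helper28.SRG100.isHSG_of_srg hsGraph hsGraph_srg
  have c1 : Fintype.card {x // x ∈ helper28.SRG100.nbr hsGraph a0P} = 22 := by
    rw [Fintype.card_coe]; exact helper28.SRG100.card_nbr hH
  have hB := helper28.SRG100.sys_steiner hH a0P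
  have hc := helper28.HSAut.card_aut c1 hB
  have : Fintype ↥(helper28.SRG100.sys hsGraph a0P) := Fintype.ofFinite _
  have hsrg := Cfsg.Agent.S0428.result c1 hB
  obtain ⟨e⟩ := Cfsg.Agent.S0430.result hsGraph_srg hsrg
  rw [Nat.card_congr (autCongr e).toEquiv]
  exact hc

/-- two subgroups of index two, one of them simple, coincide -/
theorem eq_of_index_two {A : Type*} [Group A] [Finite A] (H K : Subgroup A)
    (hH : IsSimpleGroup H) (N : ℕ) (hN : 2 < N) (hA : Nat.card A = 2 * N)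
    (hHc : Nat.card H = N) (hKc : Nat.card K = N) : H = K := by
  have hidx : K.index = 2 := by
    have := K.card_mul_index
    rw [hKc, hA] at this
    have hN0 : 0 < N := by omega
    have : N * K.index = N * 2 := by rw [this, mul_comm]
    exact Nat.eq_of_mul_eq_mul_left hN0 this
  have hKn : K.Normal := Subgroup.normal_of_index_eq_two hidx
  have hn : (K.subgroupOf H).Normal := Subgroup.Normal.subgroupOf hKn H
  rcases hn.eq_bot_or_eq_top with h | h
  · exfalso
    have h1 : K.relIndex H ∣ K.index := Subgroup.relIndex_dvd_index_of_normal K H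
    rw [Subgroup.relIndex, h, Subgroup.index_bot, hHc, hidx] at h1
    have := Nat.le_of_dvd (by norm_num) h1
    omega
  · have hle : H ≤ K := Subgroup.subgroupOf_eq_top.mp h
    exact Subgroup.eq_of_le_of_card_ge hle (by rw [hHc, hKc])

end Cfsg.Agent.helper27
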