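import Mathlib
import Cfsg.Agent.Lib_helper27_R3d

set_option autoImplicit false

namespace Cfsg.Agent.helper27

open Cfsg MulAction

theorem hsRange_card : Nat.card hsAutHom.range = 44352000 := by
  rw [← Nat.card_congr (MonoidHom.ofInjective hsAutHom_injective).toEquiv, card_HS0]

theorem hsRange_simple : IsSimpleGroup hsAutHom.range := by
  have e' : HS0 ≃* hsAutHom.range := MonoidHom.ofInjective hsAutHom_injective
  have hs := HS0_simple
  have hnt : Nontrivial hsAutHom.range := by
    have : Finite hsAutHom.range := Nat.finite_of_card_ne_zero (by rw [hsRange_card]; norm_num)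
    rw [← Finite.one_lt_card_iff_nontrivial, hsRange_card]
    norm_num
  exact IsSimpleGroup.isSimpleGroup_of_surjective e'.toMonoidHom e'.surjective

theorem rank3_isoHS {Ω : Type*} [Fintype Ω] [DecidableEq Ω] (hΩ : Fintype.card Ω = 100)
    (G : Subgroup (Equiv.Perm Ω)) [MulAction.IsPretransitive G Ω] (a : Ω)
    (e : MulAction.stabilizer G a ≃* Cfsg.Spor.M22) (b c : Ω)
    (hb : (MulAction.orbit (MulAction.stabilizer G a) b).ncard = 22)
    (hc : (MulAction.orbit (MulAction.stabilizer G a) c).ncard = 77) : Cfsg.Spor.IsoHS G := by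
  classical
  have hpart := orbit_partition (G := G) a b c 22 77 hb hc (by norm_num) (by norm_num)
    (by norm_num) (by rw [hΩ])
  have hab : a ≠ b := by
    rintro rfl
    have horb_a : orbit (stabilizer G a) a = {a} := by
      ext y
      constructor
      · rintro ⟨s, rfl⟩
        exact s.2
      · intro h
        rw [Set.mem_singleton_iff.mp h]
        exact mem_orbit_self a
    rw [horb_a, Set.ncard_singleton] at hb
    norm_num at hb
  have hswap := exists_swap (G := G) a b c hpart (by rw [hb, hc]; norm_num) hab
  have hsrg0 := orbGraph_srg (G := G) a b c hab hswap hpart 100 22 hΩ hb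
  obtain ⟨hl, hm⟩ := srg_100_22_params _ hsrg0
  rw [hl, hm] at hsrg0
  obtain ⟨f⟩ := Cfsg.Agent.S0430.result hsGraph_srg hsrg0
  have hG : Nat.card G = 44352000 := by
    have h1 := (stabilizer G a).index_mul_card
    rw [index_stabilizer_of_transitive, Nat.card_congr e.toEquiv, card_sporM22,
      Nat.card_eq_fintype_card, hΩ] at h1
    omega
  let ψ : G →* (orbGraph G a b hab hswap ≃g orbGraph G a b hab hswap) :=
    { toFun := fun g => { toEquiv := g.1, map_rel_iff' := fun {x y} => orbRel_smul a b g x y }
      map_one' := by
        refine DFunLike.ext _ _ (fun x => ?_)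
        rfl
      map_mul' := by
        intro g h
        refine DFunLike.ext _ _ (fun x => ?_)
        rfl }
  have hψ : Function.Injective ψ := by
    intro g h hgh
    apply Subtype.ext
    ext x
    exact congrArg (fun t : orbGraph G a b hab hswap ≃g orbGraph G a b hab hswap => t x) hgh
  let φ : G →* (hsGraph ≃g hsGraph) := (autCongr f.symm).toMonoidHom.comp ψ
  have hφ : Function.Injective φ := (autCongr f.symm).injective.comp hψ
  have hK : Nat.card φ.range = 44352000 := by
    rw [← Nat.card_congr (MonoidHom.ofInjective hφ).toEquiv, hG]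
  have hfin : Finite (hsGraph ≃g hsGraph) :=
    Nat.finite_of_card_ne_zero (by rw [card_aut_hsGraph]; norm_num)
  have heq := eq_of_index_two hsAutHom.range φ.range hsRange_simple 44352000 (by norm_num)
    (by rw [card_aut_hsGraph]) hsRange_card hK
  have e1 : G ≃* φ.range := MonoidHom.ofInjective hφ
  have e2 : hsAutHom.range ≃* φ.range := MulEquiv.subgroupCongr heq
  have e3 : HS0 ≃* hsAutHom.range := MonoidHom.ofInjective hsAutHom_injective
  exact ⟨((e1.trans e2.symm).trans e3.symm).trans hs0ToSpor⟩

end Cfsg.Agent.helper27
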