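import Cfsg.Agent.Lib_helper28_Design
set_option autoImplicit false

/-! Steiner systems S(2,3,9): the affine plane of order 3 is unique (grid coordinates). -/

namespace Cfsg.Agent.helper28.AG23

open Finset Cfsg.Agent.S5625 Cfsg.Agent.helper28.Design

/-- the point set of the standard affine plane of order 3 -/
abbrev P := Fin 3 × Fin 3

/-- rows, columns and transversals of the 3×3 grid -/
def isLine (T : Finset P) : Prop :=
  T.card = 3 ∧ (T.image Prod.fst).card ≠ 2 ∧ (T.image Prod.snd).card ≠ 2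

instance : DecidablePred isLine := fun T => by unfold isLine; infer_instance

/-- the 12 lines of the standard affine plane of order 3 -/
def L₀ : Finset (Finset P) := Finset.univ.filter isLine

lemma mem_L₀ {T : Finset P} : T ∈ L₀ ↔ isLine T := by simp [L₀]

lemma card_L₀ : L₀.card = 12 := by decide +kernel

section Abstract

variable {α : Type*} [Fintype α] [DecidableEq α]

/-- `Lf` is the line set of a Steiner system S(2,3,9) -/
structure IsPlane3 (Lf : Finset (Finset α)) : Prop where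
  card : Fintype.card α = 9
  k : ∀ l ∈ Lf, l.card = 3
  two : ∀ S : Finset α, S.card = 2 → cnt Lf S = 1

variable {Lf : Finset (Finset α)}

lemma IsPlane3.cnt_one (h : IsPlane3 Lf) (x : α) : cnt Lf {x} = 4 := by
  have h1 := step Lf 3 h.k {x}
  rw [Finset.sum_congr rfl (fun y hy => h.two _ (by
    rw [Finset.card_insert_of_notMem (Finset.mem_compl.1 hy), Finset.card_singleton])),
    Finset.sum_const, Finset.card_compl, h.card, Finset.card_singleton, smul_eq_mul] at h1
  omega

lemma IsPlane3.card_lines (h : IsPlane3 Lf) : Lf.card = 12 := by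
  have h1 := step Lf 3 h.k (∅ : Finset α)
  have h2 : ∀ x ∈ (∅ : Finset α)ᶜ, cnt Lf (insert x ∅) = 4 := by
    intro x _
    rw [show insert x (∅ : Finset α) = {x} from rfl]
    exact h.cnt_one x
  rw [Finset.sum_congr rfl h2, Finset.sum_const, Finset.card_compl, h.card, Finset.card_empty,
    smul_eq_mul] at h1
  have hc : cnt Lf (∅ : Finset α) = Lf.card := by
    unfold cnt
    congr 1
    ext b
    simp
  rw [hc] at h1
  omega

lemma IsPlane3.line_unique (h : IsPlane3 Lf) {l m S : Finset α} (hl : l ∈ Lf) (hm : m ∈ Lf)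
    (hS : 2 ≤ S.card) (hSl : S ⊆ l) (hSm : S ⊆ m) : l = m := by
  obtain ⟨T, hTS, hT⟩ := Finset.exists_subset_card_eq hS
  have h1 := h.two T hT
  unfold cnt at h1
  rw [Finset.card_eq_one] at h1
  obtain ⟨d, hd⟩ := h1
  have hb' : l ∈ Lf.filter (fun c => T ⊆ c) := Finset.mem_filter.2 ⟨hl, hTS.trans hSl⟩
  have hc' : m ∈ Lf.filter (fun c => T ⊆ c) := Finset.mem_filter.2 ⟨hm, hTS.trans hSm⟩
  rw [hd, Finset.mem_singleton] at hb' hc'
  rw [hb', hc']

lemma IsPlane3.inter_le_one (h : IsPlane3 Lf) {l m : Finset α} (hl : l ∈ Lf) (hm : m ∈ Lf)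
    (hne : l ≠ m) : (l ∩ m).card ≤ 1 := by
  by_contra hcon
  push Not at hcon
  exact hne (h.line_unique hl hm hcon Finset.inter_subset_left Finset.inter_subset_right)

lemma IsPlane3.exists_line (h : IsPlane3 Lf) {x y : α} (hxy : x ≠ y) :
    ∃ l ∈ Lf, x ∈ l ∧ y ∈ l := by
  have h1 := h.two {x, y} (Finset.card_pair hxy)
  unfold cnt at h1
  obtain ⟨l, hl⟩ := Finset.card_pos.1 (by rw [h1]; norm_num :
    0 < (Lf.filter (fun c => ({x, y} : Finset α) ⊆ c)).card)
  rw [Finset.mem_filter] at hl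
  exact ⟨l, hl.1, hl.2 (by simp), hl.2 (by simp)⟩

lemma IsPlane3.playfair (h : IsPlane3 Lf) {l : Finset α} (hl : l ∈ Lf) {x : α} (hx : x ∉ l) :
    (Lf.filter (fun c => {x} ⊆ c ∧ (c ∩ l).card = 0)).card = 1 := by
  have hl3 := h.k l hl
  have m0 := moment_sub Lf {x} l 0
  have m1 := moment_sub Lf {x} l 1
  have m2 := moment_sub Lf {x} l 2
  have e0 : ∑ Q ∈ powersetCard 0 l, cnt Lf ({x} ∪ Q) = 4 := by
    rw [Finset.powersetCard_zero, Finset.sum_singleton, Finset.union_empty]
    exact h.cnt_one x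
  have e1 : ∑ Q ∈ powersetCard 1 l, cnt Lf ({x} ∪ Q) = 3 := by
    have : ∀ Q ∈ powersetCard 1 l, cnt Lf ({x} ∪ Q) = 1 := by
      intro Q hQ
      rw [Finset.mem_powersetCard] at hQ
      apply h.two
      rw [Finset.card_union_of_disjoint, Finset.card_singleton, hQ.2]
      rw [Finset.disjoint_singleton_left]
      exact fun hh => hx (hQ.1 hh)
    rw [Finset.sum_congr rfl this, Finset.sum_const, Finset.card_powersetCard, hl3]
    rfl
  have e2 : ∑ Q ∈ powersetCard 2 l, cnt Lf ({x} ∪ Q) = 0 := by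
    apply Finset.sum_eq_zero
    intro Q hQ
    rw [Finset.mem_powersetCard] at hQ
    unfold cnt
    rw [Finset.card_eq_zero, Finset.filter_eq_empty_iff]
    intro c hc hsub
    have : c = l := h.line_unique hc hl (le_of_eq hQ.2.symm)
      (Finset.subset_union_right.trans hsub) hQ.1
    apply hx
    rw [← this]
    exact hsub (Finset.mem_union_left _ (Finset.mem_singleton_self x))
  rw [e0] at m0
  rw [e1] at m1
  rw [e2] at m2
  rw [hl3] at m0 m1 m2
  simp only [Finset.sum_range_succ, Finset.sum_range_zero, Nat.choose] at m0 m1 m2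
  omega

lemma IsPlane3.exists_parallel (h : IsPlane3 Lf) {l : Finset α} (hl : l ∈ Lf) {x : α}
    (hx : x ∉ l) : ∃ m ∈ Lf, x ∈ m ∧ Disjoint m l ∧
      ∀ m' ∈ Lf, x ∈ m' → Disjoint m' l → m' = m := by
  obtain ⟨m, hm⟩ := Finset.card_eq_one.1 (h.playfair hl hx)
  have key : ∀ c, (c ∈ Lf ∧ x ∈ c ∧ Disjoint c l) ↔ c = m := by
    intro c
    have := Finset.ext_iff.1 hm c
    rw [Finset.mem_filter, Finset.mem_singleton, Finset.singleton_subset_iff, Finset.card_eq_zero,
      ← Finset.disjoint_iff_inter_eq_empty] at this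
    exact this
  obtain ⟨h1, h2, h3⟩ := (key m).2 rfl
  exact ⟨m, h1, h2, h3, fun m' hm' hx' hd' => (key m').1 ⟨hm', hx', hd'⟩⟩

lemma IsPlane3.exists_class (h : IsPlane3 Lf) {l : Finset α} (hl : l ∈ Lf) :
    ∃ l₁ ∈ Lf, ∃ l₂ ∈ Lf, Disjoint l l₁ ∧ Disjoint l l₂ ∧ Disjoint l₁ l₂ := by
  have hl3 := h.k l hl
  have hne1 : (lᶜ).Nonempty := by
    rw [← Finset.card_pos, Finset.card_compl, h.card, hl3]; norm_num
  obtain ⟨x, hx⟩ := hne1
  rw [Finset.mem_compl] at hx
  obtain ⟨l₁, hl₁, hxl₁, hd₁, -⟩ := h.exists_parallel hl hx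
  have hl₁3 := h.k l₁ hl₁
  have hne2 : ((l ∪ l₁)ᶜ).Nonempty := by
    rw [← Finset.card_pos, Finset.card_compl, h.card, Finset.card_union_of_disjoint hd₁.symm,
      hl3, hl₁3]
    norm_num
  obtain ⟨y, hy⟩ := hne2
  rw [Finset.mem_compl, Finset.mem_union, not_or] at hy
  obtain ⟨l₂, hl₂, hyl₂, hd₂, -⟩ := h.exists_parallel hl hy.1
  refine ⟨l₁, hl₁, l₂, hl₂, hd₁.symm, hd₂.symm, ?_⟩
  rw [Finset.disjoint_left]
  intro z hz1 hz2
  have hz : z ∉ l := fun hzl => (Finset.disjoint_left.1 hd₁ hz1) hzl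
  obtain ⟨m, -, -, -, hu⟩ := h.exists_parallel hl hz
  have e1 := hu l₁ hl₁ hz1 hd₁
  have e2 := hu l₂ hl₂ hz2 hd₂
  exact hy.2 (by rw [e1, ← e2]; exact hyl₂)

/-- a parallel class: three pairwise disjoint lines -/
structure IsClass (Lf : Finset (Finset α)) (l : Fin 3 → Finset α) : Prop where
  mem : ∀ j, l j ∈ Lf
  dis : ∀ j j', j ≠ j' → Disjoint (l j) (l j')

lemma IsPlane3.exists_class' (h : IsPlane3 Lf) {l0 : Finset α} (hl : l0 ∈ Lf) :
    ∃ l : Fin 3 → Finset α, IsClass Lf l ∧ l 0 = l0 := by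
  obtain ⟨l1, hl1, l2, hl2, d01, d02, d12⟩ := h.exists_class hl
  refine ⟨![l0, l1, l2], ⟨?_, ?_⟩, rfl⟩
  · intro j
    fin_cases j
    · exact hl
    · exact hl1
    · exact hl2
  · intro j j' hne
    fin_cases j <;> fin_cases j'
    · exact absurd rfl hne
    · exact d01
    · exact d02
    · exact d01.symm
    · exact absurd rfl hne
    · exact d12
    · exact d02.symm
    · exact d12.symm
    · exact absurd rfl hne

variable {l : Fin 3 → Finset α}

lemma IsClass.union_eq (hc : IsClass Lf l) (h : IsPlane3 Lf) : l 0 ∪ l 1 ∪ l 2 = Finset.univ := by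
  apply Finset.eq_univ_of_card
  have d01 := hc.dis 0 1 (by decide)
  have d02 := hc.dis 0 2 (by decide)
  have d12 := hc.dis 1 2 (by decide)
  rw [Finset.card_union_of_disjoint (Finset.disjoint_union_left.2 ⟨d02, d12⟩),
    Finset.card_union_of_disjoint d01, h.k _ (hc.mem 0), h.k _ (hc.mem 1), h.k _ (hc.mem 2), h.card]

lemma IsClass.cover (hc : IsClass Lf l) (h : IsPlane3 Lf) (x : α) : ∃ j, x ∈ l j := by
  have hx : x ∈ l 0 ∪ l 1 ∪ l 2 := by rw [hc.union_eq h]; exact Finset.mem_univ x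
  rw [Finset.mem_union, Finset.mem_union] at hx
  rcases hx with (hx | hx) | hx
  · exact ⟨0, hx⟩
  · exact ⟨1, hx⟩
  · exact ⟨2, hx⟩

lemma IsClass.idx_unique (hc : IsClass Lf l) {x : α} {j j' : Fin 3} (hj : x ∈ l j)
    (hj' : x ∈ l j') : j = j' := by
  by_contra hne
  exact Finset.disjoint_left.1 (hc.dis j j' hne) hj hj'

lemma IsClass.meet (hc : IsClass Lf l) (h : IsPlane3 Lf) {n : Finset α} (hn : n ∈ Lf)
    (hne : ∀ j, n ≠ l j) : ∀ j, (n ∩ l j).card = 1 := by
  have hn3 := h.k n hn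
  have d01 := hc.dis 0 1 (by decide)
  have d02 := hc.dis 0 2 (by decide)
  have d12 := hc.dis 1 2 (by decide)
  have e : n = (n ∩ l 0) ∪ (n ∩ l 1) ∪ (n ∩ l 2) := by
    rw [← Finset.inter_union_distrib_left, ← Finset.inter_union_distrib_left, hc.union_eq h,
      Finset.inter_univ]
  have c := congrArg Finset.card e
  have dA : Disjoint (n ∩ l 0) (n ∩ l 1) :=
    Finset.disjoint_of_subset_left Finset.inter_subset_right
      (Finset.disjoint_of_subset_right Finset.inter_subset_right d01)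
  have dB : Disjoint ((n ∩ l 0) ∪ (n ∩ l 1)) (n ∩ l 2) := by
    rw [Finset.disjoint_union_left]
    exact ⟨Finset.disjoint_of_subset_left Finset.inter_subset_right
      (Finset.disjoint_of_subset_right Finset.inter_subset_right d02),
      Finset.disjoint_of_subset_left Finset.inter_subset_right
      (Finset.disjoint_of_subset_right Finset.inter_subset_right d12)⟩
  rw [Finset.card_union_of_disjoint dB, Finset.card_union_of_disjoint dA, hn3] at c
  have a0 := h.inter_le_one hn (hc.mem 0) (hne 0)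
  have a1 := h.inter_le_one hn (hc.mem 1) (hne 1)
  have a2 := h.inter_le_one hn (hc.mem 2) (hne 2)
  intro j
  fin_cases j
  · show (n ∩ l 0).card = 1
    omega
  · show (n ∩ l 1).card = 1
    omega
  · show (n ∩ l 2).card = 1
    omega

lemma IsClass.image_idx_card (hc : IsClass Lf l) (h : IsPlane3 Lf) {n : Finset α} (hn : n ∈ Lf)
    (idx : α → Fin 3) (hidx : ∀ x, x ∈ l (idx x)) : (n.image idx).card ≠ 2 := by
  by_cases hinj : Set.InjOn idx n
  · rw [Finset.card_image_of_injOn hinj, h.k n hn]; norm_num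
  · unfold Set.InjOn at hinj
    push Not at hinj
    obtain ⟨x, hx, y, hy, hxy, hne⟩ := hinj
    rw [Finset.mem_coe] at hx hy
    have hnl : n = l (idx x) := by
      apply h.line_unique hn (hc.mem _) (S := {x, y}) (by rw [Finset.card_pair hne])
      · intro z hz
        rw [Finset.mem_insert, Finset.mem_singleton] at hz
        rcases hz with rfl | rfl
        · exact hx
        · exact hy
      · intro z hz
        rw [Finset.mem_insert, Finset.mem_singleton] at hz
        rcases hz with rfl | rfl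
        · exact hidx _
        · rw [hxy]; exact hidx _
    have : n.image idx = {idx x} := by
      ext j
      simp only [Finset.mem_image, Finset.mem_singleton]
      constructor
      · rintro ⟨z, hz, rfl⟩
        rw [hnl] at hz
        exact hc.idx_unique (hidx z) hz
      · rintro rfl
        exact ⟨x, hx, rfl⟩
    rw [this, Finset.card_singleton]; norm_num

theorem IsPlane3.exists_grid (h : IsPlane3 Lf) :
    ∃ e : α ≃ P, Lf.image (fun l => l.image e) = L₀ := by
  have hα : Nonempty α := Fintype.card_pos_iff.1 (by rw [h.card]; norm_num)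
  obtain ⟨x0⟩ := hα
  have hpos : 0 < cnt Lf {x0} := by rw [h.cnt_one]; norm_num
  unfold cnt at hpos
  obtain ⟨l0, hl0'⟩ := Finset.card_pos.1 hpos
  have hl0 : l0 ∈ Lf := (Finset.mem_filter.1 hl0').1
  obtain ⟨l, hlc, -⟩ := h.exists_class' hl0
  obtain ⟨a, ha⟩ : (l 0).Nonempty := Finset.card_pos.1 (by rw [h.k _ (hlc.mem 0)]; norm_num)
  obtain ⟨b, hb⟩ : (l 1).Nonempty := Finset.card_pos.1 (by rw [h.k _ (hlc.mem 1)]; norm_num)
  have hab : a ≠ b := fun hh =>
    Finset.disjoint_left.1 (hlc.dis 0 1 (by decide)) ha (hh ▸ hb)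
  obtain ⟨m0, hm0, ham0, hbm0⟩ := h.exists_line hab
  obtain ⟨m, hmc, hm0e⟩ := h.exists_class' hm0
  have hn0 : ∀ j, m 0 ≠ l j := by
    intro j hj
    rw [hm0e] at hj
    have e1 : (0 : Fin 3) = j := hlc.idx_unique ha (hj ▸ ham0)
    have e2 : (1 : Fin 3) = j := hlc.idx_unique hb (hj ▸ hbm0)
    exact absurd (e1.trans e2.symm) (by decide)
  have hmeet0 := hlc.meet h (hmc.mem 0) hn0
  have hne : ∀ i j, m i ≠ l j := by
    intro i j hij
    by_cases hi : i = 0
    · subst hi; exact hn0 j hij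
    · have hd := hmc.dis 0 i (Ne.symm hi)
      have h1 := hmeet0 j
      rw [← hij, Finset.disjoint_iff_inter_eq_empty.1 hd] at h1
      simp at h1
  have hexr : ∀ x, ∃ i, x ∈ m i := hmc.cover h
  have hexc : ∀ x, ∃ j, x ∈ l j := hlc.cover h
  choose row hrow using hexr
  choose col hcol using hexc
  have hinj : Function.Injective (fun x => ((row x, col x) : P)) := by
    intro x y hxy
    simp only [Prod.mk.injEq] at hxy
    have hx : x ∈ m (row x) ∩ l (col x) := Finset.mem_inter.2 ⟨hrow x, hcol x⟩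
    have hy : y ∈ m (row x) ∩ l (col x) := by
      rw [hxy.1, hxy.2]; exact Finset.mem_inter.2 ⟨hrow y, hcol y⟩
    exact Finset.card_le_one.1 (h.inter_le_one (hmc.mem _) (hlc.mem _) (hne _ _)) x hx y hy
  have hbij : Function.Bijective (fun x => ((row x, col x) : P)) := by
    rw [Fintype.bijective_iff_injective_and_card]
    exact ⟨hinj, by rw [h.card]; simp⟩
  refine ⟨Equiv.ofBijective _ hbij, ?_⟩
  apply Finset.eq_of_subset_of_card_le
  · intro T hT
    obtain ⟨n, hn, rfl⟩ := Finset.mem_image.1 hT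
    rw [mem_L₀]
    refine ⟨?_, ?_, ?_⟩
    · rw [Finset.card_image_of_injective _ (Equiv.injective _), h.k n hn]
    · rw [Finset.image_image]
      exact hmc.image_idx_card h hn row hrow
    · rw [Finset.image_image]
      exact hlc.image_idx_card h hn col hcol
  · rw [card_L₀, Finset.card_image_of_injective _ (Finset.image_injective (Equiv.injective _)),
      h.card_lines]

end Abstract

end Cfsg.Agent.helper28.AG23
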