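import Cfsg.Agent.Lib_helper28_AG23
set_option autoImplicit false

/-! Grid coordinates of an S(2,3,9) with two prescribed points. -/

namespace Cfsg.Agent.helper28.AG23

open Finset Cfsg.Agent.S5625 Cfsg.Agent.helper28.Design

section Pointed

variable {α : Type*} [Fintype α] [DecidableEq α] {Lf : Finset (Finset α)}

theorem IsPlane3.grid_of_classes (h : IsPlane3 Lf) {l m : Fin 3 → Finset α}
    (hlc : IsClass Lf l) (hmc : IsClass Lf m) (hne : ∀ i j, m i ≠ l j) :
    ∃ e : α ≃ P, Lf.image (fun T => T.image e) = L₀ ∧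
      ∀ x i j, x ∈ m i → x ∈ l j → e x = (i, j) := by
  have hexr : ∀ x, ∃ i, x ∈ m i := hmc.cover h
  have hexc : ∀ x, ∃ j, x ∈ l j := hlc.cover h
  choose row hrow using hexr
  choose col hcol using hexc
  have hinj : Function.Injective (fun x => ((row x, col x) : P)) := by
    intro x y hxy
    simp only [Prod.mk.injEq] at hxy
    have hx : x ∈ m (row x) ∩ l (col x) := Finset.mem_inter.2 ⟨hrow x, hcol x⟩
    have hy : y ∈ m (row x) ∩ l (col x) := by
      rw [hxy.1, hxy.2]; exact Finset.mem_inter.2 ⟨hrow y, hcol y⟩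
    exact Finset.card_le_one.1 (h.inter_le_one (hmc.mem _) (hlc.mem _) (hne _ _)) x hx y hy
  have hbij : Function.Bijective (fun x => ((row x, col x) : P)) := by
    rw [Fintype.bijective_iff_injective_and_card]
    exact ⟨hinj, by rw [h.card]; simp⟩
  refine ⟨Equiv.ofBijective _ hbij, ?_, ?_⟩
  · apply Finset.eq_of_subset_of_card_le
    · intro T hT
      obtain ⟨n, hn, rfl⟩ := Finset.mem_image.1 hT
      rw [mem_L₀]
      refine ⟨?_, ?_, ?_⟩
      · rw [Finset.card_image_of_injective _ (Equiv.injective _), h.k n hn]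
      · rw [Finset.image_image]
        exact hmc.image_idx_card h hn row hrow
      · rw [Finset.image_image]
        exact hlc.image_idx_card h hn col hcol
    · rw [card_L₀, Finset.card_image_of_injective _ (Finset.image_injective (Equiv.injective _)),
        h.card_lines]
  · intro x i j hxi hxj
    show ((row x, col x) : P) = (i, j)
    rw [hmc.idx_unique (hrow x) hxi, hlc.idx_unique (hcol x) hxj]

theorem IsPlane3.exists_grid_pointed (h : IsPlane3 Lf) {p p' : α} (hpp : p ≠ p') :
    ∃ e : α ≃ P, Lf.image (fun T => T.image e) = L₀ ∧ e p = (0, 0) ∧ e p' = (1, 0) := by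
  obtain ⟨l0, hl0, hpl0, hp'l0⟩ := h.exists_line hpp
  obtain ⟨l, hlc, hl0e⟩ := h.exists_class' hl0
  obtain ⟨b, hb⟩ : (l 1).Nonempty := Finset.card_pos.1 (by rw [h.k _ (hlc.mem 1)]; norm_num)
  have hpl : p ∈ l 0 := by rw [hl0e]; exact hpl0
  have hp'l : p' ∈ l 0 := by rw [hl0e]; exact hp'l0
  have hab : p ≠ b := fun hh =>
    Finset.disjoint_left.1 (hlc.dis 0 1 (by decide)) hpl (hh ▸ hb)
  obtain ⟨m0, hm0, hpm0, hbm0⟩ := h.exists_line hab
  obtain ⟨m, hmc, hm0e⟩ := h.exists_class' hm0
  have hpm : p ∈ m 0 := by rw [hm0e]; exact hpm0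
  have hbm : b ∈ m 0 := by rw [hm0e]; exact hbm0
  have hn0 : ∀ j, m 0 ≠ l j := by
    intro j hj
    have e1 : (0 : Fin 3) = j := hlc.idx_unique hpl (hj ▸ hpm)
    have e2 : (1 : Fin 3) = j := hlc.idx_unique hb (hj ▸ hbm)
    exact absurd (e1.trans e2.symm) (by decide)
  have hmeet0 := hlc.meet h (hmc.mem 0) hn0
  have hp'm0 : p' ∉ m 0 := by
    intro hh
    have : m 0 = l 0 := by
      apply h.line_unique (hmc.mem 0) (hlc.mem 0) (S := {p, p'}) (by rw [Finset.card_pair hpp])
      · intro z hz
        rw [Finset.mem_insert, Finset.mem_singleton] at hz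
        rcases hz with rfl | rfl
        · exact hpm
        · exact hh
      · intro z hz
        rw [Finset.mem_insert, Finset.mem_singleton] at hz
        rcases hz with rfl | rfl
        · exact hpl
        · exact hp'l
    exact hn0 0 this
  obtain ⟨m', hmc', hm'0, hp'm'⟩ :
      ∃ m' : Fin 3 → Finset α, IsClass Lf m' ∧ m' 0 = m 0 ∧ p' ∈ m' 1 := by
    obtain ⟨i, hi⟩ := hmc.cover h p'
    fin_cases i
    · exact absurd hi hp'm0
    · exact ⟨m, hmc, rfl, hi⟩
    · refine ⟨![m 0, m 2, m 1], ⟨?_, ?_⟩, rfl, hi⟩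
      · intro j
        fin_cases j
        · exact hmc.mem 0
        · exact hmc.mem 2
        · exact hmc.mem 1
      · intro j j' hne
        fin_cases j <;> fin_cases j'
        · exact absurd rfl hne
        · exact hmc.dis 0 2 (by decide)
        · exact hmc.dis 0 1 (by decide)
        · exact hmc.dis 2 0 (by decide)
        · exact absurd rfl hne
        · exact hmc.dis 2 1 (by decide)
        · exact hmc.dis 1 0 (by decide)
        · exact hmc.dis 1 2 (by decide)
        · exact absurd rfl hne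
  have hn0' : ∀ j, m' 0 ≠ l j := by rw [hm'0]; exact hn0
  have hmeet0' : ∀ j, (m' 0 ∩ l j).card = 1 := by rw [hm'0]; exact hmeet0
  have hne : ∀ i j, m' i ≠ l j := by
    intro i j hij
    by_cases hi : i = 0
    · subst hi; exact hn0' j hij
    · have hd := hmc'.dis 0 i (Ne.symm hi)
      have h1 := hmeet0' j
      rw [← hij, Finset.disjoint_iff_inter_eq_empty.1 hd] at h1
      simp at h1
  obtain ⟨e, he, hcoord⟩ := h.grid_of_classes hlc hmc' hne
  exact ⟨e, he, hcoord p 0 0 (by rw [hm'0]; exact hpm) hpl, hcoord p' 1 0 hp'm' hp'l⟩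

end Pointed

end Cfsg.Agent.helper28.AG23
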