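import Mathlib
import Cfsg.Agent.Lib_helper28_AGL23Data
import Cfsg.Agent.Lib_helper2_Quart2
import Cfsg.Agent.Lib_helper2_M24k

set_option autoImplicit false

/-! Kernel-checked certificates for the quartet stabiliser. -/

namespace Cfsg.Agent.helper28.AGL23

open Cfsg Cfsg.Agent.helper2.Golay

/-- table pair of the matrix with the given entries -/
def T2 (a b c d : ZMod 3) : List ℕ × List ℕ :=
  glTab2.getD (27 * a.val + 9 * b.val + 3 * c.val + d.val) (idTab, idTab)

/-- table pair of a translation -/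
def nT (i j : ZMod 3) : List ℕ × List ℕ := nTab.getD (3 * i.val + j.val) (idTab, idTab)

/-- a table pair is good: it defines an element of M24 stabilising the base dodecad and quartet -/
def good (d : List ℕ × List ℕ) : Bool :=
  tablesOK d.1 d.2 && codeOK d.2 && (pull (tb d.2) d0m == d0m) &&
    sameSet (Q0L.map (pull (tb d.2))) Q0L

theorem T2_ok : ∀ a b c d : ZMod 3, good (T2 a b c d) = true := by decide +kernel

theorem nT_ok : ∀ i j : ZMod 3, good (nT i j) = true := by decide +kernel

theorem mul2_ok : ∀ a b c d a' b' c' d' : ZMod 3, a * d - b * c ≠ 0 → a' * d' - b' * c' ≠ 0 →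
    (T2 (a * a' + b * c') (a * b' + b * d') (c * a' + d * c') (c * b' + d * d')).1 =
      comp (T2 a b c d).1 (T2 a' b' c' d').1 := by decide +kernel

theorem nmul_ok : ∀ i j i' j' : ZMod 3,
    (nT (i + i') (j + j')).1 = comp (nT i j).1 (nT i' j').1 := by decide +kernel

theorem conj_ok : ∀ a b c d : ZMod 3, a * d - b * c ≠ 0 → ∀ i j : ZMod 3,
    comp (T2 a b c d).1 (nT i j).1 = comp (nT (a * i + b * j) (c * i + d * j)).1 (T2 a b c d).1 := by
  decide +kernel

theorem disj_ok : ∀ a b c d : ZMod 3, a * d - b * c ≠ 0 → ∀ i j : ZMod 3,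
    (∀ k < 24, tb (nT i j).1 k = tb (T2 a b c d).1 k) →
      i = 0 ∧ j = 0 ∧ a = 1 ∧ b = 0 ∧ c = 0 ∧ d = 1 := by decide +kernel

theorem tr_ok : trTab.all (fun e => good e.2 && (tb e.2.1 0 == e.1)) = true := by decide +kernel

theorem tr_all : ∀ i < 24, d0m.testBit i = true → trTab.any (fun e => e.1 == i) = true := by
  decide +kernel

end Cfsg.Agent.helper28.AGL23
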