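import Mathlib
import Cfsg.Agent.Lib_helper2_M24d
import Cfsg.Prelude.Def_Spor_Mathieu

set_option autoImplicit false

/-! The two classes of `M11` subgroups of `M12` (point stabilisers on the dodecad of squares and on its
complement), fused by an element of `M24`. -/

namespace Cfsg.Agent.helper28.M11cls

open Cfsg MulAction Cfsg.Agent.helper2.Golay
open scoped Pointwise

/-- mask of the squares modulo 23 -/
def sqm : ℕ := 0x5335f

theorem sq_eq : Spor.squareDodecad = pts sqm := by
  unfold Spor.squareDodecad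
  rw [qrWord_eq 0, support₂_toWord]
  rfl

theorem sq_mem : Spor.squareDodecad ∈ dodecads := by
  rw [sq_eq]
  have h : sqm = cw (sqm % 4096) := by decide +kernel
  rw [h]
  exact pts_mem_dodecads (by decide) (by decide +kernel)

theorem zero_mem : (some 0 : GolayPt) ∈ Spor.squareDodecad := by
  rw [sq_eq, mem_pts]; decide

theorem none_nmem : (none : GolayPt) ∉ Spor.squareDodecad := by
  rw [sq_eq, mem_pts]; decide

/-- an element of order 8 of `M11` without fixed points off the squares -/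
def hD : List ℕ × List ℕ :=
  ([0, 2, 13, 1, 18, 19, 4, 21, 8, 16, 20, 22, 3, 6, 10, 17, 9, 11, 12, 7, 15, 5, 23, 14],
   [0, 3, 1, 12, 6, 21, 13, 19, 8, 16, 14, 17, 18, 2, 23, 20, 9, 15, 4, 5, 10, 7, 11, 22])

theorem hD_tables : tablesOK hD.1 hD.2 = true := by decide +kernel

theorem hD_code : codeOK hD.2 = true := by decide +kernel

noncomputable def h0 : Equiv.Perm GolayPt := gperm hD

theorem h0_mem : h0 ∈ M24 := gperm_mem hD_tables hD_code

theorem h0_sq : h0 • Spor.squareDodecad = Spor.squareDodecad := by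
  rw [sq_eq]
  unfold h0
  rw [gperm_smul_pts hD_tables]
  have h : pull (tb hD.2) sqm = sqm := by decide +kernel
  rw [h]

theorem h0_zero : h0 (some 0) = some 0 := by
  have h := gperm_pt hD_tables (i := 0) (by norm_num)
  exact h

theorem h0_move : ∀ q : GolayPt, q ∉ Spor.squareDodecad → h0 q ≠ q := by
  intro q hq
  unfold h0
  rw [gperm_apply hD_tables]
  rw [sq_eq, mem_pts] at hq
  revert q
  decide

theorem conj_eq {g : Equiv.Perm GolayPt} (hg : g ∈ M24)
    (hgd : g • Spor.squareDodecad = Spor.squareDodecadᶜ) (hg0 : g (some 0) = none) :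
    MulAut.conj g • Spor.M11 =
      Spor.M12 ⊓ stabilizer (Equiv.Perm GolayPt) (none : GolayPt) := by
  ext k
  rw [Subgroup.mem_pointwise_smul_iff_inv_smul_mem, MulAut.smul_def, MulAut.conj_inv_apply]
  have key : ∀ k' : Equiv.Perm GolayPt, k' ∈ Spor.M11 ↔
      (k' ∈ M24 ∧ k' • Spor.squareDodecad = Spor.squareDodecad) ∧
        k' • (some 0 : GolayPt) = some 0 := fun k' => Iff.rfl
  have key2 : k ∈ Spor.M12 ⊓ stabilizer (Equiv.Perm GolayPt) (none : GolayPt) ↔
      (k ∈ M24 ∧ k • Spor.squareDodecad = Spor.squareDodecad) ∧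
        k • (none : GolayPt) = none := Iff.rfl
  rw [key, key2]
  have e1 : g⁻¹ * k * g ∈ M24 ↔ k ∈ M24 := by
    constructor
    · intro h
      have h2 := Subgroup.mul_mem _ (Subgroup.mul_mem _ hg h) (Subgroup.inv_mem _ hg)
      have h3 : g * (g⁻¹ * k * g) * g⁻¹ = k := by group
      rwa [h3] at h2
    · intro h
      exact Subgroup.mul_mem _ (Subgroup.mul_mem _ (Subgroup.inv_mem _ hg) h) hg
  have e2 : (g⁻¹ * k * g) • Spor.squareDodecad = Spor.squareDodecad ↔
      k • Spor.squareDodecad = Spor.squareDodecad := by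
    rw [mul_smul, mul_smul, hgd, inv_smul_eq_iff, hgd, smul_compl, compl_inj_iff]
  have e3 : (g⁻¹ * k * g) • (some 0 : GolayPt) = some 0 ↔ k • (none : GolayPt) = none := by
    rw [mul_smul, mul_smul, Equiv.Perm.smul_def g, hg0, inv_smul_eq_iff, Equiv.Perm.smul_def g,
      hg0]
  rw [e1, e2, e3]

theorem part3 : ∃ g ∈ M24, g • Spor.squareDodecad = Finset.univ \ Spor.squareDodecad ∧
    MulAut.conj g • Spor.M11 =
      Spor.M12 ⊓ stabilizer (Equiv.Perm GolayPt) (none : GolayPt) := by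
  have hd := sq_mem
  have hdc := compl_mem_dodecads hd
  obtain ⟨x, hx, hx0⟩ := exists_emb_through (s := Spor.squareDodecad)
    (by rw [card_of_mem_dodecads hd]; norm_num) zero_mem 0
  obtain ⟨y, hy, hy0⟩ := exists_emb_through (s := Spor.squareDodecadᶜ)
    (by rw [card_of_mem_dodecads hdc]; norm_num) (Finset.mem_compl.2 none_nmem) 0
  obtain ⟨g, hg, hgd, hgx⟩ := dodecad_five_transitive hd hdc x y hx hy
  have hg0 : g (some 0) = none := by rw [← hx0, hgx 0, hy0]
  refine ⟨g, hg, by rw [hgd, Finset.compl_eq_univ_sdiff], ?_⟩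
  exact conj_eq hg hgd hg0

theorem part1 : Nonempty (↥(Spor.M12 ⊓ stabilizer (Equiv.Perm GolayPt) (none : GolayPt)) ≃*
    ↥Spor.M11) := by
  obtain ⟨g, _, _, hconj⟩ := part3
  exact ⟨((Subgroup.equivSMul (MulAut.conj g) Spor.M11).trans
    (MulEquiv.subgroupCongr hconj)).symm⟩

theorem part2 : ¬ ∃ k ∈ Spor.M12, MulAut.conj k • Spor.M11 =
    Spor.M12 ⊓ stabilizer (Equiv.Perm GolayPt) (none : GolayPt) := by
  rintro ⟨k, hk, hconj⟩
  have hh : h0 ∈ Spor.M11 := by
    have key : h0 ∈ Spor.M11 ↔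
      (h0 ∈ M24 ∧ h0 • Spor.squareDodecad = Spor.squareDodecad) ∧
        h0 • (some 0 : GolayPt) = some 0 := Iff.rfl
    rw [key]
    exact ⟨⟨h0_mem, h0_sq⟩, h0_zero⟩
  have h1 : k * h0 * k⁻¹ ∈ MulAut.conj k • Spor.M11 := by
    rw [Subgroup.mem_pointwise_smul_iff_inv_smul_mem, MulAut.smul_def, MulAut.conj_inv_apply]
    have h : k⁻¹ * (k * h0 * k⁻¹) * k = h0 := by group
    rw [h]
    exact hh
  rw [hconj, Subgroup.mem_inf, mem_stabilizer_iff] at h1
  have h2 : h0 (k⁻¹ (none : GolayPt)) = k⁻¹ (none : GolayPt) := by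
    have h := h1.2
    rw [mul_smul, mul_smul, smul_eq_iff_eq_inv_smul] at h
    exact h
  have hk' := hk
  unfold Spor.M12 at hk'
  rw [Subgroup.mem_inf, mem_stabilizer_iff] at hk'
  have h3 : k⁻¹ (none : GolayPt) ∉ Spor.squareDodecad := by
    intro hmem
    have h : k (k⁻¹ (none : GolayPt)) ∈ k • Spor.squareDodecad :=
      Finset.smul_mem_smul_finset (a := k) hmem
    have h4 : k (k⁻¹ (none : GolayPt)) = none := by
      rw [← Equiv.Perm.mul_apply, mul_inv_cancel, Equiv.Perm.one_apply]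
    rw [hk'.2, h4] at h
    exact none_nmem h
  exact h0_move _ h3 h2

end Cfsg.Agent.helper28.M11cls
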