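import Mathlib
import Cfsg.Agent.Lib_helper28_GL23Data
import Cfsg.Agent.Lib_helper28_M11cls
import Cfsg.Agent.Lib_helper2_M24k

set_option autoImplicit false

/-! Kernel-checked certificates for the explicit copy of GL(2,3) in M11. -/

namespace Cfsg.Agent.helper28.GL23

open Cfsg Cfsg.Agent.helper2.Golay Cfsg.Agent.helper28.M11cls

/-- table pair of the matrix with the given entries -/
def T (a b c d : ZMod 3) : List ℕ × List ℕ :=
  glTab.getD (27 * a.val + 9 * b.val + 3 * c.val + d.val) (idTab, idTab)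

/-- the involution as a map on points -/
def xx (u : GolayPt) : GolayPt := pt (tb X0.1 (idx u))

theorem X0_ok : (tablesOK X0.1 X0.2 && codeOK X0.2 && (pull (tb X0.2) sqm == sqm) &&
    (tb X0.1 0 == 0) && (tb X0.1 2 == 4) && (tb X0.1 4 == 2) && (tb X0.1 3 == 12) &&
    (tb X0.1 12 == 3)) = true := by decide +kernel

theorem T_ok : ∀ a b c d : ZMod 3, (tablesOK (T a b c d).1 (T a b c d).2 &&
    codeOK (T a b c d).2 && (pull (tb (T a b c d).2) sqm == sqm) && (tb (T a b c d).1 0 == 0) &&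
    (comp (T a b c d).1 X0.1 == comp X0.1 (T a b c d).1)) = true := by decide +kernel

theorem mul_ok : ∀ a b c d a' b' c' d' : ZMod 3, a * d - b * c ≠ 0 → a' * d' - b' * c' ≠ 0 →
    (T (a * a' + b * c') (a * b' + b * d') (c * a' + d * c') (c * b' + d * d')).1 =
      comp (T a b c d).1 (T a' b' c' d').1 := by decide +kernel

theorem inj_ok : ∀ a b c d : ZMod 3, a * d - b * c ≠ 0 →
    (∀ i < 24, tb (T a b c d).1 i = i) → a = 1 ∧ b = 0 ∧ c = 0 ∧ d = 1 := by decide +kernel

/-- the possible images of the two base points under a centralising element -/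
def T48 : Finset (GolayPt × GolayPt) :=
  Finset.univ.filter (fun uv => sqm.testBit (idx uv.1) = true ∧ uv.1 ≠ pt 0 ∧ xx uv.1 ≠ uv.1 ∧
    sqm.testBit (idx uv.2) = true ∧ uv.2 ≠ pt 0 ∧ xx uv.2 ≠ uv.2 ∧ uv.2 ≠ uv.1 ∧ uv.2 ≠ xx uv.1)

theorem T48_card : T48.card = 48 := by decide +kernel

end Cfsg.Agent.helper28.GL23
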