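import Mathlib
import Cfsg.Agent.Lib_helper2_M24k

set_option autoImplicit false

namespace Cfsg.Agent.helper2.Golay

open Cfsg Cfsg.Agent.helper27
open scoped Pointwise

/-! ### Products and inverses of table pairs, normal forms of elements of `M24` -/

/-- Product of table pairs. -/
def compD (d1 d2 : List ℕ × List ℕ) : List ℕ × List ℕ := (comp d1.1 d2.1, comp d2.2 d1.2)

/-- Inverse of a table pair. -/
def swapD (d : List ℕ × List ℕ) : List ℕ × List ℕ := (d.2, d.1)

theorem tablesOK_of_spec {L Li : List ℕ}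
    (h : ∀ i < 24, tb L i < 24 ∧ tb Li i < 24 ∧ tb Li (tb L i) = i ∧ tb L (tb Li i) = i) :
    tablesOK L Li = true := by
  unfold tablesOK
  rw [List.all_eq_true]
  intro i hi
  obtain ⟨h1, h2, h3, h4⟩ := h i (List.mem_range.mp hi)
  simp [h1, h2, h3, h4]

theorem tablesOK_compD {d1 d2 : List ℕ × List ℕ} (h1 : tablesOK d1.1 d1.2 = true)
    (h2 : tablesOK d2.1 d2.2 = true) : tablesOK (compD d1 d2).1 (compD d1 d2).2 = true := by
  apply tablesOK_of_spec
  intro i hi
  have s1 := tablesOK_spec h1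
  have s2 := tablesOK_spec h2
  unfold compD
  simp only
  have a1 := s2 i hi
  have a2 := s1 i hi
  have a3 := s1 _ a1.1
  have a4 := s2 _ a2.2.1
  refine ⟨?_, ?_, ?_, ?_⟩
  · rw [tb_comp _ _ i hi]
    exact a3.1
  · rw [tb_comp _ _ i hi]
    exact a4.2.1
  · rw [tb_comp _ _ i hi, tb_comp _ _ _ a3.1, a3.2.2.1, a1.2.2.1]
  · rw [tb_comp _ _ i hi, tb_comp _ _ _ a4.2.1, a4.2.2.2, a2.2.2.2]

theorem gperm_compD {d1 d2 : List ℕ × List ℕ} (h1 : tablesOK d1.1 d1.2 = true)
    (h2 : tablesOK d2.1 d2.2 = true) : gperm (compD d1 d2) = gperm d1 * gperm d2 := by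
  apply Equiv.Perm.ext
  intro p
  rw [Equiv.Perm.mul_apply, gperm_apply (tablesOK_compD h1 h2), gperm_apply h1, gperm_apply h2,
    idx_pt _ (tablesOK_spec h2 _ (idx_lt p)).1]
  unfold compD
  simp only
  rw [tb_comp _ _ _ (idx_lt p)]

theorem tablesOK_swapD {d : List ℕ × List ℕ} (h : tablesOK d.1 d.2 = true) :
    tablesOK (swapD d).1 (swapD d).2 = true := by
  apply tablesOK_of_spec
  intro i hi
  obtain ⟨a1, a2, a3, a4⟩ := tablesOK_spec h i hi
  exact ⟨a2, a1, a4, a3⟩

theorem gperm_swapD {d : List ℕ × List ℕ} (h : tablesOK d.1 d.2 = true) :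
    gperm (swapD d) = (gperm d)⁻¹ := by
  rw [eq_inv_iff_mul_eq_one]
  apply Equiv.Perm.ext
  intro p
  rw [Equiv.Perm.mul_apply, gperm_apply (tablesOK_swapD h), gperm_apply h,
    idx_pt _ (tablesOK_spec h _ (idx_lt p)).1]
  show pt (tb d.2 (tb d.1 (idx p))) = p
  rw [(tablesOK_spec h _ (idx_lt p)).2.2.1, pt_idx]

theorem gperm_eq_of_fst {d d' : List ℕ × List ℕ} (h : tablesOK d.1 d.2 = true)
    (h' : tablesOK d'.1 d'.2 = true) (he : d.1 = d'.1) : gperm d = gperm d' := by
  apply Equiv.Perm.ext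
  intro p
  rw [gperm_apply h, gperm_apply h', he]

theorem comp_eq_of_forall {t1 t2 t : List ℕ} (h : ∀ i < 24, tb t1 (tb t2 i) = tb t i)
    (ht : t = (List.range 24).map (fun i => tb t i)) : comp t1 t2 = t := by
  unfold comp
  rw [ht]
  apply List.map_congr_left
  intro i hi
  exact h i (List.mem_range.mp hi)

/-- Conjugation of table pairs. -/
def conjD (κ d : List ℕ × List ℕ) : List ℕ × List ℕ := compD κ (compD d (swapD κ))

theorem gperm_conjD {κ d : List ℕ × List ℕ} (hκ : tablesOK κ.1 κ.2 = true)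
    (hd : tablesOK d.1 d.2 = true) :
    tablesOK (conjD κ d).1 (conjD κ d).2 = true ∧
      gperm (conjD κ d) = gperm κ * gperm d * (gperm κ)⁻¹ := by
  have h1 := tablesOK_compD hd (tablesOK_swapD hκ)
  refine ⟨tablesOK_compD hκ h1, ?_⟩
  unfold conjD
  rw [gperm_compD hκ h1, gperm_compD hd (tablesOK_swapD hκ), gperm_swapD hκ, mul_assoc]

theorem conjD_fst (κ d : List ℕ × List ℕ) : (conjD κ d).1 = comp κ.1 (comp d.1 κ.2) := rfl

/-- An element of `M24` acting on the base points like an explicit element differs from it by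
one of the 48 elements fixing the base points. -/
theorem normal_form {g : Equiv.Perm GolayPt} (hg : g ∈ M24) {u : List ℕ × List ℕ}
    (hu : tablesOK u.1 u.2 = true) (hc : codeOK u.2 = true)
    (h : ∀ j < 5, g (pt (bs j)) = pt (tb u.1 (bs j))) :
    ∃ m < 48, g = gperm (compD u (hsD m)) := by
  have hum : gperm u ∈ M24 := gperm_mem hu hc
  have hw : (gperm u)⁻¹ * g ∈ M24 := Subgroup.mul_mem _ (Subgroup.inv_mem _ hum) hg
  have hfix : ∀ j < 5, ((gperm u)⁻¹ * g) (pt (bs j)) = pt (bs j) := by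
    intro j hj
    rw [Equiv.Perm.mul_apply, h j hj, Equiv.Perm.inv_eq_iff_eq, gperm_pt hu (bs_lt j hj)]
  obtain ⟨m, hm, hwm⟩ := H_classify hw hfix
  refine ⟨m, hm, ?_⟩
  rw [gperm_compD hu (hs_tables hm)]
  show g = gperm u * hperm m
  rw [← hwm]
  group

/-- Normal forms up to conjugacy: if for every conjugating element moving the embedding `x` to
the base points the conjugate acts on the base points like one of the listed elements, then
some conjugate is a listed element times one of the 48. -/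
theorem exists_normal_form {g : Equiv.Perm GolayPt} (hg : g ∈ M24) (x : Fin 5 ↪ GolayPt)
    (us : List (List ℕ × List ℕ))
    (hus : ∀ u ∈ us, tablesOK u.1 u.2 = true ∧ codeOK u.2 = true)
    (hmatch : ∀ k ∈ M24, (∀ j : Fin 5, k (x j) = pt (bs j.val)) →
      ∃ u ∈ us, ∀ j < 5, (k * g * k⁻¹) (pt (bs j)) = pt (tb u.1 (bs j))) :
    ∃ k ∈ M24, ∃ u ∈ us, ∃ m < 48, k * g * k⁻¹ = gperm (compD u (hsD m)) := by
  obtain ⟨k, hk, hkx⟩ := exists_map_to_base x 5 le_rfl
  obtain ⟨u, hu, hum⟩ := hmatch k hk (fun j => hkx j j.2)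
  obtain ⟨m, hm, hgm⟩ := normal_form
    (Subgroup.mul_mem _ (Subgroup.mul_mem _ hk hg) (Subgroup.inv_mem _ hk)) (hus u hu).1
    (hus u hu).2 hum
  exact ⟨k, hk, u, hu, m, hm, hgm⟩

/-- The conjugate by `k` evaluated at the image of a point. -/
theorem conj_apply_map (k g : Equiv.Perm GolayPt) (a : GolayPt) :
    (k * g * k⁻¹) (k a) = k (g a) := by
  rw [Equiv.Perm.mul_apply, Equiv.Perm.mul_apply]
  exact congrArg (fun z => k (g z)) (Equiv.symm_apply_apply k a)

/-- Candidates: listed elements times the 48. -/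
def candsOf (us : List (List ℕ × List ℕ)) : List (List ℕ × List ℕ) :=
  us.flatMap (fun u => (List.range 48).map (fun m => compD u (hsD m)))

theorem mem_candsOf {us : List (List ℕ × List ℕ)} {u : List ℕ × List ℕ} (hu : u ∈ us) {m : ℕ}
    (hm : m < 48) : compD u (hsD m) ∈ candsOf us := by
  unfold candsOf
  rw [List.mem_flatMap]
  exact ⟨u, hu, List.mem_map.mpr ⟨m, List.mem_range.mpr hm, rfl⟩⟩

theorem tablesOK_candsOf {us : List (List ℕ × List ℕ)}
    (hus : ∀ u ∈ us, tablesOK u.1 u.2 = true ∧ codeOK u.2 = true) :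
    ∀ d ∈ candsOf us, tablesOK d.1 d.2 = true := by
  intro d hd
  unfold candsOf at hd
  rw [List.mem_flatMap] at hd
  obtain ⟨u, hu, hd⟩ := hd
  obtain ⟨m, hm, rfl⟩ := List.mem_map.mp hd
  exact tablesOK_compD (hus u hu).1 (hs_tables (List.mem_range.mp hm))

end Cfsg.Agent.helper2.Golay
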