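import Mathlib
import Cfsg.Agent.Lib_helper2_M24h
import Cfsg.Prelude.Def_SporadicCombinatorics

set_option autoImplicit false

namespace Cfsg.Agent.helper2.Golay

open Cfsg Cfsg.Agent.helper27
open scoped Pointwise

/-! ### Hexads and quartets on a dodecad: abstract facts -/

theorem smul_mem_hexadsOn {g : Equiv.Perm GolayPt} (hg : g ∈ M24) {d h : Finset GolayPt}
    (hh : h ∈ hexadsOn d) : g • h ∈ hexadsOn (g • d) := by
  obtain ⟨h6, o, ho, hod⟩ := hh
  refine ⟨by rw [Finset.card_smul_finset, h6], g • o, smul_mem_octads' hg ho, ?_⟩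
  rw [← Finset.smul_finset_inter, hod]

theorem smul_mem_quartets {g : Equiv.Perm GolayPt} (hg : g ∈ M24) {d : Finset GolayPt}
    {Q : Finset (Finset GolayPt)} (hQ : Q ∈ quartets d) : g • Q ∈ quartets (g • d) := by
  obtain ⟨h4, htr, hun⟩ := hQ
  refine ⟨by rw [Finset.card_smul_finset, h4], ?_, ?_⟩
  · intro t ht
    obtain ⟨t0, ht0, rfl⟩ := Finset.mem_smul_finset.mp ht
    exact ⟨by rw [Finset.card_smul_finset]; exact (htr t0 ht0).1,
      Finset.smul_finset_subset_smul_finset (htr t0 ht0).2⟩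
  · intro t ht u hu htu
    obtain ⟨t0, ht0, rfl⟩ := Finset.mem_smul_finset.mp ht
    obtain ⟨u0, hu0, rfl⟩ := Finset.mem_smul_finset.mp hu
    rw [← Finset.smul_finset_union]
    exact smul_mem_hexadsOn hg (hun t0 ht0 u0 hu0 (fun h => htu (by rw [h])))

theorem quartets_smul_iff {g : Equiv.Perm GolayPt} (hg : g ∈ M24) (d : Finset GolayPt)
    (Q : Finset (Finset GolayPt)) : Q ∈ quartets d ↔ g • Q ∈ quartets (g • d) := by
  constructor
  · exact smul_mem_quartets hg
  · intro h
    have := smul_mem_quartets (Subgroup.inv_mem _ hg) h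
    rwa [inv_smul_smul, inv_smul_smul] at this

theorem hexad_subset {d h : Finset GolayPt} (hh : h ∈ hexadsOn d) : h ⊆ d := by
  obtain ⟨_, o, _, rfl⟩ := hh
  exact Finset.inter_subset_right

/-- Two hexads on a dodecad sharing five points are equal. -/
theorem hexad_unique {d h1 h2 s : Finset GolayPt} (hh1 : h1 ∈ hexadsOn d)
    (hh2 : h2 ∈ hexadsOn d) (hs : s.card = 5) (hs1 : s ⊆ h1) (hs2 : s ⊆ h2) : h1 = h2 := by
  obtain ⟨_, o1, ho1, rfl⟩ := hh1
  obtain ⟨_, o2, ho2, rfl⟩ := hh2
  obtain ⟨b, _, huniq⟩ := octads_steiner.2 s hs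
  have e1 : o1 = b := huniq o1 ⟨ho1, hs1.trans Finset.inter_subset_left⟩
  have e2 : o2 = b := huniq o2 ⟨ho2, hs2.trans Finset.inter_subset_left⟩
  rw [e1, e2]

theorem quartet_disjoint {d : Finset GolayPt} {Q : Finset (Finset GolayPt)} (hQ : Q ∈ quartets d)
    {t u : Finset GolayPt} (ht : t ∈ Q) (hu : u ∈ Q) (htu : t ≠ u) : Disjoint t u := by
  have h6 := (hQ.2.2 t ht u hu htu).1
  rw [← Finset.card_union_eq_card_add_card, h6, (hQ.2.1 t ht).1, (hQ.2.1 u hu).1]

theorem quartet_cover {d : Finset GolayPt} (hd : d ∈ dodecads) {Q : Finset (Finset GolayPt)}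
    (hQ : Q ∈ quartets d) {p : GolayPt} (hp : p ∈ d) : ∃ y ∈ Q, p ∈ y := by
  have hsub : Q.biUnion id ⊆ d := by
    intro x hx
    obtain ⟨y, hy, hxy⟩ := Finset.mem_biUnion.mp hx
    exact (hQ.2.1 y hy).2 hxy
  have hcard : (Q.biUnion id).card = 12 := by
    have h1 : (Q.biUnion id).card = ∑ u ∈ Q, (id u).card :=
      Finset.card_biUnion (fun x hx y hy hxy => quartet_disjoint hQ hx hy hxy)
    have h2 : ∑ u ∈ Q, (id u).card = ∑ _u ∈ Q, 3 :=
      Finset.sum_congr rfl (fun x hx => (hQ.2.1 x hx).1)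
    rw [h1, h2, Finset.sum_const, hQ.1]
    rfl
  have heq : Q.biUnion id = d := Finset.eq_of_subset_of_card_le hsub (by
    rw [hcard, card_of_mem_dodecads hd])
  rw [← heq] at hp
  obtain ⟨y, hy, hpy⟩ := Finset.mem_biUnion.mp hp
  exact ⟨y, hy, hpy⟩

/-- A quartet is determined by two of its triples. -/
theorem quartet_unique {d : Finset GolayPt} (hd : d ∈ dodecads) {Q Q' : Finset (Finset GolayPt)}
    (hQ : Q ∈ quartets d) (hQ' : Q' ∈ quartets d) {t u : Finset GolayPt} (htu : t ≠ u)
    (ht : t ∈ Q) (hu : u ∈ Q) (ht' : t ∈ Q') (hu' : u ∈ Q') : Q = Q' := by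
  classical
  apply Finset.eq_of_subset_of_card_le _ (by rw [hQ.1, hQ'.1])
  intro x hx
  by_cases hxt : x = t
  · rw [hxt]; exact ht'
  by_cases hxu : x = u
  · rw [hxu]; exact hu'
  have hdxt := quartet_disjoint hQ hx ht hxt
  have hdxu := quartet_disjoint hQ hx hu hxu
  have hx3 := (hQ.2.1 x hx).1
  have hxd := (hQ.2.1 x hx).2
  -- each point of `x` lies in a triple of `Q'` other than `t`, `u`
  have hy : ∀ p ∈ x, ∃ y ∈ (Q'.erase t).erase u, p ∈ y := by
    intro p hp
    obtain ⟨y, hy, hpy⟩ := quartet_cover hd hQ' (hxd hp)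
    refine ⟨y, ?_, hpy⟩
    rw [Finset.mem_erase, Finset.mem_erase]
    refine ⟨?_, ?_, hy⟩
    · rintro rfl
      exact (Finset.disjoint_left.mp hdxu) hp hpy
    · rintro rfl
      exact (Finset.disjoint_left.mp hdxt) hp hpy
  let f : GolayPt → Finset GolayPt := fun p =>
    if h : ∃ y ∈ (Q'.erase t).erase u, p ∈ y then Classical.choose h else ∅
  have hf : ∀ p ∈ x, f p ∈ (Q'.erase t).erase u ∧ p ∈ f p := by
    intro p hp
    have h := hy p hp
    simp only [f, dif_pos h]
    exact Classical.choose_spec h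
  have hcard : ((Q'.erase t).erase u).card < x.card := by
    rw [Finset.card_erase_of_mem (Finset.mem_erase.mpr ⟨htu.symm, hu'⟩),
      Finset.card_erase_of_mem ht', hQ'.1, hx3]
    norm_num
  obtain ⟨p, hp, q, hq, hpq, hfpq⟩ := Finset.exists_ne_map_eq_of_card_lt_of_maps_to hcard
    (fun a ha => (hf a ha).1)
  set y := f p with hy_def
  have hyQ : y ∈ Q' := Finset.mem_of_mem_erase (Finset.mem_of_mem_erase (hf p hp).1)
  have hyt : y ≠ t := (Finset.mem_erase.mp (Finset.mem_of_mem_erase (hf p hp).1)).1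
  have hpy : p ∈ y := (hf p hp).2
  have hqy : q ∈ y := by
    rw [hfpq]
    exact (hf q hq).2
  have hdyt := quartet_disjoint hQ' hyQ ht' hyt
  have hh1 := hQ.2.2 t ht x hx (Ne.symm hxt)
  have hh2 := hQ'.2.2 t ht' y hyQ (Ne.symm hyt)
  have hpt : p ∉ t := fun h => (Finset.disjoint_left.mp hdxt) hp h
  have hqt : q ∉ t := fun h => (Finset.disjoint_left.mp hdxt) hq h
  have hs5 : (insert p (insert q t)).card = 5 := by
    rw [Finset.card_insert_of_notMem, Finset.card_insert_of_notMem hqt, (hQ.2.1 t ht).1]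
    rw [Finset.mem_insert]
    push Not
    exact ⟨hpq, hpt⟩
  have e := hexad_unique hh1 hh2 hs5
    (by
      intro z hz
      rw [Finset.mem_insert, Finset.mem_insert] at hz
      rcases hz with rfl | rfl | hz
      · exact Finset.mem_union_right _ hp
      · exact Finset.mem_union_right _ hq
      · exact Finset.mem_union_left _ hz)
    (by
      intro z hz
      rw [Finset.mem_insert, Finset.mem_insert] at hz
      rcases hz with rfl | rfl | hz
      · exact Finset.mem_union_right _ hpy
      · exact Finset.mem_union_right _ hqy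
      · exact Finset.mem_union_left _ hz)
  have e1 : (t ∪ x) \ t = x := Finset.union_sdiff_cancel_left hdxt.symm
  have e2 : (t ∪ y) \ t = y := Finset.union_sdiff_cancel_left hdyt.symm
  rw [← e1, e, e2]
  exact hyQ

/-- A pair of disjoint triples whose union is a hexad. -/
def GoodPair (d t u : Finset GolayPt) : Prop :=
  t.card = 3 ∧ u.card = 3 ∧ Disjoint t u ∧ t ∪ u ∈ hexadsOn d

theorem goodPair_of_mem {d : Finset GolayPt} {Q : Finset (Finset GolayPt)} (hQ : Q ∈ quartets d)
    {t u : Finset GolayPt} (ht : t ∈ Q) (hu : u ∈ Q) (htu : t ≠ u) : GoodPair d t u :=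
  ⟨(hQ.2.1 t ht).1, (hQ.2.1 u hu).1, quartet_disjoint hQ ht hu htu, hQ.2.2 t ht u hu htu⟩

theorem GoodPair.ne {d t u : Finset GolayPt} (h : GoodPair d t u) : t ≠ u := by
  rintro rfl
  have := h.2.2.1
  rw [disjoint_self, Finset.bot_eq_empty] at this
  rw [this] at h
  exact absurd h.1 (by simp)

/-- An embedding of `Fin 5` from five distinct points. -/
def embFive (a b c d e : GolayPt) (h : [a, b, c, d, e].Nodup) : Fin 5 ↪ GolayPt :=
  ⟨fun i => [a, b, c, d, e].get (i.cast (by simp)), by
    intro i j hij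
    have := (List.Nodup.get_inj_iff h).mp hij
    exact Fin.cast_injective _ this⟩

/-- `M24` is transitive on dodecads with a good pair of triples. -/
theorem goodPair_trans {d d' : Finset GolayPt} (hd : d ∈ dodecads) (hd' : d' ∈ dodecads)
    {t u t' u' : Finset GolayPt} (h : GoodPair d t u) (h' : GoodPair d' t' u') :
    ∃ g ∈ M24, g • d = d' ∧ g • t = t' ∧ g • u = u' := by
  classical
  obtain ⟨ht3, hu3, hdis, hhex⟩ := h
  obtain ⟨ht3', hu3', hdis', hhex'⟩ := h'
  obtain ⟨a, b, c, hab, hac, hbc, rfl⟩ := Finset.card_eq_three.mp ht3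
  obtain ⟨e, f, k, hef, hek, hfk, rfl⟩ := Finset.card_eq_three.mp hu3
  obtain ⟨a', b', c', hab', hac', hbc', rfl⟩ := Finset.card_eq_three.mp ht3'
  obtain ⟨e', f', k', hef', hek', hfk', rfl⟩ := Finset.card_eq_three.mp hu3'
  have hsub := hexad_subset hhex
  have hsub' := hexad_subset hhex'
  simp only [Finset.disjoint_left, Finset.mem_insert, Finset.mem_singleton] at hdis hdis'
  have hnd : [a, b, c, e, f].Nodup := by
    simp only [List.nodup_cons, List.mem_cons, List.not_mem_nil, or_false, not_or,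
      not_false_eq_true, List.nodup_nil, and_true]
    refine ⟨⟨hab, hac, ?_, ?_⟩, ⟨hbc, ?_, ?_⟩, ⟨?_, ?_⟩, hef⟩
    · exact fun h => hdis (Or.inl rfl) (Or.inl h)
    · exact fun h => hdis (Or.inl rfl) (Or.inr (Or.inl h))
    · exact fun h => hdis (Or.inr (Or.inl rfl)) (Or.inl h)
    · exact fun h => hdis (Or.inr (Or.inl rfl)) (Or.inr (Or.inl h))
    · exact fun h => hdis (Or.inr (Or.inr rfl)) (Or.inl h)
    · exact fun h => hdis (Or.inr (Or.inr rfl)) (Or.inr (Or.inl h))
  have hnd' : [a', b', c', e', f'].Nodup := by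
    simp only [List.nodup_cons, List.mem_cons, List.not_mem_nil, or_false, not_or,
      not_false_eq_true, List.nodup_nil, and_true]
    refine ⟨⟨hab', hac', ?_, ?_⟩, ⟨hbc', ?_, ?_⟩, ⟨?_, ?_⟩, hef'⟩
    · exact fun h => hdis' (Or.inl rfl) (Or.inl h)
    · exact fun h => hdis' (Or.inl rfl) (Or.inr (Or.inl h))
    · exact fun h => hdis' (Or.inr (Or.inl rfl)) (Or.inl h)
    · exact fun h => hdis' (Or.inr (Or.inl rfl)) (Or.inr (Or.inl h))
    · exact fun h => hdis' (Or.inr (Or.inr rfl)) (Or.inl h)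
    · exact fun h => hdis' (Or.inr (Or.inr rfl)) (Or.inr (Or.inl h))
  have hmem : ∀ z, z ∈ ({a, b, c} : Finset GolayPt) ∪ {e, f, k} → z ∈ d := fun z hz => hsub hz
  have hmem' : ∀ z, z ∈ ({a', b', c'} : Finset GolayPt) ∪ {e', f', k'} → z ∈ d' :=
    fun z hz => hsub' hz
  obtain ⟨g, hg, hgd, hgx⟩ := dodecad_five_transitive hd hd' (embFive a b c e f hnd)
    (embFive a' b' c' e' f' hnd')
    (by
      intro i
      fin_cases i
      · exact hmem a (by simp)
      · exact hmem b (by simp)
      · exact hmem c (by simp)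
      · exact hmem e (by simp)
      · exact hmem f (by simp))
    (by
      intro i
      fin_cases i
      · exact hmem' a' (by simp)
      · exact hmem' b' (by simp)
      · exact hmem' c' (by simp)
      · exact hmem' e' (by simp)
      · exact hmem' f' (by simp))
  have ga : g a = a' := hgx 0
  have gb : g b = b' := hgx 1
  have gc : g c = c' := hgx 2
  have ge : g e = e' := hgx 3
  have gf : g f = f' := hgx 4
  have hgt : g • ({a, b, c} : Finset GolayPt) = {a', b', c'} := by
    rw [Finset.smul_finset_insert, Finset.smul_finset_insert, Finset.smul_finset_singleton]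
    show ({g a, g b, g c} : Finset GolayPt) = _
    rw [ga, gb, gc]
  refine ⟨g, hg, hgd, hgt, ?_⟩
  have hH : g • (({a, b, c} : Finset GolayPt) ∪ {e, f, k}) ∈ hexadsOn d' := by
    rw [← hgd]
    exact smul_mem_hexadsOn hg hhex
  have hs5 : ({a', b', c', e', f'} : Finset GolayPt).card = 5 := by
    have := List.toFinset_card_of_nodup hnd'
    simpa using this
  have heq := hexad_unique hH hhex' hs5
    (by
      intro z hz
      simp only [Finset.mem_insert, Finset.mem_singleton] at hz
      rcases hz with rfl | rfl | rfl | rfl | rfl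
      · rw [← ga]; exact Finset.smul_mem_smul_finset (by simp)
      · rw [← gb]; exact Finset.smul_mem_smul_finset (by simp)
      · rw [← gc]; exact Finset.smul_mem_smul_finset (by simp)
      · rw [← ge]; exact Finset.smul_mem_smul_finset (by simp)
      · rw [← gf]; exact Finset.smul_mem_smul_finset (by simp))
    (by
      intro z hz
      simp only [Finset.mem_insert, Finset.mem_singleton] at hz
      simp only [Finset.mem_union, Finset.mem_insert, Finset.mem_singleton]
      rcases hz with rfl | rfl | rfl | rfl | rfl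
      · exact Or.inl (Or.inl rfl)
      · exact Or.inl (Or.inr (Or.inl rfl))
      · exact Or.inl (Or.inr (Or.inr rfl))
      · exact Or.inr (Or.inl rfl)
      · exact Or.inr (Or.inr (Or.inl rfl)))
  have hdis0 : Disjoint ({a, b, c} : Finset GolayPt) {e, f, k} := by
    simp only [Finset.disjoint_left, Finset.mem_insert, Finset.mem_singleton]
    exact hdis
  have hdis0' : Disjoint ({a', b', c'} : Finset GolayPt) {e', f', k'} := by
    simp only [Finset.disjoint_left, Finset.mem_insert, Finset.mem_singleton]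
    exact hdis'
  have e1 : (({a, b, c} : Finset GolayPt) ∪ {e, f, k}) \ {a, b, c} = {e, f, k} :=
    Finset.union_sdiff_cancel_left hdis0
  have e2 : (({a', b', c'} : Finset GolayPt) ∪ {e', f', k'}) \ {a', b', c'} = {e', f', k'} :=
    Finset.union_sdiff_cancel_left hdis0'
  rw [← e1, Finset.smul_finset_sdiff, heq, hgt, e2]

end Cfsg.Agent.helper2.Golay
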