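import Mathlib
import Cfsg.Agent.Lib_helper28_GL23Cert
import Cfsg.Agent.Lib_helper2_Elt
import Cfsg.Agent.Lib_helper2_Quart

set_option autoImplicit false

/-! The centraliser of an involution in `M11` (a dodecad-point stabiliser in `M24`) is `GL(2,3)`. -/

namespace Cfsg.Agent.helper28.GL23

open Cfsg MulAction Cfsg.Agent.helper2.Golay Cfsg.Agent.helper28.M11cls
open scoped Pointwise

/-! ### generic transport -/

/-- conjugation between two subgroups -/
def conjEquiv {M : Type*} [Group M] (K K0 : Subgroup M) (m : M)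
    (hK : ∀ k, k ∈ K ↔ m * k * m⁻¹ ∈ K0) : K ≃* K0 where
  toFun k := ⟨m * k * m⁻¹, (hK k).1 k.2⟩
  invFun k := ⟨m⁻¹ * k * m, (hK _).2 (by
    have h : m * (m⁻¹ * (k : M) * m) * m⁻¹ = k := by group
    rw [h]; exact k.2)⟩
  left_inv k := by
    apply Subtype.ext
    show m⁻¹ * (m * (k : M) * m⁻¹) * m = k
    group
  right_inv k := by
    apply Subtype.ext
    show m * (m⁻¹ * (k : M) * m) * m⁻¹ = k
    group
  map_mul' a b := by
    apply Subtype.ext
    show m * ((a : M) * b) * m⁻¹ = (m * a * m⁻¹) * (m * b * m⁻¹)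
    group

theorem conjEquiv_val {M : Type*} [Group M] (K K0 : Subgroup M) (m : M)
    (hK : ∀ k, k ∈ K ↔ m * k * m⁻¹ ∈ K0) (k : K) :
    ((conjEquiv K K0 m hK k : K0) : M) = m * k * m⁻¹ := rfl

/-- centralisers correspond under an isomorphism -/
def centEquiv {G G' : Type*} [Group G] [Group G'] (e : G ≃* G') (x : G) :
    Subgroup.centralizer ({x} : Set G) ≃* Subgroup.centralizer ({e x} : Set G') where
  toFun c := ⟨e c, by
    rw [Subgroup.mem_centralizer_singleton_iff, ← map_mul, ← map_mul,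
      Subgroup.mem_centralizer_singleton_iff.1 c.2]⟩
  invFun c := ⟨e.symm c, by
    rw [Subgroup.mem_centralizer_singleton_iff]
    apply e.injective
    rw [map_mul, map_mul, e.apply_symm_apply]
    exact Subgroup.mem_centralizer_singleton_iff.1 c.2⟩
  left_inv c := by
    apply Subtype.ext
    exact e.symm_apply_apply _
  right_inv c := by
    apply Subtype.ext
    exact e.apply_symm_apply _
  map_mul' a b := by
    apply Subtype.ext
    exact map_mul e _ _

/-! ### the base configuration -/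

theorem sqd_mem : pts sqm ∈ dodecads := by
  rw [← sq_eq]; exact sq_mem

theorem X0_tables : tablesOK X0.1 X0.2 = true := by
  have h := X0_ok
  simp only [Bool.and_eq_true] at h
  exact h.1.1.1.1.1.1.1

/-- the base involution -/
noncomputable def x0 : Equiv.Perm GolayPt := gperm X0

theorem x0_mem : x0 ∈ M24 := by
  have h := X0_ok
  simp only [Bool.and_eq_true] at h
  exact gperm_mem X0_tables h.1.1.1.1.1.1.2

theorem x0_sq : x0 • pts sqm = pts sqm := by
  have h := X0_ok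
  simp only [Bool.and_eq_true, beq_iff_eq] at h
  unfold x0
  rw [gperm_smul_pts X0_tables, h.1.1.1.1.1.2]

theorem x0_pt {i j : ℕ} (hi : i < 24) (h : tb X0.1 i = j) : x0 (pt i) = pt j := by
  unfold x0
  rw [gperm_pt X0_tables hi, h]

theorem x0_vals : x0 (pt 0) = pt 0 ∧ x0 (pt 2) = pt 4 ∧ x0 (pt 4) = pt 2 ∧ x0 (pt 3) = pt 12 ∧
    x0 (pt 12) = pt 3 := by
  have h := X0_ok
  simp only [Bool.and_eq_true, beq_iff_eq] at h
  exact ⟨x0_pt (by norm_num) h.1.1.1.1.2, x0_pt (by norm_num) h.1.1.1.2,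
    x0_pt (by norm_num) h.1.1.2, x0_pt (by norm_num) h.1.2, x0_pt (by norm_num) h.2⟩

theorem x0_apply (u : GolayPt) : x0 u = xx u := by
  unfold x0 xx
  rw [gperm_apply X0_tables]

/-- the five base points -/
noncomputable def base5 : Fin 5 ↪ GolayPt :=
  embFive (pt 0) (pt 2) (pt 4) (pt 3) (pt 12) (by decide)

theorem base5_mem : ∀ i, base5 i ∈ pts sqm := by
  intro i
  rw [mem_pts]
  fin_cases i <;> decide

/-! ### the homomorphism from `GL(2,3)` -/

theorem T_spec (a b c d : ZMod 3) : tablesOK (T a b c d).1 (T a b c d).2 = true ∧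
    codeOK (T a b c d).2 = true ∧ pull (tb (T a b c d).2) sqm = sqm ∧ tb (T a b c d).1 0 = 0 ∧
    comp (T a b c d).1 X0.1 = comp X0.1 (T a b c d).1 := by
  have h := T_ok a b c d
  simp only [Bool.and_eq_true, beq_iff_eq] at h
  exact ⟨h.1.1.1.1, h.1.1.1.2, h.1.1.2, h.1.2, h.2⟩

/-- the permutation attached to a matrix -/
noncomputable def f0 (A : Matrix (Fin 2) (Fin 2) (ZMod 3)) : Equiv.Perm GolayPt :=
  gperm (T (A 0 0) (A 0 1) (A 1 0) (A 1 1))

theorem det_ne (A : GL (Fin 2) (ZMod 3)) :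
    (A : Matrix (Fin 2) (Fin 2) (ZMod 3)) 0 0 * (A : Matrix (Fin 2) (Fin 2) (ZMod 3)) 1 1 -
      (A : Matrix (Fin 2) (Fin 2) (ZMod 3)) 0 1 * (A : Matrix (Fin 2) (Fin 2) (ZMod 3)) 1 0 ≠ 0 := by
  have h : (Matrix.GeneralLinearGroup.det A : ZMod 3) ≠ 0 := Units.ne_zero _
  rw [Matrix.GeneralLinearGroup.val_det_apply, Matrix.det_fin_two] at h
  exact h

theorem f0_mul (A B : GL (Fin 2) (ZMod 3)) :
    f0 ((A * B : GL (Fin 2) (ZMod 3)) : Matrix (Fin 2) (Fin 2) (ZMod 3)) =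
      f0 (A : Matrix (Fin 2) (Fin 2) (ZMod 3)) * f0 (B : Matrix (Fin 2) (Fin 2) (ZMod 3)) := by
  unfold f0
  have hA := (T_spec ((A : Matrix (Fin 2) (Fin 2) (ZMod 3)) 0 0) ((A : Matrix (Fin 2) (Fin 2) (ZMod 3)) 0 1)
    ((A : Matrix (Fin 2) (Fin 2) (ZMod 3)) 1 0) ((A : Matrix (Fin 2) (Fin 2) (ZMod 3)) 1 1)).1
  have hB := (T_spec ((B : Matrix (Fin 2) (Fin 2) (ZMod 3)) 0 0) ((B : Matrix (Fin 2) (Fin 2) (ZMod 3)) 0 1)
    ((B : Matrix (Fin 2) (Fin 2) (ZMod 3)) 1 0) ((B : Matrix (Fin 2) (Fin 2) (ZMod 3)) 1 1)).1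
  rw [← gperm_compD hA hB]
  apply gperm_eq_of_fst (T_spec _ _ _ _).1 (tablesOK_compD hA hB)
  have h := mul_ok _ _ _ _ _ _ _ _ (det_ne A) (det_ne B)
  show _ = comp _ _
  rw [← h]
  rw [Matrix.GeneralLinearGroup.coe_mul]
  simp only [Matrix.mul_apply, Fin.sum_univ_two]

theorem f0_mem (A : Matrix (Fin 2) (Fin 2) (ZMod 3)) : f0 A ∈ M24 :=
  gperm_mem (T_spec _ _ _ _).1 (T_spec _ _ _ _).2.1

theorem f0_sq (A : Matrix (Fin 2) (Fin 2) (ZMod 3)) : f0 A • pts sqm = pts sqm := by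
  unfold f0
  rw [gperm_smul_pts (T_spec _ _ _ _).1, (T_spec _ _ _ _).2.2.1]

theorem f0_zero (A : Matrix (Fin 2) (Fin 2) (ZMod 3)) : f0 A (pt 0) = pt 0 := by
  unfold f0
  rw [gperm_pt (T_spec _ _ _ _).1 (by norm_num), (T_spec _ _ _ _).2.2.2.1]

theorem f0_comm (A : Matrix (Fin 2) (Fin 2) (ZMod 3)) : f0 A * x0 = x0 * f0 A := by
  unfold f0 x0
  rw [← gperm_compD (T_spec _ _ _ _).1 X0_tables, ← gperm_compD X0_tables (T_spec _ _ _ _).1]
  exact gperm_eq_of_fst (tablesOK_compD (T_spec _ _ _ _).1 X0_tables)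
    (tablesOK_compD X0_tables (T_spec _ _ _ _).1) (T_spec _ _ _ _).2.2.2.2

theorem f0_inj (A : GL (Fin 2) (ZMod 3))
    (h : f0 (A : Matrix (Fin 2) (Fin 2) (ZMod 3)) = 1) : A = 1 := by
  have ht := (T_spec ((A : Matrix (Fin 2) (Fin 2) (ZMod 3)) 0 0) ((A : Matrix (Fin 2) (Fin 2) (ZMod 3)) 0 1)
    ((A : Matrix (Fin 2) (Fin 2) (ZMod 3)) 1 0) ((A : Matrix (Fin 2) (Fin 2) (ZMod 3)) 1 1)).1
  have h2 : ∀ i < 24, tb (T ((A : Matrix (Fin 2) (Fin 2) (ZMod 3)) 0 0)
      ((A : Matrix (Fin 2) (Fin 2) (ZMod 3)) 0 1) ((A : Matrix (Fin 2) (Fin 2) (ZMod 3)) 1 0)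
      ((A : Matrix (Fin 2) (Fin 2) (ZMod 3)) 1 1)).1 i = i := by
    intro i hi
    have h3 := congrArg (fun σ : Equiv.Perm GolayPt => idx (σ (pt i))) h
    simp only [f0] at h3
    rw [gperm_pt ht hi, idx_pt _ (tablesOK_spec ht i hi).1, Equiv.Perm.one_apply, idx_pt _ hi] at h3
    exact h3
  obtain ⟨h00, h01, h10, h11⟩ := inj_ok _ _ _ _ (det_ne A) h2
  apply Units.ext
  ext i j
  fin_cases i <;> fin_cases j
  · simpa using h00
  · simpa using h01
  · simpa using h10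
  · simpa using h11

/-! ### the base centraliser -/

/-- the base `M11` -/
abbrev H0 : Subgroup ↥M24 := stabilizer ↥M24 (pts sqm) ⊓ stabilizer ↥M24 (pt 0)

theorem mem_H0_iff (k : ↥M24) : k ∈ H0 ↔
    (k : Equiv.Perm GolayPt) • pts sqm = pts sqm ∧ (k : Equiv.Perm GolayPt) (pt 0) = pt 0 := Iff.rfl

/-- the base involution as an element of the base `M11` -/
noncomputable def x0' : ↥H0 := ⟨⟨x0, x0_mem⟩, (mem_H0_iff _).2 ⟨x0_sq, x0_vals.1⟩⟩

/-- the embedding of `GL(2,3)` into the centraliser -/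
noncomputable def F : GL (Fin 2) (ZMod 3) →* ↥(Subgroup.centralizer ({x0'} : Set ↥H0)) :=
  MonoidHom.mk' (fun A => ⟨⟨⟨f0 (A : Matrix (Fin 2) (Fin 2) (ZMod 3)), f0_mem _⟩,
      (mem_H0_iff _).2 ⟨f0_sq _, f0_zero _⟩⟩, by
    rw [Subgroup.mem_centralizer_singleton_iff]
    apply Subtype.ext
    apply Subtype.ext
    exact f0_comm _⟩) (by
    intro A B
    apply Subtype.ext
    apply Subtype.ext
    apply Subtype.ext
    exact f0_mul A B)

theorem F_val (A : GL (Fin 2) (ZMod 3)) :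
    ((((F A : ↥(Subgroup.centralizer ({x0'} : Set ↥H0))) : ↥H0) : ↥M24) : Equiv.Perm GolayPt) =
      f0 (A : Matrix (Fin 2) (Fin 2) (ZMod 3)) := rfl

theorem F_inj : Function.Injective F := by
  rw [injective_iff_map_eq_one]
  intro A hA
  apply f0_inj
  rw [← F_val, hA]
  rfl

/-- the underlying permutation of an element of the centraliser -/
def cperm (c : ↥(Subgroup.centralizer ({x0'} : Set ↥H0))) : Equiv.Perm GolayPt :=
  (((c : ↥H0) : ↥M24) : Equiv.Perm GolayPt)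

theorem cperm_mem (c : ↥(Subgroup.centralizer ({x0'} : Set ↥H0))) : cperm c ∈ M24 :=
  ((c : ↥H0) : ↥M24).2

theorem cperm_sq (c : ↥(Subgroup.centralizer ({x0'} : Set ↥H0))) :
    cperm c • pts sqm = pts sqm := ((mem_H0_iff _).1 (c : ↥H0).2).1

theorem cperm_zero (c : ↥(Subgroup.centralizer ({x0'} : Set ↥H0))) :
    cperm c (pt 0) = pt 0 := ((mem_H0_iff _).1 (c : ↥H0).2).2

theorem cperm_comm (c : ↥(Subgroup.centralizer ({x0'} : Set ↥H0))) (u : GolayPt) :
    cperm c (x0 u) = x0 (cperm c u) := by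
  have h := Subgroup.mem_centralizer_singleton_iff.1 c.2
  have h2 := congrArg (fun k : ↥H0 => ((k : ↥M24) : Equiv.Perm GolayPt) u) h
  exact h2

theorem cperm_mem_sq (c : ↥(Subgroup.centralizer ({x0'} : Set ↥H0))) {u : GolayPt}
    (hu : u ∈ pts sqm) : cperm c u ∈ pts sqm := by
  have h := Finset.smul_mem_smul_finset (a := cperm c) hu
  rwa [cperm_sq] at h

theorem cperm_inj : Function.Injective cperm := by
  intro c c' h
  apply Subtype.ext
  apply Subtype.ext
  apply Subtype.ext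
  exact h

/-- images of the two base points -/
def Phi (c : ↥(Subgroup.centralizer ({x0'} : Set ↥H0))) : GolayPt × GolayPt :=
  (cperm c (pt 2), cperm c (pt 3))

theorem Phi_mem (c : ↥(Subgroup.centralizer ({x0'} : Set ↥H0))) : Phi c ∈ T48 := by
  unfold T48 Phi
  rw [Finset.mem_filter]
  refine ⟨Finset.mem_univ _, ?_⟩
  show sqm.testBit (idx (cperm c (pt 2))) = true ∧ cperm c (pt 2) ≠ pt 0 ∧
    xx (cperm c (pt 2)) ≠ cperm c (pt 2) ∧
    sqm.testBit (idx (cperm c (pt 3))) = true ∧ cperm c (pt 3) ≠ pt 0 ∧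
    xx (cperm c (pt 3)) ≠ cperm c (pt 3) ∧ cperm c (pt 3) ≠ cperm c (pt 2) ∧
    cperm c (pt 3) ≠ xx (cperm c (pt 2))
  have hv := x0_vals
  have hinj := (cperm c).injective
  rw [← x0_apply, ← x0_apply, ← cperm_comm, ← cperm_comm, hv.2.1, hv.2.2.2.1]
  refine ⟨?_, ?_, ?_, ?_, ?_, ?_, ?_, ?_⟩
  · rw [← mem_pts]
    exact cperm_mem_sq c (by rw [mem_pts]; decide)
  · rw [← cperm_zero c]
    exact fun h => absurd (hinj h) (by decide)
  · exact fun h => absurd (hinj h) (by decide)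
  · rw [← mem_pts]
    exact cperm_mem_sq c (by rw [mem_pts]; decide)
  · rw [← cperm_zero c]
    exact fun h => absurd (hinj h) (by decide)
  · exact fun h => absurd (hinj h) (by decide)
  · exact fun h => absurd (hinj h) (by decide)
  · exact fun h => absurd (hinj h) (by decide)

theorem Phi_inj : Function.Injective Phi := by
  intro c c' h
  apply cperm_inj
  have h2 : cperm c (pt 2) = cperm c' (pt 2) := congrArg Prod.fst h
  have h3 : cperm c (pt 3) = cperm c' (pt 3) := congrArg Prod.snd h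
  have hv := x0_vals
  have h4 : cperm c (pt 4) = cperm c' (pt 4) := by
    rw [← hv.2.1, cperm_comm, cperm_comm, h2]
  have h12 : cperm c (pt 12) = cperm c' (pt 12) := by
    rw [← hv.2.2.2.1, cperm_comm, cperm_comm, h3]
  have h0 : cperm c (pt 0) = cperm c' (pt 0) := by rw [cperm_zero, cperm_zero]
  have key : (cperm c')⁻¹ * cperm c = 1 := by
    apply dodecad_sharp sqd_mem base5 base5_mem
      (Subgroup.mul_mem _ (Subgroup.inv_mem _ (cperm_mem c')) (cperm_mem c))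
    · rw [mul_smul, cperm_sq, inv_smul_eq_iff, cperm_sq]
    · intro i
      rw [Equiv.Perm.mul_apply, Equiv.Perm.inv_eq_iff_eq]
      fin_cases i
      · exact h0
      · exact h2
      · exact h4
      · exact h3
      · exact h12
  exact (inv_mul_eq_one.1 key).symm

theorem card_cent_le : Nat.card ↥(Subgroup.centralizer ({x0'} : Set ↥H0)) ≤ 48 := by
  have h := Nat.card_le_card_of_injective
    (fun c : ↥(Subgroup.centralizer ({x0'} : Set ↥H0)) => (⟨Phi c, Phi_mem c⟩ : ↥T48))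
    (by
      intro c c' h
      exact Phi_inj (congrArg Subtype.val h))
  have h2 : Nat.card ↥T48 = 48 := by
    rw [Nat.card_eq_fintype_card, Fintype.card_coe, T48_card]
  rw [h2] at h
  exact h

theorem card_GL23 : Nat.card (GL (Fin 2) (ZMod 3)) = 48 := by
  rw [Matrix.card_GL_field, ZMod.card, Fin.prod_univ_two]
  rfl

theorem base_iso : Nonempty (↥(Subgroup.centralizer ({x0'} : Set ↥H0)) ≃* GL (Fin 2) (ZMod 3)) := by
  have : Finite ↥(Subgroup.centralizer ({x0'} : Set ↥H0)) := inferInstance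
  have hb : Function.Bijective F :=
    F_inj.bijective_of_nat_card_le (by rw [card_GL23]; exact card_cent_le)
  exact ⟨(MulEquiv.ofBijective F hb).symm⟩

end Cfsg.Agent.helper28.GL23
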