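import Mathlib
set_option autoImplicit false

/-! Sharply 4-transitive groups of degree 11 and sharply 5-transitive groups of degree 12 are
simple (of orders 7920 and 95040). -/

namespace Cfsg.Agent.helper28.Sharp

open MulAction

section General

variable {H β : Type*} [Group H] [MulAction H β]

/-- a sharply `k`-transitive group of degree `n` has order `n (n-1) ⋯ (n-k+1)` -/
lemma card_of_sharp [Finite β] (k : ℕ) [IsMultiplyPretransitive H β k] (hk : k ≤ Nat.card β)
    (hsharp : ∀ x : Fin k ↪ β, stabilizer H x = ⊥) :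
    Nat.card H = (Nat.card β).descFactorial k := by
  classical
  have := Fintype.ofFinite β
  have hne : Nonempty (Fin k ↪ β) := by
    apply Function.Embedding.nonempty_of_card_le
    rw [Fintype.card_fin, ← Nat.card_eq_fintype_card]; exact hk
  obtain ⟨x₀⟩ := hne
  have hbij : Function.Bijective (fun g : H => g • x₀) := by
    constructor
    · intro g g' hgg
      have hgg' : g • x₀ = g' • x₀ := hgg
      have : g'⁻¹ * g ∈ stabilizer H x₀ := by
        rw [mem_stabilizer_iff, mul_smul, hgg', inv_smul_smul]
      rw [hsharp, Subgroup.mem_bot] at this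
      exact (inv_mul_eq_one.1 this).symm
    · intro y
      exact exists_smul_eq H x₀ y
  rw [Nat.card_eq_of_bijective _ hbij, Nat.card_eq_fintype_card, Fintype.card_embedding_eq,
    Fintype.card_fin, Nat.card_eq_fintype_card]

lemma finite_of_faithful [Finite β] [FaithfulSMul H β] : Finite H :=
  Finite.of_injective (MulAction.toPerm : H → Equiv.Perm β) MulAction.toPerm_injective

lemma exists_moved [FaithfulSMul H β] {g : H} (hg : g ≠ 1) : ∃ b : β, g • b ≠ b := by
  by_contra hcon
  push Not at hcon
  exact hg (eq_of_smul_eq_smul (α := β) (fun a => by rw [hcon a, one_smul]))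

lemma card_subgroupOf (A B : Subgroup H) :
    Nat.card (A.subgroupOf B) = Nat.card (A ⊓ B : Subgroup H) := by
  rw [← Subgroup.inf_subgroupOf_right]
  exact Nat.card_congr (Subgroup.subgroupOfEquivOfLe inf_le_right).toEquiv

lemma stabilizer_subgroup (N : Subgroup H) (a : β) :
    stabilizer N a = (stabilizer H a).subgroupOf N := by
  ext n
  rw [mem_stabilizer_iff, Subgroup.mem_subgroupOf, mem_stabilizer_iff]
  rfl

/-- a normal subgroup acting nontrivially in a 2-transitive action is transitive -/
lemma pretransitive_of_normal [FaithfulSMul H β] [IsMultiplyPretransitive H β 2]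
    (N : Subgroup H) [N.Normal] (hN : N ≠ ⊥) : IsPretransitive N β := by
  have : IsPreprimitive H β := isPreprimitive_of_is_two_pretransitive inferInstance
  apply IsQuasiPreprimitive.isPretransitive_of_normal
  intro hcon
  apply hN
  rw [Subgroup.eq_bot_iff_forall]
  intro n hn
  apply eq_of_smul_eq_smul (α := β)
  intro b
  have hb : b ∈ fixedPoints N β := by rw [hcon]; trivial
  rw [one_smul]
  exact hb ⟨n, hn⟩

end General

section Eleven

variable {H β : Type*} [Group H] [MulAction H β] [Finite β] [FaithfulSMul H β]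

/-- in a faithful group of degree 11 and order 7920 the normaliser of a subgroup of order 11
has order 55 -/
lemma card_normalizer_eleven (hβ : Nat.card β = 11) (hH : Nat.card H = 7920) (P : Subgroup H)
    (hP : Nat.card P = 11) : Nat.card (Subgroup.normalizer (P : Set H)) = 55 := by
  have : Finite H := finite_of_faithful (β := β)
  have : Fact (Nat.Prime 11) := ⟨by norm_num⟩
  -- `P` is transitive
  have hPne : ∃ x ∈ P, x ≠ 1 := by
    by_contra hcon
    push Not at hcon
    have : P = ⊥ := (Subgroup.eq_bot_iff_forall _).2 hcon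
    rw [this, Subgroup.card_bot] at hP
    omega
  obtain ⟨x, hxP, hx1⟩ := hPne
  obtain ⟨b, hb⟩ := exists_moved (β := β) hx1
  have horb : orbit P b = Set.univ := by
    have h1 : (stabilizer P b).index = (orbit P b).ncard := index_stabilizer P b
    have h2 : (stabilizer P b).index ∣ 11 := hP ▸ Subgroup.index_dvd_card _
    have h3 : (orbit P b).ncard ≠ 1 := by
      intro h1'
      rw [Set.ncard_eq_one] at h1'
      obtain ⟨c, hc⟩ := h1'
      have e1 : b ∈ orbit P b := mem_orbit_self b
      have e2 : x • b ∈ orbit P b := ⟨⟨x, hxP⟩, rfl⟩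
      rw [hc, Set.mem_singleton_iff] at e1 e2
      exact hb (e2.trans e1.symm)
    have h4 : (orbit P b).ncard = 11 := by
      rw [← h1] at h3 ⊢
      rcases (Nat.dvd_prime (by norm_num)).1 h2 with h | h
      · exact absurd h h3
      · exact h
    rw [Set.eq_univ_iff_ncard, h4, hβ]
  have hall : ∀ c : β, ∃ y ∈ P, y • b = c := by
    intro c
    have hc : c ∈ orbit P b := by rw [horb]; trivial
    obtain ⟨y, hy⟩ := hc
    exact ⟨y.1, y.2, hy⟩
  -- `P` is abelian
  have : IsCyclic P := isCyclic_of_prime_card hP
  have hcomm : ∀ p ∈ P, ∀ y ∈ P, p * y = y * p := by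
    intro p hp y hy
    have := (IsCyclic.commGroup (α := P)).mul_comm ⟨p, hp⟩ ⟨y, hy⟩
    exact congrArg Subtype.val this
  -- the centraliser of `P` is `P`
  have hCP : Subgroup.centralizer (P : Set H) = P := by
    apply le_antisymm
    · intro c hc
      rw [Subgroup.mem_centralizer_iff] at hc
      obtain ⟨y, hyP, hy⟩ := hall (c • b)
      have : c = y := by
        apply eq_of_smul_eq_smul (α := β)
        intro d
        obtain ⟨p, hpP, rfl⟩ := hall d
        rw [← mul_smul, ← mul_smul, ← hc p hpP, mul_smul, ← hy, ← mul_smul,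
          hcomm p hpP y hyP]
      rw [this]; exact hyP
    · intro y hy
      rw [Subgroup.mem_centralizer_iff]
      intro p hp
      exact hcomm p hp y hy
  -- N/C
  have hker : Nat.card P.normalizerMonoidHom.ker = 11 := by
    rw [Subgroup.normalizerMonoidHom_ker, card_subgroupOf,
      inf_of_le_left (Subgroup.centralizer_le_normalizer _), hCP, hP]
  have hrange : Nat.card P.normalizerMonoidHom.range ∣ 10 := by
    have h1 := Subgroup.card_subgroup_dvd_card P.normalizerMonoidHom.range
    have h2 : Nat.card (MulAut P) = 10 := by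
      rw [IsCyclic.card_mulAut, hP]
      decide
    rwa [h2] at h1
  have hN : Nat.card (Subgroup.normalizer (P : Set H)) =
      Nat.card P.normalizerMonoidHom.range * 11 := by
    rw [← Subgroup.index_mul_card P.normalizerMonoidHom.ker, Subgroup.index_ker, hker]
  -- Sylow counting
  obtain ⟨S, hPS⟩ := (IsPGroup.of_card (n := 1) (by rw [hP, pow_one])).exists_le_sylow
    (P := P)
  have hS11 : Nat.card S = 11 := by
    obtain ⟨n, hn⟩ := IsPGroup.iff_card.mp S.isPGroup'
    have h1 : 11 ∣ Nat.card S := S.dvd_card_of_dvd_card (by rw [hH]; norm_num)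
    have h2 : Nat.card S ∣ 7920 := hH ▸ Subgroup.card_subgroup_dvd_card (S : Subgroup H)
    rw [hn] at h1 h2 ⊢
    have hn1 : n ≠ 0 := by
      rintro rfl
      norm_num at h1
    have hn2 : n < 2 := by
      by_contra hcon
      push Not at hcon
      have : 11 ^ 2 ∣ 7920 := (pow_dvd_pow 11 hcon).trans h2
      norm_num at this
    have : n = 1 := by omega
    rw [this, pow_one]
  have hSP : P = (S : Subgroup H) :=
    Subgroup.eq_of_le_of_card_ge hPS (by rw [hS11, hP])
  have hmod := card_sylow_modEq_one 11 H
  have hSset : (S : Set H) = (P : Set H) := by rw [hSP]; rfl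
  rw [Sylow.card_eq_index_normalizer S, hSset] at hmod
  have hidx := Subgroup.index_mul_card (Subgroup.normalizer (P : Set H))
  rw [hH, hN] at hidx
  rw [hN]
  set d := Nat.card P.normalizerMonoidHom.range with hd
  set idx := (Subgroup.normalizer (P : Set H)).index with hidx'
  have hd10 : d ≤ 10 := Nat.le_of_dvd (by norm_num) hrange
  unfold Nat.ModEq at hmod
  interval_cases d <;> omega

/-- a sharply 4-transitive group of degree 11 is simple of order 7920 -/
theorem simple11 (hβ : Nat.card β = 11) [IsMultiplyPretransitive H β 4]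
    (hsharp : ∀ x : Fin 4 ↪ β, stabilizer H x = ⊥) :
    IsSimpleGroup H ∧ Nat.card H = 7920 := by
  have hH : Nat.card H = 7920 := by
    rw [card_of_sharp 4 (by omega) hsharp, hβ]
    rfl
  refine ⟨?_, hH⟩
  have : Finite H := finite_of_faithful (β := β)
  have : Fact (Nat.Prime 11) := ⟨by norm_num⟩
  have : Nontrivial H := by
    rw [← Finite.one_lt_card_iff_nontrivial, hH]; norm_num
  have h3t : IsMultiplyPretransitive H β 3 :=
    isMultiplyPretransitive_of_le (n := 4) (by norm_num) (by rw [hβ]; norm_num)
  have h2t : IsMultiplyPretransitive H β 2 :=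
    isMultiplyPretransitive_of_le (n := 4) (by norm_num) (by rw [hβ]; norm_num)
  have h1t : IsPretransitive H β := isPretransitive_of_is_two_pretransitive
  refine { toNontrivial := inferInstance, eq_bot_or_eq_top_of_normal := ?_ }
  intro N hNn
  by_cases hNb : N = ⊥
  · exact Or.inl hNb
  right
  have := hNn
  have hNt : IsPretransitive N β := pretransitive_of_normal N hNb
  obtain ⟨a⟩ : Nonempty β := (Nat.card_pos_iff.1 (by rw [hβ]; norm_num)).1
  have hNidx : (stabilizer N a).index = 11 := by
    rw [index_stabilizer_of_transitive N a, hβ]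
  have h11N : 11 ∣ Nat.card N := hNidx ▸ Subgroup.index_dvd_card _
  -- a Sylow 11-subgroup of N
  obtain ⟨Q⟩ : Nonempty (Sylow 11 N) := inferInstance
  have hNdvd : Nat.card N ∣ 7920 := hH ▸ Subgroup.card_subgroup_dvd_card N
  have hQ11 : Nat.card Q = 11 := by
    obtain ⟨n, hn⟩ := IsPGroup.iff_card.mp Q.isPGroup'
    have h1 : 11 ∣ Nat.card Q := Q.dvd_card_of_dvd_card h11N
    have h2 : Nat.card Q ∣ 7920 := (Subgroup.card_subgroup_dvd_card (Q : Subgroup N)).trans hNdvd
    rw [hn] at h1 h2 ⊢
    have hn1 : n ≠ 0 := by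
      rintro rfl
      norm_num at h1
    have hn2 : n < 2 := by
      by_contra hcon
      push Not at hcon
      have : 11 ^ 2 ∣ 7920 := (pow_dvd_pow 11 hcon).trans h2
      norm_num at this
    have : n = 1 := by omega
    rw [this, pow_one]
  have hP11 : Nat.card ((Q : Subgroup N).map N.subtype) = 11 := by
    rw [Subgroup.card_map_of_injective N.subtype_injective, hQ11]
  have hfr := Sylow.normalizer_sup_eq_top Q
  have h55 := card_normalizer_eleven hβ hH _ hP11
  have hidx : N.index ∣ 55 := by
    have h1 := Subgroup.relIndex_sup_right (K := N)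
      (H := Subgroup.normalizer (((Q : Subgroup N).map N.subtype : Subgroup H) : Set H))
    rw [hfr, Subgroup.relIndex_top_right] at h1
    rw [h1, ← h55]
    exact Subgroup.relIndex_dvd_card _ _
  have hmul := Subgroup.index_mul_card N
  rw [hH] at hmul
  have hcases : N.index = 1 ∨ N.index = 5 := by
    obtain ⟨m, hm⟩ := h11N
    have hle : N.index ≤ 55 := Nat.le_of_dvd (by norm_num) hidx
    have h55' : N.index = 1 ∨ N.index = 5 ∨ N.index = 11 ∨ N.index = 55 := by
      have : N.index ∈ Nat.divisors 55 := Nat.mem_divisors.2 ⟨hidx, by norm_num⟩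
      have hd : Nat.divisors 55 = {1, 5, 11, 55} := by decide
      rw [hd] at this
      simpa using this
    rw [hm] at hmul
    rcases h55' with h | h | h | h
    · exact Or.inl h
    · exact Or.inr h
    · rw [h] at hmul; omega
    · rw [h] at hmul; omega
  rcases hcases with h1 | h5
  · exact Subgroup.index_eq_one.1 h1
  exfalso
  have hN1584 : Nat.card N = 1584 := by rw [h5] at hmul; omega
  have hstab : Nat.card (stabilizer N a) = 144 := by
    have := Subgroup.index_mul_card (stabilizer N a)
    rw [hNidx, hN1584] at this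
    omega
  -- the normal subgroup `K` of the point stabiliser
  have hK : Nat.card (N.subgroupOf (stabilizer H a)) = 144 := by
    rw [card_subgroupOf, inf_comm, ← card_subgroupOf, ← stabilizer_subgroup, hstab]
  have : (N.subgroupOf (stabilizer H a)).Normal := Subgroup.Normal.subgroupOf hNn _
  have h3' : IsMultiplyPretransitive (stabilizer H a) (SubMulAction.ofStabilizer H a) 3 :=
    (SubMulAction.ofStabilizer.isMultiplyPretransitive (G := H) (α := β) (n := 3) (a := a)).1
      inferInstance
  have hΩ : Nat.card (SubMulAction.ofStabilizer H a) = 10 := by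
    rw [SubMulAction.nat_card_ofStabilizer_eq, hβ]
  have : Finite (SubMulAction.ofStabilizer H a) := Nat.finite_of_card_ne_zero (by rw [hΩ]; norm_num)
  have h2' : IsMultiplyPretransitive (stabilizer H a) (SubMulAction.ofStabilizer H a) 2 :=
    isMultiplyPretransitive_of_le (n := 3) (by norm_num) (by rw [hΩ]; norm_num)
  have : IsPreprimitive (stabilizer H a) (SubMulAction.ofStabilizer H a) :=
    isPreprimitive_of_is_two_pretransitive h2'
  -- `K` moves a point
  have hKne : ∃ k ∈ N.subgroupOf (stabilizer H a), k ≠ 1 := by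
    by_contra hcon
    push Not at hcon
    have : N.subgroupOf (stabilizer H a) = ⊥ := (Subgroup.eq_bot_iff_forall _).2 hcon
    rw [this, Subgroup.card_bot] at hK
    omega
  obtain ⟨k, hkK, hk1⟩ := hKne
  have hk1' : (k : H) ≠ 1 := fun hh => hk1 (Subtype.ext hh)
  obtain ⟨b, hb⟩ := exists_moved (β := β) hk1'
  have hba : b ≠ a := by
    rintro rfl
    exact hb k.2
  have hfix : fixedPoints (N.subgroupOf (stabilizer H a)) (SubMulAction.ofStabilizer H a)
      ≠ Set.univ := by
    intro hcon
    have hmem : (⟨b, (SubMulAction.mem_ofStabilizer_iff H a).2 hba⟩ :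
        SubMulAction.ofStabilizer H a) ∈
        fixedPoints (N.subgroupOf (stabilizer H a)) (SubMulAction.ofStabilizer H a) := by
      rw [hcon]; trivial
    have := hmem ⟨k, hkK⟩
    exact hb (congrArg Subtype.val this)
  have hKt : IsPretransitive (N.subgroupOf (stabilizer H a)) (SubMulAction.ofStabilizer H a) :=
    IsQuasiPreprimitive.isPretransitive_of_normal hfix
  have hKidx := index_stabilizer_of_transitive (N.subgroupOf (stabilizer H a))
    (⟨b, (SubMulAction.mem_ofStabilizer_iff H a).2 hba⟩ : SubMulAction.ofStabilizer H a)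
  have h10 : 10 ∣ 144 := by
    rw [← hK, ← hΩ, ← hKidx]
    exact Subgroup.index_dvd_card _
  omega

end Eleven

section Twelve

variable {H β : Type*} [Group H] [MulAction H β] [Finite β] [FaithfulSMul H β]

/-- a sharply 5-transitive group of degree 12 is simple of order 95040 -/
theorem simple12 (hβ : Nat.card β = 12) [IsMultiplyPretransitive H β 5]
    (hsharp : ∀ x : Fin 5 ↪ β, stabilizer H x = ⊥) :
    IsSimpleGroup H ∧ Nat.card H = 95040 := by
  have hH : Nat.card H = 95040 := by
    rw [card_of_sharp 5 (by omega) hsharp, hβ]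
    rfl
  refine ⟨?_, hH⟩
  have : Finite H := finite_of_faithful (β := β)
  have : Nontrivial H := by
    rw [← Finite.one_lt_card_iff_nontrivial, hH]; norm_num
  have h2t : IsMultiplyPretransitive H β 2 :=
    isMultiplyPretransitive_of_le (n := 5) (by norm_num) (by rw [hβ]; norm_num)
  have h1t : IsPretransitive H β := isPretransitive_of_is_two_pretransitive
  refine { toNontrivial := inferInstance, eq_bot_or_eq_top_of_normal := ?_ }
  intro N hNn
  by_cases hNb : N = ⊥
  · exact Or.inl hNb
  right
  have := hNn
  have hNt : IsPretransitive N β := pretransitive_of_normal N hNb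
  obtain ⟨a⟩ : Nonempty β := (Nat.card_pos_iff.1 (by rw [hβ]; norm_num)).1
  -- the point stabiliser is sharply 4-transitive of degree 11
  have h4' : IsMultiplyPretransitive (stabilizer H a) (SubMulAction.ofStabilizer H a) 4 :=
    (SubMulAction.ofStabilizer.isMultiplyPretransitive (G := H) (α := β) (n := 4) (a := a)).1
      inferInstance
  have hΩ : Nat.card (SubMulAction.ofStabilizer H a) = 11 := by
    rw [SubMulAction.nat_card_ofStabilizer_eq, hβ]
  have : Finite (SubMulAction.ofStabilizer H a) :=
    Nat.finite_of_card_ne_zero (by rw [hΩ]; norm_num)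
  have hfaith : FaithfulSMul (stabilizer H a) (SubMulAction.ofStabilizer H a) := by
    refine ⟨fun {g g'} hgg => ?_⟩
    apply Subtype.ext
    apply eq_of_smul_eq_smul (α := β)
    intro b
    by_cases hb : b = a
    · rw [hb, mem_stabilizer_iff.1 g.2, mem_stabilizer_iff.1 g'.2]
    · have := hgg ⟨b, (SubMulAction.mem_ofStabilizer_iff H a).2 hb⟩
      exact congrArg Subtype.val this
  have hsharp' : ∀ x : Fin 4 ↪ SubMulAction.ofStabilizer H a,
      stabilizer (stabilizer H a) x = ⊥ := by
    intro x
    rw [Subgroup.eq_bot_iff_forall]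
    intro g hg
    have hmem : (g : H) ∈ stabilizer H (SubMulAction.ofStabilizer.snoc x) := by
      rw [mem_stabilizer_iff]
      ext i
      rcases Fin.eq_castSucc_or_eq_last i with ⟨j, rfl⟩ | rfl
      · rw [Function.Embedding.smul_apply, SubMulAction.ofStabilizer.snoc_castSucc]
        have := congrArg (fun y : Fin 4 ↪ SubMulAction.ofStabilizer H a => ((y j : SubMulAction.ofStabilizer H a) : β))
          (mem_stabilizer_iff.1 hg)
        exact this
      · rw [Function.Embedding.smul_apply, SubMulAction.ofStabilizer.snoc_last]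
        exact mem_stabilizer_iff.1 g.2
    rw [hsharp, Subgroup.mem_bot] at hmem
    exact Subtype.ext hmem
  have hsimple := (simple11 (H := stabilizer H a) (β := SubMulAction.ofStabilizer H a) hΩ hsharp').1
  have hKn : (N.subgroupOf (stabilizer H a)).Normal := hNn.subgroupOf _
  rcases hsimple.eq_bot_or_eq_top_of_normal _ hKn with hK | hK
  · -- a regular normal subgroup of order divisible by 12: impossible
    exfalso
    have hreg : ∀ n ∈ N, n • a = a → n = 1 := by
      intro n hn hna
      have hmem : (⟨n, hna⟩ : stabilizer H a) ∈ N.subgroupOf (stabilizer H a) :=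
        Subgroup.mem_subgroupOf.2 hn
      rw [hK, Subgroup.mem_bot] at hmem
      exact congrArg Subtype.val hmem
    have hconj : ∀ n₁ ∈ N, ∀ n₂ ∈ N, n₁ ≠ 1 → n₂ ≠ 1 → orderOf n₁ = orderOf n₂ := by
      intro n₁ h₁ n₂ h₂ hne₁ hne₂
      have hb₁ : n₁ • a ≠ a := fun hh => hne₁ (hreg n₁ h₁ hh)
      have hb₂ : n₂ • a ≠ a := fun hh => hne₂ (hreg n₂ h₂ hh)
      obtain ⟨g, hga, hgb⟩ := is_two_pretransitive_iff.1 h2t (Ne.symm hb₁) (Ne.symm hb₂)
      have e1 : g⁻¹ • a = a := by rw [inv_smul_eq_iff, hga]
      have h1 : n₂⁻¹ * (g * n₁ * g⁻¹) = 1 := by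
        apply hreg _ (N.mul_mem (N.inv_mem h₂) (hNn.conj_mem n₁ h₁ g))
        rw [mul_smul, mul_smul, mul_smul, e1, hgb, inv_smul_smul]
      have h2 : n₂ = g * n₁ * g⁻¹ := inv_mul_eq_one.1 h1
      rw [h2]
      exact (SemiconjBy.conj_mk g n₁).orderOf_eq
    have h12 : 12 ∣ Nat.card N := by
      have := index_stabilizer_of_transitive N a
      rw [hβ] at this
      rw [← this]; exact Subgroup.index_dvd_card _
    have : Finite N := inferInstance
    haveI : Fact (Nat.Prime 2) := ⟨Nat.prime_two⟩
    haveI : Fact (Nat.Prime 3) := ⟨Nat.prime_three⟩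
    obtain ⟨x, hx⟩ := exists_prime_orderOf_dvd_card' (G := N) 2 (Dvd.dvd.trans (by norm_num) h12)
    obtain ⟨y, hy⟩ := exists_prime_orderOf_dvd_card' (G := N) 3 (Dvd.dvd.trans (by norm_num) h12)
    have hx1 : (x : H) ≠ 1 := by
      intro hh
      rw [← Subgroup.orderOf_coe, hh, orderOf_one] at hx
      omega
    have hy1 : (y : H) ≠ 1 := by
      intro hh
      rw [← Subgroup.orderOf_coe, hh, orderOf_one] at hy
      omega
    have := hconj x x.2 y y.2 hx1 hy1
    rw [Subgroup.orderOf_coe, Subgroup.orderOf_coe, hx, hy] at this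
    omega
  · -- the point stabiliser lies in `N`, and `N` is transitive
    rw [Subgroup.eq_top_iff']
    intro g
    obtain ⟨n, hn⟩ := exists_smul_eq N a (g • a)
    have hn' : (n : H) • a = g • a := hn
    have hst : (n : H)⁻¹ * g ∈ stabilizer H a := by
      rw [mem_stabilizer_iff, mul_smul, ← hn', inv_smul_smul]
    have hmem : (⟨(n : H)⁻¹ * g, hst⟩ : stabilizer H a) ∈ N.subgroupOf (stabilizer H a) := by
      rw [hK]; trivial
    rw [Subgroup.mem_subgroupOf] at hmem
    have := N.mul_mem n.2 hmem
    rwa [mul_inv_cancel_left] at this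

end Twelve

end Cfsg.Agent.helper28.Sharp
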