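import Mathlib
import Cfsg.Agent.Lib_helper28_AGL23Cert
import Cfsg.Agent.Lib_helper28_GL23
import Cfsg.Agent.Lib_helper28_Sharp
import Cfsg.Agent.Lib_helper2_Elt

set_option autoImplicit false

/-! The stabiliser of a quartet in `M12` is `3^2 : GL(2,3)`. -/

namespace Cfsg.Agent.helper28.AGL23

open Cfsg MulAction Cfsg.Agent.helper2.Golay
open scoped Pointwise

/-! ### orders -/

theorem card_inf_stab {G α β : Type*} [Group G] [MulAction G α] [MulAction G β]
    (a : α) (b : β) :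
    (orbit ↥(stabilizer G a) b).ncard * Nat.card ↥(stabilizer G a ⊓ stabilizer G b) =
      Nat.card ↥(stabilizer G a) := by
  have h1 := MulAction.index_stabilizer ↥(stabilizer G a) b
  have h2 := Subgroup.index_mul_card (stabilizer ↥(stabilizer G a) b)
  rw [h1, Sharp.stabilizer_subgroup, Sharp.card_subgroupOf, inf_comm] at h2
  exact h2

theorem orbit_quartet {d : Finset GolayPt} (hd : d ∈ dodecads) {Q : Finset (Finset GolayPt)}
    (hQ : Q ∈ quartets d) : orbit ↥(stabilizer ↥M24 d) Q = quartets d := by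
  ext Q'
  constructor
  · rintro ⟨k, rfl⟩
    have h := smul_mem_quartets (k : ↥M24).2 hQ
    have hk : ((k : ↥M24) : Equiv.Perm GolayPt) • d = d := k.2
    rw [hk] at h
    exact h
  · intro hQ'
    obtain ⟨g, hg, hgd, hgQ⟩ := quartet_trans hd hd hQ hQ'
    exact ⟨⟨⟨g, hg⟩, hgd⟩, hgQ⟩

theorem card_stab_quartet {d : Finset GolayPt} (hd : d ∈ dodecads) {Q : Finset (Finset GolayPt)}
    (hQ : Q ∈ quartets d) : Nat.card ↥(stabilizer ↥M24 d ⊓ stabilizer ↥M24 Q) = 432 := by
  have h := card_inf_stab (G := ↥M24) d Q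
  rw [orbit_quartet hd hQ, ncard_quartets hd, card_stab_dodecad hd] at h
  omega

/-! ### the base group -/

/-- the base quartet stabiliser -/
abbrev G0 : Subgroup ↥M24 := stabilizer ↥M24 (pts d0m) ⊓ stabilizer ↥M24 (famFin Q0L)

theorem mem_G0_iff (k : ↥M24) : k ∈ G0 ↔ (k : Equiv.Perm GolayPt) • pts d0m = pts d0m ∧
    (k : Equiv.Perm GolayPt) • famFin Q0L = famFin Q0L := Iff.rfl

theorem good_spec {d : List ℕ × List ℕ} (h : good d = true) : tablesOK d.1 d.2 = true ∧
    gperm d ∈ M24 ∧ gperm d • pts d0m = pts d0m ∧ gperm d • famFin Q0L = famFin Q0L := by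
  unfold good at h
  simp only [Bool.and_eq_true, beq_iff_eq] at h
  obtain ⟨⟨⟨h1, h2⟩, h3⟩, h4⟩ := h
  refine ⟨h1, gperm_mem h1 h2, ?_, ?_⟩
  · rw [gperm_smul_pts h1, h3]
  · rw [gperm_smul_famFin h1]
    exact famFin_eq_of_sameSet h4

/-- package a good table pair as an element of the base group -/
noncomputable def mk0 (d : List ℕ × List ℕ) (h : good d = true) : ↥G0 :=
  ⟨⟨gperm d, (good_spec h).2.1⟩, (mem_G0_iff _).2 ⟨(good_spec h).2.2.1, (good_spec h).2.2.2⟩⟩

theorem mk0_val (d : List ℕ × List ℕ) (h : good d = true) :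
    (((mk0 d h : ↥G0) : ↥M24) : Equiv.Perm GolayPt) = gperm d := rfl

theorem G0_ext {k k' : ↥G0}
    (h : (((k : ↥G0) : ↥M24) : Equiv.Perm GolayPt) = (((k' : ↥G0) : ↥M24) : Equiv.Perm GolayPt)) :
    k = k' := by
  apply Subtype.ext
  apply Subtype.ext
  exact h

theorem mk0_mul {d e f : List ℕ × List ℕ} (hd : good d = true) (he : good e = true)
    (hf : good f = true) (h : f.1 = comp d.1 e.1) : mk0 f hf = mk0 d hd * mk0 e he := by
  apply G0_ext
  show gperm f = gperm d * gperm e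
  rw [← gperm_compD (good_spec hd).1 (good_spec he).1]
  exact gperm_eq_of_fst (good_spec hf).1 (tablesOK_compD (good_spec hd).1 (good_spec he).1) h

theorem mk0_tb {d e : List ℕ × List ℕ} (hd : good d = true) (he : good e = true)
    (h : mk0 d hd = mk0 e he) : ∀ k < 24, tb d.1 k = tb e.1 k := by
  intro k hk
  have h2 := congrArg (fun g : ↥G0 => idx ((((g : ↥G0) : ↥M24) : Equiv.Perm GolayPt) (pt k))) h
  simp only [mk0_val] at h2
  rw [gperm_pt (good_spec hd).1 hk, gperm_pt (good_spec he).1 hk,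
    idx_pt _ (tablesOK_spec (good_spec hd).1 k hk).1,
    idx_pt _ (tablesOK_spec (good_spec he).1 k hk).1] at h2
  exact h2

/-- the copy of `GL(2,3)` -/
noncomputable def fK : GL (Fin 2) (ZMod 3) →* ↥G0 :=
  MonoidHom.mk' (fun A => mk0 (T2 ((A : Matrix (Fin 2) (Fin 2) (ZMod 3)) 0 0)
      ((A : Matrix (Fin 2) (Fin 2) (ZMod 3)) 0 1) ((A : Matrix (Fin 2) (Fin 2) (ZMod 3)) 1 0)
      ((A : Matrix (Fin 2) (Fin 2) (ZMod 3)) 1 1)) (T2_ok _ _ _ _)) (by
    intro A B
    apply mk0_mul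
    have h := mul2_ok _ _ _ _ _ _ _ _ (GL23.det_ne A) (GL23.det_ne B)
    rw [← h, Matrix.GeneralLinearGroup.coe_mul]
    simp only [Matrix.mul_apply, Fin.sum_univ_two])

theorem fK_apply (A : GL (Fin 2) (ZMod 3)) : fK A =
    mk0 (T2 ((A : Matrix (Fin 2) (Fin 2) (ZMod 3)) 0 0)
      ((A : Matrix (Fin 2) (Fin 2) (ZMod 3)) 0 1) ((A : Matrix (Fin 2) (Fin 2) (ZMod 3)) 1 0)
      ((A : Matrix (Fin 2) (Fin 2) (ZMod 3)) 1 1)) (T2_ok _ _ _ _) := rfl

/-- the translations -/
noncomputable def fN : Multiplicative (ZMod 3 × ZMod 3) →* ↥G0 :=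
  MonoidHom.mk' (fun v => mk0 (nT (Multiplicative.toAdd v).1 (Multiplicative.toAdd v).2)
      (nT_ok _ _)) (by
    intro v w
    apply mk0_mul
    exact nmul_ok _ _ _ _)

theorem fN_apply (v : Multiplicative (ZMod 3 × ZMod 3)) : fN v =
    mk0 (nT (Multiplicative.toAdd v).1 (Multiplicative.toAdd v).2) (nT_ok _ _) := rfl

/-- the action of a matrix on a vector -/
def act (A : GL (Fin 2) (ZMod 3)) (v : Multiplicative (ZMod 3 × ZMod 3)) :
    Multiplicative (ZMod 3 × ZMod 3) :=
  Multiplicative.ofAdd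
    ((A : Matrix (Fin 2) (Fin 2) (ZMod 3)) 0 0 * (Multiplicative.toAdd v).1 +
      (A : Matrix (Fin 2) (Fin 2) (ZMod 3)) 0 1 * (Multiplicative.toAdd v).2,
     (A : Matrix (Fin 2) (Fin 2) (ZMod 3)) 1 0 * (Multiplicative.toAdd v).1 +
      (A : Matrix (Fin 2) (Fin 2) (ZMod 3)) 1 1 * (Multiplicative.toAdd v).2)

theorem conj_rel (A : GL (Fin 2) (ZMod 3)) (v : Multiplicative (ZMod 3 × ZMod 3)) :
    fK A * fN v = fN (act A v) * fK A := by
  apply G0_ext
  rw [fK_apply, fN_apply, fN_apply]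
  show gperm _ * gperm _ = gperm _ * gperm _
  rw [← gperm_compD (good_spec (T2_ok _ _ _ _)).1 (good_spec (nT_ok _ _)).1,
    ← gperm_compD (good_spec (nT_ok _ _)).1 (good_spec (T2_ok _ _ _ _)).1]
  apply gperm_eq_of_fst
    (tablesOK_compD (good_spec (T2_ok _ _ _ _)).1 (good_spec (nT_ok _ _)).1)
    (tablesOK_compD (good_spec (nT_ok _ _)).1 (good_spec (T2_ok _ _ _ _)).1)
  exact conj_ok _ _ _ _ (GL23.det_ne A) _ _

theorem disj {A : GL (Fin 2) (ZMod 3)} {v : Multiplicative (ZMod 3 × ZMod 3)}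
    (h : fN v = fK A) : v = 1 ∧ A = 1 := by
  rw [fK_apply, fN_apply] at h
  obtain ⟨h1, h2, h00, h01, h10, h11⟩ :=
    disj_ok _ _ _ _ (GL23.det_ne A) _ _ (mk0_tb _ _ h)
  constructor
  · apply Multiplicative.toAdd.injective
    exact Prod.ext h1 h2
  · apply Units.ext
    ext i j
    fin_cases i <;> fin_cases j
    · simpa using h00
    · simpa using h01
    · simpa using h10
    · simpa using h11

theorem fK_inj : Function.Injective fK := by
  rw [injective_iff_map_eq_one]
  intro A hA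
  have h : fN 1 = fK A := by rw [map_one, hA]
  exact (disj h).2

theorem fN_inj : Function.Injective fN := by
  rw [injective_iff_map_eq_one]
  intro v hv
  have h : fN v = fK 1 := by rw [map_one, hv]
  exact (disj h).1

theorem card_G0 : Nat.card ↥G0 = 432 := card_stab_quartet d0_mem Q0_mem

/-- every element of the base group is a translation times a matrix -/
theorem G0_factor (g : ↥G0) : ∃ v A, g = fN v * fK A := by
  have hinj : Function.Injective
      (fun p : Multiplicative (ZMod 3 × ZMod 3) × GL (Fin 2) (ZMod 3) => fN p.1 * fK p.2) := by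
    rintro ⟨v, A⟩ ⟨w, B⟩ h
    have h1 : fN (w⁻¹ * v) = fK (B * A⁻¹) := by
      rw [map_mul, map_mul, map_inv, map_inv]
      have h2 : fN v * fK A = fN w * fK B := h
      rw [eq_mul_inv_iff_mul_eq, mul_assoc, h2, ← mul_assoc, inv_mul_cancel, one_mul]
    obtain ⟨h3, h4⟩ := disj h1
    rw [inv_mul_eq_one] at h3
    rw [mul_inv_eq_one] at h4
    rw [h3, h4]
  have : Finite ↥G0 := inferInstance
  have hcard : Nat.card ↥G0 ≤
      Nat.card (Multiplicative (ZMod 3 × ZMod 3) × GL (Fin 2) (ZMod 3)) := by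
    rw [card_G0, Nat.card_prod, GL23.card_GL23, Nat.card_eq_fintype_card,
      Fintype.card_multiplicative, Fintype.card_prod, ZMod.card]
  obtain ⟨⟨v, A⟩, h⟩ := (hinj.bijective_of_nat_card_le hcard).2 g
  exact ⟨v, A, h.symm⟩

/-- the translation subgroup -/
noncomputable def N0 : Subgroup ↥G0 := fN.range

theorem card_N0 : Nat.card ↥N0 = 9 := by
  unfold N0
  rw [← Nat.card_congr (MonoidHom.ofInjective fN_inj).toEquiv, Nat.card_eq_fintype_card,
    Fintype.card_multiplicative, Fintype.card_prod, ZMod.card]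

instance N0_normal : N0.Normal := by
  constructor
  rintro n ⟨w, rfl⟩ g
  obtain ⟨v, A, rfl⟩ := G0_factor g
  refine ⟨act A w, ?_⟩
  have h1 := conj_rel A w
  have hc : fN v * fN (act A w) = fN (act A w) * fN v := by
    rw [← map_mul, ← map_mul, mul_comm]
  calc fN (act A w) = fN v * fN (act A w) * (fN v)⁻¹ := by rw [hc, mul_inv_cancel_right]
    _ = fN v * (fN (act A w) * fK A) * (fK A)⁻¹ * (fN v)⁻¹ := by
        rw [mul_assoc (fN v) (fN (act A w) * fK A), mul_inv_cancel_right]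
    _ = fN v * fK A * fN w * (fN v * fK A)⁻¹ := by
        rw [← h1, mul_inv_rev]
        group

theorem base_quot : Nonempty (↥G0 ⧸ N0 ≃* GL (Fin 2) (ZMod 3)) := by
  have hinj : Function.Injective ((QuotientGroup.mk' N0).comp fK) := by
    rw [injective_iff_map_eq_one]
    intro A hA
    rw [MonoidHom.comp_apply, QuotientGroup.mk'_apply, QuotientGroup.eq_one_iff] at hA
    obtain ⟨v, hv⟩ := hA
    exact (disj hv).2
  have hcard : Nat.card (↥G0 ⧸ N0) = 48 := by
    have h := Subgroup.card_eq_card_quotient_mul_card_subgroup N0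
    rw [card_G0, card_N0] at h
    omega
  have : Finite (↥G0 ⧸ N0) := inferInstance
  have hb : Function.Bijective ((QuotientGroup.mk' N0).comp fK) :=
    hinj.bijective_of_nat_card_le (by rw [hcard, GL23.card_GL23])
  exact ⟨(MulEquiv.ofBijective _ hb).symm⟩

/-! ### transitivity on the dodecad -/

theorem base_trans : ∀ q ∈ pts d0m, ∃ g : ↥G0,
    (((g : ↥G0) : ↥M24) : Equiv.Perm GolayPt) (pt 0) = q := by
  intro q hq
  rw [mem_pts] at hq
  have h := tr_all (idx q) (idx_lt q) hq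
  rw [List.any_eq_true] at h
  obtain ⟨e, he, hei⟩ := h
  rw [beq_iff_eq] at hei
  have h2 := List.all_eq_true.mp tr_ok e he
  simp only [Bool.and_eq_true, beq_iff_eq] at h2
  refine ⟨mk0 e.2 h2.1, ?_⟩
  rw [mk0_val, gperm_pt (good_spec h2.1).1 (by norm_num), h2.2, hei, pt_idx]

end Cfsg.Agent.helper28.AGL23
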