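import Mathlib
import Cfsg.Agent.Lib_helper28_AGL23

set_option autoImplicit false

/-! Transport of the structure of the base quartet stabiliser to an arbitrary one. -/

namespace Cfsg.Agent.helper28.AGL23

open Cfsg MulAction Cfsg.Agent.helper2.Golay
open scoped Pointwise

theorem perm_inv_self' (g : Equiv.Perm GolayPt) (u : GolayPt) : g⁻¹ (g u) = u :=
  Equiv.Perm.inv_eq_iff_eq.mpr rfl

theorem conjEquiv_symm_val {M : Type*} [Group M] (K K0 : Subgroup M) (m : M)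
    (hK : ∀ k, k ∈ K ↔ m * k * m⁻¹ ∈ K0) (k : K0) :
    (((GL23.conjEquiv K K0 m hK).symm k : K) : M) = m⁻¹ * k * m := rfl

theorem main {d : Finset GolayPt} (hd : d ∈ dodecads) {Q : Finset (Finset GolayPt)}
    (hQ : Q ∈ quartets d) :
    Nat.card ↥(stabilizer ↥M24 d ⊓ stabilizer ↥M24 Q) = 432 ∧
    (∃ (N : Subgroup ↥(stabilizer ↥M24 d ⊓ stabilizer ↥M24 Q)) (_ : N.Normal), Nat.card N = 9 ∧
      Nonempty (↥(stabilizer ↥M24 d ⊓ stabilizer ↥M24 Q) ⧸ N ≃* GL (Fin 2) (ZMod 3))) ∧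
    ∀ p ∈ d, ∀ q ∈ d, ∃ g ∈ (stabilizer ↥M24 d ⊓ stabilizer ↥M24 Q),
      ((g : ↥M24) : Equiv.Perm GolayPt) p = q := by
  obtain ⟨g, hg, hgd, hgQ⟩ := quartet_trans hd d0_mem hQ Q0_mem
  have hmemK : ∀ k : ↥M24, k ∈ stabilizer ↥M24 d ⊓ stabilizer ↥M24 Q ↔
      (k : Equiv.Perm GolayPt) • d = d ∧ (k : Equiv.Perm GolayPt) • Q = Q := fun k => Iff.rfl
  have hK : ∀ k : ↥M24, k ∈ stabilizer ↥M24 d ⊓ stabilizer ↥M24 Q ↔
      (⟨g, hg⟩ : ↥M24) * k * (⟨g, hg⟩ : ↥M24)⁻¹ ∈ G0 := by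
    intro k
    rw [hmemK, mem_G0_iff]
    show _ ↔ (g * (k : Equiv.Perm GolayPt) * g⁻¹) • pts d0m = pts d0m ∧
      (g * (k : Equiv.Perm GolayPt) * g⁻¹) • famFin Q0L = famFin Q0L
    rw [← hgd, ← hgQ, mul_smul, mul_smul, inv_smul_smul, smul_left_cancel_iff, mul_smul, mul_smul,
      inv_smul_smul, smul_left_cancel_iff]
  obtain ⟨e, he⟩ : ∃ e : ↥(stabilizer ↥M24 d ⊓ stabilizer ↥M24 Q) ≃* ↥G0,
      e = GL23.conjEquiv _ G0 (⟨g, hg⟩ : ↥M24) hK := ⟨_, rfl⟩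
  refine ⟨card_stab_quartet hd hQ, ?_, ?_⟩
  · have hn : (Subgroup.map (e.symm : ↥G0 →* ↥(stabilizer ↥M24 d ⊓ stabilizer ↥M24 Q)) N0).Normal :=
      N0_normal.map _ e.symm.surjective
    refine ⟨Subgroup.map (e.symm : ↥G0 →* ↥(stabilizer ↥M24 d ⊓ stabilizer ↥M24 Q)) N0, hn, ?_, ?_⟩
    · rw [Subgroup.card_map_of_injective e.symm.injective, card_N0]
    · obtain ⟨e0⟩ := base_quot
      have hmap : Subgroup.map (e : ↥(stabilizer ↥M24 d ⊓ stabilizer ↥M24 Q) →* ↥G0)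
          (Subgroup.map (e.symm : ↥G0 →* ↥(stabilizer ↥M24 d ⊓ stabilizer ↥M24 Q)) N0) = N0 := by
        rw [Subgroup.map_map]
        have hid : (e : ↥(stabilizer ↥M24 d ⊓ stabilizer ↥M24 Q) →* ↥G0).comp
            (e.symm : ↥G0 →* ↥(stabilizer ↥M24 d ⊓ stabilizer ↥M24 Q)) = MonoidHom.id _ := by
          ext x
          simp
        rw [hid, Subgroup.map_id]
      exact ⟨(QuotientGroup.congr _ N0 e hmap).trans e0⟩
  · intro p hp q hq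
    have hgp : g p ∈ pts d0m := by
      rw [← hgd]
      exact Finset.smul_mem_smul_finset (a := g) hp
    have hgq : g q ∈ pts d0m := by
      rw [← hgd]
      exact Finset.smul_mem_smul_finset (a := g) hq
    obtain ⟨k1, hk1⟩ := base_trans _ hgp
    obtain ⟨k2, hk2⟩ := base_trans _ hgq
    refine ⟨((e.symm (k2 * k1⁻¹) : ↥(stabilizer ↥M24 d ⊓ stabilizer ↥M24 Q)) : ↥M24),
      (e.symm (k2 * k1⁻¹)).2, ?_⟩
    rw [he, conjEquiv_symm_val]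
    show (g⁻¹ * ((((k2 * k1⁻¹ : ↥G0) : ↥G0) : ↥M24) : Equiv.Perm GolayPt) * g) p = q
    have h3 : ((((k2 * k1⁻¹ : ↥G0) : ↥G0) : ↥M24) : Equiv.Perm GolayPt) =
        (((k2 : ↥G0) : ↥M24) : Equiv.Perm GolayPt) *
          ((((k1 : ↥G0) : ↥M24) : Equiv.Perm GolayPt))⁻¹ := rfl
    rw [h3, Equiv.Perm.mul_apply, Equiv.Perm.mul_apply, Equiv.Perm.mul_apply, ← hk1,
      perm_inv_self', hk2, perm_inv_self']

end Cfsg.Agent.helper28.AGL23
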