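import Cfsg.Agent.Lib_helper28_Aut23
set_option autoImplicit false

/-! The automorphism group of an S(3,6,22) has order at most 22 * 56 * 720 = 887040. -/

namespace Cfsg.Agent.helper28.Aut22

open scoped Pointwise
open Cfsg.Agent.helper28.Plane Cfsg.Agent.helper28.S22 Cfsg.Agent.helper28.Aut23
open Cfsg.Agent.helper28

/-- orbit-stabiliser bound -/
lemma card_le_mul_stab {P X : Type*} [Group P] [MulAction P X] (G : Subgroup P) [Finite G] (x : X)
    (S : Finset X) (hS : ∀ g ∈ G, g • x ∈ S) :
    Nat.card G ≤ S.card * Nat.card ↥(G ⊓ MulAction.stabilizer P x) := by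
  have h1 := Subgroup.index_mul_card (MulAction.stabilizer G x)
  rw [MulAction.index_stabilizer] at h1
  have h2 : (MulAction.orbit G x).ncard ≤ S.card := by
    rw [← Set.ncard_coe_finset S]
    apply Set.ncard_le_ncard _ (Finset.finite_toSet S)
    rintro _ ⟨g, rfl⟩
    exact hS g.1 g.2
  have h3 : Nat.card (MulAction.stabilizer G x) = Nat.card ↥(G ⊓ MulAction.stabilizer P x) := by
    apply Nat.card_congr
    exact {
      toFun := fun g => ⟨g.1.1, ⟨g.1.2, g.2⟩⟩
      invFun := fun g => ⟨⟨g.1, g.2.1⟩, g.2.2⟩
      left_inv := fun g => rfl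
      right_inv := fun g => rfl }
  rw [← h1, h3]
  exact Nat.mul_le_mul_right _ h2

variable {α : Type*} [Fintype α] [DecidableEq α] {Bf : Finset (Finset (Option α))}

lemma some_removeNone {g : Equiv.Perm (Option α)} (hn : g none = none) (x : α) :
    some (Equiv.removeNone g x) = g (some x) := by
  have := Equiv.congr_fun (optionCongr_removeNone hn) (some x)
  rw [Equiv.optionCongr_apply, Option.map_some] at this
  exact this

/-- an automorphism fixing `none` restricts to an automorphism of the derived plane -/
lemma lines_image {g : Equiv.Perm (Option α)}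
    (hg : g ∈ Cfsg.setSystemAut (↑Bf : Set (Finset (Option α)))) (hn : g none = none) :
    (linesOf Bf).image (fun l => l.image (Equiv.removeNone g)) = linesOf Bf := by
  apply Finset.eq_of_subset_of_card_le
  · intro m hm
    obtain ⟨l, hl, rfl⟩ := Finset.mem_image.1 hm
    rw [mem_linesOf] at hl ⊢
    rw [← image_optionCongr_insertNone, optionCongr_removeNone hn]
    exact aut_forall hg _ hl
  · rw [Finset.card_image_of_injective _ (Finset.image_injective (Equiv.removeNone g).injective)]

lemma rigid (h : IsS22 Bf) {H₀ : Finset α} (hH : H₀ ∈ ovalsOf Bf) {g g' : Equiv.Perm (Option α)}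
    (hg : g ∈ Cfsg.setSystemAut (↑Bf : Set (Finset (Option α))))
    (hg' : g' ∈ Cfsg.setSystemAut (↑Bf : Set (Finset (Option α))))
    (hn : g none = none) (hn' : g' none = none)
    (hag : ∀ x ∈ H₀, g (some x) = g' (some x)) : g = g' := by
  have key := S23.iso_unique_on_oval (isPlane4_linesOf h) (lines_image hg hn)
    (lines_image hg' hn') (isHyperoval_of_mem h hH) ?_
  · rw [← optionCongr_removeNone hn, ← optionCongr_removeNone hn', key]
  · intro x hx
    apply Option.some_injective
    rw [some_removeNone hn, some_removeNone hn']
    exact hag x hx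

theorem card_aut_le (h : IsS22 Bf) :
    Nat.card (Cfsg.setSystemAut (↑Bf : Set (Finset (Option α)))) ≤ 887040 := by
  classical
  obtain ⟨H₀, hH₀⟩ := Finset.card_pos.1
    (by rw [card_ovalsOf h]; norm_num : 0 < (ovalsOf Bf).card)
  have hH₀B : H₀.map Function.Embedding.some ∈ Bf := mem_ovalsOf.1 hH₀
  have s1 := card_le_mul_stab (Cfsg.setSystemAut (↑Bf : Set (Finset (Option α))))
    (none : Option α) Finset.univ (fun g _ => Finset.mem_univ _)
  have hu : (Finset.univ : Finset (Option α)).card = 22 := by
    rw [Finset.card_univ]; exact h.card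
  rw [hu] at s1
  have s2 := card_le_mul_stab (Cfsg.setSystemAut (↑Bf : Set (Finset (Option α))) ⊓
      MulAction.stabilizer (Equiv.Perm (Option α)) (none : Option α))
    (H₀.map Function.Embedding.some)
    ((ovalsOf Bf).image (fun K => K.map Function.Embedding.some)) ?_
  · have hS2 : ((ovalsOf Bf).image (fun K => K.map Function.Embedding.some)).card ≤ 56 := by
      rw [← card_ovalsOf h]; exact Finset.card_image_le
    have s3 : Nat.card ↥(Cfsg.setSystemAut (↑Bf : Set (Finset (Option α))) ⊓
        MulAction.stabilizer (Equiv.Perm (Option α)) (none : Option α) ⊓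
        MulAction.stabilizer (Equiv.Perm (Option α)) (H₀.map Function.Embedding.some)) ≤ 720 := by
      have hmem : ∀ g : ↥(Cfsg.setSystemAut (↑Bf : Set (Finset (Option α))) ⊓
          MulAction.stabilizer (Equiv.Perm (Option α)) (none : Option α) ⊓
          MulAction.stabilizer (Equiv.Perm (Option α)) (H₀.map Function.Embedding.some)),
          ∀ x, g.1 x ∈ H₀.map Function.Embedding.some ↔ x ∈ H₀.map Function.Embedding.some := by
        intro g x
        have := Finset.smul_mem_smul_finset_iff (s := H₀.map Function.Embedding.some) (b := x) g.1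
        rw [MulAction.mem_stabilizer_iff.1 g.2.2] at this
        exact this
      let f : ↥(Cfsg.setSystemAut (↑Bf : Set (Finset (Option α))) ⊓
          MulAction.stabilizer (Equiv.Perm (Option α)) (none : Option α) ⊓
          MulAction.stabilizer (Equiv.Perm (Option α)) (H₀.map Function.Embedding.some)) →
          Equiv.Perm {x // x ∈ H₀.map Function.Embedding.some} :=
        fun g => g.1.subtypePerm (hmem g)
      have hf : Function.Injective f := by
        intro g g' hgg
        apply Subtype.ext
        apply rigid h hH₀ g.2.1.1 g'.2.1.1 (MulAction.mem_stabilizer_iff.1 g.2.1.2)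
          (MulAction.mem_stabilizer_iff.1 g'.2.1.2)
        intro x hx
        have hx' : some x ∈ H₀.map Function.Embedding.some :=
          Finset.mem_map_of_mem Function.Embedding.some hx
        have := congrArg (fun p => (p ⟨some x, hx'⟩).1) hgg
        simpa [f] using this
      have hc := Nat.card_le_card_of_injective f hf
      have h720 : Nat.card (Equiv.Perm {x // x ∈ H₀.map Function.Embedding.some}) = 720 := by
        rw [Nat.card_eq_fintype_card, Fintype.card_perm, Fintype.card_coe, Finset.card_map,
          (isHyperoval_of_mem h hH₀).card]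
        rfl
      rw [h720] at hc
      exact hc
    calc Nat.card (Cfsg.setSystemAut (↑Bf : Set (Finset (Option α))))
        ≤ 22 * Nat.card ↥(Cfsg.setSystemAut (↑Bf : Set (Finset (Option α))) ⊓
          MulAction.stabilizer (Equiv.Perm (Option α)) (none : Option α)) := s1
      _ ≤ 22 * (56 * 720) := by
          apply Nat.mul_le_mul_left
          exact s2.trans (Nat.mul_le_mul hS2 s3)
      _ = 887040 := by norm_num
  · intro g hg
    have hgB : (H₀.map Function.Embedding.some).image g ∈ Bf := by
      have := aut_forall hg.1 _ (Finset.mem_coe.2 hH₀B)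
      exact Finset.mem_coe.1 this
    have hgn : g none = none := MulAction.mem_stabilizer_iff.1 hg.2
    have hnot : none ∉ (H₀.map Function.Embedding.some).image g := by
      intro hh
      obtain ⟨y, hy, hgy⟩ := Finset.mem_image.1 hh
      have : y = none := g.injective (hgy.trans hgn.symm)
      rw [this] at hy
      exact none_notMem_map_some H₀ hy
    refine Finset.mem_image.2 ⟨Finset.eraseNone ((H₀.map Function.Embedding.some).image g), ?_, ?_⟩
    · rw [mem_ovalsOf, map_some_eraseNone_of_notMem hnot]; exact hgB
    · exact map_some_eraseNone_of_notMem hnot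

end Cfsg.Agent.helper28.Aut22
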