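import Cfsg.Agent.Lib_helper28_Aut22a
set_option autoImplicit false

/-! The derived design at a pair of points (on the subtype of the remaining points), the restriction
of the pair stabiliser to it, and the automorphism group of S(3,6,22). -/

namespace Cfsg.Agent.helper28.Aut22

open scoped Pointwise
open Cfsg.Agent.helper28.Plane Cfsg.Agent.helper28.S22 Cfsg.Agent.helper28.Aut23
open Cfsg.Agent.helper28 Cfsg.Agent.helper28.AutT Cfsg.Agent.helper28.Design
open Cfsg.Agent.helper28.S24 Cfsg.Agent.helper2.Golay Cfsg.Agent.S5625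

section Pair

variable {Ω : Type*} [Fintype Ω] [DecidableEq Ω] (p q : Ω)

/-- the points other than `p`, `q` -/
abbrev Rest := {x : Ω // x ≠ p ∧ x ≠ q}

/-- add the two points back -/
def up (H : Finset (Rest p q)) : Finset Ω :=
  insert p (insert q (H.map (Function.Embedding.subtype _)))

lemma mem_up {H : Finset (Rest p q)} {x : Ω} :
    x ∈ up p q H ↔ x = p ∨ x = q ∨ ∃ h : x ≠ p ∧ x ≠ q, (⟨x, h⟩ : Rest p q) ∈ H := by
  unfold up
  simp only [Finset.mem_insert, Finset.mem_map, Function.Embedding.coe_subtype]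
  constructor
  · rintro (h | h | ⟨a, ha, rfl⟩)
    · exact Or.inl h
    · exact Or.inr (Or.inl h)
    · exact Or.inr (Or.inr ⟨a.2, ha⟩)
  · rintro (h | h | ⟨hx, hm⟩)
    · exact Or.inl h
    · exact Or.inr (Or.inl h)
    · exact Or.inr (Or.inr ⟨⟨x, hx⟩, hm, rfl⟩)

lemma val_mem_up {H : Finset (Rest p q)} (x : Rest p q) : x.1 ∈ up p q H ↔ x ∈ H := by
  rw [mem_up]
  constructor
  · rintro (h | h | ⟨_, hm⟩)
    · exact absurd h x.2.1
    · exact absurd h x.2.2
    · exact hm
  · intro hm; exact Or.inr (Or.inr ⟨x.2, hm⟩)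

lemma up_injective : Function.Injective (up p q) := by
  intro H H' h
  ext x
  rw [← val_mem_up p q x, h, val_mem_up]

lemma up_mono {H H' : Finset (Rest p q)} (h : H ⊆ H') : up p q H ⊆ up p q H' := by
  intro x hx
  rw [mem_up] at hx ⊢
  rcases hx with h1 | h1 | ⟨hx, hm⟩
  · exact Or.inl h1
  · exact Or.inr (Or.inl h1)
  · exact Or.inr (Or.inr ⟨hx, h hm⟩)

lemma card_up (hpq : p ≠ q) (H : Finset (Rest p q)) : (up p q H).card = H.card + 2 := by
  unfold up
  rw [Finset.card_insert_of_notMem, Finset.card_insert_of_notMem, Finset.card_map]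
  · simp only [Finset.mem_map, Function.Embedding.coe_subtype, not_exists, not_and]
    intro a _ ha; exact a.2.2 ha
  · simp only [Finset.mem_insert, Finset.mem_map, Function.Embedding.coe_subtype, not_or,
      not_exists, not_and]
    exact ⟨hpq, fun a _ ha => a.2.1 ha⟩

lemma up_subtype {b : Finset Ω} (hp : p ∈ b) (hq : q ∈ b) :
    up p q (b.subtype (fun x => x ≠ p ∧ x ≠ q)) = b := by
  ext x
  rw [mem_up]
  simp only [Finset.mem_subtype]
  constructor
  · rintro (h | h | ⟨_, hm⟩)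
    · rw [h]; exact hp
    · rw [h]; exact hq
    · exact hm
  · intro hx
    by_cases h1 : x = p
    · exact Or.inl h1
    · by_cases h2 : x = q
      · exact Or.inr (Or.inl h2)
      · exact Or.inr (Or.inr ⟨⟨h1, h2⟩, hx⟩)

/-- the derived system at the two points -/
def derived2 (B : Set (Finset Ω)) : Set (Finset (Rest p q)) := {H | up p q H ∈ B}

lemma derived2_steiner (hpq : p ≠ q) {t k : ℕ} {B : Set (Finset Ω)}
    (hB : Cfsg.IsSteinerSystem (t + 2) (k + 2) B) :
    Cfsg.IsSteinerSystem t k (derived2 p q B) := by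
  refine ⟨?_, ?_⟩
  · intro H hH
    have := hB.1 _ hH
    rw [card_up p q hpq] at this
    omega
  · intro s hs
    obtain ⟨b, ⟨hbB, hsb⟩, hu⟩ := hB.2 (up p q s) (by rw [card_up p q hpq, hs])
    have hp : p ∈ b := hsb (by rw [mem_up]; exact Or.inl rfl)
    have hq : q ∈ b := hsb (by rw [mem_up]; exact Or.inr (Or.inl rfl))
    refine ⟨b.subtype (fun x => x ≠ p ∧ x ≠ q), ⟨?_, ?_⟩, ?_⟩
    · show up p q _ ∈ B
      rw [up_subtype p q hp hq]; exact hbB
    · intro x hx
      rw [Finset.mem_subtype]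
      exact hsb ((val_mem_up p q x).2 hx)
    · rintro H' ⟨hH', hsH'⟩
      have := hu (up p q H') ⟨hH', up_mono p q hsH'⟩
      apply up_injective p q
      rw [up_subtype p q hp hq, this]

/-- `g` preserves the pair `{p, q}` -/
def PresPair (g : Equiv.Perm Ω) : Prop := (g p = p ∧ g q = q) ∨ (g p = q ∧ g q = p)

lemma presPair_iff {g : Equiv.Perm Ω} (hg : PresPair p q g) (x : Ω) :
    (g x ≠ p ∧ g x ≠ q) ↔ (x ≠ p ∧ x ≠ q) := by
  rcases hg with ⟨h1, h2⟩ | ⟨h1, h2⟩
  · constructor
    · rintro ⟨a, b⟩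
      exact ⟨fun hh => a (hh ▸ h1), fun hh => b (hh ▸ h2)⟩
    · rintro ⟨a, b⟩
      exact ⟨fun hh => a (g.injective (hh.trans h1.symm)),
        fun hh => b (g.injective (hh.trans h2.symm))⟩
  · constructor
    · rintro ⟨a, b⟩
      exact ⟨fun hh => b (hh ▸ h1), fun hh => a (hh ▸ h2)⟩
    · rintro ⟨a, b⟩
      exact ⟨fun hh => b (g.injective (hh.trans h2.symm)),
        fun hh => a (g.injective (hh.trans h1.symm))⟩

/-- restriction to the complement of the pair -/
def restr (g : Equiv.Perm Ω) (hg : PresPair p q g) : Equiv.Perm (Rest p q) :=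
  g.subtypePerm (presPair_iff p q hg)

lemma restr_val (g : Equiv.Perm Ω) (hg : PresPair p q g) (x : Rest p q) :
    (restr p q g hg x).1 = g x.1 := rfl

lemma up_image_restr (g : Equiv.Perm Ω) (hg : PresPair p q g) (H : Finset (Rest p q)) :
    up p q (H.image (restr p q g hg)) = (up p q H).image g := by
  have hg' := hg
  ext y
  rw [mem_up, Finset.mem_image]
  constructor
  · rintro (h | h | ⟨hy, hm⟩)
    · rcases hg' with ⟨h1, h2⟩ | ⟨h1, h2⟩
      · exact ⟨p, by rw [mem_up]; exact Or.inl rfl, by rw [h1, h]⟩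
      · exact ⟨q, by rw [mem_up]; exact Or.inr (Or.inl rfl), by rw [h2, h]⟩
    · rcases hg' with ⟨h1, h2⟩ | ⟨h1, h2⟩
      · exact ⟨q, by rw [mem_up]; exact Or.inr (Or.inl rfl), by rw [h2, h]⟩
      · exact ⟨p, by rw [mem_up]; exact Or.inl rfl, by rw [h1, h]⟩
    · obtain ⟨z, hz, hzy⟩ := Finset.mem_image.1 hm
      refine ⟨z.1, (val_mem_up p q z).2 hz, ?_⟩
      have := congrArg Subtype.val hzy
      exact this
  · rintro ⟨x, hx, rfl⟩
    rw [mem_up] at hx
    rcases hx with h | h | ⟨hx', hm⟩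
    · rcases hg' with ⟨h1, h2⟩ | ⟨h1, h2⟩
      · left; rw [h, h1]
      · right; left; rw [h, h1]
    · rcases hg' with ⟨h1, h2⟩ | ⟨h1, h2⟩
      · right; left; rw [h, h2]
      · left; rw [h, h2]
    · right; right
      refine ⟨(presPair_iff p q hg x).2 hx', ?_⟩
      exact Finset.mem_image.2 ⟨⟨x, hx'⟩, hm, rfl⟩

lemma restr_mem {B : Set (Finset Ω)} {g : Equiv.Perm Ω} (hg : g ∈ Cfsg.setSystemAut B)
    (hp : PresPair p q g) : restr p q g hp ∈ Cfsg.setSystemAut (derived2 p q B) := by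
  apply mem_aut_of_forall
  intro H hH
  show up p q (H.image (restr p q g hp)) ∈ B
  rw [up_image_restr]
  exact aut_forall hg _ hH

/-- restriction of the two-point stabiliser to the derived design -/
noncomputable def resHom2 {B : Set (Finset Ω)} (S : Subgroup (Equiv.Perm Ω))
    (hS : S = Cfsg.setSystemAut B) :
    ↥(MulAction.stabilizer S p ⊓ MulAction.stabilizer S q) →*
      Cfsg.setSystemAut (derived2 p q B) where
  toFun g := ⟨restr p q g.1.1 (Or.inl ⟨MulAction.mem_stabilizer_iff.1 g.2.1,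
    MulAction.mem_stabilizer_iff.1 g.2.2⟩), restr_mem p q (hS ▸ g.1.2) _⟩
  map_one' := by apply Subtype.ext; ext x; rfl
  map_mul' a b := by apply Subtype.ext; ext x; rfl

lemma resHom2_val {B : Set (Finset Ω)} (S : Subgroup (Equiv.Perm Ω))
    (hS : S = Cfsg.setSystemAut B) (g : ↥(MulAction.stabilizer S p ⊓ MulAction.stabilizer S q))
    (x : Rest p q) : ((resHom2 p q S hS g).1 x).1 = g.1.1 x.1 := rfl

lemma resHom2_injective {B : Set (Finset Ω)} (S : Subgroup (Equiv.Perm Ω))
    (hS : S = Cfsg.setSystemAut B) : Function.Injective (resHom2 p q S hS) := by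
  intro a b hab
  apply Subtype.ext; apply Subtype.ext
  apply Equiv.ext
  intro x
  by_cases h1 : x = p
  · rw [h1]
    exact (MulAction.mem_stabilizer_iff.1 a.2.1).trans (MulAction.mem_stabilizer_iff.1 b.2.1).symm
  · by_cases h2 : x = q
    · rw [h2]
      exact (MulAction.mem_stabilizer_iff.1 a.2.2).trans
        (MulAction.mem_stabilizer_iff.1 b.2.2).symm
    · have := congrArg (fun f => (f.1 ⟨x, ⟨h1, h2⟩⟩).1) hab
      exact this

/-- no automorphism of an S(5,8,24) moves `p` to `q` and fixes everything else -/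
lemma no_swap {Bf : Finset (Finset Ω)} (h : IsS24 Bf) (hpq : p ≠ q) {ν : Equiv.Perm Ω}
    (hν : ∀ b ∈ Bf, b.image ν ∈ Bf) (hp : ν p = q) (hfix : ∀ x, x ≠ p → x ≠ q → ν x = x) :
    False := by
  have c1 : cnt Bf {p} = 253 := h.cnt_eq {p} (by simp)
  have c2 : cnt Bf {p, q} = 77 := by
    have := h.cnt_eq {p, q} (by rw [Finset.card_pair hpq]; norm_num)
    rw [Finset.card_pair hpq] at this
    exact this
  have hex : ∃ O ∈ Bf, p ∈ O ∧ q ∉ O := by
    by_contra hcon
    push Not at hcon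
    have hsub : Bf.filter (fun c => {p} ⊆ c) ⊆ Bf.filter (fun c => {p, q} ⊆ c) := by
      intro c hc
      rw [Finset.mem_filter] at hc ⊢
      have hpc : p ∈ c := hc.2 (Finset.mem_singleton_self p)
      refine ⟨hc.1, ?_⟩
      intro x hx
      rw [Finset.mem_insert, Finset.mem_singleton] at hx
      rcases hx with rfl | rfl
      · exact hpc
      · exact hcon c hc.1 hpc
    have := Finset.card_le_card hsub
    unfold cnt at c1 c2
    omega
  obtain ⟨O, hO, hpO, hqO⟩ := hex
  have hO' := hν O hO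
  have hqO' : q ∈ O.image ν := Finset.mem_image.2 ⟨p, hpO, hp⟩
  have hne : O ≠ O.image ν := fun hh => hqO (hh ▸ hqO')
  have hsub : O.erase p ⊆ O ∩ O.image ν := by
    intro x hx
    rw [Finset.mem_erase] at hx
    have hxq : x ≠ q := fun hh => hqO (hh ▸ hx.2)
    exact Finset.mem_inter.2 ⟨hx.2, Finset.mem_image.2 ⟨x, hx.2, hfix x hx.1 hxq⟩⟩
  have h7 := Finset.card_le_card hsub
  rw [Finset.card_erase_of_mem hpO, h.k O hO] at h7
  rcases h.inter_ne hO hO' hne with h0 | h0 | h0 <;> omega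

end Pair

end Cfsg.Agent.helper28.Aut22
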