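import Cfsg.Agent.Lib_helper28_Aut22b
set_option autoImplicit false

/-! The automorphism group of any S(3,6,22): order 887040, 3-transitive, with a simple subgroup of
index 2 of order 443520 (given simplicity of the two-point stabiliser in M24). -/

namespace Cfsg.Agent.helper28.Aut22

open scoped Pointwise
open Cfsg.Agent.helper28.Plane Cfsg.Agent.helper28.S22 Cfsg.Agent.helper28.Aut23
open Cfsg.Agent.helper28 Cfsg.Agent.helper28.AutT Cfsg.Agent.helper28.Design
open Cfsg.Agent.helper28.S24 Cfsg.Agent.helper2.Golay Cfsg.Agent.S5625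

theorem card_aut_le' {γ : Type*} [Fintype γ] [DecidableEq γ] (hγ : Fintype.card γ = 22)
    {B : Set (Finset γ)} (hB : Cfsg.IsSteinerSystem 3 6 B) :
    Nat.card (Cfsg.setSystemAut B) ≤ 887040 := by
  have c1 : Fintype.card γ = Fintype.card (Option (Fin 21)) := by rw [hγ]; simp
  let σ : γ ≃ Option (Fin 21) := Fintype.equivOfCardEq c1
  have h := isS22_transport σ hγ (toF_card hB) (toF_cnt hB)
  have hcoe : (fun b => b.image σ) '' B =
      (↑((toF B).image (fun b => b.image σ)) : Set (Finset (Option (Fin 21)))) := by
    ext c; simp [mem_toF]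
  rw [Nat.card_congr (autCongr σ hcoe).toEquiv]
  exact card_aut_le h

section Model

variable (p q : Cfsg.GolayPt)

/-- the two-point stabiliser is 3-transitive on the remaining points -/
theorem model_three_trans (hpq : p ≠ q) (x y : Fin 3 ↪ Rest p q) :
    ∃ g : ↥(MulAction.stabilizer Cfsg.M24 p ⊓ MulAction.stabilizer Cfsg.M24 q),
      ∀ i, (resHom2 p q Cfsg.M24 M24_eq_aut_octads g).1 (x i) = y i := by
  have hxq : q ∉ Set.range (x.trans (Function.Embedding.subtype _)) := by
    rintro ⟨i, hi⟩; exact (x i).2.2 hi
  have hyq : q ∉ Set.range (y.trans (Function.Embedding.subtype _)) := by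
    rintro ⟨i, hi⟩; exact (y i).2.2 hi
  have hxp : p ∉ Set.range (Function.Embedding.optionElim
      (x.trans (Function.Embedding.subtype _)) q hxq) := by
    rintro ⟨o, ho⟩
    cases o with
    | none => exact hpq ho.symm
    | some i => exact (x i).2.1 ho
  have hyp : p ∉ Set.range (Function.Embedding.optionElim
      (y.trans (Function.Embedding.subtype _)) q hyq) := by
    rintro ⟨o, ho⟩
    cases o with
    | none => exact hpq ho.symm
    | some i => exact (y i).2.1 ho
  let eqv : Fin 5 ≃ Option (Option (Fin 3)) :=
    (finSuccEquiv 4).trans (Equiv.optionCongr (finSuccEquiv 3))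
  let x' : Fin 5 ↪ Cfsg.GolayPt := eqv.toEmbedding.trans
    (Function.Embedding.optionElim (Function.Embedding.optionElim
      (x.trans (Function.Embedding.subtype _)) q hxq) p hxp)
  let y' : Fin 5 ↪ Cfsg.GolayPt := eqv.toEmbedding.trans
    (Function.Embedding.optionElim (Function.Embedding.optionElim
      (y.trans (Function.Embedding.subtype _)) q hyq) p hyp)
  obtain ⟨g, hg⟩ := MulAction.isMultiplyPretransitive_iff.1 m24_five_transitive x' y'
  have hgp : g • p = p := by
    have := DFunLike.congr_fun hg 0
    simp [x', y', eqv] at this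
    exact this
  have hgq : g • q = q := by
    have := DFunLike.congr_fun hg 1
    have h1 : (1 : Fin 5) = Fin.succ (0 : Fin 4) := rfl
    rw [h1] at this
    simp [x', y', eqv] at this
    exact this
  have hgs : ∀ i : Fin 3, g • (x i).1 = (y i).1 := by
    intro i
    have := DFunLike.congr_fun hg i.succ.succ
    simp [x', y', eqv] at this
    exact this
  refine ⟨⟨g, ⟨MulAction.mem_stabilizer_iff.2 hgp, MulAction.mem_stabilizer_iff.2 hgq⟩⟩, ?_⟩
  intro i
  apply Subtype.ext
  rw [resHom2_val]
  exact hgs i

end Model

end Cfsg.Agent.helper28.Aut22
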