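import Cfsg.Agent.Lib_helper28_S24
set_option autoImplicit false

/-! Steiner systems S(4,7,23): parameters, block intersections, the doubly derived plane with its
two classes of hyperovals and its class of Baer subplanes, uniqueness. -/

namespace Cfsg.Agent.helper28.S23

open Finset Cfsg.Agent.S5625 Cfsg.Agent.helper28.Design Cfsg.Agent.helper28.Plane

section Basic

variable {γ : Type*} [Fintype γ] [DecidableEq γ]

/-- `Bf` is the block set of a Steiner system S(4,7,23) -/
structure IsS23 (Bf : Finset (Finset γ)) : Prop where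
  card : Fintype.card γ = 23
  k : ∀ b ∈ Bf, b.card = 7
  four : ∀ S : Finset γ, S.card = 4 → cnt Bf S = 1

variable {Bf : Finset (Finset γ)}

lemma IsS23.three (h : IsS23 Bf) : ∀ S : Finset γ, S.card = 3 → cnt Bf S = 5 := by
  intro S hS
  have := step Bf 7 h.k S
  have hcompl : Sᶜ.card = 23 - S.card := by rw [Finset.card_compl, h.card]
  have hins : ∀ x, x ∈ Sᶜ → (insert x S).card = S.card + 1 := by
    intro x hx
    rw [Finset.card_insert_of_notMem (Finset.mem_compl.1 hx)]
  rw [Finset.sum_congr rfl (fun x hx => h.four _ (by rw [hins x hx, hS])), Finset.sum_const,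
    hcompl, hS, smul_eq_mul] at this
  omega

lemma IsS23.two (h : IsS23 Bf) : ∀ S : Finset γ, S.card = 2 → cnt Bf S = 21 := by
  intro S hS
  have := step Bf 7 h.k S
  have hcompl : Sᶜ.card = 23 - S.card := by rw [Finset.card_compl, h.card]
  have hins : ∀ x, x ∈ Sᶜ → (insert x S).card = S.card + 1 := by
    intro x hx
    rw [Finset.card_insert_of_notMem (Finset.mem_compl.1 hx)]
  rw [Finset.sum_congr rfl (fun x hx => h.three _ (by rw [hins x hx, hS])), Finset.sum_const,
    hcompl, hS, smul_eq_mul] at this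
  omega

lemma IsS23.one (h : IsS23 Bf) : ∀ S : Finset γ, S.card = 1 → cnt Bf S = 77 := by
  intro S hS
  have := step Bf 7 h.k S
  have hcompl : Sᶜ.card = 23 - S.card := by rw [Finset.card_compl, h.card]
  have hins : ∀ x, x ∈ Sᶜ → (insert x S).card = S.card + 1 := by
    intro x hx
    rw [Finset.card_insert_of_notMem (Finset.mem_compl.1 hx)]
  rw [Finset.sum_congr rfl (fun x hx => h.two _ (by rw [hins x hx, hS])), Finset.sum_const,
    hcompl, hS, smul_eq_mul] at this
  omega

lemma IsS23.zero (h : IsS23 Bf) : cnt Bf (∅ : Finset γ) = 253 := by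
  have := step Bf 7 h.k (∅ : Finset γ)
  have hcompl : (∅ : Finset γ)ᶜ.card = 23 := by rw [Finset.card_compl, h.card]; simp
  have hins : ∀ x, x ∈ (∅ : Finset γ)ᶜ → (insert x (∅ : Finset γ)).card = 1 := by
    intro x _
    simp
  rw [Finset.sum_congr rfl (fun x hx => h.one _ (hins x hx)), Finset.sum_const,
    hcompl, Finset.card_empty, smul_eq_mul] at this
  omega

lemma IsS23.card_blocks (h : IsS23 Bf) : Bf.card = 253 := by
  have h0 := h.zero
  have hc : cnt Bf (∅ : Finset γ) = Bf.card := by
    unfold cnt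
    congr 1
    ext b
    simp
  rw [hc] at h0
  exact h0

lemma IsS23.exists_block (h : IsS23 Bf) (S : Finset γ) (hS : S.card ≤ 4) : ∃ b ∈ Bf, S ⊆ b := by
  have hpos : 0 < cnt Bf S := by
    have hcases : S.card = 0 ∨ S.card = 1 ∨ S.card = 2 ∨ S.card = 3 ∨ S.card = 4 := by omega
    rcases hcases with h0 | h0 | h0 | h0 | h0
    · rw [Finset.card_eq_zero.1 h0, h.zero]; norm_num
    · rw [h.one S h0]; norm_num
    · rw [h.two S h0]; norm_num
    · rw [h.three S h0]; norm_num
    · rw [h.four S h0]; norm_num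
  unfold cnt at hpos
  obtain ⟨b, hb⟩ := Finset.card_pos.1 hpos
  rw [Finset.mem_filter] at hb
  exact ⟨b, hb.1, hb.2⟩

lemma IsS23.block_unique (h : IsS23 Bf) {b c S : Finset γ} (hb : b ∈ Bf) (hc : c ∈ Bf)
    (hS : 4 ≤ S.card) (hSb : S ⊆ b) (hSc : S ⊆ c) : b = c := by
  obtain ⟨T, hTS, hT⟩ := Finset.exists_subset_card_eq hS
  have h1 := h.four T hT
  unfold cnt at h1
  rw [Finset.card_eq_one] at h1
  obtain ⟨d, hd⟩ := h1
  have hb' : b ∈ Bf.filter (fun c => T ⊆ c) := Finset.mem_filter.2 ⟨hb, hTS.trans hSb⟩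
  have hc' : c ∈ Bf.filter (fun c => T ⊆ c) := Finset.mem_filter.2 ⟨hc, hTS.trans hSc⟩
  rw [hd, Finset.mem_singleton] at hb' hc'
  rw [hb', hc']

lemma IsS23.inter_le (h : IsS23 Bf) {b c : Finset γ} (hb : b ∈ Bf) (hc : c ∈ Bf) (hne : c ≠ b) :
    (c ∩ b).card ≤ 3 := by
  by_contra hlt
  push Not at hlt
  exact hne (h.block_unique hc hb (S := c ∩ b) (by omega) Finset.inter_subset_left
    Finset.inter_subset_right)

/-- two distinct blocks meet in 1 or 3 points -/
lemma IsS23.meet (h : IsS23 Bf) {l m : Finset γ} (hl : l ∈ Bf) (hm : m ∈ Bf) (hne : m ≠ l) :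
    (m ∩ l).card = 1 ∨ (m ∩ l).card = 3 := by
  have hl7 := h.k l hl
  have m0 := moment Bf l 0
  have m1 := moment Bf l 1
  have m2 := moment Bf l 2
  have m3 := moment Bf l 3
  have m4 := moment Bf l 4
  rw [Finset.sum_congr rfl (fun P hP => h.one P (Finset.mem_powersetCard.1 hP).2),
    Finset.sum_const, Finset.card_powersetCard, smul_eq_mul] at m1
  rw [Finset.sum_congr rfl (fun P hP => h.two P (Finset.mem_powersetCard.1 hP).2),
    Finset.sum_const, Finset.card_powersetCard, smul_eq_mul] at m2
  rw [Finset.sum_congr rfl (fun P hP => h.three P (Finset.mem_powersetCard.1 hP).2),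
    Finset.sum_const, Finset.card_powersetCard, smul_eq_mul] at m3
  rw [Finset.sum_congr rfl (fun P hP => h.four P (Finset.mem_powersetCard.1 hP).2),
    Finset.sum_const, Finset.card_powersetCard, smul_eq_mul] at m4
  rw [Finset.powersetCard_zero, Finset.sum_singleton, h.zero] at m0
  rw [hl7] at m0 m1 m2 m3 m4
  simp only [Finset.sum_range_succ, Finset.sum_range_zero, Nat.reduceAdd] at m0 m1 m2 m3 m4
  have h7 : 1 ≤ (Bf.filter (fun b => (b ∩ l).card = 7)).card := by
    rw [Nat.one_le_iff_ne_zero, Ne, Finset.card_eq_zero]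
    intro hh
    have : l ∈ Bf.filter (fun b => (b ∩ l).card = 7) := by
      rw [Finset.mem_filter, Finset.inter_self]
      exact ⟨hl, hl7⟩
    rw [hh] at this
    exact absurd this (Finset.notMem_empty l)
  have hle := h.inter_le hl hm hne
  have ha02 : (Bf.filter (fun b => (b ∩ l).card = 0)).card = 0 ∧
      (Bf.filter (fun b => (b ∩ l).card = 2)).card = 0 := by
    generalize (Bf.filter (fun b => (b ∩ l).card = 0)).card = a0 at m0 m1 m2 m3 m4
    generalize (Bf.filter (fun b => (b ∩ l).card = 1)).card = a1 at m0 m1 m2 m3 m4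
    generalize (Bf.filter (fun b => (b ∩ l).card = 2)).card = a2 at m0 m1 m2 m3 m4
    generalize (Bf.filter (fun b => (b ∩ l).card = 3)).card = a3 at m0 m1 m2 m3 m4
    generalize (Bf.filter (fun b => (b ∩ l).card = 4)).card = a4 at m0 m1 m2 m3 m4
    generalize (Bf.filter (fun b => (b ∩ l).card = 5)).card = a5 at m0 m1 m2 m3 m4
    generalize (Bf.filter (fun b => (b ∩ l).card = 6)).card = a6 at m0 m1 m2 m3 m4
    generalize (Bf.filter (fun b => (b ∩ l).card = 7)).card = a7 at m0 m1 m2 m3 m4 h7
    norm_num [Nat.choose] at m0 m1 m2 m3 m4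
    omega
  have hne0 : (m ∩ l).card ≠ 0 := by
    intro hmk
    have h0 := ha02.1
    rw [Finset.card_eq_zero] at h0
    have : m ∈ Bf.filter (fun b => (b ∩ l).card = 0) := Finset.mem_filter.2 ⟨hm, hmk⟩
    rw [h0] at this
    exact absurd this (Finset.notMem_empty m)
  have hne2 : (m ∩ l).card ≠ 2 := by
    intro hmk
    have h0 := ha02.2
    rw [Finset.card_eq_zero] at h0
    have : m ∈ Bf.filter (fun b => (b ∩ l).card = 2) := Finset.mem_filter.2 ⟨hm, hmk⟩
    rw [h0] at this
    exact absurd this (Finset.notMem_empty m)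
  omega

end Basic

section PlaneLemmas

variable {α : Type*} [Fintype α] [DecidableEq α] {Lf : Finset (Finset α)}
variable {β : Type*} [Fintype β] [DecidableEq β] {Lf' : Finset (Finset β)}

/-- the class of hyperovals meeting `H` evenly -/
def cl (Lf : Finset (Finset α)) (H : Finset α) : Finset (Finset α) :=
  (lev Lf 6).filter (fun X => (X ∩ H).card = 0 ∨ (X ∩ H).card = 2 ∨ (X ∩ H).card = 6)

lemma card_cl (h : IsPlane4 Lf) {H : Finset α} (hH : IsHyperoval Lf H) : (cl Lf H).card = 56 :=
  even_ovals h hH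

lemma image_lines_symm {e : α ≃ β} (he : Lf.image (fun l => l.image e) = Lf') {m : Finset β}
    (hm : m ∈ Lf') : m.image e.symm ∈ Lf := by
  rw [← he] at hm
  obtain ⟨l, hl, rfl⟩ := Finset.mem_image.1 hm
  rw [Finset.image_image]
  have : (e.symm ∘ e) = id := by funext x; simp
  rw [this, Finset.image_id]
  exact hl

lemma iso_unique_on_oval (h : IsPlane4 Lf) {e1 e2 : α ≃ β}
    (he1 : Lf.image (fun l => l.image e1) = Lf') (he2 : Lf.image (fun l => l.image e2) = Lf')
    {K : Finset α} (hK : IsHyperoval Lf K) (h12 : ∀ x ∈ K, e1 x = e2 x) : e1 = e2 := by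
  have key := aut_unique hK h (g1 := e1.trans e2.symm) (g2 := Equiv.refl α) ?_ ?_ ?_
  · ext x
    have hx : e2.symm (e1 x) = x := by
      have := Equiv.congr_fun key x
      simpa using this
    rw [Equiv.symm_apply_eq] at hx
    exact hx
  · intro l hl
    have h1 : l.image e1 ∈ Lf' := by rw [← he1]; exact Finset.mem_image_of_mem _ hl
    have h2 := image_lines_symm he2 h1
    rw [Finset.image_image] at h2
    exact h2
  · intro l hl
    have : l.image (Equiv.refl α) = l := by
      ext x; simp
    rw [this]; exact hl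
  · intro x hx
    simp [h12 x hx]

lemma third_point {A : Finset α} (hA : A.card = 3) {s s1 : α} (hs : s ∈ A) (hs1 : s1 ∈ A)
    (hne : s ≠ s1) : ∃ t ∈ A, t ≠ s ∧ t ≠ s1 ∧ ∀ y ∈ A, y = s ∨ y = s1 ∨ y = t := by
  have h1 : ((A.erase s).erase s1).card = 1 := by
    rw [Finset.card_erase_of_mem (Finset.mem_erase.2 ⟨hne.symm, hs1⟩),
      Finset.card_erase_of_mem hs, hA]
  obtain ⟨t, ht⟩ := Finset.card_eq_one.1 h1
  have htm : t ∈ (A.erase s).erase s1 := by rw [ht]; exact Finset.mem_singleton_self t
  rw [Finset.mem_erase, Finset.mem_erase] at htm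
  refine ⟨t, htm.2.2, htm.2.1, htm.1, ?_⟩
  intro y hy
  by_cases hys : y = s
  · exact Or.inl hys
  · by_cases hys1 : y = s1
    · exact Or.inr (Or.inl hys1)
    · right; right
      have : y ∈ (A.erase s).erase s1 :=
        Finset.mem_erase.2 ⟨hys1, Finset.mem_erase.2 ⟨hys, hy⟩⟩
      rw [ht, Finset.mem_singleton] at this
      exact this

lemma two_isos (hP : IsPlane4 Lf) (hP' : IsPlane4 Lf') {H K : Finset α} {H' : Finset β}
    (hH : IsHyperoval Lf H) (hH' : IsHyperoval Lf' H') (hK : IsHyperoval Lf K)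
    (hKH : (K ∩ H).card = 3) :
    ∃ e1 e2 : α ≃ β, Lf.image (fun l => l.image e1) = Lf' ∧
      Lf.image (fun l => l.image e2) = Lf' ∧
      H.image e1 = H' ∧ H.image e2 = H' ∧ (K.image e1 ∩ K.image e2).card = 3 := by
  have hHK3 : (H \ K).card = 3 := by
    have := Finset.card_sdiff_add_card_inter H K
    rw [hH.card, Finset.inter_comm, hKH] at this; omega
  obtain ⟨f, a, b, hfa, hfb, hab, hfab⟩ := Finset.card_eq_three.1 hHK3
  have hmemHK : ∀ x, x ∈ H \ K ↔ x = f ∨ x = a ∨ x = b := by intro x; rw [hfab]; simp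
  have hfH : f ∈ H ∧ f ∉ K := Finset.mem_sdiff.1 ((hmemHK f).2 (Or.inl rfl))
  have haH : a ∈ H ∧ a ∉ K := Finset.mem_sdiff.1 ((hmemHK a).2 (Or.inr (Or.inl rfl)))
  have hbH : b ∈ H ∧ b ∉ K := Finset.mem_sdiff.1 ((hmemHK b).2 (Or.inr (Or.inr rfl)))
  obtain ⟨b0⟩ : Nonempty β := Fintype.card_pos_iff.1 (by rw [hP'.card]; norm_num)
  obtain ⟨f0, hf0⟩ := S22.exists_bijOn (hH.card.trans hH'.card.symm) b0
  have hswapH : ∀ x ∈ H, Equiv.swap a b x ∈ H := by
    intro x hx
    by_cases hxa : x = a
    · rw [hxa, Equiv.swap_apply_left]; exact hbH.1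
    · by_cases hxb : x = b
      · rw [hxb, Equiv.swap_apply_right]; exact haH.1
      · rw [Equiv.swap_apply_of_ne_of_ne hxa hxb]; exact hx
  have hf1 : Set.BijOn (f0 ∘ Equiv.swap a b) ↑H ↑H' := by
    refine Set.BijOn.comp hf0 ?_
    refine ⟨fun x hx => hswapH x hx, (Equiv.swap a b).injective.injOn, ?_⟩
    intro y hy
    exact ⟨Equiv.swap a b y, hswapH y hy, Equiv.swap_apply_self a b y⟩
  obtain ⟨e1, he1H, he1⟩ := exists_iso hH hP hH' hP' hf0
  obtain ⟨e2, he2H, he2⟩ := exists_iso hH hP hH' hP' hf1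
  have hHe1 : H.image e1 = H' := by
    rw [Finset.image_congr (fun p hp => he1H p hp)]
    apply Finset.coe_injective
    rw [Finset.coe_image]
    exact hf0.image_eq
  have hHe2 : H.image e2 = H' := by
    rw [Finset.image_congr (fun p hp => he2H p hp)]
    apply Finset.coe_injective
    rw [Finset.coe_image]
    exact hf1.image_eq
  refine ⟨e1, e2, he1, he2, hHe1, hHe2, ?_⟩
  have hagree : ∀ x ∈ H, x ≠ a → x ≠ b → e1 x = e2 x := by
    intro x hx hxa hxb
    rw [he1H x hx, he2H x hx, Function.comp_apply, Equiv.swap_apply_of_ne_of_ne hxa hxb]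
  have hT : ∀ x ∈ K ∩ H, e1 x = e2 x := by
    intro x hx
    rw [Finset.mem_inter] at hx
    exact hagree x hx.2 (fun hh => haH.2 (hh ▸ hx.1)) (fun hh => hbH.2 (hh ▸ hx.1))
  have hf12 : e1 f = e2 f := hagree f hfH.1 hfa hfb
  have hne12 : e1 a ≠ e2 a := by
    rw [he1H a haH.1, he2H a haH.1, Function.comp_apply, Equiv.swap_apply_left]
    intro hh
    exact hab (hf0.injOn (Finset.mem_coe.2 haH.1) (Finset.mem_coe.2 hbH.1) hh)
  have hdist : K.image e1 ≠ K.image e2 := by
    intro heq
    have hK12 : ∀ x ∈ K, e1 x = e2 x := by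
      have hex : ∀ c, c ∈ K ∩ H → ∃ x, x ∈ K \ H ∧ e1 x = e2 x ∧
          ∃ m ∈ Lf, f ∈ m ∧ c ∈ m ∧ x ∈ m := by
        intro c hc
        rw [Finset.mem_inter] at hc
        have hfc : f ≠ c := fun hh => hfH.2 (hh ▸ hc.1)
        obtain ⟨m, hm, hfm, hcm⟩ := exists_line hP hfc
        have hmK : (m ∩ K).card = 2 := by
          rcases hK.line hP hm with h0 | h0
          · exfalso
            have : c ∈ m ∩ K := Finset.mem_inter.2 ⟨hcm, hc.1⟩
            rw [Finset.card_eq_zero.1 h0] at this
            exact absurd this (Finset.notMem_empty c)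
          · exact h0
        obtain ⟨x, hx⟩ : ∃ x, x ∈ (m ∩ K).erase c := Finset.card_pos.1 (by
          rw [Finset.card_erase_of_mem (Finset.mem_inter.2 ⟨hcm, hc.1⟩), hmK]; norm_num)
        rw [Finset.mem_erase, Finset.mem_inter] at hx
        obtain ⟨hxc, hxm, hxK⟩ := hx
        have hmKeq : m ∩ K = {c, x} := by
          symm; apply Finset.eq_of_subset_of_card_le
          · intro y hy; simp only [Finset.mem_insert, Finset.mem_singleton] at hy
            rcases hy with rfl | rfl
            · exact Finset.mem_inter.2 ⟨hcm, hc.1⟩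
            · exact Finset.mem_inter.2 ⟨hxm, hxK⟩
          · rw [hmK, Finset.card_pair (Ne.symm hxc)]
        have hxH : x ∉ H := by
          intro hxH
          have hsub : ({f, c, x} : Finset α) ⊆ m ∩ H := by
            intro y hy; simp only [Finset.mem_insert, Finset.mem_singleton] at hy
            rcases hy with rfl | rfl | rfl
            · exact Finset.mem_inter.2 ⟨hfm, hfH.1⟩
            · exact Finset.mem_inter.2 ⟨hcm, hc.2⟩
            · exact Finset.mem_inter.2 ⟨hxm, hxH⟩
          have hc3 : ({f, c, x} : Finset α).card = 3 := by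
            rw [Finset.card_insert_of_notMem, Finset.card_pair (Ne.symm hxc)]
            simp only [Finset.mem_insert, Finset.mem_singleton]
            rintro (hh | hh)
            · exact hfc hh
            · exact hfH.2 (hh ▸ hxK)
          have h1 := Finset.card_le_card hsub
          have h2 := hH.ind m hm
          omega
        refine ⟨x, Finset.mem_sdiff.2 ⟨hxK, hxH⟩, ?_, m, hm, hfm, hcm, hxm⟩
        have hm1 : m.image e1 ∈ Lf' := by rw [← he1]; exact Finset.mem_image_of_mem _ hm
        have hm2 : m.image e2 ∈ Lf' := by rw [← he2]; exact Finset.mem_image_of_mem _ hm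
        have hc12 := hT c (Finset.mem_inter.2 hc)
        have hmeq : m.image e1 = m.image e2 := by
          apply line_unique hP' hm1 hm2 (x := e1 f) (y := e1 c)
            (fun hh => hfc (e1.injective hh))
          · exact Finset.mem_image_of_mem _ hfm
          · exact Finset.mem_image_of_mem _ hcm
          · rw [hf12]; exact Finset.mem_image_of_mem _ hfm
          · rw [hc12]; exact Finset.mem_image_of_mem _ hcm
        have h2x : e2 x ∈ (m ∩ K).image e1 := by
          rw [Finset.image_inter _ _ e1.injective, hmeq, heq]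
          exact Finset.mem_inter.2
            ⟨Finset.mem_image_of_mem _ hxm, Finset.mem_image_of_mem _ hxK⟩
        rw [hmKeq, Finset.mem_image] at h2x
        obtain ⟨y, hy, hye⟩ := h2x
        simp only [Finset.mem_insert, Finset.mem_singleton] at hy
        rcases hy with rfl | rfl
        · exfalso
          rw [hc12] at hye
          exact hxc (e2.injective hye).symm
        · exact hye
      choose! g hg using hex
      have hginj : Set.InjOn g ↑(K ∩ H) := by
        intro c hc c' hc' hgc
        rw [Finset.mem_coe] at hc hc'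
        by_contra hne
        obtain ⟨hx1, -, m, hm, hfm, hcm, hxm⟩ := hg c hc
        obtain ⟨hx2, -, m', hm', hfm', hcm', hxm'⟩ := hg c' hc'
        rw [← hgc] at hxm'
        have hfx : f ≠ g c := fun hh => (Finset.mem_sdiff.1 hx1).2 (hh ▸ hfH.1)
        have hmm : m = m' := line_unique hP hm hm' hfx hfm hxm hfm' hxm'
        rw [← hmm] at hcm'
        rw [Finset.mem_inter] at hc hc'
        have hfc : f ≠ c := fun hh => hfH.2 (hh ▸ hc.1)
        have hfc' : f ≠ c' := fun hh => hfH.2 (hh ▸ hc'.1)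
        have hsub : ({f, c, c'} : Finset α) ⊆ m ∩ H := by
          intro y hy; simp only [Finset.mem_insert, Finset.mem_singleton] at hy
          rcases hy with rfl | rfl | rfl
          · exact Finset.mem_inter.2 ⟨hfm, hfH.1⟩
          · exact Finset.mem_inter.2 ⟨hcm, hc.2⟩
          · exact Finset.mem_inter.2 ⟨hcm', hc'.2⟩
        have hc3 : ({f, c, c'} : Finset α).card = 3 := by
          rw [Finset.card_insert_of_notMem, Finset.card_pair hne]
          simp only [Finset.mem_insert, Finset.mem_singleton]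
          rintro (hh | hh)
          · exact hfc hh
          · exact hfc' hh
        have h1 := Finset.card_le_card hsub
        have h2 := hH.ind m hm
        omega
      have himg : (K ∩ H).image g = K \ H := by
        apply Finset.eq_of_subset_of_card_le
        · intro x hx
          obtain ⟨c, hc, rfl⟩ := Finset.mem_image.1 hx
          exact (hg c hc).1
        · rw [Finset.card_image_of_injOn hginj, hKH]
          have := Finset.card_sdiff_add_card_inter K H
          rw [hK.card, hKH] at this; omega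
      intro x hx
      by_cases hxH : x ∈ H
      · exact hT x (Finset.mem_inter.2 ⟨hx, hxH⟩)
      · have : x ∈ (K ∩ H).image g := by rw [himg]; exact Finset.mem_sdiff.2 ⟨hx, hxH⟩
        obtain ⟨c, hc, rfl⟩ := Finset.mem_image.1 this
        exact (hg c hc).2.1
    have := iso_unique_on_oval hP he1 he2 hK hK12
    exact hne12 (by rw [this])
  have hK1o := S24.image_hyperoval he1 hK
  have hK1 : K.image e1 ∈ lev Lf' 6 := by rw [mem_lev]; exact ⟨hK1o.card, hK1o.ind⟩
  have hK2o := S24.image_hyperoval he2 hK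
  have hge : 3 ≤ (K.image e1 ∩ K.image e2).card := by
    have hsub : (K ∩ H).image e1 ⊆ K.image e1 ∩ K.image e2 := by
      intro y hy
      obtain ⟨x, hx, rfl⟩ := Finset.mem_image.1 hy
      rw [Finset.mem_inter]
      refine ⟨Finset.mem_image_of_mem _ (Finset.mem_inter.1 hx).1, ?_⟩
      rw [hT x hx]; exact Finset.mem_image_of_mem _ (Finset.mem_inter.1 hx).1
    have := Finset.card_le_card hsub
    rw [Finset.card_image_of_injective _ e1.injective, hKH] at this
    exact this
  have hle : (K.image e1 ∩ K.image e2).card ≤ 3 := by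
    by_contra hcon
    push Not at hcon
    exact hdist (oval_eq_of_inter hP' hK2o hK1 (by omega))
  omega

end PlaneLemmas

section Core

variable {α : Type*} [Fintype α] [DecidableEq α]

/-- the `α`-parts of the blocks whose `Fin 2`-part is `J` -/
def cls (D : Finset (Finset (Fin 2 ⊕ α))) (J : Finset (Fin 2)) : Finset (Finset α) :=
  Finset.univ.filter (fun S => J.disjSum S ∈ D)

variable {D : Finset (Finset (Fin 2 ⊕ α))}

lemma mem_cls {J : Finset (Fin 2)} {S : Finset α} : S ∈ cls D J ↔ J.disjSum S ∈ D := by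
  simp [cls]

lemma card_inter_disjSum (J J' : Finset (Fin 2)) (S S' : Finset α) :
    (J.disjSum S ∩ J'.disjSum S').card = (J ∩ J').card + (S ∩ S').card := by
  rw [← Finset.card_toLeft_add_card_toRight, Finset.toLeft_inter, Finset.toRight_inter]
  simp only [Finset.toLeft_disjSum, Finset.toRight_disjSum]

lemma card_alpha (h : IsS23 D) : Fintype.card α = 21 := by
  have := h.card
  rw [Fintype.card_sum, Fintype.card_fin] at this
  omega

lemma cls_card_elem (h : IsS23 D) {J : Finset (Fin 2)} {S : Finset α} (hS : S ∈ cls D J) :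
    J.card + S.card = 7 := by
  have := h.k _ (mem_cls.1 hS)
  rwa [Finset.card_disjSum] at this

lemma fin2_card1_ne : ∀ J : Finset (Fin 2), J.card = 1 → J ≠ Finset.univ := by decide

lemma fin2_inter : ∀ J J' : Finset (Fin 2), J.card = 1 → J'.card = 1 → J ≠ J' →
    (J ∩ J').card = 0 := by decide

lemma fin2_sub : ∀ J K : Finset (Fin 2), J.card = 1 → J ⊆ K → K = J ∨ K = Finset.univ := by
  decide

lemma fin2_cases : ∀ J : Finset (Fin 2), J = Finset.univ ∨ J.card = 1 ∨ J = ∅ := by decide

lemma fin2_card1 : ∀ J : Finset (Fin 2), J.card = 1 → J = {0} ∨ J = {1} := by decide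

theorem isPlane4 (h : IsS23 D) : IsPlane4 (cls D Finset.univ) := by
  refine ⟨card_alpha h, ?_, ?_⟩
  · intro l hl
    have := cls_card_elem h hl
    rw [Finset.card_univ, Fintype.card_fin] at this
    omega
  · intro S hS
    have h5 := h.four ((Finset.univ : Finset (Fin 2)).disjSum S)
      (by rw [Finset.card_disjSum, hS, Finset.card_univ, Fintype.card_fin])
    unfold cnt at h5 ⊢
    rw [Finset.card_eq_one] at h5 ⊢
    obtain ⟨b, hb⟩ := h5
    have hbm : b ∈ D.filter (fun c => (Finset.univ : Finset (Fin 2)).disjSum S ⊆ c) := by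
      rw [hb]; exact Finset.mem_singleton_self b
    rw [Finset.mem_filter, Finset.disjSum_subset] at hbm
    have hbL : b.toLeft = Finset.univ := Finset.univ_subset_iff.1 hbm.2.1
    refine ⟨b.toRight, ?_⟩
    ext l
    rw [Finset.mem_filter, Finset.mem_singleton, mem_cls]
    constructor
    · rintro ⟨hl, hSl⟩
      have : (Finset.univ : Finset (Fin 2)).disjSum l ∈
          D.filter (fun c => (Finset.univ : Finset (Fin 2)).disjSum S ⊆ c) :=
        Finset.mem_filter.2 ⟨hl, Finset.disjSum_mono (Finset.Subset.refl _) hSl⟩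
      rw [hb, Finset.mem_singleton] at this
      rw [← this, Finset.toRight_disjSum]
    · rintro rfl
      have : (Finset.univ : Finset (Fin 2)).disjSum b.toRight = b := by
        rw [← hbL]; exact Finset.toLeft_disjSum_toRight
      rw [this]
      exact ⟨hbm.1, hbm.2.2⟩

lemma isHyperoval (h : IsS23 D) {J : Finset (Fin 2)} (hJ : J.card = 1) {K : Finset α}
    (hK : K ∈ cls D J) : IsHyperoval (cls D Finset.univ) K := by
  refine ⟨?_, ?_⟩
  · have := cls_card_elem h hK; omega
  · intro l hl
    have hne : (Finset.univ : Finset (Fin 2)).disjSum l ≠ J.disjSum K := by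
      intro heq
      have := congrArg Finset.toLeft heq
      rw [Finset.toLeft_disjSum, Finset.toLeft_disjSum] at this
      exact fin2_card1_ne J hJ this.symm
    have hc := h.meet (mem_cls.1 hK) (mem_cls.1 hl) hne
    rw [card_inter_disjSum, Finset.univ_inter, hJ] at hc
    omega

lemma cls_meet_same (h : IsS23 D) {J : Finset (Fin 2)} (hJ : J.card = 1) {H K : Finset α}
    (hH : H ∈ cls D J) (hK : K ∈ cls D J) :
    (K ∩ H).card = 0 ∨ (K ∩ H).card = 2 ∨ (K ∩ H).card = 6 := by
  by_cases hKH : K = H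
  · subst hKH
    rw [Finset.inter_self]
    right; right
    have := cls_card_elem h hK; omega
  · have hne : J.disjSum K ≠ J.disjSum H := by
      intro heq
      have := congrArg Finset.toRight heq
      rw [Finset.toRight_disjSum, Finset.toRight_disjSum] at this
      exact hKH this
    have hc := h.meet (mem_cls.1 hH) (mem_cls.1 hK) hne
    rw [card_inter_disjSum, Finset.inter_self, hJ] at hc
    omega

lemma cls_meet_diff (h : IsS23 D) {J J' : Finset (Fin 2)} (hJ : J.card = 1) (hJ' : J'.card = 1)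
    (hne : J ≠ J') {H K : Finset α} (hH : H ∈ cls D J) (hK : K ∈ cls D J') :
    (K ∩ H).card = 1 ∨ (K ∩ H).card = 3 := by
  have hne' : J'.disjSum K ≠ J.disjSum H := by
    intro heq
    have := congrArg Finset.toLeft heq
    rw [Finset.toLeft_disjSum, Finset.toLeft_disjSum] at this
    exact hne this.symm
  have hc := h.meet (mem_cls.1 hH) (mem_cls.1 hK) hne'
  rw [card_inter_disjSum, Finset.inter_comm, fin2_inter J J' hJ hJ' hne, zero_add] at hc
  exact hc

lemma cls_disjoint (h : IsS23 D) {J J' : Finset (Fin 2)} (hJ : J.card = 1) (hJ' : J'.card = 1)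
    (hne : J ≠ J') : Disjoint (cls D J) (cls D J') := by
  rw [Finset.disjoint_left]
  intro H hH hH'
  have h1 := cls_meet_diff h hJ hJ' hne hH hH'
  rw [Finset.inter_self] at h1
  have := cls_card_elem h hH
  omega

lemma card_cls (h : IsS23 D) {J : Finset (Fin 2)} (hJ : J.card = 1) : (cls D J).card = 56 := by
  have h1 : (D.filter (fun b => J ⊆ b.toLeft)).card = 77 := by
    have hc := h.one (J.disjSum (∅ : Finset α)) (by rw [Finset.card_disjSum, hJ]; simp)
    have : (D.filter (fun b => J ⊆ b.toLeft)) =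
        D.filter (fun b => J.disjSum (∅ : Finset α) ⊆ b) := by
      apply Finset.filter_congr
      intro b _
      rw [Finset.disjSum_subset]
      simp
    rw [this]; exact hc
  have h2 : (D.filter (fun b => b.toLeft = Finset.univ)).card = 21 := by
    have hc := h.two ((Finset.univ : Finset (Fin 2)).disjSum (∅ : Finset α))
      (by rw [Finset.card_disjSum]; simp)
    have : (D.filter (fun b => b.toLeft = Finset.univ)) =
        D.filter (fun b => (Finset.univ : Finset (Fin 2)).disjSum (∅ : Finset α) ⊆ b) := by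
      apply Finset.filter_congr
      intro b _
      rw [Finset.disjSum_subset, Finset.univ_subset_iff]
      simp
    rw [this]; exact hc
  have h3 : (D.filter (fun b => J ⊆ b.toLeft)) =
      (D.filter (fun b => b.toLeft = J)) ∪ (D.filter (fun b => b.toLeft = Finset.univ)) := by
    ext b
    simp only [Finset.mem_filter, Finset.mem_union]
    constructor
    · rintro ⟨hb, hJb⟩
      rcases fin2_sub J b.toLeft hJ hJb with h0 | h0
      · exact Or.inl ⟨hb, h0⟩
      · exact Or.inr ⟨hb, h0⟩
    · rintro (⟨hb, h0⟩ | ⟨hb, h0⟩)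
      · exact ⟨hb, h0 ▸ Finset.Subset.refl _⟩
      · exact ⟨hb, h0 ▸ Finset.subset_univ _⟩
  have h4 : Disjoint (D.filter (fun b => b.toLeft = J))
      (D.filter (fun b => b.toLeft = Finset.univ)) := by
    rw [Finset.disjoint_left]
    intro b hb hb'
    rw [Finset.mem_filter] at hb hb'
    exact fin2_card1_ne J hJ (hb.2.symm.trans hb'.2)
  have h5 : (D.filter (fun b => b.toLeft = J)).card = 56 := by
    have := Finset.card_union_of_disjoint h4
    rw [← h3, h1, h2] at this
    omega
  rw [← h5]
  apply Finset.card_bij' (fun S _ => J.disjSum S) (fun b _ => b.toRight)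
  · intro S hS
    rw [Finset.mem_filter]
    exact ⟨mem_cls.1 hS, Finset.toLeft_disjSum⟩
  · intro b hb
    rw [Finset.mem_filter] at hb
    rw [mem_cls, ← hb.2, Finset.toLeft_disjSum_toRight]
    exact hb.1
  · intro S hS
    exact Finset.toRight_disjSum
  · intro b hb
    rw [Finset.mem_filter] at hb
    rw [← hb.2]; exact Finset.toLeft_disjSum_toRight

lemma cls_sub_lev (h : IsS23 D) {J : Finset (Fin 2)} (hJ : J.card = 1) :
    cls D J ⊆ lev (cls D Finset.univ) 6 := by
  intro K hK
  have := isHyperoval h hJ hK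
  rw [mem_lev]; exact ⟨this.card, this.ind⟩

/-- the class of a member of `cls D J` is `cls D J` -/
lemma cl_eq_cls (h : IsS23 D) {J : Finset (Fin 2)} (hJ : J.card = 1) {Y : Finset α}
    (hY : Y ∈ cls D J) : cl (cls D Finset.univ) Y = cls D J := by
  symm
  apply Finset.eq_of_subset_of_card_le
  · intro X hX
    unfold cl
    rw [Finset.mem_filter]
    exact ⟨cls_sub_lev h hJ hX, cls_meet_same h hJ hY hX⟩
  · rw [card_cl (isPlane4 h) (isHyperoval h hJ hY), card_cls h hJ]

/-- two hyperovals outside both classes meet evenly -/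
lemma rest_even (h : IsS23 D) {X1 X2 : Finset α} (hX1 : X1 ∈ lev (cls D Finset.univ) 6)
    (hX2 : X2 ∈ lev (cls D Finset.univ) 6) (h1 : ∀ J : Finset (Fin 2), J.card = 1 → X1 ∉ cls D J)
    (h2 : ∀ J : Finset (Fin 2), J.card = 1 → X2 ∉ cls D J) :
    X2 ∈ cl (cls D Finset.univ) X1 := by
  have hP := isPlane4 h
  have hJ0 : ({0} : Finset (Fin 2)).card = 1 := rfl
  have hJ1 : ({1} : Finset (Fin 2)).card = 1 := rfl
  have hX1o : IsHyperoval (cls D Finset.univ) X1 := by
    rw [mem_lev] at hX1; exact ⟨hX1.1, hX1.2⟩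
  have hdis : Disjoint (cls D {0}) (cls D {1}) := cls_disjoint h hJ0 hJ1 (by decide)
  have hRcard : (lev (cls D Finset.univ) 6 \ (cls D {0} ∪ cls D {1})).card = 56 := by
    rw [Finset.card_sdiff_of_subset (Finset.union_subset (cls_sub_lev h hJ0) (cls_sub_lev h hJ1)),
      Finset.card_union_of_disjoint hdis, card_cls h hJ0, card_cls h hJ1, (lev_cards hP).2]
  have hsub : cl (cls D Finset.univ) X1 ⊆ lev (cls D Finset.univ) 6 \ (cls D {0} ∪ cls D {1}) := by
    intro Y hY
    have hY' := hY
    unfold cl at hY'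
    rw [Finset.mem_filter] at hY'
    rw [Finset.mem_sdiff, Finset.mem_union]
    refine ⟨hY'.1, ?_⟩
    have key : ∀ J : Finset (Fin 2), J.card = 1 → Y ∉ cls D J := by
      intro J hJ hYJ
      have hX1Y : X1 ∈ cl (cls D Finset.univ) Y := by
        unfold cl
        rw [Finset.mem_filter]
        refine ⟨hX1, ?_⟩
        rw [Finset.inter_comm]; exact hY'.2
      rw [cl_eq_cls h hJ hYJ] at hX1Y
      exact h1 J hJ hX1Y
    rintro (hh | hh)
    · exact key _ hJ0 hh
    · exact key _ hJ1 hh
  have heq := Finset.eq_of_subset_of_card_le hsub (by rw [hRcard, card_cl hP hX1o])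
  rw [heq, Finset.mem_sdiff, Finset.mem_union]
  refine ⟨hX2, ?_⟩
  rintro (hh | hh)
  · exact h2 _ hJ0 hh
  · exact h2 _ hJ1 hh

lemma baer_line (h : IsS23 D) {S : Finset α} (hS : S ∈ cls D ∅) {l : Finset α}
    (hl : l ∈ cls D Finset.univ) : (l ∩ S).card = 1 ∨ (l ∩ S).card = 3 := by
  have hne : (Finset.univ : Finset (Fin 2)).disjSum l ≠ (∅ : Finset (Fin 2)).disjSum S := by
    intro heq
    have := congrArg Finset.toLeft heq
    rw [Finset.toLeft_disjSum, Finset.toLeft_disjSum] at this
    exact absurd this (by decide)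
  have hc := h.meet (mem_cls.1 hS) (mem_cls.1 hl) hne
  rw [card_inter_disjSum, Finset.inter_empty, Finset.card_empty, zero_add] at hc
  exact hc

lemma baer_oval (h : IsS23 D) {J : Finset (Fin 2)} (hJ : J.card = 1) {S : Finset α}
    (hS : S ∈ cls D ∅) {H : Finset α} (hH : H ∈ cls D J) :
    (H ∩ S).card = 1 ∨ (H ∩ S).card = 3 := by
  have hne : J.disjSum H ≠ (∅ : Finset (Fin 2)).disjSum S := by
    intro heq
    have := congrArg Finset.toLeft heq
    rw [Finset.toLeft_disjSum, Finset.toLeft_disjSum] at this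
    rw [this] at hJ
    simp at hJ
  have hc := h.meet (mem_cls.1 hS) (mem_cls.1 hH) hne
  rw [card_inter_disjSum, Finset.inter_empty, Finset.card_empty, zero_add] at hc
  exact hc

lemma line_three (h : IsS23 D) {S : Finset α} (hS : S ∈ cls D ∅) {x y : α} (hx : x ∈ S)
    (hy : y ∈ S) (hxy : x ≠ y) {n : Finset α} (hn : n ∈ cls D Finset.univ) (hxn : x ∈ n)
    (hyn : y ∈ n) : (n ∩ S).card = 3 := by
  have h2 : 1 < (n ∩ S).card :=
    Finset.one_lt_card.2 ⟨x, Finset.mem_inter.2 ⟨hxn, hx⟩, y, Finset.mem_inter.2 ⟨hyn, hy⟩, hxy⟩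
  rcases baer_line h hS hn with h1 | h1
  · omega
  · exact h1

/-- two 3-lines of a Baer block meet inside it -/
lemma baer_meet (h : IsS23 D) {S : Finset α} (hS : S ∈ cls D ∅) {l m : Finset α}
    (hl : l ∈ cls D Finset.univ) (hm : m ∈ cls D Finset.univ) (hl3 : (l ∩ S).card = 3)
    (hm3 : (m ∩ S).card = 3) : ∃ x ∈ S, x ∈ l ∧ x ∈ m := by
  have hP := isPlane4 h
  by_contra hcon
  push Not at hcon
  have hS7 : S.card = 7 := by
    have := cls_card_elem h hS
    rw [Finset.card_empty] at this; omega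
  have hdisj : Disjoint (l ∩ S) (m ∩ S) := by
    rw [Finset.disjoint_left]; intro x hx hx'
    rw [Finset.mem_inter] at hx hx'
    exact hcon x hx.2 hx.1 hx'.1
  have hrest : (S \ ((l ∩ S) ∪ (m ∩ S))).card = 1 := by
    rw [Finset.card_sdiff_of_subset
      (Finset.union_subset Finset.inter_subset_right Finset.inter_subset_right),
      Finset.card_union_of_disjoint hdisj, hl3, hm3, hS7]
  obtain ⟨w, hw⟩ := Finset.card_eq_one.1 hrest
  obtain ⟨s, hs⟩ := Finset.card_pos.1 (by rw [hl3]; norm_num : 0 < (l ∩ S).card)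
  obtain ⟨s1, hs1, s2, hs2, hs12⟩ :=
    Finset.one_lt_card.1 (by rw [hm3]; norm_num : 1 < (m ∩ S).card)
  rw [Finset.mem_inter] at hs hs1 hs2
  have hsm : s ∉ m := hcon s hs.2 hs.1
  have key : ∀ s', s' ∈ m → s' ∈ S → ∀ n ∈ cls D Finset.univ, s ∈ n → s' ∈ n → w ∈ n := by
    intro s' hs'm hs'S n hn hsn hs'n
    have hss' : s ≠ s' := fun hh => hsm (hh ▸ hs'm)
    have hs'l : s' ∉ l := fun hh => hcon s' hs'S hh hs'm
    have hn3 := line_three h hS hs.2 hs'S hss' hn hsn hs'n
    obtain ⟨t, ht, hts, hts', -⟩ := third_point hn3 (Finset.mem_inter.2 ⟨hsn, hs.2⟩)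
      (Finset.mem_inter.2 ⟨hs'n, hs'S⟩) hss'
    rw [Finset.mem_inter] at ht
    have htl : t ∉ l := by
      intro htl
      have : n = l := line_unique hP hn hl (Ne.symm hts) hsn ht.1 hs.1 htl
      exact hs'l (this ▸ hs'n)
    have htm : t ∉ m := by
      intro htm
      have : n = m := line_unique hP hn hm (Ne.symm hts') hs'n ht.1 hs'm htm
      exact hsm (this ▸ hsn)
    have : t ∈ S \ ((l ∩ S) ∪ (m ∩ S)) := by
      simp only [Finset.mem_sdiff, Finset.mem_union, Finset.mem_inter]
      exact ⟨ht.2, by tauto⟩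
    rw [hw, Finset.mem_singleton] at this
    rw [← this]; exact ht.1
  have hsw : s ≠ w := by
    intro hh
    have : w ∈ S \ ((l ∩ S) ∪ (m ∩ S)) := by rw [hw]; exact Finset.mem_singleton_self w
    simp only [Finset.mem_sdiff, Finset.mem_union, Finset.mem_inter] at this
    exact this.2 (Or.inl ⟨hh ▸ hs.1, hh ▸ hs.2⟩)
  obtain ⟨n1, hn1, hsn1, hs1n1⟩ := exists_line hP (fun hh => hsm (hh ▸ hs1.1) : s ≠ s1)
  obtain ⟨n2, hn2, hsn2, hs2n2⟩ := exists_line hP (fun hh => hsm (hh ▸ hs2.1) : s ≠ s2)
  have hw1 := key s1 hs1.1 hs1.2 n1 hn1 hsn1 hs1n1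
  have hw2 := key s2 hs2.1 hs2.2 n2 hn2 hsn2 hs2n2
  have h12 : n1 = n2 := line_unique hP hn1 hn2 hsw hsn1 hw1 hsn2 hw2
  have : n1 = m := line_unique hP hn1 hm hs12 hs1n1 (h12 ▸ hs2n2) hs1.1 hs2.1
  exact hsm (this ▸ hsn1)

end Core

section Iso

variable {α : Type*} [Fintype α] [DecidableEq α] {D : Finset (Finset (Fin 2 ⊕ α))}
variable {β : Type*} [Fintype β] [DecidableEq β] {D' : Finset (Finset (Fin 2 ⊕ β))}

lemma class_image (h : IsS23 D) (h' : IsS23 D') {e : α ≃ β}
    (heL : (cls D Finset.univ).image (fun l => l.image e) = cls D' Finset.univ)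
    {J J' : Finset (Fin 2)} (hJ : J.card = 1) (hJ' : J'.card = 1) {X : Finset α}
    (hX : X ∈ cls D J) (hXe : X.image e ∈ cls D' J') :
    (cls D J).image (fun K => K.image e) = cls D' J' := by
  have hinj : Function.Injective (fun K : Finset α => K.image e) :=
    Finset.image_injective e.injective
  rw [← cl_eq_cls h' hJ' hXe]
  apply Finset.eq_of_subset_of_card_le
  · intro Y' hY'
    obtain ⟨Y, hY, rfl⟩ := Finset.mem_image.1 hY'
    unfold cl
    rw [Finset.mem_filter, mem_lev]
    have hYo := S24.image_hyperoval heL (isHyperoval h hJ hY)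
    refine ⟨⟨hYo.card, hYo.ind⟩, ?_⟩
    rw [← Finset.image_inter _ _ e.injective, Finset.card_image_of_injective _ e.injective]
    exact cls_meet_same h hJ hX hY
  · rw [card_cl (isPlane4 h') (isHyperoval h' hJ' hXe), Finset.card_image_of_injective _ hinj,
      card_cls h hJ]

lemma baer_image (h : IsS23 D) (h' : IsS23 D') {e : α ≃ β}
    (heL : (cls D Finset.univ).image (fun l => l.image e) = cls D' Finset.univ)
    (heO : ∀ J : Finset (Fin 2), J.card = 1 →
      (cls D J).image (fun K => K.image e) = cls D' J)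
    {S : Finset α} (hS : S ∈ cls D ∅) : S.image e ∈ cls D' ∅ := by
  have hP := isPlane4 h
  have hP' := isPlane4 h'
  have hS7 : S.card = 7 := by
    have := cls_card_elem h hS
    rw [Finset.card_empty] at this; omega
  obtain ⟨x0, hx0, y0, hy0, hxy0⟩ := Finset.one_lt_card.1 (by rw [hS7]; norm_num : 1 < S.card)
  obtain ⟨l, hl, hx0l, hy0l⟩ := exists_line hP hxy0
  have hl3 := line_three h hS hx0 hy0 hxy0 hl hx0l hy0l
  have hQ4 : (S \ l).card = 4 := by
    have := Finset.card_sdiff_add_card_inter S l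
    rw [hS7, Finset.inter_comm, hl3] at this; omega
  obtain ⟨b', hb', hsub'⟩ := h'.exists_block ((∅ : Finset (Fin 2)).disjSum ((S \ l).image e))
    (by rw [Finset.card_disjSum, Finset.card_empty, zero_add,
      Finset.card_image_of_injective _ e.injective, hQ4])
  rw [Finset.disjSum_subset] at hsub'
  have hdec' : b'.toLeft.disjSum b'.toRight = b' := Finset.toLeft_disjSum_toRight
  have hQind : ∀ n ∈ cls D Finset.univ, (n ∩ (S \ l)).card ≤ 2 := by
    intro n hn
    by_contra hcon
    push Not at hcon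
    have hsubQ : n ∩ (S \ l) ⊆ n ∩ S :=
      Finset.inter_subset_inter (Finset.Subset.refl n) Finset.sdiff_subset
    have hn3 : (n ∩ S).card = 3 := by
      rcases baer_line h hS hn with h1 | h1
      · have := Finset.card_le_card hsubQ; omega
      · exact h1
    obtain ⟨x, hxS, hxl, hxn⟩ := baer_meet h hS hl hn hl3 hn3
    have heq : n ∩ (S \ l) = n ∩ S := Finset.eq_of_subset_of_card_le hsubQ (by omega)
    have : x ∈ n ∩ (S \ l) := by rw [heq]; exact Finset.mem_inter.2 ⟨hxn, hxS⟩
    rw [Finset.mem_inter, Finset.mem_sdiff] at this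
    exact this.2.2 hxl
  have hpre : ∀ A : Finset α, (S \ l).image e ⊆ A.image e → S \ l ⊆ A := by
    intro A hA q hq
    have := hA (Finset.mem_image_of_mem _ hq)
    obtain ⟨q', hq', hqq⟩ := Finset.mem_image.1 this
    rw [← e.injective hqq]; exact hq'
  have hJ' : b'.toLeft = ∅ := by
    rcases fin2_cases b'.toLeft with hu | h1 | h0
    · exfalso
      have hmem : b'.toRight ∈ cls D' Finset.univ := by rw [mem_cls, ← hu, hdec']; exact hb'
      rw [← heL] at hmem
      obtain ⟨l0, hl0, hl0e⟩ := Finset.mem_image.1 hmem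
      have hQl0 : S \ l ⊆ l0 := hpre l0 (by rw [hl0e]; exact hsub'.2)
      have := hQind l0 hl0
      rw [Finset.inter_eq_right.2 hQl0, hQ4] at this
      omega
    · exfalso
      have hmem : b'.toRight ∈ cls D' b'.toLeft := by rw [mem_cls, hdec']; exact hb'
      rw [← heO _ h1] at hmem
      obtain ⟨H0, hH0, hH0e⟩ := Finset.mem_image.1 hmem
      have hQH0 : S \ l ⊆ H0 := hpre H0 (by rw [hH0e]; exact hsub'.2)
      have hc := baer_oval h h1 hS hH0
      have : 4 ≤ (H0 ∩ S).card := by
        rw [← hQ4]; apply Finset.card_le_card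
        intro q hq; exact Finset.mem_inter.2 ⟨hQH0 hq, (Finset.mem_sdiff.1 hq).1⟩
      omega
    · exact h0
  have hS' : b'.toRight ∈ cls D' ∅ := by rw [mem_cls, ← hJ', hdec']; exact hb'
  have hS'7 : b'.toRight.card = 7 := by
    have := cls_card_elem h' hS'
    rw [Finset.card_empty] at this; omega
  have heQ : ∀ t ∈ S \ l, e t ∈ b'.toRight :=
    fun t ht => hsub'.2 (Finset.mem_image_of_mem _ ht)
  have hsubS : S.image e ⊆ b'.toRight := by
    intro y hy
    obtain ⟨p, hp, rfl⟩ := Finset.mem_image.1 hy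
    by_cases hpl : p ∈ l
    · obtain ⟨q, hq⟩ := Finset.card_pos.1 (by rw [hQ4]; norm_num : 0 < (S \ l).card)
      have hqS : q ∈ S := (Finset.mem_sdiff.1 hq).1
      have hql : q ∉ l := (Finset.mem_sdiff.1 hq).2
      have hpq : p ≠ q := fun hh => hql (hh ▸ hpl)
      obtain ⟨m, hm, hpm, hqm⟩ := exists_line hP hpq
      have hm3 := line_three h hS hp hqS hpq hm hpm hqm
      obtain ⟨q', hq', hq'p, hq'q, hmS⟩ := third_point hm3 (Finset.mem_inter.2 ⟨hpm, hp⟩)
        (Finset.mem_inter.2 ⟨hqm, hqS⟩) hpq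
      rw [Finset.mem_inter] at hq'
      have hml : m ≠ l := fun hh => hql (hh ▸ hqm)
      have hq'l : q' ∉ l := by
        intro hh
        exact hml (line_unique hP hm hl (Ne.symm hq'p) hpm hq'.1 hpl hh)
      have hq'Q : q' ∈ S \ l := Finset.mem_sdiff.2 ⟨hq'.2, hq'l⟩
      have hrem : (((S \ l).erase q).erase q').card = 2 := by
        rw [Finset.card_erase_of_mem (Finset.mem_erase.2 ⟨hq'q, hq'Q⟩),
          Finset.card_erase_of_mem hq, hQ4]
      obtain ⟨r, r', hrr', hrem'⟩ := Finset.card_eq_two.1 hrem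
      have hr : r ∈ ((S \ l).erase q).erase q' := by rw [hrem']; simp
      have hr' : r' ∈ ((S \ l).erase q).erase q' := by rw [hrem']; simp
      rw [Finset.mem_erase, Finset.mem_erase] at hr hr'
      obtain ⟨hrq', hrq, hrQ⟩ := hr
      obtain ⟨hr'q', hr'q, hr'Q⟩ := hr'
      have hrS : r ∈ S := (Finset.mem_sdiff.1 hrQ).1
      have hr'S : r' ∈ S := (Finset.mem_sdiff.1 hr'Q).1
      obtain ⟨n, hn, hrn, hr'n⟩ := exists_line hP hrr'
      have hn3 := line_three h hS hrS hr'S hrr' hn hrn hr'n
      have hnot : ∀ t ∈ S \ l, t ≠ r → t ≠ r' → t ∉ n := by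
        intro t htQ htr htr' htn
        have hsub : ({t, r, r'} : Finset α) ⊆ n ∩ (S \ l) := by
          intro z hz; simp only [Finset.mem_insert, Finset.mem_singleton] at hz
          rcases hz with rfl | rfl | rfl
          · exact Finset.mem_inter.2 ⟨htn, htQ⟩
          · exact Finset.mem_inter.2 ⟨hrn, hrQ⟩
          · exact Finset.mem_inter.2 ⟨hr'n, hr'Q⟩
        have hc3 : ({t, r, r'} : Finset α).card = 3 := by
          rw [Finset.card_insert_of_notMem, Finset.card_pair hrr']
          simp only [Finset.mem_insert, Finset.mem_singleton]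
          rintro (hh | hh)
          · exact htr hh
          · exact htr' hh
        have h1 := Finset.card_le_card hsub
        have h2 := hQind n hn
        omega
      have hqn : q ∉ n := hnot q hq (Ne.symm hrq) (Ne.symm hr'q)
      have hq'n : q' ∉ n := hnot q' hq'Q (Ne.symm hrq') (Ne.symm hr'q')
      have hnm : n ≠ m := fun hh => hqn (hh ▸ hqm)
      obtain ⟨z, hzS, hzm, hzn⟩ := baer_meet h hS hm hn hm3 hn3
      have hzp : z = p := by
        rcases hmS z (Finset.mem_inter.2 ⟨hzm, hzS⟩) with hh | hh | hh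
        · exact hh
        · exact absurd (hh ▸ hzn) hqn
        · exact absurd (hh ▸ hzn) hq'n
      have hpn : p ∈ n := hzp ▸ hzn
      have hm' : m.image e ∈ cls D' Finset.univ := by
        rw [← heL]; exact Finset.mem_image_of_mem _ hm
      have hn' : n.image e ∈ cls D' Finset.univ := by
        rw [← heL]; exact Finset.mem_image_of_mem _ hn
      have hm'3 : (m.image e ∩ b'.toRight).card = 3 :=
        line_three h' hS' (heQ q hq) (heQ q' hq'Q) (fun hh => hq'q (e.injective hh).symm) hm'
          (Finset.mem_image_of_mem _ hqm) (Finset.mem_image_of_mem _ hq'.1)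
      have hn'3 : (n.image e ∩ b'.toRight).card = 3 :=
        line_three h' hS' (heQ r hrQ) (heQ r' hr'Q) (fun hh => hrr' (e.injective hh)) hn'
          (Finset.mem_image_of_mem _ hrn) (Finset.mem_image_of_mem _ hr'n)
      have hnm' : n.image e ≠ m.image e :=
        fun hh => hnm (Finset.image_injective e.injective hh)
      obtain ⟨z', hz'S, hz'm, hz'n⟩ := baer_meet h' hS' hm' hn' hm'3 hn'3
      have hmeet := hP'.meet hm' hn' hnm'
      have m1 : z' ∈ n.image e ∩ m.image e := Finset.mem_inter.2 ⟨hz'n, hz'm⟩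
      have m2 : e p ∈ n.image e ∩ m.image e :=
        Finset.mem_inter.2 ⟨Finset.mem_image_of_mem _ hpn, Finset.mem_image_of_mem _ hpm⟩
      have := Finset.card_le_one.1 (le_of_eq hmeet) _ m1 _ m2
      rw [← this]; exact hz'S
    · exact heQ p (Finset.mem_sdiff.2 ⟨hp, hpl⟩)
  have : S.image e = b'.toRight := Finset.eq_of_subset_of_card_le hsubS
    (by rw [hS'7, Finset.card_image_of_injective _ e.injective, hS7])
  rw [this]; exact hS'

lemma image_sumCongr_disjSum (e : α ≃ β) (J : Finset (Fin 2)) (S : Finset α) :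
    (J.disjSum S).image (Equiv.sumCongr (Equiv.refl (Fin 2)) e) = J.disjSum (S.image e) := by
  ext x
  cases x with
  | inl a =>
    simp only [Finset.mem_image, Finset.inl_mem_disjSum]
    constructor
    · rintro ⟨y, hy, hya⟩
      cases y with
      | inl c =>
        simp only [Equiv.sumCongr_apply, Sum.map_inl, Equiv.refl_apply, Sum.inl.injEq] at hya
        rw [← hya]; exact Finset.inl_mem_disjSum.1 hy
      | inr c => simp at hya
    · intro ha
      exact ⟨Sum.inl a, Finset.inl_mem_disjSum.2 ha, by simp⟩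
  | inr b => simp [Finset.mem_disjSum]

theorem core23 (h : IsS23 D) (h' : IsS23 D') :
    ∃ e : α ≃ β, D.image (fun b => b.image (Equiv.sumCongr (Equiv.refl (Fin 2)) e)) = D' := by
  have hP := isPlane4 h
  have hP' := isPlane4 h'
  have hJ0 : ({0} : Finset (Fin 2)).card = 1 := rfl
  have hJ1 : ({1} : Finset (Fin 2)).card = 1 := rfl
  have h01 : ({0} : Finset (Fin 2)) ≠ {1} := by decide
  obtain ⟨H, hH⟩ := Finset.card_pos.1 (by rw [card_cls h hJ0]; norm_num : 0 < (cls D {0}).card)
  obtain ⟨H', hH'⟩ :=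
    Finset.card_pos.1 (by rw [card_cls h' hJ0]; norm_num : 0 < (cls D' {0}).card)
  have hHo := isHyperoval h hJ0 hH
  have hHo' := isHyperoval h' hJ0 hH'
  obtain ⟨T, hTH, hT3⟩ :=
    Finset.exists_subset_card_eq (show 3 ≤ H.card by rw [hHo.card]; norm_num)
  obtain ⟨b, hb, hsub⟩ := h.exists_block (({1} : Finset (Fin 2)).disjSum T)
    (by rw [Finset.card_disjSum, hJ1, hT3])
  rw [Finset.disjSum_subset] at hsub
  have hge3 : 3 ≤ (b.toRight ∩ H).card := by
    rw [← hT3]; exact Finset.card_le_card (Finset.subset_inter hsub.2 hTH)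
  have hbL : b.toLeft = {1} := by
    rcases fin2_sub {1} b.toLeft hJ1 hsub.1 with h0 | h0
    · exact h0
    · exfalso
      have hmem : b.toRight ∈ cls D Finset.univ := by
        rw [mem_cls, ← h0, Finset.toLeft_disjSum_toRight]; exact hb
      have := hHo.ind _ hmem
      omega
  have hK : b.toRight ∈ cls D {1} := by
    rw [mem_cls, ← hbL, Finset.toLeft_disjSum_toRight]; exact hb
  have hKo := isHyperoval h hJ1 hK
  have hKH : (b.toRight ∩ H).card = 3 := by
    have hd := cls_meet_diff h hJ0 hJ1 h01 hH hK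
    omega
  obtain ⟨e1, e2, he1, he2, hH1, hH2, h12⟩ := two_isos hP hP' hHo hHo' hKo hKH
  have hO0 : ∀ e : α ≃ β, (cls D Finset.univ).image (fun l => l.image e) = cls D' Finset.univ →
      H.image e = H' → (cls D {0}).image (fun K => K.image e) = cls D' {0} := by
    intro e heL heH
    exact class_image h h' heL hJ0 hJ0 hH (heH ▸ hH')
  have hnot0 : ∀ e : α ≃ β, (cls D Finset.univ).image (fun l => l.image e) = cls D' Finset.univ →
      H.image e = H' → b.toRight.image e ∉ cls D' {0} := by
    intro e heL heH hmem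
    rw [← hO0 e heL heH] at hmem
    obtain ⟨Y, hY, hYe⟩ := Finset.mem_image.1 hmem
    have : Y = b.toRight := Finset.image_injective e.injective hYe
    rw [this] at hY
    exact Finset.disjoint_left.1 (cls_disjoint h hJ0 hJ1 h01) hY hK
  have hchoice : ∃ e : α ≃ β,
      (cls D Finset.univ).image (fun l => l.image e) = cls D' Finset.univ ∧
      H.image e = H' ∧ b.toRight.image e ∈ cls D' {1} := by
    by_cases hc1 : b.toRight.image e1 ∈ cls D' {1}
    · exact ⟨e1, he1, hH1, hc1⟩
    · by_cases hc2 : b.toRight.image e2 ∈ cls D' {1}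
      · exact ⟨e2, he2, hH2, hc2⟩
      · exfalso
        have hX1o := S24.image_hyperoval he1 hKo
        have hX2o := S24.image_hyperoval he2 hKo
        have hX1 : b.toRight.image e1 ∈ lev (cls D' Finset.univ) 6 := by
          rw [mem_lev]; exact ⟨hX1o.card, hX1o.ind⟩
        have hX2 : b.toRight.image e2 ∈ lev (cls D' Finset.univ) 6 := by
          rw [mem_lev]; exact ⟨hX2o.card, hX2o.ind⟩
        have hn1 : ∀ J : Finset (Fin 2), J.card = 1 → b.toRight.image e1 ∉ cls D' J := by
          intro J hJ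
          rcases fin2_card1 J hJ with rfl | rfl
          · exact hnot0 e1 he1 hH1
          · exact hc1
        have hn2 : ∀ J : Finset (Fin 2), J.card = 1 → b.toRight.image e2 ∉ cls D' J := by
          intro J hJ
          rcases fin2_card1 J hJ with rfl | rfl
          · exact hnot0 e2 he2 hH2
          · exact hc2
        have := rest_even h' hX1 hX2 hn1 hn2
        unfold cl at this
        rw [Finset.mem_filter, Finset.inter_comm, h12] at this
        omega
  obtain ⟨e, heL, heH, heK⟩ := hchoice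
  have hO1 := class_image h h' heL hJ1 hJ1 hK heK
  have heO : ∀ J : Finset (Fin 2), J.card = 1 →
      (cls D J).image (fun K => K.image e) = cls D' J := by
    intro J hJ
    rcases fin2_card1 J hJ with rfl | rfl
    · exact hO0 e heL heH
    · exact hO1
  refine ⟨e, ?_⟩
  apply Finset.eq_of_subset_of_card_le
  · intro b' hb'
    obtain ⟨o, ho, rfl⟩ := Finset.mem_image.1 hb'
    show o.image (Equiv.sumCongr (Equiv.refl (Fin 2)) e) ∈ D'
    have hdec : o = o.toLeft.disjSum o.toRight := Finset.toLeft_disjSum_toRight.symm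
    have hmem : o.toRight ∈ cls D o.toLeft := by
      rw [mem_cls, Finset.toLeft_disjSum_toRight]; exact ho
    rw [hdec, image_sumCongr_disjSum, ← mem_cls]
    rcases fin2_cases o.toLeft with hu | h1 | h0
    · rw [hu] at hmem ⊢; rw [← heL]; exact Finset.mem_image_of_mem _ hmem
    · rw [← heO _ h1]; exact Finset.mem_image_of_mem _ hmem
    · rw [h0] at hmem ⊢; exact baer_image h h' heL heO hmem
  · rw [Finset.card_image_of_injective _
      (Finset.image_injective (Equiv.sumCongr (Equiv.refl (Fin 2)) e).injective),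
      h.card_blocks, h'.card_blocks]

end Iso

section Transport

theorem isS23_transport {γ δ : Type*} [Fintype γ] [DecidableEq γ] [Fintype δ] [DecidableEq δ]
    (σ : γ ≃ δ) {Bf : Finset (Finset γ)} (hγ : Fintype.card γ = 23)
    (hk : ∀ b ∈ Bf, b.card = 7) (h4 : ∀ S : Finset γ, S.card = 4 → cnt Bf S = 1) :
    IsS23 (Bf.image (fun b => b.image σ)) := by
  refine ⟨by rw [← Fintype.card_congr σ, hγ], ?_, ?_⟩
  · intro b' hb'
    obtain ⟨b, hb, rfl⟩ := Finset.mem_image.1 hb'
    rw [Finset.card_image_of_injective _ σ.injective]; exact hk b hb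
  · intro S hS
    rw [S22.cnt_image_equiv]
    exact h4 _ (by rw [Finset.card_image_of_injective _ σ.symm.injective, hS])

theorem unique23 {γ γ' : Type*} [Fintype γ] [DecidableEq γ] [Fintype γ'] [DecidableEq γ']
    (hγ : Fintype.card γ = 23) (hγ' : Fintype.card γ' = 23) {B : Set (Finset γ)}
    {B' : Set (Finset γ')} (hB : Cfsg.IsSteinerSystem 4 7 B) (hB' : Cfsg.IsSteinerSystem 4 7 B') :
    Cfsg.SetSystemIso B B' := by
  have c1 : Fintype.card γ = Fintype.card (Fin 2 ⊕ Fin 21) := by rw [hγ]; simp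
  have c2 : Fintype.card γ' = Fintype.card (Fin 2 ⊕ Fin 21) := by rw [hγ']; simp
  let σ : γ ≃ Fin 2 ⊕ Fin 21 := Fintype.equivOfCardEq c1
  let σ' : γ' ≃ Fin 2 ⊕ Fin 21 := Fintype.equivOfCardEq c2
  have h := isS23_transport σ hγ (toF_card hB) (toF_cnt hB)
  have h' := isS23_transport σ' hγ' (toF_card hB') (toF_cnt hB')
  obtain ⟨e, he⟩ := core23 h h'
  exact S24.iso_of_transport σ σ' _ he

end Transport

end Cfsg.Agent.helper28.S23
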