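import Cfsg.Agent.Lib_helper28_AutT
import Cfsg.Agent.Lib_helper28_S23
import Cfsg.Agent.Lib_helper2_M24d
import Cfsg.Prelude.Def_Sporadic
set_option autoImplicit false

/-! Derived designs at a point of `Option α`; automorphisms of the derived design of an S(5,8,24)
extend; the automorphism group of any S(4,7,23) is a copy of M23 (given its simplicity). -/

namespace Cfsg.Agent.helper28.Aut23

open scoped Pointwise
open Cfsg.Agent.helper28.AutT Cfsg.Agent.helper2.Golay Cfsg.Agent.helper28.Design
open Cfsg.Agent.helper28.S24 Cfsg.Agent.helper28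

section Gen

/-- on a finite type, a permutation mapping blocks to blocks is an automorphism -/
lemma mem_aut_of_forall {γ : Type*} [Fintype γ] [DecidableEq γ] {B : Set (Finset γ)}
    {σ : Equiv.Perm γ} (h : ∀ b ∈ B, b.image σ ∈ B) : σ ∈ Cfsg.setSystemAut B := by
  rw [MulAction.mem_stabilizer_iff]
  apply Set.eq_of_subset_of_ncard_le
  · rintro c ⟨b, hb, rfl⟩
    exact h b hb
  · rw [← Set.image_smul, Set.ncard_image_of_injective _ (MulAction.injective σ)]
  · exact Set.toFinite B

lemma aut_forall {γ : Type*} [DecidableEq γ] {B : Set (Finset γ)}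
    {σ : Equiv.Perm γ} (h : σ ∈ Cfsg.setSystemAut B) : ∀ b ∈ B, b.image σ ∈ B := by
  intro b hb
  rw [MulAction.mem_stabilizer_iff] at h
  have : σ • b ∈ σ • B := Set.smul_mem_smul_set hb
  rw [h] at this
  exact this

variable {α : Type*} [Fintype α] [DecidableEq α]

/-- the derived system at the point `none` -/
def derived (B : Set (Finset (Option α))) : Set (Finset α) := {H | Finset.insertNone H ∈ B}

lemma mem_derived {B : Set (Finset (Option α))} {H : Finset α} :
    H ∈ derived B ↔ Finset.insertNone H ∈ B := Iff.rfl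

lemma derived_steiner {t k : ℕ} {B : Set (Finset (Option α))}
    (hB : Cfsg.IsSteinerSystem (t + 1) (k + 1) B) : Cfsg.IsSteinerSystem t k (derived B) := by
  refine ⟨?_, ?_⟩
  · intro H hH
    have := hB.1 _ hH
    rw [Finset.card_insertNone] at this
    omega
  · intro s hs
    obtain ⟨b, ⟨hbB, hsb⟩, hu⟩ := hB.2 (Finset.insertNone s) (by rw [Finset.card_insertNone, hs])
    have hnone : none ∈ b := hsb Finset.none_mem_insertNone
    refine ⟨Finset.eraseNone b, ⟨?_, ?_⟩, ?_⟩
    · show Finset.insertNone (Finset.eraseNone b) ∈ B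
      rw [S22.insertNone_eraseNone_of_mem hnone]; exact hbB
    · intro x hx
      rw [Finset.mem_eraseNone]
      exact hsb (Finset.some_mem_insertNone.2 hx)
    · rintro H' ⟨hH', hsH'⟩
      have := hu (Finset.insertNone H') ⟨hH', Finset.insertNone.monotone hsH'⟩
      rw [← this, Finset.eraseNone_insertNone]

/-- a block missing `none` is the symmetric difference of two blocks through `none` meeting in
four points -/
lemma decomp {B : Finset (Finset (Option α))} (h : IsS24 B) {O : Finset (Option α)} (hO : O ∈ B)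
    (hn : none ∉ O) :
    ∃ O1 ∈ B, ∃ O2 ∈ B, none ∈ O1 ∧ none ∈ O2 ∧ (O1 ∩ O2).card = 4 ∧
      (O1 \ O2) ∪ (O2 \ O1) = O := by
  have hO8 := h.k O hO
  obtain ⟨T, hTO, hT4⟩ := Finset.exists_subset_card_eq (s := O) (n := 4) (by omega)
  have hnT : none ∉ T := fun hh => hn (hTO hh)
  obtain ⟨O1, hO1, hS1⟩ := h.exists_block (insert none T)
    (by rw [Finset.card_insert_of_notMem hnT, hT4])
  have hn1 : none ∈ O1 := hS1 (Finset.mem_insert_self _ _)
  have hT1 : T ⊆ O1 := (Finset.subset_insert _ _).trans hS1
  have hne : O1 ≠ O := fun hh => hn (hh ▸ hn1)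
  have h4 : (O1 ∩ O).card = 4 := by
    have hge : 4 ≤ (O1 ∩ O).card := hT4 ▸ Finset.card_le_card (Finset.subset_inter hT1 hTO)
    rcases h.inter_ne hO1 hO hne with h0 | h0 | h0 <;> omega
  have hO2 := h.symmDiff_mem hO1 hO h4
  refine ⟨O1, hO1, (O1 \ O) ∪ (O \ O1), hO2, hn1, ?_, ?_, ?_⟩
  · exact Finset.mem_union_left _ (Finset.mem_sdiff.2 ⟨hn1, hn⟩)
  · have : O1 ∩ ((O1 \ O) ∪ (O \ O1)) = O1 \ O := by
      ext x; simp only [Finset.mem_inter, Finset.mem_union, Finset.mem_sdiff]; tauto
    rw [this]
    have := Finset.card_sdiff_add_card_inter O1 O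
    rw [h.k O1 hO1, h4] at this; omega
  · ext x; simp only [Finset.mem_union, Finset.mem_sdiff]; tauto

/-- automorphisms of the derived design of an S(5,8,24) extend -/
lemma ext_mem {B : Set (Finset (Option α))} (h : IsS24 (toF B)) {σ : Equiv.Perm α}
    (hσ : σ ∈ Cfsg.setSystemAut (derived B)) : Equiv.optionCongr σ ∈ Cfsg.setSystemAut B := by
  have hder : ∀ H ∈ derived B, H.image σ ∈ derived B := aut_forall hσ
  have hnone : ∀ b ∈ B, none ∈ b → b.image (Equiv.optionCongr σ) ∈ B := by
    intro b hb hn
    rw [← S22.insertNone_eraseNone_of_mem hn, S22.image_optionCongr_insertNone]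
    apply hder
    show Finset.insertNone (Finset.eraseNone b) ∈ B
    rw [S22.insertNone_eraseNone_of_mem hn]; exact hb
  apply mem_aut_of_forall
  intro b hb
  by_cases hn : none ∈ b
  · exact hnone b hb hn
  · obtain ⟨O1, hO1, O2, hO2, hn1, hn2, h4, rfl⟩ := decomp h ((mem_toF B b).2 hb) hn
    have hinj := (Equiv.optionCongr σ).injective
    rw [Finset.image_union, Finset.image_sdiff _ _ hinj, Finset.image_sdiff _ _ hinj]
    rw [← mem_toF]
    apply h.symmDiff_mem
    · rw [mem_toF]; exact hnone O1 ((mem_toF B O1).1 hO1) hn1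
    · rw [mem_toF]; exact hnone O2 ((mem_toF B O2).1 hO2) hn2
    · rw [← Finset.image_inter _ _ hinj, Finset.card_image_of_injective _ hinj, h4]

lemma optionCongr_removeNone {τ : Equiv.Perm (Option α)} (hτ : τ none = none) :
    Equiv.optionCongr (Equiv.removeNone τ) = τ := by
  apply Equiv.ext
  intro x
  cases x with
  | none => simp [hτ]
  | some x =>
    simp only [Equiv.optionCongr_apply, Option.map_some]
    apply Equiv.removeNone_some
    cases h : τ (some x) with
    | none =>
      exfalso
      have := τ.injective (h.trans hτ.symm)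
      cases this
    | some y => exact ⟨y, rfl⟩

lemma restr_mem {B : Set (Finset (Option α))} {τ : Equiv.Perm (Option α)}
    (hτ : τ ∈ Cfsg.setSystemAut B) (hn : τ none = none) :
    Equiv.removeNone τ ∈ Cfsg.setSystemAut (derived B) := by
  apply mem_aut_of_forall
  intro H hH
  show Finset.insertNone (H.image (Equiv.removeNone τ)) ∈ B
  rw [← S22.image_optionCongr_insertNone, optionCongr_removeNone hn]
  exact aut_forall hτ _ hH

/-- the automorphism group of the derived design is the point stabiliser -/
noncomputable def stabEquiv {B : Set (Finset (Option α))} (h : IsS24 (toF B))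
    (S : Subgroup (Equiv.Perm (Option α))) (hS : S = Cfsg.setSystemAut B) :
    Cfsg.setSystemAut (derived B) ≃* MulAction.stabilizer S (none : Option α) where
  toFun σ := ⟨⟨Equiv.optionCongr σ.1, hS ▸ ext_mem h σ.2⟩, by
    rw [MulAction.mem_stabilizer_iff]; rfl⟩
  invFun τ := ⟨Equiv.removeNone τ.1.1,
    restr_mem (hS ▸ τ.1.2) (MulAction.mem_stabilizer_iff.1 τ.2)⟩
  left_inv σ := Subtype.ext (Equiv.removeNone_optionCongr σ.1)
  right_inv τ := Subtype.ext (Subtype.ext
    (optionCongr_removeNone (MulAction.mem_stabilizer_iff.1 τ.2)))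
  map_mul' σ τ := by
    apply Subtype.ext; apply Subtype.ext
    apply Equiv.ext
    intro x
    cases x <;> simp

end Gen

section Model

lemma isS24_octads : IsS24 (toF Cfsg.octads) :=
  ⟨card_golayPt, toF_card octads_steiner, toF_cnt octads_steiner⟩

lemma derived_octads_steiner : Cfsg.IsSteinerSystem 4 7 (derived Cfsg.octads) :=
  derived_steiner octads_steiner

/-- the automorphism group of the derived design of the octads is 4-transitive -/
theorem derived_four_trans :
    MulAction.IsMultiplyPretransitive (Cfsg.setSystemAut (derived Cfsg.octads)) (ZMod 23) 4 := by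
  rw [MulAction.isMultiplyPretransitive_iff]
  intro x y
  have hx : (none : Cfsg.GolayPt) ∉ Set.range (x.trans Function.Embedding.some) := by
    rintro ⟨i, hi⟩; cases hi
  have hy : (none : Cfsg.GolayPt) ∉ Set.range (y.trans Function.Embedding.some) := by
    rintro ⟨i, hi⟩; cases hi
  let x' : Fin 5 ↪ Cfsg.GolayPt := (finSuccEquiv 4).toEmbedding.trans
    (Function.Embedding.optionElim (x.trans Function.Embedding.some) none hx)
  let y' : Fin 5 ↪ Cfsg.GolayPt := (finSuccEquiv 4).toEmbedding.trans
    (Function.Embedding.optionElim (y.trans Function.Embedding.some) none hy)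
  obtain ⟨g, hg⟩ := MulAction.isMultiplyPretransitive_iff.1 m24_five_transitive x' y'
  have hgn : g.1 none = none := by
    have := DFunLike.congr_fun hg 0
    simp [x', y'] at this
    exact this
  have hgs : ∀ i, g.1 (some (x i)) = some (y i) := by
    intro i
    have := DFunLike.congr_fun hg i.succ
    simp [x', y'] at this
    exact this
  have hg' : g.1 ∈ Cfsg.setSystemAut Cfsg.octads := M24_eq_aut_octads ▸ g.2
  refine ⟨⟨Equiv.removeNone g.1, restr_mem hg' hgn⟩, ?_⟩
  ext i
  apply Option.some_injective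
  show some (Equiv.removeNone g.1 (x i)) = some (y i)
  rw [Equiv.removeNone_some _ ⟨y i, hgs i⟩, hgs i]

theorem aut23 (hs : IsSimpleGroup (MulAction.stabilizer Cfsg.M24 (none : Cfsg.GolayPt)))
    {α : Type*} [Fintype α] [DecidableEq α]
    (hα : Fintype.card α = 23) {B : Set (Finset α)} (hB : Cfsg.IsSteinerSystem 4 7 B) :
    Cfsg.IsM23 (Cfsg.setSystemAut B) ∧
      MulAction.IsMultiplyPretransitive (Cfsg.setSystemAut B) α 4 := by
  have h23 : Fintype.card (ZMod 23) = 23 := ZMod.card 23
  obtain ⟨e, he⟩ := S23.unique23 hα h23 hB derived_octads_steiner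
  let φ := autCongr e he
  let χ := stabEquiv isS24_octads Cfsg.M24 M24_eq_aut_octads
  let ψ := φ.trans χ
  refine ⟨⟨ψ.isSimpleGroup, ?_⟩, ?_⟩
  · rw [Nat.card_congr ψ.toEquiv]; exact card_stab_point none
  · refine pretrans_transport e.symm φ.symm ?_ 4 derived_four_trans
    intro g a
    have h1 := autCongr_smul e he (φ.symm g) (e.symm a)
    rw [Equiv.apply_symm_apply, MulEquiv.apply_symm_apply] at h1
    rw [Equiv.symm_apply_eq, h1]

end Model

end Cfsg.Agent.helper28.Aut23
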