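import Cfsg.Agent.Lib_helper28_S22
set_option autoImplicit false

/-! Steiner systems S(5,8,24): intersection numbers, closure under symmetric differences of blocks
meeting in four points, the three classes of hyperovals of the triply derived plane, uniqueness. -/

namespace Cfsg.Agent.helper28.S24

open Finset Cfsg.Agent.S5625 Cfsg.Agent.helper28.Design Cfsg.Agent.helper28.Plane
open scoped symmDiff

section Basic

variable {γ : Type*} [Fintype γ] [DecidableEq γ]

/-- `Bf` is the block set of a Steiner system S(5,8,24) -/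
structure IsS24 (Bf : Finset (Finset γ)) : Prop where
  card : Fintype.card γ = 24
  k : ∀ b ∈ Bf, b.card = 8
  five : ∀ S : Finset γ, S.card = 5 → cnt Bf S = 1

variable {Bf : Finset (Finset γ)}

lemma IsS24.cnt_eq (h : IsS24 Bf) (S : Finset γ) (hS : S.card ≤ 5) : cnt Bf S = lam24 S.card :=
  cnt_le5 h.card Bf h.k h.five S hS

lemma IsS24.exists_block (h : IsS24 Bf) (S : Finset γ) (hS : S.card ≤ 5) : ∃ b ∈ Bf, S ⊆ b := by
  have h1 := h.cnt_eq S hS
  have hpos : 0 < cnt Bf S := by
    rw [h1]
    have hcases : S.card = 0 ∨ S.card = 1 ∨ S.card = 2 ∨ S.card = 3 ∨ S.card = 4 ∨ S.card = 5 := by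
      omega
    rcases hcases with h0 | h0 | h0 | h0 | h0 | h0 <;> rw [h0] <;> decide
  unfold cnt at hpos
  obtain ⟨b, hb⟩ := Finset.card_pos.1 hpos
  rw [Finset.mem_filter] at hb
  exact ⟨b, hb.1, hb.2⟩

lemma IsS24.block_unique (h : IsS24 Bf) {b c S : Finset γ} (hb : b ∈ Bf) (hc : c ∈ Bf)
    (hS : 5 ≤ S.card) (hSb : S ⊆ b) (hSc : S ⊆ c) : b = c := by
  obtain ⟨T, hTS, hT⟩ := Finset.exists_subset_card_eq hS
  have h1 := h.five T hT
  unfold cnt at h1
  rw [Finset.card_eq_one] at h1
  obtain ⟨d, hd⟩ := h1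
  have hb' : b ∈ Bf.filter (fun c => T ⊆ c) := Finset.mem_filter.2 ⟨hb, hTS.trans hSb⟩
  have hc' : c ∈ Bf.filter (fun c => T ⊆ c) := Finset.mem_filter.2 ⟨hc, hTS.trans hSc⟩
  rw [hd, Finset.mem_singleton] at hb' hc'
  rw [hb', hc']

lemma IsS24.inter_cases (h : IsS24 Bf) {b c : Finset γ} (hb : b ∈ Bf) (hc : c ∈ Bf) :
    (b ∩ c).card = 0 ∨ (b ∩ c).card = 2 ∨ (b ∩ c).card = 4 ∨ (b ∩ c).card = 8 := by
  have key := s5824 h.card Bf h.k h.five b hb (b ∩ c) Finset.inter_subset_left
  have hmem : c ∈ Bf.filter (fun c' => b ∩ c' = b ∩ c) := Finset.mem_filter.2 ⟨hc, rfl⟩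
  have hpos : (Bf.filter (fun c' => b ∩ c' = b ∩ c)).card ≠ 0 := Finset.card_ne_zero_of_mem hmem
  have hle : (b ∩ c).card ≤ 8 :=
    (Finset.card_le_card Finset.inter_subset_left).trans (h.k b hb).le
  obtain ⟨-, k1, -, k3, -, k5, k6, k7⟩ := key
  by_contra hcon
  push Not at hcon
  have hcases : (b ∩ c).card = 1 ∨ (b ∩ c).card = 3 ∨ (b ∩ c).card = 5 ∨ (b ∩ c).card = 6 ∨
      (b ∩ c).card = 7 := by omega
  rcases hcases with h1 | h1 | h1 | h1 | h1
  · exact hpos (k1 h1)
  · exact hpos (k3 h1)
  · exact hpos (k5 h1)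
  · exact hpos (k6 h1)
  · exact hpos (k7 h1)

lemma IsS24.inter_ne (h : IsS24 Bf) {b c : Finset γ} (hb : b ∈ Bf) (hc : c ∈ Bf) (hne : b ≠ c) :
    (b ∩ c).card = 0 ∨ (b ∩ c).card = 2 ∨ (b ∩ c).card = 4 := by
  rcases h.inter_cases hb hc with h0 | h0 | h0 | h0
  · exact Or.inl h0
  · exact Or.inr (Or.inl h0)
  · exact Or.inr (Or.inr h0)
  · exfalso
    apply hne
    have h1 : b ∩ c = b :=
      Finset.eq_of_subset_of_card_le Finset.inter_subset_left (by rw [h0, h.k b hb])
    have hbc : b ⊆ c := by rw [← h1]; exact Finset.inter_subset_right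
    exact Finset.eq_of_subset_of_card_le hbc (by rw [h.k b hb, h.k c hc])

/-- two distinct blocks sharing a 4-set meet exactly in it -/
lemma IsS24.inter_eq_of_four (h : IsS24 Bf) {b c S : Finset γ} (hb : b ∈ Bf) (hc : c ∈ Bf)
    (hne : b ≠ c) (hS : S.card = 4) (hSb : S ⊆ b) (hSc : S ⊆ c) : b ∩ c = S := by
  symm
  apply Finset.eq_of_subset_of_card_le (Finset.subset_inter hSb hSc)
  rcases h.inter_ne hb hc hne with h0 | h0 | h0 <;> rw [h0, hS] <;> norm_num

/-- at most one block through a 4-set `S` with `|S ∩ Z| = 1` meets the block `Z` in 4 points -/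
lemma IsS24.single_meet (h : IsS24 Bf) {Z O L S : Finset γ} (hZ : Z ∈ Bf) (hO : O ∈ Bf)
    (hL : L ∈ Bf) (hS : S.card = 4) (hSZ : (S ∩ Z).card = 1) (hSO : S ⊆ O) (hSL : S ⊆ L)
    (hOL : O ≠ L) (hOZ : (O ∩ Z).card = 4) (hLZ : (L ∩ Z).card = 4) : False := by
  have hOLS : O ∩ L = S := h.inter_eq_of_four hO hL hOL hS hSO hSL
  obtain ⟨a, ha⟩ := Finset.card_eq_one.1 hSZ
  have hunion : ((O ∩ Z) ∪ (L ∩ Z)).card = 7 := by
    have hint : (O ∩ Z) ∩ (L ∩ Z) = S ∩ Z := by
      rw [← hOLS]; ext x; simp only [Finset.mem_inter]; tauto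
    have := Finset.card_union_add_card_inter (O ∩ Z) (L ∩ Z)
    rw [hint, hSZ, hOZ, hLZ] at this
    omega
  have hrest : (Z \ ((O ∩ Z) ∪ (L ∩ Z))).card = 1 := by
    rw [Finset.card_sdiff_of_subset
      (Finset.union_subset Finset.inter_subset_right Finset.inter_subset_right), h.k Z hZ, hunion]
  obtain ⟨q, hq⟩ := Finset.card_eq_one.1 hrest
  have h5 := h.cnt_eq S (by rw [hS]; norm_num)
  rw [hS] at h5
  unfold cnt at h5
  set F := ((Bf.filter (fun c => S ⊆ c)).erase O).erase L with hF
  have hFcard : F.card = 3 := by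
    rw [hF, Finset.card_erase_of_mem, Finset.card_erase_of_mem, h5]
    · rfl
    · exact Finset.mem_filter.2 ⟨hO, hSO⟩
    · exact Finset.mem_erase.2 ⟨hOL.symm, Finset.mem_filter.2 ⟨hL, hSL⟩⟩
  have hFmem : ∀ c ∈ F, c ∈ Bf ∧ S ⊆ c ∧ c ≠ O ∧ c ≠ L := by
    intro c hc
    rw [hF, Finset.mem_erase, Finset.mem_erase, Finset.mem_filter] at hc
    exact ⟨hc.2.2.1, hc.2.2.2, hc.2.1, hc.1⟩
  have hall : ∀ c ∈ F, insert q S ⊆ c := by
    intro c hc
    obtain ⟨hcB, hSc, hcO, hcL⟩ := hFmem c hc
    have hcOS : c ∩ O = S := h.inter_eq_of_four hcB hO hcO hS hSc hSO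
    have hcLS : c ∩ L = S := h.inter_eq_of_four hcB hL hcL hS hSc hSL
    have ha_mem : a ∈ c ∩ Z := by
      have : a ∈ S ∩ Z := by rw [ha]; exact Finset.mem_singleton_self a
      rw [Finset.mem_inter] at this ⊢
      exact ⟨hSc this.1, this.2⟩
    have hsub : c ∩ Z ⊆ {a, q} := by
      intro x hx
      rw [Finset.mem_inter] at hx
      by_cases hxO : x ∈ O
      · have : x ∈ S ∩ Z := by
          rw [Finset.mem_inter]
          exact ⟨by rw [← hcOS]; exact Finset.mem_inter.2 ⟨hx.1, hxO⟩, hx.2⟩
        rw [ha, Finset.mem_singleton] at this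
        rw [this]; simp
      · by_cases hxL : x ∈ L
        · have : x ∈ S ∩ Z := by
            rw [Finset.mem_inter]
            exact ⟨by rw [← hcLS]; exact Finset.mem_inter.2 ⟨hx.1, hxL⟩, hx.2⟩
          rw [ha, Finset.mem_singleton] at this
          rw [this]; simp
        · have : x ∈ Z \ ((O ∩ Z) ∪ (L ∩ Z)) := by
            simp only [Finset.mem_sdiff, Finset.mem_union, Finset.mem_inter]; tauto
          rw [hq, Finset.mem_singleton] at this
          rw [this]; simp
    have hcZ := h.inter_cases hcB hZ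
    have hge : 1 ≤ (c ∩ Z).card := Finset.card_pos.2 ⟨a, ha_mem⟩
    have hle : (c ∩ Z).card ≤ 2 := (Finset.card_le_card hsub).trans Finset.card_le_two
    have h2 : (c ∩ Z).card = 2 := by omega
    have heq : c ∩ Z = {a, q} :=
      Finset.eq_of_subset_of_card_le hsub (by rw [h2]; exact Finset.card_le_two)
    have hqc : q ∈ c := by
      have : q ∈ c ∩ Z := by rw [heq]; simp
      exact (Finset.mem_inter.1 this).1
    exact Finset.insert_subset hqc hSc
  have hqS : q ∉ S := by
    intro hqS
    have : q ∈ Z \ ((O ∩ Z) ∪ (L ∩ Z)) := by rw [hq]; exact Finset.mem_singleton_self q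
    simp only [Finset.mem_sdiff, Finset.mem_union, Finset.mem_inter] at this
    exact this.2 (Or.inl ⟨hSO hqS, this.1⟩)
  have hle1 : F.card ≤ 1 := by
    rw [Finset.card_le_one]
    intro c hc d hd
    exact h.block_unique (hFmem c hc).1 (hFmem d hd).1 (S := insert q S)
      (by rw [Finset.card_insert_of_notMem hqS, hS]) (hall c hc) (hall d hd)
  omega

/-- the symmetric difference of two blocks meeting in four points is a block -/
theorem IsS24.symmDiff_mem (h : IsS24 Bf) {O O' : Finset γ} (hO : O ∈ Bf) (hO' : O' ∈ Bf)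
    (h4 : (O ∩ O').card = 4) : (O \ O') ∪ (O' \ O) ∈ Bf := by
  have hAcard : (O \ O').card = 4 := by
    have := Finset.card_sdiff_add_card_inter O O'
    rw [h.k O hO, h4] at this; omega
  have hA'card : (O' \ O).card = 4 := by
    have := Finset.card_sdiff_add_card_inter O' O
    rw [h.k O' hO', Finset.inter_comm, h4] at this; omega
  obtain ⟨a', ha'⟩ := Finset.card_pos.1 (by rw [hA'card]; norm_num : 0 < (O' \ O).card)
  have ha'O' : a' ∈ O' := (Finset.mem_sdiff.1 ha').1
  have ha'O : a' ∉ O := (Finset.mem_sdiff.1 ha').2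
  have ha'A : a' ∉ O \ O' := fun hh => ha'O (Finset.mem_sdiff.1 hh).1
  obtain ⟨Z, hZ, hAZ⟩ := h.exists_block (insert a' (O \ O'))
    (by rw [Finset.card_insert_of_notMem ha'A, hAcard])
  have hAsubZ : O \ O' ⊆ Z := (Finset.subset_insert _ _).trans hAZ
  have ha'Z : a' ∈ Z := hAZ (Finset.mem_insert_self _ _)
  have hZO : Z ≠ O := fun hh => ha'O (hh ▸ ha'Z)
  have hZOA : Z ∩ O = O \ O' :=
    h.inter_eq_of_four hZ hO hZO hAcard hAsubZ Finset.sdiff_subset
  have hTZ : ∀ x ∈ O ∩ O', x ∉ Z := by
    intro x hx hxZ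
    have : x ∈ Z ∩ O := Finset.mem_inter.2 ⟨hxZ, (Finset.mem_inter.1 hx).1⟩
    rw [hZOA] at this
    exact (Finset.mem_sdiff.1 this).2 (Finset.mem_inter.1 hx).2
  have hclaim : Z \ (O \ O') ⊆ O' \ O := by
    intro q hq
    rw [Finset.mem_sdiff] at hq
    by_contra hqA'
    have hqO : q ∉ O := by
      intro hqO
      have : q ∈ Z ∩ O := Finset.mem_inter.2 ⟨hq.1, hqO⟩
      rw [hZOA] at this
      exact hq.2 this
    have hqO' : q ∉ O' := fun hh => hqA' (Finset.mem_sdiff.2 ⟨hh, hqO⟩)
    have hqa' : q ≠ a' := fun hh => hqA' (hh ▸ ha')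
    obtain ⟨t, ht⟩ := Finset.card_pos.1 (by rw [h4]; norm_num : 0 < (O ∩ O').card)
    have hT3card : ((O ∩ O').erase t).card = 3 := by rw [Finset.card_erase_of_mem ht, h4]
    have hT3O : (O ∩ O').erase t ⊆ O := (Finset.erase_subset _ _).trans Finset.inter_subset_left
    have hT3O' : (O ∩ O').erase t ⊆ O' :=
      (Finset.erase_subset _ _).trans Finset.inter_subset_right
    have hcard5 : (insert a' (insert q ((O ∩ O').erase t))).card = 5 := by
      rw [Finset.card_insert_of_notMem, Finset.card_insert_of_notMem, hT3card]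
      · intro hh; exact hqO (hT3O hh)
      · intro hh
        rw [Finset.mem_insert] at hh
        rcases hh with hh | hh
        · exact hqa' hh.symm
        · exact ha'O (hT3O hh)
    obtain ⟨L, hL, h5L⟩ := h.exists_block _ hcard5.le
    have ha'L : a' ∈ L := h5L (Finset.mem_insert_self _ _)
    have hqL : q ∈ L := h5L (Finset.mem_insert_of_mem (Finset.mem_insert_self _ _))
    have hT3L : (O ∩ O').erase t ⊆ L :=
      fun x hx => h5L (Finset.mem_insert_of_mem (Finset.mem_insert_of_mem hx))
    have hLO : L ≠ O := fun hh => ha'O (hh ▸ ha'L)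
    have hLO4 : (L ∩ O).card = 4 := by
      have hge : 3 ≤ (L ∩ O).card := by
        rw [← hT3card]; exact Finset.card_le_card (Finset.subset_inter hT3L hT3O)
      rcases h.inter_ne hL hO hLO with h0 | h0 | h0 <;> omega
    have hex : ∃ x, x ∈ L ∩ O ∧ x ∉ (O ∩ O').erase t := by
      by_contra hcon
      push Not at hcon
      have hsub : L ∩ O ⊆ (O ∩ O').erase t := fun x hx => hcon x hx
      have := Finset.card_le_card hsub
      omega
    obtain ⟨x, hx, hxT3⟩ := hex
    rw [Finset.mem_inter] at hx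
    by_cases hxt : x = t
    · have hTL : O ∩ O' ⊆ L := by
        intro y hy
        by_cases hyt : y = t
        · rw [hyt, ← hxt]; exact hx.1
        · exact hT3L (Finset.mem_erase.2 ⟨hyt, hy⟩)
      have : L = O' := h.block_unique hL hO' (S := insert a' (O ∩ O')) (by
          rw [Finset.card_insert_of_notMem (fun hh => ha'O (Finset.mem_inter.1 hh).1), h4])
        (Finset.insert_subset ha'L hTL) (Finset.insert_subset ha'O' Finset.inter_subset_right)
      exact hqO' (this ▸ hqL)
    · have hxT : x ∉ O ∩ O' := fun hh => hxT3 (Finset.mem_erase.2 ⟨hxt, hh⟩)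
      have hxA : x ∈ O \ O' :=
        Finset.mem_sdiff.2 ⟨hx.2, fun hh => hxT (Finset.mem_inter.2 ⟨hx.2, hh⟩)⟩
      have hxZ : x ∈ Z := hAsubZ hxA
      have hScard : (insert x ((O ∩ O').erase t)).card = 4 := by
        rw [Finset.card_insert_of_notMem hxT3, hT3card]
      have hSO : insert x ((O ∩ O').erase t) ⊆ O := Finset.insert_subset hx.2 hT3O
      have hSL : insert x ((O ∩ O').erase t) ⊆ L := Finset.insert_subset hx.1 hT3L
      have hSZ : (insert x ((O ∩ O').erase t) ∩ Z).card = 1 := by
        rw [Finset.card_eq_one]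
        refine ⟨x, ?_⟩
        ext y
        simp only [Finset.mem_inter, Finset.mem_insert, Finset.mem_singleton]
        constructor
        · rintro ⟨hy | hy, hyZ⟩
          · exact hy
          · exact absurd hyZ (hTZ y (Finset.mem_of_mem_erase hy))
        · rintro rfl; exact ⟨Or.inl rfl, hxZ⟩
      have hOZ4 : (O ∩ Z).card = 4 := by rw [Finset.inter_comm, hZOA, hAcard]
      have hLZ : L ≠ Z := by
        intro hh
        obtain ⟨y, hy⟩ := Finset.card_pos.1
          (by rw [hT3card]; norm_num : 0 < ((O ∩ O').erase t).card)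
        exact hTZ y (Finset.mem_of_mem_erase hy) (hh ▸ hT3L hy)
      have hLZ4 : (L ∩ Z).card = 4 := by
        have hge : 3 ≤ (L ∩ Z).card := by
          have hsub : ({x, a', q} : Finset γ) ⊆ L ∩ Z := by
            intro y hy
            simp only [Finset.mem_insert, Finset.mem_singleton] at hy
            rcases hy with rfl | rfl | rfl
            · exact Finset.mem_inter.2 ⟨hx.1, hxZ⟩
            · exact Finset.mem_inter.2 ⟨ha'L, ha'Z⟩
            · exact Finset.mem_inter.2 ⟨hqL, hq.1⟩
          have hc3 : ({x, a', q} : Finset γ).card = 3 := by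
            rw [Finset.card_insert_of_notMem, Finset.card_insert_of_notMem, Finset.card_singleton]
            · rw [Finset.mem_singleton]; exact hqa'.symm
            · simp only [Finset.mem_insert, Finset.mem_singleton]
              rintro (hh | hh)
              · exact ha'O (hh ▸ hx.2)
              · exact hqO (hh ▸ hx.2)
          rw [← hc3]; exact Finset.card_le_card hsub
        rcases h.inter_ne hL hZ hLZ with h0 | h0 | h0 <;> omega
      exact h.single_meet hZ hO hL hScard hSZ hSO hSL hLO.symm hOZ4 hLZ4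
  have hZA4 : (Z \ (O \ O')).card = 4 := by
    rw [Finset.card_sdiff_of_subset hAsubZ, h.k Z hZ, hAcard]
  have hZA : Z \ (O \ O') = O' \ O :=
    Finset.eq_of_subset_of_card_le hclaim (by rw [hZA4, hA'card])
  have : Z = (O \ O') ∪ (O' \ O) := by rw [← hZA, Finset.union_sdiff_of_subset hAsubZ]
  rw [← this]
  exact hZ


lemma IsS24.card_blocks (h : IsS24 Bf) : Bf.card = 759 := by
  have h0 := h.cnt_eq ∅ (by simp)
  have hc : cnt Bf (∅ : Finset γ) = Bf.card := by
    unfold cnt
    congr 1
    ext b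
    simp
  rw [hc, Finset.card_empty] at h0
  exact h0

end Basic

section Core

variable {α : Type*} [Fintype α] [DecidableEq α]

/-- the `α`-parts of the blocks whose `Fin 3`-part is `J` -/
def cls (D : Finset (Finset (Fin 3 ⊕ α))) (J : Finset (Fin 3)) : Finset (Finset α) :=
  Finset.univ.filter (fun S => J.disjSum S ∈ D)

variable {D : Finset (Finset (Fin 3 ⊕ α))}

lemma mem_cls {J : Finset (Fin 3)} {S : Finset α} : S ∈ cls D J ↔ J.disjSum S ∈ D := by
  simp [cls]

lemma card_inter_disjSum (J J' : Finset (Fin 3)) (S S' : Finset α) :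
    (J.disjSum S ∩ J'.disjSum S').card = (J ∩ J').card + (S ∩ S').card := by
  rw [← Finset.card_toLeft_add_card_toRight, Finset.toLeft_inter, Finset.toRight_inter]
  simp only [Finset.toLeft_disjSum, Finset.toRight_disjSum]

lemma card_alpha (h : IsS24 D) : Fintype.card α = 21 := by
  have := h.card
  rw [Fintype.card_sum, Fintype.card_fin] at this
  omega

lemma cls_card_elem (h : IsS24 D) {J : Finset (Fin 3)} {S : Finset α} (hS : S ∈ cls D J) :
    J.card + S.card = 8 := by
  have := h.k _ (mem_cls.1 hS)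
  rwa [Finset.card_disjSum] at this

theorem isPlane4 (h : IsS24 D) : IsPlane4 (cls D Finset.univ) := by
  refine ⟨card_alpha h, ?_, ?_⟩
  · intro l hl
    have := cls_card_elem h hl
    rw [Finset.card_univ, Fintype.card_fin] at this
    omega
  · intro S hS
    have h5 := h.five ((Finset.univ : Finset (Fin 3)).disjSum S)
      (by rw [Finset.card_disjSum, hS, Finset.card_univ, Fintype.card_fin])
    unfold cnt at h5 ⊢
    rw [Finset.card_eq_one] at h5 ⊢
    obtain ⟨b, hb⟩ := h5
    have hbm : b ∈ D.filter (fun c => (Finset.univ : Finset (Fin 3)).disjSum S ⊆ c) := by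
      rw [hb]; exact Finset.mem_singleton_self b
    rw [Finset.mem_filter, Finset.disjSum_subset] at hbm
    have hbL : b.toLeft = Finset.univ := Finset.univ_subset_iff.1 hbm.2.1
    refine ⟨b.toRight, ?_⟩
    ext l
    rw [Finset.mem_filter, Finset.mem_singleton, mem_cls]
    constructor
    · rintro ⟨hl, hSl⟩
      have : (Finset.univ : Finset (Fin 3)).disjSum l ∈
          D.filter (fun c => (Finset.univ : Finset (Fin 3)).disjSum S ⊆ c) :=
        Finset.mem_filter.2 ⟨hl, Finset.disjSum_mono (Finset.Subset.refl _) hSl⟩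
      rw [hb, Finset.mem_singleton] at this
      rw [← this, Finset.toRight_disjSum]
    · rintro rfl
      have : (Finset.univ : Finset (Fin 3)).disjSum b.toRight = b := by
        rw [← hbL]; exact Finset.toLeft_disjSum_toRight
      rw [this]
      exact ⟨hbm.1, hbm.2.2⟩

lemma fin3_card2 : ∀ J : Finset (Fin 3), J.card = 2 → J ≠ Finset.univ := by decide

lemma fin3_inter : ∀ J J' : Finset (Fin 3), J.card = 2 → J'.card = 2 → J ≠ J' →
    (J ∩ J').card = 1 := by decide

lemma fin3_sub : ∀ J K : Finset (Fin 3), J.card = 2 → J ⊆ K → K = J ∨ K = Finset.univ := by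
  decide

lemma fin3_two_sets : (Finset.powersetCard 2 (Finset.univ : Finset (Fin 3))).card = 3 := by
  decide

lemma fin3_compl : ∀ J : Finset (Fin 3), J.card = 2 → ∃ k, J = {k}ᶜ := by decide

lemma fin3_compl_card : ∀ k : Fin 3, ({k}ᶜ : Finset (Fin 3)).card = 2 := by decide

lemma fin3_compl_inj : ∀ k k' : Fin 3, ({k}ᶜ : Finset (Fin 3)) = {k'}ᶜ → k = k' := by decide

lemma fin3_ge2 : ∀ J : Finset (Fin 3), 2 ≤ J.card → J = Finset.univ ∨ ∃ k, J = {k}ᶜ := by decide

lemma isHyperoval (h : IsS24 D) {J : Finset (Fin 3)} (hJ : J.card = 2) {K : Finset α}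
    (hK : K ∈ cls D J) : IsHyperoval (cls D Finset.univ) K := by
  refine ⟨?_, ?_⟩
  · have := cls_card_elem h hK; omega
  · intro l hl
    have hne : (Finset.univ : Finset (Fin 3)).disjSum l ≠ J.disjSum K := by
      intro heq
      have := congrArg Finset.toLeft heq
      rw [Finset.toLeft_disjSum, Finset.toLeft_disjSum] at this
      exact fin3_card2 J hJ this.symm
    have hc := h.inter_ne (mem_cls.1 hl) (mem_cls.1 hK) hne
    rw [card_inter_disjSum, Finset.univ_inter, hJ] at hc
    omega

lemma cls_meet_same (h : IsS24 D) {J : Finset (Fin 3)} (hJ : J.card = 2) {H K : Finset α}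
    (hH : H ∈ cls D J) (hK : K ∈ cls D J) :
    (K ∩ H).card = 0 ∨ (K ∩ H).card = 2 ∨ (K ∩ H).card = 6 := by
  by_cases hKH : K = H
  · subst hKH
    rw [Finset.inter_self]
    right; right
    have := cls_card_elem h hK; omega
  · have hne : J.disjSum K ≠ J.disjSum H := by
      intro heq
      have := congrArg Finset.toRight heq
      rw [Finset.toRight_disjSum, Finset.toRight_disjSum] at this
      exact hKH this
    have hc := h.inter_ne (mem_cls.1 hK) (mem_cls.1 hH) hne
    rw [card_inter_disjSum, Finset.inter_self, hJ] at hc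
    omega

lemma cls_meet_diff (h : IsS24 D) {J J' : Finset (Fin 3)} (hJ : J.card = 2) (hJ' : J'.card = 2)
    (hne : J ≠ J') {H K : Finset α} (hH : H ∈ cls D J) (hK : K ∈ cls D J') :
    (K ∩ H).card = 1 ∨ (K ∩ H).card = 3 := by
  have hne' : J'.disjSum K ≠ J.disjSum H := by
    intro heq
    have := congrArg Finset.toLeft heq
    rw [Finset.toLeft_disjSum, Finset.toLeft_disjSum] at this
    exact hne this.symm
  have hc := h.inter_ne (mem_cls.1 hK) (mem_cls.1 hH) hne'
  rw [card_inter_disjSum, Finset.inter_comm, fin3_inter J J' hJ hJ' hne] at hc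
  omega

lemma cls_disjoint (h : IsS24 D) {J J' : Finset (Fin 3)} (hJ : J.card = 2) (hJ' : J'.card = 2)
    (hne : J ≠ J') : Disjoint (cls D J) (cls D J') := by
  rw [Finset.disjoint_left]
  intro H hH hH'
  have h1 := cls_meet_diff h hJ hJ' hne hH hH'
  rw [Finset.inter_self] at h1
  have := cls_card_elem h hH
  omega

lemma card_cls (h : IsS24 D) {J : Finset (Fin 3)} (hJ : J.card = 2) : (cls D J).card = 56 := by
  have h1 : (D.filter (fun b => J ⊆ b.toLeft)).card = 77 := by
    have hc := h.cnt_eq (J.disjSum (∅ : Finset α)) (by rw [Finset.card_disjSum, hJ]; simp)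
    rw [Finset.card_disjSum, hJ, Finset.card_empty] at hc
    have : (D.filter (fun b => J ⊆ b.toLeft)) =
        D.filter (fun b => J.disjSum (∅ : Finset α) ⊆ b) := by
      apply Finset.filter_congr
      intro b _
      rw [Finset.disjSum_subset]
      simp
    rw [this]; exact hc
  have h2 : (D.filter (fun b => b.toLeft = Finset.univ)).card = 21 := by
    have hc := h.cnt_eq ((Finset.univ : Finset (Fin 3)).disjSum (∅ : Finset α))
      (by rw [Finset.card_disjSum]; simp)
    rw [Finset.card_disjSum, Finset.card_univ, Fintype.card_fin, Finset.card_empty] at hc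
    have : (D.filter (fun b => b.toLeft = Finset.univ)) =
        D.filter (fun b => (Finset.univ : Finset (Fin 3)).disjSum (∅ : Finset α) ⊆ b) := by
      apply Finset.filter_congr
      intro b _
      rw [Finset.disjSum_subset, Finset.univ_subset_iff]
      simp
    rw [this]; exact hc
  have h3 : (D.filter (fun b => J ⊆ b.toLeft)) =
      (D.filter (fun b => b.toLeft = J)) ∪ (D.filter (fun b => b.toLeft = Finset.univ)) := by
    ext b
    simp only [Finset.mem_filter, Finset.mem_union]
    constructor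
    · rintro ⟨hb, hJb⟩
      rcases fin3_sub J b.toLeft hJ hJb with h0 | h0
      · exact Or.inl ⟨hb, h0⟩
      · exact Or.inr ⟨hb, h0⟩
    · rintro (⟨hb, h0⟩ | ⟨hb, h0⟩)
      · exact ⟨hb, h0 ▸ Finset.Subset.refl _⟩
      · exact ⟨hb, h0 ▸ Finset.subset_univ _⟩
  have h4 : Disjoint (D.filter (fun b => b.toLeft = J))
      (D.filter (fun b => b.toLeft = Finset.univ)) := by
    rw [Finset.disjoint_left]
    intro b hb hb'
    rw [Finset.mem_filter] at hb hb'
    exact fin3_card2 J hJ (hb.2.symm.trans hb'.2)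
  have h5 : (D.filter (fun b => b.toLeft = J)).card = 56 := by
    have := Finset.card_union_of_disjoint h4
    rw [← h3, h1, h2] at this
    omega
  rw [← h5]
  apply Finset.card_bij' (fun S _ => J.disjSum S) (fun b _ => b.toRight)
  · intro S hS
    rw [Finset.mem_filter]
    exact ⟨mem_cls.1 hS, Finset.toLeft_disjSum⟩
  · intro b hb
    rw [Finset.mem_filter] at hb
    rw [mem_cls, ← hb.2, Finset.toLeft_disjSum_toRight]
    exact hb.1
  · intro S hS
    exact Finset.toRight_disjSum
  · intro b hb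
    rw [Finset.mem_filter] at hb
    rw [← hb.2]; exact Finset.toLeft_disjSum_toRight

lemma lev_eq_biUnion (h : IsS24 D) : lev (cls D Finset.univ) 6 =
    (Finset.powersetCard 2 (Finset.univ : Finset (Fin 3))).biUnion (cls D) := by
  symm
  apply Finset.eq_of_subset_of_card_le
  · intro K hK
    rw [Finset.mem_biUnion] at hK
    obtain ⟨J, hJ, hKJ⟩ := hK
    rw [Finset.mem_powersetCard] at hJ
    have := isHyperoval h hJ.2 hKJ
    rw [mem_lev]; exact ⟨this.card, this.ind⟩
  · rw [(lev_cards (isPlane4 h)).2, Finset.card_biUnion]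
    · rw [Finset.sum_congr rfl (fun J hJ => card_cls h (Finset.mem_powersetCard.1 hJ).2),
        Finset.sum_const, fin3_two_sets]
      norm_num
    · intro J hJ J' hJ' hne
      rw [Finset.mem_coe] at hJ hJ'
      exact cls_disjoint h (Finset.mem_powersetCard.1 hJ).2 (Finset.mem_powersetCard.1 hJ').2 hne

variable {β : Type*} [Fintype β] [DecidableEq β] {D' : Finset (Finset (Fin 3 ⊕ β))}

lemma image_hyperoval {e : α ≃ β} {Lf : Finset (Finset α)} {Lf' : Finset (Finset β)}
    (he : Lf.image (fun l => l.image e) = Lf') {K : Finset α} (hK : IsHyperoval Lf K) :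
    IsHyperoval Lf' (K.image e) := by
  refine ⟨by rw [Finset.card_image_of_injective _ e.injective]; exact hK.card, ?_⟩
  intro l' hl'
  rw [← he] at hl'
  obtain ⟨l, hl, rfl⟩ := Finset.mem_image.1 hl'
  rw [← Finset.image_inter _ _ e.injective, Finset.card_image_of_injective _ e.injective]
  exact hK.ind l hl

lemma cls_image (h : IsS24 D) (h' : IsS24 D') {e : α ≃ β}
    (he : (cls D Finset.univ).image (fun l => l.image e) = cls D' Finset.univ)
    {J : Finset (Fin 3)} (hJ : J.card = 2) :
    ∃ J' : Finset (Fin 3), J'.card = 2 ∧ (cls D J).image (fun K => K.image e) = cls D' J' := by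
  obtain ⟨K, hK⟩ := Finset.card_pos.1 (by rw [card_cls h hJ]; norm_num : 0 < (cls D J).card)
  have hKo := isHyperoval h hJ hK
  have hKo' := image_hyperoval he hKo
  have hmem : K.image e ∈ lev (cls D' Finset.univ) 6 := by
    rw [mem_lev]; exact ⟨hKo'.card, hKo'.ind⟩
  rw [lev_eq_biUnion h', Finset.mem_biUnion] at hmem
  obtain ⟨J', hJ', hKJ'⟩ := hmem
  rw [Finset.mem_powersetCard] at hJ'
  refine ⟨J', hJ'.2, ?_⟩
  have hP' := isPlane4 h'
  have hEcard := even_ovals hP' hKo'
  have hinj : Function.Injective (fun K : Finset α => K.image e) :=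
    Finset.image_injective e.injective
  have h1 : (cls D J).image (fun K => K.image e) ⊆ (lev (cls D' Finset.univ) 6).filter
      (fun X => (X ∩ K.image e).card = 0 ∨ (X ∩ K.image e).card = 2 ∨
        (X ∩ K.image e).card = 6) := by
    intro X' hX'
    obtain ⟨X, hX, rfl⟩ := Finset.mem_image.1 hX'
    rw [Finset.mem_filter, mem_lev]
    have hXo := image_hyperoval he (isHyperoval h hJ hX)
    refine ⟨⟨hXo.card, hXo.ind⟩, ?_⟩
    rw [← Finset.image_inter _ _ e.injective, Finset.card_image_of_injective _ e.injective]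
    exact cls_meet_same h hJ hK hX
  have h2 : cls D' J' ⊆ (lev (cls D' Finset.univ) 6).filter
      (fun X => (X ∩ K.image e).card = 0 ∨ (X ∩ K.image e).card = 2 ∨
        (X ∩ K.image e).card = 6) := by
    intro X hX
    rw [Finset.mem_filter, mem_lev]
    have hXo := isHyperoval h' hJ'.2 hX
    exact ⟨⟨hXo.card, hXo.ind⟩, cls_meet_same h' hJ'.2 hKJ' hX⟩
  have e1 := Finset.eq_of_subset_of_card_le h1
    (by rw [hEcard, Finset.card_image_of_injective _ hinj, card_cls h hJ])
  have e2 := Finset.eq_of_subset_of_card_le h2 (by rw [hEcard, card_cls h' hJ'.2])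
  rw [e1, e2]

lemma image_sumCongr_disjSum (π : Equiv.Perm (Fin 3)) (e : α ≃ β) (J : Finset (Fin 3))
    (S : Finset α) :
    (J.disjSum S).image (Equiv.sumCongr π e) = (J.image π).disjSum (S.image e) := by
  ext x
  cases x with
  | inl a => simp [Finset.mem_disjSum]
  | inr b => simp [Finset.mem_disjSum]

lemma image_compl_singleton (π : Equiv.Perm (Fin 3)) (k : Fin 3) :
    ({k}ᶜ : Finset (Fin 3)).image π = {π k}ᶜ := by
  ext y
  simp only [Finset.mem_image, Finset.mem_compl, Finset.mem_singleton]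
  constructor
  · rintro ⟨x, hx, rfl⟩; exact fun hh => hx (π.injective hh)
  · intro hy
    exact ⟨π.symm y, fun hh => hy (by rw [← hh, Equiv.apply_symm_apply]),
      Equiv.apply_symm_apply π y⟩

lemma exists_line_block (h : IsS24 D) {o : Finset (Fin 3 ⊕ α)} (ho : o ∈ D)
    (hL : o.toLeft.card ≤ 1) :
    ∃ o1 ∈ D, o1.toLeft = Finset.univ ∧ (o ∩ o1).card = 4 := by
  have hcard := h.k o ho
  have hsplit := Finset.card_toLeft_add_card_toRight (u := o)
  have key : ∀ o1 ∈ D, o1.toLeft = Finset.univ → 3 ≤ (o ∩ o1).card → (o ∩ o1).card = 4 := by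
    intro o1 ho1 hl1 h3
    have hne : o ≠ o1 := by
      intro heq
      rw [heq, hl1] at hL
      simp at hL
    rcases h.inter_ne ho ho1 hne with h0 | h0 | h0 <;> omega
  by_cases h1 : o.toLeft.card = 1
  · obtain ⟨z, hz⟩ := Finset.card_eq_one.1 h1
    have h7 : o.toRight.card = 7 := by omega
    obtain ⟨x, hx, y, hy, hxy⟩ :=
      Finset.one_lt_card.1 (by rw [h7]; norm_num : 1 < o.toRight.card)
    obtain ⟨o1, ho1, hsub⟩ := h.exists_block ((Finset.univ : Finset (Fin 3)).disjSum {x, y}) (by
      rw [Finset.card_disjSum, Finset.card_univ, Fintype.card_fin, Finset.card_pair hxy])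
    rw [Finset.disjSum_subset] at hsub
    have hl1 : o1.toLeft = Finset.univ := Finset.univ_subset_iff.1 hsub.1
    refine ⟨o1, ho1, hl1, key o1 ho1 hl1 ?_⟩
    have hsub3 : ({Sum.inl z, Sum.inr x, Sum.inr y} : Finset (Fin 3 ⊕ α)) ⊆ o ∩ o1 := by
      intro p hp
      simp only [Finset.mem_insert, Finset.mem_singleton] at hp
      rw [Finset.mem_inter]
      rcases hp with rfl | rfl | rfl
      · exact ⟨Finset.mem_toLeft.1 (by rw [hz]; exact Finset.mem_singleton_self z),
          Finset.mem_toLeft.1 (by rw [hl1]; exact Finset.mem_univ z)⟩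
      · exact ⟨Finset.mem_toRight.1 hx, Finset.mem_toRight.1 (hsub.2 (by simp))⟩
      · exact ⟨Finset.mem_toRight.1 hy, Finset.mem_toRight.1 (hsub.2 (by simp))⟩
    have hc3 : ({Sum.inl z, Sum.inr x, Sum.inr y} : Finset (Fin 3 ⊕ α)).card = 3 := by
      rw [Finset.card_insert_of_notMem, Finset.card_pair]
      · intro hh; exact hxy (Sum.inr_injective hh)
      · simp
    have hle3 := Finset.card_le_card hsub3
    rw [hc3] at hle3
    exact hle3
  · have h0 : o.toLeft.card = 0 := by omega
    have h8 : o.toRight.card = 8 := by omega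
    obtain ⟨x, hx⟩ := Finset.card_pos.1 (by rw [h8]; norm_num : 0 < o.toRight.card)
    have hQcard : ((Finset.univ : Finset (Fin 3)).disjSum ({x} : Finset α)).card = 4 := by
      rw [Finset.card_disjSum, Finset.card_univ, Fintype.card_fin, Finset.card_singleton]
    have hins : ∀ y : α, (insert (Sum.inr y)
        ((Finset.univ : Finset (Fin 3)).disjSum ({x} : Finset α))).card ≤ 5 :=
      fun y => (Finset.card_insert_le _ _).trans (by rw [hQcard])
    let f : α → Finset (Fin 3 ⊕ α) := fun y => Classical.choose (h.exists_block _ (hins y))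
    have hf : ∀ y, f y ∈ D ∧ insert (Sum.inr y)
        ((Finset.univ : Finset (Fin 3)).disjSum ({x} : Finset α)) ⊆ f y :=
      fun y => Classical.choose_spec (h.exists_block _ (hins y))
    have h5 : (D.filter (fun c =>
        (Finset.univ : Finset (Fin 3)).disjSum ({x} : Finset α) ⊆ c)).card = 5 := by
      have := h.cnt_eq ((Finset.univ : Finset (Fin 3)).disjSum ({x} : Finset α))
        (by rw [hQcard]; norm_num)
      rw [hQcard] at this
      exact this
    have hmaps : ∀ y ∈ o.toRight.erase x, f y ∈ D.filter (fun c =>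
        (Finset.univ : Finset (Fin 3)).disjSum ({x} : Finset α) ⊆ c) := by
      intro y _
      exact Finset.mem_filter.2 ⟨(hf y).1, (Finset.subset_insert _ _).trans (hf y).2⟩
    obtain ⟨y, hy, y', hy', hne, hfy⟩ := Finset.exists_ne_map_eq_of_card_lt_of_maps_to
      (by rw [h5, Finset.card_erase_of_mem hx, h8]; norm_num) hmaps
    have hyx := Finset.mem_erase.1 hy
    have hy'x := Finset.mem_erase.1 hy'
    have hQsub : (Finset.univ : Finset (Fin 3)).disjSum ({x} : Finset α) ⊆ f y :=
      (Finset.subset_insert _ _).trans (hf y).2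
    rw [Finset.disjSum_subset] at hQsub
    have hl1 : (f y).toLeft = Finset.univ := Finset.univ_subset_iff.1 hQsub.1
    refine ⟨f y, (hf y).1, hl1, key (f y) (hf y).1 hl1 ?_⟩
    have hsub3 : ({Sum.inr x, Sum.inr y, Sum.inr y'} : Finset (Fin 3 ⊕ α)) ⊆ o ∩ f y := by
      intro p hp
      simp only [Finset.mem_insert, Finset.mem_singleton] at hp
      rw [Finset.mem_inter]
      rcases hp with rfl | rfl | rfl
      · exact ⟨Finset.mem_toRight.1 hx,
          Finset.mem_toRight.1 (hQsub.2 (Finset.mem_singleton_self x))⟩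
      · exact ⟨Finset.mem_toRight.1 hyx.2, (hf y).2 (Finset.mem_insert_self _ _)⟩
      · exact ⟨Finset.mem_toRight.1 hy'x.2,
          by rw [hfy]; exact (hf y').2 (Finset.mem_insert_self _ _)⟩
    have hc3 : ({Sum.inr x, Sum.inr y, Sum.inr y'} : Finset (Fin 3 ⊕ α)).card = 3 := by
      rw [Finset.card_insert_of_notMem, Finset.card_pair]
      · intro hh; exact hne (Sum.inr_injective hh)
      · simp only [Finset.mem_insert, Finset.mem_singleton]
        rintro (hh | hh)
        · exact hyx.1 (Sum.inr_injective hh).symm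
        · exact hy'x.1 (Sum.inr_injective hh).symm
    have hle3 := Finset.card_le_card hsub3
    rw [hc3] at hle3
    exact hle3

theorem core (h : IsS24 D) (h' : IsS24 D') {e : α ≃ β}
    (he : (cls D Finset.univ).image (fun l => l.image e) = cls D' Finset.univ) :
    ∃ π : Equiv.Perm (Fin 3), D.image (fun b => b.image (Equiv.sumCongr π e)) = D' := by
  have hex : ∀ k : Fin 3, ∃ k' : Fin 3,
      (cls D {k}ᶜ).image (fun K => K.image e) = cls D' {k'}ᶜ := by
    intro k
    obtain ⟨J', hJ', hJ'eq⟩ := cls_image h h' he (fin3_compl_card k)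
    obtain ⟨k', rfl⟩ := fin3_compl J' hJ'
    exact ⟨k', hJ'eq⟩
  choose σ hσ using hex
  have hσinj : Function.Injective σ := by
    intro k1 k2 hk
    by_contra hne
    have h1 := hσ k1
    have h2 := hσ k2
    rw [hk] at h1
    have heq : cls D {k1}ᶜ = cls D {k2}ᶜ :=
      Finset.image_injective (Finset.image_injective e.injective) (h1.trans h2.symm)
    have hdis := cls_disjoint h (fin3_compl_card k1) (fin3_compl_card k2)
      (fun hh => hne (fin3_compl_inj k1 k2 hh))
    rw [heq, Finset.disjoint_self_iff_empty] at hdis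
    have := card_cls h (fin3_compl_card k2)
    rw [hdis] at this
    simp at this
  have hσbij : Function.Bijective σ := Finite.injective_iff_bijective.1 hσinj
  refine ⟨Equiv.ofBijective σ hσbij, ?_⟩
  have hπk : ∀ k, (Equiv.ofBijective σ hσbij) k = σ k := fun k => rfl
  have stepA : ∀ o ∈ D, 2 ≤ o.toLeft.card →
      o.image (Equiv.sumCongr (Equiv.ofBijective σ hσbij) e) ∈ D' := by
    intro o ho h2
    have hdec : o = o.toLeft.disjSum o.toRight := Finset.toLeft_disjSum_toRight.symm
    rcases fin3_ge2 _ h2 with hu | ⟨k, hk⟩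
    · rw [hdec, image_sumCongr_disjSum, hu, Finset.image_univ_equiv]
      have h3 : o.toRight ∈ cls D Finset.univ := by
        rw [mem_cls, ← hu, Finset.toLeft_disjSum_toRight]; exact ho
      have h4 := Finset.mem_image_of_mem (fun l => l.image e) h3
      rw [he, mem_cls] at h4
      exact h4
    · rw [hdec, image_sumCongr_disjSum, hk, image_compl_singleton, hπk]
      have h3 : o.toRight ∈ cls D {k}ᶜ := by
        rw [mem_cls, ← hk, Finset.toLeft_disjSum_toRight]; exact ho
      have h4 := Finset.mem_image_of_mem (fun K => K.image e) h3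
      rw [hσ k, mem_cls] at h4
      exact h4
  apply Finset.eq_of_subset_of_card_le
  · intro b' hb'
    obtain ⟨o, ho, rfl⟩ := Finset.mem_image.1 hb'
    show o.image (Equiv.sumCongr (Equiv.ofBijective σ hσbij) e) ∈ D'
    by_cases h2 : 2 ≤ o.toLeft.card
    · exact stepA o ho h2
    · obtain ⟨o1, ho1, hl1, h4⟩ := exists_line_block h ho (by omega)
      have ho2 : o ∆ o1 ∈ D := by
        rw [symmDiff_def, Finset.sup_eq_union]; exact h.symmDiff_mem ho ho1 h4
      have hinj := (Equiv.sumCongr (Equiv.ofBijective σ hσbij) e).injective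
      have hA1 := stepA o1 ho1 (by rw [hl1]; simp)
      have hA2 := stepA (o ∆ o1) ho2 (by
        have : (o ∆ o1).toLeft = Finset.univ \ o.toLeft := by
          rw [symmDiff_def, Finset.sup_eq_union, Finset.toLeft_union, Finset.toLeft_sdiff,
            Finset.toLeft_sdiff, hl1]
          simp
        rw [this, Finset.card_sdiff_of_subset (Finset.subset_univ _), Finset.card_univ,
          Fintype.card_fin]
        omega)
      have hoeq : o = o1 ∆ (o ∆ o1) := by
        rw [symmDiff_comm o o1, symmDiff_symmDiff_cancel_left]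
      have hcard4 : (o1 ∩ (o ∆ o1)).card = 4 := by
        have : o1 ∩ (o ∆ o1) = o1 \ o := by
          ext x
          simp only [Finset.mem_inter, Finset.mem_symmDiff, Finset.mem_sdiff]
          tauto
        rw [this]
        have h6 := Finset.card_sdiff_add_card_inter o1 o
        rw [h.k o1 ho1, Finset.inter_comm, h4] at h6
        omega
      rw [hoeq, Finset.image_symmDiff _ _ hinj, symmDiff_def, Finset.sup_eq_union]
      apply h'.symmDiff_mem hA1 hA2
      rw [← Finset.image_inter _ _ hinj, Finset.card_image_of_injective _ hinj]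
      exact hcard4
  · rw [Finset.card_image_of_injective _
      (Finset.image_injective (Equiv.sumCongr (Equiv.ofBijective σ hσbij) e).injective),
      h.card_blocks, h'.card_blocks]

lemma plane_iso {Lf : Finset (Finset α)} {Lf' : Finset (Finset β)} (hP : IsPlane4 Lf)
    (hP' : IsPlane4 Lf') : ∃ e : α ≃ β, Lf.image (fun l => l.image e) = Lf' := by
  obtain ⟨-, c6⟩ := lev_cards hP
  obtain ⟨-, c6'⟩ := lev_cards hP'
  obtain ⟨H, hHm⟩ := Finset.card_pos.1 (by rw [c6]; norm_num : 0 < (lev Lf 6).card)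
  obtain ⟨H', hHm'⟩ := Finset.card_pos.1 (by rw [c6']; norm_num : 0 < (lev Lf' 6).card)
  rw [mem_lev] at hHm hHm'
  have hH : IsHyperoval Lf H := ⟨hHm.1, hHm.2⟩
  have hH' : IsHyperoval Lf' H' := ⟨hHm'.1, hHm'.2⟩
  have hne : Nonempty β := Fintype.card_pos_iff.1 (by rw [hP'.card]; norm_num)
  obtain ⟨b0⟩ := hne
  obtain ⟨f0, hf⟩ := S22.exists_bijOn (hH.card.trans hH'.card.symm) b0
  obtain ⟨e, -, he⟩ := exists_iso hH hP hH' hP' hf
  exact ⟨e, he⟩

theorem exists_iso24 (h : IsS24 D) (h' : IsS24 D') :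
    ∃ e : Fin 3 ⊕ α ≃ Fin 3 ⊕ β, D.image (fun b => b.image e) = D' := by
  obtain ⟨e, he⟩ := plane_iso (isPlane4 h) (isPlane4 h')
  obtain ⟨π, hπ⟩ := core h h' he
  exact ⟨Equiv.sumCongr π e, hπ⟩

end Core

section Transport

theorem isS24_transport {γ δ : Type*} [Fintype γ] [DecidableEq γ] [Fintype δ] [DecidableEq δ]
    (σ : γ ≃ δ) {Bf : Finset (Finset γ)} (hγ : Fintype.card γ = 24)
    (hk : ∀ b ∈ Bf, b.card = 8) (h5 : ∀ S : Finset γ, S.card = 5 → cnt Bf S = 1) :
    IsS24 (Bf.image (fun b => b.image σ)) := by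
  refine ⟨by rw [← Fintype.card_congr σ, hγ], ?_, ?_⟩
  · intro b' hb'
    obtain ⟨b, hb, rfl⟩ := Finset.mem_image.1 hb'
    rw [Finset.card_image_of_injective _ σ.injective]; exact hk b hb
  · intro S hS
    rw [S22.cnt_image_equiv]
    exact h5 _ (by rw [Finset.card_image_of_injective _ σ.symm.injective, hS])

/-- transporting an isomorphism of set systems along relabellings -/
theorem iso_of_transport {γ γ' δ δ' : Type*} [Fintype γ] [DecidableEq γ] [Fintype γ']
    [DecidableEq γ'] [DecidableEq δ] [DecidableEq δ'] (σ : γ ≃ δ) (σ' : γ' ≃ δ') (e : δ ≃ δ')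
    {B : Set (Finset γ)} {B' : Set (Finset γ')}
    (he : ((toF B).image (fun b => b.image σ)).image (fun b => b.image e) =
      (toF B').image (fun b => b.image σ')) : Cfsg.SetSystemIso B B' := by
  have key : ∀ b : Finset γ, b.image (σ.trans (e.trans σ'.symm)) =
      ((b.image σ).image e).image σ'.symm := by
    intro b
    rw [Finset.image_image, Finset.image_image]
    rfl
  have key2 : ∀ c : Finset γ', (c.image σ').image σ'.symm = c := by
    intro c
    rw [Finset.image_image]
    simp
  refine ⟨σ.trans (e.trans σ'.symm), ?_⟩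
  ext c
  constructor
  · rintro ⟨b, hb, rfl⟩
    have h1 : (b.image σ).image e ∈ (toF B').image (fun b => b.image σ') := by
      rw [← he]
      exact Finset.mem_image_of_mem _ (Finset.mem_image_of_mem _ ((mem_toF B b).2 hb))
    obtain ⟨c, hc, hce⟩ := Finset.mem_image.1 h1
    show b.image (σ.trans (e.trans σ'.symm)) ∈ B'
    rw [key, ← hce, key2]
    exact (mem_toF B' c).1 hc
  · intro hc
    have h1 : c.image σ' ∈ ((toF B).image (fun b => b.image σ)).image (fun b => b.image e) := by
      rw [he]; exact Finset.mem_image_of_mem _ ((mem_toF B' c).2 hc)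
    obtain ⟨b1, hb1, hb1e⟩ := Finset.mem_image.1 h1
    obtain ⟨b, hb, rfl⟩ := Finset.mem_image.1 hb1
    refine ⟨b, (mem_toF B b).1 hb, ?_⟩
    show b.image (σ.trans (e.trans σ'.symm)) = c
    rw [key, hb1e, key2]

theorem unique24 {γ γ' : Type*} [Fintype γ] [DecidableEq γ] [Fintype γ'] [DecidableEq γ']
    (hγ : Fintype.card γ = 24) (hγ' : Fintype.card γ' = 24) {B : Set (Finset γ)}
    {B' : Set (Finset γ')} (hB : Cfsg.IsSteinerSystem 5 8 B) (hB' : Cfsg.IsSteinerSystem 5 8 B') :
    Cfsg.SetSystemIso B B' := by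
  have c1 : Fintype.card γ = Fintype.card (Fin 3 ⊕ Fin 21) := by rw [hγ]; simp
  have c2 : Fintype.card γ' = Fintype.card (Fin 3 ⊕ Fin 21) := by rw [hγ']; simp
  let σ : γ ≃ Fin 3 ⊕ Fin 21 := Fintype.equivOfCardEq c1
  let σ' : γ' ≃ Fin 3 ⊕ Fin 21 := Fintype.equivOfCardEq c2
  have h := isS24_transport σ hγ (toF_card hB) (toF_cnt hB)
  have h' := isS24_transport σ' hγ' (toF_card hB') (toF_cnt hB')
  obtain ⟨e, he⟩ := exists_iso24 h h'
  exact iso_of_transport σ σ' e he

end Transport

end Cfsg.Agent.helper28.S24
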