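import Cfsg.Agent.Lib_helper28_AutT
import Cfsg.Agent.Lib_helper28_S24
import Cfsg.Agent.Lib_helper2_M24d
import Cfsg.Prelude.Def_Sporadic
set_option autoImplicit false

/-! The automorphism group of any S(5,8,24) is a copy of M24 (given simplicity of M24). -/

namespace Cfsg.Agent.helper28.Aut24

open Cfsg.Agent.helper28.AutT Cfsg.Agent.helper2.Golay

theorem aut24 (hs : IsSimpleGroup Cfsg.M24) {α : Type*} [Fintype α] [DecidableEq α]
    (hα : Fintype.card α = 24) {B : Set (Finset α)} (hB : Cfsg.IsSteinerSystem 5 8 B) :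
    Cfsg.IsM24 (Cfsg.setSystemAut B) ∧
      MulAction.IsMultiplyPretransitive (Cfsg.setSystemAut B) α 5 := by
  obtain ⟨e, he⟩ := Cfsg.Agent.helper28.S24.unique24 hα card_golayPt hB octads_steiner
  have hM : Cfsg.M24 = Cfsg.setSystemAut Cfsg.octads := M24_eq_aut_octads
  let φ := autCongr e he
  let ψ : Cfsg.setSystemAut B ≃* Cfsg.M24 := φ.trans (MulEquiv.subgroupCongr hM.symm)
  refine ⟨⟨?_, ?_⟩, ?_⟩
  · exact ψ.isSimpleGroup
  · rw [Nat.card_congr ψ.toEquiv]; exact card_M24
  · refine pretrans_transport e.symm ψ.symm ?_ 5 m24_five_transitive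
    intro g a
    have h1 := autCongr_smul e he (ψ.symm g) (e.symm a)
    rw [Equiv.apply_symm_apply] at h1
    rw [Equiv.symm_apply_eq, h1]
    have h2 : φ (ψ.symm g) = MulEquiv.subgroupCongr hM g := by
      apply φ.symm.injective
      simp [ψ]
      rfl
    rw [h2]
    rfl

end Cfsg.Agent.helper28.Aut24
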