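import Mathlib
set_option autoImplicit false

namespace Cfsg.Agent.helper28.Der

open MulAction

lemma burnside (G X : Type*) [Group G] [Fintype G] [MulAction G X] [Finite X] :
    ∑ g : G, Nat.card (fixedBy X g) = Nat.card (Quotient (orbitRel G X)) * Nat.card G := by
  classical
  have : Fintype X := Fintype.ofFinite X
  have : ∀ g : G, Fintype (fixedBy X g) := fun g => Fintype.ofFinite _
  have : Fintype (Quotient (orbitRel G X)) := Fintype.ofFinite _
  have h := MulAction.sum_card_fixedBy_eq_card_orbits_mul_card_group G X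
  simp only [Fintype.card_eq_nat_card] at h
  exact h

lemma card_fixedBy_prod (G Ω : Type*) [Group G] [MulAction G Ω] (g : G) :
    Nat.card (fixedBy (Ω × Ω) g) = Nat.card (fixedBy Ω g) * Nat.card (fixedBy Ω g) := by
  have : fixedBy (Ω × Ω) g = (fixedBy Ω g) ×ˢ (fixedBy Ω g) := by
    ext ⟨a, b⟩
    simp [Prod.ext_iff]
  rw [this, Nat.card_congr (Equiv.Set.prod _ _), Nat.card_prod]

lemma two_le_orbits (G Ω : Type*) [Group G] [MulAction G Ω] [Finite Ω] (a b : Ω) (hab : a ≠ b) :
    2 ≤ Nat.card (Quotient (orbitRel G (Ω × Ω))) := by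
  classical
  have : Finite (Quotient (orbitRel G (Ω × Ω))) := inferInstance
  let f : Quotient (orbitRel G (Ω × Ω)) → Bool :=
    Quotient.lift (fun p : Ω × Ω => decide (p.1 = p.2)) (by
      rintro ⟨x, y⟩ ⟨x', y'⟩ ⟨g, hg⟩
      simp only [Prod.smul_mk, Prod.mk.injEq] at hg
      simp only [decide_eq_decide]
      rw [← hg.1, ← hg.2]
      exact (smul_left_cancel_iff g))
  have hsurj : Function.Surjective f := by
    intro c
    cases c
    · exact ⟨Quotient.mk _ (a, b), by simp [f, hab]⟩
    · exact ⟨Quotient.mk _ (a, a), by simp [f]⟩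
  have := Nat.card_le_card_of_surjective f hsurj
  simpa using this

theorem cameron_cohen {G Ω : Type*} [Group G] [Finite G] [MulAction G Ω] [FaithfulSMul G Ω]
    [Fintype Ω] (htr : MulAction.IsPretransitive G Ω) (hn : 3 ≤ Fintype.card Ω) :
    ((MulAction.IsPretransitive G Ω ∧ (∃ g : G, g ≠ 1 ∧ ∃ ω : Ω, g • ω = ω) ∧
        ∀ g : G, g ≠ 1 → Nat.card (MulAction.fixedBy Ω g) ≤ 1) ∧
      Nat.card G = Fintype.card Ω * (Fintype.card Ω - 1) ∧
      Fintype.card Ω * Nat.card {g : G // ∀ ω : Ω, g • ω ≠ ω} = Nat.card G) ∨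
    Nat.card G < Fintype.card Ω * Nat.card {g : G // ∀ ω : Ω, g • ω ≠ ω} := by
  classical
  have : Fintype G := Fintype.ofFinite G
  set n := Fintype.card Ω with hn'
  set fx : G → ℕ := fun g => (Finset.univ.filter (fun ω : Ω => g • ω = ω)).card with hfx
  have hconv : ∀ g : G, Nat.card (fixedBy Ω g) = fx g := by
    intro g
    rw [Nat.card_eq_fintype_card, Fintype.card_subtype]
    rfl
  -- first Burnside
  have hq1 : Nat.card (Quotient (orbitRel G Ω)) = 1 := by
    have hsub : Subsingleton (Quotient (orbitRel G Ω)) :=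
      (MulAction.pretransitive_iff_subsingleton_quotient G Ω).1 htr
    have hne : Nonempty Ω := by
      rw [← Fintype.card_pos_iff]; omega
    have : Nonempty (Quotient (orbitRel G Ω)) := hne.map (Quotient.mk _)
    exact Nat.card_eq_one_iff_unique.2 ⟨hsub, this⟩
  have S1 : ∑ g : G, fx g = Nat.card G := by
    have := burnside G Ω
    rw [hq1, one_mul] at this
    simp only [hconv] at this
    exact this
  obtain ⟨a, b, hab⟩ : ∃ a b : Ω, a ≠ b := by
    have : 1 < Fintype.card Ω := by omega
    exact Fintype.exists_pair_of_one_lt_card this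
  set r := Nat.card (Quotient (orbitRel G (Ω × Ω))) with hr
  have hr2 : 2 ≤ r := two_le_orbits G Ω a b hab
  have S2 : ∑ g : G, fx g * fx g = r * Nat.card G := by
    have := burnside G (Ω × Ω)
    simp only [card_fixedBy_prod, hconv] at this
    exact this
  have hGpos : 0 < Nat.card G := Nat.card_pos
  set D : Finset G := Finset.univ.filter (fun g => ∀ ω : Ω, g • ω ≠ ω) with hD
  have hDcard : Nat.card {g : G // ∀ ω : Ω, g • ω ≠ ω} = D.card := by
    rw [Nat.card_eq_fintype_card, Fintype.card_subtype]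
  have hfx0 : ∀ g, g ∈ D ↔ fx g = 0 := by
    intro g
    simp only [hD, Finset.mem_filter, Finset.mem_univ, true_and, hfx, Finset.card_eq_zero,
      Finset.filter_eq_empty_iff]
    constructor
    · intro h x _; exact h x
    · intro h x; exact h trivial
  have hfxle : ∀ g, fx g ≤ n := fun g => Finset.card_le_univ _
  have hfx1 : fx 1 = n := by simp [hfx, hn']
  have hfxn : ∀ g, fx g = n → g = 1 := by
    intro g hg
    have h1 : Finset.univ.filter (fun ω : Ω => g • ω = ω) = Finset.univ :=
      (Finset.card_eq_iff_eq_univ _).1 hg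
    apply FaithfulSMul.eq_of_smul_eq_smul (α := Ω)
    intro ω
    have : ω ∈ Finset.univ.filter (fun ω : Ω => g • ω = ω) := by rw [h1]; exact Finset.mem_univ _
    rw [one_smul]
    exact (Finset.mem_filter.1 this).2
  -- the key sum in ℤ
  have hsum : ∑ g : G, (((fx g : ℤ) - 1) * ((fx g : ℤ) - n)) = ((r : ℤ) - 1) * (Nat.card G : ℤ) := by
    have e : ∀ g : G, ((fx g : ℤ) - 1) * ((fx g : ℤ) - n) =
        ((fx g * fx g : ℕ) : ℤ) - ((n : ℤ) + 1) * ((fx g : ℕ) : ℤ) + (n : ℤ) := by
      intro g; push_cast; ring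
    simp_rw [e]
    rw [Finset.sum_add_distrib, Finset.sum_sub_distrib, ← Finset.mul_sum, ← Nat.cast_sum,
      ← Nat.cast_sum, S1, S2, Finset.sum_const, Finset.card_univ, ← Nat.card_eq_fintype_card]
    push_cast
    simp only [nsmul_eq_mul]
    ring
  have hsplit := Finset.sum_add_sum_compl D (fun g : G => ((fx g : ℤ) - 1) * ((fx g : ℤ) - n))
  have hDsum : ∑ g ∈ D, (((fx g : ℤ) - 1) * ((fx g : ℤ) - n)) = (n : ℤ) * D.card := by
    rw [Finset.sum_congr rfl (fun g hg => by rw [(hfx0 g).1 hg]), Finset.sum_const]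
    simp only [nsmul_eq_mul]
    push_cast
    ring
  have hnonpos : ∀ g ∈ Dᶜ, ((fx g : ℤ) - 1) * ((fx g : ℤ) - n) ≤ 0 := by
    intro g hg
    rw [Finset.mem_compl, hfx0] at hg
    have h1 : (1 : ℤ) ≤ fx g := by exact_mod_cast Nat.one_le_iff_ne_zero.2 hg
    have h2 : (fx g : ℤ) ≤ n := by exact_mod_cast hfxle g
    exact mul_nonpos_of_nonneg_of_nonpos (by linarith) (by linarith)
  have hCsum_le : ∑ g ∈ Dᶜ, (((fx g : ℤ) - 1) * ((fx g : ℤ) - n)) ≤ 0 := Finset.sum_nonpos hnonpos
  have hmain : ((r : ℤ) - 1) * (Nat.card G : ℤ) ≤ (n : ℤ) * D.card := by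
    rw [← hsum, ← hsplit, hDsum]; linarith
  rw [hDcard]
  by_cases hlt : Nat.card G < n * D.card
  · right; exact hlt
  · left
    push Not at hlt
    have hr2' : (2 : ℤ) ≤ r := by exact_mod_cast hr2
    have hGpos' : (0 : ℤ) < Nat.card G := by exact_mod_cast hGpos
    have hlt' : (n : ℤ) * D.card ≤ Nat.card G := by exact_mod_cast hlt
    have h3 : (Nat.card G : ℤ) ≤ ((r : ℤ) - 1) * (Nat.card G : ℤ) := by nlinarith
    have heq1 : (n : ℤ) * D.card = Nat.card G := by linarith
    have heq2 : ((r : ℤ) - 1) * (Nat.card G : ℤ) = Nat.card G := by linarith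
    have hr : (r : ℤ) = 2 := by
      have : ((r : ℤ) - 2) * (Nat.card G : ℤ) = 0 := by linarith
      rcases mul_eq_zero.1 this with h | h
      · linarith
      · linarith
    have hCsum0 : ∑ g ∈ Dᶜ, (((fx g : ℤ) - 1) * ((fx g : ℤ) - n)) = 0 := by
      rw [← hsum, ← hsplit, hDsum] at heq2; linarith
    have hzero := (Finset.sum_eq_zero_iff_of_nonpos hnonpos).1 hCsum0
    have hle1 : ∀ g : G, g ≠ 1 → fx g ≤ 1 := by
      intro g hg1
      by_cases hgD : g ∈ D
      · rw [(hfx0 g).1 hgD]; exact Nat.zero_le _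
      · have := hzero g (Finset.mem_compl.2 hgD)
        rcases mul_eq_zero.1 this with h | h
        · have : (fx g : ℤ) = 1 := by linarith
          exact_mod_cast this.le
        · have : fx g = n := by
            have : (fx g : ℤ) = n := by linarith
            exact_mod_cast this
          exact absurd (hfxn g this) hg1
    -- |G| = n (n-1)
    have hS21 : ∑ g : G, (fx g * fx g - fx g) = Nat.card G := by
      have h1 : ∑ g : G, (fx g * fx g - fx g) + ∑ g : G, fx g = ∑ g : G, fx g * fx g := by
        rw [← Finset.sum_add_distrib]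
        apply Finset.sum_congr rfl
        intro g _
        have : fx g ≤ fx g * fx g := Nat.le_mul_self _
        omega
      rw [S1, S2] at h1
      have : r = 2 := by exact_mod_cast hr
      rw [this] at h1
      omega
    have hcardG : Nat.card G = n * (n - 1) := by
      rw [← hS21, ← Finset.add_sum_erase Finset.univ _ (Finset.mem_univ (1 : G))]
      have : ∑ g ∈ Finset.univ.erase (1 : G), (fx g * fx g - fx g) = 0 := by
        apply Finset.sum_eq_zero
        intro g hg
        have hg1 : g ≠ 1 := (Finset.mem_erase.1 hg).1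
        have := hle1 g hg1
        interval_cases (fx g) <;> simp
      rw [this, add_zero, hfx1]
      rw [Nat.mul_sub, mul_one]
    refine ⟨⟨htr, ?_, fun g hg => by rw [hconv]; exact hle1 g hg⟩, hcardG, by exact_mod_cast heq1⟩
    -- some nonidentity element fixes a point
    by_contra hno
    push Not at hno
    have : ∑ g : G, fx g = n := by
      rw [← Finset.add_sum_erase Finset.univ _ (Finset.mem_univ (1 : G))]
      have : ∑ g ∈ Finset.univ.erase (1 : G), fx g = 0 := by
        apply Finset.sum_eq_zero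
        intro g hg
        have hg1 : g ≠ 1 := (Finset.mem_erase.1 hg).1
        simp only [hfx, Finset.card_eq_zero, Finset.filter_eq_empty_iff]
        intro ω _
        exact hno g hg1 ω
      rw [this, add_zero, hfx1]
    rw [S1, hcardG] at this
    have h3 : 2 ≤ n - 1 := by omega
    nlinarith

end Cfsg.Agent.helper28.Der
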