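import Mathlib

set_option autoImplicit false

namespace Cfsg.Agent.helper28

open MulAction

section

variable {G Ω : Type*} [Group G] [MulAction G Ω]

/-- In a transitive action, every orbit of a Sylow `p`-subgroup has size divisible by any
power of `p` dividing the degree. -/
theorem sylow_orbit_dvd [Finite G] [IsPretransitive G Ω] {p : ℕ} [Fact p.Prime]
    (P : Sylow p G) {j : ℕ} (hj : p ^ j ∣ Nat.card Ω) (ω : Ω) :
    p ^ j ∣ (orbit (↥(P : Subgroup G)) ω).ncard := by
  set H := stabilizer G ω with hH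
  have hidx : H.index = Nat.card Ω := index_stabilizer_of_transitive G ω
  have key : H.subgroupOf (P : Subgroup G) = stabilizer (↥(P : Subgroup G)) ω := by
    ext; rfl
  have horb : (orbit (↥(P : Subgroup G)) ω).ncard = H.relIndex (P : Subgroup G) := by
    rw [Subgroup.relIndex, key, index_stabilizer]
  rw [horb]
  have h1 : ((P : Subgroup G) ⊓ H).relIndex (P : Subgroup G) * (P : Subgroup G).index
      = ((P : Subgroup G) ⊓ H).index := Subgroup.relIndex_mul_index inf_le_left
  have h2 : ((P : Subgroup G) ⊓ H).relIndex H * H.index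
      = ((P : Subgroup G) ⊓ H).index := Subgroup.relIndex_mul_index inf_le_right
  rw [Subgroup.inf_relIndex_left] at h1
  have hdvd : p ^ j ∣ H.relIndex (P : Subgroup G) * (P : Subgroup G).index := by
    rw [h1, ← h2, hidx]
    exact Dvd.dvd.mul_left hj _
  have hcop : Nat.Coprime (p ^ j) (P : Subgroup G).index := by
    apply Nat.Coprime.pow_left
    exact (Nat.Prime.coprime_iff_not_dvd Fact.out).mpr P.not_dvd_index
  exact hcop.dvd_of_dvd_mul_right hdvd

/-- An element commuting with a subgroup `P` that acts transitively (faithful action) has no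
fixed point unless it is trivial. -/
theorem central_fpf [FaithfulSMul G Ω] (P : Subgroup G) (ω₀ : Ω)
    (htr : orbit (↥P) ω₀ = Set.univ) (g : G) (hc : ∀ h ∈ P, h * g = g * h)
    (hg1 : g ≠ 1) : ∀ ω : Ω, g • ω ≠ ω := by
  intro ω hω
  apply hg1
  apply eq_of_smul_eq_smul (α := Ω)
  intro ω'
  rw [one_smul]
  have h1 : ω ∈ orbit (↥P) ω₀ := by rw [htr]; trivial
  have h2 : ω' ∈ orbit (↥P) ω₀ := by rw [htr]; trivial
  obtain ⟨a, ha⟩ := h1
  obtain ⟨b, hb⟩ := h2
  have h3 : ω' = ((b : G) * (a : G)⁻¹) • ω := by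
    rw [← ha, ← hb]
    simp only [Subgroup.smul_def, smul_smul, inv_mul_cancel_right]
  have hmem : (b : G) * (a : G)⁻¹ ∈ P := P.mul_mem b.2 (P.inv_mem a.2)
  rw [h3, smul_smul, ← hc _ hmem, mul_smul, hω]

/-- A nontrivial `p`-subgroup acting transitively (faithful action) contains a fixed-point-free
element of order `p`. -/
theorem exists_fpf_of_transitive_pgroup [Finite G] [FaithfulSMul G Ω] {p : ℕ} [Fact p.Prime]
    (P : Subgroup G) (hP : IsPGroup p P) (hne : P ≠ ⊥) (ω₀ : Ω)
    (htr : orbit (↥P) ω₀ = Set.univ) : ∃ g : G, orderOf g = p ∧ ∀ ω : Ω, g • ω ≠ ω := by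
  have : Nontrivial ↥P := (Subgroup.nontrivial_iff_ne_bot P).mpr hne
  have : Nontrivial (Subgroup.center ↥P) := hP.center_nontrivial
  have hZ : IsPGroup p (Subgroup.center ↥P) := hP.to_subgroup _
  have hdvd : p ∣ Nat.card (Subgroup.center ↥P) := by
    rcases hZ.card_eq_or_dvd with h | h
    · exfalso
      have := Finite.one_lt_card (α := Subgroup.center ↥P)
      omega
    · exact h
  obtain ⟨z, hz⟩ := exists_prime_orderOf_dvd_card' p hdvd
  refine ⟨((z : ↥P) : G), ?_, ?_⟩
  · rw [Subgroup.orderOf_coe, Subgroup.orderOf_coe, hz]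
  · apply central_fpf P ω₀ htr
    · intro h hh
      have := Subgroup.mem_center_iff.mp z.2 ⟨h, hh⟩
      exact congrArg Subtype.val this
    · intro h1
      have : orderOf ((z : ↥P) : G) = p := by
        rw [Subgroup.orderOf_coe, Subgroup.orderOf_coe, hz]
      rw [h1, orderOf_one] at this
      exact (Fact.out : p.Prime).one_lt.ne this

end

section

variable {Q Ω : Type*} [Group Q] [Finite Q] [MulAction Q Ω]

theorem stab_normal_of_orbit_prime {p : ℕ} [Fact p.Prime] (hQ : IsPGroup p Q) (ω : Ω)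
    (horb : (orbit Q ω).ncard = p) : (stabilizer Q ω).Normal := by
  have hidx : (stabilizer Q ω).index = p := by rw [index_stabilizer, horb]
  apply Subgroup.normal_of_index_eq_minFac_card
  rw [hidx]
  obtain ⟨n, hn⟩ := IsPGroup.iff_card.mp hQ
  have hdvd : p ∣ Nat.card Q := by
    rw [← hidx]; exact Subgroup.index_dvd_card _
  have hn0 : n ≠ 0 := by
    rintro rfl
    rw [hn, pow_zero, Nat.dvd_one] at hdvd
    exact (Fact.out : p.Prime).one_lt.ne' hdvd
  rw [hn, Nat.Prime.pow_minFac Fact.out hn0]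

theorem pow_p_fix {p : ℕ} [Fact p.Prime] (hQ : IsPGroup p Q)
    (horb : ∀ ω : Ω, (orbit Q ω).ncard = p) (g : Q) (ω : Ω) : (g ^ p) • ω = ω := by
  have := stab_normal_of_orbit_prime hQ ω (horb ω)
  have hidx : (stabilizer Q ω).index = p := by rw [index_stabilizer, horb]
  have := (stabilizer Q ω).pow_index_mem g
  rw [hidx] at this
  exact this

theorem fix_orbit {p : ℕ} [Fact p.Prime] (hQ : IsPGroup p Q)
    (horb : ∀ ω : Ω, (orbit Q ω).ncard = p) (g : Q) (ω : Ω) (hg : g • ω = ω) (h : Q) :
    g • (h • ω) = h • ω := by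
  have := stab_normal_of_orbit_prime hQ ω (horb ω)
  have h1 : h⁻¹ * g * h⁻¹⁻¹ ∈ stabilizer Q ω :=
    Subgroup.Normal.conj_mem inferInstance g hg h⁻¹
  rw [inv_inv, mem_stabilizer_iff] at h1
  calc g • (h • ω) = h • ((h⁻¹ * g * h) • ω) := by
        simp only [smul_smul]; group
    _ = h • ω := by rw [h1]

theorem exists_fpf_of_orbits_prime [Fintype Ω] {p m : ℕ} [Fact p.Prime] (hQ : IsPGroup p Q)
    (horb : ∀ ω : Ω, (orbit Q ω).ncard = p) (hm1 : 1 ≤ m) (hmp : m ≤ p)
    (hΩ : Fintype.card Ω = m * p) : ∃ g : Q, ∀ ω : Ω, g • ω ≠ ω := by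
  classical
  have : Fintype Q := Fintype.ofFinite Q
  by_contra hcon
  push Not at hcon
  have hp : p.Prime := Fact.out
  -- double counting
  have hswap : ∑ g : Q, (Finset.univ.filter (fun ω : Ω => g • ω = ω)).card
      = ∑ ω : Ω, (Finset.univ.filter (fun g : Q => g • ω = ω)).card := by
    simp only [Finset.card_filter]
    exact Finset.sum_comm
  -- each stabilizer has |Q| / p elements
  have hstab : ∀ ω : Ω, (Finset.univ.filter (fun g : Q => g • ω = ω)).card * p
      = Fintype.card Q := by
    intro ω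
    have hidx : (stabilizer Q ω).index = p := by rw [index_stabilizer, horb]
    have h1 := (stabilizer Q ω).card_mul_index
    rw [hidx, Nat.card_eq_fintype_card (α := Q)] at h1
    rw [← h1]
    congr 1
    rw [Nat.card_eq_fintype_card, Fintype.card_subtype]
    rfl
  have hsum1 : (∑ ω : Ω, (Finset.univ.filter (fun g : Q => g • ω = ω)).card) * p
      = m * p * Fintype.card Q := by
    rw [Finset.sum_mul]
    simp only [hstab]
    rw [Finset.sum_const, Finset.card_univ, hΩ, smul_eq_mul]
  -- lower bound on fixed points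
  have hfix : ∀ g : Q, p ≤ (Finset.univ.filter (fun ω : Ω => g • ω = ω)).card := by
    intro g
    obtain ⟨ω, hω⟩ := hcon g
    have hsub : (orbit Q ω).toFinset ⊆ Finset.univ.filter (fun ω : Ω => g • ω = ω) := by
      intro x hx
      rw [Set.mem_toFinset] at hx
      obtain ⟨h, rfl⟩ := hx
      simp only [Finset.mem_filter, Finset.mem_univ, true_and]
      exact fix_orbit hQ horb g ω hω h
    have := Finset.card_le_card hsub
    rw [← Set.ncard_eq_toFinset_card', horb] at this
    exact this
  have hone : (Finset.univ.filter (fun ω : Ω => (1 : Q) • ω = ω)).card = m * p := by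
    simp [hΩ]
  have hsum2 : m * p + (Fintype.card Q - 1) * p
      ≤ ∑ g : Q, (Finset.univ.filter (fun ω : Ω => g • ω = ω)).card := by
    rw [← Finset.add_sum_erase Finset.univ _ (Finset.mem_univ (1 : Q)), hone]
    apply Nat.add_le_add_left
    calc (Fintype.card Q - 1) * p = ∑ _g ∈ Finset.univ.erase (1 : Q), p := by
          rw [Finset.sum_const, Finset.card_erase_of_mem (Finset.mem_univ _), Finset.card_univ,
            smul_eq_mul]
      _ ≤ _ := Finset.sum_le_sum (fun g _ => hfix g)
  have hq1 : 1 ≤ Fintype.card Q := Fintype.card_pos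
  rw [hswap] at hsum2
  have h2 : (m * p + (Fintype.card Q - 1) * p) * p ≤ m * p * Fintype.card Q := by
    rw [← hsum1]
    exact Nat.mul_le_mul_right p hsum2
  have hp2 : 2 ≤ p := hp.two_le
  obtain ⟨q, hq⟩ : ∃ q, Fintype.card Q = q + 1 := ⟨Fintype.card Q - 1, by omega⟩
  rw [hq] at h2
  simp only [Nat.add_sub_cancel] at h2
  nlinarith [Nat.mul_le_mul_right q hmp, Nat.mul_le_mul_right p hmp, Nat.mul_le_mul hp2 hm1]

end

end Cfsg.Agent.helper28
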