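import Cfsg.Agent.S5625
set_option autoImplicit false

namespace Cfsg.Agent.helper28.Design

open Finset Cfsg.Agent.S5625

/-- moments of the intersection sizes with `Y` among the blocks containing `s`. -/
lemma moment_sub {α : Type*} [DecidableEq α] (Bf : Finset (Finset α)) (s Y : Finset α) (j : ℕ) :
    ∑ k ∈ range (Y.card + 1),
        (Bf.filter (fun c => s ⊆ c ∧ (c ∩ Y).card = k)).card * k.choose j
      = ∑ P ∈ powersetCard j Y, cnt Bf (s ∪ P) := by
  have h := moment (Bf.filter (fun c => s ⊆ c)) Y j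
  have e1 : ∀ k, ((Bf.filter (fun c => s ⊆ c)).filter (fun b => (b ∩ Y).card = k))
      = Bf.filter (fun c => s ⊆ c ∧ (c ∩ Y).card = k) := by
    intro k
    rw [Finset.filter_filter]
  have e2 : ∀ P, cnt (Bf.filter (fun c => s ⊆ c)) P = cnt Bf (s ∪ P) := by
    intro P
    unfold cnt
    rw [Finset.filter_filter]
    congr 1
    ext c
    simp only [Finset.mem_filter, Finset.union_subset_iff]
  simp only [e1, e2] at h
  exact h

lemma inter_eq_iff {α : Type*} [DecidableEq α] (b c s : Finset α) (hs : s ⊆ b) :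
    b ∩ c = s ↔ (s ⊆ c ∧ (c ∩ (b \ s)).card = 0) := by
  rw [Finset.card_eq_zero]
  constructor
  · rintro rfl
    refine ⟨Finset.inter_subset_right, ?_⟩
    ext x
    simp only [Finset.mem_inter, Finset.mem_sdiff, Finset.notMem_empty, iff_false]
    tauto
  · rintro ⟨h1, h2⟩
    ext x
    simp only [Finset.mem_inter]
    constructor
    · rintro ⟨hb, hc⟩
      by_contra hxs
      have : x ∈ c ∩ (b \ s) := by
        simp only [Finset.mem_inter, Finset.mem_sdiff]; exact ⟨hc, hb, hxs⟩
      rw [h2] at this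
      exact absurd this (Finset.notMem_empty x)
    · intro hx
      exact ⟨hs hx, h1 hx⟩

/-- the numbers of blocks of an S(5,6,12) through an i-set (i ≤ 5), and 1 for a block. -/
def lam12 : ℕ → ℕ
  | 0 => 132 | 1 => 66 | 2 => 30 | 3 => 12 | 4 => 4 | 5 => 1 | 6 => 1 | _ => 0

theorem s5612 {α : Type*} [Fintype α] [DecidableEq α] (hα : Fintype.card α = 12)
    (Bf : Finset (Finset α)) (hk : ∀ b ∈ Bf, b.card = 6)
    (h5 : ∀ S : Finset α, S.card = 5 → cnt Bf S = 1) (b : Finset α) (hb : b ∈ Bf)
    (s : Finset α) (hs : s ⊆ b) :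
    (s.card = 1 → (Bf.filter (fun c => b ∩ c = s)).card = 0) ∧
    (s.card = 2 → (Bf.filter (fun c => b ∩ c = s)).card = 3) ∧
    (s.card = 3 → (Bf.filter (fun c => b ∩ c = s)).card = 2) ∧
    (s.card = 4 → (Bf.filter (fun c => b ∩ c = s)).card = 3) ∧
    (s.card = 5 → (Bf.filter (fun c => b ∩ c = s)).card = 0) := by
  have hcompl : ∀ S : Finset α, Sᶜ.card = 12 - S.card := by
    intro S; rw [Finset.card_compl, hα]
  have hins : ∀ (S : Finset α) x, x ∈ Sᶜ → (insert x S).card = S.card + 1 := by
    intro S x hx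
    rw [Finset.card_insert_of_notMem (Finset.mem_compl.1 hx)]
  have h4 : ∀ S : Finset α, S.card = 4 → cnt Bf S = 4 := by
    intro S hS
    have := step Bf 6 hk S
    rw [Finset.sum_congr rfl (fun x hx => h5 _ (by rw [hins S x hx, hS])), Finset.sum_const,
      hcompl, hS, smul_eq_mul] at this
    omega
  have h3 : ∀ S : Finset α, S.card = 3 → cnt Bf S = 12 := by
    intro S hS
    have := step Bf 6 hk S
    rw [Finset.sum_congr rfl (fun x hx => h4 _ (by rw [hins S x hx, hS])), Finset.sum_const,
      hcompl, hS, smul_eq_mul] at this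
    omega
  have h2 : ∀ S : Finset α, S.card = 2 → cnt Bf S = 30 := by
    intro S hS
    have := step Bf 6 hk S
    rw [Finset.sum_congr rfl (fun x hx => h3 _ (by rw [hins S x hx, hS])), Finset.sum_const,
      hcompl, hS, smul_eq_mul] at this
    omega
  have h1 : ∀ S : Finset α, S.card = 1 → cnt Bf S = 66 := by
    intro S hS
    have := step Bf 6 hk S
    rw [Finset.sum_congr rfl (fun x hx => h2 _ (by rw [hins S x hx, hS])), Finset.sum_const,
      hcompl, hS, smul_eq_mul] at this
    omega
  have h0 : cnt Bf (∅ : Finset α) = 132 := by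
    have := step Bf 6 hk (∅ : Finset α)
    rw [Finset.sum_congr rfl (fun x hx => h1 _ (by rw [hins ∅ x hx, Finset.card_empty])),
      Finset.sum_const, hcompl, Finset.card_empty, smul_eq_mul] at this
    omega
  have h6 : cnt Bf b = 1 := by
    unfold cnt
    rw [Finset.card_eq_one]
    refine ⟨b, ?_⟩
    ext c
    simp only [Finset.mem_filter, Finset.mem_singleton]
    constructor
    · rintro ⟨hc, hbc⟩
      exact (Finset.eq_of_subset_of_card_le hbc (by rw [hk b hb, hk c hc])).symm
    · rintro rfl
      exact ⟨hb, Finset.Subset.refl _⟩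
  have hb6 := hk b hb
  have hlam : ∀ S : Finset α, S ⊆ b → cnt Bf S = lam12 S.card := by
    intro S hS
    have hle : S.card ≤ 6 := hb6 ▸ Finset.card_le_card hS
    have hcases : S.card = 0 ∨ S.card = 1 ∨ S.card = 2 ∨ S.card = 3 ∨ S.card = 4 ∨ S.card = 5 ∨
        S.card = 6 := by omega
    rcases hcases with h | h | h | h | h | h | h
    · rw [h, Finset.card_eq_zero.1 h]; exact h0
    · rw [h]; exact h1 S h
    · rw [h]; exact h2 S h
    · rw [h]; exact h3 S h
    · rw [h]; exact h4 S h
    · rw [h]; exact h5 S h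
    · rw [h]
      have : S = b := Finset.eq_of_subset_of_card_le hS (by rw [h, hb6])
      rw [this]; exact h6
  -- moments
  set Y := b \ s with hY
  have hYcard : Y.card = 6 - s.card := by
    rw [hY, Finset.card_sdiff_of_subset hs, hb6]
  have hm : ∀ j, ∑ k ∈ range (Y.card + 1),
        (Bf.filter (fun c => s ⊆ c ∧ (c ∩ Y).card = k)).card * k.choose j
      = (Y.card).choose j * lam12 (s.card + j) := by
    intro j
    rw [moment_sub]
    have hcongr : ∀ P ∈ powersetCard j Y, cnt Bf (s ∪ P) = lam12 (s.card + j) := by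
      intro P hP
      rw [Finset.mem_powersetCard] at hP
      rw [hlam (s ∪ P) (Finset.union_subset hs (hP.1.trans Finset.sdiff_subset)),
        Finset.card_union_of_disjoint (Finset.disjoint_of_subset_right hP.1 Finset.disjoint_sdiff),
        hP.2]
    rw [Finset.sum_congr rfl hcongr, Finset.sum_const, Finset.card_powersetCard, smul_eq_mul]
  have hzero : (Bf.filter (fun c => b ∩ c = s)).card =
      (Bf.filter (fun c => s ⊆ c ∧ (c ∩ Y).card = 0)).card := by
    congr 1
    apply Finset.filter_congr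
    intro c _
    exact inter_eq_iff b c s hs
  rw [hzero]
  have m0 := hm 0
  have m1 := hm 1
  have m2 := hm 2
  have m3 := hm 3
  have m4 := hm 4
  have m5 := hm 5
  refine ⟨?_, ?_, ?_, ?_, ?_⟩ <;> intro hc <;> rw [hYcard, hc] at m0 m1 m2 m3 m4 m5 <;>
    simp only [Finset.sum_range_succ, Finset.sum_range_zero, Nat.choose, lam12] at m0 m1 m2 m3 m4 m5 <;>
    omega

end Cfsg.Agent.helper28.Design
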