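import Cfsg.Statements.S5625

set_option autoImplicit false
open Cfsg

namespace Cfsg.Agent.S5625

open Finset

/-- Number of blocks of `Bf` containing `S`. -/
def cnt {α : Type*} [DecidableEq α] (Bf : Finset (Finset α)) (S : Finset α) : ℕ :=
  (Bf.filter (fun b => S ⊆ b)).card

lemma step {α : Type*} [Fintype α] [DecidableEq α] (Bf : Finset (Finset α)) (k : ℕ)
    (hk : ∀ b ∈ Bf, b.card = k) (S : Finset α) :
    ∑ x ∈ Sᶜ, cnt Bf (insert x S) = cnt Bf S * (k - S.card) := by
  unfold cnt
  simp_rw [Finset.card_filter]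
  rw [Finset.sum_comm, Finset.sum_mul]
  apply Finset.sum_congr rfl
  intro b hb
  by_cases hSb : S ⊆ b
  · simp only [hSb, if_true, one_mul]
    rw [← Finset.card_filter]
    have : (Sᶜ.filter (fun x => insert x S ⊆ b)) = b \ S := by
      ext x
      simp only [Finset.mem_filter, Finset.mem_compl, Finset.insert_subset_iff, Finset.mem_sdiff]
      tauto
    rw [this, Finset.card_sdiff_of_subset hSb, hk b hb]
  · simp only [hSb, if_false, zero_mul]
    apply Finset.sum_eq_zero
    intro x _
    rw [if_neg]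
    intro h
    exact hSb ((Finset.subset_insert x S).trans h)

lemma moment {α : Type*} [DecidableEq α] (Bf : Finset (Finset α)) (Y : Finset α) (j : ℕ) :
    ∑ k ∈ range (Y.card + 1), (Bf.filter (fun b => (b ∩ Y).card = k)).card * k.choose j
      = ∑ P ∈ powersetCard j Y, cnt Bf P := by
  have hR : ∑ P ∈ powersetCard j Y, cnt Bf P = ∑ b ∈ Bf, ((b ∩ Y).card).choose j := by
    unfold cnt
    simp_rw [Finset.card_filter]
    rw [Finset.sum_comm]
    apply Finset.sum_congr rfl
    intro b hb
    rw [← Finset.card_filter, ← Finset.card_powersetCard]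
    congr 1
    ext P
    simp only [Finset.mem_filter, Finset.mem_powersetCard, Finset.subset_inter_iff]
    tauto
  rw [hR]
  rw [← Finset.sum_fiberwise_of_maps_to (s := Bf) (t := range (Y.card + 1))
    (g := fun b => (b ∩ Y).card) (f := fun b => ((b ∩ Y).card).choose j)]
  · apply Finset.sum_congr rfl
    intro k hk
    rw [Finset.sum_congr rfl (fun b hb => by rw [(Finset.mem_filter.1 hb).2]), Finset.sum_const,
      smul_eq_mul]
  · intro b hb
    rw [Finset.mem_range, Nat.lt_succ_iff]
    exact Finset.card_le_card Finset.inter_subset_right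

/-- In any Steiner system S(5, 8, 24) and for any set Y of three points, the blocks meeting Y in exactly 3, 2, 1 and 0 points number 21, 168, 360 and 210 respectively (so there are 759 blocks in all). -/
theorem result (α : Type*) [Fintype α] [DecidableEq α] (hα : Fintype.card α = 24) (B : Set (Finset α)) (hB : Cfsg.IsSteinerSystem 5 8 B) (Y : Finset α) (hY : Y.card = 3) : {b : Finset α | b ∈ B ∧ (b ∩ Y).card = 3}.ncard = 21 ∧ {b : Finset α | b ∈ B ∧ (b ∩ Y).card = 2}.ncard = 168 ∧ {b : Finset α | b ∈ B ∧ (b ∩ Y).card = 1}.ncard = 360 ∧ {b : Finset α | b ∈ B ∧ (b ∩ Y).card = 0}.ncard = 210 := by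
  classical
  obtain ⟨hcard, huniq⟩ := hB
  set Bf : Finset (Finset α) := Finset.univ.filter (fun b => b ∈ B) with hBf
  have hBfmem : ∀ b, b ∈ Bf ↔ b ∈ B := by simp [hBf]
  have hk : ∀ b ∈ Bf, b.card = 8 := fun b hb => hcard b ((hBfmem b).1 hb)
  have h5 : ∀ S : Finset α, S.card = 5 → cnt Bf S = 1 := by
    intro S hS
    obtain ⟨b, ⟨hbB, hSb⟩, hu⟩ := huniq S hS
    unfold cnt
    rw [Finset.card_eq_one]
    refine ⟨b, ?_⟩
    ext c
    simp only [Finset.mem_filter, Finset.mem_singleton, hBfmem]
    constructor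
    · rintro ⟨h1, h2⟩; exact hu c ⟨h1, h2⟩
    · rintro rfl; exact ⟨hbB, hSb⟩
  have hcompl : ∀ S : Finset α, Sᶜ.card = 24 - S.card := by
    intro S; rw [Finset.card_compl, hα]
  have hins : ∀ (S : Finset α) x, x ∈ Sᶜ → (insert x S).card = S.card + 1 := by
    intro S x hx
    rw [Finset.card_insert_of_notMem (Finset.mem_compl.1 hx)]
  have h4 : ∀ S : Finset α, S.card = 4 → cnt Bf S = 5 := by
    intro S hS
    have := step Bf 8 hk S
    rw [Finset.sum_congr rfl (fun x hx => h5 _ (by rw [hins S x hx, hS])), Finset.sum_const,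
      hcompl, hS, smul_eq_mul] at this
    omega
  have h3 : ∀ S : Finset α, S.card = 3 → cnt Bf S = 21 := by
    intro S hS
    have := step Bf 8 hk S
    rw [Finset.sum_congr rfl (fun x hx => h4 _ (by rw [hins S x hx, hS])), Finset.sum_const,
      hcompl, hS, smul_eq_mul] at this
    omega
  have h2 : ∀ S : Finset α, S.card = 2 → cnt Bf S = 77 := by
    intro S hS
    have := step Bf 8 hk S
    rw [Finset.sum_congr rfl (fun x hx => h3 _ (by rw [hins S x hx, hS])), Finset.sum_const,
      hcompl, hS, smul_eq_mul] at this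
    omega
  have h1 : ∀ S : Finset α, S.card = 1 → cnt Bf S = 253 := by
    intro S hS
    have := step Bf 8 hk S
    rw [Finset.sum_congr rfl (fun x hx => h2 _ (by rw [hins S x hx, hS])), Finset.sum_const,
      hcompl, hS, smul_eq_mul] at this
    omega
  have h0 : cnt Bf (∅ : Finset α) = 759 := by
    have := step Bf 8 hk (∅ : Finset α)
    rw [Finset.sum_congr rfl (fun x hx => h1 _ (by rw [hins ∅ x hx, Finset.card_empty])),
      Finset.sum_const, hcompl, Finset.card_empty, smul_eq_mul] at this
    omega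
  have m0 := moment Bf Y 0
  have m1 := moment Bf Y 1
  have m2 := moment Bf Y 2
  have m3 := moment Bf Y 3
  rw [hY, Finset.powersetCard_zero, Finset.sum_singleton, h0] at m0
  rw [hY, Finset.sum_congr rfl (fun P hP => h1 P (Finset.mem_powersetCard.1 hP).2),
    Finset.sum_const, Finset.card_powersetCard, hY, smul_eq_mul] at m1
  rw [hY, Finset.sum_congr rfl (fun P hP => h2 P (Finset.mem_powersetCard.1 hP).2),
    Finset.sum_const, Finset.card_powersetCard, hY, smul_eq_mul] at m2
  rw [hY, Finset.sum_congr rfl (fun P hP => h3 P (Finset.mem_powersetCard.1 hP).2),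
    Finset.sum_const, Finset.card_powersetCard, hY, smul_eq_mul] at m3
  simp only [Finset.sum_range_succ, Finset.sum_range_zero, Nat.choose] at m0 m1 m2 m3
  have conv : ∀ k : ℕ, {b : Finset α | b ∈ B ∧ (b ∩ Y).card = k}.ncard
      = (Bf.filter (fun b => (b ∩ Y).card = k)).card := by
    intro k
    rw [← Set.ncard_coe_finset]
    congr 1
    ext b
    simp [hBfmem]
  rw [conv, conv, conv, conv]
  omega

end Cfsg.Agent.S5625
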