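import Cfsg.Agent.Lib_helper28_Golay
import Cfsg.Agent.S5625
set_option autoImplicit false

namespace Cfsg.Agent.helper28.Golay

open Finset

/-- orthogonal complement for the dot product -/
def perp (W : Submodule (ZMod 2) V) : Submodule (ZMod 2) V :=
  (W.dualAnnihilator).map ((dotProductEquiv (ZMod 2) (Fin 24)).symm : Module.Dual (ZMod 2) V →ₗ[ZMod 2] V)

lemma mem_perp (W : Submodule (ZMod 2) V) (v : V) :
    v ∈ perp W ↔ ∀ c ∈ W, ∑ i, v i * c i = 0 := by
  unfold perp
  rw [Submodule.mem_map_equiv, Submodule.mem_dualAnnihilator]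
  rfl

lemma finrank_perp (W : Submodule (ZMod 2) V) :
    Module.finrank (ZMod 2) (perp W) + Module.finrank (ZMod 2) W = 24 := by
  unfold perp
  rw [LinearEquiv.finrank_map_eq]
  have := Subspace.finrank_add_finrank_dualAnnihilator_eq W
  rw [Module.finrank_fin_fun] at this
  rw [add_comm]
  exact this

end Cfsg.Agent.helper28.Golay

namespace Cfsg.Agent.helper28.Golay

open Finset Cfsg.Agent.S5625

lemma cnt_values {α : Type*} [Fintype α] [DecidableEq α] (hα : Fintype.card α = 24)
    (Bf : Finset (Finset α)) (hk : ∀ b ∈ Bf, b.card = 8)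
    (h5 : ∀ S : Finset α, S.card = 5 → cnt Bf S = 1) :
    (∀ S : Finset α, S.card = 4 → cnt Bf S = 5) ∧ (∀ S : Finset α, S.card = 3 → cnt Bf S = 21) ∧
    (∀ S : Finset α, S.card = 2 → cnt Bf S = 77) ∧ (∀ S : Finset α, S.card = 1 → cnt Bf S = 253) ∧
    cnt Bf (∅ : Finset α) = 759 := by
  have hcompl : ∀ S : Finset α, Sᶜ.card = 24 - S.card := by
    intro S; rw [Finset.card_compl, hα]
  have hins : ∀ (S : Finset α) x, x ∈ Sᶜ → (insert x S).card = S.card + 1 := by
    intro S x hx
    rw [Finset.card_insert_of_notMem (Finset.mem_compl.1 hx)]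
  have h4 : ∀ S : Finset α, S.card = 4 → cnt Bf S = 5 := by
    intro S hS
    have := step Bf 8 hk S
    rw [Finset.sum_congr rfl (fun x hx => h5 _ (by rw [hins S x hx, hS])), Finset.sum_const,
      hcompl, hS, smul_eq_mul] at this
    omega
  have h3 : ∀ S : Finset α, S.card = 3 → cnt Bf S = 21 := by
    intro S hS
    have := step Bf 8 hk S
    rw [Finset.sum_congr rfl (fun x hx => h4 _ (by rw [hins S x hx, hS])), Finset.sum_const,
      hcompl, hS, smul_eq_mul] at this
    omega
  have h2 : ∀ S : Finset α, S.card = 2 → cnt Bf S = 77 := by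
    intro S hS
    have := step Bf 8 hk S
    rw [Finset.sum_congr rfl (fun x hx => h3 _ (by rw [hins S x hx, hS])), Finset.sum_const,
      hcompl, hS, smul_eq_mul] at this
    omega
  have h1 : ∀ S : Finset α, S.card = 1 → cnt Bf S = 253 := by
    intro S hS
    have := step Bf 8 hk S
    rw [Finset.sum_congr rfl (fun x hx => h2 _ (by rw [hins S x hx, hS])), Finset.sum_const,
      hcompl, hS, smul_eq_mul] at this
    omega
  have h0 : cnt Bf (∅ : Finset α) = 759 := by
    have := step Bf 8 hk (∅ : Finset α)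
    rw [Finset.sum_congr rfl (fun x hx => h1 _ (by rw [hins ∅ x hx, Finset.card_empty])),
      Finset.sum_const, hcompl, Finset.card_empty, smul_eq_mul] at this
    omega
  exact ⟨h4, h3, h2, h1, h0⟩

lemma odd_meet {α : Type*} [Fintype α] [DecidableEq α] (hα : Fintype.card α = 24)
    (Bf : Finset (Finset α)) (hk : ∀ b ∈ Bf, b.card = 8)
    (h5 : ∀ S : Finset α, S.card = 5 → cnt Bf S = 1) (Y : Finset α) (hY1 : 1 ≤ Y.card)
    (hY4 : Y.card ≤ 4) : ∃ b ∈ Bf, Odd (b ∩ Y).card := by
  obtain ⟨h4, h3, h2, h1, h0⟩ := cnt_values hα Bf hk h5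
  have m1 := moment Bf Y 1
  have m2 := moment Bf Y 2
  have m3 := moment Bf Y 3
  have m4 := moment Bf Y 4
  rw [Finset.sum_congr rfl (fun P hP => h1 P (Finset.mem_powersetCard.1 hP).2),
    Finset.sum_const, Finset.card_powersetCard, smul_eq_mul] at m1
  rw [Finset.sum_congr rfl (fun P hP => h2 P (Finset.mem_powersetCard.1 hP).2),
    Finset.sum_const, Finset.card_powersetCard, smul_eq_mul] at m2
  rw [Finset.sum_congr rfl (fun P hP => h3 P (Finset.mem_powersetCard.1 hP).2),
    Finset.sum_const, Finset.card_powersetCard, smul_eq_mul] at m3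
  rw [Finset.sum_congr rfl (fun P hP => h4 P (Finset.mem_powersetCard.1 hP).2),
    Finset.sum_const, Finset.card_powersetCard, smul_eq_mul] at m4
  have key : 0 < (Bf.filter (fun b => (b ∩ Y).card = 1)).card ∨
      0 < (Bf.filter (fun b => (b ∩ Y).card = 3)).card := by
    have hY : Y.card = 1 ∨ Y.card = 2 ∨ Y.card = 3 ∨ Y.card = 4 := by omega
    rcases hY with hY | hY | hY | hY <;> rw [hY] at m1 m2 m3 m4 <;>
      simp only [Finset.sum_range_succ, Finset.sum_range_zero, Nat.choose] at m1 m2 m3 m4 <;> omega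
  rcases key with h | h
  · obtain ⟨b, hb⟩ := Finset.card_pos.1 h
    rw [Finset.mem_filter] at hb
    exact ⟨b, hb.1, by rw [hb.2]; decide⟩
  · obtain ⟨b, hb⟩ := Finset.card_pos.1 h
    rw [Finset.mem_filter] at hb
    exact ⟨b, hb.1, by rw [hb.2]; decide⟩

end Cfsg.Agent.helper28.Golay

namespace Cfsg.Agent.helper28.Golay

open Finset Cfsg.Agent.S5625

theorem span_octads (C : Submodule (ZMod 2) V) (hdim : Module.finrank (ZMod 2) C = 12)
    (horth : ∀ v ∈ C, ∀ w ∈ C, ∑ i, v i * w i = 0)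
    (hmin : ∀ w ∈ C, w ≠ 0 → 8 ≤ hammingNorm w) :
    Submodule.span (ZMod 2) {w : V | w ∈ C ∧ hammingNorm w = 8} = C := by
  classical
  set O : Set V := {w | w ∈ C ∧ hammingNorm w = 8} with hO
  set C' := Submodule.span (ZMod 2) O with hC'
  have hle : C' ≤ C := Submodule.span_le.2 (fun w hw => hw.1)
  by_contra hne
  have hlt : C' < C := lt_of_le_of_ne hle hne
  have hfr : Module.finrank (ZMod 2) C' < 12 := hdim ▸ Submodule.finrank_lt_finrank_of_lt hlt
  have hp := finrank_perp C'
  have hnot : ¬ perp C' ≤ C := by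
    intro h
    have := Submodule.finrank_mono h
    omega
  obtain ⟨u, hu, huC⟩ := SetLike.not_le_iff_exists.1 hnot
  have key : ∃ u' : V, u' - u ∈ C ∧ hammingNorm u' ≤ 4 := by
    rcases covering C hdim hmin u with ⟨u', h1, h2, -⟩ | ⟨h1, -⟩
    · exact ⟨u', h1, by omega⟩
    · have : (Finset.univ.filter (fun u' : V => u' - u ∈ C ∧ hammingNorm u' ≤ 4)).Nonempty := by
        rw [← Finset.card_pos, h1]; norm_num
      obtain ⟨u', hu'⟩ := this
      exact ⟨u', (Finset.mem_filter.1 hu').2⟩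
  obtain ⟨u', hu'C, hu'4⟩ := key
  have hu'notC : u' ∉ C := fun h => huC (by have := C.sub_mem h hu'C; simpa using this)
  have hu'perp : u' ∈ perp C' := by
    have h1 : u' - u ∈ perp C' := by
      rw [mem_perp]; intro c hc; exact horth _ hu'C _ (hle hc)
    have := (perp C').add_mem h1 hu
    simpa using this
  have hu'0 : u' ≠ 0 := by rintro rfl; exact hu'notC C.zero_mem
  have hY1 : 1 ≤ (supp u').card := by
    rw [Nat.one_le_iff_ne_zero, Ne, Finset.card_eq_zero]
    intro h
    apply hu'0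
    rw [← ind_supp u', h]
    funext i
    simp [ind]
  have hY4 : (supp u').card ≤ 4 := hu'4
  set Bf : Finset (Finset (Fin 24)) :=
    Finset.univ.filter (fun b => ∃ c ∈ C, hammingNorm c = 8 ∧ supp c = b) with hBf
  have hBfmem : ∀ b, b ∈ Bf ↔ ∃ c ∈ C, hammingNorm c = 8 ∧ supp c = b := by
    intro b; simp [hBf]
  have hk : ∀ b ∈ Bf, b.card = 8 := by
    intro b hb
    obtain ⟨c, -, h8, rfl⟩ := (hBfmem b).1 hb
    rw [← wt_eq]; exact h8
  have h5 : ∀ S : Finset (Fin 24), S.card = 5 → cnt Bf S = 1 := by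
    intro S hS
    obtain ⟨c, hc, h8, hSc⟩ := steiner_exists C hdim horth hmin S hS
    unfold cnt
    rw [Finset.card_eq_one]
    refine ⟨supp c, ?_⟩
    ext b
    simp only [Finset.mem_filter, Finset.mem_singleton, hBfmem]
    constructor
    · rintro ⟨⟨c', hc', h8', rfl⟩, hSb⟩
      have h5' : 5 ≤ (supp c' ∩ supp c).card := by
        rw [← hS]
        exact Finset.card_le_card (Finset.subset_inter hSb hSc)
      rw [octad_unique C hmin c' c hc' hc h8' h8 h5']
    · rintro rfl
      exact ⟨⟨c, hc, h8, rfl⟩, hSc⟩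
  obtain ⟨b, hb, hodd⟩ := odd_meet (by simp) Bf hk h5 (supp u') hY1 hY4
  obtain ⟨c, hc, hc8, rfl⟩ := (hBfmem b).1 hb
  have hcC' : c ∈ C' := Submodule.subset_span ⟨hc, hc8⟩
  have hdot := (mem_perp C' u').1 hu'perp c hcC'
  rw [dot_eq_card_inter] at hdot
  have hev : Even (supp u' ∩ supp c).card := by
    rw [even_iff_two_dvd]; exact (ZMod.natCast_eq_zero_iff _ _).1 hdot
  rw [Finset.inter_comm] at hev
  exact (Nat.not_even_iff_odd.2 hodd) hev

end Cfsg.Agent.helper28.Golay

namespace Cfsg.Agent.helper28.Golay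

theorem doubly_even (C : Submodule (ZMod 2) V) (hdim : Module.finrank (ZMod 2) C = 12)
    (horth : ∀ v ∈ C, ∀ w ∈ C, ∑ i, v i * w i = 0)
    (hmin : ∀ w ∈ C, w ≠ 0 → 8 ≤ hammingNorm w) : ∀ w ∈ C, 4 ∣ hammingNorm w := by
  intro w hw
  have hspan := span_octads C hdim horth hmin
  rw [← hspan] at hw
  have main : w ∈ C ∧ 4 ∣ hammingNorm w := by
    induction hw using Submodule.span_induction with
    | mem x hx => exact ⟨hx.1, by rw [hx.2]; decide⟩
    | zero => exact ⟨C.zero_mem, by simp⟩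
    | add x y _ _ hx hy =>
      refine ⟨C.add_mem hx.1 hy.1, ?_⟩
      have hxy : x + y = x - y := by
        funext i
        exact (CharTwo.sub_eq_add (x i) (y i)).symm
      rw [hxy]
      have h1 := wt_sub x y
      have h2 := horth x hx.1 y hy.1
      rw [dot_eq_card_inter] at h2
      have h3 : 2 ∣ (supp x ∩ supp y).card := (ZMod.natCast_eq_zero_iff _ _).1 h2
      obtain ⟨a, ha⟩ := hx.2
      obtain ⟨b, hb⟩ := hy.2
      obtain ⟨c, hc⟩ := h3
      omega
    | smul a x _ hx =>
      rcases z2_cases a with rfl | rfl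
      · rw [zero_smul]; exact ⟨C.zero_mem, by simp⟩
      · rw [one_smul]; exact hx
  exact main.2

end Cfsg.Agent.helper28.Golay
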