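import Cfsg.Agent.Lib_helper28_Design
import Cfsg.Agent.Lib_helper28_Golay2
set_option autoImplicit false

/-! The bottom row of the Leech triangle of an S(5,8,24): 30, 0, 16, 0, 4, 0, 0, 0, 1. -/

namespace Cfsg.Agent.helper28.Design

open Finset Cfsg.Agent.S5625

/-- the numbers of blocks of an S(5,8,24) through an i-subset of a block. -/
def lam24 : ℕ → ℕ
  | 0 => 759 | 1 => 253 | 2 => 77 | 3 => 21 | 4 => 5 | 5 => 1 | 6 => 1 | 7 => 1 | 8 => 1 | _ => 0

lemma cnt_le5 {α : Type*} [Fintype α] [DecidableEq α] (hα : Fintype.card α = 24)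
    (Bf : Finset (Finset α)) (hk : ∀ b ∈ Bf, b.card = 8)
    (h5 : ∀ S : Finset α, S.card = 5 → cnt Bf S = 1) (S : Finset α) (hS : S.card ≤ 5) :
    cnt Bf S = lam24 S.card := by
  obtain ⟨h4, h3, h2, h1, h0⟩ := Cfsg.Agent.helper28.Golay.cnt_values hα Bf hk h5
  have hcases : S.card = 0 ∨ S.card = 1 ∨ S.card = 2 ∨ S.card = 3 ∨ S.card = 4 ∨ S.card = 5 := by
    omega
  rcases hcases with h | h | h | h | h | h
  · rw [h, Finset.card_eq_zero.1 h]; exact h0
  · rw [h]; exact h1 S h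
  · rw [h]; exact h2 S h
  · rw [h]; exact h3 S h
  · rw [h]; exact h4 S h
  · rw [h]; exact h5 S h

lemma cnt_sub_block {α : Type*} [Fintype α] [DecidableEq α] (hα : Fintype.card α = 24)
    (Bf : Finset (Finset α)) (hk : ∀ b ∈ Bf, b.card = 8)
    (h5 : ∀ S : Finset α, S.card = 5 → cnt Bf S = 1) (b : Finset α) (hb : b ∈ Bf)
    (S : Finset α) (hS : S ⊆ b) : cnt Bf S = lam24 S.card := by
  have hb8 := hk b hb
  have hle : S.card ≤ 8 := hb8 ▸ Finset.card_le_card hS
  by_cases h5' : S.card ≤ 5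
  · exact cnt_le5 hα Bf hk h5 S h5'
  · have h1 : cnt Bf S = 1 := by
      obtain ⟨T, hTS, hT⟩ := Finset.exists_subset_card_eq (s := S) (n := 5) (by omega)
      apply le_antisymm
      · rw [← h5 T hT]
        unfold cnt
        apply Finset.card_le_card
        intro c hc
        rw [Finset.mem_filter] at hc ⊢
        exact ⟨hc.1, hTS.trans hc.2⟩
      · unfold cnt
        rw [Nat.one_le_iff_ne_zero, Ne, Finset.card_eq_zero]
        intro hh
        have : b ∈ Bf.filter (fun c => S ⊆ c) := Finset.mem_filter.2 ⟨hb, hS⟩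
        rw [hh] at this
        exact absurd this (Finset.notMem_empty b)
    rw [h1]
    have hcases : S.card = 6 ∨ S.card = 7 ∨ S.card = 8 := by omega
    rcases hcases with h | h | h <;> rw [h] <;> rfl

theorem s5824 {α : Type*} [Fintype α] [DecidableEq α] (hα : Fintype.card α = 24)
    (Bf : Finset (Finset α)) (hk : ∀ b ∈ Bf, b.card = 8)
    (h5 : ∀ S : Finset α, S.card = 5 → cnt Bf S = 1) (b : Finset α) (hb : b ∈ Bf)
    (s : Finset α) (hs : s ⊆ b) :
    (s.card = 0 → (Bf.filter (fun c => b ∩ c = s)).card = 30) ∧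
    (s.card = 1 → (Bf.filter (fun c => b ∩ c = s)).card = 0) ∧
    (s.card = 2 → (Bf.filter (fun c => b ∩ c = s)).card = 16) ∧
    (s.card = 3 → (Bf.filter (fun c => b ∩ c = s)).card = 0) ∧
    (s.card = 4 → (Bf.filter (fun c => b ∩ c = s)).card = 4) ∧
    (s.card = 5 → (Bf.filter (fun c => b ∩ c = s)).card = 0) ∧
    (s.card = 6 → (Bf.filter (fun c => b ∩ c = s)).card = 0) ∧
    (s.card = 7 → (Bf.filter (fun c => b ∩ c = s)).card = 0) := by
  have hb8 := hk b hb
  set Y := b \ s with hY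
  have hYcard : Y.card = 8 - s.card := by
    rw [hY, Finset.card_sdiff_of_subset hs, hb8]
  have hm : ∀ j, ∑ k ∈ range (Y.card + 1),
        (Bf.filter (fun c => s ⊆ c ∧ (c ∩ Y).card = k)).card * k.choose j
      = (Y.card).choose j * lam24 (s.card + j) := by
    intro j
    rw [moment_sub]
    have hcongr : ∀ P ∈ powersetCard j Y, cnt Bf (s ∪ P) = lam24 (s.card + j) := by
      intro P hP
      rw [Finset.mem_powersetCard] at hP
      rw [cnt_sub_block hα Bf hk h5 b hb (s ∪ P)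
          (Finset.union_subset hs (hP.1.trans Finset.sdiff_subset)),
        Finset.card_union_of_disjoint (Finset.disjoint_of_subset_right hP.1 Finset.disjoint_sdiff),
        hP.2]
    rw [Finset.sum_congr rfl hcongr, Finset.sum_const, Finset.card_powersetCard, smul_eq_mul]
  have hzero : (Bf.filter (fun c => b ∩ c = s)).card =
      (Bf.filter (fun c => s ⊆ c ∧ (c ∩ Y).card = 0)).card := by
    congr 1
    apply Finset.filter_congr
    intro c _
    exact inter_eq_iff b c s hs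
  rw [hzero]
  have m0 := hm 0
  have m1 := hm 1
  have m2 := hm 2
  have m3 := hm 3
  have m4 := hm 4
  have m5 := hm 5
  have m6 := hm 6
  have m7 := hm 7
  have m8 := hm 8
  refine ⟨?_, ?_, ?_, ?_, ?_, ?_, ?_, ?_⟩ <;> intro hc <;>
    rw [hYcard, hc] at m0 m1 m2 m3 m4 m5 m6 m7 m8 <;>
    simp only [Finset.sum_range_succ, Finset.sum_range_zero, Nat.choose, lam24] at m0 m1 m2 m3 m4 m5 m6 m7 m8 <;>
    omega


/-- the finset of blocks of a set system on a fintype -/
noncomputable def toF {α : Type*} [Fintype α] [DecidableEq α] (B : Set (Finset α)) :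
    Finset (Finset α) := by
  classical exact Finset.univ.filter (fun b => b ∈ B)

lemma mem_toF {α : Type*} [Fintype α] [DecidableEq α] (B : Set (Finset α)) (b : Finset α) :
    b ∈ toF B ↔ b ∈ B := by
  classical
  unfold toF
  simp

lemma toF_card {α : Type*} [Fintype α] [DecidableEq α] {B : Set (Finset α)} {t k : ℕ}
    (hB : Cfsg.IsSteinerSystem t k B) : ∀ b ∈ toF B, b.card = k :=
  fun b hb => hB.1 b ((mem_toF B b).1 hb)

lemma toF_cnt {α : Type*} [Fintype α] [DecidableEq α] {B : Set (Finset α)} {t k : ℕ}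
    (hB : Cfsg.IsSteinerSystem t k B) : ∀ S : Finset α, S.card = t → cnt (toF B) S = 1 := by
  intro S hS
  obtain ⟨b, ⟨hbB, hSb⟩, hu⟩ := hB.2 S hS
  unfold cnt
  rw [Finset.card_eq_one]
  refine ⟨b, ?_⟩
  ext c
  simp only [Finset.mem_filter, Finset.mem_singleton, mem_toF]
  constructor
  · rintro ⟨h1, h2⟩; exact hu c ⟨h1, h2⟩
  · rintro rfl; exact ⟨hbB, hSb⟩

lemma ncard_eq_toF {α : Type*} [Fintype α] [DecidableEq α] (B : Set (Finset α))
    (P : Finset α → Prop) [DecidablePred P] :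
    {c : Finset α | c ∈ B ∧ P c}.ncard = ((toF B).filter P).card := by
  rw [← Set.ncard_coe_finset]
  congr 1
  ext c
  simp [mem_toF]

theorem s5824_set {α : Type*} [Fintype α] [DecidableEq α] (hα : Fintype.card α = 24)
    {B : Set (Finset α)} (hB : Cfsg.IsSteinerSystem 5 8 B) (b : Finset α) (hb : b ∈ B)
    (s : Finset α) (hs : s ⊆ b) :
    (s.card = 0 → {c : Finset α | c ∈ B ∧ b ∩ c = s}.ncard = 30) ∧
    (s.card = 1 → {c : Finset α | c ∈ B ∧ b ∩ c = s}.ncard = 0) ∧
    (s.card = 2 → {c : Finset α | c ∈ B ∧ b ∩ c = s}.ncard = 16) ∧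
    (s.card = 3 → {c : Finset α | c ∈ B ∧ b ∩ c = s}.ncard = 0) ∧
    (s.card = 4 → {c : Finset α | c ∈ B ∧ b ∩ c = s}.ncard = 4) ∧
    (s.card = 5 → {c : Finset α | c ∈ B ∧ b ∩ c = s}.ncard = 0) ∧
    (s.card = 6 → {c : Finset α | c ∈ B ∧ b ∩ c = s}.ncard = 0) ∧
    (s.card = 7 → {c : Finset α | c ∈ B ∧ b ∩ c = s}.ncard = 0) := by
  rw [ncard_eq_toF]
  exact s5824 hα (toF B) (toF_card hB) (toF_cnt hB) b ((mem_toF B b).2 hb) s hs

end Cfsg.Agent.helper28.Design
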