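import Mathlib
set_option autoImplicit false

/-! Generic lemmas on two-sided orbit computations: if `M` is transitive on `SX` and on `SY` and the
orbits of the stabiliser of a base point `x₀` on `SY` are the fibres of an invariant function, then
the same holds for the stabiliser of any `y₀` on `SX`, with sizes related by double counting. -/

namespace Cfsg.Agent.helper28.Dual

open MulAction

section
variable {G X Y ι : Type*} [Group G] [MulAction G X] [MulAction G Y]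

theorem dual_trans (M : Subgroup G) (SX : Set X) (SY : Set Y) (c : X → Y → ι)
    (hinv : ∀ g ∈ M, ∀ x y, c (g • x) (g • y) = c x y)
    (hX : ∀ x ∈ SX, ∀ x' ∈ SX, ∃ g ∈ M, g • x = x')
    (hSY : ∀ g ∈ M, ∀ y ∈ SY, g • y ∈ SY)
    {x₀ : X} (hx₀ : x₀ ∈ SX)
    (hcert : ∀ y ∈ SY, ∀ y' ∈ SY, c x₀ y = c x₀ y' → ∃ g ∈ M, g • x₀ = x₀ ∧ g • y = y')
    {y₀ : Y} (hy₀ : y₀ ∈ SY) {x x' : X} (hx : x ∈ SX) (hx' : x' ∈ SX)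
    (hc : c x y₀ = c x' y₀) : ∃ g ∈ M, g • y₀ = y₀ ∧ g • x = x' := by
  obtain ⟨h, hh, hhx⟩ := hX x hx x₀ hx₀
  obtain ⟨h', hh', hhx'⟩ := hX x' hx' x₀ hx₀
  have e1 : c x₀ (h • y₀) = c x₀ (h' • y₀) := by
    calc c x₀ (h • y₀) = c (h • x) (h • y₀) := by rw [hhx]
      _ = c x y₀ := hinv h hh x y₀
      _ = c x' y₀ := hc
      _ = c (h' • x') (h' • y₀) := (hinv h' hh' x' y₀).symm
      _ = c x₀ (h' • y₀) := by rw [hhx']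
  obtain ⟨k, hk, hkx, hky⟩ := hcert (h • y₀) (hSY h hh y₀ hy₀) (h' • y₀) (hSY h' hh' y₀ hy₀) e1
  refine ⟨h'⁻¹ * k * h, M.mul_mem (M.mul_mem (M.inv_mem hh') hk) hh, ?_, ?_⟩
  · rw [mul_smul, mul_smul, hky, inv_smul_smul]
  · rw [mul_smul, mul_smul, hhx, hkx, ← hhx', inv_smul_smul]

theorem fiber_card [Fintype Y] [DecidableEq Y] [DecidableEq ι] (M : Subgroup G) (B : Finset Y)
    (c : X → Y → ι)
    (hinv : ∀ g ∈ M, ∀ x y, c (g • x) (g • y) = c x y)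
    (hB : ∀ g ∈ M, ∀ y ∈ B, g • y ∈ B)
    {x x₀ : X} {g : G} (hg : g ∈ M) (hgx : g • x = x₀) (i : ι) :
    (B.filter (fun y => c x y = i)).card = (B.filter (fun y => c x₀ y = i)).card := by
  apply Finset.card_bij (fun y _ => g • y)
  · intro y hy
    rw [Finset.mem_filter] at hy ⊢
    refine ⟨hB g hg y hy.1, ?_⟩
    rw [← hgx, hinv g hg]
    exact hy.2
  · intro y₁ _ y₂ _ h
    exact MulAction.injective g h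
  · intro y hy
    rw [Finset.mem_filter] at hy
    refine ⟨g⁻¹ • y, ?_, smul_inv_smul g y⟩
    rw [Finset.mem_filter]
    refine ⟨hB _ (M.inv_mem hg) y hy.1, ?_⟩
    have h := hinv g hg x (g⁻¹ • y)
    rw [smul_inv_smul, hgx] at h
    rw [← h]
    exact hy.2

theorem dual_count [Finite X] [Finite Y] (M : Subgroup G) (SX : Set X) (SY : Set Y)
    (c : X → Y → ι)
    (hinv : ∀ g ∈ M, ∀ x y, c (g • x) (g • y) = c x y)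
    (hX : ∀ x ∈ SX, ∀ x' ∈ SX, ∃ g ∈ M, g • x = x')
    (hY : ∀ y ∈ SY, ∀ y' ∈ SY, ∃ g ∈ M, g • y = y')
    (hSX : ∀ g ∈ M, ∀ x ∈ SX, g • x ∈ SX)
    (hSY : ∀ g ∈ M, ∀ y ∈ SY, g • y ∈ SY)
    {x₀ : X} (hx₀ : x₀ ∈ SX) {y₀ : Y} (hy₀ : y₀ ∈ SY) (i : ι) :
    SX.ncard * {y | y ∈ SY ∧ c x₀ y = i}.ncard = SY.ncard * {x | x ∈ SX ∧ c x y₀ = i}.ncard := by
  classical
  have := Fintype.ofFinite X
  have := Fintype.ofFinite Y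
  let A : Finset X := Finset.univ.filter (· ∈ SX)
  let B : Finset Y := Finset.univ.filter (· ∈ SY)
  have hA : ∀ x, x ∈ A ↔ x ∈ SX := fun x => by simp [A]
  have hB : ∀ y, y ∈ B ↔ y ∈ SY := fun y => by simp [B]
  have key := Finset.sum_card_bipartiteAbove_eq_sum_card_bipartiteBelow (s := A) (t := B)
    (fun x y => c x y = i)
  have h1 : ∀ x ∈ A, (B.bipartiteAbove (fun x y => c x y = i) x).card =
      (B.filter (fun y => c x₀ y = i)).card := by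
    intro x hx
    rw [hA] at hx
    obtain ⟨g, hg, hgx⟩ := hX x hx x₀ hx₀
    exact fiber_card M B c hinv (fun g hg y hy => (hB _).2 (hSY g hg y ((hB _).1 hy))) hg hgx i
  have h2 : ∀ y ∈ B, (A.bipartiteBelow (fun x y => c x y = i) y).card =
      (A.filter (fun x => c x y₀ = i)).card := by
    intro y hy
    rw [hB] at hy
    obtain ⟨g, hg, hgy⟩ := hY y hy y₀ hy₀
    exact fiber_card M A (fun y x => c x y) (fun g hg y x => hinv g hg x y)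
      (fun g hg x hx => (hA _).2 (hSX g hg x ((hA _).1 hx))) hg hgy i
  rw [Finset.sum_congr rfl h1, Finset.sum_congr rfl h2, Finset.sum_const, Finset.sum_const,
    smul_eq_mul, smul_eq_mul] at key
  have e1 : SX = ↑A := by ext x; simp [hA]
  have e2 : SY = ↑B := by ext y; simp [hB]
  have e3 : {y | y ∈ SY ∧ c x₀ y = i} = ↑(B.filter (fun y => c x₀ y = i)) := by
    ext y; simp [hB]
  have e4 : {x | x ∈ SX ∧ c x y₀ = i} = ↑(A.filter (fun x => c x y₀ = i)) := by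
    ext x; simp [hA]
  rw [e3, e4, Set.ncard_coe_finset, Set.ncard_coe_finset]
  conv_lhs => rw [e1, Set.ncard_coe_finset]
  conv_rhs => rw [e2, Set.ncard_coe_finset]
  exact key

end

section
variable {G Y Z ι : Type*} [Group G] [MulAction G Y] [MulAction G Z]

theorem orbit_eq (M : Subgroup G) (y₀ : Y) (SZ : Set Z) (c : Z → ι)
    (hinv : ∀ g ∈ M, g • y₀ = y₀ → ∀ z ∈ SZ, g • z ∈ SZ ∧ c (g • z) = c z)
    (htr : ∀ z ∈ SZ, ∀ z' ∈ SZ, c z = c z' → ∃ g ∈ M, g • y₀ = y₀ ∧ g • z = z')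
    {z : Z} (hz : z ∈ SZ) :
    MulAction.orbit ↥(MulAction.stabilizer ↥M y₀) z = {z' | z' ∈ SZ ∧ c z' = c z} := by
  ext z'
  rw [MulAction.mem_orbit_iff]
  constructor
  · rintro ⟨h, rfl⟩
    have hmem : ((h : ↥M) : G) • y₀ = y₀ := h.2
    exact hinv _ (h : ↥M).2 hmem z hz
  · rintro ⟨hz', hc⟩
    obtain ⟨g, hg, hgy, hgz⟩ := htr z hz z' hz' hc.symm
    exact ⟨⟨⟨g, hg⟩, hgy⟩, hgz⟩

end

section
variable {Z ι : Type*}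

theorem three_classes (SZ : Set Z) (hfin : SZ.Finite) (c : Z → ι) {i₁ i₂ i₃ : ι}
    (h12 : i₁ ≠ i₂) (h13 : i₁ ≠ i₃) (h23 : i₂ ≠ i₃)
    (htot : SZ.ncard = {z | z ∈ SZ ∧ c z = i₁}.ncard + {z | z ∈ SZ ∧ c z = i₂}.ncard +
      {z | z ∈ SZ ∧ c z = i₃}.ncard) :
    SZ = {z | z ∈ SZ ∧ c z = i₁} ∪ {z | z ∈ SZ ∧ c z = i₂} ∪ {z | z ∈ SZ ∧ c z = i₃} := by
  symm
  have hs1 : {z | z ∈ SZ ∧ c z = i₁} ⊆ SZ := fun z hz => hz.1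
  have hs2 : {z | z ∈ SZ ∧ c z = i₂} ⊆ SZ := fun z hz => hz.1
  have hs3 : {z | z ∈ SZ ∧ c z = i₃} ⊆ SZ := fun z hz => hz.1
  apply Set.eq_of_subset_of_ncard_le (Set.union_subset (Set.union_subset hs1 hs2) hs3) _ hfin
  have d12 : Disjoint {z | z ∈ SZ ∧ c z = i₁} {z | z ∈ SZ ∧ c z = i₂} := by
    rw [Set.disjoint_left]
    intro z hz hz'
    exact h12 (hz.2.symm.trans hz'.2)
  have d123 : Disjoint ({z | z ∈ SZ ∧ c z = i₁} ∪ {z | z ∈ SZ ∧ c z = i₂})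
      {z | z ∈ SZ ∧ c z = i₃} := by
    rw [Set.disjoint_left]
    rintro z (hz | hz) hz'
    · exact h13 (hz.2.symm.trans hz'.2)
    · exact h23 (hz.2.symm.trans hz'.2)
  rw [Set.ncard_union_eq d123 ((hfin.subset hs1).union (hfin.subset hs2)) (hfin.subset hs3),
    Set.ncard_union_eq d12 (hfin.subset hs1) (hfin.subset hs2), htot]

theorem three_orbits (SZ : Set Z) (hfin : SZ.Finite) (c : Z → ι) (orb : Z → Set Z)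
    (horb : ∀ z ∈ SZ, orb z = {z' | z' ∈ SZ ∧ c z' = c z}) {i₁ i₂ i₃ : ι}
    (h12 : i₁ ≠ i₂) (h13 : i₁ ≠ i₃) (h23 : i₂ ≠ i₃) {n₁ n₂ n₃ : ℕ}
    (h₁ : {z | z ∈ SZ ∧ c z = i₁}.ncard = n₁) (h₂ : {z | z ∈ SZ ∧ c z = i₂}.ncard = n₂)
    (h₃ : {z | z ∈ SZ ∧ c z = i₃}.ncard = n₃) (p₁ : n₁ ≠ 0) (p₂ : n₂ ≠ 0) (p₃ : n₃ ≠ 0)
    (htot : SZ.ncard = n₁ + n₂ + n₃) :
    ∃ X₁ ∈ SZ, ∃ X₂ ∈ SZ, ∃ X₃ ∈ SZ, (orb X₁).ncard = n₁ ∧ (orb X₂).ncard = n₂ ∧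
      (orb X₃).ncard = n₃ ∧ SZ = orb X₁ ∪ orb X₂ ∪ orb X₃ := by
  obtain ⟨X₁, hX₁⟩ := Set.nonempty_of_ncard_ne_zero (h₁.symm ▸ p₁)
  obtain ⟨X₂, hX₂⟩ := Set.nonempty_of_ncard_ne_zero (h₂.symm ▸ p₂)
  obtain ⟨X₃, hX₃⟩ := Set.nonempty_of_ncard_ne_zero (h₃.symm ▸ p₃)
  refine ⟨X₁, hX₁.1, X₂, hX₂.1, X₃, hX₃.1, ?_⟩
  rw [horb X₁ hX₁.1, horb X₂ hX₂.1, horb X₃ hX₃.1, hX₁.2, hX₂.2, hX₃.2]
  refine ⟨h₁, h₂, h₃, ?_⟩
  exact three_classes SZ hfin c h12 h13 h23 (by rw [h₁, h₂, h₃, htot])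

theorem four_classes (SZ : Set Z) (hfin : SZ.Finite) (c : Z → ι) {i₁ i₂ i₃ i₄ : ι}
    (h12 : i₁ ≠ i₂) (h13 : i₁ ≠ i₃) (h14 : i₁ ≠ i₄) (h23 : i₂ ≠ i₃) (h24 : i₂ ≠ i₄)
    (h34 : i₃ ≠ i₄)
    (htot : SZ.ncard = {z | z ∈ SZ ∧ c z = i₁}.ncard + {z | z ∈ SZ ∧ c z = i₂}.ncard +
      {z | z ∈ SZ ∧ c z = i₃}.ncard + {z | z ∈ SZ ∧ c z = i₄}.ncard) :
    SZ = {z | z ∈ SZ ∧ c z = i₁} ∪ {z | z ∈ SZ ∧ c z = i₂} ∪ {z | z ∈ SZ ∧ c z = i₃} ∪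
      {z | z ∈ SZ ∧ c z = i₄} := by
  symm
  have hs1 : {z | z ∈ SZ ∧ c z = i₁} ⊆ SZ := fun z hz => hz.1
  have hs2 : {z | z ∈ SZ ∧ c z = i₂} ⊆ SZ := fun z hz => hz.1
  have hs3 : {z | z ∈ SZ ∧ c z = i₃} ⊆ SZ := fun z hz => hz.1
  have hs4 : {z | z ∈ SZ ∧ c z = i₄} ⊆ SZ := fun z hz => hz.1
  apply Set.eq_of_subset_of_ncard_le
    (Set.union_subset (Set.union_subset (Set.union_subset hs1 hs2) hs3) hs4) _ hfin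
  have d12 : Disjoint {z | z ∈ SZ ∧ c z = i₁} {z | z ∈ SZ ∧ c z = i₂} := by
    rw [Set.disjoint_left]
    intro z hz hz'
    exact h12 (hz.2.symm.trans hz'.2)
  have d123 : Disjoint ({z | z ∈ SZ ∧ c z = i₁} ∪ {z | z ∈ SZ ∧ c z = i₂})
      {z | z ∈ SZ ∧ c z = i₃} := by
    rw [Set.disjoint_left]
    rintro z (hz | hz) hz'
    · exact h13 (hz.2.symm.trans hz'.2)
    · exact h23 (hz.2.symm.trans hz'.2)
  have d1234 : Disjoint ({z | z ∈ SZ ∧ c z = i₁} ∪ {z | z ∈ SZ ∧ c z = i₂} ∪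
      {z | z ∈ SZ ∧ c z = i₃}) {z | z ∈ SZ ∧ c z = i₄} := by
    rw [Set.disjoint_left]
    rintro z ((hz | hz) | hz) hz'
    · exact h14 (hz.2.symm.trans hz'.2)
    · exact h24 (hz.2.symm.trans hz'.2)
    · exact h34 (hz.2.symm.trans hz'.2)
  rw [Set.ncard_union_eq d1234
      (((hfin.subset hs1).union (hfin.subset hs2)).union (hfin.subset hs3)) (hfin.subset hs4),
    Set.ncard_union_eq d123 ((hfin.subset hs1).union (hfin.subset hs2)) (hfin.subset hs3),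
    Set.ncard_union_eq d12 (hfin.subset hs1) (hfin.subset hs2), htot]

theorem four_orbits (SZ : Set Z) (hfin : SZ.Finite) (c : Z → ι) (orb : Z → Set Z)
    (horb : ∀ z ∈ SZ, orb z = {z' | z' ∈ SZ ∧ c z' = c z}) {i₁ i₂ i₃ i₄ : ι}
    (h12 : i₁ ≠ i₂) (h13 : i₁ ≠ i₃) (h14 : i₁ ≠ i₄) (h23 : i₂ ≠ i₃) (h24 : i₂ ≠ i₄)
    (h34 : i₃ ≠ i₄) {n₁ n₂ n₃ n₄ : ℕ}
    (h₁ : {z | z ∈ SZ ∧ c z = i₁}.ncard = n₁) (h₂ : {z | z ∈ SZ ∧ c z = i₂}.ncard = n₂)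
    (h₃ : {z | z ∈ SZ ∧ c z = i₃}.ncard = n₃) (h₄ : {z | z ∈ SZ ∧ c z = i₄}.ncard = n₄)
    (p₁ : n₁ ≠ 0) (p₂ : n₂ ≠ 0) (p₃ : n₃ ≠ 0) (p₄ : n₄ ≠ 0)
    (htot : SZ.ncard = n₁ + n₂ + n₃ + n₄) :
    ∃ X₁ ∈ SZ, ∃ X₂ ∈ SZ, ∃ X₃ ∈ SZ, ∃ X₄ ∈ SZ, (orb X₁).ncard = n₁ ∧ (orb X₂).ncard = n₂ ∧
      (orb X₃).ncard = n₃ ∧ (orb X₄).ncard = n₄ ∧ SZ = orb X₁ ∪ orb X₂ ∪ orb X₃ ∪ orb X₄ := by
  obtain ⟨X₁, hX₁⟩ := Set.nonempty_of_ncard_ne_zero (h₁.symm ▸ p₁)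
  obtain ⟨X₂, hX₂⟩ := Set.nonempty_of_ncard_ne_zero (h₂.symm ▸ p₂)
  obtain ⟨X₃, hX₃⟩ := Set.nonempty_of_ncard_ne_zero (h₃.symm ▸ p₃)
  obtain ⟨X₄, hX₄⟩ := Set.nonempty_of_ncard_ne_zero (h₄.symm ▸ p₄)
  refine ⟨X₁, hX₁.1, X₂, hX₂.1, X₃, hX₃.1, X₄, hX₄.1, ?_⟩
  rw [horb X₁ hX₁.1, horb X₂ hX₂.1, horb X₃ hX₃.1, horb X₄ hX₄.1, hX₁.2, hX₂.2, hX₃.2, hX₄.2]
  refine ⟨h₁, h₂, h₃, h₄, ?_⟩
  exact four_classes SZ hfin c h12 h13 h14 h23 h24 h34 (by rw [h₁, h₂, h₃, h₄, htot])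

end

end Cfsg.Agent.helper28.Dual
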