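import Mathlib

set_option autoImplicit false
set_option synthInstance.maxSize 4096
set_option synthInstance.maxHeartbeats 2000000
set_option maxHeartbeats 2000000

/-! A concrete model of the extraspecial group of order 32 of minus type (central product of a
quaternion group and a dihedral group of order 8), and its automorphisms (helper28). -/

namespace Cfsg.Agent.helper28.ES32

/-- elements `z^e A^a B^b C^c D^d` of the central product `Q₈ ∘ D₈` -/
@[ext] structure P0 where
  e : Bool
  a : Bool
  b : Bool
  c : Bool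
  d : Bool
deriving DecidableEq, Fintype

namespace P0

instance : Mul P0 := ⟨fun x y =>
  { e := xor (xor (xor (xor (xor x.e y.e) (x.a && y.a)) (x.b && y.b)) (x.b && y.a)) (x.d && y.c)
    a := xor x.a y.a
    b := xor x.b y.b
    c := xor x.c y.c
    d := xor x.d y.d }⟩

instance : One P0 := ⟨⟨false, false, false, false, false⟩⟩

instance : Inv P0 := ⟨fun x => x * x * x⟩

theorem mul_def (x y : P0) : x * y =
  { e := xor (xor (xor (xor (xor x.e y.e) (x.a && y.a)) (x.b && y.b)) (x.b && y.a)) (x.d && y.c)
    a := xor x.a y.a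
    b := xor x.b y.b
    c := xor x.c y.c
    d := xor x.d y.d } := rfl

theorem one_def : (1 : P0) = ⟨false, false, false, false, false⟩ := rfl

theorem mul_assoc' : ∀ x y w : P0, x * y * w = x * (y * w) := by decide +kernel

theorem one_mul' : ∀ x : P0, 1 * x = x := by decide +kernel

theorem inv_mul_cancel' : ∀ x : P0, x⁻¹ * x = 1 := by decide +kernel

instance : Group P0 := Group.ofLeftAxioms mul_assoc' one_mul' inv_mul_cancel'

theorem card_eq : Nat.card P0 = 32 := by
  rw [Nat.card_eq_fintype_card]; decide +kernel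

/-- the central involution -/
def z0 : P0 := ⟨true, false, false, false, false⟩
/-- generators -/
def gA : P0 := ⟨false, true, false, false, false⟩
def gB : P0 := ⟨false, false, true, false, false⟩
def gC : P0 := ⟨false, false, false, true, false⟩
def gD : P0 := ⟨false, false, false, false, true⟩

/-- `g` or `1` -/
def pw {G : Type*} [One G] (g : G) (b : Bool) : G := if b then g else 1

theorem pw_true {G : Type*} [One G] (g : G) : pw g true = g := rfl
theorem pw_false {G : Type*} [One G] (g : G) : pw g false = 1 := rfl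

theorem normal_form : ∀ x : P0, x = pw z0 x.e * pw gA x.a * pw gB x.b * pw gC x.c * pw gD x.d := by
  decide +kernel

/-- the five noncentral involutions up to the centre -/
def sg : Fin 5 → P0
  | 0 => ⟨false, false, false, true, false⟩
  | 1 => ⟨false, false, false, false, true⟩
  | 2 => ⟨false, true, false, true, true⟩
  | 3 => ⟨false, false, true, true, true⟩
  | 4 => ⟨false, true, true, true, true⟩

/-- the index of the class of a noncentral involution -/
def cls (x : P0) : Fin 5 :=
  match x.a, x.b, x.c, x.d with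
  | false, false, true, false => 0
  | false, false, false, true => 1
  | true, false, true, true => 2
  | false, true, true, true => 3
  | true, true, true, true => 4
  | _, _, _, _ => 0

theorem center_cases : ∀ x : P0, (∀ y : P0, x * y = y * x) → x = 1 ∨ x = z0 := by decide +kernel

theorem z0_central : ∀ y : P0, z0 * y = y * z0 := by decide +kernel

theorem z0_ne_one : z0 ≠ 1 := by decide +kernel

theorem sing_cases : ∀ x : P0, x * x = 1 → x ≠ 1 → x ≠ z0 → (x = sg (cls x) ∨ x = sg (cls x) * z0) := by
  decide +kernel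

theorem sg_sq : ∀ i : Fin 5, sg i * sg i = 1 := by decide +kernel
theorem sg_ne_one : ∀ i : Fin 5, sg i ≠ 1 := by decide +kernel
theorem sg_ne_z0 : ∀ i : Fin 5, sg i ≠ z0 := by decide +kernel
theorem cls_sg : ∀ i : Fin 5, cls (sg i) = i := by decide +kernel
theorem cls_mul_z0 : ∀ x : P0, cls (x * z0) = cls x := by decide +kernel
theorem cls_conj : ∀ (g : P0) (i : Fin 5), cls (g * sg i * g⁻¹) = i := by decide +kernel

theorem inner_realize : ∀ e0 e1 e2 e3 : Bool, ∃ g : P0,
    g * sg 0 * g⁻¹ = sg 0 * pw z0 e0 ∧ g * sg 1 * g⁻¹ = sg 1 * pw z0 e1 ∧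
    g * sg 2 * g⁻¹ = sg 2 * pw z0 e2 ∧ g * sg 3 * g⁻¹ = sg 3 * pw z0 e3 := by decide +kernel

theorem gen_form : ∀ x : P0, ∃ k0 k1 k2 k3 k4 : Bool,
    x = pw (sg 0) k0 * pw (sg 1) k1 * pw (sg 2) k2 * pw (sg 3) k3 * pw (sg 0 * sg 1 * sg 0 * sg 1) k4 := by
  decide +kernel

theorem detect : ∀ x : P0, x ≠ 1 → x = z0 ∨ ∃ g : P0, x * g * x⁻¹ * g⁻¹ = z0 := by decide +kernel

/-- the map determined by images of the generators -/
def mkMap (hA hB hC hD : P0) (x : P0) : P0 :=
  pw z0 x.e * pw hA x.a * pw hB x.b * pw hC x.c * pw hD x.d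

/-- images under an automorphism inducing a transposition -/
def tauF : P0 → P0 := mkMap gA gB gD gC

/-- images under an automorphism inducing a five-cycle -/
def sigF : P0 → P0 :=
  mkMap ⟨false, true, true, false, true⟩ ⟨false, false, true, false, true⟩
    ⟨false, false, false, false, true⟩ ⟨false, true, false, true, true⟩

theorem tauF_mul : ∀ x y : P0, tauF (x * y) = tauF x * tauF y := by decide +kernel
theorem sigF_mul : ∀ x y : P0, sigF (x * y) = sigF x * sigF y := by decide +kernel
theorem tauF_inj : ∀ x y : P0, tauF x = tauF y → x = y := by decide +kernel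
theorem sigF_inj : ∀ x y : P0, sigF x = sigF y → x = y := by decide +kernel
/-- the five-cycle -/
def rot : Fin 5 → Fin 5
  | 0 => 1
  | 1 => 2
  | 2 => 3
  | 3 => 4
  | 4 => 0

/-- the transposition -/
def swp : Fin 5 → Fin 5
  | 0 => 1
  | 1 => 0
  | 2 => 2
  | 3 => 3
  | 4 => 4

theorem tauF_cls : ∀ i : Fin 5, cls (tauF (sg i)) = swp i := by decide +kernel
theorem sigF_cls : ∀ i : Fin 5, cls (sigF (sg i)) = rot i := by decide +kernel
theorem swp_eq : ∀ i : Fin 5, Equiv.swap (0 : Fin 5) 1 i = swp i := by decide
theorem rot_eq : ∀ i : Fin 5, i + 1 = rot i := by decide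




end P0

end Cfsg.Agent.helper28.ES32
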