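import Mathlib
import Cfsg.Agent.Lib_helper28_ES32

set_option autoImplicit false

/-! Automorphisms of the concrete extraspecial group of order 32 of minus type: the action on the
five classes of noncentral involutions (helper28). -/

namespace Cfsg.Agent.helper28.ES32

open P0

theorem aut_z0 (α : MulAut P0) : α z0 = z0 := by
  have hc : ∀ y, α z0 * y = y * α z0 := by
    intro y
    obtain ⟨y', rfl⟩ := α.surjective y
    rw [← map_mul, ← map_mul, z0_central]
  rcases center_cases _ hc with h | h
  · exfalso; exact z0_ne_one (α.injective (h.trans (map_one α).symm))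
  · exact h

theorem aut_sg (α : MulAut P0) (i : Fin 5) :
    α (sg i) = sg (cls (α (sg i))) ∨ α (sg i) = sg (cls (α (sg i))) * z0 := by
  apply sing_cases
  · rw [← map_mul, sg_sq, map_one]
  · intro h; exact sg_ne_one i (α.injective (h.trans (map_one α).symm))
  · intro h; exact sg_ne_z0 i (α.injective (h.trans (aut_z0 α).symm))

/-- the action on the five classes -/
def actFun (α : MulAut P0) (i : Fin 5) : Fin 5 := cls (α (sg i))

theorem actFun_one (i : Fin 5) : actFun 1 i = i := cls_sg i

theorem actFun_mul (α β : MulAut P0) (i : Fin 5) : actFun (α * β) i = actFun α (actFun β i) := by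
  unfold actFun
  rw [MulAut.mul_apply]
  obtain ⟨j, hj⟩ : ∃ j, j = cls (β (sg i)) := ⟨_, rfl⟩
  have h := aut_sg β i
  rw [← hj] at h ⊢
  rcases h with h | h
  · rw [h]
  · rw [h, map_mul, aut_z0, cls_mul_z0]

/-- the permutation induced by an automorphism -/
def actPerm (α : MulAut P0) : Equiv.Perm (Fin 5) where
  toFun := actFun α
  invFun := actFun α⁻¹
  left_inv i := by rw [← actFun_mul, inv_mul_cancel, actFun_one]
  right_inv i := by rw [← actFun_mul, mul_inv_cancel, actFun_one]

/-- the homomorphism to the symmetric group of degree five -/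
def Phi : MulAut P0 →* Equiv.Perm (Fin 5) where
  toFun := actPerm
  map_one' := Equiv.ext fun i => actFun_one i
  map_mul' α β := Equiv.ext fun i => actFun_mul α β i

theorem Phi_apply (α : MulAut P0) (i : Fin 5) : Phi α i = cls (α (sg i)) := rfl

theorem conj_mem_ker (g : P0) : MulAut.conj g ∈ Phi.ker := by
  rw [MonoidHom.mem_ker]
  refine Equiv.ext fun i => ?_
  rw [Phi_apply, MulAut.conj_apply, cls_conj]
  rfl

theorem aut_pw (α : MulAut P0) (s : P0) (k : Bool) : α (pw s k) = pw (α s) k := by
  cases k
  · simp only [pw_false, map_one]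
  · simp only [pw_true]

theorem mem_range_of_mem_ker (α : MulAut P0) (h : α ∈ Phi.ker) :
    α ∈ (MulAut.conj : P0 →* MulAut P0).range := by
  have hfix : ∀ i, cls (α (sg i)) = i := fun i => by
    have h1 := MonoidHom.mem_ker.mp h
    rw [← Phi_apply, h1]; rfl
  have hs : ∀ i, ∃ e : Bool, α (sg i) = sg i * pw z0 e := by
    intro i
    have h1 := aut_sg α i
    rw [hfix i] at h1
    rcases h1 with h1 | h1
    · exact ⟨false, by rw [h1, pw_false, mul_one]⟩
    · exact ⟨true, by rw [h1, pw_true]⟩
  obtain ⟨e0, h0⟩ := hs 0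
  obtain ⟨e1, h1⟩ := hs 1
  obtain ⟨e2, h2⟩ := hs 2
  obtain ⟨e3, h3⟩ := hs 3
  obtain ⟨g, hg0, hg1, hg2, hg3⟩ := inner_realize e0 e1 e2 e3
  refine ⟨g, ?_⟩
  have hc0 : MulAut.conj g (sg 0) = α (sg 0) := by rw [MulAut.conj_apply, hg0, h0]
  have hc1 : MulAut.conj g (sg 1) = α (sg 1) := by rw [MulAut.conj_apply, hg1, h1]
  have hc2 : MulAut.conj g (sg 2) = α (sg 2) := by rw [MulAut.conj_apply, hg2, h2]
  have hc3 : MulAut.conj g (sg 3) = α (sg 3) := by rw [MulAut.conj_apply, hg3, h3]
  apply MulEquiv.ext
  intro x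
  obtain ⟨k0, k1, k2, k3, k4, hx⟩ := gen_form x
  rw [hx]
  simp only [map_mul, aut_pw, hc0, hc1, hc2, hc3]

theorem ker_eq : Phi.ker = (MulAut.conj : P0 →* MulAut P0).range := by
  apply le_antisymm
  · intro α h; exact mem_range_of_mem_ker α h
  · rintro _ ⟨g, rfl⟩; exact conj_mem_ker g

/-- an automorphism inducing a transposition -/
noncomputable def tau : MulAut P0 :=
  MulEquiv.ofBijective (⟨tauF, tauF_mul⟩ : P0 →ₙ* P0)
    ⟨fun x y h => tauF_inj x y h, Finite.surjective_of_injective fun x y h => tauF_inj x y h⟩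

/-- an automorphism inducing a five-cycle -/
noncomputable def sig : MulAut P0 :=
  MulEquiv.ofBijective (⟨sigF, sigF_mul⟩ : P0 →ₙ* P0)
    ⟨fun x y h => sigF_inj x y h, Finite.surjective_of_injective fun x y h => sigF_inj x y h⟩

theorem tau_apply (x : P0) : tau x = tauF x := rfl
theorem sig_apply (x : P0) : sig x = sigF x := rfl

theorem Phi_tau : Phi tau = Equiv.swap (0 : Fin 5) 1 := by
  refine Equiv.ext fun i => ?_
  rw [Phi_apply, tau_apply, tauF_cls, swp_eq]

theorem Phi_sig : Phi sig = finRotate 5 := by
  refine Equiv.ext fun i => ?_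
  rw [Phi_apply, sig_apply, sigF_cls, finRotate_apply, rot_eq]

theorem Phi_surjective : Function.Surjective Phi := by
  rw [← MonoidHom.range_eq_top]
  have hcl := Equiv.Perm.closure_cycle_adjacent_swap (isCycle_finRotate (n := 3))
    (support_finRotate (n := 3)) (0 : Fin 5)
  have h01 : (finRotate 5) (0 : Fin 5) = 1 := by decide
  rw [h01] at hcl
  rw [eq_top_iff, ← hcl, Subgroup.closure_le]
  rintro p (rfl | rfl)
  · exact ⟨sig, Phi_sig⟩
  · exact ⟨tau, Phi_tau⟩

theorem conj_ker_eq_center (G : Type*) [Group G] :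
    (MulAut.conj : G →* MulAut G).ker = Subgroup.center G := by
  ext g
  rw [MonoidHom.mem_ker, Subgroup.mem_center_iff]
  constructor
  · intro h x
    have := congrArg (fun f : MulAut G => f x) h
    simp only [MulAut.conj_apply, MulAut.one_apply] at this
    symm
    calc g * x = (g * x * g⁻¹) * g := by group
      _ = x * g := by rw [this]
  · intro h
    apply MulEquiv.ext
    intro x
    rw [MulAut.conj_apply, MulAut.one_apply, ← h x, mul_inv_cancel_right]

theorem card_inn_mul_card_center (G : Type*) [Group G] [Finite G] :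
    Nat.card (MulAut.conj : G →* MulAut G).range * Nat.card (Subgroup.center G) = Nat.card G := by
  rw [Subgroup.card_eq_card_quotient_mul_card_subgroup (MulAut.conj : G →* MulAut G).ker,
    Nat.card_congr (QuotientGroup.quotientKerEquivRange (MulAut.conj : G →* MulAut G)).toEquiv,
    conj_ker_eq_center]

theorem inn_normal (G : Type*) [Group G] : (MulAut.conj : G →* MulAut G).range.Normal := by
  constructor
  rintro _ ⟨g, rfl⟩ α
  refine ⟨α g, ?_⟩
  apply MulEquiv.ext
  intro x
  simp only [MulAut.conj_apply, MulAut.mul_apply, MulAut.inv_apply, map_mul, map_inv,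
    MulEquiv.apply_symm_apply]

theorem card_center_P0 : Nat.card (Subgroup.center P0) = 2 := by
  rw [Nat.card_eq_fintype_card]; decide +kernel

theorem card_inn_P0 : Nat.card (MulAut.conj : P0 →* MulAut P0).range = 16 := by
  have h := card_inn_mul_card_center P0
  rw [card_center_P0, P0.card_eq] at h
  omega

theorem card_aut_P0 : Nat.card (MulAut P0) = 1920 := by
  rw [Subgroup.card_eq_card_quotient_mul_card_subgroup Phi.ker,
    Nat.card_congr (QuotientGroup.quotientKerEquivOfSurjective Phi Phi_surjective).toEquiv,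
    ker_eq, card_inn_P0, Nat.card_perm, Nat.card_eq_fintype_card, Fintype.card_fin]
  rfl

/-- the outer automorphism group of the model is the symmetric group of degree five -/
noncomputable def outEquivP0 [(MulAut.conj : P0 →* MulAut P0).range.Normal] :
    MulAut P0 ⧸ (MulAut.conj : P0 →* MulAut P0).range ≃* Equiv.Perm (Fin 5) :=
  (QuotientGroup.quotientMulEquivOfEq ker_eq.symm).trans
    (QuotientGroup.quotientKerEquivOfSurjective Phi Phi_surjective)

end Cfsg.Agent.helper28.ES32
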