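import Mathlib
import Cfsg.Agent.Lib_helper28_ES32

set_option autoImplicit false

/-! A group with a "basis" satisfying the relations of `Q₈ ∘ D₈` and with 32 elements is
isomorphic to the concrete model (helper28). -/

namespace Cfsg.Agent.helper28.ES32

open P0

variable {P : Type*} [Group P]

/-- relations of the central product `Q₈ ∘ D₈` -/
structure Basis (z A B C D : P) : Prop where
  zc : ∀ w : P, w * z = z * w
  zz : z * z = 1
  AA : A * A = z
  BB : B * B = z
  BA : B * A = z * (A * B)
  CC : C * C = 1
  DD : D * D = 1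
  DC : D * C = z * (C * D)
  CA : C * A = A * C
  CB : C * B = B * C
  DA : D * A = A * D
  DB : D * B = B * D

/-- the map from the model -/
def toP (z A B C D : P) (x : P0) : P :=
  pw z x.e * ((pw A x.a * pw B x.b) * (pw C x.c * pw D x.d))

variable {z A B C D : P}

theorem Basis.pwz_central (hb : Basis z A B C D) (e : Bool) (w : P) : w * pw z e = pw z e * w := by
  cases e
  · simp only [pw_false, mul_one, one_mul]
  · simp only [pw_true]; exact hb.zc w

theorem Basis.pwz_mul (hb : Basis z A B C D) (s t : Bool) (w : P) :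
    pw z s * (pw z t * w) = pw z (xor s t) * w := by
  cases s <;> cases t <;> simp [pw, ← mul_assoc, hb.zz]

theorem Basis.qlemma (hb : Basis z A B C D) (a b a' b' : Bool) :
    (pw A a * pw B b) * (pw A a' * pw B b') =
      pw z (xor (xor (a && a') (b && b')) (b && a')) * (pw A (xor a a') * pw B (xor b b')) := by
  have h1 : ∀ w, A * (A * w) = z * w := fun w => by rw [← mul_assoc, hb.AA]
  have h2 : ∀ w, B * (B * w) = z * w := fun w => by rw [← mul_assoc, hb.BB]
  have h3 : ∀ w, B * (A * w) = z * (A * (B * w)) := fun w => by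
    rw [← mul_assoc, hb.BA, mul_assoc, mul_assoc]
  have h4 : ∀ w, z * (z * w) = w := fun w => by rw [← mul_assoc, hb.zz, one_mul]
  have h5 : ∀ w, A * (z * w) = z * (A * w) := fun w => by rw [← mul_assoc, hb.zc, mul_assoc]
  have h6 : ∀ w, B * (z * w) = z * (B * w) := fun w => by rw [← mul_assoc, hb.zc, mul_assoc]
  cases a <;> cases b <;> cases a' <;> cases b' <;>
    simp [pw, mul_assoc, hb.AA, hb.BB, hb.BA, hb.zz, hb.zc A, hb.zc B, h1, h2, h3, h4, h5, h6]

theorem Basis.dlemma (hb : Basis z A B C D) (c d c' d' : Bool) :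
    (pw C c * pw D d) * (pw C c' * pw D d') =
      pw z (d && c') * (pw C (xor c c') * pw D (xor d d')) := by
  have h1 : ∀ w, C * (C * w) = w := fun w => by rw [← mul_assoc, hb.CC, one_mul]
  have h2 : ∀ w, D * (D * w) = w := fun w => by rw [← mul_assoc, hb.DD, one_mul]
  have h3 : ∀ w, D * (C * w) = z * (C * (D * w)) := fun w => by
    rw [← mul_assoc, hb.DC, mul_assoc, mul_assoc]
  have h4 : ∀ w, C * (z * w) = z * (C * w) := fun w => by rw [← mul_assoc, hb.zc, mul_assoc]
  have h5 : ∀ w, D * (z * w) = z * (D * w) := fun w => by rw [← mul_assoc, hb.zc, mul_assoc]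
  cases c <;> cases d <;> cases c' <;> cases d' <;>
    simp [pw, mul_assoc, hb.CC, hb.DD, hb.DC, hb.zc C, hb.zc D, h1, h2, h3, h4, h5]

theorem Basis.commlemma (hb : Basis z A B C D) (c d a b : Bool) :
    Commute (pw C c * pw D d) (pw A a * pw B b) := by
  have hCA : Commute C A := hb.CA
  have hCB : Commute C B := hb.CB
  have hDA : Commute D A := hb.DA
  have hDB : Commute D B := hb.DB
  have h1 : ∀ (X : P) (k : Bool), Commute X A → Commute X B → Commute X (pw A a * pw B b) := by
    intro X k hA hB
    apply Commute.mul_right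
    · cases a
      · exact Commute.one_right X
      · exact hA
    · cases b
      · exact Commute.one_right X
      · exact hB
  apply Commute.mul_left
  · cases c
    · exact Commute.one_left _
    · exact h1 C true hCA hCB
  · cases d
    · exact Commute.one_left _
    · exact h1 D true hDA hDB

theorem Basis.toP_mul (hb : Basis z A B C D) (x y : P0) :
    toP z A B C D (x * y) = toP z A B C D x * toP z A B C D y := by
  obtain ⟨e, a, b, c, d⟩ := x
  obtain ⟨e', a', b', c', d'⟩ := y
  simp only [toP, P0.mul_def]
  symm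
  calc pw z e * (pw A a * pw B b * (pw C c * pw D d)) *
        (pw z e' * (pw A a' * pw B b' * (pw C c' * pw D d')))
      = pw z e * (pw z e' * ((pw A a * pw B b * (pw C c * pw D d)) *
          (pw A a' * pw B b' * (pw C c' * pw D d')))) := by
        rw [mul_assoc, ← mul_assoc _ (pw z e'), hb.pwz_central e', mul_assoc]
    _ = pw z e * (pw z e' * ((pw A a * pw B b * (pw A a' * pw B b')) *
          ((pw C c * pw D d) * (pw C c' * pw D d')))) := by
        rw [(hb.commlemma c d a' b').mul_mul_mul_comm]
    _ = pw z e * (pw z e' * (pw z (xor (xor (a && a') (b && b')) (b && a')) *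
          (pw z (d && c') * ((pw A (xor a a') * pw B (xor b b')) *
            (pw C (xor c c') * pw D (xor d d')))))) := by
        rw [hb.qlemma, hb.dlemma, mul_assoc, ← mul_assoc _ (pw z (d && c')),
          hb.pwz_central (d && c'), mul_assoc]
    _ = _ := by
        rw [hb.pwz_mul, hb.pwz_mul, hb.pwz_mul]
        congr 1
        simp only [Bool.xor_assoc]

/-- the homomorphism from the model -/
def Basis.hom (hb : Basis z A B C D) : P0 →* P := MonoidHom.mk' (toP z A B C D) hb.toP_mul

theorem Basis.hom_z0 (hb : Basis z A B C D) : hb.hom z0 = z := by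
  show toP z A B C D z0 = z
  simp [toP, z0, pw]

theorem Basis.hom_injective (hb : Basis z A B C D) (hz1 : z ≠ 1) : Function.Injective hb.hom := by
  rw [injective_iff_map_eq_one]
  intro x hx
  by_contra hne
  rcases detect x hne with rfl | ⟨g, hg⟩
  · exact hz1 (hb.hom_z0.symm.trans hx)
  · apply hz1
    have h := congrArg hb.hom hg
    rw [map_mul, map_mul, map_mul, map_inv, map_inv, hx, hb.hom_z0] at h
    rw [← h]; group

theorem Basis.nonempty_equiv [Finite P] (hb : Basis z A B C D) (hz1 : z ≠ 1)
    (h32 : Nat.card P = 32) : Nonempty (P0 ≃* P) := by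
  have hbij : Function.Bijective hb.hom :=
    (hb.hom_injective hz1).bijective_of_nat_card_le (by rw [h32, P0.card_eq])
  exact ⟨MulEquiv.ofBijective hb.hom hbij⟩

end Cfsg.Agent.helper28.ES32
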