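import Mathlib
import Cfsg.Prelude.Def_Transfer
import Cfsg.Agent.Lib_helper17_ES1
import Cfsg.Agent.Lib_helper28_ES32Iso

set_option autoImplicit false

/-! An extraspecial group of order 32 without elementary abelian subgroups of order 8 has a
basis satisfying the relations of `Q₈ ∘ D₈` (helper28). -/

namespace Cfsg.Agent.helper28.ES32

open scoped commutatorElement
open Cfsg.Agent.helper17.ES

variable {P : Type*} [Group P]

/-- `z` is the central involution and all commutators lie in `{1, z}` -/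
structure Setting (z : P) : Prop where
  zc : ∀ w : P, w * z = z * w
  zz : z * z = 1
  z1 : z ≠ 1
  cen : ∀ w : P, (∀ y, w * y = y * w) → w = 1 ∨ w = z
  cm : ∀ a x : P, a * x = x * a ∨ a * x = z * (x * a)

theorem setting_of_extraspecial (hex : Cfsg.IsExtraspecial 2 P) : ∃ z : P, Setting z := by
  obtain ⟨hZ, hcl⟩ := CT.of_extraspecial hex
  obtain ⟨zz, hz1, huniq⟩ := (Nat.card_eq_two_iff' (1 : Subgroup.center P)).mp hZ
  have hzc : ∀ w : P, w * (zz : P) = (zz : P) * w := fun w => Subgroup.mem_center_iff.mp zz.2 w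
  have hz1' : (zz : P) ≠ 1 := fun h => hz1 (Subtype.ext h)
  have hcen : ∀ w : P, (∀ y, w * y = y * w) → w = 1 ∨ w = (zz : P) := by
    intro w hw
    have hwc : w ∈ Subgroup.center P := Subgroup.mem_center_iff.mpr fun g => (hw g).symm
    by_cases h1 : w = 1
    · exact Or.inl h1
    · right
      have := huniq ⟨w, hwc⟩ (fun h => h1 (congrArg Subtype.val h))
      exact congrArg Subtype.val this
  have hzz : (zz : P) * (zz : P) = 1 := by
    have hc : ∀ y, (zz : P) * (zz : P) * y = y * ((zz : P) * (zz : P)) := by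
      intro y
      rw [mul_assoc, ← hzc y, ← mul_assoc, ← hzc y, mul_assoc]
    rcases hcen _ hc with h | h
    · exact h
    · exfalso
      exact hz1' (mul_left_cancel (h.trans (mul_one _).symm))
  refine ⟨zz, hzc, hzz, hz1', hcen, ?_⟩
  intro a x
  have hc : ∀ y, ⁅a, x⁆ * y = y * ⁅a, x⁆ := fun y => (Subgroup.mem_center_iff.mp (hcl a x) y).symm
  rcases hcen _ hc with h | h
  · left
    exact commutatorElement_eq_one_iff_mul_comm.mp h
  · right
    calc a * x = ⁅a, x⁆ * (x * a) := by rw [commutatorElement_def]; group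
      _ = zz * (x * a) := by rw [h]

variable {z : P}

/-- anticommuting elements -/
def AC (z a x : P) : Prop := a * x = z * (x * a)

theorem Setting.ac_symm (hs : Setting z) {a x : P} (h : AC z a x) : AC z x a := by
  unfold AC at *
  rw [h, ← mul_assoc, hs.zz, one_mul]

theorem Setting.ac_ne (hs : Setting z) {a x : P} (h : AC z a x) : a * x ≠ x * a := by
  unfold AC at h
  intro h'
  rw [h'] at h
  exact hs.z1 (mul_right_cancel (h.symm.trans (one_mul _).symm))

theorem Setting.ac_of_ne (hs : Setting z) {a x : P} (h : a * x ≠ x * a) : AC z a x := by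
  rcases hs.cm a x with h' | h'
  · exact absurd h' h
  · exact h'

/-- commuting times anticommuting -/
theorem Setting.ac_mul_left_of_comm (hs : Setting z) {a b x : P} (ha : a * x = x * a) (hb : AC z b x) :
    AC z (a * b) x := by
  unfold AC at *
  rw [mul_assoc, hb, ← mul_assoc, hs.zc a, mul_assoc, ← mul_assoc a x b, ha, mul_assoc]

theorem Setting.ac_mul_left_of_comm' (hs : Setting z) {a b x : P} (ha : AC z a x) (hb : b * x = x * b) :
    AC z (a * b) x := by
  unfold AC at *
  rw [mul_assoc, hb, ← mul_assoc, ha, mul_assoc, mul_assoc]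

theorem Setting.ac_mul_right_of_comm (hs : Setting z) {a x y : P} (hx : AC z a x) (hy : a * y = y * a) :
    AC z a (x * y) := by
  unfold AC at *
  rw [← mul_assoc, hx, mul_assoc, mul_assoc, hy, mul_assoc]

theorem Setting.ac_mul_right_of_comm' (hs : Setting z) {a x y : P} (hx : a * x = x * a) (hy : AC z a y) :
    AC z a (x * y) := by
  unfold AC at *
  rw [← mul_assoc, hx, mul_assoc, hy, ← mul_assoc, hs.zc x, mul_assoc, mul_assoc]

/-- squares are central -/
theorem Setting.sq_cases (hs : Setting z) (x : P) : x * x = 1 ∨ x * x = z := by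
  apply hs.cen
  intro y
  rcases hs.cm x y with h | h
  · rw [mul_assoc, h, ← mul_assoc, h, mul_assoc]
  · rw [mul_assoc, h, ← mul_assoc, hs.zc x, mul_assoc, ← mul_assoc x y x, h, mul_assoc, ← mul_assoc,
      hs.zz, one_mul, mul_assoc]

theorem Setting.sq_mul_of_ac (hs : Setting z) {a b : P} (h : AC z a b) :
    (a * b) * (a * b) = z * ((a * a) * (b * b)) := by
  have h' := hs.ac_symm h
  unfold AC at h'
  rw [mul_assoc, ← mul_assoc b a b, h', mul_assoc, ← mul_assoc, hs.zc a, mul_assoc, mul_assoc, mul_assoc]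

theorem Setting.normalize_pair (hs : Setting z) (u v : P) (huv : AC z u v) :
    ∃ u' v' : P, AC z u' v' ∧ ((u' * u' = 1 ∧ v' * v' = 1) ∨ (u' * u' = z ∧ v' * v' = z)) ∧
      ∀ w : P, w * u = u * w → w * v = v * w → (w * u' = u' * w ∧ w * v' = v' * w) := by
  rcases hs.sq_cases u with hu | hu <;> rcases hs.sq_cases v with hv | hv
  · exact ⟨u, v, huv, Or.inl ⟨hu, hv⟩, fun w h1 h2 => ⟨h1, h2⟩⟩
  · refine ⟨u, u * v, hs.ac_mul_right_of_comm' rfl huv, Or.inl ⟨hu, ?_⟩, fun w h1 h2 => ⟨h1, ?_⟩⟩
    · rw [hs.sq_mul_of_ac huv, hu, hv, one_mul, hs.zz]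
    · rw [← mul_assoc, h1, mul_assoc, h2, mul_assoc]
  · refine ⟨u * v, v, hs.ac_mul_left_of_comm' huv rfl, Or.inl ⟨?_, hv⟩, fun w h1 h2 => ⟨?_, h2⟩⟩
    · rw [hs.sq_mul_of_ac huv, hu, hv, mul_one, hs.zz]
    · rw [← mul_assoc, h1, mul_assoc, h2, mul_assoc]
  · exact ⟨u, v, huv, Or.inr ⟨hu, hv⟩, fun w h1 h2 => ⟨h1, h2⟩⟩

/-- three independent commuting involutions contradict the minus hypothesis -/
theorem Setting.no_E8 (hs : Setting z)
    (hminus : ∀ A : Subgroup P, Cfsg.IsElementaryAbelian 2 A → Nat.card ↥A ≤ 4) [Finite P]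
    (t2 t3 u v : P) (h2 : t2 * t2 = 1) (h3 : t3 * t3 = 1) (h23 : t2 * t3 = t3 * t2)
    (h2u : t2 * u = u * t2) (h2v : t2 * v ≠ v * t2) (h3v : t3 * v = v * t3)
    (h3u : t3 * u ≠ u * t3) : False := by
  set S : Set P := {z, t2, t3} with hS
  have hcomm : ∀ x ∈ S, ∀ y ∈ S, x * y = y * x := by
    intro x hx y hy
    simp only [hS, Set.mem_insert_iff, Set.mem_singleton_iff] at hx hy
    rcases hx with rfl | rfl | rfl <;> rcases hy with rfl | rfl | rfl <;>
      first | rfl | exact hs.zc _ | exact (hs.zc _).symm | exact h23 | exact h23.symm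
  have hmc : IsMulCommutative ↥(Subgroup.closure S) := Subgroup.isMulCommutative_closure hcomm
  have hcomm' : ∀ a ∈ Subgroup.closure S, ∀ b ∈ Subgroup.closure S, a * b = b * a := by
    intro a ha b hb
    have := hmc.is_comm.comm ⟨a, ha⟩ ⟨b, hb⟩
    exact congrArg Subtype.val this
  have hsq : ∀ a ∈ Subgroup.closure S, a ^ 2 = 1 := by
    intro a ha
    induction ha using Subgroup.closure_induction with
    | mem x hx =>
      simp only [hS, Set.mem_insert_iff, Set.mem_singleton_iff] at hx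
      rcases hx with rfl | rfl | rfl
      · rw [sq, hs.zz]
      · rw [sq, h2]
      · rw [sq, h3]
    | one => exact one_pow 2
    | mul x y hx hy ihx ihy =>
      have hxy : Commute x y := hcomm' x hx y hy
      rw [hxy.mul_pow, ihx, ihy, one_mul]
    | inv x hx ih => rw [inv_pow, ih, inv_one]
  have hle := hminus (Subgroup.closure S) ⟨hmc, hsq⟩
  have hzS : z ∈ Subgroup.closure S := Subgroup.subset_closure (by simp [hS])
  have ht2S : t2 ∈ Subgroup.closure S := Subgroup.subset_closure (by simp [hS])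
  have ht3S : t3 ∈ Subgroup.closure S := Subgroup.subset_closure (by simp [hS])
  -- distinctness
  have d1 : t2 ≠ 1 := by rintro rfl; exact h2v (by rw [one_mul, mul_one])
  have d2 : t2 ≠ z := by rintro rfl; exact h2v (hs.zc v).symm
  have d3 : t3 ≠ 1 := by rintro rfl; exact h3u (by rw [one_mul, mul_one])
  have d4 : t3 ≠ z := by rintro rfl; exact h3u (hs.zc u).symm
  have d5 : t2 ≠ t3 := by rintro rfl; exact h3u h2u
  have hv23 : (t2 * t3) * v ≠ v * (t2 * t3) := by
    intro h
    apply h2v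
    rw [mul_assoc, h3v, ← mul_assoc, ← mul_assoc] at h
    exact mul_right_cancel h
  have d6 : t2 * t3 ≠ 1 := by intro h; rw [h] at hv23; exact hv23 (by rw [one_mul, mul_one])
  have d7 : t2 * t3 ≠ z := by intro h; rw [h] at hv23; exact hv23 (hs.zc v).symm
  have d8 : t2 * t3 ≠ t2 := by intro h; exact d3 (mul_left_cancel (h.trans (mul_one _).symm))
  have d9 : t2 * t3 ≠ t3 := by intro h; exact d1 (mul_right_cancel (h.trans (one_mul _).symm))
  classical
  let F : Finset P := {1, z, t2, t3, t2 * t3}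
  have hF : F.card = 5 := by
    simp only [F]
    rw [Finset.card_insert_of_notMem, Finset.card_insert_of_notMem, Finset.card_insert_of_notMem,
      Finset.card_insert_of_notMem, Finset.card_singleton]
    · simp only [Finset.mem_singleton]; exact d9.symm
    · simp only [Finset.mem_insert, Finset.mem_singleton, not_or]; exact ⟨d5, d8.symm⟩
    · simp only [Finset.mem_insert, Finset.mem_singleton, not_or]; exact ⟨d2.symm, d4.symm, d7.symm⟩
    · simp only [Finset.mem_insert, Finset.mem_singleton, not_or]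
      exact ⟨hs.z1.symm, d1.symm, d3.symm, d6.symm⟩
  have hsub : (F : Set P) ⊆ (Subgroup.closure S : Set P) := by
    intro w hw
    simp only [F, Finset.coe_insert, Finset.coe_singleton, Set.mem_insert_iff,
      Set.mem_singleton_iff] at hw
    rcases hw with rfl | rfl | rfl | rfl | rfl
    · exact one_mem _
    · exact hzS
    · exact ht2S
    · exact ht3S
    · exact mul_mem ht2S ht3S
  have h5 : 5 ≤ Nat.card ↥(Subgroup.closure S) := by
    have := Set.ncard_le_ncard hsub (Set.toFinite _)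
    rw [Set.ncard_coe_finset, hF] at this
    rw [← Nat.card_coe_set_eq] at this
    exact this
  omega

theorem exists_basis [Finite P] (hex : Cfsg.IsExtraspecial 2 P) (h32 : Nat.card P = 32)
    (hminus : ∀ A : Subgroup P, Cfsg.IsElementaryAbelian 2 A → Nat.card ↥A ≤ 4) :
    ∃ z A B C D : P, z ≠ 1 ∧ Basis z A B C D := by
  obtain ⟨z, hs⟩ := setting_of_extraspecial hex
  have hct := CT.of_extraspecial hex
  have hnc : ∃ x y : P, x * y ≠ y * x := by
    by_contra h
    push Not at h
    have hc : Subgroup.center P = ⊤ := by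
      ext w
      simp only [Subgroup.mem_center_iff, Subgroup.mem_top, iff_true]
      intro g; exact h g w
    have h2 := hct.1
    rw [hc, Subgroup.card_top, h32] at h2
    omega
  obtain ⟨x, y, hxy⟩ := hnc
  have hxy1 : ⁅x, y⁆ ≠ 1 := fun h => hxy (commutatorElement_eq_one_iff_mul_comm.mp h)
  obtain ⟨hcard, -, hctC, -⟩ := split hct x y hxy1
  have hC8 : Nat.card (pairCent x y) = 8 := by rw [h32] at hcard; omega
  have hncC : ∃ c d : pairCent x y, c * d ≠ d * c := by
    by_contra h
    push Not at h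
    have hc : Subgroup.center (pairCent x y) = ⊤ := by
      ext w
      simp only [Subgroup.mem_center_iff, Subgroup.mem_top, iff_true]
      intro g; exact h g w
    have h2 := hctC.1
    rw [hc, Subgroup.card_top, hC8] at h2
    omega
  obtain ⟨c, d, hcd⟩ := hncC
  have hcd' : (c : P) * (d : P) ≠ (d : P) * (c : P) := fun h => hcd (Subtype.ext h)
  obtain ⟨hcx, hcy⟩ := mem_pairCent.mp c.2
  obtain ⟨hdx, hdy⟩ := mem_pairCent.mp d.2
  have hACxy := hs.ac_of_ne hxy
  have hACcd := hs.ac_of_ne hcd'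
  obtain ⟨x', y', hx'y', hq1, hw1⟩ := hs.normalize_pair x y hACxy
  obtain ⟨hcx', hcy'⟩ := hw1 c hcx hcy
  obtain ⟨hdx', hdy'⟩ := hw1 d hdx hdy
  obtain ⟨c', d', hc'd', hq2, hw2⟩ := hs.normalize_pair c d hACcd
  obtain ⟨hx'c', hx'd'⟩ := hw2 x' hcx'.symm hdx'.symm
  obtain ⟨hy'c', hy'd'⟩ := hw2 y' hcy'.symm hdy'.symm
  rcases hq1 with ⟨hx2, hy2⟩ | ⟨hx2, hy2⟩ <;> rcases hq2 with ⟨hc2, hd2⟩ | ⟨hc2, hd2⟩
  · exfalso
    exact hs.no_E8 hminus x' c' d' y' hx2 hc2 hx'c' hx'd' (hs.ac_ne hx'y') hy'c'.symm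
      (hs.ac_ne hc'd')
  · refine ⟨z, c', d', x', y', hs.z1, ?_⟩
    exact { zc := hs.zc, zz := hs.zz, AA := hc2, BB := hd2, BA := hs.ac_symm hc'd', CC := hx2,
            DD := hy2, DC := hs.ac_symm hx'y', CA := hx'c', CB := hx'd', DA := hy'c', DB := hy'd' }
  · refine ⟨z, x', y', c', d', hs.z1, ?_⟩
    exact { zc := hs.zc, zz := hs.zz, AA := hx2, BB := hy2, BA := hs.ac_symm hx'y', CC := hc2,
            DD := hd2, DC := hs.ac_symm hc'd', CA := hx'c'.symm, CB := hy'c'.symm,
            DA := hx'd'.symm, DB := hy'd'.symm }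
  · exfalso
    have hcx'' : Commute c' x' := hx'c'.symm
    have hdy'' : Commute d' y' := hy'd'.symm
    have hcy'' : Commute c' y' := hy'c'.symm
    have hdx'' : Commute d' x' := hx'd'.symm
    have e2 : (x' * c') * (x' * c') = 1 := by
      rw [hcx''.mul_mul_mul_comm, hx2, hc2, hs.zz]
    have e3 : (y' * d') * (y' * d') = 1 := by
      rw [hdy''.mul_mul_mul_comm, hy2, hd2, hs.zz]
    have e23 : (x' * c') * (y' * d') = (y' * d') * (x' * c') := by
      rw [hcy''.mul_mul_mul_comm, hdx''.mul_mul_mul_comm]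
      have h1 : x' * y' = z * (y' * x') := hx'y'
      have h2 : c' * d' = z * (d' * c') := hc'd'
      rw [h1, h2, mul_assoc, ← mul_assoc (y' * x') z (d' * c'), hs.zc (y' * x'),
        mul_assoc z (y' * x'), ← mul_assoc z z, hs.zz, one_mul]
    have h2u : (x' * c') * x' = x' * (x' * c') := by rw [mul_assoc, hcx''.eq]
    have h2v : (x' * c') * y' ≠ y' * (x' * c') :=
      hs.ac_ne (hs.ac_mul_left_of_comm' hx'y' hcy''.eq)
    have h3v : (y' * d') * y' = y' * (y' * d') := by rw [mul_assoc, hdy''.eq]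
    have h3u : (y' * d') * x' ≠ x' * (y' * d') :=
      hs.ac_ne (hs.ac_mul_left_of_comm' (hs.ac_symm hx'y') hdx''.eq)
    exact hs.no_E8 hminus (x' * c') (y' * d') x' y' e2 e3 e23 h2u h2v h3v h3u

end Cfsg.Agent.helper28.ES32
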