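import Mathlib

set_option autoImplicit false

/-! A group of order 162 acting faithfully on nine cosets with a fixed-point-free central element
of order three is the centralizer of a product of three 3-cycles (helper28). -/

namespace Cfsg.Agent.helper28.G162

open Equiv

theorem cycleType_of_order_three (σ : Perm (Fin 9)) (h3 : orderOf σ = 3) (hf : ∀ i, σ i ≠ i) :
    σ.cycleType = Multiset.replicate 3 3 := by
  have hp : (orderOf σ).Prime := by rw [h3]; norm_num
  obtain ⟨n, hn⟩ := Perm.cycleType_prime_order hp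
  rw [h3] at hn
  have hsum : σ.cycleType.sum = 9 := by
    rw [Perm.sum_cycleType]
    have : σ.support = Finset.univ := by
      ext i
      simp only [Perm.mem_support, Finset.mem_univ, iff_true]
      exact hf i
    rw [this]
    simp
  rw [hn, Multiset.sum_replicate] at hsum
  have : n = 2 := by
    simp only [smul_eq_mul] at hsum
    omega
  rw [hn, this]

theorem card_centralizer (c : Perm (Fin 9)) (h3 : orderOf c = 3) (hf : ∀ i, c i ≠ i) :
    Nat.card (Subgroup.centralizer ({c} : Set (Perm (Fin 9)))) = 162 := by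
  rw [Perm.nat_card_centralizer, cycleType_of_order_three c h3 hf]
  decide

theorem perm_side {G : Type*} [Group G] [Finite G] (hG : Nat.card G = 162)
    (ψ : G →* Perm (Fin 9)) (hψ : Function.Injective ψ) (z : G) (hzc : ∀ g, z * g = g * z)
    (hz3 : orderOf (ψ z) = 3) (hfpf : ∀ i, ψ z i ≠ i) (c : Perm (Fin 9)) (hc3 : orderOf c = 3)
    (hcf : ∀ i, c i ≠ i) :
    Nonempty (G ≃* Subgroup.centralizer ({c} : Set (Perm (Fin 9)))) := by
  have hconj : IsConj (ψ z) c := by
    rw [Perm.isConj_iff_cycleType_eq, cycleType_of_order_three _ hz3 hfpf,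
      cycleType_of_order_three _ hc3 hcf]
  obtain ⟨π, hπ⟩ := isConj_iff.mp hconj
  let ψ' : G →* Perm (Fin 9) := (MulAut.conj π).toMonoidHom.comp ψ
  have hψ'z : ψ' z = c := by
    show MulAut.conj π (ψ z) = c
    rw [MulAut.conj_apply, hπ]
  have hψ'inj : Function.Injective ψ' := by
    intro a b hab
    exact hψ ((MulAut.conj π).injective hab)
  have hmem : ∀ g, ψ' g ∈ Subgroup.centralizer ({c} : Set (Perm (Fin 9))) := by
    intro g
    rw [Subgroup.mem_centralizer_iff]
    intro h hh
    rw [Set.mem_singleton_iff] at hh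
    rw [hh, ← hψ'z, ← map_mul, ← map_mul, hzc]
  let ψ'' : G →* Subgroup.centralizer ({c} : Set (Perm (Fin 9))) := ψ'.codRestrict _ hmem
  have hinj : Function.Injective ψ'' := by
    intro a b hab
    apply hψ'inj
    exact congrArg Subtype.val hab
  have hbij : Function.Bijective ψ'' :=
    hinj.bijective_of_nat_card_le (by rw [card_centralizer c hc3 hcf, hG])
  exact ⟨MulEquiv.ofBijective ψ'' hbij⟩

/-- from a core-free subgroup of index nine avoiding a central element of order three -/
theorem action_side {G : Type*} [Group G] [Finite G] (hG : Nat.card G = 162)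
    (H : Subgroup G) (hidx : H.index = 9) (hcore : H.normalCore = ⊥)
    (z : G) (hzc : ∀ g, z * g = g * z) (hz3 : orderOf z = 3) (hzH : z ∉ H)
    (c : Perm (Fin 9)) (hc3 : orderOf c = 3) (hcf : ∀ i, c i ≠ i) :
    Nonempty (G ≃* Subgroup.centralizer ({c} : Set (Perm (Fin 9)))) := by
  let φ : G →* Perm (G ⧸ H) := MulAction.toPermHom G (G ⧸ H)
  have hφ : Function.Injective φ := by
    rw [← MonoidHom.ker_eq_bot_iff, ← Subgroup.normalCore_eq_ker, hcore]
  have hcard : Nat.card (G ⧸ H) = 9 := hidx
  have e : (G ⧸ H) ≃ Fin 9 := Finite.equivFinOfCardEq hcard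
  let ψ : G →* Perm (Fin 9) := (e.permCongrHom : Perm (G ⧸ H) →* Perm (Fin 9)).comp φ
  have hψ : Function.Injective ψ := by
    intro a b hab
    exact hφ (e.permCongrHom.injective hab)
  have hord : orderOf (ψ z) = 3 := by
    rw [orderOf_injective ψ hψ, hz3]
  have hf : ∀ i, ψ z i ≠ i := by
    intro i hi
    have h1 : e (z • e.symm i) = i := hi
    have h2 : z • e.symm i = e.symm i := by
      apply e.injective
      rw [h1, Equiv.apply_symm_apply]
    obtain ⟨g, hg⟩ := QuotientGroup.mk_surjective (e.symm i)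
    rw [← hg] at h2
    have h3 : ((z * g : G) : G ⧸ H) = (g : G ⧸ H) := h2
    rw [QuotientGroup.eq] at h3
    apply hzH
    have : (z * g)⁻¹ * g = z⁻¹ := by rw [hzc g]; group
    rw [this] at h3
    exact (Subgroup.inv_mem_iff H).mp h3
  exact perm_side hG ψ hψ z hzc hord hf c hc3 hcf

end Cfsg.Agent.helper28.G162
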