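import Mathlib

set_option autoImplicit false

/-! Two lemmas: a nontrivial normal subgroup inside a p-subgroup contains a nontrivial element
centralized by it; invariant complements in elementary abelian 3-groups under an involutory
automorphism (helper28). -/

namespace Cfsg.Agent.helper28.G162

theorem normal_inf_center_ne_bot {G : Type*} [Group G] [Finite G] {p : ℕ} [Fact p.Prime]
    (S : Subgroup G) (hS : IsPGroup p S) (N : Subgroup G) [N.Normal] (hNS : N ≤ S) (hN : N ≠ ⊥) :
    ∃ n ∈ N, n ≠ 1 ∧ ∀ s ∈ S, s * n = n * s := by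
  let f : ↥S →* MulAut ↥N := (MulAut.conjNormal (H := N)).comp S.subtype
  letI : MulAction ↥S ↥N := MulAction.compHom ↥N f
  have hNp : IsPGroup p ↥N := hS.to_le hNS
  have hcardN : p ∣ Nat.card ↥N := by
    rcases hNp.card_eq_or_dvd with h | h
    · exact absurd ((Subgroup.card_eq_one).mp h) hN
    · exact h
  have h1 : (1 : ↥N) ∈ MulAction.fixedPoints ↥S ↥N := by
    intro s
    show f s 1 = 1
    exact map_one _
  obtain ⟨b, hb, hb1⟩ := hS.exists_fixed_point_of_prime_dvd_card_of_fixed_point (↥N) hcardN h1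
  refine ⟨b, b.2, fun h => hb1 (Subtype.ext h.symm), fun s hs => ?_⟩
  have h2 : f ⟨s, hs⟩ b = b := hb ⟨s, hs⟩
  have h3 : s * (b : G) * s⁻¹ = b := by
    have := congrArg Subtype.val h2
    simpa [f, MulAut.conjNormal_apply] using this
  calc s * b = (s * b * s⁻¹) * s := by group
    _ = b * s := by rw [h3]

theorem exists_invariant_complement {A : Type*} [CommGroup A] [Finite A] (h3 : ∀ x : A, x ^ 3 = 1)
    (τ : A ≃* A) (hτ : ∀ x, τ (τ x) = x) (Z : Subgroup A) :
    ∃ L : Subgroup A, L ⊓ Z = ⊥ ∧ L ⊔ Z = ⊤ ∧ ∀ x ∈ L, τ x ∈ L := by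
  let P : Set (Subgroup A) := {L | L ⊓ Z = ⊥ ∧ ∀ x ∈ L, τ x ∈ L}
  have hbot : (⊥ : Subgroup A) ∈ P := by
    refine ⟨bot_inf_eq _, fun x hx => ?_⟩
    rw [Subgroup.mem_bot] at hx ⊢
    rw [hx, map_one]
  obtain ⟨L, -, hLmax⟩ := (Set.toFinite P).exists_le_maximal hbot
  obtain ⟨⟨hLZ, hLτ⟩, hmax⟩ := hLmax
  refine ⟨L, hLZ, ?_, hLτ⟩
  by_contra hne
  obtain ⟨x, hx⟩ : ∃ x : A, x ∉ L ⊔ Z := by
    by_contra h
    push Not at h
    exact hne (eq_top_iff.mpr fun x _ => h x)
  -- the two eigen-components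
  have hcomp : ∃ y : A, y ∉ L ⊔ Z ∧ (τ y = y ∨ τ y = y⁻¹) := by
    by_cases hp : x * τ x ∈ L ⊔ Z
    · by_cases hm : x * (τ x)⁻¹ ∈ L ⊔ Z
      · exfalso
        apply hx
        have h2 : x ^ 2 ∈ L ⊔ Z := by
          have : x ^ 2 = (x * τ x) * (x * (τ x)⁻¹) := by
            rw [pow_two, mul_mul_mul_comm, mul_inv_cancel, mul_one]
          rw [this]; exact mul_mem hp hm
        have h4 : x = (x ^ 2) ^ 2 := by
          rw [← pow_mul]
          calc x = x ^ 3 * x := by rw [h3, one_mul]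
            _ = x ^ (2 * 2) := by rw [← pow_succ]
        rw [h4]; exact pow_mem h2 2
      · refine ⟨x * (τ x)⁻¹, hm, Or.inr ?_⟩
        rw [map_mul, map_inv, hτ, mul_inv_rev, inv_inv, mul_comm]
    · refine ⟨x * τ x, hp, Or.inl ?_⟩
      rw [map_mul, hτ, mul_comm]
  obtain ⟨y, hy, hty⟩ := hcomp
  -- the bigger subgroup
  have hL' : L ⊔ Subgroup.zpowers y ∈ P := by
    constructor
    · rw [eq_bot_iff]
      intro w hw
      rw [Subgroup.mem_inf] at hw
      obtain ⟨hw1, hw2⟩ := hw
      rw [Subgroup.mem_sup] at hw1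
      obtain ⟨l, hl, u, hu, rfl⟩ := hw1
      rw [Subgroup.mem_zpowers_iff] at hu
      obtain ⟨k, rfl⟩ := hu
      have hk3 : y ^ (3 : ℤ) = 1 := by
        have := h3 y
        exact_mod_cast this
      rw [zpow_eq_zpow_emod k hk3] at hw2 ⊢
      have hcases : k % 3 = 0 ∨ k % 3 = 1 ∨ k % 3 = 2 := by omega
      have hyk : ∀ u : A, l * u ∈ Z → u ∈ L ⊔ Z := by
        intro u hu
        have : u = l⁻¹ * (l * u) := by rw [inv_mul_cancel_left]
        rw [this]
        exact mul_mem (Subgroup.mem_sup_left (inv_mem hl)) (Subgroup.mem_sup_right hu)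
      rcases hcases with h | h | h
      · rw [h, zpow_zero, mul_one] at hw2 ⊢
        have : l ∈ L ⊓ Z := ⟨hl, hw2⟩
        rw [hLZ] at this
        exact this
      · exfalso
        rw [h, zpow_one] at hw2
        exact hy (hyk y hw2)
      · exfalso
        rw [h] at hw2
        have h2 := hyk _ hw2
        apply hy
        have h4 : y = (y ^ (2 : ℤ)) ^ 2 := by
          have e : y ^ (2 : ℤ) = y ^ 2 := by exact_mod_cast rfl
          rw [e, ← pow_mul]
          calc y = y ^ 3 * y := by rw [h3, one_mul]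
            _ = y ^ (2 * 2) := by rw [← pow_succ]
        rw [h4]; exact pow_mem h2 2
    · intro w hw
      have hle : L ⊔ Subgroup.zpowers y ≤ (L ⊔ Subgroup.zpowers y).comap τ.toMonoidHom := by
        rw [sup_le_iff]
        constructor
        · intro l hl
          exact Subgroup.mem_sup_left (hLτ l hl)
        · rw [Subgroup.zpowers_le]
          show τ y ∈ L ⊔ Subgroup.zpowers y
          rcases hty with h | h
          · rw [h]; exact Subgroup.mem_sup_right (Subgroup.mem_zpowers y)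
          · rw [h]; exact Subgroup.mem_sup_right (inv_mem (Subgroup.mem_zpowers y))
      exact hle hw
  have hle : L ⊔ Subgroup.zpowers y ≤ L := hmax hL' le_sup_left
  exact hy (Subgroup.mem_sup_left (hle (Subgroup.mem_sup_right (Subgroup.mem_zpowers y))))

end Cfsg.Agent.helper28.G162
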