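import Mathlib
import Cfsg.Agent.Lib_helper28_G162b

set_option autoImplicit false
set_option maxHeartbeats 1000000

/-! The group-theoretic part of the identification of a group of order 162 (helper28). -/

namespace Cfsg.Agent.helper28.G162

open scoped IsMulCommutative

theorem sylow3_card {G : Type*} [Group G] [Finite G] (hG : Nat.card G = 162) (S : Sylow 3 G) :
    Nat.card (S : Subgroup G) = 81 := by
  haveI : Fact (Nat.Prime 3) := ⟨by norm_num⟩
  obtain ⟨k, hk⟩ := (IsPGroup.iff_card).mp S.isPGroup'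
  have hidx := S.not_dvd_index
  have hmul := (S : Subgroup G).card_mul_index
  rw [hG, hk] at hmul
  have hk5 : k < 5 := by
    by_contra h
    push Not at h
    have : 3 ^ 5 ≤ 3 ^ k := Nat.pow_le_pow_right (by norm_num) h
    have h2 : 3 ^ k ≤ 162 := by
      have := Nat.le_of_dvd (by norm_num) (Dvd.intro _ hmul)
      exact this
    omega
  rw [hk]
  interval_cases k
  · exfalso; apply hidx; omega
  · exfalso; apply hidx; omega
  · exfalso; apply hidx; omega
  · exfalso; apply hidx; omega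
  · norm_num

theorem sylow2_card {G : Type*} [Group G] [Finite G] (hG : Nat.card G = 162) (T : Sylow 2 G) :
    Nat.card (T : Subgroup G) = 2 := by
  haveI : Fact (Nat.Prime 2) := ⟨by norm_num⟩
  obtain ⟨k, hk⟩ := (IsPGroup.iff_card).mp T.isPGroup'
  have hidx := T.not_dvd_index
  have hmul := (T : Subgroup G).card_mul_index
  rw [hG, hk] at hmul
  have hk2 : k < 2 := by
    by_contra h
    push Not at h
    have h4 : 2 ^ 2 ∣ 2 ^ k := pow_dvd_pow 2 h
    have : 2 ^ 2 ∣ 162 := Dvd.dvd.trans h4 (Dvd.intro _ hmul)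
    omega
  rw [hk]
  interval_cases k
  · exfalso; apply hidx; omega
  · norm_num

/-- elements of a subgroup of order two -/
theorem card_two_cases {G : Type*} [Group G] (T : Subgroup G) (hT : Nat.card T = 2) :
    ∃ t ∈ T, t ≠ 1 ∧ t * t = 1 ∧ ∀ u ∈ T, u = 1 ∨ u = t := by
  obtain ⟨tt, ht1, huniq⟩ := (Nat.card_eq_two_iff' (1 : T)).mp hT
  have hcases : ∀ u ∈ T, u = 1 ∨ u = (tt : G) := by
    intro u hu
    by_cases h1 : u = 1
    · exact Or.inl h1
    · right
      have := huniq ⟨u, hu⟩ (fun h => h1 (congrArg Subtype.val h))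
      exact congrArg Subtype.val this
  refine ⟨tt, tt.2, fun h => ht1 (Subtype.ext h), ?_, hcases⟩
  rcases hcases _ (T.mul_mem tt.2 tt.2) with h | h
  · exact h
  · exfalso
    apply ht1
    apply Subtype.ext
    have : (tt : G) * tt = tt * 1 := by rw [h, mul_one]
    exact mul_left_cancel this

theorem main {G : Type*} [Group G] [Finite G] (hG : Nat.card G = 162)
    (S : Sylow 3 G) (T : Sylow 2 G) (J : Subgroup G) [hJn : J.Normal] (hJcomm : IsMulCommutative J)
    (hJexp : ∀ a ∈ J, a ^ 3 = 1) (hJcard : Nat.card J = 27)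
    (Z : Subgroup G)
    (hZ : Z = (S : Subgroup G) ⊓ Subgroup.centralizer ((S : Subgroup G) : Set G))
    (hZcard : Nat.card Z = 3)
    (hZT : Z ≤ Subgroup.centralizer ((T : Subgroup G) : Set G))
    (hST : (S : Subgroup G) ⊓ Subgroup.centralizer ((T : Subgroup G) : Set G) ≠ S) :
    ∃ (H : Subgroup G) (z : G), H.index = 9 ∧ H.normalCore = ⊥ ∧ (∀ g, z * g = g * z) ∧
      orderOf z = 3 ∧ z ∉ H := by
  haveI : Fact (Nat.Prime 3) := ⟨by norm_num⟩
  haveI : Fact (Nat.Prime 2) := ⟨by norm_num⟩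
  have hS81 := sylow3_card hG S
  have hT2 := sylow2_card hG T
  set S' : Subgroup G := (S : Subgroup G) with hS'
  set T' : Subgroup G := (T : Subgroup G) with hT'
  have hSidx : S'.index = 2 := by
    have := S'.card_mul_index
    rw [hS81, hG] at this
    omega
  haveI hSn : S'.Normal := Subgroup.normal_of_index_eq_two hSidx
  -- J ≤ S
  have hJp : IsPGroup 3 J := IsPGroup.of_card (n := 3) (by rw [hJcard]; norm_num)
  have hJS : J ≤ S' := by
    obtain ⟨Q, hQ⟩ := hJp.exists_le_sylow
    obtain ⟨g, hg⟩ := MulAction.exists_smul_eq G Q S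
    haveI : (S : Subgroup G).Normal := hSn
    have hQS : Q = S := by
      have h1 : Q = g⁻¹ • S := by rw [← hg, inv_smul_smul]
      rw [h1, Sylow.smul_eq_of_normal]
    rw [hQS] at hQ
    exact hQ
  -- coprime intersections
  have hTS : T' ⊓ S' = ⊥ := Subgroup.inf_eq_bot_of_coprime (by rw [hT2, hS81]; norm_num)
  have hZS : Z ≤ S' := by rw [hZ]; exact inf_le_left
  have hZcS : Z ≤ Subgroup.centralizer (S' : Set G) := by rw [hZ]; exact inf_le_right
  -- a generator of Z inside J
  have hJne : J ≠ ⊥ := by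
    intro h
    rw [h, Subgroup.card_bot] at hJcard
    omega
  obtain ⟨z, hzJ, hz1, hzS⟩ := normal_inf_center_ne_bot S' S.isPGroup' J hJS hJne
  have hzZ : z ∈ Z := by
    rw [hZ, Subgroup.mem_inf]
    refine ⟨hJS hzJ, ?_⟩
    rw [Subgroup.mem_centralizer_iff]
    intro s hs
    exact hzS s hs
  have hZgen : ∀ w ∈ Z, ∃ k : ℤ, w = z ^ k := by
    intro w hw
    have htop := zpowers_eq_top_of_prime_card (G := ↥Z) (p := 3) hZcard
      (g := ⟨z, hzZ⟩) (fun h => hz1 (congrArg Subtype.val h))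
    have hm : (⟨w, hw⟩ : ↥Z) ∈ Subgroup.zpowers (⟨z, hzZ⟩ : ↥Z) := by rw [htop]; trivial
    obtain ⟨k, hk⟩ := Subgroup.mem_zpowers_iff.mp hm
    refine ⟨k, ?_⟩
    have := congrArg Subtype.val hk
    simpa using this.symm
  have hZJ : Z ≤ J := by
    intro w hw
    obtain ⟨k, rfl⟩ := hZgen w hw
    exact zpow_mem hzJ k
  have hz3 : orderOf z = 3 := orderOf_eq_prime (hJexp z hzJ) hz1
  -- S ⊔ T = ⊤ and z central
  have hsup : S' ⊔ T' = ⊤ := by
    apply Subgroup.eq_top_of_card_eq
    have h1 : 81 ∣ Nat.card ↥(S' ⊔ T') := by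
      rw [← hS81]; exact Subgroup.card_dvd_of_le le_sup_left
    have h2 : 2 ∣ Nat.card ↥(S' ⊔ T') := by
      rw [← hT2]; exact Subgroup.card_dvd_of_le le_sup_right
    have h3 : 162 ∣ Nat.card ↥(S' ⊔ T') :=
      Nat.Coprime.mul_dvd_of_dvd_of_dvd (by norm_num : Nat.Coprime 81 2) h1 h2
    have h4 : Nat.card ↥(S' ⊔ T') ≤ Nat.card G := Subgroup.card_le_card_group _
    have h5 : 0 < Nat.card ↥(S' ⊔ T') := Nat.card_pos
    rw [hG] at h4 ⊢
    exact Nat.le_antisymm h4 (Nat.le_of_dvd h5 h3)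
  have hzc : ∀ g, z * g = g * z := by
    intro g
    have hle : S' ⊔ T' ≤ Subgroup.centralizer ({z} : Set G) := by
      rw [sup_le_iff]
      constructor
      · intro s hs
        rw [Subgroup.mem_centralizer_singleton_iff]
        exact hzS s hs
      · intro u hu
        rw [Subgroup.mem_centralizer_singleton_iff]
        have := hZT hzZ
        rw [Subgroup.mem_centralizer_iff] at this
        exact this u hu
    have hg : g ∈ Subgroup.centralizer ({z} : Set G) := hle (by rw [hsup]; trivial)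
    rw [Subgroup.mem_centralizer_singleton_iff] at hg
    exact hg.symm
  -- the involution
  obtain ⟨t, htT, ht1, htt, hTcases⟩ := card_two_cases T' hT2
  have htinv : t⁻¹ = t := inv_eq_of_mul_eq_one_left htt
  -- the complement in J
  haveI : IsMulCommutative ↥J := hJcomm
  let τ : ↥J ≃* ↥J := MulAut.conjNormal t
  have hτv : ∀ x : ↥J, ((τ x : ↥J) : G) = t * x * t⁻¹ := fun x => MulAut.conjNormal_apply t x
  have hτ : ∀ x, τ (τ x) = x := by
    intro x
    apply Subtype.ext
    rw [hτv, hτv, htinv]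
    calc t * (t * (x : G) * t) * t = (t * t) * x * (t * t) := by group
      _ = x := by rw [htt, one_mul, mul_one]
  have h3J : ∀ x : ↥J, x ^ 3 = 1 := fun x => Subtype.ext (by simpa using hJexp x x.2)
  obtain ⟨L', hL'Z, hL'sup, hL'τ⟩ := exists_invariant_complement h3J τ hτ (Z.subgroupOf J)
  have hcardZ' : Nat.card (Z.subgroupOf J) = 3 := by
    rw [Nat.card_congr (Subgroup.subgroupOfEquivOfLe hZJ).toEquiv, hZcard]
  have hcardL' : Nat.card L' = 9 := by
    have hcompl : Subgroup.IsComplement' L' (Z.subgroupOf J) := by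
      apply Subgroup.isComplement'_of_disjoint_and_mul_eq_univ
      · rw [disjoint_iff]; exact hL'Z
      · rw [← Subgroup.mul_normal, hL'sup]; rfl
    have := hcompl.card_mul
    rw [hcardZ', hJcard] at this
    omega
  -- back in G
  set L : Subgroup G := L'.map J.subtype with hL
  have hLJ : L ≤ J := by rw [hL]; exact Subgroup.map_subtype_le L'
  have hcardL : Nat.card L = 9 := by
    rw [hL, Subgroup.card_map_of_injective (Subgroup.subtype_injective J)]; exact hcardL'
  have hLZ : L ⊓ Z = ⊥ := by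
    rw [eq_bot_iff]
    rintro w ⟨hw1, hw2⟩
    obtain ⟨x, hx, rfl⟩ := hw1
    have hx2 : x ∈ L' ⊓ Z.subgroupOf J := ⟨hx, hw2⟩
    rw [hL'Z, Subgroup.mem_bot] at hx2
    rw [Subgroup.mem_bot, hx2]; rfl
  have hLt : ∀ x ∈ L, t * x * t⁻¹ ∈ L := by
    rintro _ ⟨x, hx, rfl⟩
    exact ⟨τ x, hL'τ x hx, hτv x⟩
  have hLT : ∀ u ∈ T', ∀ x ∈ L, u * x * u⁻¹ ∈ L := by
    intro u hu x hx
    rcases hTcases u hu with rfl | rfl
    · simpa using hx
    · exact hLt x hx
  -- the subgroup H
  let H : Subgroup G :=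
    { carrier := {g | ∃ l ∈ L, ∃ u ∈ T', g = l * u}
      one_mem' := ⟨1, one_mem _, 1, one_mem _, (mul_one 1).symm⟩
      mul_mem' := by
        rintro _ _ ⟨l, hl, u, hu, rfl⟩ ⟨l', hl', u', hu', rfl⟩
        refine ⟨l * (u * l' * u⁻¹), mul_mem hl (hLT u hu l' hl'), u * u', mul_mem hu hu', ?_⟩
        group
      inv_mem' := by
        rintro _ ⟨l, hl, u, hu, rfl⟩
        refine ⟨u⁻¹ * l⁻¹ * (u⁻¹)⁻¹, hLT u⁻¹ (inv_mem hu) l⁻¹ (inv_mem hl), u⁻¹, inv_mem hu, ?_⟩
        group }
  -- H ⊓ S ≤ L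
  have hHS : H ⊓ S' ≤ L := by
    rintro g ⟨⟨l, hl, u, hu, rfl⟩, hgS⟩
    have huS : u ∈ S' := by
      have : u = l⁻¹ * (l * u) := by group
      rw [this]; exact mul_mem (inv_mem (hJS (hLJ hl))) hgS
    have hu1 : u ∈ T' ⊓ S' := ⟨hu, huS⟩
    rw [hTS, Subgroup.mem_bot] at hu1
    rw [hu1, mul_one]; exact hl
  -- card H
  have hcardH : Nat.card H = 18 := by
    let f : ↥L × ↥T' → ↥H := fun p => ⟨p.1 * p.2, ⟨p.1, p.1.2, p.2, p.2.2, rfl⟩⟩
    have hfinj : Function.Injective f := by
      rintro ⟨l, u⟩ ⟨l', u'⟩ h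
      have h1 : (l : G) * u = l' * u' := congrArg Subtype.val h
      have h2 : (l' : G)⁻¹ * l = u' * (u : G)⁻¹ := by
        calc (l' : G)⁻¹ * l = (l' : G)⁻¹ * (l * u) * (u : G)⁻¹ := by group
          _ = (l' : G)⁻¹ * (l' * u') * (u : G)⁻¹ := by rw [h1]
          _ = u' * (u : G)⁻¹ := by group
      have h3 : (l' : G)⁻¹ * l ∈ T' ⊓ S' := by
        rw [Subgroup.mem_inf]
        constructor
        · rw [h2]; exact mul_mem u'.2 (inv_mem u.2)
        · exact mul_mem (inv_mem (hJS (hLJ l'.2))) (hJS (hLJ l.2))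
      rw [hTS, Subgroup.mem_bot] at h3
      have h4 : (l : G) = l' := by
        calc (l : G) = l' * ((l' : G)⁻¹ * l) := by group
          _ = l' := by rw [h3, mul_one]
      have h5 : (u : G) = u' := by
        rw [h4] at h1; exact mul_left_cancel h1
      exact Prod.ext (Subtype.ext h4) (Subtype.ext h5)
    have hfsurj : Function.Surjective f := by
      rintro ⟨g, l, hl, u, hu, rfl⟩
      exact ⟨(⟨l, hl⟩, ⟨u, hu⟩), rfl⟩
    rw [← Nat.card_congr (Equiv.ofBijective f ⟨hfinj, hfsurj⟩), Nat.card_prod, hcardL, hT2]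
  have hidx : H.index = 9 := by
    have := H.card_mul_index
    rw [hcardH, hG] at this
    omega
  -- z ∉ H
  have hzH : z ∉ H := by
    intro h
    have hzLZ : z ∈ L ⊓ Z := ⟨hHS ⟨h, hZS hzZ⟩, hzZ⟩
    rw [hLZ, Subgroup.mem_bot] at hzLZ
    exact hz1 hzLZ
  -- the core
  have hcore : H.normalCore = ⊥ := by
    set K := H.normalCore with hK
    have hKH : K ≤ H := Subgroup.normalCore_le H
    haveI hKn : K.Normal := Subgroup.normalCore_normal H
    have hKJ : K ⊓ J = ⊥ := by
      by_contra hne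
      obtain ⟨n, hn, hn1, hnS⟩ :=
        normal_inf_center_ne_bot S' S.isPGroup' (K ⊓ J) (inf_le_right.trans hJS) hne
      have hnZ : n ∈ Z := by
        rw [hZ, Subgroup.mem_inf]
        refine ⟨hJS hn.2, ?_⟩
        rw [Subgroup.mem_centralizer_iff]
        intro s hs; exact hnS s hs
      have hnLZ : n ∈ L ⊓ Z := ⟨hHS ⟨hKH hn.1, hJS hn.2⟩, hnZ⟩
      rw [hLZ, Subgroup.mem_bot] at hnLZ
      exact hn1 hnLZ
    have hKS : K ⊓ S' = ⊥ := by
      rw [eq_bot_iff]
      intro g hg
      have hgL : g ∈ L := hHS ⟨hKH hg.1, hg.2⟩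
      have hgKJ : g ∈ K ⊓ J := ⟨hg.1, hLJ hgL⟩
      rw [hKJ] at hgKJ; exact hgKJ
    have hKcard : Nat.card K ∣ 2 := by
      let q : ↥K →* G ⧸ S' := (QuotientGroup.mk' S').comp K.subtype
      have hq : Function.Injective q := by
        rw [injective_iff_map_eq_one]
        intro k hk
        have hkS : (k : G) ∈ S' := (QuotientGroup.eq_one_iff (k : G)).mp hk
        have hkKS : (k : G) ∈ K ⊓ S' := ⟨k.2, hkS⟩
        rw [hKS, Subgroup.mem_bot] at hkKS
        exact Subtype.ext hkKS
      have hdvd := Subgroup.card_dvd_of_injective q hq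
      rwa [← Subgroup.index_eq_card, hSidx] at hdvd
    have hK12 : Nat.card K = 1 ∨ Nat.card K = 2 := by
      have hle := Nat.le_of_dvd (by norm_num) hKcard
      have hpos : 0 < Nat.card K := Nat.card_pos
      omega
    rcases hK12 with h | h
    · exact Subgroup.card_eq_one.mp h
    · exfalso
      have hK2 : IsPGroup 2 K := IsPGroup.of_card (n := 1) (by rw [h]; norm_num)
      have hp : IsPGroup 2 ↥(K ⊔ T') := IsPGroup.to_sup_of_normal_left hK2 T.isPGroup'
      have hsupT : K ⊔ T' = T' := T.is_maximal' hp le_sup_right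
      have hKT : K ≤ T' := by rw [← hsupT]; exact le_sup_left
      have hKeq : K = T' := Subgroup.eq_of_le_of_card_ge hKT (by rw [h, hT2])
      -- T' is normal of order two, hence central
      have hTn : T'.Normal := by rw [← hKeq]; exact hKn
      have htc : ∀ g : G, g * t = t * g := by
        intro g
        have hmem : g * t * g⁻¹ ∈ T' := hTn.conj_mem t htT g
        rcases hTcases _ hmem with h' | h'
        · exfalso
          apply ht1
          calc t = g⁻¹ * (g * t * g⁻¹) * g := by group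
            _ = 1 := by rw [h']; group
        · calc g * t = (g * t * g⁻¹) * g := by group
            _ = t * g := by rw [h']
      apply hST
      apply le_antisymm inf_le_left
      intro s hs
      rw [Subgroup.mem_inf]
      refine ⟨hs, ?_⟩
      rw [Subgroup.mem_centralizer_iff]
      intro u hu
      rcases hTcases u hu with rfl | rfl
      · rw [one_mul, mul_one]
      · exact (htc s).symm
  exact ⟨H, z, hidx, hcore, hzc, hz3, hzH⟩

end Cfsg.Agent.helper28.G162
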