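import Mathlib
import Cfsg.Agent.Lib_helper28_GL23

set_option autoImplicit false

/-! Reduction of an arbitrary involution of an arbitrary `M11` to the base configuration. -/

namespace Cfsg.Agent.helper28.GL23

open Cfsg MulAction Cfsg.Agent.helper2.Golay Cfsg.Agent.helper28.M11cls
open scoped Pointwise

theorem perm_inv_self (g : Equiv.Perm GolayPt) (u : GolayPt) : g⁻¹ (g u) = u :=
  Equiv.Perm.inv_eq_iff_eq.mpr rfl

theorem exists_two_cycles {d : Finset GolayPt} (hd : d ∈ dodecads) {p : GolayPt}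
    {σ : Equiv.Perm GolayPt} (hσ : σ ∈ M24) (hσd : σ • d = d) (hσp : σ p = p) (hne : σ ≠ 1) :
    ∃ a c : GolayPt, a ∈ d ∧ c ∈ d ∧ a ≠ p ∧ c ≠ p ∧ σ a ≠ a ∧ σ c ≠ c ∧ c ≠ a ∧ c ≠ σ a := by
  have h1 : ∃ a ∈ d, σ a ≠ a := by
    by_contra hcon
    push Not at hcon
    obtain ⟨x, hx⟩ := exists_emb_of_le_card (s := d) (k := 5)
      (by rw [card_of_mem_dodecads hd]; norm_num)
    exact hne (dodecad_sharp hd x hx hσ hσd (fun i => hcon _ (hx i)))
  obtain ⟨a, had, haa⟩ := h1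
  have hap : a ≠ p := by
    rintro rfl
    exact haa hσp
  have h2 : ∃ c ∈ d, c ≠ a ∧ c ≠ σ a ∧ σ c ≠ c := by
    by_contra hcon
    push Not at hcon
    have hc1 : 11 ≤ (d.erase a).card := by
      rw [Finset.card_erase_of_mem had, card_of_mem_dodecads hd]
    have hc2 : 5 ≤ ((d.erase a).erase (σ a)).card := by
      have := Finset.pred_card_le_card_erase (s := d.erase a) (a := σ a)
      omega
    obtain ⟨x, hx⟩ := exists_emb_of_le_card (s := (d.erase a).erase (σ a)) (k := 5) hc2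
    have hx' : ∀ i, x i ∈ d ∧ x i ≠ a ∧ x i ≠ σ a := by
      intro i
      have h := hx i
      rw [Finset.mem_erase, Finset.mem_erase] at h
      exact ⟨h.2.2, h.2.1, h.1⟩
    exact hne (dodecad_sharp hd x (fun i => (hx' i).1) hσ hσd
      (fun i => hcon _ (hx' i).1 (hx' i).2.1 (hx' i).2.2))
  obtain ⟨c, hcd, hca, hcb, hcc⟩ := h2
  have hcp : c ≠ p := by
    rintro rfl
    exact hcc hσp
  exact ⟨a, c, had, hcd, hap, hcp, haa, hcc, hca, hcb⟩

theorem main {d : Finset GolayPt} (hd : d ∈ dodecads) {p : GolayPt} (hp : p ∈ d)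
    (x : ↥(stabilizer ↥M24 d ⊓ stabilizer ↥M24 p)) (hx : orderOf x = 2) :
    Nonempty (↥(Subgroup.centralizer ({x} : Set ↥(stabilizer ↥M24 d ⊓ stabilizer ↥M24 p))) ≃*
      GL (Fin 2) (ZMod 3)) := by
  have hmemK : ∀ k : ↥M24, k ∈ stabilizer ↥M24 d ⊓ stabilizer ↥M24 p ↔
      (k : Equiv.Perm GolayPt) • d = d ∧ (k : Equiv.Perm GolayPt) p = p := fun k => Iff.rfl
  obtain ⟨σ, hσdef⟩ : ∃ σ : Equiv.Perm GolayPt, σ = ((x : ↥M24) : Equiv.Perm GolayPt) := ⟨_, rfl⟩
  have hxm := (hmemK _).1 x.2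
  rw [← hσdef] at hxm
  have hσ : σ ∈ M24 := by rw [hσdef]; exact (x : ↥M24).2
  have hσd : σ • d = d := hxm.1
  have hσp : σ p = p := hxm.2
  have hσ2 : σ * σ = 1 := by
    have h := pow_orderOf_eq_one x
    rw [hx, pow_two] at h
    have h2 := congrArg
      (fun k : ↥(stabilizer ↥M24 d ⊓ stabilizer ↥M24 p) => ((k : ↥M24) : Equiv.Perm GolayPt)) h
    rw [hσdef]
    exact h2
  have hne : σ ≠ 1 := by
    intro h
    have h1 : x = 1 := by
      apply Subtype.ext
      apply Subtype.ext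
      rw [← hσdef, h]
      rfl
    rw [h1, orderOf_one] at hx
    norm_num at hx
  obtain ⟨a, c, had, hcd, hap, hcp, haa, hcc, hca, hcb⟩ :=
    exists_two_cycles hd hσ hσd hσp hne
  have hinv : ∀ u, σ (σ u) = u := by
    intro u
    have h := congrArg (fun τ : Equiv.Perm GolayPt => τ u) hσ2
    exact h
  have hmemσ : ∀ u ∈ d, σ u ∈ d := by
    intro u hu
    have h := Finset.smul_mem_smul_finset (a := σ) hu
    rwa [hσd] at h
  have hnd : [p, a, σ a, c, σ c].Nodup := by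
    simp only [List.nodup_cons, List.mem_cons, List.not_mem_nil, or_false, not_or,
      not_false_eq_true, List.nodup_nil, and_true]
    refine ⟨⟨Ne.symm hap, ?_, Ne.symm hcp, ?_⟩, ⟨Ne.symm haa, Ne.symm hca, ?_⟩, ⟨Ne.symm hcb, ?_⟩,
      Ne.symm hcc⟩
    · intro h
      apply hap
      rw [← hinv a, ← h, hσp]
    · intro h
      apply hcp
      rw [← hinv c, ← h, hσp]
    · intro h
      apply hcb
      rw [h, hinv]
    · intro h
      exact hca (σ.injective h).symm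
  have hXmem : ∀ i, embFive p a (σ a) c (σ c) hnd i ∈ d := by
    intro i
    fin_cases i
    · exact hp
    · exact had
    · exact hmemσ a had
    · exact hcd
    · exact hmemσ c hcd
  obtain ⟨g, hg, hgd, hgx⟩ := dodecad_five_transitive hd sqd_mem
    (embFive p a (σ a) c (σ c) hnd) base5 hXmem base5_mem
  have hg0 : g p = pt 0 := hgx 0
  have hg1 : g a = pt 2 := hgx 1
  have hg2 : g (σ a) = pt 4 := hgx 2
  have hg3 : g c = pt 3 := hgx 3
  have hg4 : g (σ c) = pt 12 := hgx 4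
  have hv := x0_vals
  have key : g * σ * g⁻¹ = x0 := by
    have h1 : x0⁻¹ * (g * σ * g⁻¹) = 1 := by
      apply dodecad_sharp sqd_mem base5 base5_mem
        (Subgroup.mul_mem _ (Subgroup.inv_mem _ x0_mem)
          (Subgroup.mul_mem _ (Subgroup.mul_mem _ hg hσ) (Subgroup.inv_mem _ hg)))
      · rw [mul_smul, inv_smul_eq_iff, x0_sq, mul_smul, mul_smul, ← hgd, inv_smul_smul, hσd]
      · intro i
        rw [Equiv.Perm.mul_apply, Equiv.Perm.inv_eq_iff_eq, Equiv.Perm.mul_apply,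
          Equiv.Perm.mul_apply]
        fin_cases i
        · show g (σ (g⁻¹ (pt 0))) = x0 (pt 0)
          rw [hv.1, ← hg0, perm_inv_self, hσp]
        · show g (σ (g⁻¹ (pt 2))) = x0 (pt 2)
          rw [hv.2.1, ← hg1, perm_inv_self, hg2]
        · show g (σ (g⁻¹ (pt 4))) = x0 (pt 4)
          rw [hv.2.2.1, ← hg2, perm_inv_self, hinv, hg1]
        · show g (σ (g⁻¹ (pt 3))) = x0 (pt 3)
          rw [hv.2.2.2.1, ← hg3, perm_inv_self, hg4]
        · show g (σ (g⁻¹ (pt 12))) = x0 (pt 12)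
          rw [hv.2.2.2.2, ← hg4, perm_inv_self, hinv, hg3]
    exact (inv_mul_eq_one.1 h1).symm
  have hK : ∀ k : ↥M24, k ∈ stabilizer ↥M24 d ⊓ stabilizer ↥M24 p ↔
      (⟨g, hg⟩ : ↥M24) * k * (⟨g, hg⟩ : ↥M24)⁻¹ ∈ H0 := by
    intro k
    rw [hmemK, mem_H0_iff]
    show _ ↔ (g * (k : Equiv.Perm GolayPt) * g⁻¹) • pts sqm = pts sqm ∧
      (g * (k : Equiv.Perm GolayPt) * g⁻¹) (pt 0) = pt 0
    rw [← hgd, mul_smul, mul_smul, inv_smul_smul, smul_left_cancel_iff, Equiv.Perm.mul_apply,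
      Equiv.Perm.mul_apply, ← hg0, perm_inv_self, g.injective.eq_iff]
  have hex : conjEquiv _ H0 (⟨g, hg⟩ : ↥M24) hK x = x0' := by
    apply Subtype.ext
    apply Subtype.ext
    show g * ((x : ↥M24) : Equiv.Perm GolayPt) * g⁻¹ = x0
    rw [← hσdef]
    exact key
  obtain ⟨e0⟩ := base_iso
  have e1 := centEquiv (conjEquiv _ H0 (⟨g, hg⟩ : ↥M24) hK) x
  rw [hex] at e1
  exact ⟨e1.trans e0⟩

end Cfsg.Agent.helper28.GL23
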