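import Mathlib
import Cfsg.Prelude.Def_Sporadic_a
set_option autoImplicit false

namespace Cfsg.Agent.helper28.Golay

open Finset

lemma z2_cases (x : ZMod 2) : x = 0 ∨ x = 1 := by
  revert x; decide

/-- support of a binary word -/
def supp {ι : Type*} [Fintype ι] (u : ι → ZMod 2) : Finset ι := Finset.univ.filter (fun i => u i ≠ 0)

lemma wt_eq {ι : Type*} [Fintype ι] (u : ι → ZMod 2) : hammingNorm u = (supp u).card := rfl

lemma mem_supp {ι : Type*} [Fintype ι] (u : ι → ZMod 2) (i : ι) : i ∈ supp u ↔ u i = 1 := by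
  unfold supp
  rw [Finset.mem_filter]
  rcases z2_cases (u i) with h | h <;> simp [h]

/-- indicator word of a finset -/
def ind {ι : Type*} [DecidableEq ι] (S : Finset ι) : ι → ZMod 2 := fun i => if i ∈ S then 1 else 0

lemma supp_ind {ι : Type*} [Fintype ι] [DecidableEq ι] (S : Finset ι) : supp (ind S) = S := by
  ext i
  rw [mem_supp]
  unfold ind
  by_cases h : i ∈ S <;> simp [h]

lemma ind_supp {ι : Type*} [Fintype ι] [DecidableEq ι] (u : ι → ZMod 2) : ind (supp u) = u := by
  funext i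
  unfold ind
  by_cases h : i ∈ supp u
  · rw [if_pos h]; exact ((mem_supp u i).1 h).symm
  · rw [if_neg h]
    rcases z2_cases (u i) with h' | h'
    · exact h'.symm
    · exact absurd ((mem_supp u i).2 h') h

lemma supp_injective {ι : Type*} [Fintype ι] [DecidableEq ι] :
    Function.Injective (supp : (ι → ZMod 2) → Finset ι) := by
  intro u v h
  rw [← ind_supp u, ← ind_supp v, h]

lemma card_wt_eq {ι : Type*} [Fintype ι] [DecidableEq ι] (k : ℕ) :
    (Finset.univ.filter (fun u : ι → ZMod 2 => hammingNorm u = k)).card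
      = (Fintype.card ι).choose k := by
  rw [← Finset.card_univ (α := ι), ← Finset.card_powersetCard]
  apply Finset.card_bij (fun u _ => supp u)
  · intro u hu
    rw [Finset.mem_powersetCard]
    exact ⟨Finset.subset_univ _, by rw [← wt_eq]; exact (Finset.mem_filter.1 hu).2⟩
  · intro u _ v _ h
    exact supp_injective h
  · intro S hS
    refine ⟨ind S, ?_, supp_ind S⟩
    rw [Finset.mem_filter]
    exact ⟨Finset.mem_univ _, by rw [wt_eq, supp_ind]; exact (Finset.mem_powersetCard.1 hS).2⟩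

lemma supp_sub_subset {ι : Type*} [Fintype ι] [DecidableEq ι] (u v : ι → ZMod 2) :
    supp (u - v) ⊆ supp u ∪ supp v := by
  intro i hi
  rw [Finset.mem_union]
  by_contra h
  push Not at h
  have h1 : u i = 0 := by
    rcases z2_cases (u i) with h' | h'
    · exact h'
    · exact absurd ((mem_supp u i).2 h') h.1
  have h2 : v i = 0 := by
    rcases z2_cases (v i) with h' | h'
    · exact h'
    · exact absurd ((mem_supp v i).2 h') h.2
  have := (mem_supp _ i).1 hi
  simp [h1, h2] at this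

abbrev V := Fin 24 → ZMod 2

lemma card_wt_le (k : ℕ) :
    (Finset.univ.filter (fun u : V => hammingNorm u ≤ k)).card
      = ∑ j ∈ range (k + 1), Nat.choose 24 j := by
  rw [Finset.card_eq_sum_card_fiberwise (f := fun u : V => hammingNorm u) (t := range (k + 1))]
  · apply Finset.sum_congr rfl
    intro j hj
    have h24 := card_wt_eq (ι := Fin 24) j
    rw [Fintype.card_fin] at h24
    rw [← h24]
    congr 1
    ext u
    simp only [Finset.mem_filter, Finset.mem_univ, true_and]
    constructor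
    · rintro ⟨_, h⟩; exact h
    · intro h; exact ⟨by rw [h]; exact Nat.lt_succ_iff.1 (Finset.mem_range.1 hj), h⟩
  · intro u hu
    rw [Finset.mem_coe, Finset.mem_range, Nat.lt_succ_iff]
    exact (Finset.mem_filter.1 hu).2

lemma pair_lemma (C : Submodule (ZMod 2) V)
    (hmin : ∀ w ∈ C, w ≠ 0 → 8 ≤ hammingNorm w) (u u' : V) (hu : hammingNorm u ≤ 4)
    (hu' : hammingNorm u' ≤ 4) (hd : u - u' ∈ C) (hne : u ≠ u') :
    hammingNorm u = 4 ∧ hammingNorm u' = 4 ∧ Disjoint (supp u) (supp u') := by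
  have h8 := hmin _ hd (sub_ne_zero.2 hne)
  rw [wt_eq] at h8 hu hu' ⊢
  rw [wt_eq]
  have h1 := Finset.card_le_card (supp_sub_subset u u')
  have h2 := Finset.card_union_add_card_inter (supp u) (supp u')
  have h3 : (supp u ∩ supp u').card = 0 := by omega
  refine ⟨by omega, by omega, ?_⟩
  rw [Finset.disjoint_iff_inter_eq_empty]
  exact Finset.card_eq_zero.1 h3

lemma card_quot (C : Submodule (ZMod 2) V) (hdim : Module.finrank (ZMod 2) C = 12)
    [Fintype (V ⧸ C)] : Fintype.card (V ⧸ C) = 4096 := by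
  have h1 := Submodule.finrank_quotient_add_finrank C
  rw [hdim, Module.finrank_fin_fun] at h1
  have h2 : Module.finrank (ZMod 2) (V ⧸ C) = 12 := by omega
  rw [Module.card_eq_pow_finrank (K := ZMod 2) (V := V ⧸ C), h2, ZMod.card]
  norm_num

theorem covering (C : Submodule (ZMod 2) V) (hdim : Module.finrank (ZMod 2) C = 12)
    (hmin : ∀ w ∈ C, w ≠ 0 → 8 ≤ hammingNorm w) (w : V) [DecidablePred (· ∈ C)] :
    (∃ u, u - w ∈ C ∧ hammingNorm u ≤ 3 ∧ ∀ u', u' - w ∈ C → hammingNorm u' ≤ 4 → u' = u) ∨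
    ((Finset.univ.filter (fun u : V => u - w ∈ C ∧ hammingNorm u ≤ 4)).card = 6 ∧
      ∀ u, u - w ∈ C → hammingNorm u ≤ 4 → hammingNorm u = 4) := by
  classical
  have : Fintype (V ⧸ C) := Fintype.ofFinite _
  have hQ := card_quot C hdim
  let mk : V → V ⧸ C := Submodule.Quotient.mk
  have hmk : ∀ a b : V, mk a = mk b ↔ a - b ∈ C := fun a b => Submodule.Quotient.eq C
  set S4 : Finset V := Finset.univ.filter (fun u : V => hammingNorm u ≤ 4) with hS4
  set S3 : Finset V := Finset.univ.filter (fun u : V => hammingNorm u ≤ 3) with hS3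
  have c4 : S4.card = 12951 := by
    rw [hS4, card_wt_le]; decide
  have c3 : S3.card = 2325 := by
    rw [hS3, card_wt_le]; decide
  have m4 : ∀ u, u ∈ S4 ↔ hammingNorm u ≤ 4 := by intro u; simp [hS4]
  have m3 : ∀ u, u ∈ S3 ↔ hammingNorm u ≤ 3 := by intro u; simp [hS3]
  set fib : V ⧸ C → Finset V := fun q => S4.filter (fun u => mk u = q) with hfib
  set Q1 : Finset (V ⧸ C) := S3.image mk with hQ1
  have cQ1 : Q1.card = 2325 := by
    rw [hQ1, Finset.card_image_of_injOn, c3]
    intro u hu u' hu' h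
    by_contra hne
    have hu3 := (m3 u).1 hu
    have hu3' := (m3 u').1 hu'
    have := pair_lemma C hmin u u' (by omega) (by omega) ((hmk u u').1 h) hne
    omega
  have fib1 : ∀ q ∈ Q1, (fib q).card = 1 := by
    intro q hq
    obtain ⟨u0, hu0, rfl⟩ := Finset.mem_image.1 hq
    have hu03 := (m3 u0).1 hu0
    rw [Finset.card_eq_one]
    refine ⟨u0, ?_⟩
    ext u
    simp only [hfib, Finset.mem_filter, Finset.mem_singleton, m4]
    constructor
    · rintro ⟨h4, h⟩
      by_contra hne
      have := pair_lemma C hmin u u0 h4 (by omega) ((hmk u u0).1 h) hne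
      omega
    · rintro rfl
      exact ⟨by omega, rfl⟩
  have fib_wt : ∀ q, q ∉ Q1 → ∀ u ∈ fib q, hammingNorm u = 4 := by
    intro q hq u hu
    simp only [hfib, Finset.mem_filter, m4] at hu
    by_contra h
    apply hq
    rw [hQ1, Finset.mem_image]
    exact ⟨u, (m3 u).2 (by omega), hu.2⟩
  have fib6 : ∀ q ∈ Q1ᶜ, (fib q).card ≤ 6 := by
    intro q hq
    rw [Finset.mem_compl] at hq
    have hdisj : ((fib q : Finset V) : Set V).PairwiseDisjoint supp := by
      intro u hu u' hu' hne
      have hu1 := hu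
      have hu1' := hu'
      simp only [hfib, Finset.coe_filter, Set.mem_ofPred_eq, m4] at hu1 hu1'
      exact (pair_lemma C hmin u u' hu1.1 hu1'.1 ((hmk u u').1 (hu1.2.trans hu1'.2.symm)) hne).2.2
    have hcard := Finset.card_biUnion hdisj
    have hle : ((fib q).biUnion supp).card ≤ 24 := by
      have := Finset.card_le_univ ((fib q).biUnion supp)
      simpa using this
    have hsum : ∑ u ∈ fib q, (supp u).card = 4 * (fib q).card := by
      rw [Finset.sum_congr rfl (fun u hu => by rw [← wt_eq, fib_wt q hq u hu]), Finset.sum_const,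
        smul_eq_mul, mul_comm]
    omega
  have total : ∑ q, (fib q).card = 12951 := by
    rw [← c4]
    exact (Finset.card_eq_sum_card_fiberwise (f := mk) (s := S4) (t := Finset.univ)
      (fun u _ => Finset.mem_coe.2 (Finset.mem_univ _))).symm
  have split := Finset.sum_add_sum_compl Q1 (fun q => (fib q).card)
  rw [total, Finset.sum_congr rfl fib1, Finset.sum_const, cQ1, smul_eq_mul, mul_one] at split
  have cQ1c : Q1ᶜ.card = 1771 := by
    have := Finset.card_compl Q1
    omega
  have hsum6 : ∑ q ∈ Q1ᶜ, (fib q).card = ∑ q ∈ Q1ᶜ, 6 := by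
    rw [Finset.sum_const, cQ1c, smul_eq_mul]; omega
  have fibeq6 := (Finset.sum_eq_sum_iff_of_le fib6).1 hsum6
  have hfw : ∀ u, u ∈ fib (mk w) ↔ (u - w ∈ C ∧ hammingNorm u ≤ 4) := by
    intro u
    simp only [hfib, Finset.mem_filter, m4, hmk]
    exact and_comm
  by_cases hq : mk w ∈ Q1
  · left
    obtain ⟨u, hu⟩ := Finset.card_eq_one.1 (fib1 _ hq)
    have hu_mem : u ∈ fib (mk w) := by rw [hu]; exact Finset.mem_singleton_self u
    obtain ⟨u0, hu0, hmk0⟩ := Finset.mem_image.1 hq
    have hu0mem : u0 ∈ fib (mk w) := by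
      rw [hfw]
      exact ⟨(hmk u0 w).1 hmk0, by have := (m3 u0).1 hu0; omega⟩
    have hu0u : u0 = u := by rw [hu] at hu0mem; exact Finset.mem_singleton.1 hu0mem
    refine ⟨u, ((hfw u).1 hu_mem).1, hu0u ▸ (m3 u0).1 hu0, ?_⟩
    intro u' h1 h2
    have : u' ∈ fib (mk w) := (hfw u').2 ⟨h1, h2⟩
    rw [hu] at this
    exact Finset.mem_singleton.1 this
  · right
    constructor
    · have hfe : Finset.univ.filter (fun u : V => u - w ∈ C ∧ hammingNorm u ≤ 4) = fib (mk w) := by
        ext u
        rw [hfw]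
        simp
      rw [hfe]
      exact fibeq6 (mk w) (Finset.mem_compl.2 hq)
    · intro u h1 h2
      exact fib_wt _ hq u ((hfw u).2 ⟨h1, h2⟩)

lemma supp_sub {ι : Type*} [Fintype ι] [DecidableEq ι] (u v : ι → ZMod 2) :
    supp (u - v) = (supp u \ supp v) ∪ (supp v \ supp u) := by
  ext i
  simp only [Finset.mem_union, Finset.mem_sdiff, mem_supp, Pi.sub_apply]
  rcases z2_cases (u i) with h | h <;> rcases z2_cases (v i) with h' | h' <;> rw [h, h'] <;> decide

lemma wt_sub {ι : Type*} [Fintype ι] [DecidableEq ι] (u v : ι → ZMod 2) :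
    hammingNorm (u - v) + 2 * (supp u ∩ supp v).card = hammingNorm u + hammingNorm v := by
  rw [wt_eq, wt_eq, wt_eq, supp_sub, Finset.card_union_of_disjoint]
  · have h1 := Finset.card_sdiff_add_card_inter (supp u) (supp v)
    have h2 := Finset.card_sdiff_add_card_inter (supp v) (supp u)
    rw [Finset.inter_comm] at h2
    omega
  · rw [Finset.disjoint_left]
    intro i hi hi'
    exact (Finset.mem_sdiff.1 hi).2 (Finset.mem_sdiff.1 hi').1

lemma dot_eq_card_inter {ι : Type*} [Fintype ι] [DecidableEq ι] (u v : ι → ZMod 2) :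
    ∑ i, u i * v i = ((supp u ∩ supp v).card : ZMod 2) := by
  rw [Finset.card_eq_sum_ones, Nat.cast_sum, ← Finset.sum_filter_add_sum_filter_not Finset.univ (fun i => i ∈ supp u ∩ supp v)]
  have h0 : ∑ i ∈ Finset.univ.filter (fun i => ¬ i ∈ supp u ∩ supp v), u i * v i = 0 := by
    apply Finset.sum_eq_zero
    intro i hi
    rw [Finset.mem_filter, Finset.mem_inter, mem_supp, mem_supp] at hi
    rcases z2_cases (u i) with h | h <;> rcases z2_cases (v i) with h' | h' <;> simp_all
  rw [h0, add_zero]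
  have : Finset.univ.filter (fun i => i ∈ supp u ∩ supp v) = supp u ∩ supp v := by
    ext i; simp
  rw [this]
  apply Finset.sum_congr rfl
  intro i hi
  rw [Finset.mem_inter, mem_supp, mem_supp] at hi
  rw [hi.1, hi.2]; simp

lemma even_wt (C : Submodule (ZMod 2) V) (horth : ∀ v ∈ C, ∀ w ∈ C, ∑ i, v i * w i = 0)
    (c : V) (hc : c ∈ C) : Even (hammingNorm c) := by
  have h := horth c hc c hc
  rw [dot_eq_card_inter, Finset.inter_self, ← wt_eq] at h
  rw [even_iff_two_dvd]
  exact (ZMod.natCast_eq_zero_iff _ _).1 h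

lemma octad_unique (C : Submodule (ZMod 2) V) (hmin : ∀ w ∈ C, w ≠ 0 → 8 ≤ hammingNorm w)
    (c c' : V) (hc : c ∈ C) (hc' : c' ∈ C) (h8 : hammingNorm c = 8) (h8' : hammingNorm c' = 8)
    (h5 : 5 ≤ (supp c ∩ supp c').card) : c = c' := by
  by_contra hne
  have := hmin _ (C.sub_mem hc hc') (sub_ne_zero.2 hne)
  have := wt_sub c c'
  omega

lemma steiner_exists (C : Submodule (ZMod 2) V) (hdim : Module.finrank (ZMod 2) C = 12)
    (horth : ∀ v ∈ C, ∀ w ∈ C, ∑ i, v i * w i = 0)
    (hmin : ∀ w ∈ C, w ≠ 0 → 8 ≤ hammingNorm w) (S : Finset (Fin 24)) (hS : S.card = 5) :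
    ∃ c ∈ C, hammingNorm c = 8 ∧ S ⊆ supp c := by
  classical
  have key : ∃ u : V, u - ind S ∈ C ∧ hammingNorm u ≤ 4 := by
    rcases covering C hdim hmin (ind S) with ⟨u, h1, h2, -⟩ | ⟨h1, -⟩
    · exact ⟨u, h1, by omega⟩
    · have : (Finset.univ.filter (fun u : V => u - ind S ∈ C ∧ hammingNorm u ≤ 4)).Nonempty := by
        rw [← Finset.card_pos, h1]; norm_num
      obtain ⟨u, hu⟩ := this
      exact ⟨u, (Finset.mem_filter.1 hu).2⟩
  obtain ⟨u, huC, hu4⟩ := key
  have hwS : hammingNorm (ind S) = 5 := by rw [wt_eq, supp_ind, hS]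
  have hne : u ≠ ind S := by
    rintro rfl
    omega
  have h8 := hmin _ huC (sub_ne_zero.2 hne)
  have hev := even_wt C horth _ huC
  have hw := wt_sub u (ind S)
  rw [hwS] at hw
  obtain ⟨k, hk⟩ := hev
  have hint : (supp u ∩ supp (ind S)).card = 0 := by omega
  refine ⟨u - ind S, huC, by omega, ?_⟩
  rw [supp_sub, supp_ind]
  rw [supp_ind] at hint
  intro i hi
  rw [Finset.mem_union, Finset.mem_sdiff, Finset.mem_sdiff]
  right
  refine ⟨hi, fun hiu => ?_⟩
  have : i ∈ supp u ∩ S := Finset.mem_inter.2 ⟨hiu, hi⟩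
  rw [Finset.card_eq_zero.1 hint] at this
  exact absurd this (Finset.notMem_empty i)

end Cfsg.Agent.helper28.Golay
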