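import Cfsg.Agent.Lib_helper28_Golay2
set_option autoImplicit false

/-! General index type version (any `ι` with 24 elements) of `Lib_helper28_Golay`/`Golay2`. -/

namespace Cfsg.Agent.helper28.GolayGen

open Finset Cfsg.Agent.S5625 Cfsg.Agent.helper28.Golay

variable {ι : Type*} [Fintype ι] [DecidableEq ι]


lemma card_wt_le (hι : Fintype.card ι = 24) (k : ℕ) :
    (Finset.univ.filter (fun u : (ι → ZMod 2) => hammingNorm u ≤ k)).card
      = ∑ j ∈ range (k + 1), Nat.choose 24 j := by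
  rw [Finset.card_eq_sum_card_fiberwise (f := fun u : (ι → ZMod 2) => hammingNorm u) (t := range (k + 1))]
  · apply Finset.sum_congr rfl
    intro j hj
    have h24 := card_wt_eq (ι := ι) j
    rw [hι] at h24
    rw [← h24]
    congr 1
    ext u
    simp only [Finset.mem_filter, Finset.mem_univ, true_and]
    constructor
    · rintro ⟨_, h⟩; exact h
    · intro h; exact ⟨by rw [h]; exact Nat.lt_succ_iff.1 (Finset.mem_range.1 hj), h⟩
  · intro u hu
    rw [Finset.mem_coe, Finset.mem_range, Nat.lt_succ_iff]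
    exact (Finset.mem_filter.1 hu).2

lemma pair_lemma (C : Submodule (ZMod 2) (ι → ZMod 2))
    (hmin : ∀ w ∈ C, w ≠ 0 → 8 ≤ hammingNorm w) (u u' : (ι → ZMod 2)) (hu : hammingNorm u ≤ 4)
    (hu' : hammingNorm u' ≤ 4) (hd : u - u' ∈ C) (hne : u ≠ u') :
    hammingNorm u = 4 ∧ hammingNorm u' = 4 ∧ Disjoint (supp u) (supp u') := by
  have h8 := hmin _ hd (sub_ne_zero.2 hne)
  rw [wt_eq] at h8 hu hu' ⊢
  rw [wt_eq]
  have h1 := Finset.card_le_card (supp_sub_subset u u')
  have h2 := Finset.card_union_add_card_inter (supp u) (supp u')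
  have h3 : (supp u ∩ supp u').card = 0 := by omega
  refine ⟨by omega, by omega, ?_⟩
  rw [Finset.disjoint_iff_inter_eq_empty]
  exact Finset.card_eq_zero.1 h3

omit [DecidableEq ι] in
lemma card_quot (hι : Fintype.card ι = 24) (C : Submodule (ZMod 2) (ι → ZMod 2)) (hdim : Module.finrank (ZMod 2) C = 12)
    [Fintype ((ι → ZMod 2) ⧸ C)] : Fintype.card ((ι → ZMod 2) ⧸ C) = 4096 := by
  have h1 := Submodule.finrank_quotient_add_finrank C
  rw [hdim, Module.finrank_fintype_fun_eq_card, hι] at h1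
  have h2 : Module.finrank (ZMod 2) ((ι → ZMod 2) ⧸ C) = 12 := by omega
  rw [Module.card_eq_pow_finrank (K := ZMod 2) (V := (ι → ZMod 2) ⧸ C), h2, ZMod.card]
  norm_num

theorem covering (hι : Fintype.card ι = 24) (C : Submodule (ZMod 2) (ι → ZMod 2)) (hdim : Module.finrank (ZMod 2) C = 12)
    (hmin : ∀ w ∈ C, w ≠ 0 → 8 ≤ hammingNorm w) (w : (ι → ZMod 2)) [DecidablePred (· ∈ C)] :
    (∃ u, u - w ∈ C ∧ hammingNorm u ≤ 3 ∧ ∀ u', u' - w ∈ C → hammingNorm u' ≤ 4 → u' = u) ∨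
    ((Finset.univ.filter (fun u : (ι → ZMod 2) => u - w ∈ C ∧ hammingNorm u ≤ 4)).card = 6 ∧
      ∀ u, u - w ∈ C → hammingNorm u ≤ 4 → hammingNorm u = 4) := by
  classical
  have : Fintype ((ι → ZMod 2) ⧸ C) := Fintype.ofFinite _
  have hQ := card_quot hι C hdim
  let mk : (ι → ZMod 2) → (ι → ZMod 2) ⧸ C := Submodule.Quotient.mk
  have hmk : ∀ a b : (ι → ZMod 2), mk a = mk b ↔ a - b ∈ C := fun a b => Submodule.Quotient.eq C
  set S4 : Finset (ι → ZMod 2) := Finset.univ.filter (fun u : (ι → ZMod 2) => hammingNorm u ≤ 4) with hS4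
  set S3 : Finset (ι → ZMod 2) := Finset.univ.filter (fun u : (ι → ZMod 2) => hammingNorm u ≤ 3) with hS3
  have c4 : S4.card = 12951 := by
    rw [hS4, card_wt_le hι]; decide
  have c3 : S3.card = 2325 := by
    rw [hS3, card_wt_le hι]; decide
  have m4 : ∀ u, u ∈ S4 ↔ hammingNorm u ≤ 4 := by intro u; simp [hS4]
  have m3 : ∀ u, u ∈ S3 ↔ hammingNorm u ≤ 3 := by intro u; simp [hS3]
  set fib : (ι → ZMod 2) ⧸ C → Finset (ι → ZMod 2) := fun q => S4.filter (fun u => mk u = q) with hfib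
  set Q1 : Finset ((ι → ZMod 2) ⧸ C) := S3.image mk with hQ1
  have cQ1 : Q1.card = 2325 := by
    rw [hQ1, Finset.card_image_of_injOn, c3]
    intro u hu u' hu' h
    by_contra hne
    have hu3 := (m3 u).1 hu
    have hu3' := (m3 u').1 hu'
    have := pair_lemma C hmin u u' (by omega) (by omega) ((hmk u u').1 h) hne
    omega
  have fib1 : ∀ q ∈ Q1, (fib q).card = 1 := by
    intro q hq
    obtain ⟨u0, hu0, rfl⟩ := Finset.mem_image.1 hq
    have hu03 := (m3 u0).1 hu0
    rw [Finset.card_eq_one]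
    refine ⟨u0, ?_⟩
    ext u
    simp only [hfib, Finset.mem_filter, Finset.mem_singleton, m4]
    constructor
    · rintro ⟨h4, h⟩
      by_contra hne
      have := pair_lemma C hmin u u0 h4 (by omega) ((hmk u u0).1 h) hne
      omega
    · rintro rfl
      exact ⟨by omega, rfl⟩
  have fib_wt : ∀ q, q ∉ Q1 → ∀ u ∈ fib q, hammingNorm u = 4 := by
    intro q hq u hu
    simp only [hfib, Finset.mem_filter, m4] at hu
    by_contra h
    apply hq
    rw [hQ1, Finset.mem_image]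
    exact ⟨u, (m3 u).2 (by omega), hu.2⟩
  have fib6 : ∀ q ∈ Q1ᶜ, (fib q).card ≤ 6 := by
    intro q hq
    rw [Finset.mem_compl] at hq
    have hdisj : ((fib q : Finset (ι → ZMod 2)) : Set (ι → ZMod 2)).PairwiseDisjoint supp := by
      intro u hu u' hu' hne
      have hu1 := hu
      have hu1' := hu'
      simp only [hfib, Finset.coe_filter, Set.mem_ofPred_eq, m4] at hu1 hu1'
      exact (pair_lemma C hmin u u' hu1.1 hu1'.1 ((hmk u u').1 (hu1.2.trans hu1'.2.symm)) hne).2.2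
    have hcard := Finset.card_biUnion hdisj
    have hle : ((fib q).biUnion supp).card ≤ 24 := by
      have := Finset.card_le_univ ((fib q).biUnion supp)
      rw [hι] at this
      exact this
    have hsum : ∑ u ∈ fib q, (supp u).card = 4 * (fib q).card := by
      rw [Finset.sum_congr rfl (fun u hu => by rw [← wt_eq, fib_wt q hq u hu]), Finset.sum_const,
        smul_eq_mul, mul_comm]
    omega
  have total : ∑ q, (fib q).card = 12951 := by
    rw [← c4]
    exact (Finset.card_eq_sum_card_fiberwise (f := mk) (s := S4) (t := Finset.univ)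
      (fun u _ => Finset.mem_coe.2 (Finset.mem_univ _))).symm
  have split := Finset.sum_add_sum_compl Q1 (fun q => (fib q).card)
  rw [total, Finset.sum_congr rfl fib1, Finset.sum_const, cQ1, smul_eq_mul, mul_one] at split
  have cQ1c : Q1ᶜ.card = 1771 := by
    have := Finset.card_compl Q1
    omega
  have hsum6 : ∑ q ∈ Q1ᶜ, (fib q).card = ∑ q ∈ Q1ᶜ, 6 := by
    rw [Finset.sum_const, cQ1c, smul_eq_mul]; omega
  have fibeq6 := (Finset.sum_eq_sum_iff_of_le fib6).1 hsum6
  have hfw : ∀ u, u ∈ fib (mk w) ↔ (u - w ∈ C ∧ hammingNorm u ≤ 4) := by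
    intro u
    simp only [hfib, Finset.mem_filter, m4, hmk]
    exact and_comm
  by_cases hq : mk w ∈ Q1
  · left
    obtain ⟨u, hu⟩ := Finset.card_eq_one.1 (fib1 _ hq)
    have hu_mem : u ∈ fib (mk w) := by rw [hu]; exact Finset.mem_singleton_self u
    obtain ⟨u0, hu0, hmk0⟩ := Finset.mem_image.1 hq
    have hu0mem : u0 ∈ fib (mk w) := by
      rw [hfw]
      exact ⟨(hmk u0 w).1 hmk0, by have := (m3 u0).1 hu0; omega⟩
    have hu0u : u0 = u := by rw [hu] at hu0mem; exact Finset.mem_singleton.1 hu0mem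
    refine ⟨u, ((hfw u).1 hu_mem).1, hu0u ▸ (m3 u0).1 hu0, ?_⟩
    intro u' h1 h2
    have : u' ∈ fib (mk w) := (hfw u').2 ⟨h1, h2⟩
    rw [hu] at this
    exact Finset.mem_singleton.1 this
  · right
    constructor
    · have hfe : Finset.univ.filter (fun u : (ι → ZMod 2) => u - w ∈ C ∧ hammingNorm u ≤ 4) = fib (mk w) := by
        ext u
        rw [hfw]
        simp
      rw [hfe]
      exact fibeq6 (mk w) (Finset.mem_compl.2 hq)
    · intro u h1 h2
      exact fib_wt _ hq u ((hfw u).2 ⟨h1, h2⟩)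

lemma even_wt (C : Submodule (ZMod 2) (ι → ZMod 2)) (horth : ∀ v ∈ C, ∀ w ∈ C, ∑ i, v i * w i = 0)
    (c : (ι → ZMod 2)) (hc : c ∈ C) : Even (hammingNorm c) := by
  have h := horth c hc c hc
  rw [dot_eq_card_inter, Finset.inter_self, ← wt_eq] at h
  rw [even_iff_two_dvd]
  exact (ZMod.natCast_eq_zero_iff _ _).1 h

lemma octad_unique (C : Submodule (ZMod 2) (ι → ZMod 2)) (hmin : ∀ w ∈ C, w ≠ 0 → 8 ≤ hammingNorm w)
    (c c' : (ι → ZMod 2)) (hc : c ∈ C) (hc' : c' ∈ C) (h8 : hammingNorm c = 8) (h8' : hammingNorm c' = 8)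
    (h5 : 5 ≤ (supp c ∩ supp c').card) : c = c' := by
  by_contra hne
  have := hmin _ (C.sub_mem hc hc') (sub_ne_zero.2 hne)
  have := wt_sub c c'
  omega

lemma steiner_exists (hι : Fintype.card ι = 24) (C : Submodule (ZMod 2) (ι → ZMod 2)) (hdim : Module.finrank (ZMod 2) C = 12)
    (horth : ∀ v ∈ C, ∀ w ∈ C, ∑ i, v i * w i = 0)
    (hmin : ∀ w ∈ C, w ≠ 0 → 8 ≤ hammingNorm w) (S : Finset (ι)) (hS : S.card = 5) :
    ∃ c ∈ C, hammingNorm c = 8 ∧ S ⊆ supp c := by
  classical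
  have key : ∃ u : (ι → ZMod 2), u - ind S ∈ C ∧ hammingNorm u ≤ 4 := by
    rcases covering hι C hdim hmin (ind S) with ⟨u, h1, h2, -⟩ | ⟨h1, -⟩
    · exact ⟨u, h1, by omega⟩
    · have : (Finset.univ.filter (fun u : (ι → ZMod 2) => u - ind S ∈ C ∧ hammingNorm u ≤ 4)).Nonempty := by
        rw [← Finset.card_pos, h1]; norm_num
      obtain ⟨u, hu⟩ := this
      exact ⟨u, (Finset.mem_filter.1 hu).2⟩
  obtain ⟨u, huC, hu4⟩ := key
  have hwS : hammingNorm (ind S) = 5 := by rw [wt_eq, supp_ind, hS]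
  have hne : u ≠ ind S := by
    rintro rfl
    omega
  have h8 := hmin _ huC (sub_ne_zero.2 hne)
  have hev := even_wt C horth _ huC
  have hw := wt_sub u (ind S)
  rw [hwS] at hw
  obtain ⟨k, hk⟩ := hev
  have hint : (supp u ∩ supp (ind S)).card = 0 := by omega
  refine ⟨u - ind S, huC, by omega, ?_⟩
  rw [supp_sub, supp_ind]
  rw [supp_ind] at hint
  intro i hi
  rw [Finset.mem_union, Finset.mem_sdiff, Finset.mem_sdiff]
  right
  refine ⟨hi, fun hiu => ?_⟩
  have : i ∈ supp u ∩ S := Finset.mem_inter.2 ⟨hiu, hi⟩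
  rw [Finset.card_eq_zero.1 hint] at this
  exact absurd this (Finset.notMem_empty i)



/-- orthogonal complement for the dot product -/
def perp (W : Submodule (ZMod 2) (ι → ZMod 2)) : Submodule (ZMod 2) (ι → ZMod 2) :=
  (W.dualAnnihilator).map ((dotProductEquiv (ZMod 2) (ι)).symm : Module.Dual (ZMod 2) (ι → ZMod 2) →ₗ[ZMod 2] (ι → ZMod 2))

lemma mem_perp (W : Submodule (ZMod 2) (ι → ZMod 2)) (v : (ι → ZMod 2)) :
    v ∈ perp W ↔ ∀ c ∈ W, ∑ i, v i * c i = 0 := by
  unfold perp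
  rw [Submodule.mem_map_equiv, Submodule.mem_dualAnnihilator]
  rfl

lemma finrank_perp (hι : Fintype.card ι = 24) (W : Submodule (ZMod 2) (ι → ZMod 2)) :
    Module.finrank (ZMod 2) (perp W) + Module.finrank (ZMod 2) W = 24 := by
  unfold perp
  rw [LinearEquiv.finrank_map_eq]
  have := Subspace.finrank_add_finrank_dualAnnihilator_eq W
  rw [Module.finrank_fintype_fun_eq_card, hι] at this
  rw [add_comm]
  exact this




theorem span_octads (hι : Fintype.card ι = 24) (C : Submodule (ZMod 2) (ι → ZMod 2)) (hdim : Module.finrank (ZMod 2) C = 12)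
    (horth : ∀ v ∈ C, ∀ w ∈ C, ∑ i, v i * w i = 0)
    (hmin : ∀ w ∈ C, w ≠ 0 → 8 ≤ hammingNorm w) :
    Submodule.span (ZMod 2) {w : (ι → ZMod 2) | w ∈ C ∧ hammingNorm w = 8} = C := by
  classical
  set O : Set (ι → ZMod 2) := {w | w ∈ C ∧ hammingNorm w = 8} with hO
  set C' := Submodule.span (ZMod 2) O with hC'
  have hle : C' ≤ C := Submodule.span_le.2 (fun w hw => hw.1)
  by_contra hne
  have hlt : C' < C := lt_of_le_of_ne hle hne
  have hfr : Module.finrank (ZMod 2) C' < 12 := hdim ▸ Submodule.finrank_lt_finrank_of_lt hlt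
  have hp := finrank_perp hι C'
  have hnot : ¬ perp C' ≤ C := by
    intro h
    have := Submodule.finrank_mono h
    omega
  obtain ⟨u, hu, huC⟩ := SetLike.not_le_iff_exists.1 hnot
  have key : ∃ u' : (ι → ZMod 2), u' - u ∈ C ∧ hammingNorm u' ≤ 4 := by
    rcases covering hι C hdim hmin u with ⟨u', h1, h2, -⟩ | ⟨h1, -⟩
    · exact ⟨u', h1, by omega⟩
    · have : (Finset.univ.filter (fun u' : (ι → ZMod 2) => u' - u ∈ C ∧ hammingNorm u' ≤ 4)).Nonempty := by
        rw [← Finset.card_pos, h1]; norm_num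
      obtain ⟨u', hu'⟩ := this
      exact ⟨u', (Finset.mem_filter.1 hu').2⟩
  obtain ⟨u', hu'C, hu'4⟩ := key
  have hu'notC : u' ∉ C := fun h => huC (by have := C.sub_mem h hu'C; simpa using this)
  have hu'perp : u' ∈ perp C' := by
    have h1 : u' - u ∈ perp C' := by
      rw [mem_perp]; intro c hc; exact horth _ hu'C _ (hle hc)
    have := (perp C').add_mem h1 hu
    simpa using this
  have hu'0 : u' ≠ 0 := by rintro rfl; exact hu'notC C.zero_mem
  have hY1 : 1 ≤ (supp u').card := by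
    rw [Nat.one_le_iff_ne_zero, Ne, Finset.card_eq_zero]
    intro h
    apply hu'0
    rw [← ind_supp u', h]
    funext i
    simp [ind]
  have hY4 : (supp u').card ≤ 4 := hu'4
  set Bf : Finset (Finset (ι)) :=
    Finset.univ.filter (fun b => ∃ c ∈ C, hammingNorm c = 8 ∧ supp c = b) with hBf
  have hBfmem : ∀ b, b ∈ Bf ↔ ∃ c ∈ C, hammingNorm c = 8 ∧ supp c = b := by
    intro b; simp [hBf]
  have hk : ∀ b ∈ Bf, b.card = 8 := by
    intro b hb
    obtain ⟨c, -, h8, rfl⟩ := (hBfmem b).1 hb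
    rw [← wt_eq]; exact h8
  have h5 : ∀ S : Finset (ι), S.card = 5 → cnt Bf S = 1 := by
    intro S hS
    obtain ⟨c, hc, h8, hSc⟩ := steiner_exists hι C hdim horth hmin S hS
    unfold cnt
    rw [Finset.card_eq_one]
    refine ⟨supp c, ?_⟩
    ext b
    simp only [Finset.mem_filter, Finset.mem_singleton, hBfmem]
    constructor
    · rintro ⟨⟨c', hc', h8', rfl⟩, hSb⟩
      have h5' : 5 ≤ (supp c' ∩ supp c).card := by
        rw [← hS]
        exact Finset.card_le_card (Finset.subset_inter hSb hSc)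
      rw [octad_unique C hmin c' c hc' hc h8' h8 h5']
    · rintro rfl
      exact ⟨⟨c, hc, h8, rfl⟩, hSc⟩
  obtain ⟨b, hb, hodd⟩ := odd_meet hι Bf hk h5 (supp u') hY1 hY4
  obtain ⟨c, hc, hc8, rfl⟩ := (hBfmem b).1 hb
  have hcC' : c ∈ C' := Submodule.subset_span ⟨hc, hc8⟩
  have hdot := (mem_perp C' u').1 hu'perp c hcC'
  rw [dot_eq_card_inter] at hdot
  have hev : Even (supp u' ∩ supp c).card := by
    rw [even_iff_two_dvd]; exact (ZMod.natCast_eq_zero_iff _ _).1 hdot
  rw [Finset.inter_comm] at hev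
  exact (Nat.not_even_iff_odd.2 hodd) hev



theorem doubly_even (hι : Fintype.card ι = 24) (C : Submodule (ZMod 2) (ι → ZMod 2)) (hdim : Module.finrank (ZMod 2) C = 12)
    (horth : ∀ v ∈ C, ∀ w ∈ C, ∑ i, v i * w i = 0)
    (hmin : ∀ w ∈ C, w ≠ 0 → 8 ≤ hammingNorm w) : ∀ w ∈ C, 4 ∣ hammingNorm w := by
  intro w hw
  have hspan := span_octads hι C hdim horth hmin
  rw [← hspan] at hw
  have main : w ∈ C ∧ 4 ∣ hammingNorm w := by
    induction hw using Submodule.span_induction with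
    | mem x hx => exact ⟨hx.1, by rw [hx.2]; decide⟩
    | zero => exact ⟨C.zero_mem, by simp⟩
    | add x y _ _ hx hy =>
      refine ⟨C.add_mem hx.1 hy.1, ?_⟩
      have hxy : x + y = x - y := by
        funext i
        exact (CharTwo.sub_eq_add (x i) (y i)).symm
      rw [hxy]
      have h1 := wt_sub x y
      have h2 := horth x hx.1 y hy.1
      rw [dot_eq_card_inter] at h2
      have h3 : 2 ∣ (supp x ∩ supp y).card := (ZMod.natCast_eq_zero_iff _ _).1 h2
      obtain ⟨a, ha⟩ := hx.2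
      obtain ⟨b, hb⟩ := hy.2
      obtain ⟨c, hc⟩ := h3
      omega
    | smul a x _ hx =>
      rcases z2_cases a with rfl | rfl
      · rw [zero_smul]; exact ⟨C.zero_mem, by simp⟩
      · rw [one_smul]; exact hx
  exact main.2


theorem steiner (hι : Fintype.card ι = 24) (C : Submodule (ZMod 2) (ι → ZMod 2))
    (hdim : Module.finrank (ZMod 2) C = 12) (horth : ∀ v ∈ C, ∀ w ∈ C, ∑ i, v i * w i = 0)
    (hmin : ∀ w ∈ C, w ≠ 0 → 8 ≤ hammingNorm w) :
    Cfsg.IsSteinerSystem 5 8 (Cfsg.wordsOfWeight (C : Set (ι → ZMod 2)) 8) := by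
  refine ⟨fun b hb => hb.2, fun S hS => ?_⟩
  obtain ⟨c, hc, h8, hSc⟩ := steiner_exists hι C hdim horth hmin S hS
  refine ⟨supp c, ⟨⟨⟨c, hc, rfl⟩, by rw [← wt_eq]; exact h8⟩, hSc⟩, ?_⟩
  rintro b ⟨⟨⟨c', hc', rfl⟩, hb8⟩, hSb⟩
  have h5 : 5 ≤ (supp c' ∩ supp c).card := by
    rw [← hS]
    exact Finset.card_le_card (Finset.subset_inter hSb hSc)
  have : c' = c := octad_unique C hmin c' c hc' hc hb8 h8 h5
  rw [this]
  rfl

theorem perp_eq_self (hι : Fintype.card ι = 24) (C : Submodule (ZMod 2) (ι → ZMod 2))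
    (hdim : Module.finrank (ZMod 2) C = 12) (horth : ∀ v ∈ C, ∀ w ∈ C, ∑ i, v i * w i = 0) :
    perp C = C := by
  symm
  apply Submodule.eq_of_le_of_finrank_eq
  · intro c hc
    rw [mem_perp]
    intro d hd
    exact horth c hc d hd
  · have := finrank_perp hι C
    omega

theorem ones_mem (hι : Fintype.card ι = 24) (C : Submodule (ZMod 2) (ι → ZMod 2))
    (hdim : Module.finrank (ZMod 2) C = 12) (horth : ∀ v ∈ C, ∀ w ∈ C, ∑ i, v i * w i = 0) :
    (fun _ => 1 : ι → ZMod 2) ∈ C := by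
  rw [← perp_eq_self hι C hdim horth, mem_perp]
  intro c hc
  have h := horth c hc c hc
  rw [← h]
  apply Finset.sum_congr rfl
  intro i _
  rcases z2_cases (c i) with h' | h' <;> rw [h'] <;> decide

theorem weight_cases (hι : Fintype.card ι = 24) (C : Submodule (ZMod 2) (ι → ZMod 2))
    (hdim : Module.finrank (ZMod 2) C = 12) (horth : ∀ v ∈ C, ∀ w ∈ C, ∑ i, v i * w i = 0)
    (hmin : ∀ w ∈ C, w ≠ 0 → 8 ≤ hammingNorm w) (w : ι → ZMod 2) (hw : w ∈ C) :
    hammingNorm w = 0 ∨ hammingNorm w = 8 ∨ hammingNorm w = 12 ∨ hammingNorm w = 16 ∨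
      hammingNorm w = 24 := by
  have h4 := doubly_even hι C hdim horth hmin w hw
  have hle : hammingNorm w ≤ 24 := by
    rw [← hι]; exact hammingNorm_le_card_fintype
  have h1 := ones_mem hι C hdim horth
  have hw' : (fun _ => 1 : ι → ZMod 2) - w ∈ C := C.sub_mem h1 hw
  have h4' := doubly_even hι C hdim horth hmin _ hw'
  have hwt := wt_sub (fun _ => 1 : ι → ZMod 2) w
  have hs1 : supp (fun _ => 1 : ι → ZMod 2) = Finset.univ := by
    ext i; simp [mem_supp]
  rw [wt_eq (fun _ => 1 : ι → ZMod 2), hs1, Finset.univ_inter, Finset.card_univ, hι, ← wt_eq] at hwt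
  by_cases hw0 : w = 0
  · left; rw [hw0]; simp
  · have h8 := hmin w hw hw0
    by_cases hw1 : (fun _ => 1 : ι → ZMod 2) - w = 0
    · rw [hw1] at hwt; simp at hwt; omega
    · have h8' := hmin _ hw' hw1
      obtain ⟨a, ha⟩ := h4
      obtain ⟨b, hb⟩ := h4'
      omega

theorem card_octads (hι : Fintype.card ι = 24) (C : Submodule (ZMod 2) (ι → ZMod 2))
    (hdim : Module.finrank (ZMod 2) C = 12) (horth : ∀ v ∈ C, ∀ w ∈ C, ∑ i, v i * w i = 0)
    (hmin : ∀ w ∈ C, w ≠ 0 → 8 ≤ hammingNorm w) [DecidablePred (· ∈ C)] :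
    (Finset.univ.filter (fun w : ι → ZMod 2 => w ∈ C ∧ hammingNorm w = 8)).card = 759 := by
  classical
  set Bf : Finset (Finset ι) :=
    Finset.univ.filter (fun b => ∃ c ∈ C, hammingNorm c = 8 ∧ supp c = b) with hBf
  have hBfmem : ∀ b, b ∈ Bf ↔ ∃ c ∈ C, hammingNorm c = 8 ∧ supp c = b := by
    intro b; simp [hBf]
  have hk : ∀ b ∈ Bf, b.card = 8 := by
    intro b hb
    obtain ⟨c, -, h8, rfl⟩ := (hBfmem b).1 hb
    rw [← wt_eq]; exact h8
  have h5 : ∀ S : Finset ι, S.card = 5 → cnt Bf S = 1 := by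
    intro S hS
    obtain ⟨c, hc, h8, hSc⟩ := steiner_exists hι C hdim horth hmin S hS
    unfold cnt
    rw [Finset.card_eq_one]
    refine ⟨supp c, ?_⟩
    ext b
    simp only [Finset.mem_filter, Finset.mem_singleton, hBfmem]
    constructor
    · rintro ⟨⟨c', hc', h8', rfl⟩, hSb⟩
      have h5' : 5 ≤ (supp c' ∩ supp c).card := by
        rw [← hS]
        exact Finset.card_le_card (Finset.subset_inter hSb hSc)
      rw [octad_unique C hmin c' c hc' hc h8' h8 h5']
    · rintro rfl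
      exact ⟨⟨c, hc, h8, rfl⟩, hSc⟩
  obtain ⟨-, -, -, -, h0⟩ := cnt_values hι Bf hk h5
  have hcnt : cnt Bf (∅ : Finset ι) = Bf.card := by
    unfold cnt
    congr 1
    ext b
    simp
  rw [hcnt] at h0
  rw [← h0]
  apply Finset.card_bij (fun w _ => supp w)
  · intro w hw
    rw [Finset.mem_filter] at hw
    exact (hBfmem _).2 ⟨w, hw.2.1, hw.2.2, rfl⟩
  · intro w _ w' _ h
    exact supp_injective h
  · intro b hb
    obtain ⟨c, hc, h8, rfl⟩ := (hBfmem b).1 hb
    exact ⟨c, by rw [Finset.mem_filter]; exact ⟨Finset.mem_univ _, hc, h8⟩, rfl⟩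

end Cfsg.Agent.helper28.GolayGen
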