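import Cfsg.Agent.Lib_helper28_Octad
import Cfsg.Agent.Lib_helper2_Golay3
set_option autoImplicit false

/-! The concrete length-24 code `Cfsg.golayCode` satisfies the abstract hypotheses. -/

namespace Cfsg.Agent.helper28.Octad

theorem isGolay_golayCode : IsGolay Cfsg.golayCode where
  card := Cfsg.Agent.helper2.Golay.card_golayPt
  dim := Cfsg.Agent.helper2.Golay.finrank_golayCode
  orth := fun _ hv _ hw => Cfsg.Agent.helper2.Golay.dot_eq_zero hv hw
  min := fun _ hw hne => Cfsg.Agent.helper2.Golay.min_weight hw hne

end Cfsg.Agent.helper28.Octad
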