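import Cfsg.Agent.Lib_helper28_S24
import Cfsg.Agent.Lib_helper28_GolayInst
set_option autoImplicit false

/-! Uniqueness of the extended binary Golay code, from the uniqueness of S(5,8,24). -/

namespace Cfsg.Agent.helper28.GolayUnique

open Finset Cfsg.Agent.helper28.Golay Cfsg.Agent.helper28.GolayGen Cfsg.Agent.helper28.Octad

variable {ι κ : Type*} [Fintype ι] [DecidableEq ι] [Fintype κ] [DecidableEq κ]

lemma code_le (e : ι ≃ κ) (C : Submodule (ZMod 2) (ι → ZMod 2))
    (C' : Submodule (ZMod 2) (κ → ZMod 2))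
    (hspan : Submodule.span (ZMod 2) {w : κ → ZMod 2 | w ∈ C' ∧ hammingNorm w = 8} = C')
    (hB : (fun b => b.image e) '' Cfsg.wordsOfWeight (C : Set (ι → ZMod 2)) 8 =
      Cfsg.wordsOfWeight (C' : Set (κ → ZMod 2)) 8) :
    ∀ w ∈ C', (fun i => w (e i)) ∈ C := by
  intro w hw
  rw [← hspan] at hw
  induction hw using Submodule.span_induction with
  | mem w hw =>
    obtain ⟨hwC, hw8⟩ := hw
    have hmem : supp w ∈ Cfsg.wordsOfWeight (C' : Set (κ → ZMod 2)) 8 :=
      ⟨⟨w, hwC, rfl⟩, by rw [← wt_eq]; exact hw8⟩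
    rw [← hB] at hmem
    obtain ⟨b, ⟨⟨c, hc, rfl⟩, -⟩, hbe⟩ := hmem
    have hbe' : (supp c).image e = supp w := hbe
    have : (fun i => w (e i)) = c := by
      funext i
      have h1 : w (e i) = 1 ↔ c i = 1 := by
        rw [← mem_supp, ← mem_supp, ← hbe', Finset.mem_image]
        constructor
        · rintro ⟨j, hj, hji⟩
          rw [← e.injective hji]; exact hj
        · intro hi; exact ⟨i, hi, rfl⟩
      rcases z2_cases (w (e i)) with h0 | h0 <;> rcases z2_cases (c i) with h0' | h0'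
      · rw [h0, h0']
      · exact absurd (h1.2 h0') (by rw [h0]; decide)
      · exact absurd (h1.1 h0) (by rw [h0']; decide)
      · rw [h0, h0']
    rw [this]; exact hc
  | zero => exact C.zero_mem
  | add x y _ _ hx hy => exact C.add_mem hx hy
  | smul a x _ hx => exact C.smul_mem a hx

theorem golay_unique (C : Submodule (ZMod 2) (Fin 24 → ZMod 2))
    (hdim : Module.finrank (ZMod 2) C = 12)
    (horth : ∀ v ∈ C, ∀ w ∈ C, ∑ i, v i * w i = 0) (h4 : ∀ w ∈ C, 4 ∣ hammingNorm w)
    (hno4 : ∀ w ∈ C, hammingNorm w ≠ 4) :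
    ∃ e : Fin 24 ≃ Cfsg.GolayPt, ∀ w : Cfsg.GolayPt → ZMod 2,
      w ∈ Cfsg.golayCode ↔ (fun i => w (e i)) ∈ C := by
  have hι : Fintype.card (Fin 24) = 24 := Fintype.card_fin 24
  have hmin : ∀ w ∈ C, w ≠ 0 → 8 ≤ hammingNorm w := by
    intro w hw hne
    have h1 := h4 w hw
    have h2 := hno4 w hw
    have h3 : hammingNorm w ≠ 0 := fun hh => hne (hammingNorm_eq_zero.1 hh)
    obtain ⟨k, hk⟩ := h1
    omega
  have hG := isGolay_golayCode
  have hS := steiner hι C hdim horth hmin
  have hS' := steiner hG.card Cfsg.golayCode hG.dim hG.orth hG.min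
  obtain ⟨e, he⟩ := Cfsg.Agent.helper28.S24.unique24 hι hG.card hS hS'
  have hsp := span_octads hι C hdim horth hmin
  have hsp' := span_octads hG.card Cfsg.golayCode hG.dim hG.orth hG.min
  have he' : (fun b => b.image e.symm) ''
      Cfsg.wordsOfWeight (Cfsg.golayCode : Set (Cfsg.GolayPt → ZMod 2)) 8 =
      Cfsg.wordsOfWeight (C : Set (Fin 24 → ZMod 2)) 8 := by
    rw [← he, Set.image_image]
    have : (fun x : Finset (Fin 24) => (x.image e).image e.symm) = id := by
      funext x
      rw [Finset.image_image]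
      simp
    rw [this, Set.image_id]
  refine ⟨e, fun w => ⟨fun hw => code_le e C Cfsg.golayCode hsp' he w hw, fun hw => ?_⟩⟩
  have := code_le e.symm Cfsg.golayCode C hsp he' _ hw
  simpa using this

end Cfsg.Agent.helper28.GolayUnique
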